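import Groth.Statements.S0247
import Groth.Agent.Lib.FEt21.PunctSections
import Groth.Agent.Lib.Purity.Main
import Groth.Agent.Lib.RegUFD.Basic
import Groth.Agent.Lib.CMFree.Regular

set_option autoImplicit false
universe u
open Pi1

namespace Groth.Agent.S0247

open AlgebraicGeometry CategoryTheory CategoryTheory.Limits in
/-- For a regular local ring A of Krull dimension at least 2, every finite etale cover of the punctured
spectrum of A extends to a finite etale cover of Spec A. -/
theorem result (A : Type u) [CommRing A] [IsRegularLocalRing A] (h : (2 : WithBot ℕ∞) ≤ ringKrullDim A) :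
    FEt.PurityHolds A := by
  haveI := GrothLib.CMFree.isDomain_of_isRegularLocalRing A
  haveI := GrothLib.RegUFD.ufd_of_isRegularLocalRing A
  haveI : IsIntegrallyClosed A := UniqueFactorizationMonoid.instIsIntegrallyClosed
  obtain ⟨d, y, hy⟩ : ∃ (d : ℕ) (y : Fin d → A), Ideal.span (Set.range y) = IsLocalRing.maximalIdeal A :=
    Submodule.fg_iff_exists_fin_generating_family.mp (IsNoetherian.noetherian (IsLocalRing.maximalIdeal A))
  have hy' : IsLocalRing.maximalIdeal A ≤ (Ideal.span (Set.range y)).radical := hy.ge.trans Ideal.le_radical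
  refine ⟨fun V => ?_⟩
  letI := (GrothLib.FEt21.secHom V).toAlgebra
  have hp := GrothLib.FEt21.punct_sections h hy' (fun i => hy.le (Ideal.subset_span ⟨i, rfl⟩)) V
  exact GrothLib.FEt21.extends_of_etale (GrothLib.FEt21.two_le_depth_of_normal A h) V hp.finite
    (GrothLib.Purity.etale_of_punct h hy' hp)

end Groth.Agent.S0247
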