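import Groth.Statements.S0079
-- import your own Groth.Agent.* helpers here

set_option autoImplicit false
open CategoryTheory CategoryTheory.Limits AlgebraicGeometry Opposite
universe u
open EtBase

namespace Groth.Agent.S0079

/-- Quasi-compactness of a morphism descends along a quasi-compact flat surjective base change: if the
base change of a morphism g along a quasi-compact, flat, surjective morphism to its target is
quasi-compact, then g is quasi-compact. (Stated for a single quasi-compact faithfully flat cover;
combined with Zariski-locality on the target this gives the fpqc-local form.) -/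
theorem result :
    MorphismProperty.DescendsAlong @QuasiCompact (@Surjective ⊓ @Flat ⊓ @QuasiCompact : MorphismProperty Scheme.{u}) := by
  apply MorphismProperty.DescendsAlong.mk'
  intro X Y Z f g _ hf h
  obtain ⟨⟨hs, _⟩, hq⟩ := hf
  haveI : Surjective f := hs
  haveI : QuasiCompact f := hq
  haveI : QuasiCompact (pullback.fst f g) := h
  refine ⟨fun U hU hUc => ?_⟩
  have h1 : IsCompact ((pullback.fst f g) ⁻¹' (f ⁻¹' U)) :=
    QuasiCompact.isCompact_preimage _ (hU.preimage f.continuous)
      (QuasiCompact.isCompact_preimage _ hU hUc)
  have h2 := h1.image (pullback.snd f g).continuous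
  have hsurj : Function.Surjective (pullback.snd f g) := Scheme.Hom.surjective _
  rw [← Set.preimage_comp, ← TopCat.coe_comp, ← Scheme.Hom.comp_base, pullback.condition,
    Scheme.Hom.comp_base, TopCat.coe_comp, Set.preimage_comp, hsurj.image_preimage] at h2
  exact h2

end Groth.Agent.S0079
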