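import Groth.Statements.S0251
import Groth.Agent.PurityLef21.PowerSeries

set_option autoImplicit false
universe u
open Pi1

namespace Groth.Agent.S0251

open AlgebraicGeometry CategoryTheory CategoryTheory.Limits in
theorem purityHolds_of_ringEquiv {R S : Type u} [CommRing R] [CommRing S] [IsLocalRing R] [IsLocalRing S]
    (e : R ≃+* S) (h : FEt.PurityHolds S) : FEt.PurityHolds R := by
  refine ⟨fun V => ?_⟩
  let U := FEt.puncturedSpec R
  let φ : Spec (CommRingCat.of R) ⟶ Spec (CommRingCat.of S) :=
    Spec.map (CommRingCat.ofHom e.symm.toRingHom)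
  haveI : IsIso (CommRingCat.ofHom e.symm.toRingHom) :=
    (ConcreteCategory.isIso_iff_bijective _).2 e.symm.bijective
  haveI : IsIso φ := inferInstance
  haveI : IsLocalHom e.symm.toRingHom := IsLocalHom.of_surjective _ e.symm.surjective
  have hc : φ (IsLocalRing.closedPoint R) = IsLocalRing.closedPoint S :=
    IsLocalRing.comap_closedPoint e.symm.toRingHom
  have hj : (U.ι ≫ φ).opensRange = FEt.puncturedSpec S := by
    refine TopologicalSpace.Opens.ext ?_
    show Set.range (U.ι ≫ φ) = _
    rw [Scheme.Hom.comp_base, TopCat.coe_comp, Set.range_comp, Scheme.Opens.range_ι]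
    have hb : Function.Bijective φ := φ.homeomorph.bijective
    show φ '' {IsLocalRing.closedPoint R}ᶜ = _
    refine Set.ext fun x => ⟨?_, fun hx => ?_⟩
    · rintro ⟨y, hy, rfl⟩ h
      exact hy (hb.1 ((show φ y = IsLocalRing.closedPoint S from h).trans hc.symm))
    · obtain ⟨y, rfl⟩ := hb.2 x
      exact ⟨y, fun h => hx ((congrArg φ h).trans hc), rfl⟩
  obtain ⟨Y, ⟨eY⟩⟩ := Groth.Agent.PurityLef21.exists_extension_of_purityHolds (U.ι ≫ φ) hj h V
  exact ⟨(FEt.restrict φ).obj Y, ⟨(GrothLib.FEt21.restrictCompIso U.ι φ _ rfl Y).symm ≪≫ eY⟩⟩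

open AlgebraicGeometry CategoryTheory CategoryTheory.Limits in
/-- If A is a Noetherian local ring of depth at least 2 and d is at least 1, then purity holds for the
local ring of formal power series in d variables over A. -/
theorem result (A : Type u) [CommRing A] [IsNoetherianRing A] [IsLocalRing A] (hA : (2 : ℕ∞) ≤ LocCoh.depth A A)
    (d : ℕ) (hd : 1 ≤ d) : FEt.PurityHolds (MvPowerSeries (Fin d) A) := by
  obtain ⟨n, rfl⟩ : ∃ n, d = n + 1 := ⟨d - 1, by omega⟩
  exact purityHolds_of_ringEquiv (MvPowerSeries.finSuccEquiv A n).toRingEquiv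
    (Groth.Agent.PurityLef21.purityHolds_powerSeries _
      (Groth.Agent.PurityLef21.two_le_depth_mvPowerSeries A (Fin n) hA))

end Groth.Agent.S0251
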