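import Groth.Statements.S0262
import Groth.Agent.GlueCompl21.Scheme
import Groth.Agent.Lib.FEt21.RegularExtend

set_option autoImplicit false
set_option backward.isDefEq.respectTransparency false
universe u
open Pi1

namespace Groth.Agent.S0262

open AlgebraicGeometry CategoryTheory CategoryTheory.Limits in
/-- Let A be a Noetherian local ring with completion A^, U the punctured spectrum of A and U' its base
change to Spec A^. A finite etale cover V of U is the restriction of a finite etale cover of Spec A
if and only if the base change of V to U' is the restriction of a finite etale cover of Spec A^. -/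
theorem result (A : Type u) [CommRing A] [IsNoetherianRing A] [IsLocalRing A]
    (V : FEt.Cat (FEt.puncturedSpec A : Scheme.{u})) :
    (∃ Y : FEt.Cat (Spec (CommRingCat.of A)),
      Nonempty ((FEt.restrict (FEt.puncturedSpec A).ι).obj Y ≅ V)) ↔
    (∃ Y' : FEt.Cat (Spec (CommRingCat.of (AdicCompletion (IsLocalRing.maximalIdeal A) A))),
      Nonempty ((FEt.restrict (pullback.snd (FEt.puncturedSpec A).ι
        (Spec.map (CommRingCat.ofHom
          (algebraMap A (AdicCompletion (IsLocalRing.maximalIdeal A) A)))))).obj Y' ≅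
        (FEt.restrict (pullback.fst (FEt.puncturedSpec A).ι
        (Spec.map (CommRingCat.ofHom
          (algebraMap A (AdicCompletion (IsLocalRing.maximalIdeal A) A)))))).obj V)) := by
  let f := Spec.map (CommRingCat.ofHom (algebraMap A (AdicCompletion (IsLocalRing.maximalIdeal A) A)))
  let ι := (FEt.puncturedSpec A).ι
  constructor
  · rintro ⟨Y, ⟨θ⟩⟩
    exact ⟨(FEt.restrict f).obj Y, ⟨(GrothLib.FEt21.restrictCompIso (pullback.snd ι f) f _ rfl Y).symm ≪≫
      GrothLib.FEt21.restrictCompIso (pullback.fst ι f) ι _ pullback.condition Y ≪≫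
      (FEt.restrict (pullback.fst ι f)).mapIso θ⟩⟩
  · rintro ⟨Y', ⟨θ⟩⟩
    haveI : IsFinite V.toComma.hom := V.prop.1
    haveI : IsFinite Y'.toComma.hom := Y'.prop.1
    obtain ⟨Y, hf, ⟨e₁⟩, ⟨e₂⟩⟩ := GlueCompl21.exists_glue A V.toComma Y'.toComma
      ((MorphismProperty.Over.forget _ ⊤ _).mapIso θ.symm)
    haveI := hf
    haveI : Etale (pullback.snd Y.hom f) := by
      haveI : Etale Y'.toComma.hom := Y'.prop.2
      haveI : IsIso e₂.hom.left := ((Over.forget _).mapIso e₂).isIso_hom
      have hw : e₂.hom.left ≫ Y'.toComma.hom = pullback.snd Y.hom f := Over.w e₂.hom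
      rw [← hw]
      infer_instance
    haveI : Module.Flat A (AdicCompletion (IsLocalRing.maximalIdeal A) A) := AdicCompletion.flat_of_isNoetherian _
    haveI : Module.FaithfullyFlat A (AdicCompletion (IsLocalRing.maximalIdeal A) A) :=
      Module.FaithfullyFlat.of_flat_of_isLocalHom
    haveI : Flat f := by
      rw [HasRingHomProperty.Spec_iff (P := @Flat)]
      exact RingHom.flat_algebraMap_iff.2 inferInstance
    haveI : Surjective f := ⟨PrimeSpectrum.comap_surjective_of_faithfullyFlat⟩
    have hQ : (@Surjective ⊓ @Flat ⊓ @QuasiCompact : MorphismProperty Scheme.{u}) f := ⟨⟨‹_›, ‹_›⟩, inferInstance⟩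
    haveI : Etale Y.hom := MorphismProperty.of_pullback_snd_of_descendsAlong (P := @Etale)
      (Q := @Surjective ⊓ @Flat ⊓ @QuasiCompact) hQ (inferInstanceAs (Etale (pullback.snd Y.hom f)))
    let Yc : FEt.Cat (Spec (CommRingCat.of A)) := MorphismProperty.Over.mk ⊤ Y.hom (GrothLib.FEt21.prop_of _)
    exact ⟨Yc, ⟨MorphismProperty.Over.isoMk (A := (FEt.restrict ι).obj Yc) (B := V)
      ((Over.forget _).mapIso e₁) (Over.w e₁.hom)⟩⟩

end Groth.Agent.S0262
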