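import Groth.Statements.S6266
import Groth.Agent.Lib.LocalFP.Basic
import Mathlib.RingTheory.Spectrum.Prime.FreeLocus
import Mathlib.RingTheory.LocalRing.Module
import Mathlib.RingTheory.LocalProperties.Projective
import Mathlib.LinearAlgebra.Dimension.OrzechProperty

set_option autoImplicit false
universe u
open scoped TensorProduct
open CAlg

namespace Groth.Agent.S6266

open TensorProduct in
theorem exists_free_away {R : Type u} [CommRing R] [IsReduced R] (M : Type u) [AddCommGroup M]
    [Module R M] [Module.Finite R M] (hlc : IsLocallyConstant (fun p : PrimeSpectrum R =>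
      Module.finrank p.asIdeal.ResidueField (p.asIdeal.ResidueField ⊗[R] M)))
    (p : PrimeSpectrum R) : ∃ g : R, g ∉ p.asIdeal ∧
        Module.Finite (Localization.Away g) (LocalizedModule.Away g M) ∧
        Module.Free (Localization.Away g) (LocalizedModule.Away g M) := by
  classical
  let K := p.asIdeal.ResidueField
  -- a basis of the fibre lifted to `M`
  obtain ⟨r, hr⟩ : ∃ r, Module.finrank K (K ⊗[R] M) = r := ⟨_, rfl⟩
  have hsp : Submodule.span K (Set.range fun m : M => (1 : K) ⊗ₜ[R] m) = ⊤ := by
    rw [eq_top_iff]
    intro z hz0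
    clear hz0
    induction z using TensorProduct.induction_on with
    | zero => exact zero_mem _
    | add a b ha hb => exact add_mem ha hb
    | tmul c x =>
      rw [show c ⊗ₜ[R] x = c • ((1 : K) ⊗ₜ[R] x) by
        rw [TensorProduct.smul_tmul', smul_eq_mul, mul_one]]
      exact Submodule.smul_mem _ _ (Submodule.subset_span ⟨x, rfl⟩)
  obtain ⟨t, hts, htli⟩ := exists_linearIndependent K (Set.range fun m : M => (1 : K) ⊗ₜ[R] m)
  obtain ⟨hsp', hli⟩ := htli
  rw [hsp] at hsp'
  let b := Module.Basis.mk hli (by rw [Subtype.range_coe, hsp'])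
  haveI : Finite t := Module.Finite.finite_basis b
  haveI : Fintype t := Fintype.ofFinite t
  have hcard : Fintype.card t = r := by rw [← hr, Module.finrank_eq_card_basis b]
  choose m hm using fun z : t => hts z.2
  let φ : (t → R) →ₗ[R] M := Fintype.linearCombination R m
  let C := M ⧸ LinearMap.range φ
  have hC : p ∉ Module.support R C := by
    rw [Module.mem_support_iff_nontrivial_residueField_tensorProduct, not_nontrivial_iff_subsingleton]
    refine subsingleton_of_forall_eq 0 fun z => ?_
    obtain ⟨z, rfl⟩ := LinearMap.lTensor_surjective K (LinearMap.range φ).mkQ_surjective z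
    have hz : z ∈ Submodule.span K (t : Set (K ⊗[R] M)) := hsp' ▸ Submodule.mem_top
    induction hz using Submodule.span_induction with
    | mem y hy =>
      rw [show y = (1 : K) ⊗ₜ[R] m ⟨y, hy⟩ from (hm ⟨y, hy⟩).symm, LinearMap.lTensor_tmul, Submodule.mkQ_apply,
        (Submodule.Quotient.mk_eq_zero _).2, TensorProduct.tmul_zero]
      exact ⟨Pi.single ⟨y, hy⟩ 1, by simp [φ, Fintype.linearCombination_apply_single]⟩
    | zero => exact map_zero _
    | add a c _ _ ha hc => rw [map_add, ha, hc, add_zero]
    | smul c y _ hy =>
      have : ((LinearMap.range φ).mkQ.lTensor K) (c • y) =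
          c • ((LinearMap.range φ).mkQ.lTensor K) y :=
        map_smul ((LinearMap.range φ).mkQ.baseChange K) c y
      rw [this, hy, smul_zero]
  rw [Module.support_eq_zeroLocus, PrimeSpectrum.mem_zeroLocus] at hC
  obtain ⟨g₁, hg₁, hg₁p⟩ := Set.not_subset.1 hC
  have hU : IsOpen {x : PrimeSpectrum R | Module.finrank x.asIdeal.ResidueField
      (x.asIdeal.ResidueField ⊗[R] M) = Module.finrank K (K ⊗[R] M)} := hlc.isOpen_fiber _
  obtain ⟨_, ⟨h₀, rfl⟩, hh₀p, hh₀⟩ :=
    PrimeSpectrum.isTopologicalBasis_basic_opens.exists_subset_of_mem_open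
      (show p ∈ {x : PrimeSpectrum R | Module.finrank x.asIdeal.ResidueField
        (x.asIdeal.ResidueField ⊗[R] M) = Module.finrank K (K ⊗[R] M)} from rfl) hU
  refine ⟨g₁ * h₀, fun h => (p.2.mem_or_mem h).elim hg₁p hh₀p, ?_⟩
  have hkill : ∀ x : M, (g₁ * h₀) • x ∈ LinearMap.range φ := by
    intro x
    rw [mul_comm, mul_smul]
    refine Submodule.smul_mem _ _ ?_
    rw [← Submodule.Quotient.mk_eq_zero, Submodule.Quotient.mk_smul]
    exact Module.mem_annihilator.1 hg₁ _
  have hker : ∀ a : t → R, φ a = 0 → (g₁ * h₀) • a = 0 := by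
    intro a ha
    funext i
    rw [Pi.smul_apply, smul_eq_mul]
    refine IsReduced.eq_zero _ (mem_nilradical.1 ?_)
    rw [nilradical_eq_sInf, Ideal.mem_sInf]
    intro Q hQ
    haveI : Q.IsPrime := hQ
    by_contra hn
    have hgQ : g₁ * h₀ ∉ Q := fun h => hn (Q.mul_mem_right _ h)
    have hai : a i ∉ Q := fun h => hn (Q.mul_mem_left _ h)
    -- the lifts span the fibre at `Q`, which has the same dimension
    let L := Q.ResidueField
    have hrQ : Module.finrank L (L ⊗[R] M) = r := by
      have := hh₀ (show (⟨Q, hQ⟩ : PrimeSpectrum R) ∈ (PrimeSpectrum.basicOpen h₀ : Set _) from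
        fun h => hgQ (Q.mul_mem_left g₁ h))
      exact this.trans hr
    have hspan : ⊤ ≤ Submodule.span L (Set.range fun i => (1 : L) ⊗ₜ[R] m i) := by
      intro z _
      induction z using TensorProduct.induction_on with
      | zero => exact zero_mem _
      | add u v hu hv => exact add_mem (hu trivial) (hv trivial)
      | tmul c x =>
        obtain ⟨w, hw⟩ := hkill x
        have hgu : IsUnit (algebraMap R L (g₁ * h₀)) := by
          rw [isUnit_iff_ne_zero, Ne, ← RingHom.mem_ker, Ideal.ker_algebraMap_residueField]
          exact hgQ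
        have h1 : algebraMap R L (g₁ * h₀) • (c ⊗ₜ[R] x) ∈
            Submodule.span L (Set.range fun i => (1 : L) ⊗ₜ[R] m i) := by
          rw [algebraMap_smul, ← TensorProduct.tmul_smul, ← hw,
            Fintype.linearCombination_apply, TensorProduct.tmul_sum]
          refine Submodule.sum_mem _ fun j _ => ?_
          rw [show c ⊗ₜ[R] (w j • m j) = ((algebraMap R L (w j)) * c) • ((1 : L) ⊗ₜ[R] m j) by
            rw [TensorProduct.tmul_smul, TensorProduct.smul_tmul', TensorProduct.smul_tmul',
              smul_eq_mul, mul_one, Algebra.smul_def]]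
          exact Submodule.smul_mem _ _ (Submodule.subset_span ⟨j, rfl⟩)
        have h2 := Submodule.smul_mem _ ((hgu.unit⁻¹ : Lˣ) : L) h1
        rwa [smul_smul, IsUnit.val_inv_mul, one_smul] at h2
    have hindep : LinearIndependent L (fun i => (1 : L) ⊗ₜ[R] m i) := by
      rw [linearIndependent_iff_card_eq_finrank_span, Set.finrank, top_le_iff.1 hspan, finrank_top,
        hrQ, hcard]
    have hsum : ∑ j, algebraMap R L (a j) • ((1 : L) ⊗ₜ[R] m j) = 0 := by
      simp only [algebraMap_smul, ← TensorProduct.tmul_smul, ← TensorProduct.tmul_sum]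
      rw [← Fintype.linearCombination_apply, ha, TensorProduct.tmul_zero]
    have := (Fintype.linearIndependent_iff.1 hindep) _ hsum i
    rw [← RingHom.mem_ker, Ideal.ker_algebraMap_residueField] at this
    exact hai this
  let S := Submonoid.powers (g₁ * h₀)
  have hbij : Function.Bijective (LocalizedModule.map S φ) := by
    constructor
    · rw [injective_iff_map_eq_zero]
      intro x hx
      induction x using LocalizedModule.induction_on with
      | _ y u =>
        rw [LocalizedModule.map_mk, ← LocalizedModule.zero_mk 1, LocalizedModule.mk_eq] at hx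
        obtain ⟨v, hv⟩ := hx
        simp only [one_smul, smul_zero, Submonoid.smul_def, ← map_smul] at hv
        have h1 := hker _ hv
        rw [← LocalizedModule.zero_mk 1, LocalizedModule.mk_eq]
        refine ⟨⟨g₁ * h₀, 1, pow_one _⟩ * v, ?_⟩
        simp only [one_smul, smul_zero, Submonoid.smul_def, Submonoid.coe_mul]
        rw [mul_smul]
        exact h1
    · intro x
      induction x using LocalizedModule.induction_on with
      | _ y u =>
        obtain ⟨w, hw⟩ := hkill y
        refine ⟨LocalizedModule.mk w (⟨g₁ * h₀, 1, pow_one _⟩ * u), ?_⟩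
        rw [LocalizedModule.map_mk, hw, LocalizedModule.mk_eq]
        refine ⟨1, ?_⟩
        simp [Submonoid.smul_def, Submonoid.coe_mul, mul_smul, smul_comm (g₁ * h₀) (u : R)]
  let E := LinearEquiv.ofBijective (LocalizedModule.map S φ) hbij
  haveI : Module.Free (Localization S) (LocalizedModule S (t → R)) :=
    Module.free_of_isLocalizedModule S (LocalizedModule.mkLinearMap S (t → R))
  haveI : Module.Finite (Localization S) (LocalizedModule S (t → R)) :=
    Module.Finite.of_isLocalizedModule S (LocalizedModule.mkLinearMap S (t → R))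
  exact ⟨Module.Finite.equiv E, Module.Free.of_equiv E⟩

open TensorProduct


/-- Let R be a reduced ring and M an R-module. Then M is a finite projective R-module if and only if M
is finitely generated and the function on Spec R sending a prime p to the dimension of κ(p) ⊗ M over
the residue field κ(p) is locally constant for the Zariski topology. -/
theorem result (R : Type u) [CommRing R] [IsReduced R] (M : Type u) [AddCommGroup M] [Module R M] : (Module.Finite R M ∧ Module.Projective R M) ↔ (Module.Finite R M ∧ IsLocallyConstant (fun p : PrimeSpectrum R => Module.finrank p.asIdeal.ResidueField (p.asIdeal.ResidueField ⊗[R] M))) := by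
  constructor
  · rintro ⟨hfin, hproj⟩
    refine ⟨hfin, ?_⟩
    haveI : Module.FinitePresentation R M := Module.finitePresentation_of_projective R M
    have h : Module.rankAtStalk (R := R) M = fun p => Module.finrank p.asIdeal.ResidueField
        (p.asIdeal.ResidueField ⊗[R] M) := funext fun p => Module.rankAtStalk_eq p
    rw [← h]
    exact Module.isLocallyConstant_rankAtStalk
  · rintro ⟨hfin, hlc⟩
    have key : ∀ p : PrimeSpectrum R, ∃ g : R, g ∉ p.asIdeal ∧
        Module.Finite (Localization.Away g) (LocalizedModule.Away g M) ∧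
        Module.Free (Localization.Away g) (LocalizedModule.Away g M) := fun p =>
      exists_free_away M hlc p
    choose g hg hF using key
    refine GrothLib.LocalFP.finite_projective_of_localizationSpan_free M (Set.range g) ?_ ?_
    · by_contra hne
      obtain ⟨P, hP, hle⟩ := Ideal.exists_le_maximal _ hne
      exact hg ⟨P, hP.isPrime⟩ (hle (Ideal.subset_span ⟨_, rfl⟩))
    · rintro ⟨_, p, rfl⟩
      exact hF p

end Groth.Agent.S6266
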