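import Groth.Statements.S2945
import Groth.Agent.Lib.PunctSec7.Lef
import Groth.Agent.Lib.LefEt7.QuasiAffine
import Groth.Agent.Lib.LefAmp7.Open
import Groth.Agent.S2252

set_option autoImplicit false
universe u
open CategoryTheory CategoryTheory.Limits AlgebraicGeometry
open Lef

namespace Groth.Agent.S2945

/-- The condition on the punctured spectrum, described as a punctured open. -/
theorem key (A : Type u) [CommRing A] [IsLocalRing A] [IsNoetherianRing A] (t : A)
    (ht : t ∈ IsLocalRing.maximalIdeal A) [IsAdicComplete (Ideal.span {t}) A]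
    (hk : ∀ i, i < 3 → ∃ n : ℕ, ∀ x : LocCoh.H (IsLocalRing.maximalIdeal A) i A, t ^ n • x = 0)
    (hdepth : ∀ p : PrimeSpectrum A, ringKrullDim (A ⧸ p.asIdeal) = 1 → (2 : ℕ∞) ≤ LocCoh.depth (Localization.AtPrime p.asIdeal) (Localization.AtPrime p.asIdeal)) :
    Lef.LefCond (↑(LocCoh.puncturedOpen A (IsLocalRing.maximalIdeal A)) : Scheme.{u})
      ((GrothLib.PunctSec7.Kt t).comap (LocCoh.puncturedOpen A (IsLocalRing.maximalIdeal A)).ι) := by
  let W := LocCoh.puncturedOpen A (IsLocalRing.maximalIdeal A)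
  haveI : IsLocallyNoetherian (W : Scheme.{u}) := isLocallyNoetherian_of_isOpenImmersion W.ι
  haveI : CompactSpace (W : Scheme.{u}) := isCompact_iff_compactSpace.1 (TopologicalSpace.NoetherianSpace.isCompact _)
  haveI : IsNoetherian (W : Scheme.{u}) := {}
  haveI : (W : Scheme.{u}).IsQuasiAffine := Scheme.IsQuasiAffine.of_isImmersion W.ι
  have hO := GrothLib.PunctSec7.homBij_of_secBij _ (GrothLib.PunctSec7.secBij (IsLocalRing.maximalIdeal A) t
    (hk 1 (by norm_num)) (hk 2 (by norm_num)))
  intro V hV D hD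
  have hDc := GrothLib.Euler.isCoh_of_isFinLocFree hD
  haveI : Coh.IsQCoh D := hDc.1
  obtain ⟨D', hq, -, ⟨e⟩⟩ := Groth.Agent.S2252.result
    (fun x => ⟨⊤, trivial, inferInstance⟩) V D hDc.2
  haveI : D'.IsQuasicoherent := hq
  exact GrothLib.LefAmp7.homBij_open _ hV
    (GrothLib.FEt21.app_ι_bijective_of_depthTwo (GrothLib.PunctSec7.depthTwoOutside t ht hdepth hV)) e
    (GrothLib.LefEt7.homToFormalBijective_of_unit_of_quasiAffine _ hO D')

/-- Let A be a Noetherian local ring which is a quotient of a regular local ring, t an A-regular element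
of the maximal ideal such that A is complete for the t-adic topology, X the punctured spectrum of A
and Y = V(t) ∩ X. If A_p has depth ≥ 2 for every prime p with dim A/p = 1 (the closed points of X),
then Lef(X, Y) holds: for every open U ⊇ Y of X and every finite locally free O_U-module D, Hom(D,
O_U) → lim_n Hom(D, O_U/t^{n+1}O_U) is bijective. -/
theorem result (R : Type u) [CommRing R] [IsRegularLocalRing R] (A : Type u) [CommRing A] [IsLocalRing A] [IsNoetherianRing A] (π : R →+* A) (hπ : Function.Surjective π) (t : A) (ht : t ∈ IsLocalRing.maximalIdeal A) (hreg : IsSMulRegular A t) [IsAdicComplete (Ideal.span {t}) A] (hdepth : ∀ p : PrimeSpectrum A, ringKrullDim (A ⧸ p.asIdeal) = 1 → (2 : ℕ∞) ≤ LocCoh.depth (Localization.AtPrime p.asIdeal) (Localization.AtPrime p.asIdeal)) : Lef.LefCond (↑(FEt.puncturedSpec A) : Scheme.{u}) ((Spec.map (CommRingCat.ofHom (Ideal.Quotient.mk (Ideal.span {t})))).ker.comap (FEt.puncturedSpec A).ι) := by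
  rw [← GrothLib.SGA2Para.puncturedOpen_eq]
  exact key A t ht (GrothLib.PunctSec7.killed π hπ t ht hdepth) hdepth

end Groth.Agent.S2945
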