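import Groth.Statements.S5199
import Groth.Agent.Lib.GenT7.LeffThree
import Groth.Agent.S2945

set_option autoImplicit false
universe u
open CategoryTheory CategoryTheory.Limits AlgebraicGeometry
open LefX

namespace Groth.Agent.S5199

/-- The condition on formal bundles, on the punctured spectrum described as a punctured open. -/
theorem formal_bundles (A : Type u) [CommRing A] [IsLocalRing A] [IsNoetherianRing A] {R : Type u} [CommRing R]
    [IsRegularRing R] (π : R →+* A) (hπ : Function.Surjective π) (t : A) (hreg : IsSMulRegular A t)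
    [IsAdicComplete (Ideal.span {t}) A]
    (h3 : ∀ p : Ideal A, ∀ _ : p.IsPrime, t ∈ p → ringKrullDim (A ⧸ p) = 1 →
      (3 : ℕ∞) ≤ LocCoh.depth (Localization.AtPrime p) (Localization.AtPrime p))
    (𝔐 : FSch.ModSys (FSch.completionAlong (↑(LocCoh.puncturedOpen A (IsLocalRing.maximalIdeal A)) : Scheme.{u})
      (GrothLib.GenT7.tIdeal (IsLocalRing.maximalIdeal A) t)))
    (h𝔐 : LefX.LevelwiseFinLocFree 𝔐) :
    ∃ (U : (↑(LocCoh.puncturedOpen A (IsLocalRing.maximalIdeal A)) : Scheme.{u}).Opens) (E : (U : Scheme.{u}).Modules),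
      ((GrothLib.GenT7.tIdeal (IsLocalRing.maximalIdeal A) t).support : Set (↑(LocCoh.puncturedOpen A (IsLocalRing.maximalIdeal A)) : Scheme.{u})) ⊆ (U : Set (↑(LocCoh.puncturedOpen A (IsLocalRing.maximalIdeal A)) : Scheme.{u})) ∧
        FlatMod.IsFinLocFree E ∧
        Nonempty (FSch.completionMod (GrothLib.GenT7.tIdeal (IsLocalRing.maximalIdeal A) t)
          ((Scheme.Modules.pushforward U.ι).obj E) ≅ 𝔐) := by
  haveI : IsLocallyNoetherian (↑(LocCoh.puncturedOpen A (IsLocalRing.maximalIdeal A)) : Scheme.{u}) :=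
    isLocallyNoetherian_of_isOpenImmersion (LocCoh.puncturedOpen A (IsLocalRing.maximalIdeal A)).ι
  have hcoh : 𝔐.IsCoh := fun n => by
    haveI : IsLocallyNoetherian (GrothLib.FFormal7.lev (Ideal.span ({t} : Set A))
      (↑(LocCoh.puncturedOpen A (IsLocalRing.maximalIdeal A)) : Scheme.{u}) n) :=
      LocallyOfFiniteType.isLocallyNoetherian (GrothLib.FFormal7.levι (Ideal.span ({t} : Set A))
        (↑(LocCoh.puncturedOpen A (IsLocalRing.maximalIdeal A)) : Scheme.{u}) n)
    exact GrothLib.Euler.isCoh_of_isFinLocFree (h𝔐 n)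
  obtain ⟨F, hF, ⟨e⟩⟩ := GrothLib.GenT7.exists_algebraization (IsLocalRing.maximalIdeal A) t π hπ 𝔐 hcoh
    (fun N hN => GrothLib.GenT7.kernel_eq_image_level (IsLocalRing.maximalIdeal A) t hreg N hN _ (h𝔐 N))
    (fun y hy => by
      refine le_trans (GrothLib.GenT7.depth_level_zero_stalk (IsLocalRing.maximalIdeal A) t hreg y (h3 _ inferInstance ?_ ?_))
          (GrothLib.LocZ25.depth_ge_of_isFinLocFree (h𝔐 0) y)
      · by_contra hc
        obtain ⟨σ, hσ, hker, hσt⟩ := GrothLib.GenT7.exists_level_stalk (IsLocalRing.maximalIdeal A) t 0 y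
        obtain ⟨ψ, hψ⟩ := GrothLib.GenT7.exists_stalk_equiv (LocCoh.puncturedOpen A (IsLocalRing.maximalIdeal A))
          (GrothLib.FFormal7.levι (Ideal.span ({t} : Set A))
            (↑(LocCoh.puncturedOpen A (IsLocalRing.maximalIdeal A)) : Scheme.{u}) 0 y)
        have hu : IsUnit (GrothLib.FormalFun.toStalk A (GrothLib.FFormal7.levι (Ideal.span ({t} : Set A))
            (↑(LocCoh.puncturedOpen A (IsLocalRing.maximalIdeal A)) : Scheme.{u}) 0 y) t) := by
          have := (IsLocalization.map_units (Localization.AtPrime _) (⟨t, hc⟩ : Ideal.primeCompl _)).map ψ.symm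
          rwa [← hψ, RingEquiv.symm_apply_apply] at this
        refine not_isUnit_zero (M₀ := (GrothLib.FFormal7.lev (Ideal.span ({t} : Set A))
            (↑(LocCoh.puncturedOpen A (IsLocalRing.maximalIdeal A)) : Scheme.{u}) 0).presheaf.stalk y) ?_
        have h0 := RingHom.mem_ker.1 (hker.ge (Ideal.mem_span_singleton_self _))
        rw [← h0]
        exact (hu.pow (0 + 1)).map σ
      · exact GrothLib.GenT7.relCodim_closed t y hy)
  exact GrothLib.GenT7.exists_nhd_bundle _ 𝔐 h𝔐 hF e

/-- Let A be a Noetherian local ring which is a quotient of a regular local ring, t an A-regular element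
of the maximal ideal such that A is separated and complete for the (t)-adic topology, X the
punctured spectrum of A and Y = V(t) ∩ X, the closed subscheme of X defined by t. Assume that depth
A_p ≥ 2 for every prime ideal p with dim A/p = 1 (the closed points of X), and that depth A_p ≥ 3
for every such p containing t (the closed points of Y). Then the effective Lefschetz condition
Leff(X, Y) holds: for every open U ⊇ Y of X and every finite locally free O_U-module D, Hom(D, O_U)
→ lim_n Hom(D, O_U/t^(n+1)O_U) is bijective, and every levelwise finite locally free system of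
modules on the completion of X along Y is the completion of a finite locally free module on some
open neighbourhood of Y. -/
theorem result (A : Type u) [CommRing A] [IsLocalRing A] [IsNoetherianRing A] (hq : ∃ (B : Type u) (_ : CommRing B) (_ : IsRegularLocalRing B) (φ : B →+* A), Function.Surjective φ) (t : A) (ht : t ∈ IsLocalRing.maximalIdeal A) (hreg : IsSMulRegular A t) [IsAdicComplete (Ideal.span {t}) A] (h2 : ∀ p : Ideal A, ∀ _ : p.IsPrime, ringKrullDim (A ⧸ p) = 1 → (2 : ℕ∞) ≤ LocCoh.depth (Localization.AtPrime p) (Localization.AtPrime p)) (h3 : ∀ p : Ideal A, ∀ _ : p.IsPrime, t ∈ p → ringKrullDim (A ⧸ p) = 1 → (3 : ℕ∞) ≤ LocCoh.depth (Localization.AtPrime p) (Localization.AtPrime p)) : LefX.LeffCond (↑(FEt.puncturedSpec A) : Scheme.{u}) ((Spec.map (CommRingCat.ofHom (Ideal.Quotient.mk (Ideal.span {t})))).ker.comap (FEt.puncturedSpec A).ι) := by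
  obtain ⟨B, _, _, φ, hφ⟩ := hq
  haveI : IsRegularRing B := GrothLib.Serre.isRegularRing_of_isRegularLocalRing B
  refine ⟨Groth.Agent.S2945.result B A φ hφ t ht hreg fun p => h2 p.asIdeal p.isPrime, ?_⟩
  rw [← GrothLib.SGA2Para.puncturedOpen_eq]
  exact fun 𝔐 h𝔐 => formal_bundles A φ hφ t hreg h3 𝔐 h𝔐

end Groth.Agent.S5199
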