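import Groth.Statements.S4495
import Mathlib.Topology.Sheaves.SheafCondition.UniqueGluing
import Mathlib.Topology.Connected.Clopen

set_option autoImplicit false
universe u
open FlatCx

namespace Groth.Agent.S4495

open CategoryTheory AlgebraicGeometry Opposite in
/-- A locally ringed space Z is connected, in the sense that it is not the disjoint union of two
nonempty open subsets (the empty space being allowed), if and only if every idempotent of the ring
of global sections Γ(Z, O_Z) is 0 or 1 (equivalently, Γ(Z, O_Z) is not isomorphic to a product of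
two nonzero rings). -/
theorem result (Z : LocallyRingedSpace.{u}) :
    PreconnectedSpace Z ↔
      ∀ e : Z.presheaf.obj (op ⊤), IsIdempotentElem e → e = 0 ∨ e = 1 := by
  constructor
  · intro hc e he
    let X := Z.toRingedSpace
    have hz : ∀ x : Z, Z.presheaf.germ ⊤ x trivial e = 0 ∨ Z.presheaf.germ ⊤ x trivial e = 1 := by
      intro x
      have h1 := he.map (Z.presheaf.germ ⊤ x trivial).hom
      rcases IsLocalRing.isUnit_or_isUnit_one_sub_self (Z.presheaf.germ ⊤ x trivial e) with h | h
      · exact Or.inr (h.mul_left_cancel (h1.eq.trans (mul_one _).symm))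
      · refine Or.inl ?_
        have h2 := h1.one_sub_mul_self
        exact h.mul_left_cancel (h2.trans (mul_zero _).symm)
    have hU : ∀ x : Z, x ∈ X.basicOpen e ↔ Z.presheaf.germ ⊤ x trivial e = 1 := fun x => by
      rw [X.mem_basicOpen e x trivial]
      refine ⟨fun h => (hz x).resolve_left fun h0 => ?_, fun h => ?_⟩
      · have : (Z.presheaf.germ ⊤ x trivial e : Z.presheaf.stalk x) ≠ 0 := IsUnit.ne_zero h
        exact this h0
      · show IsUnit (Z.presheaf.germ ⊤ x trivial e)
        rw [h]; exact isUnit_one
    have hV : ∀ x : Z, x ∈ X.basicOpen (U := (⊤ : TopologicalSpace.Opens Z)) (1 - e) ↔ Z.presheaf.germ ⊤ x trivial e = 0 := fun x => by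
      rw [X.mem_basicOpen (U := (⊤ : TopologicalSpace.Opens Z)) (1 - e) x trivial]
      show IsUnit (Z.presheaf.germ ⊤ x trivial (1 - e)) ↔ _
      rw [map_sub, map_one]
      refine ⟨fun h => (hz x).resolve_right fun h1 => ?_, fun h => by rw [h, sub_zero]; exact isUnit_one⟩
      rw [h1, sub_self] at h
      exact not_isUnit_zero h
    let S : Set Z := {x | Z.presheaf.germ ⊤ x trivial e = 1}
    have hS : S = (X.basicOpen e).1 := Set.ext fun x => (hU x).symm
    have hS' : Sᶜ = (X.basicOpen (U := (⊤ : TopologicalSpace.Opens Z)) (1 - e)).1 :=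
      Set.ext fun x => by
        refine Iff.trans ?_ (hV x).symm
        refine ⟨fun h => (hz x).resolve_right h, fun h0 h1 => ?_⟩
        have : (1 : Z.presheaf.stalk x) = 0 := h1.symm.trans h0
        exact one_ne_zero this
    have hcl : IsClopen S :=
      ⟨⟨hS' ▸ (X.basicOpen (U := (⊤ : TopologicalSpace.Opens Z)) (1 - e)).2⟩,
        hS ▸ (X.basicOpen e).2⟩
    rcases (preconnectedSpace_iff_clopen.1 hc _ hcl) with h | h
    · left
      apply TopCat.Presheaf.section_ext Z.sheaf ⊤
      intro x hx
      refine Eq.trans ?_ (map_zero (Z.presheaf.germ ⊤ x trivial).hom).symm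
      exact (hz x).resolve_right fun h1 => (Set.eq_empty_iff_forall_notMem.1 h x) h1
    · right
      apply TopCat.Presheaf.section_ext Z.sheaf ⊤
      intro x hx
      refine Eq.trans ?_ (map_one (Z.presheaf.germ ⊤ x trivial).hom).symm
      exact Set.eq_univ_iff_forall.1 h x
  · intro h
    refine preconnectedSpace_iff_clopen.2 fun s hs => ?_
    let U : Bool → TopologicalSpace.Opens Z :=
      fun b => if b then ⟨s, hs.isOpen⟩ else ⟨sᶜ, hs.compl.isOpen⟩
    let sf : ∀ b, Z.presheaf.obj (op (U b)) := fun b => if b then 1 else 0
    have hcov : (⊤ : TopologicalSpace.Opens Z) ≤ iSup U := fun x _ => by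
      refine TopologicalSpace.Opens.mem_iSup.2 ?_
      by_cases hx : x ∈ s
      · exact ⟨true, hx⟩
      · exact ⟨false, hx⟩
    have hcomp : TopCat.Presheaf.IsCompatible Z.presheaf U sf := by
      intro i j
      apply TopCat.Presheaf.section_ext Z.sheaf
      intro x hx
      cases i <;> cases j
      · rfl
      · exact absurd hx.2 hx.1
      · exact absurd hx.1 hx.2
      · rfl
    obtain ⟨e, he, -⟩ :=
      TopCat.Sheaf.existsUnique_gluing' Z.sheaf U ⊤ (fun b => homOfLE le_top) hcov sf hcomp
    have hg : ∀ (b : Bool) (x : Z) (hx : x ∈ U b),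
        Z.presheaf.germ ⊤ x trivial e = if b then 1 else 0 := by
      intro b x hx
      have h1 : Z.presheaf.germ ⊤ x trivial e =
          Z.presheaf.germ (U b) x hx ((Z.presheaf.map (homOfLE le_top).op) e) :=
        (TopCat.Presheaf.germ_res_apply Z.presheaf (homOfLE le_top) x hx e).symm
      refine h1.trans ((congrArg _ (he b)).trans ?_)
      cases b
      · exact map_zero _
      · exact map_one _
    have hid : IsIdempotentElem e := by
      apply TopCat.Presheaf.section_ext Z.sheaf ⊤
      intro x hx
      rw [map_mul]
      by_cases hxs : x ∈ s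
      · have := hg true x hxs
        simp only [if_true] at this
        erw [this, mul_one]
      · have := hg false x hxs
        simp only [Bool.false_eq_true, if_false] at this
        erw [this, mul_zero]
        rfl
    rcases h e hid with rfl | rfl
    · left
      refine Set.eq_empty_iff_forall_notMem.2 fun x hx => ?_
      have := hg true x hx
      rw [map_zero, if_pos rfl] at this
      exact zero_ne_one this
    · right
      refine Set.eq_univ_iff_forall.2 fun x => ?_
      by_contra hx
      have := hg false x hx
      rw [map_one, if_neg Bool.false_ne_true] at this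
      exact one_ne_zero this

end Groth.Agent.S4495
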