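import Groth.Statements.S7392
import Groth.Agent.Lib.LocProj.Scheme
import Mathlib.AlgebraicGeometry.Modules.Tilde

set_option autoImplicit false
universe u
open CategoryTheory AlgebraicGeometry
open Opposite
open Mor

namespace Groth.Agent.S7392

/-- For a ring `A` and an `A`-module `M`, the module `M~` on `Spec A` is locally projective (projective
sections over every affine open) if and only if `M` is a projective `A`-module. -/
theorem result (A : CommRingCat.{u}) (M : ModuleCat.{u} A) :
    (∀ U : (Spec A).Opens, IsAffineOpen U →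
      Module.Projective ((Spec A).ringCatSheaf.obj.obj (op U)) ((tilde M).val.obj (op U))) ↔
      Module.Projective A M := by
  have : (tilde M).IsQuasicoherent := inferInstance
  let r : A ≃+* Γ(Spec A, ⊤) := (Scheme.ΓSpecIso A).symm.commRingCatIsoToRingEquiv
  let e := (tilde.isoTop M).toLinearEquiv
  let eM : M ≃+ Γ(tilde M, (⊤ : (Spec A).Opens)) := e.toAddEquiv
  have hsm : ∀ (a : A) (m : M), eM (a • m) = r a • eM m := fun a m => by
    refine (e.map_smul a m).trans ?_
    change (Spec A).presheaf.map (⊤ : (Spec A).Opens).leTop.op ((Scheme.ΓSpecIso A).inv a) • eM m = _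
    rw [show (⊤ : (Spec A).Opens).leTop.op = 𝟙 _ from rfl, CategoryTheory.Functor.map_id]
    rfl
  letI := RingHomInvPair.of_ringEquiv r
  letI := RingHomInvPair.symm (↑r : A →+* Γ(Spec A, ⊤)) ↑r.symm
  let l : M ≃ₛₗ[(↑r : A →+* Γ(Spec A, ⊤))] Γ(tilde M, (⊤ : (Spec A).Opens)) :=
    { eM with map_smul' := hsm }
  constructor
  · intro h
    have := h ⊤ (isAffineOpen_top _)
    have : Module.Projective Γ(Spec A, ⊤) Γ(tilde M, (⊤ : (Spec A).Opens)) := this
    exact Module.Projective.of_equiv l.symm
  · intro h U hU
    have : Module.Projective Γ(Spec A, ⊤) Γ(tilde M, (⊤ : (Spec A).Opens)) := Module.Projective.of_equiv l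
    exact GrothLib.LocProj.projective_sections (tilde M) (fun _ : PUnit.{u+1} => (⊤ : (Spec A).Opens))
      (by simp) (fun _ => isAffineOpen_top _) (fun _ => this) hU


end Groth.Agent.S7392
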