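import Groth.Statements.S1110
import Groth.Agent.Lib.ResProp22.Relative

set_option autoImplicit false
universe u
open CategoryTheory AlgebraicGeometry
open Perf

namespace Groth.Agent.S1110

/-- For an affine morphism f : X ⟶ Y over a quasi-compact, quasi-separated Y, the resolution property
passes from Y up to X. (The source also treats quasi-affine f.) -/
theorem result {X Y : Scheme.{u}} (f : X ⟶ Y) [IsAffineHom f] [CompactSpace ↥Y] [QuasiSeparatedSpace ↥Y]
    (hY : PerfAux.HasResolutionProperty Y) : PerfAux.HasResolutionProperty X := by
  exact GrothLib.ResProp22.hasResolutionProperty_of_isAffineHom hY f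

end Groth.Agent.S1110
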