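import Groth.Statements.S4788
import Groth.Agent.S0590
import Groth.Agent.Lib.ModDesc.Descend
import Groth.Agent.Lib.FittSheaf.PullbackFP

set_option backward.isDefEq.respectTransparency false

set_option autoImplicit false
universe u
open CategoryTheory AlgebraicGeometry
open Lim8

namespace Groth.Agent.S4788

/-- Let S = lim S_i be a cofiltered limit of schemes with affine transition maps, some stage S_{i₀}
being quasi-compact and quasi-separated. Then every quasi-coherent O_S-module of finite presentation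
F is isomorphic to the pullback along S ⟶ S_i of a quasi-coherent O_{S_i}-module of finite
presentation, for some index i over i₀ (only the existence of an isomorphism is asserted, as in the
published statement). -/
theorem result {I : Type u} [SmallCategory I] [IsCofiltered I]
    (D : I ⥤ Scheme.{u}) (c : Limits.Cone D) (hc : Limits.IsLimit c)
    [∀ (i j : I) (f : i ⟶ j), IsAffineHom (D.map f)] (i₀ : I)
    [CompactSpace (D.obj i₀)] [QuasiSeparatedSpace (D.obj i₀)] (F : c.pt.Modules)
    [Coh.IsQCoh F] (hFfp : CohB1.IsFP F) :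
    ∃ (i : I) (_ : i ⟶ i₀) (Fi : (D.obj i).Modules), Coh.IsQCoh Fi ∧ CohB1.IsFP Fi ∧
      Nonempty ((Scheme.Modules.pullback (c.π.app i)).obj Fi ≅ F) := by
  haveI : F.IsQuasicoherent := ‹Coh.IsQCoh F›
  haveI : ∀ {i j : I} (f : i ⟶ j), IsAffineHom (D.map f) := fun {i j} f => ‹∀ (i j : I) (f : i ⟶ j), IsAffineHom (D.map f)› i j f
  haveI : IsAffineHom (c.π.app i₀) := isAffineHom_π_app D c hc i₀
  haveI : CompactSpace c.pt := QuasiCompact.compactSpace_of_compactSpace (c.π.app i₀)
  haveI : QuasiSeparatedSpace c.pt := quasiSeparatedSpace_of_quasiSeparated (c.π.app i₀)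
  obtain ⟨J, hJp, hJd, hJn, E, d, hd, hEaff, hEft, ⟨e⟩⟩ := Groth.Agent.S0590.result c.pt
  haveI : ∀ (i j : Jᵒᵖ) (f : i ⟶ j), IsAffineHom (E.map f) := hEaff
  haveI hNoeZ : IsNoetherianRing (CommRingCat.of (ULift.{u} ℤ)) :=
    isNoetherianRing_of_ringEquiv ℤ (ULift.ringEquiv (R := ℤ)).symm
  haveI : ∀ j, CompactSpace (E.obj j) := fun j => (hEft j).1
  haveI : ∀ j, IsLocallyNoetherian (E.obj j) := fun j => by
    haveI := (hEft j).2
    exact LocallyOfFiniteType.isLocallyNoetherian (Limits.IsTerminal.from specULiftZIsTerminal (E.obj j))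
  haveI hF'q : ((Scheme.Modules.pullback e.hom).obj F).IsQuasicoherent :=
    GrothLib.FittSheaf.isQuasicoherent_pullback e.hom F
  obtain ⟨j, -, G, hG, ⟨α⟩⟩ := GrothLib.ModDesc.exists_descend E d hd (Classical.arbitrary Jᵒᵖ)
    ((Scheme.Modules.pullback e.hom).obj F) (GrothLib.FittSheaf.isFP_pullback e.hom F hFfp)
  haveI : G.IsQuasicoherent := hG.1
  let a : c.pt ⟶ E.obj j := e.inv ≫ d.π.app j
  let D' : Over i₀ ⥤ Scheme.{u} := Over.forget i₀ ⋙ D
  have hc' : Limits.IsLimit (c.whisker (Over.forget i₀)) :=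
    (Functor.Initial.isLimitWhiskerEquiv (Over.forget i₀) c).symm hc
  haveI : ∀ {k l : Over i₀} (f : k ⟶ l), IsAffineHom (D'.map f) := fun f =>
    ‹∀ (i j : I) (f : i ⟶ j), IsAffineHom (D.map f)› _ _ f.left
  haveI : ∀ k : Over i₀, CompactSpace (D'.obj k) := fun k =>
    haveI : IsAffineHom (D.map k.hom) := ‹∀ (i j : I) (f : i ⟶ j), IsAffineHom (D.map f)› _ _ k.hom
    QuasiCompact.compactSpace_of_compactSpace (D.map k.hom)
  haveI : ∀ k : Over i₀, QuasiSeparatedSpace (D'.obj k) := fun k =>
    haveI : IsAffineHom (D.map k.hom) := ‹∀ (i j : I) (f : i ⟶ j), IsAffineHom (D.map f)› _ _ k.hom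
    quasiSeparatedSpace_of_quasiSeparated (D.map k.hom)
  let t : D' ⟶ (Functor.const (Over i₀)).obj (Spec (CommRingCat.of (ULift.{u} ℤ))) :=
    { app := fun k => Limits.IsTerminal.from specULiftZIsTerminal (D'.obj k)
      naturality := fun _ _ _ => specULiftZIsTerminal.hom_ext _ _ }
  haveI := (hEft j).2
  haveI : LocallyOfFinitePresentation (Limits.IsTerminal.from specULiftZIsTerminal (E.obj j)) :=
    LocallyOfFinitePresentation.iff_locallyOfFiniteType.2 inferInstance
  obtain ⟨k, g, hg, -⟩ := Scheme.exists_π_app_comp_eq_of_locallyOfFinitePresentation D' t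
    (Limits.IsTerminal.from specULiftZIsTerminal (E.obj j)) (c.whisker (Over.forget i₀)) hc' a
    (by ext k : 2; exact specULiftZIsTerminal.hom_ext _ _)
  have hGfp : CohB1.IsFP G := by
    refine GrothLib.FlatFP.isFP_of_sections G (fun U : (E.obj j).affineOpens => U.1) ?_ (fun U => U.2) fun U => ?_
    · exact TopologicalSpace.IsOpenCover.mk (iSup_affineOpens_eq_top (E.obj j))
    · haveI : IsNoetherianRing Γ(E.obj j, U.1) := IsLocallyNoetherian.component_noetherian U
      haveI := GrothLib.QCoh.moduleFinite_of_isFiniteType G hG.2 U.2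
      exact Module.finitePresentation_of_finite _ _
  refine ⟨k.left, k.hom, (Scheme.Modules.pullback g).obj G,
    GrothLib.FittSheaf.isQuasicoherent_pullback g G, GrothLib.FittSheaf.isFP_pullback g G hGfp, ⟨?_⟩⟩
  refine (Scheme.Modules.pullbackComp _ g).app G ≪≫ (Scheme.Modules.pullbackCongr hg).app G ≪≫
    ((Scheme.Modules.pullbackComp e.inv (d.π.app j)).app G).symm ≪≫
    (Scheme.Modules.pullback e.inv).mapIso α ≪≫
    (Scheme.Modules.pullbackComp e.inv e.hom).app F ≪≫
    (Scheme.Modules.pullbackCongr e.inv_hom_id).app F ≪≫ (Scheme.Modules.pullbackId c.pt).app F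

end Groth.Agent.S4788
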