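import Groth.Statements.S0037
import Groth.Agent.Lib.Cohom.RpushSections
import Mathlib.AlgebraicGeometry.ZariskisMainTheorem

set_option autoImplicit false
universe u
open Coherent

namespace Groth.Agent.S0037

open AlgebraicGeometry CategoryTheory in
/-- Let Y be locally Noetherian, f : X → Y proper and y a point whose fibre f⁻¹{y} is finite. Then for
every coherent F on X and every p > 0 the stalk of R^p f_* F at y vanishes. -/
theorem result {X Y : Scheme.{u}} (f : X ⟶ Y) [IsProper f]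
    [IsLocallyNoetherian Y] (y : Y) (hy : (f.base ⁻¹' {y}).Finite) (M : X.Modules) (hM : Coh.IsCoh M)
    (p : ℕ) (hp : 0 < p) :
    Limits.IsZero (TopCat.Presheaf.stalk ((Coh.RpushAb f p).obj (Coh.toAb M)).obj y) := by
  obtain ⟨q, rfl⟩ : ∃ q, p = q + 1 := ⟨p - 1, by omega⟩
  have := hM.1
  obtain ⟨V, hyV, hV⟩ := exists_isFinite_morphismRestrict_of_finite_preimage_singleton f y hy
  refine @AddCommGrpCat.isZero_of_subsingleton _ (subsingleton_of_forall_eq 0 fun e ↦ ?_)
  obtain ⟨U, hyU, s, rfl⟩ := TopCat.Presheaf.exists_germ_eq _ e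
  obtain ⟨_, ⟨W, hW, rfl⟩, hyW, hWUV⟩ :=
    Y.isBasis_affineOpens.exists_subset_of_mem_open (show y ∈ U ⊓ V from ⟨hyU, hyV⟩) (U ⊓ V).isOpen
  have hWU : W ≤ U := fun z hz ↦ (hWUV hz).1
  have hWV : W ≤ V := fun z hz ↦ (hWUV hz).2
  have hfW : IsAffineOpen (f ⁻¹ᵁ W) := by
    have hW' : IsAffineOpen (V.ι ⁻¹ᵁ W) :=
      hW.preimage_of_isOpenImmersion V.ι (by rw [Scheme.Opens.opensRange_ι]; exact hWV)
    have h2 := (hW'.preimage (f ∣_ V)).image_of_isOpenImmersion (f ⁻¹ᵁ V).ι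
    rwa [← Scheme.Hom.comp_preimage, morphismRestrict_ι, Scheme.Hom.comp_preimage,
      Scheme.Hom.image_preimage_eq_opensRange_inf, Scheme.Opens.opensRange_ι,
      inf_eq_right.2 (f.preimage_mono hWV)] at h2
  obtain ⟨E⟩ := GrothLib.Cohom.nonempty_RpushAb_sections_equiv f (q + 1) M hW
  have hs : Subsingleton (((Coh.RpushAb f (q + 1)).obj (Coh.toAb M)).obj.obj (Opposite.op W)) :=
    @Equiv.subsingleton _ _ E.symm.toEquiv
      (GrothLib.Cohom.subsingleton_ext_freeFun_of_isAffineOpen hfW M q)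
  rw [← TopCat.Presheaf.germ_res_apply _ (homOfLE hWU) y hyW s]
  exact (congrArg _ (@Subsingleton.elim _ hs _ 0)).trans (map_zero _)

end Groth.Agent.S0037
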