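import Groth.Statements.S0927
import Groth.Agent.Lib.ProjFormula.Flasque

set_option autoImplicit false
universe u
open CategoryTheory
open Coh
open GrothLib

namespace Groth.Agent.S0927

open AlgebraicGeometry CategoryTheory.Limits in
/-- Projection formula, for schemes and one degree at a time: let f : X → Y be a morphism of schemes, F
an O_X-module and E a finite locally free O_Y-module. Then for every q the O_Y-module E ⊗ R^q f_* F
is isomorphic to R^q f_* (f^* E ⊗ F). The higher direct images are the right derived functors of
f_*, under the instance argument recording that O_X-modules have injective resolutions. (The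
published statement treats ringed spaces and also gives a version for bounded-below complexes.) -/
theorem result {X Y : Scheme.{u}} (f : X ⟶ Y) [HasInjectiveResolutions X.Modules]
    (F : X.Modules) (E : Y.Modules) (hE : FlatMod.IsFinLocFree E) (q : ℕ) :
    Nonempty (CohB1.tensorMod E ((Coh.Rpush f q).obj F) ≅
      (Coh.Rpush f q).obj (CohB1.tensorMod ((Scheme.Modules.pullback f).obj E) F)) := by
  classical
  let T := (DCoh.tensorBi (X := Y)).obj E
  let B := ProjFormula.pullTensor f E
  have : PreservesColimitsOfSize.{0, 0} T := preservesColimitsOfSize_shrink _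
  have : PreservesFiniteColimits T := PreservesColimits.preservesFiniteColimits T
  have : PreservesFiniteLimits T :=
    ProjFormula.preservesFiniteLimits_tensorBi_obj (OX.flat_of_isFinLocFree hE)
  have hE' := OX.isFinLocFree_pullback f hE
  have : PreservesFiniteLimits B := ProjFormula.preservesFiniteLimits_tensorBi_obj (OX.flat_of_isFinLocFree hE')
  have : PreservesColimitsOfSize.{0, 0} B := preservesColimitsOfSize_shrink _
  have : PreservesFiniteColimits B := PreservesColimits.preservesFiniteColimits B
  have : B.PreservesZeroMorphisms := inferInstance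
  have : ∀ G, IsIso ((ProjFormula.projNat f E).app G) := ProjFormula.isIso_projHom f hE
  let I := Cohom.FlRes.ofInjective (injectiveResolution F)
  let J : Cohom.FlRes (B.obj F) :=
    { cocomplex := (B.mapHomologicalComplex _).obj I.cocomplex
      ι := B.map I.ι
      ι_d := (B.map_comp _ _).symm.trans ((congrArg B.map I.ι_d).trans (B.map_zero _ _))
      isKernel := KernelFork.mapIsLimit _ I.isKernel B
      exact_succ := fun n => (I.exact_succ n).map B
      flasque := fun n _ _ h => ProjFormula.flasque_tensor hE' (fun _ _ h => I.flasque n h) h }
  obtain ⟨e₁⟩ := Cohom.nonempty_Rpush_iso f I q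
  obtain ⟨e₂⟩ := Cohom.nonempty_Rpush_iso f J q
  let w : (T.mapHomologicalComplex _).obj (Cohom.pushCx f I.cocomplex) ≅ Cohom.pushCx f J.cocomplex :=
    HomologicalComplex.Hom.isoOfComponents (fun i => @asIso _ _ _ _ ((ProjFormula.projNat f E).app (I.cocomplex.X i)) (ProjFormula.isIso_projHom f hE _))
      (fun i j _ => ((ProjFormula.projNat f E).naturality (I.cocomplex.d i j)).symm)
  exact ⟨T.mapIso e₁ ≪≫ (((Cohom.pushCx f I.cocomplex).sc q).mapHomologyIso T).symm ≪≫
    (HomologicalComplex.homologyFunctor _ _ q).mapIso w ≪≫ e₂.symm⟩

end Groth.Agent.S0927
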