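import Groth.Statements.S11185
import Groth.Agent.Lib.DualRing.Finite
import Groth.Agent.Lib.DCxRing.Regular
import Groth.Agent.Lib.DCxRing.FromSingle
-- import your own Groth.Agent.* helpers here

set_option autoImplicit false
universe u
open CategoryTheory
attribute [local instance] HasDerivedCategory.standard
open Dual

namespace Groth.Agent.S11185

open CategoryTheory.Limits CategoryTheory.Pretriangulated GrothLib in
theorem subsingleton_ext_self {A : Type u} [CommRing A] [IsNoetherianRing A] (n : ℕ) :
    ∀ (M : Type u) [AddCommGroup M] [Module A M] [Module.Finite A M], Serre.PdLE A M n →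
      ∀ i : ℤ, (i < 0 ∨ (n : ℤ) < i) → Subsingleton (Dual.inD A M ⟶ (Dual.inD A A)⟦i⟧) := by
  have hproj : ∀ (P : Type u) [AddCommGroup P] [Module A P], Module.Projective A P → ∀ i : ℤ, i ≠ 0 →
      Subsingleton (Dual.inD A P ⟶ (Dual.inD A A)⟦i⟧) := fun P _ _ hP i hi => by
    haveI : Projective (ModuleCat.of A P) := (IsProjective.iff_projective (R := A) P).1 hP
    haveI : Subsingleton ((DerivedCategory.homologyFunctor (ModuleCat.{u} A) 0).obj ((Dual.inD A A)⟦i⟧)) := by
      haveI : Subsingleton (((DerivedCategory.homologyFunctor (ModuleCat.{u} A) 0).shift i).obj (Dual.inD A A)) :=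
        DR.subsingleton_HD_inD A i hi
      exact (((DerivedCategory.homologyFunctor (ModuleCat.{u} A) 0).shiftIso i 0 i (by omega)).app
        (Dual.inD A A)).toLinearEquiv.toEquiv.subsingleton
    refine ⟨fun φ ψ => (DerTheta.thetaBij_of_projective (ModuleCat.of A P) 0 _).1 ?_⟩
    exact ModuleCat.hom_ext (LinearMap.ext fun x => Subsingleton.elim _ _)
  induction n with
  | zero => exact fun M _ _ _ h i hi => hproj M (Serre.pdLE_zero_iff.1 h) i (by omega)
  | succ n ih =>
    intro M _ _ _ h i hi
    obtain ⟨k, q, hq⟩ := Module.Finite.exists_fin' A M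
    have hK := (Serre.pdLE_succ_iff q hq n).1 h
    rcases hi with hi | hi
    · haveI : (Dual.inD A M).IsLE 0 := inferInstance
      haveI : ((Dual.inD A A)⟦i⟧).IsGE (-i) :=
        DerivedCategory.TStructure.t.isGE_shift (Dual.inD A A) 0 i (-i) (by omega)
      exact ⟨fun φ ψ => (DerivedCategory.TStructure.t.zero_of_isLE_of_isGE φ 0 (-i) (by omega) inferInstance
        inferInstance).trans (DerivedCategory.TStructure.t.zero_of_isLE_of_isGE ψ 0 (-i) (by omega) inferInstance
        inferInstance).symm⟩
    · obtain ⟨T, hT, e₁, e₂, e₃⟩ := DualRing.exists_triangle (Submodule.subtype_injective (LinearMap.ker q)) hq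
        (LinearMap.exact_subtype_ker_map q)
      haveI h1 : Subsingleton (DualRing.EH (Dual.inD A A) (T.obj₁⟦(1 : ℤ)⟧) i) := by
        rw [e₁]
        haveI := ih (LinearMap.ker q) hK (i - 1) (Or.inr (by omega))
        exact (DualRing.shiftLeft (Dual.inD A A) _ 1 i (i - 1) (by omega)).toEquiv.subsingleton
      haveI h2 : Subsingleton (DualRing.EH (Dual.inD A A) T.obj₂ i) := by
        rw [e₂]
        exact hproj _ inferInstance i (by omega)
      rw [← e₃]
      refine ⟨fun φ ψ => sub_eq_zero.1 ?_⟩
      obtain ⟨β, hβ⟩ := Triangle.yoneda_exact₂ _ (rot_of_distTriang _ hT) (φ - ψ) (h2.elim _ _)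
      rw [hβ, h1.elim β 0]
      exact comp_zero

/-- Let A be a Noetherian ring all of whose local rings A_p at primes are regular and whose Krull
dimension is finite. Then the complex A[0] is a dualizing complex for A (finite injective dimension,
finite cohomology, A → End(A[0]) bijective and no self-maps of nonzero degree). -/
theorem result (A : Type u) [CommRing A] [IsNoetherianRing A] (hreg : ∀ p : PrimeSpectrum A, IsRegularLocalRing (Localization.AtPrime p.asIdeal)) (hdim : ringKrullDim A < ⊤) : Dual.IsDualizing A (Dual.inD A A) := by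
  obtain ⟨d, hd⟩ : ∃ d : ℕ, ringKrullDim A ≤ d := by
    cases h : ringKrullDim A with
    | bot => exact ⟨0, bot_le⟩
    | coe x =>
      rw [h] at hdim
      obtain ⟨d, rfl⟩ := ENat.ne_top_iff_exists.1 (WithBot.coe_lt_coe.1 hdim).ne
      exact ⟨d, le_rfl⟩
  have hpd : ∀ I : Ideal A, GrothLib.Serre.PdLE A (A ⧸ I) d := fun I =>
    GrothLib.DR.pdLE_of_forall_prime d _ fun p => by
      have := hreg p
      obtain ⟨e, he⟩ : ∃ e : ℕ, ringKrullDim (Localization.AtPrime p.asIdeal) = e :=
        ⟨_, IsRegularLocalRing.spanFinrank_maximalIdeal.symm⟩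
      refine GrothLib.Serre.pdLE_mono (Nat.cast_le.1 (WithBot.coe_le_coe.1 ?_ : (e : ℕ∞) ≤ d))
        (GrothLib.Serre.pdLE_of_isRegularLocalRing _ e he _)
      show ((e : ℕ∞) : WithBot ℕ∞) ≤ _
      refine le_trans (le_of_eq he.symm) (le_trans ?_ hd)
      rw [IsLocalization.AtPrime.ringKrullDim_eq_height p.asIdeal (Localization.AtPrime p.asIdeal)]
      exact Ideal.height_le_ringKrullDim_of_ne_top p.2.ne_top
  have hamp := GrothLib.DR.hasInjAmplitudeIn_of_cyclic (Dual.inD A A) 0 d fun I i hi =>
    subsingleton_ext_self d (A ⧸ I) (hpd I) i hi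
  have hA : ∀ i : ℤ, i ≠ 0 → Subsingleton (Dual.inD A A ⟶ (Dual.inD A A)⟦i⟧) := fun i hi => by
    haveI := GrothLib.DR.subsingleton_HD_inD (A := A) A i hi
    exact (GrothLib.DualRing.exists_hom_ring_equiv (Dual.inD A A) i).some.toEquiv.subsingleton
  refine { isNoetherianRing := inferInstance, finite_injective_dimension := ⟨0, d, fun M _ _ i hi => GrothLib.DR.subsingleton_ext_of_injAmp hamp M i hi⟩, finite_cohomology := fun i => ?_, toEnd_bijective := ?_, ext_self_subsingleton := hA }
  · rcases eq_or_ne i 0 with rfl | hi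
    · exact Module.Finite.equiv (GrothLib.DR.inDHomologyIso A).toLinearEquiv.symm
    · haveI := GrothLib.DR.subsingleton_HD_inD (A := A) A i hi
      infer_instance
  · have hF : (fun a : A => a • 𝟙 (Dual.inD A A)) = (fun φ => (DerivedCategory.singleFunctor (ModuleCat.{u} A) 0).map φ) ∘
        fun a : A => a • 𝟙 (ModuleCat.of A A) := funext fun a => by
      simp only [Function.comp_apply, Functor.map_smul, CategoryTheory.Functor.map_id]
    rw [hF]
    refine Function.Bijective.comp ⟨(DerivedCategory.singleFunctor (ModuleCat.{u} A) 0).map_injective,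
      (DerivedCategory.singleFunctor (ModuleCat.{u} A) 0).map_surjective⟩ ⟨fun a b h => ?_, fun φ => ⟨φ.hom 1, ?_⟩⟩
    · have := LinearMap.congr_fun (congrArg ModuleCat.Hom.hom h) (1 : A)
      simpa using this
    · exact ModuleCat.hom_ext (LinearMap.ext_ring (show φ.hom 1 • (1 : A) = φ.hom 1 by rw [smul_eq_mul, mul_one]))

end Groth.Agent.S11185
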