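import Groth.Statements.S0414
import Groth.Agent.Lib.GenFree.Presentation
import Mathlib.AlgebraicGeometry.Morphisms.Flat
import Mathlib.AlgebraicGeometry.Morphisms.FinitePresentation

set_option autoImplicit false
universe u
open FlatMor

namespace Groth.Agent.S0414

open AlgebraicGeometry CategoryTheory Limits TensorProduct

/-- Flat and locally of finite presentation. -/
abbrev P : MorphismProperty Scheme.{u} := @Flat ⊓ @LocallyOfFinitePresentation

lemma exists_basicOpen {R : Type u} [CommRing R] [IsReduced R] {X : Scheme.{u}}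
    (f : X ⟶ Spec (CommRingCat.of R)) [LocallyOfFiniteType f] [QuasiCompact f] (g : R) (hg : g ≠ 0) :
    ∃ a : R, g ∣ a ∧ a ≠ 0 ∧
      P (pullback.snd f (Spec.map (CommRingCat.ofHom (algebraMap R (Localization.Away a))))) := by
  classical
  haveI : CompactSpace X := QuasiCompact.compactSpace_of_compactSpace f
  let 𝒰 := X.affineCover.finiteSubcover
  have key : ∀ i, ∃ (B : CommRingCat.{u}) (e : Spec B ≅ 𝒰.X i), True := fun i ↦
    ⟨_, (𝒰.X i).isoSpec.symm, trivial⟩
  choose B e _ using key
  let φ : ∀ i, CommRingCat.of R ⟶ B i := fun i ↦ Spec.preimage ((e i).hom ≫ 𝒰.f i ≫ f)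
  have hft : ∀ i, (φ i).hom.FiniteType := fun i ↦ by
    have : LocallyOfFiniteType (Spec.map (φ i)) := by simp only [φ, Spec.map_preimage]; infer_instance
    exact (HasRingHomProperty.Spec_iff (P := @LocallyOfFiniteType)).mp this
  have main : ∀ s : Finset 𝒰.I₀, ∃ a : R, g ∣ a ∧ a ≠ 0 ∧ ∀ i ∈ s, ∀ b : R, a ∣ b →
      P (pullback.snd ((e i).hom ≫ 𝒰.f i ≫ f)
        (Spec.map (CommRingCat.ofHom (algebraMap R (Localization.Away b))))) := by
    intro s
    induction s using Finset.induction with
    | empty => exact ⟨g, dvd_rfl, hg, by simp⟩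
    | insert i s _ ih =>
      obtain ⟨a, hga, ha, hP⟩ := ih
      letI : Algebra R (B i) := (φ i).hom.toAlgebra
      haveI : Algebra.FiniteType R (B i) := hft i
      obtain ⟨a', haa', ha', h1, h2, h3, h4⟩ :=
        GrothLib.GenFree.exists_free_and_finitePresentation (R := R) (B i) (B i) a ha
      refine ⟨a', hga.trans haa', ha', fun j hj b hb ↦ ?_⟩
      rcases Finset.mem_insert.mp hj with rfl | hj
      · have hφ : Spec.map (φ j) = (e j).hom ≫ 𝒰.f j ≫ f := Spec.map_preimage _
        rw [← hφ]
        let Ra := Localization.Away a'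
        let q := CommRingCat.ofHom (algebraMap R Ra)
        let ψ : Spec (CommRingCat.of (Localization.Away b)) ⟶ Spec (CommRingCat.of Ra) :=
          Spec.map (CommRingCat.ofHom (IsLocalization.Away.lift a'
            (g := algebraMap R (Localization.Away b))
            (isUnit_of_dvd_unit (map_dvd _ hb) (IsLocalization.Away.algebraMap_isUnit b))))
        have hψ : ψ ≫ Spec.map q = Spec.map (CommRingCat.ofHom (algebraMap R (Localization.Away b))) := by
          rw [← Spec.map_comp]
          congr 1
          ext x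
          exact IsLocalization.lift_eq _ x
        have hbase : P (pullback.snd (Spec.map (φ j)) (Spec.map q)) := by
          rw [← pullbackSymmetry_hom_comp_fst]
          have : P (pullback.fst (Spec.map q) (Spec.map (φ j))) := by
            show P (pullback.fst (Spec.map (CommRingCat.ofHom (algebraMap R Ra)))
              (Spec.map (CommRingCat.ofHom (algebraMap R (B j)))))
            rw [← pullbackSpecIso_hom_fst']
            refine ⟨?_, ?_⟩
            · haveI : Flat (Spec.map (CommRingCat.ofHom (algebraMap Ra (Ra ⊗[R] (B j))))) :=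
                (HasRingHomProperty.Spec_iff (P := @Flat)).mpr
                  (RingHom.flat_algebraMap_iff.mpr inferInstance)
              exact inferInstanceAs (Flat (_ ≫ _))
            · haveI : LocallyOfFinitePresentation
                  (Spec.map (CommRingCat.ofHom (algebraMap Ra (Ra ⊗[R] (B j))))) :=
                (HasRingHomProperty.Spec_iff (P := @LocallyOfFinitePresentation)).mpr
                  (RingHom.finitePresentation_algebraMap.mpr h3)
              exact inferInstanceAs (LocallyOfFinitePresentation (_ ≫ _))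
          exact ⟨MorphismProperty.RespectsIso.precomp (P := @Flat) _ _ this.1,
            MorphismProperty.RespectsIso.precomp (P := @LocallyOfFinitePresentation) _ _ this.2⟩
        have hp : IsPullback (pullback.fst (Spec.map (φ j))
            (Spec.map (CommRingCat.ofHom (algebraMap R (Localization.Away b)))))
            (pullback.snd _ _) (Spec.map (φ j)) (ψ ≫ Spec.map q) := by
          rw [hψ]; exact IsPullback.of_hasPullback _ _
        have hbig := IsPullback.of_hasPullback (Spec.map (φ j)) (Spec.map q)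
        have hsq := IsPullback.of_right (h₁₁ := pullback.lift
          (pullback.fst (Spec.map (φ j))
            (Spec.map (CommRingCat.ofHom (algebraMap R (Localization.Away b)))))
          (pullback.snd _ _ ≫ ψ) (by rw [Category.assoc, hp.w])) (by
            rw [pullback.lift_fst]; exact hp) (pullback.lift_snd _ _ _) hbig
        exact MorphismProperty.of_isPullback hsq hbase
      · exact hP j hj b (haa'.trans hb)
  obtain ⟨a, hga, ha, hP⟩ := main Finset.univ
  refine ⟨a, hga, ha, ?_⟩
  let gb := Spec.map (CommRingCat.ofHom (algebraMap R (Localization.Away a)))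
  have hloc : ∀ i : 𝒰.I₀, P ((Scheme.Pullback.openCoverOfLeft 𝒰 f gb).f i ≫ pullback.snd f gb) := fun i ↦ by
    have hc : (Scheme.Pullback.openCoverOfLeft 𝒰 f gb).f i ≫ pullback.snd f gb =
        pullback.snd (𝒰.f i ≫ f) gb := by
      exact (pullback.lift_snd _ _ _).trans (Category.comp_id _)
    rw [hc]
    let t : pullback ((e i).hom ≫ 𝒰.f i ≫ f) gb ⟶ pullback (𝒰.f i ≫ f) gb :=
      pullback.map _ _ _ _ (e i).hom (𝟙 _) (𝟙 _) (by simp) (by simp)
    have hsnd : pullback.snd (𝒰.f i ≫ f) gb =
        inv t ≫ pullback.snd ((e i).hom ≫ 𝒰.f i ≫ f) gb := by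
      rw [IsIso.eq_inv_comp]
      exact (pullback.lift_snd _ _ _).trans (Category.comp_id _)
    rw [hsnd]
    haveI : IsIso (inv t) := IsIso.inv_isIso
    exact ⟨MorphismProperty.RespectsIso.precomp (P := @Flat) (inv t) _
        (hP i (Finset.mem_univ i) a dvd_rfl).1,
      MorphismProperty.RespectsIso.precomp (P := @LocallyOfFinitePresentation) (inv t) _
        (hP i (Finset.mem_univ i) a dvd_rfl).2⟩
  exact ⟨IsZariskiLocalAtSource.of_openCover (P := @Flat) (Scheme.Pullback.openCoverOfLeft 𝒰 f gb) fun i ↦ (hloc i).1,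
    IsZariskiLocalAtSource.of_openCover (P := @LocallyOfFinitePresentation) (Scheme.Pullback.openCoverOfLeft 𝒰 f gb) fun i ↦ (hloc i).2⟩

/-- Generic flatness: a morphism X → S of finite type with S reduced is flat and locally of finite
presentation over some dense open subscheme of S. (Stated for the structure sheaf; the published
statement also treats a quasi-coherent O_X-module of finite type.) -/
theorem result {X S : Scheme.{u}} (f : X ⟶ S) [IsReduced S] [LocallyOfFiniteType f] [QuasiCompact f] :
    ∃ U : S.Opens, Dense (U : Set ↑S) ∧ Flat (f ∣_ U) ∧ LocallyOfFinitePresentation (f ∣_ U) := by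
  let 𝒪 := {O : S.Opens // P (f ∣_ O)}
  let U : S.Opens := ⨆ O : 𝒪, O.1
  refine ⟨U, ?_, ?_, ?_⟩
  · rw [dense_iff_inter_open]
    rintro T hT ⟨x, hx⟩
    obtain ⟨_, ⟨V, hV, rfl⟩, hxV, -⟩ :=
      S.isBasis_affineOpens.exists_subset_of_mem_open (Set.mem_univ x) isOpen_univ
    let j := hV.fromSpec
    obtain ⟨y, hy⟩ : x ∈ Set.range j := by rw [hV.range_fromSpec]; exact hxV
    obtain ⟨_, ⟨g, rfl⟩, hyg, hgT⟩ := PrimeSpectrum.isTopologicalBasis_basic_opens.exists_subset_of_mem_open
      (show y ∈ j ⁻¹' T by show j y ∈ T; rwa [hy]) (hT.preimage j.continuous)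
    have hg : g ≠ 0 := fun h ↦ hyg (h ▸ y.asIdeal.zero_mem)
    haveI : IsReduced S := inferInstance
    obtain ⟨a, hga, ha, hP⟩ := exists_basicOpen (R := Γ(S, V)) (pullback.snd f j) g hg
    let q : Spec (CommRingCat.of (Localization.Away a)) ⟶ Spec Γ(S, V) :=
      Spec.map (CommRingCat.ofHom (algebraMap Γ(S, V) (Localization.Away a)))
    haveI : IsOpenImmersion q := .of_isLocalization a
    have hP' : P (pullback.snd f (q ≫ j)) := by
      have hp := (IsPullback.of_hasPullback (pullback.snd f j) q).paste_horiz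
        (IsPullback.of_hasPullback f j)
      rw [← hp.isoPullback_inv_snd]
      exact ⟨MorphismProperty.RespectsIso.precomp (P := @Flat) _ _ hP.1,
        MorphismProperty.RespectsIso.precomp (P := @LocallyOfFinitePresentation) _ _ hP.2⟩
    have hmem : P (f ∣_ (q ≫ j).opensRange) :=
      ⟨(MorphismProperty.arrow_mk_iso_iff (P := @Flat)
          (morphismRestrictOpensRange f (q ≫ j))).mpr hP'.1,
        (MorphismProperty.arrow_mk_iso_iff (P := @LocallyOfFinitePresentation)
          (morphismRestrictOpensRange f (q ≫ j))).mpr hP'.2⟩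
    obtain ⟨z, hz⟩ : ∃ z : PrimeSpectrum Γ(S, V), a ∉ z.asIdeal := by
      by_contra! h
      have : IsNilpotent a := (nilpotent_iff_mem_prime).mpr fun J hJ ↦ h ⟨J, hJ⟩
      exact ha this.eq_zero
    have hzq : z ∈ Set.range q := by
      show z ∈ Set.range (PrimeSpectrum.comap (algebraMap Γ(S, V) (Localization.Away a)))
      rw [PrimeSpectrum.localization_away_comap_range (Localization.Away a) a]
      exact hz
    obtain ⟨w, hw⟩ := hzq
    refine ⟨j z, hgT ?_, ?_⟩
    · exact fun h ↦ hz (z.asIdeal.mem_of_dvd hga h)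
    · exact TopologicalSpace.Opens.mem_iSup.mpr ⟨⟨_, hmem⟩, ⟨w, by simp [hw]⟩⟩
  · refine IsZariskiLocalAtTarget.of_iSup_eq_top (P := @Flat) (fun O : 𝒪 ↦ U.ι ⁻¹ᵁ O.1) ?_ fun O ↦ ?_
    · rw [← Scheme.Hom.preimage_iSup, Scheme.Opens.ι_preimage_self]
    refine (MorphismProperty.arrow_mk_iso_iff (P := @Flat) (morphismRestrictRestrict f U _)).mpr ?_
    rw [show U.ι ''ᵁ U.ι ⁻¹ᵁ O.1 = O.1 by
      rw [Scheme.Hom.image_preimage_eq_opensRange_inf, Scheme.Opens.opensRange_ι]
      exact inf_eq_right.mpr (le_iSup (fun O : 𝒪 ↦ O.1) O)]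
    exact O.2.1
  · refine IsZariskiLocalAtTarget.of_iSup_eq_top (P := @LocallyOfFinitePresentation) (fun O : 𝒪 ↦ U.ι ⁻¹ᵁ O.1) ?_ fun O ↦ ?_
    · rw [← Scheme.Hom.preimage_iSup, Scheme.Opens.ι_preimage_self]
    refine (MorphismProperty.arrow_mk_iso_iff (P := @LocallyOfFinitePresentation) (morphismRestrictRestrict f U _)).mpr ?_
    rw [show U.ι ''ᵁ U.ι ⁻¹ᵁ O.1 = O.1 by
      rw [Scheme.Hom.image_preimage_eq_opensRange_inf, Scheme.Opens.opensRange_ι]
      exact inf_eq_right.mpr (le_iSup (fun O : 𝒪 ↦ O.1) O)]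
    exact O.2.2

end Groth.Agent.S0414
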