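import Groth.Statements.S11189
import Groth.Agent.Lib.Induce27.QuotAffine
-- import your own Groth.Agent.* helpers here

set_option autoImplicit false
universe u
open CategoryTheory MonoidalCategory CartesianMonoidalCategory MonObj GrpObj AlgebraicGeometry
open scoped TensorProduct
open AGF

namespace Groth.Agent.S11189

/-- Let k be an algebraically closed field, G a linear algebraic group over k (an affine smooth group
scheme over k) and H a closed subgroup of G (a smooth closed subgroup scheme, i : H → G), and let X,
with G-action a and base point o, be the quotient G/H. Then H is observable in G if and only if X is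
quasi-affine (quasi-compact and an open subscheme of an affine scheme). -/
theorem result (k : Type u) [Field k] [IsAlgClosed k]
    (G : Over (Spec (CommRingCat.of k))) [GrpObj G] [IsAffine G.left] [Smooth G.hom]
    (H : Over (Spec (CommRingCat.of k))) [GrpObj H] [Smooth H.hom] (i : H ⟶ G) [IsMonHom i]
    [IsClosedImmersion i.left]
    (X : Over (Spec (CommRingCat.of k))) (a : AlgGrp.Action G X) (o : 𝟙_ (Over (Spec (CommRingCat.of k))) ⟶ X)
    (hX : AGF.IsQuotient i X a o) :
    AGF.IsObservableIn k i ↔ X.left.IsQuasiAffine := by
  haveI : IsAffine H.left := isAffine_of_isAffineHom i.left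
  exact ⟨GrothLib.Induce27.isQuasiAffine_of_observable a o hX,
    fun h => GrothLib.Induce27.observable_of_isQuasiAffine a o hX⟩

end Groth.Agent.S11189
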