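import Groth.Statements.S6005
import Groth.Agent.Lib.Torsor21.EigenFn
import Groth.Agent.Lib.DiagGrp.FlatMultType
import Groth.Agent.S6004
import Groth.Prelude.Def_GmPts
import Mathlib.Tactic.Group
import Mathlib.Tactic.LinearCombination

set_option autoImplicit false
universe u
open CategoryTheory AlgebraicGeometry
open SGA1

namespace Groth.Agent.S6005

set_option backward.isDefEq.respectTransparency false
set_option backward.isDefEq.respectTransparency.types false

open CategoryTheory.Limits MonoidalCategory CartesianMonoidalCategory MonObj GrpObj GrothLib.Torsor21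

/-- A function whose basic open set is everything is a unit. -/
theorem isUnit_appTop_ι {Y : Scheme.{u}} (O : Y.Opens) (w : Γ(Y, ⊤)) (hO : ∀ x ∈ O, x ∈ Y.basicOpen w) :
    IsUnit (O.ι.appTop w) := by
  refine RingedSpace.isUnit_of_isUnit_germ O.toScheme.toLocallyRingedSpace.toRingedSpace _ _ fun x hx => ?_
  refine (Scheme.mem_basicOpen O.toScheme _ x hx).1 ?_
  change x ∈ O.toScheme.basicOpen (O.ι.appTop w)
  rw [← Scheme.preimage_basicOpen_top]
  exact hO _ x.2

/-- An fpqc torsor under the multiplicative group has a section near each point of an affine open. -/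
theorem exists_section_nhd {S : Scheme.{u}} {X : Over S} {a : AlgGrp.Action (Red.Gm S) X}
    (h : NonAbH1.IsTorsorFor Scheme.fpqcPrecoverage a) (U : S.Opens) (hU : IsAffineOpen U) (x : (U : Scheme.{u})) :
    ∃ V : (U : Scheme.{u}).Opens, x ∈ V ∧ NonAbH1.HasSectionOver X (V.ι ≫ U.ι) := by
  have := GrothLib.DiagGrp.flat_diag.{u} ℤ
  haveI : IsAffineHom (Red.diag (ULift.{u} ℤ) ℤ).hom := inferInstanceAs (IsAffineHom (Spec.map _))
  haveI : Flat (Red.Gm S).hom :=
    inferInstanceAs (Flat (pullback.snd (Red.diag (ULift.{u} ℤ) ℤ).hom _))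
  haveI : IsAffineHom (Red.Gm S).hom :=
    MorphismProperty.pullback_snd (P := @IsAffineHom) (Red.diag (ULift.{u} ℤ) ℤ).hom _ ‹_›
  obtain ⟨hXa, hXf⟩ := Groth.Agent.S6004.result (Red.Gm S) X a h
  haveI hXs : Surjective X.hom := GrothLib.Torsor21.surjective_hom h
  haveI : IsAffine (U : Scheme.{u}) := hU
  haveI : IsAffineHom (resπ X U) := MorphismProperty.pullback_snd _ _ hXa
  haveI : Flat (resπ X U) := MorphismProperty.pullback_snd _ _ hXf
  haveI : Surjective (resπ X U) := MorphismProperty.pullback_snd _ _ hXs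
  haveI : IsAffine (resY U X).left := isAffine_of_isAffineHom (resπ X U)
  haveI : IsAffineHom (snd (Red.Gm S) (resY U X)).left :=
    MorphismProperty.pullback_snd (P := @IsAffineHom) (Red.Gm S).hom (resY U X).hom inferInstance
  haveI : IsAffine (resZ (Red.Gm S) X U).left := isAffine_of_isAffineHom (snd (Red.Gm S) (resY U X)).left
  obtain ⟨g, A, P, hA1, hA2, hP1, hP2, hg, hAg⟩ := translate_diff U h.1
  let gZ := Red.gmFn (fst (Red.Gm S) (resY U X))
  let M : Set Γ((resY U X).left, ⊤) :=
    {w | (resAct a U).appTop w = gZ * (snd (Red.Gm S) (resY U X)).left.appTop w}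
  have hmem : Red.gmFn g ∈ Ideal.span ((pullback.fst (resπ X U) (resπ X U)).appTop '' M) := by
    refine mem_span_of_eigen (isPushout_appTop_of_isPullback (IsPullback.of_hasPullback (resπ X U) (resπ X U)))
      (isPushout_appTop_of_isPullback (IsPullback.of_hasPullback (resζ (Red.Gm S) X U) (resπ X U)))
      (resπ X U).flat_appTop (resAct a U).appTop (snd (Red.Gm S) (resY U X)).left.appTop ?_ ?_
      A.left.appTop P.left.appTop ?_ ?_ ?_ ?_ gZ (Red.gmFn g) ?_
    · rw [← Scheme.Hom.comp_appTop, resAct_π]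
    · rw [← Scheme.Hom.comp_appTop]
    · rw [← Scheme.Hom.comp_appTop, ← Scheme.Hom.comp_appTop]
      exact congrArg Scheme.Hom.appTop hA1
    · rw [← Scheme.Hom.comp_appTop]
      exact congrArg Scheme.Hom.appTop hA2
    · rw [← Scheme.Hom.comp_appTop, ← Scheme.Hom.comp_appTop]
      exact congrArg Scheme.Hom.appTop hP1
    · rw [← Scheme.Hom.comp_appTop]
      exact congrArg Scheme.Hom.appTop hP2
    · have e := congrArg Red.gmFn hAg
      rw [GmPts.gmFn_mul, GmPts.gmFn_comp, GmPts.gmFn_comp, GmPts.gmFn_comp] at e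
      exact e
  have hrel : ∀ {T : Over S} (y₁ y₂ : T ⟶ resY U X), y₁.left ≫ resπ X U = y₂.left ≫ resπ X U →
      ∀ w ∈ M, ∃ v, IsUnit v ∧ ∃ g' : T ⟶ Red.Gm S,
        lift g' (y₂ ≫ resPt X U) ≫ a.act = y₁ ≫ resPt X U ∧ v = Red.gmFn g' ∧
        y₁.left.appTop w = v * y₂.left.appTop w := by
    intro T y₁ y₂ hy w hw
    obtain ⟨g', hg'⟩ := GrothLib.TorsorDesc.exists_act_eq h.1 (y₁ ≫ resPt X U) (y₂ ≫ resPt X U)
    refine ⟨_, GmPts.isUnit_gmFn g', g', hg', rfl, ?_⟩
    let c : T ⟶ resZ (Red.Gm S) X U := lift g' y₂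
    have hc : c.left ≫ resAct a U = y₁.left := by
      apply pullback.hom_ext
      · rw [Category.assoc, resAct_fst]
        have e : c ≫ resActPt a U = y₁ ≫ resPt X U := by
          rw [← hg', resActPt, comp_lift_assoc, lift_fst, lift_snd_assoc]
        exact congrArg CommaMorphism.left e
      · rw [Category.assoc, resAct_π]
        change c.left ≫ (snd (Red.Gm S) (resY U X)).left ≫ resπ X U = _
        rw [← Category.assoc, ← Over.comp_left, lift_snd, hy]
    have e2 := congrArg c.left.appTop hw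
    rw [map_mul, ← GmPts.appTop_comp_apply, hc] at e2
    rw [e2, ← GmPts.gmFn_comp, lift_fst, ← GmPts.appTop_comp_apply, ← Over.comp_left, lift_snd]
  obtain ⟨y, rfl⟩ := (resπ X U).surjective x
  obtain ⟨w, hw, hwy⟩ : ∃ w ∈ M, y ∈ (resY U X).left.basicOpen w := by
    by_contra hcon
    push Not at hcon
    let z := pullback.diagonal (resπ X U) y
    let ev := ((resW X U).left.evaluation ⊤ z trivial).hom
    have hle : Ideal.span ((pullback.fst (resπ X U) (resπ X U)).appTop '' M) ≤ RingHom.ker ev := by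
      rw [Ideal.span_le]
      rintro _ ⟨w, hw, rfl⟩
      refine (Scheme.evaluation_eq_zero_iff_notMem_basicOpen (U := ⊤) _ z trivial _).2 fun hz => hcon w hw ?_
      have hz' : z ∈ pullback.fst (resπ X U) (resπ X U) ⁻¹ᵁ (resY U X).left.basicOpen w := by
        rw [Scheme.preimage_basicOpen_top]
        exact hz
      have hzy : pullback.fst (resπ X U) (resπ X U) z = y := by
        rw [← Scheme.Hom.comp_apply, pullback.diagonal_fst]; rfl
      rw [← hzy]
      exact hz'
    exact ((GmPts.isUnit_gmFn g).map ev).ne_zero (hle hmem)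
  let O := (resY U X).left.basicOpen w
  have hsat : ∀ z₁ z₂ : (resY U X).left, resπ X U z₁ = resπ X U z₂ → z₁ ∈ O → z₂ ∈ O := by
    intro z₁ z₂ hz hz₁
    obtain ⟨z, hf, hs⟩ := Scheme.Pullback.exists_preimage_pullback (f := resπ X U) (g := resπ X U) z₁ z₂ hz
    obtain ⟨v, hv, -, -, -, e⟩ := hrel (T := resW X U) (Over.homMk (pullback.fst _ _) rfl)
      (Over.homMk (pullback.snd _ _) (resW_snd X U)) pullback.condition w hw
    have h1 : z ∈ pullback.fst (resπ X U) (resπ X U) ⁻¹ᵁ O := by
      change pullback.fst (resπ X U) (resπ X U) z ∈ O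
      rw [hf]; exact hz₁
    rw [Scheme.preimage_basicOpen_top] at h1
    change z ∈ (resW X U).left.basicOpen ((pullback.fst (resπ X U) (resπ X U)).appTop w) at h1
    have h1' : z ∈ (resW X U).left.basicOpen (v *
        (Over.homMk (pullback.snd _ _) (resW_snd X U) : resW X U ⟶ resY U X).left.appTop w) :=
      Eq.mp (congrArg (fun f => z ∈ (resW X U).left.basicOpen f) e) h1
    have h2 : z ∈ pullback.snd (resπ X U) (resπ X U) ⁻¹ᵁ O := by
      rw [Scheme.preimage_basicOpen_top]
      exact ((Scheme.basicOpen_mul _ v _).le h1').2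
    change pullback.snd (resπ X U) (resπ X U) z ∈ O at h2
    rwa [hs] at h2
  have hpre : resπ X U ⁻¹' (resπ X U '' (O : Set (resY U X).left)) = O := by
    refine Set.Subset.antisymm ?_ (Set.subset_preimage_image _ _)
    rintro z ⟨z', hz', e⟩
    exact hsat z' z e hz'
  let V : (U : Scheme.{u}).Opens := ⟨resπ X U '' (O : Set (resY U X).left),
    ((Flat.isQuotientMap_of_surjective (resπ X U)).isOpen_preimage).1 (hpre.symm ▸ O.2)⟩
  refine ⟨V, ⟨y, hwy, rfl⟩, ?_⟩
  let p := resπ X U ∣_ V
  haveI : Flat p := MorphismProperty.of_isPullback (isPullback_morphismRestrict (resπ X U) V).flip inferInstance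
  haveI : Surjective p := MorphismProperty.of_isPullback (isPullback_morphismRestrict (resπ X U) V).flip inferInstance
  haveI : QuasiCompact p := MorphismProperty.of_isPullback (isPullback_morphismRestrict (resπ X U) V).flip inferInstance
  let O' := resπ X U ⁻¹ᵁ V
  have hu : IsUnit (O'.ι.appTop w) := isUnit_appTop_ι O' w fun z hz => by
    have : z ∈ (O : Set (resY U X).left) := hpre ▸ hz
    exact this
  let Om : Over S := Over.mk (p ≫ V.ι ≫ U.ι)
  let j : Om ⟶ resY U X := Over.homMk O'.ι (by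
    change O'.ι ≫ (resY U X).hom = p ≫ V.ι ≫ U.ι
    rw [← resπ_ι X U, reassoc_of% (morphismRestrict_ι (resπ X U) V)])
  let t : Om ⟶ Red.Gm S := GmPts.ptOfUnit hu.unit⁻¹
  have ht : Red.gmFn t * j.left.appTop w = 1 := by
    rw [GmPts.gmFn_ptOfUnit]
    exact hu.val_inv_mul
  refine hasSectionOver_of_invariant p (V.ι ≫ U.ι) (lift t (j ≫ resPt X U) ≫ a.act) fun {Z} c d hcd => ?_
  let C : Over S := Over.mk (c ≫ p ≫ V.ι ≫ U.ι)
  let c' : C ⟶ Om := Over.homMk c rfl
  let d' : C ⟶ Om := Over.homMk d (by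
    change d ≫ p ≫ _ = c ≫ p ≫ _
    rw [reassoc_of% hcd])
  obtain ⟨v, -, g', hg', rfl, e⟩ := hrel (c' ≫ j) (d' ≫ j) (by
    change (c ≫ O'.ι) ≫ resπ X U = (d ≫ O'.ι) ≫ resπ X U
    rw [Category.assoc, Category.assoc, ← morphismRestrict_ι, reassoc_of% hcd]) w hw
  suffices c' ≫ lift t (j ≫ resPt X U) ≫ a.act = d' ≫ lift t (j ≫ resPt X U) ≫ a.act from
    congrArg CommaMorphism.left this
  simp only [Category.assoc] at hg'
  rw [comp_lift_assoc, comp_lift_assoc, ← hg', ← GrothLib.DiagGrp.act_mul]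
  congr 2
  apply GmPts.gmFn_injective
  change Red.gmFn ((c' ≫ t) * g') = Red.gmFn (d' ≫ t)
  have hc1 : Red.gmFn (c' ≫ t) * (c' ≫ j).left.appTop w = 1 := by
    rw [GmPts.gmFn_comp, Over.comp_left, GmPts.appTop_comp_apply, ← map_mul, ht, map_one]
  have hd1 : Red.gmFn (d' ≫ t) * (d' ≫ j).left.appTop w = 1 := by
    rw [GmPts.gmFn_comp, Over.comp_left, GmPts.appTop_comp_apply, ← map_mul, ht, map_one]
  rw [GmPts.gmFn_mul]
  rw [e] at hc1
  linear_combination Red.gmFn (d' ≫ t) * hc1 - Red.gmFn (c' ≫ t) * Red.gmFn g' * hd1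

/-- Every principal homogeneous bundle under the multiplicative group over S (a pseudo-torsor which
acquires sections on the members of some fpqc covering family of S) is locally trivial, i.e. is a
torsor for the Zariski topology: S is covered by open subschemes over which it acquires sections.
(The published statement covers every S-group isomorphic to the general linear group of any rank;
this row is the rank-one case.) -/
theorem result {S : Scheme.{u}} (X : Over S)
    (a : AlgGrp.Action (Red.Gm S) X) (h : NonAbH1.IsTorsorFor Scheme.fpqcPrecoverage a) :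
    NonAbH1.IsTorsorFor Scheme.zariskiPrecoverage a := by
  refine ⟨h.1, ?_⟩
  have key : ∀ s : S, ∃ (T : Scheme.{u}) (f : T ⟶ S), IsOpenImmersion f ∧ s ∈ Set.range f ∧
      NonAbH1.HasSectionOver X f := by
    intro s
    obtain ⟨U, hU, hsU, -⟩ := exists_isAffineOpen_mem_and_subset (X := S) (x := s) (U := ⊤) trivial
    obtain ⟨V, hV, hsec⟩ := exists_section_nhd h U hU ⟨s, hsU⟩
    exact ⟨V.toScheme, V.ι ≫ U.ι, inferInstance, ⟨⟨⟨s, hsU⟩, hV⟩, rfl⟩, hsec⟩
  choose T f hf hs hsec using key
  refine ⟨Presieve.ofArrows T f, ?_, ?_⟩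
  · rw [Scheme.zariskiPrecoverage, Scheme.ofArrows_mem_precoverage_iff]
    exact ⟨fun s => ⟨s, hs s⟩, hf⟩
  · rintro _ _ ⟨s⟩
    exact hsec s

end Groth.Agent.S6005
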