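import Groth.Statements.S6006
import Groth.Agent.Lib.Torsor21.EigenFn
import Groth.Agent.Lib.DiagGrp.Points
import Groth.Agent.Lib.Torsor21.ASPoly
import Groth.Agent.Lib.RedPts.Ga
import Groth.Agent.S6004
import Mathlib.Tactic.Group

set_option autoImplicit false
universe u
open CategoryTheory AlgebraicGeometry
open SGA1

namespace Groth.Agent.S6006

set_option backward.isDefEq.respectTransparency false
set_option backward.isDefEq.respectTransparency.types false

open CategoryTheory.Limits MonoidalCategory CartesianMonoidalCategory MonObj GrpObj GrothLib.Torsor21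

/-- The additive group is flat and affine. -/
theorem flat_gaZ : Flat Red.GaZ.{u}.hom ∧ IsAffineHom Red.GaZ.{u}.hom := by
  refine ⟨?_, inferInstanceAs (IsAffineHom (Spec.map _))⟩
  change Flat (Spec.map (CommRingCat.ofHom (algebraMap (ULift.{u} ℤ) GrothLib.RedPts.GaCoord.{u})))
  rw [Flat.SpecMap_iff, CommRingCat.hom_ofHom]
  have hb : Function.Bijective (Polynomial.eval₂RingHom (algebraMap (ULift.{u} ℤ) GrothLib.RedPts.GaCoord.{u})
      GrothLib.RedPts.gaGen) := by
    let a' : GrothLib.RedPts.GaCoord.{u} →+* Polynomial (ULift.{u} ℤ) := GrothLib.RedPts.gaHomOfFn Polynomial.X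
    refine ⟨Function.LeftInverse.injective (g := a') (fun z => ?_),
      Function.RightInverse.surjective (g := a') (fun z => ?_)⟩
    · have : a'.comp (Polynomial.eval₂RingHom (algebraMap (ULift.{u} ℤ) GrothLib.RedPts.GaCoord.{u})
          GrothLib.RedPts.gaGen) = RingHom.id _ := by
        refine Polynomial.ringHom_ext (fun r => ?_) ?_
        · exact RingHom.congr_fun (GrothLib.DiagGrp.ulift_int_hom_ext ((a'.comp _).comp Polynomial.C) Polynomial.C) r
        · simp [a', GrothLib.RedPts.gaHomOfFn_gen]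
      exact RingHom.congr_fun this z
    · have : (Polynomial.eval₂RingHom (algebraMap (ULift.{u} ℤ) GrothLib.RedPts.GaCoord.{u})
          GrothLib.RedPts.gaGen).comp a' = RingHom.id _ := by
        refine GrothLib.RedPts.ringHom_ext_gen ?_
        simp [a', GrothLib.RedPts.gaHomOfFn_gen]
      exact RingHom.congr_fun this z
  have e : algebraMap (ULift.{u} ℤ) GrothLib.RedPts.GaCoord.{u} = (Polynomial.eval₂RingHom (algebraMap (ULift.{u} ℤ)
      GrothLib.RedPts.GaCoord.{u}) GrothLib.RedPts.gaGen).comp Polynomial.C := RingHom.ext fun r => by simp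
  rw [e]
  refine RingHom.Flat.stableUnderComposition _ _ ?_ (RingHom.Flat.of_bijective hb)
  exact RingHom.flat_algebraMap_iff.mpr (inferInstanceAs (Module.Flat (ULift.{u} ℤ) (Polynomial (ULift.{u} ℤ))))

/-- An fpqc torsor under the additive group has a section over each affine open. -/
theorem exists_section {S : Scheme.{u}} {X : Over S} {a : AlgGrp.Action (Red.Ga S) X}
    (h : NonAbH1.IsTorsorFor Scheme.fpqcPrecoverage a) (U : S.Opens) (hU : IsAffineOpen U) :
    NonAbH1.HasSectionOver X U.ι := by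
  obtain ⟨_, _⟩ := flat_gaZ.{u}
  haveI : Flat (Red.Ga S).hom := MorphismProperty.pullback_snd (P := @Flat) Red.GaZ.hom _ ‹_›
  haveI : IsAffineHom (Red.Ga S).hom := MorphismProperty.pullback_snd (P := @IsAffineHom) Red.GaZ.hom _ ‹_›
  obtain ⟨hXa, hXf⟩ := Groth.Agent.S6004.result (Red.Ga S) X a h
  haveI hXs : Surjective X.hom := GrothLib.Torsor21.surjective_hom h
  haveI : IsAffine (U : Scheme.{u}) := hU
  haveI : IsAffineHom (resπ X U) := MorphismProperty.pullback_snd _ _ hXa
  haveI : Flat (resπ X U) := MorphismProperty.pullback_snd _ _ hXf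
  haveI : Surjective (resπ X U) := MorphismProperty.pullback_snd _ _ hXs
  haveI : IsAffine (resY U X).left := isAffine_of_isAffineHom (resπ X U)
  haveI : IsAffineHom (snd (Red.Ga S) (resY U X)).left :=
    MorphismProperty.pullback_snd (P := @IsAffineHom) (Red.Ga S).hom (resY U X).hom inferInstance
  haveI : IsAffine (resZ (Red.Ga S) X U).left := isAffine_of_isAffineHom (snd (Red.Ga S) (resY U X)).left
  obtain ⟨g, A, P, hA1, hA2, hP1, hP2, hg, hAg⟩ := translate_diff U h.1
  let gZ := Red.gaFn (fst (Red.Ga S) (resY U X))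
  have hff : (resπ X U).appTop.hom.FaithfullyFlat := by
    rw [RingHom.FaithfullyFlat.iff_flat_and_comap_surjective]
    refine ⟨(resπ X U).flat_appTop, ?_⟩
    haveI : Surjective (Spec.map (resπ X U).appTop) := by
      rw [← (Iso.inv_comp_eq _).2 (Scheme.isoSpec_hom_naturality (resπ X U)).symm]
      infer_instance
    exact (Spec.map (resπ X U).appTop).surjective
  obtain ⟨w, hw⟩ : ∃ w : Γ((resY U X).left, ⊤),
      (resAct a U).appTop w = (snd (Red.Ga S) (resY U X)).left.appTop w + gZ := by
    refine exists_of_affine_eigen (isPushout_appTop_of_isPullback (IsPullback.of_hasPullback (resπ X U) (resπ X U)))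
      (isPushout_appTop_of_isPullback (IsPullback.of_hasPullback (resζ (Red.Ga S) X U) (resπ X U)))
      hff (resAct a U).appTop (snd (Red.Ga S) (resY U X)).left.appTop ?_ ?_
      A.left.appTop P.left.appTop ?_ ?_ ?_ ?_ gZ (Red.gaFn g) ?_
    · rw [← Scheme.Hom.comp_appTop, resAct_π]
    · rw [← Scheme.Hom.comp_appTop]
    · rw [← Scheme.Hom.comp_appTop, ← Scheme.Hom.comp_appTop]
      exact congrArg Scheme.Hom.appTop hA1
    · rw [← Scheme.Hom.comp_appTop]
      exact congrArg Scheme.Hom.appTop hA2
    · rw [← Scheme.Hom.comp_appTop, ← Scheme.Hom.comp_appTop]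
      exact congrArg Scheme.Hom.appTop hP1
    · rw [← Scheme.Hom.comp_appTop]
      exact congrArg Scheme.Hom.appTop hP2
    · have e := congrArg Red.gaFn hAg
      rw [GrothLib.RedPts.gaFn_mul, GrothLib.RedPts.gaFn_comp, GrothLib.RedPts.gaFn_comp,
        GrothLib.RedPts.gaFn_comp, add_comm] at e
      exact e
  let Om : Over S := Over.mk (resπ X U ≫ U.ι)
  let j : Om ⟶ resY U X := Over.homMk (𝟙 _) (by
    change 𝟙 _ ≫ (resY U X).hom = resπ X U ≫ U.ι
    rw [Category.id_comp, resπ_ι])
  let t : Om ⟶ Red.Ga S := GrothLib.RedPts.gaPt (- j.left.appTop w)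
  refine hasSectionOver_of_invariant (resπ X U) U.ι (lift t (j ≫ resPt X U) ≫ a.act) fun {Z} c d hcd => ?_
  let C : Over S := Over.mk (c ≫ resπ X U ≫ U.ι)
  let c' : C ⟶ Om := Over.homMk c rfl
  let d' : C ⟶ Om := Over.homMk d (by
    change d ≫ resπ X U ≫ _ = c ≫ resπ X U ≫ _
    rw [reassoc_of% hcd])
  obtain ⟨g', hg'⟩ := GrothLib.TorsorDesc.exists_act_eq h.1 (c' ≫ j ≫ resPt X U) (d' ≫ j ≫ resPt X U)
  let z : C ⟶ resZ (Red.Ga S) X U := lift g' (d' ≫ j)
  have hz : z.left ≫ resAct a U = (c' ≫ j).left := by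
    apply pullback.hom_ext
    · rw [Category.assoc, resAct_fst]
      have e : z ≫ resActPt a U = (c' ≫ j) ≫ resPt X U := by
        rw [Category.assoc, ← hg', resActPt, comp_lift_assoc, lift_fst, lift_snd_assoc, Category.assoc]
      exact congrArg CommaMorphism.left e
    · rw [Category.assoc, resAct_π]
      change z.left ≫ (snd (Red.Ga S) (resY U X)).left ≫ resπ X U = _
      rw [← Category.assoc, ← Over.comp_left, lift_snd]
      change (d ≫ 𝟙 _) ≫ resπ X U = (c ≫ 𝟙 _) ≫ resπ X U
      simp only [Category.comp_id, hcd]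
  have e := congrArg z.left.appTop hw
  rw [map_add, ← GmPts.appTop_comp_apply, hz, ← GmPts.appTop_comp_apply, ← Over.comp_left, lift_snd,
    ← GrothLib.RedPts.gaFn_comp, lift_fst] at e
  suffices c' ≫ lift t (j ≫ resPt X U) ≫ a.act = d' ≫ lift t (j ≫ resPt X U) ≫ a.act from
    congrArg CommaMorphism.left this
  rw [comp_lift_assoc, comp_lift_assoc, ← hg', ← GrothLib.DiagGrp.act_mul]
  congr 2
  apply GrothLib.RedPts.gaFn_injective
  rw [GrothLib.RedPts.gaFn_mul, GrothLib.RedPts.gaFn_comp, GrothLib.RedPts.gaFn_comp, GrothLib.RedPts.gaFn_gaPt,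
    map_neg, map_neg, ← GmPts.appTop_comp_apply, ← GmPts.appTop_comp_apply, ← Over.comp_left, ← Over.comp_left, e]
  ring

/-- Every principal homogeneous bundle under the additive group over S (a pseudo-torsor which acquires
sections on the members of some fpqc covering family of S) is locally trivial, i.e. is a torsor for
the Zariski topology: S is covered by open subschemes over which it acquires sections. -/
theorem result {S : Scheme.{u}} (X : Over S)
    (a : AlgGrp.Action (Red.Ga S) X) (h : NonAbH1.IsTorsorFor Scheme.fpqcPrecoverage a) :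
    NonAbH1.IsTorsorFor Scheme.zariskiPrecoverage a := by
  refine ⟨h.1, ?_⟩
  have key : ∀ s : S, ∃ (U : S.Opens), s ∈ U ∧ NonAbH1.HasSectionOver X U.ι := by
    intro s
    obtain ⟨U, hU, hsU, -⟩ := exists_isAffineOpen_mem_and_subset (X := S) (x := s) (U := ⊤) trivial
    exact ⟨U, hsU, exists_section h U hU⟩
  choose T hs hsec using key
  refine ⟨Presieve.ofArrows (fun s => (T s).toScheme) (fun s => (T s).ι), ?_, ?_⟩
  · rw [Scheme.zariskiPrecoverage, Scheme.ofArrows_mem_precoverage_iff]
    exact ⟨fun s => ⟨s, ⟨s, hs s⟩, rfl⟩, fun s => inferInstance⟩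
  · rintro _ _ ⟨s⟩
    exact hsec s

end Groth.Agent.S6006
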