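import Groth.Statements.S1489
import Mathlib.AlgebraicGeometry.Morphisms.FlatMono
import Mathlib.AlgebraicGeometry.Morphisms.UniversallyInjective
import Mathlib.RingTheory.Spectrum.Prime.Topology


set_option autoImplicit false
universe u
open FlatMor

namespace Groth.Agent.S1489

open AlgebraicGeometry CategoryTheory Limits MorphismProperty

lemma universallyInjective_of_comp {X Y Z : Scheme.{u}} (f : X ⟶ Y) (g : Y ⟶ Z) [Surjective f]
    [UniversallyInjective (f ≫ g)] : UniversallyInjective g := by
  rw [UniversallyInjective.iff_diagonal]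
  have h1 : Surjective (pullback.diagonal (f ≫ g)) :=
    (UniversallyInjective.iff_diagonal _).mp inferInstance
  have h2 : Surjective (pullback.map (f ≫ g) (f ≫ g) g g f f (𝟙 Z) (by simp) (by simp)) :=
    MorphismProperty.pullbackMap (P := @Surjective) inferInstance inferInstance rfl rfl
  have h3 : pullback.diagonal (f ≫ g) ≫ pullback.map (f ≫ g) (f ≫ g) g g f f (𝟙 Z) (by simp) (by simp)
      = f ≫ pullback.diagonal g := by
    apply pullback.hom_ext <;> simp [pullback.map, pullback.lift_fst, pullback.lift_snd]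
  have : Surjective (f ≫ pullback.diagonal g) := by rw [← h3]; infer_instance
  exact .of_comp f _

/-- Sections over a nilpotent thickening of an étale map extend uniquely. -/
lemma existsUnique_section {Z T P : Scheme.{u}} (i : Z ⟶ T) [IsClosedImmersion i] [Surjective i]
    (p : P ⟶ T) [Etale p] (s : Z ⟶ P) (hs : s ≫ p = i) :
    ∃! t : T ⟶ P, t ≫ p = 𝟙 T ∧ i ≫ t = s := by
  have : Surjective (pullback.fst p i) :=
    MorphismProperty.pullback_fst (P := @Surjective) _ _ inferInstance
  have : IsClosedImmersion (pullback.fst p i) :=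
    MorphismProperty.pullback_fst (P := @IsClosedImmersion) _ _ inferInstance
  let σ : Z ⟶ pullback p i := pullback.lift s (𝟙 Z) (by simpa using hs)
  have : Etale (σ ≫ pullback.snd p i) := by
    rw [pullback.lift_snd]; infer_instance
  have : Etale σ := Etale.of_comp σ (pullback.snd p i)
  have hopen : IsOpen (Set.range s) := by
    have h1 : IsHomeomorph (pullback.fst p i) :=
      ⟨(pullback.fst p i).continuous,
        fun U hU ↦ by
          have hcl : IsClosedMap (pullback.fst p i) :=
            (pullback.fst p i).isClosedEmbedding.isClosedMap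
          have := hcl Uᶜ hU.isClosed_compl
          rw [Set.image_compl_eq ⟨(pullback.fst p i).isClosedEmbedding.injective,
            (pullback.fst p i).surjective⟩] at this
          exact isClosed_compl_iff.mp this,
        ⟨(pullback.fst p i).isClosedEmbedding.injective, (pullback.fst p i).surjective⟩⟩
    have h2 : Set.range s = pullback.fst p i '' Set.range σ := by
      rw [← Set.range_comp]
      congr 1
      funext z
      rw [Function.comp_apply, ← Scheme.Hom.comp_apply, pullback.lift_fst]
    rw [h2]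
    exact h1.isOpenMap _ σ.isOpenMap.isOpen_range
  let W : P.Opens := ⟨Set.range s, hopen⟩
  let s' : Z ⟶ W := IsOpenImmersion.lift W.ι s (by simp [W])
  have hs' : s' ≫ W.ι = s := IsOpenImmersion.lift_fac _ _ _
  let g : (W : Scheme) ⟶ T := W.ι ≫ p
  have hg : s' ≫ g = i := by simp [g, reassoc_of% hs', hs]
  have : Surjective s' := ⟨fun w ↦ by
    obtain ⟨z, hz⟩ := w.2
    exact ⟨z, W.ι.injective (by rw [← Scheme.Hom.comp_apply, hs', hz]; simp)⟩⟩
  have : UniversallyInjective (s' ≫ g) := by rw [hg]; infer_instance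
  have : UniversallyInjective g := universallyInjective_of_comp s' g
  have : Surjective g := by
    have : Surjective (s' ≫ g) := by rw [hg]; infer_instance
    exact .of_comp s' g
  have : IsIso (pullback.diagonal g) := by
    have := (UniversallyInjective.iff_diagonal g).mp inferInstance
    exact (isIso_iff_isOpenImmersion_and_epi_base _).mpr ⟨inferInstance,
      (TopCat.epi_iff_surjective _).mpr (pullback.diagonal g).surjective⟩
  have : Mono g := (pullback.isIso_diagonal_iff g).mp inferInstance
  have : IsOpenImmersion g := IsOpenImmersion.of_flat_of_mono g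
  have : IsIso g := (isIso_iff_isOpenImmersion_and_epi_base _).mpr ⟨inferInstance,
      (TopCat.epi_iff_surjective _).mpr g.surjective⟩
  refine ⟨inv g ≫ W.ι, ⟨?_, ?_⟩, ?_⟩
  · simpa [g] using IsIso.inv_hom_id g
  · rw [← hg]; simp [hs']
  · rintro t ⟨ht, hit⟩
    have hr : Set.range t ⊆ Set.range W.ι := by
      rintro _ ⟨x, rfl⟩
      obtain ⟨z, rfl⟩ := i.surjective x
      refine ⟨s' z, ?_⟩
      rw [← Scheme.Hom.comp_apply, hs', ← hit]
      rfl
    obtain ⟨t', ht'⟩ : ∃ t' : T ⟶ W, t' ≫ W.ι = t :=
      ⟨IsOpenImmersion.lift W.ι t hr, IsOpenImmersion.lift_fac _ _ _⟩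
    subst ht'
    congr 1
    rw [← cancel_mono g, IsIso.inv_hom_id]
    simpa [g] using ht

lemma isFormallyEtaleHom_of_etale {X S : Scheme.{u}} (f : X ⟶ S) [Etale f] :
    MoreMor.IsFormallyEtaleHom f := by
  intro A _ I hI a b w
  have hsurj : Surjective (Spec.map (CommRingCat.ofHom (Ideal.Quotient.mk I))) := ⟨fun x ↦ by
    have hle : I ≤ x.asIdeal := fun y hy ↦ x.isPrime.mem_of_pow_mem 2
      (show y ^ 2 ∈ x.asIdeal by
        have : y ^ 2 ∈ I ^ 2 := Ideal.pow_mem_pow hy 2
        rw [hI] at this
        simp [(Submodule.mem_bot A).mp this])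
    have : x ∈ Set.range (PrimeSpectrum.comap (Ideal.Quotient.mk I)) := by
      rw [range_comap_of_surjective _ _ Ideal.Quotient.mk_surjective, Ideal.mk_ker]
      exact hle
    exact this⟩
  have : IsClosedImmersion (Spec.map (CommRingCat.ofHom (Ideal.Quotient.mk I))) :=
    IsClosedImmersion.spec_of_surjective _ Ideal.Quotient.mk_surjective
  obtain ⟨t, ⟨ht, hit⟩, huniq⟩ := existsUnique_section
    (Spec.map (CommRingCat.ofHom (Ideal.Quotient.mk I))) (pullback.snd f b)
    (pullback.lift a _ w.symm) (pullback.lift_snd _ _ _)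
  refine ⟨t ≫ pullback.fst f b, ⟨?_, ?_⟩, ?_⟩
  · rw [reassoc_of% hit, pullback.lift_fst]
  · rw [Category.assoc, pullback.condition, reassoc_of% ht]
  · rintro l ⟨hl, hlf⟩
    rw [← huniq (pullback.lift l (𝟙 _) (by simpa using hlf)) ⟨pullback.lift_snd _ _ _, ?_⟩,
      pullback.lift_fst]
    apply pullback.hom_ext
    · rw [Category.assoc, pullback.lift_fst, pullback.lift_fst, hl]
    · rw [Category.assoc, pullback.lift_snd, pullback.lift_snd, Category.comp_id]

lemma formallyEtale_of_lift {R B : CommRingCat.{u}} (φ : R ⟶ B)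
    (H : MoreMor.IsFormallyEtaleHom (Spec.map φ)) : φ.hom.FormallyEtale := by
  algebraize [φ.hom]
  rw [RingHom.FormallyEtale, Algebra.FormallyEtale.iff_comp_bijective]
  intro C _ _ I hI
  have key : ∀ g : B →ₐ[R] C ⧸ I, ∃! l : B →ₐ[R] C, (Ideal.Quotient.mkₐ R I).comp l = g := by
    intro g
    obtain ⟨l, ⟨hl, hlf⟩, huniq⟩ := H C I hI (Spec.map (CommRingCat.ofHom g.toRingHom))
      (Spec.map (CommRingCat.ofHom (algebraMap R C)))
      (by
        rw [← Spec.map_comp, ← Spec.map_comp]
        congr 1
        ext r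
        exact (g.commutes r).symm)
    obtain ⟨ψ, rfl⟩ := Spec.map_surjective l
    rw [← Spec.map_comp] at hl hlf
    replace hl := Spec.map_injective hl
    replace hlf := Spec.map_injective hlf
    refine ⟨⟨ψ.hom, fun r ↦ congr($(hlf) r)⟩, AlgHom.ext fun x ↦ congr($(hl) x), fun m hm ↦ ?_⟩
    have := huniq (Spec.map (CommRingCat.ofHom m.toRingHom)) ⟨by
        rw [← Spec.map_comp]; congr 1; ext x; exact congr($(hm) x), by
        rw [← Spec.map_comp]; congr 1; ext r; exact m.commutes r⟩
    exact AlgHom.ext fun x ↦ congr($(Spec.map_injective this) x)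
  exact ⟨fun l₁ l₂ h ↦ (key _).unique h rfl, fun g ↦ (key g).exists⟩

lemma isFormallyEtaleHom_restrict {U X V S : Scheme.{u}} (f : X ⟶ S) (j : U ⟶ X) (k : V ⟶ S)
    [IsOpenImmersion j] [Mono k] (g : U ⟶ V) (hg : g ≫ k = j ≫ f)
    (H : MoreMor.IsFormallyEtaleHom f) : MoreMor.IsFormallyEtaleHom g := by
  intro A _ I hI a b w
  obtain ⟨l, ⟨hl, hlf⟩, huniq⟩ := H A I hI (a ≫ j) (b ≫ k)
    (by rw [reassoc_of% w, Category.assoc, hg])
  have hr : Set.range l ⊆ Set.range j := by
    rintro _ ⟨x, rfl⟩
    have hle : I ≤ x.asIdeal := fun y hy ↦ x.isPrime.mem_of_pow_mem 2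
      (show y ^ 2 ∈ x.asIdeal by
        have : y ^ 2 ∈ I ^ 2 := Ideal.pow_mem_pow hy 2
        rw [hI] at this
        simp [(Submodule.mem_bot A).mp this])
    obtain ⟨z, rfl⟩ : x ∈ Set.range (Spec.map (CommRingCat.ofHom (Ideal.Quotient.mk I))) := by
      have : x ∈ Set.range (PrimeSpectrum.comap (Ideal.Quotient.mk I)) := by
        rw [range_comap_of_surjective _ _ Ideal.Quotient.mk_surjective, Ideal.mk_ker]
        exact hle
      exact this
    exact ⟨a z, by rw [← Scheme.Hom.comp_apply, ← hl]; rfl⟩
  refine ⟨IsOpenImmersion.lift j l hr, ⟨?_, ?_⟩, ?_⟩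
  · rw [← cancel_mono j, Category.assoc, IsOpenImmersion.lift_fac, hl]
  · rw [← cancel_mono k, Category.assoc, hg, IsOpenImmersion.lift_fac_assoc, hlf]
  · rintro m ⟨hm, hmg⟩
    rw [← cancel_mono j, IsOpenImmersion.lift_fac]
    exact huniq _ ⟨by rw [reassoc_of% hm], by rw [Category.assoc, ← hg, reassoc_of% hmg]⟩

open AlgebraicGeometry CategoryTheory Limits in
/-- A morphism f : X → S is étale if and only if it is locally of finite presentation and formally
étale, i.e. has the unique lifting property against first order thickenings of affine schemes (rings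
in the same universe). -/
theorem result {X S : Scheme.{u}} (f : X ⟶ S) :
    Etale f ↔ LocallyOfFinitePresentation f ∧ MoreMor.IsFormallyEtaleHom f := by
  refine ⟨fun h ↦ ⟨inferInstance, isFormallyEtaleHom_of_etale f⟩, fun ⟨hfp, H⟩ ↦ ⟨?_⟩⟩
  intro U hU V hV e
  have h1 : (f.appLE U V e).hom.FormallyEtale := by
    apply formallyEtale_of_lift
    exact isFormallyEtaleHom_restrict f hV.fromSpec hU.fromSpec _
      (IsAffineOpen.SpecMap_appLE_fromSpec f hU hV e) H
  have h2 : (f.appLE U V e).hom.FinitePresentation :=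
    f.finitePresentation_appLE hU hV e
  algebraize [(f.appLE U V e).hom]
  exact RingHom.etale_algebraMap.mpr ⟨h1, h2⟩

end Groth.Agent.S1489
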