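import Groth.Statements.S5354
import Mathlib
import Groth.Agent.Lib.GrpSchField.Shear
import Groth.Agent.Lib.AlgSp.FieldBase

set_option autoImplicit false
universe u
open CategoryTheory CategoryTheory.Limits MonoidalCategory CartesianMonoidalCategory MonObj GrpObj AlgebraicGeometry
open SGA3

namespace Groth.Agent.S5354

/-- Let G be a group scheme over a field k (not assumed of finite type). For every point x of G there is
a point z of G ×_k G with product x whose two projections are maximal points of G (generic points of
irreducible components). -/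
theorem result (k : Type u) [Field k] (G : Over (Spec (CommRingCat.of k))) [GrpObj G] (x : G.left) :
    ∃ z : ↥(G ⊗ G).left, μ[G].left.base z = x ∧
      closure {(fst G G).left.base z} ∈ irreducibleComponents ↥G.left ∧
      closure {(snd G G).left.base z} ∈ irreducibleComponents ↥G.left := by
  let sf := GrothLib.GrpSchField.shear (GrothLib.GrpSchField.mulAction G)
  let ss : G ⊗ G ≅ G ⊗ G :=
    { hom := lift μ[G] (snd G G)
      inv := lift (fst G G * (snd G G)⁻¹) (snd G G)
      hom_inv_id := by
        rw [comp_lift, MonObj.comp_mul, GrpObj.comp_inv, lift_fst, lift_snd,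
          show μ[G] = fst G G * snd G G by rw [Hom.mul_def, lift_fst_snd, Category.id_comp],
          _root_.mul_inv_cancel_right, lift_fst_snd]
      inv_hom_id := by
        rw [comp_lift, lift_snd,
          show μ[G] = fst G G * snd G G by rw [Hom.mul_def, lift_fst_snd, Category.id_comp],
          MonObj.comp_mul, lift_fst, lift_snd, _root_.inv_mul_cancel_right, lift_fst_snd] }
  have hf : IsPullback (fst G G).left μ[G].left G.hom G.hom := by
    refine (IsPullback.of_hasPullback G.hom G.hom).of_iso ((Over.forget _).mapIso sf.symm) (Iso.refl _) (Iso.refl _)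
      (Iso.refl _) ?_ ?_ (by simp) (by simp)
    · simp only [Functor.mapIso_hom, Iso.symm_hom, Over.forget_map, Iso.refl_hom, Category.comp_id]
      show (fst G G).left = _
      rw [← Over.comp_left]
      congr 1
      rw [Iso.eq_inv_comp]
      exact GrothLib.GrpSchField.shear_hom_fst _
    · simp only [Functor.mapIso_hom, Iso.symm_hom, Over.forget_map, Iso.refl_hom, Category.comp_id]
      show (snd G G).left = _
      rw [← Over.comp_left]
      congr 1
      rw [Iso.eq_inv_comp]
      exact GrothLib.GrpSchField.shear_hom_snd _
  have hs : IsPullback μ[G].left (snd G G).left G.hom G.hom := by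
    refine (IsPullback.of_hasPullback G.hom G.hom).of_iso ((Over.forget _).mapIso ss.symm) (Iso.refl _) (Iso.refl _)
      (Iso.refl _) ?_ ?_ (by simp) (by simp)
    · simp only [Functor.mapIso_hom, Iso.symm_hom, Over.forget_map, Iso.refl_hom, Category.comp_id]
      show (fst G G).left = _
      rw [← Over.comp_left]
      congr 1
      rw [Iso.eq_inv_comp]
      exact lift_fst _ _
    · simp only [Functor.mapIso_hom, Iso.symm_hom, Over.forget_map, Iso.refl_hom, Category.comp_id]
      show (snd G G).left = _
      rw [← Over.comp_left]
      congr 1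
      rw [Iso.eq_inv_comp]
      exact lift_snd _ _
  let q := G.left.fromSpecResidueField x
  let P := Limits.pullback μ[G].left q
  let j : P ⟶ (G ⊗ G).left := Limits.pullback.fst _ _
  haveI : Flat (q ≫ G.hom) := GrothLib.AlgSp.flat_to_field _
  haveI hfl : Flat (j ≫ (fst G G).left) :=
    MorphismProperty.of_isPullback (P := @Flat)
      ((IsPullback.of_hasPullback μ[G].left q).flip.paste_vert hf.flip) inferInstance
  haveI hsl : Flat (j ≫ (snd G G).left) :=
    MorphismProperty.of_isPullback (P := @Flat)
      ((IsPullback.of_hasPullback μ[G].left q).flip.paste_vert hs) inferInstance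
  have hsurj : ∃ w : ↥(G ⊗ G).left, μ[G].left.base w = x := by
    obtain ⟨w, hw, -⟩ := Scheme.Pullback.exists_preimage_pullback (f := G.hom) (g := G.hom) x
      (η[G].left.base (G.hom.base x)) (by
        rw [← Scheme.Hom.comp_apply, GrothLib.GrpSchField.eta_left_hom]
        rfl)
    obtain ⟨v, rfl⟩ := hs.isoPullback.hom.homeomorph.surjective w
    exact ⟨v, (congrArg (fun φ => φ.base v) hs.isoPullback_hom_fst.symm).trans hw⟩
  obtain ⟨w, hw⟩ := hsurj
  obtain ⟨z₀, -, -⟩ := Scheme.Pullback.exists_preimage_pullback (f := μ[G].left) (g := q) w default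
    (hw.trans (G.left.fromSpecResidueField_apply x _).symm)
  obtain ⟨z, hz⟩ : ∃ z : P, z ∈ genericPoints P :=
    ⟨_, (genericPoints.ofComponent (α := P) ⟨_, irreducibleComponent_mem_irreducibleComponents z₀⟩).2⟩
  have key : ∀ (a : P ⟶ G.left), Flat a → closure {a.base z} ∈ irreducibleComponents ↥G.left := by
    intro a ha
    have hgen : GeneralizingMap a.base := Flat.generalizingMap a
    refine ⟨isIrreducible_singleton.closure, fun Z hZ hle => ?_⟩
    obtain ⟨η', hη'⟩ := QuasiSober.sober hZ.closure isClosed_closure
    have h1 : η' ⤳ a.base z := hη'.specializes (subset_closure (hle (subset_closure rfl)))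
    obtain ⟨z', hz', hz'η⟩ := hgen h1
    have h2 : closure {z'} = closure {z} :=
      subset_antisymm (hz.2 isIrreducible_singleton.closure hz'.closure_subset) hz'.closure_subset
    rw [← ((inseparable_iff_closure_eq.2 h2).eq), hz'η]
    exact (subset_closure).trans hη'.def.ge
  have h0 := congrArg (fun φ => φ.base z) (Limits.pullback.condition (f := μ[G].left) (g := q))
  have h1 := key _ hfl
  have h2 := key _ hsl
  simp only [Scheme.Hom.comp_base, TopCat.hom_comp, ContinuousMap.comp_apply, Scheme.Hom.comp_apply] at h0 h1 h2
  exact ⟨j.base z, h0.trans (G.left.fromSpecResidueField_apply x _), h1, h2⟩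

end Groth.Agent.S5354
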