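import Groth.Statements.S5355
import Groth.Agent.Lib.LocNoeth.Scheme
import Groth.Agent.Lib.GrpSchField.Open
import Groth.Agent.Lib.FibreLocus.Translate
import Groth.Agent.Lib.AlgSp.SingletonSpace
import Groth.Agent.S5354
import Mathlib

set_option autoImplicit false
universe u
open CategoryTheory CategoryTheory.Limits MonoidalCategory CartesianMonoidalCategory MonObj GrpObj AlgebraicGeometry
open SGA3

namespace Groth.Agent.S5355

/-- Let f : G → H be a homomorphism of group schemes over a field k (not assumed of finite type) which
is quasi-compact and dominant. Then (i) f is surjective; (ii) if H is reduced, f is flat (hence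
faithfully flat). -/
theorem result (k : Type u) [Field k] (G H : Over (Spec (CommRingCat.of k))) [GrpObj G] [GrpObj H]
    (f : G ⟶ H) [IsMonHom f] [QuasiCompact f.left] (hf : DenseRange f.left.base) :
    Surjective f.left ∧ (IsReduced H.left → Flat f.left) := by
  have hm : ∀ y : H.left, closure {y} ∈ irreducibleComponents ↥H.left → y ∈ Set.range f.left := fun y hy =>
    GrothLib.LocNoeth.mem_range_of_maximal f.left hy (hf y)
  have hs : Surjective f.left := ⟨fun x => by
    obtain ⟨z, hz, h1, h2⟩ := Groth.Agent.S5354.result k H x
    rw [← hz]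
    exact GrothLib.GrpSchField.mem_range_of_pair (ψ := f) (f := μ[H]) (f' := μ[G]) (IsMonHom.mul_hom f).symm
      (hm _ h1) (hm _ h2)⟩
  refine ⟨hs, fun _ => ?_⟩
  haveI : Flat G.hom := GrothLib.AlgSp.flat_to_field _
  let x₀ : H.left := η[H].left.base (IsLocalRing.closedPoint k)
  let C : irreducibleComponents ↥H.left :=
    ⟨irreducibleComponent x₀, irreducibleComponent_mem_irreducibleComponents x₀⟩
  obtain ⟨y, hy⟩ : ∃ y : H.left, y ∈ genericPoints H.left := ⟨_, (genericPoints.ofComponent C).2⟩
  obtain ⟨g, rfl⟩ := hs.surj y
  refine GrothLib.FibreLocus.flat_hom_of_flat_at f g ?_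
  have hF := isField_stalk_of_closure_mem_irreducibleComponents H.left _ hy
  letI := hF.toField
  algebraize [(f.left.stalkMap g).hom]
  exact (inferInstance : Module.Flat (H.left.presheaf.stalk (f.left g)) (G.left.presheaf.stalk g))

end Groth.Agent.S5355
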