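import Groth.Statements.S5366
import Groth.Agent.Lib.GrpSchField.DensePtsSmooth

set_option autoImplicit false
universe u
open CategoryTheory CategoryTheory.Limits MonoidalCategory CartesianMonoidalCategory MonObj GrpObj AlgebraicGeometry
open SGA3

open scoped commutatorElement

namespace Groth.Agent.S5366

/-- (i) ⟺ (iii): let G be a smooth group scheme of finite type over a field k, Ω an algebraically closed
extension field of k and n a natural number. Then G is solvable of class n (the n-th term of the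
derived series of the group G(T) is trivial for every k-scheme T) if and only if the n-th term of
the derived series of the group of Ω-points G(Ω) is trivial; and G is nilpotent of class n (the n-th
term of the lower central series of G(T) is trivial for every T) if and only if the n-th term of the
lower central series of G(Ω) is trivial. -/
theorem result (k : Type u) [Field k] (G : Over (Spec (CommRingCat.of k))) [GrpObj G]
    [Smooth G.hom] [QuasiCompact G.hom] (Ω : Type u) [Field Ω] [Algebra k Ω] [IsAlgClosed Ω] (n : ℕ) :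
    ((∀ T : Over (Spec (CommRingCat.of k)), derivedSeries (T ⟶ G) n = ⊥) ↔ derivedSeries ((Over.mk (Spec.map (CommRingCat.ofHom (algebraMap k Ω))) : Over (Spec (CommRingCat.of k))) ⟶ G) n = ⊥) ∧
    ((∀ T : Over (Spec (CommRingCat.of k)), Subgroup.lowerCentralSeries (⊤ : Subgroup (T ⟶ G)) n = ⊥) ↔ Subgroup.lowerCentralSeries (⊤ : Subgroup (((Over.mk (Spec.map (CommRingCat.ofHom (algebraMap k Ω))) : Over (Spec (CommRingCat.of k))) ⟶ G))) n = ⊥) := by
  have hsep := GrothLib.GrpSchField.isSeparated G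
  let Op : Over (Spec (CommRingCat.of k)) := Over.mk (Spec.map (CommRingCat.ofHom (algebraMap k Ω)))
  -- words with values in `G`
  have key : ∀ (P : Over (Spec (CommRingCat.of k))) (w : P ⟶ G), Smooth P.hom →
      ((∀ (x : Op ⟶ P), x ≫ w = 1) ↔ ∀ (T : Over (Spec (CommRingCat.of k))) (x : T ⟶ P), x ≫ w = 1) := by
    intro P w hP
    refine ⟨fun h T x => ?_, fun h x => h _ x⟩
    have hw : w = 1 :=
      (GrothLib.GrpSchField.densePts_of_smooth (A := P) (K := Ω)).hom_ext fun x => by
        rw [MonObj.comp_one]; exact h x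
    rw [hw, MonObj.comp_one]
  have comm_conj : ∀ {M : Type u} [Group M] (g a b : M), g * ⁅a, b⁆ * g⁻¹ = ⁅g * a * g⁻¹, g * b * g⁻¹⁆ := by
    intro M _ g a b
    simp [commutatorElement_def, _root_.mul_assoc]
  have closure_comm : ∀ {M : Type u} [Group M] (A B C : Set M), (Subgroup.closure C).Normal →
      (∀ a ∈ A, ∀ b ∈ B, ⁅a, b⁆ ∈ C) → ⁅Subgroup.closure A, Subgroup.closure B⁆ ≤ Subgroup.closure C := by
    intro M _ A B C hN h
    rw [Subgroup.commutator_le]
    intro a ha b hb
    have hab : ∀ a ∈ A, ∀ b ∈ B, Commute (QuotientGroup.mk' (Subgroup.closure C) a)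
        (QuotientGroup.mk' (Subgroup.closure C) b) := fun a ha b hb => by
      rw [← commutatorElement_eq_one_iff_commute, ← map_commutatorElement, QuotientGroup.mk'_apply,
        QuotientGroup.eq_one_iff]
      exact Subgroup.subset_closure (h a ha b hb)
    have hc : Commute (QuotientGroup.mk' (Subgroup.closure C) a) (QuotientGroup.mk' (Subgroup.closure C) b) := by
      induction ha using Subgroup.closure_induction with
      | mem a ha =>
        induction hb using Subgroup.closure_induction with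
        | mem b hb => exact hab a ha b hb
        | one => rw [map_one]; exact Commute.one_right _
        | mul x y _ _ hx hy => rw [map_mul]; exact hx.mul_right hy
        | inv x _ hx => rw [map_inv]; exact hx.inv_right
      | one => rw [map_one]; exact Commute.one_left _
      | mul x y _ _ hx hy => rw [map_mul]; exact hx.mul_left hy
      | inv x _ hx => rw [map_inv]; exact hx.inv_left
    rwa [← commutatorElement_eq_one_iff_commute, ← map_commutatorElement, QuotientGroup.mk'_apply,
      QuotientGroup.eq_one_iff] at hc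
  have normal_of : ∀ {M : Type u} [Group M] (C : Set M), (∀ g : M, ∀ c ∈ C, g * c * g⁻¹ ∈ C) →
      (Subgroup.closure C).Normal := by
    intro M _ C h
    refine ⟨fun x hx g => ?_⟩
    induction hx using Subgroup.closure_induction with
    | mem c hc => exact Subgroup.subset_closure (h g c hc)
    | one => simp
    | mul x y _ _ hx hy =>
      rw [show g * (x * y) * g⁻¹ = (g * x * g⁻¹) * (g * y * g⁻¹) by simp [_root_.mul_assoc]]
      exact mul_mem hx hy
    | inv x _ hx =>
      rw [show g * x⁻¹ * g⁻¹ = (g * x * g⁻¹)⁻¹ by simp [_root_.mul_assoc]]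
      exact inv_mem hx
  -- the derived and the lower central words
  have der : ∀ m : ℕ, ∃ (P : Over (Spec (CommRingCat.of k))) (w : P ⟶ G), Smooth P.hom ∧
      ∀ T : Over (Spec (CommRingCat.of k)), derivedSeries (T ⟶ G) m = Subgroup.closure (Set.range fun x : T ⟶ P => x ≫ w) ∧
        ∀ (g : T ⟶ G) (x : T ⟶ P), ∃ y : T ⟶ P, g * (x ≫ w) * g⁻¹ = y ≫ w := by
    intro m
    induction m with
    | zero =>
      refine ⟨G, 𝟙 G, inferInstance, fun T => ⟨?_, fun g x => ⟨g * x * g⁻¹, by simp only [Category.comp_id]⟩⟩⟩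
      simp
    | succ m ih =>
      obtain ⟨P, w, hP, h⟩ := ih
      refine ⟨P ⊗ P, ⁅fst P P ≫ w, snd P P ≫ w⁆, by rw [Over.tensorObj_hom]; infer_instance, fun T => ?_⟩
      have hval : ∀ x : T ⟶ P ⊗ P, x ≫ ⁅fst P P ≫ w, snd P P ≫ w⁆ = ⁅(x ≫ fst P P) ≫ w, (x ≫ snd P P) ≫ w⁆ := by
        intro x
        simp only [commutatorElement_def, MonObj.comp_mul, GrpObj.comp_inv, Category.assoc]
      obtain ⟨hS, hconj⟩ := h T
      have hconj' : ∀ (g : T ⟶ G) (x : T ⟶ P ⊗ P), ∃ y : T ⟶ P ⊗ P,
          g * (x ≫ ⁅fst P P ≫ w, snd P P ≫ w⁆) * g⁻¹ = y ≫ ⁅fst P P ≫ w, snd P P ≫ w⁆ := by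
        intro g x
        obtain ⟨y₁, h₁⟩ := hconj g (x ≫ fst P P)
        obtain ⟨y₂, h₂⟩ := hconj g (x ≫ snd P P)
        refine ⟨lift y₁ y₂, ?_⟩
        rw [hval, hval, comm_conj, h₁, h₂, lift_fst, lift_snd]
      refine ⟨le_antisymm ?_ ?_, hconj'⟩
      · rw [derivedSeries_succ, hS]
        refine closure_comm _ _ _ (normal_of _ ?_) ?_
        · rintro g _ ⟨x, rfl⟩
          obtain ⟨y, hy⟩ := hconj' g x
          exact ⟨y, hy.symm⟩
        · rintro _ ⟨x₁, rfl⟩ _ ⟨x₂, rfl⟩
          exact ⟨lift x₁ x₂, by simp only [hval, lift_fst, lift_snd]⟩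
      · rw [Subgroup.closure_le]
        rintro _ ⟨x, rfl⟩
        simp only [hval, derivedSeries_succ, hS, SetLike.mem_coe]
        exact Subgroup.commutator_mem_commutator (Subgroup.subset_closure ⟨_, rfl⟩) (Subgroup.subset_closure ⟨_, rfl⟩)
  have lcs : ∀ m : ℕ, ∃ (P : Over (Spec (CommRingCat.of k))) (w : P ⟶ G), Smooth P.hom ∧
      ∀ T : Over (Spec (CommRingCat.of k)), Subgroup.lowerCentralSeries (⊤ : Subgroup (T ⟶ G)) m = Subgroup.closure (Set.range fun x : T ⟶ P => x ≫ w) ∧
        ∀ (g : T ⟶ G) (x : T ⟶ P), ∃ y : T ⟶ P, g * (x ≫ w) * g⁻¹ = y ≫ w := by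
    intro m
    induction m with
    | zero =>
      refine ⟨G, 𝟙 G, inferInstance, fun T => ⟨?_, fun g x => ⟨g * x * g⁻¹, by simp only [Category.comp_id]⟩⟩⟩
      simp
    | succ m ih =>
      obtain ⟨P, w, hP, h⟩ := ih
      refine ⟨P ⊗ G, ⁅fst P G ≫ w, snd P G⁆, by rw [Over.tensorObj_hom]; infer_instance, fun T => ?_⟩
      have hval : ∀ x : T ⟶ P ⊗ G, x ≫ ⁅fst P G ≫ w, snd P G⁆ = ⁅(x ≫ fst P G) ≫ w, x ≫ snd P G⁆ := by
        intro x
        simp only [commutatorElement_def, MonObj.comp_mul, GrpObj.comp_inv, Category.assoc]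
      obtain ⟨hS, hconj⟩ := h T
      have hconj' : ∀ (g : T ⟶ G) (x : T ⟶ P ⊗ G), ∃ y : T ⟶ P ⊗ G,
          g * (x ≫ ⁅fst P G ≫ w, snd P G⁆) * g⁻¹ = y ≫ ⁅fst P G ≫ w, snd P G⁆ := by
        intro g x
        obtain ⟨y₁, h₁⟩ := hconj g (x ≫ fst P G)
        refine ⟨lift y₁ (g * (x ≫ snd P G) * g⁻¹), ?_⟩
        rw [hval, hval, comm_conj, h₁, lift_fst, lift_snd]
      refine ⟨le_antisymm ?_ ?_, hconj'⟩
      · rw [Subgroup.lowerCentralSeries_succ, hS, ← Subgroup.closure_univ (G := T ⟶ G)]
        refine closure_comm _ _ _ (normal_of _ ?_) ?_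
        · rintro g _ ⟨x, rfl⟩
          obtain ⟨y, hy⟩ := hconj' g x
          exact ⟨y, hy.symm⟩
        · rintro _ ⟨x₁, rfl⟩ x₂ -
          exact ⟨lift x₁ x₂, by simp only [hval, lift_fst, lift_snd]⟩
      · rw [Subgroup.closure_le]
        rintro _ ⟨x, rfl⟩
        simp only [hval, Subgroup.lowerCentralSeries_succ, hS, SetLike.mem_coe]
        exact Subgroup.commutator_mem_commutator (Subgroup.subset_closure ⟨_, rfl⟩) (Subgroup.mem_top _)
  constructor
  · obtain ⟨P, w, hP, h⟩ := der n
    have hk := key P w hP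
    refine ⟨fun hT => hT _, fun hΩ T => ?_⟩
    rw [(h T).1, Subgroup.closure_eq_bot_iff]
    rintro _ ⟨x, rfl⟩
    refine hk.1 (fun y => ?_) T x
    rw [(h Op).1, Subgroup.closure_eq_bot_iff] at hΩ
    exact hΩ ⟨y, rfl⟩
  · obtain ⟨P, w, hP, h⟩ := lcs n
    have hk := key P w hP
    refine ⟨fun hT => hT _, fun hΩ T => ?_⟩
    rw [(h T).1, Subgroup.closure_eq_bot_iff]
    rintro _ ⟨x, rfl⟩
    refine hk.1 (fun y => ?_) T x
    rw [(h Op).1, Subgroup.closure_eq_bot_iff] at hΩ
    exact hΩ ⟨y, rfl⟩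

end Groth.Agent.S5366
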