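import Groth.Statements.S7676
import Groth.Agent.Lib.Hyperplane.ZeroScheme
import Groth.Agent.Lib.Hyperplane.Pullback
import Groth.Agent.Lib.Hyperplane.GlobalSections
import Groth.Agent.Lib.GradedAlg.ProjMap
import Groth.Agent.Lib.Chow.Prod
import Groth.Agent.Lib.Ample.ProjMap
import Mathlib.RingTheory.MvPolynomial.Homogeneous

set_option autoImplicit false
universe u
open CategoryTheory CategoryTheory.Limits AlgebraicGeometry
open Variety

namespace Groth.Agent.S7676

open MvPolynomial in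
/-- A linear form is the kernel of a linear projection. -/
theorem exists_projection (k : Type u) [Field k] (n : ℕ) (l : MvPolynomial (Fin (n + 1 + 1)) k)
    (hl : l ∈ CohB1.polyGrading (n + 1) k 1) (hl0 : l ≠ 0) :
    ∃ ψ : CohB1.polyGrading (n + 1) k →+*ᵍ CohB1.polyGrading n k,
      Function.Surjective ψ ∧ RingHom.ker ψ = Ideal.span ({l} : Set (MvPolynomial (Fin (n + 1 + 1)) k)) ∧
      ∀ b, ψ (C b) = C b := by
  classical
  have hl' : l ∈ Submodule.span k (Set.range (X : Fin (n + 1 + 1) → MvPolynomial (Fin (n + 1 + 1)) k)) := by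
    rw [← MvPolynomial.homogeneousSubmodule_one_eq_span_X]
    exact hl
  obtain ⟨c, hc⟩ := (Submodule.mem_span_range_iff_exists_fun k).mp hl'
  obtain ⟨i₀, hi₀⟩ : ∃ i, c i ≠ 0 := by
    by_contra h
    push Not at h
    exact hl0 (by rw [← hc]; simp [h])
  let v : Fin (n + 1) → MvPolynomial (Fin (n + 1)) k := X
  let g : Fin (n + 1 + 1) → MvPolynomial (Fin (n + 1)) k :=
    Fin.insertNth i₀ (-(c i₀)⁻¹ • ∑ j, c (i₀.succAbove j) • v j) v
  let φ : MvPolynomial (Fin (n + 1 + 1)) k →ₐ[k] MvPolynomial (Fin (n + 1)) k := aeval g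
  let σ : MvPolynomial (Fin (n + 1)) k →ₐ[k] MvPolynomial (Fin (n + 1 + 1)) k := rename i₀.succAbove
  have hg : ∀ i, (g i).IsHomogeneous 1 := by
    intro i
    refine Fin.succAboveCases i₀ ?_ (fun j => ?_) i
    · simp only [g, Fin.insertNth_apply_same]
      exact Submodule.smul_mem (homogeneousSubmodule (Fin (n + 1)) k 1) _
        (Submodule.sum_mem _ fun j _ => Submodule.smul_mem _ _ (isHomogeneous_X k j))
    · simp only [g, Fin.insertNth_apply_succAbove]
      exact isHomogeneous_X k j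
  let ψ : CohB1.polyGrading (n + 1) k →+*ᵍ CohB1.polyGrading n k :=
    { φ.toRingHom with
      map_mem := fun {i x} hx => by
        have h := MvPolynomial.IsHomogeneous.aeval (n := 1) (show x.IsHomogeneous i from hx) g hg
        rw [one_mul] at h
        exact h }
  have hφσ : ∀ b, φ (σ b) = b := by
    intro b
    show aeval g (rename i₀.succAbove b) = b
    rw [aeval_rename]
    have : g ∘ i₀.succAbove = X := funext fun j => by simp [g, v]
    rw [this, aeval_X_left, AlgHom.id_apply]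
  refine ⟨ψ, fun b => ⟨σ b, hφσ b⟩, le_antisymm (fun a ha => ?_) ?_, fun b => aeval_C g b⟩
  · have hφl : ∀ i, σ (φ (X i)) - X i ∈ Ideal.span ({l} : Set (MvPolynomial (Fin (n + 1 + 1)) k)) := by
      intro i
      refine Fin.succAboveCases i₀ ?_ (fun j => ?_) i
      · have e : σ (φ (X i₀)) - X i₀ = C (-(c i₀)⁻¹) * l := by
          simp only [φ, σ, aeval_X, g, Fin.insertNth_apply_same, map_smul, map_sum, v, rename_X]
          rw [← smul_eq_C_mul, ← hc, Fin.sum_univ_succAbove _ i₀, smul_add, smul_smul,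
            neg_mul, inv_mul_cancel₀ hi₀, neg_one_smul]
          abel
        rw [e]
        exact Ideal.mul_mem_left _ _ (Ideal.mem_span_singleton_self l)
      · simp [φ, σ, g, v]
    let J := Ideal.span ({l} : Set (MvPolynomial (Fin (n + 1 + 1)) k))
    have hcomp : (Ideal.Quotient.mkₐ k J).comp (σ.comp φ) = Ideal.Quotient.mkₐ k J :=
      MvPolynomial.algHom_ext fun i => Ideal.Quotient.eq.mpr (hφl i)
    have h := DFunLike.congr_fun hcomp a
    rw [RingHom.mem_ker] at ha
    replace ha : φ a = 0 := ha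
    simp only [AlgHom.coe_comp, Function.comp_apply, ha, map_zero] at h
    exact Ideal.Quotient.eq_zero_iff_mem.mp h.symm
  · rw [Ideal.span_singleton_le_iff_mem, RingHom.mem_ker]
    show φ l = 0
    rw [← hc, Fin.sum_univ_succAbove _ i₀]
    simp only [map_add, map_sum, map_smul, φ, aeval_X, g, Fin.insertNth_apply_same,
      Fin.insertNth_apply_succAbove, smul_smul]
    rw [mul_neg, mul_inv_cancel₀ hi₀, neg_one_smul, neg_add_cancel]

/-- Graded maps commute with taking components. -/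
theorem decompose_map {R A B : Type u} [CommRing R] [CommRing A] [Algebra R A] [CommRing B] [Algebra R B]
    (𝒜 : ℕ → Submodule R A) (ℬ : ℕ → Submodule R B) [GradedAlgebra 𝒜] [GradedAlgebra ℬ]
    (ψ : 𝒜 →+*ᵍ ℬ) (a : A) (i : ℕ) :
    (DirectSum.decompose ℬ (ψ a) i : B) = ψ (DirectSum.decompose 𝒜 a i : A) := by
  induction a using DirectSum.Decomposition.inductionOn 𝒜 with
  | zero => simp
  | @homogeneous j m =>
    have hm : ψ (m : A) ∈ ℬ j := ψ.2 m.2
    by_cases h : j = i
    · subst h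
      rw [DirectSum.decompose_of_mem_same ℬ hm, DirectSum.decompose_of_mem_same 𝒜 m.2]
    · rw [DirectSum.decompose_of_mem_ne ℬ hm h, DirectSum.decompose_of_mem_ne 𝒜 m.2 h, map_zero]
  | add a b ha hb => simp only [map_add, DirectSum.decompose_add, DirectSum.add_apply, Submodule.coe_add, ha, hb]

/-- A surjective graded map satisfies the irrelevant ideal condition. -/
theorem irrelevant_le_map {R A B : Type u} [CommRing R] [CommRing A] [Algebra R A] [CommRing B] [Algebra R B]
    (𝒜 : ℕ → Submodule R A) (ℬ : ℕ → Submodule R B) [GradedAlgebra 𝒜] [GradedAlgebra ℬ]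
    (ψ : 𝒜 →+*ᵍ ℬ) (h : Function.Surjective ψ) :
    HomogeneousIdeal.irrelevant ℬ ≤ (HomogeneousIdeal.irrelevant 𝒜).map ψ := by
  rw [HomogeneousIdeal.irrelevant_le]
  intro i hi y hy
  obtain ⟨a, rfl⟩ := h y
  have e : ψ a = ψ (DirectSum.decompose 𝒜 a i : A) := by
    classical
    rw [← decompose_map 𝒜 ℬ ψ, DirectSum.decompose_of_mem_same ℬ hy]
  show ψ a ∈ _
  rw [e]
  exact Ideal.mem_map_of_mem ψ (HomogeneousIdeal.mem_irrelevant_of_mem 𝒜 hi (DirectSum.decompose 𝒜 a i).2)

/-- Let k be a field, n ≥ 1 and i : H → P^n_k a hyperplane, the zero scheme of a nonzero section of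
O(1). Then there is an isomorphism φ : P^{n-1}_k → H under which i^*O(1) pulls back to O(1).
(Indexed here with P^{n+1} and P^n.) -/
theorem result (k : Type u) [Field k] (n : ℕ)
    (s : Coh.structureModule (CohB1.ProjSpace (n + 1) k) ⟶ Twist.twistProjSpace (n + 1) k 1) (hs : s ≠ 0) :
    ∃ φ : CohB1.ProjSpace n k ≅ (PicF2.zeroScheme _ s).subscheme,
      Nonempty ((Scheme.Modules.pullback (φ.hom ≫ (PicF2.zeroScheme _ s).subschemeι)).obj
          (Twist.twistProjSpace (n + 1) k 1) ≅ Twist.twistProjSpace n k 1) := by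
  haveI := GrothLib.Chow.isProper_toSpec (n + 1) k
  haveI : IsNoetherian (CohB1.ProjSpace (n + 1) k) := by
    haveI := LocallyOfFiniteType.isLocallyNoetherian (CohB1.ProjSpace.toSpec (n + 1) k)
    haveI : CompactSpace (CohB1.ProjSpace (n + 1) k) :=
      QuasiCompact.compactSpace_of_compactSpace (CohB1.ProjSpace.toSpec (n + 1) k)
    exact ⟨⟩
  haveI : IsNoetherian (Proj (CohB1.polyGrading (n + 1) k)) :=
    inferInstanceAs (IsNoetherian (CohB1.ProjSpace (n + 1) k))
  let x : ULift.{u} (Fin (n + 1 + 1)) → MvPolynomial (Fin (n + 1 + 1)) k := fun i => MvPolynomial.X i.down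
  have hx : ∀ i, x i ∈ CohB1.polyGrading (n + 1) k 1 := fun i => MvPolynomial.isHomogeneous_X k i.down
  have hcov : ⨆ i, Proj.basicOpen (CohB1.polyGrading (n + 1) k) (x i) = ⊤ := eq_top_iff.mpr fun p _ => by
    obtain ⟨i, hi⟩ := TopologicalSpace.Opens.mem_iSup.mp
      ((GrothLib.Ample.ProjMap.iSup_basicOpen_X (n + 1) k).ge (TopologicalSpace.Opens.mem_top p))
    exact TopologicalSpace.Opens.mem_iSup.mpr ⟨⟨i⟩, hi⟩
  obtain ⟨l, hl, hsl⟩ := GrothLib.Hyperplane.exists_eq_gsec (d := 1)
    (show Γ(Twist.twist (CohB1.polyGrading (n + 1) k) ((1 : ℕ) : ℤ), ⊤) from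
      PicF2.secVal (Twist.twistProjSpace (n + 1) k 1) s ⊤)
  have hl0 : l ≠ 0 := by
    intro h0
    apply hs
    apply Scheme.Modules.hom_ext
    intro W
    ext r
    refine GrothLib.Ample.ProjTwist.evT_ext fun y => ?_
    refine (GrothLib.Hyperplane.evT_app (𝒜 := CohB1.polyGrading (n + 1) k) hl s hsl W r y).trans ?_
    rw [h0, map_zero, mul_zero]
    rfl
  obtain ⟨ψ, hψs, hker, -⟩ := exists_projection k n l hl hl0
  have hψ := irrelevant_le_map (CohB1.polyGrading (n + 1) k) (CohB1.polyGrading n k) ψ hψs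
  haveI : IsClosedImmersion (Proj.map ψ hψ) := GrothLib.GradedAlg.isClosedImmersion_map ψ hψ hψs
  let j : CohB1.ProjSpace n k ⟶ CohB1.ProjSpace (n + 1) k := Proj.map ψ hψ
  haveI : IsClosedImmersion j := GrothLib.GradedAlg.isClosedImmersion_map ψ hψ hψs
  haveI : IsIso j.toImage := inferInstance
  have hL := GrothLib.Ample.ProjTwist.isInvertible_twist (CohB1.polyGrading (n + 1) k) x hx hcov 1
  let s' : Coh.structureModule (Proj (CohB1.polyGrading (n + 1) k)) ⟶
      Twist.twist (CohB1.polyGrading (n + 1) k) ((1 : ℕ) : ℤ) := s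
  haveI : Mono s' := GrothLib.Hyperplane.mono_of_ne_zero hl s hsl hl0
  have he : j.ker = PicF2.zeroScheme (Twist.twistProjSpace (n + 1) k 1) s :=
    GrothLib.Hyperplane.ker_map_eq_zeroScheme hl s' hsl ψ hψ hL hker x hx hcov
  obtain ⟨e⟩ := GrothLib.Hyperplane.nonempty_pullback_twist_one ψ hψ x hx hcov
  rw [← he]
  exact ⟨asIso j.toImage, ⟨(Scheme.Modules.pullbackCongr j.toImage_imageι).app _ ≪≫ e⟩⟩

end Groth.Agent.S7676
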