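import Groth.Statements.S7616
import Groth.Agent.S9675
import Groth.Agent.S0566
import Groth.Agent.Lib.CharRing.Nagata

set_option autoImplicit false
universe u
open CategoryTheory CategoryTheory.Limits AlgebraicGeometry
open Variety

namespace Groth.Agent.S7616

/-- Let f : Y → X be a quasi-compact morphism of schemes locally of finite type over a field k, with Y
reduced; f is automatically quasi-separated. Then the normalization of X in Y is finite over X. -/
theorem result (k : Type u) [Field k] (X : Scheme.{u}) [X.Over (Spec (CommRingCat.of k))] [LocallyOfFiniteType (X ↘ (Spec (CommRingCat.of k)))]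
    (Y : Scheme.{u}) [Y.Over (Spec (CommRingCat.of k))] [LocallyOfFiniteType (Y ↘ (Spec (CommRingCat.of k)))] [IsReduced Y]
    (f : Y ⟶ X) [f.IsOver (Spec (CommRingCat.of k))] [QuasiCompact f] [QuasiSeparated f] :
    IsFinite f.fromNormalization := by
  haveI : LocallyOfFiniteType (f ≫ (X ↘ (Spec (CommRingCat.of k)))) := by
    rw [comp_over]
    infer_instance
  haveI : LocallyOfFiniteType f := locallyOfFiniteType_of_comp f (X ↘ (Spec (CommRingCat.of k)))
  refine Groth.Agent.S9675.result f fun U => ?_
  let g := X ↘ (Spec (CommRingCat.of k))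
  let e : U.1 ≤ g ⁻¹ᵁ ⊤ := fun _ _ => trivial
  let φ : k →+* Γ(X, U.1) := (g.appLE ⊤ U.1 e).hom.comp
    (Scheme.ΓSpecIso (CommRingCat.of k)).inv.hom
  letI : Algebra k Γ(X, U.1) := φ.toAlgebra
  haveI : Algebra.FiniteType k Γ(X, U.1) := by
    show φ.FiniteType
    exact RingHom.FiniteType.comp
      (g.finiteType_appLE (isAffineOpen_top _) U.2 e)
      (RingHom.FiniteType.of_surjective _
        (Scheme.ΓSpecIso (CommRingCat.of k)).symm.commRingCatIsoToRingEquiv.surjective)
  exact Groth.Agent.S0566.result k GrothLib.CharRing.isNagata_field _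

end Groth.Agent.S7616
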