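import Groth.Statements.S0335
import Groth.Agent.Lib.LC.MayerVietoris
import Groth.Agent.Lib.LC.Support
import Groth.Agent.Lib.Depth.CM

set_option autoImplicit false
universe u v
open LocCoh

namespace Groth.Agent.S0335

/-- For the ring itself; Hartshorne's connectedness: if a Noetherian local ring has depth at least 2
then its punctured spectrum is connected. -/
theorem result (R : Type u) [CommRing R] [IsLocalRing R] [IsNoetherianRing R] (h : 2 ≤ LocCoh.depth R R) : IsConnected {x : PrimeSpectrum R | x.asIdeal ≠ IsLocalRing.maximalIdeal R} := by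
  let m := IsLocalRing.maximalIdeal R
  haveI hm : m.IsMaximal := IsLocalRing.maximalIdeal.isMaximal R
  haveI hH : Subsingleton (LocCoh.H m 1 R) :=
    (GrothLib.Depth.le_idealDepth_iff_H m 2).1 h 1 one_lt_two
  refine ⟨?_, isPreconnected_closed_iff.2 fun t t' ht ht' hsub hne hne' => ?_⟩
  · by_contra hemp
    have hd := (WithBot.coe_le_coe.2 h).trans (GrothLib.Depth.depth_le_supportDim R R)
    rw [Module.supportDim_self_eq_ringKrullDim] at hd
    have h0 : ringKrullDim R ≤ 0 := by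
      refine ringKrullDimZero_iff_ringKrullDim_eq_zero.mp (Ring.krullDimLE_zero_iff.2 fun I hI => ?_) |>.le
      by_contra hI'
      exact hemp ⟨⟨I, hI⟩, fun he : I = m => hI' (he ▸ hm)⟩
    have h2 := hd.trans h0
    norm_cast at h2
  · obtain ⟨a, ha⟩ := (PrimeSpectrum.isClosed_iff_zeroLocus_ideal t).1 ht
    obtain ⟨b, hb⟩ := (PrimeSpectrum.isClosed_iff_zeroLocus_ideal t').1 ht'
    subst ha hb
    by_contra hemp
    obtain ⟨p₁, hp₁, hp₁a⟩ := hne
    obtain ⟨p₂, hp₂, hp₂b⟩ := hne'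
    rw [PrimeSpectrum.mem_zeroLocus, SetLike.coe_subset_coe] at hp₁a hp₂b
    have ham : a ≤ m := hp₁a.trans (IsLocalRing.le_maximalIdeal p₁.2.ne_top)
    have hbm : b ≤ m := hp₂b.trans (IsLocalRing.le_maximalIdeal p₂.2.ne_top)
    have hle : a ⊔ b ≤ m := sup_le ham hbm
    have hpunct : ∀ p : PrimeSpectrum R, a ⊔ b ≤ p.asIdeal → p.asIdeal = m := fun p hp => by
      by_contra hpm
      exact hemp ⟨p, hpm, (PrimeSpectrum.mem_zeroLocus p _).2 ((le_sup_left : a ≤ a ⊔ b).trans hp),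
        (PrimeSpectrum.mem_zeroLocus p _).2 ((le_sup_right : b ≤ a ⊔ b).trans hp)⟩
    haveI hH' : Subsingleton ((localCohomology (a ⊔ b) 1).obj (ModuleCat.of R R)) :=
      (GrothLib.LC.hmap_surjective_of_punctual (ModuleCat.of R R) 1 (a ⊔ b) m hle
        fun p hp hp' => absurd (hpunct p hp).ge hp').subsingleton
    have hnil : a ⊓ b ≤ nilradical R := by
      rw [nilradical_eq_sInf]
      refine le_sInf fun p hp => ?_
      haveI : p.IsPrime := hp
      by_cases hpm : p = m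
      · exact hpm ▸ inf_le_left.trans ham
      · rcases hsub (a := (⟨p, hp⟩ : PrimeSpectrum R)) hpm with hx | hx
        · exact inf_le_left.trans ((PrimeSpectrum.mem_zeroLocus _ _).1 hx)
        · exact inf_le_right.trans ((PrimeSpectrum.mem_zeroLocus _ _).1 hx)
    obtain ⟨n, hn⟩ : ∃ n, (a ⊓ b) ^ n ≤ (⊥ : Ideal R) :=
      Ideal.exists_pow_le_of_le_radical_of_fg hnil (IsNoetherian.noetherian _)
    have h1 : (1 : R) ∈ DRing.torsionSub (a ⊓ b) R :=
      ⟨n, fun r hr => by rw [(Submodule.mem_bot R).1 (hn hr), zero_smul]⟩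
    obtain ⟨⟨y, z⟩, hyz⟩ := ((GrothLib.LC.mv_exact₃ a b (ModuleCat.of R R) 0)
      (GrothLib.LC.torsionEquiv (a ⊓ b) (ModuleCat.of R R) ⟨1, h1⟩)).1 (hH'.elim _ _)
    obtain ⟨s, rfl⟩ := (GrothLib.LC.torsionEquiv a (ModuleCat.of R R)).surjective y
    obtain ⟨t, rfl⟩ := (GrothLib.LC.torsionEquiv b (ModuleCat.of R R)).surjective z
    simp only [LinearMap.sub_apply, LinearMap.comp_apply, LinearMap.fst_apply, LinearMap.snd_apply] at hyz
    erw [GrothLib.LC.hmap_torsionEquiv, GrothLib.LC.hmap_torsionEquiv, ← map_sub] at hyz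
    have hst : (s.1 : R) + -(t.1 : R) = 1 := by
      rw [← sub_eq_add_neg]
      exact congrArg Subtype.val ((GrothLib.LC.torsionEquiv (a ⊓ b) (ModuleCat.of R R)).injective hyz)
    have key : ∀ (c : Ideal R) (v : R), IsUnit v → v ∈ DRing.torsionSub c R → c ≤ nilradical R := by
      intro c v hv ⟨k, hk⟩ r hr
      exact ⟨k, hv.mul_left_eq_zero.1 (hk _ (Ideal.pow_mem_pow hr k))⟩
    rcases IsLocalRing.isUnit_or_isUnit_of_add_one hst with hu | hu
    · exact hemp ⟨p₂, hp₂, (PrimeSpectrum.mem_zeroLocus _ _).2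
        ((key a _ hu s.2).trans (nilradical_le_prime p₂.asIdeal)),
        (PrimeSpectrum.mem_zeroLocus _ _).2 hp₂b⟩
    · rw [IsUnit.neg_iff] at hu
      exact hemp ⟨p₁, hp₁, (PrimeSpectrum.mem_zeroLocus _ _).2 hp₁a,
        (PrimeSpectrum.mem_zeroLocus _ _).2 ((key b _ hu t.2).trans (nilradical_le_prime p₁.asIdeal))⟩

end Groth.Agent.S0335
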