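import Groth.Statements.S10829
import Groth.Agent.Lib.ProjDim.Basic

set_option autoImplicit false
universe u
open AlgebraicGeometry
open Variety

namespace Groth.Agent.S10829

/-- For a field k and a natural number n, projective n-space over k (Proj of the polynomial ring in n +
1 variables graded by degree) has Krull dimension n as a topological space. (The published statement
also gives affine n-space dimension n; that half is the Krull dimension of a polynomial ring and is
not restated here.) -/
theorem result (k : Type u) [Field k] (n : ℕ) :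
    topologicalKrullDim ↥(CohB1.ProjSpace n k) = (n : WithBot ℕ∞) := by
  let B : Ideal (MvPolynomial (Fin (n + 1)) k) := ⊥
  have : B.IsPrime := Ideal.isPrime_bot
  have h0 : ringKrullDim (MvPolynomial (Fin (n + 1)) k ⧸ B) = ((n + 1 : ℕ) : WithBot ℕ∞) := by
    rw [ringKrullDim_eq_of_ringEquiv (RingEquiv.quotientBot _), MvPolynomial.ringKrullDim_of_isNoetherianRing,
      ringKrullDim_eq_zero_of_field]
    simp
  let x : ProjectiveSpectrum (CohB1.polyGrading n k) :=
    GrothLib.ProjDim.mkPt B (Ideal.IsHomogeneous.bot _)
      (GrothLib.ProjDim.ne_mIdeal_of_one_le (by rw [h0]; exact_mod_cast Nat.succ_pos n))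
  have hx : closure {x} = Set.univ := Set.eq_univ_of_forall fun y =>
    (ProjectiveSpectrum.le_iff_mem_closure _ x y).1 (bot_le : (⊥ : Ideal _) ≤ y.asHomogeneousIdeal.toIdeal)
  have h := GrothLib.ProjDim.dim_closure_add_one x
  rw [hx, show x.asHomogeneousIdeal.toIdeal = B from rfl, h0] at h
  have e := IsHomeomorph.topologicalKrullDim_eq _
    (Homeomorph.Set.univ (ProjectiveSpectrum (CohB1.polyGrading n k))).isHomeomorph
  rw [e, Nat.cast_add, Nat.cast_one] at h
  exact GrothLib.ProjDim.eq_of_add_one_eq h

end Groth.Agent.S10829
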