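import Groth.Statements.S11486
import Groth.Agent.Lib.ASBun21.Horrocks
import Groth.Agent.S10829

set_option autoImplicit false
universe u
open VBPn

namespace Groth.Agent.S11486

open CategoryTheory CategoryTheory.Limits AlgebraicGeometry in
open CategoryTheory CategoryTheory.Limits AlgebraicGeometry GrothLib in
theorem exists_split_zero (k : Type u) [Field k] (r : ℕ) (E : (CohB1.ProjSpace 0 k).Modules)
    (hE : FlatMod.IsFinLocFreeOfRank r E) :
    ∃ a : Fin r → ℤ, Nonempty (E ≅ ∐ fun j : Fin r => Twist.twistProjSpace 0 k (a j)) := by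
  haveI : IsIntegral (CohB1.ProjSpace 0 k) := ProjDim.isIntegral_proj k 0
  haveI : IrreducibleSpace (CohB1.ProjSpace 0 k : Scheme.{u}) := inferInstance
  have hmax : ∀ c : TopologicalSpace.IrreducibleCloseds (CohB1.ProjSpace 0 k : Scheme.{u}), IsMax c :=
    Order.krullDim_nonpos_iff_forall_isMax.1 ((Groth.Agent.S10829.result k 0).le.trans (by simp))
  have hgen : ∀ y : (CohB1.ProjSpace 0 k : Scheme.{u}), y = genericPoint (CohB1.ProjSpace 0 k : Scheme.{u}) := by
    intro y
    have h := hmax ⟨closure {y}, isIrreducible_singleton.closure, isClosed_closure⟩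
      (b := ⟨Set.univ, IrreducibleSpace.isIrreducible_univ _, isClosed_univ⟩) (Set.subset_univ _)
    have hy : IsGenericPoint y (Set.univ : Set (CohB1.ProjSpace 0 k : Scheme.{u})) :=
      Set.eq_univ_of_univ_subset h
    exact hy.eq (genericPoint_spec _)
  obtain ⟨U, hx, ⟨e⟩⟩ := hE (genericPoint (CohB1.ProjSpace 0 k : Scheme.{u}))
  obtain rfl : U = ⊤ := top_le_iff.1 fun y _ => by rw [hgen y]; exact hx
  let P := CohB1.ProjSpace 0 k
  have hid : (Scheme.topIso P).inv ≫ (⊤ : P.Opens).ι = 𝟙 P := by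
    rw [← Scheme.topIso_hom, Iso.inv_hom_id]
  let R := Scheme.Modules.restrictFunctor (Scheme.topIso P).inv
  let e1 : R.obj (E.restrict (⊤ : P.Opens).ι) ≅ E :=
    ((Scheme.Modules.restrictFunctorComp (Scheme.topIso P).inv (⊤ : P.Opens).ι).symm ≪≫
      Scheme.Modules.restrictFunctorCongr hid ≪≫ Scheme.Modules.restrictFunctorId).app E
  exact ⟨fun _ => 0, ⟨e1.symm ≪≫ R.mapIso e ≪≫ DCoh.restrictFreeModIso _ r ≪≫
    Sigma.mapIso fun _ : Fin r => (GrothLib.CMReg.nonempty_twist_zero (n := 0) (k := k)).some.symm⟩⟩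

/-- Let k be a characteristic-zero algebraically closed field and E a finite locally free O-module of
rank r on P^n_k. Then E splits as a direct sum of twisting sheaves O(a_1) ⊕ ⋯ ⊕ O(a_r) if and only
if H^i(P^n_k, E ⊗ O(d)) = 0 for every 0 < i < n and every integer d. -/
theorem result (k : Type u) [Field k] [IsAlgClosed k] [CharZero k]
    (n r : ℕ) (E : (CohB1.ProjSpace n k).Modules) (hE : FlatMod.IsFinLocFreeOfRank r E) :
    (∃ a : Fin r → ℤ, Nonempty (E ≅ ∐ fun j : Fin r => Twist.twistProjSpace n k (a j))) ↔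
      ∀ (i : ℕ) (d : ℤ), 0 < i → i < n →
        Subsingleton (Coh.HH (CohB1.ProjSpace n k) (CohB1.tensorMod E (Twist.twistProjSpace n k d)) i) := by
  constructor
  · rintro ⟨a, ⟨e⟩⟩ i d hi hin
    exact GrothLib.CMReg.subsingleton_of_iso
      (GrothLib.Ample.LineData.tensorModMapIso e (CategoryTheory.Iso.refl _)).symm
      (GrothLib.ASBun21.Horrocks.subsingleton_split a d hi hin)
  · intro h
    rcases Nat.eq_zero_or_pos n with hn | hn
    · subst hn
      exact exists_split_zero k r E hE
    · exact GrothLib.ASBun21.Horrocks.exists_split n hn r E hE fun i d hi hin => h i d hi hin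

end Groth.Agent.S11486
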