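import Groth.Statements.S0110
import Groth.Agent.Lib.EtQc13.ZarComp
-- import your own Groth.Agent.* helpers here

set_option autoImplicit false
open CategoryTheory CategoryTheory.Limits AlgebraicGeometry Opposite
universe u
open EtBase

namespace Groth.Agent.S0110

/-- Global functions on opens and their restrictions. -/
theorem homOfLE_appTop_topIso (X : Scheme.{u}) {U V : X.Opens} (i : U ⟶ V) :
    (X.homOfLE i.le).appTop ≫ U.topIso.hom = V.topIso.hom ≫ X.presheaf.map i.op := by
  rw [Scheme.homOfLE_appTop, Scheme.Opens.topIso_hom, Scheme.Opens.topIso_hom]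
  erw [← X.presheaf.map_comp, ← X.presheaf.map_comp]
  rfl



/-- For any scheme X and every p, the étale cohomology group H^p(X_ét, G_a) of the additive group sheaf
is isomorphic, as an additive group, to the Zariski cohomology group H^p(X, O_X) of the structure
sheaf. (Only the existence of an additive isomorphism is asserted; the published statement gives a
canonical identification.) -/
theorem result (X : Scheme.{u}) (p : ℕ) :
    Nonempty (EtCoh.H X (EtCoh.Ga X) p ≃+ Coh.HH X (Coh.structureModule X) p) := by
  obtain ⟨e₁⟩ := GrothLib.EtQc13.nonempty_H_resUp X _ (GrothLib.EtQc13.acyclic_Ga X) p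
  obtain ⟨e₂⟩ := GrothLib.EtQc13.nonempty_H_liftUp X (Coh.toAb (Coh.structureModule X)) p
  let α : (GrothLib.EtQc13.resUp X).obj (EtCoh.Ga X) ≅
      (GrothLib.EtQc13.liftUp X).obj (Coh.toAb (Coh.structureModule X)) :=
    (fullyFaithfulSheafToPresheaf _ _).preimageIso (NatIso.ofComponents (fun U =>
      AddCommGrpCat.uliftFunctor.{u + 1, u}.mapIso
        ((forget₂ CommRingCat.{u} RingCat.{u} ⋙ forget₂ RingCat.{u} AddCommGrpCat.{u}).mapIso
          (((GrothLib.EtQc13.downOpens X).obj U.unop).topIso)))
      fun {U V} f => by
        ext z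
        refine ULift.ext _ _ ?_
        exact ConcreteCategory.congr_hom (homOfLE_appTop_topIso X
          ((GrothLib.EtQc13.downOpens X).map f.unop)) (ULift.down z))
  exact ⟨(e₁.trans ((Sheaf.functorH _ p).mapIso α).addCommGroupIsoToAddEquiv).trans e₂.symm⟩


end Groth.Agent.S0110
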