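import Groth.Statements.S16846
-- import your own Groth.Agent.* helpers here
import Groth.Agent.Lib.FrobKill.Scheme
import Groth.Agent.Lib.Cube.MulFinite

set_option autoImplicit false
universe u
open CategoryTheory MonoidalCategory CartesianMonoidalCategory MonObj GrpObj AlgebraicGeometry
open AbVar

namespace Groth.Agent.S16846

/-- Fix a finite field k of size q and an abelian variety X over k (a proper, geometrically integral
commutative group scheme over k) and π_X its geometric Frobenius (the identity on points, the q-th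
power map on sections; a homomorphism). Then the endomorphism ring End_k(X) contains q/π_X: there is
a homomorphism v : X → X with π_X followed by v, and v followed by π_X, both equal to multiplication
by q (the q-th power of the identity in the group of morphisms X → X). -/
theorem result (k : Type u) [Field k] [Finite k] (X : Over (Spec (CommRingCat.of k)))
    [GrpObj X] [IsCommMonObj X] [IsProper X.hom] [GeometricallyIntegral X.hom]
    (πX : X ⟶ X) [IsMonHom πX] (hπb : πX.left.base = 𝟙 _)
    (hπle : ∀ U : X.left.Opens, U ≤ πX.left ⁻¹ᵁ U)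
    (hπapp : ∀ (U : X.left.Opens) (s : Γ(X.left, U)), (πX.left.appLE U U (hπle U)).hom s = s ^ Nat.card k) :
    ∃ (v : X ⟶ X) (_ : IsMonHom v), πX ≫ v = (𝟙 X) ^ Nat.card k ∧ v ≫ πX = (𝟙 X) ^ Nat.card k := by
  haveI : Fintype k := Fintype.ofFinite k
  obtain ⟨p, hp⟩ := CharP.exists k
  obtain ⟨e, hpp, hcard⟩ := FiniteField.card k p
  haveI := Fact.mk hpp
  have hq : Nat.card k = p ^ (e : ℕ) := by rw [Nat.card_eq_fintype_card, hcard]
  haveI := GrothLib.FrobKill.isFinite_frobenius πX hπb
  haveI : Surjective πX.left := ⟨fun x => ⟨x, congr($hπb x)⟩⟩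
  haveI := GrothLib.Rigidity.flat_of_isFinite X X πX
  haveI : Epi πX := (Over.forget _).epi_of_epi_map (inferInstanceAs (Epi πX.left))
  let N : Over (Spec (CommRingCat.of k)) := Limits.pullback πX η[X]
  have hi : AlgGrp.IsKernel (Limits.pullback.fst πX η[X]) πX := by
    have := IsPullback.of_hasPullback πX η[X]
    rwa [toUnit_unique (Limits.pullback.snd πX η[X]) (toUnit _)] at this
  have hk : Limits.pullback.fst πX η[X] ^ Nat.card k = 1 := by
    have h := GrothLib.FrobKill.kernel_frobenius_pow_eq_one πX hπb hπle p e
      (fun U s => by rw [← hq]; exact hπapp U s) _ hi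
    rwa [← hq] at h
  haveI := GrothLib.GrpDeligne.isMonHom_pow (𝟙 X) (Nat.card k)
  obtain ⟨v, hv, hπv⟩ := GrothLib.GrpDeligne.exists_factor πX _ hi ((𝟙 X) ^ Nat.card k)
    (by rw [MonObj.comp_pow, Category.comp_id, hk])
  refine ⟨v, hv, hπv, ?_⟩
  rw [← cancel_epi πX, ← Category.assoc, hπv, MonObj.pow_comp, Category.id_comp, MonObj.comp_pow, Category.comp_id]

end Groth.Agent.S16846
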