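import Groth.Statements.S7402
import Groth.Agent.Lib.UHTower.Inherit

set_option autoImplicit false
universe u
open CategoryTheory AlgebraicGeometry
open Polynomial
open Mor

namespace Groth.Agent.S7402

/-- Let `A` be a ring and `x, y ∈ A` with `x^3 = y^2`. Then `A → B = A[t]/(t^2 - x, t^3 - y)` induces a
universal homeomorphism on spectra and isomorphisms on residue fields. -/
theorem result (A : Type u) [CommRing A] (x y : A) (h : x ^ 3 = y ^ 2) :
    FlatMor.IsUnivHomeo (Spec.map (CommRingCat.ofHom (algebraMap A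
      (A[X] ⧸ Ideal.span ({X ^ 2 - C x, X ^ 3 - C y} : Set A[X]))))) ∧
    ∀ q : Spec (CommRingCat.of (A[X] ⧸ Ideal.span ({X ^ 2 - C x, X ^ 3 - C y} : Set A[X]))),
      Function.Surjective ((Spec.map (CommRingCat.ofHom (algebraMap A
        (A[X] ⧸ Ideal.span ({X ^ 2 - C x, X ^ 3 - C y} : Set A[X]))))).residueFieldMap q) := by
  rw [GrothLib.UHTower.isUnivHomeo_iff_uh, GrothLib.UHTower.surjective_residueFieldMap_iff]
  set I : Ideal A[X] := Ideal.span {X ^ 2 - C x, X ^ 3 - C y}
  have hT : GrothLib.UHTower.HasTowers (GrothLib.UHTower.GSQ (A := A) (B := A[X] ⧸ I)) := by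
    refine GrothLib.UHTower.hasTowers_single I ⟨?_, ?_⟩
    · rw [← map_pow, show Ideal.Quotient.mk I (X ^ 2) = algebraMap A (A[X] ⧸ I) x from
        Ideal.Quotient.eq.2 (Ideal.subset_span (by simp))]
      exact Subalgebra.algebraMap_mem _ _
    · rw [← map_pow, show Ideal.Quotient.mk I (X ^ 3) = algebraMap A (A[X] ⧸ I) y from
        Ideal.Quotient.eq.2 (Ideal.subset_span (by simp))]
      exact Subalgebra.algebraMap_mem _ _
  refine ⟨⟨GrothLib.UHTower.isIntegral_of_hasTowers hT.gp,
    GrothLib.UHTower.surjective_comap_of_field _ ?_, GrothLib.UHTower.radic_of_hasTowers hT.gp⟩,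
    GrothLib.UHTower.trivRes_of_hasTowers hT⟩
  intro p _
  have hK : RingHom.ker (algebraMap A p.ResidueField) = p := Ideal.ker_algebraMap_residueField p
  let r : p.ResidueField := algebraMap A _ y / algebraMap A _ x
  have he := congrArg (algebraMap A p.ResidueField) h
  rw [map_pow, map_pow] at he
  obtain ⟨g, hg⟩ := GrothLib.UHTower.exists_hom_of_root I p hK r (by
    intro f hf
    rw [← RingHom.mem_ker]
    refine Ideal.span_le.2 ?_ hf
    rintro _ (rfl | rfl) <;>
      simp only [SetLike.mem_coe, RingHom.mem_ker, map_sub, map_pow, aeval_X, aeval_C, r, sub_eq_zero] <;>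
      rcases eq_or_ne (algebraMap A p.ResidueField x) 0 with h0 | h0
    · simp [h0]
    · field_simp; exact he.symm
    · rw [h0, zero_pow (by norm_num)] at he
      have hy : algebraMap A p.ResidueField y = 0 := (pow_eq_zero_iff two_ne_zero).1 he.symm
      simp [h0, hy]
    · field_simp; linear_combination -algebraMap A p.ResidueField y * he)
  exact ⟨_, inferInstance, g, hg⟩

end Groth.Agent.S7402
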