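import Groth.Statements.S7403
import Groth.Agent.Lib.UHTower.Inherit

set_option autoImplicit false
universe u
open CategoryTheory AlgebraicGeometry
open Polynomial
open Mor

namespace Groth.Agent.S7403

/-- Let `A` be a ring, `p` a prime number and `x, y ∈ A` with `p^p x = y^p`. Then `A → B = A[t]/(t^p -
x, p t - y)` induces a universal homeomorphism on spectra. -/
theorem result (A : Type u) [CommRing A] (p : ℕ) (hp : p.Prime) (x y : A)
    (h : (p : A) ^ p * x = y ^ p) :
    FlatMor.IsUnivHomeo (Spec.map (CommRingCat.ofHom (algebraMap A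
      (A[X] ⧸ Ideal.span ({X ^ p - C x, C (p : A) * X - C y} : Set A[X]))))) := by
  rw [GrothLib.UHTower.isUnivHomeo_iff_uh]
  set I : Ideal A[X] := Ideal.span {X ^ p - C x, C (p : A) * X - C y}
  have hT : GrothLib.UHTower.HasTowers (GrothLib.UHTower.GP (A := A) (B := A[X] ⧸ I)) := by
    refine GrothLib.UHTower.hasTowers_single I (Or.inr ⟨p, hp, ?_, ?_⟩)
    · rw [← map_natCast (Ideal.Quotient.mk I), ← map_mul,
        show Ideal.Quotient.mk I ((p : A[X]) * X) = algebraMap A (A[X] ⧸ I) y from
        Ideal.Quotient.eq.2 (Ideal.subset_span (by simp))]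
      exact Subalgebra.algebraMap_mem _ _
    · rw [← map_pow, show Ideal.Quotient.mk I (X ^ p) = algebraMap A (A[X] ⧸ I) x from
        Ideal.Quotient.eq.2 (Ideal.subset_span (by simp))]
      exact Subalgebra.algebraMap_mem _ _
  refine ⟨GrothLib.UHTower.isIntegral_of_hasTowers hT,
    GrothLib.UHTower.surjective_comap_of_field _ ?_, GrothLib.UHTower.radic_of_hasTowers hT⟩
  intro q _
  let K := AlgebraicClosure q.ResidueField
  have hK : RingHom.ker (algebraMap A K) = q := by
    ext a
    rw [RingHom.mem_ker, IsScalarTower.algebraMap_apply A q.ResidueField K, map_eq_zero,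
      Ideal.algebraMap_residueField_eq_zero]
  have he := congrArg (algebraMap A K) h
  rw [map_mul, map_pow, map_pow, map_natCast] at he
  obtain ⟨r, hr1, hr2⟩ : ∃ r : K, r ^ p = algebraMap A K x ∧ (p : K) * r = algebraMap A K y := by
    rcases eq_or_ne (p : K) 0 with h0 | h0
    · obtain ⟨r, hr⟩ := IsAlgClosed.exists_pow_nat_eq (algebraMap A K x) hp.pos
      refine ⟨r, hr, ?_⟩
      rw [h0, zero_pow hp.ne_zero, zero_mul] at he
      rw [h0, zero_mul, (pow_eq_zero_iff hp.ne_zero).1 he.symm]
    · refine ⟨algebraMap A K y / p, ?_, mul_div_cancel₀ _ h0⟩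
      rw [div_pow, ← he, mul_div_cancel_left₀ _ (pow_ne_zero p h0)]
  obtain ⟨g, hg⟩ := GrothLib.UHTower.exists_hom_of_root I q hK r (by
    intro f hf
    rw [← RingHom.mem_ker]
    refine Ideal.span_le.2 ?_ hf
    rintro _ (rfl | rfl)
    · simp [hr1]
    · simp [hr2])
  exact ⟨K, inferInstance, g, hg⟩

end Groth.Agent.S7403
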