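import Groth.Statements.S0415
import Groth.Agent.Lib.Frob.Basic
import Mathlib.AlgebraicGeometry.Morphisms.Affine

set_option autoImplicit false
universe u
open FlatMor

namespace Groth.Agent.S0415

open AlgebraicGeometry CategoryTheory Limits in
/-- A morphism of schemes is a universal homeomorphism if and only if it is integral, universally
injective and surjective. -/
theorem result {X Y : Scheme.{u}} (f : X ⟶ Y) :
    FlatMor.IsUnivHomeo f ↔ IsIntegralHom f ∧ UniversallyInjective f ∧ Surjective f := by
  refine ⟨fun h => ?_, fun ⟨_, _, _⟩ => GrothLib.Frob.isUnivHomeo_of f⟩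
  haveI := GrothLib.Frob.universallyClosed_of f h
  have h' := GrothLib.Frob.isHomeomorph_of f h
  haveI : IsAffineHom f := isAffineHom_of_isInducing f h'.isInducing
    (by rw [h'.surjective.range_eq]; exact isClosed_univ)
  exact ⟨IsIntegralHom.iff_universallyClosed_and_isAffineHom.mpr ⟨inferInstance, inferInstance⟩,
    GrothLib.Frob.universallyInjective_of f h, GrothLib.Frob.surjective_of f h⟩

end Groth.Agent.S0415
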