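import Groth.Statements.S14124
-- import your own Groth.Agent.* helpers here
import Groth.Agent.Lib.Poincare.IndexPow
import Groth.Agent.Lib.AbTors.Tate

set_option autoImplicit false
universe u
open CategoryTheory CategoryTheory.Limits MonoidalCategory CartesianMonoidalCategory MonObj GrpObj AlgebraicGeometry
open AbVar

namespace Groth.Agent.S14124

/-- Let k be an algebraically closed field, A an abelian variety over k (a proper smooth k-group scheme
with geometrically connected fibres) and L an ample invertible O_A-module. Then the cohomology
groups H^j(A, L) vanish for all j > 0, and H^0(A, L) is non-zero. -/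
theorem result (k : Type u) [Field k] [IsAlgClosed k]
    (A : Over (Spec (CommRingCat.of k))) [GrpObj A] [IsProper A.hom] [Smooth A.hom] [GeometricallyConnected A.hom]
    (L : A.left.Modules) (hLa : CohB1.IsAmple L) :
    (∀ j : ℕ, 0 < j → Subsingleton (Coh.HH A.left L j)) ∧ Nontrivial (Coh.HH A.left L 0) := by
  haveI : GeometricallyIntegral A.hom := GrothLib.Dual.geometricallyIntegral_of_abScheme A
  haveI : IsCommMonObj A := GrothLib.Cube.isCommMonObj_abVar (A := A)
  obtain ⟨g, hg⟩ := GrothLib.AbTors.exists_dim (A := A)
  have hx := GrothLib.Cube.hasCls_clsMod hLa.1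
  have h := GrothLib.Index.conc_zero_of_isAmple hg hx hLa
  obtain ⟨h1, h2⟩ := (GrothLib.Index.conc_iff hx 0).1 h
  exact ⟨fun j hj => h1 j (by omega), not_subsingleton_iff_nontrivial.1 h2⟩

end Groth.Agent.S14124
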