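import Groth.Statements.S7382
import Groth.Agent.Lib.AbsApprox.IntegralSystem

set_option autoImplicit false
universe u
open CategoryTheory AlgebraicGeometry
open Lim

namespace Groth.Agent.S7382

/-- Let `f : X → S` be integral with `S` quasi-compact and quasi-separated. Then, in the category of
schemes over `S`, `X` is the limit of a nonempty directed inverse system of schemes `X_i → S` that
are finite and locally of finite presentation. -/
theorem result {X S : Scheme.{u}} (f : X ⟶ S) [IsIntegralHom f]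
    [CompactSpace S] [QuasiSeparatedSpace S] :
    ∃ (I : Type u) (_ : Preorder I) (_ : IsDirected I (fun a b => a ≤ b)) (_ : Nonempty I)
      (D : Iᵒᵖ ⥤ Over S) (c : Limits.Cone D) (_ : Limits.IsLimit c),
      (∀ i, IsFinite (D.obj i).hom ∧ LocallyOfFinitePresentation (D.obj i).hom) ∧
      Nonempty (c.pt ≅ Over.mk f) := by
  classical
  haveI : CompactSpace X := QuasiCompact.compactSpace_of_compactSpace f
  haveI : QuasiSeparatedSpace X := quasiSeparatedSpace_of_quasiSeparated f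
  obtain ⟨I₀, _, _, _, D₀, π₀, hl₀, h1, h2, h3⟩ := GrothLib.AbsApprox.exists_rel_approx f
  let F := D₀ ⋙ Over.forget S
  haveI : ∀ i j (a : i ⟶ j), IsAffineHom (F.map a) := h2
  haveI : ∀ i, CompactSpace ↥(F.obj i) := fun i => (h1 i).2.2.2.1
  haveI : ∀ i, QuasiSeparatedSpace ↥(F.obj i) := fun i => (h1 i).2.2.2.2
  have hF := Limits.isLimitOfPreserves (Over.forget S) hl₀
  obtain ⟨i₀⟩ : Nonempty I₀ᵒᵖ := inferInstance
  haveI : IsAffineHom (((Over.forget S).mapCone (Limits.Cone.mk (Over.mk f) π₀)).π.app i₀ ≫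
      (GrothLib.AbsApprox.overHom D₀).app i₀) := by
    show IsAffineHom ((π₀.app i₀).left ≫ (D₀.obj i₀).hom)
    rw [Over.w (π₀.app i₀)]
    exact (inferInstance : IsAffineHom f)
  obtain ⟨k, -, hk⟩ := GrothLib.LimDesc.eventually_isAffineHom F _ hF (GrothLib.AbsApprox.overHom D₀) i₀
  obtain ⟨I, _, _, _, ρ, ⟨hρ⟩, hle⟩ := GrothLib.AbsApprox.exists_tail D₀ _ hl₀ k
  let D := ρ ⋙ D₀
  let π : (Functor.const Iᵒᵖ).obj (Over.mk f) ⟶ D := Functor.whiskerLeft ρ π₀
  haveI : ∀ i, IsAffineHom (D.obj i).hom := fun i => by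
    obtain ⟨φ⟩ := hle i
    have e : (D₀.map φ).left ≫ (D₀.obj k).hom = (D₀.obj (ρ.obj i)).hom := Over.w _
    haveI : IsAffineHom (D₀.map φ).left := h2 _ _ φ
    haveI : IsAffineHom (D₀.obj k).hom := hk
    show IsAffineHom (D₀.obj (ρ.obj i)).hom
    rw [← e]
    infer_instance
  haveI : ∀ i, LocallyOfFiniteType (D.obj i).hom := fun i =>
    haveI := (h1 (ρ.obj i)).1
    (inferInstance : LocallyOfFiniteType (D₀.obj (ρ.obj i)).hom)
  haveI : ∀ i, QuasiCompact (π.app i).left := fun i =>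
    haveI : IsAffineHom (π.app i).left := h3 (ρ.obj i)
    inferInstance
  obtain ⟨hlim⟩ := GrothLib.AbsApprox.FinIdx.isLimit f π hρ
  obtain ⟨i₁⟩ : Nonempty I := inferInstance
  obtain ⟨J₁, hJ₁⟩ := GrothLib.AbsApprox.FinIdx.exists_idx f π i₁
  refine ⟨GrothLib.AbsApprox.FinIdx f π, inferInstance, GrothLib.AbsApprox.FinIdx.isDirected f π, ⟨⟨i₁, J₁, hJ₁⟩⟩,
    GrothLib.AbsApprox.FinIdx.sys f π, GrothLib.AbsApprox.FinIdx.cone f π, hlim, fun a => ⟨a.unop.fin, ?_⟩,
    ⟨Iso.refl _⟩⟩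
  haveI : LocallyOfFinitePresentation a.unop.J.1.subschemeι :=
    GrothLib.AbsApprox.lfp_subschemeι _ a.unop.J.2.2
  haveI : LocallyOfFinitePresentation (D.obj (Opposite.op a.unop.i)).hom := (h1 _).1
  show LocallyOfFinitePresentation (a.unop.J.1.subschemeι ≫ (D.obj (Opposite.op a.unop.i)).hom)
  infer_instance

end Groth.Agent.S7382
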