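import Groth.Statements.S0642
import Groth.Agent.Lib.EtSite.PushUI
import Groth.Agent.Lib.EtSite.Pull
import Mathlib.Algebra.Homology.DerivedCategory.Ext.MapBijective
-- import your own Groth.Agent.* helpers here

set_option autoImplicit false
open CategoryTheory CategoryTheory.Limits AlgebraicGeometry Opposite
universe u
open EtCore

namespace Groth.Agent.S0642

/-- Let X_0 -> X be integral, universally injective and surjective (a universal homeomorphism). Then for
every abelian sheaf F on the small etale site of X and every q the pullback map from H^q(X, F) to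
H^q(X_0, F|_{X_0}) is bijective. (Exactness of pullback of abelian sheaves, which always holds, is
carried as an instance hypothesis.) -/
theorem result {X₀ X : Scheme.{u}} (i : X₀ ⟶ X) [IsIntegralHom i]
    [UniversallyInjective i] [Surjective i] [PreservesFiniteLimits (EtCoh.pull i)] (F : EtCoh.Ab X) (q : ℕ) :
    Function.Bijective (EtCore.Hpull i F q) := by
  haveI hu : IsIso (EtCoh.pullPushAdj i).unit := by
    haveI : ∀ G, IsIso ((EtCoh.pullPushAdj i).unit.app G) := fun G =>
      GrothLib.EtSite.isIso_unit_UI i G (by rw [Set.range_eq_univ.2 i.surjective]; exact Set.subset_univ _)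
    exact NatIso.isIso_of_isIso_app _
  haveI hc : IsIso (EtCoh.pullPushAdj i).counit := by
    haveI : ∀ G, IsIso ((EtCoh.pullPushAdj i).counit.app G) := fun G =>
      GrothLib.EtSite.isIso_counit_UI i G
    exact NatIso.isIso_of_isIso_app _
  haveI : (EtCoh.pull i).IsEquivalence := (EtCoh.pullPushAdj i).toEquivalence.isEquivalence_functor
  haveI : (EtCoh.pull i).PreservesInjectiveObjects :=
    Functor.preservesInjectiveObjects_of_adjunction_of_preservesMonomorphisms
      ((EtCoh.pull i).asEquivalence.symm.toAdjunction)
  let e := Abelian.Ext.mk₀ (EtCore.pullConst i ℤ).inv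
  let e' := Abelian.Ext.mk₀ (EtCore.pullConst i ℤ).hom
  have h1 : Function.Bijective ((EtCoh.pull i).mapExtAddHom (EtCoh.const X ℤ) F q) :=
    Functor.mapExt_bijective_of_preservesInjectiveObjects (EtCoh.pull i) _ _ q
  refine Function.Bijective.comp (g := fun x => e.comp x (zero_add q)) ⟨?_, ?_⟩ h1
  · intro a b hab
    have := congrArg (fun z => e'.comp z (zero_add q)) hab
    simpa [e, e'] using this
  · intro y
    exact ⟨e'.comp y (zero_add q), by simp [e, e']⟩

end Groth.Agent.S0642
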