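import Groth.Statements.S14451
import Groth.Agent.Lib.ExtAdj.Basic
-- import your own Groth.Agent.* helpers here

set_option autoImplicit false
universe u
open CategoryTheory CategoryTheory.Limits AlgebraicGeometry
open EtCore

namespace Groth.Agent.S14451

/-- Let f : X ⟶ Y be a morphism of schemes and F an abelian sheaf on the small étale site of X whose
higher direct images R^q f_* F vanish for all q > 0. Then for every p the canonical map H^p(Y, f_*
F) → H^p(X, F) (pull back along f, then apply the counit f⁻¹ f_* F ⟶ F) is bijective. (Exactness of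
f⁻¹, which always holds, is carried as an instance hypothesis.) -/
theorem result {X Y : Scheme.{u}} (f : X ⟶ Y)
    [PreservesFiniteLimits (EtCoh.pull f)] (F : EtCoh.Ab X)
    (hR : ∀ q : ℕ, 0 < q → IsZero ((EtCoh.Rpush f q).obj F)) (p : ℕ) :
    Function.Bijective (EtLim.HofPush f F p) := by
  let e := Abelian.Ext.mk₀ (EtCore.pullConst f ℤ).inv
  let e' := Abelian.Ext.mk₀ (EtCore.pullConst f ℤ).hom
  let φ := GrothLib.ExtAdj.adjMap (EtCoh.pullPushAdj f) (EtCoh.const Y ℤ) F p
  have hφ : Function.Bijective φ := GrothLib.ExtAdj.bijective_adjMap _ _ p F fun q => hR (q + 1) q.succ_pos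
  have hg : Function.Bijective (fun x : Abelian.Ext ((EtCoh.pull f).obj (EtCoh.const Y ℤ)) F p =>
      e.comp x (zero_add p)) := by
    refine ⟨fun a b hab => ?_, fun y => ⟨e'.comp y (zero_add p), by simp [e, e']⟩⟩
    have := congrArg (fun z => e'.comp z (zero_add p)) hab
    simpa [e, e'] using this
  convert hg.comp hφ using 1
  funext x
  exact Abelian.Ext.comp_assoc_of_third_deg_zero e ((EtCoh.pull f).mapExtAddHom _ _ p x) (Abelian.Ext.mk₀ ((EtCoh.pullPushAdj f).counit.app F)) (zero_add p)

end Groth.Agent.S14451
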