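import Groth.Statements.S12136
import Groth.Agent.Lib.AdicFS.Kaehler
import Mathlib.RingTheory.Filtration
-- import your own Groth.Agent.* helpers here

set_option autoImplicit false
universe u
open TensorProduct KaehlerDifferential
open EGA41

namespace Groth.Agent.S12136


section helpers

variable {A B : Type u} [CommRing A] [CommRing B] [Algebra A B]

/-- Derivations into modules killed by a power of `I` lift along surjections. -/
theorem lift_derivation (I : Ideal B) (hB : CAlgX.IsAdicFormallySmooth A B I) (k : ℕ)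
    {M N : Type u} [AddCommGroup M] [Module A M] [Module B M] [IsScalarTower A B M]
    [AddCommGroup N] [Module A N] [Module B N] [IsScalarTower A B N]
    (hM : ∀ b ∈ I ^ k, ∀ m : M, b • m = 0) (π : M →ₗ[B] N) (hπ : Function.Surjective π)
    (d : Derivation A B N) : ∃ D : Derivation A B M, ∀ x, π (D x) = d x := by
  have hM' : Module.IsTorsionBySet B M ↑(I ^ k) := fun m b => hM b.1 b.2 m
  have hN' : Module.IsTorsionBySet B N ↑(I ^ k) := fun n b => by
    obtain ⟨m, rfl⟩ := hπ n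
    rw [← map_smul, hM b.1 b.2 m, map_zero]
  letI := hM'.module
  letI := hN'.module
  haveI : IsScalarTower B (B ⧸ I ^ k) M := IsScalarTower.of_algebraMap_smul fun _ _ => rfl
  haveI : IsScalarTower B (B ⧸ I ^ k) N := IsScalarTower.of_algebraMap_smul fun _ _ => rfl
  haveI : IsScalarTower A (B ⧸ I ^ k) M := IsScalarTower.of_algebraMap_smul fun a m => by
    rw [IsScalarTower.algebraMap_apply A B (B ⧸ I ^ k), algebraMap_smul, algebraMap_smul]
  haveI : IsScalarTower A (B ⧸ I ^ k) N := IsScalarTower.of_algebraMap_smul fun a m => by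
    rw [IsScalarTower.algebraMap_apply A B (B ⧸ I ^ k), algebraMap_smul, algebraMap_smul]
  let π' : M →ₗ[B ⧸ I ^ k] N :=
    { toFun := π
      map_add' := π.map_add
      map_smul' := fun c m => by
        obtain ⟨b, rfl⟩ := Ideal.Quotient.mk_surjective c
        exact π.map_smul b m }
  exact GrothLib.AdicFS.exists_derivation_lift (𝔞 := (⊥ : Ideal A)) (𝔟 := I) (B₀ := B ⧸ I ^ k)
    ⟨1, by rw [pow_one, Ideal.map_bot]; exact bot_le⟩ ((GrothLib.AdicFS.isAdicFormallySmooth_iff I).1 hB)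
    ⟨k, fun x hx => Ideal.Quotient.eq_zero_iff_mem.2 hx⟩ π' hπ d

/-- Extension of linear maps on `J` to derivations, by dévissage along powers of `P`. -/
theorem extend (I J P : Ideal B) (hB : CAlgX.IsAdicFormallySmooth A B I) (k : ℕ)
    (hbase : ∀ (N : Type u) [AddCommGroup N] [Module A N] [Module B N] [IsScalarTower A B N],
      (∀ b ∈ P, ∀ z : N, b • z = 0) → (∀ b ∈ J, ∀ z : N, b • z = 0) → ∀ φ : ↥J →ₗ[B] N,
        ∃ D : Derivation A B N, ∀ x : ↥J, D x = φ x) :
    ∀ (s : ℕ) (N : Type u) [AddCommGroup N] [Module A N] [Module B N] [IsScalarTower A B N],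
      (∀ b ∈ J, ∀ z : N, b • z = 0) → (∀ b ∈ I ^ k, ∀ z : N, b • z = 0) →
      (∀ b ∈ P ^ s, ∀ z : N, b • z = 0) → ∀ φ : ↥J →ₗ[B] N, ∃ D : Derivation A B N, ∀ x : ↥J, D x = φ x := by
  intro s
  induction s with
  | zero =>
    intro N _ _ _ _ _ _ hs φ
    have hz : ∀ z : N, z = 0 := fun z => by simpa using hs 1 (by simp) z
    exact ⟨0, fun x => (hz _).trans (hz _).symm⟩
  | succ s ih =>
    intro N _ _ _ _ hJ hI hs φ
    let N' : Submodule B N := P ^ s • ⊤
    have hN' : ∀ b ∈ P, ∀ z : ↥N', b • z = 0 := by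
      rintro b hb ⟨z, hz⟩
      refine Subtype.ext ?_
      show b • z = 0
      induction hz using Submodule.smul_induction_on' with
      | smul r hr n _ => rw [smul_smul]; exact hs _ (by rw [pow_succ']; exact Ideal.mul_mem_mul hb hr) n
      | add x _ y _ hx hy => rw [smul_add, hx, hy, add_zero]
    obtain ⟨Db, hDb⟩ := ih (N ⧸ N') (fun b hb z => by
        obtain ⟨z, rfl⟩ := Submodule.Quotient.mk_surjective _ z
        rw [← Submodule.Quotient.mk_smul, hJ b hb, Submodule.Quotient.mk_zero])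
      (fun b hb z => by
        obtain ⟨z, rfl⟩ := Submodule.Quotient.mk_surjective _ z
        rw [← Submodule.Quotient.mk_smul, hI b hb, Submodule.Quotient.mk_zero])
      (fun b hb z => by
        obtain ⟨z, rfl⟩ := Submodule.Quotient.mk_surjective _ z
        rw [← Submodule.Quotient.mk_smul, Submodule.Quotient.mk_eq_zero]
        exact Submodule.smul_mem_smul hb trivial)
      (N'.mkQ ∘ₗ φ)
    obtain ⟨D₀, hD₀⟩ := lift_derivation I hB k hI N'.mkQ N'.mkQ_surjective Db
    let φ' : ↥J →ₗ[B] ↥N' :=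
      { toFun := fun x => ⟨φ x - D₀ x, by
          rw [← Submodule.Quotient.mk_eq_zero, Submodule.Quotient.mk_sub, sub_eq_zero]
          exact ((hD₀ x).trans (hDb x)).symm⟩
        map_add' := fun x y => Subtype.ext (by
          show φ (x + y) - D₀ ((x : B) + y) = φ x - D₀ x + (φ y - D₀ y)
          rw [map_add, map_add]; abel)
        map_smul' := fun b x => Subtype.ext (by
          show φ (b • x) - D₀ (b * (x : B)) = b • (φ x - D₀ x)
          rw [map_smul, Derivation.leibniz, hJ x x.2, add_zero, smul_sub]) }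
    obtain ⟨D₁, hD₁⟩ := hbase ↥N' hN' (fun b hb z => Subtype.ext (hJ b hb z)) φ'
    refine ⟨D₀ + N'.subtype.compDer D₁, fun x => ?_⟩
    show D₀ x + (D₁ x : N) = φ x
    rw [hD₁ x]
    exact add_sub_cancel (D₀ x) (φ x)

/-- The base step, from a left inverse modulo `P`. -/
theorem base (J : Ideal B) (Q : Ideal (B ⧸ J))
    (g : ((B ⧸ J) ⧸ Q) ⊗[B] ((B ⧸ J) ⊗[B] Ω[B⁄A]) →ₗ[(B ⧸ J) ⧸ Q]
      ((B ⧸ J) ⧸ Q) ⊗[B] (RingHom.ker (algebraMap B (B ⧸ J))).Cotangent)
    (hg : g ∘ₗ LinearMap.baseChange ((B ⧸ J) ⧸ Q) (KaehlerDifferential.kerCotangentToTensor A B (B ⧸ J)) =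
      LinearMap.id)
    (N : Type u) [AddCommGroup N] [Module A N] [Module B N] [IsScalarTower A B N]
    (hP : ∀ b ∈ Q.comap (Ideal.Quotient.mk J), ∀ z : N, b • z = 0)
    (hJ : ∀ b ∈ J, ∀ z : N, b • z = 0) (φ : ↥J →ₗ[B] N) :
    ∃ D : Derivation A B N, ∀ x : ↥J, D x = φ x := by
  let P : Ideal B := Q.comap (Ideal.Quotient.mk J)
  have hP' : Module.IsTorsionBySet B N ↑P := fun z b => hP b.1 b.2 z
  letI := hP'.module
  let θ : (B ⧸ J) ⧸ Q →+* B ⧸ P :=
    Ideal.Quotient.lift Q (Ideal.Quotient.lift J (Ideal.Quotient.mk P) fun x hx =>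
        Ideal.Quotient.eq_zero_iff_mem.2 (by
          show Ideal.Quotient.mk J x ∈ Q
          rw [Ideal.Quotient.eq_zero_iff_mem.2 hx]; exact Q.zero_mem)) (fun c hc => by
      obtain ⟨x, rfl⟩ := Ideal.Quotient.mk_surjective c
      rw [Ideal.Quotient.lift_mk]
      exact Ideal.Quotient.eq_zero_iff_mem.2 hc)
  letI : Module ((B ⧸ J) ⧸ Q) N := Module.compHom N θ
  haveI : IsScalarTower B ((B ⧸ J) ⧸ Q) N := ⟨fun b c z => by
    obtain ⟨c, rfl⟩ := Ideal.Quotient.mk_surjective c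
    obtain ⟨c, rfl⟩ := Ideal.Quotient.mk_surjective c
    show (b * c) • z = b • c • z
    exact mul_smul b c z⟩
  let J' := RingHom.ker (algebraMap B (B ⧸ J))
  have hJ' : J' = J := Ideal.mk_ker
  let φ' : ↥J' →ₗ[B] N := φ ∘ₗ (LinearEquiv.ofEq J' J hJ').toLinearMap
  let φb : J'.Cotangent →ₗ[B] N := Submodule.liftQ _ φ' (by
    refine Submodule.smul_le.2 fun a ha y _ => ?_
    show φ' (a • y) = 0
    rw [map_smul]
    exact hJ a (hJ'.le ha) _)
  let ψ : ((B ⧸ J) ⧸ Q) ⊗[B] J'.Cotangent →ₗ[(B ⧸ J) ⧸ Q] N := φb.liftBaseChange _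
  let l : Ω[B⁄A] →ₗ[B] N :=
    ((ψ ∘ₗ g).restrictScalars B) ∘ₗ
      (TensorProduct.mk B ((B ⧸ J) ⧸ Q) ((B ⧸ J) ⊗[B] Ω[B⁄A]) 1 ∘ₗ TensorProduct.mk B (B ⧸ J) Ω[B⁄A] 1)
  refine ⟨l.compDer (KaehlerDifferential.D A B), fun x => ?_⟩
  have h := LinearMap.congr_fun hg (1 ⊗ₜ[B] J'.toCotangent ⟨x.1, hJ'.ge x.2⟩)
  rw [LinearMap.comp_apply, LinearMap.baseChange_tmul, KaehlerDifferential.kerCotangentToTensor_toCotangent,
    LinearMap.id_apply] at h
  show ψ (g (1 ⊗ₜ[B] ((1 : B ⧸ J) ⊗ₜ[B] KaehlerDifferential.D A B x.1))) = φ x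
  rw [h, LinearMap.liftBaseChange_tmul, one_smul]
  rfl

theorem mpr_dir (I J : Ideal B) (hB : CAlgX.IsAdicFormallySmooth A B I)
    (Q : Ideal (B ⧸ J)) (hQ' : ∃ m : ℕ, Q ^ m ≤ I.map (Ideal.Quotient.mk J))
    (g : ((B ⧸ J) ⧸ Q) ⊗[B] ((B ⧸ J) ⊗[B] Ω[B⁄A]) →ₗ[(B ⧸ J) ⧸ Q]
      ((B ⧸ J) ⧸ Q) ⊗[B] (RingHom.ker (algebraMap B (B ⧸ J))).Cotangent)
    (hg : g ∘ₗ LinearMap.baseChange ((B ⧸ J) ⧸ Q) (KaehlerDifferential.kerCotangentToTensor A B (B ⧸ J)) =
      LinearMap.id) :
    CAlgX.IsAdicFormallySmooth A (B ⧸ J) (I.map (Ideal.Quotient.mk J)) := by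
  intro T _ _ N hN ψ ⟨k, hk⟩
  have hN2 : ∀ a ∈ N, ∀ b ∈ N, a * b = 0 := fun a ha b hb => by
    rw [← Ideal.mem_bot, ← hN, pow_two]; exact Ideal.mul_mem_mul ha hb
  obtain ⟨χ, hχ⟩ := hB T N hN (ψ.comp (Ideal.Quotient.mkₐ A J)) ⟨k, fun x hx => hk _ (by
    rw [← Ideal.map_pow]; exact Ideal.mem_map_of_mem _ hx)⟩
  have hχ' : ∀ x, Ideal.Quotient.mk N (χ x) = ψ (Ideal.Quotient.mk J x) := fun x => AlgHom.congr_fun hχ x
  letI : Algebra B T := χ.toRingHom.toAlgebra
  haveI : IsScalarTower A B T := IsScalarTower.of_algebraMap_eq fun a => (χ.commutes a).symm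
  have hJN : ∀ x ∈ J, χ x ∈ N := fun x hx => by
    rw [← Ideal.Quotient.eq_zero_iff_mem, hχ', Ideal.Quotient.eq_zero_iff_mem.2 hx, map_zero]
  have hIN : ∀ x ∈ I ^ k, χ x ∈ N := fun x hx => by
    rw [← Ideal.Quotient.eq_zero_iff_mem, hχ']
    exact hk _ (by rw [← Ideal.map_pow]; exact Ideal.mem_map_of_mem _ hx)
  have hkill : ∀ b, χ b ∈ N → ∀ z : ↥N, b • z = 0 := fun b hb z => Subtype.ext (by
    show b • (z : T) = 0
    rw [Algebra.smul_def]; exact hN2 _ hb _ z.2)
  obtain ⟨m, hm⟩ := hQ'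
  have hPs : ∀ b ∈ (Q.comap (Ideal.Quotient.mk J)) ^ (m * k), ∀ z : ↥N, b • z = 0 := by
    have hle : (Q.comap (Ideal.Quotient.mk J)) ^ (m * k) ≤ I ^ k ⊔ J := by
      have h1 : ((Q.comap (Ideal.Quotient.mk J)) ^ (m * k)).map (Ideal.Quotient.mk J) ≤
          (I ^ k).map (Ideal.Quotient.mk J) := by
        rw [Ideal.map_pow, Ideal.map_comap_of_surjective _ Ideal.Quotient.mk_surjective, pow_mul,
          Ideal.map_pow]
        exact Ideal.pow_right_mono hm k
      refine (Ideal.map_le_iff_le_comap.1 h1).trans ?_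
      rw [Ideal.comap_map_of_surjective _ Ideal.Quotient.mk_surjective, ← RingHom.ker_eq_comap_bot,
        Ideal.mk_ker]
    intro b hb z
    obtain ⟨u, hu, v, hv, rfl⟩ := Submodule.mem_sup.1 (hle hb)
    exact hkill _ (by rw [map_add]; exact N.add_mem (hIN u hu) (hJN v hv)) z
  let φ : ↥J →ₗ[B] ↥N :=
    { toFun := fun x => ⟨χ x, hJN x x.2⟩
      map_add' := fun x y => Subtype.ext (map_add χ (x : B) y)
      map_smul' := fun b x => Subtype.ext (by
        show χ (b * (x : B)) = b • χ (x : B)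
        rw [map_mul, Algebra.smul_def]; rfl) }
  obtain ⟨D, hD⟩ := extend I J _ hB k (fun N _ _ _ _ h1 h2 φ => base J Q g hg N h1 h2 φ) (m * k) ↥N
    (fun b hb => hkill b (hJN b hb)) (fun b hb => hkill b (hIN b hb)) hPs φ
  let χ' : B →ₐ[A] T :=
    { toFun := fun b => χ b - (D b : T)
      map_one' := by rw [map_one, Derivation.map_one_eq_zero, ZeroMemClass.coe_zero, sub_zero]
      map_mul' := fun x y => by
        rw [Derivation.leibniz, Submodule.coe_add, Submodule.coe_smul_of_tower, Submodule.coe_smul_of_tower, map_mul,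
          Algebra.smul_def, Algebra.smul_def, show algebraMap B T x = χ x from rfl,
          show algebraMap B T y = χ y from rfl]
        linear_combination (norm := ring_nf) -(hN2 (D x : T) (D x).2 (D y : T) (D y).2)
      map_zero' := by rw [map_zero, map_zero, ZeroMemClass.coe_zero, sub_zero]
      map_add' := fun x y => by rw [map_add, map_add, Submodule.coe_add]; abel
      commutes' := fun a => by
        rw [χ.commutes, Derivation.map_algebraMap, ZeroMemClass.coe_zero, sub_zero] }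
  refine ⟨Ideal.Quotient.liftₐ J χ' fun x hx => ?_, ?_⟩
  · show χ x - (D x : T) = 0
    rw [show D x = φ ⟨x, hx⟩ from hD ⟨x, hx⟩]
    exact sub_self _
  · refine AlgHom.ext fun c => ?_
    obtain ⟨b, rfl⟩ := Ideal.Quotient.mk_surjective c
    show Ideal.Quotient.mk N (χ b - (D b : T)) = ψ (Ideal.Quotient.mk J b)
    rw [map_sub, hχ', Ideal.Quotient.eq_zero_iff_mem.2 (D b).2, sub_zero]

theorem mp_dir [IsNoetherianRing B] (I J : Ideal B) (Q : Ideal (B ⧸ J))
    (hQ : ∃ n : ℕ, (I.map (Ideal.Quotient.mk J)) ^ n ≤ Q)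
    (hC : CAlgX.IsAdicFormallySmooth A (B ⧸ J) (I.map (Ideal.Quotient.mk J))) :
    ∃ g : ((B ⧸ J) ⧸ Q) ⊗[B] ((B ⧸ J) ⊗[B] Ω[B⁄A]) →ₗ[(B ⧸ J) ⧸ Q]
          ((B ⧸ J) ⧸ Q) ⊗[B] (RingHom.ker (algebraMap B (B ⧸ J))).Cotangent,
        g ∘ₗ LinearMap.baseChange ((B ⧸ J) ⧸ Q) (KaehlerDifferential.kerCotangentToTensor A B (B ⧸ J)) =
          LinearMap.id := by
  obtain ⟨n, hn⟩ := hQ
  let P : Ideal B := Q.comap (Ideal.Quotient.mk J)
  have hJP : J ≤ P := fun x hx => by
    show Ideal.Quotient.mk J x ∈ Q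
    rw [Ideal.Quotient.eq_zero_iff_mem.2 hx]; exact Q.zero_mem
  have hIP : I ^ n ≤ P := fun x hx => hn (by rw [← Ideal.map_pow]; exact Ideal.mem_map_of_mem _ hx)
  obtain ⟨c, hc⟩ := Ideal.exists_pow_inf_eq_pow_smul I (J : Submodule B B)
  let k := n + c
  have hIJ : I ^ k ⊓ J ≤ P * J := by
    intro x hx
    have h1 : x ∈ I ^ k • (⊤ : Submodule B B) ⊓ J := ⟨by simpa using hx.1, hx.2⟩
    rw [hc k (Nat.le_add_left _ _), Nat.add_sub_cancel] at h1
    exact Ideal.mul_mono hIP le_rfl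
      (Submodule.smul_mono le_rfl inf_le_right h1)
  let K : Ideal B := P * J ⊔ I ^ k
  let T := B ⧸ K
  let N : Ideal T := J.map (Ideal.Quotient.mk K)
  have hN : N ^ 2 = ⊥ := by
    rw [← Ideal.map_pow, pow_two, eq_bot_iff, Ideal.map_le_iff_le_comap]
    intro x hx
    exact Ideal.mem_bot.2 (Ideal.Quotient.eq_zero_iff_mem.2
      (Submodule.mem_sup_left (Ideal.mul_mono hJP le_rfl hx)))
  let ψ : B ⧸ J →ₐ[A] T ⧸ N := Ideal.Quotient.liftₐ J
    ((Ideal.Quotient.mkₐ A N).comp (Ideal.Quotient.mkₐ A K)) fun x hx =>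
      Ideal.Quotient.eq_zero_iff_mem.2 (Ideal.mem_map_of_mem (Ideal.Quotient.mk K) hx)
  have hψ : ∀ x ∈ (I.map (Ideal.Quotient.mk J)) ^ k, ψ x = 0 := by
    intro x hx
    rw [← Ideal.map_pow] at hx
    obtain ⟨b, hb, rfl⟩ := (Ideal.mem_map_iff_of_surjective _ Ideal.Quotient.mk_surjective).1 hx
    show Ideal.Quotient.mk N (Ideal.Quotient.mk K b) = 0
    rw [Ideal.Quotient.eq_zero_iff_mem.2 (Submodule.mem_sup_right hb), map_zero]
  obtain ⟨σ, hσ⟩ := hC T N hN ψ ⟨k, hψ⟩
  let J' := RingHom.ker (algebraMap B (B ⧸ J))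
  have hJ' : J' = J := Ideal.mk_ker
  let R := ((B ⧸ J) ⧸ Q) ⊗[B] J'.Cotangent
  let v : ↥J' →ₗ[B] R := TensorProduct.mk B ((B ⧸ J) ⧸ Q) J'.Cotangent 1 ∘ₗ J'.toCotangent
  have hPR : ∀ b ∈ P, ∀ z : R, b • z = 0 := fun b hb z => by
    induction z using TensorProduct.induction_on with
    | zero => rw [smul_zero]
    | add x y hx hy => rw [smul_add, hx, hy, add_zero]
    | tmul c x =>
      rw [TensorProduct.smul_tmul', ← algebraMap_smul ((B ⧸ J) ⧸ Q) b c, smul_eq_mul,
        show algebraMap B ((B ⧸ J) ⧸ Q) b = 0 from Ideal.Quotient.eq_zero_iff_mem.2 hb, zero_mul,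
        TensorProduct.zero_tmul]
  have hv0 : ∀ x : ↥J', (x : B) ∈ K → v x = 0 := by
    intro x hx
    obtain ⟨a, ha, b, hb, hab⟩ := Submodule.mem_sup.1 hx
    have hbJ : b ∈ J := by
      rw [show b = (x : B) - a by rw [← hab]; ring]
      exact J.sub_mem (hJ'.le x.2) (Ideal.mul_le_right ha)
    have hxPJ : (x : B) ∈ P * J' := by
      refine Ideal.mul_mono le_rfl hJ'.ge ?_
      rw [← hab]; exact (P * J).add_mem ha (hIJ ⟨hb, hbJ⟩)
    have hmem : x ∈ P • (⊤ : Submodule B ↥J') := by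
      have h2 : (P • (⊤ : Submodule B ↥J')).map J'.subtype = P * J' := by
        rw [Submodule.map_smul'', Submodule.map_subtype_top, smul_eq_mul]
      rw [← h2] at hxPJ
      obtain ⟨y, hy, he⟩ := hxPJ
      rwa [← Subtype.ext he]
    clear hxPJ hab hx
    induction hmem using Submodule.smul_induction_on' with
    | smul r hr y _ => rw [map_smul, hPR r hr]
    | add a _ b _ ha hb => rw [map_add, ha, hb, add_zero]
  have hchoice : ∀ b : B, ∃ x : ↥J', Ideal.Quotient.mk K x =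
      Ideal.Quotient.mk K b - σ (Ideal.Quotient.mk J b) := fun b => by
    have h1 : Ideal.Quotient.mk K b - σ (Ideal.Quotient.mk J b) ∈ N := by
      rw [← Ideal.Quotient.eq_zero_iff_mem, map_sub, sub_eq_zero]
      exact (AlgHom.congr_fun hσ (Ideal.Quotient.mk J b)).symm
    obtain ⟨x, hx, he⟩ := (Ideal.mem_map_iff_of_surjective _ Ideal.Quotient.mk_surjective).1 h1
    exact ⟨⟨x, hJ'.ge hx⟩, he⟩
  choose δ hδ using hchoice
  have huniq : ∀ x y : ↥J', Ideal.Quotient.mk K (x : B) = Ideal.Quotient.mk K (y : B) → v x = v y :=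
    fun x y h => by
      rw [← sub_eq_zero, ← map_sub]
      exact hv0 _ ((Ideal.Quotient.eq).1 h)
  have hδN : ∀ b, Ideal.Quotient.mk K (δ b : B) ∈ N := fun b =>
    Ideal.mem_map_of_mem _ (hJ'.le (δ b).2)
  let Dl : B →ₗ[A] R :=
    { toFun := fun b => v (δ b)
      map_add' := fun a b => by
        rw [← map_add]
        exact huniq _ _ (by rw [Submodule.coe_add, map_add, hδ, hδ, hδ, map_add, map_add, map_add]; abel)
      map_smul' := fun a b => by
        rw [RingHom.id_apply, ← algebraMap_smul B a (v (δ b)), ← map_smul]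
        refine huniq _ _ ?_
        rw [SetLike.val_smul, smul_eq_mul, map_mul, hδ, hδ, Algebra.smul_def, map_mul, map_mul, map_mul,
          mul_sub]
        congr 2
        exact (σ.commutes a) }
  let D : Derivation A B R := Derivation.mk' Dl fun a b => by
    show v (δ (a * b)) = a • v (δ b) + b • v (δ a)
    rw [← map_smul, ← map_smul, ← map_add]
    refine huniq _ _ ?_
    rw [Submodule.coe_add, SetLike.val_smul, SetLike.val_smul, smul_eq_mul, smul_eq_mul, map_add,
      map_mul, map_mul, hδ, hδ, hδ, map_mul, map_mul, map_mul]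
    have h2 : (Ideal.Quotient.mk K a - σ (Ideal.Quotient.mk J a)) *
        (Ideal.Quotient.mk K b - σ (Ideal.Quotient.mk J b)) = 0 := by
      rw [← hδ, ← hδ, ← Ideal.mem_bot, ← hN, pow_two]
      exact Ideal.mul_mem_mul (hδN a) (hδN b)
    linear_combination -h2
  have hDJ : ∀ x : ↥J', D (x : B) = v x := fun x => by
    refine huniq _ _ ?_
    rw [hδ, Ideal.Quotient.eq_zero_iff_mem.2 (hJ'.le x.2), map_zero, sub_zero]
  refine ⟨(D.liftKaehlerDifferential.liftBaseChange (B ⧸ J) |>.restrictScalars B).liftBaseChange _, ?_⟩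
  refine TensorProduct.AlgebraTensorModule.ext fun q z => ?_
  obtain ⟨x, rfl⟩ := J'.toCotangent_surjective z
  rw [LinearMap.comp_apply, LinearMap.baseChange_tmul, KaehlerDifferential.kerCotangentToTensor_toCotangent,
    LinearMap.liftBaseChange_tmul, LinearMap.restrictScalars_apply, LinearMap.liftBaseChange_tmul, one_smul,
    Derivation.liftKaehlerDifferential_comp_D, hDJ, LinearMap.id_apply]
  show q • ((1 : (B ⧸ J) ⧸ Q) ⊗ₜ[B] J'.toCotangent x) = _
  rw [TensorProduct.smul_tmul', smul_eq_mul, mul_one]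

end helpers

/-- In the Noetherian adic case, which the published statement itself singles out, let A → B be a ring
homomorphism with B Noetherian, I and J ideals of B, and suppose B, with the I-adic topology, is
formally smooth over the discrete ring A. Put C = B/J with the quotient (IC-adic) topology and let Q
be an ideal of definition of C, i.e. an ideal containing a power of IC and a power of which lies in
IC. Then C is formally smooth over A for the IC-adic topology if and only if the C/Q-linear map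
(J/J²) ⊗ (C/Q) → Ω_{B/A} ⊗_B (C/Q), obtained by base change from the conormal map J/J² → Ω_{B/A} ⊗_B
C, x ↦ 1 ⊗ dx, has a C/Q-linear left inverse (is an isomorphism onto a direct summand). Here J is
written as the kernel of B → C and the tensor products are taken over B, which for these C-modules
is the same as over C. (The published statement allows A to be any topological ring with A → B
continuous; this row takes A discrete.) -/
theorem result {A B : Type u} [CommRing A]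
    [CommRing B] [Algebra A B] [IsNoetherianRing B] (I J : Ideal B) (hB : CAlgX.IsAdicFormallySmooth A B I)
    (Q : Ideal (B ⧸ J)) (hQ : ∃ n : ℕ, (I.map (Ideal.Quotient.mk J)) ^ n ≤ Q)
    (hQ' : ∃ m : ℕ, Q ^ m ≤ I.map (Ideal.Quotient.mk J)) :
    CAlgX.IsAdicFormallySmooth A (B ⧸ J) (I.map (Ideal.Quotient.mk J)) ↔
      ∃ g : ((B ⧸ J) ⧸ Q) ⊗[B] ((B ⧸ J) ⊗[B] Ω[B⁄A]) →ₗ[(B ⧸ J) ⧸ Q]
          ((B ⧸ J) ⧸ Q) ⊗[B] (RingHom.ker (algebraMap B (B ⧸ J))).Cotangent,
        g ∘ₗ LinearMap.baseChange ((B ⧸ J) ⧸ Q) (KaehlerDifferential.kerCotangentToTensor A B (B ⧸ J)) =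
          LinearMap.id := by
  exact ⟨fun h => mp_dir I J Q hQ h, fun ⟨g, hg⟩ => mpr_dir I J hB Q hQ' g hg⟩

end Groth.Agent.S12136
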