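import Groth.Statements.S4570
import Groth.Agent.Lib.SymGr.Smooth
import Groth.Agent.Lib.AdicFS.Kaehler
import Groth.Agent.Lib.AdicFSDiscrete.Basic
import Groth.Agent.S12136
-- import your own Groth.Agent.* helpers here

set_option autoImplicit false
universe u
open TensorProduct KaehlerDifferential
open EGA41

namespace Groth.Agent.S4570


section helpers

variable {Λ A B : Type u} [CommRing Λ] [CommRing A] [CommRing B] [Algebra Λ A] [Algebra A B]
  [Algebra Λ B] [IsScalarTower Λ A B]

/-- Extension of derivations along a left inverse, by dévissage along powers of `J`. -/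
theorem extend (J : Ideal B) (hB : CAlgX.IsAdicFormallySmooth Λ B J)
    (r : (B ⧸ J) ⊗[B] Ω[B⁄Λ] →ₗ[B] (B ⧸ J) ⊗[B] (B ⊗[A] Ω[A⁄Λ]))
    (hr : r ∘ₗ (mapBaseChange Λ A B).lTensor (B ⧸ J) = LinearMap.id) :
    ∀ (n : ℕ) (N : Type u) [AddCommGroup N] [Module Λ N] [Module A N] [Module B N] [IsScalarTower Λ A N]
      [IsScalarTower Λ B N] [IsScalarTower A B N], (∀ b ∈ J ^ n, ∀ z : N, b • z = 0) →
      ∀ d : Derivation Λ A N, ∃ D : Derivation Λ B N, ∀ a : A, D (algebraMap A B a) = d a := by
  intro n
  induction n with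
  | zero =>
    intro N _ _ _ _ _ _ _ hs d
    have hz : ∀ z : N, z = 0 := fun z => by simpa using hs 1 (by simp) z
    exact ⟨0, fun a => (hz _).trans (hz _).symm⟩
  | succ n ih =>
    intro N _ _ _ _ _ _ _ hs d
    let N' : Submodule B N := J ^ n • ⊤
    have hN' : ∀ b ∈ J, ∀ z : ↥N', b • z = 0 := by
      rintro b hb ⟨z, hz⟩
      refine Subtype.ext ?_
      show b • z = 0
      induction hz using Submodule.smul_induction_on' with
      | smul r hr m _ => rw [smul_smul]; exact hs _ (by rw [pow_succ']; exact Ideal.mul_mem_mul hb hr) m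
      | add x _ y _ hx hy => rw [smul_add, hx, hy, add_zero]
    obtain ⟨Db, hDb⟩ := ih (N ⧸ N') (fun b hb z => by
        obtain ⟨z, rfl⟩ := Submodule.Quotient.mk_surjective _ z
        rw [← Submodule.Quotient.mk_smul, Submodule.Quotient.mk_eq_zero]
        exact Submodule.smul_mem_smul hb trivial) ((N'.mkQ.restrictScalars A).compDer d)
    obtain ⟨D₀, hD₀⟩ := Groth.Agent.S12136.lift_derivation J hB (n + 1) hs N'.mkQ N'.mkQ_surjective Db
    have hmem : ∀ a, d a - D₀ (algebraMap A B a) ∈ N' := fun a => by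
      rw [← Submodule.Quotient.mk_eq_zero, Submodule.Quotient.mk_sub, sub_eq_zero]
      exact ((hD₀ _).trans (hDb a)).symm
    let d' : Derivation Λ A ↥N' := Derivation.mk'
      { toFun := fun a => ⟨_, hmem a⟩
        map_add' := fun a b => Subtype.ext (by
          show d (a + b) - D₀ (algebraMap A B (a + b)) =
            (d a - D₀ (algebraMap A B a)) + (d b - D₀ (algebraMap A B b))
          rw [map_add, map_add, map_add]
          exact add_sub_add_comm _ _ _ _)
        map_smul' := fun l a => Subtype.ext (by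
          show d (l • a) - D₀ (algebraMap A B (l • a)) = l • (d a - D₀ (algebraMap A B a))
          rw [Derivation.map_smul, show algebraMap A B (l • a) = l • algebraMap A B a from
            (IsScalarTower.toAlgHom Λ A B).toLinearMap.map_smul l a, Derivation.map_smul, smul_sub]) }
      fun a b => Subtype.ext (by
        show d (a * b) - D₀ (algebraMap A B (a * b)) =
          a • (d b - D₀ (algebraMap A B b)) + b • (d a - D₀ (algebraMap A B a))
        rw [map_mul (algebraMap A B), Derivation.leibniz, Derivation.leibniz, algebraMap_smul, algebraMap_smul,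
          smul_sub, smul_sub]
        abel)
    letI := (show Module.IsTorsionBySet B ↥N' ↑J from fun z b => hN' b.1 b.2 z).module
    haveI : IsScalarTower B (B ⧸ J) ↥N' := IsScalarTower.of_algebraMap_smul fun _ _ => rfl
    let ψ : (B ⧸ J) ⊗[B] (B ⊗[A] Ω[A⁄Λ]) →ₗ[B ⧸ J] ↥N' :=
      (d'.liftKaehlerDifferential.liftBaseChange B).liftBaseChange (B ⧸ J)
    let l : Ω[B⁄Λ] →ₗ[B] ↥N' :=
      ψ.restrictScalars B ∘ₗ r ∘ₗ TensorProduct.mk B (B ⧸ J) Ω[B⁄Λ] 1
    refine ⟨D₀ + N'.subtype.compDer (l.compDer (KaehlerDifferential.D Λ B)), fun a => ?_⟩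
    have h1 := LinearMap.congr_fun hr (1 ⊗ₜ[B] ((1 : B) ⊗ₜ[A] KaehlerDifferential.D Λ A a))
    rw [LinearMap.comp_apply, LinearMap.lTensor_tmul, mapBaseChange_tmul, map_D, one_smul,
      LinearMap.id_apply] at h1
    show D₀ (algebraMap A B a) + ((ψ (r (1 ⊗ₜ[B] KaehlerDifferential.D Λ B (algebraMap A B a))) : ↥N') : N) = d a
    rw [h1, LinearMap.liftBaseChange_tmul, LinearMap.liftBaseChange_tmul, one_smul, one_smul,
      Derivation.liftKaehlerDifferential_comp_D]
    exact add_sub_cancel _ _

/-- A left inverse from injectivity and a projective cokernel. -/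
theorem exists_retraction (J : Ideal B) (hinj : Function.Injective ((mapBaseChange Λ A B).lTensor (B ⧸ J)))
    (hproj : Module.Projective (B ⧸ J) ((B ⧸ J) ⊗[B] (Ω[B⁄A]))) :
    ∃ r : (B ⧸ J) ⊗[B] Ω[B⁄Λ] →ₗ[B] (B ⧸ J) ⊗[B] (B ⊗[A] Ω[A⁄Λ]),
      r ∘ₗ (mapBaseChange Λ A B).lTensor (B ⧸ J) = LinearMap.id := by
  let p0 := KaehlerDifferential.map Λ A B B
  let p := p0.baseChange (B ⧸ J)
  have hp : Function.Surjective p := LinearMap.lTensor_surjective (B ⧸ J) (KaehlerDifferential.map_surjective Λ A B)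
  have hex : Function.Exact ((mapBaseChange Λ A B).lTensor (B ⧸ J)) (p0.lTensor (B ⧸ J)) :=
    lTensor_exact (B ⧸ J) (exact_mapBaseChange_map Λ A B) (KaehlerDifferential.map_surjective Λ A B)
  obtain ⟨t, ht⟩ := Module.projective_lifting_property p LinearMap.id hp
  have hmem : ∀ z, z - t (p z) ∈ LinearMap.range ((mapBaseChange Λ A B).lTensor (B ⧸ J)) := fun z => by
    refine (hex _).1 ?_
    show p (z - t (p z)) = 0
    rw [map_sub, show p (t (p z)) = p z from LinearMap.congr_fun ht (p z), sub_self]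
  let e := LinearEquiv.ofInjective _ hinj
  let q : (B ⧸ J) ⊗[B] Ω[B⁄Λ] →ₗ[B] ↥(LinearMap.range ((mapBaseChange Λ A B).lTensor (B ⧸ J))) :=
    LinearMap.codRestrict _ (LinearMap.id - (t.restrictScalars B) ∘ₗ (p.restrictScalars B)) hmem
  refine ⟨e.symm.toLinearMap ∘ₗ q, LinearMap.ext fun x => ?_⟩
  show e.symm (q ((mapBaseChange Λ A B).lTensor (B ⧸ J) x)) = x
  have : q ((mapBaseChange Λ A B).lTensor (B ⧸ J) x) = e x := by
    refine Subtype.ext ?_
    have h0 : p ((mapBaseChange Λ A B).lTensor (B ⧸ J) x) = 0 := hex.apply_apply_eq_zero x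
    show (mapBaseChange Λ A B).lTensor (B ⧸ J) x - t (p _) = _
    rw [h0, map_zero, sub_zero]
    rfl
  rw [this, LinearEquiv.symm_apply_apply]

theorem mpr_dir (J : Ideal B) (hB : CAlgX.IsAdicFormallySmooth Λ B J)
    (r : (B ⧸ J) ⊗[B] Ω[B⁄Λ] →ₗ[B] (B ⧸ J) ⊗[B] (B ⊗[A] Ω[A⁄Λ]))
    (hr : r ∘ₗ (mapBaseChange Λ A B).lTensor (B ⧸ J) = LinearMap.id) :
    CAlgX.IsAdicFormallySmooth A B J := by
  intro T _ _ N hN ψ ⟨k, hk⟩
  have hN2 : ∀ a ∈ N, ∀ b ∈ N, a * b = 0 := fun a ha b hb => by
    rw [← Ideal.mem_bot, ← hN, pow_two]; exact Ideal.mul_mem_mul ha hb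
  letI : Algebra Λ T := ((algebraMap A T).comp (algebraMap Λ A)).toAlgebra
  haveI : IsScalarTower Λ A T := IsScalarTower.of_algebraMap_eq fun _ => rfl
  obtain ⟨v, hv⟩ := hB T N hN (ψ.restrictScalars Λ) ⟨k, hk⟩
  have hv' : ∀ x, Ideal.Quotient.mk N (v x) = ψ x := fun x => AlgHom.congr_fun hv x
  have hdiff : ∀ a, v (algebraMap A B a) - algebraMap A T a ∈ N := fun a => by
    rw [← Ideal.Quotient.eq_zero_iff_mem, map_sub, hv', ψ.commutes]
    exact sub_self _
  letI : Algebra B T := v.toRingHom.toAlgebra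
  haveI : IsScalarTower Λ B T := IsScalarTower.of_algebraMap_eq fun l => (v.commutes l).symm
  haveI : IsScalarTower A B ↥N := IsScalarTower.of_algebraMap_smul fun a z => Subtype.ext (by
    show v (algebraMap A B a) * (z : T) = a • (z : T)
    rw [Algebra.smul_def, ← sub_eq_zero, ← sub_mul]
    exact hN2 _ (hdiff a) _ z.2)
  let d : Derivation Λ A ↥N := Derivation.mk'
    { toFun := fun a => ⟨_, hdiff a⟩
      map_add' := fun a b => Subtype.ext (by
        show v (algebraMap A B (a + b)) - algebraMap A T (a + b) =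
          (v (algebraMap A B a) - algebraMap A T a) + (v (algebraMap A B b) - algebraMap A T b)
        rw [map_add, map_add, map_add]
        exact add_sub_add_comm _ _ _ _)
      map_smul' := fun l a => Subtype.ext (by
        show v (algebraMap A B (l • a)) - algebraMap A T (l • a) = l • (v (algebraMap A B a) - algebraMap A T a)
        rw [show algebraMap A B (l • a) = l • algebraMap A B a from
            (IsScalarTower.toAlgHom Λ A B).toLinearMap.map_smul l a,
          show algebraMap A T (l • a) = l • algebraMap A T a from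
            (IsScalarTower.toAlgHom Λ A T).toLinearMap.map_smul l a, map_smul, smul_sub]) }
    fun a b => Subtype.ext (by
      show v (algebraMap A B (a * b)) - algebraMap A T (a * b) =
        a • (v (algebraMap A B b) - algebraMap A T b) + b • (v (algebraMap A B a) - algebraMap A T a)
      rw [Algebra.smul_def, Algebra.smul_def, map_mul, map_mul, map_mul]
      linear_combination hN2 _ (hdiff a) _ (hdiff b))
  obtain ⟨D, hD⟩ := extend J hB r hr k ↥N (fun b hb z => Subtype.ext (by
    show v b * (z : T) = 0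
    exact hN2 _ (Ideal.Quotient.eq_zero_iff_mem.1 ((hv' b).trans (hk b hb))) _ z.2)) d
  let χ : B →ₐ[A] T :=
    { toFun := fun b => v b - (D b : T)
      map_one' := by rw [map_one, Derivation.map_one_eq_zero, ZeroMemClass.coe_zero, sub_zero]
      map_mul' := fun x y => by
        rw [Derivation.leibniz, Submodule.coe_add, Submodule.coe_smul_of_tower, Submodule.coe_smul_of_tower,
          map_mul, Algebra.smul_def, Algebra.smul_def, show algebraMap B T x = v x from rfl,
          show algebraMap B T y = v y from rfl]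
        linear_combination (norm := ring_nf) -(hN2 (D x : T) (D x).2 (D y : T) (D y).2)
      map_zero' := by rw [map_zero, map_zero, ZeroMemClass.coe_zero, sub_zero]
      map_add' := fun x y => by rw [map_add, map_add, Submodule.coe_add]; abel
      commutes' := fun a => by
        rw [hD a]
        show v (algebraMap A B a) - (v (algebraMap A B a) - algebraMap A T a) = _
        rw [sub_sub_cancel] }
  refine ⟨χ, AlgHom.ext fun b => ?_⟩
  show Ideal.Quotient.mk N (v b - (D b : T)) = ψ b
  rw [map_sub, hv', Ideal.Quotient.eq_zero_iff_mem.2 (D b).2, sub_zero]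

open TrivSqZeroExt in
theorem exists_extension (J : Ideal B) (h : CAlgX.IsAdicFormallySmooth A B J) {M : Type u} [AddCommGroup M]
    [Module (B ⧸ J) M] [Module B M] [Module A M] [Module Λ M] [IsScalarTower B (B ⧸ J) M]
    [IsScalarTower A B M] [IsScalarTower Λ A M] [IsScalarTower Λ B M] (δ : Derivation Λ A M) :
    ∃ Dd : Derivation Λ B M, ∀ a, Dd (algebraMap A B a) = δ a := by
  letI : Module (B ⧸ J)ᵐᵒᵖ M := Module.compHom M ((RingHom.id (B ⧸ J)).fromOpposite mul_comm)
  haveI : IsCentralScalar (B ⧸ J) M := ⟨fun _ _ => rfl⟩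
  haveI : IsScalarTower A (B ⧸ J) M := IsScalarTower.of_algebraMap_smul fun a m => by
    rw [IsScalarTower.algebraMap_apply A B (B ⧸ J), algebraMap_smul, algebraMap_smul]
  let φ : A →+* TrivSqZeroExt (B ⧸ J) M :=
    { toFun := fun a => inl (algebraMap A (B ⧸ J) a) + inr (δ a)
      map_one' := by ext <;> simp
      map_mul' := fun x y => by
        ext
        · simp
        · simp [op_smul_eq_smul, algebraMap_smul]
      map_zero' := by ext <;> simp
      map_add' := fun x y => by ext <;> simp }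
  letI : Algebra A (TrivSqZeroExt (B ⧸ J) M) := φ.toAlgebra
  let P : TrivSqZeroExt (B ⧸ J) M →ₐ[A] B ⧸ J :=
    { toFun := fst
      map_one' := rfl
      map_mul' := fst_mul
      map_zero' := rfl
      map_add' := fst_add
      commutes' := fun a => by
        show (inl (algebraMap A (B ⧸ J) a) + inr (δ a) : TrivSqZeroExt (B ⧸ J) M).fst = _
        simp }
  have hP : Function.Surjective P := fun x => ⟨inl x, rfl⟩
  let K : Ideal (TrivSqZeroExt (B ⧸ J) M) := RingHom.ker P.toRingHom
  have hK : K ^ 2 = ⊥ := by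
    rw [pow_two, eq_bot_iff, Ideal.mul_le]
    intro x hx y hy
    have hx' : x.fst = 0 := hx
    have hy' : y.fst = 0 := hy
    rw [Ideal.mem_bot]
    ext <;> simp [hx', hy']
  let e : (TrivSqZeroExt (B ⧸ J) M ⧸ K) ≃ₐ[A] B ⧸ J := Ideal.quotientKerAlgEquivOfSurjective hP
  obtain ⟨v, hv⟩ := h _ K hK (e.symm.toAlgHom.comp (Ideal.Quotient.mkₐ A J)) ⟨1, fun x hx => by
    show e.symm (Ideal.Quotient.mk J x) = 0
    rw [Ideal.Quotient.eq_zero_iff_mem.2 (by simpa using hx), map_zero]⟩
  have hfst : ∀ b, (v b).fst = Ideal.Quotient.mk J b := fun b =>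
    ((congrArg e (AlgHom.congr_fun hv b)).trans (e.apply_symm_apply _) :)
  have hvA : ∀ a, v (algebraMap A B a) = inl (algebraMap A (B ⧸ J) a) + inr (δ a) := fun a => v.commutes a
  have hmul : ∀ x y, (v (x * y)).snd = x • (v y).snd + y • (v x).snd := fun x y => by
    rw [map_mul, snd_mul, hfst, hfst, op_smul_eq_smul, ← Ideal.Quotient.algebraMap_eq, algebraMap_smul,
      algebraMap_smul]
  have hA : ∀ a, (v (algebraMap A B a)).snd = δ a := fun a => by rw [hvA]; simp
  refine ⟨Derivation.mk'
    { toFun := fun b => (v b).snd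
      map_add' := fun x y => by simp
      map_smul' := fun l x => by
        have h0 : δ (algebraMap Λ A l) = 0 := δ.map_algebraMap l
        rw [RingHom.id_apply, Algebra.smul_def, hmul, IsScalarTower.algebraMap_apply Λ A B, hA, h0,
          smul_zero, add_zero, ← IsScalarTower.algebraMap_apply Λ A B, algebraMap_smul] } hmul, hA⟩

theorem injective_lTensor (J : Ideal B) (h : CAlgX.IsAdicFormallySmooth A B J) :
    Function.Injective ((mapBaseChange Λ A B).lTensor (B ⧸ J)) := by
  let δ : Derivation Λ A ((B ⧸ J) ⊗[B] (B ⊗[A] Ω[A⁄Λ])) :=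
    ((TensorProduct.mk B (B ⧸ J) (B ⊗[A] Ω[A⁄Λ]) 1).restrictScalars A ∘ₗ
      (TensorProduct.mk A B Ω[A⁄Λ] 1)).compDer (KaehlerDifferential.D Λ A)
  obtain ⟨Dd, hDd⟩ := exists_extension J h δ
  let l : (B ⧸ J) ⊗[B] Ω[B⁄Λ] →ₗ[B ⧸ J] (B ⧸ J) ⊗[B] (B ⊗[A] Ω[A⁄Λ]) :=
    Dd.liftKaehlerDifferential.liftBaseChange (B ⧸ J)
  have hcomp : l.restrictScalars B ∘ₗ (mapBaseChange Λ A B).lTensor (B ⧸ J) = LinearMap.id := by
    refine TensorProduct.ext' fun c w => ?_
    induction w using TensorProduct.induction_on with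
    | zero => simp
    | add x y hx hy => rw [TensorProduct.tmul_add, map_add, hx, hy, map_add]
    | tmul b ω =>
      have hω : ω ∈ Submodule.span A (Set.range (KaehlerDifferential.D Λ A)) := by
        rw [KaehlerDifferential.span_range_derivation]; trivial
      induction hω using Submodule.span_induction with
      | zero => simp
      | add x y _ _ hx hy => rw [TensorProduct.tmul_add, TensorProduct.tmul_add, map_add, hx, hy, map_add]
      | smul a x _ hx =>
        rw [TensorProduct.tmul_smul, ← algebraMap_smul B a (b ⊗ₜ[A] x), TensorProduct.tmul_smul, map_smul,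
          hx, map_smul]
      | mem x hx =>
        obtain ⟨a, rfl⟩ := hx
        show l (c ⊗ₜ[B] mapBaseChange Λ A B (b ⊗ₜ[A] KaehlerDifferential.D Λ A a)) = _
        rw [mapBaseChange_tmul, map_D, LinearMap.liftBaseChange_tmul, map_smul,
          Derivation.liftKaehlerDifferential_comp_D, LinearMap.id_apply, hDd]
        show c • b • ((1 : B ⧸ J) ⊗ₜ[B] ((1 : B) ⊗ₜ[A] KaehlerDifferential.D Λ A a)) = _
        rw [← TensorProduct.tmul_smul, TensorProduct.smul_tmul', TensorProduct.smul_tmul', smul_eq_mul,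
          smul_eq_mul, mul_one, mul_one]
  exact Function.LeftInverse.injective (g := l) fun x => LinearMap.congr_fun hcomp x

end helpers

/-- Let Λ → A → B be ring homomorphisms, J an ideal of B and C = B/J, with C formally smooth over Λ for
the discrete topologies. Consider the conditions: (α) J/J² is a projective C-module; (β) the
canonical maps Sym^n_C(J/J²) → J^n/J^(n+1) are bijective for n ≥ 1; (γ') Ω_{A/Λ} ⊗_A C → Ω_{B/Λ} ⊗_B
C is injective (equivalent to the injectivity of the characteristic homomorphism used in the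
published (γ)); (δ) Ω_{B/A} ⊗_B C is a projective C-module. (i) If they hold then B, with the J-adic
topology, is formally smooth over the discrete ring A. (ii) Conversely if B is formally smooth over
A for the J-adic topology and A is formally smooth over Λ for the discrete topology, the four
conditions hold. -/
theorem result {Λ A B : Type u} [CommRing Λ]
    [CommRing A] [CommRing B] [Algebra Λ A] [Algebra A B] [Algebra Λ B] [IsScalarTower Λ A B] (J : Ideal B)
    [Algebra.FormallySmooth Λ (B ⧸ J)] :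
    ((Module.Projective (B ⧸ J) J.Cotangent ∧ PP16.SymGrBijective B J ∧
        Function.Injective ((mapBaseChange Λ A B).lTensor (B ⧸ J)) ∧
        Module.Projective (B ⧸ J) ((B ⧸ J) ⊗[B] (Ω[B⁄A]))) →
      CAlgX.IsAdicFormallySmooth A B J) ∧
    (Algebra.FormallySmooth Λ A → CAlgX.IsAdicFormallySmooth A B J →
      (Module.Projective (B ⧸ J) J.Cotangent ∧ PP16.SymGrBijective B J ∧
        Function.Injective ((mapBaseChange Λ A B).lTensor (B ⧸ J)) ∧
        Module.Projective (B ⧸ J) ((B ⧸ J) ⊗[B] (Ω[B⁄A])))) := by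
  refine ⟨fun ⟨hα, hβ, hγ, hδ⟩ => ?_, fun hA hB => ?_⟩
  · haveI := hα
    obtain ⟨r, hr⟩ := exists_retraction J hγ hδ
    exact mpr_dir J (GrothLib.SymGr.isAdicFormallySmooth J hβ) r hr
  · haveI := hA
    have hΛ : CAlgX.IsAdicFormallySmooth Λ B J := by
      rw [GrothLib.AdicFS.isAdicFormallySmooth_iff]
      exact GrothLib.AdicFS.formallySmoothAdic_trans (B := A) (𝔟 := (⊥ : Ideal A))
        ⟨1, by rw [pow_one, Ideal.map_bot]; exact bot_le⟩
        (GrothLib.AdicFSDiscrete.isFormallySmoothAdic_of_formallySmooth Λ A ⊥ ⊥)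
        ((GrothLib.AdicFS.isAdicFormallySmooth_iff J).1 hB)
    obtain ⟨h1, h2⟩ := (GrothLib.SymGr.isAdicFormallySmooth_iff J).1 hΛ
    exact ⟨h1, h2, injective_lTensor J hB, GrothLib.AdicFS.projective_kaehler_mod
      ⟨1, by rw [pow_one, Ideal.map_bot]; exact bot_le⟩ ((GrothLib.AdicFS.isAdicFormallySmooth_iff J).1 hB) J
      ⟨1, (pow_one J).le⟩⟩

end Groth.Agent.S4570
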