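import Groth.Statements.S4571
import Groth.Agent.S4570
import Groth.Agent.Lib.SepField.Smooth
import Mathlib.RingTheory.Unramified.Basic
-- import your own Groth.Agent.* helpers here

set_option autoImplicit false
universe u
open TensorProduct KaehlerDifferential IsLocalRing
open EGA41

namespace Groth.Agent.S4571


open GrothLib.SepField

/-- Changing the base by an unramified map does not affect injectivity after tensoring. -/
theorem injective_lTensor_iff (R : Type*) (P S T : Type u) [CommRing R] [CommRing P] [CommRing S] [CommRing T]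
    [Algebra R P] [Algebra R S] [Algebra R T] [Algebra P S] [Algebra P T] [Algebra S T]
    [IsScalarTower R P S] [IsScalarTower R P T] [IsScalarTower R S T] [IsScalarTower P S T]
    [Algebra.FormallyUnramified R P] (K : Type u) [AddCommGroup K] [Module T K] :
    Function.Injective ((mapBaseChange R S T).lTensor K) ↔
      Function.Injective ((mapBaseChange P S T).lTensor K) := by
  let eS := LinearEquiv.ofBijective _ (bijective_map_of_formallyUnramified R P S)
  let eT := LinearEquiv.ofBijective _ (bijective_map_of_formallyUnramified R P T)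
  let e : T ⊗[S] Ω[S⁄R] ≃ₗ[T] T ⊗[S] Ω[S⁄P] :=
    TensorProduct.AlgebraTensorModule.congr (LinearEquiv.refl T T) eS
  have hsq : eT.toLinearMap ∘ₗ mapBaseChange R S T = mapBaseChange P S T ∘ₗ e.toLinearMap := by
    refine LinearMap.ext fun z => ?_
    show eT (mapBaseChange R S T z) = mapBaseChange P S T (e z)
    induction z using TensorProduct.induction_on with
    | zero => simp
    | add a b ha hb => simp [map_add, ha, hb]
    | tmul t ω =>
        simp only [e, TensorProduct.AlgebraTensorModule.congr_tmul, LinearEquiv.refl_apply,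
          KaehlerDifferential.mapBaseChange_tmul, map_smul]
        congr 1
        induction (KaehlerDifferential.span_range_derivation R S ▸ Submodule.mem_top :
            ω ∈ Submodule.span S (Set.range (KaehlerDifferential.D R S))) using Submodule.span_induction with
        | mem y hy =>
            obtain ⟨s, rfl⟩ := hy
            simp [eS, eT]
        | zero => simp
        | add a b _ _ ha hb => simp only [map_add, ha, hb]
        | smul c a _ ha =>
            rw [LinearMap.map_smul, eS.map_smul, LinearMap.map_smul, ← ha]
            exact eT.toLinearMap.map_smul_of_tower c _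
  have h2 : (eT.lTensor K).toLinearMap ∘ₗ (mapBaseChange R S T).lTensor K =
      (mapBaseChange P S T).lTensor K ∘ₗ (e.lTensor K).toLinearMap := by
    show eT.toLinearMap.lTensor K ∘ₗ _ = _ ∘ₗ e.toLinearMap.lTensor K
    rw [← LinearMap.lTensor_comp, ← LinearMap.lTensor_comp, hsq]
  have h3 : (eT.lTensor K) ∘ (mapBaseChange R S T).lTensor K =
      (mapBaseChange P S T).lTensor K ∘ (e.lTensor K) := funext fun z => LinearMap.congr_fun h2 z
  rw [← (eT.lTensor K).injective.of_comp_iff, h3,
    Function.Injective.of_comp_iff' _ (e.lTensor K).bijective]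

/-- The criterion over a prime field. -/
theorem main (Λ : Type u) [Field Λ] [Algebra.FormallyUnramified ℤ Λ] {k A : Type u} [Field k] [CommRing A]
    [IsLocalRing A] [Algebra k A] [Algebra Λ k] [Algebra Λ A] [IsScalarTower Λ k A]
    [Algebra.FormallySmooth Λ k] [Algebra.FormallySmooth Λ (A ⧸ maximalIdeal A)] :
    CAlgX.IsAdicFormallySmooth k A (maximalIdeal A) ↔
      (PP16.SymGrBijective A (maximalIdeal A) ∧
        Function.Injective ((mapBaseChange ℤ k A).lTensor (ResidueField A))) := by
  letI := Ideal.Quotient.field (maximalIdeal A)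
  rw [injective_lTensor_iff ℤ Λ k A (ResidueField A)]
  obtain ⟨h1, h2⟩ := Groth.Agent.S4570.result (Λ := Λ) (A := k) (B := A) (maximalIdeal A)
  exact ⟨fun h => ⟨(h2 inferInstance h).2.1, (h2 inferInstance h).2.2.1⟩,
    fun ⟨hβ, hγ⟩ => h1 ⟨Module.Projective.of_free, hβ, hγ, Module.Projective.of_free⟩⟩

/-- For an arbitrary local algebra: let k be a field and A a local k-algebra with maximal ideal m and
residue field K. Then A is formally smooth over k for the m-adic topology if and only if the
canonical maps Sym^n_K(m/m²) → m^n/m^(n+1) are bijective for n ≥ 1 and the canonical map Ω_{k/ℤ} ⊗_k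
K → Ω_{A/ℤ} ⊗_A K is injective (absolute differentials, which agree with differentials over the
prime field). -/
theorem result {k A : Type u} [Field k] [CommRing A]
    [IsLocalRing A] [Algebra k A] :
    CAlgX.IsAdicFormallySmooth k A (maximalIdeal A) ↔
      (PP16.SymGrBijective A (maximalIdeal A) ∧
        Function.Injective ((mapBaseChange ℤ k A).lTensor (ResidueField A))) := by
  letI := Ideal.Quotient.field (maximalIdeal A)
  obtain h0 | ⟨p, hp, hpk⟩ := CharP.exists' k
  · letI : Algebra (ULift.{u} ℚ) k := ((algebraMap ℚ k).comp ULift.ringEquiv.toRingHom).toAlgebra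
    letI : Algebra (ULift.{u} ℚ) A := ((algebraMap k A).comp (algebraMap (ULift.{u} ℚ) k)).toAlgebra
    letI : SMul (ULift.{u} ℚ) k := Algebra.toSMul
    letI : SMul (ULift.{u} ℚ) A := Algebra.toSMul
    haveI : IsScalarTower (ULift.{u} ℚ) k A := IsScalarTower.of_algebraMap_eq fun _ => rfl
    haveI : CharZero (ULift.{u} ℚ) := charZero_of_injective_algebraMap (R := ℚ) (A := ULift.{u} ℚ)
      (algebraMap ℚ (ULift.{u} ℚ)).injective
    haveI : Algebra.FormallySmooth (ULift.{u} ℚ) k := GrothLib.SepField.formallySmooth_of_charZero
    haveI : Algebra.FormallySmooth (ULift.{u} ℚ) (A ⧸ maximalIdeal A) :=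
      GrothLib.SepField.formallySmooth_of_charZero
    haveI : Algebra.FormallyUnramified ℤ (ULift.{u} ℚ) := by
      haveI : Algebra.FormallyUnramified ℤ ℚ :=
        Algebra.FormallyUnramified.of_isLocalization (nonZeroDivisors ℤ)
      exact Algebra.FormallyUnramified.of_equiv (R := ℤ) (A := ℚ)
        { (ULift.ringEquiv.symm : ℚ ≃+* ULift.{u} ℚ) with commutes' := fun z => by simp }
    exact main (ULift.{u} ℚ)
  · haveI := hp
    haveI : CharP (GrothLib.SepField.PrimeFld.{u} p) p := charP_of_injective_ringHom
      (f := (ULift.ringEquiv.symm : ZMod p ≃+* GrothLib.SepField.PrimeFld.{u} p).toRingHom)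
      ULift.ringEquiv.symm.injective p
    haveI : PerfectRing (GrothLib.SepField.PrimeFld.{u} p) p := PerfectRing.ofFiniteOfIsReduced p _
    letI : Algebra (GrothLib.SepField.PrimeFld.{u} p) k :=
      ((ZMod.castHom (dvd_refl p) k).comp ULift.ringEquiv.toRingHom).toAlgebra
    letI : Algebra (GrothLib.SepField.PrimeFld.{u} p) A :=
      ((algebraMap k A).comp (algebraMap (GrothLib.SepField.PrimeFld.{u} p) k)).toAlgebra
    haveI : IsScalarTower (GrothLib.SepField.PrimeFld.{u} p) k A := IsScalarTower.of_algebraMap_eq fun _ => rfl
    haveI : CharP (A ⧸ maximalIdeal A) p :=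
      charP_of_injective_algebraMap (algebraMap k (A ⧸ maximalIdeal A)).injective p
    haveI : Algebra.FormallySmooth (GrothLib.SepField.PrimeFld.{u} p) k :=
      GrothLib.SepField.formallySmooth_perfect p
    haveI : Algebra.FormallySmooth (GrothLib.SepField.PrimeFld.{u} p) (A ⧸ maximalIdeal A) :=
      GrothLib.SepField.formallySmooth_perfect p
    haveI : Algebra.FormallyUnramified ℤ (GrothLib.SepField.PrimeFld.{u} p) :=
      .of_surjective (Algebra.ofId ℤ _) (by
        intro z
        refine ⟨(z.down.val : ℤ), (ULift.ringEquiv : GrothLib.SepField.PrimeFld.{u} p ≃+* ZMod p).injective ?_⟩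
        change ULift.ringEquiv (algebraMap ℤ (GrothLib.SepField.PrimeFld.{u} p) _) = _
        rw [eq_intCast, map_intCast]
        simp; rfl)
    exact main (GrothLib.SepField.PrimeFld.{u} p)

end Groth.Agent.S4571
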