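import Groth.Statements.S2471
import Groth.Agent.S4571
import Groth.Agent.Lib.SymGr.Regular

set_option autoImplicit false
universe u
open EGA41

namespace Groth.Agent.S2471

open IsLocalRing in
/-- Let k be a field and A a Noetherian local k-algebra with maximal ideal 𝔪 and residue field K. Then A
is formally smooth over k for the 𝔪-adic topology if and only if A is regular and the canonical map
Ω_{k/ℤ} ⊗_k K → Ω_{A/ℤ} ⊗_A K is injective. (The published criterion has a first condition that, for
Noetherian A, amounts to regularity of A; it is stated here for Noetherian A only.) -/
theorem result {k A : Type u} [Field k] [CommRing A] [IsLocalRing A] [IsNoetherianRing A] [Algebra k A] :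
    CAlgX.IsAdicFormallySmooth k A (maximalIdeal A) ↔
      (IsRegularLocalRing A ∧ Function.Injective ((KaehlerDifferential.mapBaseChange ℤ k A).lTensor (ResidueField A))) := by
  rw [Groth.Agent.S4571.result, GrothLib.SymGr.isRegularLocalRing_iff_symGrBijective]

end Groth.Agent.S2471
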