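import Groth.Statements.S2453
import Groth.Agent.S2471
import Groth.Agent.Lib.AdicExtra.Completion
import Groth.Agent.Lib.RegCompl.Basic
import Groth.Agent.Lib.CoeffField.Basic
import Groth.Agent.Lib.RegLoc.PowerSeries

set_option autoImplicit false
universe u
open EGA41

namespace Groth.Agent.S2453

open IsLocalRing TensorProduct

/-- A separable residue field makes the differential condition automatic. -/
theorem injective_of_geomReduced (k A : Type u) [Field k] [CommRing A] [IsLocalRing A] [Algebra k A]
    [Algebra.IsGeometricallyReduced k (ResidueField A)] :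
    Function.Injective ((KaehlerDifferential.mapBaseChange ℤ k A).lTensor (ResidueField A)) := by
  have h := GrothLib.SepField.isGeometricallyReduced_iff_injective_int.1
    ‹Algebra.IsGeometricallyReduced k (ResidueField A)›
  let K := ResidueField A
  let e := AlgebraTensorModule.cancelBaseChange k A A K Ω[k⁄ℤ]
  have hcomp : ∀ z, (KaehlerDifferential.mapBaseChange ℤ A K) ((KaehlerDifferential.mapBaseChange ℤ k A).lTensor K z) =
      KaehlerDifferential.mapBaseChange ℤ k K (e z) := by
    intro z
    induction z using TensorProduct.induction_on with
    | zero => simp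
    | add a b ha hb => simp only [map_add, ha, hb]
    | tmul c m =>
        induction m using TensorProduct.induction_on with
        | zero => simp
        | add a b ha hb => simp only [tmul_add, map_add, ha, hb]
        | tmul a ω =>
            simp only [e, LinearMap.lTensor_tmul, AlgebraTensorModule.cancelBaseChange_tmul,
              KaehlerDifferential.mapBaseChange_tmul, LinearMap.map_smul_of_tower, smul_smul]
            rw [smul_assoc, smul_comm]
            congr 2
            induction (KaehlerDifferential.span_range_derivation ℤ k ▸ Submodule.mem_top :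
                ω ∈ Submodule.span k (Set.range (KaehlerDifferential.D ℤ k))) using Submodule.span_induction with
            | mem y hy =>
                obtain ⟨s, rfl⟩ := hy
                simp [← IsScalarTower.algebraMap_apply]
            | zero => simp
            | add a b _ _ ha hb => simp only [map_add, ha, hb]
            | smul c a _ ha => simp only [LinearMap.map_smul, LinearMap.map_smul_of_tower, ha]
  intro z w hzw
  exact e.injective (h ((hcomp z).symm.trans ((congrArg _ hzw).trans (hcomp w))))

/-- The completion of a regular local ring with separable residue field is a power series ring over it. -/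
theorem exists_equiv (k A : Type u) [Field k] [CommRing A] [IsRegularLocalRing A] [Algebra k A]
    [Algebra.IsGeometricallyReduced k (ResidueField A)] :
    ∃ (n : ℕ) (e : AdicCompletion (maximalIdeal A) A ≃+* MvPowerSeries (Fin n) (ResidueField A)),
       ∀ x : k, e (algebraMap A (AdicCompletion (maximalIdeal A) A) (algebraMap k A x)) =
         algebraMap (ResidueField A) (MvPowerSeries (Fin n) (ResidueField A)) (algebraMap k (ResidueField A) x) := by
  let R := AdicCompletion (maximalIdeal A) A
  let K := ResidueField A
  haveI : IsRegularLocalRing R := GrothLib.AdicExtra.isRegularLocalRing_adicCompletion_iff.1 inferInstance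
  haveI : IsAdicComplete (maximalIdeal R) R := by
    rw [AdicCompletion.maximalIdeal_eq_map]
    exact AdicCompletion.isAdicComplete_self _ (maximalIdeal A).fg_of_isNoetherianRing
  haveI : IsLocalHom (algebraMap A R) := ((local_hom_TFAE (algebraMap A R)).out 0 2).2
    (AdicCompletion.maximalIdeal_eq_map (R := A)).ge
  let f : K →ₐ[k] ResidueField R :=
    { ResidueField.map (algebraMap A R) with
      commutes' := fun x => by
        show ResidueField.map (algebraMap A R) (residue A (algebraMap k A x)) = residue R (algebraMap k R x)
        rw [ResidueField.map_residue, ← IsScalarTower.algebraMap_apply] }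
  have hfs : Function.Surjective f := fun y => by
    obtain ⟨r, rfl⟩ := residue_surjective y
    obtain ⟨a, ha⟩ := GrothLib.RegCompl.exists_sub_mem_map (J := maximalIdeal A) (maximalIdeal A).fg_of_isNoetherianRing r
    refine ⟨residue A a, ?_⟩
    show ResidueField.map (algebraMap A R) (residue A a) = residue R r
    rw [ResidueField.map_residue, eq_comm]
    refine Ideal.Quotient.eq.2 ?_
    rw [AdicCompletion.maximalIdeal_eq_map]
    exact ha
  let e0 := AlgEquiv.ofBijective f ⟨f.toRingHom.injective, hfs⟩
  haveI : Algebra.FormallySmooth k K := GrothLib.SepField.formallySmooth_iff_isGeometricallyReduced.2 ‹_›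
  haveI : Algebra.FormallySmooth k (ResidueField R) := Algebra.FormallySmooth.of_equiv e0
  obtain ⟨s, hs⟩ := GrothLib.CoeffField.exists_section k R
  letI : Algebra K R := (s.comp (e0 : K →ₐ[k] ResidueField R)).toRingHom.toAlgebra
  obtain ⟨x, hxspan⟩ := GrothLib.RegLoc.exists_generators_fin (maximalIdeal R)
  have hxm : ∀ i, x i ∈ maximalIdeal R := fun i => hxspan.le (Ideal.subset_span ⟨i, rfl⟩)
  obtain ⟨ψ, hψ⟩ := GrothLib.RegLoc.PS.exists_algHom (A := K) (maximalIdeal R) x hxm
  have hsp : Ideal.span (Set.range fun i => ψ (MvPowerSeries.X i)) = maximalIdeal R := by simpa [hψ] using hxspan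
  have hsurj := GrothLib.RegLoc.PS.surjective (k := K) (fun y => by
    obtain ⟨z, rfl⟩ := e0.surjective y
    exact ⟨z, hs _⟩) ψ hsp
  have hinj := GrothLib.RegLoc.PS.injective ψ hsp rfl
  refine ⟨_, (RingEquiv.ofBijective ψ.toRingHom ⟨hinj, hsurj⟩).symm, fun c => ?_⟩
  rw [RingEquiv.symm_apply_eq]
  refine Eq.trans ?_ (ψ.commutes _).symm
  show algebraMap A R (algebraMap k A c) = s (e0 (algebraMap k K c))
  rw [e0.commutes, s.commutes, ← IsScalarTower.algebraMap_apply]

open IsLocalRing in
/-- Let k be a field and A a Noetherian local k-algebra with maximal ideal 𝔪 and residue field K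
separable over k; give A the 𝔪-adic topology (k discrete). The following are equivalent: (a) A is
formally smooth over k; (b) the 𝔪-adic completion of A is isomorphic to some K[[T_1, …, T_n]] by an
isomorphism carrying the image of k in A to the image of k under k → K → K[[T]]; (b') the completion
is isomorphic as a ring to some K[[T_1, …, T_n]]; (c) A is a regular local ring. -/
theorem result {k A : Type u} [Field k] [CommRing A] [IsLocalRing A] [IsNoetherianRing A] [Algebra k A]
    [Algebra.IsGeometricallyReduced k (ResidueField A)] :
    [CAlgX.IsAdicFormallySmooth k A (maximalIdeal A),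
     ∃ (n : ℕ) (e : AdicCompletion (maximalIdeal A) A ≃+* MvPowerSeries (Fin n) (ResidueField A)),
       ∀ x : k, e (algebraMap A (AdicCompletion (maximalIdeal A) A) (algebraMap k A x)) =
         algebraMap (ResidueField A) (MvPowerSeries (Fin n) (ResidueField A)) (algebraMap k (ResidueField A) x),
     ∃ n : ℕ, Nonempty (AdicCompletion (maximalIdeal A) A ≃+* MvPowerSeries (Fin n) (ResidueField A)),
     IsRegularLocalRing A].TFAE := by
  have hinj := injective_of_geomReduced k A
  have h14 : CAlgX.IsAdicFormallySmooth k A (maximalIdeal A) ↔ IsRegularLocalRing A := by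
    rw [Groth.Agent.S2471.result, and_iff_left hinj]
  tfae_have 4 → 2 := fun h => by haveI := h; exact exists_equiv k A
  tfae_have 2 → 3 := fun ⟨n, e, _⟩ => ⟨n, ⟨e⟩⟩
  tfae_have 3 → 4 := by
    rintro ⟨n, ⟨e⟩⟩
    haveI : IsRegularLocalRing (AdicCompletion (maximalIdeal A) A) :=
      IsRegularLocalRing.of_ringEquiv (R := MvPowerSeries (Fin n) (ResidueField A)) e.symm
    exact GrothLib.AdicExtra.isRegularLocalRing_adicCompletion_iff.2 inferInstance
  tfae_have 1 ↔ 4 := h14
  tfae_finish

end Groth.Agent.S2453
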