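import Groth.Statements.S4512
import Groth.Agent.S2471
import Groth.Agent.Lib.AdicFSLoc.Basic
import Groth.Agent.Lib.Serre.Ring
import Groth.Agent.Lib.AdicExtra.Completion
import Groth.Agent.Lib.RegCompl.Basic
import Groth.Agent.Lib.CoeffField.Basic
import Groth.Agent.Lib.RegLoc.PowerSeries

set_option autoImplicit false
universe u
open EGA41

namespace Groth.Agent.S4512

open IsLocalRing TensorProduct

/-- The completion of a regular local ring containing a field is a power series ring. -/
theorem exists_ringEquiv (k A : Type u) [Field k] [CommRing A] [IsRegularLocalRing A] [Algebra k A] :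
    ∃ n : ℕ, Nonempty (AdicCompletion (maximalIdeal A) A ≃+* MvPowerSeries (Fin n) (ResidueField A)) := by
  let R := AdicCompletion (maximalIdeal A) A
  let K := ResidueField A
  haveI : IsRegularLocalRing R := GrothLib.AdicExtra.isRegularLocalRing_adicCompletion_iff.1 inferInstance
  haveI : IsAdicComplete (maximalIdeal R) R := by
    rw [AdicCompletion.maximalIdeal_eq_map]
    exact AdicCompletion.isAdicComplete_self _ (maximalIdeal A).fg_of_isNoetherianRing
  haveI : IsLocalHom (algebraMap A R) := ((local_hom_TFAE (algebraMap A R)).out 0 2).2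
    (AdicCompletion.maximalIdeal_eq_map (R := A)).ge
  let f : K →+* ResidueField R := ResidueField.map (algebraMap A R)
  have hfs : Function.Surjective f := fun y => by
    obtain ⟨r, rfl⟩ := residue_surjective y
    obtain ⟨a, ha⟩ := GrothLib.RegCompl.exists_sub_mem_map (J := maximalIdeal A)
      (maximalIdeal A).fg_of_isNoetherianRing r
    refine ⟨residue A a, ?_⟩
    show ResidueField.map (algebraMap A R) (residue A a) = residue R r
    rw [ResidueField.map_residue, eq_comm]
    refine Ideal.Quotient.eq.2 ?_
    rw [AdicCompletion.maximalIdeal_eq_map]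
    exact ha
  obtain ⟨s, hs⟩ := GrothLib.CoeffField.exists_coefficientField k R
  letI : Algebra K R := (s.comp f).toAlgebra
  obtain ⟨x, hxspan⟩ := GrothLib.RegLoc.exists_generators_fin (maximalIdeal R)
  have hxm : ∀ i, x i ∈ maximalIdeal R := fun i => hxspan.le (Ideal.subset_span ⟨i, rfl⟩)
  obtain ⟨ψ, hψ⟩ := GrothLib.RegLoc.PS.exists_algHom (A := K) (maximalIdeal R) x hxm
  have hsp : Ideal.span (Set.range fun i => ψ (MvPowerSeries.X i)) = maximalIdeal R := by simpa [hψ] using hxspan
  have hsurj := GrothLib.RegLoc.PS.surjective (k := K) (fun y => by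
    obtain ⟨z, rfl⟩ := hfs y
    exact ⟨z, RingHom.congr_fun hs _⟩) ψ hsp
  have hinj := GrothLib.RegLoc.PS.injective ψ hsp rfl
  exact ⟨_, ⟨(RingEquiv.ofBijective ψ.toRingHom ⟨hinj, hsurj⟩).symm⟩⟩

open IsLocalRing in
/-- Let k be a field and A a Noetherian local k-algebra with residue field K, and suppose A is formally
smooth over k for the adic topology of its maximal ideal (k discrete). Then A is geometrically
regular over k, i.e. A ⊗_k k' is a regular ring for every finite extension k' of k; and the adic
completion of A is isomorphic, as a ring, to a power series ring K[[T_1, …, T_n]] (existence of a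
ring isomorphism; no compatibility with k is asserted, and none holds in general when K is
inseparable over k). -/
theorem result {k A : Type u} [Field k] [CommRing A]
    [IsLocalRing A] [IsNoetherianRing A] [Algebra k A] (h : CAlgX.IsAdicFormallySmooth k A (maximalIdeal A)) :
    CAlg.IsGeometricallyRegular k A ∧
      ∃ n : ℕ, Nonempty (AdicCompletion (maximalIdeal A) A ≃+* MvPowerSeries (Fin n) (ResidueField A)) := by
  haveI hreg : IsRegularLocalRing A := (Groth.Agent.S2471.result.1 h).1
  refine ⟨?_, exists_ringEquiv k A⟩
  intro k' _ _ hfin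
  haveI := hfin
  haveI : IsNoetherianRing (A ⊗[k] k') := IsNoetherianRing.of_finite A _
  haveI : IsNoetherianRing (k' ⊗[k] A) :=
    isNoetherianRing_of_ringEquiv _ (Algebra.TensorProduct.comm k A k').toRingEquiv
  refine GrothLib.Serre.isRegularRing_of_forall_isMaximal _ fun M _ => ?_
  have hle : (maximalIdeal A).map (Algebra.TensorProduct.includeRight : A →ₐ[k] k' ⊗[k] A) ≤ M := by
    rw [Ideal.map_le_iff_le_comap]
    let e : A ⊗[k] k' →ₐ[k] k' ⊗[k] A := (Algebra.TensorProduct.comm k A k').toAlgHom
    haveI : (M.comap e).IsMaximal := Ideal.comap_isMaximal_of_surjective _ (AlgEquiv.surjective _)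
    haveI := Ideal.isMaximal_comap_of_isIntegral_of_isMaximal (R := A) (M.comap e)
    rw [← IsLocalRing.eq_maximalIdeal (this : ((M.comap e).comap (algebraMap A (A ⊗[k] k'))).IsMaximal)]
    intro a ha
    simpa [e] using ha
  have h1 := GrothLib.AdicFSLoc.baseChange h k'
  have h2 := GrothLib.AdicFSLoc.localization h1 M.primeCompl (Localization.AtPrime M)
    (n' := maximalIdeal (Localization.AtPrime M)) (by
      rw [← Localization.AtPrime.map_eq_maximalIdeal]; exact Ideal.map_mono hle)
  exact (Groth.Agent.S2471.result.1 h2).1

end Groth.Agent.S4512
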