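import Groth.Statements.S4573
import Groth.Agent.S4512
import Groth.Agent.S2453
import Groth.Agent.Lib.AdicFSLoc.Insep
import Groth.Agent.Lib.GeomReg.Local

set_option autoImplicit false
universe u
open TensorProduct IsLocalRing
open EGA41

namespace Groth.Agent.S4573

open Polynomial GrothLib.PBasis GrothLib.AdicFSLoc
open KaehlerDifferential (D)

theorem comap_eq_maximalIdeal {k A k' : Type u} [Field k] [CommRing A] [IsLocalRing A] [Algebra k A]
    [Field k'] [Algebra k k'] [Module.Finite k k'] (M : Ideal (k' ⊗[k] A)) [M.IsMaximal] :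
    M.comap (Algebra.TensorProduct.includeRight : A →ₐ[k] k' ⊗[k] A) = maximalIdeal A := by
  let e : A ⊗[k] k' →ₐ[k] k' ⊗[k] A := (Algebra.TensorProduct.comm k A k').toAlgHom
  haveI : (M.comap e).IsMaximal := Ideal.comap_isMaximal_of_surjective _ (AlgEquiv.surjective _)
  haveI := Ideal.isMaximal_comap_of_isIntegral_of_isMaximal (R := A) (M.comap e)
  rw [← IsLocalRing.eq_maximalIdeal (this : ((M.comap e).comap (algebraMap A (A ⊗[k] k'))).IsMaximal)]
  ext a
  simp [e]

/-- The hypothesis of regularity over the extensions `k'` with `k' ^ p ⊆ k ^ p (X)`. -/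
def RegOver (p : ℕ) (k A : Type u) [Field k] [CommRing A] [Algebra k A] (X : Set k) : Prop :=
  ∀ (k' : Type u) [Field k'] [Algebra k k'], Module.Finite k k' →
    (∀ y : k', y ^ p ∈ (Subfield.closure ((Set.range fun z : k => z ^ p) ∪ X)).map (algebraMap k k')) →
      IsRegularRing (k' ⊗[k] A)

theorem exists_dual_derivation {k : Type u} [Field k] {r : ℕ} (x : Fin r → k)
    (hli : LinearIndependent k fun i => D ℤ k (x i)) :
    ∀ j, ∃ d : Derivation ℤ k k, ∀ i, d (x i) = if i = j then 1 else 0 := fun j => by
  have hs : LinearMap.ker (Finsupp.linearCombination k fun i => D ℤ k (x i)) = ⊥ := LinearMap.ker_eq_bot.2 hli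
  obtain ⟨g, hg⟩ := LinearMap.exists_leftInverse_of_injective _ hs
  let φ : Ω[k⁄ℤ] →ₗ[k] k := (Finsupp.lapply j).comp g
  refine ⟨Derivation.mk' (AddMonoidHom.mk' (fun a => φ (D ℤ k a)) (fun a b => by simp)).toIntLinearMap
    (fun a b => by simp), fun i => ?_⟩
  show φ (D ℤ k (x i)) = _
  have := LinearMap.congr_fun hg (Finsupp.single i 1)
  rw [LinearMap.comp_apply, Finsupp.linearCombination_single, one_smul] at this
  simp [φ, this, Finsupp.single_apply]

theorem pow_ne_of_linearIndependent (p : ℕ) {k : Type u} [Field k] [CharP k p] {r : ℕ} (x : Fin r → k)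
    (hli : LinearIndependent k fun i => D ℤ k (x i)) (i : Fin r) : ∀ c : k, c ^ p ≠ x i :=
  fun c hc => hli.ne_zero i (by
    show D ℤ k (x i) = 0
    rw [← hc, Derivation.leibniz_pow, ← Nat.cast_smul_eq_nsmul k, CharP.cast_eq_zero, zero_smul])

/-- Over `k(x₀^(1/p))` the remaining hypotheses persist, and the differentials stay independent. -/
theorem exists_derivation (p : ℕ) [hp : Fact p.Prime] : ∀ (r : ℕ) (k A : Type u) [Field k] [CharP k p]
    [CommRing A] [IsRegularLocalRing A] [Algebra k A] (x : Fin r → k),
    LinearIndependent k (fun i => D ℤ k (x i)) → RegOver p k A (Set.range x) →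
    ∀ v : Fin r → ResidueField A, ∃ δ : Derivation ℤ A (ResidueField A), ∀ i, δ (algebraMap k A (x i)) = v i := by
  intro r
  induction r with
  | zero => exact fun k A _ _ _ _ _ x _ _ v => ⟨0, fun i => i.elim0⟩
  | succ r ih =>
    intro k A _ _ _ _ _ x hli hreg v
    classical
    set S := Subfield.closure ((Set.range fun z : k => z ^ p) ∪ Set.range x) with hS
    have hdual := exists_dual_derivation x hli
    have hx0 := pow_ne_of_linearIndependent p x hli 0
    have hirr : Irreducible (X ^ p - C (x 0) : k[X]) := X_pow_sub_C_irreducible_of_prime hp.out hx0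
    have : Fact (Irreducible (X ^ p - C (x 0) : k[X])) := ⟨hirr⟩
    let k1 := AdjoinRoot (X ^ p - C (x 0) : k[X])
    have : Module.Finite k k1 := (monic_X_pow_sub_C (x 0) hp.out.ne_zero).finite_adjoinRoot
    have : CharP k1 p := charP_of_injective_algebraMap (algebraMap k k1).injective p
    have hroot : (AdjoinRoot.root (X ^ p - C (x 0) : k[X])) ^ p = algebraMap k k1 (x 0) := by
      rw [← sub_eq_zero]
      have := AdjoinRoot.eval₂_root (X ^ p - C (x 0) : k[X])
      rw [eval₂_sub, eval₂_pow, eval₂_X, eval₂_C] at this
      exact this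
    have hk1 : ∀ y : k1, y ^ p ∈ S.map (algebraMap k k1) := fun y => by
      induction (AdjoinRoot.adjoinRoot_eq_top (f := (X ^ p - C (x 0) : k[X])) ▸ Algebra.mem_top :
          y ∈ Algebra.adjoin k ({AdjoinRoot.root _} : Set k1)) using Algebra.adjoin_induction with
      | mem z hz =>
          rw [Set.mem_singleton_iff] at hz
          subst hz
          rw [hroot]
          exact ⟨x 0, Subfield.subset_closure (Set.mem_union_right _ (Set.mem_range_self 0)), rfl⟩
      | algebraMap c =>
          rw [← map_pow]
          exact ⟨c ^ p, Subfield.subset_closure (Set.mem_union_left _ (Set.mem_range_self c)), rfl⟩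
      | add a b _ _ ha hb => rw [add_pow_char a b p]; exact add_mem ha hb
      | mul a b _ _ ha hb => rw [mul_pow]; exact mul_mem ha hb
    have hB : IsRegularRing (k1 ⊗[k] A) := hreg k1 inferInstance hk1
    have : CharP A p := charP_of_injective_algebraMap (algebraMap k A).injective p
    obtain ⟨δ0, hδ0⟩ := (exists_derivation_or p A (algebraMap k A (x 0))).resolve_right fun ⟨b, hb⟩ =>
      false_of_sub_pow_mem_sq p (x 0) hirr hb hB
    -- the new base
    obtain ⟨P, hP⟩ := Ideal.exists_maximal (k1 ⊗[k] A)
    let A1 := Localization.AtPrime P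
    have : IsRegularLocalRing A1 := IsRegularRing.isRegularLocalRing_localization P
    let ρ : A →+* A1 := (algebraMap (k1 ⊗[k] A) A1).comp
      (Algebra.TensorProduct.includeRight : A →ₐ[k] k1 ⊗[k] A).toRingHom
    have : IsLocalHom ρ := ((local_hom_TFAE ρ).out 0 4).2 (by
      rw [← Ideal.comap_comap, show Ideal.comap (algebraMap (k1 ⊗[k] A) A1) (maximalIdeal A1) = P from
        IsLocalization.AtPrime.comap_maximalIdeal A1 P]
      exact comap_eq_maximalIdeal P)
    have hρk : ∀ c : k, ρ (algebraMap k A c) = algebraMap k1 A1 (algebraMap k k1 c) := fun c => by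
      show algebraMap (k1 ⊗[k] A) A1 (Algebra.TensorProduct.includeRight (R := k) (A := k1) (algebraMap k A c)) = _
      rw [AlgHom.commutes, IsScalarTower.algebraMap_apply k1 (k1 ⊗[k] A) A1]
      rfl
    let K := ResidueField A
    let K1 := ResidueField A1
    letI : Algebra K K1 := (ResidueField.map ρ).toAlgebra
    obtain ⟨ret, hret⟩ := LinearMap.exists_leftInverse_of_injective (Algebra.linearMap K K1)
      (LinearMap.ker_eq_bot.2 (algebraMap K K1).injective)
    have hreg1 : RegOver p k1 A1 (Set.range fun i : Fin r => algebraMap k k1 (x i.succ)) := by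
      intro k'' _ _ hfin hpow
      have := hfin
      letI : Algebra k k'' := ((algebraMap k1 k'').comp (algebraMap k k1)).toAlgebra
      have : IsScalarTower k k1 k'' := IsScalarTower.of_algebraMap_eq fun _ => rfl
      have : IsRegularRing (k'' ⊗[k] A) := by
        refine hreg k'' (Module.Finite.trans k1 k'') fun y => ?_
        have hle : (Subfield.closure ((Set.range fun z : k1 => z ^ p) ∪
            Set.range fun i : Fin r => algebraMap k k1 (x i.succ))) ≤ S.map (algebraMap k k1) := by
          rw [Subfield.closure_le]
          rintro _ (⟨z, rfl⟩ | ⟨i, rfl⟩)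
          · exact hk1 z
          · exact ⟨x i.succ, Subfield.subset_closure (Set.mem_union_right _ (Set.mem_range_self _)), rfl⟩
        obtain ⟨z, hz, hzy⟩ := hpow y
        obtain ⟨c, hc, rfl⟩ := hle hz
        exact ⟨c, hc, hzy⟩
      have : IsRegularRing (k'' ⊗[k1] (k1 ⊗[k] A)) :=
        IsRegularRing.of_ringEquiv (R := k'' ⊗[k] A)
          (Algebra.TensorProduct.cancelBaseChange k k1 k'' k'' A).symm.toRingEquiv
      exact GrothLib.GeomReg.isRegularRing_tensor_localization P.primeCompl k''
    have hli1 : LinearIndependent k1 fun i : Fin r => D ℤ k1 (algebraMap k k1 (x i.succ)) := by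
      choose d hd using hdual
      rw [Fintype.linearIndependent_iff]
      intro c hc j
      let f0 : k →+ k1 := (algebraMap k k1).toAddMonoidHom.comp (d j.succ).toLinearMap.toAddMonoidHom
      letI : Algebra k (SqExt k1 k1) := (SqExt.ofDer (algebraMap k k1) f0 (fun a b => by
        show algebraMap k k1 (d j.succ (a * b)) = _
        rw [Derivation.leibniz]
        simp [f0])).toAlgebra
      let root : SqExt k1 k1 := SqExt.mk (AdjoinRoot.root _) 0
      have hev : Polynomial.eval₂ (algebraMap k (SqExt k1 k1)) root (X ^ p - C (x 0)) = 0 := by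
        rw [eval₂_sub, eval₂_pow, eval₂_X, eval₂_C, sub_eq_zero]
        refine SqExt.ext ?_ ?_
        · rw [SqExt.fst_pow]; exact hroot
        · rw [SqExt.snd_pow]
          show _ = algebraMap k k1 (d j.succ (x 0))
          rw [hd, if_neg (Fin.succ_ne_zero j).symm, map_zero]
          simp [root]
      let l := AdjoinRoot.lift (algebraMap k (SqExt k1 k1)) root hev
      have hl : (SqExt.fstHom (B := k1) (L := k1)).comp l = RingHom.id k1 :=
        AdjoinRoot.ringHom_ext
          (RingHom.ext fun a => by
            show (l (AdjoinRoot.of _ a)).fst = _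
            rw [AdjoinRoot.lift_of]; rfl)
          (by show (l (AdjoinRoot.root _)).fst = _; rw [AdjoinRoot.lift_root]; rfl)
      let dd : Derivation ℤ k1 k1 := Derivation.mk' (AddMonoidHom.mk' (fun a => (l a).snd)
        (fun a b => by simp)).toIntLinearMap (fun a b => by
          show (l (a * b)).snd = a * (l b).snd + b * (l a).snd
          rw [map_mul, SqExt.snd_mul, show (l a).fst = a from RingHom.congr_fun hl a,
            show (l b).fst = b from RingHom.congr_fun hl b]
          rfl)
      have hdd : ∀ i : Fin r, dd (algebraMap k k1 (x i.succ)) = if i = j then 1 else 0 := fun i => by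
        show (l (AdjoinRoot.of _ (x i.succ))).snd = _
        rw [AdjoinRoot.lift_of]
        show algebraMap k k1 (d j.succ (x i.succ)) = _
        rw [hd]
        simp [Fin.succ_inj, apply_ite (algebraMap k k1)]
      have := congrArg dd.liftKaehlerDifferential hc
      simpa [map_sum, hdd] using this
    let ret' : K1 →ₗ[K] K := ret
    have hret' : ∀ a : K, ret' (algebraMap K K1 a) = a := fun a => LinearMap.congr_fun hret a
    letI : Algebra ℤ A1 := Ring.toIntAlgebra A1
    obtain ⟨δ1, hδ1⟩ := ih k1 A1 (fun i => algebraMap k k1 (x i.succ)) hli1 hreg1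
      (fun i => algebraMap K K1 (v i.succ - v 0 * δ0 (algebraMap k A (x i.succ))))
    have hL' : ∀ u w : A1, δ1 (u * w) = u • δ1 w + w • δ1 u := fun u w => Derivation.leibniz δ1 u w
    have hsmul : ∀ (a : A) (y : K1), ρ a • y = residue A a • y := fun a y => by
      rw [Algebra.smul_def, Algebra.smul_def]
      rfl
    let f : A →+ K := AddMonoidHom.mk' (fun a => v 0 * δ0 a + ret' (δ1 (ρ a))) (fun a b => by
      simp [mul_add]; abel)
    refine ⟨Derivation.mk' f.toIntLinearMap (fun a b => ?_), fun i => ?_⟩
    · show v 0 * δ0 (a * b) + ret' (δ1 (ρ (a * b))) =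
        residue A a * (v 0 * δ0 b + ret' (δ1 (ρ b))) + residue A b * (v 0 * δ0 a + ret' (δ1 (ρ a)))
      have hL : δ1 (ρ a * ρ b) = ρ a • δ1 (ρ b) + ρ b • δ1 (ρ a) := δ1.leibniz _ _
      rw [ρ.map_mul, hL, hsmul, hsmul, map_add, LinearMap.map_smul, LinearMap.map_smul, δ0.leibniz,
        Algebra.smul_def, Algebra.smul_def, smul_eq_mul, smul_eq_mul]
      show v 0 * (residue A a * δ0 b + residue A b * δ0 a) + _ = _
      ring
    · show v 0 * δ0 (algebraMap k A (x i)) + ret' (δ1 (ρ (algebraMap k A (x i)))) = v i
      rw [hρk]
      induction i using Fin.cases with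
      | zero =>
          rw [hδ0, ← hroot, map_pow, Derivation.leibniz_pow, ← Nat.cast_smul_eq_nsmul k1,
            CharP.cast_eq_zero, zero_smul, map_zero, mul_one, add_zero]
      | succ i => rw [hδ1, hret']; ring

/-- Regularity after all finite `p`-radical extensions gives the differential condition. -/
theorem injective_lTensor (p : ℕ) [Fact p.Prime] {k A : Type u} [Field k] [CharP k p] [CommRing A]
    [IsRegularLocalRing A] [Algebra k A]
    (hreg : ∀ (k' : Type u) [Field k'] [Algebra k k'], Module.Finite k k' →
      (∀ x : k', x ^ p ∈ (algebraMap k k').range) → IsRegularRing (k' ⊗[k] A)) :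
    Function.Injective ((KaehlerDifferential.mapBaseChange ℤ k A).lTensor (ResidueField A)) := by
  classical
  let K := ResidueField A
  obtain ⟨b, hb, hspan, hli⟩ := exists_linearIndependent k (Set.range (D ℤ k))
  let bas : Module.Basis b k Ω[k⁄ℤ] := Module.Basis.mk hli (by
    rw [Subtype.range_coe, hspan, KaehlerDifferential.span_range_derivation])
  choose x hx using fun i : b => hb i.2
  let e := AlgebraTensorModule.cancelBaseChange k A A K Ω[k⁄ℤ]
  let bK := Algebra.TensorProduct.basis K bas
  rw [injective_iff_map_eq_zero]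
  intro z hz
  refine e.injective (bK.repr.injective (Finsupp.ext fun j => ?_))
  rw [map_zero, map_zero, Finsupp.zero_apply]
  by_contra hne
  let T := (bK.repr (e z)).support
  let y : Fin T.card → k := fun i => x (T.equivFin.symm i)
  have hy : LinearIndependent k fun i => D ℤ k (y i) := by
    simp only [y, hx]
    exact hli.comp _ fun i i' h => T.equivFin.symm.injective (Subtype.ext h)
  obtain ⟨δ, hδ⟩ := exists_derivation p T.card k A y hy (fun k' _ _ hfin hpow => hreg k' hfin fun w => by
      obtain ⟨c, -, hc⟩ := hpow w
      exact ⟨c, hc⟩)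
    (fun i => if T.equivFin.symm i = j then 1 else 0)
  let Φ : K ⊗[A] Ω[A⁄ℤ] →ₗ[A] K :=
    TensorProduct.lift ((LinearMap.mul A K).compl₂ δ.liftKaehlerDifferential)
  let Dk : Derivation ℤ k K := Derivation.mk'
    (AddMonoidHom.mk' (fun a => δ (algebraMap k A a)) (fun a b => by simp)).toIntLinearMap (fun a b => by
      show δ (algebraMap k A (a * b)) = a • δ (algebraMap k A b) + b • δ (algebraMap k A a)
      rw [map_mul, δ.leibniz, algebraMap_smul, algebraMap_smul])
  let Φk : K ⊗[k] Ω[k⁄ℤ] →ₗ[K] K := Dk.liftKaehlerDifferential.liftBaseChange K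
  have hsq : ∀ z, Φ ((KaehlerDifferential.mapBaseChange ℤ k A).lTensor K z) = Φk (e z) := by
    intro z
    induction z using TensorProduct.induction_on with
    | zero => simp
    | add a b ha hb => simp only [map_add, ha, hb]
    | tmul c m =>
        induction m using TensorProduct.induction_on with
        | zero => simp
        | add a b ha hb => simp only [tmul_add, map_add, ha, hb]
        | tmul a ω =>
            have hω : δ.liftKaehlerDifferential (KaehlerDifferential.map ℤ ℤ k A ω) =
                Dk.liftKaehlerDifferential ω := by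
              induction (KaehlerDifferential.span_range_derivation ℤ k ▸ Submodule.mem_top :
                  ω ∈ Submodule.span k (Set.range (D ℤ k))) using Submodule.span_induction with
              | mem y hy => obtain ⟨s, rfl⟩ := hy; simp [Dk]
              | zero => simp
              | add a b _ _ ha hb => simp only [map_add, ha, hb]
              | smul c a _ ha => simp only [LinearMap.map_smul, LinearMap.map_smul_of_tower, ha]
            simp only [Φ, Φk, e, LinearMap.lTensor_tmul, AlgebraTensorModule.cancelBaseChange_tmul,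
              KaehlerDifferential.mapBaseChange_tmul, TensorProduct.lift.tmul, LinearMap.compl₂_apply,
              LinearMap.mul_apply', map_smul, LinearMap.liftBaseChange_tmul, hω]
            simp only [Algebra.smul_def, smul_eq_mul, Algebra.algebraMap_self_apply]
            ring
  have h0 := (hsq z).symm.trans (by rw [hz, map_zero])
  rw [← bK.linearCombination_repr (e z), Finsupp.linearCombination_apply, Finsupp.sum, map_sum] at h0
  refine hne (Eq.trans ?_ h0)
  have hval : ∀ i : b, Φk (bK i) = δ (algebraMap k A (x i)) := fun i => by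
    simp only [bK, Algebra.TensorProduct.basis_apply, Φk, LinearMap.liftBaseChange_tmul, one_smul]
    rw [Module.Basis.mk_apply, ← hx i, Derivation.liftKaehlerDifferential_comp_D]
    rfl
  rw [Finset.sum_eq_single_of_mem (⟨j.1, j.2⟩ : b) (Finsupp.mem_support_iff.2 hne) fun i hi hij => ?_]
  · rw [map_smul, hval]
    have := hδ (T.equivFin ⟨j, Finsupp.mem_support_iff.2 hne⟩)
    simp only [y, Equiv.symm_apply_apply, if_true] at this
    rw [this, smul_eq_mul, mul_one]
  · rw [map_smul, hval]
    have := hδ (T.equivFin ⟨i, hi⟩)
    simp only [y, Equiv.symm_apply_apply] at this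
    rw [this, if_neg hij, smul_zero]

/-- Let k be a field of characteristic exponent p and A a Noetherian local k-algebra. Then A is formally
smooth over k for the adic topology of its maximal ideal if and only if, for every finite extension
k' of k with k'^p ⊆ k, the ring k' ⊗_k A is regular. -/
theorem result {k A : Type u} [Field k] (p : ℕ)
    [ExpChar k p] [CommRing A] [IsLocalRing A] [IsNoetherianRing A] [Algebra k A] :
    CAlgX.IsAdicFormallySmooth k A (maximalIdeal A) ↔
      ∀ (k' : Type u) [Field k'] [Algebra k k'], Module.Finite k k' →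
        (∀ x : k', x ^ p ∈ (algebraMap k k').range) → IsRegularRing (k' ⊗[k] A) := by
  refine ⟨fun h k' _ _ hfin _ => (Groth.Agent.S4512.result h).1 k' hfin, fun hreg => ?_⟩
  haveI : IsRegularRing A := by
    haveI := hreg k inferInstance fun x => ⟨x ^ p, rfl⟩
    exact IsRegularRing.of_ringEquiv (R := k ⊗[k] A) (Algebra.TensorProduct.lid k A).toRingEquiv
  haveI : IsRegularLocalRing A := IsRegularLocalRing.of_isRegularRing_of_isLocalRing A
  refine Groth.Agent.S2471.result.2 ⟨inferInstance, ?_⟩
  cases ‹ExpChar k p› with
  | zero =>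
      haveI : Algebra.IsGeometricallyReduced k (ResidueField A) :=
        GrothLib.SepField.formallySmooth_iff_isGeometricallyReduced.1 GrothLib.SepField.formallySmooth_of_charZero
      exact Groth.Agent.S2453.injective_of_geomReduced k A
  | prime hp =>
      haveI := Fact.mk hp
      exact injective_lTensor p hreg

end Groth.Agent.S4573
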