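import Groth.Statements.S5005
import Mathlib
import Groth.Agent.Lib.PPGen.OmegaP1
import Groth.Agent.Lib.PPGen.OmegaGen2
-- import your own Groth.Agent.* helpers here

set_option autoImplicit false
universe u
open CategoryTheory CategoryTheory.Limits AlgebraicGeometry TopologicalSpace
open Nrm16

namespace Groth.Agent.S5005

/-- Let f : X ⟶ Y be a quasi-separated morphism of schemes. The differential d_{X/Y} from the structure
sheaf to the sheaf of differentials (the conormal sheaf of the diagonal) is a universal derivation:
composition with it is a bijection between O_X-linear maps out of the sheaf of differentials into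
any O_X-module F and Y-derivations of O_X into F. (The published statement applies to every morphism
f; this row assumes f quasi-separated, the case in which the differential d_{X/Y} into the conormal
sheaf of the diagonal is constructed here.) -/
theorem result {X Y : Scheme.{u}} (f : X ⟶ Y) [QuasiSeparated f] :
    OmegaSh.IsUniversal (OmegaSh.dOmega f) := by
  intro F D
  obtain ⟨ι, hι⟩ := GrothLib.PPGen.exists_omega_to_P1 f
  obtain ⟨u, hu⟩ := GrothLib.PPGen.exists_hom_of_derivation f (0 : Coh.structureModule X ⟶ F) D
  have hz : ∀ U : X.Opens, ∀ t, (0 : Coh.structureModule X ⟶ F).app U t = 0 := fun U t => rfl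
  have hd : ∀ (U : X.Opens) (s : Γ(X, U)), (ι ≫ u).app U ((OmegaSh.dOmega f).app U s) = D.app U s := fun U s => by
    rw [Scheme.Modules.Hom.comp_app, ConcreteCategory.comp_apply, hι, map_sub,
      Scheme.Modules.Hom.app_smul, hu, hu, hz, hz, zero_add, zero_add]
    have h1 : D.app U 1 = 0 := D.d_one (Opposite.op U)
    rw [h1, smul_zero, sub_zero]
  refine ⟨ι ≫ u, ?_, fun β hβ => ?_⟩
  · refine PresheafOfModules.Derivation.ext (funext fun U => AddMonoidHom.ext fun s => ?_)
    exact hd U.unop s
  · refine GrothLib.PPGen.hom_ext_dOmega f β (ι ≫ u) fun U s => ?_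
    rw [hd U s]
    exact PresheafOfModules.Derivation.congr_d hβ (X := Opposite.op U) s

end Groth.Agent.S5005
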