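import Groth.Statements.S1767
import Groth.Agent.Lib.OX.DQCohBrown

set_option autoImplicit false
universe u
open CategoryTheory CategoryTheory.Limits AlgebraicGeometry
attribute [local instance] HasDerivedCategory.standard
open Dual

namespace Groth.Agent.S1767

/-- Let f : X → Y be a morphism between quasi-compact quasi-separated schemes. Assume the derived direct
image Rf_* exists and preserves quasi-coherence of cohomology sheaves (both known results), so that
it restricts to a functor D_QCoh(O_X) → D_QCoh(O_Y), and let a : D_QCoh(O_Y) → D_QCoh(O_X) be a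
right adjoint of this restricted functor. Then there is an integer N ≥ 0 such that for every K in
D_QCoh(O_Y) and every integer c, if H^i(K) = 0 for all i ≤ c then H^i(a(K)) = 0 for all i ≤ c − N;
in particular a sends bounded-below objects to bounded-below objects. -/
theorem result (X Y : Scheme.{u}) [CompactSpace X] [QuasiSeparatedSpace X] [CompactSpace Y] [QuasiSeparatedSpace Y] (f : X ⟶ Y) [DCoh.HasRpush f] (h : ∀ K : DCoh.D X, DCoh.IsQCohD K → DCoh.IsQCohD ((DCoh.Rpush f).obj K)) (a : DCoh.DQCoh Y ⥤ DCoh.DQCoh X) (adj : (ObjectProperty.lift DCoh.IsQCohD (ObjectProperty.ι DCoh.IsQCohD ⋙ DCoh.Rpush f) (fun K => h K.obj K.property)) ⊣ a) : ∃ N : ℕ, ∀ (K : DCoh.DQCoh Y) (c : ℤ), (∀ i : ℤ, i ≤ c → IsZero (DCoh.HD K.obj i)) → ∀ i : ℤ, i ≤ c - N → IsZero (DCoh.HD (a.obj K).obj i) := by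
  have : QuasiSeparated f := QuasiSeparated.of_quasiSeparatedSpace f
  let G : DCoh.D X ⥤ DCoh.D Y := GrothLib.KInj.res X.Modules ⋙ DCoh.pushKh f
  obtain ⟨N₀, hN₀⟩ := GrothLib.OX.exists_bound_Rres f
  refine ⟨N₀.toNat, fun K c hK i hi => ?_⟩
  have hKge : K.obj.IsGE (c + 1) := (DerivedCategory.isGE_iff _ _).2 fun q hq => hK q (by omega)
  let L := (DerivedCategory.TStructure.t.truncLT (i + 1)).obj (a.obj K).obj
  have hLq : DCoh.IsQCohD L := GrothLib.OX.isQCohD_truncLT (a.obj K).property (i + 1)
  have hshift : (L⟦i⟧).IsLE 0 := (DerivedCategory.isLE_iff _ _).2 fun q hq =>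
    (DerivedCategory.isZero_of_isLE L (i + 1 - 1) (i + q) (by omega)).of_iso (GrothLib.OX.HDShiftIso L i q (i + q) rfl)
  have hle : ((DCoh.Rpush f).obj L).IsLE c := (DerivedCategory.isLE_iff _ _).2 fun m hm => by
    have h1 := hN₀ (L⟦i⟧) (GrothLib.OX.isQCohD_shift hLq i) hshift (m - i) (by omega)
    refine Limits.IsZero.of_iso (h1.of_iso ?_)
      ((DerivedCategory.homologyFunctor Y.Modules m).mapIso ((GrothLib.OX.rpushIsoRres f).app L))
    exact (GrothLib.OX.HDShiftIso (G.obj L) i (m - i) m (by omega)).symm ≪≫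
      (DerivedCategory.homologyFunctor Y.Modules (m - i)).mapIso ((G.commShiftIso i).app L).symm
  let Lq : DCoh.DQCoh X := ⟨L, hLq⟩
  let t : Lq ⟶ a.obj K :=
    ObjectProperty.homMk ((DerivedCategory.TStructure.t.truncLTι (i + 1)).app (a.obj K).obj)
  have ht : t = 0 := by
    have h0 : ∀ y : (DCoh.Rpush f).obj L ⟶ K.obj, y = 0 := fun y =>
      (DerivedCategory.TStructure.t (C := Y.Modules)).zero_of_isLE_of_isGE y c (c + 1) (by omega) hle hKge
    exact (adj.homEquiv Lq K).symm.injective (ObjectProperty.hom_ext _ ((h0 _).trans (h0 _).symm))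
  have hiso := GrothLib.DerTrunc.isIso_homology_truncLTι (a.obj K).obj (i + 1) i (by omega)
  have h2 : (DerivedCategory.homologyFunctor X.Modules i).map
      ((DerivedCategory.TStructure.t.truncLTι (i + 1)).app (a.obj K).obj) = 0 := by
    have h3 : (DerivedCategory.TStructure.t.truncLTι (i + 1)).app (a.obj K).obj = 0 :=
      congrArg (fun g : Lq ⟶ a.obj K => g.hom) ht
    rw [h3, Functor.map_zero]
  rw [h2] at hiso
  exact (Limits.IsZero.iff_id_eq_zero _).2 ((cancel_epi (0 :
    (DerivedCategory.homologyFunctor X.Modules i).obj ((DerivedCategory.TStructure.t.truncLT (i + 1)).obj (a.obj K).obj) ⟶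
      (DerivedCategory.homologyFunctor X.Modules i).obj (a.obj K).obj)).1
        (Limits.zero_comp.trans Limits.zero_comp.symm))

end Groth.Agent.S1767
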