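import Groth.Statements.S1687
import Groth.Agent.Lib.BlowUp.AffineCompl

set_option autoImplicit false
universe u
open CategoryTheory CategoryTheory.Limits AlgebraicGeometry TopologicalSpace
open SDiv

namespace Groth.Agent.S1687

/-- Let X be a Noetherian scheme with affine diagonal (the intersection of any two affine opens is
affine), U a dense affine open subset, and suppose the local ring of X at every point outside U is a
unique factorisation domain. Then there is an effective Cartier divisor whose support is exactly X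
minus U. -/
theorem result (X : Scheme.{u}) [IsNoetherian X]
    (hΔ : ∀ V W : X.Opens, IsAffineOpen V → IsAffineOpen W → IsAffineOpen (V ⊓ W)) (U : X.Opens) (hU : IsAffineOpen U)
    (hdense : Dense (U : Set ↥X))
    (hufd : ∀ x : ↥X, x ∉ U → IsDomain (X.presheaf.stalk x) ∧ UniqueFactorizationMonoid (X.presheaf.stalk x)) :
    ∃ 𝓘 : X.IdealSheafData, BlowUp.IsEffCartierIdeal 𝓘 ∧ (𝓘.support : Set ↥X) = (U : Set ↥X)ᶜ := by
  let C : Closeds X := ⟨(U : Set X)ᶜ, U.2.isClosed_compl⟩
  let I := Scheme.IdealSheafData.vanishingIdeal C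
  have hsupp : (I.support : Set X) = (U : Set X)ᶜ := Scheme.IdealSheafData.coe_support_vanishingIdeal C
  have : IsReduced I.subscheme := GrothLib.RedSub.isReduced_subscheme_vanishingIdeal C
  refine ⟨I, fun x => ?_, hsupp⟩
  by_cases hx : x ∈ U
  · obtain ⟨W, hxW, hWU⟩ := GrothLib.BlowUp.exists_affine_mem_le hx
    refine ⟨W, hxW, 1, one_mem _, ?_⟩
    rw [Ideal.span_singleton_one]
    have hemp : Disjoint (W.1 : Set X) (I.support : Set X) := by
      rw [hsupp]
      exact Set.disjoint_compl_right_iff_subset.mpr hWU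
    by_contra hne
    obtain ⟨q, hq, hle⟩ := Ideal.exists_le_maximal _ hne
    let P : PrimeSpectrum Γ(X, W.1) := ⟨q, hq.isPrime⟩
    have hPW : W.2.fromSpec P ∈ W.1 := GrothLib.WeakAss.fromSpec_mem W.2 P
    refine Set.disjoint_left.mp hemp hPW ((Scheme.IdealSheafData.mem_support_iff_of_mem hPW).mpr ?_)
    rw [Scheme.mem_zeroLocus_iff]
    intro t ht htP
    have h2 : t ∉ GrothLib.WeakAss.primeAt (W.2.fromSpec P) hPW := GrothLib.WeakAss.notMem_primeAt_iff.mpr htP
    rw [GrothLib.WeakAss.primeAt_fromSpec W.2 P hPW] at h2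
    exact h2 (hle ht)
  · obtain ⟨hd, hu⟩ := hufd x hx
    refine GrothLib.BlowUp.exists_cartierOn_of_ufd I (fun z hz => ?_) x
    have hzU : ∀ w : I.subscheme, I.subschemeι w ∉ U := fun w h => by
      have : I.subschemeι w ∈ Set.range I.subschemeι := ⟨w, rfl⟩
      rw [Scheme.IdealSheafData.range_subschemeι, hsupp] at this
      exact this h
    obtain ⟨hd', hu'⟩ := hufd _ (hzU z)
    refine GrothLib.BlowUp.ringKrullDim_eq_one_of_maximal_compl_affine hΔ hU hdense (hzU z) fun y hy hyU => ?_
    obtain ⟨w, rfl⟩ : y ∈ Set.range I.subschemeι := by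
      rw [Scheme.IdealSheafData.range_subschemeι, hsupp]; exact hyU
    rw [(GrothLib.WeakAss.isWeakAssPoint_structure_iff z).mp hz w
      (I.subschemeι.isEmbedding.isInducing.specializes_iff.mp hy)]

end Groth.Agent.S1687
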