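import Groth.Statements.S8872
import Groth.Agent.Lib.FittSheaf.Basic
import Groth.Agent.Lib.FittSheaf.Pullback
import Groth.Agent.Lib.Fitting.BaseChange
import Groth.Agent.Lib.BlowUp.IdealComap
import Groth.Agent.Lib.QCoh.StalkPullback

set_option autoImplicit false
universe u
open CategoryTheory CategoryTheory.Limits AlgebraicGeometry TopologicalSpace
open SDiv

namespace Groth.Agent.S8872

/-- Let f : T ⟶ S be a morphism of schemes and F a quasi-coherent O_S-module of finite type. Then for
every i the inverse image ideal sheaf on T of the i-th Fitting ideal of F is the i-th Fitting ideal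
of f^*F. -/
theorem result {T S : Scheme.{u}} (f : T ⟶ S) (F : S.Modules) (hF : Coh.IsQCoh F) (hft : CohB1.IsFT F)
    (i : ℕ) : (Fitt.sheafIdeal F i).comap f = Fitt.sheafIdeal ((Scheme.Modules.pullback f).obj F) i := by
  have := hF
  have hqc := GrothLib.FittSheaf.isQuasicoherent_pullback f F
  have hft' : CohB1.IsFT ((Scheme.Modules.pullback f).obj F) :=
    (GrothLib.QCoh.isFiniteType_iff_moduleFinite _).2 fun V hV => GrothLib.FittSheaf.moduleFinite_pullback f F hft hV
  refine Scheme.IdealSheafData.ext_of_iSup_eq_top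
    (fun p : {p : S.affineOpens × T.affineOpens // p.2.1 ≤ f ⁻¹ᵁ p.1.1} => p.1.2)
    (GrothLib.FittSheaf.exists_cover f) fun p => ?_
  refine GrothLib.FittSheaf.ideal_eq_of_germ p.1.2.2 fun y hy => ?_
  rw [GrothLib.BlowUp.ideal_comap_eq_map _ f p.1.1 p.1.2 p.2, Ideal.map_map,
    GrothLib.FittSheaf.map_germ_sheafIdeal hft' i p.1.2 hy]
  have hfy : f y ∈ p.1.1.1 := p.2 hy
  have hring : (T.presheaf.germ p.1.2.1 y hy).hom.comp (f.appLE p.1.1.1 p.1.2.1 p.2).hom =
      (f.stalkMap y).hom.comp (S.presheaf.germ p.1.1.1 (f y) hfy).hom := by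
    refine RingHom.ext fun a => ?_
    show T.presheaf.germ p.1.2.1 y hy (f.appLE p.1.1.1 p.1.2.1 p.2 a) = f.stalkMap y (S.presheaf.germ p.1.1.1 (f y) hfy a)
    rw [Scheme.Hom.germ_stalkMap_apply]
    exact TopCat.Presheaf.germ_res_apply T.presheaf (homOfLE p.2) y hy _
  rw [hring, ← Ideal.map_map, GrothLib.FittSheaf.map_germ_sheafIdeal hft i p.1.1 hfy]
  let φ := (f.stalkMap y).hom
  let _ := φ.toAlgebra
  have := GrothLib.FittSheaf.finite_stalk hft (f y)
  let e : TensorProduct (S.presheaf.stalk (f y)) (T.presheaf.stalk y) (F.presheaf.stalk (f y)) ≃ₗ[T.presheaf.stalk y]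
      ((Scheme.Modules.pullback f).obj F).presheaf.stalk y :=
    ((GrothLib.QCoh.stalkPullbackIso f y).app F).toLinearEquiv.symm
  rw [← GrothLib.Fitting.ideal_congr e, GrothLib.Fitting.ideal_baseChange]
  rfl

end Groth.Agent.S8872
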