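import Groth.Statements.S8875
import Groth.Agent.Lib.FittSheaf.Basic
import Groth.Agent.Lib.Ref1.Frame

set_option autoImplicit false
universe u
open CategoryTheory CategoryTheory.Limits AlgebraicGeometry TopologicalSpace
open SDiv

namespace Groth.Agent.S8875

/-- (1) ⇔ (3): let S be a scheme, F a quasi-coherent O_S-module of finite type and r ≥ 0. Then F is
finite locally free of rank r if and only if Fit_k(F) = 0 for every k < r and Fit_k(F) = O_S for
every k ≥ r. -/
theorem result (S : Scheme.{u}) (F : S.Modules) (hF : Coh.IsQCoh F) (hft : CohB1.IsFT F)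
    (r : ℕ) :
    FlatMod.IsFinLocFreeOfRank r F ↔
      (∀ k : ℕ, k < r → Fitt.sheafIdeal F k = ⊥) ∧ (∀ k : ℕ, r ≤ k → Fitt.sheafIdeal F k = ⊤) := by
  have := hF
  constructor
  · intro h
    have hstalk : ∀ (x : ↥S) k, Fitt.ideal (S.presheaf.stalk x) (F.presheaf.stalk x) k = if r ≤ k then ⊤ else ⊥ := by
      intro x k
      obtain ⟨U, e, hxU, he⟩ := GrothLib.FinCov.exists_frame_nhd_of_rank h x
      exact GrothLib.Fitting.ideal_of_basis (Module.Basis.ofEquivFun
        (LinearEquiv.ofBijective _ (GrothLib.Ref1.stalk_of_isFrame he x hxU)).symm) k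
    refine ⟨fun k hk => ?_, fun k hk => ?_⟩ <;>
      refine Scheme.IdealSheafData.ext (funext fun U => GrothLib.FittSheaf.ideal_eq_of_germ U.2 fun x hx => ?_)
    · rw [GrothLib.FittSheaf.map_germ_sheafIdeal hft k U hx, hstalk, if_neg (not_le.2 hk),
        Scheme.IdealSheafData.ideal_bot, Pi.bot_apply, Ideal.map_bot]
    · rw [GrothLib.FittSheaf.map_germ_sheafIdeal hft k U hx, hstalk, if_pos hk,
        Scheme.IdealSheafData.ideal_top, Pi.top_apply, Ideal.map_top]
  · rintro ⟨hlow, htop⟩ s
    obtain ⟨U, hU, hs, -⟩ := exists_isAffineOpen_mem_and_subset (x := s) (U := ⊤) trivial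
    have := GrothLib.FittSheaf.finite_sections hft ⟨U, hU⟩
    have hr : ¬ Fitt.ideal Γ(S, U) Γ(F, U) r ≤ GrothLib.WeakAss.primeAt s hs := by
      rw [← GrothLib.FittSheaf.notMem_support_iff_not_le hft r ⟨U, hU⟩ hs, htop r le_rfl,
        Scheme.IdealSheafData.support_top]
      exact fun h => h
    obtain ⟨g, hg, y, hy⟩ := GrothLib.Fitting.exists_smul_mem_span r _
      ((GrothLib.Fitting.not_le_iff_finrank_fiber_le r _).1 hr)
    have hsD : s ∈ S.basicOpen g := GrothLib.WeakAss.notMem_primeAt_iff.1 hg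
    let e : Fin r → Γ(F, S.basicOpen g) := fun i => F.presheaf.map (homOfLE (S.basicOpen_le g)).op (y i)
    suffices hb : ∀ (z : ↥S) (hz : z ∈ S.basicOpen g), Function.Bijective (GrothLib.Ref1.stalkComb e z hz) by
      obtain ⟨φ⟩ := GrothLib.FinCov.exists_iso_of_frame (GrothLib.Ref1.isFrame_of_stalk hb)
      exact ⟨_, hsD, ⟨φ⟩⟩
    intro z hz
    have hzU := S.basicOpen_le g hz
    let x : Fin r → F.presheaf.stalk z := fun i => F.presheaf.germ (S.basicOpen g) z hz (e i)
    have hx : Submodule.span (S.presheaf.stalk z) (Set.range x) = ⊤ := by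
      refine eq_top_iff.2 fun v _ => ?_
      obtain ⟨c, m, hc, hm⟩ := GrothLib.WeakAss.exists_smul_eq_germ hU hzU v
      obtain ⟨a, ha⟩ := (Submodule.mem_span_range_iff_exists_fun _).1 (hy m)
      have hu : IsUnit (S.presheaf.germ U z hzU c) :=
        (Scheme.mem_basicOpen _ c z hzU).1 (GrothLib.WeakAss.notMem_primeAt_iff.1 hc)
      have hgu : IsUnit (S.presheaf.germ U z hzU g) := (Scheme.mem_basicOpen _ g z hzU).1 hz
      refine (Submodule.smul_mem_iff_of_isUnit _ (hgu.mul hu)).1 ?_
      rw [mul_smul, hm, ← GrothLib.WeakAss.germ_smul, ← ha, map_sum]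
      refine Submodule.sum_mem _ fun i _ => ?_
      rw [GrothLib.WeakAss.germ_smul]
      exact Submodule.smul_mem _ _ (Submodule.subset_span ⟨i, (TopCat.Presheaf.germ_res_apply F.presheaf _ z hz _)⟩)
    refine ⟨(injective_iff_map_eq_zero (GrothLib.Ref1.stalkComb e z hz)).2 fun c hc => funext fun i => ?_, ?_⟩
    · rw [GrothLib.Ref1.stalkComb, Fintype.linearCombination_apply] at hc
      have h1 := GrothLib.Fitting.det_mem_minors (L := GrothLib.Fitting.rel (R := S.presheaf.stalk z) x)
        (fun _ : Fin 1 => c) (fun _ => i) fun _ => GrothLib.Fitting.mem_rel.2 hc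
      rw [Matrix.det_fin_one, Matrix.of_apply] at h1
      have hr0 := i.pos
      rw [show 1 = r - (r - 1) by omega, ← GrothLib.Fitting.ideal_eq_minors x hx,
        ← GrothLib.FittSheaf.map_germ_sheafIdeal hft (r - 1) ⟨U, hU⟩ hzU, hlow (r - 1) (by omega),
        Scheme.IdealSheafData.ideal_bot, Pi.bot_apply, Ideal.map_bot, Ideal.mem_bot] at h1
      exact h1
    · rw [← LinearMap.range_eq_top, GrothLib.Ref1.stalkComb, Fintype.range_linearCombination]
      exact hx

end Groth.Agent.S8875
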