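import Groth.Statements.S7184
import Groth.Agent.Lib.AmpleFamily29.Rel
import Groth.Agent.Lib.Ample.Product

set_option autoImplicit false
universe u
open FlatMor

namespace Groth.Agent.S7184

open AlgebraicGeometry CategoryTheory Limits in
/-- If f : X → Y is affine or quasi-affine and Y has an ample family of invertible modules, then X has
an ample family of invertible modules. -/
theorem result {X Y : Scheme.{u}} (f : X ⟶ Y) (hf : IsAffineHom f ∨ Mor2.IsQuasiAffine f)
    (hY : MoreMor.HasAmpleFamily Y) : MoreMor.HasAmpleFamily X := by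
  have hqc : QuasiCompact f := hf.elim (fun h => inferInstance) (fun h => h.1)
  refine GrothLib.AmpleFamily29.hasAmpleFamily_of_isRelAmple f hY (Coh.structureModule X) ⟨hqc, fun V => ?_⟩
  refine (GrothLib.Ample.isAmple_restrict_structureModule_iff _).mpr
    (GrothLib.Ample.isQuasiAffine_iff.mp ?_)
  rcases hf with h | h
  · haveI : IsAffine ((f ⁻¹ᵁ V.1 : X.Opens) : Scheme.{u}) := V.2.preimage f
    infer_instance
  · exact h.2 V.1 V.2

end Groth.Agent.S7184
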