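import Groth.Statements.S19702
import Groth.Agent.Lib.AntiAffine.Hom
-- import your own Groth.Agent.* helpers here

set_option autoImplicit false
universe u
open CategoryTheory MonoidalCategory CartesianMonoidalCategory MonObj GrpObj AlgebraicGeometry CategoryTheory.Limits
open AlgGrp

namespace Groth.Agent.S19702

open scoped TensorProduct in
theorem bijective_of_isPushout {k K : Type u} [Field k] [Field K] [Algebra k K] {A P : CommRingCat.{u}}
    {f : CommRingCat.of k ⟶ A} {a : A ⟶ P} {b : CommRingCat.of K ⟶ P}
    (h : IsPushout f (CommRingCat.ofHom (algebraMap k K)) a b) (hb : Function.Bijective b.hom) :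
    Function.Bijective f.hom := by
  algebraize [f.hom]
  let e : P ≅ CommRingCat.of (A ⊗[k] K) :=
    h.isoIsPushout _ _ (CommRingCat.isPushout_tensorProduct k A K)
  have hr : Function.Bijective (Algebra.TensorProduct.includeRight : K →ₐ[k] A ⊗[k] K) := by
    have he : b ≫ e.hom = CommRingCat.ofHom (S := A ⊗[k] K) (Algebra.TensorProduct.includeRight : K →ₐ[k] A ⊗[k] K).toRingHom :=
      h.inr_isoIsPushout_hom _ _ (CommRingCat.isPushout_tensorProduct k A K)
    have : Function.Bijective (b ≫ e.hom).hom :=
      (ConcreteCategory.bijective_of_isIso e.hom).comp hb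
    rwa [he] at this
  have : Nontrivial (A ⊗[k] K) := (Equiv.ofBijective _ hr).symm.nontrivial
  have : Nontrivial A := RingHom.domain_nontrivial
    (Algebra.TensorProduct.includeLeftRingHom : A →+* A ⊗[k] K)
  refine ⟨RingHom.injective _, fun x => ?_⟩
  by_contra hx
  have hsub : x ∉ (k ∙ (1 : A)) := by
    intro hmem
    obtain ⟨c, hc⟩ := Submodule.mem_span_singleton.mp hmem
    exact hx ⟨c, by rw [← hc, Algebra.smul_def, _root_.mul_one]; rfl⟩
  obtain ⟨φ, hφx, hφ⟩ := Submodule.exists_le_ker_of_notMem hsub
  have hφ1 : φ 1 = 0 := hφ (Submodule.mem_span_singleton_self _)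
  obtain ⟨c, hc⟩ := hr.2 (x ⊗ₜ 1)
  have h2 := congrArg (TensorProduct.lid k K ∘ φ.rTensor K) hc
  simp [hφ1] at h2
  exact hφx (smul_eq_zero.mp h2.symm |>.resolve_right one_ne_zero)

/-- Let k be a field, K a field extension of k and G a k-group scheme of finite type. Then G is
anti-affine, i.e. O(G) = k, if and only if the base change G_K is anti-affine, i.e. O(G_K) = K. -/
theorem result (k : Type u) [Field k] (K : Type u) [Field K] [Algebra k K]
    (G : Over (Spec (CommRingCat.of k))) [GrpObj G] [LocallyOfFiniteType G.hom] [QuasiCompact G.hom] :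
    Function.Bijective ((Scheme.ΓSpecIso (CommRingCat.of k)).inv ≫ G.hom.appTop).hom ↔
      Function.Bijective ((Scheme.ΓSpecIso (CommRingCat.of K)).inv ≫ (Red.bc (Spec.map (CommRingCat.ofHom (algebraMap k K))) G).hom.appTop).hom := by
  have : CompactSpace G.left := QuasiCompact.compactSpace_of_compactSpace G.hom
  have : IsSeparated G.hom := GrothLib.GrpSchField.isSeparated G
  have : QuasiSeparatedSpace G.left := quasiSeparatedSpace_of_quasiSeparated G.hom
  let b : Spec (CommRingCat.of K) ⟶ Spec (CommRingCat.of k) := Spec.map (CommRingCat.ofHom (algebraMap k K))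
  have hpo := GrothLib.SchEffective.isPushout_appTop b G.hom
  have hbc : (Red.bc b G).hom = pullback.snd G.hom b := rfl
  constructor
  · intro h
    have := GrothLib.AntiAffine.IsAntiAffine.isIso (X := G) h
    have hiso : IsIso (pullback.snd G.hom b).appTop := hpo.isIso_inr_of_isIso
    rw [hbc]
    exact ConcreteCategory.bijective_of_isIso (C := CommRingCat) _
  · intro h
    rw [hbc] at h
    let i₁ := Scheme.ΓSpecIso (CommRingCat.of k)
    let i₂ := Scheme.ΓSpecIso (CommRingCat.of K)
    have hpo' : IsPushout (i₁.inv ≫ G.hom.appTop) (CommRingCat.ofHom (algebraMap k K))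
        (pullback.fst G.hom b).appTop (i₂.inv ≫ (pullback.snd G.hom b).appTop) := by
      refine hpo.of_iso i₁ (Iso.refl _) i₂ (Iso.refl _) (by simp) ?_ (by simp) (by simp)
      exact (Scheme.ΓSpecIso_naturality _).symm ▸ rfl
    exact bijective_of_isPushout hpo' h


end Groth.Agent.S19702
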