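import Groth.Statements.S7408
import Groth.Agent.Lib.EtFibre.Basic

set_option autoImplicit false
universe u
open CategoryTheory AlgebraicGeometry
open Desc

namespace Groth.Agent.S7408

/-- The local dimension of the fibre at a point is étale local on the source-and-target: for a
commutative square with horizontal maps `h' : U' → V'`, `h : U → V`, étale vertical maps `a : U' →
U`, `b : V' → V` and `u' ∈ U'`, the local dimension at `a(u')` of the fibre of `h` equals the local
dimension at `u'` of the fibre of `h'`. -/
theorem result {U U' V V' : Scheme.{u}} (h : U ⟶ V) (h' : U' ⟶ V') (a : U' ⟶ U)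
    (b : V' ⟶ V) [Etale a] [Etale b] (comm : h' ≫ b = a ≫ h) (u' : U') :
    FlatMor.fibreDimAt h (a u') = FlatMor.fibreDimAt h' u' := by
  let φ : h'.fiber (h' u') ⟶ h.fiber (b (h' u')) :=
    CategoryTheory.Limits.pullback.map h' (V'.fromSpecResidueField (h' u')) h (V.fromSpecResidueField (b (h' u'))) a
      (Spec.map (b.residueFieldMap (h' u'))) b comm (by simp)
  haveI : Etale φ := GrothLib.EtFibre.etale_fiberMap h h' a b comm (h' u') φ
    (CategoryTheory.Limits.pullback.lift_fst _ _ _) (CategoryTheory.Limits.pullback.lift_snd _ _ _)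
  have key : ∀ (v : V) (p : h.fiber v), h.fiberι v p = a u' →
      FlatMor.localDim (h.fiber v) p = FlatMor.fibreDimAt h (a u') := by
    intro v p hp
    obtain rfl : v = h (a u') := by
      have hm : h.fiberι v p ∈ Set.range (h.fiberι v) := ⟨p, rfl⟩
      rw [Scheme.Hom.range_fiberι, hp] at hm
      exact hm.symm
    obtain rfl : p = h.asFiber (a u') :=
      (h.fiberι _).isEmbedding.injective (hp.trans (h.fiberι_asFiber _).symm)
    rfl
  rw [← key _ (φ (h'.asFiber u')) ?_]
  · exact GrothLib.EtFibre.localDim_eq_of_etale φ _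
  · rw [← Scheme.Hom.comp_apply, show φ ≫ h.fiberι (b (h' u')) = h'.fiberι (h' u') ≫ a from
      CategoryTheory.Limits.pullback.lift_fst _ _ _]
    exact congrArg a (h'.fiberι_asFiber u')

end Groth.Agent.S7408
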