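import Groth.Prelude.Def_EtGm
import Groth.Agent.Lib.EtTate19.Root
import Mathlib.RingTheory.Henselian
import Mathlib.FieldTheory.IsSepClosed

set_option autoImplicit false
open CategoryTheory AlgebraicGeometry
universe u
open GrothLib.EtTate19

namespace Groth.Agent.S14625

/-- Let A be a strictly henselian local ring, n ≥ 1 an integer invertible in A, and X a scheme over Spec
A. Then the étale sheaf μ_n of n-th roots of unity on X is isomorphic to the constant sheaf with
value ℤ/n. Only the existence of an isomorphism is asserted; it depends on the choice of a primitive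
n-th root of unity in A. -/
theorem result (A : Type u) [CommRing A]
    (hA : EtCoh.IsStrictlyHenselianLocalRing A) (n : ℕ) (hn : 1 ≤ n) (hu : IsUnit (n : A))
    (X : Scheme.{u}) (f : X ⟶ Spec (CommRingCat.of A)) :
    Nonempty (EtCoh.mu X n ≅ EtCoh.const X (ZMod n)) := by
  obtain ⟨hh, hk⟩ := hA
  let k := IsLocalRing.ResidueField A
  have huk : IsUnit (n : k) := map_natCast (IsLocalRing.residue A) n ▸ hu.map _
  have : NeZero (n : k) := ⟨huk.ne_zero⟩
  obtain ⟨x, hx⟩ := IsSepClosed.exists_root (Polynomial.cyclotomic n k)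
    (Polynomial.degree_cyclotomic_pos n k hn).ne' (Polynomial.separable_cyclotomic n k)
  obtain ⟨a₀, rfl⟩ := IsLocalRing.residue_surjective x
  have hmem : (Polynomial.cyclotomic n A).eval a₀ ∈ IsLocalRing.maximalIdeal A := by
    rw [← IsLocalRing.residue_eq_zero_iff, ← Polynomial.eval_map_apply, Polynomial.map_cyclotomic]
    exact hx
  have hd : IsUnit ((Polynomial.cyclotomic n A).derivative.eval a₀) := by
    obtain ⟨p₁, p₂, hp⟩ := exists_bezout_cyclotomic (R := A) hn hu
    have h := congrArg (fun p => IsLocalRing.residue A (Polynomial.eval a₀ p)) hp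
    simp only [Polynomial.eval_add, Polynomial.eval_mul, map_add, map_mul, Polynomial.eval_one, map_one,
      (IsLocalRing.residue_eq_zero_iff _).2 hmem, zero_mul, add_zero] at h
    by_contra hc
    rw [(IsLocalRing.residue_eq_zero_iff _).2 ((IsLocalRing.mem_maximalIdeal _).2 hc), zero_mul] at h
    exact zero_ne_one h
  obtain ⟨a, ha, -⟩ := HenselianLocalRing.is_henselian _ (Polynomial.cyclotomic.monic n A) a₀ hmem hd
  let ρ : A →+* Γ(X, ⊤) := ((Scheme.ΓSpecIso (CommRingCat.of A)).inv ≫ f.appTop).hom
  obtain ⟨g, hg⟩ := isCycGen_mu (S := X) hn (by simpa using hu.map ρ) (ρ a)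
    (by rw [← Polynomial.map_cyclotomic n ρ]; exact ha.map)
  exact (nonempty_const_iso hg).map Iso.symm

end Groth.Agent.S14625
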