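import Groth.Statements.S12540
import Groth.Agent.Lib.Induce27.QuotAffine
import Groth.Agent.Lib.CartTorsor.Geom
import Groth.Agent.Lib.TorsorDesc.Basic
import Groth.Agent.Lib.PPGen.Finite
import Groth.Agent.Lib.EtSite.FpqcDescent
import Groth.Agent.Lib.GrpdQuot.FlatQuot
import Groth.Agent.Lib.GrpSchField.Criteria
import Groth.Agent.Lib.GrpSchField.Shear
import Groth.Agent.Lib.RedSmooth.Basic
import Mathlib
-- import your own Groth.Agent.* helpers here

set_option autoImplicit false
universe u
open CategoryTheory MonoidalCategory CartesianMonoidalCategory MonObj GrpObj AlgebraicGeometry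
open AlgGrp

namespace Groth.Agent.S12540

set_option backward.isDefEq.respectTransparency false

section
open GrothLib.Induce27 CategoryTheory.Limits

variable {k : Type u} [Field k]

local notation "S" => Spec (CommRingCat.of k)

theorem exists_point_over [IsAlgClosed k] {X : Over S} [LocallyOfFiniteType X.hom] {x : X.left}
    (hx : IsClosed ({x} : Set X.left)) :
    ∃ q : 𝟙_ (Over S) ⟶ X, q.left (IsLocalRing.closedPoint k) = x :=
  ⟨Over.homMk (pointOfClosedPoint X.hom x hx) (pointOfClosedPoint_comp X.hom x hx),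
    pointOfClosedPoint_apply X.hom x hx _⟩

theorem point_eq_of_apply [IsAlgClosed k] {X : Over S} [LocallyOfFiniteType X.hom] (p q : 𝟙_ (Over S) ⟶ X)
    (h : p.left (IsLocalRing.closedPoint k) = q.left (IsLocalRing.closedPoint k)) : p = q :=
  Over.OverMorphism.ext (ext_of_apply_closedPoint_eq X.hom (Over.w p) (Over.w q) h)

/-- A closed point of the source mapping to a given rational point. -/
theorem exists_point_lift [IsAlgClosed k] {G X : Over S} [LocallyOfFiniteType G.hom] [LocallyOfFiniteType X.hom]
    (p : G ⟶ X) [Surjective p.left] (x : 𝟙_ (Over S) ⟶ X) : ∃ g : 𝟙_ (Over S) ⟶ G, g ≫ p = x := by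
  have hx : IsClosed ({x.left (IsLocalRing.closedPoint k)} : Set X.left) :=
    (pointEquivClosedPoint X.hom ⟨x.left, Over.w x⟩).2
  haveI : JacobsonSpace G.left := LocallyOfFiniteType.jacobsonSpace G.hom
  obtain ⟨z₀, hz₀⟩ := p.left.surjective (x.left (IsLocalRing.closedPoint k))
  obtain ⟨z, hz, hzc⟩ := nonempty_inter_closedPoints (X := G.left)
    (Z := p.left ⁻¹' {x.left (IsLocalRing.closedPoint k)}) ⟨z₀, hz₀⟩ (hx.preimage p.left.continuous).isLocallyClosed
  obtain ⟨g, hg⟩ := exists_point_over (X := G) hzc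
  refine ⟨g, point_eq_of_apply _ _ ?_⟩
  rw [Over.comp_left, Scheme.Hom.comp_apply, hg]
  exact hz

/-- Reduced subgroup: a power of a function invariant under it is invariant. -/
theorem exists_pow_eq {R R' : Type u} [CommRing R] [CommRing R'] (e : k →+* R) (j : R →+* R')
    (hker : ∀ D, j D = 0 → IsNilpotent D) (h0 : CharZero k → Function.Injective j)
    {a b : R} (hab : j a = j b) : ∃ m : ℕ, 0 < m ∧ a ^ m = b ^ m := by
  rcases subsingleton_or_nontrivial R with hR | hR
  · exact ⟨1, one_pos, Subsingleton.elim _ _⟩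
  rcases CharP.exists' k with h | ⟨p, hp, hpc⟩
  · exact ⟨1, one_pos, by rw [h0 h hab]⟩
  · haveI := hp
    haveI : CharP R p := charP_of_injective_ringHom e.injective p
    haveI : ExpChar R p := ExpChar.prime hp.out
    obtain ⟨n, hn⟩ := hker (a - b) (by rw [map_sub, hab, sub_self])
    refine ⟨p ^ n, pow_pos hp.out.pos n, ?_⟩
    rw [← sub_eq_zero, ← sub_pow_expChar_pow]
    exact pow_eq_zero_of_le (Nat.lt_pow_self hp.out.one_lt).le hn

/-- A scheme admitting a homeomorphic integral map from an affine scheme which admits powers of all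
functions is affine. -/
theorem isAffine_of_pow {X X' : Scheme.{u}} (π : X' ⟶ X) [IsAffine X'] (hbij : Function.Bijective π)
    (hclosed : IsClosedMap π) (hinj : Function.Injective π.appTop.hom)
    (hpow : ∀ f : Γ(X', ⊤), ∃ m : ℕ, 0 < m ∧ ∃ g, π.appTop.hom g = f ^ m) : IsAffine X := by
  classical
  let s : Set Γ(X, ⊤) := {g | IsAffineOpen (X.basicOpen g)}
  have hcov : ∀ x : X, ∃ g ∈ s, x ∈ X.basicOpen g := fun x => by
    obtain ⟨x', rfl⟩ := hbij.2 x
    obtain ⟨U, hU, hxU, -⟩ := exists_isAffineOpen_mem_and_subset (X := X) (x := π x') (U := ⊤) trivial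
    obtain ⟨f, hfU, hf⟩ := (isAffineOpen_top X').exists_basicOpen_le (V := π ⁻¹ᵁ U) ⟨x', hxU⟩ trivial
    obtain ⟨m, hm, g, hg⟩ := hpow f
    have hpre : π ⁻¹ᵁ X.basicOpen g = X'.basicOpen f := by
      rw [Scheme.preimage_basicOpen_top]
      show X'.basicOpen (π.appTop.hom g) = _
      rw [hg, Scheme.basicOpen_pow _ _ hm]
    have hle : X.basicOpen g ≤ U := fun y hy => by
      obtain ⟨y', rfl⟩ := hbij.2 y
      have : y' ∈ π ⁻¹ᵁ X.basicOpen g := hy
      rw [hpre] at this
      exact hfU this
    refine ⟨g, ?_, ?_⟩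
    · show IsAffineOpen (X.basicOpen g)
      have h := hU.basicOpen (X.presheaf.map (homOfLE (le_top : U ≤ ⊤)).op g)
      rwa [Scheme.basicOpen_res, inf_eq_right.2 hle] at h
    · show x' ∈ π ⁻¹ᵁ X.basicOpen g
      rw [hpre]; exact hf
  refine isAffine_of_isAffineOpen_basicOpen s ?_ fun g hg => hg
  rw [← Ideal.map_eq_top_iff π.appTop.hom hinj fun f => ?_, Ideal.map_span,
    ← (isAffineOpen_top X').iSup_basicOpen_eq_self_iff]
  · refine top_le_iff.1 fun x' _ => ?_
    obtain ⟨g, hg, hxg⟩ := hcov (π x')
    refine TopologicalSpace.Opens.mem_iSup.2 ⟨⟨π.appTop.hom g, g, hg, rfl⟩, ?_⟩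
    show x' ∈ X'.basicOpen (π.appTop.hom g)
    have : x' ∈ π ⁻¹ᵁ X.basicOpen g := hxg
    rwa [Scheme.preimage_basicOpen_top] at this
  · obtain ⟨m, hm, g, hg⟩ := hpow f
    letI := π.appTop.hom.toAlgebra
    exact IsIntegral.of_pow hm (hg ▸ isIntegral_algebraMap)

theorem main [IsAlgClosed k]
    (G : Over S) [GrpObj G] [Smooth G.hom] [QuasiCompact G.hom]
    (H : Over S) [GrpObj H] (h : H ⟶ G) [IsMonHom h] [IsClosedImmersion h.left]
    (H' : Over S) [GrpObj H'] (h' : H' ⟶ H) [IsMonHom h'] [IsClosedImmersion h'.left]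
    [Surjective h'.left]
    (X : Over S) (a : AlgGrp.Action G X) (o : 𝟙_ (Over S) ⟶ X) (hX : AGF.IsQuotient h X a o)
    (X' : Over S) (a' : AlgGrp.Action G X') (o' : 𝟙_ (Over S) ⟶ X') (hX' : AGF.IsQuotient (h' ≫ h) X' a' o') :
    IsAffine X.left ↔ IsAffine X'.left := by
  have hsepX := isSeparated_quotient a o hX
  haveI : IsClosedImmersion (h' ≫ h).left := by rw [Over.comp_left]; infer_instance
  have hsepX' := isSeparated_quotient a' o' hX'
  obtain ⟨hXl, hpf, hps, hpb⟩ := hX
  obtain ⟨hXl', hpf', hps', hpb'⟩ := hX'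
  haveI := hsepX; haveI := hsepX'
  haveI := hXl; haveI := hXl'
  let p := a.orbitMap o
  let p' := a'.orbitMap o'
  haveI : Flat p.left := hpf
  haveI : Flat p'.left := hpf'
  haveI : Surjective p.left := hps
  haveI : Surjective p'.left := hps'
  haveI : QuasiCompact p.left := by
    haveI : QuasiCompact (p.left ≫ X.hom) := by rw [Over.w p]; infer_instance
    exact QuasiCompact.of_comp p.left X.hom
  haveI : QuasiCompact p'.left := by
    haveI : QuasiCompact (p'.left ≫ X'.hom) := by rw [Over.w p']; infer_instance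
    exact QuasiCompact.of_comp p'.left X'.hom
  -- the comparison map
  have hlift : ∀ {T : Over S} (v w : T ⟶ G), v ≫ p' = w ≫ p' → v ≫ p = w ≫ p := fun {T} v w e => by
    have h1 := hpb'.lift_fst v w e
    have h2 := hpb'.lift_snd v w e
    generalize hpb'.lift v w e = l at h1 h2
    subst h1 h2
    rw [MonoidalCategory.whiskerLeft_comp]
    simp only [Category.assoc]
    rw [← whiskerLeft_fst G h']
    simp only [Category.assoc]
    rw [hpb.w]
    simp only [Category.assoc]
    rfl
  haveI : EffectiveEpi p'.left := GrothLib.TorsorDesc.effectiveEpi_of_localSections _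
    (GrothLib.CartTorsor.isLocallyTrivialFor_of_flat p'.left)
  obtain ⟨π, hπ, -⟩ := GrothLib.TorsorDesc.existsUnique_desc p' p (fun T v w e => hlift v w e)
  have hπl : p'.left ≫ π.left = p.left := by rw [← Over.comp_left, hπ]
  haveI : LocallyOfFiniteType π.left := by
    haveI : LocallyOfFiniteType (π.left ≫ X.hom) := by rw [Over.w π]; infer_instance
    exact locallyOfFiniteType_of_comp π.left X.hom
  haveI : IsSeparated π.left := by
    haveI : IsSeparated (π.left ≫ X.hom) := by rw [Over.w π]; infer_instance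
    exact IsSeparated.of_comp π.left X.hom
  -- the base change to G
  let Z := pullback π p
  let q : Z ⟶ G := pullback.snd π p
  let s : G ⟶ Z := pullback.lift p' (𝟙 G) (by rw [hπ, Category.id_comp])
  have sq : IsPullback (pullback.fst π p).left q.left π.left p.left :=
    (IsPullback.of_hasPullback π p).map (Over.forget _)
  have hsq : s ≫ q = 𝟙 G := pullback.lift_snd _ _ _
  haveI : LocallyOfFiniteType q.left := MorphismProperty.of_isPullback sq ‹LocallyOfFiniteType π.left›
  haveI : IsSeparated q.left := MorphismProperty.of_isPullback sq ‹IsSeparated π.left›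
  haveI : LocallyOfFiniteType Z.hom := by rw [← Over.w q]; infer_instance
  have hsurj : Function.Surjective s.left := by
    haveI : IsClosedImmersion (s.left ≫ q.left) := by
      rw [← Over.comp_left, hsq]; exact inferInstanceAs (IsClosedImmersion (𝟙 G.left))
    haveI : IsClosedImmersion s.left := IsClosedImmersion.of_comp s.left q.left
    haveI : JacobsonSpace Z.left := LocallyOfFiniteType.jacobsonSpace Z.hom
    rw [← Set.range_eq_univ]
    refine Set.univ_subset_iff.1 ?_
    rw [← closure_closedPoints (X := Z.left)]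
    refine closure_minimal (fun z hz => ?_) s.left.isClosedEmbedding.isClosed_range
    obtain ⟨zp, rfl⟩ := exists_point_over (X := Z) hz
    let g : 𝟙_ (Over S) ⟶ G := zp ≫ q
    obtain ⟨g', hg'⟩ := exists_point_lift p' (zp ≫ pullback.fst π p)
    have e : g' ≫ p = g ≫ p := by
      conv_lhs => rw [← hπ, ← Category.assoc, hg', Category.assoc, pullback.condition, ← Category.assoc]
    let n := hpb.lift g g' e.symm
    haveI : LocallyOfFiniteType H.hom := by rw [← Over.w h]; infer_instance
    haveI : LocallyOfFiniteType H'.hom := by rw [← Over.w h']; infer_instance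
    obtain ⟨n', hn'⟩ := exists_point_lift h' (n ≫ snd G H)
    refine ⟨g.left (IsLocalRing.closedPoint k), ?_⟩
    have hzz : zp = g ≫ s := by
      apply pullback.hom_ext
      · rw [Category.assoc, pullback.lift_fst]
        have e1 : g' = lift g n' ≫ (G ◁ (h' ≫ h)) ≫ μ[G] := by
          rw [lift_whiskerLeft_assoc, reassoc_of% hn', ← hpb.lift_snd g g' e.symm]
          have el : n = lift g (n ≫ snd G H) := by
            conv_lhs => rw [← Category.comp_id n, ← lift_fst_snd, comp_lift]
            rw [hpb.lift_fst g g' e.symm]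
          show n ≫ (G ◁ h) ≫ μ[G] = _
          rw [el, lift_whiskerLeft_assoc]
          simp only [lift_snd_assoc, Category.assoc]
        rw [← hg', e1]
        have e2 := congrArg (fun t => lift g n' ≫ t) hpb'.w
        simp only [lift_fst_assoc] at e2
        simp only [Category.assoc] at e2 ⊢
        exact e2.symm
      · rw [Category.assoc, hsq, Category.comp_id]
    conv_rhs => rw [hzz, Over.comp_left, Scheme.Hom.comp_apply]
  have hsl : s.left ≫ q.left = 𝟙 G.left := by rw [← Over.comp_left, hsq]; rfl
  haveI : IsFinite q.left := GrothLib.PPGen.isFinite_of_surjective_section q.left s.left hsurj hsl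
  haveI : IsFinite π.left := MorphismProperty.of_isPullback_of_descendsAlong
    (P := @IsFinite) (Q := GrothLib.EtSite.fpqcCov) sq.flip ⟨⟨‹_›, ‹_›⟩, ‹_›⟩ ‹_›
  haveI : Surjective π.left := ⟨fun x => by
    obtain ⟨g, rfl⟩ := p.left.surjective x
    exact ⟨p'.left g, by rw [← Scheme.Hom.comp_apply, hπl]⟩⟩
  have hπinj : Function.Injective π.left := fun x₁ x₂ e => by
    obtain ⟨g, hg⟩ := p.left.surjective (π.left x₁)
    have key : ∀ x, π.left x = p.left g → x = p'.left g := fun x hx => by
      obtain ⟨z, hz1, hz2⟩ := Scheme.Pullback.exists_preimage_pullback (f := π.left) (g := p.left) x g hx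
      let z' := sq.isoPullback.inv z
      have hz1' : (pullback.fst π p).left z' = x := by
        rw [← Scheme.Hom.comp_apply, sq.isoPullback_inv_fst]; exact hz1
      have hz2' : q.left z' = g := by
        rw [← Scheme.Hom.comp_apply, sq.isoPullback_inv_snd]; exact hz2
      obtain ⟨g₁, hg₁⟩ := hsurj z'
      have : g₁ = g := by
        rw [← hz2', ← hg₁, ← Scheme.Hom.comp_apply, hsl]; rfl
      subst this
      rw [← hz1', ← hg₁, ← Scheme.Hom.comp_apply, ← Over.comp_left, pullback.lift_fst]
    rw [key x₁ hg.symm, key x₂ (e ▸ hg.symm)]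
  refine ⟨fun hA => ?_, fun hA => ?_⟩
  · haveI := hA
    exact isAffine_of_isAffineHom π.left
  haveI := hA
  -- the nilpotent thickening of the kernel pairs
  let j : (G ⊗ H').left ⟶ (G ⊗ H).left := (G ◁ h').left
  haveI : IsClosedImmersion j := isClosedImmersion_whiskerLeft h' G
  haveI : Surjective j := by
    have e : G ◁ h' = (β_ G H').hom ≫ (h' ▷ G) ≫ (β_ H G).hom := by ext <;> simp
    haveI := GrothLib.GrpSchField.whiskerRight_property @Surjective h' G inferInstance
    haveI := GrothLib.GrpSchField.isIso_left (β_ G H').hom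
    haveI := GrothLib.GrpSchField.isIso_left (β_ H G).hom
    show Surjective (G ◁ h').left
    rw [e, Over.comp_left, Over.comp_left]
    infer_instance
  haveI : QuasiCompact (G ⊗ H).hom := by
    haveI : QuasiCompact H.hom := by rw [← Over.w h]; infer_instance
    exact inferInstanceAs (QuasiCompact (pullback.fst G.hom H.hom ≫ G.hom))
  haveI : CompactSpace ↥(G ⊗ H).left := QuasiCompact.compactSpace_of_compactSpace (G ⊗ H).hom
  have hker : ∀ D, j.appTop.hom D = 0 → IsNilpotent D := fun D hD => by
    rw [Scheme.isNilpotent_iff_basicOpen_eq_bot, ← le_bot_iff]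
    intro z hz
    obtain ⟨z', rfl⟩ := j.surjective z
    have h1 : z' ∈ j ⁻¹ᵁ (G ⊗ H).left.basicOpen D := hz
    rw [Scheme.preimage_basicOpen_top, show j.appTop D = 0 from hD, Scheme.basicOpen_zero] at h1
    exact h1
  have h0 : CharZero k → Function.Injective j.appTop.hom := fun hk => by
    haveI := hk
    haveI : LocallyOfFiniteType H.hom := by rw [← Over.w h]; infer_instance
    haveI : Smooth H.hom := GrothLib.GrpSchField.smooth_of_charZero H
    haveI : Smooth (G ⊗ H).hom := by
      show Smooth (pullback.fst G.hom H.hom ≫ G.hom)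
      infer_instance
    haveI : IsReduced (G ⊗ H).left := GrothLib.RedSmooth.isReduced_of_smooth (G ⊗ H).hom
    haveI := isIso_of_isClosedImmersion_of_surjective j
    exact ((ConcreteCategory.isIso_iff_bijective j.appTop).1 inferInstance).1
  let eR : k →+* Γ((G ⊗ H).left, ⊤) :=
    (G ⊗ H).hom.appTop.hom.comp (Scheme.ΓSpecIso (CommRingCat.of k)).inv.hom
  let m : (G ⊗ H).left ⟶ G.left := ((G ◁ h) ≫ μ[G]).left
  have hsqs : IsPullback (fst G H).left m p.left p.left := hpb.map (Over.forget _)
  have hjfst : j ≫ (fst G H).left ≫ p'.left = j ≫ m ≫ p'.left := by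
    simp only [j, m, ← Over.comp_left]
    congr 1
    rw [whiskerLeft_fst_assoc, hpb'.w, MonoidalCategory.whiskerLeft_comp]
    simp only [Category.assoc]
    rfl
  refine isAffine_of_pow π.left ⟨hπinj, π.left.surjective⟩ π.left.isClosedMap ?_ fun f => ?_
  · have hinj := (GrothLib.GrpdQuot.sections_of_flat p.left ⊤).1
    intro u v e
    apply hinj
    show p.left.appTop.hom u = p.left.appTop.hom v
    rw [← hπl, Scheme.Hom.comp_appTop, CommRingCat.comp_apply, CommRingCat.comp_apply]
    exact congrArg _ e
  have hab : j.appTop.hom ((fst G H).left.appTop.hom (p'.left.appTop.hom f)) =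
      j.appTop.hom (m.appTop.hom (p'.left.appTop.hom f)) := by
    have e := congrArg (fun φ => φ.appTop.hom f) hjfst
    simpa only [Scheme.Hom.comp_appTop, CommRingCat.comp_apply] using e
  obtain ⟨n, hn, hpow⟩ := exists_pow_eq eR j.appTop.hom hker h0 hab
  refine ⟨n, hn, ?_⟩
  obtain ⟨g, hg⟩ := (GrothLib.GrpdQuot.sections_of_flat p.left ⊤).2 (p'.left.appTop.hom f ^ n)
    (fun {Z} g₁ g₂ e₁ e₂ hgg => by
      have hl1 := hsqs.lift_fst g₁ g₂ hgg
      have hl2 := hsqs.lift_snd g₁ g₂ hgg
      have h1 : g₁.appLE (p.left ⁻¹ᵁ ⊤) ⊤ e₁ = g₁.appTop := (Scheme.Hom.app_eq_appLE g₁).symm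
      have h2 : g₂.appLE (p.left ⁻¹ᵁ ⊤) ⊤ e₂ = g₂.appTop := (Scheme.Hom.app_eq_appLE g₂).symm
      generalize hsqs.lift g₁ g₂ hgg = l at hl1 hl2
      subst hl1 hl2
      rw [h1, h2]
      have e3 : (fst G H).left.appTop.hom (p'.left.appTop.hom f ^ n) = m.appTop.hom (p'.left.appTop.hom f ^ n) := by
        rw [map_pow, map_pow]; exact hpow
      rw [Scheme.Hom.comp_appTop, Scheme.Hom.comp_appTop]
      exact congrArg l.appTop.hom e3)
  refine ⟨g, (GrothLib.GrpdQuot.sections_of_flat p'.left ⊤).1 ?_⟩
  show p'.left.appTop.hom (π.left.appTop.hom g) = p'.left.appTop.hom (f ^ n)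
  rw [map_pow, ← CommRingCat.comp_apply, ← Scheme.Hom.comp_appTop, hπl]
  exact hg

end



/-- Over an algebraically closed field k, let G be an algebraic group (a smooth k-group scheme of finite
type), h : H → G a closed subgroup scheme, and h' : H' → H a closed subgroup scheme of H which is
reduced with the same underlying space as H (the reduced subgroup scheme H_red; it is a subgroup of
G through h' ≫ h). Let X, with its G-action and base point, be the quotient G/H, and X' the quotient
G/H' (each locally of finite type over k, with flat surjective orbit map identifying G × H with G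
×_X G, respectively G × H' with G ×_{X'} G). Then X is affine if and only if X' is affine. (The
published statement adds the same equivalence with the identity component of H_red; that clause is
not stated here.) -/
theorem result (k : Type u) [Field k] [IsAlgClosed k]
    (G : Over (Spec (CommRingCat.of k))) [GrpObj G] [Smooth G.hom] [QuasiCompact G.hom]
    (H : Over (Spec (CommRingCat.of k))) [GrpObj H] (h : H ⟶ G) [IsMonHom h] [IsClosedImmersion h.left]
    (H' : Over (Spec (CommRingCat.of k))) [GrpObj H'] (h' : H' ⟶ H) [IsMonHom h'] [IsClosedImmersion h'.left]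
    [Surjective h'.left] [IsReduced H'.left]
    (X : Over (Spec (CommRingCat.of k))) (a : AlgGrp.Action G X) (o : 𝟙_ (Over (Spec (CommRingCat.of k))) ⟶ X)
    (hX : AGF.IsQuotient h X a o)
    (X' : Over (Spec (CommRingCat.of k))) (a' : AlgGrp.Action G X') (o' : 𝟙_ (Over (Spec (CommRingCat.of k))) ⟶ X')
    (hX' : AGF.IsQuotient (h' ≫ h) X' a' o') :
    IsAffine X.left ↔ IsAffine X'.left := by
  exact main G H h H' h' X a o hX X' a' o' hX' 

end Groth.Agent.S12540
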