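import Groth.Statements.S14586
import Groth.Agent.Lib.GrpSchField.Orbit
import Groth.Agent.Lib.GrpSchField.Field
import Mathlib.AlgebraicGeometry.AlgClosed.Basic
import Mathlib.AlgebraicGeometry.Noetherian
-- import your own Groth.Agent.* helpers here

set_option autoImplicit false
universe u
open CategoryTheory MonoidalCategory CartesianMonoidalCategory MonObj GrpObj AlgebraicGeometry CategoryTheory.Limits
open AlgGrp

namespace Groth.Agent.S14586

/-- Let k be an algebraically closed field, G a smooth k-group scheme of finite type and X a non-empty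
separated k-scheme of finite type with an action of G. Then there is a rational point x of X whose
orbit, the image of the orbit map g ↦ g · x, is closed in X. -/
theorem result (k : Type u) [Field k] [IsAlgClosed k]
    (G X : Over (Spec (CommRingCat.of k))) [GrpObj G] [Smooth G.hom] [QuasiCompact G.hom]
    [LocallyOfFiniteType X.hom] [QuasiCompact X.hom] [IsSeparated X.hom] [Nonempty ↥X.left]
    (a : AlgGrp.Action G X) :
    ∃ x : 𝟙_ (Over (Spec (CommRingCat.of k))) ⟶ X, IsClosed (Set.range ⇑(a.orbitMap x).left.base) := by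
  have := LocallyOfFiniteType.isLocallyNoetherian X.hom
  have := LocallyOfFiniteType.jacobsonSpace X.hom
  have : CompactSpace X.left := QuasiCompact.compactSpace_of_compactSpace X.hom
  have : AlgebraicGeometry.IsNoetherian X.left := {}
  have : CompactSpace G.left := QuasiCompact.compactSpace_of_compactSpace G.hom
  have := LocallyOfFiniteType.isLocallyNoetherian G.hom
  have : AlgebraicGeometry.IsNoetherian G.left := {}
  have hs : UniversallyOpen (CartesianMonoidalCategory.snd G X).left :=
    inferInstanceAs (UniversallyOpen (Limits.pullback.snd G.hom X.hom))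
  have ha : UniversallyOpen a.act.left := by
    have := GrothLib.GrpSchField.isIso_left (GrothLib.GrpSchField.shear a).hom
    rw [GrothLib.GrpSchField.act_left_eq]; infer_instance
  let sn := (CartesianMonoidalCategory.snd G X).left
  let ac := a.act.left
  obtain ⟨Z, ⟨hZne, hZst⟩, hmin⟩ := wellFounded_lt.has_min
    {Z : TopologicalSpace.Closeds X.left | (Z : Set X.left).Nonempty ∧ ac ⁻¹' Z = sn ⁻¹' Z}
    ⟨⊤, Set.univ_nonempty, by simp⟩
  obtain ⟨z, hzZ, hzc⟩ := nonempty_inter_closedPoints hZne Z.isClosed.isLocallyClosed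
  let x : 𝟙_ (Over (Spec (CommRingCat.of k))) ⟶ X :=
    Over.homMk (pointOfClosedPoint X.hom z hzc) (pointOfClosedPoint_comp X.hom z hzc)
  refine ⟨x, ?_⟩
  let R := Set.range (a.orbitMap x).left
  have hRst : ac ⁻¹' R = sn ⁻¹' R := GrothLib.GrpSchField.preimage_act_range_orbitMap a x
  have hzR : z ∈ R := by
    refine ⟨η[G].left (IsLocalRing.closedPoint k), ?_⟩
    rw [← Scheme.Hom.comp_apply, ← Over.comp_left]
    have e : η[G] ≫ a.orbitMap x = x := by
      simp [AlgGrp.Action.orbitMap, comp_lift_assoc, toUnit_unit, ← Hom.one_def,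
        GrothLib.GrpSchField.act_one]
      have h1 : η[G] = (1 : _ ⟶ G) := by rw [Hom.one_def, toUnit_unit, Category.id_comp]
      rw [h1, GrothLib.GrpSchField.act_one]
    rw [e]
    exact pointOfClosedPoint_apply X.hom z hzc _
  have hsub : R ⊆ Z := by
    rintro _ ⟨g, rfl⟩
    let w := (lift (𝟙 G) (toUnit G ≫ x)).left g
    have h1 : sn w ∈ (Z : Set X.left) := by
      have e : sn w = z := by
        show (CartesianMonoidalCategory.snd G X).left ((lift (𝟙 G) (toUnit G ≫ x)).left g) = z
        rw [← Scheme.Hom.comp_apply, ← Over.comp_left, lift_snd, Over.comp_left, Scheme.Hom.comp_apply]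
        exact pointOfClosedPoint_apply X.hom z hzc _
      rw [e]; exact hzZ
    have h2 : w ∈ ac ⁻¹' (Z : Set X.left) := by rw [hZst]; exact h1
    exact h2
  have hcl : ac ⁻¹' closure R = sn ⁻¹' closure R := by
    rw [ac.isOpenMap.preimage_closure_eq_closure_preimage ac.continuous,
      sn.isOpenMap.preimage_closure_eq_closure_preimage sn.continuous, hRst]
  have hclZ : closure R = Z := by
    refine (closure_minimal hsub Z.isClosed).antisymm fun y hy => by_contra fun hy' => ?_
    exact hmin ⟨closure R, isClosed_closure⟩ ⟨⟨z, subset_closure hzR⟩, hcl⟩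
      (lt_of_le_of_ne (closure_minimal hsub Z.isClosed) fun he => hy' (by
        rw [← SetLike.coe_set_eq] at he; exact he.ge hy))
  have hlc := GrothLib.GrpSchField.isLocallyClosed_range_orbitMap a x
  have hdc : IsClosed (closure R \ R) := by
    have : closure R \ R = closure R ∩ (coborder R)ᶜ := by
      ext y
      refine ⟨fun ⟨h1, h2⟩ => ⟨h1, fun h3 => h2 (coborder_inter_closure.subset ⟨h3, h1⟩)⟩,
        fun ⟨h1, h2⟩ => ⟨h1, fun h3 => h2 (subset_coborder h3)⟩⟩
    rw [this]
    exact isClosed_closure.inter hlc.isOpen_coborder.isClosed_compl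
  show IsClosed R
  rcases (closure R \ R).eq_empty_or_nonempty with h | h
  · rw [Set.sdiff_eq_empty] at h
    exact closure_subset_iff_isClosed.mp h
  · exfalso
    have hlt : (⟨closure R \ R, hdc⟩ : TopologicalSpace.Closeds X.left) < Z :=
      lt_of_le_of_ne (fun y hy => hclZ.subset hy.1) fun he =>
        ((he.symm ▸ hzZ : z ∈ (⟨closure R \ R, hdc⟩ : TopologicalSpace.Closeds X.left))).2 hzR
    exact hmin _ ⟨h, by
      show ac ⁻¹' (closure R \ R) = sn ⁻¹' (closure R \ R)
      rw [Set.preimage_sdiff, Set.preimage_sdiff, hcl, hRst]⟩ hlt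

end Groth.Agent.S14586
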