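import Groth.Statements.S15608
import Groth.Agent.Lib.AntiAffine.ClosedSubgrp
import Groth.Agent.Lib.SepPts.Basic
import Groth.Agent.Lib.DiagGrp.TrivOver
import Groth.Agent.Lib.GrpSchField.Pts
import Mathlib.AlgebraicGeometry.Group.Smooth
import Mathlib.AlgebraicGeometry.Morphisms.UniversallyOpen
-- import your own Groth.Agent.* helpers here

set_option autoImplicit false
universe u
open CategoryTheory MonoidalCategory CartesianMonoidalCategory MonObj GrpObj AlgebraicGeometry
open AlgGrp

open Limits GrothLib MonObj

namespace Groth.Agent.S15608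

/-- Let k be a field, G a smooth k-group scheme of finite type and Σ a subgroup of the abstract group
G(k) of k-rational points. Then the Zariski closure of Σ in G, with its reduced structure, is a
smooth closed k-subgroup: there are a smooth k-group scheme H and a homomorphism H ⟶ G which is a
closed immersion whose image is the closure of the set of points of G underlying the elements of Σ.
(The published statement also asserts that forming this closure commutes with extension of the
ground field; that clause is not stated here, its affine form being stated separately.) -/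
theorem result (k : Type u) [Field k]
    (G : Over (Spec (CommRingCat.of k))) [GrpObj G] [Smooth G.hom] [QuasiCompact G.hom]
    (S : Subgroup (𝟙_ (Over (Spec (CommRingCat.of k))) ⟶ G)) :
    ∃ (H : Over (Spec (CommRingCat.of k))) (_ : GrpObj H) (i : H ⟶ G), IsMonHom i ∧ IsClosedImmersion i.left ∧ Smooth H.hom ∧
      Set.range i.left.base =
        closure ((fun s : (𝟙_ (Over (Spec (CommRingCat.of k))) ⟶ G) => s.left.base (IsLocalRing.closedPoint k)) '' (S : Set _)) := by
  let C : TopologicalSpace.Closeds G.left :=
    ⟨closure ((fun s : (𝟙_ (Over (Spec (CommRingCat.of k))) ⟶ G) => s.left.base (IsLocalRing.closedPoint k)) '' (S : Set _)),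
      isClosed_closure⟩
  let I := Scheme.IdealSheafData.vanishingIdeal C
  have hIred : IsReduced I.subscheme := RedSub.isReduced_subscheme_vanishingIdeal _
  let H : Over (Spec (CommRingCat.of k)) := Over.mk (I.subschemeι ≫ G.hom)
  have : IsReduced H.left := hIred
  let i : H ⟶ G := Over.homMk I.subschemeι rfl
  have hci : IsClosedImmersion i.left := inferInstanceAs (IsClosedImmersion I.subschemeι)
  have : Mono i := Over.mono_of_mono_left i
  have hrange : Set.range i.left = (C : Set G.left) := RedSub.range_subschemeι_vanishingIdeal _
  have hlft : LocallyOfFiniteType H.hom := inferInstanceAs (LocallyOfFiniteType (I.subschemeι ≫ G.hom))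
  have : IsReduced (𝟙_ (Over (Spec (CommRingCat.of k)))).left :=
    inferInstanceAs (IsReduced (Spec (CommRingCat.of k)))
  have hpt : ∀ s ∈ S, ∃ x : 𝟙_ _ ⟶ H, x ≫ i = s := fun s hs => by
    refine GrothLib.AntiAffine.exists_factor_of_dense s i (A := Set.univ) dense_univ fun a _ => ?_
    rw [hrange]
    refine subset_closure ⟨s, hs, ?_⟩
    rw [Subsingleton.elim (α := PrimeSpectrum k) a (IsLocalRing.closedPoint k)]
  let A : Set H.left :=
    (fun x : (𝟙_ (Over (Spec (CommRingCat.of k))) ⟶ H) => x.left.base (IsLocalRing.closedPoint k)) '' {x | x ≫ i ∈ S}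
  have hA : Dense A := fun y => by
    rw [i.left.isClosedEmbedding.isEmbedding.closure_eq_preimage_closure_image, Set.mem_preimage]
    have hy : i.left y ∈ (C : Set G.left) := hrange ▸ ⟨y, rfl⟩
    refine closure_mono ?_ hy
    rintro _ ⟨s, hs, rfl⟩
    obtain ⟨x, rfl⟩ := hpt s hs
    exact ⟨_, ⟨x, hs, rfl⟩, rfl⟩
  have hgr : GeometricallyReduced H.hom := by
    refine GrothLib.SepPts.geometricallyReduced_of_dense H.hom hA ?_
    rintro _ ⟨x, _, rfl⟩
    have : Algebra.IsGeometricallyReduced k k := (Algebra.isGeometricallyReduced_field_iff k k).mpr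
      (isReduced_of_injective (Algebra.TensorProduct.rid k k (AlgebraicClosure k)) (AlgEquiv.injective _))
    exact ⟨k, inferInstance, Algebra.id k, this, x.left, by
      rw [Algebra.algebraMap_self]; exact (Over.w x).trans (Spec.map_id _).symm, ⟨_, rfl⟩⟩
  have : Flat H.hom := GrothLib.DiagGrp.flat_of_field _
  have hln : IsLocallyNoetherian H.left := LocallyOfFiniteType.isLocallyNoetherian H.hom
  have : IsReduced (H ⊗ H).left := inferInstanceAs (IsReduced (pullback H.hom H.hom))
  have hfst : IsOpenMap (fst H H).left := by
    have : LocallyOfFinitePresentation H.hom := GrothLib.GrpSchField.lfp_of_isLocallyNoetherian _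
    have : UniversallyOpen H.hom := inferInstance
    exact (pullback.fst H.hom H.hom).isOpenMap
  obtain ⟨grp, hmon⟩ := GrothLib.AntiAffine.exists_grpObj_of_factor i
    (hpt η[G] (by rw [MonObj.one_eq_one]; exact S.one_mem))
    (by
      refine GrothLib.AntiAffine.exists_factor_of_dense _ i
        (A := ⋃ x ∈ {x | x ≫ i ∈ S}, (lift (toUnit H ≫ x) (𝟙 H)).left '' A) ?_ ?_
      · rw [dense_iff_inter_open]
        rintro U hU ⟨z, hz⟩
        obtain ⟨_, ⟨x, hx, rfl⟩, w, hw, hwx⟩ :=
          (dense_iff_inter_open.mp hA) _ (hfst U hU) ⟨_, z, hz, rfl⟩ |>.imp fun _ h => And.symm h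
        have hw' : w ∈ Set.range (lift (toUnit H ≫ x) (𝟙 H)).left := by
          let s₀ : ↥(pullback (fst H H).left x.left) :=
            (Scheme.Pullback.exists_preimage_pullback (f := (fst H H).left) (g := x.left) w (IsLocalRing.closedPoint k) hwx).choose
          have hs₀ : pullback.fst (fst H H).left x.left s₀ = w :=
            (Scheme.Pullback.exists_preimage_pullback (f := (fst H H).left) (g := x.left) w (IsLocalRing.closedPoint k) hwx).choose_spec.1
          refine ⟨(snd H H).left w, ?_⟩
          let W : Over (Spec (CommRingCat.of k)) :=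
            Over.mk (pullback.fst (fst H H).left x.left ≫ (H ⊗ H).hom)
          let pw : W ⟶ H ⊗ H := Over.homMk (pullback.fst (fst H H).left x.left) rfl
          have e : pw ≫ fst H H = toUnit W ≫ x := by
            ext1
            show pullback.fst (fst H H).left x.left ≫ (fst H H).left = _
            rw [pullback.condition, Over.comp_left]
            congr 1
            have hx1 := Over.w x
            have h1 := Over.w (fst H H)
            have h2 := Over.w (toUnit W)
            simp only [Over.tensorUnit_hom, Category.comp_id] at h2 hx1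
            have h3 : (toUnit W).left = W.hom := h2
            rw [h3]
            show _ = pullback.fst (fst H H).left x.left ≫ (H ⊗ H).hom
            rw [← h1, pullback.condition_assoc, hx1]; exact (Category.comp_id _).symm
          have : pw ≫ snd H H ≫ lift (toUnit H ≫ x) (𝟙 H) = pw := by
            apply CartesianMonoidalCategory.hom_ext
            · simp only [Category.assoc, lift_fst, e]
              rw [← Category.assoc, ← Category.assoc, Subsingleton.elim ((pw ≫ snd H H) ≫ toUnit H) (toUnit W)]
            · simp only [Category.assoc, lift_snd, Category.comp_id]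
          rw [← hs₀]
          exact congr(($this).left s₀)
        obtain ⟨v, rfl⟩ := hw'
        obtain ⟨a, ha, haU⟩ := (dense_iff_inter_open.mp hA) _
          (hU.preimage (lift (toUnit H ≫ x) (𝟙 H)).left.continuous) ⟨v, hw⟩ |>.imp fun _ h => And.symm h
        exact ⟨_, haU, Set.mem_biUnion hx ⟨a, ha, rfl⟩⟩
      · intro a ha
        simp only [Set.mem_iUnion, Set.mem_image] at ha
        obtain ⟨x, hx, _, ⟨y, hy, rfl⟩, rfl⟩ := ha
        obtain ⟨z, hz⟩ := hpt _ (S.mul_mem hx hy)
        refine ⟨z.left (IsLocalRing.closedPoint k), ?_⟩
        have e : y ≫ lift (toUnit H ≫ x) (𝟙 H) ≫ ((fst H H ≫ i) * (snd H H ≫ i)) = z ≫ i := by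
          simp only [MonObj.comp_mul, lift_fst_assoc, lift_snd_assoc, Category.id_comp, Category.assoc, hz]
          rw [← Category.assoc y (toUnit H), Subsingleton.elim (y ≫ toUnit H) (toUnit (𝟙_ _)),
            toUnit_unit, Category.id_comp]
        exact congr(($e.symm).left (IsLocalRing.closedPoint k)))
    (by
      refine GrothLib.AntiAffine.exists_factor_of_dense _ i hA ?_
      rintro _ ⟨x, hx, rfl⟩
      obtain ⟨z, hz⟩ := hpt _ (S.inv_mem hx)
      refine ⟨z.left (IsLocalRing.closedPoint k), ?_⟩
      rw [← GrpObj.comp_inv] at hz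
      exact congr(($hz).left (IsLocalRing.closedPoint k)))
  have : GeometricallyReduced H.hom := hgr
  let : GrpObj (Over.mk H.hom) := grp
  exact ⟨H, grp, i, hmon, hci, AlgebraicGeometry.smooth_of_grpObj H.hom, hrange⟩


end Groth.Agent.S15608
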