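import Groth.Statements.S18834
import Groth.Agent.Lib.Comod.Reynolds

set_option autoImplicit false
universe u
open TensorProduct
open GIT

namespace Groth.Agent.S18834

theorem isComodHom_mulLeft (k : Type u) [CommRing k] (A : Type u) [CommRing A] [Bialgebra k A]
    (R : Type u) [CommRing R] [Algebra k R] [HopfRep.Comod k A R] [GLin.IsCoactAlg k A R]
    {a : R} (ha : a ∈ GLin.invariants k A R) : Hoch.IsComodHom A (LinearMap.mulLeft k a) := by
  refine LinearMap.ext fun x => ?_
  rw [LinearMap.comp_apply, LinearMap.comp_apply, LinearMap.mulLeft_apply, GLin.IsCoactAlg.coact_mul,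
    (GLin.mem_invariants_iff k A R a).1 ha]
  induction HopfRep.Comod.coact (k := k) (A := A) x using TensorProduct.induction_on with
  | zero => simp
  | tmul p q => simp [Algebra.TensorProduct.tmul_mul_tmul]
  | add p q hp hq => rw [mul_add, hp, hq, map_add]

/-- Let k be an algebraically closed field of characteristic zero, G = Spec A a linearly reductive
affine group over k (A a commutative Hopf algebra whose finite-dimensional comodules are semisimple)
acting on an affine k-scheme Spec R of finite type (a multiplicative coaction of A on R), and R^G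
the ring of invariants. Then for every ideal I of R^G the ideal I·R of R generated by I satisfies
(I·R) ∩ R^G = I. (The section also assumes Spec R irreducible; that hypothesis plays no role here
and is not carried.) -/
theorem result (k : Type u) [Field k] [IsAlgClosed k] [CharZero k]
    (A : Type u) [CommRing A] [HopfAlgebra k A] (hG : HopfRep.IsLinearlyReductive k A)
    (R : Type u) [CommRing R] [Algebra k R] [Algebra.FiniteType k R]
    [HopfRep.Comod k A R] [GLin.IsCoactAlg k A R]
    (I : Ideal (GLin.invariants k A R)) :
    Ideal.comap (GLin.invariants k A R).val.toRingHom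
        (Ideal.map (GLin.invariants k A R).val.toRingHom I) = I := by
  refine le_antisymm ?_ Ideal.le_comap_map
  have key : ∀ x : R, x ∈ Ideal.span ((GLin.invariants k A R).val.toRingHom '' I) →
      ∀ r : R, ∃ g ∈ I, (g : R) = GrothLib.Comodule.Reynolds.reynolds hG (r * x) := by
    intro x hx
    induction hx using Submodule.span_induction with
    | mem x hx =>
      obtain ⟨g, hg, rfl⟩ := hx
      intro r
      refine ⟨⟨_, GrothLib.Comodule.Reynolds.reynolds_mem hG r⟩ * g, I.mul_mem_left _ hg, ?_⟩
      have h := GrothLib.Comodule.Reynolds.reynolds_comm hG (isComodHom_mulLeft k A R g.2) r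
      rw [LinearMap.mulLeft_apply, LinearMap.mulLeft_apply] at h
      change _ = GrothLib.Comodule.Reynolds.reynolds hG (r * (g : R))
      rw [mul_comm r, h, mul_comm]
      rfl
    | zero => exact fun r => ⟨0, I.zero_mem, by simp⟩
    | add x y _ _ hx hy =>
      intro r
      obtain ⟨g, hg, hgx⟩ := hx r
      obtain ⟨g', hg', hgy⟩ := hy r
      exact ⟨g + g', I.add_mem hg hg', by rw [mul_add, map_add, ← hgx, ← hgy]; rfl⟩
    | smul s x _ ih =>
      intro r
      rw [smul_eq_mul, ← mul_assoc]
      exact ih (r * s)
  intro f hf
  obtain ⟨g, hg, hgf⟩ := key _ hf 1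
  rw [one_mul] at hgf
  have : g = f := Subtype.ext (hgf.trans (GrothLib.Comodule.Reynolds.reynolds_fixed hG f.2))
  exact this ▸ hg

end Groth.Agent.S18834
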