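import Groth.Statements.S11179
import Mathlib.CategoryTheory.Abelian.Projective.Ext
import Mathlib.Algebra.Category.ModuleCat.Projective
import Mathlib.Algebra.Homology.DerivedCategory.TStructure
import Mathlib.Algebra.Homology.DerivedCategory.FullyFaithful
import Mathlib.Algebra.Homology.DerivedCategory.Linear
import Mathlib.CategoryTheory.Abelian.Injective.Dimension
import Mathlib.Algebra.Homology.SingleHomology

set_option autoImplicit false
universe u
open CategoryTheory
attribute [local instance] HasDerivedCategory.standard
open Goren

namespace Groth.Agent.S11179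

/-- A Noetherian local ring A is Gorenstein (A has finite injective dimension as a module over itself)
if and only if the complex A[0] is a dualizing complex for A (finite injective dimension expressed
by vanishing of maps M[0] → A[i] in D(A) outside a bounded range, finite cohomology, A → End(A[0])
bijective and no self-maps of nonzero degree). -/
theorem result (A : Type u) [CommRing A] [IsLocalRing A] [IsNoetherianRing A] : LocCoh.IsGorensteinLocalRing A ↔ Dual.IsDualizing A (Dual.inD A A) := by
    letI := CategoryTheory.HasExt.standard (ModuleCat.{u} A)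
    have hneg : ∀ (M : Type u) [AddCommGroup M] [Module A M] (i : ℤ), i < 0 →
        Subsingleton (Dual.inD A M ⟶ (Dual.inD A A)⟦i⟧) := by
      intro M _ _ i hi
      refine ⟨fun f g => ?_⟩
      have h1 : DerivedCategory.TStructure.t.IsLE (Dual.inD A M) 0 := inferInstanceAs ((Dual.inD A M).IsLE 0)
      have h2 : DerivedCategory.TStructure.t.IsGE ((Dual.inD A A)⟦i⟧) (-i) := by
        haveI : DerivedCategory.TStructure.t.IsGE (Dual.inD A A) 0 := inferInstanceAs ((Dual.inD A A).IsGE 0)
        exact DerivedCategory.TStructure.t.isGE_shift _ 0 i (-i) (by omega)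
      have hz := fun φ : Dual.inD A M ⟶ (Dual.inD A A)⟦i⟧ =>
        DerivedCategory.TStructure.t.zero_of_isLE_of_isGE φ 0 (-i) (by omega) h1 h2
      exact (hz f).trans (hz g).symm
    constructor
    · intro hG
      obtain ⟨n, hn⟩ := hG.exists_hasInjectiveDimensionLT
      refine ⟨inferInstance, ⟨0, n, ?_⟩, ?_, ?_, ?_⟩
      · intro M _ _ i hi
        rcases hi with hi | hi
        · exact hneg M i hi
        · obtain ⟨k, rfl⟩ := Int.eq_ofNat_of_zero_le (show 0 ≤ i by omega)
          haveI : Subsingleton (Abelian.Ext (ModuleCat.of A M) (ModuleCat.of A A) k) :=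
            HasInjectiveDimensionLT.subsingleton (ModuleCat.of A A) n k (by omega) _
          exact Abelian.Ext.homEquiv.symm.subsingleton
      · intro i
        by_cases hi : i = 0
        · subst hi
          haveI : Module.Finite A ↑((𝟭 (ModuleCat.{u} A)).obj (ModuleCat.of A A)) := inferInstanceAs (Module.Finite A A)
          exact Module.Finite.equiv
            ((DerivedCategory.singleFunctorCompHomologyFunctorIso (ModuleCat.{u} A) 0).app
              (ModuleCat.of A A)).toLinearEquiv.symm
        · have hz : Limits.IsZero ((DerivedCategory.homologyFunctor (ModuleCat.{u} A) i).obj (Dual.inD A A)) := by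
            rcases lt_or_gt_of_ne hi with h | h
            · exact DerivedCategory.isZero_of_isGE _ 0 i h
            · exact DerivedCategory.isZero_of_isLE _ 0 i h
          haveI := ModuleCat.subsingleton_of_isZero hz
          exact Module.Finite.of_finite
      · let F := DerivedCategory.singleFunctor (ModuleCat.{u} A) 0
        constructor
        · intro a b hab
          have h : F.map (a • 𝟙 (ModuleCat.of A A)) = F.map (b • 𝟙 (ModuleCat.of A A)) := by
            rw [F.map_smul, F.map_smul, F.map_id]
            exact hab
          simpa using LinearMap.congr_fun (congrArg ModuleCat.Hom.hom (F.map_injective h)) (1 : A)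
        · intro φ
          obtain ⟨f, rfl⟩ := F.map_surjective φ
          refine ⟨f.hom (1 : A), ?_⟩
          have hf : f = (f.hom (1 : A)) • 𝟙 (ModuleCat.of A A) :=
            ModuleCat.hom_ext (LinearMap.ext_ring (show f.hom (1 : A) = (f.hom (1 : A)) * 1 from (mul_one _).symm))
          exact ((congrArg F.map hf).trans ((F.map_smul _ _).trans (congrArg _ (F.map_id _)))).symm
      · intro i hi
        rcases lt_or_gt_of_ne hi with h | h
        · exact hneg A i h
        · obtain ⟨k, rfl⟩ := Int.eq_ofNat_of_zero_le (show 0 ≤ i by omega)
          obtain ⟨j, rfl⟩ : ∃ j, k = j + 1 := ⟨k - 1, by omega⟩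
          haveI : Projective (ModuleCat.of A A) := (IsProjective.iff_projective (R := A) A).1 inferInstance
          haveI : Subsingleton (Abelian.Ext (ModuleCat.of A A) (ModuleCat.of A A) (j + 1)) :=
            subsingleton_of_forall_eq 0 fun e => Abelian.Ext.eq_zero_of_projective e
          exact Abelian.Ext.homEquiv.symm.subsingleton
    · intro h
      obtain ⟨a, b, hb⟩ := h.finite_injective_dimension
      refine { exists_hasInjectiveDimensionLT := ⟨b.toNat + 1, HasInjectiveDimensionLT.mk fun i hi Y e => ?_⟩ }
      haveI := hb Y (i : ℤ) (Or.inr (by omega))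
      exact Abelian.Ext.homEquiv.injective
        (Subsingleton.elim (α := Dual.inD A Y ⟶ (Dual.inD A A)⟦(i : ℤ)⟧) _ _)

end Groth.Agent.S11179
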