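import Groth.Statements.S2141
import Groth.Agent.Lib.LocalDimAlg.Basic
-- import your own Groth.Agent.* helpers here

set_option autoImplicit false
universe u
open CAlg

namespace Groth.Agent.S2141

/-- Let `S` be of finite type over a field `k` and `𝔭` a prime of `S` whose residue field has
transcendence degree `r` over `k`. Then the local dimension of `Spec S` at `𝔭` equals `dim S_𝔭 + r`. -/
theorem result {k S : Type u} [Field k] [CommRing S] [Algebra k S] [Algebra.FiniteType k S]
    (p : Ideal S) [p.IsPrime] (r : ℕ) (hr : Algebra.trdeg k p.ResidueField = r) :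
    FlatMor.localDim (PrimeSpectrum S) ⟨p, inferInstance⟩ = ringKrullDim (Localization.AtPrime p) + (r : WithBot ℕ∞) := by
  obtain ⟨n, hn, hn'⟩ := GrothLib.Dim.exists_nat_trdeg_eq_and_ringKrullDim_eq k (S ⧸ p)
  have : Algebra.IsAlgebraic (S ⧸ p) p.ResidueField := IsLocalization.isAlgebraic _ (nonZeroDivisors (S ⧸ p))
  have h2 := trdeg_add_eq k (S ⧸ p) (A := p.ResidueField)
  rw [hn, trdeg_eq_zero (R := S ⧸ p) (A := p.ResidueField), add_zero, hr] at h2
  have hnr : n = r := by exact_mod_cast h2
  rw [GrothLib.LocalDimAlg.localDim_eq k p, hn', IsLocalization.AtPrime.ringKrullDim_eq_height p, hnr]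

end Groth.Agent.S2141
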