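import Groth.Statements.S1760
import Groth.Agent.Lib.GorFlat.Fields

set_option autoImplicit false
universe u
open scoped TensorProduct
open Goren

namespace Groth.Agent.S1760

/-- First assertion, written for the local ring B = O_{X,x}. Let k'/k be a finitely generated field
extension, B a Noetherian local k-algebra, and q a prime of B ⊗_k k' lying over the maximal ideal of
B. Then B is Gorenstein if and only if the localization of B ⊗_k k' at q is Gorenstein. -/
theorem result (k k' : Type u) [Field k] [Field k'] [Algebra k k'] (hfg : ∃ s : Finset k', IntermediateField.adjoin k (s : Set k') = ⊤) (B : Type u) [CommRing B] [IsLocalRing B] [IsNoetherianRing B] [Algebra k B] (q : PrimeSpectrum (B ⊗[k] k')) (hq : q.asIdeal.comap (algebraMap B (B ⊗[k] k')) = IsLocalRing.maximalIdeal B) : LocCoh.IsGorensteinLocalRing B ↔ LocCoh.IsGorensteinLocalRing (Localization.AtPrime q.asIdeal) := by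
  haveI := GrothLib.GorFlat.isNoetherianRing_tensor_of_fg k k' B hfg
  rw [GrothLib.GorFlat.gorenstein_atPrime_baseChange_iff k k' B q.asIdeal
    (GrothLib.GorFlat.isGorensteinRing_tensor_of_fg k _ k' hfg)]
  have key : ∀ (m : Ideal B) [m.IsPrime], m = IsLocalRing.maximalIdeal B →
      (LocCoh.IsGorensteinLocalRing B ↔ LocCoh.IsGorensteinLocalRing (Localization.AtPrime m)) := by
    intro m _ hm
    subst hm
    refine GrothLib.GorFlat.gorenstein_congr
      (IsLocalization.atUnits B (IsLocalRing.maximalIdeal B).primeCompl (S := Localization.AtPrime (IsLocalRing.maximalIdeal B)) ?_).toRingEquiv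
    intro x hx
    exact IsLocalRing.notMem_maximalIdeal.1 hx
  exact key _ hq

end Groth.Agent.S1760
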