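import Groth.Statements.S9684
-- import your own Groth.Agent.* helpers here
import Groth.Agent.Lib.Altitude.Scheme

set_option autoImplicit false
universe u
open CategoryTheory CategoryTheory.Limits AlgebraicGeometry
open Cyc

namespace Groth.Agent.S9684

/-- Let S be a locally Noetherian scheme whose local rings are universally catenary, δ a dimension
function on S, and f : X ⟶ S locally of finite type. Then the function δ_X(x) = δ(f x) + trdeg_{κ(f
x)} κ(x) is a dimension function on X. -/
theorem result {X S : Scheme.{u}} (f : X ⟶ S)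
    [LocallyOfFiniteType f] (δ : ↥S → ℤ) (hS : Cyc.IsSetup S δ) (δX : ↥X → ℤ)
    (hδ : Cyc.DeltaCompat f δX δ) : Cyc.IsDimFun X δX := by
  intro x y hxy hne
  obtain ⟨hdim, hle⟩ := GrothLib.Altitude.isDimFun_of_deltaCompat f hS hδ hxy
  set P := PrimeSpectrum.comap (X.presheaf.stalkSpecializes hxy).hom
    (IsLocalRing.closedPoint (X.presheaf.stalk x)) with hP
  have hPx : X.fromSpecStalk y P = x := GrothLib.CycBasic.fromSpecStalk_comap_closedPoint hxy
  have hco : Order.coheight P = ((δX x - δX y).toNat : ℕ∞) := by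
    apply WithBot.coe_injective
    rw [← GrothLib.AffDom.ringKrullDim_quotient_eq_coheight]
    refine (ringKrullDim_eq_of_ringEquiv (Ideal.quotEquivOfEq (GrothLib.CycBasic.ker_specMap hxy))).symm.trans ?_
    exact hdim
  let M : PrimeSpectrum (X.presheaf.stalk y) := IsLocalRing.closedPoint _
  have hM : X.fromSpecStalk y M = y := Scheme.fromSpecStalk_closedPoint
  have hPM : P < M := lt_of_le_of_ne (IsLocalRing.le_maximalIdeal P.2.ne_top) fun e => hne (by
    rw [← hPx, e, hM])
  have hpos : 1 ≤ Order.coheight P := le_trans le_add_self (Order.coheight_add_one_le hPM)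
  rw [hco] at hpos
  have h1 : 1 ≤ (δX x - δX y).toNat := by exact_mod_cast hpos
  refine ⟨by omega, fun himm => ?_⟩
  have hle1 : Order.coheight P ≤ ((1 : ℕ) : ℕ∞) := by
    refine Order.coheight_le_coe_iff.2 fun Q hQ => ?_
    rcases himm (X.fromSpecStalk y Q) (hPx ▸ GrothLib.CycBasic.le_iff_specializes.1 hQ.le)
      (GrothLib.CycBasic.specializes_fromSpecStalk Q) with h | h
    · exact absurd ((X.fromSpecStalk y).isEmbedding.injective (h.trans hPx.symm)) hQ.ne'
    · obtain rfl : Q = M := (X.fromSpecStalk y).isEmbedding.injective (h.trans hM.symm)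
      rw [Order.coheight_eq_zero.2 fun (R : PrimeSpectrum (X.presheaf.stalk y)) hR => (IsLocalRing.le_maximalIdeal R.2.ne_top : R.asIdeal ≤ _)]
      exact_mod_cast Nat.zero_lt_one
  rw [hco] at hle1
  have h2 : (δX x - δX y).toNat ≤ 1 := by exact_mod_cast hle1
  omega

end Groth.Agent.S9684
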