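import Groth.Statements.S9987
import Groth.Agent.Lib.AlgSp.Space
import Mathlib.AlgebraicGeometry.Morphisms.ClosedImmersion
-- import your own Groth.Agent.* helpers here

set_option autoImplicit false
universe u
open CategoryTheory CategoryTheory.Limits AlgebraicGeometry Opposite
open AlgSp

namespace Groth.Agent.S9987

/-- For a closed immersion i : Z ⟶ X of algebraic spaces over S (representable, every base change to a
scheme a closed immersion), the comparison map O_X ⟶ i_* O_Z of sheaves of rings on the small etale
site of X is locally surjective. (The published statement also asserts that i_* O_Z is a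
quasi-coherent O_X-module and that the kernel of O_X ⟶ i_* O_Z is a quasi-coherent sheaf of ideals;
those two assertions are the closed-immersion cases of the general facts that direct images along
quasi-compact quasi-separated morphisms preserve quasi-coherence and that the kernel ideal of a
quasi-compact morphism is quasi-coherent, a closed immersion being quasi-compact and separated, and
only the surjectivity is stated here.) -/
theorem result {S : Scheme.{u}} {Z X : AlgSp.Space S} (i : Z ⟶ X)
    (hi : AlgSp.RepWith @IsClosedImmersion i.hom) :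
    Presheaf.IsLocallySurjective (AlgSp.etTop X.obj) (AlgSp.bcRingHom hi.1).hom := by
  refine ⟨fun {U} s => ?_⟩
  have hcov : ∀ x : ↥U.obj.left.left, ∃ O : U.obj.left.left.Opens, IsAffineOpen O ∧ x ∈ O := fun x => by
    obtain ⟨O, hO, hx, -⟩ := exists_isAffineOpen_mem_and_subset (x := x) (U := (⊤ : U.obj.left.left.Opens)) trivial
    exact ⟨O, hO, hx⟩
  choose O hO hxO using hcov
  let q : ∀ x, Over.mk ((O x).ι ≫ U.obj.left.hom) ⟶ U.obj.left := fun x => Over.homMk (O x).ι rfl
  let E : ↥U.obj.left.left → AlgSp.EtOver X.obj := fun x => AlgSp.EtOver.mk ((AlgSp.yon S).map (q x) ≫ U.obj.hom)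
    (GrothLib.AlgSp.repWith_comp ((AlgSp.repWith_yon_map_iff _ _).2 (show Etale (O x).ι from inferInstance)) U.property)
  let g : ∀ x, E x ⟶ U := fun x => AlgSp.EtOver.homMk (q x) rfl
  refine GrothendieckTopology.superset_covering _ ?_ (AlgSp.ofArrows_mem_etTop E g fun x => ⟨x, ⟨x, hxO x⟩, rfl⟩)
  rw [Sieve.generate_le_iff]
  rintro _ _ ⟨x⟩
  haveI : IsAffine (E x).obj.left.left := hO x
  haveI : IsClosedImmersion (hi.1.snd (E x).obj.hom).left := hi.2 _ _ _ (hi.1.isPullback (E x).obj.hom)
  obtain ⟨-, hsurj⟩ := IsClosedImmersion.isAffine_surjective_of_isAffine (hi.1.snd (E x).obj.hom).left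
  let t : ↥((AlgSp.OEtRing Z.obj).obj.obj (Opposite.op ((AlgSp.EtOver.bc hi.1).obj (E x)))) :=
    (AlgSp.OEtRing Z.obj).obj.map (AlgSp.EtOver.bcMap hi.1 (g x)).op s
  obtain ⟨r, hr⟩ := hsurj t.down
  exact ⟨ULift.up r, ULift.ext _ _ hr⟩
end Groth.Agent.S9987
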