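import Groth.Statements.S1608
import Groth.Agent.Lib.Altitude.Basic
import Mathlib.RingTheory.ZariskisMainTheorem

set_option autoImplicit false
universe u
open CategoryTheory CategoryTheory.Limits AlgebraicGeometry
open Variety

open TensorProduct

namespace Groth.Agent.S1608

open TensorProduct in
lemma eq_of_le_over_max {A B : Type u} [CommRing A] [IsNoetherianRing A] [IsLocalRing A] [CommRing B]
    [Algebra A B] [Algebra.FiniteType A B] (hA : ringKrullDim A ≤ 1)
    (hmin : ∀ (Q : Ideal B) [Q.IsPrime], Q ∈ minimalPrimes B → Algebra.QuasiFiniteAt A Q)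
    (P₁ P₂ : Ideal B) [P₁.IsPrime] [P₂.IsPrime] (hle : P₁ ≤ P₂)
    (h₁ : P₁.under A = IsLocalRing.maximalIdeal A) (h₂ : P₂.under A = IsLocalRing.maximalIdeal A) :
    P₁ = P₂ := by
  by_contra hne
  obtain ⟨Q, hQmin, hQle⟩ := Ideal.exists_minimalPrimes_le (show (⊥ : Ideal B) ≤ P₁ from bot_le)
  haveI : Q.IsPrime := hQmin.isPrime
  haveI := hmin Q hQmin
  let q : Ideal A := Q.under A
  haveI : Q.LiesOver q := ⟨rfl⟩
  letI := Localization.AtPrime.algebraOfLiesOver q Q
  haveI : Module.Finite q.ResidueField Q.ResidueField := inferInstance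
  haveI : Algebra.FiniteType (A ⧸ q) (B ⧸ Q) :=
    Algebra.FiniteType.of_restrictScalars_finiteType A (A ⧸ q) (B ⧸ Q)
  haveI : Algebra.IsAlgebraic (A ⧸ q) q.ResidueField :=
    IsLocalization.isAlgebraic q.ResidueField (nonZeroDivisors (A ⧸ q))
  haveI : Algebra.IsAlgebraic (A ⧸ q) (B ⧸ Q) := by
    letI : Algebra (A ⧸ q) Q.ResidueField :=
      ((algebraMap (B ⧸ Q) Q.ResidueField).comp (algebraMap (A ⧸ q) (B ⧸ Q))).toAlgebra
    haveI : IsScalarTower (A ⧸ q) (B ⧸ Q) Q.ResidueField := IsScalarTower.of_algebraMap_eq fun a => rfl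
    haveI : IsScalarTower (A ⧸ q) q.ResidueField Q.ResidueField := IsScalarTower.of_algebraMap_eq (Quotient.ind' fun a => by
      exact (IsScalarTower.algebraMap_apply A B Q.ResidueField a).symm.trans (IsScalarTower.algebraMap_apply A q.ResidueField Q.ResidueField a))
    haveI : Algebra.IsAlgebraic (A ⧸ q) Q.ResidueField := Algebra.IsAlgebraic.trans _ q.ResidueField _
    exact Algebra.IsAlgebraic.of_injective (IsScalarTower.toAlgHom (A ⧸ q) (B ⧸ Q) Q.ResidueField)
      (IsFractionRing.injective (B ⧸ Q) Q.ResidueField)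
  haveI : FaithfulSMul (A ⧸ q) (B ⧸ Q) := inferInstance
  have htr : Algebra.trdeg (A ⧸ q) (B ⧸ Q) = 0 := trdeg_eq_zero
  let p : Ideal (A ⧸ q) := (IsLocalRing.maximalIdeal A).map (Ideal.Quotient.mk q)
  have hqm : q ≤ IsLocalRing.maximalIdeal A := IsLocalRing.le_maximalIdeal_of_isPrime q
  haveI hp : p.IsPrime := Ideal.isPrime_map_quotientMk_of_isPrime hqm
  let P' : Ideal (B ⧸ Q) := P₂.map (Ideal.Quotient.mk Q)
  haveI : P'.IsPrime := Ideal.isPrime_map_quotientMk_of_isPrime (hQle.trans hle)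
  let P1' : Ideal (B ⧸ Q) := P₁.map (Ideal.Quotient.mk Q)
  haveI : P1'.IsPrime := Ideal.isPrime_map_quotientMk_of_isPrime hQle
  have hover : ∀ (R : Ideal B), R.IsPrime → Q ≤ R → R.under A = IsLocalRing.maximalIdeal A →
      (R.map (Ideal.Quotient.mk Q)).under (A ⧸ q) = p := by
    intro R _ hQR hR
    refine Ideal.comap_injective_of_surjective (Ideal.Quotient.mk q) Ideal.Quotient.mk_surjective ?_
    have hc : (p.comap (Ideal.Quotient.mk q)) = IsLocalRing.maximalIdeal A := by
      rw [Ideal.comap_map_of_surjective _ Ideal.Quotient.mk_surjective, ← RingHom.ker_eq_comap_bot,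
        Ideal.mk_ker, sup_eq_left.2 hqm]
    rw [hc, ← hR]
    ext a
    simp only [Ideal.mem_comap]
    show Ideal.Quotient.mk Q (algebraMap A B a) ∈ _ ↔ _
    rw [Ideal.mem_quotient_iff_mem hQR]
  haveI : P'.LiesOver p := ⟨(hover P₂ inferInstance (hQle.trans hle) h₂).symm⟩
  obtain ⟨t, s, ht, -, hineq, -⟩ := GrothLib.Altitude.height_add_trdeg (A ⧸ q) (B ⧸ Q) p P'
  rw [htr] at ht
  have ht0 : t = 0 := by exact_mod_cast ht.symm
  subst ht0
  have h12 : P1' < P' := by
    refine lt_of_le_of_ne (Ideal.map_mono hle) fun h => hne ?_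
    have := congrArg (Ideal.comap (Ideal.Quotient.mk Q)) h
    simpa [P1', P', Ideal.comap_map_of_surjective _ Ideal.Quotient.mk_surjective,
      ← RingHom.ker_eq_comap_bot, sup_eq_left.2 hQle, sup_eq_left.2 (hQle.trans hle)] using this
  haveI : IsNoetherianRing B := Algebra.FiniteType.isNoetherianRing A B
  have hfin : P'.height ≠ ⊤ := Ideal.height_ne_top (Ideal.IsPrime.ne_top')
  have hht : P1'.height + 1 ≤ P'.height := Order.add_one_le_of_lt
    (Ideal.height_strict_mono_of_isPrime_of_isPrime h12)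
  have hle' : P'.height ≤ p.height := (le_trans le_self_add hineq).trans (by simp)
  by_cases hq : q = IsLocalRing.maximalIdeal A
  · have hp0 : p = ⊥ := by
      rw [eq_bot_iff]; intro a ha
      obtain ⟨a, rfl⟩ := Ideal.Quotient.mk_surjective a
      rw [Submodule.mem_bot, Ideal.Quotient.eq_zero_iff_mem, hq]
      rwa [Ideal.mem_quotient_iff_mem hqm] at ha
    rw [hp0, Ideal.height_bot] at hle'
    have := (le_add_self.trans hht).trans hle'
    simp at this
  · have hpos : (1 : ℕ∞) ≤ P1'.height := by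
      rw [Order.one_le_iff_ne_zero]
      intro h0
      rw [Ideal.height_eq_zero_iff, IsDomain.minimalPrimes_eq_singleton_bot,
        Set.mem_singleton_iff] at h0
      refine hq ?_
      have hQP : P₁ ≤ Q := fun b hb => by
        rw [← Ideal.Quotient.eq_zero_iff_mem, ← Submodule.mem_bot (B ⧸ Q), ← h0]
        exact Ideal.mem_map_of_mem _ hb
      show Q.under A = _
      rw [le_antisymm hQle hQP, h₁]
    have hp1 : p.height ≤ 1 := by
      have h := (Ideal.height_le_ringKrullDim_of_ne_top hp.ne_top).trans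
        ((ringKrullDim_quotient_le q).trans hA)
      exact_mod_cast h
    have := ((add_le_add hpos (le_refl (1 : ℕ∞))).trans hht).trans (hle'.trans hp1)
    exact absurd this (by decide)

lemma eq_of_le_over {A B L : Type u} [CommRing A] [CommRing B] [Algebra A B] [Algebra.FiniteType A B]
    (p : Ideal A) [p.IsPrime] [CommRing L] [Algebra A L] [IsLocalization.AtPrime L p] [IsNoetherianRing L]
    (hL : ringKrullDim L ≤ 1)
    (hmin : ∀ (Q : Ideal B) [Q.IsPrime], Q ∈ minimalPrimes B → Algebra.QuasiFiniteAt A Q)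
    (P₁ P₂ : Ideal B) [P₁.IsPrime] [P₂.IsPrime] (hle : P₁ ≤ P₂)
    (h₁ : P₁.under A = p) (h₂ : P₂.under A = p) :
    P₁ = P₂ := by
  haveI : IsLocalRing L := IsLocalization.AtPrime.isLocalRing L p
  letI : Algebra B (L ⊗[A] B) := Algebra.TensorProduct.rightAlgebra
  let M := Algebra.algebraMapSubmonoid B p.primeCompl
  haveI : IsLocalization M (L ⊗[A] B) := IsLocalization.tensorRight _ _
  have hdisj : ∀ R : Ideal B, R.under A = p → Disjoint (M : Set B) R := by
    intro R hR
    rw [Set.disjoint_left]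
    rintro _ ⟨a, ha, rfl⟩ haR
    exact ha (hR.le haR)
  have hP : ∀ (R : Ideal B) [R.IsPrime], R.under A = p → (R.map (algebraMap B (L ⊗[A] B))).IsPrime ∧
      (R.map (algebraMap B (L ⊗[A] B))).under B = R := fun R _ hR =>
    ⟨IsLocalization.isPrime_of_isPrime_disjoint M _ R inferInstance (hdisj R hR),
      IsLocalization.under_map_of_isPrime_disjoint M _ inferInstance (hdisj R hR)⟩
  obtain ⟨i1, c1⟩ := hP P₁ h₁
  obtain ⟨i2, c2⟩ := hP P₂ h₂
  have hmax : ∀ (R : Ideal (L ⊗[A] B)) [R.IsPrime], (R.under B).under A = p → R.under L = IsLocalRing.maximalIdeal L := by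
    intro R _ hR
    have hA : (R.under L).under A = p := by
      rw [Ideal.under_under, ← hR, Ideal.under_under]
    rw [← IsLocalization.map_under p.primeCompl L (R.under L), hA, IsLocalization.AtPrime.map_eq_maximalIdeal p L]
  have hmin' : ∀ (Q : Ideal (L ⊗[A] B)) [Q.IsPrime], Q ∈ minimalPrimes (L ⊗[A] B) →
      Algebra.QuasiFiniteAt L Q := by
    intro Q _ hQ
    have hmem : Q.comap (algebraMap B (L ⊗[A] B)) ∈ minimalPrimes B := by
      have h := IsLocalization.minimalPrimes_map M (L ⊗[A] B) (⊥ : Ideal B)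
      rw [Ideal.map_bot] at h
      exact h.le hQ
    haveI := hmin _ hmem
    exact Algebra.QuasiFiniteAt.baseChange (Q.comap (algebraMap B (L ⊗[A] B))) Q rfl
  have := eq_of_le_over_max hL hmin' _ _ (Ideal.map_mono (f := algebraMap B (L ⊗[A] B)) hle)
    (hmax _ (by rw [c1]; exact h₁)) (hmax _ (by rw [c2]; exact h₂))
  rw [← c1, ← c2, this]

/-- Let f : X → Y be locally of finite type, and let y ∈ Y be a point whose local ring is Noetherian of
dimension at most one. Suppose f is quasi-finite at the generic point of each irreducible component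
of X. Then f is quasi-finite at each point x of X with f(x) = y. -/
theorem result {X Y : Scheme.{u}} (f : X ⟶ Y) [LocallyOfFiniteType f]
    (y : Y) [IsNoetherianRing (Y.presheaf.stalk y)] (hy : ringKrullDim (Y.presheaf.stalk y) ≤ 1)
    (hgen : ∀ Z ∈ irreducibleComponents (X : Type u), ∀ η : X, IsGenericPoint η Z → f.QuasiFiniteAt η)
    (x : X) (hx : f.base x = y) : f.QuasiFiniteAt x := by
  obtain ⟨_, ⟨U, hU, rfl⟩, hxU, -⟩ := Y.isBasis_affineOpens.exists_subset_of_mem_open (Set.mem_univ (f.base x)) isOpen_univ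
  obtain ⟨_, ⟨V, hV, rfl⟩, hxV, hVU⟩ := X.isBasis_affineOpens.exists_subset_of_mem_open
    (show x ∈ ((f ⁻¹ᵁ U : X.Opens) : Set X) from hxU) (f ⁻¹ᵁ U).2
  replace hVU : V ≤ f ⁻¹ᵁ U := hVU
  subst hx
  let φ := (f.appLE U V hVU).hom
  have hft : φ.FiniteType := HasRingHomProperty.appLE @LocallyOfFiniteType f inferInstance ⟨U, hU⟩ ⟨V, hV⟩ hVU
  letI := φ.toAlgebra
  haveI : Algebra.FiniteType Γ(Y, U) Γ(X, V) := hft
  let P := (hV.primeIdealOf ⟨x, hxV⟩).asIdeal
  let p := (hU.primeIdealOf ⟨f.base x, hxU⟩).asIdeal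
  have hPp : P.under Γ(Y, U) = p := congr($(IsAffineOpen.comap_primeIdealOf_appLE U hU V hV hVU hxV).1)
  letI := TopCat.Presheaf.algebra_section_stalk Y.presheaf ⟨f.base x, hxU⟩
  haveI : IsLocalization.AtPrime (Y.presheaf.stalk (f.base x)) p := hU.isLocalization_stalk ⟨_, hxU⟩
  have hmin : ∀ (Q : Ideal Γ(X, V)) [Q.IsPrime], Q ∈ minimalPrimes Γ(X, V) → Algebra.QuasiFiniteAt Γ(Y, U) Q := by
    intro Q _ hQ
    let η : X := hV.fromSpec ⟨Q, inferInstance⟩
    have hηV : η ∈ V := hV.range_fromSpec.le ⟨_, rfl⟩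
    have hηQ : hV.primeIdealOf ⟨η, hηV⟩ = ⟨Q, inferInstance⟩ :=
      hV.fromSpec.isOpenEmbedding.injective (hV.fromSpec_primeIdealOf ⟨η, hηV⟩)
    have hcomp : f.QuasiFiniteAt η := by
      obtain ⟨η0, hη0⟩ := QuasiSober.sober (isIrreducible_irreducibleComponent (x := η)) isClosed_irreducibleComponent
      have h := hgen _ (irreducibleComponent_mem_irreducibleComponents η) η0 hη0
      have hsp : η0 ⤳ η := hη0.specializes mem_irreducibleComponent
      obtain rfl : η0 = η := by
        have h0V : η0 ∈ V := hsp.mem_open V.2 hηV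
        have hle : (hV.primeIdealOf ⟨η0, h0V⟩).asIdeal ≤ Q := by
          have : hV.primeIdealOf ⟨η0, h0V⟩ ⤳ (⟨Q, inferInstance⟩ : Spec Γ(X, V)) := by
            refine hV.fromSpec.isOpenEmbedding.isInducing.specializes_iff.1 ?_
            rw [IsAffineOpen.fromSpec_primeIdealOf hV]
            exact hsp
          exact PrimeSpectrum.le_iff_specializes _ _ |>.2 this
        have : hV.primeIdealOf ⟨η0, h0V⟩ = ⟨Q, inferInstance⟩ := PrimeSpectrum.ext
          (le_antisymm hle (hQ.2 ⟨inferInstance, bot_le⟩ hle))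
        have h' := congrArg hV.fromSpec.base this
        exact (IsAffineOpen.fromSpec_primeIdealOf hV ⟨η0, h0V⟩).symm.trans h'
      exact h
    have := hcomp.quasiFiniteAt hV hU hVU hηV
    simp only [hηQ] at this
    exact this
  haveI hP : Algebra.QuasiFiniteAt Γ(Y, U) P := by
    let q : PrimeSpectrum Γ(X, V) := hV.primeIdealOf ⟨x, hxV⟩
    show Algebra.QuasiFiniteAt Γ(Y, U) q.asIdeal
    rw [Algebra.quasiFiniteAt_iff_isOpen_singleton_fiber]
    let b := q.comap (algebraMap Γ(Y, U) Γ(X, V))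
    let e := PrimeSpectrum.preimageHomeomorphFiber Γ(Y, U) Γ(X, V) b
    have hb : b.asIdeal = p := hPp
    haveI : Algebra.FiniteType b.asIdeal.ResidueField (b.asIdeal.Fiber Γ(X, V)) := inferInstance
    haveI : IsNoetherianRing (b.asIdeal.Fiber Γ(X, V)) := Algebra.FiniteType.isNoetherianRing b.asIdeal.ResidueField _
    haveI : Ring.KrullDimLE 0 (b.asIdeal.Fiber Γ(X, V)) := by
      rw [Ring.krullDimLE_zero_iff]
      intro I hI
      obtain ⟨m, hm, hIm⟩ := Ideal.exists_le_maximal I hI.ne_top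
      have hsp : (⟨I, hI⟩ : PrimeSpectrum _) ⤳ ⟨m, hm.isPrime⟩ := (PrimeSpectrum.le_iff_specializes _ _).1 hIm
      have h2 := hsp.map (continuous_subtype_val.comp e.symm.continuous)
      have h3 : (e.symm ⟨I, hI⟩).1.asIdeal ≤ (e.symm ⟨m, hm.isPrime⟩).1.asIdeal := (PrimeSpectrum.le_iff_specializes _ _).2 h2
      have h4 := eq_of_le_over (L := Y.presheaf.stalk (f.base x)) p hy hmin _ _ h3
        ((congrArg PrimeSpectrum.asIdeal (e.symm ⟨I, hI⟩).2).trans hb)
        ((congrArg PrimeSpectrum.asIdeal (e.symm ⟨m, hm.isPrime⟩).2).trans hb)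
      have h5 : (⟨I, hI⟩ : PrimeSpectrum _) = ⟨m, hm.isPrime⟩ := e.symm.injective (Subtype.ext (PrimeSpectrum.ext h4))
      rw [show I = m from congrArg PrimeSpectrum.asIdeal h5]
      exact hm
    haveI : IsArtinianRing (b.asIdeal.Fiber Γ(X, V)) :=
      isArtinianRing_iff_isNoetherianRing_krullDimLE_zero.2 ⟨inferInstance, inferInstance⟩
    haveI : DiscreteTopology (PrimeSpectrum (b.asIdeal.Fiber Γ(X, V))) := inferInstance
    haveI : DiscreteTopology (PrimeSpectrum.comap (algebraMap Γ(Y, U) Γ(X, V)) ⁻¹' {b}) :=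
      e.isEmbedding.discreteTopology
    exact isOpen_discrete _
  show (f.stalkMap x).hom.QuasiFinite
  refine RingHom.QuasiFinite.of_comp (g := (Y.presheaf.germ U _ hxU).hom) ?_
  rw [← CommRingCat.hom_comp, f.germ_stalkMap, ← X.presheaf.germ_res (homOfLE hVU) _ hxV,
    Scheme.Hom.app_eq_appLE, Scheme.Hom.appLE_map_assoc, CommRingCat.hom_comp]
  letI := TopCat.Presheaf.algebra_section_stalk X.presheaf ⟨x, hxV⟩
  haveI := hV.isLocalization_stalk ⟨x, hxV⟩
  let e := IsLocalization.algEquiv P.primeCompl (Localization.AtPrime P) (X.presheaf.stalk x)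
  have := (RingHom.QuasiFinite.of_finite e.finite).comp (RingHom.quasiFinite_algebraMap.mpr hP)
  convert! this
  ext a
  exact (e.commutes (φ a)).symm

end Groth.Agent.S1608
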