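import Groth.Statements.S9334
import Mathlib.AlgebraicGeometry.Morphisms.QuasiFinite
import Mathlib.AlgebraicGeometry.Noetherian
import Mathlib.Topology.NoetherianSpace
-- import your own Groth.Agent.* helpers here

set_option autoImplicit false
universe u
open QFin

namespace Groth.Agent.S9334

open AlgebraicGeometry CategoryTheory in
/-- Let f : X → S be locally of finite type, x ∈ X, and write s = f x. The morphism f is quasi-finite at
x exactly when x is a closed point of the fibre X_s and no point x' ≠ x of X_s specializes to x. -/
theorem result {X S : Scheme.{u}} (f : X ⟶ S) [LocallyOfFiniteType f] (x : X) :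
    f.QuasiFiniteAt x ↔
      (IsClosed ({f.asFiber x} : Set ↑(f.fiber (f.base x))) ∧
        ∀ x' : ↑(f.fiber (f.base x)), x' ⤳ f.asFiber x → x' = f.asFiber x) := by
  haveI : LocallyOfFiniteType (f.fiberToSpecResidueField (f x)) :=
    MorphismProperty.pullback_snd _ _ inferInstance
  haveI : IsLocallyNoetherian (f.fiber (f x)) := LocallyOfFiniteType.isLocallyNoetherian (f.fiberToSpecResidueField (f x))
  constructor
  · intro h
    refine ⟨h.isClopen_singleton_asFiber.1, fun x' hx' => ?_⟩
    exact hx'.mem_open h.isClopen_singleton_asFiber.2 rfl
  · rintro ⟨hc, hgen⟩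
    rw [Scheme.Hom.quasiFiniteAt_iff_isOpen_singleton_asFiber]
    obtain ⟨_, ⟨(W : (f.fiber (f x)).Opens), hW, rfl⟩, haW, -⟩ := (f.fiber (f x)).isBasis_affineOpens.exists_subset_of_mem_open
      (Set.mem_univ (f.asFiber x)) isOpen_univ
    haveI := IsLocallyNoetherian.component_noetherian ⟨W, hW⟩
    haveI : TopologicalSpace.NoetherianSpace ↑W.toScheme := noetherianSpace_of_isAffineOpen W hW
    let a : W.toScheme := ⟨f.asFiber x, haW⟩
    have hinj : Function.Injective W.ι := W.ι.isOpenEmbedding.injective
    have hclosed : IsClosed ({a} : Set W.toScheme) := by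
      rw [← hinj.preimage_image {a}, Set.image_singleton]
      exact hc.preimage W.ι.continuous
    have hgenW : ∀ z : W.toScheme, z ⤳ a → z = a := fun z hz =>
      hinj (hgen (W.ι z) (hz.map W.ι.continuous))
    let others : Set (Set W.toScheme) := {Z ∈ irreducibleComponents W.toScheme | a ∉ Z}
    have hfin : others.Finite := TopologicalSpace.NoetherianSpace.finite_irreducibleComponents.subset fun Z hZ => hZ.1
    have hcompl : ({a}ᶜ : Set W.toScheme) = ⋃₀ others := by
      ext z
      constructor
      · intro hz
        refine ⟨irreducibleComponent z, ⟨irreducibleComponent_mem_irreducibleComponents z, fun haZ => ?_⟩,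
          mem_irreducibleComponent⟩
        have hirr : IsIrreducible (irreducibleComponent z) := isIrreducible_irreducibleComponent
        have hg := hirr.isGenericPoint_genericPoint isClosed_irreducibleComponent
        have e := hgenW _ (hg.specializes haZ)
        have hz' : z ∈ closure ({a} : Set W.toScheme) := by
          rw [← e]
          rw [show closure ({hirr.genericPoint} : Set W.toScheme) = irreducibleComponent z from hg.def]
          exact mem_irreducibleComponent
        exact hz (hclosed.closure_eq ▸ hz')
      · rintro ⟨Z, ⟨-, haZ⟩, hzZ⟩ rfl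
        exact haZ hzZ
    have hopen : IsOpen ({a} : Set W.toScheme) := by
      rw [← isClosed_compl_iff, hcompl]
      rw [Set.sUnion_eq_biUnion]
      exact hfin.isClosed_biUnion fun Z hZ => isClosed_of_mem_irreducibleComponents Z hZ.1
    have := W.ι.isOpenEmbedding.isOpenMap _ hopen
    rw [Set.image_singleton] at this
    exact this

end Groth.Agent.S9334
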