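import Groth.Statements.S10398
import Groth.Agent.Lib.AlgSp.GenericFinite
import Groth.Agent.Lib.AlgSp.Immersion
import Groth.Agent.Lib.AlgSp.PointProps
import Groth.Agent.Lib.AlgSp.AffineDescent
-- import your own Groth.Agent.* helpers here

set_option autoImplicit false
universe u
open CategoryTheory CategoryTheory.Limits AlgebraicGeometry Topology TopologicalSpace
open AlgSp

namespace Groth.Agent.S10398

/-- (2) ⇒ (3): let S be a scheme, X and Y algebraic spaces over S, and f : X ⟶ Y a quasi-separated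
morphism of finite type, and let y ∈ |Y| be a codimension 0 point of Y. Suppose that at every point
of |X| lying over y the morphism f is quasi-finite. Then there is an open subspace Y' ⊆ Y containing
y for which the morphism Y' ×_Y X ⟶ Y' is finite. -/
theorem result {S : Scheme.{u}} {X Y : AlgSp.Space S} (f : X ⟶ Y)
    (hqs : AlgSp.IsQuasiSeparatedMor f.hom) (hft : AlgSp.IsFiniteTypeMor f.hom) (y : AlgSp.Points Y.obj)
    (hy : AlgSp.HasAt (fun U u => ringKrullDim ↥(U.presheaf.stalk u) = 0) Y.obj y)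
    (hqf : ∀ x : AlgSp.Points X.obj, AlgSp.Points.map f.hom x = y → AlgSp.HasAtMor (fun U _ h u => ∃ W : U.Opens, u ∈ W ∧ LocallyQuasiFinite (W.ι ≫ h) ∧ LocallyOfFiniteType (W.ι ≫ h)) f.hom x) :
    ∃ (Y' X' : AlgSp.Space S) (j : Y' ⟶ Y) (fst : X' ⟶ Y') (snd : X' ⟶ X), AlgSp.RepWith @IsOpenImmersion j.hom ∧
      y ∈ Set.range (AlgSp.Points.map j.hom) ∧ IsPullback fst.hom snd.hom j.hom f.hom ∧
      AlgSp.IsFiniteMor fst.hom := by
  obtain ⟨V, q, hV, qe, ⟨v, hv⟩, -, -⟩ := GrothLib.AlgSp.exists_affine_chart_mem Y.property isOpen_univ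
    (Set.mem_univ y) (fun _ => True) (fun _ => ⟨⊤, trivial, trivial⟩)
  haveI := hV
  subst hv
  have hdim : ringKrullDim ↥(V.left.presheaf.stalk v) = 0 :=
    (GrothLib.AlgSp.hasAt_iff Y.property (Q := fun U u => ringKrullDim ↥(U.presheaf.stalk u) = 0)
      (fun A B k hk a => by haveI := hk; rw [GrothLib.AlgSp.ringKrullDim_stalk_eq_of_etale (f := k) a]) qe v).1 hy
  have hmax : ∀ z : ↥V.left, z ⤳ v → z = v := fun z hz => by
    rw [ringKrullDim_stalk_eq_coheight] at hdim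
    have h0 : Order.coheight v = 0 := by exact_mod_cast hdim
    have h1 : IsMax v := Order.coheight_eq_zero.1 h0
    have h2 : v ≤ z := hz
    exact (hz.antisymm (h1 h2)).eq
  have hVA := AlgSp.IsAlgSpace.yon_obj V
  obtain ⟨XV, gV, fV, sqV⟩ : ∃ (XV : AlgSp.Sp S) (gV : XV ⟶ X.obj) (fV : XV ⟶ (AlgSp.yon S).obj V),
      IsPullback gV fV f.hom q := ⟨_, _, _, IsPullback.of_hasPullback _ _⟩
  have hXV : AlgSp.IsAlgSpace XV := GrothLib.AlgSp.isAlgSpace_pullback Y.property.diag X.property hVA sqV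
  have hqsV : AlgSp.IsQuasiSeparatedMor fV :=
    GrothLib.AlgSp.repWith_of_isPullback (GrothLib.AlgSp.isPullback_diagonal_of_isPullback sqV) hqs
  have hftV : AlgSp.IsFiniteTypeMor fV := ⟨GrothLib.AlgSp.EtLocal.locP_of_isPullback .lft X.property Y.property hVA sqV hft.1,
    GrothLib.AlgSp.baseChanges_quasiCompact X.property Y.property hXV hVA sqV hft.2⟩
  obtain ⟨O, hvO, hfin⟩ := GrothLib.AlgSp.exists_finite_nhd_maximal hXV fV hqsV hftV hmax fun x hx => by
    rw [GrothLib.AlgSp.fibreDim_le_zero_baseChange X.property Y.property hVA sqV hft.1 x]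
    refine (GrothLib.AlgSp.hasAtMor_lqf_iff X.property Y.property hft.1 _).1 (hqf _ ?_)
    rw [← AlgSp.Points.map_comp, sqV.w, AlgSp.Points.map_comp, hx, ← AlgSp.Points.ofPt_eq_map_ofScheme]
  let o := GrothLib.AlgSp.openOverι O
  have oe : AlgSp.RepWith @Etale ((AlgSp.yon S).map o ≫ q) := GrothLib.AlgSp.repWith_comp
    ((AlgSp.repWith_yon_map_iff _ o).2 (inferInstanceAs (Etale O.ι))) qe
  let W := Set.range (AlgSp.Points.ofPt ((AlgSp.yon S).map o ≫ q))
  have hW : IsOpen W := (GrothLib.AlgSp.isOpenMap_ofPt_of_etale oe).isOpen_range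
  obtain ⟨q₀, hq₀⟩ := GrothLib.AlgSp.openSub_lift (W := W) ((AlgSp.yon S).map o ≫ q) fun t => ⟨t, rfl⟩
  let ι₀ := GrothLib.AlgSp.openSubι Y.obj W
  haveI : Mono ι₀ := GrothLib.AlgSp.mono_openSubι _ _
  have hι : AlgSp.RepWith @IsOpenImmersion ι₀ := GrothLib.AlgSp.repWith_openSubι hW
  have hY' : AlgSp.IsAlgSpace (GrothLib.AlgSp.openSub Y.obj W) := GrothLib.AlgSp.isAlgSpace_openSub Y.property hW
  have p₀sq : IsPullback (𝟙 _) q₀ ((AlgSp.yon S).map o ≫ q) ι₀ := IsPullback.mk ⟨by rw [Category.id_comp, hq₀]⟩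
      ⟨PullbackCone.IsLimit.mk _ (fun s => s.fst) (fun s => Category.comp_id _)
        (fun s => by rw [← cancel_mono ι₀, Category.assoc, hq₀]; exact s.condition)
        (fun s m h₁ h₂ => by simpa using h₁)⟩
  have q₀e : AlgSp.RepWith @Etale q₀ := GrothLib.AlgSp.repWith_of_isPullback p₀sq oe
  have q₀s : AlgSp.RepWith @Surjective q₀ := GrothLib.AlgSp.repWith_surjective_of_ofPt q₀e.1 fun z => by
    obtain ⟨t, ht⟩ : AlgSp.Points.map ι₀ z ∈ W := GrothLib.AlgSp.range_openSubι.le ⟨z, rfl⟩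
    refine ⟨t, GrothLib.AlgSp.injective_map_of_repWith (fun _ _ k (hk : IsOpenImmersion k) =>
      k.isOpenEmbedding.injective) hι ?_⟩
    rw [AlgSp.Points.map_ofPt, hq₀, ht]
  obtain ⟨X', g', f', sq'⟩ : ∃ (X' : AlgSp.Sp S) (g' : X' ⟶ X.obj) (f' : X' ⟶ GrothLib.AlgSp.openSub Y.obj W),
      IsPullback g' f' f.hom ι₀ := ⟨_, _, _, IsPullback.of_hasPullback _ _⟩
  have hX' : AlgSp.IsAlgSpace X' := GrothLib.AlgSp.isAlgSpace_pullback Y.property.diag X.property hY' sq'
  refine ⟨⟨_, hY'⟩, ⟨_, hX'⟩, ObjectProperty.homMk ι₀, ObjectProperty.homMk f', ObjectProperty.homMk g', hι, ?_,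
    sq'.flip, ?_⟩
  · exact GrothLib.AlgSp.range_openSubι.ge ⟨⟨v, hvO⟩, by rw [GrothLib.AlgSp.ofPt_map_comp]; rfl⟩
  · show AlgSp.IsFiniteMor f'
    haveI : Sheaf.IsLocallySurjective q₀ := GrothLib.AlgSp.isLocallySurjective_of_repWith
      (GrothLib.AlgSp.repWith_mono q₀e fun A B m (hm : Etale m) => inferInstance)
      (GrothLib.AlgSp.repWith_mono q₀e fun A B m (hm : Etale m) => inferInstance) q₀s
    have sqP := IsPullback.of_hasPullback f' q₀
    have sqA := sqP.paste_horiz sq'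
    rw [hq₀] at sqA
    let l := sqV.lift (pullback.fst f' q₀ ≫ g') (pullback.snd f' q₀ ≫ (AlgSp.yon S).map o)
      (by rw [sqA.w, Category.assoc])
    have sqL : IsPullback l (pullback.snd f' q₀) fV ((AlgSp.yon S).map o) :=
      IsPullback.of_right (by rw [sqV.lift_fst]; exact sqA) (sqV.lift_snd _ _ _) sqV
    exact GrothLib.AlgSp.isFiniteMor_iff.2 (GrothLib.AlgSp.repWith_of_base_isAffineHom q₀ sqP
      (fun _ _ k (hk : IsFinite k) => inferInstance) GrothLib.AlgSp.fppfDescends_isFinite (hfin _ l _ sqL))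

end Groth.Agent.S10398
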