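import Groth.Statements.S10400
import Groth.Agent.S10399
import Groth.Agent.Lib.AlgSp.GenericFiniteDense
import Groth.Agent.Lib.AlgSp.PointProps
import Groth.Agent.Lib.AlgSp.AffineDescent
import Groth.Agent.Lib.AlgSp.FppfCover
import Groth.Agent.Lib.AlgSp.FpqcProps
import Groth.Agent.Lib.AlgSp.DecentPoints
-- import your own Groth.Agent.* helpers here

set_option autoImplicit false
universe u
open CategoryTheory CategoryTheory.Limits AlgebraicGeometry Topology TopologicalSpace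
open AlgSp

namespace Groth.Agent.S10400

/-- Let f : X ⟶ Y be a morphism locally of finite type of algebraic spaces over a scheme S with Y
decent. Assume the codimension 0 points of X and of Y form finite sets, that a point of X has
codimension 0 exactly when its image does, and that f is quasi-compact or separated. Then there is a
dense open subspace V ⊆ Y with f⁻¹(V) ⟶ V finite. -/
theorem result {S : Scheme.{u}} {X Y : AlgSp.Space S} (f : X ⟶ Y)
    (hf : AlgSp.LocP @LocallyOfFiniteType f.hom) (hY : AlgSp.IsDecent Y.obj)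
    (hX0 : {x : AlgSp.Points X.obj | AlgSp.HasAt (fun U u => ringKrullDim ↥(U.presheaf.stalk u) = 0) X.obj x}.Finite)
    (hY0 : {y : AlgSp.Points Y.obj | AlgSp.HasAt (fun U u => ringKrullDim ↥(U.presheaf.stalk u) = 0) Y.obj y}.Finite)
    (hpre : ∀ x : AlgSp.Points X.obj, AlgSp.HasAt (fun U u => ringKrullDim ↥(U.presheaf.stalk u) = 0) X.obj x ↔ AlgSp.HasAt (fun U u => ringKrullDim ↥(U.presheaf.stalk u) = 0) Y.obj (AlgSp.Points.map f.hom x))
    (hqs : AlgSp.IsQuasiCompactMor f.hom ∨ AlgSp.IsSeparatedMor f.hom) :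
    ∃ (V X' : AlgSp.Space S) (j : V ⟶ Y) (fst : X' ⟶ V) (snd : X' ⟶ X), AlgSp.RepWith @IsOpenImmersion j.hom ∧
      Dense (Set.range (AlgSp.Points.map j.hom)) ∧ IsPullback fst.hom snd.hom j.hom f.hom ∧
      AlgSp.IsFiniteMor fst.hom := by
  classical
  -- the charts around the codimension zero points of `Y`
  have hinv : ∀ ⦃A B : Scheme.{u}⦄ (k : A ⟶ B), Etale k → ∀ a : ↥A,
      ringKrullDim ↥(A.presheaf.stalk a) = 0 ↔ ringKrullDim ↥(B.presheaf.stalk (k a)) = 0 := fun A B k hk a => by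
    haveI := hk
    rw [GrothLib.AlgSp.ringKrullDim_stalk_eq_of_etale (f := k) a]
  have key : ∀ y : {y : AlgSp.Points Y.obj // AlgSp.HasAt (fun U u => ringKrullDim ↥(U.presheaf.stalk u) = 0) Y.obj y},
      ∃ (W : Over S) (q : (AlgSp.yon S).obj W ⟶ Y.obj), AlgSp.RepWith @Etale q ∧
        y.1 ∈ Set.range (AlgSp.Points.ofPt q) ∧ ∀ (P : AlgSp.Sp S) (fst : P ⟶ X.obj) (snd : P ⟶ (AlgSp.yon S).obj W),
          IsPullback fst snd f.hom q → AlgSp.RepWith @IsFinite snd := by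
    rintro ⟨y, hy⟩
    obtain ⟨V, q, hV, qe, ⟨v, hv⟩, -, -⟩ := GrothLib.AlgSp.exists_affine_chart_mem Y.property isOpen_univ
      (Set.mem_univ y) (fun _ => True) (fun _ => ⟨⊤, trivial, trivial⟩)
    haveI := hV
    subst hv
    have hvmax : IsMax v := (GrothLib.AlgSp.isMax_iff_stalkDim v).2
      ((GrothLib.AlgSp.hasAt_iff Y.property (Q := fun U u => ringKrullDim ↥(U.presheaf.stalk u) = 0) hinv qe v).1 hy)
    have hM : {w : ↥V.left | IsMax w}.Finite := by
      refine (hY0.biUnion (t := fun y => AlgSp.Points.ofPt q ⁻¹' {y})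
        (fun y _ => GrothLib.AlgSp.finiteFibres_of_isDecent Y.property hY y V q hV qe)).subset fun w hw => ?_
      exact Set.mem_iUnion₂.2 ⟨_, (GrothLib.AlgSp.hasAt_iff Y.property
        (Q := fun U u => ringKrullDim ↥(U.presheaf.stalk u) = 0) hinv qe w).2
          ((GrothLib.AlgSp.isMax_iff_stalkDim w).1 hw), rfl⟩
    let Z : Set ↥V.left := ⋃ m ∈ {w : ↥V.left | IsMax w} \ {v}, closure {m}
    have hZ : IsClosed Z := (hM.sdiff).isClosed_biUnion fun _ _ => isClosed_closure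
    have hvZ : v ∉ Z := fun h => by
      obtain ⟨m, ⟨-, hmv⟩, hm⟩ := Set.mem_iUnion₂.1 h
      exact hmv ((GrothLib.AlgSp.isMax_iff_no_generization v).1 hvmax m (specializes_iff_mem_closure.2 hm))
    obtain ⟨A, hA, hvA, hAZ⟩ := exists_isAffineOpen_mem_and_subset (U := (⟨Zᶜ, hZ.isOpen_compl⟩ : V.left.Opens))
      (x := v) hvZ
    haveI : IsAffine (GrothLib.AlgSp.openOver A).left := hA
    let w₀ : ↥(GrothLib.AlgSp.openOver A).left := ⟨v, hvA⟩
    obtain ⟨q', hq'⟩ : ∃ q', q' = (AlgSp.yon S).map (GrothLib.AlgSp.openOverι A) ≫ q := ⟨_, rfl⟩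
    have qe' : AlgSp.RepWith @Etale q' := hq' ▸ GrothLib.AlgSp.repWith_comp
      ((AlgSp.repWith_yon_map_iff _ _).2 (inferInstanceAs (Etale A.ι))) qe
    have hw₀ : AlgSp.Points.ofPt q' w₀ = AlgSp.Points.ofPt q v := by
      rw [hq', GrothLib.AlgSp.ofPt_map_comp]; rfl
    have honly : ∀ z : ↥(GrothLib.AlgSp.openOver A).left, IsMax z → z = w₀ := fun z hz => by
      have h1 : IsMax (A.ι z) := (GrothLib.AlgSp.isMax_iff_stalkDim _).2
        ((hinv A.ι inferInstance z).1 ((GrothLib.AlgSp.isMax_iff_stalkDim z).1 hz))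
      refine A.ι.isOpenEmbedding.injective (?_ : A.ι z = v)
      by_contra hne
      exact hAZ z.2 (Set.mem_iUnion₂.2 ⟨A.ι z, ⟨h1, hne⟩, subset_closure rfl⟩)
    have hw₀max : ∀ z, z ⤳ w₀ → z = w₀ := fun z hz =>
      A.ι.isOpenEmbedding.injective ((GrothLib.AlgSp.isMax_iff_no_generization v).1 hvmax _
        (hz.map A.ι.continuous))
    have hVA := AlgSp.IsAlgSpace.yon_obj (GrothLib.AlgSp.openOver A)
    obtain ⟨XV, gV, fV, sqV⟩ : ∃ (XV : AlgSp.Sp S) (gV : XV ⟶ X.obj)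
        (fV : XV ⟶ (AlgSp.yon S).obj (GrothLib.AlgSp.openOver A)),
        IsPullback gV fV f.hom q' := ⟨_, _, _, IsPullback.of_hasPullback _ _⟩
    have hXV : AlgSp.IsAlgSpace XV := GrothLib.AlgSp.isAlgSpace_pullback Y.property.diag X.property hVA sqV
    have hgV : AlgSp.RepWith @Etale gV := GrothLib.AlgSp.repWith_of_isPullback sqV.flip qe'
    have hlftV : AlgSp.LocP @LocallyOfFiniteType fV :=
      GrothLib.AlgSp.EtLocal.locP_of_isPullback .lft X.property Y.property hVA sqV hf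
    have hqsV : AlgSp.IsQuasiCompactMor fV ∨ AlgSp.IsSeparatedMor fV := hqs.imp
      (fun h => GrothLib.AlgSp.baseChanges_quasiCompact X.property Y.property hXV hVA sqV h)
      (fun h => GrothLib.AlgSp.repWith_of_isPullback (GrothLib.AlgSp.isPullback_diagonal_of_isPullback sqV) h)
    have hover : ∀ x : AlgSp.Points XV, AlgSp.Points.map fV x = AlgSp.Points.ofScheme _ w₀ →
        AlgSp.Points.map f.hom (AlgSp.Points.map gV x) = AlgSp.Points.ofPt q v := fun x hx => by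
      rw [← AlgSp.Points.map_comp, sqV.w, AlgSp.Points.map_comp, hx, ← AlgSp.Points.ofPt_eq_map_ofScheme, hw₀]
    obtain ⟨O, hwO, hfin⟩ := GrothLib.AlgSp.exists_finite_nhd_of_maximal_points hXV fV hlftV hqsV hw₀max
      (fun U a h ha hh u hu => honly _ ((GrothLib.AlgSp.isMax_iff_stalkDim _).2 (by
        have h1 := (hpre _).1 ((GrothLib.AlgSp.hasAt_iff X.property (Q := fun U u => ringKrullDim ↥(U.presheaf.stalk u) = 0)
          hinv (GrothLib.AlgSp.repWith_comp ha hgV) u).2 ((GrothLib.AlgSp.isMax_iff_stalkDim u).1 hu))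
        rw [AlgSp.Points.map_ofPt, Category.assoc, sqV.w, ← Category.assoc, ← hh, GrothLib.AlgSp.ofPt_map_comp] at h1
        exact (GrothLib.AlgSp.hasAt_iff Y.property (Q := fun U u => ringKrullDim ↥(U.presheaf.stalk u) = 0) hinv qe' _).1 h1)))
      ((hX0.biUnion (t := fun x => {z | AlgSp.Points.map gV z = x})
          (fun x _ => GrothLib.AlgSp.finite_baseChange_fibre Y.property hY qe' sqV x)).subset fun z hz =>
        Set.mem_iUnion₂.2 ⟨_, (hpre _).2 ((hover z hz).symm ▸ hy), rfl⟩)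
      (fun x hx => by
        rw [GrothLib.AlgSp.fibreDim_le_zero_baseChange X.property Y.property hVA sqV hf x]
        exact (GrothLib.AlgSp.hasAtMor_lqf_iff X.property Y.property hf _).1
          ((Groth.Agent.S10399.result f hf _ hy).1.1 (fun x' hx' => (hpre x').2 (hx'.symm ▸ hy)) _ (hover x hx)))
    refine ⟨GrothLib.AlgSp.openOver O, (AlgSp.yon S).map (GrothLib.AlgSp.openOverι O) ≫ q',
      GrothLib.AlgSp.repWith_comp ((AlgSp.repWith_yon_map_iff _ _).2 (inferInstanceAs (Etale O.ι))) qe',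
      ⟨⟨w₀, hwO⟩, by rw [GrothLib.AlgSp.ofPt_map_comp]; exact hw₀⟩, fun P fst snd sqP => ?_⟩
    let l := sqV.lift fst (snd ≫ (AlgSp.yon S).map (GrothLib.AlgSp.openOverι O)) (by rw [sqP.w, Category.assoc])
    have sqL : IsPullback l snd fV ((AlgSp.yon S).map (GrothLib.AlgSp.openOverι O)) :=
      IsPullback.of_right (by rw [sqV.lift_fst]; exact sqP) (sqV.lift_snd _ _ _) sqV
    exact hfin P l snd sqL
  obtain ⟨n, ⟨e⟩⟩ := @Finite.exists_equiv_fin _ hY0.to_subtype
  choose W q qe hyq hqfin using fun i : ULift.{u} (Fin n) => key (e.symm i.down)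
  -- the dense open subspace
  let T : Set (AlgSp.Points Y.obj) := ⋃ i, Set.range (AlgSp.Points.ofPt (q i))
  have hT : IsOpen T := isOpen_iUnion fun i => (GrothLib.AlgSp.isOpenMap_ofPt_of_etale (qe i)).isOpen_range
  let ι₀ := GrothLib.AlgSp.openSubι Y.obj T
  haveI : Mono ι₀ := GrothLib.AlgSp.mono_openSubι _ _
  have hι : AlgSp.RepWith @IsOpenImmersion ι₀ := GrothLib.AlgSp.repWith_openSubι hT
  have hY' : AlgSp.IsAlgSpace (GrothLib.AlgSp.openSub Y.obj T) := GrothLib.AlgSp.isAlgSpace_openSub Y.property hT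
  obtain ⟨X', g', f', sq'⟩ : ∃ (X' : AlgSp.Sp S) (g' : X' ⟶ X.obj) (f' : X' ⟶ GrothLib.AlgSp.openSub Y.obj T),
      IsPullback g' f' f.hom ι₀ := ⟨_, _, _, IsPullback.of_hasPullback _ _⟩
  have hX' : AlgSp.IsAlgSpace X' := GrothLib.AlgSp.isAlgSpace_pullback Y.property.diag X.property hY' sq'
  choose q₀ hq₀ using fun i => GrothLib.AlgSp.openSub_lift (W := T) (q i) fun t => Set.mem_iUnion.2 ⟨i, t, rfl⟩
  have q₀e : ∀ i, AlgSp.RepWith @Etale (q₀ i) := fun i => by
    have p₀sq : IsPullback (𝟙 _) (q₀ i) (q i) ι₀ := IsPullback.mk ⟨by rw [Category.id_comp, hq₀ i]⟩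
      ⟨PullbackCone.IsLimit.mk _ (fun s => s.fst) (fun s => Category.comp_id _)
        (fun s => by rw [← cancel_mono ι₀, Category.assoc, hq₀ i]; exact s.condition)
        (fun s m h₁ h₂ => by simpa using h₁)⟩
    exact GrothLib.AlgSp.repWith_of_isPullback p₀sq (qe i)
  have hcov : AlgSp.IsFppfCover (fun i => (AlgSp.yon S).obj (W i)) q₀ := by
    refine ⟨fun i => ⟨GrothLib.AlgSp.EtLocal.locP_of_repWith GrothLib.AlgSp.EtLocal.flat hY'
      (GrothLib.AlgSp.repWith_mono (q₀e i) fun A B m (hm : Etale m) => inferInstance),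
      GrothLib.AlgSp.EtLocal.locP_of_repWith GrothLib.AlgSp.EtLocal.lfp hY'
      (GrothLib.AlgSp.repWith_mono (q₀e i) fun A B m (hm : Etale m) => inferInstance)⟩, fun z => ?_⟩
    obtain ⟨i, t, ht⟩ := Set.mem_iUnion.1 (GrothLib.AlgSp.range_openSubι.le (⟨z, rfl⟩ :
      AlgSp.Points.map ι₀ z ∈ Set.range (AlgSp.Points.map ι₀)))
    refine ⟨i, AlgSp.Points.ofScheme _ t, GrothLib.AlgSp.injective_map_of_mono ι₀ ?_⟩
    rw [← AlgSp.Points.ofPt_eq_map_ofScheme, AlgSp.Points.map_ofPt, hq₀ i, ht]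
  refine ⟨⟨_, hY'⟩, ⟨_, hX'⟩, ObjectProperty.homMk ι₀, ObjectProperty.homMk f', ObjectProperty.homMk g', hι, ?_,
    sq'.flip, ?_⟩
  · show Dense (Set.range (AlgSp.Points.map ι₀))
    rw [GrothLib.AlgSp.range_openSubι]
    refine dense_iff_inter_open.2 fun U hU hne => ?_
    obtain ⟨z, hz⟩ := hne
    obtain ⟨B, b, be, bs⟩ := Y.property.atlas
    obtain ⟨w, rfl⟩ := GrothLib.AlgSp.surjective_ofPt_of_repWith bs z
    obtain ⟨m, hm, hmm⟩ := GrothLib.AlgSp.exists_isMax_specializes w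
    refine ⟨AlgSp.Points.ofPt b m, (hm.map (AlgSp.Points.continuous_ofPt b)).mem_open hU hz, ?_⟩
    have h0 := (GrothLib.AlgSp.hasAt_iff Y.property
      (Q := fun U u => ringKrullDim ↥(U.presheaf.stalk u) = 0) hinv be m).2
        ((GrothLib.AlgSp.isMax_iff_stalkDim m).1 hmm)
    refine Set.mem_iUnion.2 ⟨⟨e ⟨_, h0⟩⟩, ?_⟩
    have h1 := hyq ⟨e ⟨_, h0⟩⟩
    simp only [Equiv.symm_apply_apply] at h1
    exact h1
  · show AlgSp.IsFiniteMor f'
    refine GrothLib.AlgSp.isFiniteMor_iff.2 (GrothLib.AlgSp.repWith_of_fpqcLoc_affine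
      (fun _ _ k (hk : IsFinite k) => inferInstance) hX' hY'
      (GrothLib.AlgSp.fpqcLoc_of_cover (GrothLib.AlgSp.baseChanges_repWith _) _ q₀ hY'
        (fun i => AlgSp.IsAlgSpace.yon_obj _)
        (GrothLib.AlgSp.isFpqcCover_of_isFppfCover hY' (fun i => AlgSp.IsAlgSpace.yon_obj _) hcov) f' hX'
        (fun i => pullback f' (q₀ i)) (fun i => pullback.snd f' (q₀ i)) (fun i => pullback.fst f' (q₀ i))
        (fun i => GrothLib.AlgSp.isAlgSpace_pullback hY'.diag hX' (AlgSp.IsAlgSpace.yon_obj _)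
          (IsPullback.of_hasPullback _ _))
        (fun i => IsPullback.of_hasPullback _ _) (fun i => hqfin i _ (pullback.fst f' (q₀ i) ≫ g') (pullback.snd f' (q₀ i)) ?_)))
    rw [← hq₀ i]
    exact (IsPullback.of_hasPullback f' (q₀ i)).paste_horiz sq'

end Groth.Agent.S10400
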