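import Groth.Statements.S9771
import Groth.Agent.Lib.DeformIso.Basic
import Groth.Agent.Lib.FormalLift.Basic
-- import your own Groth.Agent.* helpers here

set_option autoImplicit false
universe u
open FlatMor

namespace Groth.Agent.S9771

open AlgebraicGeometry CategoryTheory Limits in
/-- An unramified (formally unramified and locally of finite type) flat morphism of schemes is formally
étale. (When the morphism is moreover locally of finite presentation this is the statement that flat
unramified morphisms are étale; the content here is the case without finite presentation.) -/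
theorem result {X S : Scheme.{u}} (f : X ⟶ S)
    [Flat f] [FormallyUnramified f] [LocallyOfFiniteType f] : MoreMor.IsFormallyEtaleHom f := by
  intro A _ I hI a b w
  let t := Spec.map (CommRingCat.ofHom (Ideal.Quotient.mk I))
  have : Surjective t := GrothLib.FormalLift.surjective_specMap_quotient hI
  have : IsClosedImmersion t := IsClosedImmersion.spec_of_surjective _ Ideal.Quotient.mk_surjective
  have hnil : IsNilpotent t.ker := by
    refine ⟨2, Scheme.IdealSheafData.ext_of_isAffine ?_⟩
    rw [Scheme.IdealSheafData.ideal_pow, Pi.pow_apply, Scheme.Hom.ker_apply]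
    have hle : RingHom.ker (t.app ⊤).hom ≤ I.comap (Scheme.ΓSpecIso (CommRingCat.of A)).hom.hom := by
      intro x hx
      rw [Ideal.mem_comap, ← Ideal.Quotient.eq_zero_iff_mem]
      have := congr($(Scheme.ΓSpecIso_naturality (CommRingCat.ofHom (Ideal.Quotient.mk I))).hom x)
      simp only [CommRingCat.hom_comp, RingHom.comp_apply, CommRingCat.hom_ofHom] at this
      exact this.symm.trans (by
        rw [RingHom.mem_ker] at hx
        exact (congrArg _ hx).trans (map_zero _))
    refine le_bot_iff.mp ((Ideal.pow_right_mono hle 2).trans ((Ideal.le_comap_pow _ 2).trans ?_))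
    rw [hI]
    intro x hx
    exact (Scheme.ΓSpecIso (CommRingCat.of A)).commRingCatIsoToRingEquiv.injective
      (hx.trans (map_zero _).symm)
  have huniq : ∀ l l' : Spec (CommRingCat.of A) ⟶ X, t ≫ l = a → l ≫ f = b → t ≫ l' = a → l' ≫ f = b → l = l' :=
    fun l l' h1 h2 h3 h4 => FormallyUnramified.hom_ext t hnil f (h1.trans h3.symm) (h2.trans h4.symm)
  let q := pullback.snd f b
  let r := pullback.fst q t
  let s : Spec (CommRingCat.of (A ⧸ I)) ⟶ pullback q t := pullback.lift (pullback.lift a t w.symm) (𝟙 _)
    (by rw [Category.id_comp]; exact pullback.lift_snd _ _ _)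
  have hs : s ≫ pullback.snd q t = 𝟙 _ := pullback.lift_snd _ _ _
  have : Mono s := mono_of_mono_fac hs
  have : FormallyUnramified q := MorphismProperty.pullback_snd (P := @FormallyUnramified) f b ‹_›
  have : FormallyUnramified (pullback.snd q t) := MorphismProperty.pullback_snd (P := @FormallyUnramified) q t ‹_›
  have : Etale (s ≫ pullback.snd q t) := by rw [hs]; infer_instance
  have : Etale s := Etale.of_comp s (pullback.snd q t)
  have : IsOpenImmersion s := IsOpenImmersion.of_flat_of_mono s
  let er := (r.isClosedEmbedding.isEmbedding).toHomeomorphOfSurjective r.surjective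
  let O : (pullback f b).Opens := ⟨er '' (s.opensRange : Set _), er.isOpenMap _ s.opensRange.2⟩
  have hr : Set.range (s ≫ r) ⊆ Set.range O.ι := by
    rw [Scheme.Opens.range_ι]
    rintro _ ⟨x, rfl⟩
    exact ⟨s x, ⟨x, rfl⟩, rfl⟩
  let j := IsOpenImmersion.lift O.ι (s ≫ r) hr
  have hj : j ≫ O.ι = s ≫ r := IsOpenImmersion.lift_fac _ _ _
  have sq : IsPullback j s O.ι r := IsOpenImmersion.isPullback j s O.ι r hj.symm (by
    rw [Scheme.Opens.opensRange_ι]
    exact TopologicalSpace.Opens.ext (Set.preimage_image_eq _ er.injective))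
  have sq' : IsPullback j (𝟙 _) (O.ι ≫ q) t := by
    rw [← hs]; exact sq.paste_vert (IsPullback.of_hasPullback q t)
  have : IsIso (O.ι ≫ q) := by
    have hflat : Flat ((O.ι ≫ q) ≫ 𝟙 _) := by rw [Category.comp_id]; infer_instance
    exact GrothLib.DeformIso.isIso_of_isIso_baseChange j t t (𝟙 _) (O.ι ≫ q) (𝟙 _) (𝟙 _)
      ⟨⟨‹_›, ‹_›⟩, hnil⟩ (by simpa using sq') (IsPullback.of_id_snd) (by rw [sq'.w, Category.id_comp])
  have hl : t ≫ inv (O.ι ≫ q) ≫ O.ι ≫ pullback.fst f b = a := by
    have h1 : t = j ≫ O.ι ≫ q := by rw [sq'.w, Category.id_comp]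
    rw [h1, Category.assoc, IsIso.hom_inv_id_assoc, reassoc_of% hj]
    exact (pullback.lift_fst_assoc _ _ _ _).trans (pullback.lift_fst _ _ _)
  have hlf : (inv (O.ι ≫ q) ≫ O.ι ≫ pullback.fst f b) ≫ f = b := by
    simp only [Category.assoc]
    rw [pullback.condition, ← Category.assoc O.ι, IsIso.inv_hom_id_assoc]
  exact ⟨_, ⟨hl, hlf⟩, fun l ⟨h1, h2⟩ => huniq _ _ h1 h2 hl hlf⟩

end Groth.Agent.S9771
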