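import Groth.Statements.S9633
import Mathlib
-- import your own Groth.Agent.* helpers here

set_option autoImplicit false
universe u
open CAlg

namespace Groth.Agent.S9633

/-- For a ring R with spectrum X the following are equivalent: (1) X is profinite, i.e. compact,
Hausdorff and totally disconnected; (2) X is Hausdorff; (3) X is totally disconnected; (4) every
quasi-compact open subset of X is closed; (5) there are no nontrivial inclusions among prime ideals
of R; (6) every prime ideal of R is maximal; (7) every prime ideal of R is a minimal prime; (8)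
every standard open D(f) is closed. -/
theorem result {R : Type u} [CommRing R] :
    [CompactSpace (PrimeSpectrum R) ∧ T2Space (PrimeSpectrum R) ∧ TotallyDisconnectedSpace (PrimeSpectrum R),
      T2Space (PrimeSpectrum R),
      TotallyDisconnectedSpace (PrimeSpectrum R),
      ∀ W : Set (PrimeSpectrum R), IsOpen W → IsCompact W → IsClosed W,
      ∀ p q : PrimeSpectrum R, p ≤ q → p = q,
      ∀ p : Ideal R, p.IsPrime → p.IsMaximal,
      ∀ p : Ideal R, p.IsPrime → p ∈ minimalPrimes R,
      ∀ f : R, IsClosed (PrimeSpectrum.basicOpen f : Set (PrimeSpectrum R))].TFAE := by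
  tfae_have 1 → 2 := fun h ↦ h.2.1
  tfae_have 1 → 3 := fun h ↦ h.2.2
  tfae_have 2 → 4 := fun h W _ hW ↦ @IsCompact.isClosed _ _ h _ hW
  tfae_have 4 → 8 := fun h f ↦ h _ PrimeSpectrum.isOpen_basicOpen (PrimeSpectrum.isCompact_basicOpen f)
  tfae_have 3 → 5 := fun h p q hpq ↦ by
    have h1 : q ∈ closure ({p} : Set (PrimeSpectrum R)) := specializes_iff_mem_closure.mp ((PrimeSpectrum.le_iff_specializes p q).mp hpq)
    haveI := h
    rwa [closure_singleton, Set.mem_singleton_iff, eq_comm] at h1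
  tfae_have 5 → 6 := fun h p hp ↦ by
    obtain ⟨m, hm, hle⟩ := p.exists_le_maximal hp.ne_top
    have := congrArg PrimeSpectrum.asIdeal (h ⟨p, hp⟩ ⟨m, hm.isPrime⟩ hle)
    exact (show p = m from this) ▸ hm
  tfae_have 6 → 7 := fun h p hp ↦ ⟨⟨hp, bot_le⟩, fun q hq hle ↦ ((h q hq.1).eq_of_le hp.ne_top hle).ge⟩
  tfae_have 7 → 5 := fun h p q hpq ↦ PrimeSpectrum.ext (le_antisymm hpq ((h q.asIdeal q.2).2 ⟨p.2, bot_le⟩ hpq))
  tfae_have 5 → 8 := fun h f ↦ by
    rw [← PrimeSpectrum.localization_away_comap_range (Localization.Away f) f]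
    refine PrimeSpectrum.isClosed_range_of_stableUnderSpecialization _ fun x y hxy hx ↦ ?_
    rwa [← h x y ((PrimeSpectrum.le_iff_specializes x y).mpr hxy)]
  tfae_have 8 → 1 := fun h ↦ by
    have hsep : TotallySeparatedSpace (PrimeSpectrum R) := by
      rw [totallySeparatedSpace_iff_exists_isClopen]
      intro p q hpq
      have aux : ∀ a b : PrimeSpectrum R, ∀ f ∈ a.asIdeal, f ∉ b.asIdeal →
          ∃ U : Set (PrimeSpectrum R), IsClopen U ∧ b ∈ U ∧ a ∈ Uᶜ := fun a b f ha hb ↦
        ⟨_, ⟨h f, PrimeSpectrum.isOpen_basicOpen⟩, hb, fun hab ↦ hab ha⟩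
      by_cases hle : p.asIdeal ≤ q.asIdeal
      · obtain ⟨f, hfq, hfp⟩ := SetLike.exists_of_lt (lt_of_le_of_ne hle fun e ↦ hpq (PrimeSpectrum.ext e))
        obtain ⟨U, hU, h1, h2⟩ := aux q p f hfq hfp
        exact ⟨U, hU, h1, h2⟩
      · obtain ⟨f, hfp, hfq⟩ := SetLike.not_le_iff_exists.mp hle
        obtain ⟨U, hU, h1, h2⟩ := aux p q f hfp hfq
        exact ⟨Uᶜ, hU.compl, h2, by simpa using h1⟩
    exact ⟨inferInstance, inferInstance, inferInstance⟩
  tfae_finish

end Groth.Agent.S9633
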