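import Groth.Statements.S10420
import Groth.Agent.Lib.AlgSp.ElemEtale
-- import your own Groth.Agent.* helpers here

set_option autoImplicit false
universe u
open CategoryTheory CategoryTheory.Limits AlgebraicGeometry Topology TopologicalSpace
open AlgSp

namespace Groth.Agent.S10420

open GrothLib.AlgSp

variable {S : Scheme.{u}} {F : AlgSp.Sp S} {U₁ U₂ : Over S} {a₁ : (AlgSp.yon S).obj U₁ ⟶ F}
  {a₂ : (AlgSp.yon S).obj U₂ ⟶ F} {u₁ : ↥U₁.left} {u₂ : ↥U₂.left} {x : AlgSp.Points F}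

theorem exists_dominating (hF : AlgSp.IsAlgSpace F) (h₁ : IsElemEtaleNbhd a₁ u₁ x)
    (h₂ : IsElemEtaleNbhd a₂ u₂ x) :
    ∃ (U : Over S) (a : (AlgSp.yon S).obj U ⟶ F) (v : ↥U.left) (k₁ : U ⟶ U₁) (k₂ : U ⟶ U₂),
      IsElemEtaleNbhd a v x ∧ (AlgSp.yon S).map k₁ ≫ a₁ = a ∧ (AlgSp.yon S).map k₂ ≫ a₂ = a ∧
        k₁.left v = u₁ ∧ k₂.left v = u₂ := by
  have := h₁.mono
  have := h₂.mono
  obtain ⟨R, t, s, sq⟩ := exists_isPullback_yon hF.diag a₁ a₂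
  obtain ⟨c, hc⟩ := exists_factor_mono_point hF (FieldPt.ofPt a₂ u₂) (FieldPt.ofPt a₁ u₁)
    (h₂.ofPt_eq.trans h₁.ofPt_eq.symm)
  let ι₁ : (FieldPt.ofPt a₁ u₁).pt ⟶ U₁ := Over.homMk (U₁.left.fromSpecResidueField u₁) rfl
  let ι₂ : (FieldPt.ofPt a₂ u₂).pt ⟶ U₂ := Over.homMk (U₂.left.fromSpecResidueField u₂) rfl
  obtain ⟨g, hg₁, hg₂⟩ := exists_lift_yon sq ι₁ (c ≫ ι₂) (by
    rw [(AlgSp.yon S).map_comp, Category.assoc, ← FieldPt.toHom_ofPt, ← FieldPt.toHom_ofPt]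
    exact hc.symm)
  obtain ⟨v, hv, hiso, -, hvg⟩ := exists_isIso_residueFieldMap_of_lift t.left u₁ g.left
    (congrArg (fun f : _ ⟶ U₁ => f.left) hg₁)
  have hst : RepWith @Etale ((AlgSp.yon S).map t) := repWith_of_isPullback sq.flip h₂.etale
  refine ⟨R, (AlgSp.yon S).map t ≫ a₁, v, t, s, ⟨repWith_comp hst h₁.etale, ?_, ?_⟩, rfl, sq.w.symm, hv, ?_⟩
  · rw [ofPt_map_comp, hv]
    exact h₁.ofPt_eq
  · subst hv
    exact mono_ofPt_of_residueField t a₁ v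
  · rw [hvg, ← Scheme.Hom.comp_apply]
    have e : g.left ≫ s.left = c.left ≫ U₂.left.fromSpecResidueField u₂ :=
      congrArg (fun f : _ ⟶ U₂ => f.left) hg₂
    change (g.left ≫ s.left) _ = _
    rw [e, Scheme.Hom.comp_apply]
    exact U₂.left.fromSpecResidueField_apply u₂ _

theorem exists_equalizing (hF : AlgSp.IsAlgSpace F) (h₁ : IsElemEtaleNbhd a₁ u₁ x)
    (h₂ : IsElemEtaleNbhd a₂ u₂ x) {b c : U₁ ⟶ U₂} (hb : (AlgSp.yon S).map b ≫ a₂ = a₁)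
    (hc : (AlgSp.yon S).map c ≫ a₂ = a₁) (hbu : b.left u₁ = u₂) (hcu : c.left u₁ = u₂) :
    ∃ (U : Over S) (a : (AlgSp.yon S).obj U ⟶ F) (v : ↥U.left) (k : U ⟶ U₁),
      IsElemEtaleNbhd a v x ∧ (AlgSp.yon S).map k ≫ a₁ = a ∧ k.left v = u₁ ∧ k ≫ b = k ≫ c := by
  have := h₁.mono
  obtain ⟨R, t, s, sq⟩ := exists_isPullback_yon hF.diag a₂ a₂
  obtain ⟨d, hd₁, hd₂⟩ := exists_lift_yon sq (𝟙 U₂) (𝟙 U₂) rfl
  obtain ⟨e, he₁, he₂⟩ := exists_lift_yon sq b c (hb.trans hc.symm)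
  have hd₁' : d.left ≫ t.left = 𝟙 U₂.left := congrArg (fun f : _ ⟶ U₂ => f.left) hd₁
  have : Etale t.left := (repWith_yon_map_iff _ _).1 (repWith_of_isPullback sq.flip h₂.etale)
  have : Mono d.left := mono_of_mono_fac hd₁'
  have : Etale (d.left ≫ t.left) := by rw [hd₁']; infer_instance
  have : Etale d.left := Etale.of_comp d.left t.left
  have : IsOpenImmersion d.left := IsOpenImmersion.of_flat_of_mono d.left
  let ι₁ : (FieldPt.ofPt a₁ u₁).pt ⟶ U₁ := Over.homMk (U₁.left.fromSpecResidueField u₁) rfl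
  have hbc : ι₁ ≫ b = ι₁ ≫ c := by
    have key : ∀ (f : U₁ ⟶ U₂), f.left u₁ = u₂ → (AlgSp.yon S).map f ≫ a₂ = a₁ →
        ∃ m : (FieldPt.ofPt a₁ u₁).pt ⟶ (FieldPt.ofPt a₂ u₂).pt,
          ι₁ ≫ f = m ≫ Over.homMk (U₂.left.fromSpecResidueField u₂) rfl ∧
          (AlgSp.yon S).map m ≫ (FieldPt.ofPt a₂ u₂).toHom = (FieldPt.ofPt a₁ u₁).toHom := by
      intro f hfu hfa
      subst hfu
      let m : (FieldPt.ofPt a₁ u₁).pt ⟶ (FieldPt.ofPt a₂ (f.left u₁)).pt :=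
        Over.homMk (Spec.map (f.left.residueFieldMap u₁)) (by
          change Spec.map _ ≫ U₂.left.fromSpecResidueField _ ≫ U₂.hom =
            U₁.left.fromSpecResidueField u₁ ≫ U₁.hom
          rw [Scheme.Hom.SpecMap_residueFieldMap_fromSpecResidueField_assoc, Over.w])
      have hm : ι₁ ≫ f = m ≫ Over.homMk (U₂.left.fromSpecResidueField (f.left u₁)) rfl :=
        Over.OverMorphism.ext (f.left.SpecMap_residueFieldMap_fromSpecResidueField u₁).symm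
      refine ⟨m, hm, ?_⟩
      rw [FieldPt.toHom_ofPt, FieldPt.toHom_ofPt, ← Functor.map_comp_assoc, ← hm, Functor.map_comp_assoc,
        hfa]
    obtain ⟨mb, hmb, emb⟩ := key b hbu hb
    obtain ⟨mc, hmc, emc⟩ := key c hcu hc
    have := h₂.mono
    have : mb = mc := (AlgSp.yon S).map_injective ((cancel_mono _).1 (emb.trans emc.symm))
    rw [hmb, hmc, this]
  have hmem : u₁ ∈ e.left ⁻¹ᵁ d.left.opensRange := by
    have h3 : ι₁ ≫ e = (ι₁ ≫ b) ≫ d := (AlgSp.yon S).map_injective (sq.hom_ext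
      (by rw [← Functor.map_comp, ← Functor.map_comp, Category.assoc, Category.assoc, he₁, hd₁,
        Category.comp_id])
      (by rw [← Functor.map_comp, ← Functor.map_comp, Category.assoc, Category.assoc, he₂, hd₂,
        Category.comp_id, hbc]))
    have h4 : U₁.left.fromSpecResidueField u₁ ≫ e.left = (ι₁ ≫ b).left ≫ d.left :=
      congrArg (fun f : _ ⟶ R => f.left) h3
    refine ⟨(ι₁ ≫ b).left (IsLocalRing.closedPoint (U₁.left.residueField u₁)), ?_⟩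
    rw [← Scheme.Hom.comp_apply]
    change ((ι₁ ≫ b).left ≫ d.left) _ = _
    rw [← h4]
    exact congrArg e.left (U₁.left.fromSpecResidueField_apply u₁ _)
  let V := e.left ⁻¹ᵁ d.left.opensRange
  let k : Over.mk (V.ι ≫ U₁.hom) ⟶ U₁ := Over.homMk V.ι rfl
  have : IsOpenImmersion k.left := inferInstanceAs (IsOpenImmersion V.ι)
  have hkb : k ≫ b = k ≫ c := by
    obtain ⟨l, hl⟩ : ∃ l, l ≫ d.left = V.ι ≫ e.left := ⟨_, IsOpenImmersion.lift_fac d.left (V.ι ≫ e.left) (by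
      rintro _ ⟨z, rfl⟩
      exact z.2)⟩
    have hd₂' : d.left ≫ s.left = 𝟙 U₂.left := congrArg (fun f : _ ⟶ U₂ => f.left) hd₂
    have he₁' : e.left ≫ t.left = b.left := congrArg (fun f : _ ⟶ U₂ => f.left) he₁
    have he₂' : e.left ≫ s.left = c.left := congrArg (fun f : _ ⟶ U₂ => f.left) he₂
    apply Over.OverMorphism.ext
    change V.ι ≫ b.left = V.ι ≫ c.left
    rw [← he₁', ← he₂', ← reassoc_of% hl, ← reassoc_of% hl, hd₁', hd₂']
  refine ⟨_, (AlgSp.yon S).map k ≫ a₁, ⟨u₁, hmem⟩, k, ⟨repWith_comp ((repWith_yon_map_iff _ _).2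
    (inferInstanceAs (Etale k.left))) h₁.etale, ?_, ?_⟩, rfl, rfl, hkb⟩
  · rw [ofPt_map_comp]
    exact h₁.ofPt_eq
  · have : Mono (FieldPt.ofPt a₁ (k.left (⟨u₁, hmem⟩ : ↥V))).toHom := h₁.mono
    exact mono_ofPt_of_residueField k a₁ _

end Groth.Agent.S10420

namespace Groth.Agent.S10420

/-- For a decent algebraic space X over a scheme S and x ∈ |X|, the category of elementary etale
neighbourhoods (U, u) ⟶ (X, x) is cofiltered: two objects are dominated by a third and two parallel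
morphisms are equalized from some object (it is nonempty by the existence of elementary etale
neighbourhoods). -/
theorem result {S : Scheme.{u}} (X : AlgSp.Space S) (hX : AlgSp.IsDecent X.obj)
    (x : AlgSp.Points X.obj) :
    (∀ (U₁ U₂ : Over S) (a₁ : (AlgSp.yon S).obj U₁ ⟶ X.obj) (a₂ : (AlgSp.yon S).obj U₂ ⟶ X.obj) (u₁ : ↥U₁.left)
        (u₂ : ↥U₂.left), AlgSp.IsElemEtaleNbhd a₁ u₁ x → AlgSp.IsElemEtaleNbhd a₂ u₂ x →
        ∃ (U : Over S) (a : (AlgSp.yon S).obj U ⟶ X.obj) (v : ↥U.left) (h₁ : U ⟶ U₁) (h₂ : U ⟶ U₂),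
          AlgSp.IsElemEtaleNbhd a v x ∧ (AlgSp.yon S).map h₁ ≫ a₁ = a ∧ (AlgSp.yon S).map h₂ ≫ a₂ = a ∧
            h₁.left v = u₁ ∧ h₂.left v = u₂) ∧
      (∀ (U₁ U₂ : Over S) (a₁ : (AlgSp.yon S).obj U₁ ⟶ X.obj) (a₂ : (AlgSp.yon S).obj U₂ ⟶ X.obj) (u₁ : ↥U₁.left)
        (u₂ : ↥U₂.left) (b c : U₁ ⟶ U₂), AlgSp.IsElemEtaleNbhd a₁ u₁ x → AlgSp.IsElemEtaleNbhd a₂ u₂ x →
        (AlgSp.yon S).map b ≫ a₂ = a₁ → (AlgSp.yon S).map c ≫ a₂ = a₁ → b.left u₁ = u₂ → c.left u₁ = u₂ →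
        ∃ (U : Over S) (a : (AlgSp.yon S).obj U ⟶ X.obj) (v : ↥U.left) (h : U ⟶ U₁),
          AlgSp.IsElemEtaleNbhd a v x ∧ (AlgSp.yon S).map h ≫ a₁ = a ∧ h.left v = u₁ ∧ h ≫ b = h ≫ c) := by
  refine ⟨fun U₁ U₂ a₁ a₂ u₁ u₂ h₁ h₂ => exists_dominating X.property h₁ h₂,
    fun U₁ U₂ a₁ a₂ u₁ u₂ b c h₁ h₂ hb hc hbu hcu => exists_equalizing X.property h₁ h₂ hb hc hbu hcu⟩

end Groth.Agent.S10420
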