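import Groth.Statements.S10217
import Groth.Agent.Lib.AlgSp.GeomNbhd
import Groth.Agent.Lib.AlgSp.FlatFibres
-- import your own Groth.Agent.* helpers here

set_option autoImplicit false
universe u
open CategoryTheory CategoryTheory.Limits AlgebraicGeometry Topology TopologicalSpace
open AlgSp
set_option backward.isDefEq.respectTransparency false

namespace Groth.Agent.S10217

/-- Let X be an algebraic space over a scheme S and x̄ a geometric point of X. Then the category of
etale neighbourhoods of x̄ (schemes etale over X with a lift of x̄) is cofiltered: it is nonempty,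
any two neighbourhoods are dominated by a third, and any two morphisms between neighbourhoods are
equalised by a morphism from a further neighbourhood. -/
theorem result {S : Scheme.{u}} (X : AlgSp.Space S) (p : AlgSp.FieldPt X.obj) (hp : p.IsGeometric) :
    IsCofiltered (AlgSp.EtNbhd p) := by
  obtain ⟨E₀, ⟨u₀⟩⟩ := GrothLib.AlgSp.nonempty_liftsTo p X.property hp
  haveI : Nonempty (AlgSp.EtNbhd p) := ⟨⟨E₀, u₀⟩⟩
  haveI : IsCofilteredOrEmpty (AlgSp.EtNbhd p) := by
    refine ⟨fun N N' => ?_, fun {N N'} f g => ?_⟩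
    · obtain ⟨R, t, s, sq⟩ := GrothLib.AlgSp.exists_isPullback_yon X.property.diag N.1.obj.hom N'.1.obj.hom
      have ht : Etale t.left := N'.1.property.2 _ _ _ sq.flip
      let E'' : AlgSp.EtOver X.obj := AlgSp.EtOver.mk ((AlgSp.yon S).map t ≫ N.1.obj.hom)
        (GrothLib.AlgSp.repWith_comp ((AlgSp.repWith_yon_map_iff _ _).2 ht) N.1.property)
      obtain ⟨l, hl⟩ := (AlgSp.yon S).map_surjective (sq.lift ((AlgSp.yon S).map N.2.1) ((AlgSp.yon S).map N'.2.1)
        (N.2.2.trans N'.2.2.symm))
      have h₁ : l ≫ t = N.2.1 := (AlgSp.yon S).map_injective (by rw [Functor.map_comp, hl, sq.lift_fst])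
      have h₂ : l ≫ s = N'.2.1 := (AlgSp.yon S).map_injective (by rw [Functor.map_comp, hl, sq.lift_snd])
      have hu : (AlgSp.yon S).map l ≫ E''.obj.hom = p.toHom := by
        change (AlgSp.yon S).map l ≫ (AlgSp.yon S).map t ≫ N.1.obj.hom = p.toHom
        rw [← Functor.map_comp_assoc, h₁]
        exact N.2.2
      exact ⟨⟨E'', ⟨l, hu⟩⟩, ⟨AlgSp.EtOver.homMk t rfl, Subtype.ext h₁⟩,
        ⟨AlgSp.EtOver.homMk s sq.w.symm, Subtype.ext h₂⟩, trivial⟩
    · obtain ⟨R, t, s, sq⟩ := GrothLib.AlgSp.exists_isPullback_yon X.property.diag N'.1.obj.hom N'.1.obj.hom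
      have ht : Etale t.left := N'.1.property.2 _ _ _ sq.flip
      obtain ⟨δ, hδ⟩ := (AlgSp.yon S).map_surjective (sq.lift (𝟙 _) (𝟙 _) rfl)
      have hδt : δ ≫ t = 𝟙 _ := (AlgSp.yon S).map_injective (by
        rw [Functor.map_comp, hδ, sq.lift_fst, CategoryTheory.Functor.map_id])
      have hδs : δ ≫ s = 𝟙 _ := (AlgSp.yon S).map_injective (by
        rw [Functor.map_comp, hδ, sq.lift_snd, CategoryTheory.Functor.map_id])
      haveI : Etale δ.left := by
        haveI : Etale (δ.left ≫ t.left) := by rw [← Over.comp_left, hδt, Over.id_left]; infer_instance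
        haveI := ht
        exact Etale.of_comp δ.left t.left
      obtain ⟨m, hm⟩ := (AlgSp.yon S).map_surjective (sq.lift ((AlgSp.yon S).map f.1.hom.left)
        ((AlgSp.yon S).map g.1.hom.left) ((AlgSp.EtOver.w f.1).trans (AlgSp.EtOver.w g.1).symm))
      have hm₁ : m ≫ t = f.1.hom.left := (AlgSp.yon S).map_injective (by rw [Functor.map_comp, hm, sq.lift_fst])
      have hm₂ : m ≫ s = g.1.hom.left := (AlgSp.yon S).map_injective (by rw [Functor.map_comp, hm, sq.lift_snd])
      haveI : Etale (pullback.snd δ m).left :=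
        MorphismProperty.of_isPullback (GrothLib.AlgSp.isPullback_left (IsPullback.of_hasPullback δ m)) ‹Etale δ.left›
      let E'' : AlgSp.EtOver X.obj := AlgSp.EtOver.mk ((AlgSp.yon S).map (pullback.snd δ m) ≫ N.1.obj.hom)
        (GrothLib.AlgSp.repWith_comp ((AlgSp.repWith_yon_map_iff _ _).2 ‹_›) N.1.property)
      have hf : N.2.1 ≫ f.1.hom.left = N'.2.1 := congrArg Subtype.val f.2
      have hg : N.2.1 ≫ g.1.hom.left = N'.2.1 := congrArg Subtype.val g.2
      have hl : N'.2.1 ≫ δ = N.2.1 ≫ m := (AlgSp.yon S).map_injective (sq.hom_ext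
        (by rw [← Functor.map_comp, ← Functor.map_comp, Category.assoc, Category.assoc, hδt, hm₁, Category.comp_id, hf])
        (by rw [← Functor.map_comp, ← Functor.map_comp, Category.assoc, Category.assoc, hδs, hm₂, Category.comp_id, hg]))
      let l := pullback.lift N'.2.1 N.2.1 hl
      have hu : (AlgSp.yon S).map l ≫ E''.obj.hom = p.toHom := by
        change (AlgSp.yon S).map l ≫ (AlgSp.yon S).map (pullback.snd δ m) ≫ N.1.obj.hom = p.toHom
        rw [← Functor.map_comp_assoc, pullback.lift_snd]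
        exact N.2.2
      refine ⟨⟨E'', ⟨l, hu⟩⟩, ⟨AlgSp.EtOver.homMk (pullback.snd δ m) rfl, Subtype.ext (pullback.lift_snd _ _ _)⟩, ?_⟩
      apply CategoryOfElements.ext
      apply AlgSp.EtOver.hom_ext
      change pullback.snd δ m ≫ f.1.hom.left = pullback.snd δ m ≫ g.1.hom.left
      rw [← hm₁, ← hm₂, ← pullback.condition_assoc, ← pullback.condition_assoc, hδt, hδs]
  exact {}

end Groth.Agent.S10217
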