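import Groth.Statements.S0656
import Groth.Agent.Lib.EtPoint18.Basic
-- import your own Groth.Agent.* helpers here

set_option autoImplicit false
open CategoryTheory CategoryTheory.Limits AlgebraicGeometry Opposite
universe u
open EtCore

namespace Groth.Agent.S0656

/-- Let p be a point, in the sense of a fibre functor on etale S-schemes, of the site S_etale (Mathlib's
notion of point of a site: cofiltered category of elements, jointly surjective on coverings). Then
there is a geometric point ξ of S such that the fibre functor of p is isomorphic to the fibre
functor of the point attached to ξ (etale neighbourhoods of ξ). -/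
theorem result (S : Scheme.{u}) (p : GrothendieckTopology.Point.{u} S.smallEtaleTopology) :
    ∃ (Ω : Type u) (_ : Field Ω) (_ : IsSepClosed Ω) (ξ : Spec (CommRingCat.of Ω) ⟶ S),
      Nonempty (p.fiber ≅ (Scheme.pointSmallEtale ξ).fiber) := GrothLib.EtPoint18.exists_iso S p

end Groth.Agent.S0656
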