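import Groth.Agent.Lib.AlgSp.DecentBridge
import Groth.Statements.S10390
-- import your own Groth.Agent.* helpers here

set_option autoImplicit false
universe u
open CategoryTheory CategoryTheory.Limits AlgebraicGeometry Topology TopologicalSpace
open AlgSp

namespace Groth.Agent.S10390

/-- Let S be a scheme, X and Y algebraic spaces over S, and f : X ⟶ Y a morphism, and let y ∈ |Y| be a
point represented by a monomorphism Spec k ⟶ Y which is representable quasi-compact. Then for the
fibre X_k = Spec k ×_Y X the map |X_k| → |X| is a homeomorphism of |X_k| onto f⁻¹({y}) with its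
induced topology. -/
theorem result {S : Scheme.{u}} {X Y : AlgSp.Space S} (f : X ⟶ Y)
    (r : AlgSp.FieldPt Y.obj) (hm : Mono r.toHom) (hq : AlgSp.RepWith @QuasiCompact r.toHom)
    (Xk : AlgSp.Space S) (fst : Xk ⟶ X) (snd : Xk.obj ⟶ (AlgSp.yon S).obj r.pt) (hsq : IsPullback fst.hom snd f.hom r.toHom) :
    IsEmbedding (AlgSp.Points.map fst.hom) ∧
      Set.range (AlgSp.Points.map fst.hom) = AlgSp.Points.map f.hom ⁻¹' {AlgSp.Points.mk r} := by
  haveI := hm
  obtain ⟨V, q, qe, qs⟩ := Y.property.atlas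
  obtain ⟨U, a, α, ae, hα, as⟩ := GrothLib.AlgSp.exists_chart_over X.property Y.property f.hom q qe
  have as := as qs
  obtain ⟨W, c, d, sqW⟩ := GrothLib.AlgSp.exists_isPullback_yon Y.property.diag r.toHom q
  haveI := GrothLib.AlgSp.isPreimmersion_of_mono_fibre Y.property r hq qe sqW
  have sqP := IsPullback.of_hasPullback d α
  haveI : IsPreimmersion (pullback.snd d α).left :=
    MorphismProperty.of_isPullback (GrothLib.AlgSp.isPullback_left sqP) ‹IsPreimmersion d.left›
  let P := pullback d α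
  have hw : ((AlgSp.yon S).map (pullback.snd d α) ≫ a) ≫ f.hom = ((AlgSp.yon S).map (pullback.fst d α ≫ c)) ≫ r.toHom := by
    rw [Category.assoc, hα, ← Category.assoc, ← Functor.map_comp, ← pullback.condition, Functor.map_comp, Category.assoc,
      ← sqW.w, Functor.map_comp, Category.assoc]
  let l := hsq.lift _ _ hw
  haveI : Mono fst.hom :=
    MorphismProperty.of_isPullback (P := MorphismProperty.monomorphisms (AlgSp.Sp S)) hsq.flip hm
  have hinj := GrothLib.AlgSp.injective_map_of_mono fst.hom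
  have hpt : ∀ w : ↥P.left, AlgSp.Points.map fst.hom (AlgSp.Points.ofPt l w) = AlgSp.Points.ofPt a ((pullback.snd d α).left w) := fun w => by
    rw [AlgSp.Points.map_ofPt, hsq.lift_fst, GrothLib.AlgSp.ofPt_map_comp]
  have hrange : ∀ z, AlgSp.Points.map f.hom (AlgSp.Points.map fst.hom z) = AlgSp.Points.mk r := fun z => by
    rw [← AlgSp.Points.map_comp, hsq.w, AlgSp.Points.map_comp]
    obtain ⟨t, ht⟩ := (AlgSp.Points.schemeEquiv r.pt).surjective (AlgSp.Points.map snd z)
    rw [← ht]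
    show AlgSp.Points.map r.toHom (AlgSp.Points.ofScheme r.pt t) = _
    rw [← AlgSp.Points.ofPt_eq_map_ofScheme, AlgSp.Points.ofPt_toHom]
  have hlift : ∀ u : ↥U.left, AlgSp.Points.map f.hom (AlgSp.Points.ofPt a u) = AlgSp.Points.mk r →
      ∃ w : ↥P.left, (pullback.snd d α).left w = u := by
    intro u hu
    rw [AlgSp.Points.map_ofPt, hα, GrothLib.AlgSp.ofPt_map_comp] at hu
    obtain ⟨-, -, hr⟩ := GrothLib.AlgSp.mono_fibre_facts Y.property r sqW
    obtain ⟨w, hw'⟩ : α.left u ∈ Set.range d.left := hr ▸ Set.mem_singleton_iff.2 hu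
    obtain ⟨z, -, hz⟩ := Scheme.Pullback.exists_preimage_pullback w u hw'
    exact ⟨(GrothLib.AlgSp.isPullback_left sqP).isoPullback.inv z, by rw [← Scheme.Hom.comp_apply, IsPullback.isoPullback_inv_snd, hz]⟩
  have hao := GrothLib.AlgSp.isOpenMap_ofPt_of_etale ae
  refine ⟨⟨.mk (le_antisymm (AlgSp.Points.continuous_map fst.hom).le_induced fun A hA => ?_), hinj⟩,
    Set.ext fun x => ⟨fun ⟨z, hz⟩ => hz ▸ hrange z, fun hx => ?_⟩⟩
  · have hA' : IsOpen (AlgSp.Points.ofPt l ⁻¹' A) := hA.preimage (AlgSp.Points.continuous_ofPt l)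
    obtain ⟨O, hO, hOA⟩ := (pullback.snd d α).left.isEmbedding.isInducing.isOpen_iff.1 hA'
    refine isOpen_induced_iff.2 ⟨_, hao _ hO, Set.ext fun z => ⟨?_, fun hz => ?_⟩⟩
    · rintro ⟨o, ho, he⟩
      obtain ⟨w, rfl⟩ := hlift o (he ▸ hrange z)
      have : z = AlgSp.Points.ofPt l w := hinj ((hpt w).trans he).symm
      rw [this]
      exact (show w ∈ AlgSp.Points.ofPt l ⁻¹' A from hOA ▸ ho)
    · obtain ⟨u, hu⟩ := GrothLib.AlgSp.surjective_ofPt_of_repWith as (AlgSp.Points.map fst.hom z)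
      obtain ⟨w, rfl⟩ := hlift u (hu ▸ hrange z)
      have : z = AlgSp.Points.ofPt l w := hinj ((hpt w).trans hu).symm
      exact ⟨_, (show w ∈ (pullback.snd d α).left ⁻¹' O from hOA ▸ (show AlgSp.Points.ofPt l w ∈ A from this ▸ hz)), hu⟩
  · obtain ⟨u, rfl⟩ := GrothLib.AlgSp.surjective_ofPt_of_repWith as x
    obtain ⟨w, rfl⟩ := hlift u hx
    exact ⟨_, hpt w⟩

end Groth.Agent.S10390
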