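import Groth.Statements.S1312
import Groth.Agent.Lib.Thickening.Morphisms
-- import your own Groth.Agent.* helpers here

set_option autoImplicit false
universe u
open FlatMor

namespace Groth.Agent.S1312

open CategoryTheory CategoryTheory.Limits AlgebraicGeometry

open AlgebraicGeometry CategoryTheory Limits in
/-- Let Y ⟶ Y' be a thickening, let X be the base change to Y of a scheme X' over Y', and assume both X
⟶ Y and X' ⟶ Y' are locally of finite type. Then X ⟶ Y is locally quasi-finite if and only if X' ⟶
Y' is. -/
theorem result {X X' Y Y' : Scheme.{u}} (iX : X ⟶ X') (iY : Y ⟶ Y') (f : X ⟶ Y) (f' : X' ⟶ Y')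
    (hY : MoreMor.IsThickening iY) (hc : IsPullback iX f f' iY) [LocallyOfFiniteType f] [LocallyOfFiniteType f'] :
    LocallyQuasiFinite f ↔ LocallyQuasiFinite f' := by
  have := hY.1
  have := hY.2
  refine ⟨fun _ => ?_, fun _ => MorphismProperty.of_isPullback (P := @LocallyQuasiFinite) hc ‹_›⟩
  have : IsClosedImmersion iX := MorphismProperty.of_isPullback hc.flip ‹_›
  have : Surjective iX := MorphismProperty.of_isPullback (P := @Surjective) hc.flip ‹_›
  rw [locallyQuasiFinite_iff_isDiscrete_preimage_singleton]
  intro y'
  obtain ⟨y, rfl⟩ := iY.surjective y'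
  let e := iX.isClosedEmbedding.isEmbedding.toHomeomorphOfSurjective iX.surjective
  have hf := (locallyQuasiFinite_iff_isDiscrete_preimage_singleton.mp ‹_›) y
  convert (hf.preimage e.symm.continuous.continuousOn e.symm.injective) using 1
  ext x'
  obtain ⟨x, rfl⟩ := e.surjective x'
  simp only [Set.mem_preimage, Set.mem_singleton_iff, Homeomorph.symm_apply_apply]
  change f' (iX x) = iY y ↔ f x = y
  rw [← Scheme.Hom.comp_apply, hc.w, Scheme.Hom.comp_apply]
  exact iY.isClosedEmbedding.injective.eq_iff

end Groth.Agent.S1312
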