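import Groth.Statements.S1240
import Groth.Agent.Lib.FibreDimAt6.DenseBase
-- import your own Groth.Agent.* helpers here

set_option autoImplicit false
universe u
open FlatMor

namespace Groth.Agent.S1240

open AlgebraicGeometry CategoryTheory in
/-- Let f : X → S be flat and locally of finite type and U ⊆ S a dense open such that the fibres of f at
points over U have local dimension at most e everywhere. If f is locally of finite presentation, or
U is retrocompact in S, then every fibre of f has local dimension at most e at every point. -/
theorem result {X S : Scheme.{u}} (f : X ⟶ S) [Flat f] [LocallyOfFiniteType f]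
    (U : S.Opens) (hU : Dense (U : Set S)) (e : ℕ)
    (hle : ∀ x : X, f.base x ∈ U → FlatMor.fibreDimAt f x ≤ e)
    (h : LocallyOfFinitePresentation f ∨ IsRetrocompact (U : Set S)) (x : X) :
    FlatMor.fibreDimAt f x ≤ e := by
    exact GrothLib.FibreDimAt6.fibreDimAt_le_over_dense f U hU e hle h x

end Groth.Agent.S1240
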