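import Groth.Statements.S1386
import Groth.Agent.Lib.FibreFlat.FibreMap
import Groth.Agent.Lib.FibreFlat.OpenScheme
import Groth.Agent.Lib.Flatness.Fibre
import Groth.Agent.Lib.DiagGrp.KernelFP
-- import your own Groth.Agent.* helpers here

set_option autoImplicit false
universe u
open FlatMor

namespace Groth.Agent.S1386

open AlgebraicGeometry CategoryTheory Limits in
/-- Fibrewise flatness criterion (critère de platitude par fibres), for the structure sheaf: let f : X →
Y and g : Y → S be morphisms of schemes with X locally of finite presentation over S (via g ∘ f) and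
Y locally of finite type over S. For a point x of X with images y = f(x) and s = g(y) the following
are equivalent: (1) X → S is flat at x and the induced morphism of fibres X_s → Y_s is flat at x;
(2) Y → S is flat at y and f is flat at x. Moreover the set of points x at which (2) holds is open
in X. The published statement treats a finitely presented quasi-coherent O_X-module; here the module
is O_X. -/
theorem result {X Y S : Scheme.{u}} (f : X ⟶ Y) (g : Y ⟶ S) [LocallyOfFinitePresentation (f ≫ g)] [LocallyOfFiniteType g] :
    (∀ x : X, ((f ≫ g).stalkMap x).hom.Flat ∧ ((MoreMor.fiberMap f g (g (f x))).stalkMap ((f ≫ g).asFiber x)).hom.Flat ↔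
        (g.stalkMap (f x)).hom.Flat ∧ (f.stalkMap x).hom.Flat) ∧
      IsOpen {x : ↑X | (g.stalkMap (f x)).hom.Flat ∧ (f.stalkMap x).hom.Flat} := by
    have h1 : ∀ x : X, ((f ≫ g).stalkMap x).hom.Flat ∧
        ((MoreMor.fiberMap f g (g (f x))).stalkMap ((f ≫ g).asFiber x)).hom.Flat ↔
          (g.stalkMap (f x)).hom.Flat ∧ (f.stalkMap x).hom.Flat := fun x => by
      rw [GrothLib.FibreFlat.flat_fiberMap_stalkMap_iff f g (g (f x)) ((f ≫ g).asFiber x) x
        ((f ≫ g).fiberι_asFiber x)]
      exact GrothLib.FibreFlat.critere_par_fibres f g x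
    refine ⟨h1, ?_⟩
    haveI : LocallyOfFinitePresentation f :=
    GrothLib.DiagGrp.lfp_of_comp_of_lft f g inferInstance inferInstance
    convert! (GrothLib.FibreFlat.isOpen_flat_stalkMap f).inter
      (GrothLib.FibreFlat.isOpen_flat_stalkMap (f ≫ g)) using 1
    ext x
    constructor
    · rintro ⟨hg, hf⟩
      refine ⟨hf, ?_⟩
      show ((f ≫ g).stalkMap x).hom.Flat
      rw [Scheme.Hom.stalkMap_comp]
      exact RingHom.Flat.comp hg hf
    · rintro ⟨hf, hfg⟩
      refine ⟨?_, hf⟩
      letI := (g.stalkMap (f x)).hom.toAlgebra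
      letI := (f.stalkMap x).hom.toAlgebra
      letI : Algebra (S.presheaf.stalk (g (f x))) (X.presheaf.stalk x) :=
        ((f ≫ g).stalkMap x).hom.toAlgebra
      haveI : IsScalarTower (S.presheaf.stalk (g (f x))) (Y.presheaf.stalk (f x)) (X.presheaf.stalk x) :=
        IsScalarTower.of_algebraMap_eq fun r => by
          show ((f ≫ g).stalkMap x).hom r = _
          rw [Scheme.Hom.stalkMap_comp]
          rfl
      haveI : IsLocalHom (algebraMap (Y.presheaf.stalk (f x)) (X.presheaf.stalk x)) :=
        inferInstanceAs (IsLocalHom (f.stalkMap x).hom)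
      haveI : Module.Flat (Y.presheaf.stalk (f x)) (X.presheaf.stalk x) := hf
      haveI : Module.Flat (S.presheaf.stalk (g (f x))) (X.presheaf.stalk x) := hfg
      haveI : Module.FaithfullyFlat (Y.presheaf.stalk (f x)) (X.presheaf.stalk x) :=
        GrothLib.Flatness.faithfullyFlat_of_finite (R := Y.presheaf.stalk (f x))
          (S := X.presheaf.stalk x) (M := X.presheaf.stalk x)
      exact GrothLib.Flatness.flat_of_faithfullyFlat (R := S.presheaf.stalk (g (f x)))
        (S := Y.presheaf.stalk (f x)) (M := X.presheaf.stalk x)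

end Groth.Agent.S1386
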