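import Groth.Statements.S3433
import Groth.Agent.Lib.ArtinTate.Space

set_option autoImplicit false
universe u
open EGA43

namespace Groth.Agent.S3433

/-- Let A be a Noetherian local ring with maximal ideal m and let Y be the punctured spectrum Spec A ∖
{m}. Then Y is a Jacobson space, and a point p of Y is closed in Y if and only if dim A/p = 1. -/
theorem result (A : Type u) [CommRing A] [IsNoetherianRing A] [IsLocalRing A] :
    JacobsonSpace ↥({IsLocalRing.closedPoint A}ᶜ : Set (PrimeSpectrum A)) ∧
      ∀ p : ↥({IsLocalRing.closedPoint A}ᶜ : Set (PrimeSpectrum A)),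
        IsClosed ({p} : Set ↥({IsLocalRing.closedPoint A}ᶜ : Set (PrimeSpectrum A))) ↔
          ringKrullDim (A ⧸ p.1.asIdeal) = 1 := by
  have hd : ∀ (p q : PrimeSpectrum A), p.asIdeal ≤ q.asIdeal → q ∈ ({IsLocalRing.closedPoint A}ᶜ : Set _) →
      p ∈ ({IsLocalRing.closedPoint A}ᶜ : Set _) := fun p q hpq hq hp => hq (by
    rw [Set.mem_singleton_iff] at hp ⊢
    exact PrimeSpectrum.ext ((IsLocalRing.le_maximalIdeal q.2.ne_top).antisymm (by rw [hp] at hpq; exact hpq)))
  refine ⟨?_, fun p => ?_⟩
  · rw [jacobsonSpace_iff_locallyClosed]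
    intro Z hne hZ
    have hr : IsLocallyClosed (Set.range ((↑) : ↥({IsLocalRing.closedPoint A}ᶜ : Set (PrimeSpectrum A)) →
        PrimeSpectrum A)) := by
      rw [Subtype.range_coe]
      exact ((PrimeSpectrum.isClosed_singleton_iff_isMaximal _).2
        (IsLocalRing.maximalIdeal.isMaximal A)).isOpen_compl.isLocallyClosed
    obtain ⟨_, ⟨y, hy, rfl⟩, hyl⟩ := GrothLib.ArtinTate.exists_isLocallyClosed_mem (AlgebraicGeometry.Spec (CommRingCat.of A))
      (hZ.image Topology.IsInducing.subtypeVal hr) (hne.image _)
    refine ⟨y, hy, isClosed_of_closure_subset fun z hz => ?_⟩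
    rw [closure_subtype, Set.image_singleton] at hz
    by_contra hzy
    have hzm := GrothLib.ArtinTate.eq_of_specializes_of_isLocallyClosed (A := A) (P := y.1) (Q := z.1)
      (R := IsLocalRing.closedPoint A) hyl (specializes_iff_mem_closure.2 hz)
      ((PrimeSpectrum.le_iff_specializes _ _).1 (IsLocalRing.le_maximalIdeal z.1.2.ne_top))
      fun e => hzy (Subtype.ext e)
    exact z.2 hzm.symm
  · haveI : Nontrivial (A ⧸ p.1.asIdeal) := Ideal.Quotient.nontrivial_iff.2 p.1.2.ne_top
    constructor
    · intro hp
      refine le_antisymm ?_ ?_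
      · have hmk : Ring.KrullDimLE 1 (A ⧸ p.1.asIdeal) := Ring.KrullDimLE.mk₁' fun P hne hP => by
          haveI := hP
          let q : PrimeSpectrum A := ⟨P.comap (Ideal.Quotient.mk p.1.asIdeal), Ideal.comap_isPrime _ P⟩
          have hpq : p.1.asIdeal ≤ q.asIdeal := fun x hx => by
            rw [Ideal.mem_comap, Ideal.Quotient.eq_zero_iff_mem.2 hx]
            exact zero_mem P
          by_cases hqm : q = IsLocalRing.closedPoint A
          · have : q.asIdeal = IsLocalRing.maximalIdeal A := congrArg PrimeSpectrum.asIdeal hqm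
            have hq : q.asIdeal.IsMaximal := this ▸ IsLocalRing.maximalIdeal.isMaximal A
            have h := Ideal.map_eq_top_or_isMaximal_of_surjective (Ideal.Quotient.mk p.1.asIdeal)
              Ideal.Quotient.mk_surjective hq
            rw [Ideal.map_comap_of_surjective _ Ideal.Quotient.mk_surjective] at h
            exact h.resolve_left hP.ne_top
          · exfalso
            have hmem : (⟨q, hqm⟩ : ↥({IsLocalRing.closedPoint A}ᶜ : Set (PrimeSpectrum A))) ∈ closure {p} := by
              rw [closure_subtype, Set.image_singleton]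
              exact specializes_iff_mem_closure.1 ((PrimeSpectrum.le_iff_specializes p.1 q).1 hpq)
            rw [hp.closure_eq, Set.mem_singleton_iff] at hmem
            refine hne ?_
            rw [← Ideal.map_comap_of_surjective _ Ideal.Quotient.mk_surjective P]
            show Ideal.map _ q.asIdeal = ⊥
            rw [show q = p.1 from congrArg Subtype.val hmem, Ideal.map_quotient_self]
        simpa using Ring.krullDimLE_iff.1 hmk
      · by_contra hlt
        haveI : Ring.KrullDimLE 0 (A ⧸ p.1.asIdeal) := Ring.krullDimLE_iff.2 (by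
          have := not_le.1 hlt
          rw [← zero_add (1 : WithBot ℕ∞)] at this
          simpa using ENat.WithBot.lt_add_one_iff.1 this)
        have hb : (⊥ : Ideal (A ⧸ p.1.asIdeal)).IsMaximal := Ideal.IsPrime.isMaximal' Ideal.bot_prime
        have hpm := Ideal.Quotient.maximal_of_isField p.1.asIdeal (Ring.isField_iff_maximal_bot.2 hb)
        exact p.2 (PrimeSpectrum.ext (IsLocalRing.eq_maximalIdeal hpm))
    · intro hdim
      refine isClosed_of_closure_subset fun z hz => ?_
      rw [closure_subtype, Set.image_singleton] at hz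
      have hle : p.1.asIdeal ≤ z.1.asIdeal :=
        (PrimeSpectrum.le_iff_specializes _ _).2 (specializes_iff_mem_closure.2 hz)
      by_contra hzy
      haveI : Ring.KrullDimLE 1 (A ⧸ p.1.asIdeal) := Ring.krullDimLE_iff.2 (by simp [hdim])
      have hker : RingHom.ker (Ideal.Quotient.mk p.1.asIdeal) ≤ z.1.asIdeal := by rwa [Ideal.mk_ker]
      haveI := Ideal.map_isPrime_of_surjective Ideal.Quotient.mk_surjective hker
      have hmax : (z.1.asIdeal.map (Ideal.Quotient.mk p.1.asIdeal)).IsMaximal :=
        Ideal.isMaximal_of_isPrime_of_ne_bot _ fun e => hzy (Subtype.ext (PrimeSpectrum.ext (le_antisymm (by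
          have h := (Ideal.map_eq_bot_iff_le_ker _).1 e
          rwa [Ideal.mk_ker] at h) hle)))
      have h := Ideal.comap_isMaximal_of_surjective _ Ideal.Quotient.mk_surjective
        (K := z.1.asIdeal.map (Ideal.Quotient.mk p.1.asIdeal))
      rw [Ideal.comap_map_of_surjective _ Ideal.Quotient.mk_surjective, ← RingHom.ker_eq_comap_bot,
        sup_eq_left.2 hker] at h
      exact z.2 (PrimeSpectrum.ext (IsLocalRing.eq_maximalIdeal h))

end Groth.Agent.S3433
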