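import Groth.Statements.S7547


set_option autoImplicit false
universe u
open PtTop

namespace Groth.Agent.S7547

/-- Let X be a Kolmogorov topological space whose quasi-compact opens form a basis for the topology. If
X is not Jacobson, there is a point x ∈ X which is not closed but such that {x} is locally closed. -/
theorem result {X : Type u} [TopologicalSpace X]
    [T0Space X] [PrespectralSpace X] (hX : ¬ JacobsonSpace X) :
    ∃ x : X, ¬ IsClosed ({x} : Set X) ∧ IsLocallyClosed ({x} : Set X) := by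
  rw [jacobsonSpace_iff_locallyClosed] at hX
  push Not at hX
  obtain ⟨Z, ⟨z, hz⟩, hZ, hempty⟩ := hX
  obtain ⟨U, C, hU, hC, rfl⟩ := hZ
  obtain ⟨K, ⟨hKo, hKc⟩, hzK, hKU⟩ := PrespectralSpace.isTopologicalBasis.exists_subset_of_mem_open hz.1 hU
  haveI : CompactSpace K := isCompact_iff_compactSpace.1 hKc
  obtain ⟨⟨x, hxK⟩, hxC, hx⟩ := (hC.preimage (continuous_subtype_val (p := fun y => y ∈ K))).exists_closed_singleton
    ⟨⟨z, hzK⟩, hz.2⟩
  refine ⟨x, fun hxc => ?_, ?_⟩
  · have h0 : (U ∩ C) ∩ closedPoints X = ∅ := by simpa using hempty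
    exact (Set.eq_empty_iff_forall_notMem.1 h0) x ⟨⟨hKU hxK, hxC⟩, hxc⟩
  · obtain ⟨D, hD, hDe⟩ := isClosed_induced_iff.1 hx
    refine ⟨K, D, hKo, hD, ?_⟩
    ext y
    constructor
    · rintro rfl
      exact ⟨hxK, hDe.symm.le rfl⟩
    · rintro ⟨hyK, hyD⟩
      exact congrArg Subtype.val (hDe.le (show (⟨y, hyK⟩ : K) ∈ Subtype.val ⁻¹' D from hyD))

end Groth.Agent.S7547
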