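import Groth.Statements.S1545
import Groth.Agent.Lib.AlgMisc.GeomAtBC
import Mathlib

set_option autoImplicit false
set_option backward.isDefEq.respectTransparency false
universe u
open CategoryTheory CategoryTheory.Limits AlgebraicGeometry
open Variety

namespace Groth.Agent.S1545

/-- For a field extension k' of k, a point x of X and a point x' of X_{k'} over x, X is geometrically
reduced at x if and only if X_{k'} is geometrically reduced at x' (over k'). -/
theorem result (k : Type u) [Field k] (X : Scheme.{u}) [X.Over (Spec (CommRingCat.of k))] (k' : Type u) [Field k'] [Algebra k k']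
    (x : X) (x' : Curv2.bc k X k') (hx : Curv2.bcFst k X k' x' = x) :
    Curv2.IsGeomReducedAt k X x ↔
      @Curv2.IsGeomReducedAt k' _ (Curv2.bc k X k') ⟨Curv2.bcSnd k X k'⟩ x' := by
  letI : (Curv2.bc k X k').Over (Spec (CommRingCat.of k')) := ⟨Curv2.bcSnd k X k'⟩
  constructor
  · intro h L _ _ z hz
    letI := Curv2.stalkAlgebra k X x
    haveI := Lib.AlgMisc.GeomRedAt.isGeometricallyReduced_stalk x h
    letI : Algebra k L := ((algebraMap k' L).comp (algebraMap k k')).toAlgebra
    haveI : IsScalarTower k k' L := IsScalarTower.of_algebraMap_eq' rfl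
    have e : Spec.map (CommRingCat.ofHom (algebraMap k' L)) ≫
        Spec.map (CommRingCat.ofHom (algebraMap k k')) = Spec.map (CommRingCat.ofHom (algebraMap k L)) :=
      (Spec.map_comp _ _).symm
    let ι : Curv2.bc k' (Curv2.bc k X k') L ≅ Curv2.bc k X L :=
      pullbackLeftPullbackSndIso (X ↘ Spec (CommRingCat.of k)) _ _ ≪≫ pullback.congrHom rfl e
    have hι : Curv2.bcFst k X L (ι.hom z) = x := by
      have : ι.hom ≫ Curv2.bcFst k X L =
          Curv2.bcFst k' (Curv2.bc k X k') L ≫ Curv2.bcFst k X k' := by
        simp [ι]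
        rfl
      rw [← Scheme.Hom.comp_apply, this, Scheme.Hom.comp_apply, hz, hx]
    haveI := Lib.AlgMisc.GeomRedAt.isReduced_stalk_of_affine x (ι.hom z) (hι ▸ specializes_rfl)
    exact isReduced_of_injective (asIso (ι.hom.stalkMap z)).commRingCatIsoToRingEquiv.symm
      (asIso (ι.hom.stalkMap z)).commRingCatIsoToRingEquiv.symm.injective
  · intro h K _ _ y hy
    obtain ⟨L, _, _, z, m, hm, hmz, hz⟩ :=
      Lib.AlgMisc.GeomAtBC.exists_common_point k X K k' y x' (hy.trans hx.symm)
    subst hmz
    haveI := h L z hz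
    algebraize [(m.stalkMap z).hom]
    haveI : Module.Flat _ _ := Flat.stalkMap m z
    haveI : IsLocalHom (algebraMap ((Curv2.bc k X K).presheaf.stalk (m z))
        ((Curv2.bc k' (Curv2.bc k X k') L).presheaf.stalk z)) :=
      inferInstanceAs (IsLocalHom (m.stalkMap z).hom)
    haveI := Module.FaithfullyFlat.of_flat_of_isLocalHom
      (A := (Curv2.bc k X K).presheaf.stalk (m z))
      (B := (Curv2.bc k' (Curv2.bc k X k') L).presheaf.stalk z)
    exact isReduced_of_injective (m.stalkMap z).hom
      (FaithfulSMul.algebraMap_injective ((Curv2.bc k X K).presheaf.stalk (m z))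
        ((Curv2.bc k' (Curv2.bc k X k') L).presheaf.stalk z))

end Groth.Agent.S1545
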