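import Groth.Statements.S10727
import Groth.Agent.Lib.Glue.Descent
import Mathlib.RingTheory.Localization.Module
-- import your own Groth.Agent.* helpers here

set_option autoImplicit false
universe u
open TensorProduct
open EtAlg

namespace Groth.Agent.S10727

/-- Glueing affine schemes along a glueing pair, stated for their coordinate rings. Let `(R → R', f)` be
a glueing pair, `A₁` an `R`-algebra in which `f` is invertible, `A'` an `R'`-algebra and `φ : A'_f ≅
R' ⊗_R A₁` an isomorphism of `R'`-algebras. Then there is an `R`-algebra `A`, glueable as an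
`R`-module, with isomorphisms `A_f ≅ A₁` of `R`-algebras and `R' ⊗_R A ≅ A'` of `R'`-algebras under
which `φ` is the canonical identification `(R' ⊗_R A)_f = R' ⊗_R A_f`. (The published statement is
that base change is an equivalence between affine schemes over `Spec R` that are glueable and
triples of affine schemes over `Spec R_f`, `Spec R'_f`, `Spec R'` with cartesian squares; this row
states only that every such triple arises, on coordinate rings.) -/
theorem result (R : Type u) [CommRing R] (R' : Type u) [CommRing R'] [Algebra R R']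
    (f : R) (hRR' : EtGlue.IsGlueingPair R R' f) (A₁ : Type u) [CommRing A₁] [Algebra R A₁]
    (h₁ : IsUnit (algebraMap R A₁ f)) (A' : Type u) [CommRing A'] [Algebra R A'] [Algebra R' A']
    [IsScalarTower R R' A'] (φ : Localization.Away (algebraMap R A' f) ≃ₐ[R'] R' ⊗[R] A₁) :
    ∃ (A : Type u) (_ : CommRing A) (_ : Algebra R A) (_ : EtGlue.IsGlueable R R' f A)
      (e₁ : Localization.Away (algebraMap R A f) ≃ₐ[R] A₁) (e' : R' ⊗[R] A ≃ₐ[R'] A'),
      ∀ a : A, φ (algebraMap A' (Localization.Away (algebraMap R A' f)) (e' ((1 : R') ⊗ₜ[R] a))) =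
        (1 : R') ⊗ₜ[R] e₁ (algebraMap A (Localization.Away (algebraMap R A f)) a) := by
  let L : A' →ₐ[R'] R' ⊗[R] A₁ :=
    φ.toAlgHom.comp (IsScalarTower.toAlgHom R' A' (Localization.Away (algebraMap R A' f)))
  let A : Subalgebra R (A' × A₁) :=
    AlgHom.equalizer ((L.restrictScalars R).comp (AlgHom.fst R A' A₁))
      ((Algebra.TensorProduct.includeRight (R := R) (A := R') (B := A₁)).comp (AlgHom.snd R A' A₁))
  let q₁ : A →ₐ[R] A' := (AlgHom.fst R A' A₁).comp A.val
  let q₂ : A →ₐ[R] A₁ := (AlgHom.snd R A' A₁).comp A.val
  have hG : Glue.IsGlued f q₁.toLinearMap q₂.toLinearMap L.toLinearMap :=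
    { bij := by
        have : (fun x : A₁ => f • x) = fun x => algebraMap R A₁ f * x :=
          funext fun x => Algebra.smul_def f x
        rw [this]
        exact IsUnit.isUnit_iff_mulLeft_bijective.mp h₁
      surj := fun z => by
        obtain ⟨⟨x, ⟨_, k, rfl⟩⟩, hx⟩ :=
          IsLocalization.surj (Submonoid.powers (algebraMap R A' f)) (φ.symm z)
        refine ⟨k, x, ?_⟩
        refine φ.symm.injective ?_
        rw [← algebraMap_smul R' (f ^ k) z, map_smul, Algebra.smul_def,
          IsScalarTower.algebraMap_apply R' A' (Localization.Away (algebraMap R A' f)),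
          ← IsScalarTower.algebraMap_apply R R' A', map_pow, mul_comm]
        simpa [L] using hx
      ker := fun x hx => by
        obtain ⟨⟨_, k, rfl⟩, hk⟩ :=
          (IsLocalization.map_eq_zero_iff (Submonoid.powers (algebraMap R A' f))
            (Localization.Away (algebraMap R A' f)) x).mp (φ.injective (hx.trans (map_zero φ).symm))
        exact ⟨k, by rw [Algebra.smul_def, map_pow]; exact hk⟩
      comm := fun m => m.2
      inj := fun m h1 h2 => Subtype.ext (Prod.ext h1 h2)
      pull := fun x y hxy => ⟨⟨(x, y), hxy⟩, rfl, rfl⟩ }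
  haveI := hG.isLocalizedModule
  letI : Algebra A A₁ := q₂.toRingHom.toAlgebra
  haveI : IsScalarTower R A A₁ := IsScalarTower.of_algebraMap_eq fun r => (q₂.commutes r).symm
  haveI hloc : IsLocalization (Submonoid.powers (algebraMap R A f)) A₁ := by
    have h : IsLocalizedModule (Submonoid.powers f) (IsScalarTower.toAlgHom R A A₁).toLinearMap :=
      hG.isLocalizedModule
    rw [isLocalizedModule_iff_isLocalization] at h
    rwa [Algebra.algebraMapSubmonoid_powers] at h
  let e₁ : Localization.Away (algebraMap R A f) ≃ₐ[R] A₁ :=
    (IsLocalization.algEquiv (Submonoid.powers (algebraMap R A f)) _ A₁).restrictScalars R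
  let e' : R' ⊗[R] A →ₐ[R'] A' :=
    Algebra.TensorProduct.lift (Algebra.ofId R' A') q₁ fun _ _ => Commute.all _ _
  have he : ∀ z, e' z = q₁.toLinearMap.liftBaseChange R' z := by
    intro z
    induction z with
    | zero => simp
    | tmul s a => simp [e', Algebra.smul_def, Algebra.ofId_apply]
    | add a b ha hb => simp only [map_add, ha, hb]
  have hbij : Function.Bijective e' := by
    rw [show (e' : _ → A') = q₁.toLinearMap.liftBaseChange R' from funext he]
    exact hG.bijective_liftBaseChange hRR'
  refine ⟨A, inferInstance, inferInstance, hG.isGlueable hRR', e₁, AlgEquiv.ofBijective e' hbij,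
    fun a => ?_⟩
  have h₁' : e₁ (algebraMap A (Localization.Away (algebraMap R A f)) a) = q₂ a :=
    (IsLocalization.algEquiv (Submonoid.powers (algebraMap R A f))
      (Localization.Away (algebraMap R A f)) A₁).commutes a
  rw [h₁', AlgEquiv.ofBijective_apply, he, LinearMap.liftBaseChange_tmul, one_smul]
  exact a.2

end Groth.Agent.S10727
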