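import Groth.Statements.S1492
import Groth.Agent.Lib.LCI6.DescentLCI
import Mathlib.AlgebraicGeometry.Morphisms.LocalFlatDescent
import Mathlib.AlgebraicGeometry.Morphisms.Flat
-- import your own Groth.Agent.* helpers here

set_option autoImplicit false
universe u
attribute [local instance] HasDerivedCategory.standard
open FlatMor

namespace Groth.Agent.S1492

open AlgebraicGeometry CategoryTheory Limits in
/-- Let S' → S be flat, surjective and quasi-compact and f' : X' → S' the base change of f : X → S. If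
f' is a local complete intersection morphism (affine-locally: local complete intersection ring maps)
then so is f. -/
theorem result {X S X' S' : Scheme.{u}} (f : X ⟶ S) (f' : X' ⟶ S') (g' : X' ⟶ X) (g : S' ⟶ S)
    [Flat g] [Surjective g] [QuasiCompact g] (hc : IsPullback g' f' f g)
    (hf' : (∀ (U : X'.Opens) (V : S'.Opens) (hU : IsAffineOpen U) (hV : IsAffineOpen V) (hUV : U ≤ f' ⁻¹ᵁ V),
        letI := (f'.appLE V U hUV).hom.toAlgebra
        LCI.IsLCI Γ(S', V) Γ(X', U))) :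
    (∀ (U : X.Opens) (V : S.Opens) (hU : IsAffineOpen U) (hV : IsAffineOpen V) (hUV : U ≤ f ⁻¹ᵁ V),
        letI := (f.appLE V U hUV).hom.toAlgebra
        LCI.IsLCI Γ(S, V) Γ(X, U)) := by
    haveI : LocallyOfFiniteType f' := by
      rw [HasRingHomProperty.iff_appLE (P := @LocallyOfFiniteType)]
      intro W U e
      letI := (f'.appLE W.1 U.1 e).hom.toAlgebra
      exact RingHom.finiteType_algebraMap.mpr (hf' U.1 W.1 U.2 W.2 e).1
    haveI : LocallyOfFiniteType f := MorphismProperty.of_isPullback_of_descendsAlong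
      (P := @LocallyOfFiniteType) (Q := @Surjective ⊓ @Flat ⊓ @QuasiCompact) hc.flip
      ⟨⟨inferInstance, inferInstance⟩, inferInstance⟩ inferInstance
    intro U V hU hV hUV
    letI := (f.appLE V U hUV).hom.toAlgebra
    haveI : Algebra.FiniteType Γ(S, V) Γ(X, U) := RingHom.finiteType_algebraMap.mp
      (HasRingHomProperty.appLE @LocallyOfFiniteType f inferInstance ⟨V, hV⟩ ⟨U, hU⟩ hUV)
    obtain ⟨t, ht⟩ := (QuasiCompact.isCompact_preimage (f := g) _ V.2 hV.isCompact).elim_finite_subcover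
      (fun W : {W : S'.affineOpens // W.1 ≤ g ⁻¹ᵁ V} => (W.1.1 : Set S')) (fun W => W.1.1.2) fun s hs => by
        obtain ⟨W, hW, hsW, hWV⟩ := TopologicalSpace.Opens.isBasis_iff_nbhd.mp (Scheme.isBasis_affineOpens S')
          (show s ∈ (g ⁻¹ᵁ V : S'.Opens) from hs)
        exact Set.mem_iUnion.mpr ⟨⟨⟨W, hW⟩, hWV⟩, hsW⟩
    let W : ↥t → S'.Opens := fun i => i.1.1.1
    have hW : ∀ i, IsAffineOpen (W i) := fun i => i.1.1.2
    have hWV : ∀ i, W i ≤ g ⁻¹ᵁ V := fun i => i.1.2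
    let U' : ↥t → X'.Opens := fun i => g' ⁻¹ᵁ U ⊓ f' ⁻¹ᵁ W i
    have hpo : ∀ i, CategoryTheory.IsPushout (f.appLE V U hUV) (g.appLE V (W i) (hWV i))
        (g'.appLE U (U' i) inf_le_left) (f'.appLE (W i) (U' i) inf_le_right) := fun i =>
      (isIso_pushoutSection_iff hc (hWV i) hUV rfl).1
        (isIso_pushoutSection_of_isAffineOpen hc (hWV i) hUV rfl hV (hW i) hU)
    have hU' : ∀ i, IsAffineOpen (U' i) := fun i =>
      haveI : IsAffine (V : Scheme) := hV
      haveI : IsAffine (U : Scheme) := hU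
      haveI : IsAffine (W i : Scheme) := hW i
      .of_isIso (Scheme.Hom.isPullback_resLE hc (hWV i) hUV rfl).isoPullback.hom
    letI : ∀ i, Algebra Γ(S, V) Γ(S', W i) := fun i => (g.appLE V (W i) (hWV i)).hom.toAlgebra
    letI : ∀ i, Algebra Γ(X, U) Γ(X', U' i) := fun i => (g'.appLE U (U' i) inf_le_left).hom.toAlgebra
    letI : ∀ i, Algebra Γ(S', W i) Γ(X', U' i) := fun i => (f'.appLE (W i) (U' i) inf_le_right).hom.toAlgebra
    letI : ∀ i, Algebra Γ(S, V) Γ(X', U' i) := fun i =>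
      (f.appLE V U hUV ≫ g'.appLE U (U' i) inf_le_left).hom.toAlgebra
    haveI : ∀ i, IsScalarTower Γ(S, V) Γ(X, U) Γ(X', U' i) := fun i => IsScalarTower.of_algebraMap_eq' rfl
    haveI : ∀ i, IsScalarTower Γ(S, V) Γ(S', W i) Γ(X', U' i) := fun i => IsScalarTower.of_algebraMap_eq' (by
      show (f.appLE V U hUV ≫ g'.appLE U (U' i) inf_le_left).hom = _
      rw [(hpo i).w]
      rfl)
    haveI : ∀ i, Algebra.IsPushout Γ(S, V) Γ(X, U) Γ(S', W i) Γ(X', U' i) := fun i =>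
      CommRingCat.isPushout_iff_isPushout.1 (hpo i)
    haveI : ∀ i, Module.Flat Γ(S, V) Γ(S', W i) := fun i =>
      HasRingHomProperty.appLE @Flat g inferInstance ⟨V, hV⟩ ⟨W i, hW i⟩ (hWV i)
    refine GrothLib.LCI6.isLCI_of_flat_cover (fun i : ↥t => Γ(S', W i)) (fun i => Γ(X', U' i))
      (fun p hp => ?_) fun i => hf' (U' i) (W i) (hU' i) (hW i) inf_le_right
    obtain ⟨s', hs'⟩ := g.surjective (hV.fromSpec ⟨p, hp⟩)
    have hsV : g s' ∈ V := hs' ▸ (hV.range_fromSpec ▸ Set.mem_range_self _ : hV.fromSpec ⟨p, hp⟩ ∈ (V : Set S))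
    obtain ⟨i, hi, hsW⟩ : ∃ i ∈ t, s' ∈ (i.1.1 : Set S') := by
      obtain ⟨i, hit, hsi⟩ := Set.mem_iUnion₂.mp (ht (show s' ∈ g ⁻¹' (V : Set S) from hsV))
      exact ⟨i, hit, hsi⟩
    refine ⟨⟨i, hi⟩, ((hW ⟨i, hi⟩).primeIdealOf ⟨s', hsW⟩).asIdeal, PrimeSpectrum.isPrime _, ?_⟩
    have h1 := IsAffineOpen.comap_primeIdealOf_appLE V hV (W ⟨i, hi⟩) (hW ⟨i, hi⟩) (hWV ⟨i, hi⟩) hsW
    have h2 : hV.primeIdealOf ⟨g s', hsV⟩ = ⟨p, hp⟩ :=
      hV.fromSpec.isOpenEmbedding.injective ((hV.fromSpec_primeIdealOf ⟨g s', hsV⟩).trans hs')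
    exact congrArg PrimeSpectrum.asIdeal (h1.trans h2)

end Groth.Agent.S1492
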