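import Groth.Agent.Lib.AlgSp.PointsUniv
import Groth.Statements.S9938
-- import your own Groth.Agent.* helpers here

set_option autoImplicit false
universe u
open CategoryTheory CategoryTheory.Limits AlgebraicGeometry
open AlgSp

namespace Groth.Agent.S9938

/-- For a morphism of algebraic spaces, injectivity on field-valued points, universal injectivity, and
surjectivity of the diagonal are equivalent. -/
theorem result {S : Scheme.{u}} {X Y : AlgSp.Space S} (f : X ⟶ Y) :
    ((∀ (K : Type u) [Field K] (str : Spec (CommRingCat.of K) ⟶ S),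
        Function.Injective (fun a : (AlgSp.yon S).obj (Over.mk str) ⟶ X.obj => a ≫ f.hom)) ↔ AlgSp.IsUnivInjectiveMor f.hom) ∧
    (AlgSp.IsUnivInjectiveMor f.hom ↔ AlgSp.IsSurjectiveMor (pullback.diagonal f.hom)) := by
  have fwd : (∀ (K : Type u) [Field K] (str : Spec (CommRingCat.of K) ⟶ S),
      Function.Injective (fun a : (AlgSp.yon S).obj (Over.mk str) ⟶ X.obj => a ≫ f.hom)) →
        IsUnivInjectiveMor f.hom := by
    refine fun h => GrothLib.AlgSp.isUnivInjectiveMor_of_affine fun T _ g P fst snd sq p q hpq => ?_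
    obtain ⟨Ω, _, w, a, b, hab, rfl, rfl⟩ := GrothLib.AlgSp.exists_common_field hpq
    have : a ≫ fst = b ≫ fst := h Ω w (by
      change (a ≫ fst) ≫ f.hom = (b ≫ fst) ≫ f.hom
      rw [Category.assoc, Category.assoc, sq.w, reassoc_of% hab])
    rw [sq.hom_ext this hab]
  have bwd : IsSurjectiveMor (pullback.diagonal f.hom) → ∀ (K : Type u) [Field K]
      (str : Spec (CommRingCat.of K) ⟶ S),
      Function.Injective (fun a : (AlgSp.yon S).obj (Over.mk str) ⟶ X.obj => a ≫ f.hom) := by
    intro h K _ str a b hab
    obtain ⟨x, hx⟩ := h (Points.ofPt (pullback.lift a b hab) (IsLocalRing.closedPoint K))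
    rw [Points.ofPt_eq_map_ofScheme] at hx
    obtain ⟨Ω, _, w, u, c, huc, -, -⟩ := GrothLib.AlgSp.exists_common_field hx
    obtain ⟨c, rfl⟩ := (AlgSp.yon S).map_surjective c
    refine GrothLib.AlgSp.eq_of_field_comp_eq X.property.diag c ?_
    have h1 := congrArg (fun k => k ≫ pullback.fst f.hom f.hom) huc
    have h2 := congrArg (fun k => k ≫ pullback.snd f.hom f.hom) huc
    simp only [Category.assoc, pullback.diagonal_fst, pullback.diagonal_snd, pullback.lift_fst,
      pullback.lift_snd, Category.comp_id] at h1 h2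
    rw [← h1, h2]
  have mid : IsUnivInjectiveMor f.hom → IsSurjectiveMor (pullback.diagonal f.hom) := by
    intro h z
    have hi := h X.property f.hom (pullback.fst f.hom f.hom) (pullback.snd f.hom f.hom)
      (IsPullback.of_hasPullback _ _)
    exact ⟨Points.map (pullback.snd f.hom f.hom) z, hi (by rw [← Points.map_comp, pullback.diagonal_snd,
      Points.map_id])⟩
  exact ⟨⟨fwd, fun h => bwd (mid h)⟩, ⟨mid, fun h => fwd (bwd h)⟩⟩

end Groth.Agent.S9938
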