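import Groth.Statements.S10086
import Groth.Agent.Lib.AlgSp.LimitDescDiag
import Groth.Agent.Lib.AlgSp.OpenSub
-- import your own Groth.Agent.* helpers here

set_option autoImplicit false
universe u
open CategoryTheory CategoryTheory.Limits AlgebraicGeometry Opposite
open AlgSp GrothLib.AlgSp
set_option backward.isDefEq.respectTransparency false

namespace Groth.Agent.S10086

/-- Let `S` be a quasi-separated scheme and `X` the limit, in fppf sheaves over `S`, of a cofiltered
system `(X_i)` of algebraic spaces over `S`, each quasi-compact and quasi-separated over `S`, whose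
transition maps are affine. Then every quasi-compact open subspace `U ⟶ X` is the inverse image of a
quasi-compact open subspace `U_i ⟶ X_i` for some index `i` (a pullback square over the projection `X
⟶ X_i`). (The published statement allows any base scheme and uses absolute quasi-separatedness; this
row assumes the base quasi-separated, over which quasi-separatedness relative to the base is the
absolute notion.) -/
theorem result (S : Scheme.{u}) [QuasiSeparatedSpace ↥S] {I : Type u} [SmallCategory I] [IsCofiltered I]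
    (D : I ⥤ AlgSp.Sp S) (hD : ∀ i, AlgSp.IsAlgSpace (D.obj i))
    (hDa : ∀ (i j : I) (φ : i ⟶ j), AlgSp.IsAffineMor (D.map φ))
    (hqc : ∀ i, AlgSp.IsQuasiCompactSp (D.obj i)) (hqs : ∀ i, AlgSp.IsQuasiSeparatedSp (D.obj i))
    (c : Cone D) (hc : IsLimit c)
    (U : AlgSp.Sp S) (j : U ⟶ c.pt) (hj : AlgSp.RepWith @IsOpenImmersion j) (hU : AlgSp.IsQuasiCompactSp U) :
    ∃ (i : I) (Ui : AlgSp.Sp S) (ji : Ui ⟶ D.obj i) (q : U ⟶ Ui),
      AlgSp.RepWith @IsOpenImmersion ji ∧ AlgSp.IsQuasiCompactSp Ui ∧ IsPullback j q (c.π.app i) ji := by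
  haveI := IsCofiltered.isConnected I
  have hX := isAlgSpace_limit hDa hD hc
  obtain ⟨i₁⟩ := (IsCofiltered.nonempty : Nonempty I)
  obtain ⟨U₁, a, hU₁, ae, as⟩ := exists_affine_atlas_of_qc (hqc i₁)
  haveI := hU₁
  obtain ⟨E, cW, f, w, fst, snd, ⟨hcW⟩, hWa, hE, hEm, hEπ, sqW⟩ := exists_affine_chart_limit hDa hc i₁ hU₁ a
  haveI := hWa
  -- `c.pt` is quasi-separated
  have hcqs : IsQuasiSeparatedSp c.pt := by
    refine isQuasiSeparatedSp_of_mor (f := c.π.app i₁) ?_ (hqs i₁)
    have ha := isAffineMor_iff.1 (isAffineMor_limit_π hDa hc i₁)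
    exact (isQuasiSeparatedMor_iff_repWith ha.1).2
      (repWith_mono ha fun _ _ h (_ : IsAffineHom h) => (inferInstance : QuasiSeparated h))
  obtain ⟨Ux, ux, jx, sqU⟩ := exists_isPullback_of_representable hj.1 fst
  haveI : IsOpenImmersion jx.left := hj.2 _ _ _ sqU
  haveI : QuasiCompact jx.left := (repWith_quasiCompact_of_isQuasiCompactMor hj.1
    (isQuasiCompactMor_of_qc_qs hX hU hcqs j)).2 _ _ _ sqU
  haveI : CompactSpace ↥Ux.left := QuasiCompact.compactSpace_of_compactSpace jx.left
  haveI : CategoryTheory.IsConnected (CategoryTheory.Over i₁) := IsCofiltered.isConnected _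
  haveI : ∀ {k l} (m : k ⟶ l), IsAffineHom ((E ⋙ Over.forget S).map m) := fun {k l} m => by
    haveI : IsAffine ((E ⋙ Over.forget S).obj k) := (hE k).1
    haveI : IsAffine ((E ⋙ Over.forget S).obj l) := (hE l).1
    exact isAffineHom_of_isAffine _
  haveI : ∀ k, CompactSpace ↥((E ⋙ Over.forget S).obj k) := fun k => by
    haveI : IsAffine ((E ⋙ Over.forget S).obj k) := (hE k).1
    infer_instance
  haveI : ∀ k, QuasiSeparatedSpace ↥((E ⋙ Over.forget S).obj k) := fun k => by
    haveI : IsAffine ((E ⋙ Over.forget S).obj k) := (hE k).1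
    infer_instance
  obtain ⟨k, Vk, hVk, hpre⟩ := exists_preimage_eq (E ⋙ Over.forget S) _ (isLimitOfPreserves (Over.forget S) hcW)
    (jx.left.opensRange) (isCompact_range jx.left.continuous)
  have hfe : RepWith @Etale (f k) := repWith_of_isPullback (hE k).2.flip ae
  have hfs : RepWith @Surjective (f k) := repWith_of_isPullback (hE k).2.flip as
  let Vk : (E.obj k).left.Opens := Vk
  let W : Set (Points (D.obj k.left)) := Points.ofPt (f k) '' (Vk : Set _)
  have hW : IsOpen W := (isOpenQuotientMap_ofPt hfe hfs).isOpenMap _ Vk.2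
  -- the preimage of `W` is the range of `j`
  have hmem : ∀ r : ↥cW.pt.left, r ∈ Set.range jx.left ↔ (cW.π.app k).left r ∈ Vk := fun r => by
    have h : ((Over.forget S).mapCone cW).π.app k ⁻¹ᵁ Vk = jx.left.opensRange := hpre
    exact (congrArg (fun O : cW.pt.left.Opens => r ∈ O) h.symm).to_iff
  have hpi : ∀ r : ↥cW.pt.left, Points.map (c.π.app k.left) (Points.ofPt fst r) = Points.ofPt (f k) ((cW.π.app k).left r) :=
    fun r => by rw [Points.map_ofPt, (hEπ k).1, ofPt_map_comp]; rfl
  have sqk : IsPullback fst ((yon S).map (cW.π.app k)) (c.π.app k.left) (f k) := by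
    refine IsPullback.of_bot ?_ (hEπ k).1 (hE k).2
    rw [← Functor.map_comp, (hEπ k).2, show c.π.app k.left ≫ D.map k.hom = c.π.app i₁ from c.w _]
    exact sqW
  have hrange : Set.range (Points.map j) = Points.map (c.π.app k.left) ⁻¹' W := by
    ext x
    constructor
    · rintro ⟨z, rfl⟩
      obtain ⟨r, hr⟩ := surjective_ofPt_of_repWith (repWith_of_isPullback sqW.flip as) (Points.map j z)
      obtain ⟨v, -, hv⟩ := exists_ofPt_of_map_eq sqU hr.symm
      refine ⟨_, (hmem r).1 ⟨v, hv⟩, ?_⟩
      rw [← hpi, hr]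
    · rintro ⟨v, hv, hvx⟩
      obtain ⟨r, hr, hrv⟩ := exists_ofPt_of_map_eq sqk hvx.symm
      obtain ⟨u, hu⟩ := (hmem r).2 ((congrArg (fun z => z ∈ Vk) hrv).mpr hv)
      exact ⟨Points.ofPt ux u, by rw [map_ofPt_fst sqU, hu, hr]⟩
  -- the open subspace
  obtain ⟨q, hq⟩ := (exists_factor_iff (repWith_openSubι hW) (j ≫ c.π.app k.left)).2 (by
    rintro _ ⟨z, rfl⟩
    rw [range_openSubι, Points.map_comp]
    exact hrange.subset ⟨z, rfl⟩)
  have hqcW : IsQuasiCompactSp (openSub (D.obj k.left) W) := by
    haveI : CompactSpace ↥(Over.mk (Vk.ι ≫ (E.obj k).hom)).left := isCompact_iff_compactSpace.mp hVk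
    let ι : Over.mk (Vk.ι ≫ (E.obj k).hom) ⟶ E.obj k := Over.homMk Vk.ι rfl
    obtain ⟨g', hg'⟩ := openSub_lift ((yon S).map ι ≫ f k) (W := W) fun t => ⟨Vk.ι t, t.2, (ofPt_map_comp ι (f k) t).symm⟩
    haveI : CompactSpace (Points (openSub (D.obj k.left) W)) := ⟨by
      haveI := mono_openSubι (D.obj k.left) W
      have : Set.range (Points.ofPt g') = Set.univ := Set.eq_univ_of_forall fun p => by
        have hp : Points.map (openSubι (D.obj k.left) W) p ∈ W := by
          exact (range_openSubι (W := W)).subset ⟨p, rfl⟩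
        obtain ⟨v, hv, hvp⟩ := hp
        refine ⟨⟨v, hv⟩, injective_map_of_mono (openSubι (D.obj k.left) W) ?_⟩
        rw [Points.map_ofPt, hg', ofPt_map_comp]
        exact hvp
      rw [← this]
      exact isCompact_range (Points.continuous_ofPt _)⟩
    exact isQuasiCompactSp_of_compactSpace_points (isAlgSpace_openSub (hD _) hW)
  refine ⟨k.left, openSub (D.obj k.left) W, openSubι _ W, q, repWith_openSubι hW, hqcW, ?_⟩
  have sqP := IsPullback.of_hasPullback (c.π.app k.left) (openSubι (D.obj k.left) W)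
  have hP : RepWith @IsOpenImmersion (pullback.fst (c.π.app k.left) (openSubι (D.obj k.left) W)) :=
    repWith_of_isPullback sqP.flip (repWith_openSubι hW)
  obtain ⟨e, he⟩ := exists_iso_of_range_eq hj hP (by
    rw [hrange]
    ext x
    constructor
    · intro hx
      obtain ⟨p, hp⟩ : Points.map (c.π.app k.left) x ∈ Set.range (Points.map (openSubι (D.obj k.left) W)) := by
        rw [range_openSubι]; exact hx
      obtain ⟨z, hz, -⟩ := exists_of_isPullback sqP hp.symm
      exact ⟨z, hz⟩
    · rintro ⟨z, rfl⟩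
      show Points.map (c.π.app k.left) _ ∈ W
      rw [← Points.map_comp, pullback.condition, Points.map_comp]
      exact (range_openSubι (W := W)).subset ⟨_, rfl⟩)
  haveI := mono_openSubι (D.obj k.left) W
  refine sqP.of_iso e.symm (Iso.refl _) (Iso.refl _) (Iso.refl _) ?_ ?_ (by simp) (by simp)
  · rw [Iso.refl_hom, Category.comp_id, Iso.symm_hom, ← he, Iso.inv_hom_id_assoc]
  · rw [Iso.refl_hom, Category.comp_id, Iso.symm_hom, ← cancel_mono (openSubι (D.obj k.left) W), Category.assoc, hq,
      ← pullback.condition, ← he, Category.assoc, Iso.inv_hom_id_assoc]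

end Groth.Agent.S10086
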