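import Groth.Statements.S10298
import Groth.Agent.Lib.AlgSp.AffineMor
-- import your own Groth.Agent.* helpers here

set_option autoImplicit false
universe u
open CategoryTheory CategoryTheory.Limits AlgebraicGeometry
open AlgSp GrothLib.AlgSp
set_option backward.isDefEq.respectTransparency false

namespace Groth.Agent.S10298

/-- For a quasi-compact quasi-separated morphism of schemes, the relative normalization of schemes is
the normalization in the sense of algebraic spaces. -/
theorem result {S : Scheme.{u}} {V U N : Over S} (g : V ⟶ U)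
    [QuasiCompact g.left] [QuasiSeparated g.left] (f' : V ⟶ N) (ν : N ⟶ U)
    (e : N.left ≅ g.left.normalization) (he1 : f'.left ≫ e.hom = g.left.toNormalization)
    (he2 : e.hom ≫ g.left.fromNormalization = ν.left) :
    AlgSp.IsRelNormalization ((AlgSp.yon S).map g) ((AlgSp.yon S).map ν) ((AlgSp.yon S).map f') := by
  refine ⟨?_, isIntegralMor_iff.2 ((repWith_yon_map_iff _ ν).2 ?_), fun Z _ π g' hπ hg' => ?_⟩
  · rw [← Functor.map_comp]
    refine congrArg _ (Over.OverMorphism.ext ?_)
    rw [Over.comp_left, ← he2, ← Category.assoc, he1, Scheme.Hom.toNormalization_fromNormalization]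
  · rw [← he2]; infer_instance
  obtain ⟨T, c, τ, sqT⟩ := exists_isPullback_of_representable (isIntegralMor_iff.1 hπ).1 (𝟙 ((yon S).obj U))
  haveI hτ : IsIntegralHom τ.left := (isIntegralMor_iff.1 hπ).2 _ _ _ sqT
  haveI : IsIso c := sqT.isIso_fst_of_isIso
  obtain ⟨g₀, hg₀⟩ := (yon S).map_surjective (g' ≫ inv c)
  have hτc : (yon S).map τ = c ≫ π := by rw [sqT.w, Category.comp_id]
  have hfac : g.left = g₀.left ≫ τ.left := by
    have hg0 : g = g₀ ≫ τ := (yon S).map_injective (by
      rw [Functor.map_comp, hg₀, hτc, Category.assoc, IsIso.inv_hom_id_assoc, hg'])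
    rw [hg0, Over.comp_left]
  let d := e.hom ≫ g.left.normalizationDesc g₀.left τ.left hfac
  have hd₁ : f'.left ≫ d = g₀.left := by
    rw [← Category.assoc, he1, Scheme.Hom.toNormalization_normalizationDesc]
  have hd₂ : d ≫ τ.left = ν.left := by
    rw [Category.assoc, Scheme.Hom.normalizationDesc_comp, he2]
  let k : N ⟶ T := Over.homMk d (by rw [← Over.w τ, ← Category.assoc, hd₂, Over.w ν])
  refine ⟨(yon S).map k ≫ c, ⟨?_, ?_⟩, fun h ⟨e₁, e₂⟩ => ?_⟩
  · rw [← Category.assoc, ← Functor.map_comp, show f' ≫ k = g₀ from Over.OverMorphism.ext hd₁, hg₀,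
      Category.assoc, IsIso.inv_hom_id, Category.comp_id]
  · rw [Category.assoc, ← hτc, ← Functor.map_comp, show k ≫ τ = ν from Over.OverMorphism.ext hd₂]
  · obtain ⟨h₀, hh₀⟩ := (yon S).map_surjective (h ≫ inv c)
    have q₁ : f' ≫ h₀ = g₀ := (yon S).map_injective (by rw [Functor.map_comp, hh₀, reassoc_of% e₁, hg₀])
    have q₂ : h₀ ≫ τ = ν := (yon S).map_injective (by
      rw [Functor.map_comp, hh₀, hτc, Category.assoc, IsIso.inv_hom_id_assoc, e₂])
    have key : e.inv ≫ h₀.left = e.inv ≫ d := by
      refine Scheme.Hom.normalization.hom_ext g.left _ _ τ.left ?_ ?_ ?_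
      · rw [← he1]
        simp only [Category.assoc, Iso.hom_inv_id_assoc]
        rw [← Over.comp_left, q₁, hd₁]
      · rw [Category.assoc, ← Over.comp_left, q₂, Iso.inv_comp_eq, he2]
      · rw [Category.assoc, hd₂, Iso.inv_comp_eq, he2]
    have hk : h₀ = k := Over.OverMorphism.ext ((cancel_epi e.inv).1 key)
    rw [← hk, hh₀, Category.assoc, IsIso.inv_hom_id, Category.comp_id]
end Groth.Agent.S10298
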