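import Groth.Statements.S10818
import Groth.Agent.Lib.AlgSp.WeakAssCharts
import Groth.Agent.Lib.AlgSp.Rep
-- import your own Groth.Agent.* helpers here

set_option autoImplicit false
universe u
open CategoryTheory CategoryTheory.Limits AlgebraicGeometry Topology TopologicalSpace
open AlgSp GrothLib.AlgSp
set_option backward.isDefEq.respectTransparency false

namespace Groth.Agent.S10818

/-- Let f : X ⟶ Y be an affine morphism of algebraic spaces over a scheme S (representable; the
representability is carried as a separate hypothesis) and F a quasi-coherent O_X-module on the small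
etale site of X with f_*F quasi-coherent. Then WeakAss(f_*F) ⊆ f(WeakAss(F)) as subsets of |Y|. -/
theorem result {S : Scheme.{u}} (X Y : AlgSp.Space S) (f : X ⟶ Y)
    (hf : AlgSp.Representable f.hom) (haff : AlgSp.IsAffineMor f.hom)
    (M : AlgSp.ModEt X.obj) [M.IsQuasicoherent] [((AlgSp.pushModEt hf).obj M).IsQuasicoherent] :
    AlgSp.WeakAssEt ((AlgSp.pushModEt hf).obj M) ⊆ AlgSp.Points.map f.hom '' AlgSp.WeakAssEt M := by
  rintro y ⟨E, hE, v, rfl, s, hs⟩
  haveI := hE
  obtain ⟨W, i, fst, sq, hW⟩ := haff hE E.obj.hom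
  let e : (yon S).obj (EtOver.bcObj hf E).obj.left ≅ (yon S).obj W :=
    (EtOver.isPullback_bcObj hf E).isoIsPullback _ _ sq
  haveI : IsAffine (EtOver.bcObj hf E).obj.left.left := by
    haveI := hW
    haveI : IsAffine ((Over.forget S).obj W) := hW
    exact IsAffine.of_isIso ((Over.forget S).mapIso ((yon S).preimageIso e)).hom
  let φ := (EtOver.bcπ hf E).left.appTop.hom
  let t : sectModEt M (EtOver.bcObj hf E) := s
  have hann : annSect s = (annSect t).comap φ := by
    ext a
    rw [mem_annSect_iff, Ideal.mem_comap, mem_annSect_iff]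
    exact Iff.rfl
  rw [hann] at hs
  obtain ⟨q, hq, hqp⟩ := Ideal.exists_minimalPrimes_comap_eq φ _ hs
  haveI := hq.1.1
  obtain ⟨w, hw⟩ := exists_primeAtPt_eq (U := (EtOver.bcObj hf E).obj.left.left) q
  refine ⟨Points.ofPt (EtOver.bcObj hf E).obj.hom w, ⟨EtOver.bcObj hf E, inferInstance, w, rfl, t, by rw [hw]; exact hq⟩, ?_⟩
  have hv : (EtOver.bcπ hf E).left w = v := primeAtPt_injective (by rw [← comap_primeAtPt, hw]; exact hqp)
  rw [← hv, ← ofPt_map_comp]
  rw [Points.ofPt_eq_map_ofScheme, ← Points.map_comp, (EtOver.isPullback_bcObj hf E).w]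
  exact (Points.ofPt_eq_map_ofScheme _ _).symm

end Groth.Agent.S10818
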