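import Groth.Statements.S1348
import Groth.Agent.Lib.FibreFlat.Slice
-- import your own Groth.Agent.* helpers here

set_option autoImplicit false
universe u
open FlatMor

namespace Groth.Agent.S1348

open AlgebraicGeometry CategoryTheory Limits in
/-- Let f be locally of finite presentation and flat at a point x with image s, and let h be an element
of the maximal ideal of the local ring at x whose image in the local ring of the fibre (the local
ring at x modulo the ideal generated by the maximal ideal at s) is a nonzerodivisor. Then there is
an affine open neighbourhood U of x and a nonzerodivisor of its coordinate ring with germ h at x (so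
its zero locus is an effective Cartier divisor of U through x) whose zero scheme is flat and locally
of finite presentation over the base. -/
theorem result {X S : Scheme.{u}} (f : X ⟶ S) [LocallyOfFinitePresentation f] (x : X)
    (hflat : (f.stalkMap x).hom.Flat) (h : X.presheaf.stalk x) (hm : h ∈ IsLocalRing.maximalIdeal (X.presheaf.stalk x))
    (hreg : Ideal.Quotient.mk (Ideal.map (f.stalkMap x).hom (IsLocalRing.maximalIdeal (S.presheaf.stalk (f x)))) h ∈
      nonZeroDivisors (X.presheaf.stalk x ⧸ Ideal.map (f.stalkMap x).hom (IsLocalRing.maximalIdeal (S.presheaf.stalk (f x))))) :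
    ∃ (U : X.Opens) (hU : IsAffineOpen U) (hx : x ∈ U) (h' : Γ(X, U)), X.presheaf.germ U x hx h' = h ∧ h' ∈ nonZeroDivisors Γ(X, U) ∧
      Flat (Spec.map (CommRingCat.ofHom (Ideal.Quotient.mk (Ideal.span {h'}))) ≫ hU.fromSpec ≫ f) ∧
      LocallyOfFinitePresentation (Spec.map (CommRingCat.ofHom (Ideal.Quotient.mk (Ideal.span {h'}))) ≫ hU.fromSpec ≫ f) := by
      open GrothLib.FibreFlat RingTheory.Sequence in
      obtain ⟨V, U, hU, hx, hVU, a, hV, ha, hmem, hfl⟩ := exists_slice f x hflat (fun _ : Fin 1 => h) (by
        haveI : Nontrivial (X.presheaf.stalk x ⧸ Ideal.map (f.stalkMap x).hom (IsLocalRing.maximalIdeal (S.presheaf.stalk (f x)))) :=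
          Ideal.Quotient.nontrivial_iff.mpr (ne_top_of_le_ne_top (IsLocalRing.maximalIdeal.isMaximal _).ne_top
            (Ideal.map_le_iff_le_comap.mpr fun t ht => map_nonunit (f.stalkMap x).hom t ht))
        haveI : IsLocalRing (X.presheaf.stalk x ⧸ Ideal.map (f.stalkMap x).hom (IsLocalRing.maximalIdeal (S.presheaf.stalk (f x)))) :=
          .of_surjective' (Ideal.Quotient.mk _) Ideal.Quotient.mk_surjective
        have hloc : IsLocalHom (Ideal.Quotient.mk (Ideal.map (f.stalkMap x).hom (IsLocalRing.maximalIdeal (S.presheaf.stalk (f x))))) :=
          .of_surjective _ Ideal.Quotient.mk_surjective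
        refine (IsLocalRing.isRegular_iff_isWeaklyRegular_of_subset_maximalIdeal ?_).mpr ?_
        · intro t ht
          simp only [List.ofFn_succ, List.ofFn_zero, List.map_cons, List.map_nil, List.mem_singleton] at ht
          subst ht
          exact (IsLocalRing.mem_maximalIdeal _).mpr (mem_nonunits_iff.mpr fun hu =>
            (IsLocalRing.mem_maximalIdeal _).mp hm ((isUnit_map_iff _ h).mp hu))
        · simp only [List.ofFn_succ, List.ofFn_zero, List.map_cons, List.map_nil, isWeaklyRegular_cons_iff]
          refine ⟨fun y z hyz => ?_, IsWeaklyRegular.nil _ _⟩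
          exact sub_eq_zero.mp ((mem_nonZeroDivisors_iff.mp hreg).1 _ (by rw [mul_sub]; exact sub_eq_zero.mpr hyz)))
      have hl : Ideal.ofList (List.ofFn a) = Ideal.span {a 0} := by simp [Ideal.ofList]
      refine ⟨U, hU, hx, a 0, ha 0, ?_, ?_, ?_⟩
      · letI := (f.appLE V U hVU).hom.toAlgebra
        have hw := GrothLib.FibreFlat.weaklyRegular_of_flat_aeval hfl
        simp only [List.ofFn_succ, List.ofFn_zero, RingTheory.Sequence.isWeaklyRegular_cons_iff] at hw
        rw [mem_nonZeroDivisors_iff_right]
        intro z hz
        exact hw.1 (by simpa [mul_comm] using hz)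
      · have := GrothLib.FibreFlat.flat_slice f hU hVU a hV hfl
        rwa [hl] at this
      · haveI : LocallyOfFinitePresentation (Spec.map (CommRingCat.ofHom (Ideal.Quotient.mk (Ideal.span {a 0})))) :=
          (LocallyOfFinitePresentation.SpecMap_iff _).mpr
            (RingHom.FinitePresentation.of_surjective _ Ideal.Quotient.mk_surjective (by
              show (RingHom.ker (Ideal.Quotient.mk _)).FG
              rw [Ideal.mk_ker]
              exact Submodule.fg_span_singleton _))
        haveI : LocallyOfFinitePresentation hU.fromSpec := inferInstance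
        infer_instance

end Groth.Agent.S1348
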