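import Groth.Statements.S2097
import Mathlib.RingTheory.Smooth.Basic
import Mathlib.RingTheory.Finiteness.Ideal
import Mathlib.RingTheory.Noetherian.Nilpotent

set_option autoImplicit false
universe u
open CAlg

namespace Groth.Agent.S2097

/-- Let `R → S` be smooth, `A` an `R`-algebra and `I ⊆ A` an ideal all of whose elements are nilpotent.
Every `R`-algebra map `S → A/I` lifts to an `R`-algebra map `S → A`. -/
theorem result {R S A : Type u} [CommRing R] [CommRing S] [Algebra R S] [Algebra.Smooth R S]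
    [CommRing A] [Algebra R A] (I : Ideal A) (hI : ∀ x ∈ I, IsNilpotent x) (g : S →ₐ[R] A ⧸ I) :
    ∃ f : S →ₐ[R] A, (Ideal.Quotient.mkₐ R I).comp f = g := by
  obtain ⟨n, f, hf, hker⟩ := (inferInstance : Algebra.FinitePresentation R S).out
  have : ∀ i, ∃ a, Ideal.Quotient.mk I a = g (f (MvPolynomial.X i)) := fun i =>
    Ideal.Quotient.mk_surjective _
  choose a ha using this
  let h : MvPolynomial (Fin n) R →ₐ[R] A := MvPolynomial.aeval a
  have hh : (Ideal.Quotient.mkₐ R I).comp h = g.comp f := by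
    apply MvPolynomial.algHom_ext
    intro i
    simp [h, ha]
  let I' : Ideal A := (RingHom.ker f.toRingHom).map h
  have hI' : I' ≤ I := by
    rw [Ideal.map_le_iff_le_comap]
    intro x hx
    have := AlgHom.congr_fun hh x
    simp only [AlgHom.comp_apply, Ideal.Quotient.mkₐ_eq_mk] at this
    rw [Ideal.mem_comap, ← Ideal.Quotient.eq_zero_iff_mem, this,
      show f x = 0 from hx, map_zero]
  have hnil : IsNilpotent I' := by
    apply (Ideal.FG.isNilpotent_iff_le_nilradical (hker.map _)).2
    exact fun x hx => mem_nilradical.2 (hI x (hI' hx))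
  let g' : S →ₐ[R] A ⧸ I' := AlgHom.liftOfSurjective f hf ((Ideal.Quotient.mkₐ R I').comp h)
    (fun x hx => Ideal.Quotient.eq_zero_iff_mem.2 (Ideal.mem_map_of_mem _ hx))
  refine ⟨Algebra.FormallySmooth.lift I' hnil g', AlgHom.ext fun s => ?_⟩
  obtain ⟨p, rfl⟩ := hf s
  have h1 : Algebra.FormallySmooth.lift I' hnil g' (f p) - h p ∈ I' := by
    rw [← Ideal.Quotient.eq, Algebra.FormallySmooth.mk_lift]
    exact AlgHom.liftOfSurjective_apply f hf _ _ p
  change Ideal.Quotient.mk I _ = g (f p)
  exact (Ideal.Quotient.eq.2 (hI' h1)).trans (AlgHom.congr_fun hh p)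

end Groth.Agent.S2097
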