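import Groth.Agent.Lib.AlgSp.SmoothGlue
import Groth.Statements.S10623
-- import your own Groth.Agent.* helpers here

set_option autoImplicit false
universe u
open CategoryTheory CategoryTheory.Limits AlgebraicGeometry
open AlgSp

namespace Groth.Agent.S10623

open GrothLib.AlgSp in
theorem fs_of_chart' {S : Scheme.{u}} {X Y : Sp S} (hX : IsAlgSpace X) (hY : IsAlgSpace Y) {f : X ⟶ Y}
    {U V : Over S} {a : (yon S).obj U ⟶ X} {b : (yon S).obj V ⟶ Y} {h : U ⟶ V}
    (ha : RepWith @Etale a) (ha' : RepWith @Surjective a) (hb : RepWith @Etale b)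
    (w : a ≫ f = (yon S).map h ≫ b) (hh : MoreMor.IsFormallySmoothHom h.left) : IsFormallySmoothMor f := by
  refine fs_of_etale_comp hX hY ha ha' ?_
  rw [w]
  exact fs_comp ((fs_yon_map_iff h).2 hh) (fs_of_fe (fe_of_repWith_etale hb))

/-- For a morphism f : X ⟶ Y of algebraic spaces over S, these conditions are equivalent: f is formally
smooth (lifting along square-zero thickenings of affine schemes); for every scheme U with a
representable etale U ⟶ X, every scheme V with a representable etale V ⟶ Y and every compatible U ⟶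
V, the morphism of schemes U ⟶ V is formally smooth; and this holds as soon as it holds for one such
diagram in which both charts are moreover surjective. -/
theorem result {S : Scheme.{u}} {X Y : AlgSp.Space S} (f : X ⟶ Y) :
    (AlgSp.IsFormallySmoothMor f.hom ↔ AlgSp.LocP @MoreMor.IsFormallySmoothHom f.hom) ∧
    (∀ (U V : Over S) (a : (AlgSp.yon S).obj U ⟶ X.obj) (b : (AlgSp.yon S).obj V ⟶ Y.obj) (h : U ⟶ V),
      AlgSp.RepWith @Etale a → AlgSp.RepWith @Surjective a → AlgSp.RepWith @Etale b → AlgSp.RepWith @Surjective b →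
      a ≫ f.hom = (AlgSp.yon S).map h ≫ b → MoreMor.IsFormallySmoothHom h.left → AlgSp.IsFormallySmoothMor f.hom) := by
  refine ⟨⟨GrothLib.AlgSp.locP_fs, fun hl => ?_⟩, fun U V a b h ha ha' hb _ w hh =>
    fs_of_chart' X.property Y.property ha ha' hb w hh⟩
  obtain ⟨V, b, hb, hb'⟩ := Y.property.atlas
  obtain ⟨U, a, h, ha, w, hs⟩ := GrothLib.AlgSp.exists_chart_over X.property Y.property f.hom b hb
  exact fs_of_chart' X.property Y.property ha (hs hb') hb w (hl a b h ha hb w)

end Groth.Agent.S10623
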