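import Groth.Statements.S1607
import Groth.Agent.Lib.AffCompl.Local
import Groth.Agent.Lib.FFDesc.Basic

set_option autoImplicit false
universe u
open CategoryTheory CategoryTheory.Limits AlgebraicGeometry
open Variety

namespace Groth.Agent.S1607

/-- If X is affine and each of its local rings is Noetherian of dimension at most one, then every
quasi-compact open subscheme of X is affine. -/
theorem result (X : Scheme.{u}) [IsAffine X]
    (hX : ∀ x : X, IsNoetherianRing (X.presheaf.stalk x) ∧ ringKrullDim (X.presheaf.stalk x) ≤ 1)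
    (U : X.Opens) (hU : IsCompact (U : Set X)) : IsAffineOpen U := by
  have : CompactSpace (↑U : Scheme.{u}) := isCompact_iff_compactSpace.mp hU
  have : QuasiSeparatedSpace (↑U : Scheme.{u}) := QuasiSeparatedSpace.of_isOpenEmbedding U.ι.isOpenEmbedding
  refine GrothLib.FFDesc.isAffine_of_forall_stalk U.ι fun y => ?_
  obtain ⟨hn, hd⟩ := hX y
  have := hn
  obtain ⟨t, ht⟩ := GrothLib.AffCompl.exists_eq_basicOpen (X.presheaf.stalk y) hd (X.fromSpecStalk y ⁻¹ᵁ U)
  have : IsAffine (X.fromSpecStalk y ⁻¹ᵁ U : Scheme.{u}) :=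
    GrothLib.AffCompl.isAffineOpen_of_eq_basicOpen _ t ht
  exact .of_isIso (isPullback_morphismRestrict (X.fromSpecStalk y) U).isoPullback.inv

end Groth.Agent.S1607
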