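import Groth.Agent.Lib.AlgSp.PointsUniv
import Groth.Statements.S9922
-- import your own Groth.Agent.* helpers here

set_option autoImplicit false
universe u
open CategoryTheory CategoryTheory.Limits AlgebraicGeometry
open AlgSp

namespace Groth.Agent.S9922

/-- For a morphism of algebraic spaces representable by schemes, representable universal closedness is
equivalent to closedness of |Z x_Y X| -> |Z| for every base change along a morphism of algebraic
spaces. -/
theorem result {S : Scheme.{u}} {X Y : AlgSp.Space S} (f : X ⟶ Y)
    (hf : AlgSp.Representable f.hom) :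
    AlgSp.RepWith @UniversallyClosed f.hom ↔ AlgSp.IsUnivClosedMor f.hom := by
  rw [GrothLib.AlgSp.repWith_universally_iff universallyClosed_eq (Q := AlgSp.IsClosedMor)
    (fun φ => GrothLib.AlgSp.isClosedMap_map_yon_iff φ) hf]
  refine ⟨fun h => GrothLib.AlgSp.isUnivClosedMor_of_affine fun T _ g P fst snd sq => ?_,
    fun h T g V fst snd sq => h (IsAlgSpace.yon_obj T) g _ _ sq⟩
  refine GrothLib.AlgSp.forall_affine_of_representable hf (fun {A B} k => IsClosedMap (Points.map k))
    (fun e k hk => ?_) h T g P fst snd sq
  rw [show Points.map (e.hom ≫ k) = Points.map k ∘ Points.map e.hom from funext (Points.map_comp _ _)]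
  refine hk.comp (IsClosedMap.of_inverse (Points.continuous_map e.inv) (fun x => ?_) fun x => ?_) <;>
    rw [← Points.map_comp] <;> simp

end Groth.Agent.S9922
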