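import Groth.Statements.S5038
import Groth.Agent.Lib.Hensel.Sections
-- import your own Groth.Agent.* helpers here

set_option autoImplicit false
open CategoryTheory AlgebraicGeometry
universe u
open Hensel

namespace Groth.Agent.S5038

/-- Let A be a henselian local ring with residue field k, S = Spec A, and f : X ⟶ S a smooth morphism.
Then the map from sections of f to k-points of the closed fibre is surjective: every u₀ : Spec k ⟶ X
lying over the closed point extends to a section u of f. -/
theorem result (A : Type u) [CommRing A] [HenselianLocalRing A]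
    {X : Scheme.{u}} (f : X ⟶ Spec (CommRingCat.of A)) [Smooth f]
    (u₀ : Spec (CommRingCat.of (IsLocalRing.ResidueField A)) ⟶ X)
    (h₀ : u₀ ≫ f = Spec.map (CommRingCat.ofHom (IsLocalRing.residue A))) :
    ∃ u : Spec (CommRingCat.of A) ⟶ X, u ≫ f = 𝟙 _ ∧
      Spec.map (CommRingCat.ofHom (IsLocalRing.residue A)) ≫ u = u₀ := by
  exact GrothLib.Hensel.exists_section_extending f u₀ h₀

end Groth.Agent.S5038
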