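import Groth.Agent.Lib.AlgSp.FpqcProps
import Groth.Statements.S10544
-- import your own Groth.Agent.* helpers here

set_option autoImplicit false
universe u
open CategoryTheory CategoryTheory.Limits AlgebraicGeometry
open AlgSp

namespace Groth.Agent.S10544

/-- The property of morphisms of algebraic spaces over S given by f is etale (composition with every
representable etale map from a scheme is representable etale) is fpqc local on the base: for an fpqc
covering of an algebraic space Y by algebraic spaces Y_i, a morphism f : X ⟶ Y of algebraic spaces
and cartesian squares X_i = Y_i ×_Y X, f has the property if and only if every X_i ⟶ Y_i has it. -/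
theorem result (S : Scheme.{u}) :
    AlgSp.IsLocalOnBase (AlgSp.IsFpqcCover (S := S)) AlgSp.IsEtaleMor := by
  refine GrothLib.AlgSp.isLocalOnBase_fpqc_of ?_ fun X Y hX hY f h => GrothLib.AlgSp.isEtaleMor_of_fpqcLoc hX hY h
  intro X Y X' Y' hX hY hX' hY' f g fst snd sq hf
  exact GrothLib.AlgSp.isEtaleMor_of_locP hY' (GrothLib.AlgSp.baseChanges_locP GrothLib.AlgSp.EtLocal.etale hX hY hX' hY' sq (GrothLib.AlgSp.locP_of_isEtaleMor hY hf))

end Groth.Agent.S10544
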