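import Groth.Agent.Lib.AlgSp.MonoPoint
import Groth.Agent.Lib.AlgSp.BootstrapQuot
import Groth.Agent.Lib.AlgSp.SingletonSpace
import Groth.Statements.S10370
-- import your own Groth.Agent.* helpers here

set_option autoImplicit false
universe u
open CategoryTheory CategoryTheory.Limits AlgebraicGeometry Topology TopologicalSpace
open AlgSp

namespace Groth.Agent.S10370

/-- For an algebraic space X over a scheme S and x ∈ |X| there is a monomorphism Z ⟶ X of algebraic
spaces with image {x} in |X| such that Z admits a locally finitely presented, flat, surjective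
morphism from the spectrum of a field (so Z is a reduced, locally Noetherian, one-point space). -/
theorem result {S : Scheme.{u}} (X : AlgSp.Space S) (x : AlgSp.Points X.obj) :
    ∃ (Z : AlgSp.Space S) (i : Z ⟶ X), Mono i.hom ∧ Set.range (AlgSp.Points.map i.hom) = {x} ∧
      ∃ (k : Type u) (_ : Field k) (str : Spec (CommRingCat.of k) ⟶ S) (p : (AlgSp.yon S).obj (Over.mk str) ⟶ Z.obj),
        AlgSp.LocP @LocallyOfFinitePresentation p ∧ AlgSp.LocP @Flat p ∧ AlgSp.IsSurjectiveMor p := by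
  obtain ⟨U, φ, hφ, hs⟩ := X.property.atlas
  obtain ⟨u, rfl⟩ := GrothLib.AlgSp.surjective_ofPt_of_repWith hs x
  let q := AlgSp.FieldPt.ofPt φ u
  obtain ⟨R, t₀, s₀, sq⟩ := GrothLib.AlgSp.exists_isPullback_yon X.property.diag φ φ
  obtain ⟨P, a', a, sqP⟩ := GrothLib.AlgSp.exists_isPullback_yon X.property.diag q.toHom q.toHom
  obtain ⟨ha, -, -⟩ := GrothLib.AlgSp.pair_point_facts hφ sq u u sqP
  haveI := ha
  haveI : IsLocallyNoetherian q.pt.left := inferInstanceAs (IsLocallyNoetherian (Spec (CommRingCat.of q.K)))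
  haveI : Flat a.left := GrothLib.AlgSp.flat_to_field (k := q.K) a.left
  haveI : LocallyOfFinitePresentation a.left := LocallyOfFinitePresentation.iff_locallyOfFiniteType.2 ha
  have heq := GrothLib.AlgSp.isEqvRel_of_isPullback sqP
  have hZ := GrothLib.AlgSp.isAlgSpace_quot heq
  have sqZ := GrothLib.AlgSp.isPullback_yonQuotπ heq
  haveI := GrothLib.AlgSp.isLocallySurjective_yonQuotπ a a'
  obtain ⟨-, hf, hl, hsj⟩ := GrothLib.AlgSp.fppf_chart_of_kernelPair sqZ
  haveI : Epi (GrothLib.AlgSp.yonQuotπ a a') := Sheaf.epi_of_isLocallySurjective _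
  obtain ⟨g, hg⟩ := GrothLib.ShfQuot.exists_desc (GrothLib.AlgSp.yonQuotπ a a') q.toHom fun α β hab => by
    rw [← sqZ.lift_fst α β hab, Category.assoc, sqP.w, ← Category.assoc, sqZ.lift_snd]
  haveI hgm : Mono g := ⟨fun {W} α β hab => by
    obtain ⟨P₁, c₁, ξ, hc₁, hξ⟩ := GrothLib.ShfQuot.exists_cover (GrothLib.AlgSp.yonQuotπ a a') α
    obtain ⟨P₂, c₂, η, hc₂, hη⟩ := GrothLib.ShfQuot.exists_cover (GrothLib.AlgSp.yonQuotπ a a') (c₁ ≫ β)
    have hp : (c₂ ≫ ξ) ≫ q.toHom = η ≫ q.toHom := by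
      rw [← hg, Category.assoc, ← Category.assoc ξ, hξ, ← Category.assoc η, hη, Category.assoc, Category.assoc, Category.assoc, hab]
    rw [← cancel_epi c₁, ← cancel_epi c₂, ← hξ, ← hη, ← Category.assoc, ← sqP.lift_fst (c₂ ≫ ξ) η hp,
      Category.assoc, sqZ.w, ← Category.assoc, sqP.lift_snd]⟩
  have hps := GrothLib.AlgSp.surjective_map_of_repWith hsj
  refine ⟨⟨_, hZ⟩, ObjectProperty.homMk g, hgm, Set.eq_singleton_iff_unique_mem.2 ⟨?_, ?_⟩,
    q.K, q.field, q.str, GrothLib.AlgSp.yonQuotπ a a', GrothLib.AlgSp.EtLocal.locP_of_repWith GrothLib.AlgSp.EtLocal.lfp hZ hl,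
    GrothLib.AlgSp.EtLocal.locP_of_repWith GrothLib.AlgSp.EtLocal.flat hZ hf, hps⟩
  · refine ⟨AlgSp.Points.ofPt (GrothLib.AlgSp.yonQuotπ a a') (IsLocalRing.closedPoint q.K), ?_⟩
    show AlgSp.Points.map g _ = _
    rw [AlgSp.Points.map_ofPt, hg, AlgSp.Points.ofPt_toHom]
    rfl
  · rintro _ ⟨z, rfl⟩
    obtain ⟨w, rfl⟩ := hps z
    obtain ⟨w, rfl⟩ := (AlgSp.Points.schemeEquiv q.pt).surjective w
    show AlgSp.Points.map g (AlgSp.Points.map _ (AlgSp.Points.ofScheme q.pt w)) = _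
    rw [← AlgSp.Points.ofPt_eq_map_ofScheme, AlgSp.Points.map_ofPt, hg, AlgSp.Points.ofPt_toHom]
    rfl

end Groth.Agent.S10370
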