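import Groth.Statements.S16871
import Groth.Agent.Lib.AlgSt.UnivProps
import Groth.Agent.Lib.AlgSt.Gerbe.QC
import Groth.Agent.S10370
import Groth.Agent.Lib.AlgSt.DiagSpaces
import Groth.Agent.Lib.AlgSt.ResGerbe
import Groth.Agent.Lib.AlgSp.SingletonSpace


set_option autoImplicit false
set_option backward.isDefEq.respectTransparency false
set_option backward.isDefEq.respectTransparency.types false
universe u
open CategoryTheory AlgebraicGeometry
open Gerb

namespace Groth.Agent.S16871

/-- If an algebraic stack is a gerbe (over some algebraic space), then the residual gerbe exists at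
every one of its points. (Non-triviality of the conclusion rests on the monomorphism condition.) -/
theorem result
    (S : Scheme.{u}) (𝒳 : AlgSt.Cat S) (h𝒳 : AlgSt.IsAlgStack Scheme.fppfPrecoverage 𝒳)
    (X : AlgSp.Space S) (π : 𝒳 ⥤ᵇ AlgSt.ofSp X.obj)
    (hπ : Gerb.IsGerbeOver (QuotSh.J Scheme.fppfPrecoverage S) π) (x : AlgSt.Points 𝒳) :
    Gerb.ResGerbeExists Scheme.fppfPrecoverage 𝒳 x := by
    let hsp : ∀ F : AlgSp.Space S, AlgSt.IsAlgStack Scheme.fppfPrecoverage (AlgSt.ofSp F.obj) := fun F =>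
      (GrothLib.AlgSt.isDM_of_repByAlgSp ⟨F, BasedFunctor.id _, GrothLib.FibCat.IsEquivOver.refl _⟩).1
    have hX := hsp X
    obtain ⟨Z, i, hi, hrange, k, hk, str, p, -, -, hps⟩ :=
      Groth.Agent.S10370.result X (GrothLib.AlgSt.toSpPoints (AlgSt.Points.map π x))
    haveI := hi
    let g := AlgSt.ofSpMap i.hom
    have hg : AlgSt.IsMono g := GrothLib.AlgSt.repByAlgSpWith_ofSpMap Z.property X.property _ fun U c =>
      (MorphismProperty.monomorphisms.iff _).2 (inferInstance : Mono (CategoryTheory.Limits.pullback.fst c i.hom))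
    have hZ := hsp Z
    let 𝒵 := FibCat.fp g π
    let f : 𝒵 ⥤ᵇ 𝒳 := FibCat.fpSnd g π
    have hmap : ∀ z, AlgSt.Points.map g z = AlgSt.Points.map π x := fun z => by
      apply GrothLib.AlgSt.toSpPoints_bijective.injective
      rw [GrothLib.AlgSt.toSpPoints_map]
      exact hrange.subset ⟨_, rfl⟩
    haveI hne : Nonempty (AlgSt.Points (AlgSt.ofSp Z.obj)) := by
      obtain ⟨z, -⟩ := hrange.symm.subset (Set.mem_singleton _)
      exact ⟨(GrothLib.AlgSt.toSpPoints_bijective.surjective z).choose⟩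
    haveI hsub : Subsingleton (AlgSt.Points (AlgSt.ofSp Z.obj)) := ⟨fun z z' => by
      haveI := (GrothLib.AlgSp.subsingleton_points_of_point hps).2
      exact GrothLib.AlgSt.toSpPoints_bijective.injective (Subsingleton.elim _ _)⟩
    have hh := (GrothLib.AlgSt.Section.isUnivHomeo_of_gerbe h𝒳 hX π hπ) _ hZ g
    haveI : Subsingleton (AlgSt.Points 𝒵) := hh.injective.subsingleton
    obtain ⟨z₀⟩ := hne
    obtain ⟨w, -, hw⟩ := GrothLib.AlgSt.exists_points_fp h𝒳.isStack.1 hZ.isStack.1 hX.isStack.1 π g z₀ x (hmap z₀)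
    exact ⟨𝒵, f, GrothLib.AlgSt.isAlgStack_fp hX.isStack hX.diag hZ h𝒳 g π,
      GrothLib.AlgSt.repByAlgSpWith_fpSnd π hg, ⟨w⟩, inferInstance,
      fun z => by rw [Subsingleton.elim z w]; exact hw⟩

end Groth.Agent.S16871
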