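import Groth.Statements.S12878
import Groth.Agent.Lib.AlgSt.OpenSub
import Groth.Agent.Lib.AlgSt.Mono
import Groth.Agent.Lib.AlgSt.LocQ


set_option autoImplicit false
set_option backward.isDefEq.respectTransparency false
set_option backward.isDefEq.respectTransparency.types false
open CategoryTheory AlgebraicGeometry
universe u
open AlgSt

namespace Groth.Agent.S12878

open GrothLib.AlgSt GrothLib.FibCat in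
theorem aux {S : Scheme.{u}} {𝒵 𝒳 : AlgSt.Cat S}
    (h𝒵 : AlgSt.IsAlgStack Scheme.fppfPrecoverage 𝒵) (h𝒳 : AlgSt.IsAlgStack Scheme.fppfPrecoverage 𝒳) (i : 𝒵 ⥤ᵇ 𝒳)
    (hi : AlgSt.IsImm i) (Q : 𝒳.obj → Prop)
    (hQ : ∀ η, Q η ↔ ∃ (z : 𝒵.obj) (e : i.obj z ≅ η), 𝒳.p.IsHomLift (𝟙 (𝒳.p.obj η)) e.hom) :
    ObjectProperty.IsClosedUnderIsomorphisms Q ∧
    ∃ i' : 𝒵 ⥤ᵇ AlgSt.fullSub 𝒳 Q, FibCat.IsEquivOver i' ∧ BasedFunctor.comp i' (AlgSt.subIncl 𝒳 Q) = i ∧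
      AlgSt.IsAlgStack Scheme.fppfPrecoverage (AlgSt.fullSub 𝒳 Q) ∧
      ∀ P : MorphismProperty (AlgSp.Sp S), AlgSt.RepByAlgSpWith P i → AlgSt.RepByAlgSpWith P (AlgSt.subIncl 𝒳 Q) := by
  obtain ⟨hfull, hfaith⟩ := full_faithful_of_isMono h𝒵.isStack.1 h𝒳.isStack.1 i (isMono_of_isImm hi)
  have hmem : ∀ z, Q (i.obj z) := fun z => (hQ _).2 ⟨z, Iso.refl _, IsHomLift.id rfl⟩
  let i' := liftSub Q i hmem
  have hfu : i'.toFunctor.Full := ⟨fun {a b} φ => by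
    obtain ⟨ψ, hψ⟩ := i.toFunctor.map_surjective φ.hom
    exact ⟨ψ, ObjectProperty.hom_ext _ hψ⟩⟩
  have hfa : i'.toFunctor.Faithful := ⟨fun {a b ψ₁ ψ₂} h => i.toFunctor.map_injective (congrArg (fun t => t.hom) h)⟩
  have he : FibCat.IsEquivOver i' := FFEssSurjOver.isEquivOver ⟨hfu, hfa, fun η => by
    obtain ⟨z, e, he⟩ := (hQ η.obj).1 η.property
    exact ⟨z, ObjectProperty.isoMk _ e, IsHomLift.of_fac' _ _ _ (IsHomLift.domain_eq 𝒳.p (𝟙 (𝒳.p.obj η.obj)) e.hom) rfl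
      (IsHomLift.fac' 𝒳.p (𝟙 (𝒳.p.obj η.obj)) e.hom)⟩⟩
  refine ⟨⟨fun {η η'} j h => (hQ η').2 ?_⟩, i', he, rfl, (isAlgStack_iff_of_isEquivOver i' he).1 h𝒵, fun P hP => ?_⟩
  · obtain ⟨z, e, he⟩ := (hQ η).1 h
    let b : 𝒳.p.obj η' ⟶ 𝒳.p.obj η := 𝒳.p.map j.inv
    obtain ⟨z', φ, hφ⟩ := IsFibGrpd.exists_lift_of_eq h𝒵.isStack.1
      ((i.w_obj z).symm.trans (IsHomLift.domain_eq 𝒳.p (𝟙 (𝒳.p.obj η)) e.hom)) b
    have h2 : 𝒳.p.IsHomLift b j.inv := IsHomLift.map _ _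
    have h3 : 𝒳.p.IsHomLift (b ≫ 𝟙 _) (i.map φ ≫ e.hom) := inferInstance
    rw [Category.comp_id] at h3
    obtain ⟨w, hw, -⟩ := @IsFibGrpd.exists_iso_of_lifts _ _ _ _ _ h𝒳.isStack.1 _ _ b _ _ _ j.inv (i.map φ ≫ e.hom) h2 h3
    exact ⟨z', w, hw⟩
  · obtain ⟨e', he', -, ⟨ε⟩⟩ := IsEquivOver.symm he
    have h := repByAlgSpWith_equiv_comp e' he' hP
    exact repByAlgSpWith_of_iso (show BasedFunctor.comp e' i ≅ AlgSt.subIncl 𝒳 Q from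
      whiskerRightIso ε (AlgSt.subIncl 𝒳 Q)) h

/-- Let `i : 𝒵 ⟶ 𝒳` be an immersion of algebraic stacks over `S`. Then there is a unique locally closed
substack `𝒳' ⊂ 𝒳` (a predicate on objects closed under isomorphisms, with algebraic full subcategory
and immersion inclusion) such that `i` is 2-isomorphic to an equivalence `𝒵 ⟶ 𝒳'` over `(Sch/S)`
followed by the inclusion `𝒳' ⟶ 𝒳`; moreover `𝒳'` is closed (resp. open) as a substack whenever `i`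
is a closed (resp. open) immersion. -/
theorem result {S : Scheme.{u}} {𝒵 𝒳 : AlgSt.Cat S}
    (h𝒵 : AlgSt.IsAlgStack Scheme.fppfPrecoverage 𝒵) (h𝒳 : AlgSt.IsAlgStack Scheme.fppfPrecoverage 𝒳) (i : 𝒵 ⥤ᵇ 𝒳) (hi : AlgSt.IsImm i) :
    ∃ Q : 𝒳.obj → Prop,
      (AlgSt.IsLocClosedSubstack 𝒳 Q Scheme.fppfPrecoverage ∧
        (∃ i' : 𝒵 ⥤ᵇ AlgSt.fullSub 𝒳 Q, FibCat.IsEquivOver i' ∧
          Nonempty (BasedFunctor.comp i' (AlgSt.subIncl 𝒳 Q) ≅ i)) ∧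
        (AlgSt.IsClosedImm i → AlgSt.IsClosedSubstack 𝒳 Q Scheme.fppfPrecoverage) ∧
        (AlgSt.IsOpenImm i → AlgSt.IsOpenSubstack 𝒳 Q Scheme.fppfPrecoverage)) ∧
      ∀ Q' : 𝒳.obj → Prop, AlgSt.IsLocClosedSubstack 𝒳 Q' Scheme.fppfPrecoverage →
        (∃ i' : 𝒵 ⥤ᵇ AlgSt.fullSub 𝒳 Q', FibCat.IsEquivOver i' ∧
          Nonempty (BasedFunctor.comp i' (AlgSt.subIncl 𝒳 Q') ≅ i)) → Q' = Q := by
  let Q : 𝒳.obj → Prop := fun η => ∃ (z : 𝒵.obj) (e : i.obj z ≅ η), 𝒳.p.IsHomLift (𝟙 (𝒳.p.obj η)) e.hom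
  obtain ⟨hc, i', he, hi', hst, hP⟩ := aux h𝒵 h𝒳 i hi Q fun _ => Iff.rfl
  refine ⟨Q, ⟨⟨hc, hst, hP _ hi⟩, ⟨i', he, ⟨eqToIso hi'⟩⟩, fun h => ⟨hc, hst, hP _ h⟩, fun h => ⟨hc, hst, hP _ h⟩⟩,
    fun Q' hQ' ⟨j, hj, ⟨β⟩⟩ => funext fun η => propext ⟨fun h => ?_, fun ⟨z, e, _⟩ => ?_⟩⟩
  · obtain ⟨z, e, hz⟩ := GrothLib.FibCat.IsEquivOver.essSurj hj (⟨η, h⟩ : (AlgSt.fullSub 𝒳 Q').obj)
    have : (AlgSt.fullSub 𝒳 Q').p.IsHomLift (𝟙 (𝒳.p.obj η)) e.hom := hz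
    have h1 : 𝒳.p.IsHomLift (𝟙 (𝒳.p.obj η)) e.hom.hom :=
      IsHomLift.of_fac' _ _ _ (IsHomLift.domain_eq (AlgSt.fullSub 𝒳 Q').p (𝟙 (𝒳.p.obj η)) e.hom) rfl
        (IsHomLift.fac' (AlgSt.fullSub 𝒳 Q').p (𝟙 (𝒳.p.obj η)) e.hom)
    have h2 : 𝒳.p.IsHomLift (𝟙 (𝒳.p.obj η)) (β.inv.toNatTrans.app z) :=
      BasedNatTrans.isHomLift β.inv ((i.w_obj z).symm.trans
        ((i.w_obj z).trans ((j.w_obj z).symm.trans (IsHomLift.domain_eq 𝒳.p (𝟙 (𝒳.p.obj η)) e.hom.hom))))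
    exact ⟨z, (GrothLib.FibCat.isoApp β z).symm ≪≫ (AlgSt.subIncl 𝒳 Q').toFunctor.mapIso e,
      inferInstanceAs (𝒳.p.IsHomLift (𝟙 (𝒳.p.obj η)) (β.inv.toNatTrans.app z ≫ e.hom.hom))⟩
  · have := hQ'.1
    exact ObjectProperty.IsClosedUnderIsomorphisms.of_iso ((GrothLib.FibCat.isoApp β z) ≪≫ e) (j.obj z).property

end Groth.Agent.S12878
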