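import Groth.Statements.S10284
import Groth.Agent.Lib.AlgSp.LiftDescent
import Groth.Agent.Lib.AlgSp.Space

set_option autoImplicit false
universe u
open CategoryTheory CategoryTheory.Limits AlgebraicGeometry
open AlgSp

namespace Groth.Agent.S10284

/-- For a separated morphism of algebraic spaces, a valuative square that has a lift after a dominating
extension of the valuation ring already has a lift. -/
theorem result {S : Scheme.{u}} {X Y : AlgSp.Space S} (f : X ⟶ Y)
    (hf : AlgSp.IsSeparatedMor f.hom) (sq : AlgSp.ValSq f.hom) (e : sq.DomExt) (he : e.HasLift) :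
    sq.HasLift := by
  obtain ⟨l', hl₁, hl₂⟩ := he
  let ψ₀ : e.ptK' ⟶ sq.ptK := Over.homMk (Spec.map (CommRingCat.ofHom e.ψ)) (by
    change Spec.map _ ≫ Spec.map _ ≫ _ = Spec.map _ ≫ Spec.map _ ≫ _
    rw [← Spec.map_comp_assoc, ← Spec.map_comp_assoc, ← CommRingCat.ofHom_comp,
      ← CommRingCat.ofHom_comp, e.comm])
  let j' : e.ptK' ⟶ e.ptA' := Over.homMk (Spec.map (CommRingCat.ofHom (algebraMap e.A' e.K'))) rfl
  let φ₀ : e.ptA' ⟶ sq.ptA := Over.homMk (Spec.map (CommRingCat.ofHom e.φ)) rfl
  have hP := GrothLib.AlgSp.isAlgSpace_pullback' Y.property X.property (IsAlgSpace.yon_obj sq.ptA) f.hom sq.bot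
  have hπ : IsSeparatedMor (pullback.snd f.hom sq.bot) := GrothLib.AlgSp.repWith_of_isPullback
    (GrothLib.AlgSp.isPullback_diagonal_of_isPullback (IsPullback.of_hasPullback f.hom sq.bot)) hf
  let k := pullback.lift (f := f.hom) (g := sq.bot) sq.top ((yon S).map sq.j) sq.comm
  let l₀ := pullback.lift (f := f.hom) (g := sq.bot) l' ((yon S).map φ₀) hl₂
  haveI : IsDominant (Spec.map (CommRingCat.ofHom (algebraMap e.A' e.K'))) :=
    ⟨(PrimeSpectrum.denseRange_comap_iff_ker_le_nilRadical _).2 fun x hx => by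
      rw [show x = 0 from IsFractionRing.injective e.A' e.K' (by simpa using hx)]; exact Ideal.zero_mem _⟩
  haveI : IsSchemeTheoreticallyDominant j'.left :=
    IsSchemeTheoreticallyDominant.of_isDominant (Spec.map (CommRingCat.ofHom (algebraMap e.A' e.K')))
  haveI : QuasiCompact j'.left :=
    inferInstanceAs (QuasiCompact (Spec.map (CommRingCat.ofHom (algebraMap e.A' e.K'))))
  haveI : IsIso (𝟙 (Spec (CommRingCat.of sq.A))) := IsIso.id _
  haveI : IsIso (𝟙 (Spec (CommRingCat.of sq.K))) := IsIso.id _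
  haveI := e.isLocalHom
  obtain ⟨l, hlk, hlπ⟩ := GrothLib.AlgSp.exists_section_of_dominating hP hπ (A := sq.A) (K := sq.K)
    (T := sq.ptA) (𝟙 (Spec (CommRingCat.of sq.A))) (TK := sq.ptK) (𝟙 (Spec (CommRingCat.of sq.K))) sq.j
    (by change Spec.map _ ≫ 𝟙 _ = 𝟙 _ ≫ Spec.map _; rw [Category.comp_id, Category.id_comp])
    k (pullback.lift_snd _ _ _) φ₀ ψ₀ j'
    (Over.OverMorphism.ext (by
      change Spec.map _ ≫ Spec.map _ = Spec.map _ ≫ Spec.map _
      rw [← Spec.map_comp, ← Spec.map_comp, ← CommRingCat.ofHom_comp, ← CommRingCat.ofHom_comp, e.comm]))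
    (IsLocalRing.closedPoint e.A') (IsLocalRing.comap_closedPoint e.φ) l₀ (pullback.lift_snd _ _ _) (by
      apply pullback.hom_ext
      · simp only [l₀, k, Category.assoc, pullback.lift_fst]
        exact hl₁
      · simp only [l₀, k, Category.assoc, pullback.lift_snd]
        rw [← Functor.map_comp, ← Functor.map_comp]
        apply congrArg
        apply Over.OverMorphism.ext
        change Spec.map _ ≫ Spec.map _ = Spec.map _ ≫ Spec.map _
        rw [← Spec.map_comp, ← Spec.map_comp, ← CommRingCat.ofHom_comp, ← CommRingCat.ofHom_comp, e.comm])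
  refine ⟨l ≫ pullback.fst _ _, ?_, ?_⟩
  · rw [← Category.assoc, hlk, pullback.lift_fst]
  · rw [Category.assoc, pullback.condition, ← Category.assoc, hlπ, Category.id_comp]

end Groth.Agent.S10284
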