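import Groth.Statements.S10289
import Groth.Agent.Lib.AlgSp.ValExt

set_option autoImplicit false
universe u
open CategoryTheory CategoryTheory.Limits AlgebraicGeometry
open AlgSp

namespace Groth.Agent.S10289

/-- A quasi-separated universally closed morphism of algebraic spaces meets the existence half of the
valuative criterion. -/
theorem result {S : Scheme.{u}} {X Y : AlgSp.Space S} (f : X ⟶ Y)
    (hqs : AlgSp.IsQuasiSeparatedMor f.hom) (hc : AlgSp.IsUnivClosedMor f.hom) : AlgSp.ExistVC f.hom := by
  intro v
  refine GrothLib.AlgSp.hasLiftExt_of_isUnivClosedMor X.property Y.property hc v fun P fst snd sq => ?_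
  haveI : IsAffine v.ptA.left := inferInstanceAs (IsAffine (Spec (CommRingCat.of v.A)))
  haveI : IsAffine v.ptK.left := inferInstanceAs (IsAffine (Spec (CommRingCat.of v.K)))
  haveI : IsLocallyArtinian v.ptK.left := inferInstanceAs (IsLocallyArtinian (Spec (CommRingCat.of v.K)))
  exact GrothLib.AlgSp.finiteFibres_of_quasiCompact_diagonal
    (GrothLib.AlgSp.repWith_of_isPullback (GrothLib.AlgSp.isPullback_diagonal_of_isPullback sq) hqs)
    v.j _ (sq.lift_snd _ _ _) _

end Groth.Agent.S10289
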