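import Groth.Statements.S2335
import Groth.Agent.Lib.DVRDom.Scheme

set_option autoImplicit false
universe u
open CategoryTheory CategoryTheory.Limits AlgebraicGeometry
open EGA2

namespace Groth.Agent.S2335

/-- Let Y be locally Noetherian and f : X → Y of finite type. Then f is proper if and only if for every
discrete valuation ring A with fraction field K and every commutative square Spec K → X, Spec A → Y,
there is exactly one morphism Spec A → X making both triangles commute. -/
theorem result {X Y : Scheme.{u}} [IsLocallyNoetherian Y] (f : X ⟶ Y) [LocallyOfFiniteType f] [QuasiCompact f] :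
    IsProper f ↔ ∀ (A : Type u) [CommRing A] [IsDomain A] [IsDiscreteValuationRing A] (x : (Spec (CommRingCat.of (FractionRing A))) ⟶ X) (y : (Spec (CommRingCat.of A)) ⟶ Y),
      x ≫ f = (Spec.map (CommRingCat.ofHom (algebraMap A (FractionRing A)))) ≫ y → ∃! l : (Spec (CommRingCat.of A)) ⟶ X, l ≫ f = y ∧ (Spec.map (CommRingCat.ofHom (algebraMap A (FractionRing A)))) ≫ l = x := by
  constructor
  · intro hP A _ _ _ x y w
    have hE : ValuativeCriterion.Existence f :=
      ((UniversallyClosed.eq_valuativeCriterion.{u}).le _ _ _ hP.toUniversallyClosed).1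
    obtain ⟨l, hl, hl'⟩ := GrothLib.DVRDom.exists_lift_of_existence hE x y w
    exact ⟨l, ⟨hl, hl'⟩, fun l' h' ↦
      GrothLib.DVRDom.eq_of_isSeparated f l' l (h'.1.trans hl.symm) (h'.2.trans hl'.symm)⟩
  · intro H
    have : IsSeparated f := by
      refine GrothLib.DVRDom.isSeparated_of_lifts f (𝟙 X) (fun _ ↦ True)
        (fun x ↦ ⟨x, trivial, specializes_rfl⟩) ?_
      intro u V _ _ l₁ l₂ h h₁ h₂
      obtain ⟨z, e₁, e₂⟩ := GrothLib.DVRDom.restrict_fractionRing_eq (L := X.residueField u) V l₁ l₂
        (h₁.trans h₂.symm)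
      exact (H V _ (l₁ ≫ f) (Category.assoc _ _ _)).unique ⟨rfl, rfl⟩ ⟨h.symm, e₂.trans e₁.symm⟩
    have : UniversallyClosed f := by
      refine UniversallyClosed.of_valuativeCriterion f (GrothLib.DVRDom.existence_of_lifts f
        (fun x V ↦ IsDiscreteValuationRing V) ?_ ?_)
      · intro x V₀ hV₀ hq C hC hCB hCn
        have := hCn (IsLocallyNoetherian.component_noetherian ⟨V₀, hV₀⟩)
        obtain ⟨s, hs⟩ := GrothLib.DVRDom.exists_finset_residueField x f hV₀ hq
        exact GrothLib.DVRDom.exists_dvr_dominating_localSubring C hC s (eq_top_iff.mpr (hs.ge.trans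
          (Subfield.closure_mono (Set.union_subset_union_left _ (by rintro _ ⟨b, rfl⟩; exact hCB b)))))
      · intro x V hV
        exact GrothLib.DVRDom.lifts_of_fractionRing (L := X.residueField x) f _ V
          fun a b w _ ↦ (H V a b w).exists
    exact {}

end Groth.Agent.S2335
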