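import Groth.Statements.S7510
import Groth.Agent.Lib.GrpSchField.GrpdField
-- import your own Groth.Agent.* helpers here

set_option autoImplicit false
universe u
open CategoryTheory CategoryTheory.Limits AlgebraicGeometry
open Grpd

namespace Groth.Agent.S7510

open GrothLib.GrpSchField in
/-- The two base changes of `h = s ∘ pr₁` along `t` and along `s` agree through composition. -/
theorem exists_shift {S : Scheme.{u}} (G : Grpd.GroupoidScheme S) {U' : Scheme.{u}} (g : U' ⟶ G.U) :
    ∃ (φ : pullback (pullback.snd g G.t ≫ G.s) G.t ≅ pullback (pullback.snd g G.t ≫ G.s) G.s),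
      φ.hom ≫ pullback.snd _ G.s = pullback.snd _ G.t ∧
      ∀ {T : Scheme.{u}} (u' : T ⟶ U') (a b : T ⟶ G.R) (h₁ : u' ≫ g = a ≫ G.t)
        (h₂ : a ≫ G.s = b ≫ G.t),
        pullback.lift (f := pullback.snd g G.t ≫ G.s) (g := G.t) (pullback.lift u' a h₁) b
            (by rw [pullback.lift_snd_assoc, h₂]) ≫ φ.hom ≫ pullback.fst _ G.s =
          pullback.lift u' (GrothLib.GrpSchField.cmp G a b h₂) (h₁.trans (G.comp_t a b h₂).symm) := by
  let h := pullback.snd g G.t ≫ G.s
  let x := pullback.fst h G.t
  let b := pullback.snd h G.t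
  let a := x ≫ pullback.snd g G.t
  have hab : a ≫ G.s = b ≫ G.t := (Category.assoc _ _ _).trans pullback.condition
  have hua : (x ≫ pullback.fst g G.t) ≫ g = a ≫ G.t := by
    simp only [a, Category.assoc, pullback.condition]
  let x' := pullback.fst h G.s
  let b' := pullback.snd h G.s
  let c := x' ≫ pullback.snd g G.t
  have hcb : c ≫ G.s = b' ≫ G.s := (Category.assoc _ _ _).trans pullback.condition
  have hcb' : c ≫ G.s = (b' ≫ G.i) ≫ G.t := by rw [hcb, Category.assoc, G.i_t]
  have hcs : cmp G c (b' ≫ G.i) hcb' ≫ G.s = b' ≫ G.t :=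
    (G.comp_s _ _ hcb').trans (by rw [Category.assoc, G.i_s])
  have huc : (x' ≫ pullback.fst g G.t) ≫ g = c ≫ G.t := by
    simp only [c, Category.assoc, pullback.condition]
  let F : pullback h G.t ⟶ pullback h G.s :=
    pullback.lift (pullback.lift (x ≫ pullback.fst g G.t) (cmp G a b hab)
        (hua.trans (G.comp_t a b hab).symm)) b
      (by rw [pullback.lift_snd_assoc]; exact G.comp_s a b hab)
  let F' : pullback h G.s ⟶ pullback h G.t :=
    pullback.lift (pullback.lift (x' ≫ pullback.fst g G.t) (cmp G c (b' ≫ G.i) hcb')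
        (huc.trans (G.comp_t _ _ hcb').symm)) b'
      (by rw [pullback.lift_snd_assoc]; exact hcs)
  have hFx : F ≫ x' = pullback.lift (x ≫ pullback.fst g G.t) (cmp G a b hab)
        (hua.trans (G.comp_t a b hab).symm) := pullback.lift_fst _ _ _
  have hFb : F ≫ b' = b := pullback.lift_snd _ _ _
  have hF'x : F' ≫ x = pullback.lift (x' ≫ pullback.fst g G.t) (cmp G c (b' ≫ G.i) hcb')
        (huc.trans (G.comp_t _ _ hcb').symm) := pullback.lift_fst _ _ _
  have hF'b : F' ≫ b = b' := pullback.lift_snd _ _ _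
  refine ⟨⟨F, F', ?_, ?_⟩, hFb, ?_⟩
  · apply pullback.hom_ext
    · rw [Category.assoc, hF'x, Category.id_comp]
      apply pullback.hom_ext
      · rw [Category.assoc, pullback.lift_fst, ← Category.assoc, hFx, pullback.lift_fst]
      · rw [Category.assoc, pullback.lift_snd, comp_cmp]
        have hFc : F ≫ c = cmp G a b hab := by
          simp only [c, ← Category.assoc, hFx, pullback.lift_snd]
        refine (cmp_congr G _ hFc ((Category.assoc _ _ _).symm.trans (congrArg (· ≫ G.i) hFb))).trans ?_
        exact cmp_inv_right' G b a hab _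
    · rw [Category.assoc, hF'b, Category.id_comp]; exact hFb
  · apply pullback.hom_ext
    · rw [Category.assoc, hFx, Category.id_comp]
      apply pullback.hom_ext
      · rw [Category.assoc, pullback.lift_fst, ← Category.assoc, hF'x, pullback.lift_fst]
      · rw [Category.assoc, pullback.lift_snd, comp_cmp]
        have hF'a : F' ≫ a = cmp G c (b' ≫ G.i) hcb' := by
          simp only [a, ← Category.assoc, hF'x, pullback.lift_snd]
        refine (cmp_congr G _ hF'a hF'b).trans ?_
        exact cmp_inv_right G b' c hcb.symm hcb'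
    · rw [Category.assoc, hFb, Category.id_comp]; exact hF'b
  · intro T u' α β h₁ h₂
    show _ ≫ F ≫ x' = _
    rw [hFx]
    apply pullback.hom_ext
    · rw [pullback.lift_fst, Category.assoc]
      dsimp only [x, h]
      rw [pullback.lift_fst, pullback.lift_fst_assoc, pullback.lift_fst]
    · rw [Category.assoc, pullback.lift_snd, pullback.lift_snd, comp_cmp]
      refine cmp_congr G _ ?_ (pullback.lift_snd _ _ _)
      dsimp only [a, x, h]
      rw [pullback.lift_fst_assoc, pullback.lift_snd]

/-- Let (U, R, s, t, c, e, i) be a groupoid scheme over S and g : U' -> U a morphism; write h = s ∘ pr_1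
: U' x_(g,U,t) R -> U. Let P, Q, R be properties of morphisms of schemes, with P invariant under
composition with isomorphisms, such that (1) R implies Q, (2) Q is stable under base change and
composition, (3) every morphism f : X -> Y with Q has a largest open W(P, f) of X on which the
restriction of f has P (given here as a function W with these two properties), and (4) for f with Q
and a base change along Y' -> Y with R, the preimage of W(P, f) in X x_Y Y' is W(P, f') for the base
change f'. If s, t have R and g has Q, then there is an open W of U' whose preimage in U' x_(g,U,t)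
R equals W(P, h). (The published statement speaks of arbitrary properties of morphisms; this row
asks P to be invariant under composition with isomorphisms, which the proof uses to identify the
largest opens on the two isomorphic fibre products of h with t and with s.) (A groupoid scheme
carries U, R, s, t, c, e, i over S with the groupoid axioms on T-points; c is defined on the fibre
product of s and t and sends a pair (a, b) with s(a) = t(b) to a composed with b.) -/
theorem result (S : Scheme.{u}) (G : Grpd.GroupoidScheme S) {U' : Scheme.{u}} (g : U' ⟶ G.U) (P Q R : MorphismProperty Scheme.{u}) [P.RespectsIso] (hRQ : R ≤ Q) [Q.IsStableUnderBaseChange] [Q.IsStableUnderComposition] (W : ∀ {X Y : Scheme.{u}} (f : X ⟶ Y), Q f → X.Opens) (hWP : ∀ {X Y : Scheme.{u}} (f : X ⟶ Y) (hf : Q f), P ((W f hf).ι ≫ f)) (hWmax : ∀ {X Y : Scheme.{u}} (f : X ⟶ Y) (hf : Q f) (V : X.Opens), P (V.ι ≫ f) → V ≤ W f hf) (hWbc : ∀ {X Y Y' : Scheme.{u}} (f : X ⟶ Y) (hf : Q f) (b : Y' ⟶ Y), R b → ∀ hf' : Q (pullback.snd f b), pullback.fst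 f b ⁻¹ᵁ W f hf = W (pullback.snd f b) hf') (hs : R G.s) (ht : R G.t) (hg : Q g) (hh : Q (pullback.snd g G.t ≫ G.s)) : ∃ V : U'.Opens, pullback.fst g G.t ⁻¹ᵁ V = W (pullback.snd g G.t ≫ G.s) hh := by
  obtain ⟨φ, hφ, hφ'⟩ := exists_shift G g
  let h := pullback.snd g G.t ≫ G.s
  have hWiso : ∀ {X X' Y : Scheme.{u}} (ψ : X ≅ X') (f : X ⟶ Y) (f' : X' ⟶ Y) (hf : Q f) (hf' : Q f'),
      ψ.hom ≫ f' = f → ψ.hom ⁻¹ᵁ W f' hf' ≤ W f hf := by
    intro X X' Y ψ f f' hf hf' e
    refine hWmax f hf _ ?_
    rw [← e, ← Category.assoc, ← morphismRestrict_ι, Category.assoc]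
    exact (P.cancel_left_of_respectsIso (ψ.hom ∣_ W f' hf') _).mpr (hWP f' hf')
  have hQt : Q (pullback.snd h G.t) := Q.of_isPullback (IsPullback.of_hasPullback h G.t).flip.flip hh
  have hQs : Q (pullback.snd h G.s) := Q.of_isPullback (IsPullback.of_hasPullback h G.s).flip.flip hh
  have et := hWbc h hh G.t ht hQt
  have es := hWbc h hh G.s hs hQs
  have e : φ.hom ⁻¹ᵁ W (pullback.snd h G.s) hQs = W (pullback.snd h G.t) hQt := by
    refine le_antisymm (hWiso φ _ _ _ _ hφ) fun x hx => ?_
    have h2 := hWiso φ.symm (pullback.snd h G.s) (pullback.snd h G.t) hQs hQt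
      ((congrArg (φ.inv ≫ ·) hφ.symm).trans (φ.inv_hom_id_assoc _))
    exact h2 (show φ.inv (φ.hom x) ∈ W (pullback.snd h G.t) hQt by
      rwa [← Scheme.Hom.comp_apply, φ.hom_inv_id])
  let σ : U' ⟶ pullback g G.t := pullback.lift (𝟙 U') (g ≫ G.e) (by
    rw [Category.id_comp, Category.assoc, G.e_t, Category.comp_id])
  refine ⟨σ ⁻¹ᵁ W h hh, ?_⟩
  let p := pullback.fst g G.t
  let a := pullback.snd g G.t
  have h₁ : p ≫ g = (a ≫ G.t ≫ G.e) ≫ G.t := by
    simp only [p, a, Category.assoc, G.e_t, Category.comp_id, pullback.condition]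
  have h₂ : (a ≫ G.t ≫ G.e) ≫ G.s = a ≫ G.t := by
    simp only [Category.assoc, G.e_s, Category.comp_id]
  let l : pullback g G.t ⟶ pullback h G.t :=
    pullback.lift (pullback.lift p (a ≫ G.t ≫ G.e) h₁) a (by rw [pullback.lift_snd_assoc, h₂])
  have hl : l ≫ pullback.fst h G.t = p ≫ σ := by
    rw [pullback.lift_fst]
    apply pullback.hom_ext
    · simp only [pullback.lift_fst, σ, Category.assoc, Category.comp_id]
    · simp only [pullback.lift_snd, σ, Category.assoc, p, a, pullback.condition_assoc]
  have hl' : l ≫ φ.hom ≫ pullback.fst h G.s = 𝟙 _ := by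
    refine (hφ' p (a ≫ G.t ≫ G.e) a h₁ h₂).trans ?_
    apply pullback.hom_ext
    · rw [Category.id_comp]; exact pullback.lift_fst _ _ _
    · rw [pullback.lift_snd, Category.id_comp]
      exact G.e_comp a
  calc p ⁻¹ᵁ (σ ⁻¹ᵁ W h hh) = (p ≫ σ) ⁻¹ᵁ W h hh := rfl
    _ = l ⁻¹ᵁ (pullback.fst h G.t ⁻¹ᵁ W h hh) := by rw [← hl]; rfl
    _ = l ⁻¹ᵁ (φ.hom ⁻¹ᵁ (pullback.fst h G.s ⁻¹ᵁ W h hh)) := by rw [et, es, e]
    _ = (l ≫ φ.hom ≫ pullback.fst h G.s) ⁻¹ᵁ W h hh := rfl
    _ = W h hh := by rw [hl']; rfl

end Groth.Agent.S7510
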