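import Groth.Statements.S7508
import Groth.Agent.Lib.GrpdSlice13.Shrink
-- import your own Groth.Agent.* helpers here

set_option autoImplicit false
universe u
open CategoryTheory CategoryTheory.Limits AlgebraicGeometry
open Grpd

namespace Groth.Agent.S7508

set_option backward.isDefEq.respectTransparency false
open GrothLib GrothLib.GrpdSlice13


/-- Let (U, R, s, t, c, e, i) be a groupoid scheme over S with s and t Cohen-Macaulay and locally of
finite presentation, assume the stabilizer G -> U is locally quasi-finite (locally of finite type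
with discrete fibres), and let u be a finite type point of U. Then there exist an affine scheme U',
an immersion g : U' -> U locally of finite presentation and a point u' with g(u') = u such that h =
s ∘ pr_1 : U' x_(g,U,t) R -> U and the source and target s', t' : R' -> U' of the restriction R' =
(U' x_(g,U,t) R) x_(h,U,g) U' are flat, locally of finite presentation and locally quasi-finite.
Here a morphism is Cohen-Macaulay when it is Cohen-Macaulay at every point of its source (flat there
with Cohen-Macaulay fibre local ring, Grpd.IsCMAt), and a finite type point u is one for which Spec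
κ(u) -> U is locally of finite type. (A groupoid scheme carries U, R, s, t, c, e, i over S with the
groupoid axioms on T-points; c is defined on the fibre product of s and t and sends a pair (a, b)
with s(a) = t(b) to a composed with b.) -/
theorem result (S : Scheme.{u}) (G : Grpd.GroupoidScheme S) [LocallyOfFinitePresentation G.s] [LocallyOfFinitePresentation G.t] (hs : ∀ r : G.R, Grpd.IsCMAt G.s r) (ht : ∀ r : G.R, Grpd.IsCMAt G.t r) [LocallyOfFiniteType G.stabilizerToU] [LocallyQuasiFinite G.stabilizerToU] (u : G.U) (hu : LocallyOfFiniteType (G.U.fromSpecResidueField u)) : ∃ (U' : Scheme.{u}) (_ : IsAffine U') (g : U' ⟶ G.U) (u' : U'), IsImmersion g ∧ LocallyOfFinitePresentation g ∧ g u' = u ∧ (Flat (pullback.snd g G.t ≫ G.s) ∧ LocallyOfFinitePresentation (pullback.snd g G.t ≫ G.s) ∧ LocallyOfFiniteType (pullback.snd g G.t ≫ G.s) ∧ LocallyQuasiFinite (pullback.snd g G.t ≫ G.s)) ∧ (Flat (pullback.snd (pullback.snd g G.t ≫ G.s) g) ∧ LocallyOfFinitePresentation (pullback.snd (pullback.snd g G.t ≫ G.s) g) ∧ LocallyQuasiFinite (pullback.snd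 (pullback.snd g G.t ≫ G.s) g)) ∧ (Flat (pullback.fst (pullback.snd g G.t ≫ G.s) g ≫ pullback.fst g G.t) ∧ LocallyOfFinitePresentation (pullback.fst (pullback.snd g G.t ≫ G.s) g ≫ pullback.fst g G.t) ∧ LocallyQuasiFinite (pullback.fst (pullback.snd g G.t ≫ G.s) g ≫ pullback.fst g G.t)) := by
  obtain ⟨C₀, h₀⟩ := exists_cand_min (G := G) hs hu
  obtain ⟨C₁, hcm₁, hd₁⟩ := C₀.exists_cm hs ht
  have hz : topologicalKrullDim ↥(G.stabilizerToU.fiber u) ≤ 0 :=
    topologicalKrullDim_zero_of_discreteTopology _
  obtain ⟨C, hcm, hq⟩ := C₁.exists_lqf hcm₁ ((hd₁.trans h₀).le.trans hz)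
  haveI := hq
  obtain ⟨⟨h₁, h₂⟩, h₃, h₄⟩ := C.cm_source_target hcm
  obtain ⟨q₁, q₂⟩ := C.lqf_source_target
  exact ⟨C.U', C.aff, C.g, C.u', C.imm, C.lfp, C.hu, ⟨flat_of_cm hcm, C.lfp_h, inferInstance, hq⟩,
    ⟨flat_of_cm h₁, h₂, q₁⟩, ⟨flat_of_cm h₃, h₄, q₂⟩⟩

end Groth.Agent.S7508
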