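import Groth.Statements.S7488
import Groth.Agent.Lib.GrpdQuot.Quot
import Groth.Agent.Lib.GrpdQuot.QuotSheaf
import Mathlib.AlgebraicGeometry.Sites.Fpqc
-- import your own Groth.Agent.* helpers here

set_option autoImplicit false
universe u
open CategoryTheory CategoryTheory.Limits AlgebraicGeometry
open Grpd

namespace Groth.Agent.S7488

/-- Let (U, R, s, t, c) be a groupoid scheme over S with U and R affine, s and t finite locally free,
and j = (t, s) : R -> U x_S U a monomorphism. Let C be the ring of R-invariant functions on U and M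
= Spec C. Then the structure morphism U -> S factors uniquely through U -> M, and for the resulting
structure of scheme over S on M, the morphism U -> M represents the quotient sheaf U/R in the fppf
topology: it coequalizes s and t and the induced map from the coequalizer of h_R => h_U (sheaves of
sets on the big fppf site of S) to h_M is an isomorphism. (The published statement also asserts that
U -> M is finite locally free and that R = U x_M U; this row states only the quotient-sheaf clause.)
(A groupoid scheme carries U, R, s, t, c, e, i over S with the groupoid axioms on T-points; c is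
defined on the fibre product of s and t and sends a pair (a, b) with s(a) = t(b) to a composed with
b.) -/
theorem result (S : Scheme.{u}) (G : Grpd.GroupoidScheme S) [IsAffine G.U] [IsAffine G.R] [IsFinite G.s] [Flat G.s] [LocallyOfFinitePresentation G.s] [IsFinite G.t] [Flat G.t] [LocallyOfFinitePresentation G.t] [Mono G.j] : ∃! m : Spec (CommRingCat.of G.invariants) ⟶ S, ∃ h : G.toQuot ≫ m = G.pU, QuotSh.IsQuotient Scheme.fppfPrecoverage (Over.homMk G.s G.s_over : Over.mk G.pR ⟶ Over.mk G.pU) (Over.homMk G.t G.t_over : Over.mk G.pR ⟶ Over.mk G.pU) (Over.homMk G.toQuot h : Over.mk G.pU ⟶ Over.mk m) := by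
  obtain ⟨⟨hfin, hflat, hlfp⟩, φ, hφ₁, hφ₂⟩ := GrothLib.GrpdQuot.finite_flat_toQuot G
  haveI := hfin
  haveI := hflat
  haveI := hlfp
  haveI : Surjective G.toQuot := ⟨GrothLib.GrpdQuot.surjective_toQuot G⟩
  have hcov : Presieve.singleton G.toQuot ∈ Scheme.fppfPrecoverage _ :=
    GrothLib.GrpdQuot.singleton_mem_fppf G.toQuot
  have hcoe : ∀ {Z : Scheme.{u}} (g₁ g₂ : Z ⟶ G.U), g₁ ≫ G.toQuot = g₂ ≫ G.toQuot → g₁ ≫ G.pU = g₂ ≫ G.pU := by
    intro Z g₁ g₂ h
    let r := pullback.lift g₁ g₂ h ≫ φ.inv
    have h₁ : r ≫ G.t = g₁ := by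
      rw [← hφ₁, Category.assoc, Iso.inv_hom_id_assoc, pullback.lift_fst]
    have h₂ : r ≫ G.s = g₂ := by
      rw [← hφ₂, Category.assoc, Iso.inv_hom_id_assoc, pullback.lift_snd]
    rw [← h₁, ← h₂, Category.assoc r, Category.assoc r, G.t_over, G.s_over]
  let m := EffectiveEpi.desc G.toQuot G.pU hcoe
  have hm : G.toQuot ≫ m = G.pU := EffectiveEpi.fac G.toQuot G.pU hcoe
  refine ⟨m, ⟨hm, ?_⟩, fun m' ⟨hm', _⟩ => ?_⟩
  · let sO : (Over.mk G.pR : Over S) ⟶ Over.mk G.pU := Over.homMk G.s G.s_over
    let tO : (Over.mk G.pR : Over S) ⟶ Over.mk G.pU := Over.homMk G.t G.t_over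
    let qO : (Over.mk G.pU : Over S) ⟶ Over.mk m := Over.homMk G.toQuot hm
    have hw : sO ≫ qO = tO ≫ qO := Over.OverMorphism.ext (GrothLib.GrpdQuot.t_toQuot G).symm
    have hpb : IsPullback G.t G.s G.toQuot G.toQuot :=
      (IsPullback.of_hasPullback G.toQuot G.toQuot).of_iso φ.symm (Iso.refl _) (Iso.refl _) (Iso.refl _)
        (by simp [← hφ₁]) (by simp [← hφ₂]) (by simp) (by simp)
    exact GrothLib.GrpdQuot.isQuotient_of_epi _ sO tO qO hw
      (GrothLib.GrpdQuot.epi_repMap_of_mem _ qO hcov) tO sO
      (IsPullback.of_map_of_faithful (Over.forget S) hpb) (𝟙 _) (Category.id_comp _) (Category.id_comp _)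
      (by rw [QuotSh.repMap, CategoryTheory.Functor.map_id, Functor.whiskerRight_id', CategoryTheory.Functor.map_id]; infer_instance)
  · rw [← cancel_epi G.toQuot, hm, hm']

end Groth.Agent.S7488
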