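import Groth.Statements.S1712
import Groth.Agent.Lib.DualRing.LocalizedEH
import Groth.Agent.Lib.Depth.CM
-- import your own Groth.Agent.* helpers here

set_option autoImplicit false
universe u
open CategoryTheory
attribute [local instance] HasDerivedCategory.standard
open Dual

namespace Groth.Agent.S1712

/-- Let A be a Noetherian local ring with a normalized dualizing complex ω, M a finite A-module and E^j
the A-module of maps M → ω[-j] in D(A). A prime p is in the support of one of E^0, …, E^i if and
only if the depth of M_p over A_p plus the dimension of A/p is at most i. -/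
theorem result (A : Type u) [CommRing A] [IsLocalRing A] [IsNoetherianRing A] (ω : Dual.D A) (hω : Dual.IsDualizing A ω) (hn : Dual.IsNormalized A ω) (M : Type u) [AddCommGroup M] [Module A M] [Module.Finite A M] (i : ℕ) (p : PrimeSpectrum A) : (∃ j : ℕ, j ≤ i ∧ p ∈ Module.support A (Dual.inD A M ⟶ ω⟦(-(j : ℤ))⟧)) ↔ ((LocCoh.depth (Localization.AtPrime p.asIdeal) (LocalizedModule p.asIdeal.primeCompl M) : ℕ∞) : WithBot ℕ∞) + ringKrullDim (A ⧸ p.asIdeal) ≤ (i : WithBot ℕ∞) := by
  have hdeg : GrothLib.DualRing.deg hω p.asIdeal ≤ 0 := GrothLib.DualRing.deg_nonpos hω hn _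
  rw [GrothLib.DualRing.ringKrullDim_quotient_eq hω hn p.asIdeal]
  by_cases hp : p ∈ Module.support A M
  · obtain ⟨k, hk, hmem, hle, -⟩ := GrothLib.DualRing.exists_degrees hω p M hp
    rw [hk]
    have hiff : ((k : ℕ∞) : WithBot ℕ∞) + (((-GrothLib.DualRing.deg hω p.asIdeal).toNat : ℕ) : WithBot ℕ∞) ≤ (i : WithBot ℕ∞) ↔
        k + (-GrothLib.DualRing.deg hω p.asIdeal).toNat ≤ i := by norm_cast
    refine Iff.trans ?_ hiff.symm
    constructor
    · rintro ⟨j, hj, hjmem⟩
      have := hle _ hjmem
      omega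
    · intro h
      refine ⟨k + (-GrothLib.DualRing.deg hω p.asIdeal).toNat, h, ?_⟩
      rw [show -(((k + (-GrothLib.DualRing.deg hω p.asIdeal).toNat : ℕ)) : ℤ) = GrothLib.DualRing.deg hω p.asIdeal - k by omega]
      exact hmem
  · have hs : Subsingleton (LocalizedModule p.asIdeal.primeCompl M) := Module.notMem_support_iff.1 hp
    have hdep : LocCoh.depth (Localization.AtPrime p.asIdeal) (LocalizedModule p.asIdeal.primeCompl M) = ⊤ := by
      rw [LocCoh.depth, LocCoh.idealDepth, if_pos (Subsingleton.elim _ _)]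
    rw [hdep]
    refine iff_of_false ?_ ?_
    · rintro ⟨j, -, hj⟩
      obtain ⟨ω', hω', -, hiff⟩ := GrothLib.DualRing.exists_localized_EH hω p M
      have h := (hiff (-(j : ℤ) - GrothLib.DualRing.deg hω p.asIdeal)).2
        (by rwa [show GrothLib.DualRing.deg hω p.asIdeal + (-(j : ℤ) - GrothLib.DualRing.deg hω p.asIdeal) = -(j : ℤ) by omega])
      exact not_subsingleton_iff_nontrivial.2 h inferInstance
    · intro h
      have h2 : ((⊤ : ℕ∞) : WithBot ℕ∞) ≤ ((i : ℕ∞) : WithBot ℕ∞) := by
        refine le_trans (le_add_of_nonneg_right ?_) h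
        exact_mod_cast Nat.zero_le _
      exact absurd (WithBot.coe_le_coe.1 h2) (by simp)


end Groth.Agent.S1712
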