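import Groth.Statements.S0816
import Groth.Agent.Lib.QCoh.AvoidSub
import Groth.Agent.Lib.QCoh.Qcqs
import Groth.Agent.Lib.QCoh.SupportExact

set_option autoImplicit false
universe u
open Coherent

open CategoryTheory.Limits

namespace Groth.Agent.S0816

open CategoryTheory AlgebraicGeometry in
/-- Let X be locally Noetherian, F and G coherent O_X-modules, U ⊆ X open and φ : F|_U → G|_U a map of
O_U-modules. Then there are a coherent submodule F' ⊆ F whose inclusion is an isomorphism over U and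
a map φ' : F' → G whose restriction to U is φ (composed with that isomorphism). -/
theorem result (X : Scheme.{u}) [IsLocallyNoetherian X] (F G : X.Modules)
    (hF : Coh.IsCoh F) (hG : Coh.IsCoh G) (U : X.Opens)
    (φ : (Scheme.Modules.restrictFunctor U.ι).obj F ⟶ (Scheme.Modules.restrictFunctor U.ι).obj G) :
    ∃ (F' : X.Modules) (ι : F' ⟶ F) (φ' : F' ⟶ G), Mono ι ∧ Coh.IsCoh F' ∧
      IsIso ((Scheme.Modules.restrictFunctor U.ι).map ι) ∧
      (Scheme.Modules.restrictFunctor U.ι).map φ' = (Scheme.Modules.restrictFunctor U.ι).map ι ≫ φ := by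
  have hFq := hF.1
  have hGq := hG.1
  let R := Scheme.Modules.restrictFunctor U.ι
  let adj := Scheme.Modules.restrictAdjunction U.ι
  let ε := adj.counit.app (R.obj G)
  let α : F ⟶ (Scheme.Modules.pushforward U.ι).obj (R.obj G) := adj.homEquiv _ _ φ
  let β : G ⟶ (Scheme.Modules.pushforward U.ι).obj (R.obj G) := adj.unit.app G
  have hα : R.map α ≫ ε = φ := (adj.homEquiv_counit (X := F) (Y := R.obj G) (g := α)).symm.trans ((adj.homEquiv _ _).symm_apply_apply φ)
  have hβ : R.map β ≫ ε = 𝟙 _ := adj.left_triangle_components G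
  let δ : F ⊞ G ⟶ (Scheme.Modules.pushforward U.ι).obj (R.obj G) := biprod.fst ≫ α - biprod.snd ≫ β
  have hPq : ((Scheme.Modules.pushforward U.ι).obj (R.obj G)).IsQuasicoherent := by
    have : (R.obj G).IsQuasicoherent := inferInstance
    exact GrothLib.QCoh.isQuasicoherent_pushforward _ _
  have hFG := GrothLib.QCoh.isCoh_biprod' hF hG
  have hJ : Coh.IsCoh (kernel δ) := by
    have := hFG.1
    have hq := GrothLib.QCoh.isQuasicoherent_kernel δ
    exact ⟨hq, GrothLib.QCoh.isFiniteType_of_mono (kernel.ι δ) hFG.2⟩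
  let P := GrothLib.QCoh.avoid (kernel δ) hJ ((U : Set X)ᶜ)
  let a : P.obj ⟶ F := P.ι ≫ kernel.ι δ ≫ biprod.fst
  let b : P.obj ⟶ G := P.ι ≫ kernel.ι δ ≫ biprod.snd
  have hisP : IsIso (R.map P.ι) := by
    rw [Scheme.Modules.Hom.isIso_iff_isIso_app]
    intro W
    refine (ConcreteCategory.isIso_iff_bijective _).2
      ⟨P.ι_app_injective (U.ι ''ᵁ W), fun z ↦ ⟨P.lift z ?_, rfl⟩⟩
    exact GrothLib.QCoh.mem_avoid_of_disjoint _ _ _
      (Set.disjoint_compl_right_iff_subset.2 (U.ι_image_le W)) z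
  have hab : R.map b = R.map a ≫ φ := by
    have h0 : R.map (kernel.ι δ ≫ δ) ≫ ε = 0 := by rw [kernel.condition, Functor.map_zero, zero_comp]
    simp only [δ, Preadditive.comp_sub, Functor.map_sub, Functor.map_comp, Preadditive.sub_comp,
      Category.assoc, hα, hβ, Category.comp_id, sub_eq_zero] at h0
    simp only [a, b, Functor.map_comp, Category.assoc]
    rw [h0]
  let σ : R.obj F ⟶ R.obj (F ⊞ G) := R.map biprod.inl + φ ≫ R.map biprod.inr
  have hσ : σ ≫ R.map δ = 0 := by
    rw [← cancel_mono ε, zero_comp, Category.assoc]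
    simp only [σ, δ, Functor.map_sub, Functor.map_comp, Preadditive.sub_comp, Category.assoc, hα, hβ,
      Category.comp_id, Preadditive.add_comp, Preadditive.comp_sub]
    simp [← Functor.map_comp_assoc, ← Functor.map_comp, Functor.map_zero]
    exact sub_eq_zero.2 (Category.comp_id φ).symm
  have hsurj : IsSplitEpi (R.map a) := by
    let l := kernel.lift (R.map δ) σ hσ ≫ (PreservesKernel.iso R δ).inv ≫ inv (R.map P.ι)
    refine IsSplitEpi.mk' { section_ := l, id := ?_ }
    have h1 : (PreservesKernel.iso R δ).inv ≫ R.map (kernel.ι δ) = kernel.ι (R.map δ) :=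
      (Iso.inv_comp_eq _).2 (PreservesKernel.iso_hom R δ ▸ (kernelComparison_comp_ι δ R).symm)
    simp only [l, a, Functor.map_comp, Category.assoc, IsIso.inv_hom_id_assoc]
    rw [reassoc_of% h1, kernel.lift_ι_assoc]
    simp [σ, ← Functor.map_comp, Functor.map_zero]
  have hmono : Mono a := by
    refine GrothLib.QCoh.mono_of_app_injective a fun V ↦ (injective_iff_map_eq_zero _).2 fun z hz ↦ ?_
    refine P.ι_app_injective V ?_
    rw [map_zero]
    refine GrothLib.QCoh.eq_zero_of_mem_avoid _ _ _ (P.ι_app_mem z) fun x hx hxU ↦ ?_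
    rw [Set.mem_compl_iff, not_not] at hxU
    have hW : U.ι ''ᵁ (U.ι ⁻¹ᵁ V) ≤ V := U.ι.image_preimage_le V
    rw [← GrothLib.QCoh.germ_map (kernel δ) (homOfLE hW) (show x ∈ U.ι ''ᵁ (U.ι ⁻¹ᵁ V) from
      ⟨⟨x, hxU⟩, hx, rfl⟩)]
    refine (congrArg _ ?_).trans (map_zero _)
    rw [GrothLib.QCoh.map_app]
    have ha : (a.app (U.ι ''ᵁ (U.ι ⁻¹ᵁ V))) (P.obj.presheaf.map (homOfLE hW).op z) = 0 := by
      rw [← GrothLib.QCoh.map_app, hz, map_zero]
    have hb : (b.app (U.ι ''ᵁ (U.ι ⁻¹ᵁ V))) (P.obj.presheaf.map (homOfLE hW).op z) = 0 := by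
      have := ConcreteCategory.congr_hom (congrArg (fun q ↦ Scheme.Modules.Hom.app q (U.ι ⁻¹ᵁ V)) hab)
        (P.obj.presheaf.map (homOfLE hW).op z)
      refine this.trans ((congrArg (φ.app (U.ι ⁻¹ᵁ V)) ha).trans (map_zero _))
    refine GrothLib.Cohom.app_injective_of_mono (kernel.ι δ) _ ?_
    rw [map_zero]
    have key := ConcreteCategory.congr_hom
      (congrArg (fun q ↦ Scheme.Modules.Hom.app q (U.ι ''ᵁ (U.ι ⁻¹ᵁ V))) (biprod.total (X := F) (Y := G)))
      ((kernel.ι δ).app _ (P.ι.app _ (P.obj.presheaf.map (homOfLE hW).op z)))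
    refine key.symm.trans ?_
    change (biprod.inl : F ⟶ F ⊞ G).app _ (a.app _ _) + (biprod.inr : G ⟶ F ⊞ G).app _ (b.app _ _) = 0
    rw [ha, hb, map_zero, map_zero, add_zero]
  refine ⟨P.obj, a, b, hmono, GrothLib.QCoh.avoid_isCoh _ _ _, ?_, hab⟩
  have : Mono (R.map a) := inferInstance
  exact isIso_of_mono_of_isSplitEpi _

end Groth.Agent.S0816
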