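import Groth.Statements.S13374
import Groth.Agent.Lib.GaDual.Char

set_option autoImplicit false
universe u
open GaDual

namespace Groth.Agent.S13374

/-- Over a commutative algebra A of prime characteristic p, every character of the kernel α_(p^n) of the
n-th Frobenius of the additive group — i.e. every polynomial f of degree < p^n with f(0) = 1 and
f(X+Y) ≡ f(X)f(Y) modulo (X^(p^n), Y^(p^n)) — is the product ∏_{i<n} exp_p(a_i X^(p^i)) for some a_i
with a_i^p = 0, exp_p(Y) = Σ_{j<p} Y^j/j!. -/
theorem result (p : ℕ) [Fact p.Prime] (A : Type u) [CommRing A] [CharP A p]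
    (n : ℕ) (f : Polynomial A) (hdeg : f.natDegree < p ^ n) (h0 : f.eval 0 = 1)
    (hmul : Ideal.Quotient.mk
        (Ideal.span {(MvPolynomial.X 0 ^ p ^ n : MvPolynomial (Fin 2) A), MvPolynomial.X 1 ^ p ^ n})
        (Polynomial.aeval (MvPolynomial.X 0 + MvPolynomial.X 1 : MvPolynomial (Fin 2) A) f) =
      Ideal.Quotient.mk
        (Ideal.span {(MvPolynomial.X 0 ^ p ^ n : MvPolynomial (Fin 2) A), MvPolynomial.X 1 ^ p ^ n})
        (Polynomial.aeval (MvPolynomial.X 0 : MvPolynomial (Fin 2) A) f *
          Polynomial.aeval (MvPolynomial.X 1 : MvPolynomial (Fin 2) A) f)) :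
    ∃ a : ℕ → A, (∀ i, a i ^ p = 0) ∧
      f = ∏ i ∈ Finset.range n, ∑ j ∈ Finset.range p,
          Polynomial.C (Ring.inverse (j.factorial : A) * a i ^ j) * Polynomial.X ^ (j * p ^ i) := by
  rw [← Polynomial.coeff_zero_eq_eval_zero] at h0
  have h := GrothLib.GaDual.charSeq_of_mod f hmul
  refine ⟨fun i => if i < n then f.coeff (p ^ i) else 0, fun i => ?_, Polynomial.ext fun k => ?_⟩
  · dsimp only
    split_ifs with hi
    · exact (GrothLib.GaDual.charSeq_pow_pow (fun k => f.coeff k) h0 h hi).2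
    · exact zero_pow (Fact.out : p.Prime).ne_zero
  · change f.coeff k = (∏ i ∈ Finset.range n,
      GrothLib.GaDual.expp p (if i < n then f.coeff (p ^ i) else 0) (p ^ i)).coeff k
    rw [GrothLib.GaDual.coeff_prod_expp (fun k => f.coeff k) h0 h
      (fun i => if i < n then f.coeff (p ^ i) else 0) (fun i hi => if_pos hi) _ le_rfl]
    split_ifs with hk
    · rfl
    · exact Polynomial.coeff_eq_zero_of_natDegree_lt (lt_of_lt_of_le hdeg (not_lt.1 hk))

end Groth.Agent.S13374
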