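import Groth.Statements.S4652
import Groth.Prelude.Def_FDesc
import Groth.Prelude.Def_CohB1
import Groth.Agent.Lib.Ref1.Frame
import Groth.Agent.Lib.DCoh.LocFree

set_option autoImplicit false
open CategoryTheory AlgebraicGeometry
universe u
open FDesc

namespace Groth.Agent.S4652

/-- Let X be a scheme, F a finitely presented O_X-module and x a point of X. Then F_x is a flat module
over the local ring O_{X,x} if and only if x has an open neighbourhood U such that the restriction
of F to U is finite locally free. -/
theorem result {X : Scheme.{u}} (F : X.Modules) (hF : CohB1.IsFP F) (x : X) :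
    FlatMod.IsFlatAt F x ↔ ∃ U : X.Opens, x ∈ U ∧ FlatMod.IsFinLocFree ((Scheme.Modules.pullback U.ι).obj F) := by
  have hrel := GrothLib.HomSh.hasRel_of_isFP hF
  constructor
  · intro h
    have := hrel.span_stalk x
    have : Module.Flat (X.presheaf.stalk x) (F.presheaf.stalk x) := h
    let U : X.Opens := ⟨_, GrothLib.Ref1.isOpen_free hrel⟩
    have hU : FlatMod.IsFinLocFree (F.restrict U.ι) := GrothLib.Ref1.isFinLocFree_restrict_of_free hrel U fun y hy => hy
    exact ⟨U, Module.free_of_flat_of_isLocalRing,
      GrothLib.DCoh.isFinLocFree_of_iso ((Scheme.Modules.restrictFunctorIsoPullback U.ι).app F) hU⟩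
  · rintro ⟨U, hx, hU⟩
    have := GrothLib.Ref1.free_of_isFinLocFree_restrict U
      (GrothLib.DCoh.isFinLocFree_of_iso ((Scheme.Modules.restrictFunctorIsoPullback U.ι).app F).symm hU) x hx
    exact (Module.Flat.of_free : Module.Flat (X.presheaf.stalk x) (F.presheaf.stalk x))

end Groth.Agent.S4652
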