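import Groth.Statements.S8878
import Groth.Agent.Lib.NormAmple.Norm
import Groth.Agent.Lib.FEt21.Degree
import Groth.Agent.Lib.FinCov.Frame

set_option autoImplicit false
set_option linter.all false
universe u
open CategoryTheory CategoryTheory.Limits AlgebraicGeometry TopologicalSpace
open SDiv

namespace Groth.Agent.S8878

/-- If π : X ⟶ Y is finite locally free and of rank d ≥ 1 at every point of Y, then π carries a norm of
degree d. The published statement also says the norm is canonical and compatible with every base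
change; this row asserts only that a norm of degree d exists. -/
theorem result {X Y : Scheme.{u}} (π : X ⟶ Y) (d : ℕ) (hd : 1 ≤ d) (hπ : Mor2.IsFinLocFreeOfDeg d π) :
    Nrm.HasNorm π d := by
  classical
  obtain ⟨⟨hfin, hflat, hlfp⟩, hdeg⟩ := hπ
  have hrank := GrothLib.FEt21.isFinLocFreeOfRank_of_finrank (f := π) d hdeg
  have hfr : ∀ y : Y, ∃ (T : Y.Opens) (e : Fin d → Γ(X, π ⁻¹ᵁ T)), y ∈ T ∧ GrothLib.NormAmple.IsRingFrame π T e :=
    fun y => by
      obtain ⟨T, e, hy, he⟩ := GrothLib.FinCov.exists_frame_nhd_of_rank hrank y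
      exact ⟨T, e, hy, fun W h => he W h⟩
  choose T e hyT he using hfr
  have rr : ∀ {Z : Scheme.{u}} {A B C : Z.Opens} (h₁ : B ≤ A) (h₂ : C ≤ B) (s : Γ(Z, A)),
      GrothLib.Ample.res h₂ (GrothLib.Ample.res h₁ s) = GrothLib.Ample.res (h₂.trans h₁) s :=
    fun h₁ h₂ s => GrothLib.Ample.res_res _ _ _
  -- values on small opens
  have hnat : ∀ (y : Y) (W W' : Y.Opens) (h : W ≤ T y) (hle : W' ≤ W) (a : Γ(X, π ⁻¹ᵁ W)),
      GrothLib.Ample.res hle (GrothLib.NormAmple.nrm π d W a) =
        GrothLib.NormAmple.nrm π d W' (GrothLib.Ample.res (π.preimage_mono hle) a) :=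
    fun y W W' h hle a => GrothLib.NormAmple.res_nrm (he y) h hle a
  have hglue : ∀ (U : Y.Opens) (s : Γ(X, π ⁻¹ᵁ U)), ∃! t : Γ(Y, U), ∀ (y : Y) (W : Y.Opens) (k : W ≤ U),
      W ≤ T y → GrothLib.Ample.res k t = GrothLib.NormAmple.nrm π d W (GrothLib.Ample.res (π.preimage_mono k) s) := by
    intro U s
    let ι := {W : Y.Opens // W ≤ U ∧ ∃ y, W ≤ T y}
    have hcov : U ≤ iSup fun W : ι => W.1 := fun y hy =>
      Opens.mem_iSup.2 ⟨⟨U ⊓ T y, inf_le_left, y, inf_le_right⟩, hy, hyT y⟩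
    obtain ⟨t, ht, huniq⟩ := Y.sheaf.existsUnique_gluing' (fun W : ι => W.1) U (fun W => homOfLE W.2.1) hcov
      (fun W : ι => GrothLib.NormAmple.nrm π d W.1 (GrothLib.Ample.res (π.preimage_mono W.2.1) s)) (by
        rintro ⟨W₁, h₁, y₁, hy₁⟩ ⟨W₂, h₂, y₂, hy₂⟩
        show GrothLib.Ample.res (inf_le_left : W₁ ⊓ W₂ ≤ W₁) _ = GrothLib.Ample.res (inf_le_right : W₁ ⊓ W₂ ≤ W₂) _
        rw [hnat y₁ _ _ hy₁, hnat y₂ _ _ hy₂, rr, rr])
    exact ⟨t, fun y W k hW => ht ⟨W, k, y, hW⟩, fun t' ht' => huniq t' fun W => by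
      obtain ⟨W, k, y, hW⟩ := W
      exact ht' y W k hW⟩
  let N : ∀ U : Y.Opens, Γ(X, π ⁻¹ᵁ U) → Γ(Y, U) := fun U s => (hglue U s).exists.choose
  have hN : ∀ (U : Y.Opens) s (y : Y) (W : Y.Opens) (k : W ≤ U), W ≤ T y → GrothLib.Ample.res k (N U s) =
      GrothLib.NormAmple.nrm π d W (GrothLib.Ample.res (π.preimage_mono k) s) :=
    fun U s => (hglue U s).exists.choose_spec
  have hNeq : ∀ (U : Y.Opens) s (t : Γ(Y, U)), (∀ (y : Y) (W : Y.Opens) (k : W ≤ U), W ≤ T y →
      GrothLib.Ample.res k t = GrothLib.NormAmple.nrm π d W (GrothLib.Ample.res (π.preimage_mono k) s)) → N U s = t :=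
    fun U s t ht => (hglue U s).unique (hN U s) ht
  have happ : ∀ (U : Y.Opens) (g : Γ(Y, U)), N U ((π.app U).hom g) = g ^ d := fun U g => by
    refine hNeq _ _ _ fun y W k hW => ?_
    rw [GrothLib.NormAmple.app_res, GrothLib.NormAmple.nrm_app (he y) (dvd_refl d) hW, map_pow]
  exact ⟨{
    one_le := hd
    norm := fun U =>
      { toFun := N U
        map_one' := by
          have := happ U 1
          rwa [map_one, one_pow] at this
        map_mul' := fun a b => by
          refine hNeq _ _ _ fun y W k hW => ?_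
          rw [map_mul, map_mul, GrothLib.NormAmple.nrm_mul, hN U a y W k hW, hN U b y W k hW] }
    norm_res := fun {U V} i s => by
      symm
      refine hNeq _ _ _ fun y W k hW => ?_
      show GrothLib.Ample.res k (GrothLib.Ample.res i.le (N U s)) =
        GrothLib.NormAmple.nrm π d W (GrothLib.Ample.res (π.preimage_mono k) (GrothLib.Ample.res (π.preimage_mono i.le) s))
      rw [rr, rr, hN U s y W _ hW]
    norm_app := happ
    norm_mem := fun U s x hx hs => by
      have hW : U ⊓ T (π x) ≤ T (π x) := inf_le_right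
      have hxW : π x ∈ U ⊓ T (π x) := ⟨hx, hyT _⟩
      rw [IsLocalRing.mem_maximalIdeal, mem_nonunits_iff] at hs ⊢
      replace hs : x ∉ X.basicOpen s := fun h => hs ((X.mem_basicOpen s x hx).mp h)
      intro hNu
      have hN' : π x ∈ Y.basicOpen (N U s) := (Y.mem_basicOpen _ _ hx).mpr hNu
      have h1 : π x ∈ Y.basicOpen (GrothLib.Ample.res (inf_le_left : U ⊓ T (π x) ≤ U) (N U s)) := by
        erw [Scheme.basicOpen_res]
        exact ⟨hxW, hN'⟩
      rw [hN U s (π x) _ inf_le_left hW] at h1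
      have h2 := (GrothLib.NormAmple.mem_basicOpen_nrm (by omega) (he _) (dvd_refl d) hW _ hxW).mp h1 x rfl
      erw [Scheme.basicOpen_res] at h2
      exact hs h2.2 }⟩

end Groth.Agent.S8878
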