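import Groth.Statements.S2332
import Groth.Agent.Lib.Ample.RelAmple

set_option autoImplicit false
universe u
open CategoryTheory CategoryTheory.Limits AlgebraicGeometry
open EGA2

namespace Groth.Agent.S2332

/-- Let f : X → Y be quasi-compact, g : Y' → Y any morphism, and L an O_X-module ample relative to f.
Then the pullback of L to X ×_Y Y' is ample relative to the base-changed morphism X ×_Y Y' → Y'. -/
theorem result {X Y Y' : Scheme.{u}} (f : X ⟶ Y) [QuasiCompact f] (g : Y' ⟶ Y) (L : X.Modules)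
    (hL : RelAmple.IsRelAmple f L) :
    RelAmple.IsRelAmple (pullback.snd f g) ((Scheme.Modules.pullback (pullback.fst f g)).obj L) := by
  refine GrothLib.Ample.isRelAmple_of_cover fun y => ?_
  obtain ⟨W, hW, hyW, -⟩ := exists_isAffineOpen_mem_and_subset (TopologicalSpace.Opens.mem_top (g y))
  obtain ⟨O, hO, hyO, hOW⟩ := exists_isAffineOpen_mem_and_subset (U := g ⁻¹ᵁ W) (x := y) hyW
  refine ⟨O, hyO, hO, ?_⟩
  let U : X.Opens := f ⁻¹ᵁ W
  let U' : (pullback f g).Opens := pullback.snd f g ⁻¹ᵁ O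
  have hU' : U' = pullback.fst f g ⁻¹ᵁ U ⊓ pullback.snd f g ⁻¹ᵁ O := by
    refine (inf_eq_right.mpr ?_).symm
    rw [← Scheme.Hom.comp_preimage, pullback.condition, Scheme.Hom.comp_preimage]
    exact (pullback.snd f g).preimage_mono hOW
  have H := Scheme.Hom.isPullback_resLE (IsPullback.of_hasPullback f g) (US := W) (UT := O) (UX := U)
    hOW le_rfl hU'
  haveI : IsAffine (O : Scheme.{u}) := hO
  haveI : IsAffine (W : Scheme.{u}) := hW
  have hle : U' ≤ pullback.fst f g ⁻¹ᵁ U := hU'.le.trans inf_le_left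
  haveI : IsAffineHom ((pullback.fst f g).resLE U U' hle) :=
    MorphismProperty.of_isPullback (P := @IsAffineHom) H.flip inferInstance
  have h0 := GrothLib.Ample.isAmple_pullback_of_isAffineHom ((pullback.fst f g).resLE U U' hle)
    ((GrothLib.Ample.isAmple_restrict_iff U.ι L).mp (hL.2 ⟨W, hW⟩))
  rw [GrothLib.Ample.isAmple_pullback_comp_iff, Scheme.Hom.resLE_comp_ι,
    ← GrothLib.Ample.isAmple_pullback_comp_iff, ← GrothLib.Ample.isAmple_restrict_iff] at h0
  exact h0

end Groth.Agent.S2332
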