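import Groth.Statements.S4418
import Groth.Agent.Lib.ProjAlg.Proper
import Groth.Agent.Lib.RelProjK.Amp
import Groth.Agent.Lib.RelProjK.Twist

set_option autoImplicit false
set_option backward.isDefEq.respectTransparency false
universe u
open CategoryTheory CategoryTheory.Limits AlgebraicGeometry
open EGA2

namespace Groth.Agent.S4418

/-- Every projective morphism f : X → Y is quasi-projective (of finite type with an f-ample module) and
proper. -/
theorem result {X Y : Scheme.{u}} (f : X ⟶ Y) (hf : RelProj.IsProjective f) :
    RelProj.IsQuasiProjective f ∧ IsProper f := by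
    have hpr := GrothLib.ProjAlg.isProper_of_isProjective hf
    haveI := hpr
    obtain ⟨𝒮, P, p, chart, e, hgen, hft, hP, he⟩ := hf
    obtain ⟨O1, lam, hO1⟩ := GrothLib.RelProjK.exists_isRelTwist (n := (1 : ℤ)) hP
    exact ⟨⟨inferInstance, inferInstance, _, GrothLib.RelProjK.isRelAmple_pullback_of_isEmbedding hgen hO1 f e.hom he
      e.hom.homeomorph.isEmbedding⟩, hpr⟩

end Groth.Agent.S4418
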