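import Groth.Statements.S4183
import Groth.Agent.Lib.AnPts.Top
-- import your own Groth.Agent.* helpers here

set_option autoImplicit false
open CategoryTheory AlgebraicGeometry Topology TopologicalSpace
open An

namespace Groth.Agent.S4183

/-- For affine n-space over ℂ, the map sending a ℂ-point to the values of the n coordinate functions is
a homeomorphism from its space of ℂ-points, with the complex topology of this problem, onto ℂ^n with
its usual topology. -/
theorem result (n : ℕ) :
    IsHomeomorph (fun (x : An.Pts (𝔸(Fin n; An.SC))) (i : Fin n) => x.evTop (AffineSpace.coord An.SC i)) := by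
  have hgen : Function.Surjective (MvPolynomial.eval₂Hom
      (An.strHom 𝔸(Fin n; An.SC)) (AffineSpace.coord An.SC (n := Fin n))) := by
    intro a
    let E : Γ(Spec (CommRingCat.of (MvPolynomial (Fin n) Γ(An.SC, ⊤))), ⊤) ≅ Γ(𝔸(Fin n; An.SC), ⊤) :=
      Scheme.Γ.mapIso (AffineSpace.isoOfIsAffine (Fin n) An.SC).op
    obtain ⟨b, hb⟩ := (ConcreteCategory.bijective_of_isIso E.hom).2 a
    replace hb : (AffineSpace.isoOfIsAffine (Fin n) An.SC).hom.appTop b = a := hb
    rw [AffineSpace.isoOfIsAffine_hom_appTop, CommRingCat.comp_apply] at hb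
    refine ⟨MvPolynomial.map (Scheme.ΓSpecIso (CommRingCat.of ℂ)).hom.hom
      ((Scheme.ΓSpecIso _).hom b), ?_⟩
    rw [MvPolynomial.coe_eval₂Hom, MvPolynomial.eval₂_map]
    refine Eq.trans ?_ hb
    rw [CommRingCat.ofHom_apply, MvPolynomial.coe_eval₂Hom]
    congr 1
    ext c
    simp only [An.strHom, RingHom.coe_comp, Function.comp_apply]
    exact congrArg _ (Iso.hom_inv_id_apply (Scheme.ΓSpecIso (CommRingCat.of ℂ)) c)
  refine (isHomeomorph_iff_isEmbedding_surjective).2
    ⟨(GrothLib.AnPts.isClosedEmbedding_evTop _ hgen).isEmbedding, fun z => ?_⟩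
  let f₀ : An.SC ⟶ 𝔸(Fin n; An.SC) := AffineSpace.homOfVector (𝟙 An.SC)
    (fun i => (Scheme.ΓSpecIso (CommRingCat.of ℂ)).inv (z i))
  refine ⟨⟨f₀, AffineSpace.homOfVector_over _ _⟩, funext fun i => ?_⟩
  simp only [An.Pts.evTop, An.Pts.ev]
  rw [show f₀.appLE ⊤ ⊤ _ = f₀.appTop from f₀.appLE_eq_app, AffineSpace.homOfVector_appTop_coord]
  exact Iso.inv_hom_id_apply _ _

end Groth.Agent.S4183
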