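import Groth.Statements.S7519
import Groth.Agent.Lib.EssFree.Over
import Groth.Agent.Lib.GrpSchField.Field

set_option autoImplicit false
universe u
open CategoryTheory MonoidalCategory CartesianMonoidalCategory MonObj GrpObj AlgebraicGeometry
open GrpSch

namespace Groth.Agent.S7519

/-- Let G be a group scheme locally of finite type over a field k. Then the centre of G is
(representable by) a closed subgroup scheme of G: there are a scheme Z over k and a closed immersion
Z -> G over k such that for every scheme T over k, a T-valued point g of G factors through Z if and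
only if g is central, i.e. for every T' -> T over k and every T'-valued point g' of G, the
restriction of g to T' commutes with g' in the group G(T'). -/
theorem result (K : Type u) [Field K] (G : Over (Spec (CommRingCat.of K))) [GrpObj G] [LocallyOfFiniteType G.hom] : ∃ (Z : Over (Spec (CommRingCat.of K))) (incl : Z ⟶ G), IsClosedImmersion incl.left ∧ ∀ (T : Over (Spec (CommRingCat.of K))) (g : T ⟶ G), (∃ z : T ⟶ Z, z ≫ incl = g) ↔ ∀ (T' : Over (Spec (CommRingCat.of K))) (h : T' ⟶ T) (g' : T' ⟶ G), (h ≫ g) * g' = g' * (h ≫ g) := by
  have := GrothLib.GrpSchField.isSeparated G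
  obtain ⟨Z, z, hz, hZ⟩ := GrothLib.EssFree.exists_closed_forall_eq
    (CartesianMonoidalCategory.fst G G * CartesianMonoidalCategory.snd G G)
    (CartesianMonoidalCategory.snd G G * CartesianMonoidalCategory.fst G G)
    (GrothLib.EssFree.projCover_field G G)
  refine ⟨Z, z, hz, fun T g => (hZ T g).trans (forall₃_congr fun T' t y => ?_)⟩
  simp [MonObj.comp_mul]

end Groth.Agent.S7519
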