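import Groth.Statements.S5255
import Groth.Agent.Lib.DiagGrp.BaseChange
import Groth.Agent.Lib.DiagGrp.TrivialLocus
import Groth.Agent.Lib.GrpSchField.Points

set_option autoImplicit false
open CategoryTheory MonoidalCategory CartesianMonoidalCategory MonObj GrpObj AlgebraicGeometry
universe u
open SGA3x

namespace Groth.Agent.S5255

open CategoryTheory.Limits GrothLib.DiagGrp in
/-- The structure morphism of a point of a base change. -/
theorem bc_w {S S' : Scheme.{u}} (f : S' ⟶ S) {K : Over S} {X : Over S'} (g : X ⟶ Red.bc f K) :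
    g.left ≫ pullback.snd K.hom f = X.hom := Over.w g

open CategoryTheory.Limits GrothLib.DiagGrp in
/-- A point of a base change seen over the base changed scheme. -/
noncomputable def reBase {S S' : Scheme.{u}} (f : S' ⟶ S) {K : Over S} {X : Over S'} (g : X ⟶ Red.bc f K) :
    (Over.map (pullback.snd K.hom f ≫ f)).obj (Over.mk g.left) ≅ (Over.map f).obj X :=
  Over.isoMk (Iso.refl _) (by
    change 𝟙 _ ≫ X.hom ≫ f = g.left ≫ pullback.snd K.hom f ≫ f
    rw [Category.id_comp, ← Category.assoc g.left, bc_w])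

open CategoryTheory.Limits GrothLib.DiagGrp in
theorem fibre_central {S : Scheme.{u}} (K H : Over S) [GrpObj K] [GrpObj H]
    (i : H ⟶ K) [IsMonHom i] [Mono i] (hH : SGA3x.IsMultTypeFT H) (hn : AlgGrp.IsNormalHom i)
    (hch : HasChartsFpqc fgM H) {L : Type u} [Field L] (φs : Spec (CommRingCat.of L) ⟶ S)
    [ConnectedSpace ↥(Limits.pullback K.hom φs)] (X : Over (Spec (CommRingCat.of L))) :
    ∀ (g : X ⟶ Red.bc φs K) (h : X ⟶ Red.bc φs H),
      g * (h ≫ (Over.pullback φs).map i) = (h ≫ (Over.pullback φs).map i) * g := by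
  intro g h
  set T := pullback K.hom φs
  set z : T ⟶ S := pullback.snd K.hom φs ≫ φs
  set HT := Red.bc z H
  let kk : ∀ Y : Over T, (Over.map z).obj Y ⟶ K := fun Y => Over.homMk (Y.hom ≫ pullback.fst K.hom φs) (by
    change (Y.hom ≫ pullback.fst K.hom φs) ≫ K.hom = Y.hom ≫ z
    rw [Category.assoc, pullback.condition])
  have hkk : ∀ {Y Y' : Over T} (a : Y ⟶ Y'), (Over.map z).map a ≫ kk Y' = kk Y := fun a => by
    apply Over.OverMorphism.ext
    exact Over.w_assoc a _
  set h₀ := (bcPoint z H HT).symm (𝟙 HT)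
  obtain ⟨c, hc⟩ := hn _ (kk HT) h₀
  have hcY : ∀ {Y : Over T} (a : Y ⟶ HT),
      kk Y * ((bcPoint z H Y).symm a ≫ i) * (kk Y)⁻¹ = ((Over.map z).map a ≫ c) ≫ i := by
    intro Y a
    have h1 : (bcPoint z H Y).symm a = (Over.map z).map a ≫ h₀ := by
      rw [Equiv.symm_apply_eq, bcPoint_comp, Equiv.apply_symm_apply, Category.comp_id]
    rw [Category.assoc, ← hc, MonObj.comp_mul, MonObj.comp_mul, GrpObj.comp_inv, hkk, h1, Category.assoc]
  set w : HT ⟶ HT := bcPointMulEquiv z H HT (c * h₀⁻¹)
  have hw : ∀ {Y : Over T} (a : Y ⟶ HT), a ≫ w =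
      bcPointMulEquiv z H Y (((Over.map z).map a ≫ c) * ((bcPoint z H Y).symm a)⁻¹) := by
    intro Y a
    have h1 : (bcPoint z H Y).symm a = (Over.map z).map a ≫ h₀ := by
      rw [Equiv.symm_apply_eq, bcPoint_comp, Equiv.apply_symm_apply, Category.comp_id]
    rw [h1, ← GrpObj.comp_inv, ← MonObj.comp_mul]
    exact (bcPoint_comp z a _).symm
  have hwmul : ∀ {Y : Over T} (a b : Y ⟶ HT), (a * b) ≫ w = (a ≫ w) * (b ≫ w) := by
    intro Y a b
    rw [hw, hw, hw, ← map_mul]
    congr 1
    have hs : (bcPoint z H Y).symm (a * b) = (bcPoint z H Y).symm a * (bcPoint z H Y).symm b :=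
      map_mul (bcPointMulEquiv z H Y).symm a b
    have hcm : (Over.map z).map (a * b) ≫ c = ((Over.map z).map a ≫ c) * ((Over.map z).map b ≫ c) := by
      rw [← cancel_mono i, MonObj.mul_comp, ← hcY, ← hcY, ← hcY, hs, MonObj.mul_comp]
      simp only [_root_.mul_assoc, inv_mul_cancel_left]
    rw [hcm, hs]
    letI : CommGroup ((Over.map z).obj Y ⟶ H) :=
      { (inferInstance : Group ((Over.map z).obj Y ⟶ H)) with mul_comm := mul_comm_of_charts hch _ }
    rw [_root_.mul_inv_rev, _root_.mul_comm ((bcPoint z H Y).symm b)⁻¹, _root_.mul_mul_mul_comm]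
  have : IsMonHom w := GrothLib.GrpSchField.isMonHom_of_mul w (by
    have h1 := hwmul (fst HT HT) (snd HT HT)
    rw [Hom.mul_def, lift_fst_snd, Category.id_comp, Hom.mul_def, ← lift_map] at h1
    rw [h1, lift_fst_snd, Category.id_comp])
  have hchT := hch.baseChange z
  have := isClosedImmersion_one_of_charts hchT
  have : LocallyOfFinitePresentation HT.hom := by
    have := lfp_of_isMultTypeFT hH
    exact inferInstanceAs (LocallyOfFinitePresentation (pullback.snd H.hom z))
  have : LocallyOfFinitePresentation η[HT].left := by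
    refine lfp_of_comp_of_lft _ HT.hom ?_ inferInstance
    rw [Over.w η[HT]]
    exact inferInstanceAs (LocallyOfFinitePresentation (𝟙 T))
  have : LocallyOfFinitePresentation (pullback.fst w.left η[HT].left) := inferInstance
  obtain ⟨U, hUclosed, hU, hUtriv⟩ := exists_clopen_trivial w (hchT.mono fun _ _ _ => trivial)
  -- the unit point lies in the locus
  let o : Spec (CommRingCat.of L) ⟶ T := pullback.lift (φs ≫ η[K].left) (𝟙 _) (by
    rw [Category.assoc, Category.id_comp]
    erw [Over.w η[K]]
    exact Category.comp_id _)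
  have ho : TrivOver w o := by
    intro Y τ hτ a
    rw [hw, ← map_one (bcPointMulEquiv z H Y)]
    congr 1
    have hk1 : kk Y = 1 := by
      apply Over.OverMorphism.ext
      change Y.hom ≫ pullback.fst K.hom φs = (Y.hom ≫ z) ≫ η[K].left
      rw [← hτ]
      simp only [Category.assoc, z]
      rw [pullback.lift_fst, pullback.lift_snd_assoc, Category.id_comp]
    have h1 := hcY a
    rw [hk1, _root_.one_mul, inv_one, _root_.mul_one] at h1
    rw [← (cancel_mono i).mp h1, mul_inv_cancel]
  have hne : (U : Set T).Nonempty := by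
    refine ⟨o.base (IsLocalRing.closedPoint L), (hU _).mpr ?_⟩
    exact (trivOver_iff_pullback_eq_one w _).mpr ((trivOver_field_iff w (L := L) o).mp ho)
  have htop : (U : Set T) = Set.univ := IsClopen.eq_univ ⟨hUclosed, U.isOpen⟩ hne
  -- evaluate
  let Y : Over T := Over.mk g.left
  set j := (reBase φs g).hom
  set g' := (bcPoint φs K X).symm g
  set h' := (bcPoint φs H X).symm h
  set a := bcPoint z H Y (j ≫ h')
  have ha := (trivOver_iff_pullback_eq_one w _).mp hUtriv Y
    (IsOpenImmersion.lift U.ι Y.hom (by rw [U.range_ι, htop]; exact Set.subset_univ _))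
    (IsOpenImmersion.lift_fac _ _ _) a
  rw [hw, ← map_one (bcPointMulEquiv z H Y)] at ha
  have h2 := mul_inv_eq_one.mp ((bcPointMulEquiv z H Y).injective ha)
  have h3 := hcY a
  rw [h2, Equiv.symm_apply_apply] at h3
  have hg' : kk Y = j ≫ g' := by
    apply Over.OverMorphism.ext
    change g.left ≫ pullback.fst K.hom φs = 𝟙 _ ≫ g'.left
    rw [Category.id_comp]
    rfl
  rw [hg', mul_inv_eq_iff_eq_mul, Category.assoc, ← MonObj.comp_mul, ← MonObj.comp_mul] at h3
  rw [cancel_epi] at h3
  have h4 := congrArg (bcPointMulEquiv φs K X) h3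
  rw [map_mul, map_mul] at h4
  have e1 : bcPointMulEquiv φs K X g' = g := (bcPoint φs K X).apply_symm_apply g
  have e2 : bcPointMulEquiv φs K X (h' ≫ i) = h ≫ (Over.pullback φs).map i :=
    (bcPoint_comp_right φs h' i).trans (congrArg (· ≫ _) ((bcPoint φs H X).apply_symm_apply h))
  rw [e1, e2] at h4
  exact h4

/-- Let K be an S-group locally of finite type over S whose fibres are connected, and i : H ⟶ K a
subgroup scheme of multiplicative type and of finite type which is normal in K. Then H is central in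
K: for every S-scheme X, every X-point of K commutes with (the image of) every X-point of H. -/
theorem result {S : Scheme.{u}} (K H : Over S) [GrpObj K] [GrpObj H]
    [LocallyOfFiniteType K.hom] (hconn : ∀ s : S, ConnectedSpace ↥(Limits.pullback K.hom (S.fromSpecResidueField s)))
    (i : H ⟶ K) [IsMonHom i] [Mono i] (hH : SGA3x.IsMultTypeFT H) (hn : AlgGrp.IsNormalHom i) :
    ∀ (X : Over S) (k : X ⟶ K) (h : X ⟶ H), k * (h ≫ i) = (h ≫ i) * k := by
  have hch := GrothLib.DiagGrp.hasChartsFpqc_of_isMultTypeFT hH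
  refine fun X k h => GrothLib.DiagGrp.central_of_fibres (GrothLib.DiagGrp.locally_of_isMultTypeFT hH) i
    (fun s X g h => ?_) X h k
  have := hconn s
  exact fibre_central K H i hH hn hch (L := S.residueField s) (S.fromSpecResidueField s) X g h

end Groth.Agent.S5255
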