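import Groth.Statements.S4710
import Groth.Agent.Lib.N2.Local
-- import your own Groth.Agent.* helpers here

set_option autoImplicit false
universe u
open EGA4

namespace Groth.Agent.S4710

/-- Last assertion, case of rings of fractions: if A is a Noetherian ring all of whose quotient domains
are Japanese (a Nagata ring), then so is every ring of fractions S⁻¹A. -/
theorem result (A : Type u) [CommRing A] (hA : CAlg.IsNagata A) (S : Submonoid A) :
    CAlg.IsNagata (Localization S) := by
  haveI := hA.1
  refine ⟨IsLocalization.isNoetherianRing S (Localization S) inferInstance, fun P hP => ?_⟩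
  let q := P.comap (algebraMap A (Localization S))
  haveI : q.IsPrime := Ideal.comap_isPrime _ P
  haveI hloc : IsLocalization (Algebra.algebraMapSubmonoid (A ⧸ q) S)
      (Localization S ⧸ q.map (algebraMap A (Localization S))) := inferInstance
  have hPq : q.map (algebraMap A (Localization S)) = P := IsLocalization.map_comap S (Localization S) P
  haveI : IsDomain (Localization S ⧸ q.map (algebraMap A (Localization S))) := by
    rw [hPq]; exact Ideal.Quotient.isDomain P
  exact GrothLib.N2.isN2_of_ringEquiv (Ideal.quotEquivOfEq hPq)
    (GrothLib.N2.isN2_of_isLocalization (A ⧸ q) (Algebra.algebraMapSubmonoid (A ⧸ q) S) _ (hA.2 q))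

end Groth.Agent.S4710
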