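import Groth.Statements.S18068
-- import your own Groth.Agent.* helpers here
import Groth.Agent.Lib.AntiAffIsog24.Main

set_option autoImplicit false
universe u
open CategoryTheory MonoidalCategory CartesianMonoidalCategory MonObj GrpObj AlgebraicGeometry CategoryTheory.Limits
open AlgGrp

namespace Groth.Agent.S18068

/-- Let k be a field and f : G → H an isogeny (a surjective homomorphism with finite kernel, i.e.
surjective and finite) of connected commutative algebraic groups over k. Then G is anti-affine (O(G)
= k) if and only if H is anti-affine. -/
theorem result (k : Type u) [Field k]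
    (G H : Over (Spec (CommRingCat.of k))) [GrpObj G] [Smooth G.hom] [QuasiCompact G.hom] [ConnectedSpace ↥G.left] [IsCommMonObj G]
    [GrpObj H] [Smooth H.hom] [QuasiCompact H.hom] [ConnectedSpace ↥H.left] [IsCommMonObj H]
    (f : G ⟶ H) [IsMonHom f] [Surjective f.left] [IsFinite f.left] :
    Function.Bijective ((Scheme.ΓSpecIso (CommRingCat.of k)).inv ≫ G.hom.appTop).hom ↔
      Function.Bijective ((Scheme.ΓSpecIso (CommRingCat.of k)).inv ≫ H.hom.appTop).hom := by
  exact GrothLib.AntiAffIsog24.antiAffine_iff k G H f

end Groth.Agent.S18068
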