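import Groth.Statements.S18069
import Groth.Agent.Lib.AntiAffine.Prod
-- import your own Groth.Agent.* helpers here

set_option autoImplicit false
universe u
open CategoryTheory MonoidalCategory CartesianMonoidalCategory MonObj GrpObj AlgebraicGeometry CategoryTheory.Limits
open AlgGrp

namespace Groth.Agent.S18069

/-- Let k be a field and G₁, G₂ connected k-group schemes of finite type. Then G₁ × G₂ is anti-affine,
i.e. O(G₁ × G₂) = k, if and only if G₁ and G₂ are both anti-affine. -/
theorem result (k : Type u) [Field k]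
    (G₁ G₂ : Over (Spec (CommRingCat.of k))) [GrpObj G₁] [LocallyOfFiniteType G₁.hom] [QuasiCompact G₁.hom] [ConnectedSpace ↥G₁.left]
    [GrpObj G₂] [LocallyOfFiniteType G₂.hom] [QuasiCompact G₂.hom] [ConnectedSpace ↥G₂.left] :
    Function.Bijective ((Scheme.ΓSpecIso (CommRingCat.of k)).inv ≫ (G₁ ⊗ G₂).hom.appTop).hom ↔
      Function.Bijective ((Scheme.ΓSpecIso (CommRingCat.of k)).inv ≫ G₁.hom.appTop).hom ∧ Function.Bijective ((Scheme.ΓSpecIso (CommRingCat.of k)).inv ≫ G₂.hom.appTop).hom := by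
  have : IsSeparated G₁.hom := GrothLib.GrpSchField.isSeparated G₁
  refine ⟨fun h => ⟨?_, ?_⟩, fun h => GrothLib.AntiAffine.antiAffine_tensor h.1 h.2 η[G₁]⟩
  · exact GrothLib.AntiAffine.IsAntiAffine.of_injective h (fst G₁ G₂)
      (GrothLib.AntiAffine.appTop_injective_of_retraction (fst G₁ G₂) (lift (𝟙 _) (toUnit _ ≫ η[G₂])) (lift_fst _ _))
  · exact GrothLib.AntiAffine.IsAntiAffine.of_injective h (snd G₁ G₂)
      (GrothLib.AntiAffine.appTop_injective_of_retraction (snd G₁ G₂) (lift (toUnit _ ≫ η[G₁]) (𝟙 _)) (lift_snd _ _))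


end Groth.Agent.S18069
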