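import Groth.Statements.S14604
import Groth.Agent.Lib.AntiAffFF5.Main
import Groth.Agent.Lib.EtSite.FpqcDescent
-- import your own Groth.Agent.* helpers here

set_option autoImplicit false
universe u
open CategoryTheory MonoidalCategory CartesianMonoidalCategory MonObj GrpObj AlgebraicGeometry CategoryTheory.Limits
open AlgGrp

namespace Groth.Agent.S14604

/-- Over a finite field k, every anti-affine k-group scheme of finite type G (O(G) = k) is an abelian
variety; since anti-affine groups are smooth and connected, this is the statement that G is proper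
over k. -/
theorem result (k : Type u) [Field k] [Finite k]
    (G : Over (Spec (CommRingCat.of k))) [GrpObj G] [LocallyOfFiniteType G.hom] [QuasiCompact G.hom]
    (hG : Function.Bijective ((Scheme.ΓSpecIso (CommRingCat.of k)).inv ≫ G.hom.appTop).hom) : IsProper G.hom := by
  let K := AlgebraicClosure k
  let b : Spec (CommRingCat.of K) ⟶ Spec (CommRingCat.of k) := Spec.map (CommRingCat.ofHom (algebraMap k K))
  letI : GrpObj (Red.bc b G) := Red.grpObj_bc b G
  haveI : Smooth G.hom := GrothLib.AntiAffSmooth14.smooth_of_isAntiAffine G hG
  haveI : Smooth (Red.bc b G).hom := inferInstanceAs (Smooth (Limits.pullback.snd G.hom b))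
  haveI : QuasiCompact (Red.bc b G).hom := inferInstanceAs (QuasiCompact (Limits.pullback.snd G.hom b))
  have hK := (Groth.Agent.S19702.result k K G).1 hG
  obtain ⟨p, hp⟩ := CharP.exists k
  haveI : Fintype k := Fintype.ofFinite k
  obtain ⟨e, hpp, hcard⟩ := FiniteField.card k p
  haveI := Fact.mk hpp
  haveI : CharP K p := charP_of_injective_algebraMap (algebraMap k K).injective p
  have halg : ∀ x : K, ∃ n : ℕ, 0 < n ∧ x ^ p ^ n = x := by
    intro x
    let L := IntermediateField.adjoin k ({x} : Set K)
    haveI : FiniteDimensional k L :=
      IntermediateField.adjoin.finiteDimensional (Algebra.IsIntegral.isIntegral x)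
    haveI : Finite L := Module.finite_of_finite k
    haveI : Fintype L := Fintype.ofFinite L
    haveI : CharP L p := charP_of_injective_algebraMap (algebraMap k L).injective p
    obtain ⟨n, -, hn⟩ := FiniteField.card L p
    refine ⟨n, n.pos, ?_⟩
    have h := FiniteField.pow_card (⟨x, IntermediateField.mem_adjoin_simple_self k x⟩ : L)
    rw [hn] at h
    exact congrArg Subtype.val h
  haveI : IsProper (Red.bc b G).hom := GrothLib.AntiAffFF5.isProper_of_antiAffine p halg (Red.bc b G) hK
  haveI : Surjective b := ⟨fun z => ⟨IsLocalRing.closedPoint K, Subsingleton.elim (α := PrimeSpectrum k) _ _⟩⟩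
  exact MorphismProperty.of_pullback_snd_of_descendsAlong (P := @IsProper) (Q := GrothLib.EtSite.fpqcCov)
    (show GrothLib.EtSite.fpqcCov b from ⟨⟨inferInstance, inferInstance⟩, inferInstance⟩) ‹IsProper (Red.bc b G).hom›

end Groth.Agent.S14604
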