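import Groth.Statements.S14816
-- import your own Groth.Agent.* helpers here
import Groth.Agent.Lib.FinField15.Orbit

set_option autoImplicit false
universe u
open CategoryTheory MonoidalCategory CartesianMonoidalCategory MonObj GrpObj AlgebraicGeometry
open AbVar

namespace Groth.Agent.S14816

/-- Let k be an algebraically closed field of characteristic p > 0 which is algebraic over its prime
field (every element x satisfies x^(p^n) = x for some n ≥ 1) and let A be an abelian variety over k
(a proper, geometrically integral group scheme over k). Then every k-rational point of A has finite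
order in the group A(k) of k-points. -/
theorem result
    (p : ℕ) [Fact (Nat.Prime p)] (k : Type u) [Field k] [IsAlgClosed k] [CharP k p]
    (halg : ∀ x : k, ∃ n : ℕ, 0 < n ∧ x ^ (p ^ n) = x)
    (A : Over (Spec (CommRingCat.of k))) [GrpObj A] [IsProper A.hom] [GeometricallyIntegral A.hom]
    (a : 𝟙_ (Over (Spec (CommRingCat.of k))) ⟶ A) : IsOfFinOrder a := by
  let f : A ⟶ A := (𝟙 A) * (toUnit A ≫ a)
  have hstep : ∀ n : ℕ, (a ^ (n + 1)).left = (a ^ n).left ≫ f.left := by
    intro n
    rw [← Over.comp_left]
    congr 1
    rw [show f = (𝟙 A) * (toUnit A ≫ a) from rfl, MonObj.comp_mul, Category.comp_id, ← Category.assoc,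
      show (a ^ n) ≫ toUnit A = 𝟙 _ from toUnit_unique _ _, Category.id_comp, pow_succ]
  have h := GrothLib.FinField15.finite_orbit (π := A.hom) p halg f.left (Over.w f)
    (fun n : ℕ => (a ^ n).left) (Over.w (a ^ 0)) hstep
  rw [← finite_powers]
  refine Set.Finite.of_finite_image (f := fun b : 𝟙_ (Over (Spec (CommRingCat.of k))) ⟶ A => b.left)
    (h.subset ?_) (fun b _ c _ hbc => Over.OverMorphism.ext hbc)
  rintro _ ⟨b, ⟨n, rfl⟩, rfl⟩
  exact ⟨n, rfl⟩

end Groth.Agent.S14816
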