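import Groth.Statements.S1681
import Groth.Agent.Lib.BlowUp.Universal

set_option autoImplicit false
universe u
open CategoryTheory CategoryTheory.Limits AlgebraicGeometry TopologicalSpace
open SDiv

namespace Groth.Agent.S1681

/-- Let b : X' ⟶ X be a blowing-up of X along the quasi-coherent ideal sheaf 𝓘. Then b restricts to a
bijection from the maximal points of X' (points with no proper generization) onto the maximal points
of X not lying in the support of 𝓘. -/
theorem result {X X' : Scheme.{u}} (𝓘 : X.IdealSheafData) (b : X' ⟶ X) (hb : BlowUp.IsBlowUp b 𝓘) :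
    Set.BijOn (fun x' => b x') {x' : ↥X' | ∀ y : ↥X', y ⤳ x' → y = x'}
      {x : ↥X | (∀ y : ↥X, y ⤳ x → y = x) ∧ x ∉ 𝓘.support} := by
  have := GrothLib.BlowUp.isIso_off_center hb
  set U : X.Opens := 𝓘.support.compl with hU
  let e := (b ∣_ U).homeomorph
  have hmem : ∀ y : X', y ∈ b ⁻¹ᵁ U ↔ y ∉ (𝓘.comap b).support := fun y => by
    rw [Scheme.IdealSheafData.support_comap]; rfl
  have hval : ∀ y : (b ⁻¹ᵁ U).toScheme, U.ι (e y) = b y.1 := fun y =>
    congr($(morphismRestrict_ι b U) y)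
  refine ⟨fun x' hx' => ?_, fun x₁ h₁ x₂ h₂ he => ?_, fun x hx => ?_⟩
  · have h1 : x' ∈ b ⁻¹ᵁ U := (hmem x').mpr (GrothLib.BlowUp.notMem_support_of_maximal hb.1 hx')
    refine ⟨fun y hy => ?_, h1⟩
    have hyU : y ∈ U := hy.mem_open U.2 h1
    obtain ⟨y', hy'⟩ := e.surjective ⟨y, hyU⟩
    have hs : e y' ⤳ e ⟨x', h1⟩ := by
      rw [hy', ← U.ι.isOpenEmbedding.isInducing.specializes_iff, hval]; exact hy
    have := hx' y'.1 ((b ⁻¹ᵁ U).ι.isOpenEmbedding.isInducing.specializes_iff.mpr (e.isInducing.specializes_iff.mp hs))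
    have e2 := hval y'
    rw [hy', this] at e2
    exact e2
  · have h1 : x₁ ∈ b ⁻¹ᵁ U := (hmem x₁).mpr (GrothLib.BlowUp.notMem_support_of_maximal hb.1 h₁)
    have h2 : x₂ ∈ b ⁻¹ᵁ U := (hmem x₂).mpr (GrothLib.BlowUp.notMem_support_of_maximal hb.1 h₂)
    have : e ⟨x₁, h1⟩ = e ⟨x₂, h2⟩ := U.ι.isOpenEmbedding.injective (by rw [hval, hval]; exact he)
    exact congrArg Subtype.val (e.injective this)
  · obtain ⟨y, hy⟩ := e.surjective ⟨x, hx.2⟩
    have hyx : b y.1 = x := by rw [← hval, hy]; rfl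
    refine ⟨y.1, fun z hz => ?_, hyx⟩
    have hzU : z ∈ b ⁻¹ᵁ U := hz.mem_open (b ⁻¹ᵁ U).2 y.2
    have h1 : b z = x := hx.1 _ (hyx ▸ hz.map b.continuous)
    have : e ⟨z, hzU⟩ = e y := U.ι.isOpenEmbedding.injective (by rw [hval, hval, h1, hyx])
    exact congrArg Subtype.val (e.injective this)

end Groth.Agent.S1681
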