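import Groth.Statements.S2054
import Groth.Agent.Lib.DepthKer.DepthTwo
import Groth.Agent.Lib.TorsionFree.Reflexive
import Groth.Agent.Lib.NormalSerre.Serre
import Groth.Agent.Lib.RegLoc.Basic
import Mathlib.RingTheory.DedekindDomain.PID
import Mathlib.LinearAlgebra.FreeModule.PID
-- import your own Groth.Agent.* helpers here

set_option autoImplicit false
universe u
open CAlg

namespace Groth.Agent.S2054

/-- Let `R` be a Noetherian normal domain and `M` a finite `R`-module. Then `M` is reflexive (the map to
its double dual is bijective) if and only if `M` is torsion free and satisfies Serre's condition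
`(S_2)`. -/
theorem result {R M : Type u} [CommRing R] [IsDomain R] [IsNoetherianRing R]
    [IsIntegrallyClosed R] [AddCommGroup M] [Module R M] [Module.Finite R M] :
    Module.IsReflexive R M ↔ NoZeroSMulDivisors R M ∧ LocCoh.HasSk 2 R M := by
  classical
  have hnorm : ∀ (p : Ideal R) [p.IsPrime], IsDomain (Localization.AtPrime p) ∧
      IsIntegrallyClosed (Localization.AtPrime p) := fun p _ =>
    ⟨IsLocalization.isDomain_localization p.primeCompl_le_nonZeroDivisors,
      isIntegrallyClosed_of_isLocalization (Localization.AtPrime p) p.primeCompl p.primeCompl_le_nonZeroDivisors⟩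
  obtain ⟨-, hS2⟩ := (GrothLib.NormalSerre.normal_iff R).1 hnorm
  have hLR : ∀ (p : Ideal R) [p.IsPrime],
      Nonempty (LocalizedModule p.primeCompl R ≃ₗ[Localization.AtPrime p] Localization.AtPrime p) := fun p _ => by
    exact ⟨((IsLocalizedModule.iso p.primeCompl (Algebra.linearMap R (Localization.AtPrime p))).extendScalarsOfIsLocalization
      p.primeCompl (Localization.AtPrime p))⟩
  constructor
  · intro href
    haveI := href
    obtain ⟨n, f, hf, -⟩ := (GrothLib.TorsionFree.isReflexive_iff M).1 href
    refine ⟨⟨fun {c x} h => ?_⟩, ?_⟩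
    · have h1 : c • f x = 0 := by rw [← map_smul, h, map_zero]
      rcases smul_eq_zero.1 h1 with h2 | h2
      · exact Or.inl h2
      · exact Or.inr (hf (h2.trans (map_zero f).symm))
    obtain ⟨n, m, i, u, hi, hex⟩ := GrothLib.DepthKer.exists_presentation (A := R) M
    have hpi : ∀ (k l : ℕ), k ≤ 2 → LocCoh.HasSk k R (Fin l → R) := by
      intro k l hk p _
      haveI : IsNoetherianRing (Localization.AtPrime p) := IsLocalization.isNoetherianRing p.primeCompl _ inferInstance
      have h0 : min (k : WithBot ℕ∞) (ringKrullDim (Localization.AtPrime p)) ≤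
          ((LocCoh.depth (Localization.AtPrime p) (LocalizedModule p.primeCompl R) : ℕ∞) : WithBot ℕ∞) := by
        refine le_trans (le_of_eq_of_le ?_ (min_le_min_right _ (Nat.cast_le.2 hk))) (hS2 p)
        obtain ⟨e⟩ := hLR p
        rw [Module.supportDim_eq_of_equiv e, Module.supportDim_self_eq_ringKrullDim]
      refine le_trans (min_le_min_left _ (Module.supportDim_le_ringKrullDim _ _)) ?_
      rcases GrothLib.DepthKer.dichotomy (ringKrullDim (Localization.AtPrime p)) k with hd | hd
      · obtain ⟨j, hj, hjeq⟩ : ∃ j : ℕ, j ≤ k ∧ ringKrullDim (Localization.AtPrime p) = j := by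
          obtain ⟨j, hj, -⟩ := GrothLib.RegLoc.exists_dim_eq (R := Localization.AtPrime p)
          exact ⟨j, by rw [hj] at hd; exact_mod_cast hd, hj⟩
        rw [hjeq] at h0 ⊢
        rw [min_eq_right (by exact_mod_cast hj)] at h0 ⊢
        exact WithBot.coe_le_coe.2 (GrothLib.DepthKer.depth_localizedModule_pi p j l (by
          exact WithBot.coe_le_coe.1 h0))
      · have hd' : (k : WithBot ℕ∞) ≤ ringKrullDim (Localization.AtPrime p) :=
          le_trans (by exact_mod_cast Nat.le_succ k) hd
        rw [min_eq_left hd'] at h0 ⊢
        exact WithBot.coe_le_coe.2 (GrothLib.DepthKer.depth_localizedModule_pi p k l (WithBot.coe_le_coe.1 h0))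
    refine GrothLib.DepthKer.hasSk_two_of_exact i u hi hex ?_ (hpi 1 (m + 1) (by norm_num)) (hpi 2 n le_rfl)
    intro q _
    refine Module.mem_support_iff'.2 ⟨Pi.single 0 1, fun r hr h0 => hr ?_⟩
    have := congrFun h0 0
    simp at this
    rw [this]
    exact zero_mem _
  rintro ⟨htf, hM2⟩
  haveI := htf
  refine ⟨GrothLib.DepthKer.bijective_of_depth_two _ fun p _ => ?_⟩
  haveI : IsNoetherianRing (Localization.AtPrime p) := IsLocalization.isNoetherianRing p.primeCompl _ inferInstance
  haveI := (hnorm p).1
  haveI := (hnorm p).2
  by_cases htriv : Subsingleton M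
  · left
    haveI : Subsingleton (Module.Dual R M) := ⟨fun a b => LinearMap.ext fun x => by
      rw [Subsingleton.elim x 0, map_zero, map_zero]⟩
    haveI : Subsingleton (Module.Dual R (Module.Dual R M)) := ⟨fun a b => LinearMap.ext fun x => by
      rw [Subsingleton.elim x 0, map_zero, map_zero]⟩
    haveI : Subsingleton (LocalizedModule p.primeCompl M) := ⟨fun a b => by
      induction a with | h m s => induction b with | h m' s' =>
        rw [Subsingleton.elim m 0, Subsingleton.elim m' 0, LocalizedModule.zero_mk, LocalizedModule.zero_mk]⟩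
    haveI : Subsingleton (LocalizedModule p.primeCompl (Module.Dual R (Module.Dual R M))) := ⟨fun a b => by
      induction a with | h m s => induction b with | h m' s' =>
        rw [Subsingleton.elim m 0, Subsingleton.elim m' 0, LocalizedModule.zero_mk, LocalizedModule.zero_mk]⟩
    exact ⟨fun a b _ => Subsingleton.elim a b, fun b => ⟨0, Subsingleton.elim _ _⟩⟩
  rw [not_subsingleton_iff_nontrivial] at htriv
  haveI hLnt : Nontrivial (LocalizedModule p.primeCompl M) := by
    obtain ⟨x, hx⟩ := exists_ne (0 : M)
    refine ⟨⟨LocalizedModule.mk x 1, 0, fun h0 => ?_⟩⟩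
    rw [← LocalizedModule.zero_mk 1, LocalizedModule.mk_eq] at h0
    obtain ⟨c, hc⟩ := h0
    simp only [one_smul, smul_zero, Submonoid.smul_def] at hc
    rcases smul_eq_zero.1 hc with h | h
    · exact c.2 (by rw [h]; exact zero_mem _)
    · exact hx h
  haveI : Module.IsTorsionFree (Localization.AtPrime p) (LocalizedModule p.primeCompl M) := by
    refine Module.isTorsionFree_iff_smul_eq_zero.2 fun r z hz => ?_
    obtain ⟨a, t, rfl⟩ := IsLocalization.exists_mk'_eq p.primeCompl r
    induction z with
    | h x s =>
      rw [← Localization.mk_eq_mk', LocalizedModule.mk_smul_mk, ← LocalizedModule.zero_mk 1, LocalizedModule.mk_eq] at hz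
      obtain ⟨c, hc⟩ := hz
      simp only [one_smul, smul_zero, Submonoid.smul_def, smul_smul] at hc
      rcases smul_eq_zero.1 hc with h | h
      · rcases mul_eq_zero.1 h with h | h
        · exact absurd (by rw [h]; exact zero_mem _) c.2
        · exact Or.inl (by rw [h, IsLocalization.mk'_zero])
      · exact Or.inr (by rw [h, LocalizedModule.zero_mk])
  rcases GrothLib.DepthKer.dichotomy (ringKrullDim (Localization.AtPrime p)) 1 with hd | hd
  · left
    haveI : Ring.KrullDimLE 1 (Localization.AtPrime p) := Ring.krullDimLE_iff.2 hd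
    haveI : IsDedekindDomain (Localization.AtPrime p) :=
      { toIsNoetherian := inferInstance
        toDimensionLEOne := ⟨fun {q} hq hqp => (Ring.krullDimLE_one_iff.1 inferInstance q hqp).resolve_left
          fun hmin => hq (by rw [IsDomain.minimalPrimes_eq_singleton_bot, Set.mem_singleton_iff] at hmin; exact hmin)⟩ }
    haveI : IsPrincipalIdealRing (Localization.AtPrime p) := inferInstance
    haveI : Module.Free (Localization.AtPrime p) (LocalizedModule p.primeCompl M) := Module.free_of_finite_type_torsion_free'
    exact GrothLib.DepthKer.bijective_localized_of_isReflexive M p inferInstance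
  · right
    refine ⟨?_, fun hass => ?_⟩
    · have h2 := hM2 p
      have hsd : Module.supportDim (Localization.AtPrime p) (LocalizedModule p.primeCompl M) =
          ringKrullDim (Localization.AtPrime p) := by
        rw [Module.supportDim_eq_ringKrullDim_quotient_annihilator]
        have hann : Module.annihilator (Localization.AtPrime p) (LocalizedModule p.primeCompl M) = ⊥ := by
          rw [eq_bot_iff]
          intro r hr
          obtain ⟨z, hz⟩ := exists_ne (0 : LocalizedModule p.primeCompl M)
          exact (smul_eq_zero.1 (Module.mem_annihilator.1 hr z)).resolve_right hz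
        rw [hann]
        exact ringKrullDim_eq_of_ringEquiv (RingEquiv.quotientBot _)
      rw [hsd, min_eq_left (by exact_mod_cast hd)] at h2
      exact WithBot.coe_le_coe.1 h2
    · obtain ⟨hp, f, hf⟩ := (isAssociatedPrime_iff_exists_injective_linearMap _ _).1 ((AssociatedPrimes.mem_iff).1 hass)
      have hp0 : p ≠ ⊥ := by
        intro h0
        subst h0
        have h1 := IsLocalization.AtPrime.ringKrullDim_eq_height (⊥ : Ideal R) (Localization.AtPrime (⊥ : Ideal R))
        rw [h1, Ideal.height_bot] at hd
        exact absurd hd (by decide)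
      obtain ⟨a, ha, ha0⟩ := Submodule.exists_mem_ne_zero_of_ne_bot hp0
      have h1 : a • f (Ideal.Quotient.mk p 1) = 0 := by
        rw [← map_smul, Algebra.smul_def, Ideal.Quotient.algebraMap_eq, ← map_mul, mul_one,
          Ideal.Quotient.eq_zero_iff_mem.2 ha, map_zero]
      have hne : f (Ideal.Quotient.mk p 1) ≠ 0 := fun h0 => hp.ne_top ((Ideal.eq_top_iff_one p).2
        (Ideal.Quotient.eq_zero_iff_mem.1 (hf (h0.trans (map_zero f).symm))))
      refine hne (LinearMap.ext fun φ => ?_)
      have h2 := LinearMap.congr_fun h1 φ
      simp only [LinearMap.smul_apply, smul_eq_mul, LinearMap.zero_apply] at h2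
      exact (mul_eq_zero.1 h2).resolve_left ha0

end Groth.Agent.S2054
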