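import Groth.Statements.S6919
import Groth.Agent.Lib.FlatDescent8.Basic

set_option autoImplicit false
set_option linter.style.haveILetI false
universe u
open FlatMor

namespace Groth.Agent.S6919

/-- Let `R → S` be a ring map, `J ⊆ S` an ideal, `M` an `S`-module and `I ⊆ R` an ideal; let `R → R'` be
a ring map and `I' ⊆ R'` an ideal containing `IR'`, and put `S' = S ⊗_R R'`, `M' = M ⊗_R R'`. Assume
that every prime of `R` containing `I` is the contraction of a prime of `R'` containing `I'`, and
that `R'_{𝔭'}` is flat over `R` for every prime `𝔭' ⊇ I'`. If `M'_{𝔮'}` is flat over `R'` for every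
prime `𝔮' ⊇ I'S' + JS'` of `S'`, then `M_𝔮` is flat over `R` for every prime `𝔮 ⊇ IS + J` of `S`.
(The published statement descends from a pair `(R'', I'')` to an arbitrary pair `(R', I')` over `R`;
this row takes `(R', I') = (R, I)`.) -/
theorem result {R S R' S' : Type u} [CommRing R] [CommRing S] [CommRing R'] [CommRing S']
    [Algebra R S] [Algebra R R'] [Algebra S S'] [Algebra R' S'] [Algebra R S'] [IsScalarTower R S S']
    [IsScalarTower R R' S'] [Algebra.IsPushout R S R' S']
    (I : Ideal R) (I' : Ideal R') (hII' : I.map (algebraMap R R') ≤ I')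
    {M M' : Type u} [AddCommGroup M] [Module S M] [Module R M] [IsScalarTower R S M]
    [AddCommGroup M'] [Module S' M'] [Module R' M'] [IsScalarTower R' S' M'] [Module S M'] [IsScalarTower S S' M']
    (f : M →ₗ[S] M') (hf : IsBaseChange S' f) (J : Ideal S)
    (hsurj : ∀ (p : Ideal R) [p.IsPrime], I ≤ p → ∃ (p' : Ideal R') (_ : p'.IsPrime), I' ≤ p' ∧ p'.comap (algebraMap R R') = p)
    (hflat : ∀ (p' : Ideal R') [p'.IsPrime], I' ≤ p' → Module.Flat R (Localization.AtPrime p'))
    (h : (∀ (q : Ideal S') [q.IsPrime], I'.map (algebraMap R' S') ⊔ J.map (algebraMap S S') ≤ q → FlatCA.FlatAt R' q M')) :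
    (∀ (q : Ideal S) [q.IsPrime], I.map (algebraMap R S) ⊔ J ≤ q → FlatCA.FlatAt R q M) := by
  intro q _ hq
  let p := q.comap (algebraMap R S)
  haveI : p.IsPrime := Ideal.IsPrime.comap _
  have hIp : I ≤ p := Ideal.map_le_iff_le_comap.mp (le_sup_left.trans hq)
  obtain ⟨p', _, hIp', hp'⟩ := hsurj p hIp
  obtain ⟨q', _, hq'q, hq'p⟩ := GrothLib.FlatDescent8.exists_prime_over (S' := S') q p' hp'.symm
  subst hq'q hq'p
  have hle : I'.map (algebraMap R' S') ⊔ J.map (algebraMap S S') ≤ q' :=
    sup_le (Ideal.map_le_iff_le_comap.mpr hIp') (Ideal.map_le_iff_le_comap.mpr (le_sup_right.trans hq))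
  have hN : Module.Flat R' (LocalizedModule q'.primeCompl M') := h q' hle
  haveI : Module.Flat R (Localization.AtPrime (q'.comap (algebraMap R' S'))) := hflat _ hIp'
  haveI := GrothLib.FlatDescent8.flat_localization (R := R) (R' := R') (S := S) q'
  letI : Module R M' := Module.compHom M' (algebraMap R S')
  haveI : IsScalarTower R S' M' := IsScalarTower.of_compHom R S' M'
  haveI : IsScalarTower R R' M' := IsScalarTower.of_algebraMap_smul fun r x => by
    show algebraMap R R' r • x = algebraMap R S' r • x
    rw [IsScalarTower.algebraMap_apply R R' S', algebraMap_smul S' (algebraMap R R' r) x]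
  refine (GrothLib.FlatDescent8.flatAt_iff_of_flat_localization (A := R) f hf q').2 ?_
  show Module.Flat R (LocalizedModule q'.primeCompl M')
  let p'' := q'.comap (algebraMap R' S')
  let Nq := LocalizedModule q'.primeCompl M'
  let A := Localization.AtPrime p''
  let ι : A →+* Localization.AtPrime q' := Localization.localRingHom p'' q' (algebraMap R' S') rfl
  letI : Module A Nq := Module.compHom Nq ι
  have hι : ∀ (r : R') (x : Nq), algebraMap R' A r • x = r • x := fun r x => by
    show ι (algebraMap R' A r) • x = r • x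
    rw [Localization.localRingHom_to_map, algebraMap_smul, algebraMap_smul]
  haveI : IsScalarTower R' A Nq := IsScalarTower.of_algebraMap_smul hι
  haveI : IsScalarTower R A Nq := IsScalarTower.of_algebraMap_smul fun r x => by
    rw [IsScalarTower.algebraMap_apply R R' A, hι, algebraMap_smul]
  haveI : Module.Flat A Nq := (Module.flat_iff_of_isLocalization A p''.primeCompl Nq).2 hN
  exact Module.Flat.trans R A Nq

end Groth.Agent.S6919
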