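import Groth.Statements.S6925
import Groth.Agent.Lib.Flattening.Complete
import Mathlib.RingTheory.Localization.Finiteness

set_option autoImplicit false
universe u
open TensorProduct
open FlatMor

namespace Groth.Agent.S6925

open IsLocalRing in
theorem key (R S : Type u) [CommRing R] [IsLocalRing R]
    [IsNoetherianRing R] [IsAdicComplete (maximalIdeal R) R] [CommRing S] [Algebra R S] [IsNoetherianRing S]
    (M : Type u) [AddCommGroup M] [Module S M] [Module R M] [IsScalarTower R S M] [Module.Finite S M] :
    ∃ I : Ideal R, I ≤ maximalIdeal R ∧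
      (∀ (q : Ideal S) [q.IsPrime], q.comap (algebraMap R S) = maximalIdeal R →
        Module.Flat (R ⧸ I) ((R ⧸ I) ⊗[R] LocalizedModule q.primeCompl M)) ∧
      (∀ (n : ℕ) (R' : Type u) [CommRing R'] [Algebra R R'], (maximalIdeal R ^ (n + 1)).map (algebraMap R R') = ⊥ →
        ((∀ (q : Ideal S) [q.IsPrime], q.comap (algebraMap R S) = maximalIdeal R →
          Module.Flat R' (R' ⊗[R] LocalizedModule q.primeCompl M)) ↔ I.map (algebraMap R R') = ⊥)) ∧
      ∀ J : Ideal R, (∀ (q : Ideal S) [q.IsPrime], q.comap (algebraMap R S) = maximalIdeal R →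
        Module.Flat (R ⧸ J) ((R ⧸ J) ⊗[R] LocalizedModule q.primeCompl M)) → I ≤ J := by
  let ι := {q : PrimeSpectrum S // q.asIdeal.comap (algebraMap R S) = maximalIdeal R}
  obtain ⟨I, hIm, huniv, hmin⟩ := GrothLib.Flattening.exists_complete (R := R)
    (fun i : ι => LocalizedModule i.1.asIdeal.primeCompl M)
  refine ⟨I, hIm, fun q _ hq => ?_, fun n R' _ _ h0 => ?_, fun J hJ => hmin J fun i => hJ _ i.2⟩
  · haveI : IsScalarTower R (Localization.AtPrime q) (LocalizedModule q.primeCompl M) :=
      IsScalarTower.of_algebraMap_smul fun a x => by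
        rw [IsScalarTower.algebraMap_apply R S (Localization.AtPrime q), algebraMap_smul, algebraMap_smul]
    haveI : Module.Finite (Localization.AtPrime q) (LocalizedModule q.primeCompl M) :=
      Module.Finite.of_isLocalizedModule q.primeCompl (Rₚ := Localization.AtPrime q)
        (LocalizedModule.mkLinearMap q.primeCompl M)
    refine GrothLib.Flattening.flat_quotient I (Localization.AtPrime q) ?_ _
      fun n R' _ _ h0 hI => (huniv n R' h0).2 hI ⟨⟨q, inferInstance⟩, hq⟩
    rw [IsLocalRing.jacobson_eq_maximalIdeal _ bot_ne_top, IsScalarTower.algebraMap_eq R S (Localization.AtPrime q),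
      ← Ideal.map_map, ← Localization.AtPrime.map_eq_maximalIdeal, ← hq]
    exact Ideal.map_mono Ideal.map_comap_le
  · exact ⟨fun h => (huniv n R' h0).1 fun i => h _ i.2,
      fun h q _ hq => (huniv n R' h0).2 h ⟨⟨q, inferInstance⟩, hq⟩⟩


/-- Let `(R, 𝔪)` be a complete Noetherian local ring, `R → S` a ring map with `S` Noetherian and `M` a
finite `S`-module. Then among ideals contained in `𝔪`, there is a smallest one `I` with the
following property: whenever `𝔮` is a prime of `S` lying over `𝔪`, the module `(M/IM)_𝔮` is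
`R/I`-flat. Namely, `I ⊆ 𝔪` has this property, and every ideal `J` with the property contains `I`. -/
theorem result (R S : Type u) [CommRing R] [IsLocalRing R]
    [IsNoetherianRing R] [IsAdicComplete (IsLocalRing.maximalIdeal R) R] [CommRing S] [Algebra R S] [IsNoetherianRing S]
    (M : Type u) [AddCommGroup M] [Module S M] [Module R M] [IsScalarTower R S M] [Module.Finite S M] :
    ∃ I : Ideal R, I ≤ IsLocalRing.maximalIdeal R ∧
      (∀ (q : Ideal S) [q.IsPrime], q.comap (algebraMap R S) = IsLocalRing.maximalIdeal R →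
        Module.Flat (R ⧸ I) ((R ⧸ I) ⊗[R] LocalizedModule q.primeCompl M)) ∧
      ∀ J : Ideal R, (∀ (q : Ideal S) [q.IsPrime], q.comap (algebraMap R S) = IsLocalRing.maximalIdeal R →
        Module.Flat (R ⧸ J) ((R ⧸ J) ⊗[R] LocalizedModule q.primeCompl M)) → I ≤ J := by
  obtain ⟨I, hIm, hflat, -, hmin⟩ := key R S M
  exact ⟨I, hIm, fun q _ hq => hflat q hq, hmin⟩


end Groth.Agent.S6925
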