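import Groth.Statements.S6926
import Groth.Agent.S6925
import Groth.Agent.Lib.Flattening.Criteria

set_option autoImplicit false
universe u
open TensorProduct
open FlatMor

namespace Groth.Agent.S6926

/-- Let `(R, 𝔪)` be a complete Noetherian local ring, `R → S` with `S` Noetherian, `M` a finite
`S`-module, and `I ⊆ 𝔪` the least ideal with the property that, at each prime `𝔮` of `S` lying above
`𝔪`, the localization `(M/IM)_𝔮` is an `R/I`-flat module. Let `φ : R → R'` be a local homomorphism
to a Noetherian local ring `(R', 𝔪')`, `S' = S ⊗_R R'`, `M' = M ⊗_R R'`. Then `M'_{𝔮'}` is flat over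
`R'` for every prime `𝔮'` of `S'` lying over `𝔪'` if and only if `φ(I) = 0`. -/
theorem result {R S R' S' : Type u} [CommRing R] [IsLocalRing R]
    [IsNoetherianRing R] [IsAdicComplete (IsLocalRing.maximalIdeal R) R] [CommRing S] [IsNoetherianRing S]
    [CommRing R'] [IsLocalRing R'] [IsNoetherianRing R'] [CommRing S']
    [Algebra R S] [Algebra R R'] [IsLocalHom (algebraMap R R')] [Algebra S S'] [Algebra R' S'] [Algebra R S']
    [IsScalarTower R S S'] [IsScalarTower R R' S'] [Algebra.IsPushout R S R' S']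
    {M M' : Type u} [AddCommGroup M] [Module S M] [Module R M] [IsScalarTower R S M] [Module.Finite S M]
    [AddCommGroup M'] [Module S' M'] [Module R' M'] [IsScalarTower R' S' M'] [Module S M'] [IsScalarTower S S' M']
    (f : M →ₗ[S] M') (hf : IsBaseChange S' f) (I : Ideal R) (hIm : I ≤ IsLocalRing.maximalIdeal R)
    (hI : (∀ (q : Ideal S) [q.IsPrime], q.comap (algebraMap R S) = IsLocalRing.maximalIdeal R →
        Module.Flat (R ⧸ I) ((R ⧸ I) ⊗[R] LocalizedModule q.primeCompl M)))
    (hmin : ∀ J : Ideal R, (∀ (q : Ideal S) [q.IsPrime], q.comap (algebraMap R S) = IsLocalRing.maximalIdeal R →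
        Module.Flat (R ⧸ J) ((R ⧸ J) ⊗[R] LocalizedModule q.primeCompl M)) → I ≤ J) :
    (∀ (q' : Ideal S') [q'.IsPrime], q'.comap (algebraMap R' S') = IsLocalRing.maximalIdeal R' → FlatCA.FlatAt R' q' M') ↔
      I ≤ RingHom.ker (algebraMap R R') := by
  obtain ⟨I₀, -, hflat₀, huniv, hmin₀⟩ := Groth.Agent.S6925.key R S M
  have hII : I = I₀ := le_antisymm (hmin I₀ fun q _ hq => hflat₀ q hq) (hmin₀ I hI)
  subst hII
  have hmm : (IsLocalRing.maximalIdeal R').comap (algebraMap R R') = IsLocalRing.maximalIdeal R :=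
    Ideal.ext fun x => by simp
  refine ⟨fun h => ?_, fun hker q' _ hq' => ?_⟩
  · have hpow : ∀ n, I ≤ (IsLocalRing.maximalIdeal R' ^ (n + 1)).comap (algebraMap R R') := fun n => by
      let C := R' ⧸ IsLocalRing.maximalIdeal R' ^ (n + 1)
      have hC : (IsLocalRing.maximalIdeal R' ^ (n + 1)).map (algebraMap R' C) = ⊥ := Ideal.map_quotient_self _
      have hC' : (IsLocalRing.maximalIdeal R ^ (n + 1)).map (algebraMap R C) = ⊥ := by
        rw [IsScalarTower.algebraMap_eq R R' C, ← Ideal.map_map, ← le_bot_iff, ← hC, Ideal.map_pow]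
        refine Ideal.map_mono (Ideal.pow_right_mono ?_ _)
        rw [← hmm]
        exact Ideal.map_comap_le
      have h1 := (huniv n C hC').1 fun q _ _ =>
        GrothLib.Flattening.flat_baseChange_of_flatAt f hf C n hC (fun Q _ hQ => h Q hQ) q.primeCompl
      intro x hx
      rw [Ideal.mem_comap, ← Ideal.Quotient.eq_zero_iff_mem]
      exact Ideal.mem_bot.1 (h1 ▸ Ideal.mem_map_of_mem (algebraMap R C) hx)
    intro x hx
    rw [RingHom.mem_ker, ← Ideal.mem_bot, ← Ideal.iInf_pow_eq_bot_of_isLocalRing _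
      (IsLocalRing.maximalIdeal.isMaximal R').ne_top, Submodule.mem_iInf]
    intro n
    exact Ideal.pow_le_pow_right (Nat.le_succ n) (hpow n hx)
  · let q := q'.comap (algebraMap S S')
    have hq : q.comap (algebraMap R S) = IsLocalRing.maximalIdeal R := by
      rw [Ideal.comap_comap, ← IsScalarTower.algebraMap_eq R S S', IsScalarTower.algebraMap_eq R R' S',
        ← Ideal.comap_comap, hq', hmm]
    letI : Algebra (R ⧸ I) R' := (Ideal.Quotient.lift I (algebraMap R R') hker).toAlgebra
    haveI : IsScalarTower R (R ⧸ I) R' := IsScalarTower.of_algebraMap_eq fun _ => rfl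
    haveI := hI q hq
    exact GrothLib.Flattening.flatAt_of_flat_baseChange f hf q'
      ((GrothLib.Flattening.flat_cancel (A := R) (B := R ⧸ I) (C := R') _).1 inferInstance)


end Groth.Agent.S6926
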