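import Groth.Statements.S9629
import Mathlib
import Groth.Agent.Lib.GrpSchField.TensorDomain
-- import your own Groth.Agent.* helpers here

set_option autoImplicit false
universe u
open CAlg

namespace Groth.Agent.S9629

open TensorProduct in
/-- For a field k and a k-algebra S the following are equivalent: (1) S is geometrically integral, i.e.
k' ⊗_k S is an integral domain for every field extension k'/k; (2) k' ⊗_k S is an integral domain
for every finite field extension k'/k; (3) k̄ ⊗_k S is an integral domain for the algebraic closure
k̄ of k. Here the test fields range over field extensions in the universe of k; this is equivalent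
to the unrestricted notion, since an algebraic closure of k suffices as a test. -/
theorem result {k S : Type u} [Field k] [CommRing S] [Algebra k S] :
    [∀ (k' : Type u) [Field k'] [Algebra k k'], IsDomain (k' ⊗[k] S),
      ∀ (k' : Type u) [Field k'] [Algebra k k'] [Module.Finite k k'], IsDomain (k' ⊗[k] S),
      IsDomain (AlgebraicClosure k ⊗[k] S)].TFAE := by
  classical
  tfae_have 1 → 2 := fun h k' _ _ _ => h k'
  tfae_have 2 → 3 := by
    intro h
    let K := AlgebraicClosure k
    have hS : IsDomain (k ⊗[k] S) := h k
    haveI : IsDomain S := (Algebra.TensorProduct.lid k S).toRingEquiv.symm.injective.isDomain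
      (Algebra.TensorProduct.lid k S).symm.toRingEquiv.toRingHom
    haveI : Nontrivial (K ⊗[k] S) :=
      Algebra.TensorProduct.nontrivial_of_algebraMap_injective_of_isDomain k K S
        (algebraMap k K).injective (algebraMap k S).injective
    suffices NoZeroDivisors (K ⊗[k] S) from NoZeroDivisors.to_isDomain _
    constructor
    intro x y hxy
    obtain ⟨Sx, hSx⟩ := TensorProduct.exists_finset x
    obtain ⟨Sy, hSy⟩ := TensorProduct.exists_finset y
    let T : Finset K := Sx.image Prod.fst ∪ Sy.image Prod.fst
    let L := IntermediateField.adjoin k (T : Set K)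
    haveI : FiniteDimensional k L :=
      IntermediateField.finiteDimensional_adjoin fun t _ => Algebra.IsIntegral.isIntegral t
    let f := Algebra.TensorProduct.map L.val (AlgHom.id k S)
    have hf : Function.Injective f :=
      Module.Flat.rTensor_preserves_injective_linearMap (M := S) L.val.toLinearMap
        Subtype.val_injective
    have key : ∀ (z : K ⊗[k] S) (Sz : Finset (K × S)), z = ∑ i ∈ Sz, i.1 ⊗ₜ i.2 →
        (∀ i ∈ Sz, i.1 ∈ T) → z ∈ f.range := by
      intro z Sz hz hT
      rw [hz]
      refine sum_mem fun i hi => ?_
      exact ⟨(⟨i.1, IntermediateField.subset_adjoin k _ (hT i hi)⟩ : L) ⊗ₜ i.2, rfl⟩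
    obtain ⟨x₀, rfl⟩ := key x Sx hSx fun i hi =>
      Finset.mem_union_left _ (Finset.mem_image_of_mem _ hi)
    obtain ⟨y₀, rfl⟩ := key y Sy hSy fun i hi =>
      Finset.mem_union_right _ (Finset.mem_image_of_mem _ hi)
    change f x₀ * f y₀ = 0 at hxy
    rw [← map_mul, map_eq_zero_iff _ hf] at hxy
    haveI : IsDomain (L ⊗[k] S) := h L
    rcases mul_eq_zero.mp hxy with h0 | h0
    · exact Or.inl (by change f x₀ = 0; rw [h0, map_zero])
    · exact Or.inr (by change f y₀ = 0; rw [h0, map_zero])
  tfae_have 3 → 1 := by
    intro h k' _ _
    let K := AlgebraicClosure k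
    let Ω := AlgebraicClosure k'
    let j : K →ₐ[k] Ω := IsAlgClosed.lift
    letI : Algebra K Ω := j.toRingHom.toAlgebra
    haveI : IsScalarTower k K Ω := IsScalarTower.of_algebraMap_eq fun r => (j.commutes r).symm
    haveI : IsDomain (K ⊗[k] S) := h
    haveI : IsDomain (Ω ⊗[K] (K ⊗[k] S)) := GrothLib.GrpSchField.isDomain_tensorProduct
    let e := Algebra.TensorProduct.cancelBaseChange k K Ω Ω S
    haveI : IsDomain (Ω ⊗[k] S) :=
      Function.Injective.isDomain e.symm.toRingEquiv.toRingHom e.symm.injective
    let g := Algebra.TensorProduct.map (IsScalarTower.toAlgHom k k' Ω) (AlgHom.id k S)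
    exact Function.Injective.isDomain g.toRingHom
      (Module.Flat.rTensor_preserves_injective_linearMap (M := S)
        (IsScalarTower.toAlgHom k k' Ω).toLinearMap (algebraMap k' Ω).injective)
  tfae_finish

end Groth.Agent.S9629
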