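import Groth.Statements.S6928
import Groth.Agent.Lib.Flattening.Stage
import Groth.Agent.Lib.Flattening.Transfer
import Groth.Agent.Lib.FibreFlat.EssFP

set_option autoImplicit false
universe u
open FlatMor

namespace Groth.Agent.S6928

/-- Let `R → S` be a ring map that is essentially of finite presentation, `J ⊆ S` an ideal and `M` a
finitely presented `S`-module. Let `(R_λ)` be a directed system of `R`-algebras with colimit `R'`,
and `I_λ ⊆ R_λ` ideals with `I_λ R_μ ⊆ I_μ`, `I' = colim I_λ`, `S' = S ⊗_R R'`, `M' = M ⊗_R R'`. If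
`M'_{𝔮'}` is flat over `R'` for every prime `𝔮' ⊇ I'S' + JS'`, then there is `λ` such that, with
`S_λ = S ⊗_R R_λ` and `M_λ = M ⊗_R R_λ`, `(M_λ)_𝔮` is flat over `R_λ` for every prime `𝔮 ⊇ I_λ S_λ +
J S_λ`. -/
theorem result {R S : Type u} [CommRing R] [CommRing S] [Algebra R S] (hS : FlatCA.EssFinitePresentation R S)
    {M : Type u} [AddCommGroup M] [Module S M] [Module R M] [IsScalarTower R S M] [Module.FinitePresentation S M]
    {ι : Type u} [Preorder ι] (G : ι → Type u) [∀ i, CommRing (G i)] [∀ i, Algebra R (G i)]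
    (g : ∀ i j, i ≤ j → G i →+* G j) (hgR : ∀ i j (h : i ≤ j), (g i j h).comp (algebraMap R (G i)) = algebraMap R (G j))
    (R' : Type u) [CommRing R'] [Algebra R R'] [∀ i, Algebra (G i) R'] [∀ i, IsScalarTower R (G i) R']
    (hcolim : FlatCA.IsDirectedColimitRing G g R')
    (Il : ∀ i, Ideal (G i)) (hIl : ∀ i j (h : i ≤ j), (Il i).map (g i j h) ≤ Il j)
    {S' : Type u} [CommRing S'] [Algebra S S'] [Algebra R' S'] [Algebra R S'] [IsScalarTower R S S']
    [IsScalarTower R R' S'] [Algebra.IsPushout R S R' S']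
    {M' : Type u} [AddCommGroup M'] [Module S' M'] [Module R' M'] [IsScalarTower R' S' M'] [Module S M']
    [IsScalarTower S S' M'] (f : M →ₗ[S] M') (hf : IsBaseChange S' f)
    (J : Ideal S)
    (h : ∀ (q' : Ideal S') [q'.IsPrime],
      (⨆ i, (Il i).map (algebraMap (G i) R')).map (algebraMap R' S') ⊔ J.map (algebraMap S S') ≤ q' →
        FlatCA.FlatAt R' q' M') :
    ∃ i : ι, ∀ (Si Mi : Type u) [CommRing Si] [Algebra S Si] [Algebra (G i) Si] [Algebra R Si] [IsScalarTower R S Si]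
      [IsScalarTower R (G i) Si] [Algebra.IsPushout R S (G i) Si] [AddCommGroup Mi] [Module Si Mi] [Module (G i) Mi]
      [IsScalarTower (G i) Si Mi] [Module S Mi] [IsScalarTower S Si Mi] (fi : M →ₗ[S] Mi), IsBaseChange Si fi →
      ∀ (q : Ideal Si) [q.IsPrime], (Il i).map (algebraMap (G i) Si) ⊔ J.map (algebraMap S Si) ≤ q → FlatCA.FlatAt (G i) q Mi := by
  classical
  obtain ⟨S₀, _, _, _, _, W, hfp, hloc⟩ := hS
  haveI := hfp
  haveI := hloc
  letI : Module S₀ M := Module.compHom M (algebraMap S₀ S)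
  haveI : IsScalarTower S₀ S M := IsScalarTower.of_algebraMap_smul fun _ _ => rfl
  obtain ⟨M₀, _, _, _, l, hl⟩ := GrothLib.FibreFlat.exists_fp_localized (A := S₀) (A' := S) W
    (fun t ht => IsLocalization.map_units S ⟨t, ht⟩)
    (fun y => by
      obtain ⟨⟨a, t⟩, ha⟩ := IsLocalization.surj W y
      exact ⟨a, t, t.2, ha⟩)
    ⊥ Submodule.fg_bot (fun a ha => by rw [Ideal.mem_bot.1 ha, map_zero])
    (fun a ha => by
      obtain ⟨t, ht⟩ := (IsLocalization.map_eq_zero_iff W S a).1 ha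
      exact ⟨t, t.2, Ideal.mem_bot.2 ht⟩) M
  haveI := hl
  letI : Module R M₀ := Module.compHom M₀ (algebraMap R S₀)
  haveI : IsScalarTower R S₀ M₀ := IsScalarTower.of_algebraMap_smul fun _ _ => rfl
  obtain ⟨hdir, hne, hrefl, htrans, hcomm, hsurj, hzero⟩ := hcolim
  let gA : ∀ i j, i ≤ j → G i →ₐ[R] G j := fun i j hij =>
    { g i j hij with commutes' := fun r => RingHom.congr_fun (hgR i j hij) r }
  obtain ⟨ψ', hψ'1, hψ'2, hψ'3, hψ'4⟩ := GrothLib.Flattening.exists_model_map (R := R) W l R' S' M' f hf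
  have hJ : (J.comap (algebraMap S₀ S)).map (algebraMap S₀ S) = J := IsLocalization.map_comap W S J
  letI := @Algebra.TensorProduct.rightAlgebra
  obtain ⟨i, hi⟩ := GrothLib.Flattening.exists_stage_flat_fp G gA R' hdir hne (fun i x => RingHom.congr_fun (hrefl i) x)
    (fun i j k hij hjk x => RingHom.congr_fun (htrans i j k hij hjk) x)
    (fun i j hij x => RingHom.congr_fun (hcomm i j hij) x) hsurj hzero S₀ M₀ Il
    (fun i j hij => hIl i j hij) (J.comap (algebraMap S₀ S)) W
    (fun P _ hKP hJP hWP => by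
      obtain ⟨q', hq', rfl⟩ := hψ'4 P hWP
      refine (hψ'3 q').1 (h q' (sup_le ?_ ?_))
      · rw [Ideal.map_le_iff_le_comap, iSup_le_iff]
        intro i
        rw [Ideal.map_le_iff_le_comap]
        intro x hx
        have := hKP i x hx
        rw [Ideal.mem_comap, hψ'1] at this
        exact this
      · rw [← hJ, Ideal.map_map, Ideal.map_le_iff_le_comap]
        intro x hx
        have := hJP (Ideal.mem_map_of_mem _ hx)
        rw [Ideal.mem_comap, hψ'2] at this
        exact this)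
  refine ⟨i, fun Si Mi _ _ _ _ _ _ _ _ _ _ _ _ _ fi hfi q _ hq => ?_⟩
  obtain ⟨ψ, hψ1, hψ2, hψ3, -⟩ := GrothLib.Flattening.exists_model_map (R := R) W l (G i) Si Mi fi hfi
  refine (hψ3 q).2 (hi (q.comap ψ) (fun x hx => ?_) ?_ (fun w hw hwq => ?_))
  · rw [Ideal.mem_comap, hψ1]
    exact hq (Submodule.mem_sup_left (Ideal.mem_map_of_mem _ hx))
  · rw [Ideal.map_le_iff_le_comap]
    intro x hx
    rw [Ideal.mem_comap, Ideal.mem_comap, hψ2]
    exact hq (Submodule.mem_sup_right (Ideal.mem_map_of_mem _ hx))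
  · rw [Ideal.mem_comap, hψ2] at hwq
    exact Ideal.IsPrime.ne_top ‹_› (Ideal.eq_top_of_isUnit_mem q hwq ((IsLocalization.map_units S ⟨w, hw⟩).map _))


end Groth.Agent.S6928
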