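import Groth.Statements.S1229
import Groth.Agent.Lib.FlatteningHens1.Main
import Groth.Agent.S6928
-- import your own Groth.Agent.* helpers here

set_option autoImplicit false
universe u
open FlatMor

namespace Groth.Agent.S1229

open TensorProduct FlatCA IsLocalRing

attribute [local instance] Algebra.TensorProduct.rightAlgebra

/-- A finite module over a localization comes from a finite submodule over the base. -/
theorem exists_model_module {S B M : Type u} [CommRing S] [CommRing B] [Algebra S B] (W : Submonoid S) [IsLocalization W B]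
    [AddCommGroup M] [Module B M] [Module S M] [IsScalarTower S B M] [Module.Finite B M] :
    ∃ N : Submodule S M, Module.Finite S N ∧ IsLocalizedModule W N.subtype := by
  obtain ⟨s, hs⟩ := Module.Finite.fg_top (R := B) (M := M)
  let N := Submodule.span S (s : Set M)
  refine ⟨N, Module.Finite.span_of_finite S s.finite_toSet, ⟨fun w => ?_, fun y => ?_, fun {x y} h => ⟨1, ?_⟩⟩⟩
  · obtain ⟨v, hv⟩ := IsLocalization.map_units B w
    have key : ∀ x : M, algebraMap S (Module.End S M) (w : S) x = v • x := fun x => by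
      rw [Module.algebraMap_end_apply, Units.smul_def, hv, algebraMap_smul]
    refine (Module.End.isUnit_iff _).2 ⟨fun x y h => ?_, fun x => ⟨v⁻¹ • x, ?_⟩⟩
    · rw [key, key] at h
      exact smul_left_cancel v h
    · rw [key, smul_inv_smul]
  · have hy : y ∈ Submodule.span B (s : Set M) := hs ▸ Submodule.mem_top
    have key : ∀ z ∈ Submodule.span B (s : Set M), ∃ t : W, (t : S) • z ∈ N := by
      intro z hz
      induction hz using Submodule.span_induction with
      | mem z hz => exact ⟨1, by rw [OneMemClass.coe_one, one_smul]; exact Submodule.subset_span hz⟩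
      | zero => exact ⟨1, by rw [smul_zero]; exact N.zero_mem⟩
      | add a b _ _ ha hb =>
        obtain ⟨t, ht⟩ := ha
        obtain ⟨t', ht'⟩ := hb
        refine ⟨t * t', ?_⟩
        rw [smul_add, Submonoid.coe_mul]
        refine N.add_mem ?_ ?_
        · rw [mul_comm, mul_smul]
          exact N.smul_mem _ ht
        · rw [mul_smul]
          exact N.smul_mem _ ht'
      | smul b a _ ha =>
        obtain ⟨t, ht⟩ := ha
        obtain ⟨x, t', hb⟩ := IsLocalization.exists_mk'_eq W b
        refine ⟨t' * t, ?_⟩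
        have h1 : ((t' * t : W) : S) • b • a = x • ((t : S) • a) := by
          rw [← hb, ← algebraMap_smul B x, ← IsLocalization.mk'_spec B x t', Submonoid.coe_mul, mul_smul,
            smul_comm (t : S) (IsLocalization.mk' B x t') a, ← algebraMap_smul B (t' : S), smul_smul, mul_comm]
        rw [h1]
        exact N.smul_mem _ ht
    obtain ⟨t, ht⟩ := key y hy
    exact ⟨(⟨_, ht⟩, t), rfl⟩
  · exact congrArg ((1 : W) • ·) (Subtype.ext h)

set_option maxHeartbeats 1600000 in
/-- The corepresenting ideal, given a model of finite type. -/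
theorem exists_ideal_of_model {A B S : Type u} [CommRing A] [HenselianLocalRing A] [CommRing B] [IsLocalRing B]
    [Algebra A B] [CommRing S] [Algebra A S] [Algebra.FiniteType A S] [Algebra S B] [IsScalarTower A S B]
    (q : Ideal S) [q.IsPrime] [q.LiesOver (maximalIdeal A)] [IsLocalization q.primeCompl B]
    (hq : (maximalIdeal B).comap (algebraMap S B) = q)
    (M : Type u) [AddCommGroup M] [Module B M] [Module A M] [IsScalarTower A B M] [Module.Finite B M] :
    ∃ I : Ideal A,
      ∀ (A' B' M' : Type u) [CommRing A'] [IsLocalRing A'] [Algebra A A'] [IsLocalHom (algebraMap A A')]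
        [CommRing B'] [Algebra B B'] [Algebra A' B'] [Algebra A B'] [IsScalarTower A B B'] [IsScalarTower A A' B']
        [Algebra.IsPushout A B A' B']
        [AddCommGroup M'] [Module B' M'] [Module B M'] [IsScalarTower B B' M'] [Module A' M'] [IsScalarTower A' B' M']
        (f : M →ₗ[B] M'), IsBaseChange B' f →
        ((∀ (q : Ideal B') [q.IsPrime], (maximalIdeal A').map (algebraMap A' B') ⊔ (maximalIdeal B).map (algebraMap B B') ≤ q →
            FlatCA.FlatAt A' q M') ↔ I.map (algebraMap A A') = ⊥) := by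
  letI : Module S M := Module.compHom M (algebraMap S B)
  haveI : IsScalarTower S B M := IsScalarTower.of_algebraMap_smul fun _ _ => rfl
  haveI : IsScalarTower A S M := IsScalarTower.of_algebraMap_smul fun a x => by
    show algebraMap S B (algebraMap A S a) • x = a • x
    rw [← IsScalarTower.algebraMap_apply, algebraMap_smul]
  obtain ⟨N, hN, hl⟩ := exists_model_module (B := B) (M := M) q.primeCompl
  haveI := hN
  haveI := hl
  obtain ⟨I, hI⟩ := GrothLib.FlatteningHens1.exists_ideal_model (A := A) N q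
  refine ⟨I, fun A' B' M' _ _ _ _ _ _ _ _ _ _ _ _ _ _ _ _ _ f hf => ?_⟩
  haveI : Module.Flat S B := IsLocalization.flat B q.primeCompl
  letI : Algebra S B' := ((algebraMap B B').comp (algebraMap S B)).toAlgebra
  haveI : IsScalarTower S B B' := IsScalarTower.of_algebraMap_eq fun _ => rfl
  letI : Module S M' := Module.compHom M' (algebraMap S B')
  haveI : IsScalarTower S B' M' := IsScalarTower.of_algebraMap_smul fun _ _ => rfl
  haveI : IsScalarTower S B M' := IsScalarTower.of_algebraMap_smul fun s x => by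
    exact (algebraMap_smul B' (algebraMap S B s) x).symm
  let jT : N →ₗ[S] M' := (f.restrictScalars S).comp N.subtype
  have hjT : IsBaseChange B' jT := (IsLocalizedModule.isBaseChange q.primeCompl B N.subtype).comp hf
  rw [← hI A', GrothLib.FlatteningHens1.forall_flatAt_iff (A := A) (A' := A') (S2 := B) (T := B') N jT hjT q
    (fun J => J = maximalIdeal B) (fun J hJ => by rw [hJ, hq]) ⟨_, inferInstance, rfl⟩]
  refine forall_congr' fun P => forall_congr' fun hP => ⟨fun h hB hA => h ?_, fun h hle => h ?_ ?_⟩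
  · exact sup_le (Ideal.map_le_iff_le_comap.2 hA.ge) (Ideal.map_le_iff_le_comap.2 hB.ge)
  · haveI := hP
    exact ((maximalIdeal.isMaximal B).eq_of_le (Ideal.IsPrime.comap (K := P) (algebraMap B B')).ne_top
      (Ideal.map_le_iff_le_comap.1 (le_sup_right.trans hle))).symm
  · haveI := hP
    exact ((maximalIdeal.isMaximal A').eq_of_le (Ideal.IsPrime.comap (K := P) (algebraMap A' B')).ne_top
      (Ideal.map_le_iff_le_comap.1 (le_sup_left.trans hle))).symm

/-- The corepresenting ideal, without the finiteness statement. -/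
theorem exists_ideal {A B : Type u} [CommRing A] [HenselianLocalRing A] [CommRing B] [IsLocalRing B] [Algebra A B]
    [IsLocalHom (algebraMap A B)] [Algebra.EssFiniteType A B]
    (M : Type u) [AddCommGroup M] [Module B M] [Module A M] [IsScalarTower A B M] [Module.Finite B M] :
    ∃ I : Ideal A,
      ∀ (A' B' M' : Type u) [CommRing A'] [IsLocalRing A'] [Algebra A A'] [IsLocalHom (algebraMap A A')]
        [CommRing B'] [Algebra B B'] [Algebra A' B'] [Algebra A B'] [IsScalarTower A B B'] [IsScalarTower A A' B']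
        [Algebra.IsPushout A B A' B']
        [AddCommGroup M'] [Module B' M'] [Module B M'] [IsScalarTower B B' M'] [Module A' M'] [IsScalarTower A' B' M']
        (f : M →ₗ[B] M'), IsBaseChange B' f →
        ((∀ (q : Ideal B') [q.IsPrime], (maximalIdeal A').map (algebraMap A' B') ⊔ (maximalIdeal B).map (algebraMap B B') ≤ q →
            FlatCA.FlatAt A' q M') ↔ I.map (algebraMap A A') = ⊥) := by
  let S := Algebra.EssFiniteType.subalgebra A B
  let q : Ideal S := (maximalIdeal B).comap (algebraMap S B)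
  haveI : q.IsPrime := Ideal.IsPrime.comap _
  have hunit : ∀ x : S, x ∉ q ↔ IsUnit (algebraMap S B x) := fun x => IsLocalRing.notMem_maximalIdeal
  haveI : IsLocalization q.primeCompl B :=
    IsLocalization.of_le (Algebra.EssFiniteType.submonoid A B) q.primeCompl (fun x hx => (hunit x).2 hx)
      fun x hx => (hunit x).1 hx
  haveI : q.LiesOver (maximalIdeal A) := ⟨by
    rw [Ideal.under_def, Ideal.comap_comap, ← IsScalarTower.algebraMap_eq A S B]
    exact (IsLocalRing.maximalIdeal_comap (algebraMap A B)).symm⟩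
  exact exists_ideal_of_model (S := S) q rfl M

/-- A quotient is the colimit of the quotients by the finitely generated ideals below. -/
theorem isDirectedColimitRing_quotient {A : Type u} [CommRing A] (I : Ideal A)
    [∀ j : {J : Ideal A // J.FG ∧ J ≤ I}, Algebra (A ⧸ j.1) (A ⧸ I)]
    [∀ j : {J : Ideal A // J.FG ∧ J ≤ I}, IsScalarTower A (A ⧸ j.1) (A ⧸ I)] :
    FlatCA.IsDirectedColimitRing (fun j : {J : Ideal A // J.FG ∧ J ≤ I} => A ⧸ j.1)
      (fun _ _ h => Ideal.Quotient.factor h) (A ⧸ I) := by
  let ι : Type u := {J : Ideal A // J.FG ∧ J ≤ I}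
  have hmk : ∀ (i : ι) (x : A), algebraMap (A ⧸ i.1) (A ⧸ I) (Ideal.Quotient.mk i.1 x) = Ideal.Quotient.mk I x :=
    fun i x => (IsScalarTower.algebraMap_apply A (A ⧸ i.1) (A ⧸ I) x).symm
  refine ⟨⟨fun a b => ⟨⟨a.1 ⊔ b.1, Submodule.FG.sup a.2.1 b.2.1, sup_le a.2.2 b.2.2⟩, le_sup_left (b := b.1),
      le_sup_right (a := a.1)⟩⟩, ⟨⟨⊥, Submodule.fg_bot, bot_le⟩⟩,
    fun i => Ideal.Quotient.ringHom_ext (RingHom.ext fun _ => rfl),
    fun i j k _ _ => Ideal.Quotient.ringHom_ext (RingHom.ext fun _ => rfl),
    fun i j _ => Ideal.Quotient.ringHom_ext (RingHom.ext fun x => (hmk j x).trans (hmk i x).symm), fun a => ?_,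
    fun i x hx => ?_⟩
  · obtain ⟨a, rfl⟩ := Ideal.Quotient.mk_surjective a
    exact ⟨⟨⊥, Submodule.fg_bot, bot_le⟩, Ideal.Quotient.mk _ a, hmk _ a⟩
  · obtain ⟨x, rfl⟩ := Ideal.Quotient.mk_surjective x
    have hxI : x ∈ I := Ideal.Quotient.eq_zero_iff_mem.1 ((hmk i x).symm.trans hx)
    refine ⟨⟨i.1 ⊔ Ideal.span {x}, Submodule.FG.sup i.2.1 (Submodule.fg_span_singleton x),
      sup_le i.2.2 ((Ideal.span_singleton_le_iff_mem _).2 hxI)⟩, le_sup_left (b := Ideal.span {x}), ?_⟩
    exact Ideal.Quotient.eq_zero_iff_mem.2 (Ideal.mem_sup_right (Ideal.mem_span_singleton_self x))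

set_option maxHeartbeats 1600000 in
/-- The corepresenting property on the tensor models. -/
theorem corepresents_tensor {A B : Type u} [CommRing A] [CommRing B] [IsLocalRing B] [Algebra A B]
    (M : Type u) [AddCommGroup M] [Module B M] (I : Ideal A)
    (hI :
      ∀ (A' B' M' : Type u) [CommRing A'] [IsLocalRing A'] [Algebra A A'] [IsLocalHom (algebraMap A A')]
        [CommRing B'] [Algebra B B'] [Algebra A' B'] [Algebra A B'] [IsScalarTower A B B'] [IsScalarTower A A' B']
        [Algebra.IsPushout A B A' B']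
        [AddCommGroup M'] [Module B' M'] [Module B M'] [IsScalarTower B B' M'] [Module A' M'] [IsScalarTower A' B' M']
        (f : M →ₗ[B] M'), IsBaseChange B' f →
        ((∀ (q : Ideal B') [q.IsPrime], (maximalIdeal A').map (algebraMap A' B') ⊔ (maximalIdeal B).map (algebraMap B B') ≤ q →
            FlatCA.FlatAt A' q M') ↔ I.map (algebraMap A A') = ⊥))
    (A' : Type u) [CommRing A'] [IsLocalRing A'] [Algebra A A'] [IsLocalHom (algebraMap A A')] :
    (∀ (q : Ideal (A' ⊗[A] B)) [q.IsPrime],
      (maximalIdeal A').map (algebraMap A' (A' ⊗[A] B)) ⊔ (maximalIdeal B).map (algebraMap B (A' ⊗[A] B)) ≤ q →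
        FlatCA.FlatAt A' q ((A' ⊗[A] B) ⊗[B] M)) ↔ I.map (algebraMap A A') = ⊥ :=
  @hI A' (A' ⊗[A] B) ((A' ⊗[A] B) ⊗[B] M) _ _ _ _ _ _ _ _ inferInstance inferInstance
    (Algebra.IsPushout.symm inferInstance) _ _ _ inferInstance _ inferInstance (TensorProduct.mk B (A' ⊗[A] B) M 1)
    (TensorProduct.isBaseChange B M (A' ⊗[A] B))

/-- Descent of flatness over closed points to a stage, on the tensor models. -/
theorem exists_stage {A B : Type u} [CommRing A] [CommRing B] [Algebra A B] (hB : FlatCA.EssFinitePresentation A B)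
    (M : Type u) [AddCommGroup M] [Module B M] [Module A M] [IsScalarTower A B M] [Module.FinitePresentation B M]
    {ι : Type u} [Preorder ι] (G : ι → Type u) [∀ i, CommRing (G i)] [∀ i, Algebra A (G i)]
    (g : ∀ i j, i ≤ j → G i →+* G j) (hg : ∀ i j (h : i ≤ j), (g i j h).comp (algebraMap A (G i)) = algebraMap A (G j))
    (R' : Type u) [CommRing R'] [Algebra A R'] [∀ i, Algebra (G i) R'] [∀ i, IsScalarTower A (G i) R']
    (hcolim : FlatCA.IsDirectedColimitRing G g R') (Il : ∀ i, Ideal (G i))
    (hIl : ∀ i j (h : i ≤ j), (Il i).map (g i j h) ≤ Il j) (J : Ideal B) (m' : Ideal R')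
    (hm' : m' ≤ ⨆ i, (Il i).map (algebraMap (G i) R'))
    (h : ∀ (Q : Ideal (R' ⊗[A] B)) [Q.IsPrime],
      m'.map (algebraMap R' (R' ⊗[A] B)) ⊔ J.map (algebraMap B (R' ⊗[A] B)) ≤ Q →
        FlatCA.FlatAt R' Q ((R' ⊗[A] B) ⊗[B] M)) :
    ∃ i, ∀ (Q : Ideal (G i ⊗[A] B)) [Q.IsPrime],
      (Il i).map (algebraMap (G i) (G i ⊗[A] B)) ⊔ J.map (algebraMap B (G i ⊗[A] B)) ≤ Q →
        FlatCA.FlatAt (G i) Q ((G i ⊗[A] B) ⊗[B] M) := by
  haveI : Algebra.IsPushout A B R' (R' ⊗[A] B) := Algebra.IsPushout.symm inferInstance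
  obtain ⟨i, hi⟩ := Groth.Agent.S6928.result hB G g hg R' hcolim Il hIl (TensorProduct.mk B (R' ⊗[A] B) M 1)
    (TensorProduct.isBaseChange B M _) J (fun Q _ hQ => h Q ((sup_le_sup_right (Ideal.map_mono hm') _).trans hQ))
  haveI : Algebra.IsPushout A B (G i) (G i ⊗[A] B) := Algebra.IsPushout.symm inferInstance
  exact ⟨i, fun Q _ hQ => hi _ _ (TensorProduct.mk B (G i ⊗[A] B) M 1) (TensorProduct.isBaseChange B M _) Q hQ⟩

set_option maxHeartbeats 1600000 in
/-- In the finitely presented case a corepresenting ideal is finitely generated. -/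
theorem fg_of_corepresents {A B : Type u} [CommRing A] [IsLocalRing A] [CommRing B] [IsLocalRing B] [Algebra A B]
    (M : Type u) [AddCommGroup M] [Module B M] [Module A M] [IsScalarTower A B M] (I : Ideal A)
    (hI :
      ∀ (A' B' M' : Type u) [CommRing A'] [IsLocalRing A'] [Algebra A A'] [IsLocalHom (algebraMap A A')]
        [CommRing B'] [Algebra B B'] [Algebra A' B'] [Algebra A B'] [IsScalarTower A B B'] [IsScalarTower A A' B']
        [Algebra.IsPushout A B A' B']
        [AddCommGroup M'] [Module B' M'] [Module B M'] [IsScalarTower B B' M'] [Module A' M'] [IsScalarTower A' B' M']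
        (f : M →ₗ[B] M'), IsBaseChange B' f →
        ((∀ (q : Ideal B') [q.IsPrime], (maximalIdeal A').map (algebraMap A' B') ⊔ (maximalIdeal B).map (algebraMap B B') ≤ q →
            FlatCA.FlatAt A' q M') ↔ I.map (algebraMap A A') = ⊥))
    (hB : FlatCA.EssFinitePresentation A B) (hM : Module.FinitePresentation B M) : I.FG := by
  haveI := hM
  by_cases htop : I = ⊤
  · exact htop ▸ ⟨{1}, by simp⟩
  let ι : Type u := {J : Ideal A // J.FG ∧ J ≤ I}
  haveI hntI : Nontrivial (A ⧸ I) := Ideal.Quotient.nontrivial_iff.2 htop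
  haveI : IsLocalRing (A ⧸ I) := IsLocalRing.of_surjective' _ Ideal.Quotient.mk_surjective
  haveI : IsLocalHom (algebraMap A (A ⧸ I)) := IsLocalHom.of_surjective _ Ideal.Quotient.mk_surjective
  haveI : ∀ j : ι, Nontrivial (A ⧸ j.1) := fun j =>
    Ideal.Quotient.nontrivial_iff.2 fun h => htop (top_le_iff.1 (h ▸ j.2.2))
  haveI : ∀ j : ι, IsLocalRing (A ⧸ j.1) := fun j => IsLocalRing.of_surjective' _ Ideal.Quotient.mk_surjective
  haveI : ∀ j : ι, IsLocalHom (algebraMap A (A ⧸ j.1)) := fun j =>
    IsLocalHom.of_surjective _ Ideal.Quotient.mk_surjective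
  letI : ∀ j : ι, Algebra (A ⧸ j.1) (A ⧸ I) := fun j => (Ideal.Quotient.factor j.2.2).toAlgebra
  haveI : ∀ j : ι, IsScalarTower A (A ⧸ j.1) (A ⧸ I) := fun j => IsScalarTower.of_algebraMap_eq fun _ => rfl
  have hm : ∀ (J : Ideal A) [IsLocalRing (A ⧸ J)] [IsLocalHom (algebraMap A (A ⧸ J))] (x : A),
      algebraMap A (A ⧸ J) x ∈ maximalIdeal (A ⧸ J) ↔ x ∈ maximalIdeal A := fun J _ _ x => by
    rw [← Ideal.mem_comap, IsLocalRing.maximalIdeal_comap]
  have hflat := (corepresents_tensor M I hI (A ⧸ I)).2
    (by rw [Ideal.Quotient.algebraMap_eq, Ideal.map_quotient_self])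
  have hm' : maximalIdeal (A ⧸ I) ≤ ⨆ j : ι, (maximalIdeal (A ⧸ j.1)).map (algebraMap (A ⧸ j.1) (A ⧸ I)) := fun x hx => by
    obtain ⟨a, rfl⟩ := Ideal.Quotient.mk_surjective x
    have hj : (⊥ : Ideal A).FG ∧ (⊥ : Ideal A) ≤ I := ⟨Submodule.fg_bot, bot_le⟩
    refine Ideal.mem_iSup_of_mem (⟨⊥, hj⟩ : ι) ?_
    exact Ideal.mem_map_of_mem _ ((hm (⟨⊥, hj⟩ : ι).1 a).2 ((hm I a).1 hx))
  obtain ⟨j, hj⟩ := exists_stage hB M (fun j : ι => A ⧸ j.1) (fun _ _ h => Ideal.Quotient.factor h)
    (fun i j h => RingHom.ext fun _ => rfl) (A ⧸ I) (isDirectedColimitRing_quotient I)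
    (fun j => maximalIdeal (A ⧸ j.1)) (fun i k h => by
      rw [Ideal.map_le_iff_le_comap]
      intro x hx
      obtain ⟨x, rfl⟩ := Ideal.Quotient.mk_surjective x
      exact (hm k.1 x).2 ((hm i.1 x).1 hx))
    (maximalIdeal B) (maximalIdeal (A ⧸ I)) hm' hflat
  have h2 := (corepresents_tensor M I hI (A ⧸ j.1)).1 hj
  rw [Ideal.Quotient.algebraMap_eq, Ideal.map_eq_bot_iff_le_ker, Ideal.mk_ker] at h2
  exact le_antisymm j.2.2 h2 ▸ j.2.1

open IsLocalRing in
/-- Let A be a henselian local ring, A → B a local homomorphism of local rings which is essentially of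
finite type, and M a finite B-module. Then some ideal I of A has the following property: for any
local ring A' with a local structure map from A, writing B', M' for the base changes of B, M to A'
(any models), M' is flat over A' at all primes of B' lying above both maximal ideals exactly when
IA' = 0. If A → B is essentially of finite presentation and M is finitely presented over B then I is
finitely generated. -/
theorem result {A B : Type u} [CommRing A] [HenselianLocalRing A] [CommRing B] [IsLocalRing B] [Algebra A B]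
    [IsLocalHom (algebraMap A B)] [Algebra.EssFiniteType A B]
    (M : Type u) [AddCommGroup M] [Module B M] [Module A M] [IsScalarTower A B M] [Module.Finite B M] :
    ∃ I : Ideal A,
      (∀ (A' B' M' : Type u) [CommRing A'] [IsLocalRing A'] [Algebra A A'] [IsLocalHom (algebraMap A A')]
        [CommRing B'] [Algebra B B'] [Algebra A' B'] [Algebra A B'] [IsScalarTower A B B'] [IsScalarTower A A' B']
        [Algebra.IsPushout A B A' B']
        [AddCommGroup M'] [Module B' M'] [Module B M'] [IsScalarTower B B' M'] [Module A' M'] [IsScalarTower A' B' M']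
        (f : M →ₗ[B] M'), IsBaseChange B' f →
        ((∀ (q : Ideal B') [q.IsPrime], (maximalIdeal A').map (algebraMap A' B') ⊔ (maximalIdeal B).map (algebraMap B B') ≤ q →
            FlatCA.FlatAt A' q M') ↔ I.map (algebraMap A A') = ⊥)) ∧
      (FlatCA.EssFinitePresentation A B → Module.FinitePresentation B M → I.FG) := by
  obtain ⟨I, hI⟩ := exists_ideal (A := A) (B := B) M
  exact ⟨I, hI, fun hB hM => fg_of_corepresents M I hI hB hM⟩

end Groth.Agent.S1229
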