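import Groth.Statements.S6942
import Groth.Agent.Lib.DCxRing.Homology

set_option autoImplicit false
universe u
open CategoryTheory CategoryTheory.Limits
attribute [local instance] HasDerivedCategory.standard
open DRing

namespace Groth.Agent.S6942

/-- Let R be a Noetherian commutative ring and m an integer. An object K of D(R) is m-pseudo-coherent
exactly when H^i(K) = 0 for all large i and H^i(K) is a finitely generated R-module for each i ≥ m.
Every finitely generated R-module M is pseudo-coherent, and conversely. -/
theorem result (R : Type u) [CommRing R]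
    [IsNoetherianRing R] (m : ℤ) (K : Dual.D R) (M : Type u) [AddCommGroup M] [Module R M] :
    (DRing.IsPseudoCoherent R m K ↔
      (∃ b : ℤ, ∀ i : ℤ, b < i → Subsingleton (Dual.HD R K i)) ∧ ∀ i : ℤ, m ≤ i → Module.Finite R (Dual.HD R K i)) ∧
      (DRing.IsPseudoCoherentModule' R M ↔ Module.Finite R M) := by
  have hR : ∀ I : Ideal R, I.FG → Module.FinitePresentation R I := fun I hI => by
    haveI := Module.Finite.of_fg hI
    exact Module.finitePresentation_of_finite R I
  refine ⟨?_, ?_⟩
  · rw [GrothLib.DR.isPseudoCoherent_iff_of_coherent hR K m]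
    simp only [Module.finitePresentation_iff_finite]
    refine and_congr_right fun _ => ⟨fun h i hi => ?_, fun h => ⟨h m le_rfl, fun i hi => h i hi.le⟩⟩
    rcases hi.eq_or_lt with rfl | hi
    exacts [h.1, h.2 i hi]
  · show DRing.IsPseudoCoherent' R (Dual.inD R M) ↔ _
    rw [GrothLib.DR.isPseudoCoherent'_iff_of_coherent hR _
      ⟨0, fun i hi => GrothLib.DR.subsingleton_HD_inD M i (by omega)⟩]
    simp only [Module.finitePresentation_iff_finite]
    refine ⟨fun h => ?_, fun h i => ?_⟩
    · haveI := h 0
      exact Module.Finite.equiv (GrothLib.DR.inDHomologyIso M).toLinearEquiv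
    · rcases eq_or_ne i 0 with rfl | hi
      · exact Module.Finite.equiv (GrothLib.DR.inDHomologyIso M).toLinearEquiv.symm
      · haveI := GrothLib.DR.subsingleton_HD_inD (A := R) M i hi
        infer_instance

end Groth.Agent.S6942
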