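import Groth.Statements.S7026
import Groth.Agent.Lib.RelPC.Transport
import Groth.Agent.S6942

set_option autoImplicit false
universe u
open CategoryTheory CategoryTheory.Limits
attribute [local instance] HasDerivedCategory.standard
open DerCA

namespace Groth.Agent.S7026

/-- Let R be a Noetherian commutative ring, R → A a finite type ring homomorphism, m an integer, K an
object of D(A) and M an A-module. Then: m-pseudo-coherence of K relative to R is equivalent to
H^i(K) vanishing for all large i together with H^i(K) being a finitely generated A-module for each i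
≥ m; pseudo-coherence of K relative to R (every degree) is equivalent to the same with H^i(K)
finitely generated for every i; and the A-module M is pseudo-coherent relative to R exactly when M
is finitely generated. -/
theorem result {R A : Type u} [CommRing R]
    [IsNoetherianRing R] [CommRing A] [Algebra R A] [Algebra.FiniteType R A] (m : ℤ) (K : Dual.D A)
    (M : Type u) [AddCommGroup M] [Module A M] :
    (DerCA.IsRelPseudoCoherent R A m K ↔
      (∃ b : ℤ, ∀ i : ℤ, b < i → Subsingleton (Dual.HD A K i)) ∧ ∀ i : ℤ, m ≤ i → Module.Finite A (Dual.HD A K i)) ∧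
    (DerCA.IsRelPseudoCoherentAll R A K ↔
      (∃ b : ℤ, ∀ i : ℤ, b < i → Subsingleton (Dual.HD A K i)) ∧ ∀ i : ℤ, Module.Finite A (Dual.HD A K i)) ∧
    (DerCA.IsRelPseudoCoherentModuleAll R A M ↔ Module.Finite A M) := by
  obtain ⟨n, α, hα⟩ := GrothLib.RelPC.exists_pres (R := R) (A := A)
  let φ : MvPolynomial (Fin n) R →+* A := α
  have key : ∀ (k : ℤ) (L : Dual.D A), DerCA.IsRelPseudoCoherent R A k L ↔
      (∃ b : ℤ, ∀ i : ℤ, b < i → Subsingleton (Dual.HD A L i)) ∧ ∀ i : ℤ, k ≤ i → Module.Finite A (Dual.HD A L i) := by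
    intro k L
    refine (GrothLib.RelPC.rel_iff α hα L k).trans
      ((Groth.Agent.S6942.result (MvPolynomial (Fin n) R) k ((DRing.restrictD φ).obj L) PUnit.{u + 1}).1.trans
        (and_congr (exists_congr fun b => forall₂_congr fun i _ => ?_) (forall₂_congr fun i _ => ?_)))
    · exact GrothLib.RelPC.subsingleton_HD_restrict_iff φ L i
    · exact GrothLib.RelPC.finite_HD_restrict_iff φ hα L i
  have keyAll : ∀ L : Dual.D A, DerCA.IsRelPseudoCoherentAll R A L ↔
      (∃ b : ℤ, ∀ i : ℤ, b < i → Subsingleton (Dual.HD A L i)) ∧ ∀ i : ℤ, Module.Finite A (Dual.HD A L i) := by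
    intro L
    refine ⟨fun h => ⟨((key 0 L).1 (h 0)).1, fun i => ((key i L).1 (h i)).2 i le_rfl⟩,
      fun h k => (key k L).2 ⟨h.1, fun i _ => h.2 i⟩⟩
  refine ⟨key m K, keyAll K, (keyAll _).trans ⟨fun h => ?_, fun h => ⟨⟨0, fun i hi => ?_⟩, fun i => ?_⟩⟩⟩
  · have := h.2 0
    exact Module.Finite.equiv (GrothLib.DR.inDHomologyIso M).toLinearEquiv
  · exact GrothLib.DR.subsingleton_HD_inD M i (by omega)
  · rcases eq_or_ne i 0 with rfl | hi
    · exact Module.Finite.equiv (GrothLib.DR.inDHomologyIso M).toLinearEquiv.symm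
    · have := GrothLib.DR.subsingleton_HD_inD (A := A) M i hi
      infer_instance

end Groth.Agent.S7026
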