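import Groth.Statements.S7035
import Groth.Agent.Lib.DCxRing.FibreAmp


set_option autoImplicit false
universe u
open CategoryTheory CategoryTheory.Limits
attribute [local instance] HasDerivedCategory.standard
open DRing

namespace Groth.Agent.S7035

open scoped TensorProduct

noncomputable def fibreEquiv {A B : Type u} [CommRing A] [CommRing B] [Algebra A B]
    (k : Type u) [CommRing k] [Algebra A k] :
    letI := (Algebra.TensorProduct.includeRight : B →ₐ[A] k ⊗[A] B).toRingHom.toAlgebra
    k ⊗[A] B ≃ₗ[B] B ⊗[A] k :=
  letI := (Algebra.TensorProduct.includeRight : B →ₐ[A] k ⊗[A] B).toRingHom.toAlgebra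
  { TensorProduct.comm A k B with
    map_smul' := fun b x => by
      induction x using TensorProduct.induction_on with
      | zero => simp
      | tmul y z =>
        show TensorProduct.comm A k B (((1 : k) ⊗ₜ[A] b) * (y ⊗ₜ[A] z)) = b • (z ⊗ₜ[A] y)
        rw [Algebra.TensorProduct.tmul_mul_tmul, one_mul, TensorProduct.comm_tmul, TensorProduct.smul_tmul', smul_eq_mul]
      | add y z hy hz =>
        rw [smul_add]
        exact (map_add (TensorProduct.comm A k B) _ _).trans ((congrArg₂ (· + ·) hy hz).trans
          ((smul_add b _ _).symm.trans (congrArg (b • ·) (map_add (TensorProduct.comm A k B) y z).symm))) }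


/-- Let A → B be a flat homomorphism of commutative rings and d a natural number such that for every
prime p of A, with residue field κ(p), every module over κ(p) ⊗_A B has projective dimension at most
d; assume the derived tensor products - ⊗^L M exist on D(κ(p) ⊗_A B) for all p and the derived base
changes D(B) → D(B/m) exist for all ideals m of B. Let a, b be integers and K an object of D(B)
which is pseudo-coherent over B and, with scalars restricted to A, has tor amplitude in [a, b]. Then
K is perfect over B and has tor amplitude in [a - d, b] over B. -/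
theorem result {A B : Type u} [CommRing A] [CommRing B] [Algebra A B]
    [Module.Flat A B] (d : ℕ)
    (hgl : ∀ (p : PrimeSpectrum A) (M : Type u) [AddCommGroup M]
      [Module (TensorProduct A p.asIdeal.ResidueField B) M],
      HasProjectiveDimensionLT (ModuleCat.of (TensorProduct A p.asIdeal.ResidueField B) M) (d + 1))
    [∀ (p : PrimeSpectrum A) (M : ModuleCat.{u} (TensorProduct A p.asIdeal.ResidueField B)),
      DRing.HasLTensor (TensorProduct A p.asIdeal.ResidueField B) M]
    [∀ m : Ideal B, DRing.HasLBaseChange (Ideal.Quotient.mk m)] (a b : ℤ) (K : Dual.D B)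
    (hK : DRing.IsPseudoCoherent' B K)
    (hKa : DRing.HasTorAmplitudeIn A a b ((DRing.restrictD (algebraMap A B)).obj K)) :
    DRing.IsPerfect B K ∧ DRing.HasTorAmplitudeIn B (a - d) b K := by
  obtain ⟨Q, c, hQc, hQf, ⟨eQ⟩⟩ := hK
  refine GrothLib.DR.hasTorAmplitudeIn_of_fibres K ⟨Q, c, hQc, hQf, ⟨eQ⟩⟩ (a - d) b fun P hP eP m hm i hi => ?_
  have hQflat : DRing.TermwiseFlat Q :=
    GrothLib.DR.termwiseFlat_of_projective fun j => GrothLib.DR.projective_of_finiteFree hQf j
  have hQA : DRing.TermwiseFlat ((DRing.restrictCx (algebraMap A B)).obj Q) :=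
    GrothLib.DR.termwiseFlat_restrict hQflat
  have hT : DRing.HasTorAmplitudeIn A a b (DRing.toD ((DRing.restrictCx (algebraMap A B)).obj Q)) :=
    GrothLib.DR.hasTorAmplitudeIn_of_iso
      ((DRing.restrictD (algebraMap A B)).mapIso eQ.symm ≪≫ GrothLib.DR.restrictToDIso (algebraMap A B) Q) hKa
  haveI := hm.isPrime
  let p : PrimeSpectrum A := ⟨m.comap (algebraMap A B), inferInstance⟩
  letI : Field (B ⧸ m) := Ideal.Quotient.field m
  let g : A ⧸ p.asIdeal →+* B ⧸ m := Ideal.quotientMap m (algebraMap A B) le_rfl
  let f0 : p.asIdeal.ResidueField →+* B ⧸ m := IsFractionRing.lift (g := g) Ideal.quotientMap_injective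
  let f : p.asIdeal.ResidueField →ₐ[A] B ⧸ m :=
    { f0 with
      commutes' := fun x => by
        change f0 (algebraMap A p.asIdeal.ResidueField x) = _
        rw [← Ideal.algebraMap_quotient_residueField_mk]
        exact IsFractionRing.lift_algebraMap _ (Ideal.Quotient.mk p.asIdeal x) }
  let χ : TensorProduct A p.asIdeal.ResidueField B →+* B ⧸ m :=
    (Algebra.TensorProduct.productMap f (Ideal.Quotient.mkₐ A m)).toRingHom
  have h := GrothLib.DR.exactAt_bc_of_fibre (Algebra.TensorProduct.includeRight : B →ₐ[A] TensorProduct A p.asIdeal.ResidueField B).toRingHom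
    p.asIdeal.ResidueField (fibreEquiv p.asIdeal.ResidueField) d (hgl p) χ hQc hQf (a := a) (b := b) (fun j hj =>
      (GrothLib.DR.hasTorAmplitudeIn_iff
        (fun k hk => (ModuleCat.restrictScalars (algebraMap A B)).map_isZero (hQc k hk)) hQA a b).1 hT
        p.asIdeal.ResidueField j hj) i hi
  rw [show χ.comp (Algebra.TensorProduct.includeRight : B →ₐ[A] TensorProduct A p.asIdeal.ResidueField B).toRingHom =
    Ideal.Quotient.mk m from RingHom.ext fun x => Algebra.TensorProduct.productMap_right_apply _ _ x] at h
  exact GrothLib.DR.exactAt_bc_congr (Ideal.Quotient.mk m) hP (GrothLib.KF.isKFlat_of_vanishesAbove hQc hQflat)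
    (eP.some ≪≫ eQ.symm) i h

end Groth.Agent.S7035
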