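import Groth.Statements.S0345
import Groth.Agent.Lib.Gor.Localization

set_option autoImplicit false
universe u v
open Goren

namespace Groth.Agent.S0345

/-- For a Noetherian ring A, the A-module A has finite injective dimension exactly when every
localization of A at a prime is Gorenstein and A has finite Krull dimension. -/
theorem result (A : Type u) [CommRing A] [IsNoetherianRing A] : (∃ n : ℕ, CategoryTheory.HasInjectiveDimensionLT (ModuleCat.of A A) n) ↔ (LocCoh.IsGorensteinRing A ∧ ringKrullDim A < ⊤) := by
  constructor
  · rintro ⟨n, hn⟩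
    refine ⟨{ isGorensteinLocalRing_localization := fun p _ => GrothLib.Gor.isGorensteinLocalRing_localization p hn }, ?_⟩
    refine lt_of_le_of_lt (b := ((n : ℕ∞) : WithBot ℕ∞)) ?_ (WithBot.coe_lt_coe.2 (ENat.natCast_lt_top n))
    refine iSup_le fun l => ?_
    haveI := GrothLib.Gor.isGorensteinLocalRing_localization l.last.asIdeal hn
    haveI := GrothLib.Gor.hasInjectiveDimensionLT_localizedModule l.last.asIdeal.primeCompl n _ hn
    haveI h' := CategoryTheory.hasInjectiveDimensionLT_of_iso
      (GrothLib.Gor.localizedModuleSelfIso (R := A) l.last.asIdeal.primeCompl) n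
    obtain ⟨d, hd, -, -, hne⟩ := GrothLib.Gor.exists_dim (Localization.AtPrime l.last.asIdeal)
    have hdn : d < n := by
      by_contra hle
      exact hne (GrothLib.Gor.exists_vanish h' _ d (not_lt.1 hle))
    have hl : ((l.length : ℕ∞) : WithBot ℕ∞) ≤ d := by
      rw [← hd, IsLocalization.AtPrime.ringKrullDim_eq_height l.last.asIdeal (Localization.AtPrime l.last.asIdeal),
        PrimeSpectrum.height_eq_orderHeight]
      exact WithBot.coe_le_coe.2 (Order.length_le_height_last)
    exact hl.trans (by exact_mod_cast hdn.le)
  · rintro ⟨hG, hdim⟩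
    obtain ⟨D, hD⟩ : ∃ D : ℕ, ringKrullDim A ≤ D := by
      generalize ringKrullDim A = a at hdim ⊢
      induction a with
      | bot => exact ⟨0, bot_le⟩
      | coe a =>
        obtain ⟨k, rfl⟩ := ENat.ne_top_iff_exists.1 (WithBot.coe_lt_coe.1 hdim).ne
        exact ⟨k, le_rfl⟩
    refine ⟨D + 1, GrothLib.Gor.hasInjectiveDimensionLT_of_localization_maximal D _ fun m => ?_⟩
    haveI := hG.isGorensteinLocalRing_localization m.asIdeal
    obtain ⟨d, hd, -, hE, -⟩ := GrothLib.Gor.exists_dim (Localization.AtPrime m.asIdeal)
    have hdD : d ≤ D := by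
      have h1 := ((IsLocalization.AtPrime.ringKrullDim_eq_height m.asIdeal (Localization.AtPrime m.asIdeal)).le.trans
      (Ideal.height_le_ringKrullDim_of_ne_top m.isMaximal.ne_top)).trans hD
      rw [hd] at h1
      exact_mod_cast h1
    haveI := GrothLib.Gor.hasInjectiveDimensionLT_of_residue
      (ModuleCat.of (Localization.AtPrime m.asIdeal) (Localization.AtPrime m.asIdeal)) (N := D)
      fun i hi => hE i (by omega)
    exact CategoryTheory.hasInjectiveDimensionLT_of_iso (GrothLib.Gor.localizedModuleSelfIso m.asIdeal.primeCompl).symm (D + 1)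

end Groth.Agent.S0345
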