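import Groth.Statements.S4490
import Groth.Agent.Lib.FlatCx.Local
import Groth.Agent.Lib.Flatness.InjMod
import Mathlib.RingTheory.Filtration

set_option autoImplicit false
universe u
open FlatCx

namespace Groth.Agent.S4490

open CategoryTheory CategoryTheory.Limits in
/-- The case of the functor T_p(M) = H_p(P ⊗_A M) of a chain complex P of finitely generated flat
modules over a Noetherian local ring A with maximal ideal m and residue field k. Then T_p takes
surjections to surjections if and only if the map T_p(A) → T_p(k) induced by A → k is surjective;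
and also if and only if, for all sufficiently large n (there is n₀ such that for every n ≥ n₀), the
map T_p(A/m^(n+1)) → T_p(A/m) induced by the projection is surjective. (Surjectivity at one n gives
it at every smaller n, so this is the same as asking it for every n; at n = 0 alone the map is an
isomorphism and the condition would be empty.) -/
theorem result {A : Type u} [CommRing A] [IsNoetherianRing A]
    [IsLocalRing A] (P : ChainComplex (ModuleCat.{u} A) ℤ)
    (hP : ∀ i, Module.Finite A (P.X i) ∧ Module.Flat A (P.X i)) (p : ℤ) :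
    ((CohIII.TFun P p).PreservesEpimorphisms ↔
      Function.Surjective ((CohIII.TFun P p).map
        (ModuleCat.ofHom (Algebra.linearMap A (IsLocalRing.ResidueField A)))).hom) ∧
    ((CohIII.TFun P p).PreservesEpimorphisms ↔
      ∃ n₀ : ℕ, ∀ n : ℕ, n₀ ≤ n → Function.Surjective ((CohIII.TFun P p).map (ModuleCat.ofHom
        (Ideal.Quotient.factorₐ A (Ideal.pow_le_self (I := IsLocalRing.maximalIdeal A)
          (Nat.succ_ne_zero n))).toLinearMap :
        ModuleCat.of A (A ⧸ IsLocalRing.maximalIdeal A ^ (n + 1)) ⟶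
          ModuleCat.of A (A ⧸ IsLocalRing.maximalIdeal A))).hom) := by
  haveI : ∀ i, Module.Flat A (P.X i) := fun i => (hP i).2
  haveI : ∀ i, Module.Finite A (P.X i) := fun i => (hP i).1
  have h1 := GrothLib.FlatCx.preservesEpi_iff_surjective_resMap P p
  refine ⟨h1, fun h => ⟨0, fun n _ => ?_⟩, fun ⟨n₀, hn⟩ => h1.2 ?_⟩
  · exact (GrothLib.FlatCx.preservesEpi_iff_surjective _).1 h _ _ _
      (Ideal.Quotient.factor_surjective (Ideal.pow_le_self (Nat.succ_ne_zero n)))
  set m := IsLocalRing.maximalIdeal A
  set d := (P.d p ((ComplexShape.down ℤ).next p)).hom with hd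
  set N := LinearMap.range d
  obtain ⟨k, hk⟩ := Ideal.exists_pow_inf_eq_pow_smul m N
  let n := n₀ + k + 1
  let g : ModuleCat.of A (A ⧸ m ^ (n + 1)) ⟶ ModuleCat.of A (A ⧸ m) := ModuleCat.ofHom
    (Ideal.Quotient.factorₐ A (Ideal.pow_le_self (I := m) (Nat.succ_ne_zero n))).toLinearMap
  rw [GrothLib.FlatCx.surjective_map_iff P p]
  intro z hz
  obtain ⟨y, hy, v, hv⟩ := (GrothLib.FlatCx.surjective_map_iff P p g).1
    (hn n (by omega)) z hz
  let π : A →ₗ[A] A ⧸ m ^ (n + 1) := Submodule.mkQ (m ^ (n + 1))
  obtain ⟨w, rfl⟩ := LinearMap.lTensor_surjective (P.X p)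
    (g := π) (Submodule.mkQ_surjective _) y
  have h2 : π.lTensor _ (GrothLib.FlatCx.dT P p ((ComplexShape.down ℤ).next p) A w) = 0 := by
    rw [GrothLib.FlatCx.rTensor_lTensor_comm]; exact hy
  obtain ⟨t, ht⟩ := (lTensor_exact (P.X ((ComplexShape.down ℤ).next p))
    (f := Submodule.subtype (m ^ (n + 1))) (g := π) (LinearMap.exact_subtype_mkQ _)
    (Submodule.mkQ_surjective _) _).1 h2
  have hrid : ∀ u : TensorProduct A (P.X p) A,
      TensorProduct.rid A _ (GrothLib.FlatCx.dT P p ((ComplexShape.down ℤ).next p) A u) =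
        d (TensorProduct.rid A _ u) := fun u => by
    induction u using TensorProduct.induction_on with
    | zero => simp
    | tmul a b =>
      show b • d a = d (b • a)
      rw [map_smul]
    | add a b ha hb => simp only [map_add, ha, hb]
  have h3 : d (TensorProduct.rid A _ w) ∈ m ^ (n + 1) • (⊤ : Submodule A _) ⊓ N := by
    refine ⟨?_, LinearMap.mem_range_self _ _⟩
    rw [← hrid, ← ht]
    exact GrothLib.Flatness.rid_lTensor_mem _ t
  rw [hk (n + 1) (by omega)] at h3
  have hle : m ^ (n + 1 - k) • (m ^ k • (⊤ : Submodule A (P.X ((ComplexShape.down ℤ).next p))) ⊓ N) ≤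
      m • N :=
    Submodule.smul_mono (Ideal.pow_le_self (by omega : n + 1 - k ≠ 0)) inf_le_right
  have h4 : d (TensorProduct.rid A _ w) ∈ m • N := hle h3
  have h5 : m • N = Submodule.map d (m • (⊤ : Submodule A (P.X p))) := by
    rw [Submodule.map_smul'', Submodule.map_top]
  rw [h5] at h4
  obtain ⟨u, hu, hdu⟩ := h4
  obtain ⟨u', hu'⟩ := GrothLib.Flatness.exists_rid_lTensor_eq m hu
  refine ⟨w - (Submodule.subtype m).lTensor (P.X p) u', ?_, ⟨v, ?_⟩⟩
  · apply (TensorProduct.rid A _).injective
    rw [map_zero, hrid, map_sub, hu', map_sub, hdu, sub_self]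
  · have e1 : (GrothLib.FlatCx.resMap (A := A)).hom.lTensor (P.X p)
        ((Submodule.subtype m).lTensor (P.X p) u') = 0 := by
      rw [← LinearMap.lTensor_comp_apply]
      have : (GrothLib.FlatCx.resMap (A := A)).hom ∘ₗ Submodule.subtype m = 0 :=
        LinearMap.ext fun x => (IsLocalRing.residue_eq_zero_iff x.1).2 x.2
      rw [this, LinearMap.lTensor_zero, LinearMap.zero_apply]
    have e2 : g.hom.lTensor (P.X p) (π.lTensor (P.X p) w) =
        (GrothLib.FlatCx.resMap (A := A)).hom.lTensor (P.X p) w := by
      rw [← LinearMap.lTensor_comp_apply]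
      rfl
    refine hv.trans (congrArg (fun q => q - z) ?_)
    refine e2.trans ((sub_zero _).symm.trans ?_)
    refine Eq.trans ?_ (map_sub _ _ _).symm
    exact congrArg _ e1.symm

end Groth.Agent.S4490
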