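import Groth.Statements.S18708
import Mathlib
import Groth.Agent.Lib.FlatOff.FourTerm
-- import your own Groth.Agent.* helpers here

set_option autoImplicit false
universe u
open QGor

namespace Groth.Agent.S18708

/-- Affine-local form at a point of the equivalence (b) ⇔ (c) ⇔ (b″) and of the note after it. Let A → B
be a local homomorphism of Noetherian local rings, m the maximal ideal of A, J an ideal of B and 0 →
F → E⁰ → E¹ → G → 0 an exact sequence of finite B-modules with E⁰, E¹ flat over A, G_q flat over A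
for every prime q not containing J, depth_J (E⁰/mE⁰) ≥ 2 and depth_J (E¹/mE¹) ≥ 1. Then depth_J
(F/mF) ≥ 2 (the restriction map of the closed fibre of F off V(J) is bijective) if and only if G is
flat over A, if and only if depth_J (F/m^(n+1)F) ≥ 2 for all n; and when G is flat over A so is F. -/
theorem result (A B : Type u) [CommRing A] [CommRing B]
    [IsNoetherianRing A] [IsNoetherianRing B] [IsLocalRing A] [IsLocalRing B] [Algebra A B]
    [IsLocalHom (algebraMap A B)] (J : Ideal B)
    (F E0 E1 G : Type u) [AddCommGroup F] [Module B F] [Module A F] [IsScalarTower A B F] [Module.Finite B F]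
    [AddCommGroup E0] [Module B E0] [Module A E0] [IsScalarTower A B E0] [Module.Finite B E0] [Module.Flat A E0]
    [AddCommGroup E1] [Module B E1] [Module A E1] [IsScalarTower A B E1] [Module.Finite B E1] [Module.Flat A E1]
    [AddCommGroup G] [Module B G] [Module A G] [IsScalarTower A B G] [Module.Finite B G]
    (f : F →ₗ[B] E0) (u : E0 →ₗ[B] E1) (v : E1 →ₗ[B] G)
    (hf : Function.Injective f) (hfu : Function.Exact f u) (huv : Function.Exact u v) (hv : Function.Surjective v)
    (hGU : ∀ q : PrimeSpectrum B, ¬ J ≤ q.asIdeal → FlatCA.FlatAt A q.asIdeal G)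
    (h0 : 2 ≤ LocCoh.idealDepth J (EGA4.FibMod A B E0)) (h1 : 1 ≤ LocCoh.idealDepth J (EGA4.FibMod A B E1)) :
    (2 ≤ LocCoh.idealDepth J (EGA4.FibMod A B F) ↔ Module.Flat A G) ∧
    (Module.Flat A G ↔ ∀ n : ℕ, 2 ≤ LocCoh.idealDepth J (F ⧸ ((EGA4.mB A B) ^ (n + 1) • (⊤ : Submodule B F)))) ∧
    (Module.Flat A G → Module.Flat A F) := by
  let K := LinearMap.range u
  let u' : E0 →ₗ[B] K := u.rangeRestrict
  let i : K →ₗ[B] E1 := K.subtype
  have hu' : Function.Surjective u' := LinearMap.surjective_rangeRestrict u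
  have hi : Function.Injective i := K.injective_subtype
  have hfu' : Function.Exact f u' := fun z => by
    rw [← hfu z]
    exact Subtype.ext_iff
  have hiv : Function.Exact i v := fun z => by
    rw [huv z]
    exact ⟨fun ⟨a, ha⟩ => ⟨⟨z, ⟨a, ha⟩⟩, rfl⟩, fun ⟨⟨w, a, ha⟩, hw⟩ => ⟨a, ha.trans hw⟩⟩
  have hE1 : ∀ q : PrimeSpectrum B, FlatCA.FlatAt A q.asIdeal E1 := fun q =>
    GrothLib.FlatModel.flat_localizedModule (Ideal.primeCompl q.asIdeal)
  have hE0 : ∀ q : PrimeSpectrum B, FlatCA.FlatAt A q.asIdeal E0 := fun q =>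
    GrothLib.FlatModel.flat_localizedModule (Ideal.primeCompl q.asIdeal)
  have hKU : ∀ q : PrimeSpectrum B, ¬ J ≤ q.asIdeal → FlatCA.FlatAt A q.asIdeal K := fun q hq =>
    GrothLib.FlatOff.flatAt_left i v hi hv hiv q.asIdeal (hE1 q) (hGU q hq)
  have hFU : ∀ q : PrimeSpectrum B, ¬ J ≤ q.asIdeal → FlatCA.FlatAt A q.asIdeal F := fun q hq =>
    GrothLib.FlatOff.flatAt_left f u' hf hu' hfu' q.asIdeal (hE0 q) (hKU q hq)
  have fwd : Module.Flat A G → Module.Flat A F ∧ 2 ≤ LocCoh.idealDepth J (EGA4.FibMod A B F) := by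
    intro hG
    haveI : Module.Flat A K := GrothLib.FlatOff.flat_left i v hi hv hiv
    refine ⟨GrothLib.FlatOff.flat_left f u' hf hu' hfu', ?_⟩
    have hK : ((0 + 1 : ℕ) : ℕ∞) ≤ LocCoh.idealDepth J (EGA4.FibMod A B K) :=
      GrothLib.FlatOff.le_depth_fib_left J i v hv hiv
        (GrothLib.FlatOff.injective_rTensor_of_flat i v hi hv hiv _) 0 h1 zero_le
    exact GrothLib.FlatOff.le_depth_fib_left J f u' hu' hfu'
      (GrothLib.FlatOff.injective_rTensor_of_flat f u' hf hu' hfu' _) 1 h0 hK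
  have bwd : 2 ≤ LocCoh.idealDepth J (EGA4.FibMod A B F) → Module.Flat A G := by
    intro hF
    have hinjF := GrothLib.FlatOff.injective_tensor_k_of_flatOff J f u' hf hu' hfu' hKU
      (le_trans one_le_two hF)
    have hK : ((1 : ℕ) : ℕ∞) ≤ LocCoh.idealDepth J (EGA4.FibMod A B K) :=
      GrothLib.FlatOff.le_depth_fib_right J f u' hu' hfu' hinjF 1 hF (le_trans one_le_two h0)
    haveI : Module.Flat A K := GrothLib.FlatOff.flat J hKU (GrothLib.FlatOff.tf_of_idealDepth hK)
    exact GrothLib.FlatOff.flat_right i v hv hiv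
      (GrothLib.FlatOff.injective_tensor_k_of_flatOff J i v hi hv hiv hGU hK)
  refine ⟨⟨bwd, fun hG => (fwd hG).2⟩, ⟨fun hG n => ?_, fun h => bwd ?_⟩, fun hG => (fwd hG).1⟩
  · haveI := (fwd hG).1
    exact GrothLib.FlatOff.le_idealDepth_quot_pow J 2 (fwd hG).2 n
  · have h0' := h 0
    rwa [zero_add, pow_one] at h0'

end Groth.Agent.S18708
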