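import Groth.Statements.S18726
import Groth.Agent.S18708
import Groth.Agent.Lib.FlatOff.DepthThree
-- import your own Groth.Agent.* helpers here

set_option autoImplicit false
universe u
open QGor

namespace Groth.Agent.S18726

/-- Affine-local form at a point. Let A → B be a local homomorphism of Noetherian local rings, m the
maximal ideal of A, J an ideal of B, and 0 → F → E⁰ → E¹ → G → 0 an exact sequence of finite
B-modules with E⁰, E¹ flat over A, G_q flat over A for every prime q not containing J, depth_J
(E⁰/mE⁰) ≥ 2 and depth_J (E¹/mE¹) ≥ 1. Assume H²_J(F/mF) = 0; since under these hypotheses the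
module of sections of F/mF off V(J) is finite and its J-depth is ≥ 3 exactly when H²_J(F/mF)
vanishes, this is the condition that that module of sections has J-depth ≥ 3. Then F and G are flat
over A, and depth_J (F/mF) ≥ 2 (the restriction map of the closed fibre of F off V(J) is bijective). -/
theorem result (A B : Type u) [CommRing A] [CommRing B]
    [IsNoetherianRing A] [IsNoetherianRing B] [IsLocalRing A] [IsLocalRing B] [Algebra A B]
    [IsLocalHom (algebraMap A B)] (J : Ideal B)
    (F E0 E1 G : Type u) [AddCommGroup F] [Module B F] [Module A F] [IsScalarTower A B F] [Module.Finite B F]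
    [AddCommGroup E0] [Module B E0] [Module A E0] [IsScalarTower A B E0] [Module.Finite B E0] [Module.Flat A E0]
    [AddCommGroup E1] [Module B E1] [Module A E1] [IsScalarTower A B E1] [Module.Finite B E1] [Module.Flat A E1]
    [AddCommGroup G] [Module B G] [Module A G] [IsScalarTower A B G] [Module.Finite B G]
    (f : F →ₗ[B] E0) (u : E0 →ₗ[B] E1) (v : E1 →ₗ[B] G)
    (hf : Function.Injective f) (hfu : Function.Exact f u) (huv : Function.Exact u v) (hv : Function.Surjective v)
    (hGU : ∀ q : PrimeSpectrum B, ¬ J ≤ q.asIdeal → FlatCA.FlatAt A q.asIdeal G)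
    (h0 : 2 ≤ LocCoh.idealDepth J (EGA4.FibMod A B E0)) (h1 : 1 ≤ LocCoh.idealDepth J (EGA4.FibMod A B E1))
    (hH2 : Subsingleton (LocCoh.H J 2 (EGA4.FibMod A B F))) :
    Module.Flat A F ∧ Module.Flat A G ∧ 2 ≤ LocCoh.idealDepth J (EGA4.FibMod A B F) := by
  haveI : Module.Flat A G := GrothLib.FlatOff.flat J hGU (GrothLib.FlatOff.tf_of_idealDepth
    (GrothLib.FlatOff.one_le_depth_coker_fib J f u v hf hfu huv hv hGU h0 h1 hH2))
  obtain ⟨h₁, -, h₃⟩ := Groth.Agent.S18708.result A B J F E0 E1 G f u v hf hfu huv hv hGU h0 h1
  exact ⟨h₃ inferInstance, inferInstance, h₁.2 inferInstance⟩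

end Groth.Agent.S18726
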