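import Groth.Statements.S12935
import Mathlib

set_option autoImplicit false
universe u v
open InvTh

namespace Groth.Agent.S12935

/-- Let `B` be a commutative ring with an action of a finite group `Γ` by ring automorphisms, `Ω` a
normal subgroup of `Γ`, `B^Ω` the subring of `Ω`-invariants (stable under `Γ`, with the induced
action of `Γ/Ω`), and `P` a prime ideal of `B`. Then (decomposition groups) an element `γ` maps `P ∩
B^Ω` onto itself if and only if `γω` maps `P` onto itself for some `ω ∈ Ω`; and (inertia groups) `γ`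
fixes `B^Ω` modulo `P ∩ B^Ω` if and only if `γω` fixes `B` modulo `P` for some `ω ∈ Ω`. In other
words the decomposition and inertia groups of `P ∩ B^Ω` under `Γ/Ω` are the images of those of `P`.
(The published statement also asserts the same for the ramification groups, the Sylow subgroups of
the inertia groups at the residue characteristic; that clause is not included here.) -/
theorem result
    (B : Type u) [CommRing B] (Γ : Type v) [Group Γ] [Finite Γ] [MulSemiringAction Γ B]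
    (Ω : Subgroup Γ) [Ω.Normal] (P : Ideal B) [P.IsPrime] (γ : Γ) :
    ((∀ x : B, (∀ ω ∈ Ω, ω • x = x) → (x ∈ P ↔ γ • x ∈ P)) ↔
        ∃ ω ∈ Ω, ∀ x : B, x ∈ P ↔ (γ * ω) • x ∈ P) ∧
      ((∀ x : B, (∀ ω ∈ Ω, ω • x = x) → γ • x - x ∈ P) ↔
        ∃ ω ∈ Ω, ∀ x : B, (γ * ω) • x - x ∈ P) := by
  classical
  cases nonempty_fintype Γ
  set A := FixedPoints.subring B Ω with hA
  have hinvA : Algebra.IsInvariant A B Ω := ⟨fun b hb => ⟨⟨b, fun g => hb g⟩, rfl⟩⟩
  have hcomm : SMulCommClass Ω A B := ⟨fun g a b => by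
    show g • ((a : B) * b) = (a : B) * g • b
    rw [smul_mul', a.2 g]⟩
  have hA' : ∀ a : A, ∀ ω ∈ Ω, ω • (a : B) = a := fun a ω hω => a.2 ⟨ω, hω⟩
  let Q : Ideal B := P.comap (MulSemiringAction.toRingHom Γ B γ)
  have hQ : ∀ y, y ∈ Q ↔ γ • y ∈ P := fun y => Iff.rfl
  have hdec : (∀ x : B, (∀ ω ∈ Ω, ω • x = x) → (x ∈ P ↔ γ • x ∈ P)) →
      ∃ ω ∈ Ω, ∀ x : B, x ∈ P ↔ (γ * ω) • x ∈ P := by
    intro h
    obtain ⟨g, hg⟩ := Algebra.IsInvariant.exists_smul_of_under_eq A B Ω P Q (by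
      ext a
      exact h a (hA' a))
    refine ⟨(g : Γ), g.2, fun x => ?_⟩
    rw [mul_smul, ← hQ, hg]
    exact (Ideal.smul_mem_pointwise_smul_iff (a := g) (S := P)).symm
  refine ⟨⟨hdec, ?_⟩, ?_, ?_⟩
  · rintro ⟨ω, hω, h⟩ x hx
    rw [h x, mul_smul, hx ω hω]
  · intro h
    obtain ⟨ω, hω, hω'⟩ := hdec fun x hx => by
      constructor
      · intro hxP; simpa using P.add_mem (h x hx) hxP
      · intro hxP; simpa using P.sub_mem hxP (h x hx)
    have hle : P ≤ P.comap (MulSemiringAction.toRingHom Γ B (γ * ω)) := fun x hx => (hω' x).1 hx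
    let φ : B ⧸ P →+* B ⧸ P := Ideal.quotientMap P (MulSemiringAction.toRingHom Γ B (γ * ω)) hle
    have hφ : ∀ x, φ (Ideal.Quotient.mk P x) = Ideal.Quotient.mk P ((γ * ω) • x) := fun x =>
      Ideal.quotientMap_mk
    have hbij : Function.Bijective φ := by
      refine ⟨fun a b hab => ?_, fun a => ?_⟩
      · obtain ⟨a, rfl⟩ := Ideal.Quotient.mk_surjective a
        obtain ⟨b, rfl⟩ := Ideal.Quotient.mk_surjective b
        rw [hφ, hφ, Ideal.Quotient.eq, ← smul_sub, ← hω'] at hab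
        exact Ideal.Quotient.eq.2 hab
      · obtain ⟨a, rfl⟩ := Ideal.Quotient.mk_surjective a
        exact ⟨Ideal.Quotient.mk P ((γ * ω)⁻¹ • a), by rw [hφ, smul_inv_smul]⟩
    let p₀ : Ideal A := P.under A
    let σ : (B ⧸ P) ≃ₐ[A ⧸ p₀] (B ⧸ P) :=
      AlgEquiv.ofRingEquiv (f := RingEquiv.ofBijective φ hbij) fun a => by
        obtain ⟨a, rfl⟩ := Ideal.Quotient.mk_surjective a
        show φ (Ideal.Quotient.mk P (a : B)) = Ideal.Quotient.mk P (a : B)
        rw [hφ, mul_smul, hA' a ω hω, Ideal.Quotient.eq]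
        exact h a (hA' a)
    obtain ⟨g, hg⟩ := Ideal.Quotient.stabilizerHom_surjective Ω p₀ P σ
    refine ⟨ω * ((g : Ω) : Γ)⁻¹, Ω.mul_mem hω (Ω.inv_mem g.1.2), fun x => ?_⟩
    have h2 := AlgEquiv.congr_fun hg (Ideal.Quotient.mk P (((g : Ω) : Γ)⁻¹ • x))
    have h3 : Ideal.Quotient.mk P (((g : Ω) : Γ) • ((g : Ω) : Γ)⁻¹ • x) =
        φ (Ideal.Quotient.mk P (((g : Ω) : Γ)⁻¹ • x)) := h2
    rw [hφ, smul_inv_smul, Ideal.Quotient.eq] at h3
    rw [← mul_assoc, mul_smul, ← neg_sub]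
    exact neg_mem h3
  · rintro ⟨ω, hω, h⟩ x hx
    simpa [mul_smul, hx ω hω] using h x

end Groth.Agent.S12935
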