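import Groth.Statements.S4564
import Groth.Agent.Lib.N2.Completion
import Groth.Agent.Lib.Cohen.NagataMain
import Groth.Agent.Lib.WildQuot.LiftAut
import Groth.Agent.Lib.AdicExtra.FiniteAlg
-- import your own Groth.Agent.* helpers here

set_option autoImplicit false
universe u
open CAlg

namespace Groth.Agent.S4564

/-- Let A be a complete Noetherian local domain with fraction field K and K' a finite extension of K.
Then the integral closure of A in K' is a local ring, complete for the adic topology of its maximal
ideal. -/
theorem result {A K' : Type u} [CommRing A]
    [IsDomain A] [IsLocalRing A] [IsNoetherianRing A] [IsAdicComplete (IsLocalRing.maximalIdeal A) A]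
    [Field K'] [Algebra A K'] [Algebra (FractionRing A) K'] [IsScalarTower A (FractionRing A) K']
    [FiniteDimensional (FractionRing A) K'] :
    ∃ _ : IsLocalRing (integralClosure A K'),
      IsAdicComplete (IsLocalRing.maximalIdeal (integralClosure A K')) (integralClosure A K') := by
  classical
  haveI : Algebra.EssFiniteType A (FractionRing A) :=
    Algebra.EssFiniteType.of_isLocalization _ (nonZeroDivisors A)
  haveI : Algebra.EssFiniteType A K' := Algebra.EssFiniteType.comp A (FractionRing A) K'
  haveI : IsReduced (TensorProduct A A K') :=
    isReduced_of_injective _ (Algebra.TensorProduct.lid A K').injective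
  haveI : Module.Finite A (integralClosure A K') :=
    GrothLib.N2.finite_integralClosure_of_faithfullyFlat (B := A)
      (GrothLib.Cohen.isNagata_of_isAdicComplete A)
  haveI : IsNoetherianRing (integralClosure A K') := IsNoetherianRing.of_finite A _
  haveI : HenselianLocalRing A := GrothLib.Hensel.henselianLocalRing_of_henselianRing inferInstance
  haveI h : IsLocalRing (integralClosure A K') :=
    GrothLib.WildQuot.LiftAut.isLocalRing_of_finite_domain A (integralClosure A K')
  exact ⟨h, GrothLib.AdicExtra.isAdicComplete_localRing (R := A)⟩

end Groth.Agent.S4564
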