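import Groth.Statements.S7589
import Groth.Agent.S1621
import Groth.Agent.Lib.AlgSp.FibreDimBC
import Groth.Agent.Lib.CMMor6.Algebra
import Groth.Agent.Lib.AlgMisc.SmoothRank

set_option autoImplicit false
set_option backward.isDefEq.respectTransparency false
universe u
open CategoryTheory CategoryTheory.Limits AlgebraicGeometry
attribute [local instance] Curv2.stalkAlgebra Curv2.resAlgebra
open Variety
open Groth.Agent.Lib.AlgMisc

namespace Groth.Agent.S7589

/-- Let X be locally of finite type over a field k, K an extension field of k, y a point of the base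
change X_K and x its image in X; write a = trdeg_k κ(x) and a' = trdeg_K κ(y). Then dim O_{X_K, y} +
a' = dim O_{X, x} + a, and the fibre ring O_{X_K, y} / m_x O_{X_K, y} has Krull dimension a - a' (in
particular a' ≤ a); dimensions in WithBot ℕ∞. -/
theorem result (k : Type u) [Field k] (X : Scheme.{u}) [X.Over (Spec (CommRingCat.of k))] [LocallyOfFiniteType (X ↘ (Spec (CommRingCat.of k)))]
    (K : Type u) [Field K] [Algebra k K] (y : ↥(Curv2.bc k X K)) (a a' : ℕ)
    (ha : Algebra.trdeg k (X.residueField (Curv2.bcFst k X K y)) = a)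
    (ha' : letI : (Curv2.bc k X K).Over (Spec (CommRingCat.of K)) := ⟨Curv2.bcSnd k X K⟩
      Algebra.trdeg K ((Curv2.bc k X K).residueField y) = a') :
    ringKrullDim ((Curv2.bc k X K).presheaf.stalk y) + (a' : WithBot ℕ∞) =
        ringKrullDim (X.presheaf.stalk (Curv2.bcFst k X K y)) + (a : WithBot ℕ∞) ∧
      ringKrullDim (↥((Curv2.bc k X K).presheaf.stalk y) ⧸ Ideal.map ((Curv2.bcFst k X K).stalkMap y).hom (IsLocalRing.maximalIdeal ↥(X.presheaf.stalk (Curv2.bcFst k X K y)))) + (a' : WithBot ℕ∞) =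
        (a : WithBot ℕ∞) := by
  let X' := Curv2.bc k X K
  letI : X'.Over (Spec (CommRingCat.of K)) := ⟨Curv2.bcSnd k X K⟩
  let x := Curv2.bcFst k X K y
  haveI hft : LocallyOfFiniteType (X' ↘ Spec (CommRingCat.of K)) :=
    inferInstanceAs (LocallyOfFiniteType (pullback.snd (X ↘ Spec (CommRingCat.of k)) (Spec.map (CommRingCat.ofHom (algebraMap k K)))))
  haveI : IsLocallyNoetherian X := LocallyOfFiniteType.isLocallyNoetherian (X ↘ Spec (CommRingCat.of k))
  haveI : IsLocallyNoetherian X' := LocallyOfFiniteType.isLocallyNoetherian (X' ↘ Spec (CommRingCat.of K))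
  haveI : Flat (Curv2.bcFst k X K) :=
    MorphismProperty.pullback_fst _ _ (GrothLib.AlgSp.flat_to_field (Spec.map (CommRingCat.ofHom (algebraMap k K))))
  obtain ⟨bX, hbX⟩ := SmoothRank.exists_dim_eq_nat (X.presheaf.stalk x)
  obtain ⟨bY, hbY⟩ := SmoothRank.exists_dim_eq_nat (X'.presheaf.stalk y)
  have h1 := Groth.Agent.S1621.result k X x a bX ha hbX
  have h2 := Groth.Agent.S1621.result K X' y a' bY ha' hbY
  have h3 : FlatMor.localDim X' y = FlatMor.localDim X x :=
    GrothLib.AlgSp.localDim_of_field_bc (X ↘ Spec (CommRingCat.of k)) (IsPullback.of_hasPullback _ _) y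
  rw [h1, h2] at h3
  replace h3 : a' + bY = a + bX := by exact_mod_cast h3
  letI := ((Curv2.bcFst k X K).stalkMap y).hom.toAlgebra
  haveI : IsLocalHom (algebraMap (X.presheaf.stalk x) (X'.presheaf.stalk y)) :=
    inferInstanceAs (IsLocalHom ((Curv2.bcFst k X K).stalkMap y).hom)
  haveI : Module.Flat (X.presheaf.stalk x) (X'.presheaf.stalk y) := Flat.stalkMap (Curv2.bcFst k X K) y
  have h4 := GrothLib.CMMor6.ringKrullDim_eq_add (A := X.presheaf.stalk x) (B := X'.presheaf.stalk y)
  rw [hbX, hbY] at h4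
  show ringKrullDim (X'.presheaf.stalk y) + _ = ringKrullDim (X.presheaf.stalk x) + _ ∧ _
  rw [hbX, hbY]
  refine ⟨by exact_mod_cast (by omega : bY + a' = bX + a), ?_⟩
  revert h4
  show _ = _ + ringKrullDim _ → _
  generalize hq : ringKrullDim (X'.presheaf.stalk y ⧸ (IsLocalRing.maximalIdeal (X.presheaf.stalk x)).map (algebraMap (X.presheaf.stalk x) (X'.presheaf.stalk y))) = q
  intro h4
  cases q with
  | bot => simp at h4
  | coe q =>
    cases q with
    | top =>
      exfalso
      rw [show (bX : WithBot ℕ∞) = ((bX : ℕ∞) : WithBot ℕ∞) from rfl, show (bY : WithBot ℕ∞) = ((bY : ℕ∞) : WithBot ℕ∞) from rfl, ← WithBot.coe_add, WithBot.coe_inj] at h4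
      simp at h4
    | coe q =>
      have : bY = bX + q := by exact_mod_cast h4
      exact_mod_cast (by omega : q + a' = a)

end Groth.Agent.S7589
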