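import Groth.Statements.S1062
import Groth.Agent.Lib.OX.QCohTensor

set_option autoImplicit false
universe u
open CategoryTheory CategoryTheory.Limits AlgebraicGeometry Opposite
attribute [local instance] HasDerivedCategory.standard
open Perf

namespace Groth.Agent.S1062

/-- Let X be a scheme, E ∈ D(O_X) with quasi-coherent cohomology sheaves and F a cochain complex of
O_X-modules whose image in D(O_X) has quasi-coherent cohomology sheaves. Assuming the derived
functor - ⊗^L F exists, E ⊗^L_{O_X} F has quasi-coherent cohomology sheaves. -/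
theorem result (X : Scheme.{u}) (F : CochainComplex X.Modules ℤ) (hF : DCoh.IsQCohD (DCoh.toD X F)) [DCoh.HasLTensorCx F]
    (E : DCoh.D X) (hE : DCoh.IsQCohD E) : DCoh.IsQCohD ((DCoh.LTensorCx F).obj E) := by
  obtain ⟨P, hP, ⟨e⟩⟩ := GrothLib.OX.exists_kflat_rep E
  obtain ⟨L, q, hL, -, hq, -⟩ := GrothLib.OX.exists_kflat_resolution F
  obtain ⟨v⟩ := GrothLib.OX.ltensorCx_value F P hP
  have := GrothLib.OX.quasiIso_tensor_map_of_isKFlat q P hP
  intro i
  exact GrothLib.OX.isQCoh_of_iso (isoOfQuasiIsoAt (((DCoh.tensorCx (X := X)).obj P).map q) i ≪≫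
      (GrothLib.OX.hdIso _ i).symm ≪≫
      (DerivedCategory.homologyFunctor _ i).mapIso (v.symm ≪≫ (DCoh.LTensorCx F).mapIso e))
    (GrothLib.OX.isQCoh_homology_tensorCx hP hL
      (fun j => GrothLib.OX.isQCoh_of_iso ((DerivedCategory.homologyFunctor _ j).mapIso e.symm ≪≫ GrothLib.OX.hdIso P j) (hE j))
      (fun j => GrothLib.OX.isQCoh_of_iso ((GrothLib.OX.hdIso F j) ≪≫ (isoOfQuasiIsoAt q j).symm) (hF j)) i)

end Groth.Agent.S1062
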