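import Groth.Statements.S1119
import Groth.Agent.S1103
import Groth.Agent.S1062
import Groth.Agent.S7240
import Groth.Agent.Lib.OX.GeneratorBound
import Groth.Agent.Lib.OX.HomAmplitude
import Groth.Agent.Lib.OX.PerfectEnvelope
import Groth.Agent.Lib.OX.AffineReflect
-- import your own Groth.Agent.* helpers here

set_option autoImplicit false
universe u
open CategoryTheory CategoryTheory.Limits AlgebraicGeometry Opposite
attribute [local instance] HasDerivedCategory.standard
open Perf

namespace Groth.Agent.S1119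

open GrothLib.OX in
/-- A bound on direct images of objects bounded above with quasi-coherent cohomology. -/
theorem exists_bound_rres {X S : Scheme.{u}} (f : X ⟶ S) [QuasiCompact f] [QuasiSeparated f] [CompactSpace ↥S] :
    ∃ N : ℤ, ∀ (E : DCoh.D X) (c : ℤ), DCoh.IsQCohD E → E.IsLE c →
      ((GrothLib.SiteDer.Rres (rmor f)).obj E).IsLE (c + N) := by
  obtain ⟨N, hN⟩ := exists_bound_Rres f
  refine ⟨N, fun E c hq hE => (DerivedCategory.isLE_iff _ _).2 fun i hi => ?_⟩
  have hle : (E⟦c⟧).IsLE 0 := (DerivedCategory.isLE_iff _ _).2 fun j hj =>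
    (DerivedCategory.isZero_of_isLE E c (c + j) (by omega)).of_iso (HDShiftIso E c j _ rfl)
  refine (hN _ (isQCohD_shift hq c) hle (i - c) (by omega)).of_iso ?_
  exact (HDShiftIso ((GrothLib.SiteDer.Rres (rmor f)).obj E) c (i - c) i (by omega)).symm ≪≫
    (DerivedCategory.homologyFunctor S.Modules (i - c)).mapIso (((GrothLib.SiteDer.Rres (rmor f)).commShiftIso c).app E).symm

/-- Let A be a ring, π : X ⟶ Spec A with X quasi-compact and quasi-separated, and K a cochain complex of
O_X-modules whose image in D(O_X) is bounded above with quasi-coherent cohomology sheaves. Assuming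
Rπ_* and - ⊗^L K exist: if Rπ_*(E ⊗^L K) is pseudo-coherent on Spec A for every perfect E ∈ D(O_X),
then Rπ_*(E ⊗^L K) is pseudo-coherent for every pseudo-coherent E ∈ D(O_X). (The source phrases the
condition with RΓ(X, -) valued in D(A); on the affine base the two formulations correspond under
D(A) ≃ D_QCoh(Spec A).) -/
theorem result (A : Type u) [CommRing A] (X : Scheme.{u}) [CompactSpace ↥X] [QuasiSeparatedSpace ↥X]
    (π : X ⟶ Spec (CommRingCat.of A)) [DCoh.HasRpush π]
    (K : CochainComplex X.Modules ℤ) (hK : DCoh.IsQCohD (DCoh.toD X K)) (b : ℤ) [(DCoh.toD X K).IsLE b] [DCoh.HasLTensorCx K]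
    (h : ∀ E : DCoh.D X, DCoh.IsPerfect E → ∀ m : ℤ, DCoh.IsPseudoCoherentD m ((DCoh.Rpush π).obj ((DCoh.LTensorCx K).obj E)))
    (E : DCoh.D X) (hE : ∀ m : ℤ, DCoh.IsPseudoCoherentD m E) (m : ℤ) :
    DCoh.IsPseudoCoherentD m ((DCoh.Rpush π).obj ((DCoh.LTensorCx K).obj E)) := by
  classical
  haveI : QuasiSeparated π := QuasiSeparated.of_quasiSeparatedSpace π
  haveI : QuasiCompact π := inferInstance
  obtain ⟨N, hN⟩ := exists_bound_rres π
  obtain ⟨r, hr⟩ := Groth.Agent.S1103.result X Set.univ isClosed_univ (by simp)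
  have hEq : DCoh.IsQCohD E := fun i => (Groth.Agent.S7240.result (i - 1) E (hE _)).1 i (by omega)
  let n : ℤ := m - b - N
  obtain ⟨P, α, hP, -, hiso, hepi⟩ := hr n E hEq (hE _) fun _ _ => Set.subset_univ _
  obtain ⟨E', hE', ⟨eE⟩⟩ := GrothLib.OX.exists_kflat_rep E
  let β : DerivedCategory.Q.obj (DerivedCategory.Q.objPreimage P) ⟶ DerivedCategory.Q.obj E' :=
    (DerivedCategory.Q.objObjPreimageIso P).hom ≫ α ≫ eE.inv
  obtain ⟨Z, s, hs, g, hg⟩ := DerivedCategory.right_fac β
  obtain ⟨P', t, hP', -, ht, -⟩ := GrothLib.OX.exists_kflat_resolution Z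
  let φ : P' ⟶ E' := t ≫ g
  let θ : DerivedCategory.Q.obj P' ≅ P :=
    asIso (DerivedCategory.Q.map t) ≪≫ asIso (DerivedCategory.Q.map s) ≪≫ DerivedCategory.Q.objObjPreimageIso P
  have hφ : DerivedCategory.Q.map φ = θ.hom ≫ α ≫ eE.inv := by
    show DerivedCategory.Q.map (t ≫ g) = (DerivedCategory.Q.map t ≫ DerivedCategory.Q.map s ≫
      (DerivedCategory.Q.objObjPreimageIso P).hom) ≫ α ≫ eE.inv
    have hβ : DerivedCategory.Q.map g = DerivedCategory.Q.map s ≫ β := by rw [hg, IsIso.hom_inv_id_assoc]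
    rw [Functor.map_comp, hβ]
    simp only [β, Category.assoc]
  let M := CochainComplex.mappingCone φ
  have hM : ∀ i, n ≤ i → IsZero ((DerivedCategory.homologyFunctor X.Modules i).obj (DerivedCategory.Q.obj M)) := by
    refine (GrothLib.DerCat.cone_vanish_iff _ (DerivedCategory.mappingCone_triangle_distinguished φ) n).2 ⟨fun i hi => ?_, ?_⟩
    · haveI := hiso i hi
      show IsIso ((DerivedCategory.homologyFunctor X.Modules i).map (DerivedCategory.Q.map φ))
      rw [hφ, Functor.map_comp, Functor.map_comp]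
      infer_instance
    · haveI := hepi
      show Epi ((DerivedCategory.homologyFunctor X.Modules n).map (DerivedCategory.Q.map φ))
      rw [hφ, Functor.map_comp, Functor.map_comp]
      infer_instance
  have hMle : (DerivedCategory.Q.obj M).IsLE (n - 1) :=
    (DerivedCategory.isLE_iff _ _).2 fun i hi => hM i (by omega)
  have hP'q : DCoh.IsPerfect (DerivedCategory.Q.obj P') := GrothLib.OX.isPerfect_of_iso hP θ.symm
  have hMK : DCoh.IsKFlat M := GrothLib.OX.isKFlat_mappingCone φ hP' hE'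
  have hMq : DCoh.IsQCohD (DerivedCategory.Q.obj M) :=
    ObjectProperty.ext_of_isTriangulatedClosed₃ DCoh.IsQCohD _
      (DerivedCategory.mappingCone_triangle_distinguished φ) (GrothLib.OX.isQCohD_of_isPerfect hP'q)
      (ObjectProperty.prop_of_iso DCoh.IsQCohD eE.symm hEq)
  let R := GrothLib.SiteDer.Rres (GrothLib.OX.rmor π)
  haveI : R.IsTriangulated := GrothLib.SiteDer.isTriangulated_res_map (GrothLib.OX.rmor π).push
  let S' := (GrothLib.OX.coneShortComplex φ).map ((DCoh.tensorCx (X := X)).obj K)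
  have hS' : S'.ShortExact := GrothLib.OX.tensorCx_shortExact_of_splitting (GrothLib.OX.coneSplitting φ) K
  have hT := R.map_distinguished _ (DerivedCategory.triangleOfSES_distinguished hS')
  obtain ⟨vE⟩ := GrothLib.OX.ltensorCx_value K E' hE'
  obtain ⟨vM⟩ := GrothLib.OX.ltensorCx_value K M hMK
  obtain ⟨vP⟩ := GrothLib.OX.ltensorCx_value K (P'⟦(1 : ℤ)⟧) (GrothLib.OX.isKFlat_shift hP' 1)
  have hKb : ∀ i, b < i → IsZero (K.homology i) := fun i hi =>
    (DerivedCategory.isZero_of_isLE (DCoh.toD X K) b i hi).of_iso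
      ((DerivedCategory.homologyFunctorFactors X.Modules i).app K).symm
  let w : ∀ A : CochainComplex X.Modules ℤ, DerivedCategory.Q.obj (((DCoh.tensorCx (X := X)).obj A).obj K) ≅
      DerivedCategory.Q.obj (((DCoh.tensorCx (X := X)).obj K).obj A) :=
    fun A => DerivedCategory.Q.mapIso ((GrothLib.OX.tensorFlipIso K).app A)
  let rr := GrothLib.OX.rpushIsoRres π
  have h₂ : DCoh.IsPseudoCoherentD m (R.obj (DerivedCategory.Q.obj S'.X₂)) := by
    have h1 : DCoh.IsQCohD ((DCoh.LTensorCx K).obj (DerivedCategory.Q.obj M)) :=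
      Groth.Agent.S1062.result X K hK _ hMq
    have h2 := GrothLib.OX.isLE_ltensorCx K hKb (DerivedCategory.Q.obj M) (n - 1)
    have h3 := hN _ _ h1 h2
    haveI := h3
    have h4 : (R.obj ((DCoh.LTensorCx K).obj (DerivedCategory.Q.obj M))).IsLE (m - 1) :=
      DerivedCategory.TStructure.t.isLE_of_le _ (n - 1 + b + N) (m - 1) (by omega)
    exact GrothLib.OX.isPseudoCoherentD_of_iso
      (GrothLib.OX.isPseudoCoherentD_iff.2 fun x => ⟨_, (⊤ : (Spec (CommRingCat.of A)).Opens).ι, inferInstance, ⟨⟨x, trivial⟩, rfl⟩, GrothLib.OX.Approx.restrict (GrothLib.OX.approx_of_isLE h4) _⟩)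
      (R.mapIso (vM ≪≫ w M))
  have h₃ : DCoh.IsPseudoCoherentD m (R.obj (DerivedCategory.Q.obj S'.X₃)) :=
    GrothLib.OX.isPseudoCoherentD_of_iso
      (h _ (GrothLib.OX.isPerfect_of_iso (GrothLib.OX.isPerfect_shift hP'q 1)
        ((DerivedCategory.Q.commShiftIso (1 : ℤ)).app P').symm) m)
      (rr.app _ ≪≫ R.mapIso (vP ≪≫ w _))
  have h₃' : DCoh.IsPseudoCoherentD (m - 1) (R.obj (DerivedCategory.Q.obj S'.X₃)) :=
    GrothLib.OX.isPseudoCoherentD_of_iso
      (h _ (GrothLib.OX.isPerfect_of_iso (GrothLib.OX.isPerfect_shift hP'q 1)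
        ((DerivedCategory.Q.commShiftIso (1 : ℤ)).app P').symm) (m - 1))
      (rr.app _ ≪≫ R.mapIso (vP ≪≫ w _))
  have h₁ := GrothLib.OX.isPseudoCoherentD_triangle (m - 1) hT
  have := h₁.2.2 (by rw [show m - 1 + 1 = m by omega]; exact h₂) h₃'
  rw [show m - 1 + 1 = m by omega] at this
  exact GrothLib.OX.isPseudoCoherentD_of_iso this
    (R.mapIso ((w E').symm ≪≫ vE.symm ≪≫ (DCoh.LTensorCx K).mapIso eE) ≪≫ (rr.app _).symm)

end Groth.Agent.S1119
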