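import Groth.Statements.S6990
import Groth.Agent.Lib.DCxRing.Amplitude


set_option autoImplicit false
universe u
open CategoryTheory CategoryTheory.Limits
attribute [local instance] HasDerivedCategory.standard
open DRing

namespace Groth.Agent.S6990

open CategoryTheory.Pretriangulated in
/-- Let R be a commutative ring, a, b integers, L an object of D(R) isomorphic to a complex of
projective R-modules vanishing outside [a, b], and K an object of D(R). (1) If H^i(K) = 0 for all i
≥ a, then every morphism L → K in D(R) is zero. (2) If H^i(K) = 0 for all i ≥ a + 1, then for every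
distinguished triangle K → M → L → K[1] there is an isomorphism M ≅ K ⊕ L carrying K → M to the
first inclusion and whose composite with the second projection is M → L. -/
theorem result (R : Type u) [CommRing R] (a b : ℤ)
    (L : Dual.D R) (hL : ∃ P : DRing.Cx R, DRing.VanishesOutside P a b ∧ (∀ i : ℤ, Module.Projective R (P.X i)) ∧
      Nonempty (DRing.toD P ≅ L)) (K : Dual.D R) :
    ((∀ i : ℤ, a ≤ i → Subsingleton (Dual.HD R K i)) → Subsingleton (L ⟶ K)) ∧
      ((∀ i : ℤ, a + 1 ≤ i → Subsingleton (Dual.HD R K i)) → ∀ (T : Triangle (Dual.D R)), T ∈ distinguishedTriangles →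
        T.obj₁ = K → T.obj₃ = L → ∀ [HasBinaryBiproduct T.obj₁ T.obj₃],
          ∃ e : T.obj₂ ≅ T.obj₁ ⊞ T.obj₃, T.mor₁ ≫ e.hom = biprod.inl ∧ e.hom ≫ biprod.snd = T.mor₂) := by
  obtain ⟨P, hv, hp, ⟨e⟩⟩ := hL
  have key : ∀ K' : Dual.D R, (∀ i : ℤ, a ≤ i → Subsingleton (Dual.HD R K' i)) → Subsingleton (L ⟶ K') := by
    intro K' hK'
    obtain ⟨Q, hQ, -, ⟨eQ⟩⟩ := GrothLib.DR.exists_projective_rep K' (a - 1) fun i hi => hK' i (by omega)
    haveI := GrothLib.DR.isKProjective P b (fun i hi => hv i (Or.inr hi)) hp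
    refine ⟨fun f g => ?_⟩
    have h0 : ∀ f : L ⟶ K', f = 0 := fun f => by
      obtain ⟨φ, hφ⟩ := GrothLib.DR.exists_lift P (e.hom ≫ f ≫ eQ.inv)
      have h : φ = 0 := HomologicalComplex.hom_ext _ _ fun i => by
        by_cases hi : i < a
        · exact (hv i (Or.inl hi)).eq_of_src _ _
        · exact (hQ i (by omega)).eq_of_tgt _ _
      rw [h, Functor.map_zero] at hφ
      simpa using congrArg (fun t => e.inv ≫ t ≫ eQ.hom) hφ.symm
    rw [h0 f, h0 g]
  refine ⟨key K, fun hK T hT h₁ h₃ inst => ?_⟩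
  haveI hs : Subsingleton (T.obj₃ ⟶ (shiftFunctor (Dual.D R) (1 : ℤ)).obj T.obj₁) := by
    rw [h₁, h₃]
    exact key _ fun i hi => ((((DerivedCategory.homologyFunctor (ModuleCat.{u} R) 0).shiftIso 1 i (1 + i) rfl).app
      K).toLinearEquiv).toEquiv.subsingleton_congr.2 (hK (1 + i) (by omega))
  obtain ⟨e', he₁, he₂⟩ := exists_iso_binaryBiproduct_of_distTriang T hT (Subsingleton.elim _ _)
  exact ⟨e', he₁, he₂.symm⟩

end Groth.Agent.S6990
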