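import Groth.Statements.S1118
import Groth.Agent.Lib.OX.ProjQCohSigma
import Groth.Agent.Lib.OX.HomTri

set_option autoImplicit false
universe u
open CategoryTheory CategoryTheory.Limits AlgebraicGeometry Opposite
attribute [local instance] HasDerivedCategory.standard
open Perf

namespace Groth.Agent.S1118

/-- Let f : X ⟶ Y be quasi-compact and quasi-separated, E ∈ D(O_X) with quasi-coherent cohomology
sheaves, K a cochain complex of O_Y-modules whose image in D(O_Y) has quasi-coherent cohomology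
sheaves, and M a cochain complex of O_X-modules representing Lf^*K. Assuming the derived functors
involved exist, Rf_*(E) ⊗^L K and Rf_*(E ⊗^L M) are isomorphic in D(O_Y). (The source proves that
the canonical projection-formula map is an isomorphism; only the existence of an isomorphism is
asserted here.) -/
theorem result {X Y : Scheme.{u}} (f : X ⟶ Y) [QuasiCompact f] [QuasiSeparated f] [DCoh.HasRpush f] [DCoh.HasLpull f]
    (E : DCoh.D X) (hE : DCoh.IsQCohD E) (K : CochainComplex Y.Modules ℤ) (hK : DCoh.IsQCohD (DCoh.toD Y K)) [DCoh.HasLTensorCx K]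
    (M : CochainComplex X.Modules ℤ) (hM : Nonempty (DCoh.toD X M ≅ (DCoh.Lpull f).obj (DCoh.toD Y K))) [DCoh.HasLTensorCx M] :
    Nonempty ((DCoh.LTensorCx K).obj ((DCoh.Rpush f).obj E) ≅ (DCoh.Rpush f).obj ((DCoh.LTensorCx M).obj E)) := by
  obtain ⟨P, q, hP, -, hq, -⟩ := GrothLib.OX.exists_kflat_resolution K
  have := GrothLib.OX.hasLTensorCx P
  have := GrothLib.OX.hasLTensorCx (((Scheme.Modules.pullback f).mapHomologicalComplex (ComplexShape.up ℤ)).obj P)
  obtain ⟨l⟩ := GrothLib.OX.lpull_value f P hP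
  obtain ⟨m⟩ := hM
  let qK : DCoh.toD Y P ≅ DCoh.toD Y K := asIso (DerivedCategory.Q.map q)
  obtain ⟨c⟩ := GrothLib.OX.nonempty_ltensorCx_congr_of_iso (E := M)
    (E' := ((Scheme.Modules.pullback f).mapHomologicalComplex (ComplexShape.up ℤ)).obj P)
    (m ≪≫ (DCoh.Lpull f).mapIso qK.symm ≪≫ l)
  obtain ⟨cK⟩ := GrothLib.OX.nonempty_ltensorCx_congr_of_iso (E := K) (E' := P) qK.symm
  have hPq : DCoh.IsQCohD (DerivedCategory.Q.obj P) := fun i =>
    GrothLib.OX.isQCoh_of_iso ((DerivedCategory.homologyFunctor _ i).mapIso qK.symm) (hK i)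
  obtain ⟨A, i, hi, hA, hA'⟩ := GrothLib.KInj.exists_kInjective_resolution _ (DerivedCategory.Q.objPreimage E)
  let e : DerivedCategory.Q.obj A ≅ E :=
    (asIso (DerivedCategory.Q.map i)).symm ≪≫ DerivedCategory.Q.objObjPreimageIso E
  have hAq : DCoh.IsQCohD (DerivedCategory.Q.obj A) := fun i =>
    GrothLib.OX.isQCoh_of_iso ((DerivedCategory.homologyFunctor _ i).mapIso e.symm) (hE i)
  let qi := DerivedCategory.quotientCompQhIso Y.Modules
  let qiX := DerivedCategory.quotientCompQhIso X.Modules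
  have hproj := GrothLib.OX.isIso_projD_of_isQCohD f A ⟨hA', hA⟩ hAq P hP hPq
  have hu : IsIso (GrothLib.OX.pushUnit f A) :=
    GrothLib.OX.map_isIso_of (DCoh.pushKh f)
      (GrothLib.KInj.isIso_unit_of_rightOrthogonal (CochainComplex.IsKInjective.rightOrthogonal A))
  let R := GrothLib.OX.rpushIsoRres f
  let a : (DCoh.Rpush f).obj E ≅ DerivedCategory.Q.obj ((GrothLib.OX.pushCxF f).obj A) :=
    R.app E ≪≫ (GrothLib.SiteDer.Rres (GrothLib.OX.rmor f)).mapIso ((qiX.app A) ≪≫ e).symm ≪≫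
      (@asIso _ _ _ _ _ hu).symm ≪≫ qi.app _
  obtain ⟨v⟩ := GrothLib.OX.ltensorCx_value_of_isKFlat P hP ((GrothLib.OX.pushCxF f).obj A)
  obtain ⟨w⟩ := GrothLib.OX.ltensorCx_value_of_isKFlat _ (GrothLib.OX.isKFlat_pullback f hP) A
  exact ⟨cK.app _ ≪≫ (DCoh.LTensorCx P).mapIso a ≪≫ v ≪≫
    DerivedCategory.Q.mapIso (GrothLib.OX.tensorCxSymm _ _) ≪≫
    (qi.app _).symm ≪≫ @asIso _ _ _ _ _ hproj ≪≫
    (GrothLib.SiteDer.Rres (GrothLib.OX.rmor f)).mapIso
      (qiX.app _ ≪≫ DerivedCategory.Q.mapIso (GrothLib.OX.tensorCxSymm _ _) ≪≫ w.symm ≪≫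
        (DCoh.LTensorCx _).mapIso e ≪≫ (c.app E).symm) ≪≫ (R.app _).symm⟩

end Groth.Agent.S1118
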