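import Groth.Statements.S11155
import Groth.Agent.Lib.InjSky20.Stalk

set_option autoImplicit false
set_option maxHeartbeats 400000
set_option linter.style.haveILetI false
set_option backward.isDefEq.respectTransparency false
universe u
open CategoryTheory CategoryTheory.Limits AlgebraicGeometry
open Coherent

namespace Groth.Agent.S11155

/-- Let X be a locally Noetherian scheme and I an injective O_X-module (an injective object of the
category of all O_X-modules, not assumed quasi-coherent). Then for every point x of X the stalk I_x
is an injective O_{X,x}-module. -/
theorem result {X : Scheme.{u}} [IsLocallyNoetherian X]
    (I : X.Modules) (hI : Injective I) (x : X) :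
    Module.Injective (X.presheaf.stalk x) (I.presheaf.stalk x) := by
  haveI := hI
  have h := GrothLib.InjSky20.injective_stalk I x
  exact Module.injective_module_of_injective_object (X.presheaf.stalk x) (I.presheaf.stalk x) (inj := h)

end Groth.Agent.S11155
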