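import Groth.Statements.S12836
import Groth.Agent.Lib.SpQuot.CompareAff
import Groth.Agent.Lib.Stk.Basic


set_option autoImplicit false
set_option backward.isDefEq.respectTransparency false
set_option backward.isDefEq.respectTransparency.types false
universe u
open CategoryTheory AlgebraicGeometry
open AlgSt

namespace Groth.Agent.S12836

/-- Let `G` be a group scheme over `S` with `G ⟶ S` affine, acting on an `S`-scheme `X`. The quotient
category `[X/G]` over `(Sch/S)` — an object over `T` is a `G`-torsor `P ⟶ T` for the fppf topology
which is a scheme, together with a `G`-equivariant morphism `P ⟶ X`; a morphism is an equivariant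
cartesian square compatible with the maps to `X` — is a stack in groupoids over `(Sch/S)` with the
fppf topology. (The published statement is over an algebraic space `B` over `S`, for a group
algebraic space `G` over `B` acting on an algebraic space `X` over `B`, with torsors that are
algebraic spaces; this row is the case `B = S` with `G`, `X` schemes and `G ⟶ S` affine, in which
every fppf torsor under a base change of `G` is a scheme, so that the category of scheme torsors is
the whole quotient category.) -/
theorem result (S : Scheme.{u}) (G : Over S) [GrpObj G] [IsAffineHom G.hom]
    (X : Over S) (aX : AlgGrp.Action G X) :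
    Stk.IsStack (QuotSh.J Scheme.fppfPrecoverage S) (AlgSt.QuotSt Scheme.fppfPrecoverage G aX) := by
  letI := GrothLib.SpQuot.grpYon G
  refine (GrothLib.Stk.isStack_iff_of_isEquivOver (QuotSh.J Scheme.fppfPrecoverage S)
    (GrothLib.SpQuot.compare G X aX) ((GrothLib.FibCat.isEquivOver_iff _).2 ⟨inferInstance, inferInstance, fun A => ?_⟩)).2
    (GrothLib.SpQuot.isStack (S := S))
  obtain ⟨P₀, ⟨e⟩⟩ := GrothLib.SpQuot.exists_yon_iso_torsor inferInstance A
  exact GrothLib.SpQuot.exists_compare_iso A P₀ e

end Groth.Agent.S12836
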