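import Groth.Statements.S9758
import Groth.Agent.Lib.LCI6.Syntomic
import Groth.Agent.Lib.LCI6.Koszul
-- import your own Groth.Agent.* helpers here

set_option autoImplicit false
universe u
open FlatMor

namespace Groth.Agent.S9758

open AlgebraicGeometry CategoryTheory Limits in
/-- A morphism of schemes f : X ⟶ S is flat and a local complete intersection morphism (Koszul at every
point) if and only if it is syntomic. -/
theorem result {X S : Scheme.{u}} (f : X ⟶ S) :
    (Flat f ∧ ∀ x : X, Synt.IsKoszulAt f x) ↔ Synt.IsSyntomicMor f := by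
  rw [GrothLib.LCI6.inLocus_iff_of_isKoszul]
  constructor
  · rintro ⟨hf, h⟩ x
    obtain ⟨U, V, hU, hV, e, hx, hl⟩ := h x
    refine ⟨⟨U, hU⟩, ⟨V, hV⟩, e, hx, ?_⟩
    letI := (f.appLE V U e).hom.toAlgebra
    exact GrothLib.LCI6.isSyntomic_iff.mpr
      ⟨HasRingHomProperty.appLE @Flat f inferInstance ⟨V, hV⟩ ⟨U, hU⟩ e, hl⟩
  · intro h
    refine ⟨(HasRingHomProperty.iff_exists_appLE (P := @Flat)
      (RingHom.Flat.stableUnderComposition.stableUnderCompositionWithLocalizationAway
        RingHom.Flat.holdsForLocalizationAway).left).mpr fun x => ?_, fun x => ?_⟩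
    · obtain ⟨U, V, e, hx, hs⟩ := h x
      exact ⟨V, U, hx, e, hs.1⟩
    · obtain ⟨U, V, e, hx, hs⟩ := h x
      letI := (f.appLE V.1 U.1 e).hom.toAlgebra
      exact ⟨U.1, V.1, U.2, V.2, e, hx, (GrothLib.LCI6.isSyntomic_iff.mp hs).2⟩

end Groth.Agent.S9758
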