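import Groth.Statements.S9363
import Groth.Agent.S9758
import Groth.Agent.Lib.LCI6.InLocus
import Groth.Agent.Lib.LCI6.Syntomic
import Groth.Agent.Lib.LCI6.Koszul

set_option autoImplicit false
universe u
open Synt

namespace Groth.Agent.S9363

open AlgebraicGeometry CategoryTheory in
/-- f : X → S is syntomic if and only if, for every affine open V of S and every affine open U of X
mapped into V, the induced map O_S(V) → O_X(U) makes O_X(U) a syntomic algebra over O_S(V). -/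
theorem result {X S : Scheme.{u}} (f : X ⟶ S) :
    Synt.IsSyntomicMor f ↔
      ∀ (U : X.affineOpens) (V : S.affineOpens) (e : U.1 ≤ f ⁻¹ᵁ V.1),
        letI := (f.appLE V.1 U.1 e).hom.toAlgebra
        Synt.IsSyntomic Γ(S, V.1) Γ(X, U.1) :=   by
  constructor
  · intro h U V e
    letI := (f.appLE V.1 U.1 e).hom.toAlgebra
    obtain ⟨hfl, hk⟩ := (Groth.Agent.S9758.result f).mpr h
    exact GrothLib.LCI6.isSyntomic_iff.mpr ⟨HasRingHomProperty.appLE @AlgebraicGeometry.Flat f hfl V U e,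
      GrothLib.LCI6.isLCI_of_forall_inLocus f ((GrothLib.LCI6.inLocus_iff_of_isKoszul f).mp hk) U.1 V.1 U.2 V.2 e⟩
  · intro h x
    obtain ⟨V, hV, hy, -⟩ := GrothLib.LCI6.exists_affine_le (x := f x) (O := (⊤ : S.Opens)) trivial
    obtain ⟨U, hU, hx, hUV⟩ := GrothLib.LCI6.exists_affine_le (x := x) (O := f ⁻¹ᵁ V) hy
    exact ⟨⟨U, hU⟩, ⟨V, hV⟩, hUV, hx, h ⟨U, hU⟩ ⟨V, hV⟩ hUV⟩

end Groth.Agent.S9363
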