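import Groth.Prelude.Def_Curv2
import Groth.Agent.Lib.SepPoint.Alg
import Groth.Agent.Lib.AlgMisc.GeomRedAt
import Groth.Agent.Lib.AffDom.PointDim

set_option autoImplicit false
universe u
open CategoryTheory CategoryTheory.Limits AlgebraicGeometry
attribute [local instance] Curv2.resAlgebra
open TopologicalSpace

namespace Groth.Agent.S1550

open GrothLib

lemma resMap_eq (k : Type u) [Field k] (X : Scheme.{u}) [X.Over (Spec (CommRingCat.of k))] (x : X) :
    Curv2.resMap k X x = AffDom.toRes (X ↘ Spec (CommRingCat.of k)) x := by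
  suffices h : CommRingCat.ofHom (Curv2.resMap k X x) =
      CommRingCat.ofHom (AffDom.toRes (X ↘ Spec (CommRingCat.of k)) x) from congrArg CommRingCat.Hom.hom h
  apply Spec.map_injective
  rw [AffDom.SpecMap_toRes]
  letI := Curv2.stalkAlgebra k X x
  show Spec.map (CommRingCat.ofHom (algebraMap k (X.presheaf.stalk x)) ≫ X.residue x) = _
  rw [Spec.map_comp, ← Lib.AlgMisc.GeomRedAt.fromSpecStalk_over, ← Category.assoc]
  rfl


/-- If X is smooth over a field k, then the set of closed points of X whose residue field is finite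
separable over k is dense in X. -/
theorem result (k : Type u) [Field k] (X : Scheme.{u}) [X.Over (Spec (CommRingCat.of k))] [Smooth (X ↘ (Spec (CommRingCat.of k)))] :
    Dense {x : X | IsClosed ({x} : Set X) ∧ FiniteDimensional k (X.residueField x) ∧ Algebra.IsSeparable k (X.residueField x)} := by
  rw [dense_iff_inter_open]
  intro U hU hUne
  obtain ⟨z, hz⟩ := hUne
  obtain ⟨_, ⟨V, hV, rfl⟩, hzV, hVU⟩ := X.isBasis_affineOpens.exists_subset_of_mem_open hz hU
  have hV : IsAffineOpen V := hV
  set f := X ↘ Spec (CommRingCat.of k)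
  let φ := Spec.preimage (hV.fromSpec ≫ f)
  algebraize [φ.hom]
  have hj : hV.fromSpec ≫ f = Spec.map (CommRingCat.ofHom (algebraMap k Γ(X, V))) := (Spec.map_preimage _).symm
  haveI : Smooth (Spec.map (CommRingCat.ofHom (algebraMap k Γ(X, V)))) := by
    rw [← hj]; infer_instance
  haveI : Algebra.Smooth k Γ(X, V) :=
    RingHom.smooth_algebraMap.mp ((HasRingHomProperty.Spec_iff (P := @Smooth)).mp inferInstance)
  haveI : Nontrivial Γ(X, V) := by
    obtain ⟨p, -⟩ := hV.range_fromSpec.ge hzV
    exact PrimeSpectrum.nontrivial p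
  obtain ⟨q, hq, hfin, hsep⟩ := SepPoint.exists_maximal_separable k Γ(X, V)
  let p : Spec Γ(X, V) := ⟨q, hq.isPrime⟩
  have hpV : hV.fromSpec p ∈ V := hV.range_fromSpec.le ⟨p, rfl⟩
  refine ⟨hV.fromSpec p, hVU hpV, ?_, ?_⟩
  · haveI : JacobsonSpace X := LocallyOfFiniteType.jacobsonSpace f
    have hc : IsLocallyClosed ({hV.fromSpec p} : Set X) := by
      rw [← Set.image_singleton]
      exact ((PrimeSpectrum.isClosed_singleton_iff_isMaximal p).2 hq).isLocallyClosed.image
        hV.fromSpec.isEmbedding.isInducing hV.fromSpec.isOpenEmbedding.isOpen_range.isLocallyClosed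
    exact isClosed_singleton_of_isLocallyClosed_singleton hc
  haveI := hfin
  haveI := hsep
  let e := Scheme.Spec.residueFieldIso (CommRingCat.of Γ(X, V)) p
  let χ : Γ(X, V) ⧸ q →+* X.residueField (hV.fromSpec p) :=
    ((RingEquiv.ofBijective (hV.fromSpec.residueFieldMap p).hom
      ⟨RingHom.injective _, AffDom.residueFieldMap_surjective _ p⟩).symm.toRingHom.comp e.inv.hom).comp
      (algebraMap (Γ(X, V) ⧸ q) q.ResidueField)
  have hχ : Function.Bijective χ :=
    ((RingEquiv.ofBijective (hV.fromSpec.residueFieldMap p).hom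
      ⟨RingHom.injective _, AffDom.residueFieldMap_surjective _ p⟩).symm.bijective.comp
        (ConcreteCategory.bijective_of_isIso e.inv)).comp q.bijective_algebraMap_quotient_residueField
  have hcomm : χ.comp (algebraMap k (Γ(X, V) ⧸ q)) = Curv2.resMap k X (hV.fromSpec p) := by
    ext c
    apply (hV.fromSpec.residueFieldMap p).hom.injective
    have h1 := RingHom.congr_fun (AffDom.toRes_comp hV.fromSpec f p) c
    rw [resMap_eq]
    refine Eq.trans ?_ h1
    simp only [χ, RingHom.comp_apply, RingEquiv.toRingHom_eq_coe, RingEquiv.coe_toRingHom]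
    refine ((RingEquiv.ofBijective (hV.fromSpec.residueFieldMap p).hom _).apply_symm_apply _).trans ?_
    have h2 : CommRingCat.ofHom (AffDom.toRes (hV.fromSpec ≫ f) p) =
        CommRingCat.ofHom (algebraMap k q.ResidueField) ≫ e.inv := by
      apply Spec.map_injective
      rw [AffDom.SpecMap_toRes, Spec.map_comp, hj, IsScalarTower.algebraMap_eq k Γ(X, V) q.ResidueField,
        CommRingCat.ofHom_comp, Spec.map_comp, ← Category.assoc,
        Scheme.Spec.map_residueFieldIso_inv_eq_fromSpecResidueField]
      rfl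
    rw [show AffDom.toRes (hV.fromSpec ≫ f) p = (CommRingCat.ofHom (algebraMap k q.ResidueField) ≫ e.inv).hom
      from congrArg CommRingCat.Hom.hom h2]
    show e.inv.hom (algebraMap (Γ(X, V) ⧸ q) q.ResidueField (algebraMap k (Γ(X, V) ⧸ q) c)) = _
    rw [← IsScalarTower.algebraMap_apply]
    rfl
  let χa : (Γ(X, V) ⧸ q) ≃ₐ[k] X.residueField (hV.fromSpec p) :=
    AlgEquiv.ofBijective { χ with commutes' := fun c => RingHom.congr_fun hcomm c } hχ
  exact ⟨Module.Finite.equiv χa.toLinearEquiv, AlgEquiv.Algebra.isSeparable χa⟩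

end Groth.Agent.S1550
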