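import Groth.Statements.S4839
import Groth.Agent.Lib.LimDescend.Hom
import Groth.Agent.Lib.LimDescend.FgAlg
import Mathlib

set_option autoImplicit false
set_option backward.isDefEq.respectTransparency false
open CategoryTheory AlgebraicGeometry
universe u
open Cons9

namespace Groth.Agent.S4839

open GrothLib GrothLib.LimDescend.Rel Opposite Limits in
/-- Everything at a finitely generated stage. -/
theorem aux {k : Type u} [Field k] {X Y : Scheme.{u}}
    (p : X ⟶ Spec (CommRingCat.of k)) (q : Y ⟶ Spec (CommRingCat.of k))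
    [LocallyOfFiniteType p] [QuasiCompact p] [LocallyOfFiniteType q] [QuasiCompact q]
    (K : Type u) [Field K] [Algebra k K]
    (e : pullback p (Spec.map (CommRingCat.ofHom (algebraMap k K))) ≅ pullback q (Spec.map (CommRingCat.ofHom (algebraMap k K))))
    (he : e.hom ≫ pullback.snd q (Spec.map (CommRingCat.ofHom (algebraMap k K))) = pullback.snd p (Spec.map (CommRingCat.ofHom (algebraMap k K)))) :
    ∃ (S : Subalgebra k K) (_ : S.FG)
      (g : pullback p (Spec.map (CommRingCat.ofHom (algebraMap k S))) ≅ pullback q (Spec.map (CommRingCat.ofHom (algebraMap k S)))),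
      g.hom ≫ pullback.snd q (Spec.map (CommRingCat.ofHom (algebraMap k S))) = pullback.snd p (Spec.map (CommRingCat.ofHom (algebraMap k S))) := by
  haveI : IsLocallyNoetherian (Spec (CommRingCat.of k)) := inferInstance
  haveI := LocallyOfFiniteType.isLocallyNoetherian p
  haveI := LocallyOfFiniteType.isLocallyNoetherian q
  haveI : CompactSpace X := QuasiCompact.compactSpace_of_compactSpace p
  haveI : CompactSpace Y := QuasiCompact.compactSpace_of_compactSpace q
  let i₀ : (FgSub k K)ᵒᵖ := op ⟨⊥, Subalgebra.fg_bot⟩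
  let b₀ : (⊥ : Subalgebra k K) ≃ₐ[k] k := Algebra.botEquivOfInjective (algebraMap k K).injective
  let φ : Spec (CommRingCat.of k) ⟶ (fgDiagram k K).obj i₀ :=
    Spec.map (CommRingCat.ofHom b₀.toAlgHom.toRingHom)
  let ψ : (fgDiagram k K).obj i₀ ⟶ Spec (CommRingCat.of k) :=
    Spec.map (CommRingCat.ofHom (algebraMap k (⊥ : Subalgebra k K)))
  have hψφ : ψ ≫ φ = 𝟙 _ := by
    refine (Spec.map_comp _ _).symm.trans (Eq.trans (congrArg Spec.map (?_ : _ = 𝟙 _)) (Spec.map_id _))
    refine CommRingCat.hom_ext (RingHom.ext fun x => ?_)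
    exact b₀.injective (b₀.commutes (b₀ x))
  have hφψ : φ ≫ ψ = 𝟙 _ := by
    refine (Spec.map_comp _ _).symm.trans (Eq.trans (congrArg Spec.map (?_ : _ = 𝟙 _)) (Spec.map_id _))
    ext x
    exact b₀.commutes x
  haveI : IsIso φ := ⟨ψ, hφψ, hψφ⟩
  have hsq : ∀ {T : Scheme.{u}} (t : T ⟶ (fgDiagram k K).obj i₀) {W : Scheme.{u}} (w : W ⟶ Spec (CommRingCat.of k)),
      IsPullback (pullback.fst w (t ≫ ψ)) (pullback.snd w (t ≫ ψ)) (w ≫ φ) t := fun t W w =>
    (IsPullback.of_hasPullback w (t ≫ ψ)).of_iso (Iso.refl _) (Iso.refl _) (Iso.refl _) ⟨φ, ψ, hφψ, hψφ⟩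
      (by simp) (by simp) (by simp) (by simp [hψφ])
  have hc : (fgCone k K).π.app i₀ ≫ ψ = Spec.map (CommRingCat.ofHom (algebraMap k K)) :=
    (Spec.map_comp _ _).symm
  have hP := hsq ((fgCone k K).π.app i₀) p
  have hQ := hsq ((fgCone k K).π.app i₀) q
  let e' : pullback p ((fgCone k K).π.app i₀ ≫ ψ) ≅ pullback q ((fgCone k K).π.app i₀ ≫ ψ) :=
    pullback.congrHom rfl hc ≪≫ e ≪≫ (pullback.congrHom rfl hc).symm
  have he' : e'.hom ≫ pullback.snd q _ = pullback.snd p _ := by
    simp [e', he]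
  obtain ⟨l, g, hg, -⟩ := LimDescend.exists_iso (fgDiagram k K) (p ≫ φ) (q ≫ φ) hP hQ (isLimitFgCone k K) e' he'
  have hl : (fgDiagram k K).map l.hom ≫ ψ =
      Spec.map (CommRingCat.ofHom (algebraMap k l.left.unop.1)) :=
    (Spec.map_comp _ _).symm
  refine ⟨l.left.unop.1, l.left.unop.2,
    (pullback.congrHom rfl hl).symm ≪≫ (hsq ((fgDiagram k K).map l.hom) p).isoPullback ≪≫ g ≪≫
      (hsq ((fgDiagram k K).map l.hom) q).isoPullback.symm ≪≫ pullback.congrHom rfl hl, ?_⟩
  simp [hg]

open CategoryTheory.Limits in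
/-- Let k be a field and X, Y two schemes of finite type over k. If for some field extension K of k
there is a K-isomorphism X ⊗_k K ≅ Y ⊗_k K (X and Y are geometrically isomorphic), then there are a
finite extension k' of k and a k'-isomorphism X ⊗_k k' ≅ Y ⊗_k k'. This is the case of the property
of being an isomorphism (base changes are the chosen fibre products with Spec of the extension). -/
theorem result {k : Type u} [Field k] {X Y : Scheme.{u}}
    (p : X ⟶ Spec (CommRingCat.of k)) (q : Y ⟶ Spec (CommRingCat.of k))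
    [LocallyOfFiniteType p] [QuasiCompact p] [LocallyOfFiniteType q] [QuasiCompact q]
    (K : Type u) [Field K] [Algebra k K]
    (e : pullback p (Spec.map (CommRingCat.ofHom (algebraMap k K))) ≅ pullback q (Spec.map (CommRingCat.ofHom (algebraMap k K))))
    (he : e.hom ≫ pullback.snd q (Spec.map (CommRingCat.ofHom (algebraMap k K))) = pullback.snd p (Spec.map (CommRingCat.ofHom (algebraMap k K)))) :
    ∃ (k' : Type u) (_ : Field k') (_ : Algebra k k') (_ : Module.Finite k k')
      (e' : pullback p (Spec.map (CommRingCat.ofHom (algebraMap k k'))) ≅ pullback q (Spec.map (CommRingCat.ofHom (algebraMap k k')))),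
      e'.hom ≫ pullback.snd q (Spec.map (CommRingCat.ofHom (algebraMap k k'))) = pullback.snd p (Spec.map (CommRingCat.ofHom (algebraMap k k'))) := by
  obtain ⟨S, hS, g, hg⟩ := aux p q K e he
  haveI : Algebra.FiniteType k S := (Subalgebra.fg_iff_finiteType S).mp hS
  obtain ⟨m, hm⟩ := Ideal.exists_maximal S
  letI : Field (↥S ⧸ m) := Ideal.Quotient.field m
  haveI : Algebra.FiniteType k (↥S ⧸ m) :=
    Algebra.FiniteType.of_surjective (Ideal.Quotient.mkₐ k m) Ideal.Quotient.mk_surjective
  let t : Spec (CommRingCat.of (↥S ⧸ m)) ⟶ Spec (CommRingCat.of S) := Spec.map (CommRingCat.ofHom (Ideal.Quotient.mk m))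
  have ht : t ≫ Spec.map (CommRingCat.ofHom (algebraMap k S)) =
      Spec.map (CommRingCat.ofHom (algebraMap k (↥S ⧸ m))) :=
    (Spec.map_comp _ _).symm
  let u : pullback (pullback.snd p (Spec.map (CommRingCat.ofHom (algebraMap k S)))) t ≅
      pullback (pullback.snd q (Spec.map (CommRingCat.ofHom (algebraMap k S)))) t :=
    asIso (pullback.map _ _ _ _ g.hom (𝟙 _) (𝟙 _) (by simp [hg]) (by simp))
  refine ⟨↥S ⧸ m, inferInstance, inferInstance, finite_of_finite_type_of_isJacobsonRing k (↥S ⧸ m),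
    (pullback.congrHom rfl ht).symm ≪≫ (pullbackLeftPullbackSndIso _ _ _).symm ≪≫ u ≪≫
      pullbackLeftPullbackSndIso _ _ _ ≪≫ pullback.congrHom rfl ht, ?_⟩
  simp [u]

end Groth.Agent.S4839
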