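import Groth.Statements.S3791
-- import your own Groth.Agent.* helpers here
import Groth.Agent.Lib.Lambda.Elementary

set_option autoImplicit false
universe v u
open CategoryTheory CategoryTheory.Limits AlgebraicGeometry
attribute [local instance] HasDerivedCategory.standard
open KRR

namespace Groth.Agent.S3791

/-- Let K be a λ-ring with positive structure P and u an ample line element (for every x, u^n x is a
positive element minus a natural number for all large n). Then for every line element v, the element
v - 1 is nilpotent. -/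
theorem result (K : Type v) [CommRing K] [LambdaRing.LambdaOps K] (P : LambdaRing.PosStructure K)
    (u : K) (hu : KRR.IsAmpleElt P u) (w : K) (hw : P.IsLine w) : IsNilpotent (w - 1) := by
  obtain ⟨hul, hamp⟩ := hu
  have h1 := GrothLib.Lambda.lam_one_eq_zero_of_pos P
  have key : ∀ v : K, P.IsLine v → ∃ n₀ : ℕ, ∀ n, n₀ ≤ n → IsNilpotent (u ^ n * v - 1) := by
    intro v hv
    obtain ⟨n₀, h⟩ := hamp (-v)
    refine ⟨n₀, fun n hn => ?_⟩
    obtain ⟨e, m, he, heq⟩ := h n hn
    have hL : P.IsLine (u ^ n * v) := by
      clear heq h hn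
      induction n with
      | zero => simpa using hv
      | succ n ih => rw [pow_succ', mul_assoc]; exact GrothLib.Lambda.IsLine.mul hul ih
    have hsum : e + u ^ n * v = (m : K) := by linear_combination -heq
    have haug : P.aug e < (m : ℤ) := by
      have := congr_arg P.aug hsum
      rw [map_add, hL.2, map_natCast] at this
      omega
    have h0 := GrothLib.Lambda.lam_eq_sum_neg_pow
      (fun j hj => GrothLib.Lambda.lam_line_eq_zero hL hj) e m
    rw [P.lam_eq_zero e he m haug, hsum] at h0
    simp only [GrothLib.Lambda.lam_natCast h1] at h0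
    refine ⟨m, ?_⟩
    have h2 : ((1 : K) + -(u ^ n * v)) ^ m = 0 := by rw [add_pow, h0]; simp
    rw [show u ^ n * v - 1 = -((1 : K) + -(u ^ n * v)) by ring, neg_pow, h2, mul_zero]
  obtain ⟨a, ha⟩ := key w hw
  obtain ⟨b, hb⟩ := key 1 (GrothLib.Lambda.isLine_one P)
  have h := (Commute.all _ _).isNilpotent_sub (ha (a + b) (by omega)) (hb (a + b) (by omega))
  rw [show u ^ (a + b) * w - 1 - (u ^ (a + b) * 1 - 1) = u ^ (a + b) * (w - 1) by ring] at h
  have hu' : IsUnit (u ^ (a + b)) := by
    refine IsUnit.pow _ ?_
    have := P.isUnit_lam u hul.1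
    rwa [hul.2, Int.toNat_one, LambdaRing.LambdaOps.lam_one] at this
  exact (Commute.all _ _).isNilpotent_mul_left_iff hu'.mem_nonZeroDivisors.1 |>.1 h

end Groth.Agent.S3791
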