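import Groth.Statements.S7117
import Mathlib
import Groth.Agent.Lib.SopMult.Top
-- import your own Groth.Agent.* helpers here

set_option autoImplicit false
universe u
open CAlg

namespace Groth.Agent.S7117

/-- Let R be a Noetherian local ring of Krull dimension d with maximal ideal m, and suppose g_1, ...,
g_d in m form a system of parameters (they generate an ideal with radical m). Then the number of
minimal prime ideals p of R with R/p of Krull dimension d is at most the length of R/(g_1, ...,
g_d). -/
theorem result (R : Type u) [CommRing R] [IsNoetherianRing R] [IsLocalRing R]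
    (d : ℕ) (hd : ringKrullDim R = d) (g : Fin d → R) (hg : ∀ i, g i ∈ IsLocalRing.maximalIdeal R)
    (hsop : IsLocalRing.maximalIdeal R ≤ (Ideal.span (Set.range g)).radical) :
    (Set.ncard {p : Ideal R | p ∈ minimalPrimes R ∧ ringKrullDim (R ⧸ p) = d} : ℕ∞) ≤
      Module.length R (R ⧸ Ideal.span (Set.range g)) := by
  exact GrothLib.SopMult.ncard_top_le_length d hd g hg hsop

end Groth.Agent.S7117
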