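import Groth.Statements.S0846
import Groth.Agent.Lib.GrNoeth9.Basic

set_option autoImplicit false
universe u
open Coherent

namespace Groth.Agent.S0846

open CategoryTheory CategoryTheory.Limits AlgebraicGeometry in
/-- Let A be a Noetherian graded ring (graded by ℕ as an R-algebra) and X = Proj A. Then every coherent
O_X-module is a quotient of a finite coproduct of twisting modules O_X(d_1), …, O_X(d_r). -/
theorem result {R A : Type u} [CommRing R] [CommRing A] [Algebra R A]
    (𝒜 : ℕ → Submodule R A) [GradedAlgebra 𝒜] [IsNoetherianRing A] (F : (Proj 𝒜).Modules) (hF : Coh.IsCoh F) :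
    ∃ (r : ℕ) (d : Fin r → ℤ) (φ : (∐ fun j : Fin r => Twist.twist 𝒜 (d j)) ⟶ F), Epi φ := by
  obtain ⟨N, hN, hc⟩ := GrothLib.GrNoeth9.exists_covers 𝒜
  haveI := hc
  haveI : F.IsQuasicoherent := hF.1
  obtain ⟨n, k, p, hp⟩ := GrothLib.GrNoeth9.exists_epi_twist hN F hF.2
  exact ⟨k, fun _ => -(n : ℤ) * N, p, hp⟩

end Groth.Agent.S0846
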