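import Groth.Statements.S0412
import Groth.Agent.Lib.Torsor21.SmoothSection
import Mathlib.AlgebraicGeometry.Morphisms.UniversallyOpen
-- import your own Groth.Agent.* helpers here

set_option autoImplicit false
universe u
open FlatMor

namespace Groth.Agent.S0412

open AlgebraicGeometry CategoryTheory Limits in
/-- A smooth morphism admits sections étale-locally on the target: every point in the image has an étale
neighbourhood over which the morphism has a section. -/
theorem result {X S : Scheme.{u}} (f : X ⟶ S) [Smooth f] (s : S) (hs : s ∈ Set.range f) :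
    ∃ (S' : Scheme.{u}) (g : S' ⟶ S) (s' : S'), Etale g ∧ g s' = s ∧ ∃ h : S' ⟶ X, h ≫ f = g := by
    let U : S.Opens := ⟨Set.range f, f.isOpenMap.isOpen_range⟩
    let f' := f ∣_ U
    have : Surjective f' := ⟨fun u => by
      obtain ⟨x, hx⟩ := u.2
      refine ⟨⟨x, show f x ∈ U from ⟨x, rfl⟩⟩, U.ι.isOpenEmbedding.injective ?_⟩
      rw [← Scheme.Hom.comp_apply, morphismRestrict_ι]
      exact hx⟩
    obtain ⟨V, p, hp⟩ := GrothLib.Torsor21.exists_etale_sections f'
    rw [Scheme.etalePrecoverage, Scheme.ofArrows_mem_precoverage_iff] at hp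
    obtain ⟨i, v, hv⟩ := hp.1 ⟨s, hs⟩
    have : Etale (p i ≫ f') := hp.2 i
    refine ⟨V i, p i ≫ f' ≫ U.ι, v, ?_, ?_, p i ≫ (f ⁻¹ᵁ U).ι, ?_⟩
    · rw [← Category.assoc]; infer_instance
    · rw [← Category.assoc, Scheme.Hom.comp_apply, hv]
      rfl
    · rw [Category.assoc, morphismRestrict_ι]

end Groth.Agent.S0412
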