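import Groth.Statements.S14437
import Mathlib.RingTheory.Ideal.Cotangent
import Mathlib.LinearAlgebra.FiniteDimensional.Basic
import Mathlib.LinearAlgebra.Dimension.Constructions
import Mathlib.RingTheory.Finiteness.Basic
import Mathlib.LinearAlgebra.Dimension.Free
import Mathlib.LinearAlgebra.TensorProduct.RightExactness
import Mathlib.LinearAlgebra.FiniteDimensional.Lemmas
-- import your own Groth.Agent.* helpers here

set_option autoImplicit false
universe u
open CAlg
open scoped TensorProduct

namespace Groth.Agent.S14437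

/-- Let k be a field and A → B a local homomorphism of Noetherian local k-algebras with residue fields k
(k → A/m_A and k → B/m_B bijective) — for instance the local rings at a closed point x and at its
image y under a morphism of schemes of finite type over an algebraically closed k. Then dim_k
(Ω_{B/A} ⊗_B B/m_B) + rank(m_A/m_A² → m_B/m_B²) = dim_k (m_B/m_B²): the fibre at x of the sheaf of
relative differentials is dual to the kernel of the tangent map T_x X → T_y Y. (The published
statement is the canonical isomorphism (Ω_{X/Y})_(x)^∨ ≅ ker(df_x); stated here as the resulting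
equality of dimensions. Its second assertion, dim (Ω_{X/Y})_(x) ≥ r when the fibre has an
r-dimensional component through x, is not included.) -/
theorem result (k : Type u) [Field k]
    (A B : Type u) [CommRing A] [CommRing B] [IsLocalRing A] [IsLocalRing B] [IsNoetherianRing A] [IsNoetherianRing B]
    [Algebra k A] [Algebra k B] [Algebra A B] [IsScalarTower k A B]
    (hle : IsLocalRing.maximalIdeal A ≤ Ideal.comap (IsScalarTower.toAlgHom k A B) (IsLocalRing.maximalIdeal B))
    (hA : Function.Bijective (algebraMap k (IsLocalRing.ResidueField A)))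
    (hB : Function.Bijective (algebraMap k (IsLocalRing.ResidueField B))) :
    Module.finrank (IsLocalRing.ResidueField B) (TensorProduct B (IsLocalRing.ResidueField B) (Ω[B⁄A])) +
      Module.finrank k ↥(LinearMap.range (Ideal.mapCotangent (IsLocalRing.maximalIdeal A) (IsLocalRing.maximalIdeal B)
        (IsScalarTower.toAlgHom k A B) hle)) =
      Module.finrank k (IsLocalRing.CotangentSpace B) := by
  classical
  set m := IsLocalRing.maximalIdeal B with hm
  set κ := IsLocalRing.ResidueField B
  set φ := Ideal.mapCotangent (IsLocalRing.maximalIdeal A) m (IsScalarTower.toAlgHom k A B) hle with hφ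
  have hsplit : ∀ b : B, ∃ c : k, b - algebraMap k B c ∈ m := by
    intro b
    obtain ⟨c, hc⟩ := hB.2 (IsLocalRing.residue B b)
    refine ⟨c, ?_⟩
    rw [hm, ← IsLocalRing.residue_eq_zero_iff, map_sub, ← hc]
    exact sub_self _
  choose c hc using hsplit
  have hcu : ∀ (b : B) (z : k), b - algebraMap k B z ∈ m → c b = z := by
    intro b z hz
    apply hB.1
    have h : algebraMap k B (c b) - algebraMap k B z ∈ m := by
      simpa using sub_mem hz (hc b)
    rw [IsScalarTower.algebraMap_apply k B κ, IsScalarTower.algebraMap_apply k B κ]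
    exact Ideal.Quotient.eq.2 h
  have hmsmul : ∀ b ∈ m, ∀ x : m.Cotangent, b • x = 0 := by
    intro b hb x
    obtain ⟨x, rfl⟩ := Ideal.toCotangent_surjective _ x
    rw [← map_smul, Ideal.toCotangent_eq_zero, pow_two]
    exact Ideal.mul_mem_mul hb x.2
  have hsmul : ∀ (b : B) (x : m.Cotangent), b • x = c b • x := by
    intro b x
    have h := hmsmul _ (hc b) x
    rw [sub_smul, sub_eq_zero, algebraMap_smul] at h
    exact h
  let S : Submodule B m.Cotangent :=
    { carrier := Set.range φ
      zero_mem' := ⟨0, map_zero φ⟩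
      add_mem' := fun ⟨a, ha⟩ ⟨b, hb⟩ => ⟨a + b, by rw [map_add, ha, hb]⟩
      smul_mem' := by
        rintro b x ⟨a, rfl⟩
        exact ⟨c b • a, by rw [map_smul, hsmul]⟩ }
  let Q := m.Cotangent ⧸ S
  let π : m →ₗ[B] Q := S.mkQ.comp m.toCotangent
  -- the derivation B → Q
  let d₀ : B → Q := fun b => π ⟨b - algebraMap k B (c b), hc b⟩
  have hd₀ : ∀ (b : B) (z : k) (h : b - algebraMap k B z ∈ m), d₀ b = π ⟨_, h⟩ := by
    intro b z h
    have := hcu b z h
    subst this
    rfl
  have hπA : ∀ (a : A) (h : algebraMap A B a ∈ m), a ∈ IsLocalRing.maximalIdeal A → π ⟨_, h⟩ = 0 := by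
    intro a h ha
    refine (Submodule.Quotient.mk_eq_zero _).2 ⟨Ideal.toCotangent _ ⟨a, ha⟩, ?_⟩
    rfl
  have hd₀A : ∀ a : A, d₀ (algebraMap A B a) = 0 := by
    intro a
    obtain ⟨z, hz⟩ := hA.2 (IsLocalRing.residue A a)
    have ha : a - algebraMap k A z ∈ IsLocalRing.maximalIdeal A := by
      rw [← IsLocalRing.residue_eq_zero_iff, map_sub, ← hz]
      exact sub_self _
    have h : algebraMap A B (a - algebraMap k A z) ∈ m := hle ha
    have h' : algebraMap A B a - algebraMap k B z ∈ m := by
      rwa [map_sub, ← IsScalarTower.algebraMap_apply] at h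
    rw [hd₀ _ z h', ← hπA _ h ha]
    congr 2
    rw [map_sub, ← IsScalarTower.algebraMap_apply]
  have hadd : ∀ a b, d₀ (a + b) = d₀ a + d₀ b := by
    intro a b
    have h : a + b - algebraMap k B (c a + c b) ∈ m := by
      rw [map_add, add_sub_add_comm]; exact add_mem (hc a) (hc b)
    rw [hd₀ _ _ h]
    show _ = π _ + π _
    rw [← map_add]
    congr 1
    exact Subtype.ext (by simp only [map_add, AddMemClass.mk_add_mk]; abel)
  have hmul : ∀ a b, d₀ (a * b) = a • d₀ b + b • d₀ a := by
    intro a b
    have h : a * b - algebraMap k B (c a * c b) ∈ m := by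
      have := add_mem (Ideal.mul_mem_left m a (hc b)) (Ideal.mul_mem_left m (algebraMap k B (c b)) (hc a))
      convert this using 1
      rw [map_mul]; ring
    rw [hd₀ _ _ h]
    show _ = a • π _ + b • π _
    rw [← map_smul, ← map_smul, ← map_add, ← sub_eq_zero, ← map_sub]
    refine (congrArg S.mkQ ((Ideal.toCotangent_eq_zero _ _).2 ?_)).trans (map_zero _)
    rw [pow_two]
    have := neg_mem (Ideal.mul_mem_mul (hc a) (hc b))
    convert this using 1
    simp only [AddSubgroupClass.coe_sub, AddMemClass.coe_add, SetLike.val_smul, smul_eq_mul, map_mul]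
    ring
  let d : Derivation A B Q := Derivation.mk'
    { toFun := d₀
      map_add' := hadd
      map_smul' := fun a b => by
        rw [RingHom.id_apply, Algebra.smul_def, hmul, hd₀A, smul_zero, add_zero, algebraMap_smul] }
    hmul
  let F₀ : κ →ₗ[B] Ω[B⁄A] →ₗ[B] Q :=
    Submodule.liftQ m (LinearMap.toSpanSingleton B (Ω[B⁄A] →ₗ[B] Q) d.liftKaehlerDifferential) (by
      intro b hb
      rw [LinearMap.mem_ker, LinearMap.toSpanSingleton_apply]
      apply LinearMap.ext
      intro w
      rw [LinearMap.smul_apply, LinearMap.zero_apply]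
      obtain ⟨x, hx⟩ := Submodule.mkQ_surjective S (d.liftKaehlerDifferential w)
      rw [← hx, ← map_smul, hmsmul b hb, map_zero])
  let F : TensorProduct B κ Ω[B⁄A] →ₗ[B] Q := TensorProduct.lift F₀
  have hF : ∀ b, F ((1 : κ) ⊗ₜ KaehlerDifferential.D A B b) = d₀ b := by
    intro b
    show (1 : B) • d.liftKaehlerDifferential (KaehlerDifferential.D A B b) = _
    rw [one_smul, Derivation.liftKaehlerDifferential_comp_D]
    rfl
  let G₀ : m →ₗ[B] TensorProduct B κ Ω[B⁄A] :=
    { toFun := fun x => (1 : κ) ⊗ₜ KaehlerDifferential.D A B (x : B)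
      map_add' := fun x y => by rw [Submodule.coe_add, map_add, TensorProduct.tmul_add]
      map_smul' := fun b x => by
        rw [RingHom.id_apply, SetLike.val_smul, smul_eq_mul, Derivation.leibniz, TensorProduct.tmul_add,
          TensorProduct.tmul_smul, ← TensorProduct.smul_tmul (x : B)]
        rw [show (x : B) • (1 : κ) = 0 by
          rw [Algebra.smul_def, mul_one]; exact Ideal.Quotient.eq_zero_iff_mem.2 x.2,
          TensorProduct.zero_tmul, add_zero] }
  let G₁ : m.Cotangent →ₗ[B] TensorProduct B κ Ω[B⁄A] := Submodule.liftQ _ G₀ (by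
    rw [Submodule.smul_le]
    intro b hb x _
    rw [LinearMap.mem_ker, map_smul]
    show b • ((1 : κ) ⊗ₜ[B] _) = 0
    rw [TensorProduct.smul_tmul', show b • (1 : κ) = 0 by
      rw [Algebra.smul_def, mul_one]; exact Ideal.Quotient.eq_zero_iff_mem.2 hb,
      TensorProduct.zero_tmul])
  let G : Q →ₗ[B] TensorProduct B κ Ω[B⁄A] := Submodule.liftQ S G₁ (by
    rintro x ⟨a, rfl⟩
    obtain ⟨a, rfl⟩ := Ideal.toCotangent_surjective _ a
    rw [LinearMap.mem_ker]
    show (1 : κ) ⊗ₜ[B] KaehlerDifferential.D A B (algebraMap A B (a : A)) = 0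
    rw [Derivation.map_algebraMap, TensorProduct.tmul_zero])
  have hFG : F.comp G = LinearMap.id := by
    refine LinearMap.ext fun q => ?_
    obtain ⟨x, rfl⟩ := Submodule.Quotient.mk_surjective _ q
    obtain ⟨⟨x, hx⟩, rfl⟩ := Ideal.toCotangent_surjective _ x
    show F ((1 : κ) ⊗ₜ KaehlerDifferential.D A B x) = _
    have h : x - algebraMap k B 0 ∈ m := by simpa using hx
    rw [hF, hd₀ x 0 h]
    show π _ = π ⟨x, hx⟩
    congr 1
    exact Subtype.ext (by simp)
  have hGd : ∀ b, G (d₀ b) = (1 : κ) ⊗ₜ KaehlerDifferential.D A B b := by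
    intro b
    show (1 : κ) ⊗ₜ KaehlerDifferential.D A B (b - algebraMap k B (c b)) = _
    rw [map_sub, IsScalarTower.algebraMap_apply k A B, Derivation.map_algebraMap, sub_zero]
  have hGF : G.comp F = LinearMap.id := by
    refine TensorProduct.ext' fun z w => ?_
    obtain ⟨z, rfl⟩ := Ideal.Quotient.mk_surjective z
    have hz : (Ideal.Quotient.mk m z : κ) = z • (1 : κ) := by rw [Algebra.smul_def, mul_one]; rfl
    rw [LinearMap.comp_apply, LinearMap.id_apply, hz, ← TensorProduct.smul_tmul', map_smul, map_smul]
    congr 1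
    have hlin : (G.comp F).comp (TensorProduct.mk B κ _ 1) = TensorProduct.mk B κ _ 1 := by
      apply LinearMap.ext_on_range (KaehlerDifferential.span_range_derivation A B)
      intro b
      show G (F ((1 : κ) ⊗ₜ KaehlerDifferential.D A B b)) = _
      rw [hF, hGd]
      rfl
    exact LinearMap.congr_fun hlin w
  let e : TensorProduct B κ Ω[B⁄A] ≃ₗ[B] Q := LinearEquiv.ofLinear F G hFG hGF
  let S' : Submodule k m.Cotangent := S.restrictScalars k
  have e1 : Module.finrank k (TensorProduct B κ Ω[B⁄A]) = Module.finrank k (m.Cotangent ⧸ S') :=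
    ((e.restrictScalars k).trans (Submodule.Quotient.restrictScalarsEquiv k S).symm).finrank_eq
  let eκ : k ≃ₗ[k] κ := LinearEquiv.ofBijective (Algebra.linearMap k κ) hB
  have hκ : Module.finrank k κ = 1 := by rw [← eκ.finrank_eq, Module.finrank_self]
  haveI : Module.Finite k κ := Module.Finite.equiv eκ
  have e2 : Module.finrank κ (TensorProduct B κ Ω[B⁄A]) = Module.finrank k (TensorProduct B κ Ω[B⁄A]) := by
    rw [← Module.finrank_mul_finrank k κ (TensorProduct B κ Ω[B⁄A]), hκ, one_mul]
  haveI : IsScalarTower k κ (IsLocalRing.CotangentSpace B) := by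
    refine ⟨fun z r x => ?_⟩
    obtain ⟨r, rfl⟩ := Ideal.Quotient.mk_surjective r
    show (Ideal.Quotient.mk m (z • r)) • x = z • ((Ideal.Quotient.mk m r) • x)
    exact smul_assoc z r (x : m.Cotangent)
  haveI : Module.Finite k m.Cotangent := Module.Finite.trans κ (IsLocalRing.CotangentSpace B)
  have hS' : S' = LinearMap.range φ := SetLike.ext' rfl
  rw [e2, e1, hS']
  exact (LinearMap.range φ).finrank_quotient_add_finrank

end Groth.Agent.S14437
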