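import Groth.Statements.S10937
import Groth.Agent.Lib.OmegaFree.Basic
import Groth.Agent.Lib.CotTangent.Global
import Groth.Agent.Lib.GrpSchField.DimStalk
import Groth.Agent.S14437

set_option autoImplicit false
universe u
open CategoryTheory CategoryTheory.Limits AlgebraicGeometry
open Variety

open scoped TensorProduct

namespace Groth.Agent.S10937

lemma exists_residue_scalars {k : Type u} [Field k] [IsAlgClosed k] {X : Scheme.{u}}
    (q : X ⟶ Spec (CommRingCat.of k)) [LocallyOfFiniteType q] (x : X) (hx : IsClosed ({x} : Set X)) :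
    Function.Bijective (((X.fromSpecStalk x ≫ q) |> Spec.preimage) ≫ X.residue x).hom := by
  have key : Spec.preimage (X.fromSpecStalk x ≫ q) ≫ X.residue x = (residueFieldIsoBase q x hx).inv := by
    apply Spec.map_injective
    rw [Spec.map_comp, Spec.map_preimage, SpecMap_residueFieldIsoBase_inv, Scheme.fromSpecResidueField,
      Category.assoc]
  rw [key]
  exact ConcreteCategory.bijective_of_isIso _

open IsLocalRing in
lemma isScalarTower_cotangent (k R : Type u) [CommRing k] [CommRing R] [IsLocalRing R] [Algebra k R] :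
    IsScalarTower k (ResidueField R) (CotangentSpace R) :=
  IsScalarTower.of_algebraMap_smul fun c v => by
    obtain ⟨⟨a, ha⟩, rfl⟩ := Ideal.toCotangent_surjective _ v
    have h1 : c • (maximalIdeal R).toCotangent ⟨a, ha⟩ = algebraMap k R c • (maximalIdeal R).toCotangent ⟨a, ha⟩ :=
      (algebraMap_smul R c _).symm
    rw [h1]
    rfl

open IsLocalRing in
lemma finrank_cotangent_of_bijective {k : Type u} [Field k] {R : Type u} [CommRing R] [IsRegularLocalRing R]
    [Algebra k R] (h : Function.Bijective (algebraMap k (ResidueField R))) (d : ℕ) (hd : ringKrullDim R = d) :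
    Module.finrank k (CotangentSpace R) = d := by
  have h1 : Module.finrank (ResidueField R) (CotangentSpace R) = d := by
    rw [← spanFinrank_maximalIdeal_eq_finrank_cotangentSpace]
    rw [← IsRegularLocalRing.spanFinrank_maximalIdeal] at hd
    exact_mod_cast hd
  have h2 : Module.finrank k (ResidueField R) = 1 :=
    (LinearEquiv.ofBijective (Algebra.linearMap k (ResidueField R)) h).finrank_eq.symm.trans (Module.finrank_self k)
  haveI := isScalarTower_cotangent k R
  rw [← Module.finrank_mul_finrank k (ResidueField R) (CotangentSpace R), h1, h2, one_mul]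

open IsLocalRing in
lemma injective_mapCotangent_of_finrank {k : Type u} [Field k] (A B : Type u) [CommRing A] [CommRing B]
    [IsRegularLocalRing A] [IsRegularLocalRing B] [Algebra k A] [Algebra k B] [Algebra A B] [IsScalarTower k A B]
    [IsLocalHom (algebraMap A B)] (hA : Function.Bijective (algebraMap k (ResidueField A)))
    (hB : Function.Bijective (algebraMap k (ResidueField B))) (d n : ℕ) (hdA : ringKrullDim A = d)
    (hdB : ringKrullDim B = ((d + n : ℕ) : WithBot ℕ∞))
    (hΩ : Module.finrank (ResidueField B) (TensorProduct B (ResidueField B) (Ω[B⁄A])) = n) :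
    ∀ a ∈ maximalIdeal A, algebraMap A B a ∈ maximalIdeal B ^ 2 → a ∈ maximalIdeal A ^ 2 := by
  have hle : maximalIdeal A ≤ Ideal.comap (IsScalarTower.toAlgHom k A B) (maximalIdeal B) :=
    fun a ha => map_nonunit (algebraMap A B) a ha
  have h := Groth.Agent.S14437.result k A B hle hA hB
  rw [hΩ, finrank_cotangent_of_bijective hB _ hdB] at h
  have hdom := finrank_cotangent_of_bijective hA _ hdA
  haveI : Module.Finite k (ResidueField A) :=
    Module.Finite.equiv (LinearEquiv.ofBijective (Algebra.linearMap k (ResidueField A)) hA)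
  haveI := isScalarTower_cotangent k A
  haveI : Module.Finite k (CotangentSpace A) := Module.Finite.trans (ResidueField A) _
  let φ := Ideal.mapCotangent (maximalIdeal A) (maximalIdeal B) (IsScalarTower.toAlgHom k A B) hle
  have hk : Module.finrank k (LinearMap.ker φ) = 0 := by
    have := LinearMap.finrank_range_add_finrank_ker φ
    rw [hdom] at this
    have h' : n + Module.finrank k (LinearMap.range φ) = d + n := h
    have hr : Module.finrank k (LinearMap.range φ) = d := by omega
    omega
  have hinj : Function.Injective φ := LinearMap.ker_eq_bot.1 (Submodule.finrank_eq_zero.1 hk)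
  intro a ha h2
  rw [← Ideal.toCotangent_eq_zero _ ⟨a, ha⟩]
  refine hinj ?_
  rw [map_zero, Ideal.mapCotangent_toCotangent, Ideal.toCotangent_eq_zero]
  exact h2

/-- (a)⇔(b): let k be an algebraically closed field, X and Y nonsingular varieties over k (integral,
separated, of finite type and smooth over k) with dim Y = dY and dim X = dY + n, and f : X → Y a
k-morphism. Then f is smooth of relative dimension n if and only if Ω_{X/Y} (the conormal sheaf of
the diagonal of f) is locally free of rank n. -/
theorem result (k : Type u) [Field k] [IsAlgClosed k]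
    {X Y : Scheme.{u}} (qX : X ⟶ Spec (CommRingCat.of k)) (qY : Y ⟶ Spec (CommRingCat.of k))
    [IsIntegral X] [IsSeparated qX] [LocallyOfFiniteType qX] [QuasiCompact qX] [Smooth qX]
    [IsIntegral Y] [IsSeparated qY] [LocallyOfFiniteType qY] [QuasiCompact qY] [Smooth qY]
    (f : X ⟶ Y) (hf : f ≫ qY = qX) (n dY : ℕ) (hY : topologicalKrullDim ↥Y = dY)
    (hX : topologicalKrullDim ↥X = ((dY + n : ℕ) : WithBot ℕ∞)) :
    SmoothOfRelativeDimension n f ↔ FlatMod.IsFinLocFreeOfRank n (Omega.sheaf f) := by
  haveI : LocallyOfFiniteType f := GrothLib.CotTangent.locallyOfFiniteType_of_over qX qY f hf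
  haveI : LocallyOfFinitePresentation f := GrothLib.CotTangent.locallyOfFinitePresentation_of_over qX qY f hf
  haveI : IsSeparated (f ≫ qY) := hf ▸ ‹_›
  haveI : IsSeparated f := IsSeparated.of_comp f qY
  haveI : IsLocallyNoetherian X := LocallyOfFiniteType.isLocallyNoetherian qX
  have hcoh : Coh.IsCoh (Omega.sheaf f) :=
    ⟨GrothLib.OmegaSheaf.isQuasicoherent_sheaf f, GrothLib.OmegaSheaf.isFT_sheaf f⟩
  constructor
  · intro hsm
    refine GrothLib.OmegaFree.isFinLocFreeOfRank_of_free_stalks hcoh n fun x => ?_
    obtain ⟨U, hU, V, hV, hxV, e, hstd⟩ := hsm.exists_isStandardSmoothOfRelativeDimension x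
    letI := (f.appLE U V e).hom.toAlgebra
    haveI : Algebra.IsStandardSmoothOfRelativeDimension n Γ(Y, U) Γ(X, V) := hstd
    haveI : Nonempty V := ⟨⟨x, hxV⟩⟩
    haveI : Algebra.IsStandardSmooth Γ(Y, U) Γ(X, V) :=
      Algebra.IsStandardSmoothOfRelativeDimension.isStandardSmooth n
    obtain ⟨ε⟩ := GrothLib.OmegaSheaf.nonempty_sections_equiv f hV hU e
    have hfr : Module.finrank Γ(X, V) (Ω[Γ(X, V)⁄Γ(Y, U)]) = n :=
      Module.finrank_eq_of_rank_eq (Algebra.IsStandardSmoothOfRelativeDimension.rank_kaehlerDifferential n)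
    let b := ((Module.finBasisOfFinrankEq _ _ hfr).map ε.symm)
    haveI := GrothLib.OmegaSheaf.isQuasicoherent_sheaf f
    letI := X.presheaf.algebra_section_stalk ⟨x, hxV⟩
    letI : Module Γ(X, V) ((Omega.sheaf f).presheaf.stalk x) := Module.compHom _ (X.presheaf.germ V x hxV).hom
    haveI : IsScalarTower Γ(X, V) (X.presheaf.stalk x) ((Omega.sheaf f).presheaf.stalk x) :=
      IsScalarTower.of_algebraMap_smul fun _ _ => rfl
    haveI := GrothLib.FlatFP.isLocalization_stalk_primeAt hV hxV
    obtain ⟨g, hg, -⟩ := GrothLib.FlatFP.isLocalizedModule_germ (F := Omega.sheaf f) hV hxV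
    haveI := hg
    exact ⟨b.ofIsLocalizedModule (X.presheaf.stalk x) (GrothLib.WeakAss.primeAt x hxV).primeCompl g⟩
  · intro hΩ
    suffices h : ∀ x : X, IsClosed ({x} : Set X) → Function.Injective (FixPt.cotangentMapAt f x (f x) rfl) by
      haveI := GrothLib.CotTangent.smooth_of_forall_injective qX qY f hf h
      exact GrothLib.CotTangent.smoothOfRelativeDimension_of_dim qX qY f hf n dY hY hX
    intro x hx
    have hy := GrothLib.CotTangent.isClosed_image qX qY f hf x hx
    rw [GrothLib.CotTangent.injective_cotangentMapAt_iff]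
    letI : Algebra (Y.presheaf.stalk (f x)) (X.presheaf.stalk x) := (f.stalkMap x).hom.toAlgebra
    letI : Algebra k (Y.presheaf.stalk (f x)) := (Spec.preimage (Y.fromSpecStalk (f x) ≫ qY)).hom.toAlgebra
    letI : Algebra k (X.presheaf.stalk x) := (Spec.preimage (X.fromSpecStalk x ≫ qX)).hom.toAlgebra
    haveI : IsScalarTower k (Y.presheaf.stalk (f x)) (X.presheaf.stalk x) := by
      refine IsScalarTower.of_algebraMap_eq' ?_
      show (Spec.preimage (X.fromSpecStalk x ≫ qX)).hom = _
      have : Spec.preimage (X.fromSpecStalk x ≫ qX) = Spec.preimage (Y.fromSpecStalk (f x) ≫ qY) ≫ f.stalkMap x := by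
        apply Spec.map_injective
        rw [Spec.map_comp, Spec.map_preimage, Spec.map_preimage, Scheme.SpecMap_stalkMap_fromSpecStalk_assoc, hf]
      rw [this]; rfl
    haveI := GrothLib.CotTangent.isRegularLocalRing_stalk qX x
    haveI := GrothLib.CotTangent.isRegularLocalRing_stalk qY (f x)
    haveI : IsLocalHom (algebraMap (Y.presheaf.stalk (f x)) (X.presheaf.stalk x)) := f.toLRSHom.prop x
    have hdx := GrothLib.GrpSchField.ringKrullDim_stalk_eq_of_isClosed qX isClosed_univ isOpen_univ
      (IrreducibleSpace.isIrreducible_univ X) (Set.mem_univ x) hx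
    have hdy := GrothLib.GrpSchField.ringKrullDim_stalk_eq_of_isClosed qY isClosed_univ isOpen_univ
      (IrreducibleSpace.isIrreducible_univ Y) (Set.mem_univ (f x)) hy
    rw [(Homeomorph.Set.univ _).isHomeomorph.topologicalKrullDim_eq] at hdx hdy
    refine injective_mapCotangent_of_finrank (k := k) _ _ (exists_residue_scalars qY (f x) hy)
      (exists_residue_scalars qX x hx) dY n (hdy.trans hY) (hdx.trans hX) ?_
    obtain ⟨b⟩ := GrothLib.OmegaFree.exists_basis_stalk hΩ x
    obtain ⟨ε⟩ := GrothLib.OmegaFree.nonempty_stalk_equiv f x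
    rw [Module.finrank_eq_card_basis ((b.map ε).baseChange (IsLocalRing.ResidueField (X.presheaf.stalk x))), Fintype.card_fin]

end Groth.Agent.S10937
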