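import Groth.Statements.S12422
import Groth.Agent.S10937
import Groth.Agent.S5005
import Groth.Agent.Lib.Rigidity.Smooth.Curve
import Groth.Agent.Lib.OX.OneDegLocus
import Groth.Agent.Lib.OmegaFree.Basic

universe v
open CategoryTheory CategoryTheory.Limits AlgebraicGeometry in
theorem GrothAux.S12422.mem_smoothLocus {K : Type v} [Field K] [PerfectField K] {X : Scheme.{v}}
    (f : X ⟶ Spec (CommRingCat.of K)) [LocallyOfFiniteType f] [LocallyOfFinitePresentation f] (x : X)
    (hreg : IsRegularLocalRing (X.presheaf.stalk x)) : x ∈ f.smoothLocus := by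
  obtain ⟨U, hU, hxU, -⟩ := exists_isAffineOpen_mem_and_subset (U := (⊤ : X.Opens)) (x := x) trivial
  have hle : U ≤ f ⁻¹ᵁ ⊤ := le_top
  rw [Scheme.Hom.mem_smoothLocus, formallySmooth_stalkMap_iff ⊤ (isAffineOpen_top _) U hU hle hxU]
  let A := Γ(X, U)
  let R := Γ(Spec (CommRingCat.of K), ⊤)
  have hR : IsField R :=
    MulEquiv.isField (Field.toIsField K) (Scheme.ΓSpecIso (CommRingCat.of K)).commRingCatIsoToRingEquiv.toMulEquiv
  letI : Field R := hR.toField
  haveI : PerfectField R :=
    PerfectField.of_ringEquiv (Scheme.ΓSpecIso (CommRingCat.of K)).symm.commRingCatIsoToRingEquiv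
  letI : Algebra R A := (f.appLE ⊤ U hle).hom.toAlgebra
  haveI : Algebra.FiniteType R A := HasRingHomProperty.appLE @LocallyOfFiniteType f inferInstance
      ⟨⊤, isAffineOpen_top _⟩ ⟨U, hU⟩ hle
  let q := (hU.primeIdealOf ⟨x, hxU⟩).asIdeal
  letI := TopCat.Presheaf.algebra_section_stalk X.presheaf (⟨x, hxU⟩ : U)
  haveI := hU.isLocalization_stalk ⟨x, hxU⟩
  haveI : IsRegularLocalRing (X.presheaf.stalk x) := hreg
  haveI : IsRegularLocalRing (Localization.AtPrime q) := IsRegularLocalRing.of_ringEquiv
    (IsLocalization.algEquiv q.primeCompl (X.presheaf.stalk x) (Localization.AtPrime q)).toRingEquiv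
  exact GrothLib.LocProp.isSmoothAt_of_isRegularLocalRing_of_perfectField q

open CategoryTheory CategoryTheory.Limits AlgebraicGeometry in
theorem GrothAux.S12422.nonempty_iso_sheaf {X Y : Scheme.{v}} (f : X ⟶ Y) [QuasiSeparated f]
    (Ω : X.Modules) (d : OmegaSh.Der f Ω) (hd : OmegaSh.IsUniversal d) :
    Nonempty (Ω ≅ Omega.sheaf f) := by
  have hd' := Groth.Agent.S5005.result f
  obtain ⟨α, hα, -⟩ := hd _ (OmegaSh.dOmega f)
  obtain ⟨β, hβ, -⟩ := hd' _ d
  refine ⟨⟨α, β, ?_, ?_⟩⟩
  · obtain ⟨γ, -, hu⟩ := hd _ d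
    refine (hu _ ?_).trans (hu (𝟙 Ω) ?_).symm
    · refine PresheafOfModules.Derivation.ext (funext fun U => AddMonoidHom.ext fun s => ?_)
      have h1 := congrArg (fun t => t.d s) hα
      have h2 := congrArg (fun t => t.d s) hβ
      exact (congrArg _ h1).trans h2
    · rfl
  · obtain ⟨γ, -, hu⟩ := hd' _ (OmegaSh.dOmega f)
    refine (hu _ ?_).trans (hu (𝟙 _) ?_).symm
    · refine PresheafOfModules.Derivation.ext (funext fun U => AddMonoidHom.ext fun s => ?_)
      have h1 := congrArg (fun t => t.d s) hα
      have h2 := congrArg (fun t => t.d s) hβ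
      exact (congrArg _ h2).trans h1
    · rfl

set_option autoImplicit false
set_option linter.all false
universe u
open CategoryTheory CategoryTheory.Limits AlgebraicGeometry
open NonsingVar

namespace Groth.Agent.S12422

/-- Let k be an algebraically closed field, X an irreducible scheme which is separated and of finite
type over k, n = dim X, and (Ω, d) a sheaf of relative differentials of X over k, i.e. d : O_X → Ω a
universal k-derivation. Then Ω is locally free of rank n if and only if every local ring of X is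
regular (X is a nonsingular variety over k). -/
theorem result (k : Type u) [Field k] [IsAlgClosed k] (n : ℕ)
    (X : Scheme.{u}) [X.Over (Spec (CommRingCat.of k))] [IrreducibleSpace ↥X]
    [IsSeparated (X ↘ (Spec (CommRingCat.of k)))] [LocallyOfFiniteType (X ↘ (Spec (CommRingCat.of k)))]
    [QuasiCompact (X ↘ (Spec (CommRingCat.of k)))]
    (hn : topologicalKrullDim ↥X = (n : WithBot ℕ∞))
    (Ω : X.Modules) (d : OmegaSh.Der (X ↘ (Spec (CommRingCat.of k))) Ω) (hd : OmegaSh.IsUniversal d) :
    FlatMod.IsFinLocFreeOfRank n Ω ↔ ∀ x : ↥X, IsRegularLocalRing ↑(X.presheaf.stalk x) := by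
  obtain ⟨q, hq⟩ : ∃ q, q = (X ↘ Spec (CommRingCat.of k)) := ⟨_, rfl⟩
  haveI : LocallyOfFiniteType q := by rw [hq]; infer_instance
  haveI : IsSeparated q := by rw [hq]; infer_instance
  haveI : QuasiCompact q := by rw [hq]; infer_instance
  haveI : IsLocallyNoetherian X := LocallyOfFiniteType.isLocallyNoetherian q
  haveI : LocallyOfFinitePresentation q := inferInstance
  let Y := Spec (CommRingCat.of k)
  haveI : IsIntegral Y := inferInstance
  have hY : topologicalKrullDim Y = ((0 : ℕ) : WithBot ℕ∞) := by
    rw [show topologicalKrullDim Y = ringKrullDim k from PrimeSpectrum.topologicalKrullDim_eq_ringKrullDim k,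
      ringKrullDim_eq_zero_of_isField (Field.toIsField k)]
    rfl
  subst hq
  obtain ⟨e⟩ := GrothAux.S12422.nonempty_iso_sheaf _ Ω d hd
  constructor
  · intro h
    have hΩ := GrothLib.OX.isFinLocFreeOfRank_of_iso e h
    suffices hcl : ∀ x : X, IsClosed ({x} : Set X) → IsRegularLocalRing (X.presheaf.stalk x) by
      suffices hs : Smooth (X ↘ Spec (CommRingCat.of k)) by
        exact fun x => @GrothLib.CotTangent.isRegularLocalRing_stalk _ _ _ _ hs x
      haveI : JacobsonSpace X := LocallyOfFiniteType.jacobsonSpace (X ↘ Spec (CommRingCat.of k))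
      rw [← Scheme.Hom.smoothLocus_eq_top_iff]
      refine top_le_iff.1 fun z _ => ?_
      by_contra hz
      obtain ⟨y, hy, hyc⟩ := nonempty_inter_closedPoints
        (⟨z, hz⟩ : (((X ↘ Spec (CommRingCat.of k)).smoothLocus : Set X)ᶜ).Nonempty)
        (X ↘ Spec (CommRingCat.of k)).smoothLocus.2.isClosed_compl.isLocallyClosed
      exact hy (GrothAux.S12422.mem_smoothLocus _ y (hcl y hyc))
    intro x hx
    obtain ⟨f, hf⟩ : ∃ f, f = (X ↘ Spec (CommRingCat.of k)) := ⟨_, rfl⟩
    subst hf
    let f := X ↘ Spec (CommRingCat.of k)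
    let y := f x
    have hy : IsClosed ({y} : Set Y) := f.closePoints_subset_preimage_closedPoints hx
    letI : Algebra (Y.presheaf.stalk y) (X.presheaf.stalk x) := (f.stalkMap x).hom.toAlgebra
    letI : Algebra k (Y.presheaf.stalk y) := (Spec.preimage (Y.fromSpecStalk y ≫ 𝟙 Y)).hom.toAlgebra
    letI : Algebra k (X.presheaf.stalk x) := (Spec.preimage (X.fromSpecStalk x ≫ f)).hom.toAlgebra
    haveI : IsScalarTower k (Y.presheaf.stalk y) (X.presheaf.stalk x) := by
      refine IsScalarTower.of_algebraMap_eq' ?_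
      show (Spec.preimage (X.fromSpecStalk x ≫ f)).hom = _
      have : Spec.preimage (X.fromSpecStalk x ≫ f) = Spec.preimage (Y.fromSpecStalk y ≫ 𝟙 Y) ≫ f.stalkMap x := by
        apply Spec.map_injective
        rw [Spec.map_comp, Spec.map_preimage, Spec.map_preimage, Scheme.SpecMap_stalkMap_fromSpecStalk_assoc,
          Category.comp_id]
      rw [this]; rfl
    haveI : IsLocalHom (algebraMap (Y.presheaf.stalk y) (X.presheaf.stalk x)) := f.toLRSHom.prop x
    haveI := GrothLib.CotTangent.isRegularLocalRing_stalk (𝟙 Y) y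
    have hdy := GrothLib.GrpSchField.ringKrullDim_stalk_eq_of_isClosed (𝟙 Y) isClosed_univ isOpen_univ
      (IrreducibleSpace.isIrreducible_univ Y) (Set.mem_univ y) hy
    have hdx := GrothLib.GrpSchField.ringKrullDim_stalk_eq_of_isClosed f isClosed_univ isOpen_univ
      (IrreducibleSpace.isIrreducible_univ X) (Set.mem_univ x) hx
    rw [(Homeomorph.Set.univ _).isHomeomorph.topologicalKrullDim_eq] at hdx hdy
    have hA := Groth.Agent.S10937.exists_residue_scalars (𝟙 Y) y hy
    have hB := Groth.Agent.S10937.exists_residue_scalars f x hx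
    have hA0 := Groth.Agent.S10937.finrank_cotangent_of_bijective hA 0 (hdy.trans hY)
    open IsLocalRing in
    have hle : maximalIdeal (Y.presheaf.stalk y) ≤ Ideal.comap
        (IsScalarTower.toAlgHom k (Y.presheaf.stalk y) (X.presheaf.stalk x)) (maximalIdeal (X.presheaf.stalk x)) :=
      fun a ha => map_nonunit (algebraMap (Y.presheaf.stalk y) (X.presheaf.stalk x)) a ha
    have key := Groth.Agent.S14437.result k (Y.presheaf.stalk y) (X.presheaf.stalk x) hle hA hB
    obtain ⟨b⟩ := GrothLib.OmegaFree.exists_basis_stalk hΩ x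
    obtain ⟨ε⟩ := GrothLib.OmegaFree.nonempty_stalk_equiv f x
    rw [Module.finrank_eq_card_basis ((b.map ε).baseChange (IsLocalRing.ResidueField (X.presheaf.stalk x))),
      Fintype.card_fin] at key
    haveI : Module.Finite k (IsLocalRing.ResidueField (Y.presheaf.stalk y)) :=
      Module.Finite.equiv (LinearEquiv.ofBijective (Algebra.linearMap k (IsLocalRing.ResidueField (Y.presheaf.stalk y))) hA)
    haveI := Groth.Agent.S10937.isScalarTower_cotangent k (Y.presheaf.stalk y)
    haveI : Module.Finite k (IsLocalRing.CotangentSpace (Y.presheaf.stalk y)) :=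
      Module.Finite.trans (IsLocalRing.ResidueField (Y.presheaf.stalk y)) _
    have hr := LinearMap.finrank_range_le (Ideal.mapCotangent (IsLocalRing.maximalIdeal (Y.presheaf.stalk y))
      (IsLocalRing.maximalIdeal (X.presheaf.stalk x))
        (IsScalarTower.toAlgHom k (Y.presheaf.stalk y) (X.presheaf.stalk x)) hle)
    rw [show Module.finrank k (IsLocalRing.maximalIdeal (Y.presheaf.stalk y)).Cotangent = 0 from hA0,
      Nat.le_zero] at hr
    rw [hr, add_zero] at key
    haveI := Groth.Agent.S10937.isScalarTower_cotangent k (X.presheaf.stalk x)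
    have h1 : Module.finrank k (IsLocalRing.ResidueField (X.presheaf.stalk x)) = 1 :=
      (LinearEquiv.ofBijective (Algebra.linearMap k (IsLocalRing.ResidueField (X.presheaf.stalk x))) hB).finrank_eq.symm.trans (Module.finrank_self k)
    rw [← Module.finrank_mul_finrank k (IsLocalRing.ResidueField (X.presheaf.stalk x))
      (IsLocalRing.CotangentSpace (X.presheaf.stalk x)), h1, one_mul,
      ← IsLocalRing.spanFinrank_maximalIdeal_eq_finrank_cotangentSpace] at key
    refine IsRegularLocalRing.of_spanFinrank_maximalIdeal_le (R := X.presheaf.stalk x) ?_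
    rw [← key, hdx.trans hn]
  · intro h
    haveI : Smooth (X ↘ Spec (CommRingCat.of k)) := GrothLib.Rigidity.smooth_of_isRegular _ h
    haveI : ∀ x : X, _root_.IsReduced (X.presheaf.stalk x) := fun x => by
      haveI := h x
      haveI := GrothLib.CMFree.isDomain_of_isRegularLocalRing (X.presheaf.stalk x)
      infer_instance
    haveI : IsReduced X := isReduced_of_isReduced_stalk X
    haveI : IsIntegral X := isIntegral_of_irreducibleSpace_of_isReduced X
    have hn' : topologicalKrullDim X = ((0 + n : ℕ) : WithBot ℕ∞) := by rw [hn, zero_add]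
    refine GrothLib.OX.isFinLocFreeOfRank_of_iso e.symm
      ((Groth.Agent.S10937.result k (X ↘ Spec (CommRingCat.of k)) (𝟙 Y) _ (Category.comp_id _) n 0 hY hn').1 ?_)
    exact GrothLib.CotTangent.smoothOfRelativeDimension_of_dim (X ↘ Spec (CommRingCat.of k)) (𝟙 Y) _
      (Category.comp_id _) n 0 hY hn'

end Groth.Agent.S12422
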