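import Groth.Statements.S9706
import Groth.Agent.Lib.ProjQ8.Bundle

set_option autoImplicit false
set_option backward.isDefEq.respectTransparency false
universe u
open CategoryTheory CategoryTheory.Limits AlgebraicGeometry
open Mor

namespace Groth.Agent.S9706

/-- Let S be quasi-compact and quasi-separated and f : X ⟶ S quasi-projective. Then f factors as an open
immersion X ⟶ X' followed by a projective morphism X' ⟶ S. Here X' ⟶ S projective means isomorphic
over S to the relative Proj of a quasi-coherent graded algebra generated by its finite-type
degree-one part; the published definition uses closed subschemes of P(E) with E of finite type, an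
equivalent condition. -/
theorem result {X S : Scheme.{u}} [CompactSpace ↥S]
    [QuasiSeparatedSpace ↥S] (f : X ⟶ S) (hf : RelProj.IsQuasiProjective f) :
    ∃ (X' : Scheme.{u}) (j : X ⟶ X') (g : X' ⟶ S), IsOpenImmersion j ∧ RelProj.IsProjective g ∧ j ≫ g = f := by
    obtain ⟨h1, h2, L, hL⟩ := hf
    haveI := h1; haveI := h2
    have hinv : PicF.IsInvertible L := GrothLib.Ample.isInvertible_of_isRelAmple hL
    obtain ⟨n, hn⟩ := GrothLib.VA.eventually_isRelVeryAmple f hinv hinv hL
    obtain ⟨B, φ, r, θ, hft, hr, hi⟩ := GrothLib.VA.exists_lift_finiteType f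
      (GrothLib.Ample.isInvertible_tensorMod (GrothLib.Ample.isInvertible_tensorPow hinv n) hinv) (hn n le_rfl)
    haveI := hi
    haveI := GrothLib.RelProjK.isSeparated_of_isRelProj B.isProj
    haveI : QuasiCompact (r ≫ B.p) := by rw [hr.comp]; infer_instance
    haveI : QuasiCompact r := QuasiCompact.of_comp r B.p
    exact ⟨r.image, r.toImage, r.imageι ≫ B.p, inferInstance,
      GrothLib.VA.isProjective_of_isClosedImmersion_bundle B.isQCoh hft B.isSym B.isProj r.imageι,
      by rw [← Category.assoc, Scheme.Hom.toImage_imageι, hr.comp]⟩

end Groth.Agent.S9706
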