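import Groth.Statements.S9708
import Groth.Agent.Lib.ProjQ8.Ops
import Groth.Agent.S12473

set_option autoImplicit false
set_option backward.isDefEq.respectTransparency false
universe u
open CategoryTheory CategoryTheory.Limits AlgebraicGeometry
open Mor

namespace Groth.Agent.S9708

/-- Let S be quasi-compact and quasi-separated and let f : X ⟶ Y and g : Y ⟶ S be projective. Then f ≫ g
is projective. Here projective means that the source is isomorphic over the target to the relative
Proj of a quasi-coherent graded algebra generated by its finite-type degree-one part; the published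
definition uses closed subschemes of P(E) with E of finite type, an equivalent condition. -/
theorem result {X Y S : Scheme.{u}} [CompactSpace ↥S] [QuasiSeparatedSpace ↥S]
    (f : X ⟶ Y) (g : Y ⟶ S) (hf : RelProj.IsProjective f) (hg : RelProj.IsProjective g) :
    RelProj.IsProjective (f ≫ g) := by
    haveI := GrothLib.ProjAlg.isProper_of_isProjective hf
    haveI := GrothLib.ProjAlg.isProper_of_isProjective hg
    obtain ⟨E, L, φ, hE, -, hL, hp⟩ := GrothLib.VA.exists_pieces_of_isProjective hf
    obtain ⟨E', K, φ', hE', -, hK, hp'⟩ := GrothLib.VA.exists_pieces_of_isProjective hg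
    obtain ⟨n, -, hn⟩ := Groth.Agent.S12473.result f g L hL (GrothLib.VA.isRelVeryAmple_iff.mpr ⟨E, φ, hE, hp⟩)
      K hK (GrothLib.VA.isRelVeryAmple_iff.mpr ⟨E', φ', hE', hp'⟩)
    exact GrothLib.VA.isProjective_of_isRelVeryAmple (f ≫ g)
      (GrothLib.Ample.isInvertible_tensorMod hL (GrothLib.Ample.isInvertible_pullback f
        (GrothLib.Ample.isInvertible_tensorPow hK n))) (hn n le_rfl)

end Groth.Agent.S9708
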