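import Groth.Statements.S18995
-- import your own Groth.Agent.* helpers here
import Groth.Agent.Lib.OX.OneDegLocus
import Groth.Agent.Lib.HilbStrat10.Transfer

set_option autoImplicit false
universe u
open CategoryTheory AlgebraicGeometry
open ProjBd

open CategoryTheory CategoryTheory.Limits AlgebraicGeometry GrothLib

namespace GrothAux.S18995

theorem coh {T B C X : Scheme.{u}} (hB : T ⟶ B) (c : B ⟶ C) (π : C ⟶ X) {πB : B ⟶ X} (hc : c ≫ π = πB)
    {g : T ⟶ X} (hg : hB ≫ πB = g) (hg' : (hB ≫ c) ≫ π = g) (E : X.Modules) :
    (Scheme.Modules.pullbackCongr hg').inv.app E ≫ (Scheme.Modules.pullbackComp (hB ≫ c) π).inv.app E ≫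
      (Scheme.Modules.pullbackComp hB c).inv.app _ ≫
      (Scheme.Modules.pullback hB).map ((Scheme.Modules.pullbackComp c π).hom.app E ≫ (Scheme.Modules.pullbackCongr hc).hom.app E) =
    (Scheme.Modules.pullbackCongr hg).inv.app E ≫ (Scheme.Modules.pullbackComp hB πB).inv.app E := by
  subst hc; subst hg
  have h0 := congr_app (Scheme.Modules.pseudofunctor_associativity hB c π) E
  simp [Scheme.Modules.pullbackCongr] at h0 ⊢
  rw [← reassoc_of% h0]
  simp

theorem stalk_basis {X : Scheme.{u}} {L : X.Modules} (hL : FlatMod.IsFinLocFreeOfRank 1 L) (x : X) :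
    Nonempty (Module.Basis (Fin 1) (X.presheaf.stalk x) ((OX.stalk x).obj L)) := by
  obtain ⟨D, e, hxD, he⟩ := FinCov.exists_frame_nhd_of_rank hL x
  exact Euler.stalk_basis_of_frame he hxD

/-- On a scheme with a single point whose stalk is a field, a map into an invertible module is zero or epi. -/
theorem eq_zero_or_epi {T : Scheme.{u}} [Subsingleton T] (hT : ∀ x : T, IsField (T.presheaf.stalk x)) {M L : T.Modules}
    (hL : FlatMod.IsFinLocFreeOfRank 1 L) (θ : M ⟶ L) : θ = 0 ∨ Epi θ := by
  by_cases h : ∀ x, (OX.stalk x).map θ = 0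
  · exact Or.inl ((OX.eq_zero_iff θ).2 h)
  · push Not at h
    obtain ⟨x, hx⟩ := h
    refine Or.inr ((OX.epi_iff θ).2 fun y => ?_)
    obtain rfl : x = y := Subsingleton.elim x y
    obtain ⟨b⟩ := stalk_basis hL x
    rw [ModuleCat.epi_iff_surjective]
    intro z
    have hne : ∃ m, ((OX.stalk x).map θ).hom m ≠ 0 := by
      by_contra h'
      push Not at h'
      exact hx (ModuleCat.hom_ext (LinearMap.ext h'))
    obtain ⟨m, hm⟩ := hne
    have hc : b.repr (((OX.stalk x).map θ).hom m) 0 ≠ 0 := by
      intro h0
      apply hm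
      apply b.repr.injective
      refine Finsupp.ext fun i => ?_
      fin_cases i
      simpa using h0
    obtain ⟨a, ha⟩ := (hT x).mul_inv_cancel hc
    refine ⟨(b.repr z 0 * a) • m, ?_⟩
    apply b.repr.injective
    refine Finsupp.ext fun i => ?_
    fin_cases i
    simp only [map_smul, Finsupp.smul_apply, smul_eq_mul, Fin.zero_eta, Fin.isValue]
    rw [mul_assoc, mul_comm a, ha, mul_one]

/-- A map to an invertible module is epi when it is so at every point. -/
theorem epi_of_point {X : Scheme.{u}} {M P : X.Modules} (hP : FlatMod.IsFinLocFreeOfRank 1 P) (θ : M ⟶ P)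
    (h : ∀ t : X, Epi ((Scheme.Modules.pullback (X.fromSpecResidueField t)).map θ)) : Epi θ := by
  suffices hz : IsZero (cokernel θ) from Preadditive.epi_of_isZero_cokernel θ hz
  rw [OX.isZero_iff]
  intro t
  let q := X.fromSpecResidueField t
  haveI := (Scheme.Modules.pullbackPushforwardAdjunction q).leftAdjoint_preservesColimits
  haveI := h t
  have hz0 : (Scheme.Modules.pullback q).map (cokernel.π θ) = 0 := by
    rw [← cancel_epi ((Scheme.Modules.pullback q).map θ), ← Functor.map_comp, cokernel.condition, comp_zero]
    exact Functor.map_zero _ _ _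
  haveI : Epi ((Scheme.Modules.pullback q).map (cokernel.π θ)) := inferInstance
  have hzero : IsZero ((Scheme.Modules.pullback q).obj (cokernel θ)) := IsZero.of_epi_eq_zero _ hz0
  let w : Spec (X.residueField t) := IsLocalRing.closedPoint _
  have hw : q w = t := Scheme.fromSpecResidueField_apply t w
  rw [← hw]
  let φ := (q.stalkMap w).hom
  let _ := φ.toAlgebra
  haveI : IsLocalHom (algebraMap (X.presheaf.stalk (q w)) ((Spec (X.residueField t)).presheaf.stalk w)) :=
    inferInstanceAs (IsLocalHom (q.stalkMap w).hom)
  obtain ⟨b⟩ := stalk_basis hP (q w)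
  haveI : Module.Finite (X.presheaf.stalk (q w)) ((OX.stalk (q w)).obj P) := Module.Finite.of_basis b
  haveI : Module.Finite (X.presheaf.stalk (q w)) ((OX.stalk (q w)).obj (cokernel θ)) :=
    Module.Finite.of_surjective ((OX.stalk (q w)).map (cokernel.π θ)).hom
      ((ModuleCat.epi_iff_surjective _).1 ((OX.epi_iff (cokernel.π θ)).1 inferInstance (q w)))
  have e : ((OX.stalk w).obj ((Scheme.Modules.pullback q).obj (cokernel θ))) ≅
      (ModuleCat.extendScalars φ).obj ((OX.stalk (q w)).obj (cokernel θ)) :=
    (QCoh.stalkPullbackIso q w).app (cokernel θ)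
  haveI : Subsingleton (TensorProduct (X.presheaf.stalk (q w)) ((Spec (X.residueField t)).presheaf.stalk w)
      ((OX.stalk (q w)).obj (cokernel θ))) :=
    ModuleCat.subsingleton_of_isZero (((OX.stalk w).map_isZero hzero).of_iso e.symm)
  haveI : Subsingleton ((OX.stalk (q w)).obj (cokernel θ)) :=
    (QCoh.subsingleton_tensor_iff (R := X.presheaf.stalk (q w)) (S := (Spec (X.residueField t)).presheaf.stalk w)).1
      inferInstance
  exact ModuleCat.isZero_of_subsingleton _

theorem isField_stalk_spec {K : Type u} [Field K] (x : Spec (CommRingCat.of K)) :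
    IsField ((Spec (CommRingCat.of K)).presheaf.stalk x) := by
  let p : PrimeSpectrum K := x
  have hle : p.asIdeal.primeCompl ≤ IsUnit.submonoid K := fun a ha => by
    refine isUnit_iff_ne_zero.2 fun h0 => ha ?_
    rw [h0]
    exact Ideal.zero_mem _
  exact MulEquiv.isField (MulEquiv.isField (Field.toIsField K)
      (IsLocalization.atUnits K p.asIdeal.primeCompl hle).toRingEquiv.toMulEquiv.symm)
    (Spec.stalkIso (CommRingCat.of K) p).commRingCatIsoToRingEquiv.toMulEquiv

end GrothAux.S18995

namespace Groth.Agent.S18995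

/-- Let X be a scheme and 0 → A → E → B → 0 a short exact sequence of finite locally free O_X-modules.
Let (π : P → X, O(1), q) be the projective bundle of rank-one quotients of E and (π_B : P_B → X,
O_B(1), q_B) that of B, each given through its universal property, and let c : P_B → P be the
morphism over X together with an isomorphism c^*O(1) ≅ O_B(1) identifying c^*q with π_B^*E → π_B^*B
→ O_B(1); thus c is the closed sub-bundle P(B) ⊂ P(E). Then for every open subset W of P that does
not meet the image of c, the restriction to W of the composite π^*A → π^*E → O(1) is an epimorphism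
of O_W-modules. Consequently W carries an invertible quotient of the pull-back of A and hence a
morphism to P(A) over X, the projection away from the sub-bundle. (In the convention where a
projective bundle parametrises lines rather than rank-one quotients, this is the statement that for
an exact sequence 0 → F → E → G → 0 of locally free sheaves the tautological line sub-bundle of E
restricted to the complement of P(F) in P(E) maps isomorphically onto a line sub-bundle of the
pull-back of G, giving the canonical morphism from that complement to P(G); A, E, B here are the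
duals of G, E, F there. The published statement takes X of finite type over a field; the row is
stated for an arbitrary scheme X, which the argument allows.) -/
theorem result
    (X P PB : Scheme.{u}) (S : ShortComplex X.Modules) (hS : S.ShortExact)
    (hA : FlatMod.IsFinLocFree S.X₁) (hE : FlatMod.IsFinLocFree S.X₂) (hB : FlatMod.IsFinLocFree S.X₃)
    (π : P ⟶ X) (O1 : P.Modules) (q : (Scheme.Modules.pullback π).obj S.X₂ ⟶ O1)
    (hP : KRR.IsProjBundle π S.X₂ O1 q)
    (πB : PB ⟶ X) (O1B : PB.Modules) (qB : (Scheme.Modules.pullback πB).obj S.X₃ ⟶ O1B)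
    (hPB : KRR.IsProjBundle πB S.X₃ O1B qB)
    (c : PB ⟶ P) (hc : c ≫ π = πB) (ec : (Scheme.Modules.pullback c).obj O1 ≅ O1B)
    (hcq : (Scheme.Modules.pullbackCongr hc).inv.app S.X₂ ≫ (Scheme.Modules.pullbackComp c π).inv.app S.X₂ ≫
      (Scheme.Modules.pullback c).map q ≫ ec.hom = (Scheme.Modules.pullback πB).map S.g ≫ qB)
    (W : P.Opens) (hW : Disjoint (W : Set P) (Set.range c.base)) :
    Epi ((Scheme.Modules.pullback W.ι).map ((Scheme.Modules.pullback π).map S.f ≫ q)) := by
  open GrothAux.S18995 in
  have hO := GrothLib.OX.isFinLocFreeOfRank_pullback W.ι hP.invertible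
  refine epi_of_point hO _ fun t => ?_
  let q0 := (W : Scheme.{u}).fromSpecResidueField t
  let x := q0 ≫ W.ι
  suffices hx : Epi ((Scheme.Modules.pullback x).map ((Scheme.Modules.pullback π).map S.f ≫ q)) from
    ((MorphismProperty.epimorphisms _).arrow_mk_iso_iff
      (Arrow.isoMk ((Scheme.Modules.pullbackComp q0 W.ι).app _) ((Scheme.Modules.pullbackComp q0 W.ι).app _)
        ((Scheme.Modules.pullbackComp q0 W.ι).hom.naturality _).symm)).2 hx
  refine (eq_zero_or_epi (fun w => isField_stalk_spec (K := (W : Scheme.{u}).residueField t) w)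
    (GrothLib.OX.isFinLocFreeOfRank_pullback x hP.invertible) _).resolve_left fun hzero => ?_
  let L := (Scheme.Modules.pullback x).obj O1
  let s : (Scheme.Modules.pullback (x ≫ π)).obj S.X₂ ⟶ L :=
    (Scheme.Modules.pullbackComp x π).inv.app S.X₂ ≫ (Scheme.Modules.pullback x).map q
  haveI := hP.epi
  haveI := (Scheme.Modules.pullbackPushforwardAdjunction x).leftAdjoint_preservesColimits
  haveI := (Scheme.Modules.pullbackPushforwardAdjunction (x ≫ π)).leftAdjoint_preservesColimits
  haveI : Epi ((Scheme.Modules.pullback x).map q) := inferInstance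
  haveI : Epi s := epi_comp _ _
  have hfs : (Scheme.Modules.pullback (x ≫ π)).map S.f ≫ s = 0 := by
    have h1 : (Scheme.Modules.pullback (x ≫ π)).map S.f ≫ s = (Scheme.Modules.pullbackComp x π).inv.app S.X₁ ≫
        (Scheme.Modules.pullback x).map ((Scheme.Modules.pullback π).map S.f ≫ q) := by
      simp [s, Functor.map_comp, NatTrans.naturality_assoc]
    rw [h1, hzero, comp_zero]
  haveI := hS.epi_g
  haveI : (Scheme.Modules.pullback (x ≫ π)).Additive := Functor.additive_of_preserves_binary_products _
  have hsf : (S.map (Scheme.Modules.pullback (x ≫ π))).Exact :=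
    hS.exact.map_of_epi_of_preservesCokernel _ inferInstance inferInstance
  haveI : Epi (S.map (Scheme.Modules.pullback (x ≫ π))).g := inferInstanceAs (Epi ((Scheme.Modules.pullback (x ≫ π)).map S.g))
  let sB : (Scheme.Modules.pullback (x ≫ π)).obj S.X₃ ⟶ L := hsf.desc s hfs
  have hsB : (Scheme.Modules.pullback (x ≫ π)).map S.g ≫ sB = s := hsf.g_desc s hfs
  have hL : FlatMod.IsFinLocFreeOfRank 1 L := GrothLib.OX.isFinLocFreeOfRank_pullback x hP.invertible
  obtain ⟨b, ⟨hb, e, he⟩, -⟩ := hPB.univ _ (x ≫ π) L hL sB (epi_of_epi_fac hsB)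
  have hbc : (b ≫ c) ≫ π = x ≫ π := by rw [Category.assoc, hc, hb]
  have key : b ≫ c = x := by
    refine (hP.univ _ (x ≫ π) L hL s inferInstance).unique ?_ ⟨rfl, Iso.refl _, by simp [s, Scheme.Modules.pullbackCongr]⟩
    refine ⟨hbc, (Scheme.Modules.pullbackComp b c).symm.app O1 ≪≫ (Scheme.Modules.pullback b).mapIso ec ≪≫ e, ?_⟩
    rw [← hsB, ← he, NatTrans.naturality_assoc, NatTrans.naturality_assoc, ← reassoc_of% coh b c π hc hb hbc]
    simp only [Iso.trans_hom, Iso.app_hom, Iso.symm_hom, Functor.mapIso_hom, Category.assoc,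
      NatTrans.naturality_assoc, Functor.map_comp, Functor.comp_map]
    congr 3
    simp only [← Functor.map_comp_assoc, Category.assoc]
    rw [← hcq]
    simp
  obtain w : Spec ((W : Scheme.{u}).residueField t) := IsLocalRing.closedPoint _
  refine Set.disjoint_left.1 hW (show x.base w ∈ (W : Set P) from (q0.base w).2) ⟨b.base w, ?_⟩
  rw [← key]
  rfl

end Groth.Agent.S18995
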