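import Groth.Statements.S5732
import Groth.Agent.Lib.VA.VeryAmple

set_option autoImplicit false
universe u
open CategoryTheory CategoryTheory.Limits AlgebraicGeometry TopologicalSpace Opposite
open scoped HomogeneousIdeal
open EGA2

namespace Groth.Agent.S5732

/-- Let E be a quasi-coherent O_Y-module with graded symmetric algebra 𝒮 (j : E → 𝒮 landing in degree
one), p : P = P(E) → Y its projective bundle with its charts over affine opens, and O_P(1) the
fundamental sheaf with its chart identifications. Let φ : E → p_*O_P(1) be the canonical map,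
characterised as follows: for an affine open U and a section e of E over U, the section φ(e) of
O_P(1) over p⁻¹(U), read on the chart Proj(𝒮(U)), has value j(e)/1 at every point. Then the morphism
p^*E → O_P(1) adjoint to φ is an epimorphism. -/
theorem result {Y P : Scheme.{u}} (E : Y.Modules) (hE : Coh.IsQCoh E)
    (𝒮 : RelProj.QCGrAlg Y) (j : E ⟶ 𝒮.toModule) (hj : RelProj.IsGrSymAlg E 𝒮 j) (p : P ⟶ Y)
    (chart : ∀ (U : Y.Opens) (hU : IsAffineOpen U), ((p ⁻¹ᵁ U : P.Opens) : Scheme.{u}) ≅ Proj (𝒮.deg U hU))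
    (hP : RelProj.IsRelProj 𝒮 p chart) (O1 : P.Modules)
    (lam : ∀ (U : Y.Opens) (hU : IsAffineOpen U),
      O1 ⟶ (Scheme.Modules.pushforward (RelProj.emb p chart U hU)).obj (GrTwist.twist (𝒮.deg U hU) 1))
    (hO1 : RelProj.IsRelTwist 𝒮 p chart 1 O1 lam)
    (φ : E ⟶ (Scheme.Modules.pushforward p).obj O1)
    (hφ : ∀ (U : Y.Opens) (hU : IsAffineOpen U) (e : Γ(E, U))
      (y : ↥(RelProj.emb p chart U hU ⁻¹ᵁ (p ⁻¹ᵁ U))),
      GrTwist.val (V := RelProj.emb p chart U hU ⁻¹ᵁ (p ⁻¹ᵁ U))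
          ((lam U hU).app (p ⁻¹ᵁ U) ((φ.app U) e)) y =
        algebraMap (𝒮.presheaf.obj (op U)) (GrTwist.Loc (𝒮.deg U hU) y.1)
          ((j.app U) e : 𝒮.presheaf.obj (op U))) :
    Epi (((Scheme.Modules.pullbackPushforwardAdjunction p).homEquiv E O1).symm φ) := by
  let B : GrothLib.VA.Bdl Y := ⟨E, hE, 𝒮, j, hj, P, p, chart, hP, O1, lam, hO1, φ, GrothLib.VA.isCanon_of_forall hφ⟩
  refine GrothLib.VA.epi_symm_of_isGenBy p φ fun x => ?_
  obtain ⟨U, hU, hx, -⟩ := exists_isAffineOpen_mem_and_subset (Opens.mem_top (p x))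
  obtain ⟨e, he⟩ := GrothLib.VA.exists_pc (chart := chart) hE hj ⟨U, hU⟩ hx
  exact ⟨U, hU, e, B.piece ⟨U, hU⟩ e, GrothLib.VA.pc_le _ e, he, B.isGen_img ⟨U, hU⟩ e⟩

end Groth.Agent.S5732
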