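import Groth.Statements.S5733
import Groth.Agent.Lib.VA.VeryAmple

set_option autoImplicit false
universe u
open CategoryTheory CategoryTheory.Limits AlgebraicGeometry TopologicalSpace Opposite
open scoped HomogeneousIdeal
open EGA2

namespace Groth.Agent.S5733

/-- Let E be a quasi-coherent O_Y-module with graded symmetric algebra 𝒮 (j : E → 𝒮 in degree one), p :
P = P(E) → Y its projective bundle with its charts over affine opens, O_P(1) the fundamental sheaf
with its chart identifications, and φ : E → p_*O_P(1) the canonical map (on an affine open U, the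
section φ(e) read on the chart Proj(𝒮(U)) has value j(e)/1 at every point), with adjoint a : p^*E →
O_P(1). Then Y-morphisms into P(E) correspond to invertible quotients of the inverse image of E: for
every morphism g : X → Y, every invertible O_X-module L and every epimorphism s : g^*E → L there is
exactly one morphism r : X → P over Y (r ≫ p = g) admitting an isomorphism τ : r^*O_P(1) ≅ L which
carries r^*(a), composed with the canonical identification g^*E ≅ r^*p^*E, to s. -/
theorem result {Y P : Scheme.{u}} (E : Y.Modules) (hE : Coh.IsQCoh E)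
    (𝒮 : RelProj.QCGrAlg Y) (j : E ⟶ 𝒮.toModule) (hj : RelProj.IsGrSymAlg E 𝒮 j) (p : P ⟶ Y)
    (chart : ∀ (U : Y.Opens) (hU : IsAffineOpen U), ((p ⁻¹ᵁ U : P.Opens) : Scheme.{u}) ≅ Proj (𝒮.deg U hU))
    (hP : RelProj.IsRelProj 𝒮 p chart) (O1 : P.Modules)
    (lam : ∀ (U : Y.Opens) (hU : IsAffineOpen U),
      O1 ⟶ (Scheme.Modules.pushforward (RelProj.emb p chart U hU)).obj (GrTwist.twist (𝒮.deg U hU) 1))
    (hO1 : RelProj.IsRelTwist 𝒮 p chart 1 O1 lam)
    (φ : E ⟶ (Scheme.Modules.pushforward p).obj O1)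
    (hφ : ∀ (U : Y.Opens) (hU : IsAffineOpen U) (e : Γ(E, U))
      (y : ↥(RelProj.emb p chart U hU ⁻¹ᵁ (p ⁻¹ᵁ U))),
      GrTwist.val (V := RelProj.emb p chart U hU ⁻¹ᵁ (p ⁻¹ᵁ U))
          ((lam U hU).app (p ⁻¹ᵁ U) ((φ.app U) e)) y =
        algebraMap (𝒮.presheaf.obj (op U)) (GrTwist.Loc (𝒮.deg U hU) y.1)
          ((j.app U) e : 𝒮.presheaf.obj (op U)))
    {X : Scheme.{u}} (g : X ⟶ Y) (L : X.Modules) (hL : PicF.IsInvertible L)
    (s : (Scheme.Modules.pullback g).obj E ⟶ L) (hs : Epi s) :
    ∃! r : X ⟶ P, ∃ (hr : r ≫ p = g) (τ : (Scheme.Modules.pullback r).obj O1 ≅ L),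
      (Scheme.Modules.pullbackCongr hr).inv.app E ≫ (Scheme.Modules.pullbackComp r p).inv.app E ≫
        (Scheme.Modules.pullback r).map
          (((Scheme.Modules.pullbackPushforwardAdjunction p).homEquiv E O1).symm φ) ≫ τ.hom = s := by
  let B : GrothLib.VA.Bdl Y := ⟨E, hE, 𝒮, j, hj, P, p, chart, hP, O1, lam, hO1, φ, GrothLib.VA.isCanon_of_forall hφ⟩
  let ψ := (Scheme.Modules.pullbackPushforwardAdjunction g).homEquiv E L s
  have hψ : GrothLib.VA.IsGenBy g ψ := (GrothLib.VA.isGenBy_iff_epi g hL ψ).mpr (by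
    rw [show ((Scheme.Modules.pullbackPushforwardAdjunction g).homEquiv E L).symm ψ = s from
      Equiv.symm_apply_apply _ _]
    exact hs)
  have key : ∀ (r : X ⟶ P) (hr : r ≫ p = g) (τ : (Scheme.Modules.pullback r).obj O1 ⟶ L),
      (Scheme.Modules.pullbackPushforwardAdjunction g).homEquiv E L
        ((Scheme.Modules.pullbackCongr hr).inv.app E ≫ (Scheme.Modules.pullbackComp r p).inv.app E ≫
          (Scheme.Modules.pullback r).map
            (((Scheme.Modules.pullbackPushforwardAdjunction p).homEquiv E O1).symm φ) ≫ τ) =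
      B.induced g hr ((Scheme.Modules.pullbackPushforwardAdjunction r).homEquiv O1 L τ) := by
    intro r hr τ
    subst hr
    rw [show (Scheme.Modules.pullbackCongr (rfl : r ≫ p = r ≫ p)).inv.app E = 𝟙 _ by
      simp [Scheme.Modules.pullbackCongr], Category.id_comp, GrothLib.VA.homEquiv_pullbackComp,
      Adjunction.homEquiv_naturality_left, Adjunction.homEquiv_naturality_right, Equiv.apply_symm_apply]
    rw [Category.assoc]
    refine congrArg (φ ≫ ·) (congrArg _ ?_)
    refine Scheme.Modules.hom_ext _ _ fun U => ConcreteCategory.hom_ext _ _ fun m => ?_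
    exact ((CategoryTheory.congr_fun (L.presheaf.map_id (op ((r ≫ p) ⁻¹ᵁ U))) m)).symm
  obtain ⟨r, ⟨θ, hθ⟩, hu⟩ := GrothLib.VA.Bdl.existsUnique_lift (B := B) hψ
  refine ⟨r, ⟨hθ.comp, ?_⟩, ?_⟩
  · haveI := hθ.isIso_symm
    refine ⟨asIso (((Scheme.Modules.pullbackPushforwardAdjunction r).homEquiv O1 L).symm θ), ?_⟩
    apply ((Scheme.Modules.pullbackPushforwardAdjunction g).homEquiv E L).injective
    rw [asIso_hom, key r hθ.comp, Equiv.apply_symm_apply]
    exact hθ.eq_induced
  · rintro r' ⟨hr', τ, hτ⟩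
    have h := GrothLib.VA.Bdl.isLift_induced (B := B) hr' ((Scheme.Modules.pullbackPushforwardAdjunction r').homEquiv O1 L τ.hom)
      fun t ht => GrothLib.VA.Bdl.isGen_homEquiv (B := B) τ.hom t ht
    rw [← key r' hr', hτ] at h
    exact hu r' ⟨_, h⟩

end Groth.Agent.S5733
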