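import Groth.Statements.S9325
import Mathlib
-- import your own Groth.Agent.* helpers here

set_option autoImplicit false
universe u
open CAlg

namespace Groth.Agent.S9325

/-- Let `A` be a ring and `I ⊆ J` ideals of `A` such that the ideal `J/I` of `A/I` is `H_1`-regular: for
every prime `𝔮` of `A/I` containing `J/I` there is `g ∉ 𝔮` such that the extension of `J/I` to
`(A/I)_g` is generated by an `H_1`-regular sequence (a finite sequence all of whose linear relations
are combinations of the trivial ones). Then `I ∩ J² = I J`. -/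
theorem result {A : Type u} [CommRing A] (I J : Ideal A)
    (hIJ : I ≤ J)
    (h : ∀ (𝔮 : Ideal (A ⧸ I)) [𝔮.IsPrime], J.map (Ideal.Quotient.mk I) ≤ 𝔮 →
      ∃ g : A ⧸ I, g ∉ 𝔮 ∧ ∃ (c : ℕ) (f : Fin c → Localization.Away g),
        CAlgX.IsH1Regular f ∧
          Ideal.span (Set.range f) =
            (J.map (Ideal.Quotient.mk I)).map (algebraMap (A ⧸ I) (Localization.Away g))) :
    I ⊓ J ^ 2 = I * J := by
  classical
  refine le_antisymm ?_ (le_inf Ideal.mul_le_left (by rw [pow_two]; exact Ideal.mul_mono hIJ le_rfl))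
  rintro x ⟨hxI, hxJ⟩
  let T : Ideal A := Submodule.comap (LinearMap.mulRight A x) (I * J)
  have hTmem : ∀ t, t ∈ T ↔ t * x ∈ I * J := fun t => Iff.rfl
  suffices hT : T = ⊤ by
    have := (hTmem 1).mp (hT ▸ trivial)
    rwa [one_mul] at this
  by_contra hne
  obtain ⟨p, hp, hTp⟩ := Ideal.exists_le_maximal T hne
  haveI := hp.isPrime
  by_cases hJp : J ≤ p
  swap
  · obtain ⟨t, htJ, htp⟩ := SetLike.not_le_iff_exists.mp hJp
    exact htp (hTp ((hTmem t).mpr (by rw [mul_comm t]; exact Ideal.mul_mem_mul hxI htJ)))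
  have hIp : I ≤ p := hIJ.trans hJp
  haveI : (p.map (Ideal.Quotient.mk I)).IsPrime :=
    Ideal.map_isPrime_of_surjective Ideal.Quotient.mk_surjective (by rwa [Ideal.mk_ker])
  obtain ⟨gb, hgb, c, f, hf, hspan⟩ := h (p.map (Ideal.Quotient.mk I)) (Ideal.map_mono hJp)
  obtain ⟨g, rfl⟩ := Ideal.Quotient.mk_surjective gb
  have hgp : g ∉ p := fun hg => hgb (Ideal.mem_map_of_mem _ hg)
  let A' := Localization.Away g
  let π : A' →+* Localization.Away (Ideal.Quotient.mk I g) :=
    IsLocalization.Away.map _ _ (Ideal.Quotient.mk I) g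
  have hπ : ∀ a, π (algebraMap A A' a) = algebraMap _ _ (Ideal.Quotient.mk I a) := fun a =>
    IsLocalization.map_eq _ a
  have hunit : ∀ k : ℕ, IsUnit (algebraMap A A' g ^ k) := fun k =>
    (IsLocalization.Away.algebraMap_isUnit g).pow k
  have hunit' : ∀ k : ℕ, IsUnit
      (algebraMap (A ⧸ I) (Localization.Away (Ideal.Quotient.mk I g)) (Ideal.Quotient.mk I g) ^ k) :=
    fun k => (IsLocalization.Away.algebraMap_isUnit (Ideal.Quotient.mk I g)).pow k
  have hker : RingHom.ker π = I.map (algebraMap A A') := by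
    refine le_antisymm (fun z hz => ?_) (Ideal.map_le_iff_le_comap.mpr fun a ha => ?_)
    · obtain ⟨k, a, ha⟩ := IsLocalization.Away.surj g z
      have h0 : π (z * algebraMap A A' g ^ k) = 0 := by
        rw [map_mul, RingHom.mem_ker.mp hz, zero_mul]
      rw [ha, hπ, IsLocalization.map_eq_zero_iff (Submonoid.powers (Ideal.Quotient.mk I g))] at h0
      obtain ⟨⟨_, l, rfl⟩, hl⟩ := h0
      have hl' : Ideal.Quotient.mk I (g ^ l * a) = 0 := by rw [map_mul, map_pow]; exact hl
      have h1 : algebraMap A A' g ^ (l + k) * z ∈ I.map (algebraMap A A') := by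
        rw [pow_add, mul_assoc, mul_comm _ z, ha, ← map_pow, ← map_mul]
        exact Ideal.mem_map_of_mem _ (Ideal.Quotient.eq_zero_iff_mem.mp hl')
      obtain ⟨u, hu⟩ := hunit (l + k)
      rw [← hu] at h1
      have := Ideal.mul_mem_left _ ((↑u⁻¹ : A')) h1
      rwa [Units.inv_mul_cancel_left] at this
    · rw [Ideal.mem_comap, RingHom.mem_ker, hπ, Ideal.Quotient.eq_zero_iff_mem.mpr ha, map_zero]
  have hsurj : Function.Surjective π := by
    intro w
    obtain ⟨k, a, ha⟩ := IsLocalization.Away.surj (Ideal.Quotient.mk I g) w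
    obtain ⟨a, rfl⟩ := Ideal.Quotient.mk_surjective a
    obtain ⟨u, hu⟩ := hunit k
    refine ⟨algebraMap A A' a * ↑u⁻¹, (hunit' k).mul_right_cancel ?_⟩
    rw [ha, map_mul, mul_assoc]
    have : π (↑u⁻¹ : A') * π (algebraMap A A' g ^ k) = 1 := by
      rw [← map_mul, ← hu, Units.inv_mul, map_one]
    rw [map_pow, hπ] at this
    rw [this, mul_one, hπ]
  set JA := J.map (algebraMap A A') with hJA
  set IA := I.map (algebraMap A A') with hIA
  have hIJA : IA ≤ JA := Ideal.map_mono hIJ
  have hJmap : JA.map π = Ideal.span (Set.range f) := by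
    rw [hspan, hJA, Ideal.map_map, Ideal.map_map]
    congr 1
    exact RingHom.ext hπ
  have hy : ∀ i, ∃ y ∈ JA, π y = f i := fun i =>
    (Ideal.mem_map_iff_of_surjective π hsurj).mp (hJmap ▸ Ideal.subset_span ⟨i, rfl⟩)
  choose y hyJ hy using hy
  have hJdec : ∀ v ∈ JA, ∃ (r : Fin c → A'), v - ∑ i, r i * y i ∈ IA := by
    intro v hv
    have hv' : π v ∈ Ideal.span (Set.range f) := hJmap ▸ Ideal.mem_map_of_mem π hv
    obtain ⟨s, hs⟩ := Ideal.mem_span_range_iff_exists_fun.mp hv'
    choose r hr using fun i => hsurj (s i)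
    refine ⟨r, ?_⟩
    rw [← hker, RingHom.mem_ker, map_sub, map_sum, sub_eq_zero, ← hs]
    exact Finset.sum_congr rfl fun i _ => by rw [map_mul, hr, hy]
  have hdec : ∀ z ∈ JA * JA, ∃ a : Fin c → A', (∀ i, a i ∈ JA) ∧ z - ∑ i, a i * y i ∈ IA * JA := by
    intro z hz
    induction hz using Submodule.mul_induction_on' with
    | mem_mul_mem u hu v hv =>
      obtain ⟨r, hr⟩ := hJdec v hv
      refine ⟨fun i => u * r i, fun i => Ideal.mul_mem_right _ _ hu, ?_⟩
      have : u * v - ∑ i, u * r i * y i = (v - ∑ i, r i * y i) * u := by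
        rw [sub_mul, Finset.sum_mul, mul_comm u v]
        congr 1
        exact Finset.sum_congr rfl fun i _ => by ring
      rw [this]
      exact Ideal.mul_mem_mul hr hu
    | add z₁ _ z₂ _ h₁ h₂ =>
      obtain ⟨a, ha, ha'⟩ := h₁
      obtain ⟨b, hb, hb'⟩ := h₂
      refine ⟨fun i => a i + b i, fun i => add_mem (ha i) (hb i), ?_⟩
      have : z₁ + z₂ - ∑ i, (a i + b i) * y i =
          (z₁ - ∑ i, a i * y i) + (z₂ - ∑ i, b i * y i) := by
        simp only [add_mul, Finset.sum_add_distrib]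
        ring
      rw [this]
      exact add_mem ha' hb'
  have hxA : algebraMap A A' x ∈ JA * JA := by
    rw [hJA, ← Ideal.map_mul, ← pow_two]
    exact Ideal.mem_map_of_mem _ hxJ
  obtain ⟨a, haJ, hrest⟩ := hdec _ hxA
  have hrel : ∑ i, π (a i) * f i = 0 := by
    have h1 : algebraMap A A' x - ∑ i, a i * y i ∈ RingHom.ker π := by
      rw [hker]; exact Ideal.mul_le_left hrest
    rw [RingHom.mem_ker, map_sub, hπ, Ideal.Quotient.eq_zero_iff_mem.mpr hxI, map_zero, zero_sub,
      neg_eq_zero, map_sum] at h1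
    rw [← h1]
    exact Finset.sum_congr rfl fun i _ => by rw [map_mul, hy]
  have key : ∀ v ∈ Submodule.span (Localization.Away (Ideal.Quotient.mk I g))
      {v : Fin c → Localization.Away (Ideal.Quotient.mk I g) |
        ∃ i j : Fin c, v = Pi.single i (f j) - Pi.single j (f i)},
      ∃ b : Fin c → A', (∀ i, π (b i) = v i) ∧ ∑ i, b i * y i = 0 := by
    intro v hv
    induction hv using Submodule.span_induction with
    | mem v hv =>
      obtain ⟨i, j, rfl⟩ := hv
      refine ⟨Pi.single i (y j) - Pi.single j (y i), fun k => ?_, ?_⟩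
      · simp only [Pi.sub_apply, Pi.single_apply, map_sub, apply_ite π, map_zero, hy]
      · simp only [Pi.sub_apply, sub_mul, Finset.sum_sub_distrib, Pi.single_apply, ite_mul, zero_mul,
          Finset.sum_ite_eq', Finset.mem_univ, if_true, mul_comm (y j), sub_self]
    | zero => exact ⟨0, fun i => map_zero _, by simp⟩
    | add v w _ _ hv hw =>
      obtain ⟨b, hb, hb0⟩ := hv
      obtain ⟨b', hb', hb0'⟩ := hw
      exact ⟨b + b', fun i => by simp [hb, hb'], by simp [add_mul, Finset.sum_add_distrib, hb0, hb0']⟩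
    | smul r v _ hv =>
      obtain ⟨b, hb, hb0⟩ := hv
      obtain ⟨r, rfl⟩ := hsurj r
      exact ⟨r • b, fun i => by simp [hb],
        by simp [mul_assoc, ← Finset.mul_sum, hb0]⟩
  obtain ⟨b, hb, hb0⟩ := key _ (hf (fun i => π (a i)) hrel)
  have hfin : algebraMap A A' x ∈ IA * JA := by
    have h2 : ∑ i, a i * y i ∈ IA * JA := by
      rw [show ∑ i, a i * y i = ∑ i, (a i - b i) * y i by
        simp only [sub_mul, Finset.sum_sub_distrib, hb0, sub_zero]]
      refine sum_mem fun i _ => Ideal.mul_mem_mul ?_ (hyJ i)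
      rw [← hker, RingHom.mem_ker, map_sub, hb, sub_self]
    have := add_mem hrest h2
    rwa [sub_add_cancel] at this
  rw [← Ideal.map_mul, IsLocalization.algebraMap_mem_map_algebraMap_iff (Submonoid.powers g)] at hfin
  obtain ⟨_, ⟨l, rfl⟩, hl⟩ := hfin
  exact hgp (Ideal.IsPrime.mem_of_pow_mem inferInstance l (hTp ((hTmem _).mpr hl)))

end Groth.Agent.S9325
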