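import Groth.Statements.S1028
import Groth.Agent.Lib.StrictRes20.Morph
import Groth.Agent.Lib.StrictRes20.KRoof

set_option autoImplicit false
set_option maxHeartbeats 1000000
set_option linter.style.haveILetI false
set_option backward.isDefEq.respectTransparency false
universe u
open CategoryTheory CategoryTheory.Limits AlgebraicGeometry
attribute [local instance] HasDerivedCategory.standard
open KZero

namespace Groth.Agent.S1028

/-- Let the scheme X be quasi-compact, quasi-separated and have the resolution property. There is an
isomorphism between K₀(Vect(X)) (free abelian group on finite locally free O_X-modules modulo short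
exact sequences of such) and K₀(X) = K₀(D_perf(O_X)) (free abelian group on perfect objects of
D(O_X) modulo distinguished triangles of perfect objects) sending the class of a finite locally free
module E to the class of E placed in degree 0. -/
theorem result (X : Scheme.{u}) [CompactSpace ↥X] [QuasiSeparatedSpace ↥X] (hX : PerfAux.HasResolutionProperty X) :
    ∃ φ : KZero.K0sub (fun M : X.Modules => FlatMod.IsFinLocFree M) ≃+ KZero.K0tr (fun K : DCoh.D X => DCoh.IsPerfect K),
      ∀ E : X.Modules, FlatMod.IsFinLocFree E →
        φ (KZero.clSub (fun M : X.Modules => FlatMod.IsFinLocFree M) E) = KZero.clTr (fun K : DCoh.D X => DCoh.IsPerfect K) (DCoh.inD X E) := by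
  let P : ObjectProperty X.Modules := fun M => FlatMod.IsFinLocFree M
  have hP : GrothLib.KProj.Resolving P :=
    { iso := fun e h => GrothLib.DCoh.isFinLocFree_of_iso e h
      zero := fun h => GrothLib.DCoh.isFinLocFree_of_isZero h
      sum := fun h h' => GrothLib.DCoh.isFinLocFree_biprod h h'
      ker := fun f _ h h' => GrothLib.OX.isFinLocFree_kernel f h h' }
  have hroof : GrothLib.KRoof20.Roofs P := fun E F hE hF α => by
    obtain ⟨G, g, k, hG, hg, e⟩ := GrothLib.StrictRes20.exists_roof hX hE hF α
    exact ⟨G, g, k, hG, hg, e⟩
  obtain ⟨φ, hφ, -⟩ := GrothLib.KRoof20.exists_equiv (P := P) (fun K : DCoh.D X => DCoh.IsPerfect K) hP hroof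
    (fun K => ⟨fun hK => GrothLib.StrictRes20.exists_strictlyPerfect_iso hX hK,
      fun ⟨E, hE, ⟨e⟩⟩ => GrothLib.OX.isPerfect_of_iso (GrothLib.KSix19.ProjPush.isPerfect_Q E hE) e⟩)
  exact ⟨φ, fun E hE => hφ E hE⟩

end Groth.Agent.S1028
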