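import Groth.Statements.S2348
import Groth.Agent.Lib.BlowUp.Universal
import Groth.Agent.Lib.ArSurf29.FactorBlowUpIso

set_option autoImplicit false
universe u
open CategoryTheory CategoryTheory.Limits AlgebraicGeometry
open EGA2

namespace Groth.Agent.S2348

/-- For an ideal of O_Y: let Y be an integral scheme, I a nonzero quasi-coherent ideal sheaf and b : X →
Y a blowing up of Y in I (characterised by its universal property). Then X is integral, b sends the
generic point of X to that of Y and induces a bijection on their residue fields (b is birational).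
The printed statement also asserts that b is surjective; the proof does not show this and it fails
when I is not of finite type, so it is left out. -/
theorem result {X Y : Scheme.{u}} [IsIntegral Y] (I : Y.IdealSheafData) (hI : I ≠ ⊥)
    (b : X ⟶ Y) (hb : BlowUp.IsBlowUp b I) :
    ∃ (_ : IsIntegral X), ∃ hgen : b.base (genericPoint X) = genericPoint Y,
      Function.Bijective (b.residueFieldMap (genericPoint X)).hom := by
  let U : Y.Opens := I.support.compl
  have hηU : genericPoint Y ∈ U := by
    intro h
    refine hI (le_bot_iff.1 ?_)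
    have h1 := Scheme.IdealSheafData.le_support_iff_le_vanishingIdeal.1
      (show (⊤ : TopologicalSpace.Closeds Y) ≤ I.support from fun z _ => (genericPoint_specializes z).mem_closed I.support.isClosed h)
    rwa [Scheme.IdealSheafData.vanishingIdeal_top, Scheme.nilradical_eq_bot] at h1
  haveI : IsIso (b ∣_ U) := GrothLib.BlowUp.isIso_off_center hb
  let q : ↥(b ⁻¹ᵁ U) := (b ∣_ U).homeomorph.symm ⟨_, hηU⟩
  have hq : b (b ⁻¹ᵁ U |>.ι q) = genericPoint Y := by
    rw [← Scheme.Hom.comp_apply, ← morphismRestrict_ι, Scheme.Hom.comp_apply]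
    exact congrArg Subtype.val ((b ∣_ U).homeomorph.apply_symm_apply (⟨_, hηU⟩ : ↥U))
  haveI : Nonempty X := ⟨(b ⁻¹ᵁ U).ι q⟩
  haveI : IrreducibleSpace X := GrothLib.FBase7.isIrreducible_of_maximal_subset
    (S := {(b ⁻¹ᵁ U).ι q}) isPreirreducible_singleton fun t ht => by
      have htU : b t ∈ U := fun h => GrothLib.BlowUp.notMem_support_of_maximal hb.1 ht (by
        rw [← SetLike.mem_coe, Scheme.IdealSheafData.support_comap]
        exact h)
      have hspec : q ⤳ (⟨t, htU⟩ : ↥(b ⁻¹ᵁ U)) := by
        refine ((b ∣_ U).isEmbedding.isInducing.specializes_iff).1 (U.ι.isEmbedding.isInducing.specializes_iff.1 ?_)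
        rw [GrothLib.ArSurf29.restrict_apply, ← Scheme.Hom.comp_apply, morphismRestrict_ι, Scheme.Hom.comp_apply, hq]
        exact genericPoint_specializes _
      exact (ht _ (hspec.map (b ⁻¹ᵁ U).ι.continuous)).symm
  haveI : IsReduced X := GrothLib.BlowUp.isReduced_of_isBlowUp hb
  haveI : IsIntegral X := isIntegral_of_irreducibleSpace_of_isReduced _
  have hgen : b (genericPoint X) = genericPoint Y :=
    (((genericPoint_specializes (α := X) ((b ⁻¹ᵁ U).ι q)).map b.continuous |> fun h =>
      (hq ▸ h : b (genericPoint X) ⤳ genericPoint Y)).antisymm (genericPoint_specializes _)).eq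
  refine ⟨inferInstance, hgen, ?_⟩
  haveI : IsOpenImmersion ((b ⁻¹ᵁ U).ι ≫ b) := by rw [← morphismRestrict_ι]; infer_instance
  obtain ⟨-, hbij⟩ := GrothLib.Birat.birational_of_openImmersion b ⟨b ⁻¹ᵁ U, ⟨_, q.2⟩, ‹_›⟩
  refine ⟨(b.residueFieldMap (genericPoint X)).hom.injective, fun r => ?_⟩
  obtain ⟨s, rfl⟩ := X.residue_surjective (genericPoint X) r
  obtain ⟨t, rfl⟩ := hbij.2 s
  exact ⟨Y.residue _ t, ConcreteCategory.congr_hom (Scheme.residue_residueFieldMap b (genericPoint X)) t⟩

end Groth.Agent.S2348
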