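import Groth.Statements.S7338
import Groth.Agent.Lib.RatSing29.R1Support
import Groth.Agent.Lib.RatSing29.FiveTerm
import Groth.Agent.Lib.RatSing29.SeqH1
import Groth.Agent.Lib.CurveMult.GGCurve
import Groth.Agent.Lib.HomSh.Coherent

set_option autoImplicit false
universe u
open CategoryTheory CategoryTheory.Limits AlgebraicGeometry
open Resolve

namespace Groth.Agent.S7338

/-- Let (A, m) be a Noetherian normal local domain of dimension two, and X, X' integral schemes proper
over Spec A, each an isomorphism over some nonempty open of Spec A (modifications), with X normal,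
and g : X' → X a morphism over Spec A. Then R^1 g_* O_{X'} is generated by global sections and its
support is a finite set of closed points of X, and there is a short exact sequence 0 → H^1(X, O_X) →
H^1(X', O_{X'}) → H^0(X, R^1 g_* O_{X'}) → 0, recorded here as the additivity of A-lengths. (R^1 g_*
is the right derived functor of g_* on O-modules; that O_{X'}-modules have injective resolutions is
carried as an instance hypothesis.) -/
theorem result (A : Type u) [CommRing A] [IsDomain A] [IsLocalRing A] [IsNoetherianRing A]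
    [IsIntegrallyClosed A] (hdim : ringKrullDim A = 2)
    (X X' : Scheme.{u}) [X.Over (Spec (CommRingCat.of A))] [X'.Over (Spec (CommRingCat.of A))]
    [IsProper (X ↘ Spec (CommRingCat.of A))] [IsProper (X' ↘ Spec (CommRingCat.of A))] [IsIntegral X] [IsIntegral X']
    (hX : ∃ U : (Spec (CommRingCat.of A)).Opens, (U : Set (Spec (CommRingCat.of A))).Nonempty ∧ IsIso ((X ↘ Spec (CommRingCat.of A)) ∣_ U))
    (hX' : ∃ U : (Spec (CommRingCat.of A)).Opens, (U : Set (Spec (CommRingCat.of A))).Nonempty ∧ IsIso ((X' ↘ Spec (CommRingCat.of A)) ∣_ U))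
    (hXn : Pi1.IsNormalScheme X) (g : X' ⟶ X) (hg : g ≫ (X ↘ Spec (CommRingCat.of A)) = X' ↘ Spec (CommRingCat.of A))
    [HasInjectiveResolutions X'.Modules] :
    Curv2.IsGloballyGenerated ((Coh.Rpush g 1).obj (Coh.structureModule X')) ∧
      {x : X | Nontrivial (((Coh.Rpush g 1).obj (Coh.structureModule X')).presheaf.stalk x)}.Finite ∧
      (∀ x : X, Nontrivial (((Coh.Rpush g 1).obj (Coh.structureModule X')).presheaf.stalk x) → IsClosed ({x} : Set X)) ∧
      Module.length A (Coh.HH X' (Coh.structureModule X') 1) =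
        Module.length A (Coh.HH X (Coh.structureModule X) 1) +
          Module.length A (Coh.HH X ((Coh.Rpush g 1).obj (Coh.structureModule X')) 0) := by
  let p := X ↘ Spec (CommRingCat.of A)
  let p' := X' ↘ Spec (CommRingCat.of A)
  obtain ⟨U, hU, hUi⟩ := hX
  obtain ⟨U', hU', hUi'⟩ := hX'
  haveI : IsProper (g ≫ p) := by rw [show g ≫ p = p' from hg]; infer_instance
  haveI : IsProper g := IsProper.of_comp g p
  let O : (Spec (CommRingCat.of A)).Opens := U ⊓ U'
  obtain ⟨u, hu⟩ := hU
  obtain ⟨v, hv⟩ := hU'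
  have hηO : genericPoint (Spec (CommRingCat.of A)) ∈ O :=
    ⟨(genericPoint_specializes u).mem_open U.isOpen hu, (genericPoint_specializes v).mem_open U'.isOpen hv⟩
  haveI hfO : IsIso (p ∣_ O) := by
    haveI := hUi
    exact GrothLib.Nagata6.isIso_restrict_of_le p U O inf_le_left
  haveI hrO : IsIso (p' ∣_ O) := by
    haveI := hUi'
    exact GrothLib.Nagata6.isIso_restrict_of_le p' U' O inf_le_right
  haveI hgO : IsIso (g ∣_ (p ⁻¹ᵁ O)) := by
    have h1 := hrO
    rw [show p' = g ≫ p from hg.symm, morphismRestrict_comp] at h1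
    haveI := h1
    exact @IsIso.of_isIso_comp_right _ _ _ _ _ (g ∣_ (p ⁻¹ᵁ O)) (p ∣_ O) hfO h1
  obtain ⟨q, hq⟩ := (p ∣_ O).homeomorph.surjective ⟨_, hηO⟩
  have hne : ((p ⁻¹ᵁ O : X.Opens) : Set X).Nonempty := ⟨_, q.2⟩
  haveI : IsLocallyNoetherian X := LocallyOfFiniteType.isLocallyNoetherian p
  haveI : CompactSpace X := QuasiCompact.compactSpace_of_compactSpace p
  haveI : IsNoetherian X := {}
  haveI : IsLocallyNoetherian X' := LocallyOfFiniteType.isLocallyNoetherian p'
  have hdS : topologicalKrullDim (Spec (CommRingCat.of A)) ≤ 2 :=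
    ((PrimeSpectrum.topologicalKrullDim_eq_ringKrullDim A).trans hdim).le
  have hW : topologicalKrullDim X' ≤ 2 :=
    GrothLib.RatSing29.dim_le_of_birational p' O ⟨_, hηO⟩ hrO hdS
  have hO : Coh.IsCoh (Coh.structureModule X') := GrothLib.HomSh.isCoh_structureModule X'
  have hcl : ∀ x : X, Nontrivial (((Coh.Rpush g 1).obj (Coh.structureModule X')).presheaf.stalk x) →
      IsClosed ({x} : Set X) := fun x hx =>
    GrothLib.RatSing29.isClosed_of_nontrivial_stalk_Rpush g ⟨p ⁻¹ᵁ O, hne, hgO⟩ hW _ 1 le_rfl hx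
  have hsupp : CohB1.support ((Coh.Rpush g 1).obj (Coh.structureModule X')) =
      {x : X | Nontrivial (((Coh.Rpush g 1).obj (Coh.structureModule X')).presheaf.stalk x)} := by
    ext x
    exact not_subsingleton_iff_nontrivial
  have hfin := GrothLib.Euler.finite_of_closed_points
    (GrothLib.QCoh.isClosed_support_of_isCoh (GrothLib.Cohom.isCoh_Rpush g (Coh.structureModule X') hO 1))
    (fun x hx => hcl x (hsupp.le hx))
  refine ⟨GrothLib.CurveMult.isGloballyGenerated_of_finite_support hfin (fun x hx => hcl x (hsupp.le hx)),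
    hsupp ▸ hfin, hcl, ?_⟩
  have happ := GrothLib.RatSing29.isIso_app_of_birational g (fun x => (hXn x).2) (p ⁻¹ᵁ O) hne hgO
  haveI : IsIso ((Scheme.Modules.toPresheaf X).map (ClSub.unitToPush g)) := by
    haveI : ∀ V, IsIso (((Scheme.Modules.toPresheaf X).map (ClSub.unitToPush g)).app V) := fun V => by
      haveI := happ V.unop
      rw [ConcreteCategory.isIso_iff_bijective]
      exact ConcreteCategory.bijective_of_isIso (g.app V.unop)
    exact NatIso.isIso_of_isIso_app _
  haveI : IsIso (ClSub.unitToPush g) := isIso_of_reflects_iso _ (Scheme.Modules.toPresheaf X)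
  obtain ⟨e, -⟩ := GrothLib.FormalFn.exists_hh_equiv (A := A) (asIso (ClSub.unitToPush g)) 1
  haveI : ((Scheme.Modules.pushforward g).obj (Coh.structureModule X')).IsQuasicoherent :=
    GrothLib.QCoh.isQuasicoherent_pushforward g (Coh.structureModule X')
  rw [GrothLib.RatSing29.length_HH_one hg (Coh.structureModule X')
    (GrothLib.RatSing29.subsingleton_HH_two_le p hdim ⟨U, ⟨u, hu⟩, hUi⟩ _ 2 one_lt_two), ← e.length_eq]

end Groth.Agent.S7338
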