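import Groth.Statements.S0981
import Groth.Agent.Lib.Seesaw26.Universal
import Groth.Agent.Lib.GlobalConst.Scheme

set_option backward.isDefEq.respectTransparency false

set_option autoImplicit false
universe u
open CategoryTheory AlgebraicGeometry
open Perf

namespace Groth.Agent.S0981

open CategoryTheory.Limits in
/-- Let f : X ⟶ S be proper, flat and of finite presentation, and assume that for every algebraically
closed field K and every point Spec K ⟶ S the fibre X ×_S Spec K is a reduced, connected (in
particular nonempty) scheme. Then O_S ⟶ f_*O_X is an isomorphism: for every open V of S the map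
O_S(V) ⟶ O_X(f⁻¹V) is an isomorphism. (The source adds that this persists after any base change.) -/
theorem result {X S : Scheme.{u}} (f : X ⟶ S)
    [IsProper f] [Flat f] [LocallyOfFinitePresentation f]
    (h : ∀ (K : Type u) [Field K] [IsAlgClosed K] (g : Spec (CommRingCat.of K) ⟶ S),
      IsReduced (pullback f g) ∧ ConnectedSpace ↥(pullback f g))
    (V : S.Opens) : IsIso (f.app V) := by
  have h0 : ∀ s : S, Module.finrank (S.residueField s) Γ(f.fiber s, ⊤) = 1 := fun s => by
    let k := S.residueField s
    let A := Γ(f.fiber s, ⊤)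
    letI : (f.fiber s).Over (Spec (CommRingCat.of k)) := ⟨f.fiberToSpecResidueField s⟩
    haveI : IsProper ((f.fiber s) ↘ Spec (CommRingCat.of k)) := (inferInstance : IsProper (pullback.snd f (S.fromSpecResidueField s)))
    letI := GrothLib.GlobalConst.algΓ k (X := f.fiber s)
    haveI := GrothLib.GlobalConst.finite_algΓ k (X := f.fiber s)
    obtain ⟨X', p, q, sq, ⟨e⟩⟩ := GrothLib.GlobalConst.exists_equiv_baseChange k (X := f.fiber s)
    let K := AlgebraicClosure k
    obtain ⟨hred, hconn⟩ := h K (Spec.map (CommRingCat.ofHom (algebraMap k K)) ≫ S.fromSpecResidueField s)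
    have sq' : IsPullback (p ≫ f.fiberι s) q f
        (Spec.map (CommRingCat.ofHom (algebraMap k K)) ≫ S.fromSpecResidueField s) :=
      sq.paste_horiz (IsPullback.of_hasPullback f (S.fromSpecResidueField s))
    let j := sq'.isoPullback
    haveI := hred
    haveI := hconn
    haveI : IsReduced X' := isReduced_of_isOpenImmersion j.hom
    haveI : ConnectedSpace X' :=
      Function.Surjective.connectedSpace j.inv.surjective j.inv.continuous
    let B := TensorProduct k K A
    haveI : _root_.IsReduced B := isReduced_of_injective e e.injective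
    haveI : Nontrivial B := by
      obtain ⟨x⟩ := (inferInstance : Nonempty X')
      haveI : Nontrivial Γ(X', ⊤) := RingHom.domain_nontrivial (X'.presheaf.germ ⊤ x trivial).hom
      exact e.toEquiv.nontrivial
    haveI : IsArtinianRing B := IsArtinianRing.of_finite K B
    have hid : ∀ b : B, IsIdempotentElem b → b = 0 ∨ b = 1 := fun b hb =>
      (GrothLib.GlobalConst.eq_zero_or_one_of_connected (e b) (hb.map e)).imp
        (fun h => e.injective (h.trans (map_zero e).symm)) (fun h => e.injective (h.trans (map_one e).symm))
    have hF : IsField B := by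
      refine ⟨⟨0, 1, zero_ne_one⟩, mul_comm, fun {b} hb => ?_⟩
      by_contra hu
      obtain ⟨c, hc⟩ : ∃ c : ℕ, ∃ y, b ^ c = b ^ (c + 1) * y := by
        obtain ⟨n, hn⟩ := IsArtinian.exists_pow_succ_smul_dvd (R := B) (M := B) b 1
        obtain ⟨y, hy⟩ := hn
        exact ⟨n, y, by simpa [smul_eq_mul, Nat.succ_eq_add_one] using hy.symm⟩
      obtain ⟨y, hy⟩ := hc
      have h2 : ∀ m, b ^ c = b ^ (c + m) * y ^ m := fun m => by
        induction m with
        | zero => simp
        | succ m ih =>
          calc b ^ c = b ^ (c + m) * y ^ m := ih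
            _ = b ^ m * (b ^ c) * y ^ m := by ring
            _ = b ^ m * (b ^ (c + 1) * y) * y ^ m := by rw [← hy]
            _ = b ^ (c + (m + 1)) * y ^ (m + 1) := by ring
      have hidem : IsIdempotentElem (b ^ c * y ^ c) := by
        show b ^ c * y ^ c * (b ^ c * y ^ c) = b ^ c * y ^ c
        rw [show b ^ c * y ^ c * (b ^ c * y ^ c) = (b ^ (c + c) * y ^ c) * y ^ c by ring, ← h2 c]
      rcases hid _ hidem with h3 | h3
      · refine hb (IsNilpotent.eq_zero ⟨c, ?_⟩)
        calc b ^ c = b ^ (c + c) * y ^ c := h2 c
          _ = b ^ c * (b ^ c * y ^ c) := by ring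
          _ = 0 := by rw [h3, mul_zero]
      · rcases c with _ | c
        · exact hu ⟨y, by simpa using hy.symm⟩
        · exact hu ⟨b ^ c * y ^ (c + 1), by rw [← h3]; ring⟩
    haveI : IsDomain B := hF.isDomain
    have hB : Module.finrank K B = 1 :=
      (LinearEquiv.ofBijective (Algebra.linearMap K B)
        (IsAlgClosed.algebraMap_bijective_of_isIntegral (k := K) (K := B))).finrank_eq.symm.trans (Module.finrank_self K)
    exact (Module.finrank_baseChange (R := K) (S := k) (M' := A)).symm.trans hB
  have hsnd : ∀ U : S.Opens, IsIso ((pullback.snd f (𝟙 S)).app U) := fun U =>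
    (ConcreteCategory.isIso_iff_bijective _).2 (GrothLib.Seesaw26.bijective_app_baseChange f h0 (𝟙 S) U)
  have e : f = CategoryTheory.inv (pullback.fst f (𝟙 S)) ≫ pullback.snd f (𝟙 S) := by
    rw [IsIso.eq_inv_comp, pullback.condition, Category.comp_id]
  haveI := hsnd V
  rw [e, Scheme.Hom.comp_app]
  infer_instance

end Groth.Agent.S0981
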