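import Groth.Statements.S1937
import Groth.Agent.Lib.OmegaBC.Section
import Groth.Agent.Lib.GrpSchField.Shear
import Mathlib.AlgebraicGeometry.Morphisms.QuasiSeparated
import Groth.Agent.Lib.FittSheaf.Pullback
import Groth.Agent.Lib.OmegaAff.Basic
import Mathlib.LinearAlgebra.Basis.VectorSpace
-- import your own Groth.Agent.* helpers here

set_option autoImplicit false
universe u v
open CategoryTheory MonoidalCategory CartesianMonoidalCategory MonObj GrpObj AlgebraicGeometry
open GrpSch

namespace Groth.Agent.S1937

/-- Let G be a group scheme over S with structure morphism f and unit section e : S → G. Then Ω_{G/S} ≅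
f^* C_{S/G}, the pullback of the conormal sheaf of the immersion e; and when S is the spectrum of a
field, Ω_{G/S} is a free O_G-module (a coproduct of copies of O_G). Stated for G → S
quasi-separated, where the shared prelude's Ω (conormal sheaf of the diagonal through Mathlib's
kernel ideal sheaf) and conormal sheaf of e are the usual ones. -/
theorem result (S : Scheme.{u}) (G : Over S) [GrpObj G] [QuasiSeparated G.hom] : Nonempty (Omega.sheaf G.hom ≅ (Scheme.Modules.pullback G.hom).obj (Omega.conormal η[G].left)) ∧ ∀ (K : Type u) [Field K], Nonempty (S ≅ Spec (CommRingCat.of K)) → ∃ I : Type u, Nonempty (Omega.sheaf G.hom ≅ ∐ fun _ : I => Coh.structureModule G.left) := by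
  open Limits in
  haveI : QuasiCompact (η[G].left ≫ G.hom) := by
    rw [GrothLib.GrpSchField.eta_left_hom]
    exact quasiCompact_of_isIso (𝟙 S)
  haveI : QuasiCompact η[G].left := QuasiCompact.of_comp η[G].left G.hom
  open Limits MonoidalCategory CartesianMonoidalCategory in
  have H₀ : IsPullback (GrothLib.GrpSchField.divMor G) (snd G G) (toUnit G) (toUnit G) := by
    refine IsPullback.of_isLimit' ⟨Subsingleton.elim _ _⟩ (PullbackCone.IsLimit.mk _
      (fun c => lift (c.fst * c.snd) c.snd) (fun c => ?_) (fun c => lift_snd _ _) (fun c m h1 h2 => ?_))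
    · rw [GrothLib.GrpSchField.divMor, MonObj.comp_mul, GrpObj.comp_inv, lift_fst, lift_snd]
      exact mul_inv_cancel_right _ _
    · apply hom_ext
      · rw [lift_fst, ← h1, ← h2, GrothLib.GrpSchField.divMor, MonObj.comp_mul, GrpObj.comp_inv]
        exact (inv_mul_cancel_right _ _).symm
      · rw [lift_snd]; exact h2
  open Limits MonoidalCategory CartesianMonoidalCategory in
  have H : IsPullback (GrothLib.GrpSchField.divMor G).left (pullback.snd G.hom G.hom) G.hom G.hom :=
    H₀.map (Over.forget S)
  open Limits MonoidalCategory CartesianMonoidalCategory in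
  have hd : pullback.diagonal G.hom ≫ (GrothLib.GrpSchField.divMor G).left = G.hom ≫ η[G].left :=
    (GrothLib.GrpSchField.isPullback_diag_div_left G).w.symm
  obtain ⟨φ⟩ := GrothLib.OmegaBC.nonempty_pullback_conormal_section η[G].left (Limits.pullback.diagonal G.hom) G.hom
    (Limits.pullback.snd G.hom G.hom) G.hom (GrothLib.GrpSchField.divMor G).left H
    (GrothLib.GrpSchField.eta_left_hom G) (Limits.pullback.diagonal_snd _) hd
  refine ⟨⟨φ.symm⟩, fun K _ hK => ?_⟩
  obtain ⟨θ⟩ := hK
  haveI := GrothLib.OmegaAff.isQuasicoherent_idealMod η[G].left.ker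
  let C : S.Modules := Omega.conormal η[G].left
  haveI : C.IsQuasicoherent := GrothLib.FittSheaf.isQuasicoherent_pullback η[G].left _
  let C' := (Scheme.Modules.pullback θ.inv).obj C
  haveI : C'.IsQuasicoherent := GrothLib.FittSheaf.isQuasicoherent_pullback θ.inv _
  haveI := (AlgebraicGeometry.isQuasicoherent_iff_isIso_fromTildeΓ C').1 inferInstance
  let M := (moduleSpecΓFunctor (R := CommRingCat.of K)).obj C'
  letI : Field ↑(CommRingCat.of K) := ‹Field K›
  obtain ⟨⟨I, b⟩⟩ := Module.Free.exists_basis (R := (CommRingCat.of K : Type u)) (M := M)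
  refine ⟨I, ⟨?_⟩⟩
  open Limits in
  let e₁ : C' ≅ ∐ fun _ : I => Coh.structureModule (Spec (CommRingCat.of K)) :=
    (asIso (Scheme.Modules.fromTildeΓ (R := CommRingCat.of K) C')).symm ≪≫
      (tilde.functor (CommRingCat.of K)).mapIso (b.repr.toModuleIso (R := (CommRingCat.of K : Type u))) ≪≫ tildeFinsupp I
  open Limits in
  exact φ.symm ≪≫ (Scheme.Modules.pullback G.hom).mapIso
    (((Scheme.Modules.pullbackId S).app C).symm ≪≫ (Scheme.Modules.pullbackCongr θ.hom_inv_id.symm).app C ≪≫
      ((Scheme.Modules.pullbackComp θ.hom θ.inv).app C).symm ≪≫ (Scheme.Modules.pullback θ.hom).mapIso e₁) ≪≫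
    ((Scheme.Modules.pullbackComp G.hom θ.hom).app _) ≪≫
    PreservesCoproduct.iso (Scheme.Modules.pullback (G.hom ≫ θ.hom))
      (fun _ : I => Coh.structureModule (Spec (CommRingCat.of K))) ≪≫
    Sigma.mapIso (fun _ => GrothLib.ParaLocal.pullUnit (G.hom ≫ θ.hom))

end Groth.Agent.S1937
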