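import Groth.Statements.S9811
import Groth.Agent.Lib.BrnchSum.Basic

set_option autoImplicit false
universe u
open Brnch

namespace Groth.Agent.S9811

theorem minimalPrimes_finite_quotient {A : Type u} [CommRing A] (p : minimalPrimes A) :
    (minimalPrimes (A ⧸ p.1)).Finite := by
  haveI : p.1.IsPrime := p.2.1.1
  exact (IsDomain.minimalPrimes_eq_singleton_bot (A ⧸ p.1)).symm ▸ Set.finite_singleton _

/-- The maximal ideals of the normalization, by components. -/
theorem exists_equiv_maximalSpectrum {A : Type u} [CommRing A] (hfin : (minimalPrimes A).Finite)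
    (e : CAlg2.normRed A ≃+* ∀ p : minimalPrimes A, CAlg2.normRed (A ⧸ p.1)) :
    ∃ E : (Σ p : minimalPrimes A, MaximalSpectrum (CAlg2.normRed (A ⧸ p.1))) ≃
      MaximalSpectrum (CAlg2.normRed A),
      ∀ x, (E x).asIdeal = (x.2.asIdeal.comap (Pi.evalRingHom (fun p : minimalPrimes A => CAlg2.normRed (A ⧸ p.1)) x.1)).comap e.toRingHom := by
  haveI := hfin.fintype
  obtain ⟨E, hE⟩ := GrothLib.BrnchSum.exists_equiv_maximalSpectrum_pi
    fun p : minimalPrimes A => CAlg2.normRed (A ⧸ p.1)
  let F : MaximalSpectrum (∀ p : minimalPrimes A, CAlg2.normRed (A ⧸ p.1)) ≃ MaximalSpectrum (CAlg2.normRed A) :=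
    { toFun := fun m => ⟨m.asIdeal.comap e.toRingHom,
        haveI := m.isMaximal; Ideal.comap_isMaximal_of_surjective _ e.surjective⟩
      invFun := fun m => ⟨m.asIdeal.comap e.symm.toRingHom,
        haveI := m.isMaximal; Ideal.comap_isMaximal_of_surjective _ e.symm.surjective⟩
      left_inv := fun m => MaximalSpectrum.ext (Ideal.ext fun x => by
        show e (e.symm x) ∈ m.asIdeal ↔ _
        rw [e.apply_symm_apply])
      right_inv := fun m => MaximalSpectrum.ext (Ideal.ext fun x => by
        show e.symm (e x) ∈ m.asIdeal ↔ _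
        rw [e.symm_apply_apply]) }
  exact ⟨E.trans F, fun x => by rw [← hE x]; rfl⟩

/-- Embeddings of residue fields agree with those of the component. -/
theorem nonempty_emb_equiv {A : Type u} [CommRing A] [IsLocalRing A] (p : minimalPrimes A)
    [p.1.IsPrime] (e : CAlg2.normRed A ≃+* ∀ p : minimalPrimes A, CAlg2.normRed (A ⧸ p.1))
    (he : ∀ (a : A) (p : minimalPrimes A),
      e (algebraMap (CAlg2.red A) (CAlg2.normRed A) (Ideal.Quotient.mk (nilradical A) a)) p =
        algebraMap (CAlg2.red (A ⧸ p.1)) (CAlg2.normRed (A ⧸ p.1))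
          (Ideal.Quotient.mk (nilradical (A ⧸ p.1)) (Ideal.Quotient.mk p.1 a)))
    (m : MaximalSpectrum (CAlg2.normRed (A ⧸ p.1))) (M : MaximalSpectrum (CAlg2.normRed A))
    (hM : M.asIdeal = (m.asIdeal.comap (Pi.evalRingHom (fun q : minimalPrimes A => CAlg2.normRed (A ⧸ q.1)) p)).comap e.toRingHom) :
    Nonempty (Brnch.Emb A M ≃ Brnch.Emb (A ⧸ p.1) m) := by
  let f : CAlg2.normRed A →+* CAlg2.normRed (A ⧸ p.1) ⧸ m.asIdeal :=
    (Ideal.Quotient.mk m.asIdeal).comp
      ((Pi.evalRingHom (fun q : minimalPrimes A => CAlg2.normRed (A ⧸ q.1)) p).comp e.toRingHom)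
  have hf : Function.Surjective f := fun y => by
    obtain ⟨y, rfl⟩ := Ideal.Quotient.mk_surjective y
    classical
    obtain ⟨w, hw⟩ := e.surjective fun q => if h : q = p then h ▸ y else 0
    refine ⟨w, congrArg (Ideal.Quotient.mk m.asIdeal) ((congrFun hw p).trans ?_)⟩
    exact dif_pos rfl
  have hker : RingHom.ker f = M.asIdeal := by
    rw [hM]
    ext x
    exact Ideal.Quotient.eq_zero_iff_mem
  let q : (CAlg2.normRed A ⧸ M.asIdeal) ≃+* CAlg2.normRed (A ⧸ p.1) ⧸ m.asIdeal :=
    (Ideal.quotEquivOfEq hker.symm).trans (RingHom.quotientKerEquivOfSurjective hf)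
  haveI : IsLocalHom (Ideal.Quotient.mk p.1) :=
    IsLocalHom.of_surjective _ Ideal.Quotient.mk_surjective
  let r := IsLocalRing.ResidueField.map (Ideal.Quotient.mk p.1)
  have hr : Function.Bijective r := ⟨r.injective, fun y => by
    obtain ⟨y, rfl⟩ := IsLocalRing.residue_surjective y
    obtain ⟨a, rfl⟩ := Ideal.Quotient.mk_surjective y
    exact ⟨IsLocalRing.residue A a, IsLocalRing.ResidueField.map_residue _ _⟩⟩
  let τ : AlgebraicClosure (IsLocalRing.ResidueField A) ≃+* AlgebraicClosure (IsLocalRing.ResidueField (A ⧸ p.1)) :=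
    IsAlgClosure.equivOfEquiv _ _ (RingEquiv.ofBijective r hr)
  have hτ : ∀ a : A, τ (Brnch.toClosure A a) = Brnch.toClosure (A ⧸ p.1) (Ideal.Quotient.mk p.1 a) := fun a => by
    show τ (algebraMap _ _ (IsLocalRing.residue A a)) = _
    rw [show τ = IsAlgClosure.equivOfEquiv _ _ (RingEquiv.ofBijective r hr) from rfl,
      IsAlgClosure.equivOfEquiv_algebraMap]
    exact congrArg (algebraMap _ _) (IsLocalRing.ResidueField.map_residue _ _)
  have hq : ∀ a : A, q (Brnch.toResidue A M a) = Brnch.toResidue (A ⧸ p.1) m (Ideal.Quotient.mk p.1 a) := fun a => by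
    show f (algebraMap (CAlg2.red A) (CAlg2.normRed A) (Ideal.Quotient.mk (nilradical A) a)) = _
    exact congrArg (Ideal.Quotient.mk m.asIdeal) (he a p)
  exact ⟨{
    toFun := fun σ => ⟨(τ.toRingHom.comp σ.1).comp q.symm.toRingHom, RingHom.ext fun b => by
      obtain ⟨a, rfl⟩ := Ideal.Quotient.mk_surjective b
      show τ (σ.1 (q.symm _)) = _
      rw [← hq, q.symm_apply_apply, ← hτ]
      exact congrArg τ (RingHom.congr_fun σ.2 a)⟩
    invFun := fun σ => ⟨(τ.symm.toRingHom.comp σ.1).comp q.toRingHom, RingHom.ext fun a => by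
      show τ.symm (σ.1 (q _)) = _
      rw [hq, RingEquiv.symm_apply_eq, hτ]
      exact RingHom.congr_fun σ.2 _⟩
    left_inv := fun σ => Subtype.ext (RingHom.ext fun x => by
      show τ.symm (τ (σ.1 (q.symm (q x)))) = σ.1 x
      rw [τ.symm_apply_apply, q.symm_apply_apply])
    right_inv := fun σ => Subtype.ext (RingHom.ext fun x => by
      show τ (τ.symm (σ.1 (q (q.symm x)))) = σ.1 x
      rw [τ.apply_symm_apply, q.apply_symm_apply]) }⟩

/-- Geometric branches, in terms of the local ring: for a local ring A with finitely many minimal prime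
ideals, the number of geometric branches of A is the sum over the minimal primes p of the numbers of
geometric branches of the local domains A/p. -/
theorem result (A : Type u) [CommRing A] [IsLocalRing A]
    (h : (minimalPrimes A).Finite) :
    Brnch.numGeomBranches A =
      ∑ᶠ p : minimalPrimes A,
        haveI : p.1.IsPrime := p.2.1.1
        Brnch.numGeomBranches (A ⧸ p.1) := by
  classical
  haveI := h.fintype
  obtain ⟨e, he⟩ := GrothLib.BrnchSum.exists_equiv_normRed h
  obtain ⟨E, hE⟩ := exists_equiv_maximalSpectrum h e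
  let G : (Σ x : Σ p : minimalPrimes A, MaximalSpectrum (CAlg2.normRed (A ⧸ p.1)),
      Brnch.Emb A (E x)) ≃ Σ M, Brnch.Emb A M := E.sigmaCongrLeft
  rw [finsum_eq_sum_of_fintype, Brnch.numGeomBranches, if_pos h,
    ← ENat.card_congr G, ENat.card_congr (Equiv.sigmaAssoc fun p m => Brnch.Emb A (E ⟨p, m⟩)),
    GrothLib.BrnchSum.enatCard_sigma]
  refine Finset.sum_congr rfl fun p _ => ?_
  haveI : p.1.IsPrime := p.2.1.1
  rw [Brnch.numGeomBranches, if_pos (minimalPrimes_finite_quotient p)]
  exact ENat.card_congr (Equiv.sigmaCongrRight fun m => (nonempty_emb_equiv p e he m _ (hE ⟨p, m⟩)).some)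

end Groth.Agent.S9811
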