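import Groth.Statements.S14503
-- import your own Groth.Agent.* helpers here
import Groth.Agent.Lib.LatticeDist

set_option autoImplicit false
universe u
open IntTh

namespace Groth.Agent.S14503

/-- Let A ⊆ B be a module-finite extension of domains with A Noetherian local of Krull dimension one, K
⊆ L their fraction fields, and r ∈ B nonzero. Then B/rB has finite length as an A-module and
length_A(B/rB) equals the order at the closed point of A of the norm N_{L/K}(r), i.e.
length_A(A/(a)) − length_A(A/(b)) for N_{L/K}(r) = a/b. -/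
theorem result (A : Type u) [CommRing A] [IsDomain A]
    [IsNoetherianRing A] [IsLocalRing A] (hA : ringKrullDim A = 1) (B : Type u) [CommRing B]
    [IsDomain B] [Algebra A B] (hinj : Function.Injective (algebraMap A B)) [Module.Finite A B]
    (K L : Type u) [Field K] [Field L] [Algebra A K] [IsFractionRing A K] [Algebra B L]
    [IsFractionRing B L] [Algebra K L] [Algebra A L] [IsScalarTower A B L] [IsScalarTower A K L]
    [FiniteDimensional K L] (r : B) (hr : r ≠ 0) :
    Module.length A (B ⧸ Ideal.span {r}) < ⊤ ∧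
      ((Module.length A (B ⧸ Ideal.span {r})).toNat : ℤ) =
        CycAlg.ordFrac A K (Algebra.norm K (algebraMap B L r)) := by
  let ι : B →ₗ[A] L := (IsScalarTower.toAlgHom A B L).toLinearMap
  have hι : Function.Injective ι := IsFractionRing.injective B L
  let M : Submodule A L := LinearMap.range ι
  have hlat : Submodule.IsLattice K M := by
    refine ⟨?_, eq_top_iff.mpr fun x _ => ?_⟩
    · show (LinearMap.range ι).FG
      rw [LinearMap.range_eq_map]
      exact Module.Finite.fg_top.map _
    · obtain ⟨b₁, b₂, hb₂, rfl⟩ := IsFractionRing.div_surjective B x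
      have : FaithfulSMul A B := (faithfulSMul_iff_algebraMap_injective A B).mpr hinj
      obtain ⟨b', a, ha, hb'⟩ : ∃ b' : B, ∃ a : A, a ≠ 0 ∧ algebraMap A B a = b₂ * b' := by
        have hne : (Ideal.span {b₂}).comap (algebraMap A B) ≠ ⊥ :=
          Ideal.comap_ne_bot_of_integral_mem (nonZeroDivisors.ne_zero hb₂) (Ideal.mem_span_singleton_self b₂)
            (IsIntegral.of_finite A b₂)
        obtain ⟨a, ha, ha0⟩ := Submodule.exists_mem_ne_zero_of_ne_bot hne
        obtain ⟨b', hb'⟩ := Ideal.mem_span_singleton'.mp ha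
        exact ⟨b', a, ha0, by rw [← hb', mul_comm]⟩
      have hb2 : algebraMap B L b₂ ≠ 0 := fun h => nonZeroDivisors.ne_zero hb₂ (hι (h.trans (map_zero _).symm))
      have hak : algebraMap A K a ≠ 0 := fun h => ha (IsFractionRing.injective A K (h.trans (map_zero _).symm))
      have hab : algebraMap K L (algebraMap A K a) = algebraMap B L b₂ * algebraMap B L b' := by
        rw [← IsScalarTower.algebraMap_apply, IsScalarTower.algebraMap_apply A B L, hb', map_mul]
      have : algebraMap B L b₁ / algebraMap B L b₂ = (algebraMap A K a)⁻¹ • algebraMap B L (b₁ * b') := by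
        rw [Algebra.smul_def, map_inv₀, hab, map_mul]
        have hb' : algebraMap B L b' ≠ 0 := fun h => by
          rw [h, mul_zero] at hab
          exact hak ((algebraMap K L).injective (hab.trans (map_zero _).symm))
        field_simp
      rw [this]
      exact Submodule.smul_mem _ _ (Submodule.subset_span ⟨b₁ * b', rfl⟩)
  have hr' : algebraMap B L r ≠ 0 := fun h => hr (hι (h.trans (map_zero _).symm))
  let φ : L ≃ₗ[K] L := LinearEquiv.ofBijective (LinearMap.mulLeft K (algebraMap B L r))
    ⟨mul_right_injective₀ hr', fun y => ⟨(algebraMap B L r)⁻¹ * y, mul_inv_cancel_left₀ hr' y⟩⟩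
  have hφ : ∀ b, φ (ι b) = ι (r * b) := fun b => (map_mul (algebraMap B L) r b).symm
  have hle : M.map (φ.toLinearMap.restrictScalars A) ≤ M := by
    rintro _ ⟨_, ⟨b, rfl⟩, rfl⟩
    exact ⟨r * b, (hφ b).symm⟩
  have := GrothLib.LatticeDist.isLattice_map (A := A) M φ
  have := Submodule.IsLattice.finite K M
  have hlen : GrothLib.LatticeDist.relLen M (M.map (φ.toLinearMap.restrictScalars A)) =
      Module.length A (B ⧸ Ideal.span {r}) := by
    refine (((Ideal.span {r}).restrictScalars A).quotEquivOfEq _ rfl |>.symm.trans (Submodule.Quotient.equiv _ _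
      (LinearEquiv.ofInjective ι hι) ?_)).length_eq.symm.trans ?_
    · ext ⟨x, hx⟩
      obtain ⟨b, rfl⟩ := hx
      constructor
      · rintro ⟨z, hz, hze⟩
        obtain ⟨w, rfl⟩ := Ideal.mem_span_singleton'.mp hz
        exact ⟨ι w, ⟨w, rfl⟩, (hφ w).trans ((congrArg ι (mul_comm r w)).trans (congrArg Subtype.val hze))⟩
      · rintro ⟨_, ⟨w, rfl⟩, hwe⟩
        exact ⟨r * w, Ideal.mem_span_singleton'.mpr ⟨w, mul_comm w r⟩, Subtype.ext ((hφ w).symm.trans hwe)⟩
    · exact (Submodule.Quotient.restrictScalarsEquiv A (Ideal.span {r})).length_eq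
  refine ⟨hlen ▸ GrothLib.LatticeDist.relLen_lt_top (K := K) hA.le _ _, ?_⟩
  have h := GrothLib.LatticeDist.dist_map_eq hA.le M φ
  rw [GrothLib.LatticeDist.dist, inf_eq_right.mpr hle, GrothLib.LatticeDist.relLen_self, hlen] at h
  rw [Algebra.norm_apply, show Algebra.lmul K L (algebraMap B L r) = φ.toLinearMap from rfl]
  simpa using h

end Groth.Agent.S14503
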