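import Groth.Statements.S1849
-- import your own Groth.Agent.* helpers here
import Groth.Agent.Lib.Tame.Transport


set_option autoImplicit false
universe u
open CycAlg

namespace Groth.Agent.S1849

open IsLocalRing GrothLib.Tame

theorem tameSymbol_of_isUnit {R : Type u} [CommRing R] [IsLocalRing R] {x y : R} (hx : IsUnit x) (hy : IsUnit y) :
    CycAlg.tameSymbol R x y = 1 := by
  unfold CycAlg.tameSymbol
  split_ifs with h
  · haveI := (Classical.choice h).isFinExt.2.1
    obtain ⟨P, hP⟩ := exists_data (Classical.choice h)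
    rw [← hP]
    exact P.value_of_isUnit hx hy
  · rfl

theorem regular_of_notMem_ass {A : Type u} [CommRing A] [IsNoetherianRing A] [IsLocalRing A] {B : Type u} [CommRing B]
    [Algebra A B] (hB : CycAlg.IsFinExt A B (maximalIdeal A)) (hass : maximalIdeal A ∉ associatedPrimes A B) {d : A}
    (hd : d ∈ nonZeroDivisors A) : algebraMap A B d ∈ nonZeroDivisors B := by
  haveI : Module.Finite A B := hB.2.1
  obtain ⟨n, hn⟩ := hB.2.2
  rw [mem_nonZeroDivisors_iff_right]
  intro x hx
  by_contra hx0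
  have hkill : ∀ r ∈ maximalIdeal A ^ n, r • x = 0 := fun r hr => by
    obtain ⟨y, hy⟩ := hn r hr x
    have h0 : y * d = 0 := hB.1 (by rw [map_mul, hy, map_zero, smul_mul_assoc, hx, smul_zero])
    rw [← hy, (mul_right_mem_nonZeroDivisors_eq_zero_iff hd).1 h0, map_zero]
  let N : Submodule A B := Submodule.span A {x}
  haveI : Nontrivial N := Submodule.nontrivial_iff_ne_bot.2 (by simpa [N] using hx0)
  obtain ⟨P, hP⟩ := associatedPrimes.nonempty A N
  have hPm : P = maximalIdeal A := by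
    refine le_antisymm (le_maximalIdeal hP.isPrime.ne_top) fun r hr => hP.isPrime.mem_of_pow_mem n ?_
    refine hP.annihilator_le (Submodule.mem_annihilator.2 fun ⟨m, hm⟩ _ => Subtype.ext ?_)
    obtain ⟨c, rfl⟩ := Submodule.mem_span_singleton.1 hm
    show r ^ n • (c • x) = 0
    rw [smul_comm, hkill _ (Ideal.pow_mem_pow hr n), smul_zero]
  exact hass (hPm ▸ associatedPrimes.subset_of_injective N.subtype_injective hP)

theorem norm_nrm {A B S C E : Type u} [CommRing A] [IsLocalRing A] [CommRing S] [IsLocalRing S] [Algebra A S]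
    [IsLocalHom (algebraMap A S)] [CommRing C] [Algebra A C] [Module.Finite A C] [CommRing E] [Algebra C E]
    [Algebra A E] [Algebra S E] [IsScalarTower A S E] [IsScalarTower A C E] [Module.Finite S E]
    (M : Submonoid C) [IsLocalization M E] (Q' : Ideal E) [Q'.IsMaximal] (Q : Ideal C) [Q.IsMaximal]
    (hQ : Q'.comap (algebraMap C E) = Q) (y : C) :
    Algebra.norm (ResidueField A) (nrm (A := S) Q' (algebraMap C E y)) = nrm (A := A) Q y := by
  haveI : Q'.LiesOver (maximalIdeal A) := ⟨by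
    rw [Ideal.under_def, IsScalarTower.algebraMap_eq A C E, ← Ideal.comap_comap, hQ]
    exact (Ideal.LiesOver.over (P := Q) (p := maximalIdeal A))⟩
  letI : Field (A ⧸ maximalIdeal A) := Ideal.Quotient.field _
  letI : Field (S ⧸ maximalIdeal S) := Ideal.Quotient.field _
  letI : Field (E ⧸ Q') := Ideal.Quotient.field _
  let f : C ⧸ Q →ₐ[A ⧸ maximalIdeal A] E ⧸ Q' :=
    { Ideal.quotientMap Q' (algebraMap C E) hQ.ge with
      commutes' := fun x => by
        obtain ⟨x, rfl⟩ := Ideal.Quotient.mk_surjective x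
        show Ideal.Quotient.mk Q' (algebraMap C E (algebraMap A C x)) = Ideal.Quotient.mk Q' (algebraMap A E x)
        rw [← IsScalarTower.algebraMap_apply] }
  have hf : Function.Bijective f := by
    refine ⟨Ideal.quotientMap_injective' (H := hQ.ge) hQ.le, fun z => ?_⟩
    obtain ⟨z, rfl⟩ := Ideal.Quotient.mk_surjective z
    obtain ⟨⟨c, s⟩, hcs⟩ := IsLocalization.surj M z
    have hs : (s : C) ∉ Q := fun h => Ideal.IsPrime.ne_top (I := Q') inferInstance
      (Q'.eq_top_of_isUnit_mem (Ideal.mem_comap.1 (hQ.symm ▸ h)) (IsLocalization.map_units E s))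
    letI : Field (C ⧸ Q) := Ideal.Quotient.field _
    refine ⟨Ideal.Quotient.mk Q c * (Ideal.Quotient.mk Q (s : C))⁻¹, ?_⟩
    have hs0 : Ideal.Quotient.mk Q (s : C) ≠ 0 := fun h => hs (Ideal.Quotient.eq_zero_iff_mem.1 h)
    have hfs : f (Ideal.Quotient.mk Q (s : C)) ≠ 0 := fun h => hs0 (Ideal.quotientMap_injective' (H := hQ.ge) hQ.le
      (h.trans (map_zero _).symm))
    refine mul_right_cancel₀ hfs ?_
    rw [← map_mul, mul_assoc, inv_mul_cancel₀ hs0, mul_one]
    show Ideal.Quotient.mk Q' (algebraMap C E c) = _ * Ideal.Quotient.mk Q' (algebraMap C E s)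
    rw [← map_mul, hcs]
  haveI := finite_quot (A := A) Q
  haveI : Module.Finite (A ⧸ maximalIdeal A) (E ⧸ Q') := Module.Finite.equiv (AlgEquiv.ofBijective f hf).toLinearEquiv
  haveI : IsScalarTower (A ⧸ maximalIdeal A) (S ⧸ maximalIdeal S) (E ⧸ Q') := IsScalarTower.of_algebraMap_eq fun x => by
    obtain ⟨x, rfl⟩ := Ideal.Quotient.mk_surjective x
    show Ideal.Quotient.mk Q' (algebraMap A E x) = Ideal.Quotient.mk Q' (algebraMap S E (algebraMap A S x))
    rw [← IsScalarTower.algebraMap_apply]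
  rw [nrm_apply, nrm_apply, ← Algebra.norm_eq_of_algEquiv (AlgEquiv.ofBijective f hf)]
  exact Algebra.norm_norm (R := A ⧸ maximalIdeal A) (S := S ⧸ maximalIdeal S)
    (a := Ideal.Quotient.mk Q' (algebraMap C E y))

theorem compare_aux {A B C : Type u} [CommRing A] [IsNoetherianRing A] [IsLocalRing A] [Ring.KrullDimLE 1 A]
    [CommRing B] [Algebra A B] [CommRing C] [Algebra A C] [Module.Finite A B] [Module.Finite A C]
    (hB : CycAlg.IsFinExt A B (maximalIdeal A)) (hC : CycAlg.IsFinExt A C (maximalIdeal A))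
    (f : B →ₐ[A] C) (hf : Function.Injective f)
    [hloc : ∀ q : MaximalSpectrum B, IsLocalHom (algebraMap A (Localization.AtPrime q.asIdeal))]
    {a b : A} (ha : a ∈ nonZeroDivisors A) (hb : b ∈ nonZeroDivisors A)
    (habB : algebraMap A B (a * b) ∈ nonZeroDivisors B) (P : Data A C a b) :
    CycAlg.tameSymbol A a b = ∏ᶠ q : MaximalSpectrum B, Algebra.norm (ResidueField A)
      (CycAlg.tameSymbol (Localization.AtPrime q.asIdeal) (algebraMap A (Localization.AtPrime q.asIdeal) a)
        (algebraMap A (Localization.AtPrime q.asIdeal) b)) := by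
  classical
  by_cases hu : IsUnit a ∧ IsUnit b
  · rw [tameSymbol_of_isUnit hu.1 hu.2]
    refine (finprod_eq_one_of_forall_eq_one fun q => ?_).symm
    rw [tameSymbol_of_isUnit (hu.1.map _) (hu.2.map _), map_one]
  have ham : a * b ∈ maximalIdeal A := by rw [mem_maximalIdeal, mem_nonunits_iff, IsUnit.mul_iff]; exact hu
  letI : Algebra B C := f.toRingHom.toAlgebra
  haveI : IsScalarTower A B C := IsScalarTower.of_algebraMap_eq fun x => (f.commutes x).symm
  haveI : Module.Finite B C := Module.Finite.of_restrictScalars_finite A B C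
  haveI : IsNoetherianRing B := IsNoetherianRing.of_finite A B
  haveI := finite_maximalSpectrum A B
  haveI := finite_maximalSpectrum A C
  haveI := Fintype.ofFinite (MaximalSpectrum B)
  haveI := Fintype.ofFinite (MaximalSpectrum C)
  let dn : MaximalSpectrum C → MaximalSpectrum B := fun Q =>
    ⟨Q.asIdeal.comap (algebraMap B C), Ideal.isMaximal_comap_of_isIntegral_of_isMaximal Q.asIdeal⟩
  rw [tameSymbol_eq_value ha hb hC P, Data.value, finprod_eq_prod_of_fintype, finprod_eq_prod_of_fintype,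
    ← Finset.prod_fiberwise Finset.univ dn]
  refine Finset.prod_congr rfl fun q _ => ?_
  haveI := hloc q
  let S := Localization.AtPrime q.asIdeal
  let E := Localization (Algebra.algebraMapSubmonoid C q.asIdeal.primeCompl)
  haveI : IsNoetherianRing S := IsLocalization.isNoetherianRing q.asIdeal.primeCompl S inferInstance
  haveI : Ring.KrullDimLE 1 S := krullDimLE_localization (A := A) q.asIdeal
  letI : Algebra S E := localizationAlgebra q.asIdeal.primeCompl C
  haveI : IsScalarTower B S E := IsScalarTower.of_algebraMap_eq fun x => (IsLocalization.map_eq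
    (show q.asIdeal.primeCompl ≤ (Algebra.algebraMapSubmonoid C q.asIdeal.primeCompl).comap (algebraMap B C) from
      Submonoid.le_comap_map _) x).symm
  haveI : IsScalarTower A B E := IsScalarTower.of_algebraMap_eq fun x => by
    rw [IsScalarTower.algebraMap_apply B C E, ← IsScalarTower.algebraMap_apply A B C, ← IsScalarTower.algebraMap_apply A C E]
  haveI : IsScalarTower A S E := IsScalarTower.of_algebraMap_eq fun x => by
    rw [IsScalarTower.algebraMap_apply A B S, ← IsScalarTower.algebraMap_apply B S E, ← IsScalarTower.algebraMap_apply A B E]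
  haveI : Module.Finite S E := finite_base S q.asIdeal (C := C)
  have hmax : ∀ Q : PrimeSpectrum C, Q.asIdeal.comap (algebraMap B C) = q.asIdeal → Q.asIdeal.IsMaximal := fun Q hQ =>
    Ideal.isMaximal_of_isIntegral_of_isMaximal_comap Q.asIdeal (hQ ▸ q.isMaximal)
  let π' : PrimeSpectrum C → C := fun Q => if h : Q.asIdeal.IsMaximal then P.π ⟨Q.asIdeal, h⟩ else 1
  let f₁ : PrimeSpectrum C → ℕ := fun Q => if h : Q.asIdeal.IsMaximal then P.e₁ ⟨Q.asIdeal, h⟩ else 0
  let f₂ : PrimeSpectrum C → ℕ := fun Q => if h : Q.asIdeal.IsMaximal then P.e₂ ⟨Q.asIdeal, h⟩ else 0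
  let R := localData (S := S) (E := E) (p := q.asIdeal) (a₁ := algebraMap A B a) (a₂ := algebraMap A B b) π' f₁ f₂
    (fun Q hQ => by simp only [π', dif_pos (hmax Q hQ)]; exact P.reg ⟨Q.asIdeal, hmax Q hQ⟩)
    (fun Q hQ => by
      simp only [π', f₁, dif_pos (hmax Q hQ), ← IsScalarTower.algebraMap_apply]; exact P.h₁ ⟨Q.asIdeal, hmax Q hQ⟩)
    (fun Q hQ => by
      simp only [π', f₂, dif_pos (hmax Q hQ), ← IsScalarTower.algebraMap_apply]; exact P.h₂ ⟨Q.asIdeal, hmax Q hQ⟩)
  obtain ⟨n, hn⟩ := hC.2.2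
  have hd : algebraMap B S (algebraMap A B (a * b)) ∈ nonZeroDivisors S :=
    IsLocalization.map_nonZeroDivisors_le q.asIdeal.primeCompl S (Submonoid.mem_map_of_mem _ habB)
  have hES : CycAlg.IsFinExt S E (maximalIdeal S) := by
    refine isFinExt_of_smul_mem (injective_base S C q.asIdeal hf) (pow_mem hd n) fun z => ?_
    obtain ⟨⟨c, ⟨_, t, ht, rfl⟩⟩, hz⟩ := IsLocalization.surj (Algebra.algebraMapSubmonoid C q.asIdeal.primeCompl) z
    obtain ⟨y, hy⟩ := hn _ (Ideal.pow_mem_pow ham n) c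
    have htu : IsUnit (algebraMap B S t) := IsLocalization.map_units S (⟨t, ht⟩ : q.asIdeal.primeCompl)
    refine ⟨algebraMap A S y * ↑htu.unit⁻¹, (htu.map (algebraMap S E)).mul_right_cancel ?_⟩
    rw [← map_mul, mul_assoc, IsUnit.val_inv_mul, mul_one, Algebra.smul_def, mul_assoc, ← IsScalarTower.algebraMap_apply B S E,
      IsScalarTower.algebraMap_apply B C E t, hz, map_pow, ← IsScalarTower.algebraMap_apply A B S,
      ← IsScalarTower.algebraMap_apply A S E, ← IsScalarTower.algebraMap_apply A S E, IsScalarTower.algebraMap_apply A C E,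
      hy, Algebra.smul_def, map_mul, map_pow (algebraMap A C), map_pow (algebraMap C E), ← IsScalarTower.algebraMap_apply A C E]
  have hab' := mul_mem_nonZeroDivisors.1 (map_mul (algebraMap B S) (algebraMap A B a) (algebraMap A B b) ▸
    map_mul (algebraMap A B) a b ▸ hd)
  rw [show algebraMap A S a = algebraMap B S (algebraMap A B a) from IsScalarTower.algebraMap_apply A B S a,
    show algebraMap A S b = algebraMap B S (algebraMap A B b) from IsScalarTower.algebraMap_apply A B S b,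
    tameSymbol_eq_value hab'.1 hab'.2 hES R, Data.value]
  haveI := finite_maximalSpectrum S E
  haveI := Fintype.ofFinite (MaximalSpectrum E)
  rw [finprod_eq_prod_of_fintype, map_prod]
  have hdm : ∀ Q' : MaximalSpectrum E, (down C Q').asIdeal.IsMaximal := fun Q' =>
    hmax _ (comap_comap_eq S q.asIdeal Q'.asIdeal)
  refine (Finset.prod_bij (fun Q' _ => (⟨(down C Q').asIdeal, hdm Q'⟩ : MaximalSpectrum C)) (fun Q' _ => ?_)
    (fun Q₁ _ Q₂ _ h => down_injective S q.asIdeal (PrimeSpectrum.ext (congrArg MaximalSpectrum.asIdeal h :)))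
    (fun Q hQ => ?_) (fun Q' _ => ?_)).symm
  · exact Finset.mem_filter.2 ⟨Finset.mem_univ _, MaximalSpectrum.ext (comap_comap_eq S q.asIdeal Q'.asIdeal)⟩
  · obtain ⟨Q', hQ'⟩ := exists_down_eq S E q.asIdeal ⟨Q.asIdeal, inferInstance⟩
      (congrArg MaximalSpectrum.asIdeal (Finset.mem_filter.1 hQ).2)
    exact ⟨Q', Finset.mem_univ _, MaximalSpectrum.ext (congrArg PrimeSpectrum.asIdeal hQ')⟩
  set Q : MaximalSpectrum C := ⟨(down C Q').asIdeal, hdm Q'⟩
  have hQQ : Q'.asIdeal.comap (algebraMap C E) = Q.asIdeal := rfl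
  have hN := fun y => norm_nrm (A := A) (B := B) (S := S) (Algebra.algebraMapSubmonoid C q.asIdeal.primeCompl)
    Q'.asIdeal Q.asIdeal hQQ y
  have hπ : π' (down C Q') = P.π Q := dif_pos (hdm Q')
  have he1 : R.e₁ Q' = P.e₁ Q := dif_pos (hdm Q')
  have he2 : R.e₂ Q' = P.e₂ Q := dif_pos (hdm Q')
  have hmult : R.mult Q' = P.mult Q := by
    unfold Data.mult
    rw [show R.π Q' = algebraMap C E (π' (down C Q')) from rfl, hπ,
      ord_point hQQ (Algebra.algebraMapSubmonoid C q.asIdeal.primeCompl)]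
  have hnu : ∀ {x : B} {e : ℕ} (h : PowAt Q.asIdeal (P.π Q) (algebraMap B C x) e)
      (h' : PowAt Q'.asIdeal (algebraMap C E (P.π Q)) (algebraMap S E (algebraMap B S x)) e),
      Algebra.norm (ResidueField A) (h'.nu (A := S)) = h.nu (A := A) := by
    intro x e h h'
    obtain ⟨s, c, hs, hc, hx⟩ := id h
    have hs' : algebraMap C E s ∉ Q'.asIdeal := fun hm => hs (hQQ ▸ Ideal.mem_comap.2 hm)
    rw [h'.nu_eq (regular_point hQQ (Algebra.algebraMapSubmonoid C q.asIdeal.primeCompl) (P.reg Q)) _ _ hs'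
      (by rw [← IsScalarTower.algebraMap_apply, IsScalarTower.algebraMap_apply B C E, ← map_mul, hx, map_mul, map_pow]),
      h.nu_eq (P.reg Q) s c hs hx, eq_div_iff (nrm_ne_zero _ hs), ← hN c, ← hN s, ← map_mul,
      div_mul_cancel₀ _ (nrm_ne_zero _ hs')]
  have hc1 : PowAt Q'.asIdeal (algebraMap C E (P.π Q)) (algebraMap S E (algebraMap B S (algebraMap A B a))) (P.e₁ Q) :=
    hπ ▸ he1 ▸ R.h₁ Q'
  have hc2 : PowAt Q'.asIdeal (algebraMap C E (P.π Q)) (algebraMap S E (algebraMap B S (algebraMap A B b))) (P.e₂ Q) :=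
    hπ ▸ he2 ▸ R.h₂ Q'
  have hR : R.sym Q' = nrm (A := S) Q'.asIdeal (-1) ^ (P.e₁ Q * P.e₂ Q) * hc1.nu ^ P.e₂ Q * (hc2.nu ^ P.e₁ Q)⁻¹ := by
    have key : ∀ (π₀ : E) (e₁ e₂ : ℕ) (g₁ : PowAt Q'.asIdeal π₀ (algebraMap S E (algebraMap B S (algebraMap A B a))) e₁)
        (g₂ : PowAt Q'.asIdeal π₀ (algebraMap S E (algebraMap B S (algebraMap A B b))) e₂),
        π₀ = algebraMap C E (P.π Q) → e₁ = P.e₁ Q → e₂ = P.e₂ Q →
        nrm (A := S) Q'.asIdeal (-1) ^ (e₁ * e₂) * g₁.nu ^ e₂ * (g₂.nu ^ e₁)⁻¹ =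
          nrm (A := S) Q'.asIdeal (-1) ^ (P.e₁ Q * P.e₂ Q) * hc1.nu ^ P.e₂ Q * (hc2.nu ^ P.e₁ Q)⁻¹ := by
      rintro π₀ e₁ e₂ g₁ g₂ rfl rfl rfl; rfl
    exact key _ _ _ _ _ (congrArg (algebraMap C E) hπ) he1 he2
  have hne : hc2.nu (A := S) ^ P.e₁ Q ≠ 0 := pow_ne_zero _ hc2.nu_ne_zero
  have hinv : ∀ z : ResidueField S, z ≠ 0 → Algebra.norm (ResidueField A) z⁻¹ = (Algebra.norm (ResidueField A) z)⁻¹ :=
    fun z hz => eq_inv_of_mul_eq_one_left (by rw [← map_mul, inv_mul_cancel₀ hz, map_one])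
  rw [hR, hmult, map_pow]
  congr 1
  have hm1 : (algebraMap C E) (-1) = -1 := by rw [map_neg, map_one]
  have h1 : PowAt Q.asIdeal (P.π Q) (algebraMap B C (algebraMap A B a)) (P.e₁ Q) :=
    IsScalarTower.algebraMap_apply A B C a ▸ P.h₁ Q
  have h2 : PowAt Q.asIdeal (P.π Q) (algebraMap B C (algebraMap A B b)) (P.e₂ Q) :=
    IsScalarTower.algebraMap_apply A B C b ▸ P.h₂ Q
  rw [map_mul, map_mul, map_pow, map_pow, hinv _ hne, map_pow, hnu h1 hc1, hnu h2 hc2, ← hm1, hN]
  have key : ∀ (x y : C) (g₁ : PowAt Q.asIdeal (P.π Q) x (P.e₁ Q)) (g₂ : PowAt Q.asIdeal (P.π Q) y (P.e₂ Q)),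
      x = algebraMap A C a → y = algebraMap A C b →
      nrm (A := A) Q.asIdeal (-1) ^ (P.e₁ Q * P.e₂ Q) * g₁.nu ^ P.e₂ Q * (g₂.nu ^ P.e₁ Q)⁻¹ = P.sym Q := by
    rintro x y g₁ g₂ rfl rfl; rfl
  exact key _ _ h1 h2 (IsScalarTower.algebraMap_apply A B C a).symm (IsScalarTower.algebraMap_apply A B C b).symm

end Groth.Agent.S1849

namespace Groth.Agent.S1849

/-- Let A be a Noetherian local ring of dimension 1 and A ⊆ B a finite extension with B/A killed by a
power of the maximal ideal 𝔪 and 𝔪 not an associated prime of the A-module B. For nonzerodivisors a,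
b of A, ∂_A(a, b) is the product over the maximal ideals 𝔪_j of B of the norms from κ(𝔪_j) to κ of
∂_{B_{𝔪_j}}(a, b). -/
theorem result (A : Type u) [CommRing A] [IsNoetherianRing A] [IsLocalRing A] (hA : ringKrullDim A = 1) (B : Type u) [CommRing B] [Algebra A B] (hB : CycAlg.IsFinExt A B (IsLocalRing.maximalIdeal A)) (hass : IsLocalRing.maximalIdeal A ∉ associatedPrimes A B) [hloc : ∀ q : MaximalSpectrum B, IsLocalHom (algebraMap A (Localization.AtPrime q.asIdeal))] (a b : A) (ha : a ∈ nonZeroDivisors A) (hb : b ∈ nonZeroDivisors A) : CycAlg.tameSymbol A a b = ∏ᶠ q : MaximalSpectrum B, Algebra.norm (IsLocalRing.ResidueField A) (CycAlg.tameSymbol (Localization.AtPrime q.asIdeal) (algebraMap A (Localization.AtPrime q.asIdeal) a) (algebraMap A (Localization.AtPrime q.asIdeal) b)) := by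
  classical
  haveI : Ring.KrullDimLE 1 A := Ring.krullDimLE_iff.2 (by rw [hA]; rfl)
  haveI : Module.Finite A B := hB.2.1
  haveI : IsNoetherianRing B := IsNoetherianRing.of_finite A B
  by_cases hu : IsUnit a ∧ IsUnit b
  · rw [tameSymbol_of_isUnit hu.1 hu.2]
    refine (finprod_eq_one_of_forall_eq_one fun q => ?_).symm
    rw [tameSymbol_of_isUnit (hu.1.map _) (hu.2.map _), map_one]
  have ham : a * b ∈ IsLocalRing.maximalIdeal A := by
    rw [IsLocalRing.mem_maximalIdeal, mem_nonunits_iff, IsUnit.mul_iff]; exact hu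
  have hab : a * b ∈ nonZeroDivisors A := mul_mem ha hb
  have habB : algebraMap A B (a * b) ∈ nonZeroDivisors B := regular_of_notMem_ass hB hass hab
  let L := Localization.Away (a * b)
  obtain ⟨j, hj⟩ := GrothLib.Tame.exists_embedding hB ham habB L
  obtain ⟨G, hG⟩ := Module.finite_def.1 ‹Module.Finite A B›
  obtain ⟨C, hfinC, hC, hSC, hπC⟩ := GrothLib.Tame.exists_family hab ham L (j '' (G : Set B)) (G.finite_toSet.image _)
    (by rintro _ ⟨x, -, rfl⟩; exact (Algebra.IsIntegral.isIntegral x).map j) {a, b} (Set.toFinite _)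
  haveI := hfinC
  choose π hπ hreg hπa hπF hπS using fun q : MaximalSpectrum C => hπC q.asIdeal
  choose e₁ he₁ using fun q => hπF q a (by simp) ha
  choose e₂ he₂ using fun q => hπF q b (by simp) hb
  have hjC : ∀ x, j x ∈ C := by
    intro x
    have h : Submodule.span A (G : Set B) ≤ (Subalgebra.toSubmodule C).comap j.toLinearMap :=
      Submodule.span_le.2 fun y hy => hSC ⟨y, hy, rfl⟩
    exact h (hG ▸ Submodule.mem_top)
  exact compare_aux hB hC (j.codRestrict C hjC) (fun x y h => hj (congrArg Subtype.val h)) ha hb habB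
    ⟨π, hreg, e₁, e₂, he₁, he₂⟩

end Groth.Agent.S1849
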