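import Groth.Statements.S1851
-- import your own Groth.Agent.* helpers here
import Groth.Agent.Lib.Tame.Dim2Base
import Groth.Agent.S1849


set_option autoImplicit false
universe u
open CycAlg

namespace Groth.Agent.S1851

open IsLocalRing GrothLib GrothLib.Tame GrothLib.LengthDet

section ordFrac

variable {R K : Type u} [CommRing R] [IsDomain R] [IsNoetherianRing R] [Ring.KrullDimLE 1 R] [Field K]
  [Algebra R K] [IsFractionRing R K]

theorem ordFrac_one : CycAlg.ordFrac R K 1 = 0 := by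
  have h := CycPush.ordFrac_mul (A := R) K (one_ne_zero) (one_ne_zero)
  rw [mul_one] at h
  linarith

theorem ordFrac_pow {x : K} (hx : x ≠ 0) (n : ℕ) : CycAlg.ordFrac R K (x ^ n) = n * CycAlg.ordFrac R K x := by
  induction n with
  | zero => simp [ordFrac_one]
  | succ n ih => rw [pow_succ, CycPush.ordFrac_mul K (pow_ne_zero _ hx) hx, ih]; push_cast; ring

theorem ordFrac_div {x y : K} (hx : x ≠ 0) (hy : y ≠ 0) :
    CycAlg.ordFrac R K (x / y) = CycAlg.ordFrac R K x - CycAlg.ordFrac R K y := by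
  have h := CycPush.ordFrac_mul (A := R) K (div_ne_zero hx hy) hy
  rw [div_mul_cancel₀ _ hy] at h
  linarith

theorem ordFrac_prod {ι : Type*} (s : Finset ι) (f : ι → K) (h : ∀ i ∈ s, f i ≠ 0) :
    CycAlg.ordFrac R K (∏ i ∈ s, f i) = ∑ i ∈ s, CycAlg.ordFrac R K (f i) := by
  classical
  induction s using Finset.induction_on with
  | empty => simp [ordFrac_one]
  | insert i s hi ih =>
    rw [Finset.prod_insert hi, Finset.sum_insert hi, CycPush.ordFrac_mul K (h i (Finset.mem_insert_self i s))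
      (Finset.prod_ne_zero_iff.2 fun j hj => h j (Finset.mem_insert_of_mem hj)), ih fun j hj => h j (Finset.mem_insert_of_mem hj)]

end ordFrac

variable {A : Type u} [CommRing A] [IsNoetherianRing A] [IsLocalRing A]

/-- Finitely many integral elements giving parameters at the points over one curve. -/
theorem exists_spread (q : Ideal A) [q.IsPrime] [Ring.KrullDimLE 1 (Localization.AtPrime q)] {a b : A}
    (ha : a ∈ nonZeroDivisors A) (hb : b ∈ nonZeroDivisors A) (hzq : a * b ∈ q)
    (L : Type u) [CommRing L] [Algebra A L] [IsLocalization.Away (a * b) L] :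
    ∃ Y : Set L, Y.Finite ∧ (∀ y ∈ Y, IsIntegral A y) ∧
      ∀ B : Subalgebra A L, Y ⊆ B → ∀ Q : PrimeSpectrum B, Q.asIdeal.comap (algebraMap A B) = q →
        ∃ π : B, π ∈ Q.asIdeal ∧ (∃ e, PowAt Q.asIdeal π (algebraMap A B (a * b)) e) ∧
          (∃ e, PowAt Q.asIdeal π (algebraMap A B a) e) ∧ ∃ e, PowAt Q.asIdeal π (algebraMap A B b) e := by
  classical
  let S := Localization.AtPrime q
  let Lq := Localization (Algebra.algebraMapSubmonoid L q.primeCompl)
  letI : Algebra S Lq := localizationAlgebra q.primeCompl L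
  haveI : IsScalarTower A S Lq := IsScalarTower.of_algebraMap_eq fun x => by
    rw [IsScalarTower.algebraMap_apply A L Lq]
    exact (IsLocalization.map_eq (show q.primeCompl ≤ (Algebra.algebraMapSubmonoid L q.primeCompl).comap (algebraMap A L) from
      Submonoid.le_comap_map _) x).symm
  haveI : IsLocalization.Away (algebraMap A S (a * b)) Lq := by
    have h := IsLocalization.commutes S L Lq q.primeCompl (Submonoid.powers (a * b))
    rwa [Algebra.algebraMapSubmonoid_powers] at h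
  have hnz : ∀ {x : A}, x ∈ nonZeroDivisors A → algebraMap A S x ∈ nonZeroDivisors S := fun hx =>
    IsLocalization.map_nonZeroDivisors_le q.primeCompl S (Submonoid.mem_map_of_mem _ hx)
  have hzm : algebraMap A S (a * b) ∈ maximalIdeal S := (IsLocalization.AtPrime.to_map_mem_maximal_iff S q _).2 hzq
  obtain ⟨C, hfin, -, -, hC⟩ := exists_family (hnz (mul_mem ha hb)) hzm Lq ∅ Set.finite_empty (by simp)
    {algebraMap A S a, algebraMap A S b} (Set.toFinite _)
  haveI := hfin
  obtain ⟨G, hG⟩ := Module.finite_def.1 hfin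
  choose y hy w hw hyw using fun g : C => exists_lift (L := L) q (x := (g : Lq))
    ((Algebra.IsIntegral.isIntegral (R := S) g).map C.val)
  refine ⟨y '' G, G.finite_toSet.image y, by rintro _ ⟨g, -, rfl⟩; exact hy g, fun B hB Q hQ => ?_⟩
  haveI : IsScalarTower A B Lq := IsScalarTower.of_algebraMap_eq fun x => IsScalarTower.algebraMap_apply A L Lq x
  have hkill : ∀ β : B, algebraMap B Lq β = 0 → ∃ v, v ∉ q ∧ algebraMap A B v * β = 0 := by
    intro β hβ
    obtain ⟨⟨_, v, hv, rfl⟩, hv0⟩ := (IsLocalization.map_eq_zero_iff (Algebra.algebraMapSubmonoid L q.primeCompl) Lq _).1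
      (show algebraMap L Lq (β : L) = 0 from hβ)
    exact ⟨v, hv, Subtype.ext hv0⟩
  have hdense : ∀ c : C, ∃ v β, v ∉ q ∧ algebraMap B Lq β = algebraMap A Lq v * algebraMap C Lq c := by
    intro c
    have hc : c ∈ Submodule.span S (G : Set C) := hG ▸ Submodule.mem_top
    induction hc using Submodule.span_induction with
    | mem g hg => exact ⟨w g, ⟨y g, hB ⟨g, hg, rfl⟩⟩, hw g, hyw g⟩
    | zero => exact ⟨1, 0, fun h => Ideal.IsPrime.ne_top ‹q.IsPrime› ((Ideal.eq_top_iff_one _).2 h), by simp⟩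
    | add c d _ _ hc hd =>
      obtain ⟨v, β, hv, h⟩ := hc
      obtain ⟨v', β', hv', h'⟩ := hd
      refine ⟨v * v', algebraMap A B v' * β + algebraMap A B v * β', q.primeCompl.mul_mem hv hv', ?_⟩
      rw [map_add, map_mul, map_mul, h, h', ← IsScalarTower.algebraMap_apply, ← IsScalarTower.algebraMap_apply, map_mul, map_add]
      ring
    | smul r c _ hc =>
      obtain ⟨v, β, hv, h⟩ := hc
      obtain ⟨⟨x, s⟩, hxs⟩ := IsLocalization.surj q.primeCompl r
      refine ⟨v * s, algebraMap A B x * β, q.primeCompl.mul_mem hv s.2, ?_⟩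
      rw [map_mul, h, ← IsScalarTower.algebraMap_apply, map_mul, Algebra.smul_def, map_mul, ← IsScalarTower.algebraMap_apply S C Lq,
        IsScalarTower.algebraMap_apply A S Lq x, ← hxs, map_mul, ← IsScalarTower.algebraMap_apply A S Lq]
      ring
  obtain ⟨q', hq'm, hq'⟩ := exists_point (S := S) q Q.asIdeal hQ hkill hdense
  obtain ⟨π, hπ, -, ⟨e, -, he⟩, hf, -⟩ := hC q'
  obtain ⟨ea, hea⟩ := hf _ (Set.mem_insert _ _) (hnz ha)
  obtain ⟨eb, heb⟩ := hf _ (Set.mem_insert_of_mem _ rfl) (hnz hb)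
  rw [← IsScalarTower.algebraMap_apply A S C] at he hea heb
  obtain ⟨v, β, hv, hβ⟩ := hdense π
  exact ⟨β, (hq' π v β hv hβ).1 hπ, ⟨e, powAt_point q Q.asIdeal hQ hkill hdense hq' he hv hβ⟩,
    ⟨ea, powAt_point q Q.asIdeal hQ hkill hdense hq' hea hv hβ⟩, ⟨eb, powAt_point q Q.asIdeal hQ hkill hdense hq' heb hv hβ⟩⟩

/-- The order of the symbol along one curve. -/
theorem ordFrac_eq_sum (q : Ideal A) [q.IsPrime] [Ring.KrullDimLE 1 (Localization.AtPrime q)]
    (hdim : ringKrullDim (A ⧸ q) = 1) {a b : A}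
    (ha : a ∈ nonZeroDivisors A) (hb : b ∈ nonZeroDivisors A) {B : Type u} [CommRing B] [Algebra A B] [Module.Finite A B]
    [IsNoetherianRing B] (hinj : Function.Injective (algebraMap A B)) {n : ℕ}
    (hn : ∀ x : B, ∃ y, algebraMap A B y = algebraMap A B ((a * b) ^ n) * x)
    {T : Finset (PrimeSpectrum B)} {π : PrimeSpectrum B → B} (hP : Params T π)
    (hga : Good T π (algebraMap A B a)) (hgb : Good T π (algebraMap A B b))
    (hT : ∀ Q : PrimeSpectrum B, Q.asIdeal.comap (algebraMap A B) = q → Q ∈ T)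
    [DecidablePred fun Q : PrimeSpectrum B => Q.asIdeal.comap (algebraMap A B) = q] :
    CycAlg.ordFrac (A ⧸ q) q.ResidueField (CycAlg.tameSymbol (Localization.AtPrime q)
        (algebraMap A (Localization.AtPrime q) a) (algebraMap A (Localization.AtPrime q) b)) =
      ∑ Q ∈ T with Q.asIdeal.comap (algebraMap A B) = q, psi A T π Q (algebraMap A B a) (algebraMap A B b) := by
  classical
  haveI : Ring.KrullDimLE 1 (A ⧸ q) := Ring.krullDimLE_iff.2 hdim.le
  let S := Localization.AtPrime q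
  let E := Localization (Algebra.algebraMapSubmonoid B q.primeCompl)
  letI : Algebra S E := localizationAlgebra q.primeCompl B
  haveI : IsScalarTower A S E := IsScalarTower.of_algebraMap_eq fun x => by
    rw [IsScalarTower.algebraMap_apply A B E]
    exact (IsLocalization.map_eq (show q.primeCompl ≤ (Algebra.algebraMapSubmonoid B q.primeCompl).comap (algebraMap A B) from
      Submonoid.le_comap_map _) x).symm
  haveI : Module.Finite S E := finite_base S q (C := B)
  let P := localData (S := S) (E := E) (p := q) (a₁ := a) (a₂ := b) π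
    (fun Q => expo π Q (algebraMap A B a)) (fun Q => expo π Q (algebraMap A B b))
    (fun Q hQ => hP.reg Q (hT Q hQ))
    (fun Q hQ => by obtain ⟨e, he⟩ := hga.2 Q (hT Q hQ); rwa [expo_eq hP (hT Q hQ) he])
    (fun Q hQ => by obtain ⟨e, he⟩ := hgb.2 Q (hT Q hQ); rwa [expo_eq hP (hT Q hQ) he])
  have hnz : ∀ {x : A}, x ∈ nonZeroDivisors A → algebraMap A S x ∈ nonZeroDivisors S := fun hx =>
    IsLocalization.map_nonZeroDivisors_le q.primeCompl S (Submonoid.mem_map_of_mem _ hx)
  have hES : CycAlg.IsFinExt S E (maximalIdeal S) := by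
    refine isFinExt_of_smul_mem (injective_base S B q hinj) (hnz (pow_mem (mul_mem ha hb) n)) fun z => ?_
    obtain ⟨⟨c, ⟨_, t, ht, rfl⟩⟩, hz⟩ := IsLocalization.surj (Algebra.algebraMapSubmonoid B q.primeCompl) z
    obtain ⟨y, hy⟩ := hn c
    have htu : IsUnit (algebraMap A S t) := IsLocalization.map_units S (⟨t, ht⟩ : q.primeCompl)
    refine ⟨algebraMap A S y * ↑htu.unit⁻¹, (htu.map (algebraMap S E)).mul_right_cancel ?_⟩
    rw [← map_mul, mul_assoc, IsUnit.val_inv_mul, mul_one, Algebra.smul_def, mul_assoc, ← IsScalarTower.algebraMap_apply A S E,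
      ← IsScalarTower.algebraMap_apply A S E, ← IsScalarTower.algebraMap_apply A S E, IsScalarTower.algebraMap_apply A B E t, hz,
      IsScalarTower.algebraMap_apply A B E y, hy, map_mul, ← IsScalarTower.algebraMap_apply A B E]
  rw [tameSymbol_eq_value (hnz ha) (hnz hb) hES P, Data.value]
  haveI := finite_maximalSpectrum S E
  haveI := Fintype.ofFinite (MaximalSpectrum E)
  rw [finprod_eq_prod_of_fintype, ordFrac_prod _ _ (fun Q' _ => pow_ne_zero _ (P.sym_ne_zero Q'))]
  refine Finset.sum_bij (fun Q' _ => down B Q') (fun Q' _ => ?_) (fun Q₁ _ Q₂ _ h => down_injective S q h) (fun Q hQ => ?_)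
    (fun Q' _ => ?_)
  · exact Finset.mem_filter.2 ⟨hT _ (comap_comap_eq S q Q'.asIdeal), comap_comap_eq S q Q'.asIdeal⟩
  · obtain ⟨Q', hQ'⟩ := exists_down_eq S E q Q (Finset.mem_filter.1 hQ).2
    exact ⟨Q', Finset.mem_univ _, hQ'⟩
  set Q := down B Q'
  have hQq : Q.asIdeal.comap (algebraMap A B) = q := comap_comap_eq S q Q'.asIdeal
  have hQT := hT Q hQq
  have hQQ : Q'.asIdeal.comap (algebraMap B E) = Q.asIdeal := rfl
  have hnrm : ∀ {y : B}, y ∉ Q.asIdeal →
      CycAlg.ordFrac (A ⧸ q) q.ResidueField (nrm (A := S) Q'.asIdeal (algebraMap B E y)) = delta A Q y := by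
    intro y hy
    letI : Field (E ⧸ Q'.asIdeal) := Ideal.Quotient.field _
    letI : Algebra (ResidueField S) (E ⧸ Q'.asIdeal) := (inferInstance : Algebra (S ⧸ maximalIdeal S) (E ⧸ Q'.asIdeal))
    haveI : FiniteDimensional (ResidueField S) (E ⧸ Q'.asIdeal) := finite_quot (A := S) Q'.asIdeal
    refine ordFrac_norm_eq_delta q hdim Q hQq q.ResidueField (E ⧸ Q'.asIdeal)
      ((Ideal.Quotient.mk Q'.asIdeal).comp (algebraMap B E)) ?_ (fun z => ?_) (fun x => ?_) hy
    · ext z
      rw [RingHom.mem_ker, RingHom.comp_apply, Ideal.Quotient.eq_zero_iff_mem]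
      rfl
    · obtain ⟨z, rfl⟩ := Ideal.Quotient.mk_surjective z
      obtain ⟨⟨c, s⟩, hcs⟩ := IsLocalization.surj (Algebra.algebraMapSubmonoid B q.primeCompl) z
      refine ⟨c, s, fun h => Ideal.IsPrime.ne_top (I := Q'.asIdeal) inferInstance
        (Q'.asIdeal.eq_top_of_isUnit_mem (Ideal.mem_comap.1 h) (IsLocalization.map_units E s)), ?_⟩
      rw [RingHom.comp_apply, RingHom.comp_apply, ← map_mul, hcs]
    · show Ideal.Quotient.mk Q'.asIdeal (algebraMap B E (algebraMap A B x)) = Ideal.Quotient.mk Q'.asIdeal (algebraMap S E (algebraMap A S x))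
      rw [← IsScalarTower.algebraMap_apply, ← IsScalarTower.algebraMap_apply]
  have hne : ∀ {y : B}, y ∉ Q.asIdeal → nrm (A := S) Q'.asIdeal (algebraMap B E y) ≠ 0 := fun hy =>
    nrm_ne_zero _ fun h => hy (Ideal.mem_comap.2 h)
  have hnu : ∀ {x : A} {e : ℕ}, Good T π (algebraMap A B x) → ∀ h : PowAt Q'.asIdeal (algebraMap B E (π Q)) (algebraMap S E (algebraMap A S x)) e,
      e = expo π Q (algebraMap A B x) → CycAlg.ordFrac (A ⧸ q) q.ResidueField h.nu = rho A π Q (algebraMap A B x) := by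
    intro x e hx h he
    obtain ⟨e', s, c, hs, hc, hsc⟩ := hx.2 Q hQT
    obtain ⟨h1, h2⟩ := rho_eq (A := A) hP hQT hs hc hsc
    rw [h1] at he
    subst he
    rw [h.nu_eq (regular_point hQQ (Algebra.algebraMapSubmonoid B q.primeCompl) (hP.reg Q hQT)) (algebraMap B E s) (algebraMap B E c)
      (fun hm => hs (Ideal.mem_comap.2 hm)) (by
        rw [← IsScalarTower.algebraMap_apply, IsScalarTower.algebraMap_apply A B E, ← map_mul, hsc, map_mul, map_pow]),
      ordFrac_div (hne hc) (hne hs), hnrm hc, hnrm hs, h2]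
  have hm1 : (-1 : B) ∉ Q.asIdeal := fun h => Q.isPrime.ne_top ((Ideal.eq_top_iff_one _).2 (by simpa using h))
  have hneg : CycAlg.ordFrac (A ⧸ q) q.ResidueField (nrm (A := S) Q'.asIdeal (-1)) = 0 := by
    have h1 : CycAlg.ordFrac (A ⧸ q) q.ResidueField (nrm (A := S) Q'.asIdeal (algebraMap B E (-1))) = delta A Q (-1) := hnrm hm1
    rw [map_neg, map_one] at h1
    have h2 := delta_mul (A := A) (hP.curve Q hQT) hm1 hm1
    rw [neg_one_mul, neg_neg, delta_one] at h2
    rw [h1]; linarith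
  have hmult : (P.mult Q' : ℤ) = lloc Q (π Q) := by
    rw [Data.mult, lloc, show locLen Q (B ⧸ Ideal.span {π Q}) = _ from locLen_eq_ord' Q.asIdeal (π Q),
      ← ord_point hQQ (Algebra.algebraMapSubmonoid B q.primeCompl)]
    rfl
  have hn0 : nrm (A := S) Q'.asIdeal (-1) ≠ 0 := by simpa using hne hm1
  rw [ordFrac_pow (P.sym_ne_zero Q'), hmult, psi, if_pos hQT]
  congr 1
  unfold Data.sym
  rw [← div_eq_mul_inv, ordFrac_div (mul_ne_zero (pow_ne_zero _ hn0) (pow_ne_zero _ (P.h₁ Q').nu_ne_zero))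
      (pow_ne_zero _ (P.h₂ Q').nu_ne_zero), CycPush.ordFrac_mul _ (pow_ne_zero _ hn0) (pow_ne_zero _ (P.h₁ Q').nu_ne_zero),
    ordFrac_pow hn0, hneg, ordFrac_pow (P.h₁ Q').nu_ne_zero, ordFrac_pow (P.h₂ Q').nu_ne_zero]
  erw [hnu hga (P.h₁ Q') rfl, hnu hgb (P.h₂ Q') rfl]
  show _ + (expo π Q (algebraMap A B b) : ℤ) * _ - (expo π Q (algebraMap A B a) : ℤ) * _ = _
  ring

end Groth.Agent.S1851

namespace Groth.Agent.S1851

open IsLocalRing GrothLib GrothLib.Tame

/-- The key lemma for nonzerodivisors; a low-degree case of the Gersten complex for Milnor K-theory: let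
A be a Noetherian local ring of dimension 2 and a, b nonzerodivisors. Then the sum over the
height-one primes 𝔮 of A of ord_{A/𝔮}(∂_{A_𝔮}(a, b)) is zero, where ∂_{A_𝔮} is the tame symbol of
the one-dimensional local ring A_𝔮 with values in κ(𝔮) = Frac(A/𝔮) (only finitely many terms are
nonzero). -/
theorem result (A : Type u) [CommRing A] [IsNoetherianRing A] [IsLocalRing A] (hA : ringKrullDim A = 2) (a b : A) (ha : a ∈ nonZeroDivisors A) (hb : b ∈ nonZeroDivisors A) : ∑ᶠ (q : PrimeSpectrum A) (_ : q.asIdeal.height = 1), CycAlg.ordFrac (A ⧸ q.asIdeal) q.asIdeal.ResidueField (CycAlg.tameSymbol (Localization.AtPrime q.asIdeal) (algebraMap A (Localization.AtPrime q.asIdeal) a) (algebraMap A (Localization.AtPrime q.asIdeal) b)) = 0 := by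
  classical

  have hz : a * b ∈ nonZeroDivisors A := mul_mem ha hb
  have hcA : CurveRing A := curveRing_of_dim hA.le
  obtain ⟨TA, hTA⟩ := exists_curves hcA hz
  have hmax : (maximalIdeal A).height = 2 := WithBot.coe_injective (maximalIdeal_height_eq_ringKrullDim.trans hA)
  have hfh : ∀ (I : Ideal A) [I.IsPrime], I.FiniteHeight := fun I _ => I.finiteHeight_iff.2 (Or.inr
    (ne_top_of_le_ne_top (b := (2 : ℕ∞)) (by decide) (hmax ▸ Ideal.height_mono (le_maximalIdeal (Ideal.IsPrime.ne_top ‹_›)))))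
  have hne1 : ∀ q ∈ TA, q.asIdeal.height = 1 := by
    intro q hq
    obtain ⟨hqm, hzq⟩ := (hTA q).1 hq
    haveI := hfh q.asIdeal
    refine le_antisymm (Order.le_of_lt_add_one ?_) ?_
    · refine lt_of_lt_of_le (Ideal.height_strict_mono_of_isPrime (lt_of_le_of_ne (le_maximalIdeal q.isPrime.ne_top)
        fun h => hqm (h ▸ maximalIdeal.isMaximal A))) (le_of_eq ?_)
      rw [hmax]; rfl
    · rw [ENat.one_le_iff_ne_zero, Ne, Ideal.height_eq_zero_iff]
      exact fun h => Set.disjoint_left.1 (Ideal.disjoint_nonZeroDivisors_of_mem_minimalPrimes h) hzq hz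
  have hout : ∀ q : PrimeSpectrum A, q.asIdeal.height = 1 → q ∉ TA →
      CycAlg.ordFrac (A ⧸ q.asIdeal) q.asIdeal.ResidueField (CycAlg.tameSymbol (Localization.AtPrime q.asIdeal)
        (algebraMap A _ a) (algebraMap A _ b)) = 0 := by
    intro q hq hqT
    have hqm : ¬ q.asIdeal.IsMaximal := fun h => by
      rw [IsLocalRing.eq_maximalIdeal h, hmax] at hq
      exact absurd hq (by decide)
    have hzq : a * b ∉ q.asIdeal := fun h => hqT ((hTA q).2 ⟨hqm, h⟩)
    rw [Groth.Agent.S1849.tameSymbol_of_isUnit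
      (IsLocalization.map_units (Localization.AtPrime q.asIdeal) (⟨a, fun h => hzq (q.asIdeal.mul_mem_right b h)⟩ : q.asIdeal.primeCompl))
      (IsLocalization.map_units (Localization.AtPrime q.asIdeal) (⟨b, fun h => hzq (q.asIdeal.mul_mem_left a h)⟩ : q.asIdeal.primeCompl))]
    by_cases h : IsNoetherianRing (A ⧸ q.asIdeal) ∧ Ring.KrullDimLE 1 (A ⧸ q.asIdeal) ∧ Nontrivial (A ⧸ q.asIdeal) ∧
        IsFractionRing (A ⧸ q.asIdeal) q.asIdeal.ResidueField
    · haveI := h.2.1
      exact ordFrac_one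
    · rw [CycAlg.ordFrac, dif_neg h]
  rw [finsum_cond_eq_sum_of_cond_iff _ (t := TA) (fun {q} hq => ⟨fun h => ?_, fun h => hne1 q h⟩)]
  swap
  · by_contra hqT
    exact hq (hout q h hqT)
  have hK : ∀ q ∈ TA, Ring.KrullDimLE 1 (Localization.AtPrime q.asIdeal) := fun q hq =>
    (hcA _ hz q ((hTA q).1 hq).1 ((hTA q).1 hq).2).2.1
  let L := Localization.Away (a * b)
  have hiL : Function.Injective (algebraMap A L) := IsLocalization.injective L (Submonoid.powers_le.mpr hz)
  choose! Y hYfin hYint hY using fun q (hq : q ∈ TA) => haveI := hK q hq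
    exists_spread q.asIdeal ha hb ((hTA q).1 hq).2 L
  set B := Algebra.adjoin A (⋃ q ∈ TA, Y q) with hBdef
  have hint : ∀ x ∈ ⋃ q ∈ TA, Y q, IsIntegral A x := fun x hx => by
    obtain ⟨q, hq, hx⟩ := Set.mem_iUnion₂.1 hx
    exact hYint q hq x hx
  haveI : Module.Finite A B := Module.Finite.iff_fg.2 (fg_adjoin_of_finite (TA.finite_toSet.biUnion fun q hq => hYfin q hq) hint)
  haveI : IsNoetherianRing B := IsNoetherianRing.of_finite A B
  have hinj : Function.Injective (algebraMap A B) := fun x y h => hiL (congrArg Subtype.val h)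
  have hreg : ∀ {x : A}, x ∈ nonZeroDivisors A → algebraMap A B x ∈ nonZeroDivisors B := fun {x} hx => by
    rw [mem_nonZeroDivisors_iff_right]
    intro y hy
    exact Subtype.ext ((mul_right_mem_nonZeroDivisors_eq_zero_iff
      (IsLocalization.map_nonZeroDivisors_le (Submonoid.powers (a * b)) L (Submonoid.mem_map_of_mem _ hx))).1 (congrArg Subtype.val hy :))
  obtain ⟨n, hn⟩ : ∃ n, ∀ x : B, ∃ y, algebraMap A B y = algebraMap A B ((a * b) ^ n) * x := by
    obtain ⟨G, hG⟩ := Module.finite_def.1 ‹Module.Finite A B›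
    have hpm : ∀ x : B, ∃ (k : ℕ) (y : A), algebraMap A L (a * b) ^ k * (x : L) = algebraMap A L y := fun x => by
      obtain ⟨⟨y, ⟨_, k, rfl⟩⟩, h⟩ := IsLocalization.surj (Submonoid.powers (a * b)) (x : L)
      exact ⟨k, y, by rw [← h, map_pow]; ring⟩
    choose k y hky using hpm
    refine ⟨G.sup k, fun x => ?_⟩
    have hx : x ∈ Submodule.span A (G : Set B) := hG ▸ Submodule.mem_top
    induction hx using Submodule.span_induction with
    | mem x hx =>
      obtain ⟨d, hd⟩ := Nat.exists_eq_add_of_le (Finset.le_sup (f := k) hx)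
      refine ⟨(a * b) ^ d * y x, Subtype.ext ?_⟩
      show algebraMap A L ((a * b) ^ d * y x) = algebraMap A L ((a * b) ^ G.sup k) * (x : L)
      rw [hd, map_mul, ← hky x, map_pow, map_pow, pow_add]
      ring
    | zero => exact ⟨0, by simp⟩
    | add u v _ _ hu hv =>
      obtain ⟨u', hu⟩ := hu; obtain ⟨v', hv⟩ := hv
      exact ⟨u' + v', by rw [map_add, hu, hv, mul_add]⟩
    | smul r u _ hu =>
      obtain ⟨u', hu⟩ := hu
      exact ⟨r * u', by rw [map_mul, hu, Algebra.smul_def]; ring⟩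
  have hcB : CurveRing B := curveRing_of_dim ((GrothLib.Dim.ringKrullDim_le_of_isIntegral (R := A) (S := B)).trans hA.le)
  obtain ⟨T, hT⟩ := exists_curves hcB (hreg hz)
  have hdn : ∀ Q ∈ T, (⟨Q.asIdeal.comap (algebraMap A B), inferInstance⟩ : PrimeSpectrum A) ∈ TA := by
    intro Q hQ
    refine (hTA _).2 ⟨fun h => ((hT Q).1 hQ).1 ?_, ((hT Q).1 hQ).2⟩
    exact Ideal.isMaximal_of_isIntegral_of_isMaximal_comap Q.asIdeal h
  have hex : ∀ Q ∈ T, ∃ π : B, π ∈ Q.asIdeal ∧ (∃ e, PowAt Q.asIdeal π (algebraMap A B (a * b)) e) ∧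
      (∃ e, PowAt Q.asIdeal π (algebraMap A B a) e) ∧ ∃ e, PowAt Q.asIdeal π (algebraMap A B b) e := fun Q hQ =>
    hY _ (hdn Q hQ) B (fun x hx => Algebra.subset_adjoin (Set.mem_iUnion₂.2 ⟨_, hdn Q hQ, hx⟩)) Q rfl
  choose! π hπm hπz hπa hπb using hex
  have hP : Params T π := ⟨fun Q hQ => hcB _ (hreg hz) Q ((hT Q).1 hQ).1 ((hT Q).1 hQ).2, hπm, fun Q hQ => by
    obtain ⟨e, he⟩ := hπz Q hQ
    exact he.regular ((hT Q).1 hQ).2 (hreg hz)⟩
  have hmem : ∀ q ∈ TA, ∀ Q : PrimeSpectrum B, Q.asIdeal.comap (algebraMap A B) = q.asIdeal → Q ∈ T := by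
    intro q hq Q hQ
    refine (hT Q).2 ⟨fun h => ((hTA q).1 hq).1 (hQ ▸ Ideal.isMaximal_comap_of_isIntegral_of_isMaximal (R := A) Q.asIdeal), ?_⟩
    exact Ideal.mem_comap.1 (hQ.symm ▸ ((hTA q).1 hq).2)
  have hdim : ∀ q ∈ TA, ringKrullDim (A ⧸ q.asIdeal) = 1 := by
    intro q hq
    obtain ⟨hqm, hzq⟩ := (hTA q).1 hq
    haveI : IsLocalRing (A ⧸ q.asIdeal) := IsLocalRing.of_surjective' (Ideal.Quotient.mk q.asIdeal) Ideal.Quotient.mk_surjective
    refine le_antisymm (Ring.krullDimLE_iff.1 (Ring.krullDimLE_one_iff_of_noZeroDivisors.2 fun I hI hIp => ?_)) ?_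
    · have hIc := (hcA _ hz q hqm hzq).2.2 ⟨I.comap (Ideal.Quotient.mk q.asIdeal), inferInstance⟩
        (lt_of_le_of_ne (fun x hx => by
          show Ideal.Quotient.mk q.asIdeal x ∈ I
          rw [Ideal.Quotient.eq_zero_iff_mem.2 hx]; exact I.zero_mem) fun h => hI (by
          rw [← Ideal.map_comap_of_surjective _ Ideal.Quotient.mk_surjective I,
            show I.comap (Ideal.Quotient.mk q.asIdeal) = q.asIdeal from (congrArg PrimeSpectrum.asIdeal h).symm, Ideal.map_quotient_self]))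
      rw [← Ideal.map_comap_of_surjective _ Ideal.Quotient.mk_surjective I]
      exact (Ideal.map_eq_top_or_isMaximal_of_surjective _ Ideal.Quotient.mk_surjective hIc).resolve_left (by
        rw [Ideal.map_comap_of_surjective _ Ideal.Quotient.mk_surjective I]; exact hIp.ne_top)
    · by_contra h
      have h0 : ringKrullDim (A ⧸ q.asIdeal) ≤ 0 := by
        revert h
        rcases ringKrullDim (A ⧸ q.asIdeal) with _ | (_ | k)
        · exact fun _ => bot_le
        · intro h; exact absurd (WithBot.coe_le_coe.2 le_top) h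
        · intro h
          refine WithBot.coe_le_coe.2 ?_
          rcases Nat.eq_zero_or_pos k with rfl | hk
          · exact le_rfl
          · exact absurd (WithBot.coe_le_coe.2 (WithTop.coe_le_coe.2 hk)) h
      haveI : Ring.KrullDimLE 0 (A ⧸ q.asIdeal) := Ring.krullDimLE_iff.2 h0
      exact hqm (Ideal.Quotient.maximal_of_isField _ Ring.KrullDimLE.isField_of_isDomain)
  have hpsi := sum_psi_eq_zero (A := A) hcB hP (a := algebraMap A B a) (b := algebraMap A B b) ⟨hreg ha, hπa⟩ ⟨hreg hb, hπb⟩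
    (fun P => by rw [← map_mul]; exact hT P)
  rw [← hpsi, ← Finset.sum_fiberwise_of_maps_to (g := fun Q : PrimeSpectrum B => (⟨Q.asIdeal.comap (algebraMap A B), inferInstance⟩ : PrimeSpectrum A)) hdn]
  refine Finset.sum_congr rfl fun q hq => ?_
  haveI := hK q hq
  rw [ordFrac_eq_sum q.asIdeal (hdim q hq) ha hb hinj hn hP ⟨hreg ha, hπa⟩ ⟨hreg hb, hπb⟩ (hmem q hq)]
  exact Finset.sum_congr (Finset.filter_congr fun Q _ =>
    ⟨fun h => PrimeSpectrum.ext h, fun h => congrArg PrimeSpectrum.asIdeal h⟩) fun _ _ => rfl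

end Groth.Agent.S1851
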