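import Groth.Statements.S15827
import Groth.Agent.Lib.TensorGen.Basic

set_option autoImplicit false
set_option linter.all false
universe u
open CategoryTheory AlgebraicGeometry
open ExtPow

namespace Groth.Agent.S15827

/-- Let X be a scheme, E a finite locally free O_X-module and L a finite locally free O_X-module of rank
1 (an invertible module), and k a natural number. If M is a k-th exterior power of E ⊗ L and N is a
k-th exterior power of E (affine-local characterisation of exterior powers), then M is isomorphic to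
N ⊗ L^{⊗k} as an O_X-module (existence of an isomorphism; the published isomorphism is induced by
(e_1 ⊗ l_1) ∧ ⋯ ∧ (e_k ⊗ l_k) ↦ (e_1 ∧ ⋯ ∧ e_k) ⊗ l_1 ⋯ l_k). -/
theorem result {X : Scheme.{u}} (E L : X.Modules)
    (hE : FlatMod.IsFinLocFree E) (hL : FlatMod.IsFinLocFreeOfRank 1 L) (k : ℕ) (M N : X.Modules)
    (hM : ExtPow.IsExtPow k (CohB1.tensorMod E L) M) (hN : ExtPow.IsExtPow k E N) :
    Nonempty (M ≅ CohB1.tensorMod N (CohB1.tensorPow L k)) := by
  have hLinv : PicF.IsInvertible L := fun x => by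
    obtain ⟨U, hx, ⟨φ⟩⟩ := hL x
    exact ⟨U, hx, ⟨φ ≪≫ Limits.coproductUniqueIso fun _ : Fin 1 => Coh.structureModule (↑U)⟩⟩
  obtain ⟨φM, hMr⟩ := hM
  obtain ⟨φN, hNr⟩ := hN
  let ι := {U : X.affineOpens // ∃ l : Γ(L, U.1), GrothLib.InvExt.IsGen L U.1 l}
  choose l hl using fun i : ι => i.2
  let θ : ∀ i : ι, Γ(E, i.1.1) ≃ₗ[Γ(X, i.1.1)] Γ(CohB1.tensorMod E L, i.1.1) :=
    fun i => GrothLib.TensorGen.tmEquiv E L (hl i)
  let Λ : ∀ i : ι, ↥(⋀[Γ(X, i.1.1)]^k Γ(CohB1.tensorMod E L, i.1.1)) ≃ₗ[Γ(X, i.1.1)]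
      ↥(⋀[Γ(X, i.1.1)]^k Γ(E, i.1.1)) := fun i =>
    LinearEquiv.ofLinear (exteriorPower.map k (θ i).symm.toLinearMap) (exteriorPower.map k (θ i).toLinearMap)
      (by rw [← exteriorPower.map_comp, LinearEquiv.symm_comp, exteriorPower.map_id])
      (by rw [← exteriorPower.map_comp, LinearEquiv.comp_symm, exteriorPower.map_id])
  let φM' : ∀ U : X.affineOpens, Γ(M, U.1) ≃ₗ[Γ(X, U.1)] ↥(⋀[Γ(X, U.1)]^k Γ(CohB1.tensorMod E L, U.1)) := φM
  let φN' : ∀ U : X.affineOpens, Γ(N, U.1) ≃ₗ[Γ(X, U.1)] ↥(⋀[Γ(X, U.1)]^k Γ(E, U.1)) := φN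
  let ψ : ∀ i : ι, Γ(M, i.1.1) ≃ₗ[Γ(X, i.1.1)] Γ(CohB1.tensorMod N (CohB1.tensorPow L k), i.1.1) := fun i =>
    φM' i.1 ≪≫ₗ Λ i ≪≫ₗ (φN' i.1).symm ≪≫ₗ
      GrothLib.TensorGen.tmEquiv N (CohB1.tensorPow L k) (GrothLib.TensorGen.isGen_pw L (hl i) k)
  have hψ : ∀ (i : ι) (e : Fin k → Γ(E, i.1.1)),
      ψ i ((φM' i.1).symm (exteriorPower.ιMulti _ k (fun j => θ i (e j)))) =
        GrothLib.VA.tm ((φN' i.1).symm (exteriorPower.ιMulti _ k e)) (GrothLib.TensorGen.pw L (l i) k) := by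
    intro i e
    show GrothLib.VA.tm ((φN' i.1).symm (exteriorPower.map k (θ i).symm.toLinearMap ((φM' i.1) ((φM' i.1).symm _)))) _ = _
    rw [LinearEquiv.apply_symm_apply, exteriorPower.map_apply_ιMulti]
    congr 3
    funext j
    exact (θ i).symm_apply_apply (e j)
  obtain ⟨f, -⟩ := GrothLib.AffHom.exists_iso_basis (B := fun i : ι => i.1.1)
    (GrothLib.TensorGen.isBasis_gen L hLinv) ψ fun i j h m => by
    obtain ⟨x, rfl⟩ := (φM' i.1).symm.surjective m
    have hx : x ∈ Submodule.span Γ(X, i.1.1)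
        (Set.range (exteriorPower.ιMulti Γ(X, i.1.1) k (M := Γ(CohB1.tensorMod E L, i.1.1)))) := by
      rw [exteriorPower.ιMulti_span]; trivial
    induction hx using Submodule.span_induction with
    | mem y hy =>
      obtain ⟨g, rfl⟩ := hy
      obtain ⟨e, rfl⟩ : ∃ e : Fin k → Γ(E, i.1.1), (fun t => θ i (e t)) = g :=
        ⟨fun t => (θ i).symm (g t), funext fun t => (θ i).apply_symm_apply (g t)⟩
      rw [hψ]
      obtain ⟨c, hc⟩ := (hl j).exists_smul_eq le_rfl (GrothLib.InvExt.mres L h (l i))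
      rw [GrothLib.InvExt.mres_self] at hc
      have h1 : M.presheaf.map (homOfLE h).op ((φM' i.1).symm (exteriorPower.ιMulti _ k fun t => θ i (e t))) =
          (φM' j.1).symm (exteriorPower.ιMulti _ k fun t =>
            GrothLib.InvExt.mres (CohB1.tensorMod E L) h (θ i (e t))) := hMr i.1 j.1 h _
      have h2 : ∀ t, GrothLib.InvExt.mres (CohB1.tensorMod E L) h (θ i (e t)) =
          θ j (c • GrothLib.InvExt.mres E h (e t)) := fun t => by
        show GrothLib.InvExt.mres (CohB1.tensorMod E L) h (GrothLib.VA.tm (e t) (l i)) = GrothLib.VA.tm _ (l j)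
        rw [GrothLib.VA.mres_tm, hc, GrothLib.VA.tm_smul_right, GrothLib.VA.tm_smul_left]
      rw [h1]
      simp only [h2]
      rw [hψ]
      show GrothLib.InvExt.mres (CohB1.tensorMod N (CohB1.tensorPow L k)) h (GrothLib.VA.tm _ _) = _
      rw [GrothLib.VA.mres_tm, GrothLib.TensorGen.mres_pw, hc, GrothLib.TensorGen.pw_smul,
        GrothLib.VA.tm_smul_right, ← GrothLib.VA.tm_smul_left]
      congr 1
      have h3 : GrothLib.InvExt.mres N h ((φN' i.1).symm (exteriorPower.ιMulti _ k e)) =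
          (φN' j.1).symm (exteriorPower.ιMulti _ k fun t => GrothLib.InvExt.mres E h (e t)) := hNr i.1 j.1 h e
      rw [h3, ← map_smul]
      congr 1
      have := (exteriorPower.ιMulti Γ(X, j.1.1) k (M := Γ(E, j.1.1))).toMultilinearMap.map_smul_univ
        (fun _ : Fin k => c) (fun t => GrothLib.InvExt.mres E h (e t))
      rw [Fin.prod_const] at this
      exact this.symm
    | zero => simp
    | add y z _ _ hy hz => simp only [map_add, hy, hz]
    | smul r y _ hy => simp only [map_smul, Scheme.Modules.map_smul, hy]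
  exact ⟨f⟩

end Groth.Agent.S15827
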