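import Groth.Statements.S2456
import Groth.Agent.Lib.AdicFS.Complete
import Groth.Agent.Lib.Cohen.Structure
import Groth.Agent.Lib.CoeffField.Basic

set_option autoImplicit false
universe u
open EGA41

namespace Groth.Agent.S2456

open IsLocalRing EGA41

/-- Lifting into a complete Noetherian local ring from a ring formally smooth over a base. -/
theorem exists_lift_complete {Z W C : Type u} [CommRing Z] [CommRing W] [IsLocalRing W] [Algebra Z W]
    [CommRing C] [IsLocalRing C] [IsNoetherianRing C] [IsAdicComplete (maximalIdeal C) C] [Algebra Z C]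
    {𝔞 : Ideal Z} (h : IsFormallySmoothAdic Z 𝔞 W (maximalIdeal W)) (h𝔞 : 𝔞.map (algebraMap Z C) ≤ maximalIdeal C)
    (J : Ideal C) (hJ : J ≠ ⊤) [IsLocalRing (C ⧸ J)] (u : W →ₐ[Z] C ⧸ J) [IsLocalHom u.toRingHom] :
    ∃ v : W →+* C, IsLocalHom v ∧ (Ideal.Quotient.mk J).comp v = u.toRingHom := by
  have hJm : J ≤ maximalIdeal C := le_maximalIdeal hJ
  have hmap : (maximalIdeal C).map (Ideal.Quotient.mk J) = maximalIdeal (C ⧸ J) :=
    IsLocalRing.eq_maximalIdeal (Ideal.IsMaximal.map_of_surjective_of_ker_le Ideal.Quotient.mk_surjective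
      (by rw [Ideal.mk_ker]; exact hJm))
  haveI : IsHausdorff ((maximalIdeal C).map (Ideal.Quotient.mk J)) (C ⧸ J) := by
    rw [hmap]; infer_instance
  have hu : (maximalIdeal W).map u.toRingHom ≤ maximalIdeal (C ⧸ J) :=
    ((local_hom_TFAE u.toRingHom).out 0 2).1 ‹_›
  obtain ⟨v, ⟨k, hk⟩, hv⟩ := GrothLib.AdicFS.exists_lift_adicComplete (C := C) (𝔠 := maximalIdeal C) (J := J) h
    ⟨1, by rw [pow_one]; exact h𝔞⟩ ⟨1, by rw [pow_one]; exact hJm⟩ u ⟨1, by rw [pow_one, hmap]; exact hu⟩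
  refine ⟨v.toRingHom, ((local_hom_TFAE v.toRingHom).out 0 2).2 ?_, RingHom.ext fun x => AlgHom.congr_fun hv x⟩
  refine Ideal.map_le_iff_le_comap.2 fun x hx => ?_
  exact (maximalIdeal.isMaximal C).isPrime.mem_of_pow_mem k (by
    rw [← map_pow]; exact hk (Ideal.mem_map_of_mem _ (Ideal.pow_mem_pow hx k)))

/-- A Cohen ring is formally smooth over the integers for the `p`-adic topology. -/
theorem isFormallySmoothAdic_int (W : Type u) [CommRing W] [IsDomain W] [IsDiscreteValuationRing W]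
    (p : ℕ) (hp : p.Prime) (hm : maximalIdeal W = Ideal.span {(p : W)}) [Algebra (ULift.{u} ℤ) W] :
    IsFormallySmoothAdic (ULift.{u} ℤ) (Ideal.span {(p : ULift.{u} ℤ)}) W (maximalIdeal W) := by
  haveI := GrothLib.Cohen.charZero_of_maximalIdeal_eq_span W p hp hm
  intro C _ _ J hJ hA u _
  obtain ⟨k, hk⟩ := hA
  let n := k + 1
  have hn : ((p ^ n : ℕ) : C) = 0 := by
    have h1 : ((p : ULift.{u} ℤ)) ^ k ∈ Ideal.span {(p : ULift.{u} ℤ)} ^ k :=
      Ideal.pow_mem_pow (Ideal.mem_span_singleton_self _) k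
    have h2 := Ideal.mem_map_of_mem (algebraMap (ULift.{u} ℤ) C) h1
    rw [hk, Ideal.mem_bot, map_pow, map_natCast] at h2
    rw [Nat.cast_pow, pow_succ, h2, zero_mul]
  let I : Ideal W := Ideal.span {((p : W) ^ n)}
  have hI : ((p ^ n : ℕ) : W ⧸ I) = 0 := by
    rw [← map_natCast (Ideal.Quotient.mk I), Ideal.Quotient.eq_zero_iff_mem, Nat.cast_pow]
    exact Ideal.subset_span rfl
  have hn' : ((p ^ n : ℕ) : C ⧸ J) = 0 := by rw [← map_natCast (Ideal.Quotient.mk J), hn, map_zero]
  letI : Algebra (ZMod (p ^ n)) (W ⧸ I) := (GrothLib.Cohen.zmodHom _ _ hI).toAlgebra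
  letI : Algebra (ZMod (p ^ n)) C := (GrothLib.Cohen.zmodHom _ _ hn).toAlgebra
  haveI : Algebra.FormallySmooth (ZMod (p ^ n)) (W ⧸ I) :=
    GrothLib.Cohen.formallySmooth_zmod_pow W p hp (hm ▸ maximalIdeal.isMaximal W) n (by omega)
  have huI : ∀ x ∈ I, u x = 0 := fun x hx => by
    obtain ⟨c, rfl⟩ := Ideal.mem_span_singleton.1 hx
    rw [map_mul, map_pow, map_natCast, ← Nat.cast_pow, hn', zero_mul]
  let f : W ⧸ I →ₐ[ZMod (p ^ n)] C ⧸ J :=
    { Ideal.Quotient.lift I u.toRingHom huI with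
      commutes' := fun z => RingHom.congr_fun
        (RingHom.ext_zmod ((Ideal.Quotient.lift I u.toRingHom huI).comp (algebraMap _ _)) (algebraMap _ _)) z }
  let g := (Algebra.FormallySmooth.lift J hJ f).toRingHom.comp (Ideal.Quotient.mk I)
  have hz : g.comp (algebraMap (ULift.{u} ℤ) W) = algebraMap (ULift.{u} ℤ) C :=
    RingHom.ext fun z => RingHom.congr_fun (RingHom.ext_int
      ((g.comp (algebraMap (ULift.{u} ℤ) W)).comp (ULift.ringEquiv.symm : ℤ ≃+* ULift.{u} ℤ).toRingHom)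
      ((algebraMap (ULift.{u} ℤ) C).comp (ULift.ringEquiv.symm : ℤ ≃+* ULift.{u} ℤ).toRingHom)) z.down
  refine ⟨{ g with commutes' := RingHom.congr_fun hz }, AlgHom.ext fun x => ?_⟩
  exact AlgHom.congr_fun (Algebra.FormallySmooth.comp_lift J hJ f) (Ideal.Quotient.mk I x)

open IsLocalRing in
/-- Let W be a Cohen ring (a field of characteristic zero, or a complete discrete valuation ring with
maximal ideal generated by the residue characteristic), C a complete Noetherian local ring and J ≠ C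
an ideal of C. Then every local homomorphism u : W → C/J is induced by a local homomorphism v : W →
C. -/
theorem result {W C : Type u} [CommRing W] [IsLocalRing W] (hW : EGA41.IsCohenRingEGA W)
    [CommRing C] [IsLocalRing C] [IsNoetherianRing C] [IsAdicComplete (maximalIdeal C) C]
    (J : Ideal C) (hJ : J ≠ ⊤) [IsLocalRing (C ⧸ J)] (u : W →+* C ⧸ J) [IsLocalHom u] :
    ∃ v : W →+* C, IsLocalHom v ∧ (Ideal.Quotient.mk J).comp v = u := by
  rcases hW with ⟨hF, h0⟩ | ⟨_, _, _, p, hp, hm⟩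
  · letI := hF.toField
    letI : Algebra (ULift.{u} ℚ) W := ((algebraMap ℚ W).comp ULift.ringEquiv.toRingHom).toAlgebra
    haveI : CharZero (ULift.{u} ℚ) := charZero_of_injective_ringHom
      (f := (ULift.ringEquiv.symm : ℚ ≃+* ULift.{u} ℚ).toRingHom) ULift.ringEquiv.symm.injective
    haveI : CharZero (ResidueField C) := charZero_of_injective_ringHom
      (f := (Ideal.Quotient.factor (le_maximalIdeal hJ)).comp u) (RingHom.injective _)
    obtain ⟨halg⟩ := GrothLib.CoeffField.nonempty_algebra_rat C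
    haveI : Algebra.FormallySmooth (ULift.{u} ℚ) W := GrothLib.SepField.formallySmooth_of_charZero
    let u' : W →ₐ[ULift.{u} ℚ] C ⧸ J :=
      { u with commutes' := fun q => RingHom.congr_fun (RingHom.ext_rat
          ((u.comp (algebraMap (ULift.{u} ℚ) W)).comp (ULift.ringEquiv.symm : ℚ ≃+* ULift.{u} ℚ).toRingHom)
          ((algebraMap (ULift.{u} ℚ) (C ⧸ J)).comp (ULift.ringEquiv.symm : ℚ ≃+* ULift.{u} ℚ).toRingHom)) q.down }
    haveI : IsLocalHom u'.toRingHom := ‹IsLocalHom u›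
    exact exists_lift_complete (𝔞 := ⊥)
      (fun T _ _ K hK _ ψ _ => ⟨Algebra.FormallySmooth.lift K hK ψ, Algebra.FormallySmooth.comp_lift K hK ψ⟩)
      (by simp) J hJ u'
  · letI : Algebra (ULift.{u} ℤ) W := ((Int.castRingHom W).comp ULift.ringEquiv.toRingHom).toAlgebra
    letI : Algebra (ULift.{u} ℤ) C := ((Int.castRingHom C).comp ULift.ringEquiv.toRingHom).toAlgebra
    let u' : W →ₐ[ULift.{u} ℤ] C ⧸ J :=
      { u with commutes' := fun z => RingHom.congr_fun (RingHom.ext_int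
          ((u.comp (algebraMap (ULift.{u} ℤ) W)).comp (ULift.ringEquiv.symm : ℤ ≃+* ULift.{u} ℤ).toRingHom)
          ((algebraMap (ULift.{u} ℤ) (C ⧸ J)).comp (ULift.ringEquiv.symm : ℤ ≃+* ULift.{u} ℤ).toRingHom)) z.down }
    haveI : IsLocalHom u'.toRingHom := ‹IsLocalHom u›
    refine exists_lift_complete (isFormallySmoothAdic_int W p hp hm) ?_ J hJ u'
    rw [Ideal.map_span, Set.image_singleton, Ideal.span_singleton_le_iff_mem, map_natCast]
    by_contra hnot
    have h1 : IsUnit (u (p : W)) := by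
      rw [map_natCast, ← map_natCast (Ideal.Quotient.mk J)]
      exact (notMem_maximalIdeal.1 hnot).map _
    exact (mem_maximalIdeal _).1 (hm ▸ Ideal.subset_span rfl : (p : W) ∈ maximalIdeal W)
      (IsLocalHom.map_nonunit (p : W) h1)

end Groth.Agent.S2456
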