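import Groth.Statements.S2199
import Groth.Agent.Lib.RelLift.Main
import Groth.Agent.Lib.RelLift.Balance
-- import your own Groth.Agent.* helpers here

set_option autoImplicit false
universe u
open LCI

namespace Groth.Agent.S2199

/-- For a Noetherian local ring (A, m) and proper ideals I inside J such that A/J has finite
Tor-dimension as a module over A/I (canonical algebra structure), the map I/mI -> J/mJ is injective:
an element of I lying in mJ already lies in mI. -/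
theorem result {A : Type u} [CommRing A] [IsNoetherianRing A] [IsLocalRing A]
    (I J : Ideal A) (hIJ : I ≤ J) (hJ : J ≠ ⊤) [Algebra (A ⧸ I) (A ⧸ J)]
    [IsScalarTower A (A ⧸ I) (A ⧸ J)] (hfd : DRing.HasFiniteTorDim (A ⧸ I) (A ⧸ J))
    (x : A) (hx : x ∈ I) (hxm : x ∈ IsLocalRing.maximalIdeal A * J) :
    x ∈ IsLocalRing.maximalIdeal A * I := by
  classical
  by_contra hxI
  obtain ⟨I', ⟨hmI, hI'I, hxI'⟩, hmax⟩ := set_has_maximal_iff_noetherian.mpr inferInstance
    {K : Ideal A | IsLocalRing.maximalIdeal A * I ≤ K ∧ K ≤ I ∧ x ∉ K}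
    ⟨IsLocalRing.maximalIdeal A * I, le_rfl, Ideal.mul_le_right, hxI⟩
  have hgen : I ≤ I' ⊔ Ideal.span {x} := by
    intro y hy
    by_contra hy'
    have hlt : I' < I' ⊔ Ideal.span {y} :=
      lt_of_le_of_ne le_sup_left fun heq => hy' (Ideal.mem_sup_left (heq ▸
        Ideal.mem_sup_right (Ideal.mem_span_singleton_self y)))
    have hx' : x ∈ I' ⊔ Ideal.span {y} := by
      by_contra hc
      exact hmax _ ⟨hmI.trans le_sup_left,
        sup_le hI'I ((Ideal.span_singleton_le_iff_mem I).mpr hy), hc⟩ hlt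
    obtain ⟨i, hi, z, hz, hiz⟩ := Submodule.mem_sup.mp hx'
    obtain ⟨a, rfl⟩ := Ideal.mem_span_singleton'.mp hz
    by_cases ha : a ∈ IsLocalRing.maximalIdeal A
    · exact hxI' (hiz ▸ add_mem hi (hmI (Ideal.mul_mem_mul ha hy)))
    · obtain ⟨u, rfl⟩ := not_not.mp (fun hn => ha hn : ¬¬ IsUnit a)
      refine hy' ?_
      rw [show y = ↑u⁻¹ * (x - i) by rw [← hiz, add_sub_cancel_left, u.inv_mul_cancel_left]]
      exact Ideal.mul_mem_left _ _ (sub_mem (Ideal.mem_sup_right (Ideal.mem_span_singleton_self x))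
        (Ideal.mem_sup_left hi))
  have hI : I ≠ ⊤ := fun h => hJ (top_le_iff.mp (h ▸ hIJ))
  letI : Algebra (A ⧸ I') (A ⧸ I) := (Ideal.Quotient.factor hI'I).toAlgebra
  let m' : Ideal (A ⧸ I) := (IsLocalRing.maximalIdeal A).map (Ideal.Quotient.mk I)
  have hker : RingHom.ker (algebraMap (A ⧸ I') (A ⧸ I)) = Ideal.span {Ideal.Quotient.mk I' x} := by
    refine le_antisymm (fun z hz => ?_) ((Ideal.span_singleton_le_iff_mem _).mpr ?_)
    · obtain ⟨z, rfl⟩ := Ideal.Quotient.mk_surjective z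
      have hzI : z ∈ I := Ideal.Quotient.eq_zero_iff_mem.mp hz
      have := Ideal.mem_map_of_mem (Ideal.Quotient.mk I') (hgen hzI)
      rwa [Ideal.map_sup, Ideal.map_quotient_self, bot_sup_eq, Ideal.map_span, Set.image_singleton]
        at this
    · exact Ideal.Quotient.eq_zero_iff_mem.mpr hx
  have hann : ∀ y, Ideal.Quotient.mk I' x * y = 0 → algebraMap (A ⧸ I') (A ⧸ I) y ∈ m' := by
    intro y hy
    obtain ⟨y, rfl⟩ := Ideal.Quotient.mk_surjective y
    rw [← map_mul, Ideal.Quotient.eq_zero_iff_mem] at hy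
    refine Ideal.mem_map_of_mem _ ?_
    rw [IsLocalRing.mem_maximalIdeal, mem_nonunits_iff]
    rintro ⟨u, rfl⟩
    exact hxI' (by simpa using Ideal.mul_mem_right (↑u⁻¹ : A) I' hy)
  obtain ⟨N, a, ha⟩ := Submodule.fg_iff_exists_fin_generating_family.mp (IsNoetherian.noetherian J)
  obtain ⟨r, hrm, hrx⟩ := (Submodule.mem_ideal_smul_span_iff_exists_sum
    (IsLocalRing.maximalIdeal A) a x).mp (by rw [ha, smul_eq_mul]; exact hxm)
  let ε : (Fin 1 → A ⧸ I) →ₗ[A ⧸ I] A ⧸ J :=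
    (Algebra.linearMap (A ⧸ I) (A ⧸ J)).comp (LinearMap.proj 0)
  obtain ⟨rk, hrk, d, hd0, hd⟩ := GrothLib.RelLift.exists_free_resolution ε
  have hmk : ∀ y : A, algebraMap (A ⧸ I) (A ⧸ J) (Ideal.Quotient.mk I y) = Ideal.Quotient.mk J y :=
    fun y => (IsScalarTower.algebraMap_apply A (A ⧸ I) (A ⧸ J) y).symm
  have hspan : Ideal.span (Set.range fun j => algebraMap (A ⧸ I') (A ⧸ I) (Ideal.Quotient.mk I' (a j))) =
      J.map (Ideal.Quotient.mk I) := by
    show Ideal.span (Set.range (Ideal.Quotient.mk I ∘ a)) = _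
    rw [Set.range_comp, ← Ideal.map_span]
    exact congrArg _ ha
  have hd0' : ∀ z, z (Fin.cast hrk.symm 0) ∈ Ideal.span (Set.range fun j =>
      algebraMap (A ⧸ I') (A ⧸ I) (Ideal.Quotient.mk I' (a j))) ↔ z ∈ LinearMap.range (d 0) := by
    intro z
    rw [← hd0 z, hspan]
    show _ ↔ algebraMap (A ⧸ I) (A ⧸ J) (z (Fin.cast hrk.symm 0)) = 0
    obtain ⟨w, hw⟩ := Ideal.Quotient.mk_surjective (z (Fin.cast hrk.symm 0))
    rw [← hw, hmk, Ideal.Quotient.eq_zero_iff_mem, Ideal.mem_map_iff_of_surjective _ Ideal.Quotient.mk_surjective]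
    exact ⟨fun ⟨v, hv, hvw⟩ => by
      simpa using add_mem hv (hIJ (Ideal.Quotient.eq.mp hvw.symm)), fun h => ⟨w, h, rfl⟩⟩
  let ε' : (Fin (rk 0) → A ⧸ I) →ₗ[A ⧸ I] A ⧸ J :=
    (Algebra.linearMap (A ⧸ I) (A ⧸ J)).comp (LinearMap.proj (Fin.cast hrk.symm 0))
  obtain ⟨n, hn⟩ := GrothLib.RelLift.exists_bound_of_hasFiniteTorDim hfd
    (fun i => Fin (rk i) → A ⧸ I) d ε'
    (fun z => by
      obtain ⟨z, rfl⟩ := Ideal.Quotient.mk_surjective z
      exact ⟨fun _ => Ideal.Quotient.mk I z, hmk z⟩)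
    (fun z => hd0 z) hd m'
  have hmem : ∀ k (z : Fin k → A ⧸ I), z ∈ GrothLib.RelLift.vecIn m' k ↔
      z ∈ m' • (⊤ : Submodule (A ⧸ I) (Fin k → A ⧸ I)) := by
    intro k z
    rw [GrothLib.RelLift.mem_vecIn]
    constructor
    · intro hz
      rw [show z = ∑ i, z i • Pi.single i 1 by funext j; simp [Finset.sum_apply, Pi.single_apply]]
      exact sum_mem fun i _ => Submodule.smul_mem_smul (hz i) trivial
    · intro hz
      exact Submodule.smul_induction_on hz (fun c hc w _ i => Ideal.mul_mem_right _ _ hc)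
        fun w v hw hv i => add_mem (hw i) (hv i)
  obtain ⟨k, hk⟩ := GrothLib.RelLift.exists_pow_mem (P' := A ⧸ I') (P := A ⧸ I)
    (Ideal.Quotient.factor_surjective hI'I) (Ideal.Quotient.mk I' x) hker m' hann
    (fun j => Ideal.Quotient.mk I' (r j)) (fun j => Ideal.Quotient.mk I' (a j)) 1
    (fun j => Ideal.mem_map_of_mem _ (hrm j))
    (by
      rw [mul_one, ← hrx, Finsupp.sum_fintype r (fun i c => c • a i) (fun _ => zero_smul _ _), map_sum]
      simp only [smul_eq_mul, map_mul])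
    rk hrk d hd0' hd n (fun i hi z hz => by
      have hz' := hn i hi ⟨⟨z, rfl⟩, (hmem _ _).mp hz⟩
      rw [LinearMap.range_eq_map, ← Submodule.map_smul''] at hz'
      obtain ⟨w, hw, hwz⟩ := hz'
      obtain ⟨y, hy⟩ := (hd i (z - w)).mp (by
        rw [map_sub, sub_eq_zero]
        exact hwz.symm)
      exact ⟨y, by rw [hy, sub_sub_cancel, hmem]; exact hw⟩)
  rw [map_one, one_pow, hspan, ← Ideal.map_sup] at hk
  have h1 : Ideal.Quotient.mk I 1 ∈ (J ⊔ IsLocalRing.maximalIdeal A).map (Ideal.Quotient.mk I) := by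
    rwa [map_one]
  rw [Ideal.mem_map_iff_of_surjective _ Ideal.Quotient.mk_surjective] at h1
  obtain ⟨v, hv, hv1⟩ := h1
  have hle : J ⊔ IsLocalRing.maximalIdeal A ≤ IsLocalRing.maximalIdeal A :=
    sup_le (IsLocalRing.le_maximalIdeal hJ) le_rfl
  exact (IsLocalRing.maximalIdeal.isMaximal A).ne_top ((Ideal.eq_top_iff_one _).mpr (by
    simpa using sub_mem (hle hv) (IsLocalRing.le_maximalIdeal hI (Ideal.Quotient.eq.mp hv1))))

end Groth.Agent.S2199
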