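import Groth.Statements.S2189
import Groth.Agent.Lib.Vasconcelos.Basic
import Groth.Agent.Lib.Vasconcelos.Localize
import Groth.Agent.Lib.RegSeqLoc.Basic
-- import your own Groth.Agent.* helpers here

set_option autoImplicit false
universe u
open CategoryTheory
open LCI

namespace Groth.Agent.S2189

/-- Let R be a Noetherian ring and I an ideal which has finite projective dimension as an R-module and
whose conormal module I/I^2 is finite locally free (projective) over R/I. Then I is a regular ideal:
for every prime p containing I there is g outside p such that the extension of I to R_g is generated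
by a regular sequence of R_g. -/
theorem result {R : Type u} [CommRing R]
    [IsNoetherianRing R] (I : Ideal R) (n : ℕ)
    (hpd : HasProjectiveDimensionLT (ModuleCat.of R I) n)
    [Module.Projective (R ⧸ I) I.Cotangent] (p : Ideal R) [p.IsPrime] (hIp : I ≤ p) :
    ∃ g : R, g ∉ p ∧ ∃ rs : List (Localization.Away g),
      RingTheory.Sequence.IsRegular (Localization.Away g) rs ∧
        Ideal.ofList rs = I.map (algebraMap R (Localization.Away g)) := by
  classical
  let A := Localization.AtPrime p
  let I' : Ideal A := I.map (algebraMap R A)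
  have hI'ne : I' ≠ ⊤ := fun e => (IsLocalRing.maximalIdeal.isMaximal A).ne_top (top_le_iff.mp (by
    rw [← e, ← Localization.AtPrime.map_eq_maximalIdeal]; exact Ideal.map_mono hIp))
  haveI : Nontrivial (A ⧸ I') := Ideal.Quotient.nontrivial_iff.mpr hI'ne
  haveI : IsLocalRing (A ⧸ I') := .of_surjective' _ Ideal.Quotient.mk_surjective
  haveI : Module.Projective (A ⧸ I') I'.Cotangent :=
    GrothLib.Vasconcelos.projective_cotangent_map I p.primeCompl A
  haveI : Module.Finite A I'.Cotangent := Module.Finite.of_surjective I'.toCotangent I'.toCotangent_surjective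
  haveI : Module.Finite (A ⧸ I') I'.Cotangent := .of_restrictScalars_finite A _ _
  haveI : Module.Free (A ⧸ I') I'.Cotangent := Module.free_of_flat_of_isLocalRing
  let b := Module.finBasis (A ⧸ I') I'.Cotangent
  choose x₀ hx₀ using fun k => I'.toCotangent_surjective (b k)
  let ψ : Fin (Module.finrank (A ⧸ I') I'.Cotangent) → (I' →ₗ[A] A ⧸ I') := fun i =>
    (b.coord i).restrictScalars A ∘ₗ I'.toCotangent
  have hψ : ∀ i k, ψ i ⟨(x₀ k : A), (x₀ k).2⟩ = if i = k then 1 else 0 := by
    intro i k
    show b.coord i (I'.toCotangent (x₀ k)) = _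
    rw [hx₀, Module.Basis.coord_apply, b.repr_self, Finsupp.single_apply]
    simp only [eq_comm]
  haveI := hpd
  have h : GrothLib.Serre.PdLE R I n := hasProjectiveDimensionLT_of_ge _ n _ (by omega)
  obtain ⟨y, hy, hw⟩ := GrothLib.Vasconcelos.exists_weaklyRegular _ A I' hI'ne n
    (GrothLib.Vasconcelos.pdLE_map_localization I p.primeCompl h) _ (fun k => (x₀ k).2) ψ hψ
  have hyI : ∀ k, y k ∈ I' := fun k => by
    simpa using I'.add_mem (Ideal.pow_le_self two_ne_zero (hy k)) (x₀ k).2
  have hspan : I' ≤ Ideal.span (Set.range y) := by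
    refine Submodule.le_of_le_smul_of_le_jacobson_bot (I := I') (IsNoetherian.noetherian I')
      ((IsLocalRing.le_maximalIdeal hI'ne).trans (IsLocalRing.maximalIdeal_le_jacobson _)) ?_
    intro z hz
    choose c hc using fun k => Ideal.Quotient.mk_surjective (b.repr (I'.toCotangent ⟨z, hz⟩) k)
    have hm : I'.toCotangent ⟨z, hz⟩ = I'.toCotangent (∑ k, c k • ⟨y k, hyI k⟩) := by
      rw [map_sum]
      refine (b.sum_repr _).symm.trans (Finset.sum_congr rfl fun k _ => ?_)
      rw [map_smul, show I'.toCotangent ⟨y k, hyI k⟩ = b k by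
        rw [← hx₀]; exact (Ideal.toCotangent_eq I').mpr (hy k),
        ← hc k, ← Ideal.Quotient.algebraMap_eq, algebraMap_smul]
    have hd := (Ideal.toCotangent_eq I').mp hm
    rw [pow_two] at hd
    refine Submodule.mem_sup.mpr ⟨_, ?_, _, hd, add_sub_cancel _ _⟩
    simp only [Submodule.coe_sum, Submodule.coe_smul, smul_eq_mul]
    exact sum_mem fun k _ => Ideal.mul_mem_left _ _ (Ideal.subset_span ⟨k, rfl⟩)
  choose at' hat' using fun k => (IsLocalization.mem_map_algebraMap_iff p.primeCompl A).mp (hyI k)
  let a := fun k => ((at' k).1 : R)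
  let u := fun k => algebraMap R A ((at' k).2 : R)
  have hu : ∀ k, IsUnit (u k) := fun k => IsLocalization.map_units A (at' k).2
  have hau : ∀ k, algebraMap R A (a k) = u k * y k := fun k => by rw [mul_comm]; exact (hat' k).symm
  have hwa : RingTheory.Sequence.IsWeaklyRegular A ((List.ofFn a).map (algebraMap R A)) := by
    rw [List.map_ofFn, show (algebraMap R A) ∘ a = fun k => u k * y k from funext hau]
    exact GrothLib.RegSeqLoc.isWeaklyRegular_ofFn_mul u hu hw
  have heq : I.map (algebraMap R A) = (Ideal.ofList (List.ofFn a)).map (algebraMap R A) := by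
    refine le_antisymm (hspan.trans (Ideal.span_le.mpr (Set.range_subset_iff.mpr fun k => ?_)))
      (Ideal.map_mono (Ideal.span_le.mpr fun z hz => ?_))
    · have := Ideal.mem_map_of_mem (algebraMap R A)
        (Ideal.subset_span (List.mem_ofFn.mpr ⟨k, rfl⟩) : a k ∈ Ideal.ofList (List.ofFn a))
      rw [hau] at this
      exact (Ideal.unit_mul_mem_iff_mem _ (hu k)).mp this
    · obtain ⟨k, rfl⟩ := List.mem_ofFn.mp hz
      exact ((at' k).1).2
  obtain ⟨g₁, hg₁, H₁⟩ := GrothLib.RegSeqLoc.exists_away_isWeaklyRegular p.primeCompl A (List.ofFn a) hwa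
  obtain ⟨g₂, hg₂, H₂⟩ := GrothLib.RegSeqLoc.exists_away_eq p.primeCompl A I (Ideal.ofList (List.ofFn a)) heq
  have hg : g₁ * g₂ ∉ p := fun hh => (Ideal.IsPrime.mem_or_mem inferInstance hh).elim hg₁ hg₂
  have hug := IsLocalization.Away.algebraMap_isUnit (g₁ * g₂) (S := Localization.Away (g₁ * g₂))
  rw [map_mul, IsUnit.mul_iff] at hug
  have hI_eq := H₂ (Localization.Away (g₁ * g₂)) hug.2
  refine ⟨g₁ * g₂, hg, (List.ofFn a).map (algebraMap R (Localization.Away (g₁ * g₂))),
    ⟨H₁ (Submonoid.powers (g₁ * g₂)) _ hug.1, ?_⟩, by rw [← Ideal.map_ofList, hI_eq]⟩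
  rw [← Ideal.map_ofList, ← hI_eq, smul_eq_mul, Ideal.mul_top]
  intro htop
  have hdis : Disjoint ((Submonoid.powers (g₁ * g₂) : Submonoid R) : Set R) (p : Set R) :=
    (Ideal.disjoint_powers_iff_notMem_of_isPrime _).mpr hg
  exact (IsLocalization.isPrime_of_isPrime_disjoint (Submonoid.powers (g₁ * g₂))
    (Localization.Away (g₁ * g₂)) p inferInstance hdis).ne_top
      (top_le_iff.mp (htop.le.trans (Ideal.map_mono hIp)))

end Groth.Agent.S2189
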