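import Groth.Statements.S2200
import Groth.Agent.Lib.RegExch.Basic
import Groth.Agent.S2199
-- import your own Groth.Agent.* helpers here

set_option autoImplicit false
universe u
open LCI

namespace Groth.Agent.S2200

/-- Let (A, m) be a Noetherian local ring and I, J proper ideals with I inside J. If J is cut out by a
regular sequence and A/J has finite Tor-dimension as an A/I-module (canonical algebra structure),
then I is cut out by a regular sequence of A and the image of J in A/I by one of A/I. -/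
theorem result {A : Type u} [CommRing A] [IsNoetherianRing A] [IsLocalRing A]
    (I J : Ideal A) (hIJ : I ≤ J) (hJ : J ≠ ⊤) [Algebra (A ⧸ I) (A ⧸ J)]
    [IsScalarTower A (A ⧸ I) (A ⧸ J)] (hfd : DRing.HasFiniteTorDim (A ⧸ I) (A ⧸ J))
    (hJreg : ∃ rs : List A, Ideal.ofList rs = J ∧ RingTheory.Sequence.IsRegular A rs) :
    (∃ rs : List A, Ideal.ofList rs = I ∧ RingTheory.Sequence.IsRegular A rs) ∧
      ∃ rs' : List (A ⧸ I), Ideal.ofList rs' = J.map (Ideal.Quotient.mk I) ∧
        RingTheory.Sequence.IsRegular (A ⧸ I) rs' := by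
  have hI : I ≠ ⊤ := fun h => hJ (top_le_iff.mp (h ▸ hIJ))
  obtain ⟨rs, hrs, hreg⟩ := hJreg
  obtain ⟨fs, hfs, hirr⟩ := GrothLib.RegExch.exists_irredundant I
  have hmem : ∀ x ∈ rs, x ∈ IsLocalRing.maximalIdeal A := fun x hx =>
    IsLocalRing.le_maximalIdeal hJ (hrs ▸ Ideal.subset_span hx)
  have hfsI : ∀ g ∈ fs, g ∈ I := fun g hg => hfs ▸ Ideal.subset_span hg
  obtain ⟨gs, hgs, hgJ⟩ := GrothLib.RegExch.exists_extend fs rs hreg.toIsWeaklyRegular hmem
    (fun g hg => hrs.symm ▸ hIJ (hfsI g hg))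
    (fun l₁ g l₂ hsp hg => by
      rw [hrs] at hg
      obtain ⟨a, ha, b, hb, rfl⟩ := Submodule.mem_sup.mp hg
      have hgI : a + b ∈ I := hfsI _ (by rw [hsp]; simp)
      have haI : a ∈ I := by
        refine (Ideal.span_le.mpr ?_ : Ideal.ofList l₁ ≤ I) ha
        exact fun z (hz : z ∈ l₁) => hfsI z (by rw [hsp]; exact List.mem_append_left _ hz)
      exact hirr l₁ _ l₂ hsp (Submodule.add_mem_sup ha
        (Groth.Agent.S2199.result I J hIJ hJ hfd b (by simpa using I.sub_mem hgI haI) hb)))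
  rw [hrs] at hgJ
  refine ⟨⟨fs, hfs, RingTheory.Sequence.IsRegular.of_isWeaklyRegular_of_mem_maximalIdeal A
    (fun z hz => IsLocalRing.le_maximalIdeal hI (hfsI z hz))
    ((RingTheory.Sequence.isWeaklyRegular_append_iff A fs gs).mp hgs).1⟩, gs.map (Ideal.Quotient.mk I), ?_, ?_⟩
  · rw [← Ideal.map_ofList, ← hgJ, Ideal.ofList_append, hfs, Ideal.map_sup, Ideal.map_quotient_self,
      bot_sup_eq]
  · haveI : Nontrivial (A ⧸ I) := Ideal.Quotient.nontrivial_iff.mpr hI
    haveI : IsLocalRing (A ⧸ I) :=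
      IsLocalRing.of_surjective' (Ideal.Quotient.mk I) Ideal.Quotient.mk_surjective
    subst hfs
    refine RingTheory.Sequence.IsRegular.of_isWeaklyRegular_of_mem_maximalIdeal _ (fun z hz => ?_)
      (GrothLib.RegExch.isWeaklyRegular_quotient hgs)
    obtain ⟨y, hy, rfl⟩ := List.mem_map.mp hz
    haveI : IsLocalHom (Ideal.Quotient.mk (Ideal.ofList fs)) :=
      IsLocalHom.of_surjective _ Ideal.Quotient.mk_surjective
    exact map_nonunit _ _ (IsLocalRing.le_maximalIdeal hJ
      (hgJ ▸ Ideal.subset_span (List.mem_append_right fs hy)))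

end Groth.Agent.S2200
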