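import Groth.Statements.S1451
import Groth.Agent.Lib.Unibranch.Unramified
-- import your own Groth.Agent.* helpers here

set_option autoImplicit false
universe u
open FlatMor

namespace Groth.Agent.S1451

open AlgebraicGeometry CategoryTheory Limits in
/-- Let Y be integral and f : X → Y locally of finite type; let x be a point such that the local ring of
Y at f x is geometrically unibranch, f is unramified on an open neighbourhood of x, and some
generization of x maps to the generic point of Y. Then f is étale on an open neighbourhood of x. -/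
theorem result {X Y : Scheme.{u}} (f : X ⟶ Y) [IsIntegral Y] [LocallyOfFiniteType f] (x : X)
    (hY : CAlg2.IsGeomUnibranch (Y.presheaf.stalk (f x))) (hsp : ∃ x' : X, x' ⤳ x ∧ f x' = genericPoint ↑Y)
    (hunr : ∃ U : X.Opens, x ∈ U ∧ FormallyUnramified (U.ι ≫ f)) :
    ∃ U : X.Opens, x ∈ U ∧ Etale (U.ι ≫ f) := by
  obtain ⟨x', hx', hgen⟩ := hsp
  obtain ⟨O, hxO, hO, -⟩ := GrothLib.Unibranch.exists_etale_irreducible_nbhd f x hY x' hx' hgen hunr
  exact ⟨O, hxO, hO⟩

end Groth.Agent.S1451
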