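import Groth.Statements.S2469
import Groth.Agent.Lib.SepField.Smooth
import Groth.Agent.Lib.AffDom.Formula
import Groth.Agent.Lib.Dim.Ring
import Groth.Agent.Lib.Serre.Ring
import Mathlib

set_option autoImplicit false
universe u
open EGA41

namespace Groth.Agent.S2469

open TensorProduct
open KaehlerDifferential (D mapBaseChange)

/-- The imperfection module only depends on the differentials of the base. -/
theorem map_imperfection_eq (R : Type*) (P S T : Type u) [CommRing R] [CommRing P] [CommRing S] [CommRing T]
    [Algebra R P] [Algebra R S] [Algebra R T] [Algebra P S] [Algebra P T] [Algebra S T]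
    [IsScalarTower R P S] [IsScalarTower R P T] [IsScalarTower R S T] [IsScalarTower P S T]
    [Algebra.FormallyUnramified R P] :
    Nonempty (LinearMap.ker (mapBaseChange R S T) ≃ₗ[T] LinearMap.ker (mapBaseChange P S T)) := by
  let eS := LinearEquiv.ofBijective _ (GrothLib.SepField.bijective_map_of_formallyUnramified R P S)
  let eT := LinearEquiv.ofBijective _ (GrothLib.SepField.bijective_map_of_formallyUnramified R P T)
  let e : T ⊗[S] Ω[S⁄R] ≃ₗ[T] T ⊗[S] Ω[S⁄P] :=
    TensorProduct.AlgebraTensorModule.congr (LinearEquiv.refl T T) eS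
  have hsq : ∀ z, eT (mapBaseChange R S T z) = mapBaseChange P S T (e z) := by
    intro z
    induction z with
    | zero => simp
    | add a b ha hb => simp [map_add, ha, hb]
    | tmul t ω =>
        simp only [e, TensorProduct.AlgebraTensorModule.congr_tmul, LinearEquiv.refl_apply,
          KaehlerDifferential.mapBaseChange_tmul, map_smul]
        congr 1
        induction (KaehlerDifferential.span_range_derivation R S ▸ Submodule.mem_top :
            ω ∈ Submodule.span S (Set.range (D R S))) using Submodule.span_induction with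
        | mem y hy =>
            obtain ⟨s, rfl⟩ := hy
            simp [eS, eT]
        | zero => simp
        | add a b _ _ ha hb => simp only [map_add, ha, hb]
        | smul c a _ ha =>
            rw [LinearMap.map_smul, eS.map_smul, LinearMap.map_smul, ← ha]
            exact eT.toLinearMap.map_smul_of_tower c _
  refine ⟨e.ofSubmodules _ _ (Submodule.ext fun z => ?_)⟩
  rw [Submodule.mem_map_equiv, LinearMap.mem_ker, LinearMap.mem_ker, ← eT.map_eq_zero_iff, hsq, LinearEquiv.apply_symm_apply]

/-- Over a formally smooth prime field the imperfection module is the first cotangent homology. -/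
theorem finrank_ker_eq (P K L : Type u) [CommRing P] [Field K] [Field L] [Algebra P K] [Algebra P L]
    [Algebra K L] [IsScalarTower P K L] [Algebra.FormallySmooth P L] :
    Nonempty (Algebra.H1Cotangent K L ≃ₗ[L] LinearMap.ker (mapBaseChange P K L)) := by
  have hex := (Algebra.H1Cotangent.exact_δ_mapBaseChange P K L)
  have hinj : Function.Injective (Algebra.H1Cotangent.δ P K L) := by
    rw [injective_iff_map_eq_zero]
    intro z hz
    obtain ⟨y, rfl⟩ := (Algebra.H1Cotangent.exact_map_δ P K L z).1 hz
    rw [Subsingleton.elim y 0, map_zero]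
  exact ⟨(LinearEquiv.ofInjective _ hinj).trans (LinearEquiv.ofEq _ _ hex.linearMap_ker_eq.symm)⟩

open IsLocalRing in
/-- The cotangent space of a surjection from a local ring to a field. -/
theorem rank_cotangent {Q L V : Type u} [CommRing Q] [IsLocalRing Q] [Field L] [Algebra Q L]
    (hs : Function.Surjective (algebraMap Q L)) [AddCommGroup V] [Module L V] [Module Q V] [IsScalarTower Q L V]
    (J : Ideal Q) (hJ : J = maximalIdeal Q) (j : V ≃ₗ[Q] J.Cotangent) :
    Module.finrank L V = Module.finrank (ResidueField Q) (CotangentSpace Q) := by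
  subst hJ
  have hk : RingHom.ker (algebraMap Q L) = maximalIdeal Q :=
    IsLocalRing.eq_maximalIdeal (RingHom.ker_isMaximal_of_surjective _ hs)
  let i : ResidueField Q →+* L := Ideal.Quotient.lift _ (algebraMap Q L) fun a ha => hk.ge ha
  have hi : Function.Bijective i := ⟨i.injective, fun x => by
    obtain ⟨q, rfl⟩ := hs x
    exact ⟨residue Q q, rfl⟩⟩
  refine (congrArg Cardinal.toNat (rank_eq_of_equiv_equiv (R := ResidueField Q) (R' := L) i j.symm.toAddEquiv hi fun c m => ?_)).symm
  obtain ⟨q, rfl⟩ := residue_surjective c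
  show j.symm (q • m) = algebraMap Q L q • j.symm m
  rw [map_smul, algebraMap_smul]

open IsLocalRing in
/-- The Euler characteristic of the naive cotangent complex of a finitely generated field extension. -/
theorem euler_h1Cotangent {K L : Type u} [Field K] [Field L] [Algebra K L] [Algebra.EssFiniteType K L] :
    Module.Finite L (Ω[L⁄K]) ∧ Module.Finite L (Algebra.H1Cotangent K L) ∧
      (Module.finrank L (Ω[L⁄K]) : ℤ) - Module.finrank L (Algebra.H1Cotangent K L) =
        Cardinal.toNat (Algebra.trdeg K L) := by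
  classical
  obtain ⟨S₀, M, hS₀, hM⟩ := (Algebra.essFiniteType_iff_exists_subalgebra (R := K) (S := L)).1 ‹_›
  obtain ⟨n, π, hπ⟩ := Algebra.FiniteType.iff_quotient_mvPolynomial''.1 hS₀
  let P := MvPolynomial (Fin n) K
  let I : Ideal P := RingHom.ker π.toRingHom
  haveI hIp : I.IsPrime := RingHom.ker_isPrime _
  let Q := Localization.AtPrime I
  let ψ : P →ₐ[K] L := S₀.val.comp π
  have hψu : ∀ a : I.primeCompl, IsUnit (ψ a) := fun a => isUnit_iff_ne_zero.2 fun h =>
    a.2 ((RingHom.mem_ker).2 (Subtype.val_injective h))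
  let φ : Q →ₐ[K] L := IsLocalization.liftAlgHom (M := I.primeCompl) (f := ψ) hψu
  have hφ : ∀ a, φ (algebraMap P Q a) = ψ a := fun a => IsLocalization.lift_eq hψu a
  have hφs : Function.Surjective φ := fun x => by
    obtain ⟨⟨a, s⟩, hx⟩ := IsLocalization.surj M x
    obtain ⟨a', ha'⟩ := hπ a
    obtain ⟨s', hs'⟩ := hπ s
    have hs0 : (algebraMap S₀ L s) ≠ 0 := (IsLocalization.map_units L s).ne_zero
    have hψs : ψ s' = algebraMap S₀ L s := congrArg Subtype.val hs'
    have hψa : ψ a' = algebraMap S₀ L a := congrArg Subtype.val ha'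
    have hs1 : s' ∈ I.primeCompl := fun h => hs0 (hψs ▸ congrArg Subtype.val (RingHom.mem_ker.1 h))
    refine ⟨IsLocalization.mk' Q a' ⟨s', hs1⟩, mul_right_cancel₀ hs0 ?_⟩
    rw [hx, ← hψs, ← hφ, ← map_mul, show IsLocalization.mk' Q a' ⟨s', hs1⟩ * algebraMap P Q s' = algebraMap P Q a' from IsLocalization.mk'_spec Q a' ⟨s', hs1⟩, hφ, hψa]
  let E : Algebra.Extension.{u} K L := Algebra.Extension.ofSurjective φ hφs
  haveI : Algebra.FormallySmooth P Q := Algebra.FormallySmooth.of_isLocalization I.primeCompl
  haveI hfs : Algebra.FormallySmooth K Q := Algebra.FormallySmooth.comp K P Q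
  haveI : Algebra.FormallySmooth K E.Ring := hfs
  haveI : Algebra.FormallyEtale P Q := Algebra.FormallyEtale.of_isLocalization I.primeCompl
  letI algQL : Algebra Q L := φ.toAlgebra
  haveI : IsScalarTower K Q L := IsScalarTower.of_algebraMap_eq fun a => (φ.commutes a).symm
  letI : Algebra P L := ψ.toAlgebra
  haveI : IsScalarTower P Q L := IsScalarTower.of_algebraMap_eq fun a => (hφ a).symm
  -- the cotangent space
  let bP := KaehlerDifferential.mvPolynomialBasis K (Fin n)
  let bQ : Module.Basis (Fin n) Q (Ω[Q⁄K]) :=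
    (Algebra.TensorProduct.basis Q bP).map (KaehlerDifferential.tensorKaehlerEquivOfFormallyEtale K P Q)
  let bL : Module.Basis (Fin n) L E.CotangentSpace := Algebra.TensorProduct.basis L bQ
  haveI : Module.Finite L E.CotangentSpace := Module.Finite.of_basis bL
  have hCS : Module.finrank L E.CotangentSpace = n := by
    rw [Module.finrank_eq_card_basis bL, Fintype.card_fin]
  -- the conormal space
  haveI : IsRegularRing P := inferInstance
  haveI : IsRegularLocalRing Q := IsRegularRing.isRegularLocalRing_localization I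
  haveI : IsLocalRing E.Ring := inferInstanceAs (IsLocalRing Q)
  haveI : IsNoetherianRing E.Ring := inferInstanceAs (IsNoetherianRing Q)
  have hsE : Function.Surjective (algebraMap E.Ring L) := hφs
  have hker : E.ker = maximalIdeal E.Ring :=
    IsLocalRing.eq_maximalIdeal (RingHom.ker_isMaximal_of_surjective (algebraMap E.Ring L) hsE)
  have hcot : Module.finrank L E.Cotangent = (maximalIdeal Q).spanFinrank := by
    show Module.finrank L E.Cotangent = (maximalIdeal E.Ring).spanFinrank
    rw [spanFinrank_maximalIdeal_eq_finrank_cotangentSpace]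
    exact rank_cotangent (Q := E.Ring) (L := L) (V := E.Cotangent) hsE E.ker hker E.cotangentEquivCotangentKer
  have hpos : Module.Finite L E.Cotangent := by
    haveI : Module.Finite E.Ring E.ker := Module.Finite.iff_fg.2 (IsNoetherian.noetherian _)
    haveI : Module.Finite E.Ring E.Cotangent := Module.Finite.of_surjective (Algebra.Extension.Cotangent.mk (P := E))
      Algebra.Extension.Cotangent.mk_surjective
    exact Module.Finite.of_restrictScalars_finite E.Ring L _
  haveI := hpos
  -- the exact sequence
  have hs := E.toKaehler_surjective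
  have hex := E.exact_cotangentComplex_toKaehler
  haveI hΩ : Module.Finite L (Ω[L⁄K]) := Module.Finite.of_surjective _ hs
  let e1 : E.H1Cotangent ≃ₗ[L] Algebra.H1Cotangent K L := E.equivH1CotangentOfFormallySmooth
  haveI hH : Module.Finite L (LinearMap.ker E.cotangentComplex) := inferInstance
  let e2 : LinearMap.ker E.cotangentComplex ≃ₗ[L] Algebra.H1Cotangent K L := e1
  refine ⟨hΩ, Module.Finite.equiv e2, ?_⟩
  have h1 := LinearMap.finrank_range_add_finrank_ker E.cotangentComplex
  have h2 := LinearMap.finrank_range_add_finrank_ker E.toKaehler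
  rw [LinearMap.range_eq_top.2 hs, finrank_top, hex.linearMap_ker_eq, hCS] at h2
  rw [hcot, e2.finrank_eq] at h1
  -- dimensions
  obtain ⟨d, hd, hd'⟩ := GrothLib.Dim.exists_nat_trdeg_eq_and_ringKrullDim_eq K S₀
  haveI : Algebra.IsAlgebraic S₀ L := ⟨fun x => by
    obtain ⟨⟨a, s⟩, hx⟩ := IsLocalization.surj M x
    have hs0 : ((s : S₀) : L) ≠ 0 := (IsLocalization.map_units L s).ne_zero
    refine ⟨Polynomial.C (s : S₀) * Polynomial.X - Polynomial.C a, fun h => hs0 ?_, ?_⟩
    · have := congrArg (fun p => Polynomial.coeff p 1) h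
      simp at this
      exact congrArg Subtype.val this
    · rw [map_sub, map_mul, Polynomial.aeval_C, Polynomial.aeval_C, Polynomial.aeval_X, mul_comm, hx, sub_self]⟩
  have htr : Algebra.trdeg K L = (d : Cardinal) := by
    have := trdeg_add_eq K (S := S₀) (A := L)
    rw [show Algebra.trdeg S₀ L = 0 from trdeg_eq_zero, add_zero, hd] at this
    exact this.symm
  have hht : ((maximalIdeal Q).spanFinrank : WithBot ℕ∞) + (d : WithBot ℕ∞) = (n : WithBot ℕ∞) := by
    rw [IsRegularLocalRing.spanFinrank_maximalIdeal, IsLocalization.AtPrime.ringKrullDim_eq_height I Q, ← hd',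
      ← ringKrullDim_eq_of_ringEquiv (RingHom.quotientKerEquivOfSurjective (f := π.toRingHom) hπ)]
    rw [GrothLib.AffDom.height_add_ringKrullDim_quotient K P I, MvPolynomial.ringKrullDim_of_isNoetherianRing,
      ringKrullDim_eq_zero_of_field, zero_add, Nat.card_fin]
  have hht' : (maximalIdeal Q).spanFinrank + d = n := by exact_mod_cast hht
  rw [htr, Cardinal.toNat_natCast]
  omega

/-- Let L be a finitely generated extension field of K. Then Ω_{L/K} and the imperfection module Υ_{L/K}
(kernel of Ω_{K/ℤ} ⊗_K L → Ω_{L/ℤ}) are finite-dimensional L-vector spaces and rank Ω_{L/K} − rank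
Υ_{L/K} equals the transcendence degree of L over K. -/
theorem result {K L : Type u} [Field K] [Field L] [Algebra K L] [Algebra.EssFiniteType K L] :
    Module.Finite L (Ω[L⁄K]) ∧ Module.Finite L (EGA41.imperfection ℤ K L) ∧
      (Module.finrank L (Ω[L⁄K]) : ℤ) - Module.finrank L (EGA41.imperfection ℤ K L) = Cardinal.toNat (Algebra.trdeg K L) := by
  obtain ⟨hΩ, hH, heq⟩ := euler_h1Cotangent (K := K) (L := L)
  have key : ∀ (P : Type u) [Field P] [PerfectField P] [Algebra P K] [Algebra P L] [IsScalarTower P K L]
      [Algebra.FormallyUnramified ℤ P],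
      Nonempty (Algebra.H1Cotangent K L ≃ₗ[L] EGA41.imperfection ℤ K L) := fun P _ _ _ _ _ _ => by
    haveI : Algebra.FormallySmooth P L := GrothLib.SepField.formallySmooth_iff_isGeometricallyReduced.2
      GrothLib.SepField.isGeometricallyReduced_of_perfectField
    obtain ⟨e⟩ := finrank_ker_eq P K L
    obtain ⟨e'⟩ := map_imperfection_eq ℤ P K L
    exact ⟨e.trans e'.symm⟩
  obtain ⟨e⟩ : Nonempty (Algebra.H1Cotangent K L ≃ₗ[L] EGA41.imperfection ℤ K L) := by
    obtain h0 | ⟨p, hp, hpk⟩ := CharP.exists' K
    · haveI : CharZero (ULift.{u} ℚ) := (ULift.ringEquiv : ULift.{u} ℚ ≃+* ℚ).toRingHom.charZero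
      letI : Algebra (ULift.{u} ℚ) K := ((Rat.castHom K).comp (ULift.ringEquiv : ULift.{u} ℚ ≃+* ℚ).toRingHom).toAlgebra
      letI : Algebra (ULift.{u} ℚ) L := ((algebraMap K L).comp (algebraMap (ULift.{u} ℚ) K)).toAlgebra
      haveI := IsScalarTower.of_algebraMap_eq (R := ULift.{u} ℚ) (S := K) (A := L) fun _ => rfl
      haveI : Algebra.FormallyUnramified ℤ ℚ := Algebra.FormallyUnramified.of_isLocalization (nonZeroDivisors ℤ)
      let e : ℚ ≃ₐ[ℤ] ULift.{u} ℚ := AlgEquiv.ofRingEquiv (f := (ULift.ringEquiv : ULift.{u} ℚ ≃+* ℚ).symm) fun z => by simp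
      haveI : Algebra.FormallyUnramified ℤ (ULift.{u} ℚ) := Algebra.FormallyUnramified.of_equiv e
      exact key (ULift.{u} ℚ)
    · haveI := hp
      haveI : CharP L p := charP_of_injective_algebraMap (algebraMap K L).injective p
      letI : Algebra (ULift.{u} (ZMod p)) K :=
        ((ZMod.castHom (dvd_refl p) K).comp (ULift.ringEquiv : ULift.{u} (ZMod p) ≃+* ZMod p).toRingHom).toAlgebra
      letI : Algebra (ULift.{u} (ZMod p)) L := ((algebraMap K L).comp (algebraMap (ULift.{u} (ZMod p)) K)).toAlgebra
      haveI := IsScalarTower.of_algebraMap_eq (R := ULift.{u} (ZMod p)) (S := K) (A := L) fun _ => rfl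
      haveI : Algebra.FormallyUnramified ℤ (ULift.{u} (ZMod p)) :=
        .of_surjective (Algebra.ofId ℤ _) (by
          intro z
          refine ⟨(z.down.val : ℤ), (ULift.ringEquiv : ULift.{u} (ZMod p) ≃+* ZMod p).injective ?_⟩
          change ULift.ringEquiv (algebraMap ℤ (ULift.{u} (ZMod p)) _) = _
          rw [eq_intCast, map_intCast]
          simp; rfl)
      exact key (ULift.{u} (ZMod p))
  exact ⟨hΩ, Module.Finite.equiv e, e.finrank_eq ▸ heq⟩

end Groth.Agent.S2469
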