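import Groth.Statements.S4551
import Groth.Agent.Lib.SepField.Reduced
import Mathlib.RingTheory.MvPowerSeries.Expand

set_option autoImplicit false
universe u
open EGA41

namespace Groth.Agent.S4551

/-- For every field k (any characteristic) the field of fractions k((T_1, …, T_r)) of the power series
ring k[[T_1, …, T_r]] is a separable extension of k, i.e. it is geometrically reduced over k. -/
theorem result (k : Type u) [Field k] (r : ℕ) :
    Algebra.IsGeometricallyReduced k (FractionRing (MvPowerSeries (Fin r) k)) := by
  obtain h0 | ⟨p, hp, hpk⟩ := CharP.exists' k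
  · exact GrothLib.SepField.isGeometricallyReduced_of_perfectField
  set S := MvPowerSeries (Fin r) k
  refine GrothLib.SepField.isGeometricallyReduced_of_powIndep (p := p) fun {ι} s hs => ?_
  classical
  rw [linearIndependent_iff']
  intro t c hc i hi
  obtain ⟨b, hb⟩ := IsLocalization.exist_integer_multiples (nonZeroDivisors S) t s
  choose f hf using fun j : t => hb j.1 j.2
  have hbne : algebraMap S (FractionRing S) (b : S) ≠ 0 := by
    rw [map_ne_zero_iff _ (IsFractionRing.injective S (FractionRing S))]
    exact nonZeroDivisors.coe_ne_zero b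
  have hfs : ∀ j : t, algebraMap S (FractionRing S) (f j) = algebraMap S _ (b : S) * s j.1 :=
    fun j => (hf j).trans (Algebra.smul_def _ _)
  have hfli : LinearIndependent k f := by
    rw [Fintype.linearIndependent_iff]
    intro g hg j
    have h1 := congrArg (IsScalarTower.toAlgHom k S (FractionRing S)) hg
    rw [map_sum, map_zero] at h1
    simp only [map_smul, IsScalarTower.coe_toAlgHom', hfs, ← mul_smul_comm, ← Finset.mul_sum,
      mul_eq_zero, hbne, false_or] at h1
    exact Fintype.linearIndependent_iff.1 (hs.comp _ Subtype.val_injective) g h1 j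
  have hfc : ∑ j : t, c j.1 • f j ^ p = 0 := by
    apply IsFractionRing.injective S (FractionRing S)
    have h1 : ∑ j : t, c j.1 • (algebraMap S (FractionRing S) (b : S) * s j.1) ^ p = 0 := by
      rw [Finset.univ_eq_attach,
        Finset.sum_attach t fun j => c j • (algebraMap S (FractionRing S) (b : S) * s j) ^ p]
      simp only [mul_pow, ← mul_smul_comm, ← Finset.mul_sum, hc, mul_zero]
    rw [map_sum, map_zero, ← h1]
    exact Finset.sum_congr rfl fun j _ => by
      rw [← IsScalarTower.coe_toAlgHom' k S (FractionRing S), map_smul, map_pow,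
        IsScalarTower.coe_toAlgHom', hfs]
  have hspan : Submodule.span k (Set.range fun n : Fin r →₀ ℕ => fun j : t => MvPowerSeries.coeff n (f j)) = ⊤ := by
    by_contra hne
    obtain ⟨φ, hφ, hφ'⟩ := Submodule.exists_le_ker_of_lt_top _ (lt_top_iff_ne_top.2 hne)
    refine hφ (LinearMap.pi_ext' fun j => LinearMap.ext_ring ?_)
    have h1 := Fintype.linearIndependent_iff.1 hfli (fun j => φ (Pi.single j 1)) (by
      ext n
      have h2 : φ (fun j : t => MvPowerSeries.coeff n (f j)) = 0 :=
        hφ' (Submodule.subset_span ⟨n, rfl⟩)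
      rw [pi_eq_sum_univ' (fun j : t => MvPowerSeries.coeff n (f j)), map_sum] at h2
      simp only [map_sum, map_smul, smul_eq_mul, map_zero] at h2 ⊢
      exact (Finset.sum_congr rfl fun j _ => mul_comm _ _).trans h2) j
    simpa using h1
  have hdiag : ∀ n : Fin r →₀ ℕ, ∑ j : t, c j.1 * MvPowerSeries.coeff n (f j) ^ p = 0 := fun n => by
    have h1 := congrArg (MvPowerSeries.coeff (p • n)) hfc
    rw [map_sum, map_zero] at h1
    refine Eq.trans (Finset.sum_congr rfl fun j _ => ?_) h1
    rw [map_smul, smul_eq_mul, ← MvPowerSeries.map_frobenius_expand p hp.out.ne_zero,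
      MvPowerSeries.coeff_map, MvPowerSeries.coeff_expand_smul, frobenius_def]
  have hmem : ∀ w ∈ Submodule.span k (Set.range fun n : Fin r →₀ ℕ => fun j : t =>
      MvPowerSeries.coeff n (f j)), ∑ j : t, c j.1 * w j ^ p = 0 := by
    intro w hw
    induction hw using Submodule.span_induction with
    | mem y hy => obtain ⟨n, rfl⟩ := hy; exact hdiag n
    | zero => simp [hp.out.ne_zero]
    | add a b _ _ ha hb => simp only [Pi.add_apply, add_pow_char, mul_add, Finset.sum_add_distrib, ha, hb, add_zero]
    | smul d a _ ha => simp only [Pi.smul_apply, smul_eq_mul, mul_pow, mul_left_comm _ (d ^ p), ← Finset.mul_sum, ha, mul_zero]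
  have := hmem (Pi.single ⟨i, hi⟩ 1) (hspan ▸ Submodule.mem_top)
  rw [Finset.sum_eq_single (⟨i, hi⟩ : t) (fun j _ hj => by
    rw [Pi.single_eq_of_ne hj, zero_pow hp.out.ne_zero, mul_zero]) (by simp)] at this
  simpa using this

end Groth.Agent.S4551
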