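import Groth.Statements.S5054
import Mathlib
import Groth.Agent.Lib.CKaehler2.Gens

set_option autoImplicit false
universe u
open EGA418

namespace Groth.Agent.S5054

open IsLocalRing


/-- Let k be a field, A a complete Noetherian local k-algebra whose residue field is a finite extension
of k, p a prime ideal of A distinct from the maximal ideal and containing a minimal prime q with dim
A/q = dim A, Ω̂ the completion (for the topology of the maximal ideal) of the module of
differentials of A over k, and m a natural number. Then the A_p-module Ω̂_p is generated by m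
elements if and only if there is a local k-algebra homomorphism from the power series ring k[[T_1,
…, T_m]] to A making A a finite algebra over it which is unramified at p. -/
theorem result (k A : Type u) [Field k] [CommRing A]
    [IsLocalRing A] [IsNoetherianRing A] [Algebra k A] [IsAdicComplete (IsLocalRing.maximalIdeal A) A]
    [Module.Finite k (IsLocalRing.ResidueField A)]
    (p : Ideal A) [p.IsPrime] (hp : p ≠ IsLocalRing.maximalIdeal A)
    (hq : ∃ q ∈ minimalPrimes A, q ≤ p ∧ ringKrullDim (A ⧸ q) = ringKrullDim A) (m : ℕ) :
    (∃ s : Fin m → (LocalizedModule p.primeCompl (AdicCompletion (IsLocalRing.maximalIdeal A) (KaehlerDifferential k A))), Submodule.span (Localization.AtPrime p) (Set.range s) = ⊤) ↔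
      ∃ (_ : Algebra (MvPowerSeries (Fin m) k) A) (_ : IsScalarTower k (MvPowerSeries (Fin m) k) A),
        IsLocalHom (algebraMap (MvPowerSeries (Fin m) k) A) ∧ Module.Finite (MvPowerSeries (Fin m) k) A ∧
          Algebra.IsUnramifiedAt (MvPowerSeries (Fin m) k) p := by
  haveI := GrothLib.CKaehler2.finite_kaehler_residueField k A
  constructor
  · rintro ⟨s, hs⟩
    obtain ⟨ω, hω⟩ := GrothLib.CKaehler2.exists_numerators p s hs
    obtain ⟨q, hqmin, hqp, hqd⟩ := hq
    haveI : q.IsPrime := hqmin.1.1
    obtain ⟨x, hxm, hxp, hrad⟩ := GrothLib.CKaehler2.exists_parameters k A p hp q hqp hqd ω hω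
    obtain ⟨u, hu⟩ := GrothLib.CKaehler2.exists_units_gens k A p ω hω x hxp
    obtain ⟨alg, tow, hX, hloc, hfin⟩ := GrothLib.CKaehler2.exists_finite_of_radical k A (fun i => (u i : A) * x i)
      (fun i => Ideal.mul_mem_left _ _ (hxm i)) (GrothLib.CKaehler2.radical_units_mul x u hrad)
    refine ⟨alg, tow, hloc, hfin, ?_⟩
    letI := alg
    haveI := tow
    haveI := hfin
    refine (GrothLib.CKaehler2.isUnramifiedAt_powerSeries_iff k A (fun i => ?_) p).2 ?_
    · rw [hX]
      exact Ideal.mul_mem_left _ _ (hxm i)
    · simp only [hX]
      exact hu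
  · rintro ⟨alg, tow, hloc, hfin, hunr⟩
    letI := alg
    haveI := tow
    haveI := hloc
    haveI := hfin
    exact ⟨_, (GrothLib.CKaehler2.span_localized_iff p _).2
      ((GrothLib.CKaehler2.isUnramifiedAt_powerSeries_iff k A
        (GrothLib.CKaehler2.X_mem_of_isLocalHom k A) p).1 hunr)⟩

end Groth.Agent.S5054
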