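import Groth.Statements.S9534
import Groth.Agent.Lib.Algz7.TildeSys
import Groth.Agent.Lib.Algz7.ModuleML
import Groth.Agent.Lib.MLPro7.Basic

set_option autoImplicit false
universe u
open CategoryTheory CategoryTheory.Limits AlgebraicGeometry Opposite
open Algz

namespace Groth.Agent.S9534

/-- Let A be a Noetherian ring, I ⊆ 𝔞 ideals, U = Spec A ∖ V(𝔞), (F_n) an object of Coh(U, I O_U), and M
= lim_n H^0(U, F_n). Assume (a) the system H^0(U, F_n) is Mittag-Leffler, (b) the limit topology of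
M agrees with the I-adic one, i.e. for every k some kernel of M → H^0(U, F_n) lies in I^k M, and (c)
for each n, the A-submodule of H^0(U, F_n) given by the image of M is finitely generated. Then (F_n)
canonically extends to Spec A. (The addendum for I-adically complete A is not restated.) -/
theorem result (A : Type u) [CommRing A] [IsNoetherianRing A] (I 𝔞 : Ideal A) (hI𝔞 : I ≤ 𝔞)
    (G : ℕᵒᵖ ⥤ (↑(LocCoh.puncturedOpen A 𝔞) : Scheme.{u}).Modules) (hG : Formal.IsCohFormal I G)
    (ha : ARSys.IsML (Algz.sectMod A (LocCoh.puncturedOpen A 𝔞) G))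
    (hb : ∀ k : ℕ, ∃ n : ℕ, LinearMap.ker (limit.π (Algz.sectMod A (LocCoh.puncturedOpen A 𝔞) G) (op n)).hom ≤
      I ^ k • (⊤ : Submodule A ↑(limit (Algz.sectMod A (LocCoh.puncturedOpen A 𝔞) G))))
    (hc : ∀ n : ℕ, Module.Finite A ↥(LinearMap.range (limit.π (Algz.sectMod A (LocCoh.puncturedOpen A 𝔞) G) (op n)).hom)) :
    Algz.CanonicallyExtends A I (LocCoh.puncturedOpen A 𝔞) G := by
  letI := GrothLib.Algz7.specOverSelf A
  let U := LocCoh.puncturedOpen A 𝔞
  let T := tilde.functor (CommRingCat.of A)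
  let X := Algz.sectMod A U G
  have hXkill : ∀ (k : ℕ), ∀ a ∈ I ^ (k + 1), ∀ x : X.obj (op k), a • x = 0 := fun k a ha x => by
    refine (GrothLib.Algz7.smul_sect_eq U (G.obj (op k)) a x).trans ?_
    rw [hG.2.1 k a ha]
    rfl
  have hX : ∀ {i j l : ℕ} (h : i ≤ j) (h' : j ≤ l) (x : X.obj (op l)),
      (ARSys.tr X h).hom ((ARSys.tr X h').hom x) = (ARSys.tr X (h.trans h')).hom x :=
    fun h h' x => (ConcreteCategory.congr_hom (X.map_comp (homOfLE h').op (homOfLE h).op) x).symm
  have hlimw : ∀ {i j : ℕ} (h : i ≤ j) (x : ↑(limit X)),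
      (ARSys.tr X h).hom ((limit.π X (op j)).hom x) = (limit.π X (op i)).hom x :=
    fun h x => ConcreteCategory.congr_hom (limit.w X (homOfLE h).op) x
  let q : ∀ n : ℕ, Submodule A ↑(limit X) := fun n => I ^ (n + 1) • (⊤ : Submodule A ↑(limit X))
  have hq : ∀ {n n' : ℕ}, n ≤ n' → q n' ≤ q n := fun h => Submodule.smul_mono_left (Ideal.pow_le_pow_right (Nat.succ_le_succ h))
  choose N₀ hN₀ using fun n => hb (n + 1)
  let N : ℕ → ℕ := fun n => n + (Finset.range (n + 1)).sup N₀
  have hNmono : Monotone N := fun i j h =>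
    Nat.add_le_add h (Finset.sup_mono (Finset.range_subset_range.2 (Nat.succ_le_succ h)))
  have hNle : ∀ n, n ≤ N n := fun n => Nat.le_add_right _ _
  have hN : ∀ n, LinearMap.ker (limit.π X (op (N n))).hom ≤ q n := fun n x hx => by
    have h0 : N₀ n ≤ N n := le_trans (Finset.le_sup (f := N₀) (Finset.mem_range.2 (Nat.lt_succ_self n))) (Nat.le_add_left _ _)
    refine hN₀ n (LinearMap.mem_ker.2 ?_)
    rw [← hlimw h0 x, LinearMap.mem_ker.1 hx, map_zero]
  choose m₀ hm₀ hstab using fun n => GrothLib.Algz7.exists_range_tr_eq_range_π X ha (N n)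
  let m : ℕ → ℕ := fun n => (Finset.range (n + 1)).sup m₀
  have hm : Monotone m := fun i j h => Finset.sup_mono (Finset.range_subset_range.2 (Nat.succ_le_succ h))
  have hmm₀ : ∀ n, m₀ n ≤ m n := fun n => Finset.le_sup (f := m₀) (Finset.mem_range.2 (Nat.lt_succ_self n))
  have hNm : ∀ n, N n ≤ m n := fun n => (hm₀ n).trans (hmm₀ n)
  have hle : ∀ n, n ≤ m n := fun n => (hNle n).trans (hNm n)
  have hex : ∀ n (v : X.obj (op (m n))), ∃ x : ↑(limit X),
      (limit.π X (op (N n))).hom x = (ARSys.tr X (hNm n)).hom v := fun n v => by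
    have h1 : (ARSys.tr X (hNm n)).hom v ∈ LinearMap.range (limit.π X (op (N n))).hom :=
      (hstab n (m n) (hmm₀ n)) ▸ ⟨v, rfl⟩
    exact h1
  choose σ hσ using hex
  have hkey : ∀ n (v : X.obj (op (m n))) (x : ↑(limit X)),
      (limit.π X (op (N n))).hom x = (ARSys.tr X (hNm n)).hom v → (q n).mkQ (σ n v) = (q n).mkQ x := fun n v x hx =>
    (Submodule.Quotient.eq _).2 (hN n (LinearMap.mem_ker.2 (by rw [map_sub, hσ, hx, sub_self])))
  let Y : ℕᵒᵖ ⥤ ModuleCat.{u} A := Functor.ofOpSequence (X := fun n => ModuleCat.of A (↑(limit X) ⧸ q n))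
    (fun n => ModuleCat.ofHom (Submodule.factor (hq (Nat.le_succ n))))
  have hYmap : ∀ {i j : ℕ} (h : i ≤ j) (x : ↑(limit X)), (Y.map (homOfLE h).op).hom ((q j).mkQ x) = (q i).mkQ x := by
    intro i j h x
    induction h with
    | refl => exact ConcreteCategory.congr_hom (Y.map_id _) _
    | @step t h ih =>
      refine Eq.trans ?_ ih
      refine (ConcreteCategory.congr_hom (Y.map_comp (homOfLE (Nat.le_succ t)).op (homOfLE h).op) _).trans ?_
      refine congrArg (Y.map (homOfLE h).op).hom ?_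
      exact ConcreteCategory.congr_hom (Functor.ofOpSequence_map_homOfLE_succ
        (X := fun n => ModuleCat.of A (↑(limit X) ⧸ q n)) (fun n => ModuleCat.ofHom (Submodule.factor (hq (Nat.le_succ n)))) t) _
  let bl : ∀ n, X.obj (op (m n)) →ₗ[A] (↑(limit X) ⧸ q n) := fun n =>
    { toFun := fun v => (q n).mkQ (σ n v)
      map_add' := fun v w => by
        rw [hkey n (v + w) (σ n v + σ n w) (by rw [map_add, map_add, hσ, hσ]), map_add]
      map_smul' := fun r v => by
        rw [hkey n (r • v) (r • σ n v) (by rw [map_smul, map_smul, hσ]), map_smul]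
        rfl }
  let bb : DerCA.reindex X hm ⟶ Y :=
    { app := fun j => (ModuleCat.homEquiv (M := X.obj (op (m j.unop))) (N := Y.obj (op j.unop))).symm (bl j.unop)
      naturality := fun j i f => by
        have h : i.unop ≤ j.unop := leOfHom f.unop
        refine ModuleCat.hom_ext (LinearMap.ext fun v => ?_)
        have hf : f = (homOfLE h).op := Subsingleton.elim _ _
        subst hf
        refine Eq.trans ?_ (hYmap h (σ j.unop v)).symm
        exact hkey i.unop _ (σ j.unop v) (by
          refine Eq.trans (hlimw (hNmono h) (σ j.unop v)).symm ?_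
          rw [hσ, hX]
          exact (hX (hNm i.unop) (hm h) v).symm) }
  have hbb : DerCA.IsProIso bb := fun n => by
    have hker : q (m n) ≤ LinearMap.ker (limit.π X (op (m n))).hom := by
      refine Submodule.smul_le.2 fun a ha' x _ => ?_
      rw [LinearMap.mem_ker, map_smul]
      exact hXkill _ a ha' _
    refine ⟨m n, hle n, (ModuleCat.homEquiv (M := Y.obj (op (m n))) (N := X.obj (op (m n)))).symm
      ((q (m n)).liftQ (limit.π X (op (m n))).hom hker), ?_, ?_⟩
    · refine ModuleCat.hom_ext (LinearMap.ext fun v => ?_)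
      show (limit.π X (op (m n))).hom (σ (m n) v) = (ARSys.tr X (hm (hle n))).hom v
      rw [← hlimw (hNle (m n)) (σ (m n) v), hσ, hX]
    · refine ModuleCat.hom_ext (LinearMap.ext fun z => ?_)
      obtain ⟨x, rfl⟩ := (q (m n)).mkQ_surjective z
      show (q n).mkQ (σ n ((limit.π X (op (m n))).hom x)) = (Y.map (homOfLE (hle n)).op).hom ((q (m n)).mkQ x)
      rw [hYmap, hkey n _ x (hlimw (hNm n) x).symm]
  refine ⟨Y ⋙ T, GrothLib.Algz7.isCohFormal_tilde I Y (fun n => ?_) (fun n a ha' z => ?_) (fun n => ?_) (fun n => ?_),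
    m, hm, hle, Functor.whiskerRight bb T, GrothLib.MLPro7.isProIso_map T bb hbb⟩
  · haveI := hc (N n)
    let e := LinearMap.quotKerEquivRange (limit.π X (op (N n))).hom
    haveI : Module.Finite A (↑(limit X) ⧸ LinearMap.ker (limit.π X (op (N n))).hom) := Module.Finite.equiv e.symm
    exact Module.Finite.of_surjective (Submodule.factor (hN n)) (Submodule.factor_surjective _)
  · obtain ⟨x, rfl⟩ := (q n).mkQ_surjective z
    exact (Submodule.Quotient.mk_eq_zero _).2 (Submodule.smul_mem_smul ha' trivial)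
  · intro z
    obtain ⟨x, rfl⟩ := (q n).mkQ_surjective z
    exact ⟨(q (n + 1)).mkQ x, hYmap (Nat.le_succ n) x⟩
  · ext z
    obtain ⟨x, rfl⟩ := (q (n + 1)).mkQ_surjective z
    rw [LinearMap.mem_ker, hYmap]
    show (q n).mkQ x = 0 ↔ (q (n + 1)).mkQ x ∈ I ^ (n + 1) • (⊤ : Submodule A (↑(limit X) ⧸ q (n + 1)))
    rw [← Submodule.range_mkQ (q (n + 1)), ← Submodule.map_top, ← Submodule.map_smul'']
    refine (Submodule.Quotient.mk_eq_zero _).trans ⟨fun h => ⟨x, h, rfl⟩, fun ⟨y, hy, hyx⟩ => ?_⟩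
    have h2 : y - x ∈ q n := hq (Nat.le_succ n) ((Submodule.Quotient.eq _).1 hyx)
    exact (sub_sub_cancel y x) ▸ Submodule.sub_mem _ hy h2

end Groth.Agent.S9534
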