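import Groth.Statements.S3254
import Groth.Agent.Lib.Contract29.ArSurf

set_option autoImplicit false
universe u
open AlgebraicGeometry CategoryTheory CategoryTheory.Limits
open ArSurf

namespace Groth.Agent.S3254

/-- Castelnuovo's criterion, existence of the contraction: let R be a discrete valuation ring with
residue field k, X an arithmetic surface over Spec R, and E a vertical prime divisor of X over the
closed point such that, for some finite field extension k' of k, E is k-isomorphic to the projective
line over k', and E · E = −[k' : k], where E · E = deg_k(L|_E) for an invertible L with L ⊗ I(E) ≅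
O_X. Then there are an arithmetic surface Y over Spec R, an R-morphism f : X → Y and a closed point
y of Y such that f maps E onto y, the inverse image of Y minus y is exactly X minus E, and f
restricts to an isomorphism from X minus E onto Y minus y. -/
theorem result (R : Type u) [CommRing R] [IsDomain R] [IsDiscreteValuationRing R]
    (X : Over (Spec (CommRingCat.of R))) (hX : ArSurf.IsArithSurface R X) (E : ArSurf.VertComp R X)
    (k' : Type u) [Field k'] [Algebra (IsLocalRing.ResidueField R) k'] [FiniteDimensional (IsLocalRing.ResidueField R) k']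
    (e : E.curve.left ≅ CohB1.ProjSpace 1 k')
    (he : e.hom ≫ (CohB1.ProjSpace 1 k' ↘ Spec (CommRingCat.of k')) ≫
      Spec.map (CommRingCat.ofHom (algebraMap (IsLocalRing.ResidueField R) k')) = E.curve.hom)
    (L : X.left.Modules) (hL : ClSub.IsInverseOf L (ClSub.idealMod E.ι.ker))
    (hself : ArSurf.inter R X L E = -(Module.finrank (IsLocalRing.ResidueField R) k' : ℤ)) :
    ∃ (Y : Over (Spec (CommRingCat.of R))) (f : X ⟶ Y) (y : Y.left) (hy : IsClosed ({y} : Set Y.left)),
      ArSurf.IsArithSurface R Y ∧ Set.range (E.ι ≫ f.left) = {y} ∧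
      (f.left ⁻¹ᵁ (⟨{y}ᶜ, hy.isOpen_compl⟩ : Y.left.Opens) : Set X.left) = (Set.range E.ι)ᶜ ∧
      IsIso (f.left ∣_ (⟨{y}ᶜ, hy.isOpen_compl⟩ : Y.left.Opens)) := by
  obtain ⟨Y, f, y, hy, hY, -, -, hr, hp, hi⟩ :=
    GrothLib.Contract29.exists_arith_contraction hX E
      (GrothLib.Contract29.isExcCurve_of_projLine hX E e he hL hself)
  refine ⟨Y, f, y, hy, hY, hr, ?_, hi⟩
  rw [← hp]
  rfl

end Groth.Agent.S3254
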