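import Groth.Statements.S10998
import Groth.Agent.Lib.FunFld.Gaps
import Mathlib.FieldTheory.IntermediateField.Algebraic
import Mathlib.Algebra.BigOperators.Fin
import Mathlib.Algebra.Polynomial.Degree.SmallDegree
import Mathlib.Tactic

set_option autoImplicit false
open FunFld

namespace Groth.Agent.S10998

/-- A genus-one function field with a place `P₀` of degree one is `k(x, y)` with `x ∈ L(2P₀)`, `y ∈
L(3P₀)` of pole orders `2` and `3`, and `y² + f(x) y + g(x) = 0` for polynomials `f` of degree `≤ 1`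
and `g` of degree `3`. -/
theorem result (k K : Type*) [Field k] [Field K] [Algebra k K]
    (hK : FunFld.IsFunctionField k K) (hg : FunFld.genus k K = 1) (P₀ : FunFld.Place k K) (hP : P₀.deg = 1) :
    ∃ x y : K, x ∈ FunFld.L (Finsupp.single P₀ 2) ∧ y ∈ FunFld.L (Finsupp.single P₀ 3) ∧
      P₀.ord x = -2 ∧ P₀.ord y = -3 ∧
      IntermediateField.adjoin k ({x, y} : Set K) = ⊤ ∧
      ∃ f g : Polynomial k, f.natDegree ≤ 1 ∧ g.natDegree = 3 ∧
        y ^ 2 + Polynomial.aeval x f * y + Polynomial.aeval x g = 0 := by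
  classical
  have hfg : GrothLib.FunFld.IsFG k K := hK.1
  have hell : ∀ n : ℕ, 1 ≤ n → FunFld.ell (Finsupp.single P₀ (n : ℤ) : FunFld.Divisor k K) = n := by
    intro n hn
    have := GrothLib.FunFld.ell_eq_deg_of_genus_one hK hg (D := Finsupp.single P₀ (n : ℤ))
      (by rw [GrothLib.FunFld.deg_single, hP]; simp; omega)
    rw [GrothLib.FunFld.deg_single, hP] at this
    omega
  have hng : ∀ n : ℕ, 2 ≤ n → ¬ GrothLib.FunFld.IsGap P₀ n := by
    intro n hn hgap
    have h1 := hell n (by omega)
    have h2 := hell (n - 1) (by omega)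
    rw [FunFld.ell, hgap, show ((n : ℤ) - 1) = ((n - 1 : ℕ) : ℤ) by omega] at h1
    rw [FunFld.ell] at h2
    omega
  obtain ⟨x, hx0, hx, hxo⟩ := GrothLib.FunFld.exists_exact_of_not_gap hK (hng 2 le_rfl)
  obtain ⟨y, hy0, hy, hyo⟩ := GrothLib.FunFld.exists_exact_of_not_gap hK (hng 3 (by omega))
  simp only [Nat.cast_ofNat] at hx hy hxo hyo
  have hxQ := ((GrothLib.FunFld.mem_L_single_iff hx0 (by norm_num)).1 hx).2
  have hyQ := ((GrothLib.FunFld.mem_L_single_iff hy0 (by norm_num)).1 hy).2
  refine ⟨x, y, hx, hy, hxo, hyo, ?_, ?_⟩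
  · let M := IntermediateField.adjoin k ({x, y} : Set K)
    have hd : ∀ (z : K) (n : ℕ), 0 < n → P₀.ord z = -(n : ℤ) →
        (∀ Q : FunFld.Place k K, Q ≠ P₀ → 0 ≤ Q.ord z) → z ∈ ({x, y} : Set K) →
        Module.finrank M K ∣ n := by
      intro z n hn hz hzQ hzmem
      have h1 := hfg.deg_poleDiv
        (GrothLib.FunFld.transcendental_of_ord_ne_zero (P := P₀) (x := z) (by omega))
      rw [GrothLib.FunFld.poleDiv_eq_single hfg (n := (n : ℤ)) (by omega) hz hzQ,
        GrothLib.FunFld.deg_single, hP] at h1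
      have hle : IntermediateField.adjoin k ({z} : Set K) ≤ M :=
        IntermediateField.adjoin.mono k _ _ (by simpa using hzmem)
      have h2 := IntermediateField.finrank_dvd_of_le_left hle
      rwa [show Module.finrank (IntermediateField.adjoin k ({z} : Set K)) K = n by
        simp at h1; omega] at h2
    have h1 : Module.finrank M K = 1 :=
      Nat.dvd_one.1 (by
        simpa using Nat.dvd_gcd (hd x 2 (by omega) (by simpa using hxo) hxQ (by simp))
          (hd y 3 (by omega) (by simpa using hyo) hyQ (by simp)))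
    rw [eq_top_iff]
    intro z _
    obtain ⟨c, hc⟩ := (finrank_eq_one_iff_of_nonzero' (1 : K) one_ne_zero).1 h1 z
    rw [← hc, Algebra.smul_def, mul_one]
    exact c.2
  · let F : Fin 7 → K := ![1, x, y, x ^ 2, x * y, y ^ 2, x ^ 3]
    let e : Fin 7 → ℕ := ![0, 2, 3, 4, 5, 6, 6]
    have hF0 : ∀ i, F i ≠ 0 := by intro i; fin_cases i <;> simp [F, hx0, hy0]
    have hFo : ∀ i, P₀.ord (F i) = -(e i : ℤ) := by
      intro i
      fin_cases i <;>
        simp [F, e, GrothLib.FunFld.ord_mul, GrothLib.FunFld.ord_pow, hx0, hy0, hxo, hyo]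
    have hFmem : ∀ i, F i ∈ FunFld.L (Finsupp.single P₀ ((6 : ℕ) : ℤ)) := by
      intro i
      rw [GrothLib.FunFld.mem_L_single_iff (hF0 i) (by norm_num)]
      refine ⟨?_, fun Q hQ => ?_⟩
      · rw [hFo]; fin_cases i <;> simp [e]
      · have := hxQ Q hQ
        have := hyQ Q hQ
        fin_cases i <;>
          simp [F, GrothLib.FunFld.ord_mul, GrothLib.FunFld.ord_pow, hx0, hy0] <;> omega
    have hdep : ¬ LinearIndependent k F := by
      intro hli
      have := hfg.finite_L (Finsupp.single P₀ ((6 : ℕ) : ℤ))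
      have hli' : LinearIndependent k fun i => (⟨F i, hFmem i⟩ :
          FunFld.L (Finsupp.single P₀ ((6 : ℕ) : ℤ))) :=
        LinearIndependent.of_comp (FunFld.L _).subtype hli
      have h1 := hli'.fintype_card_le_finrank
      have h2 := hell 6 (by norm_num)
      simp only [FunFld.ell] at h2
      rw [Fintype.card_fin, h2] at h1
      omega
    rw [Fintype.linearIndependent_iff] at hdep
    push Not at hdep
    obtain ⟨c, hc, i₀, hi₀⟩ := hdep
    have key : ∀ j : Fin 7, (j = 5 ∨ j = 6) → c j ≠ 0 := by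
      intro j hj hcj
      refine hi₀ ?_
      by_cases hij : i₀ = j
      · rw [hij, hcj]
      refine GrothLib.FunFld.ord_sum_eq_zero P₀ (Finset.univ.erase j) (f := F) ?_
        (fun i _ => hF0 i) (c := c) ?_ i₀ (Finset.mem_erase.2 ⟨hij, Finset.mem_univ _⟩)
      · intro a ha b hb hab
        simp only [Finset.coe_erase, Finset.coe_univ, Set.mem_sdiff, Set.mem_univ, true_and,
          Set.mem_singleton_iff] at ha hb
        simp only [hFo, neg_inj, Nat.cast_inj] at hab
        rcases hj with rfl | rfl <;> fin_cases a <;> fin_cases b <;> simp [e] at ha hb hab ⊢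
      · rw [Finset.sum_erase _ (by simp [hcj])]; exact hc
    have h5 := key 5 (Or.inl rfl)
    have h6 := key 6 (Or.inr rfl)
    refine ⟨Polynomial.C (c 4 / c 5) * Polynomial.X + Polynomial.C (c 2 / c 5),
      Polynomial.C (c 6 / c 5) * Polynomial.X ^ 3 + Polynomial.C (c 3 / c 5) * Polynomial.X ^ 2 +
        Polynomial.C (c 1 / c 5) * Polynomial.X + Polynomial.C (c 0 / c 5), ?_, ?_, ?_⟩
    · exact Polynomial.natDegree_linear_le
    · exact Polynomial.natDegree_cubic (div_ne_zero h6 h5)
    · simp only [F, Fin.sum_univ_seven, Algebra.smul_def] at hc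
      simp at hc
      simp only [map_add, map_mul, map_pow, Polynomial.aeval_X, Polynomial.aeval_C, map_div₀]
      have h5' : algebraMap k K (c 5) ≠ 0 := by simpa using h5
      field_simp
      linear_combination hc

end Groth.Agent.S10998
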