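import Groth.Statements.S4992
import Groth.Agent.Lib.SmDim4.Basic
import Mathlib

set_option autoImplicit false
universe u
open CategoryTheory CategoryTheory.Limits AlgebraicGeometry TopologicalSpace
open Unram17

namespace Groth.Agent.S4992

/-- Let f : X ⟶ Y and g : Y ⟶ Z be smooth. For every point x of X, the local dimension at x of the fibre
of f ≫ g through x equals the local dimension at x of the fibre of f through x plus the local
dimension at f(x) of the fibre of g through f(x). -/
theorem result {X Y Z : Scheme.{u}} (f : X ⟶ Y) (g : Y ⟶ Z) [Smooth f] [Smooth g]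
    (x : ↥X) :
    FlatMor.fibreDimAt (f ≫ g) x = FlatMor.fibreDimAt f x + FlatMor.fibreDimAt g (f.base x) := by
  obtain ⟨hfs, hf1, hf2, hfd⟩ := GrothLib.SmDim4.kaehler_stalk f x
  obtain ⟨hgs, hg1, hg2, hgd⟩ := GrothLib.SmDim4.kaehler_stalk g (f.base x)
  obtain ⟨-, -, -, hd⟩ := GrothLib.SmDim4.kaehler_stalk (f ≫ g) x
  rw [hd, hfd, hgd, ← Nat.cast_add, Nat.cast_inj]
  letI := (f.stalkMap x).hom.toAlgebra
  letI := (g.stalkMap (f x)).hom.toAlgebra
  letI : Algebra (Z.presheaf.stalk (g (f x))) (X.presheaf.stalk x) := ((f ≫ g).stalkMap x).hom.toAlgebra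
  haveI : IsScalarTower (Z.presheaf.stalk (g (f x))) (Y.presheaf.stalk (f x)) (X.presheaf.stalk x) :=
    IsScalarTower.of_algebraMap_eq fun a => by
      show ((f ≫ g).stalkMap x).hom a = (f.stalkMap x).hom ((g.stalkMap (f x)).hom a)
      rw [Scheme.Hom.stalkMap_comp]
      rfl
  exact GrothLib.SmDim4.finrank_kaehler_tower (Z.presheaf.stalk (g (f x))) (Y.presheaf.stalk (f x)) (X.presheaf.stalk x)

end Groth.Agent.S4992
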