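import Groth.Statements.S8919
import Groth.Agent.Lib.RegImm12.ConormalSeq

set_option autoImplicit false
set_option linter.all false
set_option maxHeartbeats 1000000
set_option backward.isDefEq.respectTransparency false
set_option backward.isDefEq.respectTransparency.types false
universe u
open CategoryTheory CategoryTheory.Limits AlgebraicGeometry TopologicalSpace
open SDiv

namespace Groth.Agent.S8919

/-- Let i : Z ⟶ Y and j : Y ⟶ X be quasi-compact immersions of schemes with i an H_1-regular immersion,
and let a : i^*C_{Y/X} ⟶ C_{Z/X} and b : C_{Z/X} ⟶ C_{Z/Y} be the canonical maps of conormal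
sheaves. Then the canonical sequence 0 → i^*C_{Y/X} → C_{Z/X} → C_{Z/Y} → 0 is exact and locally
split; here local splitting is recorded through C_{Z/Y} being finite locally free. The published
statement allows arbitrary immersions; this row takes both immersions quasi-compact, the case in
which the conormal sheaves used here are those of the immersions. -/
theorem result {Z Y X : Scheme.{u}} (i : Z ⟶ Y) (j : Y ⟶ X) [IsImmersion i] [IsImmersion j]
    [QuasiCompact i] [QuasiCompact j]
    (a : (Scheme.Modules.pullback i).obj (Omega.conormal j) ⟶ Omega.conormal (i ≫ j))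
    (ha : OmegaSh.IsConormalMap (i ≫ j) j (𝟙 X) i a)
    (b : (Scheme.Modules.pullback (𝟙 Z)).obj (Omega.conormal (i ≫ j)) ⟶ Omega.conormal i)
    (hb : OmegaSh.IsConormalMap i (i ≫ j) j (𝟙 Z) b)
    (hi : RegImm.IsRegularImmersion RegImm.Kind.h1 i) :
    a ≫ ((Scheme.Modules.pullbackId Z).inv.app (Omega.conormal (i ≫ j)) ≫ b) = 0 ∧
      (∀ w : a ≫ ((Scheme.Modules.pullbackId Z).inv.app (Omega.conormal (i ≫ j)) ≫ b) = 0, (ShortComplex.mk a ((Scheme.Modules.pullbackId Z).inv.app (Omega.conormal (i ≫ j)) ≫ b) w).ShortExact) ∧
      FlatMod.IsFinLocFree (Omega.conormal i) := by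
  obtain ⟨h1, h2⟩ := GrothLib.RegImm12.main i j a ha b hb hi
  exact ⟨h1, h2, GrothLib.RegImm12.isFinLocFree_conormal_of_h1 i hi⟩

end Groth.Agent.S8919
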