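import Groth.Statements.S9386
import Mathlib
import Groth.Agent.Lib.PPGen.FibDiff
import Groth.Agent.Lib.PPGen.DiffBasic
-- import your own Groth.Agent.* helpers here

set_option autoImplicit false
universe u
open OmegaSh

set_option maxHeartbeats 1000000
set_option backward.isDefEq.respectTransparency false

namespace Groth.Agent.S9386

open AlgebraicGeometry CategoryTheory in
/-- For a cartesian square X' = X ×_S S' with projection g' : X' → X, the canonical map g'^*Ω_{X/S} →
Ω_{X'/S'} is an isomorphism (receptacle form: Ω_{X/S}, Ω_{X'/S'} are any modules carrying universal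
derivations and the map is pinned by its values on pulled-back differentials). -/
theorem result {X S X' S' : Scheme.{u}} (f : X ⟶ S) (g : S' ⟶ S) (g' : X' ⟶ X) (f' : X' ⟶ S')
    (hsq : IsPullback g' f' f g) (Ω : X.Modules) (d : OmegaSh.Der f Ω) (hd : OmegaSh.IsUniversal d)
    (Ω' : X'.Modules) (d' : OmegaSh.Der f' Ω') (hd' : OmegaSh.IsUniversal d')
    (c : (Scheme.Modules.pullback g').obj Ω ⟶ Ω') (hc : OmegaSh.IsDiffCompat g' d d' c) : IsIso c := by
  let kid := 𝟙 ((Scheme.Modules.pullback g').obj Ω)
  refine GrothLib.PPGen.isIso_of_derFam hsq f' d' hd' (GrothLib.PPGen.DerFam.ofPullback g' d kid)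
    (GrothLib.PPGen.DerFam.zero f' _) (GrothLib.PPGen.DerFam.ofPullback_base g' d kid) (fun _ _ => rfl)
    c hc (fun U s => ?_) (fun {G} u v hu _ => ?_) (fun V t z hz D _ _ hD₂ => ?_)
  · exact (map_zero (c.app (f' ⁻¹ᵁ U)).hom).trans (d'.d_app (X := Opposite.op U) s).symm
  · let adj := Scheme.Modules.pullbackPushforwardAdjunction g'
    refine (adj.homEquiv _ _).injective (GrothLib.PPGen.hom_ext_universal hd _ _ fun U s => ?_)
    exact (congr($(adj.homEquiv_unit _ _ u).app U (d.app U s))).trans
      ((hu U s).trans (congr($(adj.homEquiv_unit _ _ v).app U (d.app U s))).symm)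
  · exact (hD₂ V hz t).trans (GrothLib.PPGen.DerFam.germ_zero_of_eq _ z V hz t rfl)

end Groth.Agent.S9386
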