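import Groth.Statements.S1863
-- import your own Groth.Agent.* helpers here
import Groth.Agent.Lib.CycPush.Family

set_option autoImplicit false
universe u
open CategoryTheory AlgebraicGeometry
open Cyc

namespace Groth.Agent.S1863

/-- Let U ⊆ X be open and α, β k-cycles on X whose restrictions to U are rationally equivalent on U (for
the restricted dimension function). Then there is a k-cycle γ on X vanishing on U with α rationally
equivalent to β + γ. Here a pair (X, δ) with Cyc.IsSetup plays the role of a scheme locally of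
finite type over a fixed base with a dimension function (X locally Noetherian with universally
catenary local rings, δ a dimension function). -/
theorem result (X : Scheme.{u}) (δ : X → ℤ) (hX : Cyc.IsSetup X δ) (U : X.Opens) (k : ℤ) (α β : AlgebraicCycle X ℤ) (hα : α ∈ Cyc.Zk X δ k) (hβ : β ∈ Cyc.Zk X δ k) (αU βU : AlgebraicCycle (↑U : Scheme.{u}) ℤ) (hαU : ∀ u : ↥U, αU u = α (U.ι u)) (hβU : ∀ u : ↥U, βU u = β (U.ι u)) (h : Cyc.RatEquiv (fun u : ↥U => δ (U.ι u)) k αU βU) : ∃ γ : AlgebraicCycle X ℤ, γ ∈ Cyc.Zk X δ k ∧ (∀ x : X, x ∈ U → γ x = 0) ∧ Cyc.RatEquiv δ k α (β + γ) := by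
  haveI := hX.1
  obtain ⟨ι, ξ, f, hdim, hf, hloc, hsum⟩ := h
  let j := U.ι
  let g := fun i => GrothLib.CycPush.resInv j (ξ i) (f i)
  have hg : ∀ i, g i ≠ 0 := fun i => GrothLib.CycPush.resInv_ne_zero j (hf i)
  have hloc' : ∀ x : X, ∃ V : Set X, IsOpen V ∧ x ∈ V ∧ {i | (closure {j (ξ i)} ∩ V).Nonempty}.Finite := by
    intro x
    obtain ⟨V, hV, hx, -⟩ := exists_isAffineOpen_mem_and_subset (x := x) (U := ⊤) trivial
    haveI : CompactSpace ↥(V : Scheme.{u}) := isCompact_iff_compactSpace.mp hV.isCompact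
    haveI : IsNoetherian (V : Scheme.{u}) := {}
    have hK : IsCompact (j ⁻¹' (V : Set X)) := by
      rw [j.isEmbedding.isInducing.isCompact_iff, Set.image_preimage_eq_inter_range]
      have h1 : IsCompact (V.ι ⁻¹' Set.range j) := TopologicalSpace.NoetherianSpace.isCompact _
      have h2 := h1.image V.ι.continuous
      rwa [Set.image_preimage_eq_inter_range, Scheme.Opens.range_ι V, Set.inter_comm] at h2
    refine ⟨V, V.2, hx, (GrothLib.CycPush.finite_of_locFin hloc hK).subset fun i hi => ?_⟩
    obtain ⟨z, hz, hzV⟩ := hi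
    exact ⟨ξ i, subset_closure rfl, (specializes_iff_mem_closure.2 hz).mem_open V.2 hzV⟩
  let S := GrothLib.CycPush.famCycle hX.2.2 g hg hloc'
  have hC := GrothLib.CycPush.isDimFun_openι hX.2.2 U
  refine ⟨α - β - S, fun x hx => ?_, fun x hx => ?_, ι, fun i => j (ξ i), g, hdim, hg, hloc', fun x => ?_⟩
  · rw [Function.locallyFinsuppWithin.coe_sub, Pi.sub_apply, Function.locallyFinsuppWithin.coe_sub, Pi.sub_apply,
      hα x hx, hβ x hx, GrothLib.CycPush.famCycle_mem_Zk hX.2.2 g hg hloc' hdim x hx, sub_zero, sub_zero]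
  · obtain ⟨u, rfl⟩ : x ∈ Set.range j := by rw [Scheme.Opens.range_ι]; exact hx
    have h1 := hsum u
    rw [Function.locallyFinsuppWithin.coe_sub, Pi.sub_apply, hαU, hβU] at h1
    rw [Function.locallyFinsuppWithin.coe_sub, Pi.sub_apply, Function.locallyFinsuppWithin.coe_sub, Pi.sub_apply,
      GrothLib.CycPush.famCycle_apply, finsum_congr fun i =>
        GrothLib.CycPush.divFun_push j hX.2.2 hC (ξ i) u (hf i)]
    rw [h1]
    exact sub_self _
  · rw [show α - (β + (α - β - S)) = S by abel]
    rfl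

end Groth.Agent.S1863
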