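import Groth.Statements.S1597
import Groth.Agent.Lib.CplStalk.Basic
import Groth.Agent.S0564


set_option autoImplicit false
universe u
open CategoryTheory CategoryTheory.Limits AlgebraicGeometry
open Resolve

namespace Groth.Agent.S1597

/-- Let A be a Noetherian local ring with completion A^, X a scheme proper over Spec A and Y its base
change to Spec A^. Then all local rings of X are regular if and only if all local rings of Y are
regular. -/
theorem result (A : Type u) [CommRing A] [IsLocalRing A] [IsNoetherianRing A]
    (X : Scheme.{u}) (f : X ⟶ Spec (CommRingCat.of A)) [IsProper f] :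
    (∀ x : X, IsRegularLocalRing (X.presheaf.stalk x)) ↔
      ∀ y : Curv2.bcCpl A f, IsRegularLocalRing ((Curv2.bcCpl A f).presheaf.stalk y) := by
  haveI : IsLocalRing (Curv2.cpl A) := AdicCompletion.isLocalRing_of_fg (Ideal.fg_of_isNoetherianRing _)
  have hc : IsClosedMap (Curv2.bcCplSnd A f).base := (Curv2.bcCplSnd A f).isClosedMap
  have hc' : IsClosedMap f.base := f.isClosedMap
  have key : ∀ {T : Scheme.{u}} {R : Type u} [CommRing R] [IsLocalRing R] (g : T ⟶ Spec (CommRingCat.of R))
      [IsProper g] (t : T), ∃ t' : T, t ⤳ t' ∧ g.base t' = IsLocalRing.closedPoint R := by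
    intro T R _ _ g _ t
    haveI : CompactSpace T := QuasiCompact.compactSpace_of_compactSpace g
    obtain ⟨t', ht', hcl⟩ :=
      (isClosed_closure (s := ({t} : Set T))).exists_closed_singleton ⟨t, subset_closure rfl⟩
    refine ⟨t', specializes_iff_mem_closure.2 ht', ?_⟩
    have h1 : IsClosed ({g.base t'} : Set (Spec (CommRingCat.of R))) := by
      have := g.isClosedMap _ hcl
      rwa [Set.image_singleton] at this
    exact (IsLocalRing.specializes_closedPoint _).mem_closed h1 rfl |>.symm
  constructor
  · intro h y
    obtain ⟨y', hsp, hy'⟩ := key (Curv2.bcCplSnd A f) y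
    exact GrothLib.CplStalk.isRegularLocalRing_of_specializes
      (fun R _ _ p _ => Groth.Agent.S0564.result R p) hsp
      ((GrothLib.CplStalk.isRegularLocalRing_iff A f y' hy').2 (h _))
  · intro h x
    obtain ⟨x', hsp, hx'⟩ := key f x
    haveI : IsLocalHom (algebraMap A (Curv2.cpl A)) :=
      AdicCompletion.algebraMap_isLocalHom_of_fg (Ideal.fg_of_isNoetherianRing _)
    obtain ⟨y, hy1, hy2⟩ := Scheme.Pullback.exists_preimage_pullback (f := f)
      (g := Spec.map (CommRingCat.ofHom (algebraMap A (Curv2.cpl A)))) x' (IsLocalRing.closedPoint (Curv2.cpl A))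
      (hx'.trans (IsLocalRing.comap_closedPoint (algebraMap A (Curv2.cpl A))).symm)
    have h2 := (GrothLib.CplStalk.isRegularLocalRing_iff A f y hy2).1 (h y)
    rw [hy1] at h2
    exact GrothLib.CplStalk.isRegularLocalRing_of_specializes
      (fun R _ _ p _ => Groth.Agent.S0564.result R p) hsp h2

end Groth.Agent.S1597
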