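import Groth.Statements.S5976
import Mathlib
import Groth.Agent.Lib.PPGen.DiffBasic
import Groth.Agent.Lib.PPGen.DescDer
import Groth.Agent.Lib.PPGen.Maps
import Groth.Agent.Lib.IdealModSec.Basic
-- import your own Groth.Agent.* helpers here

set_option autoImplicit false
universe u
open CategoryTheory CategoryTheory.Limits AlgebraicGeometry TopologicalSpace Opposite
open Nrm16

set_option maxHeartbeats 1200000
set_option backward.isDefEq.respectTransparency false

namespace Groth.Agent.S5976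

/-- Let f : Y ⟶ Z be a morphism and j : X ⟶ Y a quasi-compact immersion. Let (Ω_{Y/Z}, d) and (Ω_{X/Z},
d') be sheaves of differentials (universal derivations), φ : N_{X/Y} ⟶ j^*Ω_{Y/Z} the canonical map
from the conormal sheaf of j (class of a local section s of the ideal ↦ pullback of d s) and c :
j^*Ω_{Y/Z} ⟶ Ω_{X/Z} the canonical map compatible with the derivations. Then c is an epimorphism and
the image of φ is the kernel of c: the sequence N_{X/Y} ⟶ j^*Ω_{Y/Z} ⟶ Ω_{X/Z} ⟶ 0 is exact. (The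
published statement allows any immersion j; this row assumes j quasi-compact, the case in which the
conormal sheaf used here is that of j.) -/
theorem result {X Y Z : Scheme.{u}} (f : Y ⟶ Z) (j : X ⟶ Y)
    [IsImmersion j] [QuasiCompact j]
    (ΩY : Y.Modules) (dY : OmegaSh.Der f ΩY) (hY : OmegaSh.IsUniversal dY)
    (ΩX : X.Modules) (dX : OmegaSh.Der (j ≫ f) ΩX) (hX : OmegaSh.IsUniversal dX)
    (φ : Omega.conormal j ⟶ (Scheme.Modules.pullback j).obj ΩY) (hφ : OmegaSh.IsConormalDiff j dY φ)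
    (c : (Scheme.Modules.pullback j).obj ΩY ⟶ ΩX) (hc : OmegaSh.IsDiffCompat j dY dX c) :
    Epi c ∧ imageSubobject φ = kernelSubobject c := by
  have hc' : ∀ (U : Y.Opens) (s : Γ(Y, U)),
      c.app (j ⁻¹ᵁ U) (OmegaSh.pullSect j ΩY U (dY.app U s)) = dX.app (j ⁻¹ᵁ U) (j.app U s) := hc
  have hmapX : ∀ {U V : X.Opens} (e : V ≤ U) (s : Γ(X, U)),
      dX.app V (X.presheaf.map (homOfLE e).op s) = ΩX.presheaf.map (homOfLE e).op (dX.app U s) :=
    fun e s => dX.d_map (homOfLE e).op s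
  have hext : ∀ {G : X.Modules} (a b : ΩX ⟶ G), c ≫ a = c ≫ b → a = b := by
    intro G a b hab
    have hE : ∀ (W : Y.Opens) (s : Γ(Y, W)),
        b.app (j ⁻¹ᵁ W) (dX.app _ (j.app W s)) = a.app (j ⁻¹ᵁ W) (dX.app _ (j.app W s)) := fun W s => by
      rw [← hc' W s]
      exact congr($(hab).app (j ⁻¹ᵁ W) (OmegaSh.pullSect j ΩY W (dY.app W s))).symm
    refine GrothLib.PPGen.hom_ext_universal hX a b fun U s => ?_
    -- every function is locally a restriction
    have hloc : ∀ x : U, ∃ (V : X.Opens) (e : V ≤ U), x.1 ∈ V ∧ ∃ (W : Y.Opens) (eW : V ≤ j ⁻¹ᵁ W)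
        (t : Γ(Y, W)), X.presheaf.map (homOfLE e).op s = X.presheaf.map (homOfLE eW).op (j.app W t) := by
      intro x
      obtain ⟨β, hβ⟩ := j.stalkMap_surjective x.1 (X.presheaf.germ U x.1 x.2 s)
      obtain ⟨W, hxW, t, rfl⟩ := Y.presheaf.exists_germ_eq β
      rw [Scheme.Hom.germ_stalkMap_apply] at hβ
      obtain ⟨V, hxV, iU, iW, hV⟩ :=
        X.presheaf.germ_eq x.1 x.2 (U := U) (V := j ⁻¹ᵁ W) hxW s (j.app W t) hβ.symm
      exact ⟨V, iU.le, hxV, W, iW.le, t, hV⟩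
    choose V e hxV W eW t hst using hloc
    refine TopCat.Sheaf.eq_of_locally_eq' ⟨G.presheaf, G.isSheaf⟩ V U (fun x => homOfLE (e x))
      (fun x hx => TopologicalSpace.Opens.mem_iSup.2 ⟨⟨x, hx⟩, hxV _⟩) _ _ fun x => ?_
    show G.presheaf.map (homOfLE (e x)).op (a.app U (dX.app U s)) =
      G.presheaf.map (homOfLE (e x)).op (b.app U (dX.app U s))
    have hn : ∀ (φ : ΩX ⟶ G), G.presheaf.map (homOfLE (e x)).op (φ.app U (dX.app U s)) =
        G.presheaf.map (homOfLE (eW x)).op (φ.app _ (dX.app _ (j.app (W x) (t x)))) := fun φ => by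
      refine (congr($((Scheme.Modules.Hom.mapPresheaf φ).naturality (homOfLE (e x)).op) (dX.app U s))).symm.trans
        (Eq.trans ?_ (congr($((Scheme.Modules.Hom.mapPresheaf φ).naturality (homOfLE (eW x)).op)
          (dX.app _ (j.app (W x) (t x))))))
      show φ.app (V x) (ΩX.presheaf.map _ _) = φ.app (V x) (ΩX.presheaf.map _ _)
      rw [← hmapX, ← hmapX, hst]
    rw [hn a, hn b, hE]
  haveI : Epi c := ⟨fun a b hab => hext a b hab⟩
  refine ⟨inferInstance, ?_⟩
  have hφ' : ∀ (U : Y.Opens) (s : Γ(ClSub.idealMod j.ker, U)),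
      φ.app (j ⁻¹ᵁ U) (OmegaSh.conormalSect j U s) =
        OmegaSh.pullSect j ΩY U (dY.app U (OmegaSh.idealSect j.ker U s)) := hφ
  have w : φ ≫ c = 0 := by
    refine GrothLib.PPGen.hom_ext_pullSect j _ _ fun U s => ?_
    show c.app (j ⁻¹ᵁ U) (φ.app (j ⁻¹ᵁ U) (OmegaSh.conormalSect j U s)) = 0
    rw [hφ', hc']
    have h0 : j.app U (OmegaSh.idealSect j.ker U s) = 0 := by
      have h := GrothLib.IdealModSec.app_val j.ker U s
      have h' := congrArg ((Scheme.Hom.toImage j).app (j.ker.subschemeι ⁻¹ᵁ U)) h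
      rw [map_zero, ← ConcreteCategory.comp_apply, ← Scheme.Hom.comp_app] at h'
      have e0 : j ⁻¹ᵁ U ≤ (Scheme.Hom.toImage j ≫ j.ker.subschemeι) ⁻¹ᵁ U := by
        rw [show Scheme.Hom.toImage j ≫ j.ker.subschemeι = j from Scheme.Hom.toImage_imageι _]
      rw [GrothLib.PPGen.app_congr (show j = Scheme.Hom.toImage j ≫ j.ker.subschemeι from
        (Scheme.Hom.toImage_imageι _).symm) U e0]
      exact (congrArg (X.presheaf.map (homOfLE e0).op) h').trans (map_zero _)
    rw [h0, map_zero]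
  refine GrothLib.PPGen.image_eq_kernel_of_cokernel φ c w fun {G} k hk => ?_
  let E : ∀ W : Y.Opens, Γ(Y, W) →+ Γ(G, j ⁻¹ᵁ W) := fun W =>
    (k.app (j ⁻¹ᵁ W)).hom.comp ((OmegaSh.pullSect j ΩY W).hom.comp (dY.app W))
  have hE : ∀ W s, E W s = k.app (j ⁻¹ᵁ W) (OmegaSh.pullSect j ΩY W (dY.app W s)) := fun W s => rfl
  have hEmap : ∀ {W W' : Y.Opens} (e : W' ≤ W) (b : Γ(Y, W)),
      E W' (Y.presheaf.map (homOfLE e).op b) = G.presheaf.map (homOfLE (j.preimage_mono e)).op (E W b) := by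
    intro W W' e b
    rw [hE, hE]
    refine Eq.trans ?_ (congr($((Scheme.Modules.Hom.mapPresheaf k).naturality
      (homOfLE (j.preimage_mono e)).op) (OmegaSh.pullSect j ΩY W (dY.app W b))))
    refine congrArg (k.app (j ⁻¹ᵁ W')) ?_
    exact (congrArg (OmegaSh.pullSect j ΩY W') (dY.d_map (homOfLE e).op b)).trans
      (OmegaSh.pullSect_map j ΩY e _)
  have hEker : ∀ (W : Y.Opens) (b : Γ(Y, W)), j.app W b = 0 → E W b = 0 := by
    intro W b hb
    choose A hA hyA hAW using fun y : W =>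
      TopologicalSpace.Opens.isBasis_iff_nbhd.mp Y.isBasis_affineOpens y.2
    refine TopCat.Sheaf.eq_of_locally_eq' ⟨G.presheaf, G.isSheaf⟩
      (fun y : W => j ⁻¹ᵁ A y) (j ⁻¹ᵁ W) (fun y => homOfLE (j.preimage_mono (hAW y)))
      (fun x hx => TopologicalSpace.Opens.mem_iSup.2 ⟨⟨j x, hx⟩, hyA _⟩) _ _ fun y => ?_
    show G.presheaf.map _ (E W b) = G.presheaf.map _ 0
    rw [map_zero, ← hEmap (hAW y)]
    let bA := Y.presheaf.map (homOfLE (hAW y)).op b
    have hbA : bA ∈ j.ker.ideal ⟨A y, hA y⟩ := by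
      rw [Scheme.Hom.ker_apply, RingHom.mem_ker]
      refine (congr($(j.naturality (homOfLE (hAW y)).op) b)).trans ?_
      exact (congrArg (X.presheaf.map (homOfLE (j.preimage_mono (hAW y))).op) hb).trans (map_zero _)
    obtain ⟨q, hq⟩ := GrothLib.IdealModSec.exists_val_eq j.ker ⟨A y, hA y⟩ hbA
    have h1 := congr($(hk).app (j ⁻¹ᵁ A y) (OmegaSh.conormalSect j (A y) q))
    refine Eq.trans ?_ h1
    rw [hE]
    show _ = k.app (j ⁻¹ᵁ A y) (φ.app (j ⁻¹ᵁ A y) (OmegaSh.conormalSect j (A y) q))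
    rw [hφ', show OmegaSh.idealSect j.ker (A y) q = bA from hq]
  obtain ⟨δ, hδ⟩ := GrothLib.PPGen.exists_descend j f G E hEmap hEker
    (fun W a b => by
      rw [hE, hE, hE]
      refine (congrArg (fun t => k.app (j ⁻¹ᵁ W) (OmegaSh.pullSect j ΩY W t))
        (dY.d_mul (X := op W) a b)).trans ?_
      refine (congrArg (k.app (j ⁻¹ᵁ W)) ((map_add (OmegaSh.pullSect j ΩY W).hom _ _).trans
        (congrArg₂ (· + ·) (OmegaSh.pullSect_smul j ΩY W a _) (OmegaSh.pullSect_smul j ΩY W b _)))).trans ?_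
      refine ((k.app (j ⁻¹ᵁ W)).hom.map_add _ _).trans ?_
      exact congrArg₂ (· + ·) (Scheme.Modules.Hom.app_smul k _ _) (Scheme.Modules.Hom.app_smul k _ _))
    (fun V t => by
      rw [hE]
      refine (congrArg (fun r => k.app _ (OmegaSh.pullSect j ΩY _ r)) (dY.d_app (X := op V) t)).trans ?_
      rw [map_zero, map_zero])
  obtain ⟨l, hl, -⟩ := hX G δ
  refine ⟨l, ?_⟩
  let adj := Scheme.Modules.pullbackPushforwardAdjunction j
  refine (adj.homEquiv _ _).injective (GrothLib.PPGen.hom_ext_universal hY _ _ fun U s => ?_)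
  refine (congr($(adj.homEquiv_unit _ _ (c ≫ l)).app U (dY.app U s))).trans
    (Eq.trans ?_ (congr($(adj.homEquiv_unit _ _ k).app U (dY.app U s))).symm)
  show l.app (j ⁻¹ᵁ U) (c.app (j ⁻¹ᵁ U) (OmegaSh.pullSect j ΩY U (dY.app U s))) =
    k.app (j ⁻¹ᵁ U) (OmegaSh.pullSect j ΩY U (dY.app U s))
  rw [hc', ← hE, ← hδ]
  exact PresheafOfModules.Derivation.congr_d hl (X := op (j ⁻¹ᵁ U)) (j.app U s)

end Groth.Agent.S5976
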