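import Groth.Statements.S5158
import Mathlib.RingTheory.AdicCompletion.AsTensorProduct
import Mathlib.RingTheory.AdicCompletion.Completeness

set_option autoImplicit false
universe u
open scoped TensorProduct
open Matlis

namespace Groth.Agent.S5158

/-- Let A be a Noetherian local ring, Â its m-adic completion and I an m-power torsion A-module (a union
of submodules of finite length). Then x ↦ 1 ⊗ x is a bijection I → Â ⊗_A I. -/
theorem result (A : Type u) [CommRing A] [IsLocalRing A] [IsNoetherianRing A] (I : Type u) [AddCommGroup I] [Module A I] (hI : LocCoh.IsPowerTorsion (IsLocalRing.maximalIdeal A) I) : Function.Bijective (TensorProduct.mk A (AdicCompletion (IsLocalRing.maximalIdeal A) A) I 1) := by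
    let 𝔪 := IsLocalRing.maximalIdeal A
    let C := AdicCompletion 𝔪 A
    constructor
    · rw [injective_iff_map_eq_zero]
      intro x hx
      obtain ⟨N, hN⟩ := hI x
      let P := Submodule.span A {x}
      let x₀ : P := ⟨x, Submodule.mem_span_singleton_self x⟩
      have h0 : TensorProduct.mk A C P 1 x₀ = 0 := by
        refine Module.Flat.lTensor_preserves_injective_linearMap (M := C) P.subtype P.injective_subtype ?_
        rw [map_zero]
        exact hx
      have hPN : ∀ a ∈ 𝔪 ^ N, ∀ y : P, a • y = 0 := fun a ha y => by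
        obtain ⟨r, hr⟩ := Submodule.mem_span_singleton.1 y.2
        refine Subtype.ext ?_
        show a • (y : I) = 0
        rw [← hr, smul_comm, hN a ha, smul_zero]
      let ev : C →ₗ[A] A ⧸ 𝔪 ^ N := (AdicCompletion.evalₐ 𝔪 N).toLinearMap
      let act : (A ⧸ 𝔪 ^ N) →ₗ[A] P →ₗ[A] P := Submodule.liftQ (𝔪 ^ N : Ideal A)
        (LinearMap.toSpanSingleton A (P →ₗ[A] P) LinearMap.id) fun a ha =>
          LinearMap.mem_ker.2 (LinearMap.ext fun y => hPN a ha y)
      have h1 := congrArg (TensorProduct.lift (act ∘ₗ ev)) h0
      rw [map_zero] at h1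
      have h2 : (act (ev 1)) x₀ = 0 := h1
      rw [show ev 1 = Ideal.Quotient.mk (𝔪 ^ N) 1 from map_one (AdicCompletion.evalₐ 𝔪 N)] at h2
      exact congrArg Subtype.val ((one_smul A x₀).symm.trans h2)
    · intro z
      induction z using TensorProduct.induction_on with
      | zero => exact ⟨0, map_zero _⟩
      | add z w hz hw =>
        obtain ⟨a, rfl⟩ := hz
        obtain ⟨b, rfl⟩ := hw
        exact ⟨a + b, map_add _ a b⟩
      | tmul c x =>
        obtain ⟨N, hN⟩ := hI x
        obtain ⟨s, rfl⟩ := AdicCompletion.mk_surjective 𝔪 A c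
        refine ⟨s.val N • x, ?_⟩
        have hd : AdicCompletion.mk 𝔪 A s - s.val N • (1 : C) ∈ (𝔪 ^ N • ⊤ : Submodule A C) := by
          rw [AdicCompletion.pow_smul_top_eq_ker_eval (IsNoetherian.noetherian 𝔪), LinearMap.mem_ker,
            map_sub, map_smul]
          show Submodule.Quotient.mk (s.val N) - s.val N • Submodule.Quotient.mk (1 : A) = 0
          rw [← Submodule.Quotient.mk_smul, sub_eq_zero]
          exact congrArg Submodule.Quotient.mk (mul_one _).symm
        have h0 : (AdicCompletion.mk 𝔪 A s - s.val N • (1 : C)) ⊗ₜ[A] x = 0 := by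
          refine Submodule.smul_induction_on hd (fun a ha d _ => ?_) fun d e hd he => by
            rw [TensorProduct.add_tmul, hd, he, add_zero]
          rw [TensorProduct.smul_tmul, hN a ha, TensorProduct.tmul_zero]
        rw [TensorProduct.sub_tmul, sub_eq_zero] at h0
        rw [h0, TensorProduct.smul_tmul]
        rfl

end Groth.Agent.S5158
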