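import Groth.Statements.S12898
import Groth.Agent.Lib.DCxKFlat.LBaseKFlat
import Mathlib.CategoryTheory.Functor.Derived.Adjunction
import Mathlib.CategoryTheory.Functor.Derived.PointwiseRightDerived
import Mathlib.Algebra.Category.ModuleCat.ChangeOfRings

set_option autoImplicit false
universe u
open CategoryTheory CategoryTheory.Limits
attribute [local instance] HasDerivedCategory.standard
open DRing

namespace Groth.Agent.S12898

open CategoryTheory.Functor in
/-- Extension and restriction of scalars form an adjunction between homotopy categories. -/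
noncomputable def hoAdj {C D : Type*} [Category C] [Category D] [Preadditive C] [Preadditive D]
    {F : C ⥤ D} {G : D ⥤ C} [F.Additive] [G.Additive] (adj : F ⊣ G) :
    F.mapHomotopyCategory (ComplexShape.up ℤ) ⊣ G.mapHomotopyCategory (ComplexShape.up ℤ) where
  unit :=
    { app := fun X => (HomotopyCategory.quotient C (ComplexShape.up ℤ)).map
        (Y := ((G.mapHomologicalComplex (ComplexShape.up ℤ)).obj ((F.mapHomologicalComplex (ComplexShape.up ℤ)).obj X.as)))
        { f := fun i => adj.unit.app (X.as.X i), comm' := fun i j _ => (adj.unit.naturality (X.as.d i j)).symm }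
      naturality := by
        rintro ⟨X⟩ ⟨Y⟩ f
        obtain ⟨f, rfl⟩ := (HomotopyCategory.quotient C (ComplexShape.up ℤ)).map_surjective f
        refine ((HomotopyCategory.quotient C (ComplexShape.up ℤ)).map_comp _ _).symm.trans
          (Eq.trans (congrArg _ ?_) ((HomotopyCategory.quotient C (ComplexShape.up ℤ)).map_comp _ _))
        exact HomologicalComplex.hom_ext _ _ fun i => adj.unit.naturality (f.f i) }
  counit :=
    { app := fun X => (HomotopyCategory.quotient D (ComplexShape.up ℤ)).map
        (X := ((F.mapHomologicalComplex (ComplexShape.up ℤ)).obj ((G.mapHomologicalComplex (ComplexShape.up ℤ)).obj X.as)))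
        { f := fun i => adj.counit.app (X.as.X i), comm' := fun i j _ => (adj.counit.naturality (X.as.d i j)).symm }
      naturality := by
        rintro ⟨X⟩ ⟨Y⟩ f
        obtain ⟨f, rfl⟩ := (HomotopyCategory.quotient D (ComplexShape.up ℤ)).map_surjective f
        change (HomotopyCategory.quotient D (ComplexShape.up ℤ)).map
            ((F.mapHomologicalComplex _).map ((G.mapHomologicalComplex _).map f)) ≫ _ = _
        refine ((HomotopyCategory.quotient D (ComplexShape.up ℤ)).map_comp _ _).symm.trans
          (Eq.trans (congrArg _ ?_) ((HomotopyCategory.quotient D (ComplexShape.up ℤ)).map_comp _ _))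
        exact HomologicalComplex.hom_ext _ _ fun i => adj.counit.naturality (f.f i) }
  left_triangle_components := by
    rintro ⟨X⟩
    refine ((HomotopyCategory.quotient D (ComplexShape.up ℤ)).map_comp _ _).symm.trans
      (Eq.trans (congrArg _ ?_) ((HomotopyCategory.quotient D (ComplexShape.up ℤ)).map_id _))
    exact HomologicalComplex.hom_ext _ _ fun i => adj.left_triangle_components (X.X i)
  right_triangle_components := by
    rintro ⟨X⟩
    refine ((HomotopyCategory.quotient C (ComplexShape.up ℤ)).map_comp _ _).symm.trans
      (Eq.trans (congrArg _ ?_) ((HomotopyCategory.quotient C (ComplexShape.up ℤ)).map_id _))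
    exact HomologicalComplex.hom_ext _ _ fun i => adj.right_triangle_components (X.X i)

/-- Let φ : R → A be a map of commutative rings. The derived base change functor D(R) → D(A), E ↦ E
⊗^L_R A (the total left derived functor of extension of scalars, whose existence is the stated
instance hypothesis, true), is left adjoint to the restriction functor D(A) → D(R). (Existence of an
adjunction only.) -/
theorem result {R A : Type u} [CommRing R] [CommRing A] (φ : R →+* A)
    [DRing.HasLBaseChange φ] :
    Nonempty (DRing.LBaseChange φ ⊣ DRing.restrictD φ) := by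
  let W₁ := HomotopyCategory.quasiIso (ModuleCat.{u} R) (ComplexShape.up ℤ)
  let W₂ := HomotopyCategory.quasiIso (ModuleCat.{u} A) (ComplexShape.up ℤ)
  let G' := DRing.LBaseChange φ
  let F' := DRing.restrictD φ
  let α := (DRing.baseChangeKh φ).totalLeftDerivedCounit DerivedCategory.Qh W₁
  let e := (ModuleCat.restrictScalars.{u} φ).mapDerivedCategoryFactorsh
  have h := GrothLib.KF.leftResolvable_baseChange φ
  haveI : F'.IsRightDerivedFunctor e.inv W₂ := Functor.isRightDerivedFunctor_of_inverts W₂ F' e
  haveI : (G' ⋙ F').IsLeftDerivedFunctor ((Functor.associator _ _ _).inv ≫ Functor.whiskerRight α F') W₁ := by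
    refine (h.postcomp F').isLeftDerivedFunctor _ _ fun Q hQ => ?_
    haveI := h.isIso_app_of_isLeftDerivedFunctor G' α hQ
    simp only [NatTrans.comp_app, Functor.associator_inv_app, Functor.whiskerRight_app]
    exact IsIso.comp_isIso' (IsIso.id _) inferInstance
  haveI : (F' ⋙ G').IsRightDerivedFunctor
      (Functor.whiskerRight e.inv G' ≫ (Functor.associator _ _ _).hom) W₂ :=
    Functor.isRightDerivedFunctor_of_inverts W₂ (F' ⋙ G')
      ((Functor.associator _ _ _).symm ≪≫ Functor.isoWhiskerRight e G')
  exact ⟨(hoAdj (ModuleCat.extendRestrictScalarsAdj.{u, u, u} φ)).derived W₁ W₂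
    (G := (ModuleCat.extendScalars.{u, u, u} φ).mapHomotopyCategory (ComplexShape.up ℤ)) α e.inv⟩

end Groth.Agent.S12898
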