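import Groth.Statements.S14404
import Groth.Agent.Lib.Equidim6.Basic
-- import your own Groth.Agent.* helpers here

set_option autoImplicit false
universe u
open CategoryTheory AlgebraicGeometry
open FlatMor

namespace Groth.Agent.S14404

/-- Let k be a field, X and Y irreducible schemes of finite type over k and f : X ⟶ Y a flat k-morphism.
Then dim Y ≤ dim X, and for every point y of Y every irreducible component Z of the scheme-theoretic
fibre of f over y has dim Z + dim Y = dim X; that is, every non-empty fibre has all its irreducible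
components of dimension dim X − dim Y. -/
theorem result (k : Type u) [Field k]
    {X Y : Scheme.{u}} (qX : X ⟶ Spec (CommRingCat.of k)) (qY : Y ⟶ Spec (CommRingCat.of k))
    [LocallyOfFiniteType qX] [QuasiCompact qX] [LocallyOfFiniteType qY] [QuasiCompact qY]
    [IrreducibleSpace X] [IrreducibleSpace Y] (f : X ⟶ Y) (hf : f ≫ qY = qX) [Flat f] :
    topologicalKrullDim Y ≤ topologicalKrullDim X ∧
      ∀ (y : Y), ∀ Z ∈ irreducibleComponents (f.fiber y : Type u),
        topologicalKrullDim Z + topologicalKrullDim Y = topologicalKrullDim X := by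
  subst hf
  haveI : LocallyOfFiniteType f := locallyOfFiniteType_of_comp f qY
  obtain ⟨e, he, hX⟩ := GrothLib.Equidim6.exists_localDim_irreducible (f ≫ qY)
  obtain ⟨d, hd, hY⟩ := GrothLib.Equidim6.exists_localDim_irreducible qY
  have key : ∀ x : X, (d : WithBot ℕ∞) + FlatMor.fibreDimAt f x = (e : WithBot ℕ∞) := fun x => by
    rw [← hX x, GrothLib.Equidim6.localDim_flat f qY x, hY]
  rw [hd, he]
  refine ⟨?_, fun y Z hZ => ?_⟩
  · obtain ⟨x⟩ := (inferInstance : Nonempty X)
    rw [← key x]
    exact le_add_of_nonneg_right (le_iInf fun U => Order.krullDim_nonneg_iff.2 ⟨⟨closure {⟨_, U.2⟩}, isIrreducible_singleton.closure, isClosed_closure⟩⟩)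
  · haveI : LocallyOfFiniteType (f.fiberToSpecResidueField y) := MorphismProperty.pullback_snd f _ inferInstance
    obtain ⟨η, hη, hdim⟩ := GrothLib.Equidim6.exists_generic hZ
    rw [hdim, ← GrothLib.Equidim6.localDim_of_maximal (K := Y.residueField y) (f.fiberToSpecResidueField y) η hη,
      GrothLib.Equidim6.localDim_asFiber, add_comm]
    exact key _

end Groth.Agent.S14404
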