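import Groth.Statements.S1653
import Groth.Agent.Lib.FibreDim5.Basic
import Groth.Agent.Lib.AffDom.PointDim

set_option autoImplicit false
universe u
open CategoryTheory CategoryTheory.Limits AlgebraicGeometry
open Variety

namespace Groth.Agent.S1653

/-- Let f : X → Y be a k-morphism of schemes locally of finite type over a field k, with X irreducible
of dimension a, and let the closure of the image of f have dimension b. Then the local fibre
dimension of f at every point of X is at least a - b, and the set of points where it equals a - b is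
open and dense. -/
theorem result (k : Type u) [Field k] (X Y : Scheme.{u}) [X.Over (Spec (CommRingCat.of k))] [Y.Over (Spec (CommRingCat.of k))]
    [LocallyOfFiniteType (X ↘ (Spec (CommRingCat.of k)))] [LocallyOfFiniteType (Y ↘ (Spec (CommRingCat.of k)))] [IrreducibleSpace X]
    (f : X ⟶ Y) (hf : f ≫ (Y ↘ (Spec (CommRingCat.of k))) = X ↘ (Spec (CommRingCat.of k))) (a b : ℕ) (ha : topologicalKrullDim X = a)
    (hb : topologicalKrullDim (closure (Set.range f.base)) = b) :
    (∀ x : X, ((a - b : ℕ) : WithBot ℕ∞) ≤ FlatMor.fibreDimAt f x) ∧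
      IsOpen {x : X | FlatMor.fibreDimAt f x = (a - b : ℕ)} ∧ Dense {x : X | FlatMor.fibreDimAt f x = (a - b : ℕ)} := by
  haveI : LocallyOfFiniteType (f ≫ Y ↘ Spec (CommRingCat.of k)) := by rw [hf]; infer_instance
  haveI : LocallyOfFiniteType f := locallyOfFiniteType_of_comp f (Y ↘ Spec (CommRingCat.of k))
  let ξ := genericPoint X
  have hgen : IsGenericPoint (f.asFiber ξ) (Set.univ : Set ↥(f.fiber (f ξ))) := by
    refine Set.eq_univ_of_forall fun z => ?_
    rw [(f.fiberι (f ξ)).isEmbedding.closure_eq_preimage_closure_image, Set.image_singleton,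
      Set.mem_preimage, f.fiberι_asFiber]
    exact (genericPoint_spec X).symm.subset trivial
  have hX : GrothLib.AffDom.ptDim ξ = (a : WithBot ℕ∞) := by
    show topologicalKrullDim (closure ({genericPoint X} : Set X)) = _
    rw [(genericPoint_spec X).def, IsHomeomorph.topologicalKrullDim_eq _ (Homeomorph.Set.univ X).isHomeomorph]
    exact ha
  have hY : GrothLib.AffDom.ptDim (f ξ) = (b : WithBot ℕ∞) := by
    show topologicalKrullDim (closure ({f ξ} : Set Y)) = _
    rw [← hb, ← Set.image_univ, ← (genericPoint_spec X).def, closure_image_closure f.continuous, Set.image_singleton]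
  haveI : LocallyOfFiniteType (f.fiberToSpecResidueField (f ξ)) :=
    MorphismProperty.pullback_snd (P := @LocallyOfFiniteType) _ _ inferInstance
  obtain ⟨n, hn, hnU⟩ := GrothLib.Dim.exists_nat_dim_irreducible (K := ↑(Y.residueField (f ξ)))
    (f.fiberToSpecResidueField (f ξ)) isClosed_univ hgen.isIrreducible
  have hF : GrothLib.AffDom.ptDim (f.asFiber ξ) = (n : WithBot ℕ∞) := by
    show topologicalKrullDim (closure ({f.asFiber ξ} : Set ↥(f.fiber (f ξ)))) = _
    rw [hgen.def]
    exact hn
  have hsum := GrothLib.AffDom.ptDim_eq_add f (Y ↘ Spec (CommRingCat.of k)) ξ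
  rw [hX, hY, hF] at hsum
  have habn : a = b + n := by exact_mod_cast hsum
  have hn' : n = a - b := by omega
  have hge : (n : WithBot ℕ∞) ≤ FlatMor.fibreDimAt f ξ := by
    refine le_iInf fun U => ?_
    rw [← hnU U.1 ⟨f.asFiber ξ, trivial, U.2⟩]
    exact le_of_eq (by rw [Set.univ_inter])
  have hle : FlatMor.fibreDimAt f ξ ≤ (n : WithBot ℕ∞) := (iInf_le _ ⟨⊤, trivial⟩).trans hn.le
  have key : ∀ x : X, (n : WithBot ℕ∞) ≤ FlatMor.fibreDimAt f x := by
    intro x
    have h0 : ∀ m : ℕ, FlatMor.fibreDimAt f x ≤ (m : WithBot ℕ∞) → (n : WithBot ℕ∞) ≤ m := fun m hm =>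
      hge.trans ((genericPoint_specializes x).mem_open (GrothLib.FibreDimAt6.isOpen_fibreDimAt_le f m) hm)
    have h1 := GrothLib.FibreDim5.nonneg_fibreDimAt f x
    generalize FlatMor.fibreDimAt f x = c at h0 h1 ⊢
    induction c using WithBot.recBotCoe with
    | bot => simp at h1
    | coe c =>
      induction c using ENat.recTopCoe with
      | top => exact le_top
      | coe m => exact h0 m le_rfl
  rw [← hn']
  refine ⟨key, ?_, ?_⟩
  · rw [show {x : X | FlatMor.fibreDimAt f x = (n : WithBot ℕ∞)} = {x | FlatMor.fibreDimAt f x ≤ (n : WithBot ℕ∞)} from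
      Set.ext fun x => ⟨fun h => le_of_eq h, fun h => le_antisymm h (key x)⟩]
    exact GrothLib.FibreDimAt6.isOpen_fibreDimAt_le f n
  · refine dense_iff_closure_eq.2 (Set.eq_univ_of_univ_subset ?_)
    rw [← (genericPoint_spec X).def]
    exact closure_mono (Set.singleton_subset_iff.2 (le_antisymm hle hge))

end Groth.Agent.S1653
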