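import Groth.Statements.S4993
import Groth.Agent.Lib.UnrMono.FibreEtale
import Groth.Agent.Lib.AlgMisc.GeomRegAt

set_option autoImplicit false
universe u
open CategoryTheory CategoryTheory.Limits AlgebraicGeometry TopologicalSpace
open Unram17

namespace Groth.Agent.S4993

/-- Let f : Y ⟶ S and h : X ⟶ S be smooth and let g : X ⟶ Y satisfy g ≫ f = h. Then g is an open
immersion if and only if g is a monomorphism and, for every point x of X, the local dimension at
g(x) of the fibre of f through g(x) equals the local dimension at x of the fibre of h through x. -/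
theorem result {X Y S : Scheme.{u}} (f : Y ⟶ S) (h : X ⟶ S)
    [Smooth f] [Smooth h] (g : X ⟶ Y) (w : g ≫ f = h) :
    IsOpenImmersion g ↔ Mono g ∧ ∀ x : ↥X, FlatMor.fibreDimAt f (g.base x) = FlatMor.fibreDimAt h x := by
  subst w
  have hnorm : ∀ x : ↥X, IsDomain ((f.fiber (f (g x))).presheaf.stalk (f.asFiber (g x))) ∧
      IsIntegrallyClosed ((f.fiber (f (g x))).presheaf.stalk (f.asFiber (g x))) := fun x => by
    let q : f.fiber (f (g x)) ⟶ Spec (CommRingCat.of (S.residueField (f (g x)))) :=
      f.fiberToSpecResidueField (f (g x))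
    haveI : Smooth q := (MorphismProperty.pullback_snd _ _ inferInstance : Smooth (pullback.snd f _))
    haveI := Groth.Agent.Lib.AlgMisc.GeomRegAt.isRegularLocalRing_stalk_of_mem_smoothLocus
      q (x := f.asFiber (g x)) (by rw [Scheme.Hom.smoothLocus_eq_top]; trivial)
    exact ⟨GrothLib.CMFree.isDomain_of_isRegularLocalRing _,
      GrothLib.RegLoc.isIntegrallyClosed_of_isRegularLocalRing _⟩
  haveI : LocallyOfFinitePresentation g :=
    GrothLib.DiagGrp.lfp_of_comp_of_lft g f inferInstance inferInstance
  have key := fun x : ↥X =>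
    GrothLib.UnrMono.etale_nhd_iff_fibreDimAt g f x (Flat.stalkMap (g ≫ f) x) (hnorm x)
  constructor
  · intro hg
    exact ⟨inferInstance, fun x => ((key x).1 ⟨⊤, trivial, inferInstance⟩).2.symm⟩
  · rintro ⟨hm, hdim⟩
    have het : ∀ x : ↥X, ∃ U : X.Opens, x ∈ U ∧ Etale (U.ι ≫ g) := fun x =>
      (key x).2 ⟨⟨⊤, trivial, inferInstance⟩, (hdim x).symm⟩
    choose U hxU hU using het
    haveI : Etale g := by
      haveI : IsZariskiLocalAtSource (@Etale : MorphismProperty Scheme.{u}) :=
        HasRingHomProperty.instIsZariskiLocalAtSource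
      rw [IsZariskiLocalAtSource.iff_of_iSup_eq_top (P := @Etale) U
        (top_le_iff.mp fun x _ => TopologicalSpace.Opens.mem_iSup.mpr ⟨x, hxU x⟩)]
      exact hU
    exact IsOpenImmersion.of_flat_of_mono g

end Groth.Agent.S4993
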