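import Groth.Statements.S11412
import Groth.Agent.Lib.AntiAffSmooth14.Reduced
import Groth.Agent.Lib.AntiAffine.Prod
-- import your own Groth.Agent.* helpers here

set_option autoImplicit false
universe u
open CategoryTheory MonoidalCategory CartesianMonoidalCategory MonObj GrpObj AlgebraicGeometry CategoryTheory.Limits
open AlgGrp

namespace Groth.Agent.S11412

/-- Over an algebraically closed field k, let G be a k-group scheme of finite type whose only global
functions are the constants. Then G is reduced, i.e. smooth over k, and for every closed subgroup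
scheme H of G and every quotient G/H (a k-scheme X of locally finite type with a G-action and a
rational point o whose orbit map is flat and surjective and identifies G × H with G ×_X G), the only
global functions on X are the constants. (The published statement also records that G is connected
and commutative.) -/
theorem result (k : Type u) [Field k] [IsAlgClosed k]
    (G : Over (Spec (CommRingCat.of k))) [GrpObj G] [LocallyOfFiniteType G.hom] [QuasiCompact G.hom]
    (hG : Function.Bijective ((Scheme.ΓSpecIso (CommRingCat.of k)).inv ≫ G.hom.appTop).hom) :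
    Smooth G.hom ∧
      ∀ (H : Over (Spec (CommRingCat.of k))) [GrpObj H] (h : H ⟶ G) [IsMonHom h] [IsClosedImmersion h.left]
        (X : Over (Spec (CommRingCat.of k))) (a : AlgGrp.Action G X) (o : 𝟙_ (Over (Spec (CommRingCat.of k))) ⟶ X), AGF.IsQuotient h X a o →
        Function.Bijective ((Scheme.ΓSpecIso (CommRingCat.of k)).inv ≫ X.hom.appTop).hom := by
  refine ⟨GrothLib.AntiAffSmooth14.smooth_of_isAntiAffine G hG, ?_⟩
  intro H _ h _ _ X a o hq
  obtain ⟨-, hfl, hsurj, -⟩ := hq
  haveI := hfl
  haveI := hsurj
  refine GrothLib.AntiAffine.IsAntiAffine.of_injective hG (a.orbitMap o) ?_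
  show Function.Injective ((a.orbitMap o).left.app ⊤)
  rw [injective_iff_map_eq_zero]
  intro r hr
  refine TopCat.Presheaf.section_ext X.left.sheaf ⊤ r 0 fun y hy => ?_
  obtain ⟨x, rfl⟩ := (a.orbitMap o).left.surjective y
  have hinj : Function.Injective ((a.orbitMap o).left.stalkMap x) := by
    algebraize [((a.orbitMap o).left.stalkMap x).hom]
    have : Module.FaithfullyFlat (X.left.presheaf.stalk ((a.orbitMap o).left x)) (G.left.presheaf.stalk x) :=
      @Module.FaithfullyFlat.of_flat_of_isLocalHom _ _ _ _ _ _ _
        (Flat.stalkMap (a.orbitMap o).left x) ((a.orbitMap o).left.toLRSHom.prop x)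
    exact ‹RingHom.FaithfullyFlat _›.injective
  refine hinj ?_
  show (a.orbitMap o).left.stalkMap x (X.left.presheaf.germ ⊤ _ hy r) = (a.orbitMap o).left.stalkMap x (X.left.presheaf.germ ⊤ _ hy 0)
  rw [Scheme.Hom.germ_stalkMap_apply, Scheme.Hom.germ_stalkMap_apply, hr]
  exact congrArg _ (map_zero _).symm


end Groth.Agent.S11412
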