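import Groth.Statements.S3025
import Groth.Agent.Lib.SepAct.QsConn

set_option autoImplicit false
universe u
open CategoryTheory MonoidalCategory CartesianMonoidalCategory MonObj GrpObj AlgebraicGeometry TensorProduct
open SGA3

namespace Groth.Agent.S3025

/-- Let S be a scheme and G a group scheme over S which is locally of finite presentation and
universally open over S and whose fibres are connected. Then G is separated and quasi-compact (hence
of finite presentation) over S. -/
theorem result (S : Scheme.{u}) (G : Over S) [GrpObj G]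
    [LocallyOfFinitePresentation G.hom] [UniversallyOpen G.hom]
    (hconn : ∀ s : S, _root_.IsConnected (G.hom.base ⁻¹' {s})) :
    IsSeparated G.hom ∧ QuasiCompact G.hom := by
  let a : AlgGrp.Action G G :=
    { act := μ[G], one_act := MonObj.one_mul G, mul_act := MonObj.mul_assoc G }
  have hΦ : Surjective (lift a.act (snd G G)).left := by
    let ψ : G ⊗ G ⟶ G ⊗ G := lift (lift (fst G G) ((snd G G)⁻¹) ≫ μ[G]) (snd G G)
    have h : ψ ≫ lift a.act (snd G G) = 𝟙 _ := by
      apply CartesianMonoidalCategory.hom_ext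
      · rw [Category.assoc, lift_fst, Category.id_comp]
        simp only [ψ, a]
        rw [← Hom.mul_def, ← Hom.mul_def] <;> simp
      · rw [Category.assoc, lift_snd, Category.id_comp, lift_snd]
    exact ⟨fun q => ⟨ψ.left q, by rw [← Scheme.Hom.comp_apply, ← Over.comp_left, h]; rfl⟩⟩
  have hqs : ∀ s : S, QuasiSeparatedSpace ↥(G.hom ⁻¹' {s}) := fun s => by
    haveI : LocallyOfFiniteType (G.hom.fiberToSpecResidueField s) := MorphismProperty.pullback_snd _ _ inferInstance
    haveI : IsLocallyNoetherian (G.hom.fiber s) :=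
      LocallyOfFiniteType.isLocallyNoetherian (G.hom.fiberToSpecResidueField s)
    exact QuasiSeparatedSpace.of_isOpenEmbedding (G.hom.fiberHomeo s).symm.isOpenEmbedding
  have hpre : ∀ s : S, _root_.IsPreconnected (G.hom ⁻¹' {s}) := fun s => (hconn s).isPreconnected
  haveI : UniversallyOpen ((⊤ : G.left.Opens).ι ≫ G.hom) := inferInstance
  refine ⟨GrothLib.SepAct.isSeparated_of_qs_connected a ⊤ (fun _ => trivial) hΦ hqs hpre, ?_⟩
  rw [quasiCompact_iff_forall_isAffineOpen]
  intro S₀ hS₀
  let e : S ⟶ G.left := η[G].left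
  have heG : ∀ t, G.hom (e t) = t := fun t => by
    change (e ≫ G.hom) t = t
    rw [show e ≫ G.hom = 𝟙 S from Over.w η[G]]; rfl
  have hcov : e '' (S₀ : Set S) ⊆ ⋃ A : {A : G.left.Opens // IsCompact (A : Set G.left) ∧ A ≤ G.hom ⁻¹ᵁ S₀}, (A.1 : Set G.left) := by
    rintro _ ⟨t, ht, rfl⟩
    obtain ⟨_, ⟨A, hA, rfl⟩, htA, hAS⟩ := G.left.isBasis_affineOpens.exists_subset_of_mem_open
      (show e t ∈ G.hom ⁻¹ᵁ S₀ by change G.hom (e t) ∈ S₀; rw [heG]; exact ht) (G.hom ⁻¹ᵁ S₀).2
    exact Set.mem_iUnion.mpr ⟨⟨A, IsAffineOpen.isCompact hA, hAS⟩, htA⟩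
  obtain ⟨I, hI⟩ := (hS₀.isCompact.image e.continuous).elim_finite_subcover _ (fun A => A.1.2) hcov
  refine GrothLib.SepAct.isCompact_preimage_of_qs_connected a ⊤ (fun _ => trivial) hΦ hqs hpre S₀ hS₀
    (⨆ A ∈ I, A.1) ?_ ?_ fun s hs _ => ⟨e s, ?_, heG s⟩
  · simp only [TopologicalSpace.Opens.coe_iSup]
    exact Finset.isCompact_biUnion _ fun A _ => A.2.1
  · exact iSup₂_le fun A _ => A.2.2
  · simp only [TopologicalSpace.Opens.coe_iSup]
    exact hI ⟨s, hs, rfl⟩

end Groth.Agent.S3025
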