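import Groth.Statements.S4871
import Groth.Agent.Lib.FlatFP.UnivInjRestrict
import Groth.Agent.Lib.FlatFP.Kernel
import Groth.Agent.Lib.OX.LocFreeTensor
import Groth.Agent.Lib.WeakAss.Structure

set_option autoImplicit false
universe u
open CategoryTheory AlgebraicGeometry
open EGA43

namespace Groth.Agent.S4871

open GrothLib in
theorem flatOver_structureModule {X S : Scheme.{u}} (f : X ⟶ S) [Flat f] :
    FlatMod.IsFlatOver f (Coh.structureModule X) := by
  intro x
  obtain ⟨e⟩ := AssPts.exists_stalk_unit_equiv x
  letI := FlatMod.moduleStalkOver f (Coh.structureModule X) x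
  letI : Algebra (S.presheaf.stalk (f.base x)) (X.presheaf.stalk x) := (f.stalkMap x).hom.toAlgebra
  haveI : Module.Flat (S.presheaf.stalk (f.base x)) (X.presheaf.stalk x) := Flat.stalkMap f x
  let e' : X.presheaf.stalk x ≃ₗ[S.presheaf.stalk (f.base x)] (Coh.structureModule X).presheaf.stalk x :=
    { e.toAddEquiv with map_smul' := fun a m => e.map_smul ((f.stalkMap x).hom a) m }
  exact Module.Flat.of_linearEquiv e'.symm

open GrothLib in
theorem isFP_structureModule (X : Scheme.{u}) : CohB1.IsFP (Coh.structureModule X) := by
  refine FlatFP.isFP_of_sections _ (fun U : X.affineOpens => U.1) (iSup_affineOpens_eq_top X)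
    (fun U => U.2) fun U => ?_
  show Module.FinitePresentation Γ(X, U.1) Γ(X, U.1)
  infer_instance

theorem dense_iff {X T : Scheme.{u}} (q : T ⟶ X) (W : T.Opens) :
    CInt.IsSchematicallyDense W ↔ ∀ V : T.Opens, Function.Injective
      (((Scheme.Modules.pullback q).obj (Coh.structureModule X)).presheaf.map
        (homOfLE (inf_le_left : V ⊓ W ≤ V)).op) := by
  let e := Scheme.Modules.Hom.mapPresheaf (GrothLib.OX.pullUnitIso q).hom
  have hiso : ∀ V, Function.Bijective (e.app V) := fun V =>
    ConcreteCategory.bijective_of_isIso (C := Ab)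
      (((Scheme.Modules.toPresheaf T).mapIso (GrothLib.OX.pullUnitIso q)).app V).hom
  refine forall_congr' fun V => ?_
  have hnat : ∀ z, e.app (Opposite.op (V ⊓ W)) (((Scheme.Modules.pullback q).obj
      (Coh.structureModule X)).presheaf.map (homOfLE (inf_le_left : V ⊓ W ≤ V)).op z) =
      (Coh.structureModule T).presheaf.map (homOfLE (inf_le_left : V ⊓ W ≤ V)).op
        (e.app (Opposite.op V) z) := fun z => (congr($(e.naturality _) z))
  show Function.Injective ((Coh.structureModule T).presheaf.map
    (homOfLE (inf_le_left : V ⊓ W ≤ V)).op) ↔ _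
  constructor
  · intro h a b hab
    exact (hiso _).1 (h (by rw [← hnat, ← hnat, hab]))
  · intro h a b hab
    obtain ⟨a, rfl⟩ := (hiso (Opposite.op V)).2 a
    obtain ⟨b, rfl⟩ := (hiso (Opposite.op V)).2 b
    rw [← hnat, ← hnat] at hab
    exact congrArg _ (h ((hiso _).1 hab))

open CategoryTheory.Limits in
/-- Let f : X ⟶ S be flat and locally of finite presentation and U an open subscheme of X. Then U is
universally schematically dense in X relative to S, i.e. for every base change S' ⟶ S the preimage
of U in X ×_S S' is schematically dense, if and only if for every point s of S the trace U_s of U on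
the fibre X_s is schematically dense in X_s. -/
theorem result {X S : Scheme.{u}} (f : X ⟶ S) [Flat f]
    [LocallyOfFinitePresentation f] (U : X.Opens) :
    (∀ (S' : Scheme.{u}) (g : S' ⟶ S), CInt.IsSchematicallyDense ((pullback.fst f g) ⁻¹ᵁ U)) ↔
      ∀ s : S, CInt.IsSchematicallyDense ((f.fiberι s) ⁻¹ᵁ U) := by
  constructor
  · intro h s
    exact h _ (S.fromSpecResidueField s)
  · intro h S' g
    rw [dense_iff (pullback.fst f g)]
    intro V
    haveI : (Coh.structureModule X).IsQuasicoherent := inferInstance
    exact GrothLib.FlatFP.injective_restrict_of_fibres f (Coh.structureModule X)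
      (isFP_structureModule X) U (flatOver_structureModule f)
      (fun s => (dense_iff (f.fiberι s) _).mp (h s)) (IsPullback.of_hasPullback f g) V

end Groth.Agent.S4871
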