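import Groth.Statements.S14765
import Groth.Agent.Lib.SubtrLim.Criterion
import Groth.Agent.Lib.RedSub.Basic
import Mathlib.AlgebraicGeometry.IdealSheaf.IrreducibleComponent

set_option autoImplicit false
set_option backward.isDefEq.respectTransparency false
universe u
open CategoryTheory CategoryTheory.Limits AlgebraicGeometry
open Subtr

namespace Groth.Agent.S14765

open GrothLib.HTop

/-- A prime all whose basic neighbourhoods meet the generic fibre has a generisation in it. -/
lemma exists_le_generic {V R : Type u} [CommRing V] [IsDomain V] [CommRing R] (φ : V →+* R) (q : Ideal R)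
    [hqp : q.IsPrime] (h : ∀ t ∉ q, ∃ P : Ideal R, P.IsPrime ∧ P.comap φ = ⊥ ∧ t ∉ P) :
    ∃ P : Ideal R, P.IsPrime ∧ P ≤ q ∧ P.comap φ = ⊥ := by
  let M : Submonoid R :=
    { carrier := {p | ∃ c : V, c ≠ 0 ∧ ∃ t ∉ q, p = φ c * t}
      one_mem' := ⟨1, one_ne_zero, 1, fun h => hqp.ne_top ((Ideal.eq_top_iff_one _).mpr h), by simp⟩
      mul_mem' := by
        rintro - - ⟨c, hc, t, ht, rfl⟩ ⟨c', hc', t', ht', rfl⟩
        exact ⟨c * c', mul_ne_zero hc hc', t * t', fun h => (hqp.mem_or_mem h).elim ht ht',
          by rw [map_mul]; ring⟩ }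
  have hdisj : Disjoint ((⊥ : Ideal R) : Set R) (M : Set R) := by
    rw [Set.disjoint_right]
    rintro - ⟨c, hc, t, ht, rfl⟩ hI
    obtain ⟨P, hP, hP0, htP⟩ := h t ht
    rcases hP.mem_or_mem (show φ c * t ∈ P by rw [show φ c * t = 0 from hI]; exact zero_mem P) with h' | h'
    · exact hc (by rw [← Ideal.mem_bot, ← hP0]; exact h')
    · exact htP h'
  obtain ⟨P, hP, -, hPM⟩ := Ideal.exists_le_prime_disjoint _ M hdisj
  refine ⟨P, hP, fun p hp => ?_, eq_bot_iff.mpr fun c hc => ?_⟩
  · by_contra hpq
    exact Set.disjoint_right.mp hPM ⟨1, one_ne_zero, p, hpq, by simp⟩ hp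
  · by_contra hc0
    exact Set.disjoint_right.mp hPM ⟨c, hc0, 1, fun h => hqp.ne_top ((Ideal.eq_top_iff_one _).mpr h),
      by simp⟩ hc

lemma eq_gen_of_specializes {V : CommRingCat.{u}} [IsDomain V] {z : Spec V} (h : z ⤳ gen V) : z = gen V :=
  PrimeSpectrum.ext (le_bot_iff.mp ((PrimeSpectrum.le_iff_specializes z (gen V)).mpr h))

lemma flat_toSpec_valuationRing {V : CommRingCat.{u}} [IsDomain V] [ValuationRing V] {Z : Scheme.{u}}
    [IsIntegral Z] (h : Z ⟶ Spec V) (hg : h (genericPoint Z) = gen V) : Flat h := by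
  rw [IsZariskiLocalAtSource.iff_of_openCover (P := @Flat) Z.affineCover]
  intro i
  by_cases hne : Nonempty (Z.affineCover.X i : Scheme.{u})
  · haveI : IsIntegral (Z.affineCover.X i) := isIntegral_of_isOpenImmersion (Z.affineCover.f i)
    obtain ⟨R, hR⟩ : ∃ R, Z.affineCover.X i = Spec R := ⟨_, rfl⟩
    let e := eqToIso hR
    rw [← MorphismProperty.cancel_left_of_respectsIso (P := @Flat) e.inv]
    haveI : IsIntegral (Spec R) := hR ▸ ‹IsIntegral (Z.affineCover.X i)›
    haveI : IsDomain R := (affine_isIntegral_iff R).mp ‹_›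
    obtain ⟨φ, hφ⟩ := Spec.map_surjective (e.inv ≫ Z.affineCover.f i ≫ h)
    rw [← hφ, HasRingHomProperty.Spec_iff (P := @Flat)]
    have hgen : Spec.map φ (gen R) = gen V := by
      refine eq_gen_of_specializes ?_
      rw [← hg, hφ, Scheme.Hom.comp_apply, Scheme.Hom.comp_apply]
      refine Specializes.map ?_ h.continuous
      rw [← genericPoint_eq_of_isOpenImmersion (e.inv ≫ Z.affineCover.f i), Scheme.Hom.comp_apply]
      exact ((gen_specializes (R := R) _).map e.inv.continuous).map (Z.affineCover.f i).continuous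
    have hinj := injective_of_specMap_gen hgen
    algebraize [φ.hom]
    show Module.Flat V R
    refine Module.Flat.flat_iff_torsion_eq_bot_of_isBezout.mpr ?_
    refine (Submodule.eq_bot_iff _).mpr fun z hz => ?_
    obtain ⟨a, ha⟩ := (Submodule.mem_torsion_iff _).mp hz
    rw [Submonoid.smul_def, Algebra.smul_def, mul_eq_zero] at ha
    exact ha.resolve_left fun h => nonZeroDivisors.coe_ne_zero a (hinj (h.trans (map_zero _).symm))
  · rw [not_nonempty_iff] at hne
    infer_instance


/-- Let V be a valuation ring and f : X ⟶ Spec V any morphism of schemes. The following are equivalent: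
(a) after every base change, every ordered pair of points of the target (a point and a
specialization of it) lifts to an ordered pair of points of the source; (b) every ordered pair of
points of Spec V lifts to an ordered pair of points of X; (c) every point of Spec V is the image of
a point of X lying in the closure of the generic fibre; (d) the pair formed by the closed point and
the generic point of Spec V lifts to points x, x' of X with x a specialization of x'; (e) there are
a valuation ring W and a morphism Spec W ⟶ X whose composite with f is surjective; (f) there is a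
closed subscheme Z of X such that Z ⟶ Spec V is flat and surjective. (The published list also
contains subtrusiveness and universal subtrusiveness, which add submersiveness for the constructible
topology, and the lifting of arbitrary chains of points; this row omits those items and keeps the
lifting property alone in (a).) -/
theorem result (V : Type u) [CommRing V] [IsDomain V] [ValuationRing V]
    {X : Scheme.{u}} (f : X ⟶ Spec (CommRingCat.of V)) :
    List.TFAE [
      Subtr.UnivSSubtrusive f,
      Subtr.IsSSubtrusive f,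
      ∀ y : Spec (CommRingCat.of V), ∃ x : X,
        x ∈ closure (f ⁻¹' {(⟨⊥, Ideal.isPrime_bot⟩ : PrimeSpectrum V)}) ∧ f x = y,
      ∃ x x' : X, x' ⤳ x ∧ f x = IsLocalRing.closedPoint V ∧
        f x' = (⟨⊥, Ideal.isPrime_bot⟩ : PrimeSpectrum V),
      ∃ (W : Type u) (_ : CommRing W) (_ : IsDomain W) (_ : ValuationRing W)
        (g : Spec (CommRingCat.of W) ⟶ X), Surjective (g ≫ f),
      ∃ (Z : Scheme.{u}) (i : Z ⟶ X), IsClosedImmersion i ∧ Flat (i ≫ f) ∧ Surjective (i ≫ f)] := by
  let V' := CommRingCat.of V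
  tfae_have 1 → 2 := fun h => h (𝟙 X) (𝟙 _) f (IsPullback.of_vert_isIso ⟨by simp⟩)
  tfae_have 2 → 3 := by
    intro h y
    obtain ⟨x, x', hx, hfx, hfx'⟩ := h (gen_specializes (R := V') y)
    exact ⟨x, closure_mono ((Set.singleton_subset_iff (a := x')).mpr hfx') (specializes_iff_mem_closure.mp hx), hfx⟩
  tfae_have 3 → 4 := by
    intro h
    obtain ⟨x, hx, hfx⟩ := h (closed V')
    obtain ⟨R, j, hj, hxj⟩ : ∃ (R : CommRingCat.{u}) (j : Spec R ⟶ X), IsOpenImmersion j ∧ x ∈ Set.range j :=
      ⟨_, X.affineCover.f (X.affineCover.idx x), inferInstance, X.affineCover.covers x⟩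
    obtain ⟨q, rfl⟩ := hxj
    obtain ⟨φ, hφ⟩ := Spec.map_surjective (j ≫ f)
    haveI := q.isPrime
    obtain ⟨P, hP, hPq, hP0⟩ := exists_le_generic φ.hom q.asIdeal fun t ht => by
      obtain ⟨-, ⟨z, hz, rfl⟩, hgen⟩ := mem_closure_iff.mp hx _
        (j.isOpenEmbedding.isOpenMap _ (PrimeSpectrum.basicOpen t).isOpen) ⟨q, ht, rfl⟩
      refine ⟨z.asIdeal, z.isPrime, ?_, hz⟩
      have : Spec.map φ z = gen V' := by rw [hφ, Scheme.Hom.comp_apply]; exact hgen
      exact congrArg PrimeSpectrum.asIdeal this
    refine ⟨j q, j (⟨P, hP⟩ : PrimeSpectrum R), ?_, hfx, ?_⟩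
    · exact ((PrimeSpectrum.le_iff_specializes (⟨P, hP⟩ : PrimeSpectrum R) q).mp hPq).map j.continuous
    · rw [← Scheme.Hom.comp_apply, ← hφ]
      exact PrimeSpectrum.ext hP0
  tfae_have 4 → 5 := by
    rintro ⟨x, x', hx, hfx, hfx'⟩
    obtain ⟨W, _, _, g, hg, hg'⟩ := exists_valuationRing_map hx
    refine ⟨W, inferInstance, inferInstance, inferInstance, g,
      GrothLib.SubtrLim.surjective_of_gen_closed (V := V') (W := W) (g ≫ f) ?_ ?_⟩
    · rw [Scheme.Hom.comp_apply, hg]; exact hfx'
    · rw [Scheme.Hom.comp_apply, hg']; exact hfx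
  tfae_have 5 → 6 := by
    rintro ⟨W, _, _, _, g, hg⟩
    let x' : X := g (gen (CommRingCat.of W))
    let J := Scheme.IdealSheafData.vanishingIdeal (⟨closure {x'}, isClosed_closure⟩ : TopologicalSpace.Closeds X)
    have hrange : Set.range J.subschemeι = closure {x'} := GrothLib.RedSub.range_subschemeι_vanishingIdeal _
    have hsub : ∀ w, g w ∈ Set.range J.subschemeι := fun w => hrange ▸
      specializes_iff_mem_closure.mp ((gen_specializes w).map g.continuous)
    haveI : IsIntegral J.subscheme := by
      haveI : IrreducibleSpace (Set.range J.subschemeι) :=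
        Subtype.irreducibleSpace (hrange ▸ isIrreducible_singleton.closure)
      let e := J.subschemeι.isClosedEmbedding.isEmbedding.toHomeomorph.symm
      haveI : IrreducibleSpace J.subscheme := by
        rw [irreducibleSpace_def, Set.top_eq_univ, ← e.surjective.range_eq, ← Set.image_univ]
        exact (IrreducibleSpace.isIrreducible_univ _).image e e.continuous.continuousOn
      haveI : IsReduced J.subscheme := GrothLib.RedSub.isReduced_subscheme_vanishingIdeal _
      exact isIntegral_of_irreducibleSpace_of_isReduced _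
    refine ⟨J.subscheme, J.subschemeι, inferInstance, flat_toSpec_valuationRing _ ?_, ⟨fun y => ?_⟩⟩
    · refine eq_gen_of_specializes ?_
      obtain ⟨z, hz⟩ := hsub (gen (CommRingCat.of W))
      obtain ⟨w, hw⟩ := (g ≫ f).surjective (gen V')
      have h0 : f x' = gen V' := eq_gen_of_specializes (hw ▸
        ((gen_specializes w).map (g ≫ f).continuous))
      rw [← h0, Scheme.Hom.comp_apply, show x' = J.subschemeι z from hz.symm]
      exact ((genericPoint_specializes z).map J.subschemeι.continuous).map f.continuous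
    · obtain ⟨w, hw⟩ := (g ≫ f).surjective y
      obtain ⟨z, hz⟩ := hsub w
      exact ⟨z, by rw [Scheme.Hom.comp_apply, hz, ← Scheme.Hom.comp_apply, hw]⟩
  tfae_have 6 → 1 := by
    rintro ⟨Z, i, -, hflat, hsurj⟩ X' Y' i₁ i₂ f' h y y' hy
    have hsq := (IsPullback.of_hasPullback i₁ i).flip.paste_vert h.flip
    haveI : Flat (pullback.fst i₁ i ≫ f') := MorphismProperty.of_isPullback hsq hflat
    haveI : Surjective (pullback.fst i₁ i ≫ f') := MorphismProperty.of_isPullback hsq hsurj
    obtain ⟨z, hz⟩ := (pullback.fst i₁ i ≫ f').surjective y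
    obtain ⟨z', hz', hzy⟩ := Flat.generalizingMap (pullback.fst i₁ i ≫ f') (hz.symm ▸ hy)
    exact ⟨pullback.fst i₁ i z, pullback.fst i₁ i z', hz'.map (pullback.fst i₁ i).continuous, hz, hzy⟩
  tfae_finish

end Groth.Agent.S14765
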