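import Groth.Statements.S14791
import Groth.Agent.Lib.SubtrLim.UltraPoints
import Groth.Agent.Lib.LimDesc.Basic
import Mathlib.AlgebraicGeometry.Morphisms.QuasiCompact

set_option autoImplicit false
set_option backward.isDefEq.respectTransparency false
universe u
open CategoryTheory CategoryTheory.Limits AlgebraicGeometry
open Subtr

namespace Groth.Agent.S14791

/-- Let S = lim S_i be a cofiltered limit of schemes with affine transition morphisms, Y₀ a scheme over
a stage S_{i₀}, f₀ : X₀ ⟶ Y₀ a quasi-compact morphism, and write f_i, f for the base changes of f₀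
to the stages S_i and to S (realised as second projections of fibre products). If there is a stage
S_{i₁} such that f_i has the lifting property for ordered pairs of points for every stage S_i over
S_{i₁}, then f has it. (The published statement is about subtrusive morphisms and assumes f a
quotient map for the constructible topologies; this row keeps only the lifting property and assumes
f₀ quasi-compact, which makes the fibres quasi-compact as the filtered-intersection step of the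
argument requires.) -/
theorem result {I : Type u} [SmallCategory I] [IsCofiltered I]
    (D : I ⥤ Scheme.{u}) (c : Limits.Cone D) (hc : Limits.IsLimit c)
    [∀ (i j : I) (a : i ⟶ j), IsAffineHom (D.map a)] (i₀ : I)
    {X₀ Y₀ : Scheme.{u}} (f₀ : X₀ ⟶ Y₀) (g₀ : Y₀ ⟶ D.obj i₀) [QuasiCompact f₀]
    (h : ∃ (i₁ : I) (ψ : i₁ ⟶ i₀), ∀ (i : I) (φ : i ⟶ i₁),
      Subtr.IsSSubtrusive (pullback.snd f₀ (pullback.fst g₀ (D.map (φ ≫ ψ))))) :
    Subtr.IsSSubtrusive (pullback.snd f₀ (pullback.fst g₀ (c.π.app i₀))) := by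
  intro y y' hy
  let Y := pullback g₀ (c.π.app i₀)
  have hY : IsPullback (pullback.fst g₀ (c.π.app i₀)) (pullback.snd g₀ (c.π.app i₀)) g₀ (c.π.app i₀) :=
    IsPullback.of_hasPullback _ _
  let qY := pullback.fst g₀ (c.π.app i₀)
  let cY := GrothLib.LimDesc.cone D i₀ g₀ hY
  let EY := GrothLib.LimDesc.diag D i₀ g₀
  -- an affine neighbourhood of the image of `y`, and a finite affine cover of its preimage
  obtain ⟨U, hU, hyU, -⟩ := exists_isAffineOpen_mem_and_subset (X := Y₀) (U := ⊤) (x := qY y) trivial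
  haveI : IsAffine U.toScheme := hU
  obtain ⟨sW, hsW⟩ := (f₀.isCompact_preimage hU.isCompact).elim_finite_subcover
    (fun W : {W : X₀.affineOpens // W.1 ≤ f₀ ⁻¹ᵁ U} => (W.1.1 : Set X₀)) (fun W => W.1.1.2) (fun x hx => by
      obtain ⟨W, hW, hxW, hWU⟩ := exists_isAffineOpen_mem_and_subset (U := f₀ ⁻¹ᵁ U) (x := x) hx
      exact Set.mem_iUnion.mpr ⟨⟨⟨W, hW⟩, hWU⟩, hxW⟩)
  let aU := U.ι ≫ g₀
  let EU := GrothLib.LimDesc.diag D i₀ aU
  haveI : ∀ j, IsAffine (EU.obj j) := fun j => isAffine_of_isAffineHom (pullback.fst aU (D.map j.hom))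
  have hPU : IsPullback (qY ∣_ U) ((qY ⁻¹ᵁ U).ι ≫ pullback.snd g₀ (c.π.app i₀)) aU (c.π.app i₀) :=
    (isPullback_morphismRestrict qY U).paste_vert hY
  let cU := GrothLib.LimDesc.cone D i₀ aU hPU
  let νY := GrothLib.LimDesc.mapNat D i₀ g₀ aU U.ι rfl
  have hν : ∀ j, cU.π.app j ≫ νY.app j = (qY ⁻¹ᵁ U).ι ≫ cY.π.app j := fun j =>
    (GrothLib.LimDesc.isPullback_π D i₀ g₀ aU hY U.ι rfl hPU (qY ⁻¹ᵁ U).ι (morphismRestrict_ι qY U).symm rfl j).w
  have hνinj : ∀ j, Function.Injective (νY.app j) := fun j => by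
    haveI : IsOpenImmersion (νY.app j) := MorphismProperty.of_isPullback
      (GrothLib.LimDesc.isPullback_mapNat D i₀ g₀ aU U.ι rfl j) inferInstance
    exact (νY.app j).isOpenEmbedding.injective
  have hy'U : qY y' ∈ U := (hy.map qY.continuous).mem_open U.isOpen hyU
  let yU : (qY ⁻¹ᵁ U).toScheme := ⟨y, hyU⟩
  let yU' : (qY ⁻¹ᵁ U).toScheme := ⟨y', hy'U⟩
  -- the candidate pieces
  let G : {W : X₀.affineOpens // W.1 ≤ f₀ ⁻¹ᵁ U} → Over i₀ → Prop := fun W j =>
    ∃ (V : CommRingCat.{u}) (_ : IsDomain V) (_ : ValuationRing V) (l : Spec V ⟶ W.1.1.toScheme)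
      (w : Spec V ⟶ EY.obj j), l ≫ W.1.1.ι ≫ f₀ = w ≫ pullback.fst g₀ (D.map j.hom) ∧
      w (GrothLib.HTop.closed V) = cY.π.app j y ∧ w (GrothLib.HTop.gen V) = cY.π.app j y'
  have hmono : ∀ (W : {W : X₀.affineOpens // W.1 ≤ f₀ ⁻¹ᵁ U}) {j k : Over i₀} (a : j ⟶ k), G W j → G W k := by
    rintro W j k a ⟨V, _, _, l, w, hw, h1, h2⟩
    have hc : cY.π.app j ≫ EY.map a = cY.π.app k := cY.w a
    refine ⟨V, inferInstance, inferInstance, l, w ≫ EY.map a, ?_, ?_, ?_⟩
    · rw [hw, Category.assoc, GrothLib.LimDesc.map_fst]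
    · rw [Scheme.Hom.comp_apply, h1, ← Scheme.Hom.comp_apply, hc]
      rfl
    · rw [Scheme.Hom.comp_apply, h2, ← Scheme.Hom.comp_apply, hc]
      rfl
  obtain ⟨i₁, ψ, hψ⟩ := h
  have hG : ∀ j : Over i₀, ∃ (k : Over i₀) (_ : k ⟶ j), ∃ W ∈ sW, G W k := by
    intro j
    obtain ⟨k, a, b, -⟩ := IsCofilteredOrEmpty.cone_objs j (Over.mk ψ)
    have hk : b.left ≫ ψ = k.hom := Over.w b
    have hsub := hψ k.left b.left
    rw [hk] at hsub
    obtain ⟨x, x', hx, hfx, hfx'⟩ := hsub (hy.map (cY.π.app k).continuous)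
    obtain ⟨V, _, _, g, hg', hg⟩ := GrothLib.HTop.exists_valuationRing_map hx
    have hmem : (g ≫ pullback.fst f₀ _) (GrothLib.HTop.closed V) ∈ f₀ ⁻¹ᵁ U := by
      show f₀ ((g ≫ pullback.fst f₀ _) (GrothLib.HTop.closed V)) ∈ U
      rw [← Scheme.Hom.comp_apply, Category.assoc, pullback.condition, ← Category.assoc,
        Scheme.Hom.comp_apply, Scheme.Hom.comp_apply, hg, hfx]
      exact (congrArg (fun z => z ∈ U)
        (congrArg (fun m : Y ⟶ Y₀ => m y) (GrothLib.LimDesc.π_fst D i₀ g₀ hY k))).mpr hyU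
    obtain ⟨W, hW, hxW⟩ := Set.mem_iUnion₂.mp (hsW hmem)
    obtain ⟨l, hl⟩ := GrothLib.HTop.exists_lift_of_closed_mem (g ≫ pullback.fst f₀ _) W.1.1.ι
      (by rw [Scheme.Opens.range_ι]; exact hxW)
    refine ⟨k, a, W, hW, V, inferInstance, inferInstance, l, g ≫ pullback.snd f₀ _, ?_, ?_, ?_⟩
    · rw [← Category.assoc, hl, Category.assoc, pullback.condition, ← Category.assoc]
    · rw [Scheme.Hom.comp_apply, hg]
      exact hfx
    · rw [Scheme.Hom.comp_apply, hg']
      exact hfx'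
  obtain ⟨W, hW⟩ : ∃ W ∈ sW, ∀ j, G W j := by
    by_contra hcon
    push Not at hcon
    choose jW hjW using fun W : {W // W ∈ sW} => hcon W.1 W.2
    obtain ⟨k, -, φ, -⟩ := IsCofiltered.wideCospan (I := {W // W ∈ sW}) (i := Over.mk (𝟙 i₀))
      (fun W => (Over.homMk (jW W).hom : jW W ⟶ Over.mk (𝟙 i₀)))
    obtain ⟨m, a, W, hW, hGW⟩ := hG k
    exact hjW ⟨W, hW⟩ (hmono W (a ≫ φ ⟨W, hW⟩) hGW)
  obtain ⟨-, hGW⟩ := hW
  haveI : IsAffine W.1.1.toScheme := W.1.2
  let hWU : W.1.1.toScheme ⟶ U.toScheme := f₀.resLE U W.1.1 W.2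
  have hWU_ι : hWU ≫ U.ι = W.1.1.ι ≫ f₀ := Scheme.Hom.resLE_comp_ι _ _
  let aW := W.1.1.ι ≫ f₀ ≫ g₀
  have haW : hWU ≫ aU = aW := by simp only [aU, aW, reassoc_of% hWU_ι]
  let EW := GrothLib.LimDesc.diag D i₀ aW
  haveI : ∀ j, IsAffine (EW.obj j) := fun j => isAffine_of_isAffineHom (pullback.fst aW (D.map j.hom))
  let η := GrothLib.LimDesc.mapNat D i₀ aU aW hWU haW
  have hPW : IsPullback (pullback.fst aW (c.π.app i₀)) (pullback.snd aW (c.π.app i₀)) aW (c.π.app i₀) :=
    IsPullback.of_hasPullback _ _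
  let cW := GrothLib.LimDesc.cone D i₀ aW hPW
  haveI : Nonempty (Over i₀) := ⟨Over.mk (𝟙 i₀)⟩
  obtain ⟨V, _, _, u, hu⟩ := GrothLib.SubtrLim.exists_ultra_points EW EU η
    (GrothLib.LimDesc.isLimitCone D i₀ aW hPW hc) (fun j => cU.π.app j yU) (fun j => cU.π.app j yU')
    fun j => by
      obtain ⟨V, _, _, l, w, hw, h1, h2⟩ := hGW j
      refine ⟨V, inferInstance, inferInstance,
        pullback.lift l (w ≫ pullback.snd g₀ (D.map j.hom)) ?_, fun k a => ?_⟩
      · simp only [aW, reassoc_of% hw, Category.assoc, pullback.condition]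
      · have key : (pullback.lift l (w ≫ pullback.snd g₀ (D.map j.hom))
              (by simp only [aW, reassoc_of% hw, Category.assoc, pullback.condition]) ≫ EW.map a ≫ η.app k) ≫
            νY.app k = w ≫ EY.map a := by
          apply pullback.hom_ext
          · simp only [EW, η, νY, EY, Category.assoc, GrothLib.LimDesc.mapNat_fst,
              GrothLib.LimDesc.mapNat_fst_assoc, GrothLib.LimDesc.map_fst, GrothLib.LimDesc.map_fst_assoc,
              pullback.lift_fst_assoc, hWU_ι]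
            exact hw
          · simp only [EW, η, νY, EY, Category.assoc, GrothLib.LimDesc.mapNat_snd,
              GrothLib.LimDesc.map_snd, GrothLib.LimDesc.mapNat_snd_assoc,
              pullback.lift_snd_assoc]
        have hc' : ∀ z, EY.map a (cY.π.app j z) = cY.π.app k z := fun z => by
          rw [← Scheme.Hom.comp_apply, cY.w a]
          rfl
        have hν' : ∀ z, νY.app k (cU.π.app k z) = cY.π.app k ((qY ⁻¹ᵁ U).ι z) := fun z => by
          rw [← Scheme.Hom.comp_apply, hν k, Scheme.Hom.comp_apply]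
          rfl
        refine ⟨hνinj k ?_, hνinj k ?_⟩ <;>
          rw [← Scheme.Hom.comp_apply, key, Scheme.Hom.comp_apply]
        · rw [h1, hc', hν']; rfl
        · rw [h2, hc', hν']; rfl
  let μ : pullback aW (c.π.app i₀) ⟶ pullback f₀ qY := pullback.lift (pullback.fst _ _ ≫ W.1.1.ι)
    (pullback.lift (pullback.fst _ _ ≫ W.1.1.ι ≫ f₀) (pullback.snd _ _)
      (by simp only [Category.assoc]; exact pullback.condition))
    (by simp only [qY, Category.assoc, pullback.lift_fst])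
  let t : pullback aW (c.π.app i₀) ⟶ (qY ⁻¹ᵁ U).toScheme := hPU.lift (pullback.fst _ _ ≫ hWU) (pullback.snd _ _)
    (by rw [Category.assoc, haW]; exact pullback.condition)
  have ht : t ≫ (qY ⁻¹ᵁ U).ι = μ ≫ pullback.snd f₀ qY := by
    simp only [μ, pullback.lift_snd]
    apply hY.hom_ext
    · rw [Category.assoc, show (qY ⁻¹ᵁ U).ι ≫ pullback.fst g₀ (c.π.app i₀) = (qY ∣_ U) ≫ U.ι from
        (morphismRestrict_ι qY U).symm, ← Category.assoc, IsPullback.lift_fst, Category.assoc, hWU_ι,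
        pullback.lift_fst]
    · rw [Category.assoc, IsPullback.lift_snd, pullback.lift_snd]
  have hπ : ∀ j, t ≫ cU.π.app j = cW.π.app j ≫ η.app j := fun j =>
    (GrothLib.LimDesc.isPullback_π D i₀ aU aW hPU hWU haW hPW t (IsPullback.lift_fst _ _ _ _)
      (IsPullback.lift_snd _ _ _ _) j).w.symm
  have hlimU := GrothLib.LimDesc.isLimitCone D i₀ aU hPU hc
  have hz : ∀ (z : Spec V) (w : (qY ⁻¹ᵁ U).toScheme),
      (∀ j, (u ≫ cW.π.app j ≫ η.app j) z = cU.π.app j w) → (u ≫ t) z = w := by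
    intro z w hzw
    refine GrothLib.SubtrLim.eq_of_forall_π hlimU fun j => ?_
    have e : (u ≫ t) ≫ cU.π.app j = u ≫ cW.π.app j ≫ η.app j :=
      (Category.assoc u t (cU.π.app j)).trans (congrArg (fun m => u ≫ m) (hπ j))
    exact (congrArg (fun m : Spec V ⟶ EU.obj j => m z) e).trans (hzw j)
  refine ⟨(u ≫ μ) (GrothLib.HTop.closed V), (u ≫ μ) (GrothLib.HTop.gen V),
    (GrothLib.HTop.gen_specializes _).map (u ≫ μ).continuous, ?_, ?_⟩ <;>
    rw [← Scheme.Hom.comp_apply, Category.assoc, ← ht, ← Category.assoc, Scheme.Hom.comp_apply]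
  · rw [hz _ yU fun j => (hu j).1]; rfl
  · rw [hz _ yU' fun j => (hu j).2]; rfl

end Groth.Agent.S14791
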