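import Groth.Statements.S1896
-- import your own Groth.Agent.* helpers here
import Groth.Agent.Lib.CycBasic.SheafLength

set_option autoImplicit false
universe u
open CategoryTheory AlgebraicGeometry
open Cyc

namespace Groth.Agent.S1896

/-- For a short exact sequence 0 → F → G → H → 0 of coherent O_X-modules (X locally Noetherian with
dimension function δ) whose supports have δ-dimension at most k, one has [G]_k = [F]_k + [H]_k
coefficientwise. Here (X, δ) satisfies Cyc.IsSetup (X locally Noetherian with universally catenary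
local rings, δ a dimension function). -/
theorem result (X : Scheme.{u}) (δ : X → ℤ) (hX : Cyc.IsSetup X δ) (k : ℤ) (T : ShortComplex X.Modules) (hT : T.ShortExact) (h₁ : Coh.IsCoh T.X₁) (h₂ : Coh.IsCoh T.X₂) (h₃ : Coh.IsCoh T.X₃) (hdim : ∀ x : X, Nontrivial (T.X₂.presheaf.stalk x) → δ x ≤ k) : Cyc.sheafFun δ k T.X₂ = Cyc.sheafFun δ k T.X₁ + Cyc.sheafFun δ k T.X₃ := by
  classical
  haveI := hX.1
  haveI := hT.mono_f
  haveI := hT.epi_g
  funext x
  simp only [Cyc.sheafFun, Pi.add_apply]
  split_ifs with hx
  swap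
  · rfl
  have hmax : ∀ y : X, y ∈ CohB1.support T.X₂ → y ⤳ x → y = x := by
    intro y hy hyx
    by_contra hne
    have h1 := (hX.2.2 y x hyx hne).1
    have h2 := hdim y (GrothLib.CycBasic.nontrivial_iff_mem_support.2 hy)
    omega
  have l1 := GrothLib.CycBasic.length_lt_top_of_maximal h₁ (x := x) fun y hy =>
    hmax y (GrothLib.QCoh.support_subset_of_mono T.f hy)
  have l3 := GrothLib.CycBasic.length_lt_top_of_maximal h₃ (x := x) fun y hy =>
    hmax y (GrothLib.QCoh.support_subset_of_epi T.g hy)
  have hex : Function.Exact (GrothLib.QCoh.stalkLin T.f x) (GrothLib.QCoh.stalkLin T.g x) :=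
    (ShortComplex.ShortExact.moduleCat_exact_iff_function_exact _).1 ((GrothLib.OX.exact_iff T).1 hT.exact x)
  rw [Module.length_eq_add_of_exact _ _ (GrothLib.QCoh.stalkLin_injective T.f x)
    (GrothLib.QCoh.stalkLin_surjective T.g x) hex, ENat.toNat_add l1.ne l3.ne, Nat.cast_add]

end Groth.Agent.S1896
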