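import Groth.Statements.S4452
import Groth.Agent.Lib.ProjQ8.Ops
import Groth.Agent.Lib.VA.ProjSpace
import Groth.Agent.Lib.ParaPair.Basic

set_option autoImplicit false
set_option backward.isDefEq.respectTransparency false
universe u
open CategoryTheory CategoryTheory.Limits AlgebraicGeometry
open EGA2

namespace Groth.Agent.S4452

/-- Every finite morphism f : X ⟶ Y is projective (here: X is Y-isomorphic to the homogeneous spectrum
of a quasi-coherent graded O_Y-algebra generated by its degree-one part, that part being of finite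
type — the form of projectivity equivalent to X being a closed subscheme of a projective bundle P(E)
with E quasi-coherent of finite type). -/
theorem result {X Y : Scheme.{u}} (f : X ⟶ Y) [IsFinite f] : RelProj.IsProjective f := by
    let O := Coh.structureModule X
    let E := (Scheme.Modules.pushforward f).obj O
    have hO : PicF.IsInvertible O := GrothLib.ParaPair.isInvertible_structure X
    haveI : O.IsQuasicoherent := GrothLib.InvExt.isQuasicoherent_of_isInvertible hO
    haveI hE : E.IsQuasicoherent := GrothLib.QCoh.isQuasicoherent_pushforward f O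
    have hft : CohB1.IsFT E := (GrothLib.QCoh.isFiniteType_iff_moduleFinite E).2 fun U hU => by
      have h := f.finite_app U hU
      algebraize [(f.app U).hom]
      exact (‹Module.Finite Γ(Y, U) Γ(X, f ⁻¹ᵁ U)›)
    refine GrothLib.VA.isProjective_of_pieces f hE hft (𝟙 E) fun x => ?_
    obtain ⟨U, hU, hxU, -⟩ := exists_isAffineOpen_mem_and_subset (TopologicalSpace.Opens.mem_top (f x))
    let Uz : Y.AffineZariskiSite := ⟨U, hU⟩
    let e : Γ(E, U) := (1 : Γ(X, f ⁻¹ᵁ U))
    have hgen : GrothLib.InvExt.IsGen O (f ⁻¹ᵁ U) (show Γ(O, f ⁻¹ᵁ U) from (1 : Γ(X, f ⁻¹ᵁ U))) :=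
      GrothLib.InvExt.isGen_one _
    refine ⟨Uz, e, GrothLib.VA.mem_genOpen.mpr ⟨f ⁻¹ᵁ U, le_rfl, hxU, ?_⟩, ?_⟩
    · exact (GrothLib.InvExt.mres_self O (show Γ(O, f ⁻¹ᵁ U) from (1 : Γ(X, f ⁻¹ᵁ U)))).symm ▸ hgen
    refine GrothLib.VA.pieceImm_of_affine (W := f ⁻¹ᵁ U) (GrothLib.VA.Tp_le f (𝟙 E) Uz e) (hU.preimage f) fun a => ?_
    have h : GrothLib.VA.gp f (𝟙 E) Uz e (show Γ(E, U) from a) =
        GrothLib.InvExt.fres X (GrothLib.VA.Tp_le f (𝟙 E) Uz e) a • GrothLib.VA.gp f (𝟙 E) Uz e e := by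
      show GrothLib.InvExt.mres O _ (show Γ(O, f ⁻¹ᵁ U) from a) = _ • GrothLib.InvExt.mres O _ (show Γ(O, f ⁻¹ᵁ U) from (1 : Γ(X, f ⁻¹ᵁ U)))
      rw [← GrothLib.InvExt.mres_smul]
      exact congrArg (GrothLib.InvExt.mres O _) (mul_one (show Γ(X, f ⁻¹ᵁ U) from a)).symm
    have hr := GrothLib.VA.rat_mem_RS f (𝟙 E) Uz e (show Γ(E, U) from a)
    rwa [GrothLib.VA.rat_eq h] at hr

end Groth.Agent.S4452
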