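import Groth.Statements.S16676
-- import your own Groth.Agent.* helpers here
import Mathlib
import Groth.Agent.Lib.Rigidity.KernelPair

set_option autoImplicit false
universe u
open CategoryTheory CategoryTheory.Limits MonoidalCategory CartesianMonoidalCategory MonObj GrpObj AlgebraicGeometry
open AbVar

namespace Groth.Agent.S16676

/-- The equivalence of its second and third conditions. Let X and Y be abelian varieties over a field k
(proper, geometrically integral k-group schemes), f : X → Y a homomorphism which is finite, flat and
surjective (an isogeny), and i : N → X the kernel of f (the square formed by i, f, the unit section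
of Y and the structure map of N is cartesian). Then f is universally injective (a purely inseparable
morphism) if and only if the scheme N is connected. (The published item also includes the equivalent
condition that the function field of X is purely inseparable over that of Y; that clause is not part
of this statement.) -/
theorem result (k : Type u) [Field k]
    (X Y : Over (Spec (CommRingCat.of k)))
    [GrpObj X] [IsProper X.hom] [GeometricallyIntegral X.hom]
    [GrpObj Y] [IsProper Y.hom] [GeometricallyIntegral Y.hom]
    (f : X ⟶ Y) [IsMonHom f] [IsFinite f.left] [Flat f.left] [Surjective f.left]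
    (N : Over (Spec (CommRingCat.of k))) (i : N ⟶ X) (hN : AlgGrp.IsKernel i f) :
    UniversallyInjective f.left ↔ ConnectedSpace ↥N.left := by
  have hsq : IsPullback i.left N.hom f.left η[Y].left := hN.map (Over.forget _)
  have hP : IsPullback ((fst N X ≫ i) * snd N X).left (snd N X).left f.left f.left :=
    (GrothLib.Rigidity.isPullback_kernelPair f i hN).map (Over.forget _)
  haveI : IsFinite N.hom := MorphismProperty.of_isPullback (P := @IsFinite) hsq inferInstance
  let e : Spec (CommRingCat.of k) ⟶ N.left :=
    hsq.lift η[X].left (𝟙 _) (by
      rw [← Over.comp_left, IsMonHom.one_hom]
      exact (Category.id_comp _).symm)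
  have he : e ≫ N.hom = 𝟙 _ := hsq.lift_snd _ _ _
  haveI : Nonempty ↥N.left := ⟨e (IsLocalRing.closedPoint k)⟩
  constructor
  · intro h
    haveI : UniversallyInjective N.hom := MorphismProperty.of_isPullback hsq h
    haveI : Subsingleton ↥N.left := N.hom.injective.subsingleton
    exact ⟨inferInstance⟩
  · intro h
    haveI : DiscreteTopology ↥N.left := by
      have h1 := N.hom.isDiscrete_preimage_singleton (IsLocalRing.closedPoint k)
      refine isDiscrete_univ_iff.mp ?_
      refine h1.mono ?_
      exact fun x _ => @Subsingleton.elim (PrimeSpectrum k) _ _ _
    haveI : Subsingleton ↥N.left := PreconnectedSpace.trivial_of_discrete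
    haveI : UniversallyInjective N.hom := GrothLib.Rigidity.universallyInjective_of_subsingleton N.hom e he
    have h1 : UniversallyInjective (snd N X).left :=
      MorphismProperty.pullback_snd N.hom X.hom ‹UniversallyInjective N.hom›
    refine GrothLib.Rigidity.universallyInjective_of_injective_snd f.left ?_
    rw [← hP.isoPullback_inv_snd]
    exact (Scheme.Hom.injective (snd N X).left).comp hP.isoPullback.inv.homeomorph.injective

end Groth.Agent.S16676
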