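import Groth.Statements.S1905
-- import your own Groth.Agent.* helpers here
import Groth.Agent.Lib.CycDiv.RatEquiv

set_option autoImplicit false
universe u
open CategoryTheory AlgebraicGeometry
open Cyc

namespace Groth.Agent.S1905

/-- Let f : X → Y be a flat morphism, locally of finite type, of relative dimension r between integral
schemes, and g a nonzero rational function on Y, taken in the residue field at f(η_X) (the generic
point of Y). Then f^*(div_Y g) = div_X(g ∘ f) coefficientwise, where g ∘ f is the image of g in
κ(η_X). A pair (X, δ) with Cyc.IsSetup plays the role of a scheme locally of finite type over a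
fixed base with a dimension function (X locally Noetherian with universally catenary local rings, δ
a dimension function), and Cyc.DeltaCompat records that the dimension function upstairs is the
induced one. -/
theorem result (X Y : Scheme.{u}) [IsIntegral X] [IsIntegral Y] (δX : X → ℤ) (δY : Y → ℤ) (hX : Cyc.IsSetup X δX) (hY : Cyc.IsSetup Y δY) (f : X ⟶ Y) [Flat f] [LocallyOfFiniteType f] (r : ℕ) (hr : Cyc.HasRelDim f r) (hδ : Cyc.DeltaCompat f δX δY) (g : Y.residueField (f (genericPoint X))) (hg : g ≠ 0) : Cyc.pullFun f δX δY r (Cyc.divFun δY (f (genericPoint X)) g) = Cyc.divFun δX (genericPoint X) (f.residueFieldMap (genericPoint X) g) := by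
  classical
  haveI := hX.1
  haveI := hY.1
  have hc := GrothLib.CycDiv.shift_of_hasRelDim f hr hδ
  funext x
  rw [GrothLib.CycDiv.pullFun_divFun f hX.2.2 hY.2.2 hc (f (genericPoint X)) g hg x]
  have hgen : GrothLib.CycFlat.MaxFib f (genericPoint X) := fun y _ hs =>
    (hs.antisymm (genericPoint_specializes y)).eq
  rw [finsum_eq_single _ ⟨genericPoint X, hgen, rfl⟩ fun ξ hne => absurd
    (Subtype.ext (ξ.2.1 (genericPoint X) ξ.2.2.symm (genericPoint_specializes _)).symm) hne]
  have hlen : GrothLib.CycFlat.fibLength f (genericPoint X) = 1 := by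
    have hmap : Ideal.map (f.stalkMap (genericPoint X)).hom
        (IsLocalRing.maximalIdeal (Y.presheaf.stalk (f (genericPoint X)))) =
        IsLocalRing.maximalIdeal (X.presheaf.stalk (genericPoint X)) := by
      have hbot : IsLocalRing.maximalIdeal X.functionField = ⊥ := IsLocalRing.maximalIdeal_eq_bot
      refine le_antisymm ?_ (hbot.trans_le bot_le)
      rw [Ideal.map_le_iff_le_comap]
      exact fun a ha => map_nonunit (f.stalkMap (genericPoint X)).hom a ha
    rw [GrothLib.CycFlat.fibLength, hmap]
    haveI : IsSimpleModule (X.presheaf.stalk (genericPoint X))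
        (X.presheaf.stalk (genericPoint X) ⧸ IsLocalRing.maximalIdeal (X.presheaf.stalk (genericPoint X))) :=
      isSimpleModule_iff_isCoatom.2 (IsLocalRing.maximalIdeal.isMaximal _).out
    exact Module.length_eq_one _ _
  simp only [hlen, ENat.toNat_one, Nat.cast_one, one_mul, GrothLib.CycDiv.pullVal,
    Scheme.residueFieldCongr_refl]
  rfl


end Groth.Agent.S1905
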