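import Groth.Statements.S18202
import Groth.Agent.Lib.LocImm8.Affine
import Mathlib.AlgebraicGeometry.Morphisms.UniversallyInjective
import Mathlib.AlgebraicGeometry.Morphisms.FinitePresentation

set_option autoImplicit false
set_option backward.isDefEq.respectTransparency false
universe u
open LocImm

namespace Groth.Agent.S18202

open CategoryTheory AlgebraicGeometry Limits in
/-- Let `f : X ⟶ Y` be a localizing immersion (localizing and injective on points) of Noetherian schemes
and `g : Y' ⟶ Y` a morphism with `Y'` Noetherian. Then the base change `X ×_Y Y' ⟶ Y'` is a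
localizing immersion. -/
theorem result {X Y Y' : Scheme.{u}} [IsNoetherian X] [IsNoetherian Y] [IsNoetherian Y']
    (f : X ⟶ Y) (g : Y' ⟶ Y) (hf : LocImm.IsLocImmersion f) : LocImm.IsLocImmersion (pullback.snd f g) := by
  refine ⟨GrothLib.LocImm8.isLocalizing_pullback_snd hf.1 g, ?_⟩
  haveI := GrothLib.LocImm8.mono hf
  exact (pullback.snd f g).injective

end Groth.Agent.S18202
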