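import Groth.Statements.S18211
import Groth.Agent.Lib.RLpsi8.ReesProj
import Groth.Agent.Lib.LocImm8.Common
import Groth.Agent.Lib.LocImm8.Near
import Groth.Agent.S18198
import Groth.Agent.S18202
import Groth.Agent.S9708

set_option autoImplicit false
universe u
open LocImm

namespace Groth.Agent.S18211

open CategoryTheory AlgebraicGeometry Limits in
/-- Let `π : Y ⟶ S` be a separated morphism of Noetherian schemes, essentially of finite type, and `f :
U ⟶ Y` a localizing immersion (localizing and injective on points) with dense image such that `U ⟶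
S` is essentially quasi-projective: it factors as a localizing immersion `j : U ⟶ P` followed by a
projective morphism `P ⟶ S` (in the sense of the relative homogeneous spectrum of a quasi-coherent
graded algebra generated in degree one with degree-one part of finite type). Then there is a blow-up
`Ỹ ⟶ Y` in a quasi-coherent ideal whose closed subscheme misses `f(U)` such that `Ỹ ⟶ S` is
essentially quasi-projective in the same sense. -/
theorem result {U Y S P : Scheme.{u}} [IsNoetherian U] [IsNoetherian Y] [IsNoetherian S] [IsNoetherian P]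
    (π : Y ⟶ S) [IsSeparated π] [EssFT.EssFiniteType π] (f : U ⟶ Y) (hf : LocImm.IsLocImmersion f)
    (hfd : Dense (Set.range (fun x => f x))) (j : U ⟶ P) (p : P ⟶ S) (hj : LocImm.IsLocImmersion j)
    (hp : RelProj.IsProjective p) (hc : j ≫ p = f ≫ π) :
    ∃ (𝓘 : Y.IdealSheafData) (Yt P' : Scheme.{u}) (b : Yt ⟶ Y) (j' : Yt ⟶ P') (p' : P' ⟶ S),
      BlowUp.IsBlowUp b 𝓘 ∧ Disjoint (𝓘.support : Set Y) (Set.range (fun x => f x)) ∧
      LocImm.IsLocImmersion j' ∧ RelProj.IsProjective p' ∧ j' ≫ p' = b ≫ π := by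
  obtain ⟨Yb, k, q, hYb, hk, hq, hkq⟩ := Groth.Agent.S18198.result π
  haveI := hq
  haveI := GrothLib.ProjAlg.isProper_of_isProjective hp
  have hfk : LocImm.IsLocImmersion (f ≫ k) := GrothLib.LocImm8.isLocImmersion_comp hf hk
  let X : Fin (1 + 1) → Scheme.{u} := Fin.cases Yb (fun _ => P)
  haveI : ∀ i, IsNoetherian (X i) := Fin.cases hYb (fun _ => inferInstanceAs (IsNoetherian P))
  let g : ∀ i, X i ⟶ S := Fin.cases q (fun _ => p)
  haveI : ∀ i, IsProper (g i) := Fin.cases hq (fun _ => inferInstanceAs (IsProper p))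
  let kk : ∀ i, U ⟶ X i := Fin.cases (f ≫ k) (fun _ => j)
  obtain ⟨Z, r, hr, hrl, hrq, u, Q, Xt, c, v, o, hu, hud, hur, H⟩ :=
    GrothLib.LocImm8.exists_common (f ≫ π) X g kk (Fin.cases hfk (fun _ => hj))
      (Fin.cases (by show (f ≫ k) ≫ q = f ≫ π; rw [Category.assoc, hkq]) (fun _ => hc))
  haveI := hr
  have hcp : ∀ i, IsProper (c i) := fun i =>
    GrothLib.Nagata6.isProper_of_isBlowUp (GrothLib.Nagata6.isFiniteTypeIdeal_of_noetherian (Q i)) (H i).1
  have hiso : ∀ i, IsIso (o i) := fun i => by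
    obtain ⟨-, -, -, ho, hor, hvo⟩ := H i
    haveI := ho
    haveI := hcp i
    haveI : IsProper (o i ≫ r) := by rw [hor]; infer_instance
    haveI : IsProper (o i) := IsProper.of_comp (o i) r
    haveI : Surjective (o i) := ⟨fun z => by
      have hcl : IsClosed (Set.range (o i)) := (o i).isClosedMap.isClosed_range
      have hsub : Set.range u ⊆ Set.range (o i) := by
        rw [← hvo, Scheme.Hom.comp_base, TopCat.coe_comp]
        exact Set.range_comp_subset_range _ _
      exact closure_minimal hsub hcl (hud z)⟩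
    exact (isIso_iff_isOpenImmersion_and_surjective _).mpr ⟨inferInstance, inferInstance⟩
  haveI := hiso
  haveI := hcp
  obtain ⟨hc0, hQ0, hv0, -, hor0, -⟩ := H 0
  obtain ⟨hc1, -, -, -, hor1, -⟩ := H 1
  haveI : Flat k := GrothLib.LocImm8.flat hk.1
  haveI : IsNoetherian Yb := hYb
  obtain ⟨c0, hc0e⟩ : ∃ c0 : Xt 0 ⟶ Yb, c0 = c 0 := ⟨c 0, rfl⟩
  haveI : IsProper c0 := by rw [hc0e]; exact hcp 0
  haveI : IsNoetherian (Xt 0) := GrothLib.Nagata6.isNoetherian_of_ft c0
  haveI : IsNoetherian (pullback k c0) := GrothLib.Nagata6.isNoetherian_of_ft (pullback.fst k c0)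
  have hor0' : o 0 ≫ r = c0 ≫ q := by rw [hc0e]; exact hor0
  obtain ⟨Q0, hQ0e⟩ : ∃ Q0 : Yb.IdealSheafData, Q0 = Q 0 := ⟨Q 0, rfl⟩
  have hQd : Disjoint (Q0.support : Set Yb) (Set.range (f ≫ k)) := by rw [hQ0e]; exact hQ0
  have hcb : BlowUp.IsBlowUp c0 Q0 := by rw [hc0e, hQ0e]; exact hc0
  refine ⟨Q0.comap k, pullback k c0, Xt 1, pullback.fst k c0, pullback.snd k c0 ≫ o 0 ≫ inv (o 1),
    c 1 ≫ p, GrothLib.BlowUp.isBlowUp_flat_baseChange k hcb, ?_, ?_, ?_, ?_⟩
  · rw [Scheme.IdealSheafData.support_comap]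
    refine Set.disjoint_left.2 ?_
    rintro _ hy ⟨x, rfl⟩
    exact Set.disjoint_left.1 hQd hy ⟨x, rfl⟩
  · exact GrothLib.LocImm8.isLocImmersion_comp_openImmersion (Groth.Agent.S18202.result k c0 hk) (o 0 ≫ inv (o 1))
  · exact Groth.Agent.S9708.result (c 1) p
      (GrothLib.RLpsi8.ReesAlg.isProjective_of_isBlowUp
        (GrothLib.Nagata6.isFiniteTypeIdeal_of_noetherian (Q 1)) hc1) hp
  · have e1 : inv (o 1) ≫ c 1 ≫ p = r := by
      rw [IsIso.inv_comp_eq]; exact hor1.symm
    simp only [Category.assoc, e1, hor0']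
    rw [← pullback.condition_assoc, hkq]

end Groth.Agent.S18211
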