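import Groth.Statements.S13536
import Groth.Agent.Lib.SuppIso.Basic


set_option autoImplicit false
set_option backward.isDefEq.respectTransparency false
set_option backward.isDefEq.respectTransparency.types false
universe u
open CategoryTheory CategoryTheory.Limits AlgebraicGeometry
open ResProp

namespace Groth.Agent.S13536

open CategoryTheory CategoryTheory.Limits AlgebraicGeometry

/-- On a Noetherian scheme X let Z be a closed subscheme of cohomological dimension at most k (every
quasi-coherent module on Z has zero cohomology in degrees ≥ k + 1) and let F, F' be coherent modules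
which are isomorphic on the open complement of Z. Then H^i(X, F) and H^i(X, F') are isomorphic for
all i ≥ k + 2 (existence of an additive isomorphism only; the identification depends on choices). -/
theorem result (X : Scheme.{u}) [IsNoetherian X]
    {Z : Scheme.{u}} (ι : Z ⟶ X) [IsClosedImmersion ι] (k : ℕ)
    (hcd : ∀ G : Z.Modules, Coh.IsQCoh G → ∀ i : ℕ, k + 1 ≤ i → Subsingleton (Coh.HH Z G i))
    (U : X.Opens) (hU : (U : Set X) = (Set.range ι.base)ᶜ)
    (F F' : X.Modules) (hF : Coh.IsCoh F) (hF' : Coh.IsCoh F')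
    (hiso : Nonempty (F.restrict U.ι ≅ F'.restrict U.ι)) (i : ℕ) (hi : k + 2 ≤ i) :
    Nonempty (Coh.HH X F i ≃+ Coh.HH X F' i) := by
  obtain ⟨φ⟩ := hiso
  obtain ⟨G, p, q, hG, hp, hq⟩ := GrothLib.SuppIso.exists_roof U hF hF' φ
  haveI := hp
  haveI := hq
  obtain ⟨e₁⟩ := GrothLib.SuppIso.nonempty_HH_of_iso_off ι k hcd U hU hG hF p i hi
  obtain ⟨e₂⟩ := GrothLib.SuppIso.nonempty_HH_of_iso_off ι k hcd U hU hG hF' q i hi
  exact ⟨e₁.symm.trans e₂⟩

end Groth.Agent.S13536
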