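import Groth.Statements.S2454
import Groth.Agent.Lib.AdicFSLoc.FlatFibre
import Groth.Agent.Lib.SepField.Smooth

set_option autoImplicit false
universe u
open EGA41

namespace Groth.Agent.S2454

open IsLocalRing in
/-- Let A → B be a local homomorphism of Noetherian local rings making B a Cohen A-algebra. Then B, with
its adic topology, is formally smooth over A with its adic topology. -/
theorem result {A B : Type u} [CommRing A] [IsLocalRing A] [CommRing B] [IsLocalRing B]
    [Algebra A B] [IsLocalHom (algebraMap A B)] (h : EGA41.IsCohenAlgebra A B) :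
    EGA41.IsFormallySmoothAdic A (maximalIdeal A) B (maximalIdeal B) := by
  obtain ⟨_, _, _, _, hmax, hsep⟩ := h
  refine GrothLib.AdicFSLoc.isFormallySmoothAdic_of_flat _ ?_
  letI := Ideal.Quotient.field (maximalIdeal A)
  let I := (maximalIdeal A).map (algebraMap A B)
  haveI hfs : Algebra.FormallySmooth (ResidueField A) (ResidueField B) :=
    GrothLib.SepField.formallySmooth_iff_isGeometricallyReduced.2 hsep
  letI : Algebra (A ⧸ maximalIdeal A) (ResidueField B) :=
    (inferInstance : Algebra (ResidueField A) (ResidueField B))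
  let e : (B ⧸ I) ≃ₐ[A ⧸ maximalIdeal A] ResidueField B :=
    AlgEquiv.ofRingEquiv (f := Ideal.quotEquivOfEq hmax) fun c => by
      obtain ⟨a, rfl⟩ := Ideal.Quotient.mk_surjective c
      rfl
  haveI hfs' : Algebra.FormallySmooth (A ⧸ maximalIdeal A) (ResidueField B) := hfs
  haveI : Algebra.FormallySmooth (A ⧸ maximalIdeal A) (B ⧸ I) := Algebra.FormallySmooth.of_equiv e.symm
  intro T _ _ J hJ ψ _
  exact ⟨Algebra.FormallySmooth.lift J ⟨2, hJ⟩ ψ, Algebra.FormallySmooth.comp_lift J ⟨2, hJ⟩ ψ⟩

end Groth.Agent.S2454
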