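import Groth.Statements.S2157
import Groth.Agent.Lib.OmegaAff.Basic

set_option autoImplicit false
universe u
open CategoryTheory AlgebraicGeometry
open Mor

namespace Groth.Agent.S2157

open TensorProduct in
/-- For a surjection `B → A` with kernel `K`, the base change of `K` to `A` is `K/K²`. -/
theorem exists_equiv_baseChange_ker (B A : Type u) [CommRing B] [CommRing A] [Algebra B A]
    (hsurj : Function.Surjective (algebraMap B A)) {Ω : Type u} [AddCommGroup Ω] [Module A Ω]
    (q : RingHom.ker (algebraMap B A) →+ Ω) (hq : ∀ (b : B) x, q (b • x) = algebraMap B A b • q x)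
    (hqs : Function.Surjective q)
    (hqk : ∀ x, q x = 0 → x.1 ∈ RingHom.ker (algebraMap B A) * RingHom.ker (algebraMap B A)) :
    Nonempty (A ⊗[B] RingHom.ker (algebraMap B A) ≃ₗ[A] Ω) := by
  letI : Module B Ω := Module.compHom Ω (algebraMap B A)
  have : IsScalarTower B A Ω := IsScalarTower.of_algebraMap_smul fun _ _ => rfl
  let K := RingHom.ker (algebraMap B A)
  let ql : K →ₗ[B] Ω := { toFun := q, map_add' := map_add q, map_smul' := hq }
  let L : A ⊗[B] K →ₗ[A] Ω := ql.liftBaseChange A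
  have hone : ∀ z, ∃ x : K, z = (1 : A) ⊗ₜ[B] x := fun z => by
    induction z using TensorProduct.induction_on with
    | zero => exact ⟨0, (TensorProduct.tmul_zero _ _).symm⟩
    | tmul a x =>
      obtain ⟨b, rfl⟩ := hsurj a
      refine ⟨b • x, ?_⟩
      rw [TensorProduct.tmul_smul, TensorProduct.smul_tmul', Algebra.smul_def, mul_one]
    | add z w hz hw =>
      obtain ⟨x, rfl⟩ := hz; obtain ⟨y, rfl⟩ := hw
      exact ⟨x + y, (TensorProduct.tmul_add _ _ _).symm⟩
  refine ⟨LinearEquiv.ofBijective L ⟨?_, fun ω => ?_⟩⟩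
  · rw [injective_iff_map_eq_zero]
    intro z hz
    obtain ⟨x, rfl⟩ := hone z
    have hx2 := hqk x (by simpa [L, ql] using hz)
    have key : ∀ w, w ∈ K * K → ∃ hw : w ∈ K, (1 : A) ⊗ₜ[B] (⟨w, hw⟩ : K) = 0 := fun w hw => by
      refine Submodule.mul_induction_on hw (fun y hy y' hy' => ⟨K.mul_mem_left y hy', ?_⟩)
        (fun w w' ⟨h, e⟩ ⟨h', e'⟩ => ⟨add_mem h h', ?_⟩)
      · rw [show (⟨y * y', K.mul_mem_left y hy'⟩ : K) = y • (⟨y', hy'⟩ : K) from rfl, TensorProduct.tmul_smul,
          TensorProduct.smul_tmul', Algebra.smul_def, show algebraMap B A y = 0 from hy, zero_mul,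
          TensorProduct.zero_tmul]
      · rw [show (⟨w + w', add_mem h h'⟩ : K) = ⟨w, h⟩ + ⟨w', h'⟩ from rfl, TensorProduct.tmul_add, e, e', add_zero]
    obtain ⟨_, e⟩ := key x.1 hx2
    exact e
  · obtain ⟨x, rfl⟩ := hqs ω
    exact ⟨(1 : A) ⊗ₜ[B] x, by simp [L, ql]⟩

open TensorProduct in
/-- For a ring map `R → A`, the sheaf of differentials of `Spec A → Spec R`, defined as the conormal
sheaf of the diagonal, is isomorphic as an `O_{Spec A}`-module to the sheaf associated with the
module of Kähler differentials `Ω_{A/R}` (the source also pins the isomorphism down by compatibility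
with the universal derivations, which is not restated here). -/
theorem result (R A : Type u) [CommRing R] [CommRing A] [Algebra R A] :
    Nonempty (Omega.sheaf (Spec.map (CommRingCat.ofHom (algebraMap R A))) ≅
      tilde (R := CommRingCat.of A) (ModuleCat.of A (Ω[A⁄R]))) := by
  let μ : A ⊗[R] A →+* A := (Algebra.TensorProduct.lmul' R : A ⊗[R] A →ₐ[R] A).toRingHom
  have hμ : ∀ a : A, μ (a ⊗ₜ[R] 1) = a := fun a =>
    (Algebra.TensorProduct.lmul'_apply_tmul a 1).trans (mul_one a)
  have hsm : ∀ (t : A ⊗[R] A) (x : KaehlerDifferential.ideal R A), KaehlerDifferential.fromIdeal R A (t • x) =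
      μ t • KaehlerDifferential.fromIdeal R A x := by
    intro t x
    have h0 : t - μ t ⊗ₜ[R] 1 ∈ KaehlerDifferential.ideal R A := by
      show μ (t - μ t ⊗ₜ[R] 1) = 0
      rw [map_sub, hμ, sub_self]
    have h1 : KaehlerDifferential.fromIdeal R A ((t - μ t ⊗ₜ[R] 1) • x) = 0 := by
      refine (Ideal.toCotangent_eq_zero _ _).2 ?_
      rw [pow_two]
      exact Ideal.mul_mem_mul h0 x.2
    have h2 : t • x = (t - μ t ⊗ₜ[R] 1) • x + (μ t ⊗ₜ[R] (1 : A)) • x :=
      Subtype.ext (show t * x.1 = (t - μ t ⊗ₜ[R] 1) * x.1 + (μ t ⊗ₜ[R] (1 : A)) * x.1 by ring)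
    rw [h2, map_add, h1, zero_add, LinearMap.map_smul]
    exact algebraMap_smul (A ⊗[R] A) (μ t) (KaehlerDifferential.fromIdeal R A x)
  let q : KaehlerDifferential.ideal R A →+ Ω[A⁄R] := (KaehlerDifferential.fromIdeal R A).toAddMonoidHom
  have hqs : Function.Surjective q := KaehlerDifferential.fromIdeal_surjective R A
  have hqk : ∀ x : KaehlerDifferential.ideal R A, q x = 0 →
      x.1 ∈ KaehlerDifferential.ideal R A * KaehlerDifferential.ideal R A := fun x hx => by
    have := (Ideal.toCotangent_eq_zero _ _).1 hx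
    rwa [pow_two] at this
  obtain ⟨l⟩ := @exists_equiv_baseChange_ker (A ⊗[R] A) A _ _ μ.toAlgebra (fun a => ⟨a ⊗ₜ[R] 1, hμ a⟩)
    (Ω[A⁄R]) _ _ q hsm hqs hqk
  letI : Algebra (A ⊗[R] A) A := μ.toAlgebra
  obtain ⟨e⟩ := GrothLib.OmegaAff.nonempty_conormal_iso (A ⊗[R] A) A (pullbackSpecIso R A A).symm
  refine ⟨eqToIso ?_ ≪≫ e ≪≫ (tilde.functor (CommRingCat.of A)).mapIso l.toModuleIso⟩
  show Omega.conormal _ = _
  rw [diagonal_SpecMap]
  rfl

end Groth.Agent.S2157
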