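import Groth.Statements.S5018
import Groth.Agent.Lib.OmegaLocal4.Affine
import Groth.Agent.Lib.Pinch4.Sheaf
import Groth.Agent.S1486
import Mathlib

set_option autoImplicit false
universe u
open CategoryTheory CategoryTheory.Limits AlgebraicGeometry TopologicalSpace
open Unram17

namespace Groth.Agent.S5018

/-- Let f : X ⟶ Y be formally smooth and locally of finite type, and let (Ω', d) be a sheaf of
differentials of X over Y, i.e. d a universal Y-derivation of O_X into Ω'. Then Ω' is finite locally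
free. (The published statement also shows that the sheaf of differentials is locally projective for
every formally smooth f; this row states only the case of f locally of finite type.) -/
theorem result {X Y : Scheme.{u}} (f : X ⟶ Y)
    (hf : MoreMor.IsFormallySmoothHom f) [LocallyOfFiniteType f]
    (Ω' : X.Modules) (d : OmegaSh.Der f Ω') (hd : OmegaSh.IsUniversal d) :
    FlatMod.IsFinLocFree Ω' := by
  haveI := GrothLib.OmegaLocal4.isQuasicoherent hd
  have hsec : ∀ (U : X.Opens) (V : Y.Opens) (hU : IsAffineOpen U) (hV : IsAffineOpen V), U ≤ f ⁻¹ᵁ V →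
      Module.Projective Γ(X, U) Γ(Ω', U) ∧ Module.FinitePresentation Γ(X, U) Γ(Ω', U) := by
    intro U V hU hV e
    letI := (f.appLE V U e).hom.toAlgebra
    haveI : Algebra.FormallySmooth Γ(Y, V) Γ(X, U) := (Groth.Agent.S1486.result f).1 hf U V hU hV e
    haveI : Algebra.FiniteType Γ(Y, V) Γ(X, U) :=
      HasRingHomProperty.appLE @LocallyOfFiniteType f inferInstance ⟨V, hV⟩ ⟨U, hU⟩ e
    obtain ⟨i⟩ := GrothLib.OmegaLocal4.nonempty_sections hd hU hV e
    exact ⟨Module.Projective.of_equiv i.symm, Module.FinitePresentation.of_equiv i.symm⟩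
  have hflat : FlatMod.IsFlat Ω' := fun x => by
    obtain ⟨V, hV, hxV, -⟩ := exists_isAffineOpen_mem_and_subset (x := f.base x) (U := ⊤) trivial
    obtain ⟨U, hU, hxU, hUV⟩ := exists_isAffineOpen_mem_and_subset (x := x) (U := f ⁻¹ᵁ V) hxV
    haveI := (hsec U V hU hV hUV).1
    letI := X.presheaf.algebra_section_stalk ⟨x, hxU⟩
    haveI := GrothLib.FlatFP.isLocalization_stalk_primeAt hU hxU
    letI : Module Γ(X, U) (Ω'.presheaf.stalk x) := Module.compHom _ (X.presheaf.germ U x hxU).hom
    haveI : IsScalarTower Γ(X, U) (X.presheaf.stalk x) (Ω'.presheaf.stalk x) :=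
      IsScalarTower.of_algebraMap_smul fun _ _ => rfl
    obtain ⟨l, hl, -⟩ := GrothLib.FlatFP.isLocalizedModule_germ Ω' hU hxU
    haveI := hl
    exact Module.Flat.of_isLocalizedModule (X.presheaf.stalk x) (GrothLib.WeakAss.primeAt x hxU).primeCompl l
  have hc : ∀ x : X, ∃ (U : X.Opens) (V : Y.Opens), IsAffineOpen U ∧ IsAffineOpen V ∧ x ∈ U ∧ U ≤ f ⁻¹ᵁ V := by
    intro x
    obtain ⟨V, hV, hxV, -⟩ := exists_isAffineOpen_mem_and_subset (x := f.base x) (U := ⊤) trivial
    obtain ⟨U, hU, hxU, hUV⟩ := exists_isAffineOpen_mem_and_subset (x := x) (U := f ⁻¹ᵁ V) hxV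
    exact ⟨U, V, hU, hV, hxU, hUV⟩
  choose U V hU hV hxU hUV using hc
  have hcov : TopologicalSpace.IsOpenCover U :=
    TopologicalSpace.IsOpenCover.mk (eq_top_iff.mpr fun x _ => TopologicalSpace.Opens.mem_iSup.mpr ⟨x, hxU x⟩)
  have hfp : CohB1.IsFP Ω' :=
    GrothLib.FlatFP.isFP_of_sections Ω' U hcov hU fun x => (hsec _ _ (hU x) (hV x) (hUV x)).2
  refine (GrothLib.LocFree8.isFinLocFree_iff_fp_free Ω').2 ⟨hfp, fun x => ?_⟩
  haveI : Module.Flat (X.presheaf.stalk x) (Ω'.presheaf.stalk x) := hflat x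
  haveI hft : SheafOfModules.IsFiniteType.{u, u, u} Ω' :=
    GrothLib.QCoh.isFiniteType_of_moduleFinite Ω' U hcov hU fun x =>
      haveI := (hsec _ _ (hU x) (hV x) (hUV x)).2
      inferInstance
  haveI : Module.Finite (X.presheaf.stalk x) (Ω'.presheaf.stalk x) :=
    GrothLib.QCoh.stalk_finite Ω' ⟨‹Ω'.IsQuasicoherent›, hft⟩ x
  exact Module.free_of_flat_of_isLocalRing

end Groth.Agent.S5018
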