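import Groth.Statements.S5022
import Groth.Agent.Lib.SmoothRank4.Chart
import Groth.Agent.S5018

set_option autoImplicit false
universe u
open CategoryTheory CategoryTheory.Limits AlgebraicGeometry TopologicalSpace
open Unram17

namespace Groth.Agent.S5022

/-- Let f : X ⟶ Y be locally of finite presentation, (Ω', d) a sheaf of differentials of X over Y (d
universal) and x a point of X. Then f is smooth at x if and only if the stalk map at x is flat and
there are an open neighbourhood U of x and an integer n with Ω' free of rank n on U and n equal to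
the local dimension at x of the fibre of f through x. -/
theorem result {X Y : Scheme.{u}} (f : X ⟶ Y)
    [LocallyOfFinitePresentation f] (Ω' : X.Modules) (d : OmegaSh.Der f Ω') (hd : OmegaSh.IsUniversal d) (x : ↥X) :
    x ∈ f.smoothLocus ↔
      (f.stalkMap x).hom.Flat ∧
        ∃ (U : X.Opens) (n : ℕ), x ∈ U ∧ Nonempty (Ω'.restrict U.ι ≅ FlatMod.freeMod (↑U) n) ∧
          FlatMor.fibreDimAt f x = (n : WithBot ℕ∞) := by
  constructor
  · intro hx
    have hsm : Smooth (f.smoothLocus.ι ≫ f) := by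
      rw [← Scheme.Hom.smoothLocus_eq_top_iff, ← Scheme.Hom.preimage_smoothLocus_eq, Scheme.Opens.ι_preimage_self]
    have hflat : (f.stalkMap x).hom.Flat := by
      let z : (f.smoothLocus : Scheme.{u}) := ⟨x, hx⟩
      have h := Flat.stalkMap (f.smoothLocus.ι ≫ f) z
      rw [f.smoothLocus.ι.stalkMap_comp f z] at h
      haveI : IsIso (f.smoothLocus.ι.stalkMap z) := IsOpenImmersion.iff_isIso_stalkMap.mp inferInstance |>.2 z
      exact (@RingHom.RespectsIso.cancel_right_isIso _ RingHom.Flat.respectsIso _ _ _ (f.stalkMap x)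
        (f.smoothLocus.ι.stalkMap z) this).mp h
    refine ⟨hflat, ?_⟩
    obtain ⟨U, n, hxU, ⟨i⟩⟩ := GrothLib.SmoothRank4.exists_free_of_smoothLocus f hd hx fun g _ _ =>
      Groth.Agent.S5018.result g ((Groth.Agent.S1486.result g).2 fun U V hU hV e => by
        have := g.smooth_appLE hV hU e
        algebraize [(g.appLE V U e).hom]
        infer_instance) _ (OmegaSh.dOmega g) (Groth.Agent.S5005.result g)
    refine ⟨U, n, hxU, ⟨i⟩, ?_⟩
    obtain ⟨V, W, e, hV, hW, hxW, hWO, ⟨b⟩⟩ :=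
      GrothLib.SmoothRank4.exists_chart f hd hxU i f.smoothLocus hx
    letI := (f.appLE V W e).hom.toAlgebra
    haveI : Algebra.FinitePresentation Γ(Y, V) Γ(X, W) :=
      HasRingHomProperty.appLE @LocallyOfFinitePresentation f inferInstance ⟨V, hV⟩ ⟨W, hW⟩ e
    haveI : Algebra.Smooth Γ(Y, V) Γ(X, W) := by
      refine ⟨Algebra.smoothLocus_eq_univ_iff.mp (Set.eq_univ_iff_forall.mpr fun P => ?_), inferInstance⟩
      obtain ⟨w, hw⟩ : ∃ w : W, hW.primeIdealOf w = P :=
        ⟨(Scheme.homeoOfIso hW.isoSpec).symm P, (Scheme.homeoOfIso hW.isoSpec).apply_symm_apply P⟩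
      subst hw
      exact (formallySmooth_stalkMap_iff V hV W hW e w.2).mp (hWO w.2)
    obtain ⟨Q, hQ⟩ := GrothLib.SmoothRank4.exists_fibre_point (R := Γ(Y, V)) (hW.primeIdealOf ⟨x, hxW⟩)
    have hd₁ := GrothLib.SmoothRank4.fibreDimAt_chart f hW.fromSpec hV.fromSpec
      (IsAffineOpen.SpecMap_appLE_fromSpec f hV hW e).symm _ Q hQ
    rw [hW.fromSpec_primeIdealOf] at hd₁
    rw [hd₁]
    exact GrothLib.SmoothRank4.localDim_fiber_eq_of_basis _ Q b
  · rintro ⟨hflat, U, n, hxU, ⟨i⟩, hn⟩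
    let F : X.Opens := ⟨{z : X | (f.stalkMap z).hom.Flat}, GrothLib.FibreFlat.isOpen_flat_stalkMap f⟩
    obtain ⟨V, W, e, hV, hW, hxW, hWO, ⟨b⟩⟩ := GrothLib.SmoothRank4.exists_chart f hd hxU i F hflat
    letI := (f.appLE V W e).hom.toAlgebra
    haveI : Module.Flat Γ(Y, V) Γ(X, W) :=
      GrothLib.SmoothRank4.flat_appLE_of_stalks f hV hW e fun z hz => hWO hz
    haveI : Algebra.FinitePresentation Γ(Y, V) Γ(X, W) :=
      HasRingHomProperty.appLE @LocallyOfFinitePresentation f inferInstance ⟨V, hV⟩ ⟨W, hW⟩ e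
    let q := hW.primeIdealOf ⟨x, hxW⟩
    obtain ⟨Q, hQ⟩ := GrothLib.SmoothRank4.exists_fibre_point (R := Γ(Y, V)) q
    have hd₁ := GrothLib.SmoothRank4.fibreDimAt_chart f hW.fromSpec hV.fromSpec
      (IsAffineOpen.SpecMap_appLE_fromSpec f hV hW e).symm q Q hQ
    rw [hW.fromSpec_primeIdealOf] at hd₁
    haveI : q.asIdeal.LiesOver (q.asIdeal.under Γ(Y, V)) := ⟨rfl⟩
    have := GrothLib.SmoothRank4.isSmoothAt_of_span _ q.asIdeal Q hQ b b.span_eq (hn ▸ hd₁ ▸ le_rfl)
    rw [Scheme.Hom.mem_smoothLocus, formallySmooth_stalkMap_iff V hV W hW e hxW]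
    exact this

end Groth.Agent.S5022
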