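import Groth.Statements.S0413
import Groth.Agent.Lib.EtCoord10.Chart
import Groth.Agent.Lib.EtCoord10.Sep

set_option autoImplicit false
universe u
open FlatMor

namespace Groth.Agent.S0413

open AlgebraicGeometry CategoryTheory Limits in
/-- For a smooth morphism and a point that is closed in its fibre with separable residue field
extension, there is a locally closed subscheme through the point which is étale over the base and
meets the fibre only in that point. -/
theorem result {X S : Scheme.{u}} (f : X ⟶ S) [Smooth f] (x : X)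
    (hcl : IsClosed ({f.asFiber x} : Set ↑(f.fiber (f x))))
    (hsep : @Algebra.IsSeparable (S.residueField (f x)) (X.residueField x) _ _ (f.residueFieldMap x).hom.toAlgebra) :
    ∃ (Z : Scheme.{u}) (i : Z ⟶ X) (z : Z), IsImmersion i ∧ Etale (i ≫ f) ∧ i z = x ∧
      ∀ z' : ↑Z, f (i z') = f x → z' = z := by
  letI := (f.residueFieldMap x).hom.toAlgebra
  haveI : Algebra.IsSeparable (S.residueField (f x)) (X.residueField x) := hsep
  obtain ⟨U, hU, hsU, -⟩ := exists_isAffineOpen_mem_and_subset (X := S) (x := f x) (U := ⊤) trivial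
  obtain ⟨V, hV, hxV, hVU⟩ := exists_isAffineOpen_mem_and_subset (X := X) (x := x) (U := f ⁻¹ᵁ U) hsU
  have e : V ≤ f ⁻¹ᵁ U := hVU
  let ρ := S.evaluation U (f x) hsU
  let σ := X.evaluation V x hxV
  have hnat : ∀ a, σ (f.appLE U V e a) = f.residueFieldMap x (ρ a) := fun a => by
    rw [Scheme.evaluation_naturality_apply f x hsU a]
    show X.residue x (X.presheaf.germ V x hxV (X.presheaf.map (homOfLE e).op (f.app U a))) = _
    rw [X.presheaf.germ_res_apply]
    rfl
  have hρ : ∀ c : S.residueField (f x), ∃ a d : Γ(S, U), ρ.hom d ≠ 0 ∧ c * ρ.hom d = ρ.hom a := by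
    intro c
    obtain ⟨t, rfl⟩ := S.residue_surjective (f x) c
    letI := TopCat.Presheaf.algebra_section_stalk S.presheaf (⟨f x, hsU⟩ : U)
    haveI := hU.isLocalization_stalk ⟨f x, hsU⟩
    obtain ⟨⟨a, d, hd⟩, hd'⟩ := IsLocalization.surj (hU.primeIdealOf ⟨f x, hsU⟩).asIdeal.primeCompl t
    refine ⟨a, d, ?_, ?_⟩
    · exact ((IsLocalization.map_units (S.presheaf.stalk (f x))
        (⟨d, hd⟩ : (hU.primeIdealOf ⟨f x, hsU⟩).asIdeal.primeCompl)).map (S.residue (f x)).hom).ne_zero
    · show _ * S.residue (f x) (algebraMap Γ(S, U) (S.presheaf.stalk (f x)) d) =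
        S.residue (f x) (algebraMap Γ(S, U) (S.presheaf.stalk (f x)) a)
      rw [← hd', map_mul]
  have hq : ∀ u : Γ(X, V), σ u ≠ 0 → u ∉ (hV.primeIdealOf ⟨x, hxV⟩).asIdeal := fun u hu => by
    rw [Scheme.evaluation_ne_zero_iff_mem_basicOpen] at hu
    have h2 := hV.fromSpec_primeIdealOf ⟨x, hxV⟩
    change hV.fromSpec _ = x at h2
    rw [← h2] at hu
    have : hV.primeIdealOf ⟨x, hxV⟩ ∈ hV.fromSpec ⁻¹ᵁ X.basicOpen u := hu
    rw [hV.fromSpec_preimage_basicOpen] at this
    exact this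
  obtain ⟨t, hxt, m, g, hg, het⟩ := GrothLib.EtCoord10.exists_chart f hU hV e hxV
    (by rw [Scheme.Hom.smoothLocus_eq_top]; trivial) {b | σ b = 0} (by
      letI := (f.appLE U V e).hom.toAlgebra
      intro b
      obtain ⟨u, g, hg, hu, h⟩ := GrothLib.EtCoord10.exists_D_eq_smul (R := Γ(S, U)) (B := Γ(X, V))
        (k := S.residueField (f x)) (K := X.residueField x) ρ.hom σ.hom hnat hρ b
      exact ⟨u, g, hg, hq u hu, h⟩)
  let W := X.basicOpen t
  have eW : W ≤ f ⁻¹ᵁ U := (X.basicOpen_le t).trans e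
  let v : ULift.{u} (Fin m) → Γ(W.toScheme, ⊤) := fun j =>
    W.topIso.inv (X.presheaf.map (homOfLE ((le_refl W).trans (X.basicOpen_le t))).op (g j.down))
  let h := AffineSpace.homOfVector (f.resLE U W eW) v
  let z₀ : (U : Scheme.{u}) ⟶ 𝔸(ULift.{u} (Fin m); U) := AffineSpace.homOfVector (𝟙 _) 0
  haveI : Etale h := het U W eW le_rfl le_rfl
  haveI : IsImmersion (z₀ ≫ 𝔸(ULift.{u} (Fin m); U) ↘ (U : Scheme.{u})) := by
    rw [AffineSpace.homOfVector_over]
    infer_instance
  haveI : IsImmersion z₀ := IsImmersion.of_comp z₀ (𝔸(ULift.{u} (Fin m); U) ↘ (U : Scheme.{u}))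
  have hif : (pullback.fst h z₀ ≫ W.ι) ≫ f = pullback.snd h z₀ ≫ U.ι := by
    rw [Category.assoc, ← Scheme.Hom.resLE_comp_ι f eW, ← Category.assoc,
      ← AffineSpace.homOfVector_over (f.resLE U W eW) v, pullback.condition_assoc]
    show (pullback.snd h z₀ ≫ z₀ ≫ _) ≫ _ = _
    rw [AffineSpace.homOfVector_over, Category.comp_id]
  haveI : Etale (pullback.snd h z₀) := MorphismProperty.pullback_snd _ _ inferInstance
  haveI hetq : Etale ((pullback.fst h z₀ ≫ W.ι) ≫ f) := by rw [hif]; infer_instance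
  let c : Spec (X.residueField x) ⟶ W := IsOpenImmersion.lift W.ι (X.fromSpecResidueField x) (by
    rw [Scheme.range_fromSpecResidueField, Scheme.Opens.range_ι]
    exact Set.singleton_subset_iff.mpr hxt)
  have hc : c ≫ W.ι = X.fromSpecResidueField x := IsOpenImmersion.lift_fac _ _ _
  have hw : c ≫ h = (c ≫ f.resLE U W eW) ≫ z₀ := by
    refine AffineSpace.hom_ext (by simp [h, z₀]) fun j => ?_
    rw [Scheme.Hom.comp_appTop, Scheme.Hom.comp_appTop _ z₀, CommRingCat.comp_apply, CommRingCat.comp_apply,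
      AffineSpace.homOfVector_appTop_coord, AffineSpace.homOfVector_appTop_coord, Pi.zero_apply, map_zero]
    rw [← basicOpen_eq_bot_iff, ← Scheme.preimage_basicOpen_top]
    refine eq_bot_iff.mpr fun p hp => ?_
    have hpx : W.ι (c p) = x := by
      rw [← Scheme.Hom.comp_apply, hc, Scheme.fromSpecResidueField_apply]
    have h1 : W.ι (c p) ∈ W.ι ''ᵁ W.toScheme.basicOpen (v j) := ⟨c p, hp, rfl⟩
    rw [hpx, Scheme.Opens.ι_image_basicOpen_topIso_inv, Scheme.basicOpen_res] at h1
    exact ((Scheme.evaluation_eq_zero_iff_notMem_basicOpen _ x hxV _).mp (hg j.down) h1.2).elim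
  let l : Spec (X.residueField x) ⟶ pullback h z₀ := pullback.lift c (c ≫ f.resLE U W eW) hw
  let z := l (IsLocalRing.closedPoint (X.residueField x))
  have hz : (pullback.fst h z₀ ≫ W.ι) z = x := by
    rw [← Scheme.Hom.comp_apply, pullback.lift_fst_assoc, hc, Scheme.fromSpecResidueField_apply]
  haveI : LocallyQuasiFinite ((pullback.fst h z₀ ≫ W.ι) ≫ f) := by
    rw [HasRingHomProperty.iff_appLE (P := @LocallyQuasiFinite)]
    intro U V e
    have h1 := HasRingHomProperty.appLE @LocallyOfFiniteType ((pullback.fst h z₀ ≫ W.ι) ≫ f) inferInstance U V e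
    have h2 := HasRingHomProperty.appLE @FormallyUnramified ((pullback.fst h z₀ ≫ W.ι) ≫ f) inferInstance U V e
    algebraize [(((pullback.fst h z₀ ≫ W.ι) ≫ f).appLE U V e).hom]
    exact RingHom.quasiFinite_algebraMap.2 inferInstance
  obtain ⟨O, hO, hOeq⟩ := isDiscrete_iff_forall_mem_exists_isOpen.mp
    (((pullback.fst h z₀ ≫ W.ι) ≫ f).isDiscrete_preimage_singleton (f x)) z
    (show f ((pullback.fst h z₀ ≫ W.ι) z) = f x by rw [hz])
  let O' : (pullback h z₀).Opens := ⟨O, hO⟩
  have hzO : z ∈ O' := (hOeq.ge rfl).1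
  refine ⟨O', O'.ι ≫ pullback.fst h z₀ ≫ W.ι, ⟨z, hzO⟩, inferInstance, ?_, hz, fun z' hz' => ?_⟩
  · rw [Category.assoc]
    infer_instance
  · exact Subtype.ext (hOeq.le ⟨z'.2, hz'⟩)

end Groth.Agent.S0413
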