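import Groth.Statements.S1600
import Groth.Agent.Lib.FacDiv.Principal
import Groth.Agent.Lib.ProjCoh.Generic
import Groth.Agent.S0002
import Groth.Agent.S0414
import Groth.Agent.S0565
import Groth.Agent.S2821
set_option backward.isDefEq.respectTransparency false
set_option backward.isDefEq.respectTransparency.types false


set_option autoImplicit false
universe u
open CategoryTheory CategoryTheory.Limits AlgebraicGeometry
open Resolve

namespace Groth.Agent.S1600

/-- Let A be a Noetherian domain such that Spec A admits an alteration f : X → Spec A with X regular.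
Then the integral closure of A in its fraction field is a finite A-module (A is N-1), and some
nonempty open subset of Spec A consists of points whose local ring is regular. (The published
statement is for any Noetherian integral scheme; it is stated here for an affine one.) -/
theorem result (A : Type u) [CommRing A] [IsDomain A] [IsNoetherianRing A]
    (X : Scheme.{u}) (f : X ⟶ Spec (CommRingCat.of A)) (hf : Curv2.IsAlteration f)
    (hreg : ∀ x : X, IsRegularLocalRing (X.presheaf.stalk x)) :
    CAlg.IsN1 A ∧ ∃ U : (Spec (CommRingCat.of A)).Opens, (U : Set (Spec (CommRingCat.of A))).Nonempty ∧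
      ∀ y ∈ U, IsRegularLocalRing ((Spec (CommRingCat.of A)).presheaf.stalk y) := by
  obtain ⟨hp, hint, -, hdom, -⟩ := hf
  have : IsLocallyNoetherian X := LocallyOfFiniteType.isLocallyNoetherian f
  let _ : X.Over (Spec (CommRingCat.of A)) := ⟨f⟩
  have : IsProper (X ↘ Spec (CommRingCat.of A)) := hp
  let φ : A →+* Γ(X, ⊤) := Coh.toGlobal f
  let ψ : A →+* X.functionField := (X.presheaf.germ ⊤ (genericPoint X) trivial).hom.comp φ
  have hφinj : Function.Injective φ := by
    refine (injective_iff_map_eq_zero _).2 fun a ha => ?_
    have h1 : f ⁻¹ᵁ (Spec (CommRingCat.of A)).basicOpen ((Scheme.ΓSpecIso (CommRingCat.of A)).inv a) = ⊥ := by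
      rw [Scheme.preimage_basicOpen]
      exact (congrArg X.basicOpen ha).trans (Scheme.basicOpen_zero _ _)
    have h2 : (Spec (CommRingCat.of A)).basicOpen ((Scheme.ΓSpecIso (CommRingCat.of A)).inv a) = ⊥ := by
      by_contra hne
      obtain ⟨y, hy⟩ := (TopologicalSpace.Opens.ne_bot_iff_nonempty _).1 hne
      obtain ⟨z, hz⟩ := hdom.denseRange.exists_mem_open (TopologicalSpace.Opens.isOpen _) ⟨y, hy⟩
      exact (h1.le hz : _)
    rw [basicOpen_eq_bot_iff] at h2
    exact (Scheme.ΓSpecIso (CommRingCat.of A)).commRingCatIsoToRingEquiv.symm.injective (h2.trans (map_zero _).symm)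
  have hψinj : Function.Injective ψ := (germ_injective_of_isIntegral (X := X) (U := ⊤) (genericPoint X) trivial).comp hφinj
  refine ⟨?_, ?_⟩
  · let _ : Algebra A Γ(X, ⊤) := φ.toAlgebra
    let _ : Algebra A X.functionField := ψ.toAlgebra
    have : Module.Finite A Γ(X, ⊤) := by
      have := Groth.Agent.S0002.result A X (Coh.structureModule X) (GrothLib.HomSh.isCoh_structureModule X) 0
      let e : Coh.HH X (Coh.structureModule X) 0 →ₗ[A] Γ(X, ⊤) :=
        { toFun := fun x => (show Γ(X, ⊤) from GrothLib.ProjCoh.H0top (Coh.structureModule X) x)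
          map_add' := fun a b => (GrothLib.ProjCoh.H0top (Coh.structureModule X)).map_add a b
          map_smul' := fun a x => GrothLib.ProjCoh.H0top_smul (Coh.structureModule X) a x }
      exact Module.Finite.of_surjective e (GrothLib.ProjCoh.H0top (Coh.structureModule X)).surjective
    let g : Γ(X, ⊤) →ₐ[A] X.functionField :=
      { (X.presheaf.germ ⊤ (genericPoint X) trivial).hom with commutes' := fun _ => rfl }
    let L : FractionRing A →ₐ[A] X.functionField :=
      IsFractionRing.liftAlgHom (A := A) (K := FractionRing A) (g := Algebra.ofId A X.functionField) hψinj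
    have hmem : ∀ w : integralClosure A (FractionRing A), L w.1 ∈ LinearMap.range g.toLinearMap := by
      intro w
      have hw : IsIntegral A (L w.1) := w.2.map L
      obtain ⟨s, hs⟩ := GrothLib.FacDiv.exists_global_section (X := X) (L w.1 : X.functionField) fun y => by
        obtain ⟨p, hpm, hp0⟩ := hw
        have := hreg y
        obtain ⟨_, _⟩ := Groth.Agent.S2821.result (X.presheaf.stalk y)
        have hy : IsIntegral (X.presheaf.stalk y) (L w.1) := by
          refine ⟨p.map ((X.presheaf.germ ⊤ y trivial).hom.comp φ), hpm.map _, ?_⟩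
          rw [Polynomial.eval₂_map]
          have e : (algebraMap (X.presheaf.stalk y) X.functionField).comp ((X.presheaf.germ ⊤ y trivial).hom.comp φ) = ψ :=
            RingHom.ext fun a => GrothLib.Ref1.spR_germ (GrothLib.Ref1.hη y) _ (φ a)
          rw [e]
          exact hp0
        obtain ⟨a, ha⟩ := IsIntegrallyClosed.algebraMap_eq_of_integral hy
        exact ⟨a, ha⟩
      refine ⟨s, ?_⟩
      have := hs (genericPoint X)
      rw [GrothLib.Ref1.spR_germ] at this
      exact this
    have : IsNoetherian A (LinearMap.range g.toLinearMap) := isNoetherian_of_isNoetherianRing_of_finite A _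
    let e : integralClosure A (FractionRing A) →ₗ[A] LinearMap.range g.toLinearMap :=
      LinearMap.codRestrict _ (L.toLinearMap.comp (integralClosure A (FractionRing A)).val.toLinearMap) hmem
    exact Module.Finite.of_injective e fun a b hab => Subtype.ext (L.toRingHom.injective (congrArg Subtype.val hab))
  · obtain ⟨U, hU, hflat, -⟩ := Groth.Agent.S0414.result f
    refine ⟨U, hU.nonempty, fun y hy => ?_⟩
    have hsurj : Function.Surjective f := by
      intro z
      have hc : IsClosed (Set.range f) := f.isClosedMap.isClosed_range
      have := hdom.denseRange z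
      rwa [hc.closure_eq] at this
    obtain ⟨x, rfl⟩ := hsurj y
    have := hflat
    have h1 := Flat.stalkMap (f ∣_ U) ⟨x, hy⟩
    have h2 : (f.stalkMap x).hom.Flat := ((RingHom.Flat.respectsIso.arrow_mk_iso_iff (morphismRestrictStalkMap f U ⟨x, hy⟩)).1 h1)
    let _ : Algebra ((Spec (CommRingCat.of A)).presheaf.stalk (f x)) (X.presheaf.stalk x) := (f.stalkMap x).hom.toAlgebra
    have : Module.Flat ((Spec (CommRingCat.of A)).presheaf.stalk (f x)) (X.presheaf.stalk x) := h2
    have : IsLocalHom (algebraMap ((Spec (CommRingCat.of A)).presheaf.stalk (f x)) (X.presheaf.stalk x)) := f.toLRSHom.prop x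
    have := hreg x
    exact Groth.Agent.S0565.result _ (X.presheaf.stalk x)

end Groth.Agent.S1600
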