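import Groth.Statements.S16347
import Mathlib
import Groth.Agent.Lib.CubicTangent.Basic

set_option autoImplicit false
set_option linter.all false
universe u
open Cubic

namespace Groth.Agent.S16347

/-- Let K be an algebraically closed field of characteristic zero and S = V(F) ⊂ P^3_K a cubic surface,
F a homogeneous cubic in four variables which is irreducible and not a cone (there is no nonzero
vector v with Σ_i v_i ∂F/∂x_i = 0). If a is a singular point of S (a nonzero vector with F(a) = 0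
and every ∂F/∂x_i(a) = 0), then at most six lines through a lie on S; here a line through a on S is
a 2-dimensional subspace of K^4 containing a on which F vanishes identically. -/
theorem result (K : Type u) [Field K] [IsAlgClosed K] [CharZero K]
    (F : MvPolynomial (Fin 4) K) (hF : F.IsHomogeneous 3) (hirr : Irreducible F)
    (hcone : ¬ ∃ v : Fin 4 → K, v ≠ 0 ∧ ∑ i : Fin 4, v i • MvPolynomial.pderiv i F = 0)
    (a : Fin 4 → K) (ha : a ≠ 0) (hFa : MvPolynomial.eval a F = 0)
    (hsing : ∀ i : Fin 4, MvPolynomial.eval a (MvPolynomial.pderiv i F) = 0) :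
    {U : Submodule K (Fin 4 → K) | a ∈ U ∧ Module.finrank K ↥U = 2 ∧ ∀ u ∈ U, MvPolynomial.eval u F = 0}.encard ≤ 6 := by
  classical
  obtain ⟨T, hTdef⟩ : ∃ T, T = GrothLib.CubicForm.ofPoly F := ⟨_, rfl⟩
  have hcube : ∀ x, T.cube x = 6 * MvPolynomial.eval x F := by
    rw [hTdef]; exact GrothLib.CubicForm.ofPoly_cube hF
  have hTa : ∀ x, T a a x = 0 := fun x => by
    rw [hTdef, GrothLib.CubicForm.ofPoly_grad hF]; simp [hsing]
  have hTa' : ∀ x, T a x a = 0 := fun x => by rw [T.symm₂]; exact hTa x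
  have hnz : ¬ ∀ x, T a x x = 0 := fun h => by
    refine hcone ⟨a, ha, MvPolynomial.funext fun x => ?_⟩
    have h' : T x x a = 0 := (T.symm₁₃ x x a).trans (h x)
    rw [hTdef, GrothLib.CubicForm.ofPoly_grad hF] at h'
    simpa using (mul_eq_zero.mp h').resolve_left two_ne_zero
  -- an irreducible cubic contains no plane
  have hplane : ∀ φ : (Fin 4 → K) →ₗ[K] K, φ ≠ 0 → (∀ x, φ x = 0 → T.cube x = 0) → False := by
    intro φ hφ h
    obtain ⟨j, hj⟩ : ∃ j, φ (Pi.single j 1) ≠ 0 := by
      by_contra! hall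
      refine hφ (LinearMap.ext fun x => ?_)
      rw [pi_eq_sum_univ' x, map_sum]
      simp [hall]
    have hl : ∀ x, MvPolynomial.eval x (∑ i, MvPolynomial.C (φ (Pi.single i 1)) * MvPolynomial.X i) = φ x := by
      intro x
      conv_rhs => rw [pi_eq_sum_univ' x]
      simp [mul_comm]
    have hmem := GrothLib.CubicTangent.mem_span_of_eval_eq_zero (fun i => φ (Pi.single i 1)) hj F fun x hx => by
      have := hcube x
      rw [h x (by rw [← hl x]; exact hx)] at this
      simpa using this.symm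
    obtain ⟨G, hG⟩ := Ideal.mem_span_singleton'.mp hmem
    rcases hirr.isUnit_or_isUnit hG.symm with hu | hu
    · have hdeg : G.totalDegree = 0 := by
        obtain ⟨Hi, hHi⟩ := isUnit_iff_exists_inv.mp hu
        have h1 : G ≠ 0 := left_ne_zero_of_mul_eq_one hHi
        have h2 : Hi ≠ 0 := right_ne_zero_of_mul_eq_one hHi
        have h3 := MvPolynomial.totalDegree_mul_of_isDomain h1 h2
        rw [hHi, MvPolynomial.totalDegree_one] at h3
        omega
      have hGC := MvPolynomial.totalDegree_eq_zero_iff_eq_C.mp hdeg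
      have h1 : F.IsHomogeneous 1 := by
        rw [← hG, hGC]
        simpa using (MvPolynomial.isHomogeneous_C (Fin 4) (MvPolynomial.coeff 0 G)).mul
          (MvPolynomial.IsHomogeneous.sum Finset.univ _ 1 fun i _ =>
            MvPolynomial.isHomogeneous_C_mul_X (φ (Pi.single i 1)) i)
      exact absurd (h1.inj_right hF hirr.ne_zero) (by norm_num)
    · have := hu.map (MvPolynomial.eval (0 : Fin 4 → K))
      rw [hl, map_zero] at this
      exact not_isUnit_zero this
  -- every line through `a` meets a fixed complement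
  have hline : ∀ (U : Submodule K (Fin 4 → K)), a ∈ U → Module.finrank K ↥U = 2 →
      ∀ w ∈ U, w ∉ Submodule.span K {a} → U = Submodule.span K {a, w} := by
    intro U haU hU w hw hwa
    refine (Submodule.eq_of_le_of_finrank_eq (Submodule.span_le.2 ?_) ?_).symm
    · rintro x (rfl | rfl)
      exacts [haU, hw]
    · rw [GrothLib.CubicForm.finrank_span_pair ha hwa, hU]
  have hUcube : ∀ U : Submodule K (Fin 4 → K), (∀ u ∈ U, MvPolynomial.eval u F = 0) → ∀ u ∈ U, T.cube u = 0 :=
    fun U h u hu => by rw [hcube, h u hu, mul_zero]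
  have hexp : ∀ (r : K) y, T.cube (r • a + y) = 3 * r * T a y y + T.cube y := by
    intro r y
    have e1 : T a a a = 0 := hTa a
    have h := T.cube_comb a y r 1
    rw [one_smul] at h
    rw [h, hTa, show T.cube a = 0 from e1]
    ring
  obtain ⟨I, hI⟩ := IsAlgClosed.exists_pow_nat_eq (-1 : K) (show 0 < 2 by norm_num)
  -- orthogonal complement coordinates
  obtain ⟨v, hv01, hv02, hv12, ρ, c, hρc⟩ : ∃ v : Fin 3 → (Fin 4 → K),
      T a (v 0) (v 1) = 0 ∧ T a (v 0) (v 2) = 0 ∧ T a (v 1) (v 2) = 0 ∧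
      ∃ (ρ : (Fin 4 → K) →ₗ[K] K) (c : Fin 3 → ((Fin 4 → K) →ₗ[K] K)),
        (∀ x, x = ρ x • a + (c 0 x • v 0 + c 1 x • v 1 + c 2 x • v 2)) ∧ ρ a = 1 ∧ ∀ i, c i a = 0 := by
    obtain ⟨i₀, hi₀⟩ : ∃ i, a i ≠ 0 := by
      by_contra! h; exact ha (funext h)
    let ρ : (Fin 4 → K) →ₗ[K] K := (a i₀)⁻¹ • LinearMap.proj i₀
    have hρa : ρ a = 1 := by simp [ρ, inv_mul_cancel₀ hi₀]
    let W := LinearMap.ker ρ
    have hW : Module.finrank K ↥W = 3 := by
      have h := LinearMap.finrank_range_add_finrank_ker ρ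
      have hs : Function.Surjective ρ := fun r => ⟨r • a, by rw [map_smul, hρa, smul_eq_mul, mul_one]⟩
      rw [LinearMap.range_eq_top.2 hs, finrank_top, Module.finrank_self, Module.finrank_fin_fun] at h
      change 1 + Module.finrank K ↥W = 4 at h
      omega
    let B : LinearMap.BilinForm K ↥W :=
      LinearMap.mk₂ K (fun x y => T a x.1 y.1) (by simp) (by simp) (by simp) (by simp)
    have hB : LinearMap.IsSymm B := ⟨fun x y => T.symm₂ a x.1 y.1⟩
    haveI : Invertible (2 : K) := invertibleOfNonzero two_ne_zero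
    obtain ⟨b, hb⟩ := LinearMap.BilinForm.exists_orthogonal_basis hB
    let b' := b.reindex (finCongr hW)
    have hb' : ∀ i j, i ≠ j → T a (b' i).1 (b' j).1 = 0 := by
      intro i j hij
      have := hb (i := (finCongr hW).symm i) (j := (finCongr hW).symm j) (by simpa using hij)
      simpa [b', B, LinearMap.IsOrthoᵢ, Function.onFun] using this
    let π : (Fin 4 → K) →ₗ[K] ↥W := (LinearMap.id - LinearMap.smulRight ρ a).codRestrict W fun x => by
      simp [W, hρa]
    refine ⟨fun i => (b' i).1, hb' 0 1 (by decide), hb' 0 2 (by decide), hb' 1 2 (by decide), ρ,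
      fun i => b'.coord i ∘ₗ π, fun x => ?_, hρa, fun i => ?_⟩
    · have h := congrArg Subtype.val (b'.sum_repr (π x))
      simp only [Fin.sum_univ_three, Submodule.coe_add, Submodule.coe_smul] at h
      simp only [LinearMap.comp_apply, Module.Basis.coord_apply]
      rw [h]
      show x = ρ x • a + (x - ρ x • a)
      abel
    · have : π a = 0 := Subtype.ext (show a - ρ a • a = 0 by rw [hρa, one_smul, sub_self])
      simp [this]
  obtain ⟨hdec, hρa, hca⟩ := hρc
  have hq : ∀ x, T a x x = T a (v 0) (v 0) * c 0 x ^ 2 + T a (v 1) (v 1) * c 1 x ^ 2 + T a (v 2) (v 2) * c 2 x ^ 2 := by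
    intro x
    have e10 : T a (v 1) (v 0) = 0 := by rw [T.symm₂]; exact hv01
    have e20 : T a (v 2) (v 0) = 0 := by rw [T.symm₂]; exact hv02
    have e21 : T a (v 2) (v 1) = 0 := by rw [T.symm₂]; exact hv12
    conv_lhs => rw [hdec x]
    simp [hTa, hTa', hv01, hv02, hv12, e10, e20, e21]
    ring
  obtain ⟨s0, hs0⟩ := IsAlgClosed.exists_pow_nat_eq (T a (v 0) (v 0)) (show 0 < 2 by norm_num)
  obtain ⟨s1, hs1⟩ := IsAlgClosed.exists_pow_nat_eq (T a (v 1) (v 1)) (show 0 < 2 by norm_num)
  obtain ⟨s2, hs2⟩ := IsAlgClosed.exists_pow_nat_eq (T a (v 2) (v 2)) (show 0 < 2 by norm_num)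
  by_cases hA : s0 ≠ 0 ∧ s1 ≠ 0 ∧ s2 ≠ 0
  · -- irreducible cone of tangents
    obtain ⟨h0, h1, h2⟩ := hA
    obtain ⟨e0, he0⟩ : ∃ e : Fin 4 → K, e = (2 * s0)⁻¹ • v 0 - (I / (2 * s1)) • v 1 := ⟨_, rfl⟩
    obtain ⟨e1, he1⟩ : ∃ e : Fin 4 → K, e = (I / s2) • v 2 := ⟨_, rfl⟩
    obtain ⟨e2, he2⟩ : ∃ e : Fin 4 → K, e = (2 * s0)⁻¹ • v 0 + (I / (2 * s1)) • v 1 := ⟨_, rfl⟩
    let X : (Fin 4 → K) →ₗ[K] K := s0 • c 0 + (I * s1) • c 1
    let Y : (Fin 4 → K) →ₗ[K] K := -(I * s2) • c 2
    let Z : (Fin 4 → K) →ₗ[K] K := s0 • c 0 - (I * s1) • c 1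
    have hXYZ : ∀ x, x = ρ x • a + (X x • e0 + Y x • e1 + Z x • e2) := by
      intro x
      have k0 : X x * (2 * s0)⁻¹ + Z x * (2 * s0)⁻¹ = c 0 x := by
        simp only [X, Z, LinearMap.add_apply, LinearMap.sub_apply, LinearMap.smul_apply, smul_eq_mul]
        field_simp
        ring
      have k1 : Z x * (I / (2 * s1)) - X x * (I / (2 * s1)) = c 1 x := by
        have : Z x * (I / (2 * s1)) - X x * (I / (2 * s1)) = -(I ^ 2) * c 1 x := by
          simp only [X, Z, LinearMap.add_apply, LinearMap.sub_apply, LinearMap.smul_apply, smul_eq_mul]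
          field_simp
          ring
        rw [this, hI]; ring
      have k2 : Y x * (I / s2) = c 2 x := by
        have : Y x * (I / s2) = -(I ^ 2) * c 2 x := by
          simp only [Y, LinearMap.smul_apply, LinearMap.neg_apply, neg_smul, smul_eq_mul]
          field_simp
        rw [this, hI]; ring
      conv_lhs => rw [hdec x, ← k0, ← k1, ← k2]
      rw [he0, he1, he2]
      module
    have hqx : ∀ x, T a x x = X x * Z x - Y x ^ 2 := by
      intro x
      rw [hq, ← hs0, ← hs1, ← hs2]
      simp only [X, Y, Z, LinearMap.add_apply, LinearMap.sub_apply, LinearMap.smul_apply, smul_eq_mul]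
      linear_combination (-(s1 * c 1 x) ^ 2 * -1 + (s2 * c 2 x) ^ 2) * hI
    -- the restricted cubic
    have hcw : ∀ X Y Z : K, T.cube (X • e0 + Y • e1 + Z • e2) =
        T.cube e0 * X ^ 3 + 3 * T e0 e0 e1 * X ^ 2 * Y + 3 * T e0 e0 e2 * X ^ 2 * Z +
        3 * T e0 e1 e1 * X * Y ^ 2 + T.cube e1 * Y ^ 3 + 6 * T e0 e1 e2 * X * Y * Z +
        3 * T e0 e2 e2 * X * Z ^ 2 + 3 * T e1 e1 e2 * Y ^ 2 * Z + 3 * T e1 e2 e2 * Y * Z ^ 2 + T.cube e2 * Z ^ 3 := by
      intro X Y Z
      have e010 : T e0 e1 e0 = T e0 e0 e1 := by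
        first | exact T.symm₁ _ _ _ | exact T.symm₂ _ _ _ | exact T.symm₁₃ _ _ _ | exact T.rot _ _ _ | exact (T.rot _ _ _).symm
      have e100 : T e1 e0 e0 = T e0 e0 e1 := by
        first | exact T.symm₁ _ _ _ | exact T.symm₂ _ _ _ | exact T.symm₁₃ _ _ _ | exact T.rot _ _ _ | exact (T.rot _ _ _).symm
      have e020 : T e0 e2 e0 = T e0 e0 e2 := by
        first | exact T.symm₁ _ _ _ | exact T.symm₂ _ _ _ | exact T.symm₁₃ _ _ _ | exact T.rot _ _ _ | exact (T.rot _ _ _).symm
      have e200 : T e2 e0 e0 = T e0 e0 e2 := by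
        first | exact T.symm₁ _ _ _ | exact T.symm₂ _ _ _ | exact T.symm₁₃ _ _ _ | exact T.rot _ _ _ | exact (T.rot _ _ _).symm
      have e101 : T e1 e0 e1 = T e0 e1 e1 := by
        first | exact T.symm₁ _ _ _ | exact T.symm₂ _ _ _ | exact T.symm₁₃ _ _ _ | exact T.rot _ _ _ | exact (T.rot _ _ _).symm
      have e110 : T e1 e1 e0 = T e0 e1 e1 := by
        first | exact T.symm₁ _ _ _ | exact T.symm₂ _ _ _ | exact T.symm₁₃ _ _ _ | exact T.rot _ _ _ | exact (T.rot _ _ _).symm
      have e021 : T e0 e2 e1 = T e0 e1 e2 := by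
        first | exact T.symm₁ _ _ _ | exact T.symm₂ _ _ _ | exact T.symm₁₃ _ _ _ | exact T.rot _ _ _ | exact (T.rot _ _ _).symm
      have e102 : T e1 e0 e2 = T e0 e1 e2 := by
        first | exact T.symm₁ _ _ _ | exact T.symm₂ _ _ _ | exact T.symm₁₃ _ _ _ | exact T.rot _ _ _ | exact (T.rot _ _ _).symm
      have e120 : T e1 e2 e0 = T e0 e1 e2 := by
        first | exact T.symm₁ _ _ _ | exact T.symm₂ _ _ _ | exact T.symm₁₃ _ _ _ | exact T.rot _ _ _ | exact (T.rot _ _ _).symm
      have e201 : T e2 e0 e1 = T e0 e1 e2 := by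
        first | exact T.symm₁ _ _ _ | exact T.symm₂ _ _ _ | exact T.symm₁₃ _ _ _ | exact T.rot _ _ _ | exact (T.rot _ _ _).symm
      have e210 : T e2 e1 e0 = T e0 e1 e2 := by
        first | exact T.symm₁ _ _ _ | exact T.symm₂ _ _ _ | exact T.symm₁₃ _ _ _ | exact T.rot _ _ _ | exact (T.rot _ _ _).symm
      have e202 : T e2 e0 e2 = T e0 e2 e2 := by
        first | exact T.symm₁ _ _ _ | exact T.symm₂ _ _ _ | exact T.symm₁₃ _ _ _ | exact T.rot _ _ _ | exact (T.rot _ _ _).symm
      have e220 : T e2 e2 e0 = T e0 e2 e2 := by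
        first | exact T.symm₁ _ _ _ | exact T.symm₂ _ _ _ | exact T.symm₁₃ _ _ _ | exact T.rot _ _ _ | exact (T.rot _ _ _).symm
      have e121 : T e1 e2 e1 = T e1 e1 e2 := by
        first | exact T.symm₁ _ _ _ | exact T.symm₂ _ _ _ | exact T.symm₁₃ _ _ _ | exact T.rot _ _ _ | exact (T.rot _ _ _).symm
      have e211 : T e2 e1 e1 = T e1 e1 e2 := by
        first | exact T.symm₁ _ _ _ | exact T.symm₂ _ _ _ | exact T.symm₁₃ _ _ _ | exact T.rot _ _ _ | exact (T.rot _ _ _).symm
      have e212 : T e2 e1 e2 = T e1 e2 e2 := by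
        first | exact T.symm₁ _ _ _ | exact T.symm₂ _ _ _ | exact T.symm₁₃ _ _ _ | exact T.rot _ _ _ | exact (T.rot _ _ _).symm
      have e221 : T e2 e2 e1 = T e1 e2 e2 := by
        first | exact T.symm₁ _ _ _ | exact T.symm₂ _ _ _ | exact T.symm₁₃ _ _ _ | exact T.rot _ _ _ | exact (T.rot _ _ _).symm
      simp [GrothLib.CubicForm.Tri.cube, e010, e100, e020, e200, e101, e110, e021, e102, e120, e201, e210, e202, e220, e121, e211, e212, e221]
      ring
    let p : Polynomial K := Polynomial.C (T.cube e0) * Polynomial.X ^ 6 +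
      Polynomial.C (3 * T e0 e0 e1) * Polynomial.X ^ 5 +
      Polynomial.C (3 * T e0 e0 e2 + 3 * T e0 e1 e1) * Polynomial.X ^ 4 +
      Polynomial.C (T.cube e1 + 6 * T e0 e1 e2) * Polynomial.X ^ 3 +
      Polynomial.C (3 * T e0 e2 e2 + 3 * T e1 e1 e2) * Polynomial.X ^ 2 +
      Polynomial.C (3 * T e1 e2 e2) * Polynomial.X + Polynomial.C (T.cube e2)
    have hp0 : p ≠ 0 := by
      intro h
      have c6 := congrArg (fun q => Polynomial.coeff q 6) h
      have c5 := congrArg (fun q => Polynomial.coeff q 5) h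
      have c4 := congrArg (fun q => Polynomial.coeff q 4) h
      have c3 := congrArg (fun q => Polynomial.coeff q 3) h
      have c2 := congrArg (fun q => Polynomial.coeff q 2) h
      have c1 := congrArg (fun q => Polynomial.coeff q 1) h
      have c0 := congrArg (fun q => Polynomial.coeff q 0) h
      simp only [p, Polynomial.coeff_add, Polynomial.coeff_C_mul_X_pow, Polynomial.coeff_C_mul_X,
        Polynomial.coeff_C, Polynomial.coeff_zero, Nat.reduceEqDiff, if_false, if_true, add_zero,
        zero_add] at c6 c5 c4 c3 c2 c1 c0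
      refine hplane ((3 : K) • ρ - ((3 * T e0 e1 e1) • X + T.cube e1 • Y + (3 * T e1 e1 e2) • Z)) ?_ ?_
      · intro hzero
        have := LinearMap.congr_fun hzero a
        simp [X, Y, Z, hca, hρa] at this
      · intro x hx
        simp only [LinearMap.sub_apply, LinearMap.add_apply, LinearMap.smul_apply, smul_eq_mul] at hx
        have hq' := hqx x
        conv_lhs => rw [hXYZ x]
        rw [hexp, hcw]
        have hqy : T a (X x • e0 + Y x • e1 + Z x • e2) (X x • e0 + Y x • e1 + Z x • e2) = T a x x := by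
          conv_rhs => rw [hXYZ x]
          simp [hTa, hTa']
        rw [hqy, hq']
        linear_combination (X x * Z x - Y x ^ 2) * hx + X x ^ 3 * c6 + X x ^ 2 * Y x * c5 +
          X x ^ 2 * Z x * c4 + X x * Y x * Z x * c3 + X x * Z x ^ 2 * c2 + Y x * Z x ^ 2 * c1 + Z x ^ 3 * c0
    have hdeg : p.natDegree ≤ 6 := by simp only [p]; compute_degree
    let inf : Finset (Submodule K (Fin 4 → K)) := if T.cube e0 = 0 then {Submodule.span K {a, e0}} else ∅
    let S := p.roots.toFinset.image (fun r => Submodule.span K ({a, r ^ 2 • e0 + r • e1 + e2} : Set (Fin 4 → K))) ∪ inf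
    have hcard : S.card ≤ 6 := by
      refine (Finset.card_union_le _ _).trans ?_
      have h1 : (p.roots.toFinset.image (fun r => Submodule.span K ({a, r ^ 2 • e0 + r • e1 + e2} : Set (Fin 4 → K)))).card ≤ p.natDegree :=
        Finset.card_image_le.trans ((Multiset.toFinset_card_le _).trans (Polynomial.card_roots' p))
      by_cases he : T.cube e0 = 0
      · have h2 : p.natDegree ≤ 5 := by
          simp only [p, he, map_zero, zero_mul, zero_add]; compute_degree
        have h3 : inf.card = 1 := by simp [inf, he]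
        omega
      · have h3 : inf.card = 0 := by simp [inf, he]
        omega
    refine le_trans (Set.encard_le_encard (t := ↑S) ?_) (by rw [Set.encard_coe_eq_coe_finsetCard]; exact_mod_cast hcard)
    rintro U ⟨haU, hU, hFU⟩
    have hc0 := hUcube U hFU
    obtain ⟨u, hu, hua⟩ := GrothLib.CubicForm.exists_mem_notMem_span_singleton (U := U) (by omega) a
    obtain ⟨w, hwdef⟩ : ∃ w, w = X u • e0 + Y u • e1 + Z u • e2 := ⟨_, rfl⟩
    have hwU : w ∈ U := by
      have : w = u - ρ u • a := by rw [hwdef, eq_sub_iff_add_eq, add_comm]; exact (hXYZ u).symm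
      rw [this]; exact sub_mem hu (U.smul_mem _ haU)
    have hcu : X u * Z u - Y u ^ 2 = 0 := by
      rw [← hqx]; exact T.eq_zero_of_cube_eq_zero U hc0 haU hu hu
    have hcw0 : T.cube w = 0 := hc0 w hwU
    rw [hwdef, hcw] at hcw0
    have hw0 : ¬ (X u = 0 ∧ Y u = 0 ∧ Z u = 0) := by
      rintro ⟨e, e', e''⟩
      apply hua
      rw [hXYZ u, e, e', e'']
      simp [Submodule.mem_span_singleton]
    rw [Finset.coe_union, Set.mem_union, Finset.mem_coe, Finset.mem_coe]
    by_cases hz : Z u = 0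
    · have hy : Y u = 0 := by
        rw [hz, mul_zero, zero_sub, neg_eq_zero] at hcu
        exact pow_eq_zero_iff two_ne_zero |>.mp hcu
      have hx : X u ≠ 0 := fun h => hw0 ⟨h, hy, hz⟩
      rw [hy, hz] at hcw0
      have he : T.cube e0 = 0 := by
        have : T.cube e0 * X u ^ 3 = 0 := by linear_combination hcw0
        exact (mul_eq_zero.mp this).resolve_right (pow_ne_zero 3 hx)
      right
      have hwe : e0 = (X u)⁻¹ • w := by rw [hwdef, hy, hz]; simp [smul_smul, inv_mul_cancel₀ hx]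
      have hea : e0 ∉ Submodule.span K {a} := fun h => by
        apply hua
        rw [hXYZ u, hy, hz]
        simpa using add_mem (Submodule.smul_mem _ (ρ u) (Submodule.mem_span_singleton_self a)) (Submodule.smul_mem _ (X u) h)
      simp only [inf, if_pos he, Finset.mem_singleton]
      exact hline U haU hU e0 (hwe ▸ U.smul_mem _ hwU) hea
    · left
      obtain ⟨r, hr⟩ : ∃ r, r = Y u / Z u := ⟨_, rfl⟩
      have hy : Y u = r * Z u := by rw [hr, div_mul_cancel₀ _ hz]
      have hx : X u = r ^ 2 * Z u := by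
        rw [hy] at hcu
        apply mul_right_cancel₀ hz
        linear_combination hcu
      rw [Finset.mem_image]
      refine ⟨r, ?_, ?_⟩
      · rw [Multiset.mem_toFinset, Polynomial.mem_roots hp0, Polynomial.IsRoot.def]
        rw [hx, hy] at hcw0
        apply mul_left_cancel₀ (pow_ne_zero 3 hz)
        rw [mul_zero]
        simp only [p, Polynomial.eval_add, Polynomial.eval_mul, Polynomial.eval_C, Polynomial.eval_pow, Polynomial.eval_X]
        linear_combination hcw0
      · have hwe : r ^ 2 • e0 + r • e1 + e2 = (Z u)⁻¹ • w := by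
          rw [hwdef, hx, hy]
          match_scalars <;> field_simp
        refine (hline U haU hU _ (hwe ▸ U.smul_mem _ hwU) fun h => hua ?_).symm
        rw [hXYZ u, hx, hy]
        have : (r ^ 2 * Z u) • e0 + (r * Z u) • e1 + Z u • e2 = Z u • (r ^ 2 • e0 + r • e1 + e2) := by
          module
        rw [this]
        exact add_mem (Submodule.smul_mem _ _ (Submodule.mem_span_singleton_self a)) (Submodule.smul_mem _ _ h)
  · -- reducible cone of tangents
    obtain ⟨φ, ψ, hφψ, hφa, hψa⟩ : ∃ φ ψ : (Fin 4 → K) →ₗ[K] K,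
        (∀ x, T a x x = φ x * ψ x) ∧ φ a = 0 ∧ ψ a = 0 := by
      rw [not_and_or, not_and_or] at hA
      push Not at hA
      rcases hA with h | h | h
      · refine ⟨s1 • c 1 + (I * s2) • c 2, s1 • c 1 - (I * s2) • c 2, fun x => ?_, by simp [hca], by simp [hca]⟩
        rw [hq, ← hs0, ← hs1, ← hs2, h]
        simp
        linear_combination (s2 * c 2 x) ^ 2 * hI
      · refine ⟨s0 • c 0 + (I * s2) • c 2, s0 • c 0 - (I * s2) • c 2, fun x => ?_, by simp [hca], by simp [hca]⟩
        rw [hq, ← hs0, ← hs1, ← hs2, h]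
        simp
        linear_combination (s2 * c 2 x) ^ 2 * hI
      · refine ⟨s0 • c 0 + (I * s1) • c 1, s0 • c 0 - (I * s1) • c 1, fun x => ?_, by simp [hca], by simp [hca]⟩
        rw [hq, ← hs0, ← hs1, ← hs2, h]
        simp
        linear_combination (s1 * c 1 x) ^ 2 * hI
    have hthree : ∀ χ : (Fin 4 → K) →ₗ[K] K, χ ≠ 0 → χ a = 0 → (∀ x, χ x = 0 → T a x x = 0) →
        ∃ S : Finset (Submodule K (Fin 4 → K)), S.card ≤ 3 ∧ ∀ U : Submodule K (Fin 4 → K), a ∈ U →
          Module.finrank K ↥U = 2 → (∀ u ∈ U, MvPolynomial.eval u F = 0) →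
          ∀ u ∈ U, u ∉ Submodule.span K {a} → χ u = 0 → U ∈ S := by
      intro χ hχ hχa hχq
      obtain ⟨w, hw0, hw1, hw2, hw3⟩ := GrothLib.CubicTangent.exists_basis χ hχ ha hχa
      obtain ⟨p, q, r, s, m, n, hf⟩ := GrothLib.CubicTangent.exists_cubic_factor (T.cube (w 1))
        (3 * T (w 1) (w 1) (w 2)) (3 * T (w 1) (w 2) (w 2)) (T.cube (w 2))
      have hker : ∀ x, χ x = 0 → x = w.repr x 0 • a + (w.repr x 1 • w 1 + w.repr x 2 • w 2) := by
        intro x hx
        have h := w.sum_repr x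
        rw [Fin.sum_univ_four] at h
        have h3 : w.repr x 3 = 0 := by
          have := congrArg χ h
          rw [map_add, map_add, map_add, map_smul, map_smul, map_smul, map_smul, hw0, hχa, hw1, hw2, hw3, hx] at this
          simpa using this
        rw [h3, zero_smul, add_zero, hw0] at h
        rw [← add_assoc]; exact h.symm
      have hnd : (p ≠ 0 ∨ q ≠ 0) ∧ (r ≠ 0 ∨ s ≠ 0) ∧ (m ≠ 0 ∨ n ≠ 0) := by
        by_contra hcon
        refine hplane χ hχ fun x hx => ?_
        rw [hker x hx, hexp, hχq _ (by simp [hw1, hw2]), mul_zero, zero_add,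
          T.cube_comb]
        have := hf (w.repr x 1) (w.repr x 2)
        rw [not_and_or, not_and_or] at hcon
        push Not at hcon
        rcases hcon with ⟨e, e'⟩ | ⟨e, e'⟩ | ⟨e, e'⟩ <;>
          (rw [e, e'] at this; linear_combination this)
      refine ⟨{Submodule.span K {a, q • w 1 - p • w 2}, Submodule.span K {a, s • w 1 - r • w 2},
        Submodule.span K {a, n • w 1 - m • w 2}}, Finset.card_le_three, fun U haU hU hFU u hu hua hχu => ?_⟩
      obtain ⟨y, hy⟩ : ∃ y, y = w.repr u 1 • w 1 + w.repr u 2 • w 2 := ⟨_, rfl⟩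
      have huy : u = w.repr u 0 • a + y := by rw [hy]; exact hker u hχu
      have hyU : y ∈ U := by
        rw [show y = u - w.repr u 0 • a from eq_sub_of_add_eq' huy.symm]
        exact sub_mem hu (U.smul_mem _ haU)
      have hya : y ∉ Submodule.span K {a} := fun h => hua (huy ▸
        add_mem (Submodule.smul_mem _ _ (Submodule.mem_span_singleton_self a)) h)
      have hy0 : T.cube y = 0 := hUcube U hFU y hyU
      rw [hy, T.cube_comb] at hy0
      have hprod : (p * w.repr u 1 + q * w.repr u 2) * (r * w.repr u 1 + s * w.repr u 2) *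
          (m * w.repr u 1 + n * w.repr u 2) = 0 := by
        rw [← hf]; linear_combination hy0
      have key : ∀ p q : K, (p ≠ 0 ∨ q ≠ 0) → p * w.repr u 1 + q * w.repr u 2 = 0 →
          U = Submodule.span K {a, q • w 1 - p • w 2} := by
        intro p q hpq h
        obtain ⟨l, h1, h2⟩ := GrothLib.CubicTangent.exists_smul_of_eq_zero hpq h
        have hl : y = l • (q • w 1 - p • w 2) := by
          rw [hy, h1, h2]; module
        have hl0 : l ≠ 0 := fun e => hya (by rw [hl, e, zero_smul]; exact zero_mem _)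
        refine hline U haU hU _ ?_ fun h' => hya (hl ▸ Submodule.smul_mem _ l h')
        rw [show q • w 1 - p • w 2 = l⁻¹ • y by rw [hl, inv_smul_smul₀ hl0]]
        exact U.smul_mem _ hyU
      simp only [Finset.mem_insert, Finset.mem_singleton]
      rcases mul_eq_zero.mp hprod with h | h
      · rcases mul_eq_zero.mp h with h | h
        · exact Or.inl (key p q hnd.1 h)
        · exact Or.inr (Or.inl (key r s hnd.2.1 h))
      · exact Or.inr (Or.inr (key m n hnd.2.2 h))
    have hφ0 : φ ≠ 0 := fun h => hnz fun x => by rw [hφψ, h, LinearMap.zero_apply, zero_mul]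
    have hψ0 : ψ ≠ 0 := fun h => hnz fun x => by rw [hφψ, h, LinearMap.zero_apply, mul_zero]
    obtain ⟨S₁, hS₁, hS₁'⟩ := hthree φ hφ0 hφa fun x hx => by rw [hφψ, hx, zero_mul]
    obtain ⟨S₂, hS₂, hS₂'⟩ := hthree ψ hψ0 hψa fun x hx => by rw [hφψ, hx, mul_zero]
    refine le_trans (Set.encard_le_encard (t := ↑(S₁ ∪ S₂)) ?_) ?_
    · rintro U ⟨haU, hU, hFU⟩
      obtain ⟨u, hu, hua⟩ := GrothLib.CubicForm.exists_mem_notMem_span_singleton (U := U) (by omega) a
      have h0 := T.eq_zero_of_cube_eq_zero U (hUcube U hFU) haU hu hu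
      rw [hφψ, mul_eq_zero] at h0
      rw [Finset.coe_union, Set.mem_union]
      exact h0.imp (hS₁' U haU hU hFU u hu hua) (hS₂' U haU hU hFU u hu hua)
    · rw [Set.encard_coe_eq_coe_finsetCard]
      exact_mod_cast (Finset.card_union_le _ _).trans (by omega)

end Groth.Agent.S16347
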