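import Groth.Statements.S15524
import Mathlib.Analysis.SpecialFunctions.Pow.Real
import Groth.Agent.Lib.Elem.PowerSumBound

set_option autoImplicit false
open Finset
open Zeta

namespace Groth.Agent.S15524

/-- Let q ≥ 1 and let α_1, …, α_{2g} be complex numbers permuted by α ↦ q/α, i.e. α_{σ(i)} α_i = q for a
permutation σ of the indices; these play the role of the inverse roots of the numerator of the zeta
function of a curve over a field with q elements, for which #X(F_{q^N}) = q^N + 1 − Σ_i α_i^N. If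
for some d ≥ 1 and real C one has |Σ_i α_i^{dN}| ≤ C q^{dN/2} for every N ≥ 1, then |α_i|^2 = q for
every i (the Riemann hypothesis for the curve). -/
theorem result {g : ℕ} (q : ℕ) (hq : 0 < q)
    (α : Fin (2 * g) → ℂ) (σ : Equiv.Perm (Fin (2 * g))) (hσ : ∀ i, α (σ i) * α i = q)
    (d : ℕ) (hd : 0 < d) (C : ℝ)
    (hC : ∀ N : ℕ, 1 ≤ N → ‖∑ i, α i ^ (d * N)‖ ≤ C * (q : ℝ) ^ ((d : ℝ) * N / 2))
    (i : Fin (2 * g)) : ‖α i‖ ^ 2 = q := by
  set r : ℝ := (q : ℝ) ^ ((d : ℝ) / 2) with hr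
  have hq' : (0 : ℝ) < q := Nat.cast_pos.2 hq
  have hrpos : 0 < r := Real.rpow_pos_of_pos hq' _
  have hb : ∀ j, ‖α j‖ ^ 2 ≤ q := by
    intro j
    have h := GrothLib.Elem.norm_le_one_of_powerSum_bounded (fun l => α l ^ d / (r : ℂ)) C (fun N hN => by
      simp only [div_pow, ← pow_mul, ← Finset.sum_div, norm_div, norm_pow, Complex.norm_real, Real.norm_eq_abs,
        abs_of_pos hrpos]
      rw [div_le_iff₀ (pow_pos hrpos _)]
      refine (hC N hN).trans (le_of_eq ?_)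
      rw [hr, ← Real.rpow_mul_natCast hq'.le, div_mul_eq_mul_div]) j
    rw [norm_div, norm_pow, Complex.norm_real, Real.norm_eq_abs, abs_of_pos hrpos, div_le_one hrpos] at h
    have h2 : (‖α j‖ ^ 2) ^ d ≤ (q : ℝ) ^ d := by
      calc (‖α j‖ ^ 2) ^ d = (‖α j‖ ^ d) ^ 2 := by rw [← pow_mul, ← pow_mul, mul_comm]
        _ ≤ r ^ 2 := by gcongr
        _ = (q : ℝ) ^ d := by rw [hr, ← Real.rpow_mul_natCast hq'.le, Nat.cast_ofNat,
            div_mul_cancel₀ _ (two_ne_zero), Real.rpow_natCast]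
    exact le_of_pow_le_pow_left₀ hd.ne' hq'.le h2
  refine le_antisymm (hb i) ?_
  have h1 : ‖α (σ i)‖ ^ 2 * ‖α i‖ ^ 2 = (q : ℝ) * q := by
    rw [← mul_pow, ← norm_mul, hσ, Complex.norm_natCast, sq]
  by_contra hlt
  have h2 : ‖α (σ i)‖ ^ 2 * ‖α i‖ ^ 2 < (q : ℝ) * q :=
    lt_of_le_of_lt (mul_le_mul_of_nonneg_right (hb _) (sq_nonneg _))
      (mul_lt_mul_of_pos_left (not_le.1 hlt) hq')
  exact h2.ne h1

end Groth.Agent.S15524
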