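import Groth.Statements.S10908
import Groth.Agent.Lib.Hyperplane.GlobalSections
import Mathlib.RingTheory.GradedAlgebra.Radical
import Mathlib.RingTheory.IntegralClosure.IntegrallyClosed
-- import your own Groth.Agent.* helpers here

set_option autoImplicit false
universe u
open ProjDeg

namespace Groth.Agent.S10908

set_option backward.isDefEq.respectTransparency false in
open AlgebraicGeometry TopologicalSpace GrothLib.Hyperplane GrothLib.Ample.ProjTwist DirectSum in
theorem global_sections {R A : Type u} [CommRing R] [CommRing A] [IsDomain A]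
    [IsNoetherianRing A] [Algebra R A] (𝒜 : ℕ → Submodule R A) [GradedAlgebra 𝒜]
    (hgen : ∀ i : ℕ, 𝒜 1 * 𝒜 i = 𝒜 (i + 1)) (h1 : 𝒜 1 ≠ ⊥) (hint : IsIntegrallyClosed A) (d : ℕ) :
    Function.Bijective (fun a : ↥(𝒜 d) => gsec 𝒜 a.1 a.2) := by
  classical
  obtain ⟨x₀, hx₀, hx₀0⟩ := Submodule.exists_mem_ne_zero_of_ne_bot h1
  let η : Proj 𝒜 := ⟨⊥, Ideal.isPrime_bot,
    fun h => hx₀0 (Ideal.mem_bot.1 (h (HomogeneousIdeal.mem_irrelevant_of_mem _ one_pos hx₀)))⟩
  haveI : Nonempty (Proj 𝒜) := ⟨η⟩
  refine ⟨fun a b h => Subtype.ext (gsec_injective a.2 b.2 h), fun m => ?_⟩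
  choose V hyV p q a f nin ha hf hdeg hval using exists_local_frac (𝒜 := 𝒜) (d := d) m
  have hη : ∀ (y : Proj 𝒜), η ∈ V y := fun y => by
    have hs : η ⤳ y := by
      rw [specializes_iff_mem_closure]
      exact (ProjectiveSpectrum.le_iff_mem_closure 𝒜 η y).mp (bot_le : (⊥ : HomogeneousIdeal 𝒜) ≤ _)
    exact hs.mem_open (V y).2 (hyV y)
  have hf0 : ∀ y, f y ≠ 0 := fun y h => nin y ⟨η, hη y⟩ (show f y ∈ (⊥ : Ideal A) from Ideal.mem_bot.2 h)
  have hcross : ∀ y y', a y * f y' = a y' * f y := by
    intro y y'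
    have h := (hval y ⟨η, hη y⟩).symm.trans (hval y' ⟨η, hη y'⟩)
    rw [Localization.mk_eq_mk_iff, Localization.r_iff_exists] at h
    obtain ⟨c, hc⟩ := h
    have hc0 : (c : A) ≠ 0 := fun h0 => c.2 (show (c : A) ∈ (⊥ : Ideal A) from Ideal.mem_bot.2 h0)
    have := mul_left_cancel₀ hc0 hc
    simp only at this
    rw [mul_comm (a y), mul_comm (a y')]
    exact this
  let K := FractionRing A
  let φ := algebraMap A K
  have hφ : Function.Injective φ := IsFractionRing.injective A K
  let z : K := φ (a η) / φ (f η)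
  have hz : ∀ y, φ (f y) * z = φ (a y) := by
    intro y
    have : φ (f η) ≠ 0 := fun h => hf0 η (hφ (h.trans (map_zero φ).symm))
    simp only [z]
    rw [mul_div_assoc', div_eq_iff this, ← map_mul, ← map_mul, hcross y η, mul_comm]
  -- the denominators
  let T : Ideal A := Ideal.span (Set.range f)
  have hT : T.IsHomogeneous 𝒜 := Ideal.homogeneous_span _ _ (by rintro _ ⟨y, rfl⟩; exact ⟨_, hf y⟩)
  have hTz : ∀ c ∈ T, ∃ b : A, φ c * z = φ b := by
    intro c hc
    induction hc using Submodule.span_induction with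
    | mem c hc => obtain ⟨y, rfl⟩ := hc; exact ⟨a y, hz y⟩
    | zero => exact ⟨0, by simp⟩
    | add c c' _ _ h h' =>
      obtain ⟨b, hb⟩ := h
      obtain ⟨b', hb'⟩ := h'
      exact ⟨b + b', by rw [map_add, add_mul, hb, hb', map_add]⟩
    | smul r c _ h =>
      obtain ⟨b, hb⟩ := h
      exact ⟨r * b, by rw [smul_eq_mul, map_mul, mul_assoc, hb, map_mul]⟩
  let I : Ideal A := Ideal.span (𝒜 1 : Set A)
  have hIrad : I ≤ T.radical := by
    rw [hT.radical_eq]
    refine le_sInf fun P ⟨hPh, hTP, hP⟩ => Ideal.span_le.2 fun x hx => ?_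
    by_contra hxP
    let y : Proj 𝒜 := ⟨⟨P, hPh⟩, hP, fun h => hxP (h (HomogeneousIdeal.mem_irrelevant_of_mem _ one_pos hx))⟩
    exact nin y ⟨y, hyV y⟩ (hTP (Ideal.subset_span ⟨y, rfl⟩))
  obtain ⟨M, hM⟩ := Ideal.exists_pow_le_of_le_radical_of_fg hIrad (IsNoetherian.noetherian I)
  have hpow : ∀ i, (𝒜 i : Set A) ⊆ (I ^ i : Ideal A) := by
    intro i
    induction i with
    | zero => intro x _; rw [pow_zero, Ideal.one_eq_top]; trivial
    | succ i ih =>
      intro x hx
      rw [SetLike.mem_coe, ← hgen i] at hx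
      refine Submodule.mul_induction_on hx (fun u hu v hv => ?_) (fun u v hu hv => ?_)
      · rw [SetLike.mem_coe, pow_succ']
        exact Ideal.mul_mem_mul (Ideal.subset_span hu) (ih hv)
      · exact add_mem hu hv
  let J : Ideal A := Ideal.span (𝒜 M : Set A)
  have hJ : ∀ i, (𝒜 (i + M) : Set A) ⊆ J := by
    intro i
    induction i with
    | zero => rw [Nat.zero_add]; exact Ideal.subset_span
    | succ i ih =>
      intro x hx
      rw [show i + 1 + M = (i + M) + 1 by omega, SetLike.mem_coe, ← hgen (i + M)] at hx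
      refine Submodule.mul_induction_on hx (fun u hu v hv => ?_) (fun u v hu hv => ?_)
      · exact J.mul_mem_left u (ih hv)
      · exact add_mem hu hv
  -- a homogeneous fraction of known degree
  have homog : ∀ (b g : A) (i j : ℕ), g ∈ 𝒜 j → g ≠ 0 → b * g ∈ 𝒜 (i + j) → b ∈ 𝒜 i := by
    intro b g i j hg hg0 hbg
    have hb : ∀ l, l ≠ i → (decompose 𝒜 b l : A) = 0 := by
      intro l hl
      have h := coe_decompose_mul_add_of_right_mem 𝒜 (a := b) (i := l) hg
      rw [decompose_of_mem_ne 𝒜 hbg (by omega)] at h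
      exact (mul_eq_zero.1 h.symm).resolve_right hg0
    rw [← sum_support_decompose 𝒜 b]
    refine sum_mem fun l _ => ?_
    by_cases hl : l = i
    · exact hl ▸ (decompose 𝒜 b l).2
    · rw [hb l hl]; exact zero_mem _
  have hadeg : ∀ y, a y ∈ 𝒜 (q y + d) := by
    intro y
    rcases hdeg y with h | h
    · exact h ▸ ha y
    · rw [h]; exact zero_mem _
  have hzJ : ∀ c ∈ J, ∃ b ∈ J, φ c * z = φ b := by
    intro c hc
    induction hc using Submodule.span_induction with
    | mem c hc =>
      obtain ⟨b, hb⟩ := hTz c (hM (hpow M hc))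
      refine ⟨b, hJ d ?_, hb⟩
      refine homog b (f η) (d + M) (q η) (hf η) (hf0 η) ?_
      have : b * f η = c * a η := hφ (by rw [map_mul, map_mul, ← hb, ← hz η]; ring)
      rw [this, show d + M + q η = M + (q η + d) by omega]
      exact SetLike.mul_mem_graded hc (hadeg η)
    | zero => exact ⟨0, zero_mem _, by simp⟩
    | add c c' _ _ h h' =>
      obtain ⟨b, hbJ, hb⟩ := h
      obtain ⟨b', hbJ', hb'⟩ := h'
      exact ⟨b + b', add_mem hbJ hbJ', by rw [map_add, add_mul, hb, hb', map_add]⟩
    | smul r c _ h =>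
      obtain ⟨b, hbJ, hb⟩ := h
      exact ⟨r * b, J.mul_mem_left r hbJ, by rw [smul_eq_mul, map_mul, mul_assoc, hb, map_mul]⟩
  have hzint : IsIntegral A z := by
    refine isIntegral_of_smul_mem_submodule (Submodule.map (Algebra.linearMap A K) J) ?_
      ((IsNoetherian.noetherian J).map _) z ?_
    · intro hbot
      have hxM : x₀ ^ M ∈ J := Ideal.subset_span (by
        have := SetLike.pow_mem_graded M hx₀
        rwa [smul_eq_mul, mul_one] at this)
      have := Submodule.mem_map_of_mem (f := Algebra.linearMap A K) hxM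
      rw [hbot, Submodule.mem_bot] at this
      exact pow_ne_zero M hx₀0 (hφ (this.trans (map_zero φ).symm))
    · rintro _ ⟨c, hc, rfl⟩
      obtain ⟨b, hbJ, hb⟩ := hzJ c hc
      exact ⟨b, hbJ, by rw [Algebra.linearMap_apply, Algebra.linearMap_apply, smul_eq_mul, mul_comm]; exact hb.symm⟩
  obtain ⟨w, hw⟩ := IsIntegrallyClosed.isIntegral_iff.1 hzint
  have hwf : ∀ y, w * f y = a y := fun y => hφ (by rw [map_mul, ← hz y, ← hw, mul_comm])
  have hwd : w ∈ 𝒜 d := homog w (f η) d (q η) (hf η) (hf0 η) (by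
    rw [hwf, Nat.add_comm]; exact hadeg η)
  refine ⟨⟨w, hwd⟩, evT_ext fun x => ?_⟩
  refine Eq.trans ?_ (hval x.1 ⟨x.1, hyV x.1⟩).symm
  rw [evT_gsec, ← Localization.mk_one_eq_algebraMap, Localization.mk_eq_mk_iff, Localization.r_iff_exists]
  refine ⟨1, ?_⟩
  simp only [OneMemClass.coe_one, one_mul]
  rw [mul_comm, hwf]

/-- Let S be a Noetherian graded integral domain, graded by the natural numbers as an algebra over a
ring R, generated by its degree-one part over S_0 (S_1 S_i = S_{i+1}) with S_1 ≠ 0, and integrally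
closed in its field of fractions (so that X = Proj S is projectively normal). Then for every d ≥ 0
the canonical map from S_d to the global sections of the twisting sheaf O_X(d), sending a to the
section a/1, is bijective. (The underlying lemma: every global section of O_X(d) is an element of
the homogeneous fraction ring integral over S.) (The published corollary takes the degree-zero part
to be a finitely generated algebra over a field; this row assumes only that the ring is Noetherian,
which is all the argument uses.) -/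
theorem result {R A : Type u} [CommRing R] [CommRing A] [IsDomain A]
    [IsNoetherianRing A] [Algebra R A] (𝒜 : ℕ → Submodule R A) [GradedAlgebra 𝒜]
    (hgen : ∀ i : ℕ, 𝒜 1 * 𝒜 i = 𝒜 (i + 1)) (h1 : 𝒜 1 ≠ ⊥) (hint : IsIntegrallyClosed A) (d : ℕ) :
    Function.Bijective (fun a : ↥(𝒜 d) => Twist.globalOf 𝒜 a) :=
  global_sections 𝒜 hgen h1 hint d

end Groth.Agent.S10908
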