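import Groth.Statements.S18918
import Groth.Agent.Lib.FEt21.Basic
import Groth.Agent.Lib.FinCov.Frame
import Groth.Agent.Lib.EtBasicB.Sections

set_option autoImplicit false
universe u
open CategoryTheory CategoryTheory.Limits AlgebraicGeometry
open FEt

namespace Groth.Agent.S18918

theorem finrank_eq_of_pushforward {X Y : Scheme.{u}} (f : X ⟶ Y) [IsFinite f] [Flat f] (n : ℕ)
    (hdeg : FlatMod.IsFinLocFreeOfRank n ((Scheme.Modules.pushforward f).obj (Coh.structureModule X)))
    (y : Y) : f.finrank y = n := by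
  obtain ⟨U, e, hyU, he⟩ := GrothLib.FinCov.exists_frame_nhd_of_rank hdeg y
  obtain ⟨_, ⟨W, hW, rfl⟩, hyW, hWU⟩ :=
    Y.isBasis_affineOpens.exists_subset_of_mem_open (show y ∈ U from hyU) U.2
  replace hW : IsAffineOpen W := hW
  algebraize [(f.app W).hom]
  let b : Module.Basis (Fin n) Γ(Y, W) Γ(X, f ⁻¹ᵁ W) := he.basis W hWU
  have hb : Module.Free Γ(Y, W) Γ(X, f ⁻¹ᵁ W) := Module.Free.of_basis b
  have : Module.Finite Γ(Y, W) Γ(X, f ⁻¹ᵁ W) := Module.Finite.of_basis b
  let p := hW.primeIdealOf ⟨y, hyW⟩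
  have : Nontrivial Γ(Y, W) := PrimeSpectrum.nonempty_iff_nontrivial.1 ⟨p⟩
  have sq : IsPullback ((hW.preimage f).fromSpec) (Spec.map (f.app W)) f hW.fromSpec := by
    refine (IsOpenImmersion.isPullback _ _ _ _ ?_ ?_).flip
    · rw [Scheme.Hom.app_eq_appLE]
      exact (IsAffineOpen.SpecMap_appLE_fromSpec f hW (hW.preimage f) le_rfl).symm
    · rw [IsAffineOpen.opensRange_fromSpec, IsAffineOpen.opensRange_fromSpec]
  rw [show y = hW.fromSpec p from (hW.fromSpec_primeIdealOf ⟨y, hyW⟩).symm,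
    ← Scheme.Hom.finrank_of_isPullback _ _ _ _ sq p]
  refine (Scheme.Hom.finrank_SpecMap_algebraMap Γ(Y, W) Γ(X, f ⁻¹ᵁ W) p).trans ?_
  rw [Module.rankAtStalk_eq_finrank_of_free]
  exact (Module.finrank_eq_card_basis b).trans (Fintype.card_fin n)

section
variable {E T : Scheme.{u}} (p : E ⟶ T) [Etale p] [IsSeparated p] [ConnectedSpace T]

omit [ConnectedSpace T] in
theorem isClopen_range {s : T ⟶ E} (hs : s ≫ p = 𝟙 T) : IsClopen (Set.range s.base) :=
  GrothLib.EtBasicB.isClopen_range_section p s hs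

theorem section_eq_of_mem {s t : T ⟶ E} (hs : s ≫ p = 𝟙 T) (ht : t ≫ p = 𝟙 T)
    (e : E) (h1 : e ∈ Set.range s.base) (h2 : e ∈ Set.range t.base) : s = t := by
  refine GrothLib.EtBasicB.section_ext p hs ht (Set.Subset.antisymm ?_ ?_)
  · exact (isPreconnected_range t.continuous).subset_isClopen (isClopen_range p hs) ⟨e, h2, h1⟩
  · exact (isPreconnected_range s.continuous).subset_isClopen (isClopen_range p ht) ⟨e, h1, h2⟩

end

theorem count {E T : Scheme.{u}} (p : E ⟶ T) [IsFinite p] [Etale p] [ConnectedSpace T] (n : ℕ)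
    (hn : ∀ t, p.finrank t = n) :
    Finite {s : T ⟶ E // s ≫ p = 𝟙 T} ∧ Nat.card {s : T ⟶ E // s ≫ p = 𝟙 T} ≤ n ∧
      (Nat.card {s : T ⟶ E // s ≫ p = 𝟙 T} = n ↔
        ∃ e : E ≅ ∐ fun _ : Fin n => T, e.hom ≫ Sigma.desc (fun _ : Fin n => 𝟙 T) = p) := by
  obtain ⟨t₀⟩ : Nonempty T := inferInstance
  let Z : FEt.Cat T := MorphismProperty.Over.mk ⊤ p (GrothLib.FEt21.prop_of p)
  let ξ := GrothLib.FEt21.geomPt T t₀
  have hcard : Nat.card (FEt.fiberObj ξ Z) = n := (GrothLib.FEt21.card_fiber ξ Z).trans (hn _)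
  let ev : {s : T ⟶ E // s ≫ p = 𝟙 T} → FEt.fiberObj ξ Z := fun s =>
    ⟨ξ ≫ s.1, (Category.assoc _ _ _).trans ((congrArg (ξ ≫ ·) s.2).trans (Category.comp_id _))⟩
  have hinj : Function.Injective ev := fun a b h => Subtype.ext (by
    have h' : ξ ≫ a.1 = ξ ≫ b.1 := congrArg Subtype.val h
    exact section_eq_of_mem p a.2 b.2 (a.1 (ξ default)) ⟨_, rfl⟩
      ⟨ξ default, by rw [← Scheme.Hom.comp_apply, ← h', Scheme.Hom.comp_apply]⟩)
  have hle : Nat.card {s : T ⟶ E // s ≫ p = 𝟙 T} ≤ n :=
    (Nat.card_le_card_of_injective ev hinj).trans hcard.le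
  have hfin : Finite {s : T ⟶ E // s ≫ p = 𝟙 T} := Finite.of_injective ev hinj
  refine ⟨hfin, hle, fun h => ?_, fun ⟨e, he⟩ => le_antisymm hle ?_⟩
  · have hsurj : Function.Surjective ev :=
      (hinj.bijective_of_nat_card_le (hcard.trans h.symm).le).2
    let q : Fin n ≃ {s : T ⟶ E // s ≫ p = 𝟙 T} := (Finite.equivFinOfCardEq h).symm
    have hoi : ∀ i, IsOpenImmersion (q i).1 := fun i =>
      GrothLib.EtBasicB.isOpenImmersion_section p _ (q i).2
    let F : (∐ fun _ : Fin n => T) ⟶ E := Sigma.desc fun i => (q i).1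
    have : IsOpenImmersion F := isOpenImmersion_sigmaDesc _ _ fun i j hij => by
      refine Set.disjoint_left.2 fun x hi hj => hij (q.injective (Subtype.ext ?_))
      exact section_eq_of_mem p (q i).2 (q j).2 x hi hj
    have : Surjective F := by
      refine ⟨fun x => ?_⟩
      by_contra hx
      let W : E.Opens := ⟨(⋃ i, Set.range (q i).1.base)ᶜ,
        (isClosed_iUnion_of_finite fun i => (isClopen_range p (q i).2).1).isOpen_compl⟩
      have hW : IsClosed (W : Set E) :=
        (isOpen_iUnion fun i => (isClopen_range p (q i).2).2).isClosed_compl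
      have hxW : x ∈ W := by
        refine fun hx' => ?_
        obtain ⟨i, t, ht⟩ := Set.mem_iUnion.1 hx'
        exact hx ⟨Sigma.ι (fun _ : Fin n => T) i t, by
          rw [← Scheme.Hom.comp_apply, Sigma.ι_desc]; exact ht⟩
      obtain ⟨t⟩ := GrothLib.FEt21.nonempty_fiber ξ
        (GrothLib.FEt21.mkOf Z W.ι (GrothLib.FEt21.prop_ι W hW)) ⟨x, hxW⟩
      obtain ⟨s, hs⟩ := hsurj ⟨t.1 ≫ W.ι, (Category.assoc _ _ _).trans t.2⟩
      refine (t.1 default).2 (Set.mem_iUnion.2 ⟨q.symm s, ξ default, ?_⟩)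
      rw [q.apply_symm_apply]
      exact congrArg (fun g : Spec (CommRingCat.of _) ⟶ E => g default) (congrArg Subtype.val hs)
    have : Epi F.base := (TopCat.epi_iff_surjective _).2 F.surjective
    have : IsIso F := (IsOpenImmersion.isIso F)
    refine ⟨(asIso F).symm, ?_⟩
    rw [Iso.symm_hom, asIso_inv, IsIso.inv_comp_eq]
    exact Sigma.hom_ext _ _ fun i => by
      rw [Sigma.ι_desc, Sigma.ι_desc_assoc]; exact (q i).2.symm
  · let g : Fin n → {s : T ⟶ E // s ≫ p = 𝟙 T} := fun i =>
      ⟨Sigma.ι (fun _ : Fin n => T) i ≫ e.inv, by rw [← he]; simp⟩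
    have hg : Function.Injective g := fun i j h => by
      have h1 : Sigma.ι (fun _ : Fin n => T) i = Sigma.ι (fun _ : Fin n => T) j := by
        rw [← cancel_mono e.inv]; exact congrArg Subtype.val h
      by_contra hij
      exact Set.disjoint_left.1 (TopologicalSpace.Opens.coe_disjoint.2
        (disjoint_opensRange_sigmaι (fun _ : Fin n => T) i j hij))
        ⟨t₀, rfl⟩ ⟨t₀, by rw [h1]⟩
    simpa using Nat.card_le_card_of_injective g hg

/-- Let f : X → Y be a finite étale morphism of degree n (f_*O_X locally free of rank n) and φ : X' → Y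
a morphism from a nonempty connected scheme X'. Then the Y-morphisms X' → X (equivalently, the
sections of X ×_Y X' → X') form a finite set with at most n elements, and there are exactly n of
them if and only if the covering X ×_Y X' → X' is trivial, i.e. X ×_Y X' is isomorphic over X' to
the disjoint union of n copies of X'. The source works with separated Noetherian schemes over an
algebraically closed field of characteristic zero; that setting is not needed for the statement. -/
theorem result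
    {X Y X' : Scheme.{u}} (f : X ⟶ Y) [IsFinite f] [Etale f] (n : ℕ)
    (hdeg : FlatMod.IsFinLocFreeOfRank n ((Scheme.Modules.pushforward f).obj (Coh.structureModule X)))
    (φ : X' ⟶ Y) [Nonempty X'] [ConnectedSpace X'] :
    Finite (Over.mk φ ⟶ Over.mk f) ∧ Nat.card (Over.mk φ ⟶ Over.mk f) ≤ n ∧
      (Nat.card (Over.mk φ ⟶ Over.mk f) = n ↔
        ∃ e : pullback f φ ≅ ∐ fun _ : Fin n => X',
          e.hom ≫ Sigma.desc (fun _ : Fin n => 𝟙 X') = pullback.snd f φ) := by
  let q : (Over.mk φ ⟶ Over.mk f) ≃ {s : X' ⟶ pullback f φ // s ≫ pullback.snd f φ = 𝟙 X'} :=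
    { toFun := fun g => ⟨pullback.lift g.left (𝟙 X') (by rw [Category.id_comp]; exact Over.w g),
        pullback.lift_snd _ _ _⟩
      invFun := fun s => Over.homMk (s.1 ≫ pullback.fst f φ) (by
        show (s.1 ≫ pullback.fst f φ) ≫ f = φ
        rw [Category.assoc, pullback.condition, ← Category.assoc, s.2, Category.id_comp])
      left_inv := fun g => Over.OverMorphism.ext (pullback.lift_fst _ _ _)
      right_inv := fun s => Subtype.ext (pullback.hom_ext (pullback.lift_fst _ _ _)
        ((pullback.lift_snd _ _ _).trans s.2.symm)) }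
  obtain ⟨h1, h2, h3⟩ := count (pullback.snd f φ) n fun t => by
    rw [Scheme.Hom.finrank_pullback_snd]
    exact finrank_eq_of_pushforward f n hdeg _
  rw [Nat.card_congr q]
  exact ⟨Finite.of_equiv _ q.symm, h2, h3⟩

end Groth.Agent.S18918
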