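import Groth.Statements.S0219
import Groth.Agent.Lib.CurvePoints.Basic
import Mathlib.AlgebraicGeometry.Morphisms.QuasiFinite
import Mathlib.AlgebraicGeometry.Morphisms.Proper
import Mathlib.AlgebraicGeometry.ZariskisMainTheorem

set_option autoImplicit false
universe u
open CategoryTheory CategoryTheory.Limits AlgebraicGeometry TopologicalSpace
open Curves

namespace Groth.Agent.S0219

/-- A morphism over a field from a proper scheme of dimension at most one to a separated scheme, which
does not contract any one-dimensional irreducible component to a point, is finite. -/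
theorem result (k : Type u) [Field k] (X Y : Scheme.{u}) (p : X ⟶ Spec (CommRingCat.of k)) (q : Y ⟶ Spec (CommRingCat.of k))
    [IsProper p] [IsSeparated q] (f : X ⟶ Y) (hf : f ≫ q = p) (hdim : topologicalKrullDim X ≤ 1)
    (h : ∀ Z ∈ irreducibleComponents (X : Type u), topologicalKrullDim Z = 1 → (f.base '' Z).Nontrivial) :
    IsFinite f := by
  have : IsLocallyNoetherian X := LocallyOfFiniteType.isLocallyNoetherian p
  have : CompactSpace X := QuasiCompact.compactSpace_of_compactSpace p
  have : IsNoetherian X := {}
  have : TopologicalSpace.NoetherianSpace X := inferInstance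
  have : IsProper (f ≫ q) := hf ▸ inferInstance
  have : IsProper f := IsProper.of_comp f q
  have hfin : ∀ y : Y, (f ⁻¹' {y}).Finite := by
    intro y
    refine Set.Finite.subset ((TopologicalSpace.NoetherianSpace.finite_irreducibleComponents (α := ↥X)).biUnion
      (t := fun Z => f ⁻¹' {y} ∩ Z) fun Z hZ => ?_) (fun x hx => Set.mem_biUnion
      (irreducibleComponent_mem_irreducibleComponents x) ⟨hx, mem_irreducibleComponent⟩)
    exact GrothLib.CurvePoints.finite_fibre_inter hdim f hZ (h Z hZ) y
  rw [IsFinite.iff_isProper_and_locallyQuasiFinite]
  exact ⟨inferInstance, LocallyQuasiFinite.of_finite_preimage_singleton f hfin⟩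

end Groth.Agent.S0219
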