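import Groth.Statements.S7640
import Groth.Agent.Lib.Snapper.PushTop
import Groth.Agent.Lib.Snapper.Degree

set_option autoImplicit false
universe u
open CategoryTheory CategoryTheory.Limits AlgebraicGeometry
open Variety

namespace Groth.Agent.S7640

/-- Let k be a field, let X and Y be proper curves over k (integral, proper over k, of dimension one)
and let f : X → Y be a morphism over k that is not constant, i.e. sends the generic point of X to
that of Y. For a finite locally free module E of rank n on Y, the degree of f^*E is deg(X/Y) ·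
deg(E), where deg(X/Y) is the degree of the function field of X over that of Y. -/
theorem result (k : Type u) [Field k] (X Y : Scheme.{u})
    [X.Over (Spec (CommRingCat.of k))] [Y.Over (Spec (CommRingCat.of k))] [IsIntegral X] [IsIntegral Y]
    [IsProper (X ↘ (Spec (CommRingCat.of k)))] [IsProper (Y ↘ (Spec (CommRingCat.of k)))]
    (hX : topologicalKrullDim X = 1) (hY : topologicalKrullDim Y = 1)
    (f : X ⟶ Y) (hf : f ≫ (Y ↘ (Spec (CommRingCat.of k))) = X ↘ (Spec (CommRingCat.of k)))
    (hξ : f.base (genericPoint X) = genericPoint Y)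
    (n : ℕ) (E : Y.Modules) (hE : FlatMod.IsFinLocFreeOfRank n E) :
    Curv2.deg k X ((Scheme.Modules.pullback f).obj E) n =
      (f.residueDegree (genericPoint X) : ℤ) * Curv2.deg k Y E n := by
    have := GrothLib.Euler.isNoetherian_of_proper (X := Y) k
    haveI : EnoughInjectives X.Modules := GrothLib.SheafCoh.enoughInjectives_sheafOfModules X.ringCatSheaf
    let η := genericPoint Y
    have htop : GrothLib.Snapper.IsTop 1 η := GrothLib.Snapper.isTop_genericPoint (by exact_mod_cast hY)
    have hX' : topologicalKrullDim X = ((1 : ℕ) : WithBot ℕ∞) := by exact_mod_cast hX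
    let D := GrothLib.Snapper.degFun k E n
    have hsingle : ∀ M : Y.Modules, Coh.IsCoh M → D M = GrothLib.Snapper.mult M η • D (GrothLib.Snapper.ptMod η) := by
      intro M hM
      show GrothLib.Snapper.degFun k E n M = _
      rw [GrothLib.Snapper.degFun_eq_finsum k hY.le hE hM, finsum_eq_single _ η fun x hne =>
        GrothLib.Snapper.topTerm_eq_zero (GrothLib.Snapper.degFun k E n) fun hx _ =>
          hne (hx.eq_of_specializes (genericPoint_specializes x) htop.dimLT).symm,
        GrothLib.Snapper.topTerm_of _ htop]
    have hO : GrothLib.Snapper.mult (Coh.structureModule Y) η = 1 := by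
      rw [GrothLib.Snapper.mult_structure]
      have h1 : Module.length (Y.presheaf.stalk η) (Y.presheaf.stalk η) = 1 :=
        Module.length_eq_one Y.functionField Y.functionField
      rw [h1]
      rfl
    have hdegY : Curv2.deg k Y E n = D (GrothLib.Snapper.ptMod η) := by
      have h := hsingle _ (GrothLib.Euler.isCoh_of_isInvertible GrothLib.Euler.isInvertible_structure)
      rw [hO, one_smul] at h
      rw [← h]
      show _ = Curv2.euler k Y _ - _
      rw [show Curv2.euler k Y ((GrothLib.Euler.tF E).obj (Coh.structureModule Y)) = Curv2.euler k Y E from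
        GrothLib.Euler.euler_of_iso k (GrothLib.OX.tensorUnitLeftIso E)]
      rfl
    obtain ⟨M₀, hM₀⟩ := GrothLib.Snapper.exists_euler_pullback_eq_sum (X := Y) (Z := X) (g := f) hf
    let R := fun i => (Coh.Rpush f i).obj (Coh.structureModule X)
    have hterm : ∀ i, D (R i) = (if i = 0 then f.residueDegree (genericPoint X) else 0) • Curv2.deg k Y E n := by
      intro i
      obtain ⟨hR, -, hm⟩ := GrothLib.Snapper.rpush_structure (X := Y) (Z := X) (g := f) hf hX' i
      rw [hsingle _ hR, hdegY]
      have he : f (genericPoint X) = η := hξ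
      rw [he] at hm
      rw [hm htop]
    have h1 : Curv2.euler k X ((Scheme.Modules.pullback f).obj E) -
        (n : ℤ) * Curv2.euler k X (Coh.structureModule X) =
        ∑ i ∈ Finset.range (M₀ + 1), (-1 : ℤ) ^ i * D (R i) := by
      rw [hM₀ E (GrothLib.FinCov.isFinLocFree_of_rank hE),
        ← GrothLib.Euler.euler_of_iso k (GrothLib.OX.pullUnitIso f),
        hM₀ _ (GrothLib.Euler.isFinLocFree_of_isInvertible GrothLib.Euler.isInvertible_structure),
        Finset.mul_sum, ← Finset.sum_sub_distrib]
      refine Finset.sum_congr rfl fun i _ => ?_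
      rw [GrothLib.Euler.euler_of_iso k (GrothLib.Euler.tFUnitIso (R i))]
      show _ = _ * (Curv2.euler k Y _ - (n : ℤ) * Curv2.euler k Y _)
      ring
    show Curv2.euler k X _ - (n : ℤ) * Curv2.euler k X _ = _
    rw [h1, Finset.sum_eq_single 0 (fun i _ hi => by rw [hterm, if_neg hi, zero_smul, mul_zero])
      (fun h => absurd (Finset.mem_range.2 (Nat.succ_pos _)) h), hterm, if_pos rfl, nsmul_eq_mul]
    simp

end Groth.Agent.S7640
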