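import Groth.Statements.S11047
import Groth.Agent.Lib.FunFld.Gaps
import Groth.Agent.Lib.FunFld.Linear

set_option autoImplicit false
open FunFld

namespace Groth.Agent.S11047

/-- Over an algebraically closed constant field, a `k`-automorphism of a function field of one variable
of genus `g` that fixes more than `2g + 2` places is the identity. -/
theorem result
    (k K : Type*) [Field k] [IsAlgClosed k] [Field K] [Algebra k K]
    (hK : FunFld.IsFunctionField k K) (σ : K ≃ₐ[k] K)
    (h : ((2 * FunFld.genus k K + 2 : ℕ) : ℕ∞) <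
      Set.encard {P : FunFld.Place k K | ∀ x : K, P.1 x < 1 → P.1 (σ x) < 1}) :
    σ = 1 := by
  classical
  have hfg : GrothLib.FunFld.IsFG k K := hK.1
  set g := FunFld.genus k K
  set F := {P : FunFld.Place k K | ∀ x : K, P.1 x < 1 → P.1 (σ x) < 1}
  obtain ⟨S, hSF, hScard⟩ := Set.exists_subset_encard_eq (s := F) (k := ((2 * g + 3 : ℕ) : ℕ∞))
    (Order.add_one_le_of_lt h)
  have hSfin : S.Finite := Set.finite_of_encard_eq_coe hScard
  set T := hSfin.toFinset
  have hT : T.card = 2 * g + 3 := by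
    have := hSfin.encard_eq_coe_toFinset_card
    rw [hScard] at this
    exact_mod_cast this.symm
  obtain ⟨P, hP⟩ := Finset.card_pos.1 (show 0 < T.card by omega)
  -- fixed places are preserved
  have hfix : ∀ R ∈ T, ∀ x : K, (R.1 (σ x) ≤ 1 ↔ R.1 x ≤ 1) := by
    intro R hR
    let R' : FunFld.Place k K := ⟨R.1.comap (σ : K →+* K),
      fun c => by show R.1 (σ (algebraMap k K c)) ≤ 1; rw [AlgEquiv.commutes]; exact R.2.1 c,
      fun a => by
        obtain ⟨y, hy⟩ := R.2.2 a
        exact ⟨σ.symm y, by show R.1 (σ (σ.symm y)) = a; rw [AlgEquiv.apply_symm_apply]; exact hy⟩⟩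
    have hsame : R' = R := by
      by_contra hne
      obtain ⟨x, hx1, hx2⟩ := GrothLib.FunFld.exists_le_one_and_one_lt hne
      have hx0 : x ≠ 0 := by rintro rfl; simp at hx2
      have hinv : R.1 x⁻¹ < 1 := by
        rw [map_inv₀]; exact inv_lt_one_of_one_lt₀ hx2
      have h3 : R.1 (σ x⁻¹) < 1 := (Set.mem_ofPred_eq ▸ hSF (hSfin.mem_toFinset.1 hR)) _ hinv
      rw [map_inv₀, map_inv₀] at h3
      exact absurd ((inv_lt_one₀ (zero_lt_iff.2 (R.1.ne_zero_iff.2 (by simpa using hx0)))).1 h3)
        (not_lt.2 hx1)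
    intro x
    conv_rhs => rw [← hsame]
    rfl
  have hval : ∀ x : K, ∀ R ∈ T, R.1 (σ x) = R.1 x := by
    intro x R hR
    let R' : FunFld.Place k K := ⟨R.1.comap (σ : K →+* K),
      fun c => by show R.1 (σ (algebraMap k K c)) ≤ 1; rw [AlgEquiv.commutes]; exact R.2.1 c,
      fun a => by
        obtain ⟨y, hy⟩ := R.2.2 a
        exact ⟨σ.symm y, by show R.1 (σ (σ.symm y)) = a; rw [AlgEquiv.apply_symm_apply]; exact hy⟩⟩
    have : R' = R := GrothLib.FunFld.place_eq_of_le_one_iff fun y => hfix R hR y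
    exact congrArg (fun v : FunFld.Place k K => v.1 x) this
  have key : ∀ x : K, (∀ Q : FunFld.Place k K, Q ≠ P → 0 ≤ Q.ord x) →
      -(2 * g + 1 : ℤ) ≤ P.ord x → σ x = x := by
    intro x hreg hpole
    by_contra hne
    set u := σ x - x with hu
    have hu0 : u ≠ 0 := sub_ne_zero.2 hne
    have hx0 : x ≠ 0 := by rintro rfl; simp at hne
    -- poles of `u`
    have hσreg : ∀ Q : FunFld.Place k K, Q ≠ P → Q.1 (σ x) ≤ 1 := by
      intro Q hQ
      let Q' : FunFld.Place k K := ⟨Q.1.comap (σ : K →+* K),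
        fun c => by show Q.1 (σ (algebraMap k K c)) ≤ 1; rw [AlgEquiv.commutes]; exact Q.2.1 c,
        fun a => by
          obtain ⟨y, hy⟩ := Q.2.2 a
          exact ⟨σ.symm y, by
            show Q.1 (σ (σ.symm y)) = a; rw [AlgEquiv.apply_symm_apply]; exact hy⟩⟩
      by_cases hQ' : Q' = P
      · refine absurd (GrothLib.FunFld.place_eq_of_le_one_iff fun y => ?_) hQ
        have h1 := hfix P hP (σ.symm y)
        rw [AlgEquiv.apply_symm_apply] at h1
        rw [h1, ← hQ']
        show Q.1 y ≤ 1 ↔ Q.1 (σ (σ.symm y)) ≤ 1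
        rw [AlgEquiv.apply_symm_apply]
      · exact (GrothLib.FunFld.val_le_one_iff Q' hx0).2 (hreg Q' hQ')
    have huL : u ∈ FunFld.L (Finsupp.single P ((2 * g + 1 : ℕ) : ℤ)) := by
      intro Q
      by_cases hQ : Q = P
      · subst hQ
        rw [Finsupp.single_eq_same]
        refine (Q.1.map_sub _ _).trans (max_le ?_ ?_)
        · rw [hval x Q hP, GrothLib.FunFld.val_le_exp_iff Q hx0]; push_cast; omega
        · rw [GrothLib.FunFld.val_le_exp_iff Q hx0]; push_cast; omega
      · rw [Finsupp.single_eq_of_ne hQ, WithZero.exp_zero]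
        exact (Q.1.map_sub _ _).trans (max_le (hσreg Q hQ)
          ((GrothLib.FunFld.val_le_one_iff Q hx0).2 (hreg Q hQ)))
    -- zeros of `u`
    have hzero : ∀ R ∈ T.erase P, 1 ≤ R.ord u := by
      intro R hR
      obtain ⟨hRP, hRT⟩ := Finset.mem_erase.1 hR
      have := hfg.finite_residueField R
      have hxR : R.1 x ≤ 1 := (GrothLib.FunFld.val_le_one_iff R hx0).2 (hreg R hRP)
      obtain ⟨c, hc⟩ := (finrank_eq_one_iff_of_nonzero' (1 : IsLocalRing.ResidueField R.O)
        one_ne_zero).1 (hfg.deg_eq_one R) (GrothLib.FunFld.res R ⟨x, hxR⟩)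
      have h0 : GrothLib.FunFld.res R ((⟨x, hxR⟩ : R.O) - c • 1) = 0 := by
        rw [map_sub, map_smul, map_one]
        exact sub_eq_zero.2 hc.symm
      have h1 := (GrothLib.FunFld.res_eq_zero_iff R _).1 h0
      rw [show (((⟨x, hxR⟩ : R.O) - c • 1 : R.O) : K) = x - algebraMap k K c by
        rw [Algebra.smul_def, mul_one]; rfl] at h1
      have h2 : R.1 (σ (x - algebraMap k K c)) < 1 := by rw [hval _ R hRT]; exact h1
      rw [map_sub, AlgEquiv.commutes] at h2
      have h3 : R.1 u < 1 := by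
        rw [hu, show σ x - x = (σ x - algebraMap k K c) - (x - algebraMap k K c) by ring]
        exact (R.1.map_sub _ _).trans_lt (max_lt h2 h1)
      exact (GrothLib.FunFld.val_lt_one_iff R hu0).1 h3
    rw [GrothLib.FunFld.mem_L_iff_ord hu0] at huL
    have hge : ∑ R ∈ T.erase P, Finsupp.single R (1 : ℤ) ≤
        FunFld.div k u + Finsupp.single P ((2 * g + 1 : ℕ) : ℤ) := fun R => by
      rw [Finsupp.finsetSum_apply, Finsupp.add_apply, hfg.div_apply]
      simp only [Finsupp.single_apply, Finset.sum_ite_eq']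
      have := huL R
      rw [Finsupp.single_apply] at this
      split
      · have := hzero R ‹_›
        have hne : P ≠ R := fun e => (Finset.mem_erase.1 ‹_›).1 e.symm
        simp [hne]; omega
      · exact this
    have := GrothLib.FunFld.deg_mono hge
    simp [GrothLib.FunFld.deg_sum, hfg.deg_div, hfg.deg_eq_one,
      Finset.card_erase_of_mem hP, hT] at this
  -- generators with pole orders `2g` and `2g + 1`
  have hng : ∀ m : ℕ, 2 * g ≤ m → ¬ GrothLib.FunFld.IsGap P m := by
    intro m hm hgap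
    rcases Nat.eq_zero_or_pos m with rfl | hm1
    · have h9 : FunFld.ell (Finsupp.single P ((0 : ℕ) : ℤ) : FunFld.Divisor k K) =
          FunFld.ell (Finsupp.single P (((0 : ℕ) : ℤ) - 1) : FunFld.Divisor k K) :=
        congrArg (fun W : Submodule k K => Module.finrank k W) hgap
      rw [hfg.ell_eq_zero_of_deg_neg (D := Finsupp.single P (((0 : ℕ) : ℤ) - 1))
        (by rw [GrothLib.FunFld.deg_single, hfg.deg_eq_one P]; simp),
        show ((0 : ℕ) : ℤ) = 0 from rfl, GrothLib.FunFld.ell_single_zero hK P] at h9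
      exact one_ne_zero h9
    have h1 := GrothLib.FunFld.ell_eq_of_deg_ge hK (D := Finsupp.single P (m : ℤ))
      (by rw [GrothLib.FunFld.deg_single, hfg.deg_eq_one P]; push_cast; omega)
    have h2 := GrothLib.FunFld.ell_eq_of_deg_ge hK (D := Finsupp.single P ((m : ℤ) - 1))
      (by rw [GrothLib.FunFld.deg_single, hfg.deg_eq_one P]; push_cast; omega)
    rw [GrothLib.FunFld.deg_single, hfg.deg_eq_one P] at h1 h2
    have h9 : FunFld.ell (Finsupp.single P (m : ℤ) : FunFld.Divisor k K) =
        FunFld.ell (Finsupp.single P ((m : ℤ) - 1) : FunFld.Divisor k K) :=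
      congrArg (fun W : Submodule k K => Module.finrank k W) hgap
    push_cast at h1 h2
    omega
  obtain ⟨x, hx0, hx, hxo⟩ := GrothLib.FunFld.exists_exact_of_not_gap hK (hng (2 * g) le_rfl)
  obtain ⟨y, hy0, hy, hyo⟩ := GrothLib.FunFld.exists_exact_of_not_gap hK (hng (2 * g + 1) (by omega))
  rw [GrothLib.FunFld.mem_L_single_iff hx0 (by omega)] at hx
  rw [GrothLib.FunFld.mem_L_single_iff hy0 (by omega)] at hy
  have hσy := key y hy.2 (by omega)
  have hσx := key x hx.2 (by omega)
  have htop : IntermediateField.adjoin k ({x, y} : Set K) = ⊤ := by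
    have hy' := GrothLib.FunFld.finrank_adjoin_of_single_pole hfg (by omega) (hfg.deg_eq_one P) hyo
      hy.2
    rcases Nat.eq_zero_or_pos g with hg0 | hg0
    · refine top_unique (le_trans ?_ (IntermediateField.adjoin.mono k {y} _ (by simp)))
      rw [GrothLib.FunFld.adjoin_eq_top_of_simple_pole hfg (hfg.deg_eq_one P)
        (by rw [hyo, hg0]; rfl) hy.2]
    · have hx' := GrothLib.FunFld.finrank_adjoin_of_single_pole hfg (by omega) (hfg.deg_eq_one P)
        hxo hx.2
      refine GrothLib.FunFld.adjoin_pair_eq_top hfg hx'.1 hy'.1 ?_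
      rw [hx'.2, hy'.2]; simp
  refine AlgEquiv.ext fun z => ?_
  have hz : z ∈ IntermediateField.adjoin k ({x, y} : Set K) := htop ▸ IntermediateField.mem_top
  rw [AlgEquiv.one_apply]
  induction hz using IntermediateField.adjoin_induction with
  | mem a ha => rcases ha with rfl | rfl <;> assumption
  | algebraMap c => exact AlgEquiv.commutes σ c
  | add a b _ _ ha hb => rw [map_add, ha, hb]
  | inv a _ ha => rw [map_inv₀, ha]
  | mul a b _ _ ha hb => rw [map_mul, ha, hb]

end Groth.Agent.S11047
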