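import Groth.Statements.S9730
import Groth.Agent.Lib.LCI6.Cancel
import Groth.Agent.Lib.LCI6.InLocus
import Groth.Agent.Lib.LCI6.Koszul
import Groth.Agent.S9758
-- import your own Groth.Agent.* helpers here

set_option autoImplicit false
universe u
open FlatMor

namespace Groth.Agent.S9730

open AlgebraicGeometry CategoryTheory Limits in
/-- For g : X' ⟶ X surjective and syntomic and any morphism f : X ⟶ Y, the composite g ≫ f is Koszul at
every point of X' (a local complete intersection morphism) if and only if f is Koszul at every point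
of X. The published statement is phrased for syntomic coverings; this row takes a single surjective
syntomic morphism, to which a covering reduces by passing to the disjoint union of its members. -/
theorem result {X' X Y : Scheme.{u}} (g : X' ⟶ X) (hg : Synt.IsSyntomicMor g) [Surjective g]
    (f : X ⟶ Y) : (∀ x' : X', Synt.IsKoszulAt (g ≫ f) x') ↔ (∀ x : X, Synt.IsKoszulAt f x) := by
    obtain ⟨hgf, hgk⟩ := (Groth.Agent.S9758.result g).mpr hg
    rw [GrothLib.LCI6.inLocus_iff_of_isKoszul] at hgk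
    rw [GrothLib.LCI6.inLocus_iff_of_isKoszul, GrothLib.LCI6.inLocus_iff_of_isKoszul]
    refine ⟨fun hgf' x => ?_, fun hf x' => GrothLib.LCI6.inLocus_comp (hgk x') (hf _)⟩
    haveI : LocallyOfFinitePresentation g := by
      refine (HasRingHomProperty.iff_exists_appLE (P := @LocallyOfFinitePresentation)
        (RingHom.finitePresentation_stableUnderComposition.stableUnderCompositionWithLocalizationAway
          RingHom.finitePresentation_holdsForLocalizationAway).left).mpr fun x => ?_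
      obtain ⟨U, V, e, hx, hs⟩ := hg x
      exact ⟨V, U, hx, e, hs.2.1⟩
    obtain ⟨x', rfl⟩ := g.surjective x
    obtain ⟨V, hV, hy, -⟩ := GrothLib.LCI6.exists_affine_le (x := f (g x')) (O := (⊤ : Y.Opens)) trivial
    obtain ⟨U, hU, hx, hUV⟩ := GrothLib.LCI6.exists_affine_le (x := g x') (O := f ⁻¹ᵁ V) hy
    obtain ⟨U', hU', hx', hU'U⟩ := GrothLib.LCI6.exists_affine_le (x := x') (O := g ⁻¹ᵁ U) hx
    obtain ⟨s, hsub, hxs⟩ := hU.exists_basicOpen_le
      (V := ⟨g '' (U' : Set X'), g.isOpenMap _ U'.2⟩) ⟨g x', ⟨x', hx', rfl⟩⟩ hx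
    let U₂ := X.basicOpen s
    let t := (g.appLE U U' hU'U) s
    let W := X'.basicOpen t
    have hW : W = U' ⊓ g ⁻¹ᵁ U₂ := Scheme.basicOpen_appLE g U' U hU'U s
    have hWU : W ≤ g ⁻¹ᵁ U₂ := hW ▸ inf_le_right
    have hU₂V : U₂ ≤ f ⁻¹ᵁ V := (X.basicOpen_le s).trans hUV
    have hWV : W ≤ (g ≫ f) ⁻¹ᵁ V := fun z hz => hU₂V (hWU hz)
    refine ⟨U₂, V, hU.basicOpen s, hV, hU₂V, hxs, ?_⟩
    letI := (f.appLE V U₂ hU₂V).hom.toAlgebra
    letI : Algebra Γ(X, U₂) Γ(X', W) := (g.appLE U₂ W hWU).hom.toAlgebra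
    letI : Algebra Γ(Y, V) Γ(X', W) := ((g ≫ f).appLE V W hWV).hom.toAlgebra
    haveI : IsScalarTower Γ(Y, V) Γ(X, U₂) Γ(X', W) := IsScalarTower.of_algebraMap_eq' (by
      show _ = (g.appLE U₂ W hWU).hom.comp (f.appLE V U₂ hU₂V).hom
      rw [← CommRingCat.hom_comp, Scheme.Hom.appLE_comp_appLE]
      rfl)
    haveI : Module.Flat Γ(X, U₂) Γ(X', W) :=
      HasRingHomProperty.appLE @Flat g hgf ⟨U₂, hU.basicOpen s⟩ ⟨W, hU'.basicOpen t⟩ hWU
    haveI : Module.FaithfullyFlat Γ(X, U₂) Γ(X', W) := by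
      refine Module.FaithfullyFlat.of_comap_surjective fun q => ?_
      have hyU : (hU.basicOpen s).fromSpec q ∈ U₂ := by
        rw [← SetLike.mem_coe, ← (hU.basicOpen s).range_fromSpec]; exact ⟨q, rfl⟩
      obtain ⟨z, hz, hzy⟩ := hsub hyU
      have hzW : z ∈ W := by
        rw [hW]
        exact ⟨hz, show g z ∈ U₂ from hzy.symm ▸ hyU⟩
      refine ⟨(hU'.basicOpen t).primeIdealOf ⟨z, hzW⟩, ?_⟩
      refine (IsAffineOpen.comap_primeIdealOf_appLE U₂ (hU.basicOpen s) W (hU'.basicOpen t) hWU hzW).trans ?_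
      apply (hU.basicOpen s).fromSpec.isOpenEmbedding.injective
      rw [IsAffineOpen.fromSpec_primeIdealOf]
      exact hzy
    exact GrothLib.LCI6.isLCI_of_faithfullyFlat_comp
      (GrothLib.LCI6.isLCI_of_forall_inLocus g hgk W U₂ (hU'.basicOpen t) (hU.basicOpen s) hWU)
      (GrothLib.LCI6.isLCI_of_forall_inLocus (g ≫ f) hgf' W V (hU'.basicOpen t) hV hWV)

end Groth.Agent.S9730
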