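import Groth.Statements.S18251
import Mathlib

set_option autoImplicit false
universe u
open W4c5m1nsnscurves
open Curves

namespace Groth.Agent.S18251

open W4c5m1nsnscurves
open MvPolynomial hiding C

section
variable {R : Type u} [CommRing R] (a b c d : R)

local notation "A" => CurveAlg3 R a b c d
local notation "mk'" => (Ideal.Quotient.mk (Ideal.span {(MvPolynomial.X 0 * MvPolynomial.X 1 ^ 2 - MvPolynomial.X 0 ^ 2 * MvPolynomial.X 1 -
    (MvPolynomial.C a * MvPolynomial.X 0 * MvPolynomial.X 1 + MvPolynomial.C b * MvPolynomial.X 0 + MvPolynomial.C c * MvPolynomial.X 1 + MvPolynomial.C d) : MvPolynomial (Fin 2) R)}))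

lemma span_top : Submodule.span R (Set.range (cmon3 R a b c d)) = ⊤ := by
  set S := Submodule.span R (Set.range (cmon3 R a b c d)) with hS
  set x : A := mk' (X 0) with hx
  set y : A := mk' (X 1) with hy
  have hrel : x * y ^ 2 = x ^ 2 * y + a • (x * y) + b • x + c • y + d • (1 : A) := by
    rw [← sub_eq_zero]
    have h0 : mk' ((MvPolynomial.X 0 * MvPolynomial.X 1 ^ 2 - MvPolynomial.X 0 ^ 2 * MvPolynomial.X 1 -
        (MvPolynomial.C a * MvPolynomial.X 0 * MvPolynomial.X 1 + MvPolynomial.C b * MvPolynomial.X 0 + MvPolynomial.C c * MvPolynomial.X 1 + MvPolynomial.C d))) = 0 :=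
      Ideal.Quotient.eq_zero_iff_mem.2 (Ideal.subset_span rfl)
    have hC : ∀ (r : R) (z : A), r • z = mk' (MvPolynomial.C r) * z := fun r z => Algebra.smul_def r z
    simp only [map_sub, map_add, map_mul, map_pow, ← hx, ← hy] at h0
    simp only [hC]
    linear_combination h0
  have h1 : (1 : A) ∈ S := Submodule.subset_span ⟨none, rfl⟩
  have hxy : ∀ i, x ^ i * y ∈ S := by
    intro i
    rcases i with _ | i
    · exact Submodule.subset_span ⟨some (Sum.inr (1, 0)), by simp [cmon3, hy]⟩
    · exact Submodule.subset_span ⟨some (Sum.inl i), by simp [cmon3, hx, hy]⟩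
  have hxp : ∀ i, x ^ i ∈ S := by
    intro i
    rcases i with _ | i
    · simpa using h1
    · exact Submodule.subset_span ⟨some (Sum.inr (0, i)), by simp [cmon3, hx]⟩
  have hyp : ∀ j, y ^ j ∈ S := by
    intro j
    rcases j with _ | j
    · simpa using h1
    · exact Submodule.subset_span ⟨some (Sum.inr (1, j)), by simp [cmon3, hy]⟩
  -- the invariant submodules
  let T : ℕ → Submodule R A := fun k =>
    Submodule.span R (Set.range (fun i => x ^ i * y) ∪ Set.range (fun i => x ^ i) ∪ (fun j => y ^ j) '' {j | j < k})
  have hTS : ∀ k, T k ≤ S := by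
    intro k
    refine Submodule.span_le.2 ?_
    rintro z ((⟨i, rfl⟩ | ⟨i, rfl⟩) | ⟨j, -, rfl⟩)
    · exact hxy i
    · exact hxp i
    · exact hyp j
  have hTmono : ∀ {j k}, j ≤ k → T j ≤ T k := fun {j k} h =>
    Submodule.span_mono (Set.union_subset_union_right _ (Set.image_mono fun i hi => lt_of_lt_of_le hi h))
  have memxy : ∀ k i, x ^ i * y ∈ T k := fun k i => Submodule.subset_span (Or.inl (Or.inl ⟨i, rfl⟩))
  have memx : ∀ k i, x ^ i ∈ T k := fun k i => Submodule.subset_span (Or.inl (Or.inr ⟨i, rfl⟩))
  have memy : ∀ {k j}, j < k → y ^ j ∈ T k := fun {k j} h => Submodule.subset_span (Or.inr ⟨j, h, rfl⟩)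
  have key : ∀ k, x * y ^ k ∈ T k := by
    intro k
    induction k using Nat.strong_induction_on with
    | _ k ih =>
      have hxT : ∀ z, z ∈ T k → x * z ∈ T k := by
        intro z hz
        refine Submodule.span_induction ?_ ?_ ?_ ?_ hz
        · rintro w ((⟨i, rfl⟩ | ⟨i, rfl⟩) | ⟨j, hj, rfl⟩)
          · simpa [pow_succ', mul_assoc] using memxy k (i + 1)
          · simpa [pow_succ'] using memx k (i + 1)
          · exact hTmono (le_of_lt hj) (ih j hj)
        · simp
        · intro u v _ _ hu hv
          rw [mul_add]; exact add_mem hu hv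
        · intro r u _ hu
          rw [mul_smul_comm]; exact Submodule.smul_mem _ _ hu
      match k with
      | 0 => simpa using memx 0 1
      | 1 => simpa using memxy 1 1
      | m + 2 =>
        have e : x * y ^ (m + 2) = x * (x * y ^ (m + 1)) + a • (x * y ^ (m + 1)) + b • (x * y ^ m)
            + c • y ^ (m + 1) + d • y ^ m := by
          rw [pow_add, show x * (y ^ m * y ^ 2) = y ^ m * (x * y ^ 2) by ring, hrel]
          simp only [mul_add, mul_smul_comm, mul_one]
          ring_nf
        rw [e]
        refine add_mem (add_mem (add_mem (add_mem ?_ ?_) ?_) ?_) ?_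
        · exact hxT _ (hTmono (by omega) (ih (m + 1) (by omega)))
        · exact Submodule.smul_mem _ _ (hTmono (by omega) (ih (m + 1) (by omega)))
        · exact Submodule.smul_mem _ _ (hTmono (by omega) (ih m (by omega)))
        · exact Submodule.smul_mem _ _ (memy (by omega))
        · exact Submodule.smul_mem _ _ (memy (by omega))
  have hxS : ∀ z ∈ S, x * z ∈ S := by
    intro z hz
    refine Submodule.span_induction ?_ ?_ ?_ ?_ hz
    · rintro w ⟨i, rfl⟩
      rcases i with _ | (i | ⟨v, i⟩)
      · simpa [cmon3] using hxp 1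
      · simpa [cmon3, pow_succ', mul_assoc, ← hx, ← hy] using hxy (i + 2)
      · revert v
        refine Fin.forall_fin_two.2 ⟨?_, ?_⟩
        · simpa [cmon3, pow_succ', ← hx] using hxp (i + 2)
        · simpa [cmon3, ← hy] using hTS _ (key (i + 1))
    · simp
    · intro u v _ _ hu hv
      rw [mul_add]; exact add_mem hu hv
    · intro r u _ hu
      rw [mul_smul_comm]; exact Submodule.smul_mem _ _ hu
  have hyS : ∀ z ∈ S, y * z ∈ S := by
    intro z hz
    refine Submodule.span_induction ?_ ?_ ?_ ?_ hz
    · rintro w ⟨i, rfl⟩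
      rcases i with _ | (i | ⟨v, i⟩)
      · simpa [cmon3] using hyp 1
      · have e : y * cmon3 R a b c d (some (Sum.inl i)) = x ^ i * (x * y ^ 2) := by
          simp [cmon3, ← hx, ← hy]; ring
        rw [e, hrel]
        simp only [mul_add, mul_smul_comm, mul_one]
        refine add_mem (add_mem (add_mem (add_mem ?_ ?_) ?_) ?_) ?_
        · rw [← mul_assoc, ← pow_add]; exact hxy _
        · refine Submodule.smul_mem _ _ ?_
          rw [← mul_assoc, ← pow_succ]; exact hxy _
        · refine Submodule.smul_mem _ _ ?_
          rw [← pow_succ]; exact hxp _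
        · exact Submodule.smul_mem _ _ (hxy i)
        · exact Submodule.smul_mem _ _ (hxp i)
      · revert v
        refine Fin.forall_fin_two.2 ⟨?_, ?_⟩
        · convert hxy (i + 1) using 1; simp [cmon3, ← hx]; ring
        · simpa [cmon3, pow_succ', ← hy] using hyp (i + 2)
    · simp
    · intro u v _ _ hu hv
      rw [mul_add]; exact add_mem hu hv
    · intro r u _ hu
      rw [mul_smul_comm]; exact Submodule.smul_mem _ _ hu
  rw [eq_top_iff]
  rintro z -
  obtain ⟨p, rfl⟩ := Ideal.Quotient.mk_surjective z
  induction p using MvPolynomial.induction_on with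
  | C r =>
    have e : mk' (MvPolynomial.C r) = algebraMap R A r := rfl
    rw [e, Algebra.algebraMap_eq_smul_one]
    exact Submodule.smul_mem _ _ h1
  | add p q hp hq => rw [map_add]; exact add_mem hp hq
  | mul_X p i hp =>
    rw [map_mul]
    rw [mul_comm (mk' p)]
    revert i
    exact Fin.forall_fin_two.2 ⟨hxS _ hp, hyS _ hp⟩

lemma lin_indep : LinearIndependent R (cmon3 R a b c d) := by
  classical
  rw [linearIndependent_iff]
  intro l hl
  let Φ : MvPolynomial (Fin 2) R →ₐ[R] Polynomial (Polynomial R) :=
    MvPolynomial.aeval ![Polynomial.C Polynomial.X, Polynomial.X]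
  let P : Option (ℕ ⊕ (Fin 2 × ℕ)) → MvPolynomial (Fin 2) R := fun o => match o with
    | none => 1
    | some (Sum.inl k) => X 0 ^ (k + 1) * X 1
    | some (Sum.inr (y, k)) => X y ^ (k + 1)
  have hP : ∀ o, cmon3 R a b c d o = mk' (P o) := by rintro (_ | (k | ⟨y, k⟩)) <;> simp [cmon3, P]
  let p : MvPolynomial (Fin 2) R := Finsupp.linearCombination R P l
  have hmem : mk' p = 0 := by
    rw [← hl]
    simp only [p, Finsupp.linearCombination_apply, Finsupp.sum, map_sum]
    exact Finset.sum_congr rfl fun o _ => by rw [hP]; rfl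
  obtain ⟨g, hg⟩ := Ideal.mem_span_singleton'.1 (Ideal.Quotient.eq_zero_iff_mem.1 hmem)
  -- coefficients of standard polynomials
  have hcoef : ∀ (s : ℕ) (i : ℕ), ((Φ p).coeff s).coeff i =
      (if s = 0 ∧ i = 0 then l none else 0) +
      (if s = 1 ∧ 0 < i then l (some (Sum.inl (i - 1))) else 0) +
      (if s = 0 ∧ 0 < i then l (some (Sum.inr (0, i - 1))) else 0) +
      (if i = 0 ∧ 0 < s then l (some (Sum.inr (1, s - 1))) else 0) := by
    intro s i
    clear hl hmem hg
    induction l using Finsupp.induction_linear with
    | zero => simp [p]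
    | add f g hf hg =>
      simp only [p, map_add, Polynomial.coeff_add] at hf hg ⊢
      rw [hf, hg]
      simp only [Finsupp.add_apply]
      split_ifs <;> ring
    | single o r =>
      simp only [p, Finsupp.linearCombination_single, map_smul]
      rw [Polynomial.coeff_smul, Polynomial.coeff_smul]
      rcases o with _ | (k | ⟨v, k⟩)
      · simp only [P, map_one, Polynomial.coeff_one, Finsupp.single_apply, reduceCtorEq, if_false, ite_self, add_zero, if_true]
        split_ifs <;> simp_all [Polynomial.coeff_one]
      · have e : Φ (P (some (Sum.inl k))) = Polynomial.C (Polynomial.X ^ (k + 1)) * Polynomial.X := by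
          simp [Φ, P]
        rw [e, Polynomial.coeff_C_mul, Polynomial.coeff_X]
        simp only [Finsupp.single_apply, Option.some.injEq, Sum.inl.injEq, reduceCtorEq, if_false, ite_self, zero_add, add_zero]
        rcases eq_or_ne s 1 with hs | hs
        · subst hs
          rw [if_pos rfl, mul_one, Polynomial.coeff_X_pow]
          split_ifs <;> first | (exfalso; omega) | simp
        · rw [if_neg (Ne.symm hs)]
          simp [hs]
      · revert v
        refine Fin.forall_fin_two.2 ⟨?_, ?_⟩
        · have e : Φ (P (some (Sum.inr (0, k)))) = Polynomial.C (Polynomial.X ^ (k + 1)) := by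
            simp [Φ, P]
          rw [e, Polynomial.coeff_C]
          simp only [Finsupp.single_apply, Option.some.injEq, Sum.inr.injEq, Prod.mk.injEq, reduceCtorEq, if_false, ite_self, zero_add, add_zero, true_and, zero_ne_one, false_and]
          rcases eq_or_ne s 0 with hs | hs
          · subst hs
            rw [if_pos rfl, Polynomial.coeff_X_pow]
            split_ifs <;> first | (exfalso; omega) | simp
          · rw [if_neg hs]
            simp [hs]
        · have e : Φ (P (some (Sum.inr (1, k)))) = Polynomial.X ^ (k + 1) := by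
            simp [Φ, P]
          rw [e, Polynomial.coeff_X_pow]
          simp only [Finsupp.single_apply, Option.some.injEq, Sum.inr.injEq, Prod.mk.injEq, reduceCtorEq, if_false, ite_self, zero_add, add_zero, true_and, one_ne_zero, false_and]
          rcases eq_or_ne s (k + 1) with hs | hs
          · subst hs
            rw [if_pos rfl, Polynomial.coeff_one]
            split_ifs <;> first | (exfalso; omega) | simp
          · rw [if_neg hs]
            split_ifs <;> first | (exfalso; omega) | simp
  let F : Polynomial (Polynomial R) := Polynomial.C Polynomial.X * Polynomial.X ^ 2 -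
    Polynomial.C (Polynomial.X ^ 2 + Polynomial.C a * Polynomial.X + Polynomial.C c) * Polynomial.X -
    Polynomial.C (Polynomial.C b * Polynomial.X + Polynomial.C d)
  have hF : Φ p = Φ g * F := by
    rw [← hg, map_mul]
    congr 1
    simp only [Φ, F, map_sub, map_add, map_mul, map_pow, MvPolynomial.aeval_X, MvPolynomial.aeval_C,
      Matrix.cons_val_zero, Matrix.cons_val_one, Polynomial.algebraMap_apply, Polynomial.algebraMap_eq,
      Algebra.algebraMap_self, RingHom.id_apply]
    ring
  have hG : Φ g = 0 := by
    by_contra hne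
    set G := Φ g
    set n := G.natDegree
    have hc : (Φ p).coeff (n + 2) = Polynomial.X * G.coeff n := by
      rw [hF]
      have h1 : G.coeff (n + 1) = 0 := Polynomial.coeff_eq_zero_of_natDegree_lt (by omega)
      have h2 : G.coeff (n + 2) = 0 := Polynomial.coeff_eq_zero_of_natDegree_lt (by omega)
      simp only [F, mul_sub, Polynomial.coeff_sub, ← mul_assoc, Polynomial.coeff_mul_C,
        Polynomial.coeff_mul_X, Polynomial.coeff_mul_X_pow, h1, h2]
      ring
    have hlead : G.coeff n ≠ 0 := Polynomial.leadingCoeff_ne_zero.2 hne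
    apply hlead
    ext i
    have h := hcoef (n + 2) (i + 1)
    rw [hc, Polynomial.coeff_X_mul] at h
    simpa using h
  have h0 : Φ p = 0 := by rw [hF, hG, zero_mul]
  ext o
  rcases o with _ | (k | ⟨v, k⟩)
  · simpa [h0] using (hcoef 0 0).symm
  · simpa [h0] using (hcoef 1 (k + 1)).symm
  · revert v
    refine Fin.forall_fin_two.2 ⟨?_, ?_⟩
    · simpa [h0] using (hcoef 0 (k + 1)).symm
    · simpa [h0] using (hcoef (k + 1) 0).symm

end


/-- Case n = 3: let R be a commutative ring and a, b, c, d elements of R (a point of U_3, which is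
affine 4-space, so no condition is imposed). Then in the R-algebra R[x_2, x_3]/(x_2 x_3² − x_2² x_3
− a x_2 x_3 − b x_2 − c x_3 − d) the classes of the monomials 1, x_2^k x_3, x_2^k and x_3^k (k ≥ 1)
are linearly independent over R and span, i.e. form an R-basis. -/
theorem result (R : Type u) [CommRing R] (a b c d : R) :
    LinearIndependent R (cmon3 R a b c d) ∧
      Submodule.span R (Set.range (cmon3 R a b c d)) = ⊤ := by
  exact ⟨lin_indep a b c d, span_top a b c d⟩

end Groth.Agent.S18251
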