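import Groth.Statements.S18247
import Mathlib.Tactic.LinearCombination
import Mathlib.Tactic.FinCases

set_option autoImplicit false
universe u
open W4c5m1nsnscurves
open Curves

namespace Groth.Agent.S18247

/-- Case n = 5: the coordinate ring of U_5 over ℤ (m = 2 indices, standing for the points 4 and 5;
generators a, c, c̄, c_4, c̄_4, c_5, c̄_5, c_{45}, c_{54} with the linear and the two quadratic
relations for the one pair of indices, and no triple) is the polynomial ring on a, c_4, c̄_4, c_5,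
c̄_5, c_{45}: the ℤ-algebra map from the polynomial ring in six variables sending the variables to
these six classes, in this order, is bijective. -/
theorem result :
    Function.Bijective (MvPolynomial.aeval (R := ℤ) (S₁ := URing ℤ 2)
      ![ugen ℤ 2 .a, ugen ℤ 2 (.ci 0), ugen ℤ 2 (.cbi 0), ugen ℤ 2 (.ci 1), ugen ℤ 2 (.cbi 1),
        ugen ℤ 2 (.cij 0 1 Fin.zero_ne_one)]) := by
  classical
  let g : UGen 2 → MvPolynomial (Fin 6) ℤ := fun
    | .a => MvPolynomial.X 0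
    | .c => (MvPolynomial.X 0 + MvPolynomial.X 1 + MvPolynomial.X 2 + MvPolynomial.X 3 + MvPolynomial.X 4 - MvPolynomial.X 5) * MvPolynomial.X 3 + MvPolynomial.X 5 * MvPolynomial.X 1 - MvPolynomial.X 1 * MvPolynomial.X 3
    | .cb => (MvPolynomial.X 0 + MvPolynomial.X 1 + MvPolynomial.X 2 + MvPolynomial.X 3 + MvPolynomial.X 4 - MvPolynomial.X 5) * MvPolynomial.X 2 + MvPolynomial.X 5 * MvPolynomial.X 4 - MvPolynomial.X 2 * MvPolynomial.X 4
    | .ci i => if i = 0 then MvPolynomial.X 1 else MvPolynomial.X 3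
    | .cbi i => if i = 0 then MvPolynomial.X 2 else MvPolynomial.X 4
    | .cij i _ _ => if i = 0 then MvPolynomial.X 5 else MvPolynomial.X 0 + MvPolynomial.X 1 + MvPolynomial.X 2 + MvPolynomial.X 3 + MvPolynomial.X 4 - MvPolynomial.X 5
  have hg : ∀ p ∈ URel ℤ 2, MvPolynomial.aeval g p = 0 := by
    rintro p (((⟨⟨⟨i, j⟩, h⟩, rfl⟩ | ⟨⟨⟨i, j⟩, h⟩, rfl⟩) | ⟨⟨⟨i, j⟩, h⟩, rfl⟩) | ⟨⟨⟨i, j, l⟩, h⟩, rfl⟩)
    · fin_cases i <;> fin_cases j <;> first | exact (h rfl).elim | (simp [g]; ring) | simp [g]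
    · fin_cases i <;> fin_cases j <;> first | exact (h rfl).elim | (simp [g]; ring) | simp [g]
    · fin_cases i <;> fin_cases j <;> first | exact (h rfl).elim | (simp [g]; ring) | simp [g]
    · exfalso; fin_cases i <;> fin_cases j <;> fin_cases l <;> simp at h
  let G : URing ℤ 2 →ₐ[ℤ] MvPolynomial (Fin 6) ℤ :=
    Ideal.Quotient.liftₐ _ (MvPolynomial.aeval g) fun p hp => (Ideal.span_le.2 (fun q hq => hg q hq) : _ ≤ RingHom.ker (MvPolynomial.aeval g)) hp
  let F := MvPolynomial.aeval (R := ℤ) (S₁ := URing ℤ 2)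
    ![ugen ℤ 2 .a, ugen ℤ 2 (.ci 0), ugen ℤ 2 (.cbi 0), ugen ℤ 2 (.ci 1), ugen ℤ 2 (.cbi 1),
      ugen ℤ 2 (.cij 0 1 Fin.zero_ne_one)]
  have hGg : ∀ x, G (ugen ℤ 2 x) = g x := fun x => by
    show MvPolynomial.aeval g (MvPolynomial.X x) = g x
    exact MvPolynomial.aeval_X g x
  have h1 : G.comp F = AlgHom.id ℤ _ := by
    refine MvPolynomial.algHom_ext fun i => ?_
    fin_cases i <;> simp [F, hGg] <;> simp [g]
  have r1 : ∀ p ∈ URel ℤ 2, (Ideal.Quotient.mk (Ideal.span (URel ℤ 2)) p : URing ℤ 2) = 0 := fun p hp =>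
    Ideal.Quotient.eq_zero_iff_mem.2 (Ideal.subset_span hp)
  have e1 := r1 _ (Or.inl (Or.inl (Or.inl ⟨⟨(0, 1), Fin.zero_ne_one⟩, rfl⟩)))
  have e2 := r1 _ (Or.inl (Or.inl (Or.inr ⟨⟨(0, 1), Fin.zero_ne_one⟩, rfl⟩)))
  have e3 := r1 _ (Or.inl (Or.inr ⟨⟨(0, 1), Fin.zero_ne_one⟩, rfl⟩))
  simp only [map_add, map_sub, map_mul] at e1 e2 e3
  have h2 : F.comp G = AlgHom.id ℤ _ := by
    refine Ideal.Quotient.algHom_ext _ (MvPolynomial.algHom_ext fun x => ?_)
    show F (G (ugen ℤ 2 x)) = ugen ℤ 2 x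
    rw [hGg]
    cases x with
    | a => simp [g, F]
    | c => simp [g, F, ugen]; linear_combination e2 - (Ideal.Quotient.mk (Ideal.span (URel ℤ 2)) (MvPolynomial.X (UGen.ci (1 : Fin 2)))) * e1
    | cb => simp [g, F, ugen]; linear_combination e3 - (Ideal.Quotient.mk (Ideal.span (URel ℤ 2)) (MvPolynomial.X (UGen.cbi (0 : Fin 2)))) * e1
    | ci i => fin_cases i <;> simp [g, F]
    | cbi i => fin_cases i <;> simp [g, F]
    | cij i j h =>
      fin_cases i <;> fin_cases j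
      · exact (h rfl).elim
      · simp [g, F]
      · simp [g, F, ugen]; linear_combination -e1
      · exact (h rfl).elim
  exact Function.bijective_iff_has_inverse.2 ⟨G, fun p => DFunLike.congr_fun h1 p, fun q => DFunLike.congr_fun h2 q⟩

end Groth.Agent.S18247
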