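import Groth.Statements.S1721
import Groth.Agent.Lib.DualCx22.EssFT
import Groth.Agent.Lib.DualRing.Dimension

set_option autoImplicit false
universe u
open CategoryTheory
attribute [local instance] HasDerivedCategory.standard
open Dual

namespace Groth.Agent.S1721

/-- A Noetherian ring admitting a dualizing complex is universally catenary. (Finiteness of the
dimension is a separate, earlier result.) -/
theorem result (A : Type u) [CommRing A] [IsNoetherianRing A] (ω : Dual.D A) (hω : Dual.IsDualizing A ω) : CAlg.IsUniversallyCatenary A := by
  refine ⟨inferInstance, fun S _ _ hS => ?_⟩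
  haveI := hS
  obtain ⟨ω', hω'⟩ := GrothLib.DualCx22.exists_dualizing_essFiniteType S ⟨ω, hω⟩
  haveI := hω'.isNoetherianRing
  let δ : PrimeSpectrum S → ℤ := GrothLib.DualRing.degS hω'
  have hδ : StrictMono δ := GrothLib.DualRing.degS_strictMono hω'
  have hle : ∀ (s : LTSeries (PrimeSpectrum S)) (i : Fin (s.length + 1)), δ s.head + (i : ℕ) ≤ δ (s i) := fun s i => by
    induction i using Fin.induction with
    | zero => simp [RelSeries.head]
    | succ j ih =>
      have hlt : δ (s j.castSucc) < δ (s j.succ) := hδ (s.step j)
      simp only [Fin.val_succ, Fin.val_castSucc] at ih ⊢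
      omega
  have heq : ∀ (s : LTSeries (PrimeSpectrum S)), (∀ i : Fin s.length, s i.castSucc ⋖ s i.succ) →
      ∀ (i : Fin (s.length + 1)), δ (s i) = δ s.head + (i : ℕ) := fun s hs i => by
    induction i using Fin.induction with
    | zero => simp [RelSeries.head]
    | succ j ih =>
      have h1 : δ (s j.succ) = δ (s j.castSucc) + 1 := GrothLib.DualRing.degS_covBy hω' (hs j)
      simp only [Fin.val_succ, Fin.val_castSucc] at ih ⊢
      omega
  refine ⟨fun p q _ => ⟨(δ q - δ p).toNat, fun s hp hq => ?_⟩, fun s t hh hl hs ht => ?_⟩
  · have := hle s (Fin.last _)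
    simp only [Fin.val_last] at this
    rw [show s (Fin.last _) = q from hq, hp] at this
    omega
  · have h1 := heq s hs (Fin.last _)
    have h2 := heq t ht (Fin.last _)
    simp only [Fin.val_last] at h1 h2
    rw [show s (Fin.last _) = t.last from hl, hh] at h1
    have h3 : δ (t (Fin.last _)) = δ t.last := rfl
    omega

end Groth.Agent.S1721
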