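import Groth.Statements.S1778
import Groth.Agent.Lib.DualCx22.Transfer

set_option autoImplicit false
universe u
open CategoryTheory
attribute [local instance] HasDerivedCategory.standard
open Dual

namespace Groth.Agent.S1778

/-- Let A → B be a flat homomorphism of Noetherian rings and I an ideal of A such that A → B/IB is
surjective with kernel I (so A/I = B/IB) and IB lies in the Jacobson radical of B. Assuming the
derived base change functor D(A) → D(B) exists, the base change of a dualizing complex ω of A is a
dualizing complex for B. -/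
theorem result (A B : Type u) [CommRing A] [CommRing B] [Algebra A B] [IsNoetherianRing A] [IsNoetherianRing B] [Module.Flat A B] (I : Ideal A) (hs : Function.Surjective ((Ideal.Quotient.mk (I.map (algebraMap A B))).comp (algebraMap A B))) (hk : RingHom.ker ((Ideal.Quotient.mk (I.map (algebraMap A B))).comp (algebraMap A B)) = I) (hJ : I.map (algebraMap A B) ≤ (⊥ : Ideal B).jacobson) [DRing.HasLBaseChange (algebraMap A B)] (ω : Dual.D A) (hω : Dual.IsDualizing A ω) : Dual.IsDualizing B ((DRing.LBaseChange (algebraMap A B)).obj ω) := by
  haveI := hω.isNoetherianRing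
  haveI := GrothLib.DR.preservesFiniteLimits_extendScalars (algebraMap A B) GrothLib.DR.flat_algebraMap
  obtain ⟨e⟩ := GrothLib.DualCx22.nonempty_lBase_iso_bcD (A := A) B
  obtain ⟨a, b, hab⟩ := hω.finite_injective_dimension
  refine GrothLib.DualCx22.isDualizing_of_iso (e.app ω).symm
    (GrothLib.DualCx22.isDualizing_bcD B hω b fun m hmax i hi => ?_)
  have hIm : I.map (algebraMap A B) ≤ m := hJ.trans (sInf_le ⟨bot_le, hmax⟩)
  have hmap : (m.comap (algebraMap A B)).map (algebraMap A B) = m := by
    refine le_antisymm Ideal.map_comap_le fun y hy => ?_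
    obtain ⟨x, hx⟩ := hs (Ideal.Quotient.mk _ y)
    rw [RingHom.comp_apply, Ideal.Quotient.mk_eq_mk_iff_sub_mem] at hx
    have hIp : I ≤ m.comap (algebraMap A B) := fun z hz => hIm (Ideal.mem_map_of_mem _ hz)
    have hxp : x ∈ m.comap (algebraMap A B) := by
      have := m.add_mem (hIm hx) hy
      rwa [sub_add_cancel] at this
    have h1 : algebraMap A B x - y ∈ (m.comap (algebraMap A B)).map (algebraMap A B) := Ideal.map_mono hIp hx
    have := Ideal.sub_mem _ (Ideal.mem_map_of_mem (algebraMap A B) hxp) h1
    rwa [sub_sub_cancel] at this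
  exact GrothLib.DualCx22.subsingleton_residue_bcD B hω a b hab (m.comap (algebraMap A B)) m hmap i
    (hab _ i (Or.inr hi))

end Groth.Agent.S1778
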