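import Groth.Statements.S1779
import Groth.Agent.Lib.DualCx22.Transfer
import Groth.Agent.S1778
import Groth.Agent.Lib.AdicExtra.Completion
import Groth.Agent.Lib.AdicExtra.Units

set_option autoImplicit false
universe u
open CategoryTheory
attribute [local instance] HasDerivedCategory.standard
open Dual

namespace Groth.Agent.S1779

/-- Let A be a Noetherian ring, I an ideal and ω a dualizing complex for A. Assuming the derived base
change functor to the I-adic completion exists, the base change of ω is a dualizing complex for the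
I-adic completion of A. -/
theorem result (A : Type u) [CommRing A] [IsNoetherianRing A] (I : Ideal A) [DRing.HasLBaseChange (algebraMap A (AdicCompletion I A))] (ω : Dual.D A) (hω : Dual.IsDualizing A ω) : Dual.IsDualizing (AdicCompletion I A) ((DRing.LBaseChange (algebraMap A (AdicCompletion I A))).obj ω) := by
  have hk : RingHom.ker (AdicCompletion.evalOneₐ I).toRingHom = I.map (algebraMap A (AdicCompletion I A)) :=
    AdicCompletion.ker_evalOneₐ_eq_map I I.fg_of_isNoetherianRing
  have hmk : ∀ x : A, AdicCompletion.evalOneₐ I (algebraMap A (AdicCompletion I A) x) = Ideal.Quotient.mk I x :=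
    fun x => RingHom.congr_fun (AdicCompletion.evalOneₐ_comp_algebraMap_eq_mk I) x
  refine Groth.Agent.S1778.result A (AdicCompletion I A) I (fun z => ?_) ?_ ?_ ω hω
  · obtain ⟨z, rfl⟩ := Ideal.Quotient.mk_surjective z
    obtain ⟨x, hx⟩ := Ideal.Quotient.mk_surjective (AdicCompletion.evalOneₐ I z)
    refine ⟨x, ?_⟩
    rw [RingHom.comp_apply, Ideal.Quotient.mk_eq_mk_iff_sub_mem, ← hk, RingHom.mem_ker, map_sub]
    exact sub_eq_zero.2 ((hmk x).trans hx)
  · ext x
    rw [RingHom.mem_ker, RingHom.comp_apply, Ideal.Quotient.eq_zero_iff_mem, ← hk, RingHom.mem_ker]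
    exact (iff_of_eq (congrArg (· = 0) (hmk x))).trans Ideal.Quotient.eq_zero_iff_mem
  · rw [← hk]
    exact GrothLib.AdicExtra.ker_evalOne_le_jacobson

end Groth.Agent.S1779
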