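import Groth.Statements.S1723
import Groth.Agent.Lib.DualRing.GorRecog
import Groth.Agent.Lib.DualRing.GorGlobal
import Groth.Agent.Lib.DCxKFlat.LBaseKFlat
import Groth.Agent.Lib.AdicExtra.Completion
import Groth.Agent.S1779
-- import your own Groth.Agent.* helpers here

set_option autoImplicit false
universe u
open CategoryTheory
attribute [local instance] HasDerivedCategory.standard
open Dual

namespace Groth.Agent.S1723

/-- If a Noetherian local ring A has a dualizing complex, then each of its formal fibres is a Gorenstein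
ring: for every prime p the ring A^ ⊗_A κ(p) (completion at the maximal ideal, tensored with the
residue field of p) is a Gorenstein ring. -/
theorem result (A : Type u) [CommRing A] [IsLocalRing A] [IsNoetherianRing A] (ω : Dual.D A) (hω : Dual.IsDualizing A ω) (p : PrimeSpectrum A) : LocCoh.IsGorensteinRing (EGA4.formalFibre A p.asIdeal) := by
  let C := EGA4.Cpl A
  haveI : DRing.HasLBaseChange (algebraMap A (AdicCompletion (IsLocalRing.maximalIdeal A) A)) := GrothLib.KF.hasLBaseChange _
  haveI : Module.Flat A C := AdicCompletion.flat_of_isNoetherian _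
  haveI := GrothLib.DR.preservesFiniteLimits_extendScalars (algebraMap A C) GrothLib.DR.flat_algebraMap
  obtain ⟨eC⟩ := GrothLib.DualCx22.nonempty_lBase_iso_bcD (A := A) C
  have hωC : Dual.IsDualizing C ((GrothLib.DualCx22.bcD (A := A) C).obj ω) :=
    GrothLib.DualCx22.isDualizing_of_iso (eC.app ω) (Groth.Agent.S1779.result A (IsLocalRing.maximalIdeal A) ω hω)
  haveI : IsNoetherianRing C := hωC.isNoetherianRing
  haveI : IsNoetherianRing (TensorProduct A C p.asIdeal.ResidueField) := Algebra.EssFiniteType.isNoetherianRing C _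
  haveI : IsNoetherianRing (p.asIdeal.Fiber C) :=
    isNoetherianRing_of_ringEquiv _ (Algebra.TensorProduct.comm A C p.asIdeal.ResidueField).toRingEquiv
  refine { ‹IsNoetherianRing (p.asIdeal.Fiber C)› with isGorensteinLocalRing_localization := fun Q hQ => ?_ }
  let P : Ideal C := Q.comap Algebra.TensorProduct.includeRight
  haveI hover : P.LiesOver p.asIdeal := inferInstance
  letI := Localization.AtPrime.algebraOfLiesOver p.asIdeal P
  refine (GrothLib.GorFlat.gorenstein_congr (R := Localization.AtPrime Q)
    (Ideal.Fiber.localizationAlgEquivQuotient p.asIdeal Q).toRingEquiv).2 ?_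
  let B := Localization.AtPrime P
  haveI : Module.Flat C B := IsLocalization.flat B P.primeCompl
  haveI : Module.Flat A B := Module.Flat.trans A C B
  haveI : IsNoetherianRing B := IsLocalization.isNoetherianRing P.primeCompl B inferInstance
  haveI := GrothLib.DR.preservesFiniteLimits_extendScalars (algebraMap C B) GrothLib.DR.flat_algebraMap
  haveI := GrothLib.DR.preservesFiniteLimits_extendScalars (algebraMap A B) GrothLib.DR.flat_algebraMap
  obtain ⟨ec⟩ := GrothLib.DualRing.nonempty_bcD_comp (A := A) C B ω
  have hωB : Dual.IsDualizing B ((GrothLib.DualCx22.bcD (A := A) B).obj ω) :=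
    GrothLib.DualCx22.isDualizing_of_iso ec
      (GrothLib.DualCx22.isDualizing_bcD_localization P.primeCompl B hωC)
  obtain ⟨a, b, hab⟩ := hω.finite_injective_dimension
  haveI : ω.IsGE a := GrothLib.DualCx22.isGE_of_hom_ring ω a fun i hi => hab A i (Or.inl hi)
  have hp : p.asIdeal = (IsLocalRing.maximalIdeal B).comap (algebraMap A B) := by
    rw [IsScalarTower.algebraMap_eq A C B, ← Ideal.comap_comap,
      show (IsLocalRing.maximalIdeal B).comap (algebraMap C B) = P from IsLocalization.AtPrime.under_maximalIdeal B P]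
    exact hover.over
  have hunit : ∀ s : A, s ∉ p.asIdeal → IsUnit (algebraMap A B s) := fun s hs => by
    by_contra h
    exact hs (hp.symm ▸ (show algebraMap A B s ∈ IsLocalRing.maximalIdeal B from h))
  have hT : ∀ i, i ≠ GrothLib.DualRing.deg hω p.asIdeal → Subsingleton (GrothLib.DualRing.EH
      ((GrothLib.DualCx22.bcD (A := A) B).obj ω) (Dual.inD B (B ⧸ p.asIdeal.map (algebraMap A B))) i) := fun i hi => by
    haveI := GrothLib.DualRing.subsingleton_tensor_of_killed B
      (H := GrothLib.DualRing.EH ω (Dual.inD A (A ⧸ p.asIdeal)) i) fun y => by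
        obtain ⟨s, hs, hsy⟩ := GrothLib.DualRing.len_eq_zero_iff.1 (GrothLib.DualRing.mu_ne_deg hω p.asIdeal hi) y
        exact ⟨s, hunit s hs, hsy⟩
    exact (GrothLib.DualRing.nonempty_equiv_quotient_bcD B ω a p.asIdeal i).some.toEquiv.subsingleton
  obtain ⟨e⟩ := GrothLib.DualRing.nonempty_tensor_equiv B p.asIdeal hunit
    (GrothLib.DualRing.smul_EH_quotient (ω := ω) p.asIdeal (GrothLib.DualRing.deg hω p.asIdeal))
    (GrothLib.DualRing.mu_deg hω p.asIdeal)
  exact GrothLib.DualRing.gorenstein_of_dual hωB (p.asIdeal.map (algebraMap A B)) _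
    (Ideal.map_le_iff_le_comap.2 hp.le) hT
    ⟨(GrothLib.DualRing.nonempty_equiv_quotient_bcD B ω a p.asIdeal _).some ≪≫ₗ e.symm ≪≫ₗ
      (Algebra.TensorProduct.quotIdealMapEquivTensorQuot B p.asIdeal).symm.toLinearEquiv⟩


end Groth.Agent.S1723
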