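import Groth.Statements.S7048
import Groth.Agent.Lib.DCxRing.DComplete.Basic
import Groth.Agent.Lib.DCxRing.DComplete.Ideal


set_option autoImplicit false
universe u
attribute [local instance] HasDerivedCategory.standard
open DRing

namespace Groth.Agent.S7048

theorem _root_.GrothLib.DCpl.dcMod_of_isAdicComplete {A : Type u} [CommRing A] (I : Ideal A)
    (M : Type u) [AddCommGroup M] [Module A M] [IsAdicComplete I M] {f : A} (hf : f ∈ I) :
    GrothLib.DCpl.DCMod f M := by
  have hmem : ∀ (n : ℕ) (x : M), f ^ n • x ∈ (I ^ n • ⊤ : Submodule A M) := fun n x =>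
    Submodule.smul_mem_smul (Ideal.pow_mem_pow hf n) trivial
  refine ⟨(injective_iff_map_eq_zero _).2 fun x hx => funext fun j => ?_, fun y => ?_⟩
  · have hxn : ∀ n j, x j = f ^ n • x (j + n) := by
      intro n
      induction n with
      | zero => simp
      | succ n ih =>
        intro j
        rw [ih j, sub_eq_zero.1 (congrFun hx (j + n)), smul_smul, ← pow_succ]
        rfl
    refine IsHausdorff.haus (inferInstance : IsHausdorff I M) (x j) fun n => ?_
    rw [SModEq.zero, hxn n j]
    exact hmem n _
  · let s : ℕ → ℕ → M := fun j n => ∑ k ∈ Finset.range n, f ^ k • y (j + k)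
    have hs : ∀ j {m n : ℕ}, m ≤ n → s j m ≡ s j n [SMOD (I ^ m • ⊤ : Submodule A M)] := by
      intro j m n hmn
      induction hmn with
      | refl => rfl
      | @step n hmn ih =>
        refine ih.trans (SModEq.sub_mem.2 ?_)
        simp only [s, Finset.sum_range_succ, sub_add_cancel_left]
        exact neg_mem (Submodule.smul_mem_smul (Ideal.pow_le_pow_right hmn (Ideal.pow_mem_pow hf n)) trivial)
    choose L hL using fun j => IsPrecomplete.prec (inferInstance : IsPrecomplete I M) (hs j)
    refine ⟨L, funext fun j => sub_eq_zero.1 (IsHausdorff.haus (inferInstance : IsHausdorff I M) _ fun n => ?_)⟩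
    rw [SModEq.zero]
    have h1 := SModEq.sub_mem.1 ((hL j (n + 1)).mono (Submodule.smul_mono_left (Ideal.pow_le_pow_right n.le_succ)))
    have h2 := Submodule.smul_mem _ f (SModEq.sub_mem.1 (hL (j + 1) n))
    have h3 : s j (n + 1) = y j + f • s (j + 1) n := by
      simp only [s, Finset.sum_range_succ', Finset.smul_sum, smul_smul, ← pow_succ', pow_zero, one_smul, add_zero]
      rw [add_comm]
      congr 1
      exact Finset.sum_congr rfl fun k _ => by rw [add_right_comm, add_assoc]
    have h4 := sub_mem h2 h1
    rw [h3] at h4
    rw [GrothLib.DCpl.telMap_apply]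
    convert h4 using 1
    rw [smul_sub]
    abel


/-- For a commutative ring A, an ideal I and an A-module M which is I-adically complete, the object M[0]
of D(A) is derived complete with respect to I. -/
theorem result {A : Type u} [CommRing A] (I : Ideal A)
    (M : Type u) [AddCommGroup M] [Module A M] [IsAdicComplete I M] :
    DRing.IsDerivedComplete I (Dual.inD A M) := by
  rw [GrothLib.DCpl.isDerivedComplete_inD_iff]
  exact fun f hf => GrothLib.DCpl.dcMod_of_isAdicComplete I M hf

end Groth.Agent.S7048
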