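import Groth.Statements.S18928
import Mathlib

set_option autoImplicit false
universe u
open DPow

namespace Groth.Agent.S18928

/-- Let B be a commutative ring, I an ideal of B with a divided power structure, p a prime, r a natural
number, b an element of B and δ an element of I. Then (b + δ)^(p^r) − b^(p^r) lies in the ideal p^r
I. (The source states this for a divided power thickening over the Witt vectors of length n and 0 ≤
r ≤ n; neither restriction is used.) -/
theorem result {B : Type u} [CommRing B] {I : Ideal B}
    (hI : DividedPowers I) (p : ℕ) [Fact p.Prime] (r : ℕ) (b δ : B) (hδ : δ ∈ I) :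
    (b + δ) ^ (p ^ r) - b ^ (p ^ r) ∈ Ideal.span {((p : B) ^ r)} * I := by
  classical
  have key : ∀ N j : ℕ, N ∣ N.descFactorial (j + 1) := by
    intro N j
    cases N with
    | zero => simp
    | succ n => exact ⟨_, Nat.succ_descFactorial_succ n j⟩
  rw [add_comm b δ, add_pow, Finset.sum_range_succ']
  simp only [pow_zero, Nat.choose_zero_right, Nat.cast_one, one_mul, mul_one, Nat.sub_zero,
    add_sub_cancel_right]
  refine Ideal.sum_mem _ fun j _ => ?_
  obtain ⟨c, hc⟩ := key (p ^ r) j
  have e : ((p ^ r).choose (j + 1) : B) * δ ^ (j + 1) =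
      (p : B) ^ r * ((c : B) * hI.dpow (j + 1) δ) := by
    rw [← hI.factorial_mul_dpow_eq_pow (n := j + 1) hδ, ← mul_assoc, ← Nat.cast_mul, mul_comm ((p ^ r).choose (j + 1)),
      ← Nat.descFactorial_eq_factorial_mul_choose, hc]
    push_cast
    ring
  have : δ ^ (j + 1) * b ^ (p ^ r - (j + 1)) * ((p ^ r).choose (j + 1) : B) =
      ((p : B) ^ r) * ((c : B) * b ^ (p ^ r - (j + 1)) * hI.dpow (j + 1) δ) := by
    linear_combination (b ^ (p ^ r - (j + 1))) * e
  rw [this]
  exact Ideal.mul_mem_mul (Ideal.mem_span_singleton_self _)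
    (I.mul_mem_left _ (hI.dpow_mem (Nat.succ_ne_zero j) hδ))

end Groth.Agent.S18928
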