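import Groth.Statements.S7689
import Groth.Agent.Lib.NormFib.Cokernel
import Groth.Agent.Lib.CurvePoints.Basic

set_option autoImplicit false
universe u
open CategoryTheory CategoryTheory.Limits AlgebraicGeometry
open Variety

namespace Groth.Agent.S7689

/-- For an integral X: let X be an integral Nagata scheme of dimension one (every affine open has a
Nagata coordinate ring) with normalization ν : X^ν → X. Then ν is finite and birational (an
isomorphism over a dense open), O_X ⊆ ν_*O_{X^ν}, and the quotient ν_*O_{X^ν}/O_X is supported at
closed points, its stalk at a closed point x having length equal to the δ-invariant of O_{X,x}. (The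
published statement is for reduced Nagata schemes of dimension one; it also says that ν is
surjective and that the quotient is nonzero exactly at the singular points, and it describes the
stalk A' of ν_*O_{X^ν} at x, namely the integral closure of O_{X,x} in its total fraction ring, a
semi-local ring that is a finite product of Dedekind domains, together with the completions of
O_{X,x} and A'. This row takes X integral, does not restate surjectivity, which holds for the
normalization of every integral scheme, and keeps the finiteness, birationality, injectivity and
length clauses.) -/
theorem result (X : Scheme.{u}) [IsIntegral X]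
    [QuasiCompact (X.fromSpecStalk (genericPoint X))] [QuasiSeparated (X.fromSpecStalk (genericPoint X))]
    (hN : ∀ U : X.affineOpens, CAlg.IsNagata Γ(X, (U : X.Opens))) (hdim : topologicalKrullDim X = 1) :
    IsFinite (Curv2.normalizationι X) ∧
      (∃ U : X.Opens, Dense ((U : Set X)) ∧ IsIso (Curv2.normalizationι X ∣_ U)) ∧
      Mono (ClSub.unitToPush (Curv2.normalizationι X)) ∧
      (∀ x : X, IsClosed ({x} : Set X) →
        Module.length (X.presheaf.stalk x) ((cokernel (ClSub.unitToPush (Curv2.normalizationι X))).presheaf.stalk x) =
          Curv2.deltaInv (X.presheaf.stalk x)) ∧
      (∀ x : X, ¬ IsClosed ({x} : Set X) →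
        Subsingleton ((cokernel (ClSub.unitToPush (Curv2.normalizationι X))).presheaf.stalk x)) := by
  have hfin := GrothLib.NormFib.isFinite_of_nagata hN
  refine ⟨hfin, ?_, GrothLib.NormFib.mono_unitToPush, fun x _ => GrothLib.NormFib.length_stalk_cokernel x, fun x hx => ?_⟩
  · obtain ⟨V, hne, hiso⟩ := GrothLib.NormFib.exists_isIso_of_finite hfin
    exact ⟨V, IsOpen.dense V.isOpen hne, hiso⟩
  · have h : x = genericPoint X := by
      by_contra h
      exact hx (GrothLib.CurvePoints.isClosed_singleton hdim.le h)
    subst h
    rw [← Module.length_eq_zero_iff (R := X.presheaf.stalk (genericPoint X)),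
      GrothLib.NormFib.length_stalk_cokernel, GrothLib.NormFib.deltaInv_eq_zero_of_isField]
    exact Field.toIsField X.functionField

end Groth.Agent.S7689
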