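import Groth.Statements.S17539
import Groth.Agent.Lib.Decaying.Basic
import Groth.Agent.Lib.AdicExtra.Complete
-- import your own Groth.Agent.* helpers here

set_option autoImplicit false
universe u v w
open W4c5adicflatcompl
open CAlg

namespace Groth.Agent.S17539

/-- For a commutative ring A, an ideal I, a set Z and an A-module M whose I-adic completion M^ is itself
I-adically complete, the canonical map from the I-adic completion of Z →₀ M to the functions Z → M^,
whose z-th coordinate is the completion of evaluation at z, is injective with image the I-adically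
decaying functions Z → M^. (The source states bijectivity of the inverse map, from decaying
functions to the limit of the finitely supported functions Z → M/I^n M, induced by the projections
M^ → M/I^n M; the two formulations are equivalent.) -/
theorem result {A : Type u} [CommRing A] (I : Ideal A) (Z : Type v)
    (M : Type w) [AddCommGroup M] [Module A M] [IsAdicComplete I (AdicCompletion I M)] :
    Function.Injective
        (LinearMap.pi fun z : Z =>
          (AdicCompletion.map I (Finsupp.lapply (M := M) (R := A) z)).restrictScalars A) ∧
      LinearMap.range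
        (LinearMap.pi fun z : Z =>
          (AdicCompletion.map I (Finsupp.lapply (M := M) (R := A) z)).restrictScalars A) =
        decaying I Z (AdicCompletion I M) := by
  classical
  have hmem : ∀ (n : ℕ) (g : Z →₀ M), (∀ z, g z ∈ (I ^ n • ⊤ : Submodule A M)) →
      g ∈ (I ^ n • ⊤ : Submodule A (Z →₀ M)) := fun n g hg => by
    rw [← Finsupp.sum_single g]
    exact Submodule.sum_mem _ fun z _ => GrothLib.Decaying.map_mem (Finsupp.lsingle (R := A) z) (hg z)
  let C := LinearMap.pi fun z : Z =>
    (AdicCompletion.map I (Finsupp.lapply (M := M) (R := A) z)).restrictScalars A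
  have hC : ∀ (x : AdicCompletion I (Z →₀ M)) (z : Z) (n : ℕ) (r : Z →₀ M),
      x.val n = Submodule.Quotient.mk r → (C x z).val n = Submodule.Quotient.mk (r z) := fun x z n r hr => by
    show (AdicCompletion.map I (Finsupp.lapply (M := M) (R := A) z) x).val n = _
    rw [AdicCompletion.map_val_apply, hr]
    rfl
  refine ⟨?_, le_antisymm ?_ ?_⟩
  · rw [injective_iff_map_eq_zero]
    intro x hx
    refine AdicCompletion.ext fun n => ?_
    obtain ⟨r, hr⟩ := Submodule.Quotient.mk_surjective _ (x.val n)
    rw [← hr, AdicCompletion.val_zero_apply, Submodule.Quotient.mk_eq_zero]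
    refine hmem n r fun z => ?_
    have h := hC x z n r hr.symm
    rw [show C x z = 0 from congrFun hx z, AdicCompletion.val_zero_apply] at h
    exact (Submodule.Quotient.mk_eq_zero _).1 h.symm
  · rintro _ ⟨x, rfl⟩ n
    obtain ⟨r, hr⟩ := Submodule.Quotient.mk_surjective _ (x.val n)
    refine r.support.finite_toSet.subset fun z hz => ?_
    by_contra h
    refine hz ?_
    obtain ⟨y, hy⟩ := GrothLib.AdicExtra.ker_eval_le_of_isPrecomplete (I := I) n (C x z)
    have h2 : AdicCompletion.eval I M n (C x z - AdicCompletion.of I M y) = 0 :=
      AdicCompletion.pow_smul_top_le_ker_eval I n hy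
    rw [map_sub, AdicCompletion.eval_apply, hC x z n r hr.symm, Finsupp.notMem_support_iff.1 h,
      Submodule.Quotient.mk_zero, zero_sub, neg_eq_zero, AdicCompletion.eval_of, Submodule.mkQ_apply,
      Submodule.Quotient.mk_eq_zero] at h2
    have h3 := Submodule.add_mem _ hy (GrothLib.Decaying.map_mem (AdicCompletion.of I M) h2)
    rwa [sub_add_cancel] at h3
  · intro F hF
    let d : decaying I Z (AdicCompletion I M) := ⟨F, hF⟩
    choose y hy using fun z n => Submodule.Quotient.mk_surjective _ ((F z).val n)
    let r : ℕ → (Z →₀ M) := fun n => ∑ z ∈ GrothLib.Decaying.bad d n, Finsupp.single z (y z n)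
    have hr : ∀ n z, Submodule.Quotient.mk (r n z) = (F z).val n := fun n z => by
      simp only [r, Finsupp.finsetSum_apply, Finsupp.single_apply, Finset.sum_ite_eq']
      split_ifs with hz
      · exact hy z n
      · exact (AdicCompletion.pow_smul_top_le_ker_eval I n (GrothLib.Decaying.mem_of_notMem_bad d hz)).symm
    let x : AdicCompletion I (Z →₀ M) := ⟨fun n => Submodule.Quotient.mk (r n), fun {m n} h => by
      show AdicCompletion.transitionMap I (Z →₀ M) h (Submodule.Quotient.mk (r n)) = Submodule.Quotient.mk (r m)
      refine (Submodule.Quotient.eq _).2 (hmem m _ fun z => ?_)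
      rw [Finsupp.sub_apply]
      refine (Submodule.Quotient.eq _).1 ?_
      rw [hr m z, ← (F z).prop h, ← hr n z]
      rfl⟩
    refine ⟨x, funext fun z => AdicCompletion.ext fun n => ?_⟩
    rw [hC x z n (r n) rfl, hr]

end Groth.Agent.S17539
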