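import Groth.Statements.S0056
import Groth.Agent.Lib.Algz56.Main

set_option autoImplicit false
universe u
open Coherent

namespace Groth.Agent.S0056

open AlgebraicGeometry CategoryTheory CategoryTheory.Limits in
/-- Grothendieck's algebraization Theorem, with a slightly weaker conclusion. Let A be a Noetherian ring
complete for an ideal I, and S_n = Spec(A/I^(n+1)). Given schemes X_n over S_n with transition maps
X_n → X_(n+1) making each X_n the base change of X_(n+1) to S_n, with X_0 → S_0 proper, and
invertible modules L_n on X_n with L_n ≅ (pullback of L_(n+1)) and L_0 ample, there exist a proper Y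
→ Spec A, an ample invertible module M on Y and maps X_n → Y, compatible with the transition maps,
identifying X_n with Y ×_A S_n, under which L_n is isomorphic to the pullback of M. (The published
statement also makes these isomorphisms compatible with the given ones L_n ≅ (pullback of L_(n+1));
that compatibility is not asserted here.) -/
theorem result (A : Type u) [CommRing A]
    [IsNoetherianRing A] (I : Ideal A) [IsAdicComplete I A]
    (Xs : ℕ → Scheme.{u}) (p : (n : ℕ) → (Xs n ⟶ Spec (CommRingCat.of (A ⧸ I ^ (n + 1)))))
    (i : (n : ℕ) → (Xs n ⟶ Xs (n + 1)))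
    (hcart : ∀ n, IsPullback (i n) (p n) (p (n + 1)) (CohB1.specQuotTrans I n)) (hp : IsProper (p 0))
    (L : (n : ℕ) → (Xs n).Modules) (hL : ∀ n, PicF.IsInvertible (L n))
    (φ : ∀ n, Nonempty ((Scheme.Modules.pullback (i n)).obj (L (n + 1)) ≅ L n)) (ha : CohB1.IsAmple (L 0)) :
    ∃ (Y : Scheme.{u}) (g : Y ⟶ Spec (CommRingCat.of A)) (M : Y.Modules) (e : (n : ℕ) → (Xs n ⟶ Y)),
      IsProper g ∧ PicF.IsInvertible M ∧ CohB1.IsAmple M ∧
      (∀ n, IsPullback (e n) (p n) g (CohB1.specQuot I n)) ∧ (∀ n, e n = i n ≫ e (n + 1)) ∧
      ∀ n, Nonempty ((Scheme.Modules.pullback (e n)).obj M ≅ L n) := by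
  exact GrothLib.Algz56.exists_algebraization_ample I p i hcart hp L hL φ ha

end Groth.Agent.S0056
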