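import Groth.Statements.S2330
import Groth.Agent.Lib.Ample.ProjAmple

set_option autoImplicit false
universe u
open CategoryTheory CategoryTheory.Limits AlgebraicGeometry
open EGA2

namespace Groth.Agent.S2330

/-- Let Y be affine, q : X → Y separated and of finite type, and L an invertible O_X-module. Then L is
ample if and only if some L^{⊗n} (n > 0) is very ample relative to q, in the sense that it is the
pullback of O(1) along an immersion of X into some P^m_Y over Y; moreover, if L is ample this holds
for all n beyond some n₀. ('Very ample relative to q' in general means this with P(E) for a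
quasi-coherent O_Y-module E in place of P^m_Y; for q of finite type over an affine base the two
agree, and the P^m_Y form is the one used here.) -/
theorem result {X Y : Scheme.{u}} [IsAffine Y] (q : X ⟶ Y) [IsSeparated q]
    [QuasiCompact q] [LocallyOfFiniteType q] (L : X.Modules) (hL : PicF.IsInvertible L) :
    (CohB1.IsAmple L ↔ ∃ n : ℕ, 0 < n ∧ RelAmple.IsRelVeryAmplePn q (CohB1.tensorPow L n)) ∧
      (CohB1.IsAmple L → ∃ n₀ : ℕ, ∀ n, n₀ ≤ n → RelAmple.IsRelVeryAmplePn q (CohB1.tensorPow L n)) := by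
  have hX : CompactSpace X := QuasiCompact.compactSpace_of_compactSpace q
  have key : CohB1.IsAmple L → ∃ n₀ : ℕ, ∀ n, n₀ ≤ n → RelAmple.IsRelVeryAmplePn q (CohB1.tensorPow L n) := by
    intro hA
    obtain ⟨c, ⟨e⟩⟩ := GrothLib.Ample.exists_cocycle hL
    obtain ⟨n₀, h⟩ := GrothLib.Ample.eventually_isRelVeryAmplePn q c (GrothLib.Ample.Cocycle.triv X)
      ((c.isAmple_iff e).mp hA).2
    refine ⟨n₀, fun n hn => ?_⟩
    obtain ⟨d⟩ := c.nonempty_tensorPow_iso_pow e n
    obtain ⟨f⟩ := (c.pow n).nonempty_refine_iso ((c.pow n).prod (GrothLib.Ample.Cocycle.triv X))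
      (fun i => (i, PUnit.unit)) (fun i => le_inf le_rfl le_top) (fun i j W hi hj => by
        erw [GrothLib.Ample.Cocycle.prod_G]
        show _ = _ * GrothLib.Ample.res _ (1 : Γ(X, _))
        rw [map_one, mul_one]) 1
    exact h n hn (d ≪≫ f)
  refine ⟨⟨fun hA => ?_, ?_⟩, key⟩
  · obtain ⟨n₀, h⟩ := key hA
    exact ⟨n₀ + 1, Nat.succ_pos _, h _ (Nat.le_succ _)⟩
  · rintro ⟨n, hn, h⟩
    exact (GrothLib.Ample.isAmple_tensorPow_iff hL hn).mpr (GrothLib.Ample.isAmple_of_isRelVeryAmplePn q h)

end Groth.Agent.S2330
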