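import Groth.Statements.S14424
import Groth.Agent.Lib.Depth.CM

set_option autoImplicit false
universe u
open LocCoh

namespace Groth.Agent.S14424

/-- Let R be a Noetherian ring. Then R is Cohen–Macaulay (every localization at a prime ideal is a
Cohen–Macaulay local ring) if and only if for every proper ideal a of R the a-depth of R equals the
height (codimension) of a. (The published statement defines a Cohen–Macaulay ring by its
localizations at maximal ideals; this row uses all prime ideals, an equivalent definition because
Cohen–Macaulayness passes to localizations.) -/
theorem result (R : Type u) [CommRing R] [IsNoetherianRing R] :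
    LocCoh.IsCohenMacaulayRing R ↔ ∀ a : Ideal R, a ≠ ⊤ → LocCoh.idealDepth a R = a.height := by
  have hdim : ∀ (p : Ideal R) [p.IsPrime],
      Module.supportDim (Localization.AtPrime p) (Localization.AtPrime p) =
        ((p.height : ℕ∞) : WithBot ℕ∞) := fun p _ => by
    rw [Module.supportDim_self_eq_ringKrullDim,
      IsLocalization.AtPrime.ringKrullDim_eq_height p (Localization.AtPrime p)]
  constructor
  · intro hR a ha
    have key : ∀ (p : Ideal R) [p.IsPrime],
        LocCoh.depth (Localization.AtPrime p) (LocalizedModule p.primeCompl R) = p.height := fun p _ => by
      rw [GrothLib.Depth.depth_localization_self]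
      have h := (hR.isCohenMacaulayLocalRing_localization p).supportDim_eq_depth
      rw [hdim] at h
      exact (WithBot.coe_inj.1 h).symm
    have hle : LocCoh.idealDepth a R ≤ a.height := by
      rw [Ideal.height_eq_inf_minimalPrimes]
      refine le_iInf₂ fun p hp => ?_
      haveI := hp.1.1
      refine (GrothLib.Depth.idealDepth_le_localization a p hp.1.2).trans (le_of_eq ?_)
      rw [key]
    refine le_antisymm hle ?_
    by_cases htop : LocCoh.idealDepth a R = ⊤
    · rw [htop]; exact le_top
    obtain ⟨n, hn⟩ := ENat.ne_top_iff_exists.1 htop
    obtain ⟨p, hap, hp⟩ := GrothLib.Depth.exists_depth_localization_le a n hn.symm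
    rw [key] at hp
    rw [← hn]
    exact (Ideal.height_mono hap).trans hp
  · intro h
    refine { isCohenMacaulayLocalRing_localization := fun p hp => ?_ }
    haveI : IsNoetherianRing (Localization.AtPrime p) :=
      IsLocalization.isNoetherianRing p.primeCompl _ inferInstance
    refine { supportDim_eq_depth := le_antisymm ?_ (GrothLib.Depth.depth_le_supportDim _ _) }
    rw [hdim, ← GrothLib.Depth.depth_localization_self, ← h p hp.ne_top]
    exact WithBot.coe_le_coe.2 (GrothLib.Depth.idealDepth_le_localization p p le_rfl)

end Groth.Agent.S14424
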