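import Groth.Statements.S1676
import Groth.Agent.Lib.SmoothSection.Scheme

set_option autoImplicit false
universe u
open CategoryTheory CategoryTheory.Limits AlgebraicGeometry TopologicalSpace
open SDiv

namespace Groth.Agent.S1676

/-- For a section that is a closed immersion, e.g. when f is separated: let f : X ⟶ S be a smooth
morphism and σ : S ⟶ X a section of f which is a closed immersion. Then σ is a regular closed
immersion. -/
theorem result {X S : Scheme.{u}} (f : X ⟶ S) [Smooth f] (σ : S ⟶ X)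
    (hσ : σ ≫ f = 𝟙 S) [IsClosedImmersion σ] : Mor2.IsRegularClosedImmersion σ := by
  refine ⟨inferInstance, fun s => ?_⟩
  obtain ⟨U₀, hU₀, V₀, hV₀, hx, e, hsm⟩ := Smooth.exists_isStandardSmooth f (σ s)
  obtain ⟨n, hn⟩ : ∃ n, (f.appLE U₀ V₀ e).hom.IsStandardSmoothOfRelativeDimension n := by
    let := (f.appLE U₀ V₀ e).hom.toAlgebra
    obtain ⟨_, _, _, _, ⟨P⟩⟩ := hsm
    exact ⟨P.dimension, ⟨_, _, _, ‹_›, P, rfl⟩⟩
  obtain ⟨U, hsU, -⟩ := GrothLib.BlowUp.exists_affine_mem_le (W := (⊤ : S.Opens)) (x := s) trivial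
  obtain ⟨V, hzV, rs, -, hreg, hI⟩ := GrothLib.SmoothSection.exists_chart_regular n f σ (𝟙 S) hσ s hU₀ hV₀ hx e hn
    U hsU [] (RingTheory.Sequence.IsWeaklyRegular.nil _ _) (by
      rw [Scheme.Hom.ker_apply, Ideal.ofList_nil, ← RingHom.injective_iff_ker_eq_bot]
      exact fun a b h => h)
  exact ⟨V.1, V.2, hzV, rs, hreg, hI⟩

end Groth.Agent.S1676
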