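import Groth.Statements.S8654
-- import your own Groth.Agent.* helpers here
import Groth.Agent.Lib.RegSeqLoc.Comp

set_option autoImplicit false
universe u
open CategoryTheory CategoryTheory.Limits AlgebraicGeometry
open RegImm

namespace Groth.Agent.S8654

/-- Let i : Y ⟶ X and j : Z ⟶ Y be Koszul-regular immersions (not necessarily closed). Then the
composite Z ⟶ X is a Koszul-regular immersion. -/
theorem result {X Y Z : Scheme.{u}} (i : Y ⟶ X) (j : Z ⟶ Y)
    (hi : RegImm.IsRegularImmersion .koszul i) (hj : RegImm.IsRegularImmersion .koszul j) :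
    RegImm.IsRegularImmersion .koszul (j ≫ i) := by
  haveI : IsImmersion i := hi.1
  haveI : IsImmersion j := hj.1
  refine ⟨MorphismProperty.comp_mem @IsImmersion _ _ hj.1 hi.1, fun z => ?_⟩
  obtain ⟨U, hzU, hci, rs, hK, hI⟩ := hi.2 (j z)
  obtain ⟨W, hzW, hcj, ms, hM, hJ⟩ := hj.2 z
  obtain ⟨V, h1, h2, ts, -, h3, h4⟩ := GrothLib.RegSeqLoc.exists_equations_comp i j z U hzU hci rs hK hI W hzW hcj ms hM hJ
  exact ⟨V, h1, h2, ts, h3, h4⟩

end Groth.Agent.S8654
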