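import Groth.Statements.S2049
import Mathlib
import Groth.Agent.Lib.NagataFP.Basic
-- import your own Groth.Agent.* helpers here

set_option autoImplicit false
universe u
open CAlg

namespace Groth.Agent.S2049

/-- Let `A` be a valuation ring, `A → B` a local homomorphism of local rings essentially of finite type,
and `M` a finite `B`-module which is flat over `A`. Then `M` is finitely presented over `B`. -/
theorem result {A B M : Type u} [CommRing A] [IsDomain A]
    [ValuationRing A] [CommRing B] [IsLocalRing B] [Algebra A B] [IsLocalHom (algebraMap A B)]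
    [Algebra.EssFiniteType A B] [AddCommGroup M] [Module B M] [Module A M] [IsScalarTower A B M]
    [Module.Finite B M] [Module.Flat A M] : Module.FinitePresentation B M := by
  classical
  obtain ⟨S₀, T₀, hft, hloc⟩ := (Algebra.essFiniteType_iff_exists_subalgebra A B).1
    (inferInstance : Algebra.EssFiniteType A B)
  obtain ⟨n, f, hf⟩ := Algebra.FiniteType.iff_quotient_mvPolynomial''.1 hft
  let P := MvPolynomial (Fin n) A
  let φ : P →ₐ[A] B := S₀.val.comp f
  letI : Algebra P B := φ.toRingHom.toAlgebra
  letI : Module P M := Module.compHom M φ.toRingHom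
  haveI : IsScalarTower P B M := IsScalarTower.of_algebraMap_smul fun _ _ => rfl
  have hloc' : ∀ b : B, ∃ (a : P) (t : P), IsUnit (φ t) ∧ b * φ t = φ a := by
    intro b
    obtain ⟨⟨a, t⟩, h⟩ := IsLocalization.surj T₀ b
    obtain ⟨a', rfl⟩ := hf a
    obtain ⟨t', ht'⟩ := hf t.1
    refine ⟨a', t', ?_, ?_⟩
    · show IsUnit (S₀.val (f t'))
      rw [ht']
      exact IsLocalization.map_units B t
    · show b * S₀.val (f t') = S₀.val (f a')
      rw [ht']
      exact h
  let T : Submonoid P := (IsUnit.submonoid B).comap φ.toRingHom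
  obtain ⟨r, π, hπ⟩ := Module.Finite.exists_fin' B M
  let M₀ : Submodule P M := Submodule.span P (Set.range fun i => π (Pi.single i 1))
  haveI : Module.Finite P M₀ := Module.Finite.span_of_finite P (Set.finite_range _)
  haveI : Module.FinitePresentation P M₀ := by
    refine GrothLib.NagataFP.finitePresentation_of_torsionFree fun a m ha h => ?_
    refine Subtype.ext ?_
    have h' : φ (MvPolynomial.C a) • (m : M) = 0 := congrArg Subtype.val h
    rw [← MvPolynomial.algebraMap_eq, φ.commutes, algebraMap_smul] at h'
    haveI : Module.IsTorsionFree A M := inferInstance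
    exact (smul_eq_zero.1 h').resolve_left ha
  haveI : IsLocalizedModule T M₀.subtype :=
    { map_units := fun t => by
        obtain ⟨c, hc⟩ := (t.2 : IsUnit (φ t.1))
        rw [Module.End.isUnit_iff]
        refine Function.bijective_iff_has_inverse.2 ⟨fun m => (↑c⁻¹ : B) • m, fun m => ?_, fun m => ?_⟩
        · show (↑c⁻¹ : B) • (φ t.1 • m) = m
          rw [smul_smul, show φ t.1 = (c : B) from hc.symm, Units.inv_mul, one_smul]
        · show φ t.1 • ((↑c⁻¹ : B) • m) = m
          rw [smul_smul, show φ t.1 = (c : B) from hc.symm, Units.mul_inv, one_smul]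
      surj := fun m => by
        obtain ⟨v, rfl⟩ := hπ m
        choose a t htu hat using fun i => hloc' (v i)
        refine ⟨⟨⟨∑ i, ((∏ j ∈ Finset.univ.erase i, t j) * a i) • π (Pi.single i 1),
          Submodule.sum_mem _ fun i _ => Submodule.smul_mem _ _ (Submodule.subset_span ⟨i, rfl⟩)⟩,
          ⟨∏ i, t i, ?_⟩⟩, ?_⟩
        · show IsUnit (φ (∏ i, t i))
          rw [map_prod]
          exact IsUnit.prod_iff.2 fun i _ => htu i
        · show φ (∏ i, t i) • π v = ∑ i, φ ((∏ j ∈ Finset.univ.erase i, t j) * a i) • π (Pi.single i 1)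
          conv_lhs => rw [pi_eq_sum_univ' v, map_sum, Finset.smul_sum]
          refine Finset.sum_congr rfl fun i _ => ?_
          rw [map_smul, smul_smul]
          congr 1
          rw [← Finset.mul_prod_erase _ _ (Finset.mem_univ i), map_mul φ, map_mul φ, ← hat i]
          ring
      exists_of_eq := fun {x y} h => ⟨1, by rw [Subtype.ext h]⟩ }
  refine FinitePresentation.of_isBaseChange (A := B) M₀.subtype (IsBaseChange.of_lift_unique _ fun Q _ _ _ _ g => ?_)
  have hQ : ∀ t : T, IsUnit (algebraMap P (Module.End P Q) t) := fun t => by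
    obtain ⟨c, hc⟩ := (t.2 : IsUnit (φ t.1))
    rw [Module.End.isUnit_iff]
    have he : ∀ q : Q, (t.1 : P) • q = φ t.1 • q := fun q => (algebraMap_smul B t.1 q).symm
    refine Function.bijective_iff_has_inverse.2 ⟨fun m => (↑c⁻¹ : B) • m, fun m => ?_, fun m => ?_⟩
    · show (↑c⁻¹ : B) • ((t.1 : P) • m) = m
      rw [he, smul_smul, show φ t.1 = (c : B) from hc.symm, Units.inv_mul, one_smul]
    · show (t.1 : P) • ((↑c⁻¹ : B) • m) = m
      rw [he, smul_smul, show φ t.1 = (c : B) from hc.symm, Units.mul_inv, one_smul]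
  let g' := IsLocalizedModule.lift T M₀.subtype g hQ
  refine ⟨{ g' with map_smul' := fun b x => ?_ }, LinearMap.ext fun x => IsLocalizedModule.lift_apply T M₀.subtype g hQ x,
    fun h hh => LinearMap.restrictScalars_injective P ?_⟩
  · obtain ⟨a, t, htu, hat⟩ := hloc' b
    obtain ⟨c, hc⟩ := htu
    have hb : b = φ a * (↑c⁻¹ : B) := by rw [← hat, ← hc, mul_assoc, Units.mul_inv, mul_one]
    have hg : ∀ (p : P) (y : M), g' (φ p • y) = φ p • g' y := fun p y => by
      have := g'.map_smul p y
      rw [← algebraMap_smul B p (g' y)] at this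
      exact this
    have hinv : ∀ y : M, g' ((↑c⁻¹ : B) • y) = (↑c⁻¹ : B) • g' y := fun y => by
      have h1 := hg t ((↑c⁻¹ : B) • y)
      rw [← hc, smul_smul, Units.mul_inv, one_smul] at h1
      rw [h1, smul_smul, Units.inv_mul, one_smul]
    show g' (b • x) = b • g' x
    rw [hb, mul_smul, hg, hinv, ← mul_smul]
  · exact (IsLocalizedModule.lift_unique T M₀.subtype g hQ (h.restrictScalars P) hh).symm

end Groth.Agent.S2049
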