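import Groth.Statements.S1266
import Groth.Agent.Lib.FibreUnivInj.Basic

set_option autoImplicit false
universe u
open FlatMor

namespace Groth.Agent.S1266

set_option maxHeartbeats 1000000
set_option linter.style.haveILetI false
open TensorProduct in
/-- Presentation of a finitely presented module over a localization by one over a polynomial ring. -/
theorem main {A B : Type u} [CommRing A] [CommRing B] [Algebra A B] [Algebra.FinitePresentation A B]
    (T : Submonoid B) (N : Type u) [AddCommGroup N] [Module (Localization T) N] [Module A N] [IsScalarTower A (Localization T) N]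
    [Module.FinitePresentation (Localization T) N] [Module.Flat A N]
    (M : Type u) [AddCommGroup M] [Module A M] [Module.Flat A M] (u : N →ₗ[A] M)
    (h : ∀ (p : Ideal A) [p.IsPrime], Function.Injective (u.lTensor p.ResidueField))
    (Q : Type u) [AddCommGroup Q] [Module A Q] : Function.Injective (u.lTensor Q) := by
  classical
  obtain ⟨n, π, hπ, hker⟩ := ‹Algebra.FinitePresentation A B›.out
  let P := MvPolynomial (Fin n) A
  let L := Localization T
  letI : Algebra P B := π.toRingHom.toAlgebra
  haveI : IsScalarTower A P B := IsScalarTower.of_algebraMap_eq fun a => (π.commutes a).symm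
  letI : Module B N := Module.compHom N (algebraMap B L)
  haveI : IsScalarTower B L N := IsScalarTower.of_algebraMap_smul fun b x => rfl
  letI : Module P N := Module.compHom N ((algebraMap B L).comp π.toRingHom)
  haveI : IsScalarTower P B N := IsScalarTower.of_algebraMap_smul fun b x => rfl
  haveI : IsScalarTower A P N := IsScalarTower.of_algebraMap_smul fun a x => by
    show algebraMap B L (π (algebraMap A P a)) • x = a • x
    rw [AlgHom.commutes, ← IsScalarTower.algebraMap_apply, algebraMap_smul]
  -- the presentation over the base algebra
  obtain ⟨r, K, e, hK⟩ := Module.FinitePresentation.exists_fin L N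
  obtain ⟨G, hG⟩ := hK
  let f : (Fin r → B) →ₗ[B] (Fin r → L) := LinearMap.pi fun i => Algebra.linearMap B L ∘ₗ LinearMap.proj i
  haveI : IsLocalizedModule T f := inferInstance
  choose num hnum using fun k : Fin r → L => IsLocalizedModule.surj T f k
  let M' : Submodule B (Fin r → B) := Submodule.span B ((G.image fun k => (num k).1 : Finset (Fin r → B)) : Set (Fin r → B))
  have hM' : M'.localized' L T f = K := by
    rw [Submodule.localized'_span, ← hG]
    refine le_antisymm (Submodule.span_le.2 ?_) (Submodule.span_le.2 fun k hk => ?_)
    · rintro _ ⟨x, hx, rfl⟩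
      obtain ⟨k, hk, rfl⟩ := Finset.mem_image.1 hx
      rw [SetLike.mem_coe, ← hnum k]
      exact Submodule.smul_of_tower_mem _ _ (Submodule.subset_span hk)
    · have hu : IsUnit (algebraMap B L (num k).2) := IsLocalization.map_units L (num k).2
      rw [SetLike.mem_coe, ← Submodule.smul_mem_iff_of_isUnit _ hu, algebraMap_smul]
      exact Submodule.subset_span ⟨(num k).1, Finset.mem_image_of_mem _ hk, (hnum k).symm⟩
  let N₁ := (Fin r → B) ⧸ M'
  let eB : ((Fin r → L) ⧸ M'.localized' L T f) ≃ₗ[B] N :=
    ((Submodule.quotEquivOfEq _ _ hM').trans e.symm).restrictScalars B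
  let ιB : N₁ →ₗ[B] N := eB.toLinearMap ∘ₗ M'.toLocalizedQuotient' L T f
  haveI : IsLocalizedModule T ιB := IsLocalizedModule.of_linearEquiv T _ eB
  let TP : Submonoid P := T.comap π.toRingHom
  haveI : IsLocalizedModule TP (ιB.restrictScalars P) := by
    refine ⟨fun t => ?_, fun y => ?_, fun {x y} hxy => ?_⟩
    · have h1 := IsLocalizedModule.map_units ιB (⟨π (t : P), t.2⟩ : T)
      rw [Module.End.isUnit_iff] at h1 ⊢
      exact h1
    · obtain ⟨⟨x, t⟩, hx⟩ := IsLocalizedModule.surj T ιB y
      obtain ⟨t', ht'⟩ := hπ t.1
      refine ⟨⟨x, ⟨t', show π t' ∈ T from ht' ▸ t.2⟩⟩, ?_⟩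
      show algebraMap B L (π t') • y = _
      exact (congrArg (fun b => algebraMap B L b • y) ht').trans ((algebraMap_smul L (t : B) y).trans hx)
    · obtain ⟨t, ht⟩ := IsLocalizedModule.exists_of_eq (S := T) (f := ιB) hxy
      obtain ⟨t', ht'⟩ := hπ t.1
      refine ⟨⟨t', show π t' ∈ T from ht' ▸ t.2⟩, ?_⟩
      show algebraMap P B t' • x = algebraMap P B t' • y
      rw [show algebraMap P B t' = t.1 from ht']
      exact ht
  haveI : Module.FinitePresentation B N₁ := Module.finitePresentation_of_surjective M'.mkQ M'.mkQ_surjective
    (by rw [Submodule.ker_mkQ]; exact ⟨_, rfl⟩)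
  haveI : Module.FinitePresentation P B := Module.finitePresentation_of_surjective (Algebra.linearMap P B) hπ hker
  haveI : Module.FinitePresentation P N₁ := Module.FinitePresentation.trans P N₁ B
  exact GrothLib.FibreUnivInj.univInj TP (ιB.restrictScalars P) u h Q


open TensorProduct in
/-- Let B be a finitely presented A-algebra, T a multiplicative subset of B, and N a finitely presented
module over the localization T⁻¹B which is flat as an A-module. Let M be a flat A-module and u an
A-linear map from N to M such that u ⊗ κ(p) is injective for every prime p of A. Then u is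
universally injective over A. -/
theorem result {A B : Type u} [CommRing A] [CommRing B] [Algebra A B] [Algebra.FinitePresentation A B]
    (T : Submonoid B) (N : Type u) [AddCommGroup N] [Module (Localization T) N] [Module A N] [IsScalarTower A (Localization T) N]
    [Module.FinitePresentation (Localization T) N] [Module.Flat A N]
    (M : Type u) [AddCommGroup M] [Module A M] [Module.Flat A M] (u : N →ₗ[A] M)
    (h : ∀ (p : Ideal A) [p.IsPrime], Function.Injective (u.lTensor p.ResidueField)) :
    FlatCA.UnivInj A u := by
  exact fun Q _ _ => main T N M u h Q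


end Groth.Agent.S1266
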