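import Groth.Statements.S1192
import Groth.Agent.Lib.WeakAssFib.Up
import Mathlib.RingTheory.Ideal.AssociatedPrime.Finiteness

set_option autoImplicit false
universe u
open FlatMor

namespace Groth.Agent.S1192

open TensorProduct GrothLib.WeakAssFib GrothLib.AssPts

theorem mem_of_mem {R S : Type u} [CommRing R] [CommRing S] [Algebra R S] [Algebra.FinitePresentation R S]
    (N : Type u) [AddCommGroup N] [Module S N] [Module R N] [IsScalarTower R S N] [Module.FinitePresentation S N]
    [Module.Flat R N] (M : Type u) [AddCommGroup M] [Module R M] (p : Ideal R) [p.IsPrime] (q : Ideal S) [q.IsPrime]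
    [q.LiesOver p] (hq : q ∈ FlatCA.weakAss S (N ⊗[R] M)) :
    p ∈ FlatCA.weakAss R M ∧ FlatCA.fiberIdeal p q ∈ associatedPrimes (p.Fiber S) (FlatCA.fiberMod p S N) := by
  classical
  haveI : IsNoetherianRing (p.Fiber S) := Algebra.FiniteType.isNoetherianRing p.ResidueField (p.Fiber S)
  obtain ⟨ef, hef⟩ := exists_fibreEquiv p (S := S) N
  haveI : Module.Finite (p.Fiber S) (FlatCA.fiberMod p S N) := by
    letI : Algebra S (p.Fiber S) := Algebra.TensorProduct.rightAlgebra
    exact inferInstanceAs (Module.Finite (p.Fiber S) ((p.Fiber S) ⊗[S] N))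
  let A := (associatedPrimes.finite (p.Fiber S) (FlatCA.fiberMod p S N)).toFinset
  have hA : ∀ P, P ∈ A ↔ P ∈ associatedPrimes (p.Fiber S) (FlatCA.fiberMod p S N) := fun P =>
    (associatedPrimes.finite (p.Fiber S) (FlatCA.fiberMod p S N)).mem_toFinset
  have hbad : ∀ P ∈ A.filter (fun P => ¬ P.comap (toFib p) ≤ q), ∃ x ∈ P.comap (toFib p), x ∉ q := fun P hP =>
    Set.not_subset.1 (Finset.mem_filter.1 hP).2
  choose! x hx hxq using hbad
  let e := ∏ P ∈ A.filter (fun P => ¬ P.comap (toFib p) ≤ q), x P
  have he : e ∉ q := fun h => by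
    obtain ⟨P, hP, hP'⟩ := ‹q.IsPrime›.prod_mem_iff.1 h
    exact hxq P hP hP'
  have heP : ∀ P ∈ associatedPrimes (p.Fiber S) (FlatCA.fiberMod p S N), ¬ P.comap (toFib p) ≤ q → toFib p e ∈ P :=
    fun P hP hle => Ideal.mem_of_dvd (P.comap (toFib p))
      (Finset.dvd_prod_of_mem x (Finset.mem_filter.2 ⟨(hA P).2 hP, hle⟩))
      (hx P (Finset.mem_filter.2 ⟨(hA P).2 hP, hle⟩))
  let S' := Localization.Away e
  let N' := LocalizedModule (Submonoid.powers e) N
  let ι : N →ₗ[S] N' := LocalizedModule.mkLinearMap (Submonoid.powers e) N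
  let F := TensorProduct.AlgebraTensorModule.rTensor R p.ResidueField ι
  let L := TensorProduct.AlgebraTensorModule.rTensor R M ι
  haveI : Algebra.FinitePresentation S S' := IsLocalization.Away.finitePresentation e
  haveI : Algebra.FinitePresentation R S' := Algebra.FinitePresentation.trans R S S'
  haveI : Module.FinitePresentation S' N' := inferInstance
  haveI : Module.Flat R N' := GrothLib.FlatModel.flat_localizedModule _
  have hd : Disjoint (Submonoid.powers e : Set S) q := by
    rw [Set.disjoint_left]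
    rintro _ ⟨n, rfl⟩ hn
    exact he (‹q.IsPrime›.mem_of_pow_mem n hn)
  let q' := q.map (algebraMap S S')
  haveI : q'.IsPrime := IsLocalization.isPrime_of_isPrime_disjoint (Submonoid.powers e) S' q ‹_› hd
  have hcomap : q'.comap (algebraMap S S') = q :=
    IsLocalization.comap_map_of_isPrime_disjoint (Submonoid.powers e) S' ‹q.IsPrime› hd
  haveI : q'.LiesOver p := ⟨by
    rw [Ideal.under_def, IsScalarTower.algebraMap_eq R S S', ← Ideal.comap_comap, hcomap]
    exact q.over_def p⟩
  -- regularity away from the bad primes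
  have hreg : ∀ t : S, (∀ P ∈ associatedPrimes (p.Fiber S) (FlatCA.fiberMod p S N), toFib p t ∈ P → ¬ P.comap (toFib p) ≤ q) →
      ∀ y : N' ⊗[R] p.ResidueField, algebraMap S S' t • y = 0 → y = 0 := by
    intro t ht y hy
    obtain ⟨⟨y0, s⟩, hys⟩ := IsLocalizedModule.surj (Submonoid.powers e) F y
    change (s : S) • y = F y0 at hys
    rw [algebraMap_smul] at hy
    obtain ⟨c, hc⟩ := (IsLocalizedModule.eq_zero_iff (Submonoid.powers e) F (m := t • y0)).1 (by
      rw [map_smul, ← hys, smul_comm, hy, smul_zero])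
    have hc' : t • (c : S) • y0 = 0 := by rw [smul_comm]; exact hc
    have hpow : ∃ l : ℕ, e ^ l • (c : S) • y0 = 0 := by
      by_contra hne
      push Not at hne
      let w := ef ((c : S) • y0)
      have hd' : Disjoint (((⊥ : Submodule (p.Fiber S) (FlatCA.fiberMod p S N)).colon {w}) : Set (p.Fiber S))
          (Submonoid.powers (toFib p e) : Submonoid (p.Fiber S)) := by
        rw [Set.disjoint_left]
        rintro a ha ⟨l, rfl⟩
        rw [SetLike.mem_coe, Submodule.mem_colon_singleton, Submodule.mem_bot] at ha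
        refine hne l (ef.map_eq_zero_iff.1 ?_)
        rw [hef, map_pow]
        exact ha
      obtain ⟨P0, hP0, hle, hdis⟩ := Ideal.exists_le_prime_disjoint _ _ hd'
      haveI := hP0
      obtain ⟨P, hP, hPle⟩ := Ideal.exists_minimalPrimes_le hle
      have hass : P ∈ associatedPrimes (p.Fiber S) (FlatCA.fiberMod p S N) := by
        rw [← weakAss_eq_associatedPrimes]
        exact mem_weakAss_iff.2 ⟨w, hP⟩
      have htP : toFib p t ∈ P := hP.1.2 (Submodule.mem_colon_singleton.2 ((Submodule.mem_bot (p.Fiber S)).2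
        (by rw [← hef, hc', map_zero])))
      exact Set.disjoint_left.1 hdis (hPle (heP P hass (ht P hass htP))) (Submonoid.mem_powers _)
    obtain ⟨l, hl⟩ := hpow
    have h0 : F y0 = 0 := (IsLocalizedModule.eq_zero_iff (Submonoid.powers e) F).2
      ⟨⟨e ^ l, l, rfl⟩ * c, by rw [Submonoid.smul_def, Submonoid.coe_mul, mul_smul]; exact hl⟩
    rw [h0] at hys
    exact ((Module.End.isUnit_iff _).1 (IsLocalizedModule.map_units F s)).1
      (by rw [Module.algebraMap_end_apply, map_zero]; exact hys)
  -- move the weakly associated prime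
  obtain ⟨z, hz⟩ := mem_weakAss_iff.1 hq
  have hq' : q' ∈ FlatCA.weakAss S' (N' ⊗[R] M) := by
    refine mem_weakAss_iff.2 ⟨L z, ⟨inferInstance, fun a ha => ?_⟩, ?_⟩
    · rw [Submodule.mem_colon_singleton, Submodule.mem_bot] at ha
      obtain ⟨⟨b, s⟩, hb⟩ := IsLocalization.surj (Submonoid.powers e) a
      obtain ⟨c, hc⟩ := (IsLocalizedModule.eq_zero_iff (Submonoid.powers e) L (m := b • z)).1 (by
        rw [map_smul, ← algebraMap_smul S' b, ← show a * algebraMap S S' s = algebraMap S S' b from hb, mul_comm,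
          mul_smul, ha, smul_zero])
      rw [Submonoid.smul_def, smul_smul] at hc
      have hbq : b ∈ q := (‹q.IsPrime›.mem_or_mem (hz.1.2 (Submodule.mem_colon_singleton.2
        ((Submodule.mem_bot S).2 hc)))).resolve_left fun h => Set.disjoint_left.1 hd c.2 h
      refine ((Ideal.mul_unit_mem_iff_mem _ (IsLocalization.map_units S' s)).1 ?_)
      rw [show a * algebraMap S S' s = algebraMap S S' b from hb]
      exact Ideal.mem_map_of_mem _ hbq
    · rintro P ⟨hP, hPle⟩ hPq
      refine Ideal.map_le_iff_le_comap.2 (hz.2 ⟨Ideal.IsPrime.comap _, fun a ha => hPle ?_⟩ ((Ideal.comap_mono hPq).trans hcomap.le))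
      rw [Submodule.mem_colon_singleton, Submodule.mem_bot] at ha ⊢
      rw [algebraMap_smul, ← map_smul, ha, map_zero]
  obtain ⟨h1, h2⟩ := of_regular p N' M q' (fun t' ht' y hy => by
    obtain ⟨⟨t, s⟩, hts⟩ := IsLocalization.surj (Submonoid.powers e) t'
    refine hreg t (fun P hP htP hle => ht' ?_) y ?_
    · refine (Ideal.mul_unit_mem_iff_mem _ (IsLocalization.map_units S' s)).1 ?_
      rw [show t' * algebraMap S S' s = algebraMap S S' t from hts]
      exact Ideal.mem_map_of_mem _ (hle htP)
    · rw [← show t' * algebraMap S S' s = algebraMap S S' t from hts, mul_comm, mul_smul, hy, smul_zero]) hq'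
  refine ⟨h1, by_contra fun hass => ?_⟩
  have hnsub : ¬ (q : Set S) ⊆ ⋃ P ∈ (↑(A.filter fun P => P.comap (toFib p) ≤ q) : Set (Ideal (p.Fiber S))),
      (P.comap (toFib p) : Set S) := fun hsub => by
    obtain ⟨P, hP, hqP⟩ := (Ideal.subset_union_prime (R := S) (f := fun P : Ideal (p.Fiber S) => P.comap (toFib p))
      ⊥ ⊥ fun P hP _ _ => by
        haveI := ((hA P).1 (Finset.mem_filter.1 hP).1).1
        infer_instance).1 hsub
    obtain ⟨hP, hPq⟩ := Finset.mem_filter.1 hP
    haveI := ((hA P).1 hP).1
    have heq : q = P.comap (toFib p) := le_antisymm hqP hPq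
    refine hass ?_
    rw [heq, fiberIdeal_comap]
    exact (hA P).1 hP
  obtain ⟨g, hg, hgn⟩ := Set.not_subset.1 hnsub
  obtain ⟨y, hy, hy0⟩ := h2 _ (Ideal.mem_map_of_mem (algebraMap S S') hg)
  exact hy0 (hreg g (fun P hP hgP hle => hgn (Set.mem_iUnion₂.2 ⟨P, Finset.mem_filter.2 ⟨(hA P).2 hP, hle⟩, hgP⟩)) y hy)


open TensorProduct in
/-- For a finitely presented ring map from R to S, a finitely presented S-module N which is flat over R,
an arbitrary R-module M and a prime q of S over the prime p of R: q is weakly associated to the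
S-module N ⊗ M exactly when p is weakly associated to M and the extension of q to the fibre ring
over p is an associated prime of the fibre module of N. -/
theorem result {R S : Type u} [CommRing R] [CommRing S] [Algebra R S] [Algebra.FinitePresentation R S]
    (N : Type u) [AddCommGroup N] [Module S N] [Module R N] [IsScalarTower R S N] [Module.FinitePresentation S N] [Module.Flat R N]
    (M : Type u) [AddCommGroup M] [Module R M]
    (p : Ideal R) [p.IsPrime] (q : Ideal S) [q.IsPrime] [q.LiesOver p] :
    q ∈ FlatCA.weakAss S (N ⊗[R] M) ↔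
      (p ∈ FlatCA.weakAss R M ∧ FlatCA.fiberIdeal p q ∈ associatedPrimes (p.Fiber S) (FlatCA.fiberMod p S N)) := by
  refine ⟨mem_of_mem N M p q, fun h => GrothLib.WeakAssFib.mem_weakAss_of_fibre N M p q ?_ h.1 h.2⟩
  exact GrothLib.FlatModel.flat_localizedModule _

end Groth.Agent.S1192
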