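import Groth.Statements.S14855
import Mathlib
-- import your own Groth.Agent.* helpers here

set_option autoImplicit false
universe u
open CAlg

namespace Groth.Agent.S14855

section Helpers

variable {p : ℕ} [hp : Fact p.Prime]

theorem pow_mul_coeff_zero {S : Type u} [CommRing S] {k : ℕ} (hk : (p : S) ^ k = 0) (m : ℕ)
    (x : WittVector p S) : ∀ i < m, ((p : WittVector p S) ^ (k * m) * x).coeff i = 0 := by
  induction m with
  | zero => simp
  | succ m ih =>
    intro i hi
    set w := (p : WittVector p S) ^ (k * m) * x with hw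
    have hwe := WittVector.eq_iterate_verschiebung ih
    have hmul : (p : WittVector p S) ^ (k * (m + 1)) * x =
        WittVector.verschiebung^[m] ((p ^ k) • w.shift m) := by
      rw [iterate_map_nsmul, ← hwe, nsmul_eq_mul, hw, Nat.cast_pow, ← mul_assoc, ← pow_add]
      ring_nf
    rw [hmul]
    rcases Nat.lt_succ_iff_lt_or_eq.mp hi with h | rfl
    · exact WittVector.iterate_verschiebung_coeff_eq_zero _ h
    · have := WittVector.iterate_verschiebung_coeff ((p ^ k) • w.shift i) i 0
      rw [zero_add] at this
      rw [this]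
      have hc : ∀ z : WittVector p S, z.coeff 0 = WittVector.constantCoeff z := fun _ => rfl
      rw [hc]
      rw [map_nsmul, nsmul_eq_mul, Nat.cast_pow, hk, zero_mul]

variable {R : Type u} [CommRing R]

/-- reduction to truncated Witt vectors mod `p ^ k` -/
noncomputable def phi (m k : ℕ) :
    WittVector p R →+* TruncatedWittVector p m (R ⧸ Ideal.span {(p : R)} ^ k) :=
  (WittVector.truncate m).comp (WittVector.map (Ideal.Quotient.mk _))

theorem phi_eq_iff (m k : ℕ) (x y : WittVector p R) :
    phi m k x = phi m k y ↔ ∀ i < m, x.coeff i - y.coeff i ∈ Ideal.span {(p : R)} ^ k := by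
  simp only [phi, RingHom.comp_apply, TruncatedWittVector.ext_iff, WittVector.coeff_truncate,
    WittVector.map_coeff, Ideal.Quotient.eq, Fin.forall_iff]

theorem phi_pow_zero (m k : ℕ) {n : ℕ} (hn : k * m ≤ n) (x : WittVector p R) :
    phi m k ((p : WittVector p R) ^ n * x) = 0 := by
  obtain ⟨j, rfl⟩ := Nat.exists_eq_add_of_le hn
  rw [phi, RingHom.comp_apply, map_mul, map_pow, map_natCast, pow_add, mul_assoc,
    ← RingHom.mem_ker, WittVector.mem_ker_truncate]
  refine pow_mul_coeff_zero ?_ m _
  rw [← map_natCast (Ideal.Quotient.mk (Ideal.span {(p : R)} ^ k)), ← map_pow,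
    Ideal.Quotient.eq_zero_iff_mem, Ideal.span_singleton_pow]
  exact Ideal.mem_span_singleton_self _

/-- convergence -/
def Conv (s : ℕ → WittVector p R) (x : WittVector p R) : Prop :=
  ∀ m k, ∃ N, ∀ a, N ≤ a → phi m k (s a) = phi m k x

variable [hR : IsAdicComplete (Ideal.span {(p : R)}) R]

theorem Conv.unique {s : ℕ → WittVector p R} {x y : WittVector p R} (hx : Conv s x) (hy : Conv s y) :
    x = y := by
  refine WittVector.ext fun i => ?_
  rw [← sub_eq_zero]
  refine IsHausdorff.haus (IsAdicComplete.toIsHausdorff (I := Ideal.span {(p : R)})) _ fun k => ?_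
  obtain ⟨N₁, h₁⟩ := hx (i + 1) k
  obtain ⟨N₂, h₂⟩ := hy (i + 1) k
  have := (h₁ _ (le_max_left N₁ N₂)).symm.trans (h₂ _ (le_max_right N₁ N₂))
  rw [phi_eq_iff] at this
  rw [SModEq.sub_mem, sub_zero, smul_eq_mul, Ideal.mul_top]
  exact this i (Nat.lt_succ_self i)

theorem exists_conv (s : ℕ → WittVector p R)
    (hs : ∀ m k, ∃ N, ∀ a, N ≤ a → phi m k (s a) = phi m k (s N)) : ∃ x, Conv s x := by
  choose N hN using hs
  let M : ℕ → ℕ → ℕ := fun i k => Finset.sup (Finset.range (k + 1)) (N (i + 1))
  have hM : ∀ i k l, l ≤ k → N (i + 1) l ≤ M i k := fun i k l h =>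
    Finset.le_sup (f := N (i + 1)) (Finset.mem_range_succ_iff.2 h)
  have : ∀ i, ∃ L, ∀ k, (s (M i k)).coeff i ≡ L [SMOD (Ideal.span {(p : R)} ^ k • ⊤ : Submodule R R)] := by
    intro i
    refine IsPrecomplete.prec (IsAdicComplete.toIsPrecomplete (I := Ideal.span {(p : R)})) ?_
    intro a b hab
    rw [SModEq.sub_mem, smul_eq_mul, Ideal.mul_top]
    exact (phi_eq_iff _ _ _ _).1 ((hN (i + 1) a _ (hM i a a le_rfl)).trans
      (hN (i + 1) a _ (hM i b a hab)).symm) i (Nat.lt_succ_self i)
  choose L hL using this
  refine ⟨WittVector.mk p L, fun m k => ⟨N m k ⊔ (Finset.range m).sup (fun i => M i k), fun a ha => ?_⟩⟩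
  rw [phi_eq_iff]
  intro i hi
  have h1 := hN (i + 1) k a (((hM i k k le_rfl).trans
    (Finset.le_sup (f := fun i => M i k) (Finset.mem_range.2 hi))).trans (le_sup_right.trans ha))
  have h2 := hN (i + 1) k (M i k) (hM i k k le_rfl)
  have h3 := (phi_eq_iff _ _ _ _).1 (h1.trans h2.symm) i (Nat.lt_succ_self i)
  have h4 := hL i k
  rw [SModEq.sub_mem, smul_eq_mul, Ideal.mul_top] at h4
  show _ - L i ∈ _
  simpa using add_mem h3 h4

theorem exists_tail (y : ℕ → WittVector p R) :
    ∃ z, Conv (fun j => ∑ t ∈ Finset.range j, (p : WittVector p R) ^ t * y t) z := by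
  refine exists_conv _ fun m k => ⟨k * m, fun a ha => ?_⟩
  rw [← Finset.sum_range_add_sum_Ico _ ha, map_add, map_sum _ _ (Finset.Ico (k * m) a)]
  rw [Finset.sum_eq_zero (s := Finset.Ico (k * m) a) (fun t ht => phi_pow_zero m k (Finset.mem_Ico.1 ht).1 (y t)), add_zero]

theorem witt_p_haus (x : WittVector p R) (h : ∀ n, (p : WittVector p R) ^ n ∣ x) : x = 0 := by
  refine (Conv.unique (s := fun _ => x) (fun m k => ⟨0, fun a _ => ?_⟩)
    (fun m k => ⟨0, fun a _ => rfl⟩)).symm
  obtain ⟨y, hy⟩ := h (k * m)
  rw [hy, phi_pow_zero m k le_rfl, map_zero]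

theorem witt_p_prec (f : ℕ → WittVector p R)
    (hf : ∀ n, (p : WittVector p R) ^ n ∣ f (n + 1) - f n) :
    ∃ L, ∀ n, (p : WittVector p R) ^ n ∣ f n - L := by
  choose y hy using hf
  choose z hz using fun n => exists_tail (p := p) (fun t => y (n + t))
  refine ⟨f 0 + z 0, fun n => ⟨-z n, ?_⟩⟩
  have hsum : ∀ n a, f (n + a) = f n + (p : WittVector p R) ^ n *
      ∑ t ∈ Finset.range a, (p : WittVector p R) ^ t * y (n + t) := by
    intro n a
    induction a with
    | zero => simp
    | succ a ih =>
      rw [Finset.sum_range_succ, mul_add, ← mul_assoc, ← pow_add]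
      linear_combination ih + hy (n + a)
  have key : ∀ n, Conv f (f n + (p : WittVector p R) ^ n * z n) := by
    intro n m k
    obtain ⟨N, hN⟩ := hz n m k
    refine ⟨n + N, fun a ha => ?_⟩
    obtain ⟨b, rfl⟩ := Nat.exists_eq_add_of_le (Nat.le_of_add_right_le ha)
    rw [hsum, map_add, map_add, map_mul, map_mul, hN b (by omega)]
  have := (key n).unique (key 0)
  rw [pow_zero, one_mul] at this
  linear_combination this

omit hR in
theorem mem_ker_iff (x : WittVector p R) :
    x ∈ RingHom.ker (WittVector.constantCoeff : WittVector p R →+* R) ↔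
      ∃ y, WittVector.verschiebung y = x := by
  constructor
  · intro hx
    refine ⟨x.shift 1, ?_⟩
    have := WittVector.eq_iterate_verschiebung (x := x) (n := 1) (fun i hi => by
      obtain rfl : i = 0 := by omega
      exact hx)
    simpa using this.symm
  · rintro ⟨y, rfl⟩
    exact WittVector.verschiebung_coeff_zero y

omit hR in
theorem V_mul_V (a b : WittVector p R) : WittVector.verschiebung a * WittVector.verschiebung b =
    (p : WittVector p R) * WittVector.verschiebung (a * b) := by
  rw [← WittVector.verschiebung_mul_frobenius, WittVector.frobenius_verschiebung, ← nsmul_eq_mul,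
    ← map_nsmul, nsmul_eq_mul]
  ring_nf

omit hR in
theorem ker_pow (n : ℕ) (x : WittVector p R) :
    x ∈ RingHom.ker (WittVector.constantCoeff : WittVector p R →+* R) ^ (n + 1) ↔
      ∃ y, (p : WittVector p R) ^ n * WittVector.verschiebung y = x := by
  constructor
  · induction n generalizing x with
    | zero => rw [zero_add, pow_one, mem_ker_iff]; simp
    | succ n ih =>
      intro hx
      rw [pow_succ] at hx
      induction hx using Submodule.mul_induction_on' with
      | mem_mul_mem a ha b hb =>
        obtain ⟨u, rfl⟩ := ih a ha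
        obtain ⟨v, rfl⟩ := (mem_ker_iff b).1 hb
        exact ⟨u * v, by rw [mul_assoc ((p : WittVector p R) ^ n), V_mul_V, pow_succ, mul_assoc]⟩
      | add a _ b _ ha hb =>
        obtain ⟨u, rfl⟩ := ha
        obtain ⟨v, rfl⟩ := hb
        exact ⟨u + v, by rw [map_add, mul_add]⟩
  · induction n generalizing x with
    | zero => rw [zero_add, pow_one, mem_ker_iff]; simp
    | succ n ih =>
      rintro ⟨y, rfl⟩
      rw [pow_succ (p : WittVector p R) n, mul_assoc, show (p : WittVector p R) *
        WittVector.verschiebung y = WittVector.verschiebung y * WittVector.verschiebung 1 by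
          rw [V_mul_V, mul_one], ← mul_assoc, pow_succ]
      exact Ideal.mul_mem_mul (ih _ ⟨y, rfl⟩) ((mem_ker_iff _).2 ⟨1, rfl⟩)

end Helpers


/-- Let p be a prime and R a commutative ring which is complete and separated for the p-adic topology.
Then the ring W(R) of p-typical Witt vectors of R is complete and separated for its own p-adic
topology, and it is also complete and separated for the adic topology of the ideal I_R, the kernel
of the projection of W(R) onto the zeroth Witt component. -/
theorem result (p : ℕ) [Fact p.Prime] (R : Type u) [CommRing R]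
    [IsAdicComplete (Ideal.span {(p : R)}) R] :
    IsAdicComplete (Ideal.span {(p : WittVector p R)}) (WittVector p R) ∧
      IsAdicComplete (RingHom.ker (WittVector.constantCoeff : WittVector p R →+* R)) (WittVector p R) := by
  have hinj := WittVector.verschiebung_injective p R
  refine ⟨{ haus' := ?_, prec' := ?_ }, { haus' := ?_, prec' := ?_ }⟩
  · intro x hx
    refine witt_p_haus x fun n => ?_
    have := hx n
    rwa [SModEq.sub_mem, sub_zero, smul_eq_mul, Ideal.mul_top, Ideal.span_singleton_pow,
      Ideal.mem_span_singleton] at this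
  · intro f hf
    obtain ⟨L, hL⟩ := witt_p_prec f fun n => by
      have := hf (Nat.le_succ n)
      rw [SModEq.sub_mem, smul_eq_mul, Ideal.mul_top, Ideal.span_singleton_pow,
        Ideal.mem_span_singleton] at this
      rwa [← dvd_neg, neg_sub]
    refine ⟨L, fun n => ?_⟩
    rw [SModEq.sub_mem, smul_eq_mul, Ideal.mul_top, Ideal.span_singleton_pow,
      Ideal.mem_span_singleton]
    exact hL n
  · intro x hx
    have hx' : ∀ n, ∃ y, (p : WittVector p R) ^ n * WittVector.verschiebung y = x := fun n => by
      have := hx (n + 1)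
      rwa [SModEq.sub_mem, sub_zero, smul_eq_mul, Ideal.mul_top, ker_pow] at this
    refine witt_p_haus x fun n => ?_
    obtain ⟨y, hy⟩ := hx' n
    exact ⟨_, hy.symm⟩
  · intro f hf
    have hd : ∀ n, ∃ y, (p : WittVector p R) ^ n * WittVector.verschiebung y = f (n + 2) - f (n + 1) :=
      fun n => by
        have := hf (Nat.le_succ (n + 1))
        rw [SModEq.sub_mem, smul_eq_mul, Ideal.mul_top, ker_pow] at this
        obtain ⟨y, hy⟩ := this
        exact ⟨-y, by rw [map_neg, mul_neg, hy, neg_sub]⟩
    choose y hy using hd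
    let g : ℕ → WittVector p R := fun n => ∑ t ∈ Finset.range n, (p : WittVector p R) ^ t * y t
    obtain ⟨G, hG⟩ := witt_p_prec g fun n => ⟨y n, by simp [g, Finset.sum_range_succ]⟩
    have hg : ∀ n, WittVector.verschiebung (g n) = f (n + 1) - f 1 := by
      intro n
      induction n with
      | zero => simp [g]
      | succ n ih =>
        rw [show g (n + 1) = g n + (p : WittVector p R) ^ n * y n from Finset.sum_range_succ _ _,
          map_add, ih, ← Nat.cast_pow, ← nsmul_eq_mul, map_nsmul, nsmul_eq_mul, Nat.cast_pow, hy]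
        ring
    refine ⟨f 1 + WittVector.verschiebung G, fun n => ?_⟩
    rw [SModEq.sub_mem, smul_eq_mul, Ideal.mul_top]
    rcases n with _ | n
    · simp
    rw [ker_pow]
    obtain ⟨c, hc⟩ := hG n
    refine ⟨c, ?_⟩
    rw [← Nat.cast_pow, ← nsmul_eq_mul, ← map_nsmul, nsmul_eq_mul, Nat.cast_pow, ← hc, map_sub, hg]
    ring

end Groth.Agent.S14855
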