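import Groth.Statements.S16542
import Groth.Agent.Lib.DispRigid.Witt
import Mathlib

set_option autoImplicit false
universe u v
open Disp

namespace Groth.Agent.S16542

open TensorProduct

/-- Let p be a prime, S → R a faithfully flat homomorphism of commutative rings with p nilpotent in S,
(P, Q, F, V⁻¹) a display over S, and (P_R, Q_R, F_R, V_R⁻¹) a 3n-display structure on P_R = W(R)
⊗_{W(S)} P which is its base change along S → R (Q_R the kernel of P_R → R ⊗_S (P/Q), F_R(w ⊗ x) =
σ(w) ⊗ F x, V_R⁻¹(w ⊗ y) = σ(w) ⊗ V⁻¹ y for y ∈ Q, V_R⁻¹(V(w) ⊗ x) = w ⊗ F x). Then for x ∈ P one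
has x ∈ Q if and only if 1 ⊗ x ∈ Q_R: together with the exactness of 0 → P → P_R ⇉ P_{R ⊗ R} this is
the exactness of 0 → Q → Q_R ⇉ Q_{R ⊗ R} at Q. -/
theorem result (p : ℕ) [Fact p.Prime]
    (S R : Type u) [CommRing S] [CommRing R] [Algebra S R] [Module.FaithfullyFlat S R] (hp : IsNilpotent (p : S))
    (P : Type v) [AddCommGroup P] [Module (WittVector p S) P] (D : W4c1extbt610.Display3n p S P)
    (hD : Dieu.IsDisplay D)
    (DR : W4c1extbt610.Display3n p R (Dieu.BC (WittVector.map (algebraMap S R) : WittVector p S →+* WittVector p R) P))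
    (hDR : Dieu.IsDispBaseChange (algebraMap S R) D DR) (x : P) :
    x ∈ D.Q ↔ Dieu.BC.ι (WittVector.map (algebraMap S R) : WittVector p S →+* WittVector p R) P x ∈ DR.Q := by
  let Wf : WittVector p S →+* WittVector p R := WittVector.map (algebraMap S R)
  let M := P ⧸ D.Q
  let c : WittVector p S →+* S := WittVector.constantCoeff
  have hc : RingHom.ker c ≤ RingHom.ker (Module.toAddMonoidEnd (WittVector p S) M) := fun a ha => by
    have h : WittVector.verschiebung (a.shift 1) = a := GrothLib.DispRigid.eq_verschiebung_shift ha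
    refine AddMonoidHom.ext fun m => ?_
    obtain ⟨y, rfl⟩ := Submodule.Quotient.mk_surjective _ m
    show a • (Submodule.Quotient.mk y : P ⧸ D.Q) = 0
    rw [← Submodule.Quotient.mk_smul, Submodule.Quotient.mk_eq_zero, ← h]
    exact D.IV_smul_le (Submodule.smul_mem_smul (W4c1extbt610.verschiebung_mem_IV p S _) Submodule.mem_top)
  let act : S →+* AddMonoid.End M := c.liftOfSurjective (WittVector.constantCoeff_surjective p) ⟨Module.toAddMonoidEnd (WittVector p S) M, hc⟩
  letI : Module S M := Module.compHom M act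
  have hact : ∀ (a : WittVector p S) (m : M), c a • m = a • m := fun a m =>
    DFunLike.congr_fun (RingHom.liftOfRightInverse_comp_apply c (Function.surjInv (WittVector.constantCoeff_surjective p)) (Function.rightInverse_surjInv _) ⟨Module.toAddMonoidEnd (WittVector p S) M, hc⟩ a) m
  let φ : M →ₛₗ[(WittVector.constantCoeff : WittVector p R →+* R).comp Wf] TensorProduct S R M :=
    { toFun := fun m => (1 : R) ⊗ₜ[S] m
      map_add' := fun a b => TensorProduct.tmul_add _ _ _
      map_smul' := fun a m => by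
        rw [← hact a m, TensorProduct.tmul_smul, ← IsScalarTower.algebraMap_smul R (c a)]
        rfl }
  rw [Dieu.BC.ι_apply, hDR.Q_eq, LinearMap.mem_ker, Dieu.bcQuotMap_tmul]
  constructor
  · intro hx
    rw [Submodule.mkQ_apply, (Submodule.Quotient.mk_eq_zero _).2 hx, Dieu.BC.tmul_zero]
  · intro h
    have h2 := congrArg (Dieu.BC.lift _ φ) h
    rw [Dieu.BC.lift_tmul, map_zero, map_one, one_smul] at h2
    have h3 : (1 : R) ⊗ₜ[S] (D.Q.mkQ x : M) = 0 := h2
    exact (Submodule.Quotient.mk_eq_zero _).1 ((Module.FaithfullyFlat.one_tmul_eq_zero_iff S M (A := R) _).1 h3)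

end Groth.Agent.S16542
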