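import Groth.Statements.S5096
import Groth.Agent.Lib.Mero.Div
import Groth.Agent.Lib.InvExt.Gen

set_option autoImplicit false
universe u
open CategoryTheory CategoryTheory.Limits AlgebraicGeometry TopologicalSpace
open Mero

namespace Groth.Agent.S5096

/-- For every divisor D on a scheme X, the fractional ideal O_X(D) — the sub-O_X-module of the sheaf of
meromorphic functions whose sections are the t with t_x · g ∈ O_{X,x} for a representative g of the
germ of D at x, at every point x — is an invertible O_X-module (locally isomorphic to O_X; where D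
is the divisor of a local unit g of K_X it is O · g⁻¹). -/
theorem result (X : Scheme.{u}) (D : Mero.Divisor X) : PicF.IsInvertible (Mero.divMod D) := by
  refine GrothLib.InvExt.isInvertible_of_gens fun x => ?_
  obtain ⟨U, hxU, f, hf⟩ := D.2 x
  let e : Γ(Mero.divMod D, U) := ⟨(↑f⁻¹ : Γ(Mero.kmod X, U)).1, (↑f⁻¹ : Γ(Mero.kmod X, U)).2, fun y =>
    (GrothLib.Mero.divCond_iff (hf y) _).mpr
      ⟨1, (map_one _).trans (congrArg (fun t : Γ(Mero.kmod X, U) => t.1 y) f.inv_mul).symm⟩⟩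
  refine ⟨U, e, hxU, fun W h => ⟨fun c d hcd => ?_, fun m => ?_⟩⟩
  · refine TopCat.Presheaf.section_ext X.sheaf W _ _ fun y hy => ?_
    change X.presheaf.germ _ _ hy c = X.presheaf.germ _ _ hy d
    have h1 := congrArg (fun t : Γ(Mero.divMod D, W) => t.1 ⟨y, hy⟩) hcd
    change X.presheaf.germ W y hy c • _ = X.presheaf.germ W y hy d • _ at h1
    rw [Algebra.smul_def, Algebra.smul_def] at h1
    refine Mero.algebraMap_KStalk_injective y (IsUnit.mul_right_cancel ?_ h1)
    exact (Units.map (Mero.evalK X U ⟨y, h hy⟩).toMonoidHom f⁻¹).isUnit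
  · let m0 : Γ(Mero.kmod X, W) := ⟨m.1, m.2.1⟩
    let mf : Γ(Mero.kmod X, W) := m0 *
      (Mero.kmod X).presheaf.map (homOfLE h).op (f : Γ(Mero.kmod X, U))
    obtain ⟨c, hc⟩ := GrothLib.Mero.exists_toK_eq mf fun y =>
      (GrothLib.Mero.divCond_iff (hf ⟨y.1, h y.2⟩) _).mp (m.2.2 y)
    refine ⟨c, Subtype.ext (funext fun y => ?_)⟩
    change X.presheaf.germ W y.1 y.2 c • _ = _
    rw [Algebra.smul_def, ← GrothLib.Mero.toK_apply_eq c y, hc]
    change m.1 y * (f : Γ(Mero.kmod X, U)).1 ⟨y.1, h y.2⟩ * (↑f⁻¹ : Γ(Mero.kmod X, U)).1 ⟨y.1, h y.2⟩ = _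
    rw [mul_assoc]
    exact (congrArg (m.1 y * ·) (congrArg (fun t : Γ(Mero.kmod X, U) => t.1 ⟨y.1, h y.2⟩) f.mul_inv)).trans (mul_one _)

end Groth.Agent.S5096
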