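import Groth.Statements.S5706
import Groth.Agent.Lib.GalCd.FacCoh
import Groth.Agent.Lib.EtLimit.SheafH

set_option backward.isDefEq.respectTransparency false
set_option backward.isDefEq.respectTransparency.types false
set_option linter.style.haveILetI false

set_option autoImplicit false
universe u
open CategoryTheory AlgebraicGeometry
open Dix

namespace Groth.Agent.S5706

open CategoryTheory.Abelian Opposite in
theorem GmPush_comp {X Y Z : Scheme.{u}} (f : X ⟶ Y) (g : Z ⟶ X) :
    EtLim.GmPush f ≫ (EtCoh.push f).map (EtLim.GmPush g) ≫ (EtCoh.pushComp f g).hom.app (EtCoh.Gm Z) =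
      EtLim.GmPush (g ≫ f) := by
  refine ObjectProperty.hom_ext _ (NatTrans.ext (funext fun V => AddCommGrpCat.hom_ext (AddMonoidHom.ext fun s => ?_)))
  refine ULift.ext _ _ (Additive.toMul.injective (Units.ext ?_))
  let W := V.unop
  let m : ((EtCoh.bc (g ≫ f)).obj W).left ⟶ ((EtCoh.bc g).obj ((EtCoh.bc f).obj W)).left :=
    ((MorphismProperty.Over.pullbackComp (P := EtCoh.etaleMP) (Q := ⊤) g f).hom.app W).left
  have key : m ≫ Limits.pullback.fst ((EtCoh.bc f).obj W).hom g ≫ Limits.pullback.fst W.hom f =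
      Limits.pullback.fst W.hom (g ≫ f) := by
    simp [m]
    exact Limits.pullbackLeftPullbackSndIso_inv_fst W.hom f g
  exact ((congr($(Scheme.Hom.comp_appTop m (Limits.pullback.fst ((EtCoh.bc f).obj W).hom g ≫
      Limits.pullback.fst W.hom f)) _)).symm.trans
    (congrArg (fun r : _ ⟶ W.left => r.appTop.hom (Additive.toMul (ULift.down
      (show ULift.{u + 1} (Additive (Γ(W.left, ⊤) : Type u)ˣ) from s))).val) key))

/-- Let X be a noetherian scheme such that for every scheme U étale over X all local rings of U are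
factorial domains. Then the restriction map from H²(X_et, G_m) to the product of the groups H²(Spec
O_{X,x}, G_m), x running over the maximal points of X (generic points of the irreducible
components), is injective. The restriction maps are the pullbacks EtLim.HGmPull along Spec O_{X,x} →
X, whose exactness hypothesis is carried as an instance binder. -/
theorem result (X : Scheme.{u}) [IsNoetherian X] (hfact : ∀ (U : X.Etale) (v : U.left), IsDomain (U.left.presheaf.stalk v) ∧ UniqueFactorizationMonoid (U.left.presheaf.stalk v)) [∀ x : X, Limits.PreservesFiniteLimits (EtCoh.pull (X.fromSpecStalk x))] (ξ : EtCoh.H X (EtCoh.Gm X) 2) (hξ : ∀ x : X, (∀ y : X, y ⤳ x → y = x) → EtLim.HGmPull (X.fromSpecStalk x) 2 ξ = 0) : ξ = 0 := by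
  haveI : IsReduced X := GrothLib.GalCd.EtFactorial.isReduced hfact
  haveI : ∀ x : X, Limits.PreservesFiniteLimits (EtCoh.pull (X.fromSpecResidueField x)) :=
    fun x => GrothLib.EtDer.pullFL _
  refine GrothLib.GalCd.H2Gm_eq_zero_of_factorial hfact ξ fun i => ?_
  obtain ⟨x, hx⟩ := i
  have hfield : IsField (X.presheaf.stalk x) := by
    haveI : IsDomain (X.presheaf.stalk x) := (hfact (EtCoh.top X) x).1
    refine IsLocalRing.isField_iff_maximalIdeal_eq.2 ?_
    have key : ∀ p : PrimeSpectrum (X.presheaf.stalk x), (X.fromSpecStalk x).base p = x := fun p =>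
      hx _ ((Scheme.range_fromSpecStalk (X := X) (x := x)).le ⟨p, rfl⟩)
    have e : (⟨⊥, Ideal.isPrime_bot⟩ : PrimeSpectrum (X.presheaf.stalk x)) = IsLocalRing.closedPoint _ :=
      (X.fromSpecStalk x).isEmbedding.injective ((key _).trans (key _).symm)
    exact (congrArg PrimeSpectrum.asIdeal e).symm
  letI := hfield.toField
  have h1 := hξ x hx
  rw [EtLim.HGmPull, AddMonoidHom.comp_apply] at h1
  have h2 := GrothLib.EtTrace21.injective_HofPush_two (X.fromSpecStalk x) (EtCoh.Gm _)
    (GrothLib.EtTrace21.isZero_Rpush_one_Gm (k := X.presheaf.stalk x) (X.fromSpecStalk x))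
    (h1.trans (map_zero _).symm)
  rw [EtLim.HGmPull, AddMonoidHom.comp_apply]
  replace h2 := (GrothLib.EtLimit.HF_map_eq (EtLim.GmPush (X.fromSpecStalk x)) 2 ξ).symm.trans h2
  refine (congrArg (EtLim.HofPush (X.fromSpecResidueField x) (EtCoh.Gm _) 2)
    ((GrothLib.EtLimit.HF_map_eq (EtLim.GmPush (X.fromSpecResidueField x)) 2 ξ).trans ?_)).trans (map_zero _)
  have e : EtLim.GmPush (X.fromSpecResidueField x) =
      EtLim.GmPush (X.fromSpecStalk x) ≫ (EtCoh.push (X.fromSpecStalk x)).map (EtLim.GmPush (Spec.map (X.residue x))) ≫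
        (EtCoh.pushComp (X.fromSpecStalk x) (Spec.map (X.residue x))).hom.app _ :=
    (GmPush_comp (X.fromSpecStalk x) (Spec.map (X.residue x))).symm
  rw [e, ← Abelian.Ext.mk₀_comp_mk₀, ← Abelian.Ext.comp_assoc_of_third_deg_zero, h2, Abelian.Ext.zero_comp]

end Groth.Agent.S5706
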