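import Groth.Statements.S4362
import Mathlib.AlgebraicGeometry.Noetherian
import Mathlib.Data.DFinsupp.WellFounded

set_option autoImplicit false
universe u
open FinCond

namespace Groth.Agent.S4362

open AlgebraicGeometry in
open CategoryTheory in
/-- If X is a Noetherian scheme, every increasing sequence of quasi-coherent sheaves of ideals of the
structure sheaf is eventually constant; equivalently the ordered set of quasi-coherent ideal sheaves
of X is well-founded for the reverse order. (On a locally Noetherian scheme quasi-coherent and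
coherent ideal sheaves coincide.) -/
theorem result
    (X : Scheme.{u}) [IsNoetherian X] : WellFoundedGT X.IdealSheafData := by
  let 𝒰 := X.affineCover.finiteSubcover
  let U : 𝒰.I₀ → X.affineOpens := fun i => ⟨(𝒰.f i).opensRange, isAffineOpen_opensRange _⟩
  have : ∀ i, IsNoetherianRing Γ(X, U i) := fun i => IsLocallyNoetherian.component_noetherian (U i)
  have hcov : ⨆ i, (U i).1 = ⊤ := 𝒰.iSup_opensRange
  let F : X.IdealSheafData → (i : 𝒰.I₀) → Ideal Γ(X, U i) := fun I i => I.ideal (U i)
  have hF : StrictMono F := Monotone.strictMono_of_injective (fun I J h i => h (U i))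
    (fun I J h => Scheme.IdealSheafData.ext_of_iSup_eq_top U hcov fun i => congrFun h i)
  have hw : WellFoundedLT ((i : 𝒰.I₀) → (Ideal Γ(X, U i))ᵒᵈ) := Pi.wellFoundedLT
  have hF' : StrictMono (fun I : (X.IdealSheafData)ᵒᵈ =>
      (fun i => OrderDual.toDual (F (OrderDual.ofDual I) i) : (i : 𝒰.I₀) → (Ideal Γ(X, U i))ᵒᵈ)) :=
    fun I J h => by
      obtain ⟨h1, i, h2⟩ := Pi.lt_def.mp (hF (OrderDual.ofDual_lt_ofDual.mpr h))
      exact Pi.lt_def.mpr ⟨fun j => h1 j, i, h2⟩
  exact hF'.wellFoundedLT

end Groth.Agent.S4362
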