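import Groth.Statements.S6977
import Groth.Agent.Lib.DCxRing.FibreAmp
import Groth.Agent.Lib.Serre.Regular


set_option autoImplicit false
universe u
open CategoryTheory CategoryTheory.Limits
attribute [local instance] HasDerivedCategory.standard
open DRing

namespace Groth.Agent.S6977

open scoped TensorProduct

noncomputable def residueEquiv (A : Type u) [CommRing A] [IsLocalRing A] :
    letI := (IsLocalRing.residue A).toAlgebra
    IsLocalRing.ResidueField A ≃ₗ[A] A ⧸ IsLocalRing.maximalIdeal A :=
  letI := (IsLocalRing.residue A).toAlgebra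
  { toFun := id
    invFun := id
    left_inv := fun _ => rfl
    right_inv := fun _ => rfl
    map_add' := fun _ _ => rfl
    map_smul' := fun r x => by
      obtain ⟨y, rfl⟩ := Ideal.Quotient.mk_surjective (I := IsLocalRing.maximalIdeal A) x
      rfl }

noncomputable def fibreEquiv {A B : Type u} [CommRing A] [CommRing B] [Algebra A B] (I : Ideal A) :
    letI := (Ideal.Quotient.mk (I.map (algebraMap A B))).toAlgebra
    (B ⧸ I.map (algebraMap A B)) ≃ₗ[B] B ⊗[A] (A ⧸ I) :=
  letI := (Ideal.Quotient.mk (I.map (algebraMap A B))).toAlgebra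
  let e := (Algebra.TensorProduct.quotIdealMapEquivTensorQuot B I)
  { toFun := e
    invFun := e.symm
    left_inv := e.left_inv
    right_inv := e.right_inv
    map_add' := map_add e
    map_smul' := fun r x => by
      obtain ⟨y, rfl⟩ := Ideal.Quotient.mk_surjective x
      exact map_smul e r (Ideal.Quotient.mk _ y) }


/-- Let A → B be a flat local homomorphism of local commutative rings such that B/m_A B is a regular
local ring of dimension d, and assume the derived base change D(A) → D(κ_A) to the residue field of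
A exists. Let a, b be integers and K a pseudo-coherent object of D(B) such that H^i((K regarded in
D(A)) ⊗^L_A κ_A) = 0 for every i outside [a, b]. Then K is perfect as an object of D(B) and has tor
amplitude in [a - d, b] over B. -/
theorem result {A B : Type u} [CommRing A] [CommRing B] [IsLocalRing A]
    [IsLocalRing B] [Algebra A B] [IsLocalHom (algebraMap A B)] [Module.Flat A B] (d : ℕ)
    [IsRegularLocalRing (B ⧸ (IsLocalRing.maximalIdeal A).map (algebraMap A B))]
    (hd : ringKrullDim (B ⧸ (IsLocalRing.maximalIdeal A).map (algebraMap A B)) = d)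
    [DRing.HasLBaseChange (IsLocalRing.residue A)] (a b : ℤ) (K : Dual.D B) (hK : DRing.IsPseudoCoherent' B K)
    (h : ∀ i : ℤ, (i < a ∨ b < i) → Subsingleton (Dual.HD (IsLocalRing.ResidueField A)
      ((DRing.LBaseChange (IsLocalRing.residue A)).obj ((DRing.restrictD (algebraMap A B)).obj K)) i)) :
    DRing.IsPerfect B K ∧ DRing.HasTorAmplitudeIn B (a - d) b K := by
  obtain ⟨Q, c, hQc, hQf, ⟨eQ⟩⟩ := hK
  refine GrothLib.DR.hasTorAmplitudeIn_of_fibres K ⟨Q, c, hQc, hQf, ⟨eQ⟩⟩ (a - d) b fun P hP eP m hm i hi => ?_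
  obtain rfl : m = IsLocalRing.maximalIdeal B := IsLocalRing.eq_maximalIdeal hm
  have hQflat : DRing.TermwiseFlat Q :=
    GrothLib.DR.termwiseFlat_of_projective fun j => GrothLib.DR.projective_of_finiteFree hQf j
  have hv : DRing.VanishesAbove ((DRing.restrictCx (algebraMap A B)).obj Q) c :=
    fun k hk => (ModuleCat.restrictScalars (algebraMap A B)).map_isZero (hQc k hk)
  obtain ⟨eA⟩ := GrothLib.KF.lBase_value (IsLocalRing.residue A)
    (GrothLib.KF.isKFlat_of_vanishesAbove hv (GrothLib.DR.termwiseFlat_restrict hQflat))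
  have hN : ∀ j, (j < a ∨ b < j) →
      GrothLib.DR.TExact ((DRing.restrictCx (algebraMap A B)).obj Q) (A ⧸ IsLocalRing.maximalIdeal A) j := fun j hj => by
    have h1 := (GrothLib.DR.exactAt_iff _ j).2 (GrothLib.DR.subsingleton_HD_of_iso
      ((DRing.LBaseChange (IsLocalRing.residue A)).mapIso
        ((DRing.restrictD (algebraMap A B)).mapIso eQ.symm ≪≫ GrothLib.DR.restrictToDIso (algebraMap A B) Q) ≪≫ eA) j (h j hj))
    letI := (IsLocalRing.residue A).toAlgebra
    exact GrothLib.DR.tExact_of_linearEquiv (residueEquiv A) ((GrothLib.DR.exactAt_bc_iff _ _ j).1 h1)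
  let χ := Ideal.Quotient.factor
    (show (IsLocalRing.maximalIdeal A).map (algebraMap A B) ≤ IsLocalRing.maximalIdeal B from Ideal.map_le_iff_le_comap.2
      fun x hx => by simpa [IsLocalRing.mem_maximalIdeal] using hx)
  have hf := GrothLib.DR.exactAt_bc_of_fibre (Ideal.Quotient.mk ((IsLocalRing.maximalIdeal A).map (algebraMap A B)))
    (A ⧸ IsLocalRing.maximalIdeal A) (fibreEquiv (A := A) (B := B) (IsLocalRing.maximalIdeal A)) d
    (fun M _ _ => GrothLib.Serre.pdLE_of_isRegularLocalRing _ d hd M) χ hQc hQf hN i hi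
  rw [show χ.comp (Ideal.Quotient.mk ((IsLocalRing.maximalIdeal A).map (algebraMap A B))) =
    Ideal.Quotient.mk (IsLocalRing.maximalIdeal B) from RingHom.ext fun x => rfl] at hf
  exact GrothLib.DR.exactAt_bc_congr _ hP (GrothLib.KF.isKFlat_of_vanishesAbove hQc hQflat)
    (eP.some ≪≫ eQ.symm) i hf

end Groth.Agent.S6977
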