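import Groth.Statements.S7000
import Groth.Agent.Lib.DCxRing.BC

set_option autoImplicit false
universe u
open CategoryTheory CategoryTheory.Limits
attribute [local instance] HasDerivedCategory.standard
open DRing

namespace Groth.Agent.S7000

/-- Let A → B be a flat homomorphism of commutative rings, m an integer and M an A-module. If M is
m-pseudo-coherent then the B-module B ⊗_A M is m-pseudo-coherent; if M is pseudo-coherent then B ⊗_A
M is pseudo-coherent. -/
theorem result {A B : Type u} [CommRing A] [CommRing B] [Algebra A B]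
    [Module.Flat A B] (m : ℤ) (M : Type u) [AddCommGroup M] [Module A M] :
    (DRing.IsPseudoCoherentModule A m M → DRing.IsPseudoCoherentModule B m (TensorProduct A B M)) ∧
      (DRing.IsPseudoCoherentModule' A M → DRing.IsPseudoCoherentModule' B (TensorProduct A B M)) := by
  haveI := GrothLib.DR.preservesFiniteLimits_extendScalars (algebraMap A B) GrothLib.DR.flat_algebraMap
  haveI := (ModuleCat.extendRestrictScalarsAdj.{u} (algebraMap A B)).leftAdjoint_preservesColimits
  obtain ⟨e₁⟩ := GrothLib.DR.nonempty_map_inD (ModuleCat.extendScalars.{u, u, u} (algebraMap A B)) M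
  obtain ⟨e₂⟩ := GrothLib.DR.nonempty_extendScalars_iso (A := A) (B := B) M
  let e₀ : Dual.inD A M ≅ DRing.toD ((HomologicalComplex.single (ModuleCat.{u} A) (ComplexShape.up ℤ) 0).obj
      (ModuleCat.of A M)) :=
    ((SingleFunctors.evaluation _ _ 0).mapIso
      (DerivedCategory.singleFunctorsPostcompQIso (ModuleCat.{u} A))).app (ModuleCat.of A M)
  let e := e₁ ≪≫ (DerivedCategory.singleFunctor (ModuleCat.{u} B) 0).mapIso e₂.symm
  have key : ∀ k, DRing.IsPseudoCoherentModule A k M →
      DRing.IsPseudoCoherentModule B k (TensorProduct A B M) := fun k h =>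
    GrothLib.DerBC.isPseudoCoherent_of_iso e (GrothLib.DR.isPseudoCoherent_map
      (ModuleCat.extendScalars.{u, u, u} (algebraMap A B))
      (fun N hf hfr => GrothLib.DerBC.finiteFree_extendScalars (algebraMap A B) N hf hfr)
      (GrothLib.DerBC.isPseudoCoherent_of_iso e₀ h))
  exact ⟨key m, fun h => GrothLib.DR.isPseudoCoherent'_of_forall fun k =>
    key k (GrothLib.DR.isPseudoCoherent_of_prime h k)⟩

end Groth.Agent.S7000
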