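import Groth.Statements.S4498
import Groth.Agent.S2436

set_option autoImplicit false
universe u
attribute [local instance] HasDerivedCategory.standard
open Coherent

namespace Groth.Agent.S4498

open AlgebraicGeometry CategoryTheory Opposite in
/-- The global form over an affine base. Let A be a Noetherian ring, X a proper A-scheme with structure
morphism f, and F, F' coherent O_X-modules flat over Spec A. Let η be a natural transformation from
the functor M ↦ Γ(X, f^*(M~) ⊗ F) to the functor M ↦ Γ(X, f^*(M~) ⊗ F') of the A-module M (the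
published statement takes η induced by a homomorphism F → F'; this row allows any natural
transformation, which is all the argument uses). Then the kernel functor M ↦ Ker(η_M) is
corepresentable by a finitely generated A-module R: there are such an R and a natural transformation
ι : Hom_A(R, −) → Γ(X, f^*(−~) ⊗ F) with injective components whose image at every M is exactly the
kernel of η_M. (R is then unique up to unique isomorphism.) -/
theorem result (A : Type u) [CommRing A]
    [IsNoetherianRing A] (X : Scheme.{u}) [X.Over (Spec (CommRingCat.of A))]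
    [IsProper (X ↘ Spec (CommRingCat.of A))] (F F' : X.Modules) (hF : Coh.IsCoh F) (hF' : Coh.IsCoh F')
    (hfl : FlatMod.IsFlatOver (X ↘ Spec (CommRingCat.of A)) F)
    (hfl' : FlatMod.IsFlatOver (X ↘ Spec (CommRingCat.of A)) F')
    (η : CohIII.tensorAFunctor A F ⋙ CohIII.globalSectionsA A ⟶ CohIII.tensorAFunctor A F' ⋙ CohIII.globalSectionsA A) :
    ∃ (R : ModuleCat.{u} A) (ι : (linearCoyoneda A (ModuleCat.{u} A)).obj (op R) ⟶
        CohIII.tensorAFunctor A F ⋙ CohIII.globalSectionsA A),
      Module.Finite A R ∧ (∀ M : ModuleCat.{u} A, Function.Injective (ι.app M).hom) ∧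
        ∀ (M : ModuleCat.{u} A) (x : (CohIII.tensorAFunctor A F ⋙ CohIII.globalSectionsA A).obj M),
          (η.app M).hom x = 0 ↔ ∃ y, (ι.app M).hom y = x := by
  obtain ⟨Q, hQ, ⟨j⟩⟩ := Groth.Agent.S2436.result A X F hF hfl
  obtain ⟨Q', hQ', ⟨j'⟩⟩ := Groth.Agent.S2436.result A X F' hF' hfl'
  let η' : (linearCoyoneda A (ModuleCat.{u} A)).obj (op Q) ⟶ (linearCoyoneda A (ModuleCat.{u} A)).obj (op Q') :=
    j.inv ≫ η ≫ j'.hom
  let h : Q' ⟶ Q := (η'.app Q).hom (𝟙 Q)
  have hη : ∀ (M : ModuleCat.{u} A) (φ : Q ⟶ M), (η'.app M).hom φ = h ≫ φ := fun M φ => by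
    have := ConcreteCategory.congr_hom (η'.naturality φ) (𝟙 Q)
    exact (congrArg (η'.app M).hom (Category.id_comp φ).symm).trans this
  let R : ModuleCat.{u} A := ModuleCat.of A (Q ⧸ LinearMap.range h.hom)
  let q : Q ⟶ R := ModuleCat.ofHom (LinearMap.range h.hom).mkQ
  have hq : h ≫ q = 0 := ModuleCat.hom_ext (LinearMap.ext fun x =>
    (Submodule.Quotient.mk_eq_zero _).2 (LinearMap.mem_range_self h.hom x))
  haveI : Epi q := (ModuleCat.epi_iff_surjective q).2 (Submodule.mkQ_surjective _)
  have hinj : ∀ M : ModuleCat.{u} A, Function.Injective (j.inv.app M).hom := fun M =>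
    Function.LeftInverse.injective (g := (j.hom.app M).hom) fun y =>
      ConcreteCategory.congr_hom (j.inv_hom_id_app M) y
  have hinj' : ∀ M : ModuleCat.{u} A, Function.Injective (j'.hom.app M).hom := fun M =>
    Function.LeftInverse.injective (g := (j'.inv.app M).hom) fun y =>
      ConcreteCategory.congr_hom (j'.hom_inv_id_app M) y
  refine ⟨R, (linearCoyoneda A (ModuleCat.{u} A)).map q.op ≫ j.inv, Module.Finite.quotient A _, ?_, ?_⟩
  · intro M a b hab
    exact (cancel_epi q).1 (hinj M hab)
  · intro M x
    let φ : Q ⟶ M := (j.hom.app M).hom x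
    have hx : (j.inv.app M).hom φ = x := ConcreteCategory.congr_hom (j.hom_inv_id_app M) x
    have hη' : h ≫ φ = (j'.hom.app M).hom ((η.app M).hom x) := by
      rw [← hη]
      show (j'.hom.app M).hom ((η.app M).hom ((j.inv.app M).hom φ)) = _
      rw [hx]
    constructor
    · intro h0
      rw [h0, map_zero] at hη'
      have hker : LinearMap.range h.hom ≤ LinearMap.ker φ.hom := by
        rintro _ ⟨y, rfl⟩
        exact LinearMap.congr_fun (congrArg ModuleCat.Hom.hom hη') y
      refine ⟨ModuleCat.ofHom ((LinearMap.range h.hom).liftQ φ.hom hker), ?_⟩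
      refine Eq.trans ?_ hx
      exact congrArg (j.inv.app M).hom (ModuleCat.hom_ext (LinearMap.ext fun _ => rfl))
    · rintro ⟨y, hy⟩
      apply hinj' M
      rw [map_zero, ← hη']
      have hφ : φ = q ≫ y := hinj M (hx.trans hy.symm)
      rw [hφ, ← Category.assoc, hq, Limits.zero_comp]
      rfl

end Groth.Agent.S4498
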