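import Groth.Statements.S1073
import Groth.Agent.Lib.OX.QCohStalk
import Groth.Agent.Lib.OX.LTensorCx
import Groth.Agent.Lib.OX.LTensor

set_option autoImplicit false
universe u
open CategoryTheory CategoryTheory.Limits AlgebraicGeometry Opposite
attribute [local instance] HasDerivedCategory.standard
open Perf

namespace Groth.Agent.S1073

open GrothLib.OX HomologicalComplex MonoidalCategory

theorem exact_tensor_of_stalk {X : Scheme.{u}} (S : ShortComplex X.Modules) (G F : X.Modules) (x : X)
    (e : (stalk x).obj G ≅ (stalk x).obj F)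
    (h : ((S.map ((DCoh.tensorBi (X := X)).flip.obj F)).map (stalk x)).Exact) :
    ((S.map ((DCoh.tensorBi (X := X)).flip.obj G)).map (stalk x)).Exact := by
  have w : ∀ H : X.Modules, (DCoh.tensorBi (X := X)).flip.obj H ⋙ stalk x ≅ stalk x ⋙ tensorRight ((stalk x).obj H) :=
    fun H => NatIso.ofComponents (fun M => stalkTensorBiIso x M H) (fun f => stalkTensorBiIso_natural₁ x f H)
  exact (ShortComplex.exact_iff_of_iso (S.mapNatIso (w G ≪≫
    Functor.isoWhiskerLeft (stalk x) ((curriedTensor _).flip.mapIso e) ≪≫ (w F).symm))).2 h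

/-- Let X be a quasi-separated scheme, E ∈ D(O_X) with quasi-coherent cohomology sheaves, and a ≤ b.
Then E has tor amplitude in [a, b] (Hⁱ(E ⊗^L F) = 0 outside [a, b] for every O_X-module F, whenever
the derived functor is available) if and only if the same vanishing holds for every quasi-coherent
O_X-module F. -/
theorem result (X : Scheme.{u}) [QuasiSeparatedSpace ↥X] (E : DCoh.D X) (hE : DCoh.IsQCohD E)
    (a b : ℤ) (hab : a ≤ b) :
    DCoh.HasTorAmplitudeIn a b E ↔
      ∀ (F : X.Modules), Coh.IsQCoh F → ∀ [DCoh.HasLTensorMod F] (i : ℤ), (i < a ∨ b < i) →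
        IsZero (DCoh.HD ((DCoh.LTensorMod F).obj E) i) := by
  refine ⟨fun h F _ hL i hi => h F i hi, fun h => ?_⟩
  obtain ⟨P, hP, ⟨e⟩⟩ := exists_kflat_rep E
  intro G hG i hi
  obtain ⟨w⟩ := hd_ltensor G P hP e i
  refine IsZero.of_iso ?_ w
  refine (exactAt_iff_isZero_homology _ i).1 ((exactAt_iff _ i).2 ((GrothLib.OX.exact_iff _).2 fun x => ?_))
  obtain ⟨F, hF, ⟨eF⟩⟩ := exists_qcoh_stalk x ((stalk x).obj G)
  have : DCoh.HasLTensorMod F := hasLTensorMod F
  obtain ⟨w'⟩ := hd_ltensor F P hP e i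
  have hz := (exactAt_iff _ i).1 ((exactAt_iff_isZero_homology _ i).2 ((h F hF i hi).of_iso w'.symm))
  exact exact_tensor_of_stalk (P.sc i) G F x eF.symm (hz.map (stalk x))

end Groth.Agent.S1073
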