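import Groth.Statements.S1536
import Groth.Agent.Lib.GlobalConst.Scheme

set_option autoImplicit false
universe u
open CategoryTheory CategoryTheory.Limits AlgebraicGeometry
open Variety

namespace Groth.Agent.S1536

/-- For a proper scheme X over a field k which is geometrically reduced and geometrically connected,
H^0(X, O_X) is one-dimensional over k, i.e. the global functions are the constants. -/
theorem result (k : Type u) [Field k] (X : Scheme.{u}) [X.Over (Spec (CommRingCat.of k))] [IsProper (X ↘ (Spec (CommRingCat.of k)))]
    [GeometricallyReduced (X ↘ (Spec (CommRingCat.of k)))] [GeometricallyConnected (X ↘ (Spec (CommRingCat.of k)))] :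
    Module.finrank k (Coh.HH X (Coh.structureModule X) 0) = 1 := by
  letI := GrothLib.GlobalConst.algΓ k (X := X)
  haveI : ConnectedSpace X := GeometricallyConnected.connectedSpace_of_subsingleton (X ↘ (Spec (CommRingCat.of k)))
  haveI : IsReduced X := GeometricallyReduced.geometrically_isReduced (f := X ↘ (Spec (CommRingCat.of k))) (K := k) (𝟙 _) (Z := X) (𝟙 _) _ (IsPullback.of_horiz_isIso (snd := X ↘ (Spec (CommRingCat.of k))) ⟨by simp⟩)
  have hF : IsField Γ(X, ⊤) := GrothLib.Rigidity.isField_appTop_of_universallyClosed (X ↘ (Spec (CommRingCat.of k)))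
  haveI := GrothLib.GlobalConst.isSeparable_algΓ k hF
  haveI := GrothLib.GlobalConst.isPurelyInseparable_algΓ k hF
  letI := hF.toField
  have hs := IsPurelyInseparable.surjective_algebraMap_of_isSeparable k Γ(X, ⊤)
  rw [LinearEquiv.finrank_eq (GrothLib.GlobalConst.h0Equiv k)]
  exact (LinearEquiv.finrank_eq (AlgEquiv.ofBijective (Algebra.ofId k Γ(X, ⊤)) ⟨RingHom.injective _, hs⟩).toLinearEquiv).symm.trans (Module.finrank_self k)

end Groth.Agent.S1536
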