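import Groth.Statements.S6935
import Groth.Agent.Lib.DCxRing.Homology

set_option autoImplicit false
universe u
open CategoryTheory CategoryTheory.Limits
attribute [local instance] HasDerivedCategory.standard
open DRing

namespace Groth.Agent.S6935

/-- Let R be a commutative ring and M an R-module, viewed as the complex M[0] in D(R). Then M[0] is
0-pseudo-coherent exactly when M is finitely generated over R, and M[0] is (-1)-pseudo-coherent
exactly when M admits a finite presentation over R. -/
theorem result (R : Type u) [CommRing R]
    (M : Type u) [AddCommGroup M] [Module R M] :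
    (DRing.IsPseudoCoherentModule R 0 M ↔ Module.Finite R M) ∧
      (DRing.IsPseudoCoherentModule R (-1) M ↔ Module.FinitePresentation R M) := by
  have hz : ∀ i : ℤ, i ≠ 0 → IsZero ((DerivedCategory.homologyFunctor (ModuleCat.{u} R) i).obj
      (Dual.inD R M)) := fun i hi =>
    (GrothLib.DR.subsingleton_iff_isZero _).1 (GrothLib.DR.subsingleton_HD_inD M i hi)
  refine ⟨⟨fun h => ?_, fun _ => ?_⟩, ⟨fun h => ?_, fun _ => ?_⟩⟩
  · haveI := (GrothLib.DerBC.finite_homology _ 0 h).1 fun i hi => hz i (by omega)
    exact Module.Finite.equiv (GrothLib.DR.inDHomologyIso M).toLinearEquiv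
  · refine GrothLib.DR.isPseudoCoherent_of_homology 0 (Dual.inD R M)
      (fun i hi => GrothLib.DR.subsingleton_HD_inD M i (by omega)) ?_
      (Module.Finite.equiv (GrothLib.DR.inDHomologyIso M).toLinearEquiv.symm)
    haveI := GrothLib.DR.subsingleton_HD_inD (A := R) M (0 + 1) (by omega)
    infer_instance
  · have h2 := (GrothLib.DerBC.finite_homology _ (-1) h).2 fun i hi => hz i (by omega)
    rw [show (-1 : ℤ) + 1 = 0 by omega] at h2
    exact Module.FinitePresentation.of_equiv (GrothLib.DR.inDHomologyIso M).toLinearEquiv
  · refine GrothLib.DR.isPseudoCoherent_of_homology (-1) (Dual.inD R M)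
      (fun i hi => GrothLib.DR.subsingleton_HD_inD M i (by omega)) ?_ ?_
    · rw [show (-1 : ℤ) + 1 = 0 by omega]
      exact Module.FinitePresentation.of_equiv (GrothLib.DR.inDHomologyIso M).toLinearEquiv.symm
    · haveI := GrothLib.DR.subsingleton_HD_inD (A := R) M (-1) (by omega)
      infer_instance

end Groth.Agent.S6935
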