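import Groth.Statements.S13051
import Groth.Agent.Lib.Zeta.Counting

set_option autoImplicit false
universe u
open CategoryTheory AlgebraicGeometry
open Zeta

namespace Groth.Agent.S13051

/-- For a scheme X of finite type over a finite field k, Z(X, t) = ∏ over the closed points x of (1 −
t^{deg x})^{−1}, that is ∏_{r ≥ 1} (1 − t^r)^{−a_r} with a_r the number of closed points of residue
degree r; equivalently, for every n the product Z(X, t) · ∏_{r = 1}^{n} (1 − t^r)^{a_r} is ≡ 1
modulo t^{n+1}. In particular Z(X, t) has integer coefficients. (Stated for any scheme of finite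
type over k; reducedness plays no role.) -/
theorem result {k : Type u} [Field k] [Finite k] {X : Scheme.{u}}
    (f : X ⟶ Spec (CommRingCat.of k)) [LocallyOfFiniteType f] [QuasiCompact f] :
    (∀ n : ℕ, PowerSeries.trunc (n + 1)
        (Zeta.zetaFun f * ∏ r ∈ Finset.Icc 1 n, (1 - PowerSeries.X ^ r) ^ Zeta.degCount f r) = 1) ∧
      ∀ n : ℕ, ∃ z : ℤ, PowerSeries.coeff n (Zeta.zetaFun f) = (z : ℚ) := by
  classical
  have key : ∀ n : ℕ, PowerSeries.trunc (n + 1)
      (Zeta.zetaFun f * ∏ r ∈ Finset.Icc 1 n, (1 - PowerSeries.X ^ r) ^ Zeta.degCount f r) = 1 := by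
    intro n
    have h := (GrothLib.Zeta.isExpOf_zetaFun f).mul (GrothLib.Zeta.IsExpOf.prod (Finset.Icc 1 n)
      (F := fun r : ℕ => (1 - PowerSeries.C (1 : ℚ) * PowerSeries.X ^ r) ^ Zeta.degCount f r)
      fun r hr => (GrothLib.Zeta.isExpOf_one_sub (r := r) (by rw [Finset.mem_Icc] at hr; omega)
        (1 : ℚ)).pow _)
    simp only [map_one, one_mul] at h
    refine h.trunc_eq_one ?_ n fun m h1 h2 => ?_
    · simp [GrothLib.Zeta.nPts_zero, GrothLib.Zeta.binomExp]
    · have e : m.divisors = (Finset.Icc 1 n).filter (· ∣ m) := by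
        ext r
        simp only [Nat.mem_divisors, Finset.mem_filter, Finset.mem_Icc]
        refine ⟨fun hr => ⟨⟨Nat.pos_of_dvd_of_pos hr.1 (by omega), (Nat.le_of_dvd (by omega) hr.1).trans h2⟩, hr.1⟩,
          fun hr => ⟨hr.2, by omega⟩⟩
      simp only [Pi.add_apply, Zeta.nPts, e, Finset.sum_filter, GrothLib.Zeta.binomExp]
      push_cast
      rw [← Finset.sum_add_distrib]
      refine Finset.sum_eq_zero fun r _ => ?_
      have hm : m ≠ 0 := by omega
      by_cases hd : r ∣ m <;> simp [hd, hm]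
      ring
  refine ⟨key, fun n => ?_⟩
  let Q : PowerSeries ℤ := ∏ r ∈ Finset.Icc 1 n, (1 - PowerSeries.X ^ r) ^ Zeta.degCount f r
  have hQ : IsUnit Q := by
    rw [PowerSeries.isUnit_iff_constantCoeff, map_prod, Finset.prod_eq_one]
    · exact isUnit_one
    · intro r hr
      rw [Finset.mem_Icc] at hr
      simp [show r ≠ 0 by omega]
  obtain ⟨Q', hQ'⟩ := hQ.exists_right_inv
  let φ := PowerSeries.map (Int.castRingHom ℚ)
  refine ⟨PowerSeries.coeff n Q', ?_⟩
  have h1 : Zeta.zetaFun f = (Zeta.zetaFun f * φ Q) * φ Q' := by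
    rw [mul_assoc, ← map_mul, hQ', map_one, mul_one]
  have h2 : φ Q = ∏ r ∈ Finset.Icc 1 n, (1 - PowerSeries.X ^ r) ^ Zeta.degCount f r := by
    simp [φ, Q, map_prod, PowerSeries.map_X]
  have h3 : ∀ i ≤ n, PowerSeries.coeff i (Zeta.zetaFun f * φ Q) = if i = 0 then 1 else 0 := by
    intro i hi
    have := congrArg (fun p : Polynomial ℚ => p.coeff i) (key n)
    simp only [PowerSeries.coeff_trunc, Polynomial.coeff_one] at this
    rw [h2, ← this, if_pos (by omega)]
  rw [h1, PowerSeries.coeff_mul, Finset.sum_eq_single (0, n)]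
  · rw [h3 0 (Nat.zero_le n)]
    simp [φ]
  · intro p hp hne
    rw [Finset.mem_antidiagonal] at hp
    rw [h3 p.1 (by omega), if_neg, zero_mul]
    intro h
    exact hne (Prod.ext h (by simp only; omega))
  · simp

end Groth.Agent.S13051
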