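import Groth.Statements.S8630
import Mathlib

set_option autoImplicit false
open Zeta

namespace Groth.Agent.S8630

/-- Fatou's lemma: let P, Q ∈ ℚ[T] be coprime with constant coefficient 1, and suppose the power series
P/Q has integer coefficients, i.e. P = Q·Z in ℚ⟦T⟧ for a power series Z with coefficients in ℤ. Then
P and Q have integer coefficients. -/
theorem result (P Q : Polynomial ℚ)
    (hPQ : IsCoprime P Q) (hP : P.coeff 0 = 1) (hQ : Q.coeff 0 = 1) (Z : PowerSeries ℤ)
    (hZ : (P : PowerSeries ℚ) = (Q : PowerSeries ℚ) * PowerSeries.map (Int.castRingHom ℚ) Z) :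
    (∃ P₀ : Polynomial ℤ, P₀.map (Int.castRingHom ℚ) = P) ∧
      ∃ Q₀ : Polynomial ℤ, Q₀.map (Int.castRingHom ℚ) = Q := by
  classical
  obtain ⟨⟨m, hm⟩, hNQ⟩ := IsLocalization.integerNormalization_map_to_map (nonZeroDivisors ℤ) Q
  set R := IsLocalization.integerNormalization (nonZeroDivisors ℤ) Q with hR
  have hm0 : (m : ℚ) ≠ 0 := Int.cast_ne_zero.2 (nonZeroDivisors.ne_zero hm)
  set c : ℚ := (R.content : ℚ) / m with hc
  have hQc : Q = Polynomial.C c * R.primPart.map (Int.castRingHom ℚ) := by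
    have h1 : R.map (Int.castRingHom ℚ) = Polynomial.C (m : ℚ) * Q := by
      rw [← algebraMap_int_eq, hNQ, Algebra.smul_def, Algebra.algebraMap_eq_smul_one]
      simp [Polynomial.smul_eq_C_mul, zsmul_eq_mul]
    rw [Polynomial.eq_C_content_mul_primPart R, Polynomial.map_mul, Polynomial.map_C] at h1
    rw [hc, div_eq_inv_mul, map_mul, mul_assoc]
    change Polynomial.C ((R.content : ℤ) : ℚ) * _ = _ at h1
    rw [h1, ← mul_assoc, ← map_mul, inv_mul_cancel₀ hm0, map_one, one_mul]
  set S := R.primPart with hS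
  have hSprim : S.IsPrimitive := Polynomial.isPrimitive_primPart R
  obtain ⟨a, b, hab⟩ := hPQ
  set V : PowerSeries ℚ := (Q : PowerSeries ℚ) * ((a : PowerSeries ℚ) * PowerSeries.map (Int.castRingHom ℚ) Z + (b : PowerSeries ℚ)) with hV
  have hV1 : V = 1 := by
    rw [hV, mul_add, mul_left_comm, ← hZ, ← Polynomial.coe_mul, ← Polynomial.coe_mul,
      mul_comm Q b, ← Polynomial.coe_add, hab, Polynomial.coe_one]
  obtain ⟨⟨ma, hma⟩, hNa⟩ := IsLocalization.integerNormalization_map_to_map (nonZeroDivisors ℤ) a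
  obtain ⟨⟨mb, hmb⟩, hNb⟩ := IsLocalization.integerNormalization_map_to_map (nonZeroDivisors ℤ) b
  set A := IsLocalization.integerNormalization (nonZeroDivisors ℤ) a
  set B := IsLocalization.integerNormalization (nonZeroDivisors ℤ) b
  have hAa : (A : Polynomial ℤ).map (Int.castRingHom ℚ) = Polynomial.C (ma : ℚ) * a := by
    rw [← algebraMap_int_eq, hNa, Algebra.smul_def, Algebra.algebraMap_eq_smul_one]
    simp [Polynomial.smul_eq_C_mul, zsmul_eq_mul]
  have hBb : (B : Polynomial ℤ).map (Int.castRingHom ℚ) = Polynomial.C (mb : ℚ) * b := by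
    rw [← algebraMap_int_eq, hNb, Algebra.smul_def, Algebra.algebraMap_eq_smul_one]
    simp [Polynomial.smul_eq_C_mul, zsmul_eq_mul]
  set W : PowerSeries ℤ := PowerSeries.C R.content *
    (PowerSeries.C mb * (A : PowerSeries ℤ) * Z + PowerSeries.C ma * (B : PowerSeries ℤ)) with hW
  have hSW : (S : PowerSeries ℤ) * W = PowerSeries.C (m * (ma * mb)) := by
    refine PowerSeries.map_injective (Int.castRingHom ℚ) Int.cast_injective ?_
    simp only [hW, map_mul, map_add, PowerSeries.map_C, ← Polynomial.polynomial_map_coe, hAa, hBb,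
      Polynomial.coe_mul, Polynomial.coe_C, Int.coe_castRingHom]
    have hQ' : (Q : PowerSeries ℚ) = PowerSeries.C c * ((S.map (Int.castRingHom ℚ) : Polynomial ℚ) : PowerSeries ℚ) := by
      rw [hQc, Polynomial.coe_mul, Polynomial.coe_C]
    have e : PowerSeries.C ((R.content : ℤ) : ℚ) = PowerSeries.C (m : ℚ) * PowerSeries.C c := by
      rw [← map_mul, hc, mul_div_cancel₀ _ hm0]
    rw [hV, hQ'] at hV1
    rw [e]
    linear_combination (PowerSeries.C (m : ℚ) * (PowerSeries.C (ma : ℚ) * PowerSeries.C (mb : ℚ))) * hV1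
  have hN0 : m * (ma * mb) ≠ 0 := mul_ne_zero (nonZeroDivisors.ne_zero hm)
    (mul_ne_zero (nonZeroDivisors.ne_zero hma) (nonZeroDivisors.ne_zero hmb))
  have key : ∀ (t : ℕ) (N : ℤ) (W : PowerSeries ℤ), N.natAbs = t → N ≠ 0 →
      (S : PowerSeries ℤ) * W = PowerSeries.C N →
      ∃ (W' : PowerSeries ℤ) (u : ℤ), IsUnit u ∧ (S : PowerSeries ℤ) * W' = PowerSeries.C u := by
    intro t
    induction t using Nat.strong_induction_on with
    | _ t ih =>
    intro N W ht hN hSW
    by_cases hu : IsUnit N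
    · exact ⟨W, N, hu, hSW⟩
    obtain ⟨p, hp, hpN⟩ := Nat.exists_prime_and_dvd (fun h => hu (Int.isUnit_iff_natAbs_eq.2 h))
    have hpf := Fact.mk hp
    have hpN' : (p : ℤ) ∣ N := Int.natCast_dvd.2 hpN
    have h0 := congrArg (PowerSeries.map (Int.castRingHom (ZMod p))) hSW
    rw [map_mul, PowerSeries.map_C, eq_intCast, (ZMod.intCast_zmod_eq_zero_iff_dvd N p).2 hpN',
      map_zero] at h0
    have hSne : PowerSeries.map (Int.castRingHom (ZMod p)) (S : PowerSeries ℤ) ≠ 0 := by
      intro hz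
      have : Polynomial.C (p : ℤ) ∣ S := Polynomial.C_dvd_iff_dvd_coeff _ _ |>.2 fun i => by
        have := congrArg (PowerSeries.coeff i) hz
        rwa [PowerSeries.coeff_map, Polynomial.coeff_coe, map_zero, eq_intCast,
          ZMod.intCast_zmod_eq_zero_iff_dvd] at this
      exact (Nat.prime_iff_prime_int.1 hp).not_isUnit (hSprim _ this)
    have hW0 := (mul_eq_zero.1 h0).resolve_left hSne
    obtain ⟨N', rfl⟩ := hpN'
    have hWp : ∀ i, (p : ℤ) ∣ PowerSeries.coeff i W := fun i => by
      have := congrArg (PowerSeries.coeff i) hW0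
      rwa [PowerSeries.coeff_map, map_zero, eq_intCast, ZMod.intCast_zmod_eq_zero_iff_dvd] at this
    choose w hw using hWp
    have hWeq : W = PowerSeries.C (p : ℤ) * PowerSeries.mk w := by
      ext i; rw [PowerSeries.coeff_C_mul, PowerSeries.coeff_mk, hw i]
    rw [hWeq, mul_left_comm, map_mul] at hSW
    have hC0 : (PowerSeries.C (p : ℤ) : PowerSeries ℤ) ≠ 0 := by
      intro h
      exact hp.ne_zero (by exact_mod_cast PowerSeries.C_injective (h.trans (map_zero _).symm))
    refine ih N'.natAbs ?_ N' (PowerSeries.mk w) rfl (right_ne_zero_of_mul hN) (mul_left_cancel₀ hC0 hSW)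
    rw [← ht, Int.natAbs_mul, Int.natAbs_natCast]
    exact lt_mul_of_one_lt_left (Int.natAbs_pos.2 (right_ne_zero_of_mul hN)) hp.one_lt
  obtain ⟨W', u, hu, hW'⟩ := key _ _ W rfl hN0 hSW
  have hS0 : IsUnit (S.coeff 0) := by
    have := congrArg PowerSeries.constantCoeff hW'
    rw [map_mul, PowerSeries.constantCoeff_C, Polynomial.constantCoeff_coe] at this
    exact isUnit_of_mul_isUnit_left (this ▸ hu)
  have hc1 : c * (S.coeff 0 : ℚ) = 1 := by
    rw [← hQ, hQc]; simp
  have hQint : Q = (Polynomial.C (S.coeff 0) * S).map (Int.castRingHom ℚ) := by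
    rw [hQc, Polynomial.map_mul, Polynomial.map_C]
    congr 2
    rcases Int.isUnit_iff.1 hS0 with h | h <;> rw [h] at hc1 ⊢ <;> push_cast at hc1 ⊢ <;>
      simp only [eq_intCast] <;> push_cast <;> linarith
  refine ⟨?_, _, hQint.symm⟩
  have hP' : P ∈ Polynomial.lifts (Int.castRingHom ℚ) := by
    rw [Polynomial.lifts_iff_coeff_lifts]
    intro i
    have hco := congrArg (PowerSeries.coeff i) hZ
    rw [Polynomial.coeff_coe, hQint, Polynomial.polynomial_map_coe, ← map_mul, PowerSeries.coeff_map] at hco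
    exact ⟨_, hco.symm⟩
  exact (Polynomial.mem_lifts _).1 hP'

end Groth.Agent.S8630
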