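import Groth.Statements.S5443
import Groth.Agent.Lib.UnipOrbit14.Basic

set_option autoImplicit false
universe u
open TensorProduct CategoryTheory MonoidalCategory CartesianMonoidalCategory MonObj GrpObj AlgebraicGeometry
open SGA3x

namespace Groth.Agent.S5443

/-- Let k be a field, A a finitely generated commutative Hopf algebra over k which is unipotent in the
fixed-vector sense (a unipotent algebraic group U = Spec A), X a k-scheme of finite type which is
quasi-affine, with an action of U, and x a k-rational point of X. Then the orbit of x — the
set-theoretic image of U under the orbit map g ↦ g · x — is closed in X. (The published statement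
does not ask X to be of finite type over k; this row does.) -/
theorem result (k : Type u) [Field k] (A : Type u) [CommRing A] [HopfAlgebra k A] [Algebra.FiniteType k A]
    (hU : HopfRep.IsUnipotent k A) (X : Over (Spec (CommRingCat.of k))) [LocallyOfFiniteType X.hom]
    (hX : Mor2.IsQuasiAffine X.hom)
    (a : AlgGrp.Action ((Spec (CommRingCat.of A)).asOver (Spec (CommRingCat.of k))) X)
    (x : 𝟙_ (Over (Spec (CommRingCat.of k))) ⟶ X) :
    IsClosed (Set.range (a.orbitMap x).left.base) := by
  haveI : QuasiCompact X.hom := hX.1
  haveI : Scheme.IsQuasiAffine (X.hom ⁻¹ᵁ ⊤ : Scheme.{u}) := hX.2 ⊤ (isAffineOpen_top _)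
  haveI : CompactSpace ↥X.left := QuasiCompact.compactSpace_of_compactSpace X.hom
  haveI : Scheme.IsQuasiAffine X.left :=
    Scheme.IsQuasiAffine.of_isImmersion (Y := (X.hom ⁻¹ᵁ ⊤ : Scheme.{u})) X.left.topIso.inv
  exact GrothLib.UnipOrbit14.main a x hU

end Groth.Agent.S5443
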