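import Groth.Statements.S1025
import Groth.Agent.Lib.BCCrit.ModelExists
import Groth.Agent.Lib.BCCoh.ModelAffine
import Groth.Agent.Lib.FlatCx.Rank
import Groth.Agent.Lib.SemiPrufer.SheafFP

set_option backward.isDefEq.respectTransparency false

set_option autoImplicit false
universe u
open CategoryTheory AlgebraicGeometry
open Perf

namespace Groth.Agent.S1025

/-- Let f : X ⟶ S be proper and of finite presentation and F an O_X-module of finite presentation which
is flat over S. For each i the function s ↦ dim_{κ(s)} Hⁱ(X_s, F_s) (cohomology of the pullback of F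
to the scheme-theoretic fibre) is upper semicontinuous: for every n the set of points where it is <
n is open. -/
theorem result {X S : Scheme.{u}} (f : X ⟶ S) [IsProper f] [LocallyOfFinitePresentation f]
    (F : X.Modules) (hF : CohB1.IsFP F) (hflat : FlatMod.IsFlatOver f F) (i n : ℕ) :
    IsOpen {s : S | PerfAux.betti f F s i < n} := by
  haveI := GrothLib.SemiPrufer.qcoh_of_isFP hF
  rw [isOpen_iff_mem_nhds]
  intro s hs
  obtain ⟨V, hV, hsV, -⟩ := exists_isAffineOpen_mem_and_subset (x := s) (U := (⊤ : S.Opens)) trivial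
  obtain ⟨m⟩ := GrothLib.BCCrit.nonempty_model_affine_fp f hV F hF hflat
  have heq : ∀ (s' : S) (hs' : s' ∈ V),
      PerfAux.betti f F s' i = CohIII.dRank m.L (i : ℤ) (hV.primeIdealOf ⟨s', hs'⟩) := fun s' hs' =>
    GrothLib.BCCoh.Model.fiberRank_affine f hV F m i s' hs'
  have husc : UpperSemicontinuous (CohIII.dRank m.L (i : ℤ)) :=
    GrothLib.FlatCx.upperSemicontinuous_dRank m.L (fun j => ⟨(m.finFree j).1, by
      haveI := (m.finFree j).2
      infer_instance⟩) _
  have hT := upperSemicontinuous_iff_isOpen_preimage.1 husc n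
  refine Filter.mem_of_superset ((((V.ι).isOpenEmbedding.isOpenMap _
    (hT.preimage hV.isoSpec.hom.continuous))).mem_nhds ⟨⟨s, hsV⟩, ?_, rfl⟩) ?_
  · show CohIII.dRank m.L (i : ℤ) (hV.primeIdealOf ⟨s, hsV⟩) < n
    rw [← heq s hsV]
    exact hs
  · rintro _ ⟨z, hz, rfl⟩
    show PerfAux.betti f F z.1 i < n
    rw [heq z.1 z.2]
    exact hz

end Groth.Agent.S1025
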