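import Groth.Statements.S1026
import Groth.Agent.Lib.EulerConst10.Main

set_option backward.isDefEq.respectTransparency false

set_option autoImplicit false
universe u
open CategoryTheory AlgebraicGeometry
open Perf

namespace Groth.Agent.S1026

/-- Let f : X ⟶ S be proper and of finite presentation and F an O_X-module of finite presentation which
is flat over S. Then the Euler characteristic s ↦ χ(X_s, F_s) = Σᵢ (-1)ⁱ dim_{κ(s)} Hⁱ(X_s, F_s) is
a locally constant function on S. (The source adds that its formation commutes with base change.) -/
theorem result {X S : Scheme.{u}} (f : X ⟶ S) [IsProper f] [LocallyOfFinitePresentation f]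
    (F : X.Modules) (hF : CohB1.IsFP F) (hflat : FlatMod.IsFlatOver f F) :
    IsLocallyConstant (fun s : S => PerfAux.eulerChar f F s) := by
  refine (IsLocallyConstant.iff_exists_open _).2 fun s => ?_
  obtain ⟨U, hsU, hU⟩ := GrothLib.EulerConst10.exists_nhd_euler_eq f F hF hflat s
  exact ⟨U, U.2, hsU, fun s' hs' => hU s' hs'⟩

end Groth.Agent.S1026
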