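import Groth.Agent.Lib.RelDiv.Basic
import Groth.Statements.S8848
-- import your own Groth.Agent.* helpers here

set_option autoImplicit false
universe u
open CategoryTheory CategoryTheory.Limits AlgebraicGeometry TopologicalSpace
open SDiv

namespace Groth.Agent.S8848

/-- Let φ : X ⟶ S be flat and locally of finite presentation and let 𝓘 be a quasi-coherent ideal sheaf
on X which is locally principal (generated by one section on some affine open neighbourhood of each
point of its support). If for every point s of S the inverse image ideal of 𝓘 on the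
scheme-theoretic fibre X_s is the ideal sheaf of an effective Cartier divisor of X_s, then 𝓘 is the
ideal sheaf of an effective Cartier divisor of X and its closed subscheme is flat over S (a relative
effective Cartier divisor). -/
theorem result {X S : Scheme.{u}} (φ : X ⟶ S) [Flat φ] [LocallyOfFinitePresentation φ]
    (𝓘 : X.IdealSheafData) (hZ : Curv2.IsLocPrincipal 𝓘)
    (hfib : ∀ s : ↥S, BlowUp.IsEffCartierIdeal (𝓘.comap (φ.fiberι s))) :
    BlowUp.IsEffCartierIdeal 𝓘 ∧ Flat (𝓘.subschemeι ≫ φ) := by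
  have main : ∀ x : X, ∃ (U : S.affineOpens) (V : X.affineOpens) (e : V.1 ≤ φ ⁻¹ᵁ U.1),
      x ∈ V.1 ∧ GrothLib.BlowUp.CartierOn 𝓘 V ∧
        ((Ideal.Quotient.mk (𝓘.ideal V)).comp (φ.appLE U.1 V.1 e).hom).Flat := by
    intro x
    by_cases hxs : x ∈ 𝓘.support
    · obtain ⟨W, hxW, w, hw⟩ := hZ x hxs
      obtain ⟨s, z, rfl⟩ : ∃ (s : S) (z : φ.fiber s), φ.fiberι s z = x :=
        ⟨φ x, show x ∈ Set.range (φ.fiberι (φ x)) by rw [φ.range_fiberι]; rfl⟩
      obtain ⟨V, hzV, hVW, g, hg, hgI⟩ := GrothLib.BlowUp.exists_cartierOn_le (hfib s)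
        (W := φ.fiberι s ⁻¹ᵁ W.1) (x := z) hxW
      rw [GrothLib.BlowUp.ideal_comap_eq_map 𝓘 _ W V hVW, hw, Ideal.map_span, Set.image_singleton] at hgI
      obtain ⟨hsurj, hker⟩ := GrothLib.FibreFlat.fiberι_stalkMap φ _ z
      let h := X.presheaf.germ W.1 (φ.fiberι s z) hxW w
      have hπ : (φ.fiberι s).stalkMap z h =
          (φ.fiber s).presheaf.germ V.1 z hzV ((φ.fiberι s).appLE W.1 V.1 hVW w) := by
        show (φ.fiberι s).stalkMap z (X.presheaf.germ W.1 _ hxW w) = _
        rw [Scheme.Hom.germ_stalkMap_apply, Scheme.Hom.appLE, CommRingCat.comp_apply,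
          TopCat.Presheaf.germ_res_apply]
      refine GrothLib.RelDiv.exists_relCartier_nhd φ 𝓘 _ (Flat.stalkMap _ _) W hxW
        (hw ▸ ⟨{w}, by simp⟩) h ?_ (by rw [hw, Ideal.map_span, Set.image_singleton])
      rw [isSMulRegular_quotient_iff_mem_of_smul_mem]
      intro y hy
      rw [← hker, RingHom.mem_ker] at hy ⊢
      change (φ.fiberι s).stalkMap z (h * y) = 0 at hy
      show (φ.fiberι s).stalkMap z y = 0
      rw [map_mul, hπ] at hy
      refine (mul_left_mem_nonZeroDivisors_eq_zero_iff (GrothLib.BlowUp.germ_mem_nonZeroDivisors ?_ hzV)).mp hy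
      obtain ⟨c, hc⟩ := Ideal.mem_span_singleton.1 (hgI.ge (Ideal.mem_span_singleton_self g))
      exact (mul_mem_nonZeroDivisors.mp (hc ▸ hg)).1
    · obtain ⟨W, hxW, -⟩ := GrothLib.BlowUp.exists_affine_mem_le (W := 𝓘.support.compl) (x := x) hxs
      obtain ⟨a, ha, hxa⟩ : ∃ a ∈ 𝓘.ideal W, x ∈ X.basicOpen a := by
        by_contra hh
        push_neg at hh
        exact hxs ((Scheme.IdealSheafData.mem_support_iff_of_mem hxW).2 ((Scheme.mem_zeroLocus_iff _ _ _).2 hh))
      have hW' : 𝓘.ideal (X.affineBasicOpen a) = ⊤ := by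
        rw [← 𝓘.map_ideal (U := X.affineBasicOpen a) (V := W) (X.basicOpen_le a)]
        exact Ideal.eq_top_of_isUnit_mem _ (Ideal.mem_map_of_mem _ ha)
          (RingedSpace.isUnit_res_basicOpen (X := X.toLocallyRingedSpace.toRingedSpace) a)
      exact GrothLib.RelDiv.exists_relCartier_nhd φ 𝓘 x (Flat.stalkMap _ _) (X.affineBasicOpen a) hxa
        (hW' ▸ ⟨{1}, by simp⟩) 1 (IsSMulRegular.one _) (by rw [hW', Ideal.map_top, Ideal.span_singleton_one])
  refine ⟨fun x => ?_, GrothLib.BlowUp.flat_of_forall_exists φ 𝓘 fun x => ?_⟩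
  · obtain ⟨-, V, -, hxV, hC, -⟩ := main x
    exact ⟨V, hxV, hC⟩
  · obtain ⟨U, V, e, hxV, -, hF⟩ := main x
    exact ⟨U, V, e, hxV, hF⟩

end Groth.Agent.S8848
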