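import Groth.Statements.S9682
import Mathlib.AlgebraicGeometry.Morphisms.QuasiFinite

set_option autoImplicit false
universe u
open CategoryTheory CategoryTheory.Limits AlgebraicGeometry
open Mor

namespace Groth.Agent.S9682

/-- Take f : X ⟶ Y locally of finite type and η the generic point of some irreducible component of Y.
Three conditions turn out to coincide: (1) each point of X mapping to η is the generic point of some
irreducible component of X; (2) f is quasi-finite at every point over η; (3) f is quasi-finite at
each point over η that is generic in some irreducible component of X. Stated as (1) iff (2) together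
with (1) iff (3). -/
theorem result {X Y : Scheme.{u}} (f : X ⟶ Y)
    [LocallyOfFiniteType f] (η : Y) (hη : closure {η} ∈ irreducibleComponents ↥Y) :
    ((∀ x : X, f.base x = η → closure {x} ∈ irreducibleComponents ↥X) ↔
      (∀ x : X, f.base x = η → f.QuasiFiniteAt x)) ∧
    ((∀ x : X, f.base x = η → closure {x} ∈ irreducibleComponents ↥X) ↔
      (∀ x : X, f.base x = η → closure {x} ∈ irreducibleComponents ↥X → f.QuasiFiniteAt x)) := by
  have gen : ∀ x : X, f x = η → ∀ x' : X, x' ⤳ x → f x' = η := by
    intro x hx x' h
    have h2 : f x' ⤳ η := hx ▸ h.map f.continuous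
    exact (Specializes.antisymm h2 (specializes_iff_closure_subset.mpr
      (hη.2 isIrreducible_singleton.closure (specializes_iff_closure_subset.mp h2)))).eq
  have comp : ∀ x : X, ∃ x' : X, x' ⤳ x ∧ closure {x'} ∈ irreducibleComponents ↥X := by
    intro x
    obtain ⟨Z, hZ, hsub⟩ := exists_mem_irreducibleComponents_subset_of_isIrreducible _
      (isIrreducible_singleton (x := x))
    have hirr : IsIrreducible Z := hZ.1
    have hc : closure {hirr.genericPoint} = Z := hirr.isGenericPoint_genericPoint
      (isClosed_of_mem_irreducibleComponents Z hZ)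
    exact ⟨hirr.genericPoint, specializes_iff_mem_closure.mpr (by rw [hc]; exact hsub rfl),
      by rw [hc]; exact hZ⟩
  have key : (∀ x : X, f x = η → closure {x} ∈ irreducibleComponents ↥X → f.QuasiFiniteAt x) →
      ∀ x : X, f x = η → closure {x} ∈ irreducibleComponents ↥X := by
    intro h x hx
    obtain ⟨x', hs, hx'⟩ := comp x
    have hfx' : f x' = η := gen x hx x' hs
    have hcl := (h x' hfx' hx').isClopen_singleton_asFiber.1
    have hsp : f.asFiber x' ⤳ (f.fiberHomeo (f x')).symm ⟨x, hx.trans hfx'.symm⟩ := by
      rw [← (f.fiberHomeo (f x')).isInducing.specializes_iff, Homeomorph.apply_symm_apply,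
        Scheme.Hom.asFiber, Homeomorph.apply_symm_apply, subtype_specializes_iff]
      exact hs
    have := congrArg (f.fiberHomeo (f x')) (Set.mem_singleton_iff.mp (hsp.mem_closed hcl rfl))
    rw [Homeomorph.apply_symm_apply, Scheme.Hom.asFiber, Homeomorph.apply_symm_apply] at this
    obtain rfl : x' = x := by simpa [eq_comm] using congrArg Subtype.val this
    exact hx'
  have key2 : (∀ x : X, f x = η → closure {x} ∈ irreducibleComponents ↥X) →
      ∀ x : X, f x = η → f.QuasiFiniteAt x := by
    intro h x hx
    subst hx
    rw [Scheme.Hom.quasiFiniteAt_iff_isOpen_singleton_asFiber]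
    have : LocallyOfFiniteType (f.fiberToSpecResidueField (f x)) := by
      exact MorphismProperty.pullback_snd f _ ‹LocallyOfFiniteType f›
    have : LocallyQuasiFinite (f.fiberToSpecResidueField (f x)) := by
      rw [locallyQuasiFinite_iff_isDiscrete_preimage_singleton]
      intro p
      apply IsDiscrete.mono _ (Set.subset_univ _)
      rw [isDiscrete_univ_iff]
      have hcl : ∀ z : f.fiber (f x), IsClosed {z} := by
        intro z
        rw [← closure_eq_iff_isClosed]
        refine (Set.Subset.antisymm subset_closure fun w hw ↦ ?_).symm
        have hzw : z ⤳ w := specializes_iff_mem_closure.mpr hw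
        have h1 := hzw.map (f.fiberHomeo (f x)).continuous
        rw [subtype_specializes_iff] at h1
        have h2 := h _ (f.fiberHomeo (f x) w).2
        have h3 := Specializes.antisymm h1 (specializes_iff_closure_subset.mpr
          (h2.2 isIrreducible_singleton.closure (specializes_iff_closure_subset.mp h1)))
        exact ((f.fiberHomeo (f x)).injective (Subtype.ext h3.eq)).symm
      have : T1Space (f.fiber (f x)) := ⟨hcl⟩
      have : IsLocallyNoetherian (f.fiber (f x)) :=
        LocallyOfFiniteType.isLocallyNoetherian (f.fiberToSpecResidueField (f x))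
      have hdim : topologicalKrullDim (f.fiber (f x)) ≤ 0 := by
        refine Order.krullDim_nonpos_iff_forall_isMax.mpr fun a b hab ↦ ?_
        obtain ⟨za, hza⟩ := QuasiSober.sober a.isIrreducible a.isClosed
        obtain ⟨zb, hzb⟩ := QuasiSober.sober b.isIrreducible b.isClosed
        rw [IsGenericPoint, (hcl _).closure_eq] at hza hzb
        have : za = zb := Set.singleton_subset_singleton.mp (hza ▸ hzb ▸ hab)
        exact le_of_eq (TopologicalSpace.IrreducibleCloseds.ext (by rw [← hza, ← hzb, this]))
      have := IsLocallyArtinian.of_topologicalKrullDim_le_zero hdim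
      infer_instance
    have hd : _root_.IsDiscrete ((f.fiberToSpecResidueField (f x)) ⁻¹' {IsLocalRing.closedPoint _}) :=
      Scheme.Hom.isDiscrete_preimage_singleton _ _
    have : DiscreteTopology (f.fiber (f x)) := by
      rw [← isDiscrete_univ_iff]
      convert hd
      exact (Set.eq_univ_of_forall fun z ↦ Subsingleton.elim _ _).symm
    exact isOpen_discrete _
  exact ⟨⟨key2, fun h ↦ key fun x hx _ ↦ h x hx⟩, ⟨fun h x hx _ ↦ key2 h x hx, key⟩⟩

end Groth.Agent.S9682
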