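import Groth.Statements.S1611
import Groth.Agent.Lib.CurveMult.DegBound
import Groth.Agent.Lib.Dim.Scheme
import Mathlib.AlgebraicGeometry.Morphisms.LocalFlatDescent
import Mathlib.FieldTheory.IsAlgClosed.AlgebraicClosure

set_option autoImplicit false
universe u
open CategoryTheory CategoryTheory.Limits AlgebraicGeometry
open Curves

namespace Groth.Agent.S1611

/-- Let X be proper of dimension one over k with global functions k, geometrically integral, of genus g,
and L an invertible module with deg L ≥ 2g + 1. Then L is very ample: there is a closed immersion i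
of X into some projective space P^n_k over k with i^* O(1) ≅ L. -/
theorem result (k : Type u) [Field k] (X : Scheme.{u}) [X.Over (Spec (CommRingCat.of k))]
    [IsProper (X ↘ (Spec (CommRingCat.of k)))] [GeometricallyIntegral (X ↘ (Spec (CommRingCat.of k)))] (hdim : topologicalKrullDim X = 1)
    (h0 : Module.finrank k (Coh.HH X (Coh.structureModule X) 0) = 1) (L : X.Modules) (hL : PicF.IsInvertible L)
    (hdeg : 2 * (Curv2.genus k X : ℤ) + 1 ≤ Curv2.deg k X L 1) :
    ∃ (n : ℕ) (i : X ⟶ CohB1.ProjSpace n k), IsClosedImmersion i ∧ i ≫ CohB1.ProjSpace.toSpec n k = X ↘ (Spec (CommRingCat.of k)) ∧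
      Nonempty ((Scheme.Modules.pullback i).obj (Twist.twistProjSpace n k 1) ≅ L) := by
  let f := X ↘ Spec (CommRingCat.of k)
  haveI : IsLocallyNoetherian X := LocallyOfFiniteType.isLocallyNoetherian f
  haveI : IsIntegral X := GeometricallyIntegral.isIntegral_of_subsingleton f
  let K := AlgebraicClosure k
  let φ := Spec.map (CommRingCat.ofHom (algebraMap k K))
  let X' := Limits.pullback φ f
  letI : X'.Over (Spec (CommRingCat.of K)) := ⟨Limits.pullback.fst φ f⟩
  have H : IsPullback (Limits.pullback.snd φ f) (X' ↘ Spec (CommRingCat.of K)) f φ :=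
    (IsPullback.of_hasPullback φ f).flip
  haveI : IsProper (X' ↘ Spec (CommRingCat.of K)) :=
    inferInstanceAs (IsProper (Limits.pullback.fst φ f))
  haveI : IsIntegral X' := ‹GeometricallyIntegral f›.geometrically_isIntegral _ _ _ H
  have hdim' : topologicalKrullDim ↥X' = 1 := by
    have huniv : (Set.univ : Set ↥X') ∈ irreducibleComponents ↥X' := by
      rw [irreducibleComponents_eq_singleton]; rfl
    have h := GrothLib.Dim.topologicalKrullDim_component_pullback f _ huniv
    rw [hdim] at h
    rw [← h]
    exact (IsHomeomorph.topologicalKrullDim_eq _ (Homeomorph.Set.univ ↥X').isHomeomorph).symm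
  obtain ⟨c, ⟨e⟩⟩ := GrothLib.Ample.exists_cocycle hL
  haveI := (GrothLib.Euler.isCoh_of_isInvertible (c.isInvertible_twist 1)).1
  haveI := (GrothLib.Euler.isCoh_of_isInvertible (GrothLib.Euler.isInvertible_structure (X := X))).1
  let g := Limits.pullback.snd φ f
  haveI : Surjective g := MorphismProperty.of_isPullback (P := @Surjective) H.flip inferInstance
  obtain ⟨e'⟩ := c.nonempty_pullback_twist g 1
  have eL : ∀ p, Module.finrank K (Coh.HH X' ((c.comap g).twist 1) p) = Module.finrank k (Coh.HH X (c.twist 1) p) :=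
    fun p => (GrothLib.Euler.hhEquiv (A := K) e' p).finrank_eq.symm.trans
      (GrothLib.CurveMult.finrank_HH_baseChange (algebraMap k K) g H (c.twist 1) p)
  have eO := GrothLib.CurveMult.finrank_HH_structure_baseChange (algebraMap k K) g H
  haveI := (GrothLib.Euler.isCoh_of_isInvertible ((c.comap g).isInvertible_twist 1)).1
  have hd' := hdim'.le
  have h1 := GrothLib.Euler.euler_eq_sub (X := X) k hdim.le (c.twist 1)
  have h2 := GrothLib.Euler.euler_eq_sub (X := X') K hd' ((c.comap g).twist 1)
  rw [eL, eL] at h2
  have h3 := GrothLib.Euler.euler_structure (X := X) k hdim.le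
  have hdeg' := hdeg
  rw [GrothLib.Euler.deg_of_iso k e, Curv2.deg, h1, h3, h0] at hdeg'
  have hg : Curv2.genus K X' = Curv2.genus k X := eO 1
  have he : (Curv2.genus K X' : ℤ) + 2 ≤ Curv2.euler K X' ((c.comap g).twist 1) := by
    rw [h2, hg]; push_cast at hdeg'; omega
  obtain ⟨N, hN⟩ : ∃ N, Module.finrank k (Coh.HH X (c.twist 1) 0) = N + 1 :=
    Nat.exists_eq_add_one.2 (by push_cast at hdeg'; omega)
  exact GrothLib.CurveMult.exists_closedImmersion_of_baseChange_bound k K g H hdim.le hd' c e
    (by linarith [hdeg, (Int.natCast_nonneg (Curv2.genus k X))]) hN ((eL 0).trans hN) fun Z hZ h =>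
      GrothLib.CurveMult.bound_of_euler_ge K hd' ((c.comap g).isInvertible_twist 1) he Z hZ h

end Groth.Agent.S1611
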