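import Groth.Statements.S5728
import Groth.Agent.Lib.ProjQ8.Bundle

set_option autoImplicit false
set_option backward.isDefEq.respectTransparency false
universe u
open CategoryTheory CategoryTheory.Limits AlgebraicGeometry TopologicalSpace Opposite
open scoped HomogeneousIdeal
open EGA2

namespace Groth.Agent.S5728

/-- Let f : X → Y be a proper morphism and L an invertible O_X-module which is very ample relative to f
and whose direct image f_*L (a quasi-coherent O_Y-module) is of finite type. Then f is projective: X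
is isomorphic over Y to the relative homogeneous spectrum of a quasi-coherent graded O_Y-algebra
generated by its degree-one part, with that part of finite type. -/
theorem result {X Y : Scheme.{u}} (f : X ⟶ Y) [IsProper f]
    (L : X.Modules) (hL : PicF.IsInvertible L) (hva : RelProj.IsRelVeryAmple f L)
    (hft : CohB1.IsFT ((Scheme.Modules.pushforward f).obj L)) : RelProj.IsProjective f := by
    haveI : L.IsQuasicoherent := GrothLib.InvExt.isQuasicoherent_of_isInvertible hL
    haveI := GrothLib.QCoh.isQuasicoherent_pushforward f L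
    obtain ⟨E, φ, -, hp⟩ := GrothLib.VA.isRelVeryAmple_iff.mp hva
    obtain ⟨B, hB⟩ := GrothLib.VA.exists_bdl ((Scheme.Modules.pushforward f).obj L) ‹_›
    let ψ : B.E ⟶ (Scheme.Modules.pushforward f).obj L := eqToHom hB
    have hlift : ∀ (U : Y.Opens) (t : Γ((Scheme.Modules.pushforward f).obj L, U)), ∃ b, ψ.app U b = t := fun U t =>
      ⟨(eqToHom hB.symm).app U t, by
        show (eqToHom hB.symm ≫ eqToHom hB).app U t = t
        rw [eqToHom_trans, eqToHom_refl]; rfl⟩
    have hp' : ∀ x, ∃ (V : Y.AffineZariskiSite) (b : Γ(B.E, V.1)),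
        x ∈ GrothLib.VA.Tp f ψ V b ∧ GrothLib.VA.PieceImm f ψ V b := fun x => by
      obtain ⟨U, e, hx, hpi⟩ := hp x
      obtain ⟨J, hJ⟩ := GrothLib.VA.exists_finset_piece f hL φ U e hpi
      obtain ⟨b, hb⟩ := hlift U.1 (φ.app U.1 e)
      refine ⟨U, b, ?_, hJ ψ b hb fun c _ => hlift U.1 _⟩
      show x ∈ GrothLib.VA.genOpen L (V := f ⁻¹ᵁ U.1) (ψ.app U.1 b)
      rw [hb]
      exact hx
    obtain ⟨r, θ, hr⟩ := GrothLib.VA.Bdl.exists_lift (B := B) (g := f) (φ := ψ) fun x => by
      obtain ⟨V, b, hx, -⟩ := hp' x
      exact ⟨V.1, V.2, b, GrothLib.VA.mem_genOpen.mp hx⟩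
    haveI := hr.isImmersion hp'
    haveI := GrothLib.RelProjK.isSeparated_of_isRelProj B.isProj
    haveI : IsProper (r ≫ B.p) := by rw [hr.comp]; infer_instance
    haveI : IsProper r := IsProper.of_comp r B.p
    haveI : IsClosedImmersion r := .of_isPreimmersion r r.isClosedMap.isClosed_range
    rw [← hr.comp]
    exact GrothLib.VA.isProjective_of_isClosedImmersion_bundle B.isQCoh (hB ▸ hft) B.isSym B.isProj r

end Groth.Agent.S5728
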