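import Groth.Statements.S7132
import Groth.Agent.Lib.DVRExt.Ramification
import Mathlib.RingTheory.Localization.Module
-- import your own Groth.Agent.* helpers here

set_option autoImplicit false
universe u
open EtAlg

namespace Groth.Agent.S7132

open IsLocalRing in
theorem linearIndependent_mul_pow {A B : Type u} [CommRing A] [IsDomain A] [IsDiscreteValuationRing A]
    [CommRing B] [IsDomain B] [IsDiscreteValuationRing B] [Algebra A B] [IsLocalHom (algebraMap A B)]
    (hinj : Function.Injective (algebraMap A B)) {ι : Type u} [Fintype ι] (b : ι → B)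
    (hb : LinearIndependent (ResidueField A) (fun i => residue B (b i))) {ϖ : B} (hϖ : Irreducible ϖ) :
    LinearIndependent A (fun x : Fin (Ideal.ramificationIdx' (maximalIdeal A) (maximalIdeal B)) × ι =>
      b x.2 * ϖ ^ (x.1 : ℕ)) := by
  classical
  obtain ⟨-, he⟩ := GrothLib.DVRExt.map_maximalIdeal_eq_pow (A := A) (B := B) hinj
  obtain ⟨ϖA, hA⟩ := IsDiscreteValuationRing.exists_irreducible A
  generalize Ideal.ramificationIdx' (maximalIdeal A) (maximalIdeal B) = e at he ⊢
  have key : ∀ g : Fin e × ι → A, ∑ x, g x • (b x.2 * ϖ ^ (x.1 : ℕ)) = 0 → ∀ x, g x ∈ maximalIdeal A := by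
    intro g hg
    suffices ∀ (k : ℕ) (x : Fin e × ι), (x.1 : ℕ) = k → g x ∈ maximalIdeal A from fun x => this _ x rfl
    intro k
    induction k using Nat.strong_induction_on with
    | _ k ih =>
      intro x hx
      have hk : k < e := hx ▸ x.1.2
      have hsum : ∑ i, algebraMap A B (g (⟨k, hk⟩, i)) * b i ∈ maximalIdeal B := by
        have hmem : ∑ y : Fin e × ι, (if y.1 = ⟨k, hk⟩ then (0 : B) else g y • (b y.2 * ϖ ^ (y.1 : ℕ))) ∈
            Ideal.span {ϖ ^ (k + 1)} := by
          refine Ideal.sum_mem _ fun y _ => ?_
          split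
          · exact Ideal.zero_mem _
          · rename_i hy
            rw [Algebra.smul_def]
            rcases lt_or_gt_of_ne (fun h : (y.1 : ℕ) = k => hy (Fin.ext h)) with hlt | hgt
            · have h1 : algebraMap A B (g y) ∈ maximalIdeal B ^ e := he ▸ Ideal.mem_map_of_mem _ (ih _ hlt y rfl)
              rw [hϖ.maximalIdeal_eq, Ideal.span_singleton_pow] at h1
              exact Ideal.mul_mem_right _ _ ((Ideal.span_singleton_le_span_singleton.mpr (pow_dvd_pow ϖ hk)) h1)
            · exact Ideal.mem_span_singleton.mpr (((pow_dvd_pow ϖ hgt).mul_left _).mul_left _)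
        have hsplit : ∑ y : Fin e × ι, g y • (b y.2 * ϖ ^ (y.1 : ℕ)) =
            (∑ i, algebraMap A B (g (⟨k, hk⟩, i)) * b i) * ϖ ^ k +
              ∑ y : Fin e × ι, (if y.1 = ⟨k, hk⟩ then (0 : B) else g y • (b y.2 * ϖ ^ (y.1 : ℕ))) := by
          have e1 : (∑ i, algebraMap A B (g (⟨k, hk⟩, i)) * b i) * ϖ ^ k =
              ∑ y : Fin e × ι, (if y.1 = ⟨k, hk⟩ then g y • (b y.2 * ϖ ^ (y.1 : ℕ)) else 0) := by
            rw [Fintype.sum_prod_type, Finset.sum_eq_single (⟨k, hk⟩ : Fin e), Finset.sum_mul]
            · refine Finset.sum_congr rfl fun i _ => ?_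
              rw [if_pos rfl, Algebra.smul_def, mul_assoc]
            · intro j _ hj
              exact Finset.sum_eq_zero fun i _ => if_neg hj
            · simp
          rw [e1, ← Finset.sum_add_distrib]
          refine Finset.sum_congr rfl fun y _ => ?_
          split <;> simp
        rw [hg] at hsplit
        rw [eq_neg_of_add_eq_zero_right hsplit.symm, Ideal.neg_mem_iff, Ideal.mem_span_singleton, pow_succ,
          mul_comm _ (ϖ ^ k), mul_dvd_mul_iff_left (pow_ne_zero _ hϖ.ne_zero)] at hmem
        rw [hϖ.maximalIdeal_eq, Ideal.mem_span_singleton]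
        exact hmem
      have h2 : ∑ i, residue A (g (⟨k, hk⟩, i)) • residue B (b i) = 0 := by
        rw [← residue_eq_zero_iff, map_sum] at hsum
        refine Eq.trans (Finset.sum_congr rfl fun i _ => ?_) hsum
        rw [map_mul, Algebra.smul_def]
        rfl
      have h3 := Fintype.linearIndependent_iff.mp hb _ h2 x.2
      rw [residue_eq_zero_iff] at h3
      obtain ⟨x1, x2⟩ := x
      obtain rfl : x1 = ⟨k, hk⟩ := Fin.ext hx
      exact h3
  rw [Fintype.linearIndependent_iff]
  intro g hg
  by_contra hne
  push Not at hne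
  obtain ⟨x₀, hx₀⟩ := hne
  have : ∀ (n : ℕ) (g : Fin e × ι → A), ∑ x, g x • (b x.2 * ϖ ^ (x.1 : ℕ)) = 0 → g x₀ ∈ maximalIdeal A ^ n := by
    intro n
    induction n with
    | zero => intro g _; simp
    | succ n ih =>
      intro g hg
      have h1 := key g hg
      simp_rw [hA.maximalIdeal_eq, Ideal.mem_span_singleton'] at h1
      choose c hc using h1
      have hc0 : ∑ x, c x • (b x.2 * ϖ ^ (x.1 : ℕ)) = 0 := by
        have h2 : algebraMap A B ϖA * ∑ x, c x • (b x.2 * ϖ ^ (x.1 : ℕ)) = 0 := by
          rw [Finset.mul_sum, ← hg]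
          refine Finset.sum_congr rfl fun x _ => ?_
          rw [← hc x, Algebra.smul_def, Algebra.smul_def, map_mul]
          ring
        exact (mul_eq_zero.mp h2).resolve_left fun h => hA.ne_zero (hinj (by rw [h, map_zero]))
      rw [← hc x₀, pow_succ]
      exact Ideal.mul_mem_mul (ih c hc0) hA.not_isUnit
  refine hx₀ ?_
  have h := Ideal.iInf_pow_eq_bot_of_isLocalRing (maximalIdeal A) (maximalIdeal.isMaximal A).ne_top
  rw [← Ideal.mem_bot, ← h, Submodule.mem_iInf]
  exact fun n => this n g hg

open IsLocalRing in
theorem card_bound {A B K L : Type u} [CommRing A] [IsDomain A] [IsDiscreteValuationRing A]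
    [CommRing B] [IsDomain B] [IsDiscreteValuationRing B] [Algebra A B] [IsLocalHom (algebraMap A B)]
    (hinj : Function.Injective (algebraMap A B)) [Field K] [Field L] [Algebra A K] [IsFractionRing A K]
    [Algebra B L] [IsFractionRing B L] [Algebra K L] [Algebra A L] [IsScalarTower A K L] [IsScalarTower A B L]
    [FiniteDimensional K L] {ι : Type u} [Fintype ι] (v : ι → ResidueField B)
    (hv : LinearIndependent (ResidueField A) v) :
    Ideal.ramificationIdx' (maximalIdeal A) (maximalIdeal B) * Fintype.card ι ≤ Module.finrank K L := by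
  choose b hb using fun i => residue_surjective (v i)
  obtain ⟨ϖ, hϖ⟩ := IsDiscreteValuationRing.exists_irreducible B
  have h := linearIndependent_mul_pow hinj b (by rw [funext hb]; exact hv) hϖ
  have h1 := h.map' (IsScalarTower.toAlgHom A B L).toLinearMap
    (LinearMap.ker_eq_bot.mpr (IsFractionRing.injective B L))
  have h2 := (LinearIndependent.iff_fractionRing (R := A) (K := K)).mp h1
  have h3 := h2.fintype_card_le_finrank
  rwa [Fintype.card_prod, Fintype.card_fin] at h3

/-- For an injective local homomorphism A → B of discrete valuation rings whose fraction fields K ⊆ L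
form a finite extension, the residue field of B is finite over that of A, and the ramification index
e times the residue degree f is at most [L : K]. -/
theorem result (A B K L : Type u) [CommRing A] [IsDomain A]
    [IsDiscreteValuationRing A] [CommRing B] [IsDomain B] [IsDiscreteValuationRing B] [Algebra A B]
    (hinj : Function.Injective (algebraMap A B)) [IsLocalHom (algebraMap A B)]
    [Field K] [Field L] [Algebra A K] [IsFractionRing A K] [Algebra B L] [IsFractionRing B L]
    [Algebra K L] [Algebra A L] [IsScalarTower A K L] [IsScalarTower A B L] [FiniteDimensional K L] :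
    Module.Finite (IsLocalRing.ResidueField A) (IsLocalRing.ResidueField B) ∧
      Ideal.ramificationIdx' (IsLocalRing.maximalIdeal A) (IsLocalRing.maximalIdeal B) *
          Module.finrank (IsLocalRing.ResidueField A) (IsLocalRing.ResidueField B) ≤
        Module.finrank K L := by
  have hfin : Module.Finite (IsLocalRing.ResidueField A) (IsLocalRing.ResidueField B) := by
    refine Module.rank_lt_aleph0_iff.mp (lt_of_le_of_lt (rank_le (n := Module.finrank K L) fun s hs => ?_)
      (Cardinal.natCast_lt_aleph0))
    have h := card_bound (K := K) (L := L) hinj _ hs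
    rw [Fintype.card_coe] at h
    exact le_trans (Nat.le_mul_of_pos_left _ (GrothLib.DVRExt.map_maximalIdeal_eq_pow (A := A) (B := B) hinj).1) h
  refine ⟨hfin, ?_⟩
  let bs := Module.Free.chooseBasis (IsLocalRing.ResidueField A) (IsLocalRing.ResidueField B)
  have h := card_bound (K := K) (L := L) hinj _ bs.linearIndependent
  rwa [← Module.finrank_eq_card_basis bs] at h

end Groth.Agent.S7132
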