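import Groth.Statements.S1983
import Groth.Agent.Lib.DVRExt.UnramifiedBaseChange
import Groth.Agent.Lib.DVRExt.FiniteExt
import Groth.Agent.S7132
-- import your own Groth.Agent.* helpers here

set_option autoImplicit false
universe u
open EtAlg

namespace Groth.Agent.S1983

open TensorProduct IsLocalRing GrothLib.DVRExt in
theorem local_ext (A B K L : Type u) [CommRing A] [IsDomain A] [IsDiscreteValuationRing A]
    [CommRing B] [IsDomain B] [IsDiscreteValuationRing B] [Algebra A B] [IsLocalHom (algebraMap A B)]
    (hinj : Function.Injective (algebraMap A B))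
    [Field K] [Field L] [Algebra A K] [IsFractionRing A K] [Algebra B L] [IsFractionRing B L]
    [Algebra K L] [Algebra A L] [IsScalarTower A K L] [IsScalarTower A B L]
    (hw : EtRam.IsWeaklyUnramified A B) [Algebra.IsGeometricallyReduced (ResidueField A) (ResidueField B)]
    (K₁ : Type u) [Field K₁] [Algebra K K₁] [FiniteDimensional K K₁]
    (M : Type u) [Field M] [Algebra K M] [Algebra L M] [Algebra K₁ M] [IsScalarTower K L M]
    [IsScalarTower K K₁ M] (hgen : Algebra.adjoin L (Set.range (algebraMap K₁ M)) = ⊤)
    (W : ValuationSubring M) (hW : EtRam.Dominates B ((algebraMap L M).comp (algebraMap B L)) W) :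
    (letI : Algebra (W.comap (algebraMap K₁ M)) W := (EtRam.inclOfComap W (algebraMap K₁ M)).toAlgebra
    EtRam.IsWeaklyUnramified (W.comap (algebraMap K₁ M)) W) ∧
      @Algebra.IsGeometricallyReduced (ResidueField (W.comap (algebraMap K₁ M))) (ResidueField W) _ _
        (ResidueField.map (EtRam.inclOfComap W (algebraMap K₁ M))).toAlgebra := by
  let f := algebraMap K₁ M
  have e : ∀ a, f (algebraMap K K₁ (algebraMap A K a)) = algebraMap L M (algebraMap B L (algebraMap A B a)) := fun a => by
    rw [← IsScalarTower.algebraMap_apply K K₁ M, IsScalarTower.algebraMap_apply K L M,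
      ← IsScalarTower.algebraMap_apply A K L, ← IsScalarTower.algebraMap_apply A B L]
  have hlB : IsLocalHom (((algebraMap L M).comp (algebraMap B L)).codRestrict W.toSubring hW.1) := ⟨fun b hb => by
    by_contra hnb
    exact ((W.valuation_eq_one_iff _).mp hb).not_lt (hW.2 b hnb)⟩
  have hA : EtRam.Dominates A ((algebraMap K K₁).comp (algebraMap A K)) (W.comap f) := by
    refine ⟨fun a => ?_, fun a ha => ?_⟩
    · show f (algebraMap K K₁ (algebraMap A K a)) ∈ W
      rw [e]; exact hW.1 _
    · have hmem : algebraMap K K₁ (algebraMap A K a) ∈ W.comap f := by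
        show f (algebraMap K K₁ (algebraMap A K a)) ∈ W
        rw [e]; exact hW.1 _
      refine ((W.comap f).valuation_lt_one_iff ⟨_, hmem⟩).mp fun hu => ha ?_
      have hu' := hu.map (EtRam.inclOfComap W f)
      have h1 : (W.valuation (algebraMap L M (algebraMap B L (algebraMap A B a)))) = 1 := by
        rw [← e]; exact (W.valuation_eq_one_iff _).mp hu'
      exact IsUnit.of_map (algebraMap A B) a (hlB.map_nonunit _ ((W.valuation_eq_one_iff ⟨_, hW.1 _⟩).mpr h1))
  have hdV := isDiscreteValuationRing_of_dominates A K K₁ _ hA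
  let _ : Algebra A (W.comap f) :=
    (((algebraMap K K₁).comp (algebraMap A K)).codRestrict (W.comap f).toSubring hA.1).toAlgebra
  let _ : Algebra B W := (((algebraMap L M).comp (algebraMap B L)).codRestrict W.toSubring hW.1).toAlgebra
  let _ : Algebra A W := ((algebraMap B W).comp (algebraMap A B)).toAlgebra
  let _ : Algebra (W.comap f) W := (EtRam.inclOfComap W f).toAlgebra
  have : IsScalarTower A B W := .of_algebraMap_eq' rfl
  have : IsScalarTower A (W.comap f) W := .of_algebraMap_eq fun a => Subtype.ext (e a).symm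
  have : IsLocalHom (algebraMap B W) := hlB
  have : IsLocalHom (algebraMap (W.comap f) W) := EtRam.isLocalHom_inclOfComap _ _
  have : IsLocalHom (algebraMap A W) := RingHom.isLocalHom_comp (algebraMap B W) (algebraMap A B)
  have hlA : IsLocalHom (algebraMap A (W.comap f)) := ⟨fun a ha => by
    by_contra hu
    exact (((W.comap f).valuation_eq_one_iff _).mp ha).not_lt (hA.2 a hu)⟩
  have hiV : Function.Injective (algebraMap A (W.comap f)) := fun x y h =>
    IsFractionRing.injective A K ((algebraMap K K₁).injective (congrArg Subtype.val h))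
  let _ : Algebra A K₁ := ((algebraMap K K₁).comp (algebraMap A K)).toAlgebra
  have : IsScalarTower A K K₁ := .of_algebraMap_eq' rfl
  have : IsScalarTower A (W.comap f) K₁ := .of_algebraMap_eq' rfl
  have hfin := (S7132.result A (W.comap f) K K₁ hiV).1
  obtain ⟨ϖ, hϖ⟩ := IsDiscreteValuationRing.exists_irreducible (W.comap f)
  have hiW : Function.Injective (algebraMap (W.comap f) W) := fun x y h =>
    Subtype.ext (f.injective (congrArg Subtype.val h))
  have hiBW : Function.Injective (algebraMap B W) := fun x y h =>
    IsFractionRing.injective B L ((algebraMap L M).injective (congrArg Subtype.val h))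
  -- M is algebraic over B
  let ψ : L ⊗[K] K₁ →ₐ[L] M := Algebra.TensorProduct.lift (Algebra.ofId L M) (IsScalarTower.toAlgHom K K₁ M)
    fun _ _ => mul_comm _ _
  have hψ : Function.Surjective ψ := by
    rw [← AlgHom.range_eq_top, ← top_le_iff, ← hgen, Algebra.adjoin_le_iff]
    rintro _ ⟨x, rfl⟩
    refine ⟨1 ⊗ₜ x, ?_⟩
    show ψ (1 ⊗ₜ x) = _
    refine (Algebra.TensorProduct.lift_tmul _ _ _ (1 : L) x).trans ?_
    rw [map_one, one_mul]; rfl
  have : FiniteDimensional L M := Module.Finite.of_surjective ψ.toLinearMap hψ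
  let _ : Algebra B M := ((algebraMap L M).comp (algebraMap B L)).toAlgebra
  have : IsScalarTower B L M := .of_algebraMap_eq' rfl
  have : IsScalarTower B W M := .of_algebraMap_eq' rfl
  have halg : Algebra.IsAlgebraic B M := (IsFractionRing.comap_isAlgebraic_iff (A := B) (K := L) (C := M)).mpr
    (Algebra.IsAlgebraic.of_finite L M)
  obtain ⟨ϖA, hϖA⟩ := IsDiscreteValuationRing.exists_irreducible A
  obtain ⟨ϖB, hϖB⟩ := IsDiscreteValuationRing.exists_irreducible B
  have hbound : ∀ w : W, w ≠ 0 → ∃ N, ¬ algebraMap (W.comap f) W ϖ ^ N ∣ w := by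
    intro w hw0
    have hwalg : IsAlgebraic B w := (isAlgebraic_algebraMap_iff (A := M) Subtype.val_injective).mp
      (halg.isAlgebraic (w : M))
    obtain ⟨r, hr0, hr⟩ := hwalg.exists_nonzero_dvd (mem_nonZeroDivisors_of_ne_zero hw0)
    obtain ⟨n, u, rfl⟩ := IsDiscreteValuationRing.eq_unit_mul_pow_irreducible hr0 hϖB
    -- `ϖB` is associated to `ϖA`, which is associated to a power of `ϖ`
    have hAB : Associated (algebraMap A B ϖA) ϖB := by
      rw [← Ideal.span_singleton_eq_span_singleton, ← hϖB.maximalIdeal_eq, ← Set.image_singleton (f := algebraMap A B),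
        ← Ideal.map_span, ← hϖA.maximalIdeal_eq]
      exact hw
    obtain ⟨m, v, hmv⟩ := IsDiscreteValuationRing.eq_unit_mul_pow_irreducible
      (x := algebraMap A (W.comap f) ϖA) (fun h => hϖA.ne_zero (hiV (by rw [h, map_zero]))) hϖ
    refine ⟨m * n + 1, fun hdiv => ?_⟩
    have h1 : Associated (algebraMap B W (↑u * ϖB ^ n)) (algebraMap (W.comap f) W ϖ ^ (m * n)) := by
      refine Associated.trans (y := algebraMap B W (algebraMap A B ϖA) ^ n) ?_ ?_
      · rw [← map_pow]
        refine Associated.map (algebraMap B W) ?_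
        exact (associated_unit_mul_left _ _ u.isUnit).trans (hAB.symm.pow_pow)
      · rw [pow_mul]
        refine Associated.pow_pow ?_
        rw [← IsScalarTower.algebraMap_apply A B W, IsScalarTower.algebraMap_apply A (W.comap f) W, hmv, map_mul, map_pow]
        exact associated_unit_mul_left _ _ (v.isUnit.map _)
    have h2 := (hdiv.trans hr).trans h1.dvd
    have h3 : algebraMap (W.comap f) W ϖ ≠ 0 := fun h => hϖ.ne_zero (hiW (by rw [h, map_zero]))
    have h4 : IsUnit (algebraMap (W.comap f) W ϖ) := by
      rw [pow_succ] at h2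
      exact isUnit_of_dvd_one ((mul_dvd_mul_iff_left (pow_ne_zero _ h3)).mp (by rwa [mul_one]))
    exact hϖ.not_isUnit (IsUnit.of_map _ _ h4)
  have hfrac : ∀ z : M, ∃ t s : (W.comap f) ⊗[A] B, toTop A B (W.comap f) W s ≠ 0 ∧
      z * (toTop A B (W.comap f) W s : W) = (toTop A B (W.comap f) W t : W) := by
    intro z
    have hz : z ∈ Algebra.adjoin L (Set.range (algebraMap K₁ M)) := hgen ▸ Algebra.mem_top
    induction hz using Algebra.adjoin_induction with
    | mem x hx =>
      obtain ⟨y, rfl⟩ := hx
      obtain ⟨v, v', hv', hvv⟩ := IsFractionRing.div_surjective (A := W.comap f) y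
      refine ⟨v ⊗ₜ 1, v' ⊗ₜ 1, ?_, ?_⟩
      · rw [toTop_tmul, map_one, mul_one]
        exact fun h => nonZeroDivisors.ne_zero hv' (hiW (by rw [h, map_zero]))
      · rw [toTop_tmul, toTop_tmul, map_one, mul_one, mul_one]
        show f y * f (v' : K₁) = f (v : K₁)
        rw [← map_mul]
        congr 1
        rw [← hvv]
        exact div_mul_cancel₀ _ fun h => nonZeroDivisors.ne_zero hv' (Subtype.ext h)
    | algebraMap l =>
      obtain ⟨b, b', hb', hbb⟩ := IsFractionRing.div_surjective (A := B) l
      refine ⟨1 ⊗ₜ b, 1 ⊗ₜ b', ?_, ?_⟩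
      · rw [toTop_tmul, map_one, one_mul]
        exact fun h => nonZeroDivisors.ne_zero hb' (hiBW (by rw [h, map_zero]))
      · rw [toTop_tmul, toTop_tmul, map_one, one_mul, one_mul]
        show algebraMap L M l * algebraMap L M (algebraMap B L b') = algebraMap L M (algebraMap B L b)
        rw [← map_mul, ← hbb, div_mul_cancel₀]
        exact fun h => nonZeroDivisors.ne_zero hb' (IsFractionRing.injective B L (by rw [h, map_zero]))
    | add x y _ _ hx hy =>
      obtain ⟨t, s, hs, hts⟩ := hx
      obtain ⟨t', s', hs', hts'⟩ := hy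
      refine ⟨t * s' + t' * s, s * s', by rw [map_mul]; exact mul_ne_zero hs hs', ?_⟩
      simp only [map_mul, map_add, MulMemClass.coe_mul, AddMemClass.coe_add, ← hts, ← hts']
      ring
    | mul x y _ _ hx hy =>
      obtain ⟨t, s, hs, hts⟩ := hx
      obtain ⟨t', s', hs', hts'⟩ := hy
      refine ⟨t * t', s * s', by rw [map_mul]; exact mul_ne_zero hs hs', ?_⟩
      simp only [map_mul, MulMemClass.coe_mul, ← hts, ← hts']
      ring
  have h := main (A := A) (B := B) (V := W.comap f) (W := W) hw hϖ hiW
    (fun t ht => hbound _ ht) fun z => by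
      obtain ⟨t, s, hs, hts⟩ := hfrac (z : M)
      exact ⟨t, s, hs, Subtype.ext hts⟩
  refine ⟨h.1, ?_⟩
  convert h.2 using 1
  apply Algebra.algebra_ext
  intro r
  obtain ⟨v, rfl⟩ := IsLocalRing.residue_surjective r
  rfl

/-- Suppose A -> B makes the discrete valuation ring B an extension of the discrete valuation ring A,
with fraction fields K ⊂ L, and that this extension is weakly unramified with separable, i.e.
geometrically reduced and possibly transcendental, residue field extension (formally smooth for the
adic topology). Then every finite extension K₁/K is a solution for A -> B. -/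
theorem result (A B K L : Type u) [CommRing A] [IsDomain A] [IsDiscreteValuationRing A]
    [CommRing B] [IsDomain B] [IsDiscreteValuationRing B] [Algebra A B] [IsLocalHom (algebraMap A B)]
    (hinj : Function.Injective (algebraMap A B))
    [Field K] [Field L] [Algebra A K] [IsFractionRing A K] [Algebra B L] [IsFractionRing B L]
    [Algebra K L] [Algebra A L] [IsScalarTower A K L] [IsScalarTower A B L]
    (hw : EtRam.IsWeaklyUnramified A B) [Algebra.IsGeometricallyReduced (IsLocalRing.ResidueField A) (IsLocalRing.ResidueField B)]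
    (K₁ : Type u) [Field K₁] [Algebra K K₁] [FiniteDimensional K K₁] : EtRam.IsSolution B K L K₁ := by
  intro M _ _ _ _ _ _ hgen W hW
  exact local_ext A B K L hinj hw K₁ M hgen W hW

end Groth.Agent.S1983
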