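import Groth.Statements.S1989
import Groth.Agent.Lib.DVRExt.Ramification
-- import your own Groth.Agent.* helpers here

set_option autoImplicit false
universe u
open EtAlg

namespace Groth.Agent.S1989

theorem down {A K : Type u} [CommRing A] [IsDomain A] [IsDiscreteValuationRing A] [Field K] [Algebra A K] [IsFractionRing A K] {L : Type u} (M : Type u) [Field L] [Field M]
    [Algebra K L] [Algebra K M] [Algebra L M] [IsScalarTower K L M] [FiniteDimensional K M] [Algebra.IsSeparable K M]
    (V : ValuationSubring L) (h : EtRam.Dominates A ((algebraMap K L).comp (algebraMap A K)) V) :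
    ∃ (W : ValuationSubring M) (hW : EtRam.Dominates A ((algebraMap K M).comp (algebraMap A K)) W),
      letI : Algebra A V := (RingHom.codRestrict ((algebraMap K L).comp (algebraMap A K)) V h.1).toAlgebra
      letI : Algebra A W := (RingHom.codRestrict ((algebraMap K M).comp (algebraMap A K)) W hW.1).toAlgebra
      ∀ [IsLocalHom (algebraMap A V)], IsLocalHom (algebraMap A W) ∧
      ∀ [IsLocalHom (algebraMap A W)],
        Ideal.ramificationIdx' (IsLocalRing.maximalIdeal A) (IsLocalRing.maximalIdeal V) ∣
          Ideal.ramificationIdx' (IsLocalRing.maximalIdeal A) (IsLocalRing.maximalIdeal W) ∧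
        (Algebra.IsSeparable (IsLocalRing.ResidueField A) (IsLocalRing.ResidueField W) →
          Algebra.IsSeparable (IsLocalRing.ResidueField A) (IsLocalRing.ResidueField V)) := by
  have : FiniteDimensional K L := FiniteDimensional.left K L M
  have : Algebra.IsSeparable K L := Algebra.isSeparable_tower_bot_of_isSeparable K L M
  obtain ⟨W, hW, hVW⟩ := GrothLib.DVRExt.exists_extension A K M V h
  refine ⟨W, hW, ?_⟩
  let _ : Algebra A V := (RingHom.codRestrict ((algebraMap K L).comp (algebraMap A K)) V h.1).toAlgebra
  let _ : Algebra A W := (RingHom.codRestrict ((algebraMap K M).comp (algebraMap A K)) W hW.1).toAlgebra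
  intro _
  obtain ⟨hdW, hiW, hlW⟩ := GrothLib.DVRExt.dominates_algebra A K M W hW
  obtain ⟨hdV, hiV, -⟩ := GrothLib.DVRExt.dominates_algebra A K L V h
  refine ⟨hlW, fun {_} => ?_⟩
  subst hVW
  let _ : Algebra (W.comap (algebraMap L M)) W := (EtRam.inclOfComap W (algebraMap L M)).toAlgebra
  have : IsLocalHom (algebraMap (W.comap (algebraMap L M)) W) := EtRam.isLocalHom_inclOfComap _ _
  have : IsScalarTower A (W.comap (algebraMap L M)) W := .of_algebraMap_eq fun a => Subtype.ext (by
    show algebraMap K M (algebraMap A K a) = algebraMap L M (algebraMap K L (algebraMap A K a))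
    rw [← IsScalarTower.algebraMap_apply K L M])
  have hinjVW : Function.Injective (algebraMap (W.comap (algebraMap L M)) W) := fun x y hxy =>
    Subtype.ext ((algebraMap L M).injective (congrArg Subtype.val hxy))
  refine ⟨⟨_, GrothLib.DVRExt.ramificationIdx_tower (A := A) (B := W.comap (algebraMap L M)) (C := W) hiV hinjVW⟩, fun hsep => ?_⟩
  exact Algebra.isSeparable_tower_bot_of_isSeparable (IsLocalRing.ResidueField A)
    (IsLocalRing.ResidueField (W.comap (algebraMap L M))) (IsLocalRing.ResidueField W)

/-- Let K be the fraction field of a discrete valuation ring A, and K ⊂ L ⊂ M finite separable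
extensions. If M is tamely ramified, respectively unramified, with respect to A, then so is L. -/
theorem result (A K : Type u) [CommRing A] [IsDomain A] [IsDiscreteValuationRing A] [Field K] [Algebra A K] [IsFractionRing A K] (L M : Type u) [Field L] [Field M]
    [Algebra K L] [Algebra K M] [Algebra L M] [IsScalarTower K L M] [FiniteDimensional K M] [Algebra.IsSeparable K M] :
    (EtRam.IsTamelyRamified A ((algebraMap K M).comp (algebraMap A K)) →
      EtRam.IsTamelyRamified A ((algebraMap K L).comp (algebraMap A K))) ∧
    (EtRam.IsUnramifiedExt A ((algebraMap K M).comp (algebraMap A K)) →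
      EtRam.IsUnramifiedExt A ((algebraMap K L).comp (algebraMap A K))) := by
  have : FiniteDimensional K L := FiniteDimensional.left K L M
  have : Algebra.IsSeparable K L := Algebra.isSeparable_tower_bot_of_isSeparable K L M
  refine ⟨fun H V h => ?_, fun H V h => ?_⟩
  · intro _
    obtain ⟨W, hW, hh⟩ := down M V h
    obtain ⟨hl, hh⟩ := hh
    let _ : Algebra A W := (RingHom.codRestrict ((algebraMap K M).comp (algebraMap A K)) W hW.1).toAlgebra
    have : IsLocalHom (algebraMap A W) := hl
    obtain ⟨hd, hs⟩ := @hh inferInstance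
    obtain ⟨hsep, hp⟩ := H W hW
    exact ⟨hs hsep, fun p hp' hc hdiv => hp p hp' hc (hdiv.trans hd)⟩
  · intro _
    obtain ⟨W, hW, hh⟩ := down M V h
    obtain ⟨hl, hh⟩ := hh
    let _ : Algebra A W := (RingHom.codRestrict ((algebraMap K M).comp (algebraMap A K)) W hW.1).toAlgebra
    have : IsLocalHom (algebraMap A W) := hl
    obtain ⟨hd, hs⟩ := @hh inferInstance
    obtain ⟨hw, hsep⟩ := H W hW
    obtain ⟨hdW, hiW, -⟩ := GrothLib.DVRExt.dominates_algebra A K M W hW
    obtain ⟨hdV, hiV, -⟩ := GrothLib.DVRExt.dominates_algebra A K L V h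
    let _ : Algebra A V := (RingHom.codRestrict ((algebraMap K L).comp (algebraMap A K)) V h.1).toAlgebra
    have e := (GrothLib.DVRExt.weaklyUnramified_iff (A := A) (B := W) hiW).mp hw
    exact ⟨(GrothLib.DVRExt.weaklyUnramified_iff (A := A) (B := V) hiV).mpr (Nat.dvd_one.mp (hd.trans e.dvd)),
      hs hsep⟩

end Groth.Agent.S1989
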