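import Groth.Statements.S1990
import Groth.Agent.Lib.DVRExt.Ramification
-- import your own Groth.Agent.* helpers here

set_option autoImplicit false
universe u
open EtAlg

namespace Groth.Agent.S1990

theorem up {A K : Type u} [CommRing A] [IsDomain A] [IsDiscreteValuationRing A] [Field K] [Algebra A K] [IsFractionRing A K] (L : Type u) {M : Type u} [Field L] [Field M]
    [Algebra K L] [Algebra K M] [Algebra L M] [IsScalarTower K L M] [FiniteDimensional K M] [Algebra.IsSeparable K M]
    (W : ValuationSubring M) (hW : EtRam.Dominates A ((algebraMap K M).comp (algebraMap A K)) W) :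
    ∃ (V : ValuationSubring L) (h : EtRam.Dominates A ((algebraMap K L).comp (algebraMap A K)) V)
      (hVW : EtRam.Dominates V ((algebraMap L M).comp V.subtype) W),
      letI : Algebra A V := (RingHom.codRestrict ((algebraMap K L).comp (algebraMap A K)) V h.1).toAlgebra
      letI : Algebra A W := (RingHom.codRestrict ((algebraMap K M).comp (algebraMap A K)) W hW.1).toAlgebra
      letI : Algebra V W := (RingHom.codRestrict ((algebraMap L M).comp V.subtype) W hVW.1).toAlgebra
      IsLocalHom (algebraMap A V) ∧ IsLocalHom (algebraMap V W) ∧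
      ∀ [IsLocalHom (algebraMap A W)] [IsLocalHom (algebraMap A V)] [IsLocalHom (algebraMap V W)],
        Ideal.ramificationIdx' (IsLocalRing.maximalIdeal A) (IsLocalRing.maximalIdeal W) =
          Ideal.ramificationIdx' (IsLocalRing.maximalIdeal A) (IsLocalRing.maximalIdeal V) *
            Ideal.ramificationIdx' (IsLocalRing.maximalIdeal V) (IsLocalRing.maximalIdeal W) ∧
        ((IsLocalRing.maximalIdeal A).map (algebraMap A V) = IsLocalRing.maximalIdeal V →
          (IsLocalRing.maximalIdeal V).map (algebraMap V W) = IsLocalRing.maximalIdeal W →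
          (IsLocalRing.maximalIdeal A).map (algebraMap A W) = IsLocalRing.maximalIdeal W) ∧
        (Algebra.IsSeparable (IsLocalRing.ResidueField A) (IsLocalRing.ResidueField V) →
          Algebra.IsSeparable (IsLocalRing.ResidueField V) (IsLocalRing.ResidueField W) →
          Algebra.IsSeparable (IsLocalRing.ResidueField A) (IsLocalRing.ResidueField W)) ∧
        ∀ p : ℕ, CharP (IsLocalRing.ResidueField A) p → CharP (IsLocalRing.ResidueField V) p := by
  have : FiniteDimensional K L := FiniteDimensional.left K L M
  have : Algebra.IsSeparable K L := Algebra.isSeparable_tower_bot_of_isSeparable K L M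
  have h := GrothLib.DVRExt.dominates_comap A K (L := L) M W hW
  obtain ⟨hdW, hiW, -⟩ := GrothLib.DVRExt.dominates_algebra A K M W hW
  obtain ⟨hdV, hiV, hlV⟩ := GrothLib.DVRExt.dominates_algebra A K L _ h
  have hloc : IsLocalHom (EtRam.inclOfComap W (algebraMap L M)) := inferInstance
  have hVW : EtRam.Dominates (W.comap (algebraMap L M)) ((algebraMap L M).comp (W.comap (algebraMap L M)).subtype) W :=
    ⟨fun x => x.2, fun x hx => (W.valuation_lt_one_iff ⟨_, x.2⟩).mp fun hu =>
      hx (hloc.map_nonunit _ hu)⟩
  refine ⟨_, h, hVW, hlV, hloc, ?_⟩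
  let _ : Algebra A (W.comap (algebraMap L M)) := (RingHom.codRestrict ((algebraMap K L).comp (algebraMap A K)) _ h.1).toAlgebra
  let _ : Algebra A W := (RingHom.codRestrict ((algebraMap K M).comp (algebraMap A K)) W hW.1).toAlgebra
  let _ : Algebra (W.comap (algebraMap L M)) W := (RingHom.codRestrict ((algebraMap L M).comp (W.comap (algebraMap L M)).subtype) W hVW.1).toAlgebra
  intro _ _ _
  have : IsScalarTower A (W.comap (algebraMap L M)) W := .of_algebraMap_eq fun a => Subtype.ext (by
    show algebraMap K M (algebraMap A K a) = algebraMap L M (algebraMap K L (algebraMap A K a))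
    rw [← IsScalarTower.algebraMap_apply K L M])
  have hinjVW : Function.Injective (algebraMap (W.comap (algebraMap L M)) W) := fun x y hxy =>
    Subtype.ext ((algebraMap L M).injective (congrArg Subtype.val hxy))
  refine ⟨GrothLib.DVRExt.ramificationIdx_tower hiV hinjVW, fun h1 h2 => ?_, fun h1 h2 => ?_, fun p hp => ?_⟩
  · rw [IsScalarTower.algebraMap_eq A (W.comap (algebraMap L M)) W, ← Ideal.map_map, h1, h2]
  · exact Algebra.IsSeparable.trans (IsLocalRing.ResidueField A) (IsLocalRing.ResidueField (W.comap (algebraMap L M))) _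
  · exact charP_of_injective_algebraMap (algebraMap (IsLocalRing.ResidueField A) _).injective p

/-- Let K be the fraction field of a discrete valuation ring A, and K ⊂ L ⊂ M finite separable
extensions. If L/K is tamely ramified (resp. unramified) with respect to A and M/L is tamely
ramified (resp. unramified) with respect to every valuation subring of L dominating A, then M/K is
tamely ramified (resp. unramified) with respect to A. -/
theorem result (A K : Type u) [CommRing A] [IsDomain A] [IsDiscreteValuationRing A] [Field K] [Algebra A K] [IsFractionRing A K] (L M : Type u) [Field L] [Field M]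
    [Algebra K L] [Algebra K M] [Algebra L M] [IsScalarTower K L M] [FiniteDimensional K M] [Algebra.IsSeparable K M] :
    (EtRam.IsTamelyRamified A ((algebraMap K L).comp (algebraMap A K)) →
      (∀ (V : ValuationSubring L), EtRam.Dominates A ((algebraMap K L).comp (algebraMap A K)) V →
        EtRam.IsTamelyRamified V ((algebraMap L M).comp V.subtype)) →
      EtRam.IsTamelyRamified A ((algebraMap K M).comp (algebraMap A K))) ∧
    (EtRam.IsUnramifiedExt A ((algebraMap K L).comp (algebraMap A K)) →
      (∀ (V : ValuationSubring L), EtRam.Dominates A ((algebraMap K L).comp (algebraMap A K)) V →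
        EtRam.IsUnramifiedExt V ((algebraMap L M).comp V.subtype)) →
      EtRam.IsUnramifiedExt A ((algebraMap K M).comp (algebraMap A K))) := by
  refine ⟨fun H1 H2 W hW => ?_, fun H1 H2 W hW => ?_⟩
  · intro _
    obtain ⟨V, h, hVW, hlV, hlW, hh⟩ := up L W hW
    let _ : Algebra A V := (RingHom.codRestrict ((algebraMap K L).comp (algebraMap A K)) V h.1).toAlgebra
    let _ : Algebra V W := (RingHom.codRestrict ((algebraMap L M).comp V.subtype) W hVW.1).toAlgebra
    obtain ⟨he, -, hs, hc⟩ := @hh inferInstance hlV hlW
    obtain ⟨s1, p1⟩ := @H1 V h hlV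
    obtain ⟨s2, p2⟩ := @H2 V h W hVW hlW
    refine ⟨hs s1 s2, fun p hp hcp hdiv => ?_⟩
    rw [he] at hdiv
    exact ((Nat.Prime.dvd_mul hp).mp hdiv).elim (p1 p hp hcp) (p2 p hp (hc p hcp))
  · intro _
    obtain ⟨V, h, hVW, hlV, hlW, hh⟩ := up L W hW
    let _ : Algebra A V := (RingHom.codRestrict ((algebraMap K L).comp (algebraMap A K)) V h.1).toAlgebra
    let _ : Algebra V W := (RingHom.codRestrict ((algebraMap L M).comp V.subtype) W hVW.1).toAlgebra
    obtain ⟨-, hw, hs, -⟩ := @hh inferInstance hlV hlW
    obtain ⟨w1, s1⟩ := @H1 V h hlV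
    obtain ⟨w2, s2⟩ := @H2 V h W hVW hlW
    exact ⟨hw w1 w2, hs s1 s2⟩

end Groth.Agent.S1990
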