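import Groth.Statements.S17887
import Groth.Agent.Lib.ModPair19.Basic
import Groth.Agent.Lib.BlowUp.Universal
import Groth.Agent.Lib.Nagata6.UnionData

set_option autoImplicit false
set_option backward.isDefEq.respectTransparency false
universe u
open CategoryTheory AlgebraicGeometry
open BlowUp

namespace Groth.Agent.S17887

/-- Let X be a Noetherian scheme, U ⊆ X an open subscheme that is schematically dense in X, I a
quasi-coherent ideal sheaf on X whose support does not meet U, and π : X' → X a blowing-up of X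
along I. Then π⁻¹(U) is schematically dense in X'. -/
theorem result {X X' : Scheme.{u}} [IsNoetherian X]
    (U : X.Opens) [IsSchemeTheoreticallyDominant U.ι] (𝓘 : X.IdealSheafData)
    (hU : Disjoint (𝓘.support : Set X) (U : Set X)) (π : X' ⟶ X) (hπ : BlowUp.IsBlowUp π 𝓘) :
    IsSchemeTheoreticallyDominant (π ⁻¹ᵁ U).ι := by
  let V : X.Opens := 𝓘.support.compl
  have hUV : U ≤ V := fun x hx hxs => Set.disjoint_left.1 hU hxs hx
  have := GrothLib.BlowUp.isIso_off_center hπ
  have : QuasiCompact U.ι := inferInstance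
  have h1 : IsSchemeTheoreticallyDominant (U.ι ∣_ V) := GrothLib.Chow.stdDominant_restrict U.ι V
  have htop : U.ι ⁻¹ᵁ V = ⊤ := eq_top_iff.2 fun x _ => hUV x.2
  have : IsIso (U.ι ⁻¹ᵁ V).ι := by rw [htop, ← Scheme.topIso_hom]; infer_instance
  have h2 : IsSchemeTheoreticallyDominant (X.homOfLE hUV) := by
    have e : X.homOfLE hUV = inv (U.ι ⁻¹ᵁ V).ι ≫ (U.ι ∣_ V) := by
      rw [← cancel_mono V.ι, Category.assoc, morphismRestrict_ι, IsIso.inv_hom_id_assoc, Scheme.homOfLE_ι]
    rw [e]
    infer_instance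
  have : IsIso (π ∣_ V) := ‹_›
  have : IsIso (π ∣_ U) := GrothLib.Nagata6.isIso_restrict_of_le π V U hUV
  have hle : π ⁻¹ᵁ U ≤ π ⁻¹ᵁ V := fun x hx => hUV hx
  have h3 : IsSchemeTheoreticallyDominant (X'.homOfLE hle) := by
    have e : X'.homOfLE hle = (π ∣_ U) ≫ X.homOfLE hUV ≫ inv (π ∣_ V) := by
      rw [← cancel_mono (π ∣_ V), Category.assoc, Category.assoc, IsIso.inv_hom_id, Category.comp_id,
        ← cancel_mono V.ι, Category.assoc, Category.assoc, morphismRestrict_ι, Scheme.homOfLE_ι_assoc,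
        Scheme.homOfLE_ι, morphismRestrict_ι]
    rw [e]
    infer_instance
  have h4 : IsSchemeTheoreticallyDominant (π ⁻¹ᵁ V).ι := by
    have h := GrothLib.ModPair19.dominant_interior hπ.1
    rwa [GrothLib.ModPair19.interior_comap] at h
  rw [← X'.homOfLE_ι hle]
  infer_instance

end Groth.Agent.S17887
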