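import Groth.Statements.S8913
import Groth.Agent.S8873
import Groth.Agent.Lib.StrictTr.Dense

set_option autoImplicit false
universe u
open CategoryTheory CategoryTheory.Limits AlgebraicGeometry TopologicalSpace
open SDiv

namespace Groth.Agent.S8913

/-- Let X be a scheme, F a finitely presented O_X-module and U ⊆ X an open subscheme which is
scheme-theoretically dense and over which F is locally free of constant finite rank r. Then: (1)
Fit_r(F) is of finite type with support disjoint from U, so a blowing up b : X' ⟶ X of X in Fit_r(F)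
is U-admissible; (2) the strict transform G of F along such b is locally free of rank r; (3) the
kernel of the surjection b^*F ⟶ G is finitely presented and restricts to zero over b⁻¹U. This row
does not assert that b^*F and the kernel are perfect of tor dimension at most one. -/
theorem result (X : Scheme.{u}) (F : X.Modules) (hF : CohB1.IsFP F)
    (U : X.Opens) (hU : CInt.IsSchematicallyDense U) (r : ℕ) (hfree : FlatMod.IsFinLocFreeOfRank r (F.restrict U.ι)) :
    BlowUp.IsAdmissibleFor U (Fitt.sheafIdeal F r) ∧
      ∀ (X' : Scheme.{u}) (b : X' ⟶ X), BlowUp.IsBlowUp b (Fitt.sheafIdeal F r) →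
        ∀ (G : X'.Modules) (π : (Scheme.Modules.pullback b).obj F ⟶ G), BlowUp.IsStrictTransform b (Fitt.sheafIdeal F r) F G π →
          FlatMod.IsFinLocFreeOfRank r G ∧ CohB1.IsFP (kernel π) ∧ IsZero ((kernel π).restrict (b ⁻¹ᵁ U).ι) := by
  haveI : SheafOfModules.IsFinitePresentation.{u, u, u} (R := X.ringCatSheaf) F := hF
  haveI hqc : F.IsQuasicoherent := inferInstanceAs (SheafOfModules.IsQuasicoherent.{u, u, u} (R := X.ringCatSheaf) F)
  have hft : CohB1.IsFT F := inferInstanceAs (SheafOfModules.IsFiniteType.{u, u, u} (R := X.ringCatSheaf) F)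
  have htop : ∀ V : X.affineOpens, V.1 ≤ U → (Fitt.sheafIdeal F r).ideal V = ⊤ := fun V hV =>
    (GrothLib.StrictTr.fitting_ideal_of_free hft hfree V hV r).trans (if_pos le_rfl)
  refine ⟨⟨Groth.Agent.S8873.result X F hF r, Set.disjoint_left.2 fun x hx hxU => ?_⟩,
    fun X' b hb G π hG => ?_⟩
  · obtain ⟨V, hxV, hV⟩ := GrothLib.BlowUp.exists_affine_mem_le (show x ∈ U from hxU)
    rw [SetLike.mem_coe, Scheme.IdealSheafData.mem_support_iff_of_mem hxV, htop V hV, Scheme.mem_zeroLocus_iff] at hx
    exact hx 1 trivial (by rw [Scheme.basicOpen_of_isUnit _ isUnit_one]; exact hxV)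
  · haveI := GrothLib.FittSheaf.isQuasicoherent_pullback b F
    haveI := GrothLib.StrictTr.isQuasicoherent hb.1 hG
    have hfreeG : FlatMod.IsFinLocFreeOfRank r G := by
      refine GrothLib.StrictTr.isFinLocFreeOfRank hft hb.1 hG fun j hj => ?_
      rw [← Groth.Agent.S8872.result b F hqc hft j, GrothLib.StrictTr.fitting_eq_bot_of_dense hft hU hfree hj,
        Scheme.IdealSheafData.comap_bot]
    haveI := hG.1
    exact ⟨hfreeG, GrothLib.StrictTr.isFP_kernel_of_locFree (GrothLib.FittSheaf.isFP_pullback b F hF) hfreeG π,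
      GrothLib.StrictTr.isZero_kernel_restrict hG htop⟩

end Groth.Agent.S8913
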