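import Groth.Statements.S12080
import Groth.Agent.Lib.LocalFP.Basic
import Mathlib.RingTheory.PicardGroup
import Mathlib.LinearAlgebra.Contraction

set_option autoImplicit false
universe u
open TensorProduct
open CAlg

namespace Groth.Agent.S12080

open TensorProduct

/-- (1) ⇒ (2): let `M` be a finite locally free `R`-module of rank `1`, i.e. there is a set `s ⊆ R`
generating the unit ideal with `M_f ≅ R_f` as `R_f`-modules for every `f ∈ s`. Then the evaluation
map `Hom_R(M, R) ⊗_R M → R` is bijective, so `M` is invertible with inverse its dual. -/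
theorem result (R : Type u) [CommRing R] (M : Type u) [AddCommGroup M]
    [Module R M] (s : Set R) (hs : Ideal.span s = ⊤)
    (hfree : ∀ f ∈ s, Nonempty (LocalizedModule.Away f M ≃ₗ[Localization.Away f] Localization.Away f)) :
    Module.Invertible R M := by
  classical
  haveI : Module.FinitePresentation R M :=
    GrothLib.LocalFP.finitePresentation_of_localizationSpan M s hs fun g => by
      obtain ⟨e⟩ := hfree g.1 g.2
      haveI : Module.FinitePresentation (Localization.Away g.1) (Localization.Away g.1) :=
        Module.finitePresentation_of_projective _ _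
      exact Module.FinitePresentation.of_equiv e.symm
  obtain ⟨G, hG⟩ := (Module.Finite.fg_top : (⊤ : Submodule R M).FG)
  -- local generators
  have key : ∀ f ∈ s, ∃ (h : Module.Dual R M) (m : M) (N : ℕ), h m = f ^ N ∧
      (∀ x y : M, ∃ a : ℕ, f ^ a • (h x • y - h y • x) = 0) := by
    intro f hf
    obtain ⟨e⟩ := hfree f hf
    let μ := LocalizedModule.mkLinearMap (Submonoid.powers f) M
    let η := Algebra.linearMap R (Localization.Away f)
    obtain ⟨h, ⟨_, a, rfl⟩, hh⟩ := Module.FinitePresentation.exists_lift_of_isLocalizedModule
      (Submonoid.powers f) η ((e.toLinearMap.restrictScalars R) ∘ₗ μ)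
    have hh' : ∀ x, algebraMap R (Localization.Away f) (h x) = f ^ a • e (μ x) :=
      LinearMap.congr_fun hh
    obtain ⟨⟨m, t⟩, hm⟩ := IsLocalizedModule.surj (Submonoid.powers f) μ (e.symm 1)
    obtain ⟨_, b, rfl⟩ := t
    have hm' : e (μ m) = algebraMap R (Localization.Away f) (f ^ b) := by
      have hm0 : (f ^ b) • e.symm 1 = μ m := hm
      rw [← hm0, ← algebraMap_smul (Localization.Away f) (f ^ b), map_smul, e.apply_symm_apply,
        smul_eq_mul, mul_one]
    have h1 : algebraMap R (Localization.Away f) (h m) = algebraMap R _ (f ^ a * f ^ b) := by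
      rw [hh', hm', Algebra.smul_def, map_mul]
    obtain ⟨⟨_, c, rfl⟩, hc⟩ := IsLocalization.exists_of_eq (M := Submonoid.powers f) h1
    refine ⟨f ^ c • h, m, c + (a + b), ?_, fun x y => ?_⟩
    · rw [LinearMap.smul_apply, smul_eq_mul]
      change f ^ c * h m = f ^ c * (f ^ a * f ^ b) at hc
      rw [hc, pow_add, pow_add]
    · have h2 : μ (h x • y) = μ (h y • x) := by
        apply e.injective
        rw [μ.map_smul, μ.map_smul, ← algebraMap_smul (Localization.Away f) (h x) (μ y),
          ← algebraMap_smul (Localization.Away f) (h y) (μ x), map_smul, map_smul, hh', hh',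
          smul_eq_mul, smul_eq_mul, Algebra.smul_def, Algebra.smul_def]
        ring
      rw [← sub_eq_zero, ← map_sub, ← LinearMap.mem_ker,
        LocalizedModule.mem_ker_mkLinearMap_iff] at h2
      obtain ⟨_, ⟨d, rfl⟩, hd⟩ := h2
      refine ⟨d, ?_⟩
      change f ^ d • (h x • y - h y • x) = 0 at hd
      simp only [LinearMap.smul_apply, smul_eq_mul, ← smul_smul, ← smul_sub]
      rw [smul_comm, hd, smul_zero]
  choose! h m N hm hsw using key
  -- spanning after raising to powers
  have hpow : ∀ N' : R → ℕ, Ideal.span ((fun f => f ^ N' f) '' s) = ⊤ := by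
    intro N'
    by_contra hne
    obtain ⟨P, hP, hle⟩ := Ideal.exists_le_maximal _ hne
    refine hP.ne_top (top_le_iff.1 (hs ▸ Ideal.span_le.2 fun f hf => ?_))
    exact hP.isPrime.mem_of_pow_mem _ (hle (Ideal.subset_span ⟨f, hf, rfl⟩))
  let E : (Module.Dual R M ⊗[R] M) →ₗ[R] R := contractLeft R M
  have hsurj : Function.Surjective E := by
    rw [← LinearMap.range_eq_top, eq_top_iff, ← hpow N, Ideal.span_le]
    rintro _ ⟨f, hf, rfl⟩
    exact ⟨h f ⊗ₜ[R] m f, by simp [E, hm f hf]⟩
  have hinj : Function.Injective E := by
    rw [injective_iff_map_eq_zero]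
    intro z hz
    -- for each `f`, a power of `f` times `z` equals `E z • (h ⊗ m)`
    have hloc : ∀ f ∈ s, ∃ A : ℕ, f ^ A • f ^ N f • z = f ^ A • E z • (h f ⊗ₜ[R] m f) := by
      intro f hf
      clear hz
      induction z using TensorProduct.induction_on with
      | zero => exact ⟨0, by simp [E]⟩
      | add u v hu hv =>
        obtain ⟨A, hA⟩ := hu
        obtain ⟨B, hB⟩ := hv
        refine ⟨A + B, ?_⟩
        rw [map_add, smul_add, add_smul, smul_add, smul_add, pow_add]
        congr 1
        · rw [mul_comm, mul_smul, hA, mul_smul]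
        · rw [mul_smul, hB, mul_smul]
      | tmul φ x =>
        obtain ⟨A, hA⟩ := hsw f hf (m f) x
        -- functional identity on the generators
        have hB : ∃ B : ℕ, ∀ y, f ^ B * (h f x * φ y - h f y * φ x) = 0 := by
          choose B hB using fun y => hsw f hf x y
          refine ⟨G.sup B, fun y => ?_⟩
          have hy : y ∈ Submodule.span R (G : Set M) := hG ▸ Submodule.mem_top
          induction hy using Submodule.span_induction with
          | mem y hy =>
            have h1 := congrArg φ (hB y)
            rw [map_smul, map_sub, map_smul, map_smul, map_zero] at h1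
            simp only [smul_eq_mul] at h1
            obtain ⟨d, hd⟩ := Nat.exists_eq_add_of_le (Finset.le_sup hy (f := B))
            rw [hd, pow_add, mul_comm (f ^ B y), mul_assoc, h1, mul_zero]
          | zero => simp
          | add y w _ _ h1 h2 =>
            rw [map_add, map_add]
            linear_combination h1 + h2
          | smul c y _ h1 =>
            rw [map_smul, map_smul, smul_eq_mul, smul_eq_mul]
            linear_combination c * h1
        obtain ⟨B, hB⟩ := hB
        have hfun : f ^ B • (h f x • φ) = f ^ B • (φ x • h f) := by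
          refine LinearMap.ext fun y => ?_
          simp only [LinearMap.smul_apply, smul_eq_mul]
          linear_combination hB y
        refine ⟨A + B, ?_⟩
        have h1 : f ^ A • (h f (m f) • x) = f ^ A • (h f x • m f) := by
          rw [← sub_eq_zero, ← smul_sub]; exact hA
        rw [contractLeft_apply]
        calc f ^ (A + B) • f ^ N f • (φ ⊗ₜ[R] x)
            = φ ⊗ₜ[R] (f ^ B • (f ^ A • (h f (m f) • x))) := by
              rw [← hm f hf, TensorProduct.tmul_smul, TensorProduct.tmul_smul,
                TensorProduct.tmul_smul, smul_smul, smul_smul, smul_smul]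
              ring_nf
          _ = φ ⊗ₜ[R] (f ^ B • (f ^ A • (h f x • m f))) := by rw [h1]
          _ = f ^ A • ((f ^ B • (h f x • φ)) ⊗ₜ[R] m f) := by
              rw [TensorProduct.tmul_smul, TensorProduct.tmul_smul, TensorProduct.tmul_smul,
                ← TensorProduct.smul_tmul', ← TensorProduct.smul_tmul', smul_smul, smul_smul,
                smul_smul, smul_smul]
              ring_nf
          _ = f ^ A • ((f ^ B • (φ x • h f)) ⊗ₜ[R] m f) := by rw [hfun]
          _ = f ^ (A + B) • (φ x • (h f ⊗ₜ[R] m f)) := by
              rw [← TensorProduct.smul_tmul', ← TensorProduct.smul_tmul', smul_smul, smul_smul,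
                smul_smul, pow_add]
    choose! A hA using hloc
    have h1 : ∀ f ∈ s, f ^ (A f + N f) • z = 0 := fun f hf => by
      have := hA f hf
      rwa [hz, zero_smul, smul_zero, smul_smul, ← pow_add] at this
    have h2 : ∀ r ∈ Ideal.span ((fun f => f ^ (A f + N f)) '' s), r • z = 0 := by
      intro r hr
      induction hr using Submodule.span_induction with
      | mem r hr => obtain ⟨f, hf, rfl⟩ := hr; exact h1 f hf
      | zero => exact zero_smul R z
      | add a b _ _ ha hb => rw [add_smul, ha, hb, add_zero]
      | smul c a _ ha => rw [smul_eq_mul, mul_smul, ha, smul_zero]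
    simpa using h2 1 (hpow _ ▸ Submodule.mem_top)
  exact ⟨⟨hinj, hsurj⟩⟩

end Groth.Agent.S12080
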