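import Groth.Statements.S13380
import Groth.Agent.Lib.GaDual.Split
import Mathlib.RingTheory.Noetherian.Nilpotent
import Mathlib.Algebra.MvPolynomial.Nilpotent

set_option autoImplicit false
universe u
open GaDual

namespace Groth.Agent.S13380

/-- Over a commutative ring R of prime characteristic p whose Frobenius is surjective, every commutative
extension of the additive group by the multiplicative group that has a scheme-theoretic section
splits. In the coordinates given by such a section the extension is the product G_m × G_a with law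
(t,x)(t',x') = (tt'h(x,x'), x+x') for an invertible polynomial h with h(X,0) = 1, h symmetric and
h(Y,Z)h(X,Y+Z) = h(X+Y,Z)h(X,Y), and a group-theoretic section is an invertible polynomial f with
f(X+Y) = f(X)f(Y)h(X,Y); the row states the existence of such f for every such h. -/
theorem result (p : ℕ) [Fact p.Prime] (R : Type u)
    [CommRing R] [CharP R p] (hF : Function.Surjective (frobenius R p))
    (h : MvPolynomial (Fin 2) R) (hu : IsUnit h)
    (h0 : MvPolynomial.aeval ![(MvPolynomial.X 0 : MvPolynomial (Fin 2) R), 0] h = 1)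
    (hsymm : MvPolynomial.aeval ![(MvPolynomial.X 1 : MvPolynomial (Fin 2) R), MvPolynomial.X 0] h = h)
    (hcoc : MvPolynomial.aeval ![(MvPolynomial.X 1 : MvPolynomial (Fin 3) R), MvPolynomial.X 2] h *
        MvPolynomial.aeval ![MvPolynomial.X 0, MvPolynomial.X 1 + MvPolynomial.X 2] h =
      MvPolynomial.aeval ![MvPolynomial.X 0 + MvPolynomial.X 1, MvPolynomial.X 2] h *
        MvPolynomial.aeval ![MvPolynomial.X 0, MvPolynomial.X 1] h) :
    ∃ f : Polynomial R, IsUnit f ∧
      Polynomial.aeval (MvPolynomial.X 0 + MvPolynomial.X 1 : MvPolynomial (Fin 2) R) f =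
        Polynomial.aeval (MvPolynomial.X 0 : MvPolynomial (Fin 2) R) f *
          Polynomial.aeval (MvPolynomial.X 1 : MvPolynomial (Fin 2) R) f * h := by
  have hh := GrothLib.GaDual.IsMulCocycle.of_eq h hsymm hcoc
  have h00 : MvPolynomial.coeff 0 h = 1 := by
    have e := congrArg (MvPolynomial.aeval ![(0 : R), 0]) h0
    rw [GrothLib.GaDual.aeval_aeval_two] at e
    simp only [map_one, MvPolynomial.aeval_X, Matrix.cons_val_zero, Matrix.cons_val_one, map_zero] at e
    rw [← MvPolynomial.constantCoeff_eq]
    rw [show (![(0 : R), 0]) = (0 : Fin 2 → R) by funext i; fin_cases i <;> rfl] at e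
    simpa using e
  have hnil : ∀ d, IsNilpotent ((h - 1).coeff d) := fun d => by
    classical
    rw [MvPolynomial.coeff_sub, MvPolynomial.coeff_one]
    by_cases hd : (0 : Fin 2 →₀ ℕ) = d
    · subst hd; rw [if_pos rfl, h00, sub_self]; exact IsNilpotent.zero
    · rw [if_neg hd, sub_zero]
      exact (MvPolynomial.isUnit_iff.1 hu).2 d (Ne.symm hd)
  classical
  let I : Ideal R := Ideal.span ↑((h - 1).support.image fun d => (h - 1).coeff d)
  have hI : IsNilpotent I := by
    refine (Ideal.FG.isNilpotent_iff_le_nilradical ⟨_, rfl⟩).2 (Ideal.span_le.2 ?_)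
    intro x hx
    obtain ⟨d, -, rfl⟩ := Finset.mem_image.1 hx
    exact hnil d
  obtain ⟨n, hn⟩ := hI
  refine GrothLib.GaDual.splits_of_pow_eq_bot p n R hF h hh I ?_ ?_
  · refine MvPolynomial.mem_map_C_iff.2 fun d => ?_
    by_cases hd : d ∈ (h - 1).support
    · exact Ideal.subset_span (Finset.mem_image_of_mem _ hd)
    · rw [MvPolynomial.notMem_support_iff.1 hd]; exact I.zero_mem
  · rw [pow_succ, hn, Ideal.zero_eq_bot, Ideal.bot_mul]

end Groth.Agent.S13380
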