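import Groth.Statements.S15520
import Groth.Agent.Lib.HomSES20.Main
import Groth.Agent.Lib.LocFreeDual20.Ext
import Groth.Agent.Lib.LocZ.Excision

set_option autoImplicit false
set_option maxHeartbeats 400000
set_option linter.style.haveILetI false
set_option backward.isDefEq.respectTransparency.types false
universe u
open CategoryTheory CategoryTheory.Limits AlgebraicGeometry
open Coherent

namespace Groth.Agent.S15520

theorem additive_hom {X : Scheme.{u}} (M : X.Modules) [ModSite.HasSheafHom (O := X.sheaf) M] :
    (ModSite.sheafHom (O := X.sheaf) M).Additive :=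
  have : PreservesLimitsOfSize.{0, 0} (ModSite.sheafHom (O := X.sheaf) M) :=
    (ModSite.sheafHomAdj (O := X.sheaf) M).rightAdjoint_preservesLimits
  Functor.additive_of_preserves_binary_products _

/-- `Hom(M, -)` with values in `X.Modules`. -/
noncomputable abbrev homX {X : Scheme.{u}} (M : X.Modules) [ModSite.HasSheafHom (O := X.sheaf) M] :
    ModSite.Mod X.sheaf ⥤ X.Modules := ModSite.sheafHom (O := X.sheaf) M

theorem additive_homX {X : Scheme.{u}} (M : X.Modules) [ModSite.HasSheafHom (O := X.sheaf) M] :
    (homX M).Additive := ⟨fun {A B f g} => (additive_hom M).map_add⟩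

/-- `𝟙_* Hom(M, -) = Hom(M, -)`. -/
noncomputable def idPushIso {X : Scheme.{u}} (M : X.Modules) [ModSite.HasSheafHom (O := X.sheaf) M] :
    ModSite.sheafHom (O := X.sheaf) M ⋙ Scheme.Modules.pushforward (𝟙 X) ≅
      homX M :=
  Functor.isoWhiskerLeft (ModSite.sheafHom (O := X.sheaf) M) (Scheme.Modules.pushforwardId X) ≪≫
    Functor.rightUnitor _

theorem derived_iso {X : Scheme.{u}} [HasInjectiveResolutions (ModSite.Mod X.sheaf)] (M G : X.Modules)
    [ModSite.HasSheafHom (O := X.sheaf) M]
    [(ModSite.sheafHom (O := X.sheaf) M ⋙ Scheme.Modules.pushforward (𝟙 X)).Additive] (p : ℕ) :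
    Nonempty (((ModSite.sheafHom (O := X.sheaf) M ⋙ Scheme.Modules.pushforward (𝟙 X)).rightDerived p).obj G ≅
      (ModSite.extSh (O := X.sheaf) M p).obj G) :=
  haveI := additive_homX M
  ⟨(@GrothLib.SheafCoh.rightDerivedCongr (ModSite.Mod X.sheaf) X.Modules _ _ _ _ ‹_› _ _ _ _
    (idPushIso M) p).app G⟩

theorem isZero_derived {X : Scheme.{u}} [HasInjectiveResolutions (ModSite.Mod X.sheaf)] (M G : X.Modules)
    (hM : FlatMod.IsFinLocFree M) [ModSite.HasSheafHom (O := X.sheaf) M] (p : ℕ) :
    IsZero ((ModSite.extSh (O := X.sheaf) M (p + 1)).obj G) := by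
  have := GrothLib.LocFreeDual20.preservesHomology_sheafHom hM
  have := additive_hom M
  have h1 : PreservesFiniteColimits (ModSite.sheafHom (O := X.sheaf) M) :=
    Functor.preservesFiniteColimits_of_preservesHomology _
  have h2 : PreservesFiniteLimits (ModSite.sheafHom (O := X.sheaf) M) :=
    Functor.preservesFiniteLimits_of_preservesHomology _
  exact GrothLib.LocZ.isZero_rightDerived_exact (A := ModSite.Mod X.sheaf) (B := ModSite.Mod X.sheaf)
    (ModSite.sheafHom (O := X.sheaf) M) G p

theorem additive_comp {X : Scheme.{u}} (M : X.Modules) [ModSite.HasSheafHom (O := X.sheaf) M] :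
    (ModSite.sheafHom (O := X.sheaf) M ⋙ Scheme.Modules.pushforward (𝟙 X)).Additive :=
  haveI := additive_homX M
  Functor.additive_of_iso (idPushIso M).symm

/-- Let X be a scheme, F and G O_X-modules, and E_• → F → 0 a resolution of F whose terms E_i are finite
locally free O_X-modules: E is a chain complex indexed by the natural numbers with an augmentation π
: E_0 → F such that E is exact in every positive degree and E_1 → E_0 → F → 0 is exact. Let C be the
cochain complex Hom_{O_X}(E_•, G), given with identifications C^i ≅ Hom_{O_X}(E_i, G) under which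
its differentials are the maps induced by the differentials of E (contravariant functoriality of the
internal Hom). Then for every i the i-th cohomology object of C is isomorphic to the Ext sheaf
Ext^i_{O_X}(F, G), the i-th right derived functor of the internal Hom functor Hom(F, -) evaluated at
G. (Existence of an isomorphism of O_X-modules only; the published statement is for a ringed space.
The internal Hom functors and injective resolutions are the stated instance hypotheses, all true.) -/
theorem result (X : Scheme.{u}) (F G : X.Modules)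
    (E : ChainComplex X.Modules ℕ) (π : E.X 0 ⟶ F) [Epi π] (hπ : E.d 1 0 ≫ π = 0)
    (hex0 : (ShortComplex.mk (E.d 1 0) π hπ).Exact) (hex : ∀ j : ℕ, E.ExactAt (j + 1))
    (hE : ∀ j : ℕ, FlatMod.IsFinLocFree (E.X j))
    [∀ j : ℕ, ModSite.HasSheafHom (O := X.sheaf) (E.X j)] [ModSite.HasSheafHom (O := X.sheaf) F]
    [HasInjectiveResolutions (ModSite.Mod X.sheaf)]
    (C : CochainComplex X.Modules ℕ) (e : ∀ j : ℕ, C.X j ≅ (ModSite.sheafHom (O := X.sheaf) (E.X j)).obj G)
    (hC : ∀ j : ℕ, C.d j (j + 1) ≫ (e (j + 1)).hom =
      (e j).hom ≫ (ExtSupp.sheafHomMap (O := X.sheaf) (E.d (j + 1) j)).app G)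
    (i : ℕ) :
    Nonempty (C.homology i ≅ (ModSite.extSh (O := X.sheaf) F i).obj G) := by
  obtain ⟨b⟩ := GrothLib.HomSES20.nonempty_homology_iso (𝟙 X) F G E π hπ hex0 hex (fun j p => by
      have := additive_comp (E.X j)
      obtain ⟨a⟩ := derived_iso (E.X j) G (p + 1)
      exact (isZero_derived (E.X j) G (hE j) p).of_iso a)
    C (fun j => e j ≪≫ ((Scheme.Modules.pushforwardId X).app _).symm) (fun j => by
      rw [Iso.trans_hom, reassoc_of% (hC j), Iso.trans_hom, Category.assoc]
      exact congrArg ((e j).hom ≫ ·) ((Scheme.Modules.pushforwardId X).inv.naturality _)) i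
  have := additive_comp F
  obtain ⟨a⟩ := derived_iso F G i
  exact ⟨b ≪≫ a⟩

end Groth.Agent.S15520
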