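import Groth.Statements.S6786
import Mathlib.Algebra.Category.Grp.Limits
import Mathlib.CategoryTheory.Limits.Types.Limits
import Mathlib.CategoryTheory.Limits.ConcreteCategory.Basic
-- import your own Groth.Agent.* helpers here

set_option autoImplicit false
open CategoryTheory CategoryTheory.Limits
universe u
open HomAlg3

namespace Groth.Agent.S6786
open CategoryTheory CategoryTheory.Limits

/-- The kernel of a map of towers, as a tower. -/
def kerTower {B C : ℕᵒᵖ ⥤ AddCommGrpCat.{u}} (b : B ⟶ C) : ℕᵒᵖ ⥤ AddCommGrpCat.{u} where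
  obj i := AddCommGrpCat.of (b.app i).hom.ker
  map {i j} f := AddCommGrpCat.ofHom (AddMonoidHom.mk'
    (fun x => (⟨B.map f x.1, by
      rw [AddMonoidHom.mem_ker]
      exact (ConcreteCategory.congr_hom (b.naturality f) x.1).trans ((congrArg (C.map f) x.2).trans (map_zero _))⟩ :
      (b.app j).hom.ker))
    (fun x y => Subtype.ext (map_add _ x.1 y.1)))
  map_id i := by ext x; exact ConcreteCategory.congr_hom (B.map_id i) x.1
  map_comp f g := by ext x; exact ConcreteCategory.congr_hom (B.map_comp f g) x.1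

/-- Its inclusion. -/
def kerι {B C : ℕᵒᵖ ⥤ AddCommGrpCat.{u}} (b : B ⟶ C) : kerTower b ⟶ B where
  app i := AddCommGrpCat.ofHom (b.app i).hom.ker.subtype

/-- A pointwise surjection of towers whose kernels are Mittag-Leffler is surjective on limits. -/
theorem limMap_surjective_of_ker {B C : ℕᵒᵖ ⥤ AddCommGrpCat.{u}} (v : B ⟶ C)
    (hv : ∀ i, Function.Surjective (v.app i).hom)
    (hML : ∀ n : ℕ, ∃ m : ℕ, ∃ hnm : n ≤ m, ∀ (k : ℕ) (hk : m ≤ k) (y : B.obj (Opposite.op m)),
      y ∈ (v.app _).hom.ker → ∃ y' : B.obj (Opposite.op k), y' ∈ (v.app _).hom.ker ∧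
        B.map (homOfLE (hnm.trans hk)).op y' = B.map (homOfLE hnm).op y) :
    Function.Surjective (limMap v).hom := by
  intro x
  let τ : ∀ {m n : ℕ}, n ≤ m → B.obj (Opposite.op m) → B.obj (Opposite.op n) := fun h z => B.map (homOfLE h).op z
  have τc : ∀ {m n l : ℕ} (h : n ≤ m) (h' : l ≤ n) z, τ h' (τ h z) = τ (h'.trans h) z :=
    fun h h' z => (ConcreteCategory.congr_hom (B.map_comp (homOfLE h).op (homOfLE h').op) z).symm
  have τv : ∀ {m n : ℕ} (h : n ≤ m) z, (v.app _).hom (τ h z) = C.map (homOfLE h).op ((v.app _).hom z) :=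
    fun h z => ConcreteCategory.congr_hom (v.naturality _) z
  choose m hnm hm using hML
  -- a monotone choice of indices
  let φ : ℕ → ℕ := fun n => Nat.rec (m 0) (fun k p => max (m (k + 1)) p) n
  have hφm : ∀ n, m n ≤ φ n := fun n => by cases n <;> simp [φ]
  have hφ : ∀ n, φ n ≤ φ (n + 1) := fun n => le_max_right _ _
  have hnφ : ∀ n, n ≤ φ n := fun n => (hnm n).trans (hφm n)
  -- stable images of kernel elements
  let S : ∀ n, Set (B.obj (Opposite.op n)) := fun n =>
    {z | ∃ y : B.obj (Opposite.op (φ n)), y ∈ (v.app _).hom.ker ∧ τ (hnφ n) y = z}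
  have hS : ∀ n, ∀ z ∈ S n, ∃ z' ∈ S (n + 1), τ (Nat.le_succ n) z' = z := by
    rintro n z ⟨y, hy, rfl⟩
    have hym : τ (hφm n) y ∈ (v.app _).hom.ker := by
      rw [AddMonoidHom.mem_ker]
      exact (τv _ y).trans ((congrArg _ hy).trans (map_zero _))
    obtain ⟨y', hy', he⟩ := hm n (φ (n + 1)) ((hφm n).trans (hφ n)) _ hym
    refine ⟨_, ⟨y', hy', rfl⟩, ?_⟩
    rw [τc]
    exact he.trans (τc (hφm n) (hnm n) y)
  have hSadd : ∀ n, ∀ z ∈ S n, ∀ z' ∈ S n, z + z' ∈ S n := by
    rintro n _ ⟨y, hy, rfl⟩ _ ⟨y', hy', rfl⟩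
    exact ⟨y + y', add_mem hy hy', map_add _ y y'⟩
  choose yb hyb using fun n => hv (Opposite.op n) (limit.π C (Opposite.op n) x)
  let z : ∀ n, B.obj (Opposite.op n) := fun n => τ (hnφ n) (yb (φ n))
  have hvz : ∀ n, (v.app _).hom (z n) = limit.π C (Opposite.op n) x := fun n =>
    (τv _ _).trans ((congrArg _ (hyb _)).trans (ConcreteCategory.congr_hom (limit.w C (homOfLE (hnφ n)).op) x))
  have hdiff : ∀ n, z n - τ (Nat.le_succ n) (z (n + 1)) ∈ S n := fun n => by
    refine ⟨yb (φ n) - τ (hφ n) (yb (φ (n + 1))), ?_, ?_⟩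
    · rw [AddMonoidHom.mem_ker, map_sub, sub_eq_zero]
      exact (hyb _).trans ((ConcreteCategory.congr_hom (limit.w C (homOfLE (hφ n)).op) x).symm.trans
        ((congrArg _ (hyb _).symm).trans (τv _ _).symm))
    · change τ _ (_ - _) = τ _ _ - τ _ (τ _ _)
      refine (map_sub (B.map _).hom _ _).trans ?_
      exact congrArg₂ (· - ·) rfl ((τc _ _ _).trans (τc _ _ _).symm)
  have hstep : ∀ n (w : {w : B.obj (Opposite.op n) // w - z n ∈ S n}),
      ∃ w' : {w : B.obj (Opposite.op (n + 1)) // w - z (n + 1) ∈ S (n + 1)}, τ (Nat.le_succ n) w'.1 = w.1 := by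
    intro n w
    have hmem : w.1 - τ (Nat.le_succ n) (z (n + 1)) ∈ S n := by
      have := hSadd n _ w.2 _ (hdiff n)
      rwa [sub_add_sub_cancel] at this
    obtain ⟨s', hs', he⟩ := hS n _ hmem
    refine ⟨⟨z (n + 1) + s', by rwa [add_sub_cancel_left]⟩, ?_⟩
    change B.map _ (z (n + 1) + s') = w.1
    rw [map_add]
    change τ _ (z (n + 1)) + τ _ s' = w.1
    rw [he, add_sub_cancel]
  choose next hnext using hstep
  let w : ∀ n, {w : B.obj (Opposite.op n) // w - z n ∈ S n} := fun n =>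
    Nat.rec ⟨z 0, ⟨0, zero_mem _, (map_zero _).trans (sub_self _).symm⟩⟩ next n
  have hw : ∀ {k l : ℕ} (h : k ≤ l), τ h (w l).1 = (w k).1 := by
    intro k l h
    induction l, h using Nat.le_induction with
    | base => exact ConcreteCategory.congr_hom (B.map_id _) _
    | succ l hl ih => exact (τc (Nat.le_succ l) hl _).symm.trans ((congrArg (τ hl) (hnext l (w l))).trans ih)
  let sec : (B ⋙ forget AddCommGrpCat).sections := ⟨fun i => (w i.unop).1, fun {i j} f => hw f.unop.le⟩
  let e := Types.isLimitEquivSections (isLimitOfPreserves (forget AddCommGrpCat.{u}) (limit.isLimit B))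
  refine ⟨e.symm sec, Concrete.limit_ext _ _ _ fun i => ?_⟩
  refine (ConcreteCategory.congr_hom (limMap_π v i) _).trans ?_
  have h2 : limit.π B i (e.symm sec) = (w i.unop).1 :=
    congrArg (fun t : (B ⋙ forget AddCommGrpCat).sections => t.1 i) (e.apply_symm_apply sec)
  change (v.app i).hom (limit.π B i (e.symm sec)) = _
  rw [h2]
  obtain ⟨y, hy, hy'⟩ := (w i.unop).2
  have h3 : (v.app i).hom ((w i.unop).1 - z i.unop) = 0 := by
    rw [← hy']
    exact (τv _ _).trans ((congrArg _ hy).trans (map_zero _))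
  rw [map_sub, sub_eq_zero] at h3
  exact h3.trans (hvz i.unop)

/-- Lifting into the kernel tower. -/
def kerLift {A B C : ℕᵒᵖ ⥤ AddCommGrpCat.{u}} (a : A ⟶ B) (b : B ⟶ C)
    (h : ∀ i x, (b.app i).hom ((a.app i).hom x) = 0) : A ⟶ kerTower b where
  app i := AddCommGrpCat.ofHom (AddMonoidHom.mk'
    (fun x => (⟨(a.app i).hom x, h i x⟩ : (b.app i).hom.ker)) (fun x y => Subtype.ext (map_add _ x y)))
  naturality i j f := by ext x; exact Subtype.ext (ConcreteCategory.congr_hom (a.naturality f) x)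


/-- For a sequence `(A_i) ⟶ (B_i) ⟶ (C_i) ⟶ (D_i)` of inverse systems of abelian groups over `ℕ` that is
exact levelwise at the two middle places, if `(A_i)` is Mittag-Leffler then `lim B_i ⟶ lim C_i ⟶ lim
D_i` is exact. -/
theorem result {A B C D : ℕᵒᵖ ⥤ AddCommGrpCat.{u}} (a : A ⟶ B) (b : B ⟶ C) (c : C ⟶ D) (hB : ∀ i, (b.app i).hom.ker = (a.app i).hom.range) (hC : ∀ i, (c.app i).hom.ker = (b.app i).hom.range) (hA : (A ⋙ forget AddCommGrpCat).IsMittagLeffler) : (limMap c).hom.ker = (limMap b).hom.range := by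
  have hba : ∀ i x, (b.app i).hom ((a.app i).hom x) = 0 := fun i x => by
    have : (a.app i).hom x ∈ (a.app i).hom.range := ⟨x, rfl⟩
    rw [← hB i] at this; exact this
  have hcb : ∀ i x, (c.app i).hom ((b.app i).hom x) = 0 := fun i x => by
    have : (b.app i).hom x ∈ (b.app i).hom.range := ⟨x, rfl⟩
    rw [← hC i] at this; exact this
  have hK : (kerTower b ⋙ forget AddCommGrpCat).IsMittagLeffler := by
    intro j
    obtain ⟨i, f, hf⟩ := hA j
    refine ⟨i, f, fun k g => ?_⟩
    rintro _ ⟨⟨x, hx⟩, rfl⟩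
    obtain ⟨y, hy⟩ : x ∈ (a.app i).hom.range := hB i ▸ hx
    obtain ⟨y', hy'⟩ := hf g ⟨y, rfl⟩
    refine ⟨(kerLift a b hba).app k y', Subtype.ext ?_⟩
    change B.map g ((a.app k).hom y') = B.map f x
    rw [← hy]
    exact (ConcreteCategory.congr_hom (a.naturality g) y').symm.trans
      ((congrArg (a.app j) hy').trans (ConcreteCategory.congr_hom (a.naturality f) y))
  have hex : ∀ i, ((kerLift b c hcb).app i).hom.ker = ((kerι b).app i).hom.range := by
    intro i
    ext x
    constructor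
    · intro hx
      exact ⟨⟨x, congrArg Subtype.val hx⟩, rfl⟩
    · rintro ⟨y, rfl⟩
      exact Subtype.ext y.2
  have hs : ∀ i, Function.Surjective ((kerLift b c hcb).app i).hom := by
    rintro i ⟨x, hx⟩
    obtain ⟨y, hy⟩ : x ∈ (b.app i).hom.range := hC i ▸ hx
    exact ⟨y, Subtype.ext hy⟩
  have hi : ∀ i, Function.Injective ((kerι b).app i).hom := fun i => Subtype.val_injective
  have hsur : Function.Surjective (limMap (kerLift b c hcb)).hom :=
    limMap_surjective_of_ker (kerLift b c hcb) hs (fun n => by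
      obtain ⟨i, f, hf⟩ := hK (Opposite.op n)
      obtain ⟨m⟩ := i
      refine ⟨m, f.unop.le, fun k hk y hy => ?_⟩
      rw [hex] at hy
      obtain ⟨y₀, rfl⟩ := hy
      obtain ⟨y₁, hy₁⟩ := hf (homOfLE (f.unop.le.trans hk)).op ⟨y₀, rfl⟩
      refine ⟨((kerι b).app (Opposite.op k)).hom y₁, ?_, ?_⟩
      · rw [hex]; exact ⟨y₁, rfl⟩
      · exact congrArg Subtype.val hy₁)
  have hfac : limMap b = limMap (kerLift b c hcb) ≫ limMap (kerι c) := by
    apply limit.hom_ext
    intro i
    rw [Category.assoc, limMap_π, limMap_π, limMap_π_assoc]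
    rfl
  ext x
  constructor
  · intro hx
    have hxi : ∀ i, (c.app i).hom (limit.π C i x) = 0 := fun i =>
      (ConcreteCategory.congr_hom (limMap_π c i) x).symm.trans ((congrArg (limit.π D i) hx).trans (map_zero _))
    let s : (kerTower c ⋙ forget AddCommGrpCat).sections :=
      ⟨fun i => (⟨limit.π C i x, hxi i⟩ : (c.app i).hom.ker),
        fun {i j} f => Subtype.ext (ConcreteCategory.congr_hom (limit.w C f) x)⟩
    let e := (Types.isLimitEquivSections (isLimitOfPreserves (forget AddCommGrpCat.{u}) (limit.isLimit (kerTower c))))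
    obtain ⟨y, hy⟩ := hsur (e.symm s)
    refine ⟨y, Concrete.limit_ext _ _ _ fun i => ?_⟩
    rw [hfac]
    change limit.π C i (limMap (kerι c) (limMap (kerLift b c hcb) y)) = _
    refine (ConcreteCategory.congr_hom (limMap_π (kerι c) i) _).trans ?_
    have h2 : limit.π (kerTower c) i (e.symm s) = s.1 i :=
      congrArg (fun t : (kerTower c ⋙ forget AddCommGrpCat).sections => t.1 i) (e.apply_symm_apply s)
    change (kerι c).app i (limit.π (kerTower c) i (limMap (kerLift b c hcb) y)) = _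
    rw [show limMap (kerLift b c hcb) y = e.symm s from hy, h2]
    rfl
  · rintro ⟨y, rfl⟩
    refine Concrete.limit_ext _ _ _ fun i => ?_
    refine (ConcreteCategory.congr_hom (limMap_π c i) _).trans ?_
    refine ((congrArg (c.app i) (ConcreteCategory.congr_hom (limMap_π b i) y)).trans (hcb i _)).trans ?_
    exact (map_zero _).symm

end Groth.Agent.S6786
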