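import Groth.Statements.S14512
import Groth.Agent.Lib.CurveMult.GenusZero
import Groth.Agent.Lib.CurveMult.Point
import Groth.Agent.Lib.CurveMult.ProjSmooth

set_option autoImplicit false
universe u
open CategoryTheory CategoryTheory.Limits AlgebraicGeometry
open Curves

namespace Groth.Agent.S14512

/-- Let k be an algebraically closed field and X a complete curve over k (integral, proper over k, of
dimension one) of arithmetic genus dim_k H^1(X, O_X) = 0. Then X is smooth over k. (Over a
non-closed field an integral proper curve with vanishing H^1 need not be smooth, e.g. a projective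
line over an inseparable extension of k viewed over k.) -/
theorem result (k : Type u) [Field k] [IsAlgClosed k] (X : Scheme.{u}) [X.Over (Spec (CommRingCat.of k))]
    [IsIntegral X] [IsProper (X ↘ (Spec (CommRingCat.of k)))] (hdim : topologicalKrullDim X = 1)
    (hg : Curv2.genus k X = 0) :
    Smooth (X ↘ (Spec (CommRingCat.of k))) := by
  haveI := GrothLib.Euler.isNoetherian_of_proper (X := X) k
  have hO := GrothLib.Euler.isCoh_of_isInvertible (GrothLib.Euler.isInvertible_structure (X := X))
  haveI := GrothLib.Euler.finiteDimensional_HH k hO 1
  obtain ⟨x, hxη, hreg⟩ := GrothLib.CurveMult.exists_regular_point k hdim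
  obtain ⟨L, hL, hdeg, -⟩ := GrothLib.CurveMult.exists_point_bundle k hdim.le hxη hreg
  obtain ⟨e, he⟩ := GrothLib.CurveMult.exists_iso_P1 k hdim (Module.finrank_zero_iff.1 hg) hL hdeg
  haveI := GrothLib.CurveMult.smooth_toSpec 1 k
  rw [← he]
  infer_instance

end Groth.Agent.S14512
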