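import Groth.Statements.S11109
import Groth.Agent.Lib.TorBC25.BCFinal

set_option autoImplicit false
universe u
open CategoryTheory CategoryTheory.Limits AlgebraicGeometry
attribute [local instance] HasDerivedCategory.standard
open Perf
open GrothLib.TorBC25

namespace Groth.Agent.S11109

/-- Let f : X ⟶ Y be a quasi-compact quasi-separated morphism of schemes, g : Y' ⟶ Y any morphism of
schemes and X' = X ×_Y Y' with projections g' : X' ⟶ X and f' : X' ⟶ Y'. Suppose the square is
tor-independent in the sense that for every affine open U of Y, every affine open U' of Y' mapped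
into U and every affine open V of X mapped into U, the modules Tor_i over Γ(U, O_Y) of Γ(U', O_Y')
and Γ(V, O_X) (computed with a projective resolution of the second argument) vanish for all i > 0.
Assume the unbounded derived direct images and derived pullbacks exist, with adjunctions Lg^* ⊣ Rg_*
and Lg'^* ⊣ Rg'_* given as data. Then for a suitable identification e of the composite Rf_* ∘ Rg'_*
with Rg_* ∘ Rf'_*, the base-change morphism Lg^* Rf_* E ⟶ Rf'_* Lg'^* E built from these data is an
isomorphism for every E in D(O_X) with quasi-coherent cohomology sheaves. (The published statement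
assumes in addition that Y and Y' are quasi-separated and that g is quasi-compact and
quasi-separated, and also gives the converse: if the base-change morphism is an isomorphism for all
such E then the square is tor-independent. This row omits those hypotheses on Y, Y' and g, the
isomorphism assertion being local on Y and on Y', and states only the forward direction.) -/
theorem result {X Y X' Y' : Scheme.{u}} (f : X ⟶ Y) [QuasiCompact f]
    [QuasiSeparated f] (g : Y' ⟶ Y) (f' : X' ⟶ Y') (g' : X' ⟶ X) (hsq : IsPullback g' f' f g)
    (htor : ∀ (U : Y.Opens), IsAffineOpen U → ∀ (U' : Y'.Opens), IsAffineOpen U' → ∀ (hU' : U' ≤ g ⁻¹ᵁ U)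
      (V : X.Opens), IsAffineOpen V → ∀ (hV : V ≤ f ⁻¹ᵁ U) (i : ℕ), 0 < i →
      Subsingleton (@DRing.Tor Γ(Y, U) _ i Γ(Y', U') Γ(X, V) _ (g.appLE U U' hU').hom.toModule _ (f.appLE U V hV).hom.toModule))
    [DCoh.HasRpush f] [DCoh.HasRpush g] [DCoh.HasLpull g] [DCoh.HasRpush f'] [DCoh.HasRpush g']
    [DCoh.HasLpull g'] (adjg : DCoh.Lpull g ⊣ DCoh.Rpush g) (adjg' : DCoh.Lpull g' ⊣ DCoh.Rpush g') :
    ∃ e : DCoh.Rpush g' ⋙ DCoh.Rpush f ≅ DCoh.Rpush f' ⋙ DCoh.Rpush g,
      ∀ E : DCoh.D X, DCoh.IsQCohD E → IsIso (DCoh.baseChangeApp adjg adjg' e E) :=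
  exists_baseChangeApp hsq adjg adjg' (BC_of_torIndep hsq htor)

end Groth.Agent.S11109
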