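import Groth.Statements.S11177
import Groth.Agent.Lib.DualRing.GorGlobal
import Groth.Agent.Lib.DualRing.Local
import Groth.Agent.Lib.GeomReg.Basic
-- import your own Groth.Agent.* helpers here

set_option autoImplicit false
universe u
open CategoryTheory
attribute [local instance] HasDerivedCategory.standard
open Dual

namespace Groth.Agent.S11177

/-- Let A be a Noetherian ring, A → B a smooth ring homomorphism (formally smooth and of finite
presentation), and ω a dualizing complex for A. Assuming the derived base change functor D(A) → D(B)
(the total left derived functor of extension of scalars) exists, the derived base change ω ⊗^L_A B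
is a dualizing complex for B. (The published statement is for a smooth morphism of finite type to a
Noetherian scheme and concludes that the pull-back of a dualizing complex twisted by the top
relative differentials, shifted by the relative dimension, is dualizing; removing that invertible
twist does not affect being dualizing.) -/
theorem result (A B : Type u) [CommRing A] [CommRing B] [Algebra A B] [IsNoetherianRing A] [Algebra.Smooth A B] [DRing.HasLBaseChange (algebraMap A B)] (ω : Dual.D A) (hω : Dual.IsDualizing A ω) : Dual.IsDualizing B ((DRing.LBaseChange (algebraMap A B)).obj ω) := by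
  haveI : IsNoetherianRing B := Algebra.FiniteType.isNoetherianRing A B
  haveI := GrothLib.DR.preservesFiniteLimits_extendScalars (algebraMap A B) GrothLib.DR.flat_algebraMap
  obtain ⟨e⟩ := GrothLib.DualCx22.nonempty_lBase_iso_bcD (A := A) B
  obtain ⟨D, hD⟩ := GrothLib.DualRing.exists_dim_bound_finiteType (GrothLib.DualRing.ringKrullDim_lt_top hω) B
  refine GrothLib.DualCx22.isDualizing_of_iso (e.app ω).symm
    (GrothLib.DualRing.isDualizing_bcD_gorenstein B hω D hD fun m _ => ?_)
  obtain ⟨Q, ⟨f⟩⟩ := GrothLib.Excellent.exists_fibre_point (A := A) m
  haveI : IsRegularRing ((m.comap (algebraMap A B)).Fiber B) :=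
    GrothLib.GeomReg.isRegularRing_of_smooth (m.comap (algebraMap A B)).ResidueField _
  haveI := (GrothLib.GorFlat.isGorensteinRing_of_isRegularRing ((m.comap (algebraMap A B)).Fiber B)).isGorensteinLocalRing_localization Q.asIdeal
  exact (GrothLib.GorFlat.gorenstein_congr (R := Localization.AtPrime Q.asIdeal) (S := EGA4.FibLocRing A B m) f).1 inferInstance


end Groth.Agent.S11177
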