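import Groth.Statements.S3622
import Groth.Agent.Lib.DualRing.SchemeCover

set_option autoImplicit false
universe u
open CategoryTheory CategoryTheory.Limits AlgebraicGeometry
attribute [local instance] HasDerivedCategory.standard
open Dual3

namespace Groth.Agent.S3622

/-- Let X be a Gorenstein scheme (exactness instances as in the definition of dualizing complexes on
schemes). Then X has a dualizing complex if and only if the structure sheaf placed in degree 0 is a
dualizing complex on X. -/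
theorem result (X : Scheme.{u}) (hX : Dual3.IsGorenstein X) [∀ (U V : Scheme.{u}) (j : U ⟶ V) [IsOpenImmersion j], PreservesFiniteLimits (Scheme.Modules.restrictFunctor j)] [∀ (R : CommRingCat.{u}), PreservesFiniteLimits (tilde.functor R)] : (∃ K : DCoh.D X, Dual2.IsDualizingSch X K) ↔ Dual2.IsDualizingSch X (DCoh.inD X (Coh.structureModule X)) := by
  refine ⟨fun ⟨K, hK⟩ => ?_, fun h => ⟨_, h⟩⟩
  haveI := hX.1
  refine GrothLib.DualRing.isDualizingSch_of_dualCharts fun x => ?_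
  obtain ⟨U, n, hxU, ⟨eU⟩⟩ := GrothLib.DualRing.exists_invertible_of_gorenstein hK (hX.2 x)
  obtain ⟨V, hV, hxV, hVU⟩ := exists_isAffineOpen_mem_and_subset (x := x) (U := U) hxU
  have hr : Set.range hV.fromSpec ⊆ Set.range U.ι := by rw [hV.range_fromSpec, U.range_ι]; exact hVU
  let k : Spec Γ(X, V) ⟶ (U : Scheme.{u}) := IsOpenImmersion.lift U.ι hV.fromSpec hr
  have hk : k ≫ U.ι = hV.fromSpec := IsOpenImmersion.lift_fac _ _ _
  haveI : IsOpenImmersion (k ≫ U.ι) := hk ▸ inferInstance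
  haveI : IsOpenImmersion k := IsOpenImmersion.of_comp k U.ι
  obtain ⟨ω, hω, ⟨e⟩⟩ := hK Γ(X, V) (k ≫ U.ι)
  obtain ⟨en⟩ := GrothLib.DualRing.nonempty_resD_shift k n
  obtain ⟨e0⟩ := GrothLib.DualRing.nonempty_resD_shift (k ≫ U.ι) 0
  refine ⟨Γ(X, V), inferInstance, k ≫ U.ι, inferInstance, ?_, ω⟦-n⟧, GrothLib.DualRing.isDualizing_shift hω (-n), ⟨?_⟩⟩
  · rw [hk, hV.range_fromSpec]; exact hxV
  · exact (GrothLib.OX.resD (k ≫ U.ι)).mapIso ((shiftFunctorZero (DCoh.D X) ℤ).app _).symm ≪≫ e0 ≪≫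
      (shiftFunctorZero (DCoh.D _) ℤ).app _ ≪≫
      ((shiftFunctorCompIsoId (DCoh.D _) n (-n) (add_neg_cancel n)).app _).symm ≪≫
      (shiftFunctor (DCoh.D _) (-n)).mapIso (en.symm ≪≫ (GrothLib.OX.resD k).mapIso eU.symm ≪≫
        (GrothLib.OX.resDCompIso k U.ι).app K ≪≫ e) ≪≫
      (((DCoh.tildeD (CommRingCat.of Γ(X, V))).commShiftIso (-n)).app ω).symm

end Groth.Agent.S3622
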