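import Groth.Statements.S16375
import Groth.Agent.Lib.FMK22.RGamma

set_option autoImplicit false
universe u
open CategoryTheory CategoryTheory.Limits AlgebraicGeometry
attribute [local instance] HasDerivedCategory.standard
open FMK

namespace Groth.Agent.S16375

/-- Let k be an algebraically closed field, X and Y schemes over k with structure morphisms a and b, and
P a cochain complex of modules on the fibre product X ×_k Y (no condition on P, X or Y). Write Φ_P =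
Rpr_{Y,*}(Lpr_X^*(−) ⊗^L P) : D(O_X) → D(O_Y) and Ψ_P = Rpr_{X,*}(Lpr_Y^*(−) ⊗^L P) : D(O_Y) →
D(O_X), the derived functors involved being assumed to exist. Let E be a cochain complex of
O_X-modules and F a cochain complex of O_Y-modules whose images in the derived categories are
perfect. Then RΓ(X, Ψ_P(F) ⊗^L E) and RΓ(Y, Φ_P(E) ⊗^L F) are isomorphic objects of D(Ab) (existence
of an isomorphism only; the published statement records the resulting isomorphisms H^i(X, E ⊗ Ψ_P F)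
≅ H^i(Y, Φ_P E ⊗ F) of hypercohomology groups for every i). -/
theorem result (k : Type u) [Field k] [IsAlgClosed k]
    (X Y : Scheme.{u}) (a : X ⟶ Spec (CommRingCat.of k)) (b : Y ⟶ Spec (CommRingCat.of k))
    (P : CochainComplex (pullback a b).Modules ℤ)
    [DCoh.HasLpull (pullback.fst a b)] [DCoh.HasLpull (pullback.snd a b)] [DCoh.HasLTensorCx P]
    [DCoh.HasRpush (pullback.fst a b)] [DCoh.HasRpush (pullback.snd a b)]
    [DCoh.HasRΓ X] [DCoh.HasRΓ Y]
    (E : CochainComplex X.Modules ℤ) (hE : DCoh.IsPerfect (DCoh.toD X E)) [DCoh.HasLTensorCx E]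
    (F : CochainComplex Y.Modules ℤ) (hF : DCoh.IsPerfect (DCoh.toD Y F)) [DCoh.HasLTensorCx F] :
    Nonempty ((DCoh.RΓ X).obj ((DCoh.LTensorCx E).obj
        ((DCoh.Lpull (pullback.snd a b) ⋙ DCoh.LTensorCx P ⋙ DCoh.Rpush (pullback.fst a b)).obj (DCoh.toD Y F))) ≅
      (DCoh.RΓ Y).obj ((DCoh.LTensorCx F).obj ((FMK.phi a b P).obj (DCoh.toD X E)))) := by
  obtain ⟨K, hK, ⟨eK⟩⟩ := GrothLib.OX.exists_kflat_rep (DCoh.toD X E)
  obtain ⟨G, hG, ⟨eG⟩⟩ := GrothLib.OX.exists_kflat_rep (DCoh.toD Y F)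
  let p := pullback.fst a b
  let q := pullback.snd a b
  let T := fun (A B : CochainComplex (pullback a b).Modules ℤ) => ((DCoh.tensorCx (X := pullback a b)).obj A).obj B
  let K' := (GrothLib.OX.pullCxF p).obj K
  let G' := (GrothLib.OX.pullCxF q).obj G
  have hK' : DCoh.IsKFlat K' := GrothLib.OX.isKFlat_pullback p hK
  have hG' : DCoh.IsKFlat G' := GrothLib.OX.isKFlat_pullback q hG
  haveI := GrothLib.OX.hasLTensorCx K
  haveI := GrothLib.OX.hasLTensorCx G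
  haveI := GrothLib.OX.hasLTensorCx K'
  haveI := GrothLib.OX.hasLTensorCx G'
  haveI : DCoh.HasRΓ (pullback a b) := GrothLib.KInj.hasRightDerivedFunctor _
  obtain ⟨lK⟩ := GrothLib.OX.lpull_value p K hK
  obtain ⟨lG⟩ := GrothLib.OX.lpull_value q G hG
  obtain ⟨vK⟩ := GrothLib.OX.ltensorCx_value P K' hK'
  obtain ⟨vG⟩ := GrothLib.OX.ltensorCx_value P G' hG'
  obtain ⟨wK⟩ := GrothLib.OX.ltensorCx_value_of_isKFlat K' hK' (T G' P)
  obtain ⟨wG⟩ := GrothLib.OX.ltensorCx_value_of_isKFlat G' hG' (T K' P)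
  let A := (DCoh.LTensorCx P).obj ((DCoh.Lpull q).obj (DCoh.toD Y F))
  let B := (DCoh.LTensorCx P).obj ((DCoh.Lpull p).obj (DCoh.toD X E))
  obtain ⟨sX⟩ := GrothLib.FMK22.nonempty_ltensorCx_congr eK.symm ((DCoh.Rpush p).obj A)
  obtain ⟨sY⟩ := GrothLib.FMK22.nonempty_ltensorCx_congr eG.symm ((DCoh.Rpush q).obj B)
  obtain ⟨pX⟩ := GrothLib.FMK22.nonempty_proj_kflat p K hK
    (GrothLib.OX.isPerfect_of_iso hE eK.symm) A
  obtain ⟨pY⟩ := GrothLib.FMK22.nonempty_proj_kflat q G hG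
    (GrothLib.OX.isPerfect_of_iso hF eG.symm) B
  obtain ⟨gX⟩ := GrothLib.FMK22.nonempty_rGamma_rpush p ((DCoh.LTensorCx K').obj A)
  obtain ⟨gY⟩ := GrothLib.FMK22.nonempty_rGamma_rpush q ((DCoh.LTensorCx G').obj B)
  let c : T (T G' P) K' ≅ T (T K' P) G' :=
    (GrothLib.OX.tensorCxSymm _ _).symm ≪≫
      ((DCoh.tensorCx (X := pullback a b)).obj K').mapIso (GrothLib.OX.tensorCxSymm G' P).symm ≪≫
      (GrothLib.OX.tensorCxAssoc K' P G').symm
  exact ⟨(DCoh.RΓ X).mapIso (sX ≪≫ pX) ≪≫ gX ≪≫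
    (DCoh.RΓ (pullback a b)).mapIso
      ((DCoh.LTensorCx K').mapIso ((DCoh.LTensorCx P).mapIso ((DCoh.Lpull q).mapIso eG.symm ≪≫ lG) ≪≫ vG) ≪≫ wK ≪≫
        DerivedCategory.Q.mapIso c ≪≫ wG.symm ≪≫
        (DCoh.LTensorCx G').mapIso (vK.symm ≪≫ (DCoh.LTensorCx P).mapIso (lK.symm ≪≫ (DCoh.Lpull p).mapIso eK))) ≪≫
    gY.symm ≪≫ (DCoh.RΓ Y).mapIso (pY.symm ≪≫ sY.symm)⟩

end Groth.Agent.S16375
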