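import Groth.Statements.S0379
import Groth.Agent.Lib.LC.Cd
import Groth.Agent.Lib.LC.FlatBC

set_option autoImplicit false
universe u v
open LocCoh

namespace Groth.Agent.S0379

/-- For a homomorphism of Noetherian rings A → B, if local cohomology with support in I vanishes above
degree d on all A-modules then local cohomology with support in IB vanishes above degree d on all
B-modules; if B is faithfully flat over A the converse holds too. -/
theorem result (A : Type u) [CommRing A] [IsNoetherianRing A] (B : Type u) [CommRing B] [IsNoetherianRing B] [Algebra A B] (I : Ideal A) (d : ℕ) : (LocCoh.CdLE A I d → LocCoh.CdLE B (I.map (algebraMap A B)) d) ∧ (Module.FaithfullyFlat A B → LocCoh.CdLE B (I.map (algebraMap A B)) d → LocCoh.CdLE A I d) := by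
  constructor
  · intro h M' _ _ i hi
    letI : Module A M' := Module.compHom M' (algebraMap A B)
    haveI : IsScalarTower A B M' := ⟨fun a b m => by rw [Algebra.smul_def, mul_smul]; rfl⟩
    exact (GrothLib.LC.subsingleton_map_iff I i M').2 (h M' i hi)
  · intro hff h M _ _ i hi
    obtain ⟨φ⟩ := GrothLib.LC.nonempty_baseChange_equiv (R' := B) I i M
    have hs := h (TensorProduct A B M) i hi
    have hsub : Subsingleton (TensorProduct A B (LocCoh.H I i M)) := φ.toEquiv.subsingleton
    exact (Module.FaithfullyFlat.subsingleton_tensorProduct_iff_right A B).1 hsub

end Groth.Agent.S0379
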