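import Groth.Statements.S5163
import Mathlib.RingTheory.Regular.LinearMap

set_option autoImplicit false
universe u
open LocCoh

namespace Groth.Agent.S5163

/-- For modules over a Noetherian ring. Let P be a finite A-module and H any A-module with Supp H ⊆ Supp
P. If Hom_A(P, H) = 0 then H = 0. (The published lemma is stated over an arbitrary prescheme; its
proof uses that a nonzero module has an associated prime, so the ring is taken Noetherian here.) -/
theorem result (A : Type u) [CommRing A] [IsNoetherianRing A] (P H : Type u) [AddCommGroup P] [Module A P] [Module.Finite A P] [AddCommGroup H] [Module A H] (hsupp : Module.support A H ⊆ Module.support A P) (hhom : Subsingleton (P →ₗ[A] H)) : Subsingleton H := by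
  by_contra h
  have : Nontrivial H := not_subsingleton_iff_nontrivial.1 h
  obtain ⟨p, hp⟩ := associatedPrimes.nonempty A H
  obtain ⟨hp, x, hx⟩ := (isAssociatedPrime_iff_exists_injective_linearMap p H).1 hp
  have hsub : Subsingleton (P →ₗ[A] A ⧸ p) :=
    ⟨fun a b => LinearMap.ext fun y => hx (LinearMap.congr_fun (Subsingleton.elim (x ∘ₗ a) (x ∘ₗ b)) y)⟩
  obtain ⟨r, hr, hreg⟩ := IsSMulRegular.subsingleton_linearMap_iff.1 hsub
  have hmem : (⟨p, hp⟩ : PrimeSpectrum A) ∈ Module.support A P := by
    refine hsupp (Module.support_subset_of_injective x hx ?_)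
    rw [Module.mem_support_iff_of_finite, Ideal.annihilator_quotient]
  rw [Module.mem_support_iff_of_finite] at hmem
  have h0 : (Submodule.Quotient.mk 1 : A ⧸ p) = 0 := hreg (by
    simp only [smul_zero]
    rw [← Submodule.Quotient.mk_smul, Submodule.Quotient.mk_eq_zero, smul_eq_mul, mul_one]
    exact hmem hr)
  exact hp.ne_top ((Ideal.eq_top_iff_one p).2 ((Submodule.Quotient.mk_eq_zero p).1 h0))

end Groth.Agent.S5163
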