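import Groth.Statements.S7038
-- no helpers

set_option autoImplicit false
universe u
open LocCoh

namespace Groth.Agent.S7038

/-- For an ideal I of a commutative ring R and an R-module M, if every element of M is killed by a power
of I then the support of M is contained in the closed set V(I); conversely, when I is finitely
generated and the support of M is contained in V(I), every element of M is killed by a power of I.
(Finite generation is used only for the converse.) -/
theorem result {R : Type u} [CommRing R] (I : Ideal R)
    (M : Type u) [AddCommGroup M] [Module R M] :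
    (LocCoh.IsPowerTorsion I M → Module.support R M ⊆ PrimeSpectrum.zeroLocus (I : Set R)) ∧
    (I.FG → Module.support R M ⊆ PrimeSpectrum.zeroLocus (I : Set R) → LocCoh.IsPowerTorsion I M) := by
  refine ⟨fun h p hp => ?_, fun hI h m => ?_⟩
  · obtain ⟨m, hm⟩ := Module.mem_support_iff_exists_annihilator.1 hp
    obtain ⟨n, hn⟩ := h m
    refine @Ideal.IsPrime.le_of_pow_le _ _ I p.asIdeal p.2 n (le_trans ?_ hm)
    intro a ha
    exact (Submodule.mem_annihilator_span_singleton _ _).2 (hn a ha)
  · have hrad : I ≤ (Submodule.span R {m}).annihilator.radical := by
      rw [Ideal.radical_eq_sInf]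
      refine le_sInf fun q hq => ?_
      exact h (Module.mem_support_iff_exists_annihilator.2 ⟨m, hq.1⟩ : (⟨q, hq.2⟩ : PrimeSpectrum R) ∈ _)
    obtain ⟨n, hn⟩ := Ideal.exists_pow_le_of_le_radical_of_fg hrad hI
    exact ⟨n, fun a ha => (Submodule.mem_annihilator_span_singleton _ _).1 (hn ha)⟩

end Groth.Agent.S7038
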