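import Groth.Statements.S9812
import Mathlib.RingTheory.IntegralClosure.IntegrallyClosed
-- import your own Groth.Agent.* helpers here

set_option autoImplicit false
universe u
open CAlg2

namespace Groth.Agent.S9812

/-- At the level of the local ring: an integrally closed local domain is geometrically unibranch.
Consequently a normal scheme is geometrically unibranch. -/
theorem result (A : Type u) [CommRing A] [IsLocalRing A]
    [IsDomain A] [IsIntegrallyClosed A] : CAlg2.IsGeomUnibranch A := by
  haveI hprime : (nilradical A).IsPrime := by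
    rw [nilradical_eq_zero]; exact Ideal.isPrime_bot
  haveI : IsDomain (CAlg2.red A) := Ideal.Quotient.isDomain _
  haveI : IsLocalRing (CAlg2.red A) :=
    .of_surjective' (Ideal.Quotient.mk (nilradical A)) Ideal.Quotient.mk_surjective
  have e : A ≃+* CAlg2.red A := RingEquiv.ofBijective (Ideal.Quotient.mk (nilradical A))
    ⟨(RingHom.injective_iff_ker_eq_bot _).mpr (by rw [Ideal.mk_ker, nilradical_eq_zero]; rfl),
      Ideal.Quotient.mk_surjective⟩
  haveI : IsIntegrallyClosed (CAlg2.red A) := .of_equiv e
  have hsurj : Function.Surjective (algebraMap (CAlg2.red A) (CAlg2.normRed A)) := by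
    rintro ⟨x, hx⟩
    obtain ⟨y, rfl⟩ := IsIntegrallyClosed.isIntegral_iff.mp hx
    exact ⟨y, rfl⟩
  refine ⟨⟨inferInstance, IsLocalRing.of_surjective' _ hsurj⟩, fun m' _ x => ⟨0, ?_⟩⟩
  rw [pow_zero, pow_one]
  exact (Ideal.Quotient.mk_surjective.comp (hsurj.comp Ideal.Quotient.mk_surjective)) x

end Groth.Agent.S9812
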