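import Groth.Statements.S1561
import Groth.Agent.Lib.AlgMisc.GeomRegAt
import Mathlib

set_option autoImplicit false
set_option backward.isDefEq.respectTransparency false
universe u
open CategoryTheory CategoryTheory.Limits AlgebraicGeometry
open Variety

namespace Groth.Agent.S1561

/-- Regular points are smooth points over a perfect field. -/
theorem mem_of_regular {k : Type u} [Field k] [PerfectField k] {X : Scheme.{u}}
    (f : X ⟶ Spec (CommRingCat.of k)) [LocallyOfFinitePresentation f] (x : X)
    (hx : IsRegularLocalRing (X.presheaf.stalk x)) : x ∈ f.smoothLocus := by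
  obtain ⟨i, p, rfl⟩ := X.affineOpenCover.openCover.exists_eq x
  obtain ⟨A, j, hj, p, hp, hx⟩ : ∃ (A : CommRingCat.{u}) (j : Spec A ⟶ X) (_ : IsOpenImmersion j)
      (q : Spec A), j q = X.affineOpenCover.openCover.f i p ∧ IsRegularLocalRing (X.presheaf.stalk (j q)) :=
    ⟨_, X.affineOpenCover.f i, inferInstance, p, rfl, hx⟩
  rw [← hp]
  let φ := Spec.preimage (j ≫ f)
  algebraize [φ.hom]
  have hj : j ≫ f = Spec.map (CommRingCat.ofHom (algebraMap k A)) := (Spec.map_preimage _).symm
  haveI : LocallyOfFinitePresentation (Spec.map (CommRingCat.ofHom (algebraMap k A))) := by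
    rw [← hj]; infer_instance
  haveI : Algebra.FinitePresentation k A :=
    RingHom.finitePresentation_algebraMap.mp
      ((HasRingHomProperty.Spec_iff (P := @LocallyOfFinitePresentation)).mp inferInstance)
  change p ∈ j ⁻¹ᵁ f.smoothLocus
  rw [Scheme.Hom.preimage_smoothLocus_eq]
  simp only [hj]
  refine (Lib.AlgMisc.GeomRegAt.mem_smoothLocus_spec_iff (k := k) (A := A) p).mpr ?_
  haveI : IsRegularLocalRing ((Spec A).presheaf.stalk p) :=
    Lib.AlgMisc.GeomRegAt.isRegularLocalRing_of_iso (j.stalkMap p)
  letI : Algebra A ((Spec A).presheaf.stalk p) := StructureSheaf.stalkAlgebra (R := A) p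
  haveI : IsLocalization (PrimeSpectrum.asIdeal p).primeCompl ((Spec A).presheaf.stalk p) :=
    StructureSheaf.IsLocalization.to_stalk (R := A) p
  haveI : IsRegularLocalRing (Localization.AtPrime (PrimeSpectrum.asIdeal p)) :=
    IsRegularLocalRing.of_ringEquiv (R := (Spec A).presheaf.stalk p)
      (IsLocalization.algEquiv (PrimeSpectrum.asIdeal p).primeCompl ((Spec A).presheaf.stalk p) _).toRingEquiv
  exact GrothLib.LocProp.isSmoothAt_of_isRegularLocalRing_of_perfectField _

/-- Let X be reduced and locally of finite type over a perfect field k. Then a point lies in the smooth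
locus of X → Spec k exactly when its local ring is regular, and this locus is dense in X. -/
theorem result (k : Type u) [Field k] (X : Scheme.{u}) [X.Over (Spec (CommRingCat.of k))] [PerfectField k] [IsReduced X]
    [LocallyOfFinitePresentation (X ↘ (Spec (CommRingCat.of k)))] :
    (∀ x : X, x ∈ (X ↘ (Spec (CommRingCat.of k))).smoothLocus ↔ IsRegularLocalRing (X.presheaf.stalk x)) ∧
      Dense ((X ↘ (Spec (CommRingCat.of k))).smoothLocus : Set X) := by
  exact ⟨fun x => ⟨fun hx => Lib.AlgMisc.GeomRegAt.isRegularLocalRing_stalk_of_mem_smoothLocus _ hx,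
    mem_of_regular _ x⟩, Scheme.Hom.dense_smoothLocus_of_perfectField _⟩

end Groth.Agent.S1561
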