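import Groth.Statements.S2086
import Groth.Agent.Lib.DepthFlat.Basic
import Groth.Agent.Lib.Faltings.Transfer
import Groth.Agent.Lib.Hensel.FibreLocal
import Groth.Agent.Lib.RegLoc.Basic
-- import your own Groth.Agent.* helpers here

set_option autoImplicit false
universe u
open CAlg

namespace Groth.Agent.S2086

open IsLocalRing

theorem key_local (k : ℕ) (A B F : Type u) [CommRing A] [CommRing B] [CommRing F] [IsLocalRing A] [IsLocalRing B]
    [IsLocalRing F] [IsNoetherianRing A] [IsNoetherianRing B] [IsNoetherianRing F] [Algebra A B]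
    [IsLocalHom (algebraMap A B)] [Module.Flat A B] (e : F ≃+* B ⧸ (maximalIdeal A).map (algebraMap A B))
    (hA : min (k : WithBot ℕ∞) (ringKrullDim A) ≤ ((LocCoh.depth A A : ℕ∞) : WithBot ℕ∞))
    (hF : min (k : WithBot ℕ∞) (ringKrullDim F) ≤ ((LocCoh.depth F F : ℕ∞) : WithBot ℕ∞)) :
    min (k : WithBot ℕ∞) (ringKrullDim B) ≤ ((LocCoh.depth B B : ℕ∞) : WithBot ℕ∞) := by
  have hd := GrothLib.DepthFlat.depth_tensor (R := A) (S := B) (M := A) (N := B)
  have e1 : LocCoh.depth B (TensorProduct A B A) = LocCoh.depth B B :=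
    GrothLib.Depth.idealDepth_eq_of_equiv _ (TensorProduct.AlgebraTensorModule.rid A B B)
  let I := (maximalIdeal A).map (algebraMap A B)
  letI : Algebra B F := (e.symm.toRingHom.comp (Ideal.Quotient.mk I)).toAlgebra
  have hsurj : Function.Surjective (algebraMap B F) := e.symm.surjective.comp Ideal.Quotient.mk_surjective
  haveI : Module.Finite B F := Module.Finite.of_surjective (Algebra.linearMap B F) hsurj
  let eF : (B ⧸ I • (⊤ : Submodule B B)) ≃ₗ[B] F :=
    (Submodule.quotEquivOfEq _ _ (by rw [smul_eq_mul, Ideal.mul_top])).trans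
      ({ e.symm with
          map_smul' := fun b z => by
            obtain ⟨z, rfl⟩ := Ideal.Quotient.mk_surjective z
            exact map_mul e.symm (Ideal.Quotient.mk I b) (Ideal.Quotient.mk I z) } : (B ⧸ I) ≃ₗ[B] F)
  have e2 : LocCoh.depth B (GrothLib.DepthFlat.Fib A B B) = LocCoh.depth F F :=
    (GrothLib.Depth.idealDepth_eq_of_equiv _ eF).trans (GrothLib.Faltings.depth_eq_of_surjective hsurj F)
  rw [e1, e2] at hd
  have : (maximalIdeal B).LiesOver (maximalIdeal A) :=
    ⟨((((local_hom_TFAE (algebraMap A B)).out 0 4 rfl rfl).mp inferInstance)).symm⟩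
  have h3 := Ideal.height_eq_height_add_of_liesOver_of_hasGoingDown (maximalIdeal A) (maximalIdeal B)
  haveI : Nontrivial (B ⧸ I) := e.symm.toEquiv.nontrivial
  haveI : IsLocalRing (B ⧸ I) := IsLocalRing.of_surjective' e.toRingHom e.surjective
  rw [GrothLib.RegLoc.map_maximalIdeal_quotient I] at h3
  rw [ringKrullDim_eq_of_ringEquiv e, ← maximalIdeal_height_eq_ringKrullDim] at hF
  rw [← maximalIdeal_height_eq_ringKrullDim] at hA ⊢
  rw [h3, hd]
  have hA' : min (k : ℕ∞) (maximalIdeal A).height ≤ LocCoh.depth A A := by exact_mod_cast hA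
  have hF' : min (k : ℕ∞) (maximalIdeal (B ⧸ I)).height ≤ LocCoh.depth F F := by exact_mod_cast hF
  have key : ∀ a b c d : ℕ∞, min (k : ℕ∞) a ≤ c → min (k : ℕ∞) b ≤ d → min (k : ℕ∞) (a + b) ≤ c + d := by
    intro a b c d h1 h2
    rcases le_total (k : ℕ∞) a with ha | ha
    · rw [min_eq_left ha] at h1; exact (min_le_left _ _).trans (le_add_right h1)
    rcases le_total (k : ℕ∞) b with hb | hb
    · rw [min_eq_left hb] at h2; exact (min_le_left _ _).trans (le_add_left h2)
    rw [min_eq_right ha] at h1; rw [min_eq_right hb] at h2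
    exact (min_le_right _ _).trans (add_le_add h1 h2)
  exact_mod_cast key _ _ _ _ hA' hF'



/-- Let `R → S` be a flat map of Noetherian rings such that `R` and all fibre rings `S ⊗ κ(𝔭)` satisfy
Serre's condition `(S_k)`. Then `S` satisfies `(S_k)`. -/
theorem result {R S : Type u} [CommRing R] [CommRing S] [IsNoetherianRing R] [IsNoetherianRing S]
    [Algebra R S] [Module.Flat R S] (k : ℕ) (hR : LocCoh.HasSk k R R)
    (hfib : ∀ (p : Ideal R) [p.IsPrime], LocCoh.HasSk k (p.Fiber S) (p.Fiber S)) :
    LocCoh.HasSk k S S := by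
  classical
  rw [GrothLib.Hensel.hasSk_self_iff] at hR ⊢
  intro q _
  let p := q.under R
  let Q := PrimeSpectrum.primesOverOrderIsoFiber R S p ⟨q, inferInstance, ⟨rfl⟩⟩
  have hQ : Q.asIdeal.comap Algebra.TensorProduct.includeRight = q := by
    rw [← PrimeSpectrum.coe_primesOverOrderIsoFiber_symm_apply p Q, OrderIso.symm_apply_apply]
  suffices key : min (k : WithBot ℕ∞) (ringKrullDim (Localization.AtPrime (Q.asIdeal.comap Algebra.TensorProduct.includeRight))) ≤
      ((LocCoh.depth (Localization.AtPrime (Q.asIdeal.comap Algebra.TensorProduct.includeRight))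
        (Localization.AtPrime (Q.asIdeal.comap Algebra.TensorProduct.includeRight)) : ℕ∞) : WithBot ℕ∞) from
    (fun (r : Ideal S) [r.IsPrime] (e : r = q) (h : min (k : WithBot ℕ∞) (ringKrullDim (Localization.AtPrime r)) ≤
      ((LocCoh.depth (Localization.AtPrime r) (Localization.AtPrime r) : ℕ∞) : WithBot ℕ∞)) =>
      (by subst e; exact h : min (k : WithBot ℕ∞) (ringKrullDim (Localization.AtPrime q)) ≤
      ((LocCoh.depth (Localization.AtPrime q) (Localization.AtPrime q) : ℕ∞) : WithBot ℕ∞))) _ hQ key
  have hover : (Q.asIdeal.comap Algebra.TensorProduct.includeRight : Ideal S).LiesOver p := by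
    rw [hQ]; exact ⟨rfl⟩
  let _ := Localization.AtPrime.algebraOfLiesOver p (Q.asIdeal.comap Algebra.TensorProduct.includeRight : Ideal S)
  let e := (Ideal.Fiber.localizationAlgEquivQuotient p Q.asIdeal).toRingEquiv
  have hF := hfib p
  haveI : IsNoetherianRing (p.Fiber S) := by
    haveI : IsNoetherianRing (TensorProduct R S p.ResidueField) := Algebra.EssFiniteType.isNoetherianRing S _
    exact isNoetherianRing_of_ringEquiv _ (Algebra.TensorProduct.comm R S p.ResidueField).toRingEquiv
  rw [GrothLib.Hensel.hasSk_self_iff] at hF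
  have hm : (IsLocalRing.maximalIdeal (Localization.AtPrime p)).map
      (algebraMap (Localization.AtPrime p)
        (Localization.AtPrime (Q.asIdeal.comap Algebra.TensorProduct.includeRight))) =
      p.map (algebraMap R _) := by
    rw [← Localization.AtPrime.map_eq_maximalIdeal, Ideal.map_map, ← IsScalarTower.algebraMap_eq]
  haveI : Module.Flat (Localization.AtPrime p) (Localization.AtPrime (Q.asIdeal.comap Algebra.TensorProduct.includeRight)) :=
    (Module.flat_iff_of_isLocalization (Localization.AtPrime p) p.primeCompl _).mpr (Module.Flat.trans R S _)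
  haveI : IsNoetherianRing (Localization.AtPrime p) := IsLocalization.isNoetherianRing p.primeCompl _ inferInstance
  haveI : IsNoetherianRing (Localization.AtPrime (Q.asIdeal.comap Algebra.TensorProduct.includeRight)) :=
    IsLocalization.isNoetherianRing (Q.asIdeal.comap Algebra.TensorProduct.includeRight : Ideal S).primeCompl _ inferInstance
  haveI : IsNoetherianRing (Localization.AtPrime Q.asIdeal) := IsLocalization.isNoetherianRing Q.asIdeal.primeCompl _ inferInstance
  exact key_local k _ _ _ (e.trans (Ideal.quotEquivOfEq hm.symm)) (hR p) (hF Q.asIdeal)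

end Groth.Agent.S2086
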