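import Groth.Statements.S19530
import Groth.Agent.Lib.SubtrLim.Criterion

set_option autoImplicit false
set_option backward.isDefEq.respectTransparency false
universe u
open CategoryTheory CategoryTheory.Limits AlgebraicGeometry
open Subtr

namespace Groth.Agent.S19530

open IsLocalRing GrothLib.HTop

/-- A valuation ring point can be extended along a specialisation of its closed point. -/
lemma exists_extend {Y : Scheme.{u}} {V : CommRingCat.{u}} [IsDomain V] [ValuationRing V]
    (g : Spec V ⟶ Y) {y : Y} (h : g (closed V) ⤳ y) :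
    ∃ (V' : CommRingCat.{u}) (_ : IsDomain V') (_ : ValuationRing V') (j : Spec V ⟶ Spec V')
      (g' : Spec V' ⟶ Y), j ≫ g' = g ∧ g' (closed V') = y := by
  classical
  let ψ : Y.presheaf.stalk (g (closed V)) ⟶ V := Scheme.stalkClosedPointTo g
  let χ : Y.presheaf.stalk y ⟶ V := Y.presheaf.stalkSpecializes h ≫ ψ
  obtain ⟨A, hA, hAloc⟩ := IsLocalRing.exists_factor_valuationRing ((residue V).comp χ.hom)
  let V' : Subring V := A.toSubring.comap (residue V)
  haveI : IsDomain V' := inferInstance
  haveI : PreValuationRing V' := ⟨fun a b => by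
    obtain ⟨c, hc⟩ := ValuationRing.cond (a : V) (b : V)
    by_cases hcA : residue V c ∈ A
    · rcases hc with hc | hc
      · exact ⟨⟨c, hcA⟩, Or.inl (Subtype.ext hc)⟩
      · exact ⟨⟨c, hcA⟩, Or.inr (Subtype.ext hc)⟩
    · have hc0 : residue V c ≠ 0 := fun h0 => hcA (h0 ▸ zero_mem A)
      have hu : IsUnit c := residue_ne_zero_iff_isUnit c |>.mp hc0
      have hinv : residue V (↑hu.unit⁻¹ : V) ∈ A := by
        have h1 : residue V c * residue V (↑hu.unit⁻¹ : V) = 1 := by
          rw [← map_mul, IsUnit.mul_val_inv, map_one]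
        rw [eq_inv_of_mul_eq_one_right h1]
        exact (A.mem_or_inv_mem _).resolve_left hcA
      rcases hc with hc | hc
      · refine ⟨⟨(↑hu.unit⁻¹ : V), hinv⟩, Or.inr (Subtype.ext ?_)⟩
        show (b : V) * ↑hu.unit⁻¹ = a
        rw [← hc, mul_assoc, IsUnit.mul_val_inv, mul_one]
      · refine ⟨⟨(↑hu.unit⁻¹ : V), hinv⟩, Or.inl (Subtype.ext ?_)⟩
        show (a : V) * ↑hu.unit⁻¹ = b
        rw [← hc, mul_assoc, IsUnit.mul_val_inv, mul_one]⟩
  haveI : ValuationRing V' := {}
  let χ' : Y.presheaf.stalk y →+* V' := χ.hom.codRestrict V' hA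
  haveI hloc : IsLocalHom χ' := ⟨fun a ha => by
    let π : V' →+* A.toSubring := ((residue V).comp V'.subtype).codRestrict A.toSubring fun c => c.2
    haveI := hAloc
    exact isUnit_of_map_unit (((residue V).comp χ.hom).codRestrict A.toSubring hA) a (ha.map π)⟩
  refine ⟨CommRingCat.of V', inferInstance, inferInstance, Spec.map (CommRingCat.ofHom V'.subtype),
    Spec.map (CommRingCat.ofHom χ') ≫ Y.fromSpecStalk y, ?_, ?_⟩
  · rw [← Category.assoc, ← Spec.map_comp, show (CommRingCat.ofHom χ' ≫ CommRingCat.ofHom V'.subtype) = χ from rfl]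
    simp only [χ, ψ]
    rw [Spec.map_comp, Category.assoc, Scheme.SpecMap_stalkSpecializes_fromSpecStalk]
    exact Scheme.Spec_stalkClosedPointTo_fromSpecStalk g
  · rw [Scheme.Hom.comp_apply]
    exact (congrArg (Y.fromSpecStalk y) (IsLocalRing.comap_closedPoint χ')).trans Y.fromSpecStalk_closedPoint

/-- A finite chain of specialisations is realised by a valuation ring. -/
lemma exists_chain {Y : Scheme.{u}} : ∀ (n : ℕ) (y : Fin (n + 1) → Y), (∀ i j : Fin (n + 1), i ≤ j → y i ⤳ y j) →
    ∃ (V : CommRingCat.{u}) (_ : IsDomain V) (_ : ValuationRing V) (g : Spec V ⟶ Y)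
      (v : Fin (n + 1) → Spec V), (∀ i j : Fin (n + 1), i ≤ j → v i ⤳ v j) ∧ (∀ i, g (v i) = y i) ∧
        v (Fin.last n) = closed V
  | 0, y, _ => by
    obtain ⟨V, i1, i2, g, -, hg⟩ := exists_valuationRing_map (specializes_refl (y 0))
    exact ⟨V, i1, i2, g, fun _ => closed V, fun i j _ => specializes_refl _,
      fun i => by rw [hg, show i = 0 from Fin.ext (by omega)], rfl⟩
  | n + 1, y, hy => by
    obtain ⟨V, _, _, g, v, hv, hgv, hlast⟩ := exists_chain n (fun i => y i.castSucc)
      (fun i j hij => hy _ _ (Fin.castSucc_le_castSucc_iff.mpr hij))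
    obtain ⟨V', i1, i2, j, g', hj, hg'⟩ := exists_extend g
      (show g (closed V) ⤳ y (Fin.last (n + 1)) by rw [← hlast, hgv]; exact hy _ _ (Fin.le_last _))
    refine ⟨V', i1, i2, g', Fin.snoc (fun i => j (v i)) (closed V'), fun a b hab => ?_, fun a => ?_,
      Fin.snoc_last _ _⟩
    · induction b using Fin.lastCases with
      | last => rw [Fin.snoc_last]; exact specializes_closed _
      | cast b =>
        induction a using Fin.lastCases with
        | last => exact absurd hab (not_le.mpr (Fin.castSucc_lt_last b))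
        | cast a =>
          rw [Fin.snoc_castSucc, Fin.snoc_castSucc]
          exact (hv a b (Fin.castSucc_le_castSucc_iff.mp hab)).map j.continuous
    · induction a using Fin.lastCases with
      | last => rw [Fin.snoc_last]; exact hg'
      | cast a => rw [Fin.snoc_castSucc, ← Scheme.Hom.comp_apply, hj]; exact hgv a


/-- Let f : X ⟶ Y be a morphism of schemes such that every base change of f has the lifting property for
ordered pairs of points (every point together with a specialization of it is the image of such a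
pair). Then every finite chain of points y_0, y_1, …, y_n of Y, in which y_j is a specialization of
y_i whenever i ≤ j, lifts to a chain in X: there are points x_0, …, x_n of X with x_j a
specialization of x_i for i ≤ j and f(x_i) = y_i for every i. (The published statement is for
universally subtrusive f, which adds submersiveness for the constructible topologies, and for
arbitrary chains having a lower bound in Y; this row keeps the pair-lifting property alone and
finite chains, whose most special member is a lower bound.) -/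
theorem result {X Y : Scheme.{u}} (f : X ⟶ Y)
    (hf : Subtr.UnivSSubtrusive f) (n : ℕ) (y : Fin (n + 1) → Y)
    (hy : ∀ i j : Fin (n + 1), i ≤ j → y i ⤳ y j) :
    ∃ x : Fin (n + 1) → X, (∀ i j : Fin (n + 1), i ≤ j → x i ⤳ x j) ∧ ∀ i, f (x i) = y i := by
  classical
  obtain ⟨V, _, _, g, v, hv, hgv, -⟩ := exists_chain n y hy
  obtain ⟨x, x', hx, hbx, hbx'⟩ := GrothLib.SubtrLim.univSSubtrusive_iff_valPair.mp hf V g _ _
    (IsPullback.of_hasPullback f g)
  obtain ⟨W, _, _, l, hl, hl'⟩ := exists_valuationRing_map hx
  haveI hb : Surjective (l ≫ pullback.snd f g) := GrothLib.SubtrLim.surjective_of_gen_closed _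
    (by rw [Scheme.Hom.comp_apply, hl, hbx']) (by rw [Scheme.Hom.comp_apply, hl', hbx])
  let σ := Function.surjInv (l ≫ pullback.snd f g).surjective
  have hσ : ∀ z, (l ≫ pullback.snd f g) (σ z) = z := Function.surjInv_eq _
  refine ⟨fun i => (l ≫ pullback.fst f g) (σ (v i)), fun i j hij => ?_, fun i => ?_⟩
  · refine Specializes.map ?_ (l ≫ pullback.fst f g).continuous
    rcases (le_total (σ (v i) : PrimeSpectrum W).asIdeal (σ (v j) : PrimeSpectrum W).asIdeal) with h | h
    · exact (PrimeSpectrum.le_iff_specializes (σ (v i) : PrimeSpectrum W) (σ (v j))).mp h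
    · have h' : (l ≫ pullback.snd f g) (σ (v j)) ⤳ (l ≫ pullback.snd f g) (σ (v i)) :=
        (((PrimeSpectrum.le_iff_specializes (σ (v j) : PrimeSpectrum W) (σ (v i))).mp h) :
          σ (v j) ⤳ σ (v i)).map (l ≫ pullback.snd f g).continuous
      rw [hσ, hσ] at h'
      rw [((hv i j hij).antisymm h').eq]
  · rw [← Scheme.Hom.comp_apply, Category.assoc, pullback.condition, ← Category.assoc, Scheme.Hom.comp_apply,
      hσ, hgv]

end Groth.Agent.S19530
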