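import Groth.Agent.Lib.AffDom.PointDim
import Groth.Agent.Lib.K0Sub.Coh

set_option autoImplicit false
universe u
open CategoryTheory AlgebraicGeometry
open TopologicalSpace

namespace Groth.Agent.S17411

open GrothLib

/-- A point of an irreducible scheme over a field lying over the generic point of an equidimensional
target is generic. -/
lemma eq_genericPoint_of_map {k : Type u} [Field k] {Y Z : Scheme.{u}} [IrreducibleSpace Y]
    [IrreducibleSpace Z] (g : Y ⟶ Spec (CommRingCat.of k)) (h : Z ⟶ Spec (CommRingCat.of k))
    [LocallyOfFiniteType g] [LocallyOfFiniteType h] (η : Y ⟶ Z) (hη : η ≫ h = g)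
    (hdim : topologicalKrullDim Y = topologicalKrullDim Z) (y : Y) (hy : η y = genericPoint Z) :
    y = genericPoint Y := by
  by_contra hne
  obtain ⟨n, hn, hn'⟩ := AffDom.exists_dim_closure g y
  obtain ⟨m, hm, hm'⟩ := AffDom.exists_dim_closure h (η y)
  have h1 : ((n + 1 : ℕ) : WithBot ℕ∞) ≤ topologicalKrullDim Y :=
    le_trans (K0Sub.dim_closure_lt (genericPoint_specializes y) (Ne.symm hne) n hn.ge)
      (topologicalKrullDim_subspace_le _ _)
  have h2 : topologicalKrullDim Z = m := by
    rw [← hm, hy, genericPoint_closure, (Homeomorph.Set.univ Z).isHomeomorph.topologicalKrullDim_eq]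
  have h3 : (m : Cardinal.{u}) ≤ n := by
    subst hη
    rw [← hn', ← hm', AffDom.ptTrdeg, AffDom.ptTrdeg]
    letI := (AffDom.toRes h (η y)).toAlgebra
    letI := (η.residueFieldMap y).hom.toAlgebra
    letI := (AffDom.toRes (η ≫ h) y).toAlgebra
    haveI : IsScalarTower k (Z.residueField (η y)) (Y.residueField y) :=
      IsScalarTower.of_algebraMap_eq' (AffDom.toRes_comp η h y)
    exact (self_le_add_right _ _).trans (trdeg_add_eq k (Z.residueField (η y)) (A := Y.residueField y)).le
  rw [hdim, h2] at h1
  have : n + 1 ≤ m := by exact_mod_cast h1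
  have : m ≤ n := by exact_mod_cast h3
  omega


/-- Let k be an algebraically closed field of characteristic zero and X, Y, Z schemes of finite type
over k, with Y and Z irreducible of the same dimension, η : Y → Z a dominant k-morphism and ρ : X →
Y a k-morphism. Then the composite ρ ≫ η is dominant exactly when ρ is dominant. (The published
statement concerns the forgetful map from the moduli space of étale double covers of genus-five
curves to the moduli space of genus-five curves, both irreducible of dimension 12, and a morphism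
into the former; its argument uses only the hypotheses kept here.) -/
theorem result (k : Type u) [Field k] [IsAlgClosed k]
    [CharZero k] (X Y Z : Scheme.{u}) [X.Over (Spec (CommRingCat.of k))] [Y.Over (Spec (CommRingCat.of k))]
    [Z.Over (Spec (CommRingCat.of k))]
    [LocallyOfFiniteType (X ↘ Spec (CommRingCat.of k))] [QuasiCompact (X ↘ Spec (CommRingCat.of k))]
    [LocallyOfFiniteType (Y ↘ Spec (CommRingCat.of k))] [QuasiCompact (Y ↘ Spec (CommRingCat.of k))]
    [LocallyOfFiniteType (Z ↘ Spec (CommRingCat.of k))] [QuasiCompact (Z ↘ Spec (CommRingCat.of k))]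
    [IrreducibleSpace Y] [IrreducibleSpace Z] (hdim : topologicalKrullDim Y = topologicalKrullDim Z)
    (ρ : X ⟶ Y) [ρ.IsOver (Spec (CommRingCat.of k))] (η : Y ⟶ Z) [η.IsOver (Spec (CommRingCat.of k))]
    [IsDominant η] :
    IsDominant (ρ ≫ η) ↔ IsDominant ρ := by
  refine ⟨fun hd => ?_, fun hρ => inferInstance⟩
  haveI : CompactSpace X := QuasiCompact.compactSpace_of_compactSpace (X ↘ Spec (CommRingCat.of k))
  haveI : IsLocallyNoetherian X := LocallyOfFiniteType.isLocallyNoetherian (X ↘ Spec (CommRingCat.of k))
  haveI : IsNoetherian X := ⟨⟩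
  have hfin : (irreducibleComponents X).Finite := NoetherianSpace.finite_irreducibleComponents
  have hcover : Set.range (ρ ≫ η) ⊆ ⋃ C ∈ irreducibleComponents X, closure ((ρ ≫ η) '' C) := by
    rintro _ ⟨x, rfl⟩
    exact Set.mem_biUnion (irreducibleComponent_mem_irreducibleComponents x)
      (subset_closure ⟨x, mem_irreducibleComponent, rfl⟩)
  have hu : genericPoint Z ∈ ⋃ C ∈ irreducibleComponents X, closure ((ρ ≫ η) '' C) :=
    closure_minimal hcover (hfin.isClosed_biUnion fun _ _ => isClosed_closure)
      (by rw [(ρ ≫ η).denseRange.closure_range]; exact Set.mem_univ _)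
  obtain ⟨C, hC, hmem⟩ := Set.mem_iUnion₂.1 hu
  have hgen : IsGenericPoint ((ρ ≫ η) hC.1.genericPoint) (closure ((ρ ≫ η) '' C)) :=
    (hC.1.isGenericPoint_genericPoint (isClosed_of_mem_irreducibleComponents C hC)).image
      (ρ ≫ η).continuous
  have heq : η (ρ hC.1.genericPoint) = genericPoint Z :=
    (((genericPoint_specializes _).antisymm (hgen.specializes hmem)).eq).symm
  have hy := eq_genericPoint_of_map (Y ↘ Spec (CommRingCat.of k)) (Z ↘ Spec (CommRingCat.of k)) η
    (CategoryTheory.comp_over η (Spec (CommRingCat.of k))) hdim _ heq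
  refine ⟨fun y => ?_⟩
  refine closure_mono (Set.singleton_subset_iff.2 ?_) (genericPoint_specializes y).mem_closure
  exact ⟨_, hy⟩

end Groth.Agent.S17411
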