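import Groth.Statements.S6801
-- import your own Groth.Agent.* helpers here

set_option autoImplicit false
open CategoryTheory
universe v u
open SpSeq SpSeq.FilObj

namespace Groth.Agent.S6801
open CategoryTheory.Limits

lemma mapMono_image {A : Type u} [Category.{v} A] [Abelian A] {W X Y : A} (h : W ⟶ X) (g : X ⟶ Y) [Mono g] :
    imageSubobject (h ≫ g) = (Subobject.map g).obj (imageSubobject h) := by
  refine le_antisymm ?_ ?_
  · conv_rhs => rw [← Subobject.mk_arrow (imageSubobject h), Subobject.map_mk]
    exact imageSubobject_le_mk _ _ (factorThruImageSubobject h) (by rw [← Category.assoc, imageSubobject_arrow_comp])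
  · refine (((Subobject.mapPullbackAdj g).homEquiv _ _).symm (homOfLE ?_)).le
    refine imageSubobject_le _ ((Subobject.isPullback g (imageSubobject (h ≫ g))).lift
      (factorThruImageSubobject (h ≫ g)) h (imageSubobject_arrow_comp _)) ?_
    exact IsPullback.lift_snd _ _ _ _


/-- The composite of two strict morphisms of filtered objects is strict when the second one is a
monomorphism. (In general a composite of strict morphisms is not strict.) -/
theorem result {A : Type u} [Category.{v} A] [Abelian A] {K L M : SpSeq.FilObj A} (f : K ⟶ L) (g : L ⟶ M) (hf : SpSeq.FilObj.IsStrict f) (hg : SpSeq.FilObj.IsStrict g) [Mono g.hom] : SpSeq.FilObj.IsStrict (f ≫ g) := by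
  intro p
  change imageSubobject ((K.fil p).arrow ≫ f.hom ≫ g.hom) = imageSubobject (f.hom ≫ g.hom) ⊓ M.fil p
  rw [← Category.assoc, mapMono_image, hf p, Subobject.inf_map, ← mapMono_image]
  conv_lhs => rw [← Subobject.mk_arrow (L.fil p), ← imageSubobject_mono, ← mapMono_image, hg p]
  rw [← inf_assoc, inf_eq_left.2 (imageSubobject_comp_le f.hom g.hom)]

end Groth.Agent.S6801
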