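import Groth.Statements.S10862
import Groth.Agent.Lib.Japanese.Field

set_option autoImplicit false
universe u
open CAlg

namespace Groth.Agent.S10862

/-- For a field k, an integral domain A of finite type over k with fraction field K, and a finite field
extension L of K, the integral closure of A in L is a finitely generated A-module. -/
theorem result (k A K L : Type u) [Field k] [CommRing A] [IsDomain A]
    [Algebra k A] [Algebra.FiniteType k A] [Field K] [Field L] [Algebra A K] [IsFractionRing A K] [Algebra K L]
    [FiniteDimensional K L] [Algebra A L] [IsScalarTower A K L] : Module.Finite A (integralClosure A L) := by
  exact GrothLib.Japanese.finite_integralClosure k A K L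

end Groth.Agent.S10862
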