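import Groth.Statements.S7662
import Groth.Agent.Lib.AffUnion.Finset
import Groth.Agent.Lib.Thickening.Affine

set_option autoImplicit false
universe u
open CategoryTheory CategoryTheory.Limits AlgebraicGeometry
open Variety

namespace Groth.Agent.S7662

open GrothLib.AffUnion

/-- The reduced closed subscheme on a closed set. -/
noncomputable abbrev ι {X : Scheme.{u}} (C : TopologicalSpace.Closeds X) :=
  (Scheme.IdealSheafData.vanishingIdeal C).subschemeι

theorem range_ι {X : Scheme.{u}} (C : TopologicalSpace.Closeds X) : Set.range (ι C) = (C : Set X) := by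
  rw [Scheme.IdealSheafData.range_subschemeι, Scheme.IdealSheafData.coe_support_vanishingIdeal]

def Good {X : Scheme.{u}} (T : Finset X) (C : TopologicalSpace.Closeds X) : Prop :=
  ∃ U : X.Opens, (∀ t ∈ T, t ∈ (C : Set X) → t ∈ U) ∧ IsAffineOpen (ι C ⁻¹ᵁ U)

theorem good_sup {X : Scheme.{u}} (T : Finset X) (C D : TopologicalSpace.Closeds X) (hC : Good T C)
    (hD : Good T D) : Good T (C ⊔ D) := by
  obtain ⟨UC, hTC, hUC⟩ := hC
  obtain ⟨UD, hTD, hUD⟩ := hD
  obtain ⟨U, hU₁, hU₂, hTU⟩ := exists_common (ι C) (ι D) UC UD hUC hUD T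
    (fun t ht hr => hTC t ht (by rwa [range_ι] at hr)) (fun t ht hr => hTD t ht (by rwa [range_ι] at hr))
  refine ⟨U, fun t ht _ => hTU t ht, ?_⟩
  let j₁ := Scheme.IdealSheafData.inclusion (Scheme.IdealSheafData.vanishingIdeal_antimono (le_sup_left : C ≤ C ⊔ D))
  let j₂ := Scheme.IdealSheafData.inclusion (Scheme.IdealSheafData.vanishingIdeal_antimono (le_sup_right : D ≤ C ⊔ D))
  have e₁ : j₁ ≫ ι (C ⊔ D) = ι C := Scheme.IdealSheafData.inclusion_subschemeι _
  have e₂ : j₂ ≫ ι (C ⊔ D) = ι D := Scheme.IdealSheafData.inclusion_subschemeι _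
  have : IsClosedImmersion (j₁ ≫ ι (C ⊔ D)) := e₁ ▸ inferInstance
  have : IsClosedImmersion (j₂ ≫ ι (C ⊔ D)) := e₂ ▸ inferInstance
  have : IsClosedImmersion j₁ := IsClosedImmersion.of_comp j₁ (ι (C ⊔ D))
  have : IsClosedImmersion j₂ := IsClosedImmersion.of_comp j₂ (ι (C ⊔ D))
  refine isAffineOpen_of_two (ι (C ⊔ D)) j₁ j₂ (Set.eq_univ_of_forall fun y => ?_) U ?_ ?_
  · have hy : ι (C ⊔ D) y ∈ ((C ⊔ D : TopologicalSpace.Closeds X) : Set X) := range_ι (C ⊔ D) ▸ ⟨y, rfl⟩
    rw [TopologicalSpace.Closeds.coe_sup] at hy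
    rcases hy with hy | hy <;> rw [← range_ι] at hy <;> obtain ⟨z, hz⟩ := hy
    · refine Or.inl ⟨z, (ι (C ⊔ D)).isClosedEmbedding.injective ?_⟩
      rw [← hz, ← e₁]; rfl
    · refine Or.inr ⟨z, (ι (C ⊔ D)).isClosedEmbedding.injective ?_⟩
      rw [← hz, ← e₂]; rfl
  · rw [← Scheme.Hom.comp_preimage, e₁]; exact hU₁
  · rw [← Scheme.Hom.comp_preimage, e₂]; exact hU₂

/-- Let X be a scheme with finitely many irreducible components Z_1, …, Z_t and T ⊆ X a finite set of
points such that, for each i, some affine open of Z_i with its reduced closed subscheme structure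
contains the points of T on Z_i. Then some affine open of X contains every point of T. -/
theorem result (X : Scheme.{u})
    (hX : (irreducibleComponents (X : Type u)).Finite) (T : Finset X)
    (h : ∀ (Z : Set X) (hZ : Z ∈ irreducibleComponents (X : Type u)),
      ∃ V : (Scheme.IdealSheafData.vanishingIdeal
          (⟨Z, isClosed_of_mem_irreducibleComponents Z hZ⟩ : TopologicalSpace.Closeds X)).subscheme.Opens,
        IsAffineOpen V ∧ ∀ t ∈ T, t ∈ Z → t ∈ (Scheme.IdealSheafData.vanishingIdeal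
          (⟨Z, isClosed_of_mem_irreducibleComponents Z hZ⟩ : TopologicalSpace.Closeds X)).subschemeι.base '' (V : Set _)) :
    ∃ U : X.Opens, IsAffineOpen U ∧ ∀ t ∈ T, t ∈ U := by
  classical
  have hbot : Good T (⊥ : TopologicalSpace.Closeds X) :=
    ⟨⊥, fun t _ ht => absurd ht (Set.notMem_empty t), isAffineOpen_bot _⟩
  have hall : ∀ F : Finset (TopologicalSpace.Closeds X),
      (∀ C ∈ F, (C : Set X) ∈ irreducibleComponents (X : Type u)) → Good T (F.sup id) := by
    intro F hF
    refine Finset.sup_induction hbot (fun C hC D hD => good_sup T C D hC hD) fun C hC => ?_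
    obtain ⟨V, hV, hTV⟩ := h C (hF C hC)
    obtain ⟨U, hU⟩ := exists_open_eq_preimage (ι C) V
    refine ⟨U, fun t ht htC => ?_, hU.symm ▸ hV⟩
    obtain ⟨z, hz, rfl⟩ := hTV t ht htC
    exact (show z ∈ ι C ⁻¹ᵁ U from hU.symm ▸ hz)
  let F : Finset (TopologicalSpace.Closeds X) :=
    hX.toFinset.attach.image fun Z => ⟨Z.1, isClosed_of_mem_irreducibleComponents Z.1 (hX.mem_toFinset.mp Z.2)⟩
  obtain ⟨U, hTU, hU⟩ := hall F fun C hC => by
    obtain ⟨Z, -, rfl⟩ := Finset.mem_image.mp hC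
    exact hX.mem_toFinset.mp Z.2
  have htop : ∀ x : X, x ∈ ((F.sup id : TopologicalSpace.Closeds X) : Set X) := fun x => by
    have hm := hX.mem_toFinset.mpr (irreducibleComponent_mem_irreducibleComponents x)
    have hle : (⟨irreducibleComponent x, isClosed_irreducibleComponent⟩ : TopologicalSpace.Closeds X) ≤ F.sup id :=
      Finset.le_sup (f := id) (Finset.mem_image.mpr ⟨⟨_, hm⟩, Finset.mem_attach _ _, rfl⟩)
    exact hle mem_irreducibleComponent
  refine ⟨U, ?_, fun t ht => hTU t ht (htop t)⟩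
  have : IsAffine (ι (F.sup id) ⁻¹ᵁ U : Scheme) := hU
  have : IsClosedImmersion (ι (F.sup id) ∣_ U) :=
    MorphismProperty.of_isPullback (isPullback_morphismRestrict _ U).flip inferInstance
  have : Surjective (ι (F.sup id) ∣_ U) := ⟨fun y => by
    obtain ⟨z, hz⟩ : y.1 ∈ Set.range (ι (F.sup id)) := by rw [range_ι]; exact htop y.1
    exact ⟨⟨z, show ι (F.sup id) z ∈ U from hz ▸ y.2⟩, Subtype.ext (Eq.trans (by simp [morphismRestrict_base]) hz)⟩⟩
  exact GrothLib.Thickening.isAffine_of_thickening (ι (F.sup id) ∣_ U)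

end Groth.Agent.S7662
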