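import Groth.Statements.S3024
import Groth.Agent.Lib.AntiAffine.Image
import Groth.Agent.Lib.LocNoeth.Scheme
import Groth.Agent.Lib.GrpSchField.Open
import Groth.Agent.S5354
import Mathlib.AlgebraicGeometry.Morphisms.SchemeTheoreticallyDominant

set_option autoImplicit false
universe u
open CategoryTheory MonoidalCategory CartesianMonoidalCategory MonObj GrpObj AlgebraicGeometry TensorProduct
open SGA3

namespace Groth.Agent.S3024

/-- Let f : H → G be a quasi-compact homomorphism of group schemes over a field k. Then f factors as a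
homomorphism f' : H → H' followed by a homomorphism i : H' → G which is a closed immersion (H' is
the schematic image of f, a closed subgroup scheme of G), with f' schematically dominant,
quasi-compact and surjective. -/
theorem result (k : Type u) [Field k] (H G : Over (Spec (CommRingCat.of k))) [GrpObj H] [GrpObj G]
    (f : H ⟶ G) [IsMonHom f] [QuasiCompact f.left] :
    ∃ (H' : Over (Spec (CommRingCat.of k))) (_ : GrpObj H') (i : H' ⟶ G) (f' : H ⟶ H'),
      IsMonHom i ∧ IsMonHom f' ∧ f' ≫ i = f ∧ IsClosedImmersion i.left ∧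
      f'.left.ker = ⊥ ∧ QuasiCompact f'.left ∧ Surjective f'.left := by
  obtain ⟨M, gM, j, hj, hjc, g, hgj, hd, hq⟩ := GrothLib.AntiAffine.exists_image_subgroup f
  haveI := hd
  haveI := hq
  haveI := hj
  haveI := hjc
  haveI : Mono j := Over.mono_of_mono_left j
  haveI : IsMonHom g :=
    { one_hom := by rw [← cancel_mono j, Category.assoc, hgj, IsMonHom.one_hom, IsMonHom.one_hom]
      mul_hom := by
        rw [← cancel_mono j, Category.assoc, hgj, IsMonHom.mul_hom, Category.assoc, IsMonHom.mul_hom,
          ← Category.assoc, tensorHom_comp_tensorHom, hgj] }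
  refine ⟨M, gM, j, g, hj, inferInstance, hgj, hjc, Scheme.Hom.ker_eq_bot _, hq, ⟨fun x => ?_⟩⟩
  obtain ⟨z, hz, h1, h2⟩ := Groth.Agent.S5354.result k M x
  have hm : ∀ y : M.left, closure {y} ∈ irreducibleComponents ↥M.left → y ∈ Set.range g.left := fun y hy =>
    GrothLib.LocNoeth.mem_range_of_maximal g.left hy (g.left.denseRange y)
  rw [← hz]
  exact GrothLib.GrpSchField.mem_range_of_pair (ψ := g) (f := μ[M]) (f' := μ[H]) (IsMonHom.mul_hom g).symm
    (hm _ h1) (hm _ h2)

end Groth.Agent.S3024
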