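import Groth.Statements.S16674
import Groth.Agent.Lib.Versch.Etale
import Groth.Agent.Lib.Hopf.EtaleOrder
import Groth.Agent.Lib.OT.Eigen
import Groth.Agent.Lib.OT.Rank
import Groth.Agent.Lib.Dual.Eval
import Groth.Agent.Lib.ArtAC.Basic
import Mathlib.GroupTheory.Perm.Cycle.Type
import Mathlib.RingTheory.HopfAlgebra.Convolution
import Mathlib.FieldTheory.IsAlgClosed.AlgebraicClosure
import Mathlib.RingTheory.Unramified.Field
import Mathlib.LinearAlgebra.Dual.Lemmas

set_option autoImplicit false
universe u
open CartDual

namespace Groth.Agent.S16674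

open scoped TensorProduct

theorem powConv_succ {K : Type u} [Field K] {B : Type u} [CommRing B] [HopfAlgebra K B] (n : ℕ) :
    SGA3b.powConv K B (n + 1) =
      (WithConv.toConv (SGA3b.powConv K B n) * WithConv.toConv (AlgHom.id K B)).ofConv := by
  simp [SGA3b.powConv, pow_succ]

theorem not_dvd_card_points {K : Type u} [Field K] {B : Type u} [CommRing B] [HopfAlgebra K B]
    (p : ℕ) [Fact p.Prime] [Finite (WithConv (B →ₐ[K] K))]
    (hs : Function.Surjective (SGA3b.powConv K B p)) : ¬ p ∣ Nat.card (WithConv (B →ₐ[K] K)) := by
  intro hd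
  obtain ⟨g, hg⟩ := exists_prime_orderOf_dvd_card' p hd
  have hg1 : g ^ p = 1 := by rw [← hg]; exact pow_orderOf_eq_one g
  have key : ∀ (h : WithConv (B →ₐ[K] K)) (n : ℕ),
      h ^ n = WithConv.toConv (h.ofConv.comp (SGA3b.powConv K B n)) := by
    intro h n
    induction n with
    | zero =>
      refine WithConv.ext (AlgHom.ext fun a => ?_)
      simp [GrothLib.OT.powConv_zero_apply]
    | succ n ih =>
      refine WithConv.ext ?_
      rw [pow_succ, ih, powConv_succ]
      rw [WithConv.ofConv_toConv, AlgHom.comp_convMul_distrib]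
      simp only [WithConv.ofConv_toConv, WithConv.toConv_ofConv, AlgHom.comp_id]
  have h1 : (1 : WithConv (B →ₐ[K] K)) = WithConv.toConv ((1 : WithConv (B →ₐ[K] K)).ofConv.comp (SGA3b.powConv K B p)) :=
    by
    have h := key 1 p
    rw [one_pow] at h
    exact h
  have : g = 1 := by
    refine WithConv.ext (AlgHom.ext fun a => ?_)
    obtain ⟨b, rfl⟩ := hs a
    have e := ((key g p).symm.trans hg1).trans h1
    exact AlgHom.congr_fun (congrArg WithConv.ofConv e) b
  exact (Fact.out : p.Prime).ne_one (by rw [← hg, this, orderOf_one])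

/-- Let k be a field of characteristic p > 0 and A a finite-dimensional commutative and cocommutative
Hopf algebra over k, the coordinate ring of a finite commutative k-group scheme G, with Cartier dual
the convolution Hopf algebra Hom_k(A, k). Then G is étale-étale, i.e. both A and its dual are étale
k-algebras, if and only if p does not divide the rank dim_k A of G. -/
theorem result (k : Type u) [Field k] (p : ℕ) [Fact p.Prime] [CharP k p]
    (A : Type u) [CommRing A] [HopfAlgebra k A] [Coalgebra.IsCocomm k A] [FiniteDimensional k A] :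
    (Algebra.Etale k A ∧ Algebra.Etale k (CartDual.D k A)) ↔ ¬ p ∣ Module.finrank k A := by
  have hD : Module.finrank k (CartDual.D k A) = Module.finrank k A :=
    (CartDual.toDual k A).finrank_eq.trans Subspace.dual_finrank_eq
  constructor
  · rintro ⟨hA, hDe⟩ hdvd
    haveI := hA
    haveI : CharP A p := charP_of_injective_algebraMap (Bialgebra.algebraMap_injective (R := k) A) p
    obtain ⟨n, e, f, h⟩ := GrothLib.Versch.exists_dualFamily (R := k) (A := A)
    let w : A → FrobAlg.BaseChange p k A := fun a => ∑ i, e i ⊗ₜ[k] FrobAlg.toTwist p k ((f i ^ p) a)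
    have hfr := GrothLib.Versch.bijective_relFrob_of_etale p k A
    have hpow : ∀ a, FrobAlg.relFrob p k A (w a) = SGA3b.powConv k A p a := fun a => by
      refine Eq.trans ?_ ((GrothLib.Versch.convPow_id_apply p h a).symm.trans (GrothLib.Versch.powConv_eq p a))
      simp [w, map_sum, FrobAlg.relFrob, FrobAlg.frobHom, FrobAlg.inclHom, frobenius_def, Algebra.smul_def, mul_comm]
    have hDsurj := ((GrothLib.Versch.etale_iff_surjective_relFrob p k (CartDual.D k A)).1 hDe)
    have hwinj : Function.Injective w := by
      intro a b hab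
      refine GrothLib.Dual.eq_of_forall_apply (R := k) fun φ => ?_
      obtain ⟨z, hz⟩ := hDsurj φ
      rw [← hz]
      clear hz
      induction z using TensorProduct.induction_on with
      | zero => simp
      | add x y hx hy => simp only [map_add, WithConv.ofConv_add, LinearMap.add_apply, hx, hy]
      | tmul x t =>
        rw [Versch.relFrob_dual_tmul_apply, Versch.relFrob_dual_tmul_apply]
        congr 1
        have hw : ∀ a, Versch.evTw p k A x (w a) = FrobAlg.toTwist p k ((x ^ p) a) := fun a => by
          rw [GrothLib.Versch.pairing p h, map_sum, map_sum]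
          exact Finset.sum_congr rfl fun i _ => by rw [Versch.evTw_tmul', map_mul]
        exact (FrobAlg.toTwist p k).injective (by rw [← hw, ← hw, hab])
    let K := AlgebraicClosure k
    have hinj : Function.Injective (SGA3b.powConv k A p) := fun a b hab =>
      hwinj (hfr.1 (by rw [hpow, hpow, hab]))
    have hbij : Function.Bijective (SGA3b.powConv k A p) :=
      ⟨hinj, (LinearMap.injective_iff_surjective (f := (SGA3b.powConv k A p).toLinearMap)).1 hinj⟩
    let B := K ⊗[k] A
    haveI : IsReduced B := Algebra.FormallyUnramified.isReduced_of_field K B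
    haveI := GrothLib.ArtAC.finite_algHom K (A := B)
    haveI : Fintype (B →ₐ[K] K) := Fintype.ofFinite _
    haveI : Finite (WithConv (B →ₐ[K] K)) := Finite.of_equiv _ (WithConv.equiv _).symm
    have hcard : Nat.card (WithConv (B →ₐ[K] K)) = Module.finrank k A := by
      rw [Nat.card_congr (WithConv.equiv (B →ₐ[K] K)), Nat.card_eq_fintype_card,
        ← Module.finrank_fintype_fun_eq_card (R := K),
        ← (AlgEquiv.ofBijective _ (GrothLib.ArtAC.eval_bijective_of_isReduced K (A := B))).toLinearEquiv.finrank_eq,
        Module.finrank_baseChange]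
    have hsurjB : Function.Surjective (SGA3b.powConv K B p) := by
      intro y
      induction y using TensorProduct.induction_on with
      | zero => exact ⟨0, map_zero _⟩
      | add x y hx hy =>
        obtain ⟨u, rfl⟩ := hx
        obtain ⟨w, rfl⟩ := hy
        exact ⟨u + w, map_add _ u w⟩
      | tmul c a =>
        obtain ⟨b, rfl⟩ := hbij.2 a
        refine ⟨c • ((1 : K) ⊗ₜ[k] b), ?_⟩
        rw [map_smul, GrothLib.OT.powConv_baseChange, TensorProduct.smul_tmul', smul_eq_mul, mul_one]
    exact not_dvd_card_points p hsurjB (by rwa [hcard] : p ∣ Nat.card (WithConv (B →ₐ[K] K)))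
  · intro hn
    have h0 : (Module.finrank k A : k) ≠ 0 := fun h => hn ((CharP.cast_eq_zero_iff k p _).1 h)
    have het : ∀ (B : Type u) [CommRing B] [HopfAlgebra k B] [Module.Finite k B],
        (Module.finrank k B : k) ≠ 0 → Algebra.Etale k B := fun B _ _ _ hB =>
      haveI := GrothLib.Hopf.EtaleOrder.etale_of_finrank_ne_zero hB
      haveI : Algebra.FinitePresentation k B := Algebra.FinitePresentation.of_finiteType.mp inferInstance
      ⟨Algebra.FormallyEtale.of_formallyUnramified_of_field k B, inferInstance⟩
    exact ⟨het A h0, het (CartDual.D k A) (by rwa [hD])⟩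


end Groth.Agent.S16674
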