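import Groth.Statements.S11196
import Groth.Agent.Lib.Induce27.Solv
import Groth.Agent.Lib.Induce27.Neutral
-- import your own Groth.Agent.* helpers here

set_option autoImplicit false
universe u
open CategoryTheory MonoidalCategory CartesianMonoidalCategory MonObj GrpObj AlgebraicGeometry
open scoped TensorProduct
open AGF

namespace Groth.Agent.S11196

/-- Let k be an algebraically closed field, G a linear algebraic group over k (an affine smooth group
scheme over k) and H a closed subgroup of G (a smooth closed subgroup scheme, i : H → G), with G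
solvable. Then H is observable in G. -/
theorem result (k : Type u) [Field k] [IsAlgClosed k]
    (G : Over (Spec (CommRingCat.of k))) [GrpObj G] [IsAffine G.left] [Smooth G.hom]
    (H : Over (Spec (CommRingCat.of k))) [GrpObj H] [Smooth H.hom] (i : H ⟶ G) [IsMonHom i]
    [IsClosedImmersion i.left]
    (hs : Red.IsSolvableGrp G) :
    AGF.IsObservableIn k i := by
  haveI : IsAffine H.left := isAffine_of_isAffineHom i.left
  obtain ⟨G₀, _, jG, _, _, hG₀c, hG₀f⟩ := GrothLib.Induce27.exists_neutral G
  haveI := hG₀c
  obtain ⟨H₀, _, jH, _, _, hH₀c, -⟩ := GrothLib.Induce27.exists_neutral H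
  haveI := hH₀c
  obtain ⟨i₀, _, hc⟩ := hG₀f H₀ (jH ≫ i)
  haveI : IsClosedImmersion jH.left := GrothLib.Induce27.isClosedImmersion_of_open jH
  haveI : IsClosedImmersion jG.left := GrothLib.Induce27.isClosedImmersion_of_open jG
  haveI : IsAffine H₀.left := isAffine_of_isAffineHom jH.left
  haveI : IsAffine G₀.left := isAffine_of_isAffineHom jG.left
  haveI : Smooth H₀.hom := by rw [← Over.w jH]; infer_instance
  haveI : Smooth G₀.hom := by rw [← Over.w jG]; infer_instance
  haveI : IsClosedImmersion (i₀.left ≫ jG.left) := by
    rw [← Over.comp_left, hc, Over.comp_left]; infer_instance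
  haveI : IsClosedImmersion i₀.left := IsClosedImmersion.of_comp i₀.left jG.left
  haveI : IsClosedImmersion (i₀ ≫ jG).left := inferInstanceAs (IsClosedImmersion (i₀.left ≫ jG.left))
  haveI : IsClosedImmersion (jH ≫ i).left := inferInstanceAs (IsClosedImmersion (jH.left ≫ i.left))
  haveI : Group.IsSolvable (VecGrp.pt k k ⟶ G) := hs.elim fun n hn => ⟨⟨n, hn _⟩⟩
  haveI : Group.IsSolvable (VecGrp.pt k k ⟶ G₀) :=
    solvable_of_solvable_injective
      (f := ({ toFun := fun x => x ≫ jG
               map_one' := MonObj.one_comp jG
               map_mul' := fun a b => MonObj.mul_comp a b jG } : (VecGrp.pt k k ⟶ G₀) →* (VecGrp.pt k k ⟶ G)))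
      fun a b h => GrothLib.Induce27.cancel_closed h
  refine GrothLib.Induce27.observable_of_finite_index jH ?_
  rw [← hc]
  exact GrothLib.Induce27.observable_comp i₀
    (GrothLib.Induce27.observable_of_connected_solvable i₀) (GrothLib.Induce27.observable_of_open jG)

end Groth.Agent.S11196
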