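import Groth.Statements.S1204
import Groth.Agent.Lib.RG6.GenericBasis
-- import your own Groth.Agent.* helpers here

set_option autoImplicit false
universe u
open FlatMor

namespace Groth.Agent.S1204

open TensorProduct IsLocalRing in
/-- Let R be a local ring and S a finitely presented flat R-algebra with geometrically integral fibres,
so that 𝔭 = 𝔪_R S is a prime of S; let q be a prime of S over 𝔪_R and N a finite S-module. Then
there is an S-linear map α from a finite free module S^r to N inducing a bijection after base change
to κ(𝔭); and for any such α the following are equivalent: N_q is flat over R; α is universally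
injective over R and the cokernel of α is flat over R at q; α is injective and the cokernel is flat
at q; α localized at 𝔭 is bijective and the cokernel is flat at q; α localized at q is injective and
the cokernel is flat at q. -/
theorem result {R S : Type u} [CommRing R] [IsLocalRing R] [CommRing S] [Algebra R S] [Algebra.FinitePresentation R S] [Module.Flat R S]
    (hgi : FlatCA.GeomIntegralFibres R S) [((maximalIdeal R).map (algebraMap R S)).IsPrime]
    (q : Ideal S) [q.IsPrime] [q.LiesOver (maximalIdeal R)]
    (N : Type u) [AddCommGroup N] [Module S N] [Module R N] [IsScalarTower R S N] [Module.Finite S N] :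
    (∃ (r : ℕ) (α : (Fin r → S) →ₗ[S] N), Function.Bijective (α.baseChange ((maximalIdeal R).map (algebraMap R S)).ResidueField)) ∧
    ∀ (r : ℕ) (α : (Fin r → S) →ₗ[S] N), Function.Bijective (α.baseChange ((maximalIdeal R).map (algebraMap R S)).ResidueField) →
      [FlatCA.FlatAt R q N,
       FlatCA.UnivInj R (α.restrictScalars R) ∧ FlatCA.FlatAt R q (N ⧸ LinearMap.range α),
       Function.Injective α ∧ FlatCA.FlatAt R q (N ⧸ LinearMap.range α),
       Function.Bijective (LocalizedModule.map ((maximalIdeal R).map (algebraMap R S)).primeCompl α) ∧ FlatCA.FlatAt R q (N ⧸ LinearMap.range α),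
       Function.Injective (LocalizedModule.map q.primeCompl α) ∧ FlatCA.FlatAt R q (N ⧸ LinearMap.range α)].TFAE := by
    set 𝔭 : Ideal S := (maximalIdeal R).map (algebraMap R S) with h𝔭
    refine ⟨GrothLib.RG6.exists_bijective_baseChange 𝔭, fun r α hα => ?_⟩
    have hq : q.comap (algebraMap R S) = maximalIdeal R := (Ideal.over_def q (maximalIdeal R)).symm
    have hle : 𝔭.primeCompl ≥ q.primeCompl := fun x hx hx' => hx (Ideal.map_le_iff_le_comap.2 hq.ge hx')
    have hreg : ∀ g ∈ 𝔭.primeCompl, ∀ (p' : Ideal R) [p'.IsPrime], Disjoint (p' : Set R) (⊥ : Submonoid R) →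
        GrothLib.RG6.FibreNonzero p' g := fun g hg p' _ _ =>
      GrothLib.RG6.fibreNonzero_of_notMem (IsLocalRing.le_maximalIdeal (‹p'.IsPrime›.ne_top)) hg
    have hbot : Algebra.algebraMapSubmonoid S (⊥ : Submonoid R) = ⊥ := Submonoid.map_bot _
    tfae_have 1 → 2 := fun h => by
      have hk := GrothLib.RG6.killedKer_of_regular hgi 𝔭.primeCompl ⊥ hreg
        (GrothLib.RG6.killedKer_generic q α hgi (maximalIdeal R) h hα)
      rw [hbot] at hk
      exact ⟨(GrothLib.RG6.univInj_iff_killedKer α).2 hk, GrothLib.RG6.flatAt_coker q α ⊥ bot_le hk h⟩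
    tfae_have 2 → 3 := fun h => by
      refine ⟨fun a b hab => ?_, h.2⟩
      have h1 : (α.restrictScalars R).lTensor R ((1 : R) ⊗ₜ[R] a) = (α.restrictScalars R).lTensor R ((1 : R) ⊗ₜ[R] b) := by
        simp only [LinearMap.lTensor_tmul, LinearMap.coe_restrictScalars, hab]
      simpa using congrArg (TensorProduct.lid R _) (h.1 R h1)
    tfae_have 3 → 4 := fun h => ⟨⟨LocalizedModule.map_injective _ _ h.1,
      GrothLib.RG6.surjective_map_of_bijective 𝔭 α hα⟩, h.2⟩
    tfae_have 4 → 5 := fun h => by
      refine ⟨?_, h.2⟩
      have h1 := GrothLib.RG6.injective_map_of_regular hgi 𝔭.primeCompl ⊥ hreg h.1.1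
      rw [hbot, GrothLib.RG6.injective_map_iff] at h1
      exact (GrothLib.RG6.injective_map_iff _ _).2 fun y hy => by
        obtain ⟨t, ht, hty⟩ := h1 y hy
        exact ⟨1, one_mem _, by rwa [Submonoid.mem_bot.1 ht] at hty⟩
    tfae_have 5 → 1 := fun h => GrothLib.RG6.flatAt_of_injective q α h.1 h.2
    tfae_finish

end Groth.Agent.S1204
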