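import Groth.Statements.S12604
import Groth.Agent.Lib.FunFld.WeierstrassDiv
import Groth.Agent.S12606

set_option autoImplicit false
open FunFld

namespace Groth.Agent.S12604

/-- Over an algebraically closed constant field, let `τ` be a `k`-endomorphism of the function field `K`
of genus `g`, of degree `deg τ = [K : τ(K)]`, and `φ = (φ₀, …, φₙ)` a projective map such that
`τ(φ)` is not a `K`-multiple of `φ`, with `τ`-orders `j₁, …, jₙ`. Then the number `N` of strong
fixed points of `τ` (places whose maximal ideal `τ` maps into its square) is finite and `n N ≤ (n +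
deg τ) deg φ + (2g - 2)(j₁ + ⋯ + jₙ)`, i.e. `N ≤ (1/n) deg W(φ, τ)`. -/
theorem result
    (k K : Type*) [Field k] [IsAlgClosed k] [Field K] [Algebra k K]
    (hK : FunFld.IsFunctionField k K) (τ : K →ₐ[k] K) {n : ℕ} (φ : Fin (n + 1) → K) (hφ : LinearIndependent k φ)
    (hτφ : ¬ ∃ y : K, ∀ i, τ (φ i) = y * φ i) (s : K) (H : K →ₐ[k] PowerSeries K) (hH : LocRes.IsHasseFamily s H)
    (J : Fin n → ℕ) (hJ : FunFld.IsOrders K (FunFld.hcol τ H φ) J) :
    {P : FunFld.Place k K | FunFld.IsStrongFixedPt τ P}.Finite ∧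
    (n : ℤ) * (Set.ncard {P : FunFld.Place k K | FunFld.IsStrongFixedPt τ P} : ℤ) ≤
      ((n : ℤ) + Module.finrank τ.fieldRange K) * (FunFld.mapDiv k φ).deg +
        (2 * (FunFld.genus k K : ℤ) - 2) * ∑ l, (J l : ℤ) := by
  classical
  rcases Nat.eq_zero_or_pos n with hn0 | hn
  · exact absurd ⟨τ (φ 0) / φ 0, fun i => by
      obtain rfl : i = 0 := Fin.ext (by omega)
      rw [div_mul_cancel₀ _ (hφ.ne_zero 0)]⟩ hτφ
  choose p Hp hp hHp using fun P : FunFld.Place k K => GrothLib.FunFld.exists_parameter_hasse hK P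
  choose Φ hΦ hΦt using fun P : FunFld.Place k K => GrothLib.FunFld.exists_expansion_closed hK.1 (hp P)
  set W := FunFld.wDiv τ H Φ s φ J
  set S := {P : FunFld.Place k K | FunFld.IsStrongFixedPt τ P}
  have hkey : ∀ P ∈ S, (n : ℤ) ≤ W P := by
    intro P hP
    obtain ⟨y, hy, hli, heff, hnorm⟩ := GrothLib.FunFld.exists_normalisation hφ P
    obtain ⟨hJy, he⟩ := GrothLib.FunFld.wDiv_apply_local hK hφ hH hJ hΦ hy (hp P) (hHp P)
    obtain ⟨J', hJ'⟩ := GrothLib.FunFld.exists_isOrders_at hK hli (hp P) (hHp P) heff hnorm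
    have hτy : ¬ ∃ z : K, ∀ i, τ ((y • φ) i) = z * (y • φ) i := by
      rintro ⟨z, hz⟩
      refine hτφ ⟨z * y / τ y, fun i => ?_⟩
      have h1 := hz i
      simp only [Pi.smul_apply, smul_eq_mul, map_mul] at h1
      have hτ0 : τ y ≠ 0 := (map_ne_zero τ).2 hy
      rw [div_mul_eq_mul_div, eq_div_iff hτ0, mul_assoc, ← h1, mul_comm]
    have hfix : FunFld.IsFixedPt τ P := fun z hz =>
      (hP z hz).trans_lt (by rw [← WithZero.exp_zero, WithZero.exp_lt_exp]; omega)
    have h6 := Groth.Agent.S12606.result k K hK τ P hP hn (y • φ) hli heff hnorm hτy (p P) (hp P) (Hp P) (hHp P)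
      J hJy J' hJ'
    have hpos := ((GrothLib.FunFld.isJump_hcolAt_iff hK (hp P) (hHp P) hnorm _).1
      ((hJ'.2 _).1 ⟨(⟨0, hn⟩ : Fin n), rfl⟩)).1
    have h7 := (GrothLib.FunFld.sum_sub_le_wDiv hK hli hfix heff hnorm (hp P) (hHp P) hJy hJ' hΦ).2.1
    rw [show W P = _ from he]
    refine le_trans ?_ h7
    refine le_trans (le_of_eq (by simp)) (Finset.sum_le_sum (f := fun _ => (1 : ℤ)) fun l _ => ?_)
    have := h6 l
    omega
  have hnn : ∀ P, 0 ≤ W P := fun P => GrothLib.FunFld.wDiv_nonneg hK hφ hH hJ hΦ P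
  have hsub : S ⊆ (W.support : Set (FunFld.Place k K)) := fun P hP => by
    rw [Finset.mem_coe, Finsupp.mem_support_iff]
    have := hkey P hP
    omega
  have hfin : S.Finite := W.support.finite_toSet.subset hsub
  refine ⟨hfin, ?_⟩
  rw [add_comm (n : ℤ), ← GrothLib.FunFld.deg_wDiv hK hH hΦ (n := n) (φ := φ) (τ := τ) (J := J)]
  rw [Set.ncard_eq_toFinset_card _ hfin]
  calc (n : ℤ) * (hfin.toFinset.card : ℤ) = ∑ P ∈ hfin.toFinset, (n : ℤ) := by simp [mul_comm]
    _ ≤ ∑ P ∈ hfin.toFinset, W P :=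
      Finset.sum_le_sum fun P hP => hkey P (hfin.mem_toFinset.1 hP)
    _ ≤ ∑ P ∈ W.support, W P := Finset.sum_le_sum_of_subset_of_nonneg
      (fun P hP => hsub (hfin.mem_toFinset.1 hP)) (fun P _ _ => hnn P)
    _ = W.deg := by
      rw [GrothLib.FunFld.deg_eq_degHom, Finsupp.sum]
      exact Finset.sum_congr rfl fun P _ => by rw [GrothLib.FunFld.IsFG.deg_eq_one hK.1 P, Nat.cast_one, mul_one]

end Groth.Agent.S12604
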