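import Groth.Statements.S11053
import Groth.Agent.Lib.FunFld.WeierstrassDiv
import Groth.Agent.Lib.FunFld.Linear
import Groth.Agent.Lib.FunFld.RR
import Groth.Agent.S12604
import Groth.Agent.S12606

set_option autoImplicit false
open FunFld

namespace Groth.Agent.S11053

/-- Over an algebraically closed constant field, let `τ` be a `k`-embedding of the function field `K` of
genus `g` into itself, of degree `deg τ = [K : τ(K)]`. A place is a strong fixed point of `τ` when
`τ` maps its maximal ideal into the square of that ideal. For every integer `n > g` there are at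
most `1 + deg τ + (n + deg τ / n) g + 2g²(g-1)/n` strong fixed points. -/
theorem result
    (k K : Type*) [Field k] [IsAlgClosed k] [Field K] [Algebra k K]
    (hK : FunFld.IsFunctionField k K) (τ : K →ₐ[k] K) (n : ℕ)
    (hn : FunFld.genus k K < n) :
    {P : FunFld.Place k K | ∀ x : K, P.1 x < 1 → P.1 (τ x) ≤ WithZero.exp (-2)}.Finite ∧
    (Set.ncard {P : FunFld.Place k K | ∀ x : K, P.1 x < 1 → P.1 (τ x) ≤ WithZero.exp (-2)} : ℝ) ≤
      1 + Module.finrank τ.fieldRange K +
        (n + (Module.finrank τ.fieldRange K : ℝ) / n) * FunFld.genus k K +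
        2 * (FunFld.genus k K : ℝ) ^ 2 * (FunFld.genus k K - 1) / n := by
  classical
  have hfg : GrothLib.FunFld.IsFG k K := hK.1
  set g := FunFld.genus k K
  set dτ := Module.finrank τ.fieldRange K
  have hn0 : (0 : ℝ) < n := by exact_mod_cast Nat.lt_of_le_of_lt (Nat.zero_le _) hn
  have hg0 : (0 : ℝ) ≤ 2 * (g : ℝ) ^ 2 * ((g : ℝ) - 1) := by
    rcases Nat.eq_zero_or_pos g with h | h
    · simp [h]
    · have h1 : (1 : ℝ) ≤ g := by exact_mod_cast h
      exact mul_nonneg (by positivity) (by linarith)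
  by_cases hid : τ = AlgHom.id k K
  · have hempty : {P : FunFld.Place k K | ∀ x : K, P.1 x < 1 → P.1 (τ x) ≤ WithZero.exp (-2)} = ∅ := by
      refine Set.eq_empty_iff_forall_notMem.2 fun P hP => ?_
      obtain ⟨t, -, ht⟩ := GrothLib.FunFld.exists_val_eq P (-1)
      have h1 := hP t (show GrothLib.FunFld.val P t < 1 by rw [ht, ← WithZero.exp_zero, WithZero.exp_lt_exp]; omega)
      rw [hid, AlgHom.id_apply, show P.1 t = _ from ht, WithZero.exp_le_exp] at h1
      omega
    rw [hempty]
    refine ⟨Set.finite_empty, ?_⟩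
    rw [Set.ncard_empty, Nat.cast_zero]
    positivity
  obtain ⟨P₀⟩ := GrothLib.FunFld.IsFG.exists_place hfg
  have hdeg0 := GrothLib.FunFld.IsFG.deg_eq_one hfg P₀
  set D : FunFld.Divisor k K := Finsupp.single P₀ ((n + g : ℕ) : ℤ) with hD
  have hDdeg : D.deg = n + g := by rw [hD, GrothLib.FunFld.deg_single, hdeg0]; push_cast; ring
  have hell : FunFld.ell D = n + 1 := by
    have := GrothLib.FunFld.ell_eq_of_deg_ge hK (D := D) (by rw [hDdeg]; omega)
    omega
  haveI := GrothLib.FunFld.IsFG.finite_L hfg D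
  let b := Module.finBasisOfFinrankEq k (FunFld.L D) hell
  let φ : Fin (n + 1) → K := fun i => (b i : K)
  have hφ : LinearIndependent k φ := b.linearIndependent.map' (FunFld.L D).subtype (Submodule.ker_subtype _)
  have hspan : Submodule.span k (Set.range φ) = FunFld.L D := by
    rw [show Set.range φ = (FunFld.L D).subtype '' Set.range b from Set.range_comp _ b, Submodule.span_image,
      b.span_eq, Submodule.map_top, Submodule.range_subtype]
  have hne : ∀ i, φ i ≠ 0 := fun i => hφ.ne_zero i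
  have hdrop : ∀ (P : FunFld.Place k K) (j : ℕ), j + 2 * g ≤ n + g →
      FunFld.L (D - Finsupp.single P ((j : ℤ) + 1)) < FunFld.L (D - Finsupp.single P (j : ℤ)) := by
    intro P j hj
    refine lt_of_le_of_ne (GrothLib.FunFld.L_mono fun R => ?_) fun he => ?_
    · simp only [Finsupp.sub_apply]
      by_cases hR : R = P
      · subst hR; rw [Finsupp.single_eq_same, Finsupp.single_eq_same]; omega
      · rw [Finsupp.single_eq_of_ne hR, Finsupp.single_eq_of_ne hR]
    · have h1 := GrothLib.FunFld.ell_eq_of_deg_ge hK (D := D - Finsupp.single P (j : ℤ))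
        (by rw [GrothLib.FunFld.deg_sub, hDdeg, GrothLib.FunFld.deg_single, GrothLib.FunFld.IsFG.deg_eq_one hfg P]; omega)
      have h2 := GrothLib.FunFld.ell_eq_of_deg_ge hK (D := D - Finsupp.single P ((j : ℤ) + 1))
        (by rw [GrothLib.FunFld.deg_sub, hDdeg, GrothLib.FunFld.deg_single, GrothLib.FunFld.IsFG.deg_eq_one hfg P]; omega)
      simp only [FunFld.ell] at h1 h2
      rw [← he, h2] at h1
      simp only [GrothLib.FunFld.deg_sub, GrothLib.FunFld.deg_single, GrothLib.FunFld.IsFG.deg_eq_one hfg P] at h1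
      omega
  have hmap : FunFld.mapDiv k φ = D := GrothLib.FunFld.mapDiv_eq_of_span hfg hne hspan fun R hle => by
    have := hdrop R 0 (by omega)
    simp only [Nat.cast_zero, zero_add, Finsupp.single_zero, sub_zero] at this
    exact not_le_of_gt this hle
  -- a generating pair inside `L D`
  have hpole : ∀ m : ℕ, 2 * g ≤ m → 0 < m → m ≤ n + g → ∃ v ∈ FunFld.L D,
      Transcendental k v ∧ Module.finrank (IntermediateField.adjoin k ({v} : Set K)) K = m := by
    intro m hm1 hm0 hm2
    obtain ⟨v, hv, hv'⟩ := SetLike.exists_of_lt (hdrop P₀ (n + g - m) (by omega))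
    have hv0 : v ≠ 0 := fun h => hv' (h ▸ zero_mem _)
    have hv1 := (GrothLib.FunFld.mem_L_iff_ord hv0).1 hv
    have hord : P₀.ord v = -(m : ℤ) := by
      have h1 := hv1 P₀
      rw [hD, Finsupp.sub_apply, Finsupp.single_eq_same, Finsupp.single_eq_same] at h1
      by_contra hne'
      refine hv' ((GrothLib.FunFld.mem_L_iff_ord hv0).2 fun R => ?_)
      by_cases hR : R = P₀
      · subst hR; rw [hD, Finsupp.sub_apply, Finsupp.single_eq_same, Finsupp.single_eq_same]; omega
      · have := hv1 R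
        rw [hD, Finsupp.sub_apply, Finsupp.single_eq_of_ne hR, Finsupp.single_eq_of_ne hR] at this ⊢
        exact this
    have hreg : ∀ R, R ≠ P₀ → 0 ≤ R.ord v := fun R hR => by
      have := hv1 R
      rw [hD, Finsupp.sub_apply, Finsupp.single_eq_of_ne hR, Finsupp.single_eq_of_ne hR] at this
      omega
    refine ⟨v, (GrothLib.FunFld.mem_L_iff_ord hv0).2 fun R => ?_,
      GrothLib.FunFld.finrank_adjoin_of_single_pole hfg hm0 hdeg0 hord hreg⟩
    by_cases hR : R = P₀
    · subst hR; rw [hD, Finsupp.single_eq_same, hord]; omega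
    · rw [hD, Finsupp.single_eq_of_ne hR]; have := hreg R hR; omega
  have hτφ : ¬ ∃ y : K, ∀ i, τ (φ i) = y * φ i := by
    rintro ⟨y, hy⟩
    have hall : ∀ v ∈ FunFld.L D, τ v = y * v := by
      intro v hv
      rw [← hspan] at hv
      obtain ⟨c, rfl⟩ := (Submodule.mem_span_range_iff_exists_fun k).1 hv
      rw [map_sum, Finset.mul_sum]
      exact Finset.sum_congr rfl fun i _ => by rw [map_smul, hy, mul_smul_comm]
    have h1 : y = 1 := by
      have := hall 1 fun R => by
        rw [map_one, ← WithZero.exp_zero, WithZero.exp_le_exp]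
        by_cases hR : R = P₀
        · subst hR; rw [hD, Finsupp.single_eq_same]; exact Int.natCast_nonneg _
        · simp [hD, Finsupp.single_eq_of_ne hR]
      rw [map_one, mul_one] at this
      exact this.symm
    apply hid
    obtain ⟨v, hv, hvt, hvd⟩ := hpole (n + g) (by omega) (by omega) le_rfl
    obtain ⟨w, hw, hwt, hwd⟩ := hpole (max (n + g - 1) 1) (by omega) (by omega) (by omega)
    have htop : IntermediateField.adjoin k ({v, w} : Set K) = ⊤ :=
      GrothLib.FunFld.adjoin_pair_eq_top hfg hvt hwt (by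
        rw [hvd, hwd]
        rcases Nat.lt_or_ge (n + g) 2 with h | h
        · rw [show n + g = 1 by omega]; exact Nat.coprime_one_left _
        · obtain ⟨q, hq⟩ : ∃ q, n + g = q + 1 := ⟨n + g - 1, by omega⟩
          rw [show max (n + g - 1) 1 = q by omega, hq]
          exact (Nat.coprime_self_add_left (m := q) (n := 1)).2 (Nat.coprime_one_left _))
    let E : IntermediateField k K := Subfield.toIntermediateField
      (RingHom.eqLocusField τ.toRingHom (RingHom.id K)) (fun c => τ.commutes c)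
    have hE : IntermediateField.adjoin k ({v, w} : Set K) ≤ E := by
      rw [IntermediateField.adjoin_le_iff]
      intro z hz
      rcases hz with hz | hz <;> rw [hz]
      · show τ v = v
        rw [hall v hv, h1, one_mul]
      · show τ w = w
        rw [hall w hw, h1, one_mul]
    exact AlgHom.ext fun z => hE (htop ▸ IntermediateField.mem_top)
  obtain ⟨s, H, -, hH⟩ := GrothLib.FunFld.exists_parameter_hasse hK P₀
  obtain ⟨J, hJ, -⟩ := GrothLib.FunFld.exists_isOrders_det hH hK (GrothLib.FunFld.isGeometric_of_perfectField hK) hφ τ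
  obtain ⟨hfin, hbound⟩ := Groth.Agent.S12604.result k K hK τ φ hφ hτφ s H hH J hJ
  refine ⟨hfin, ?_⟩
  rw [hmap, hDdeg] at hbound
  set S := {P : FunFld.Place k K | FunFld.IsStrongFixedPt τ P}
  show (S.ncard : ℝ) ≤ _
  rcases S.eq_empty_or_nonempty with hS | ⟨P, hP⟩
  · rw [hS, Set.ncard_empty, Nat.cast_zero]
    positivity
  -- bound the orders through the strong fixed point
  obtain ⟨t, Ht, ht, hHt⟩ := GrothLib.FunFld.exists_parameter_hasse hK P
  obtain ⟨y, hy, hli, heff, hnorm⟩ := GrothLib.FunFld.exists_normalisation hφ P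
  choose Φ hΦ hΦt using fun Q : FunFld.Place k K =>
    GrothLib.FunFld.exists_expansion_closed hfg (GrothLib.FunFld.exists_parameter_hasse hK Q).choose_spec.choose_spec.1
  obtain ⟨hJy, -⟩ := GrothLib.FunFld.wDiv_apply_eq hK hφ hH hJ hΦ hy ht hHt
  obtain ⟨J', hJ'⟩ := GrothLib.FunFld.exists_isOrders_at hK hli ht hHt heff hnorm
  have hτy : ¬ ∃ z : K, ∀ i, τ ((y • φ) i) = z * (y • φ) i := by
    rintro ⟨z, hz⟩
    refine hτφ ⟨z * y / τ y, fun i => ?_⟩
    have h1 := hz i
    simp only [Pi.smul_apply, smul_eq_mul, map_mul] at h1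
    have hτ0 : τ y ≠ 0 := (map_ne_zero τ).2 hy
    rw [div_mul_eq_mul_div, eq_div_iff hτ0, mul_assoc, ← h1, mul_comm]
  have hnpos : 0 < n := by omega
  have h6 := Groth.Agent.S12606.result k K hK τ P hP hnpos (y • φ) hli heff hnorm hτy t ht Ht hHt J hJy J' hJ'
  have hyord : P.ord y = D P := by
    have h1 := GrothLib.FunFld.mapDiv_smul_apply hfg hne hy P
    rw [GrothLib.FunFld.mapDiv_eq_zero_of_normalised hfg (fun i => hli.ne_zero i) heff hnorm, hmap] at h1
    omega
  have hspany : ∀ f, f ∈ Submodule.span k (Set.range (y • φ)) ↔ ∃ v ∈ FunFld.L D, y * v = f := by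
    intro f
    rw [← hspan, Submodule.mem_span_range_iff_exists_fun]
    constructor
    · rintro ⟨c, rfl⟩
      refine ⟨∑ i, c i • φ i, (Submodule.mem_span_range_iff_exists_fun k).2 ⟨c, rfl⟩, ?_⟩
      rw [Finset.mul_sum]
      exact Finset.sum_congr rfl fun i _ => by rw [Pi.smul_apply, smul_eq_mul, mul_smul_comm]
    · rintro ⟨v, hv, rfl⟩
      obtain ⟨c, rfl⟩ := (Submodule.mem_span_range_iff_exists_fun k).1 hv
      refine ⟨c, ?_⟩
      rw [Finset.mul_sum]
      exact Finset.sum_congr rfl fun i _ => by rw [Pi.smul_apply, smul_eq_mul, mul_smul_comm]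
  have hmem : ∀ j, 1 ≤ j → j + 2 * g ≤ n + g → j ∈ Set.range J' := by
    intro j hj1 hj
    refine (hJ'.2 j).2 ((GrothLib.FunFld.isJump_hcolAt_iff hK ht hHt hnorm j).2 ⟨hj1, ?_⟩)
    obtain ⟨v, hv, hv'⟩ := SetLike.exists_of_lt (hdrop P j hj)
    have hv0 : v ≠ 0 := fun h => hv' (h ▸ zero_mem _)
    have hv1 := (GrothLib.FunFld.mem_L_iff_ord hv0).1 hv
    refine ⟨y * v, (hspany _).2 ⟨v, GrothLib.FunFld.L_mono (sub_le_self _ (Finsupp.single_nonneg.2 (by omega))) hv, rfl⟩, ?_⟩
    rw [GrothLib.FunFld.val_eq P (mul_ne_zero hy hv0), GrothLib.FunFld.ord_mul P hy hv0, WithZero.exp_inj, hyord]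
    have h1 := hv1 P
    rw [Finsupp.sub_apply, Finsupp.single_eq_same] at h1
    by_contra hne'
    refine hv' ((GrothLib.FunFld.mem_L_iff_ord hv0).2 fun R => ?_)
    by_cases hR : R = P
    · subst hR; rw [Finsupp.sub_apply, Finsupp.single_eq_same]; omega
    · have := hv1 R
      rw [Finsupp.sub_apply, Finsupp.single_eq_of_ne hR] at this ⊢
      exact this
  have htop : ∀ l, J' l ≤ n + g := by
    intro l
    obtain ⟨-, f, hf, hfv⟩ := (GrothLib.FunFld.isJump_hcolAt_iff hK ht hHt hnorm _).1 ((hJ'.2 _).1 ⟨l, rfl⟩)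
    obtain ⟨v, hv, rfl⟩ := (hspany f).1 hf
    have hv0 : v ≠ 0 := fun h => by
      rw [h, mul_zero, map_zero] at hfv; exact WithZero.exp_ne_zero hfv.symm
    rw [GrothLib.FunFld.val_eq P (mul_ne_zero hy hv0), GrothLib.FunFld.ord_mul P hy hv0, WithZero.exp_inj, hyord] at hfv
    have hvL : v ∈ FunFld.L (D - Finsupp.single P (J' l : ℤ)) := (GrothLib.FunFld.mem_L_iff_ord hv0).2 fun R => by
      by_cases hR : R = P
      · subst hR; rw [Finsupp.sub_apply, Finsupp.single_eq_same]; omega
      · rw [Finsupp.sub_apply, Finsupp.single_eq_of_ne hR, sub_zero]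
        exact (GrothLib.FunFld.mem_L_iff_ord hv0).1 hv R
    have h0 : 0 ≤ (D - Finsupp.single P (J' l : ℤ) + FunFld.div k v).deg := GrothLib.FunFld.deg_nonneg fun R => by
      have := (GrothLib.FunFld.mem_L_iff_ord hv0).1 hvL R
      rw [Finsupp.coe_zero, Pi.zero_apply, Finsupp.add_apply, GrothLib.FunFld.IsFG.div_apply hfg]
      omega
    rw [GrothLib.FunFld.deg_add, GrothLib.FunFld.IsFG.deg_div hfg, add_zero, GrothLib.FunFld.deg_sub, hDdeg,
      GrothLib.FunFld.deg_single, GrothLib.FunFld.IsFG.deg_eq_one hfg P] at h0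
    omega
  have hpos : ∀ l, 1 ≤ J' l := fun l =>
    ((GrothLib.FunFld.isJump_hcolAt_iff hK ht hHt hnorm _).1 ((hJ'.2 _).1 ⟨l, rfl⟩)).1
  have hfirst : ∀ l : Fin n, (l : ℕ) + g < n → J' l ≤ l + 1 := by
    intro l hl
    by_contra hlt
    have hsub : Finset.Icc 1 ((l : ℕ) + 1) ⊆ (Finset.Iio l).image J' := fun j hj => by
      obtain ⟨hj1, hj2⟩ := Finset.mem_Icc.1 hj
      obtain ⟨a, rfl⟩ := hmem j hj1 (by omega)
      refine Finset.mem_image.2 ⟨a, Finset.mem_Iio.2 (hJ'.1.lt_iff_lt.1 ?_), rfl⟩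
      omega
    have := (Finset.card_le_card hsub).trans Finset.card_image_le
    simp at this
  have hlast : ∀ (a : ℕ) (l : Fin n), (l : ℕ) + a + 1 = n → J' l + a ≤ n + g := by
    intro a
    induction a with
    | zero => intro l _; have := htop l; omega
    | succ a ih =>
      intro l hl
      have h1 := ih ⟨l + 1, by omega⟩ (by simp only; omega)
      have h2 : J' l < J' ⟨l + 1, by omega⟩ := hJ'.1 (Fin.mk_lt_mk.2 (Nat.lt_succ_self _))
      omega
  have hJb : ∀ l : Fin n, (J l : ℤ) ≤ (l : ℕ) + if (l : ℕ) + g < n then 0 else (g : ℤ) := by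
    intro l
    have h1 := h6 l
    have h2 := hpos ⟨0, hnpos⟩
    split_ifs with hl
    · have := hfirst l hl; omega
    · have := hlast (n - 1 - l) l (by omega); omega
  have hsum_id : 2 * ∑ l : Fin n, ((l : ℕ) : ℤ) = (n : ℤ) * (n - 1) := by
    rw [Fin.sum_univ_eq_sum_range (fun l => (l : ℤ))]
    have h := congrArg (fun q : ℕ => (q : ℤ)) (Finset.sum_range_id_mul_two n)
    simp only [Nat.cast_mul, Nat.cast_sum, Nat.cast_sub (show 1 ≤ n by omega), Nat.cast_ofNat, Nat.cast_one] at h
    linarith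
  have hsum_if : ∑ l : Fin n, (if (l : ℕ) + g < n then 0 else (g : ℤ)) = (g : ℤ) * g := by
    rw [Finset.sum_ite, Finset.sum_const_zero, zero_add, Finset.sum_const, nsmul_eq_mul]
    congr 1
    have hc : ((Finset.univ.filter fun l : Fin n => ¬ ((l : ℕ) + g < n)).map Fin.valEmbedding) = Finset.Ico (n - g) n := by
      ext i
      simp only [Finset.mem_map, Finset.mem_filter, Finset.mem_univ, true_and, Fin.valEmbedding_apply, Finset.mem_Ico]
      exact ⟨fun ⟨l, h1, h2⟩ => ⟨by omega, by omega⟩, fun h => ⟨⟨i, h.2⟩, by simp only; omega, rfl⟩⟩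
    have h := congrArg Finset.card hc
    rw [Finset.card_map, Nat.card_Ico] at h
    omega
  have hJle : 2 * ∑ l, (J l : ℤ) ≤ (n : ℤ) * (n - 1) + 2 * (g * g) := by
    have := Finset.sum_le_sum (s := Finset.univ) fun l _ => hJb l
    rw [Finset.sum_add_distrib, hsum_if] at this
    linarith
  have hJge : (n : ℤ) * (n - 1) ≤ 2 * ∑ l, (J l : ℤ) := by
    have : ∀ (a : ℕ) (h : a < n), a ≤ J ⟨a, h⟩ := by
      intro a
      induction a with
      | zero => intro _; exact Nat.zero_le _
      | succ a ih =>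
        intro h
        have := ih (by omega)
        have : J ⟨a, by omega⟩ < J ⟨a + 1, h⟩ := hJ.1 (Fin.mk_lt_mk.2 (Nat.lt_succ_self _))
        omega
    have h2 := Finset.sum_le_sum (s := Finset.univ) (f := fun l : Fin n => ((l : ℕ) : ℤ)) (g := fun l => (J l : ℤ))
      fun l _ => by exact_mod_cast this l.1 l.2
    linarith
  have hmain : (n : ℤ) * S.ncard ≤ n + dτ * n + (n ^ 2 + dτ) * g + 2 * g ^ 2 * (g - 1) := by
    have hN : (n : ℤ) * S.ncard ≤ ((n : ℤ) + dτ) * ((n : ℤ) + g) + (2 * (g : ℤ) - 2) * ∑ l, (J l : ℤ) := hbound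
    rcases Nat.eq_zero_or_pos g with h | h
    · rw [h] at hN ⊢
      simp at hN ⊢
      nlinarith [hJge]
    · have h1 : 0 ≤ (g : ℤ) - 1 := by omega
      nlinarith [mul_le_mul_of_nonneg_left hJle h1]
  have hmain' : (n : ℝ) * S.ncard ≤ n + dτ * n + (n ^ 2 + dτ) * g + 2 * g ^ 2 * (g - 1) := by exact_mod_cast hmain
  rw [show 1 + (dτ : ℝ) + (n + (dτ : ℝ) / n) * g + 2 * (g : ℝ) ^ 2 * (g - 1) / n =
    (n + dτ * n + (n ^ 2 + dτ) * g + 2 * g ^ 2 * (g - 1)) / n by field_simp, le_div_iff₀ hn0, mul_comm]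
  exact hmain'

end Groth.Agent.S11053
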