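import Groth.Statements.S9318
import Mathlib
import Groth.Agent.Lib.AdicFS.Basic
import Groth.Agent.Lib.AdicFS.Completion
-- import your own Groth.Agent.* helpers here

set_option autoImplicit false
universe u
open CAlg

namespace Groth.Agent.S9318

/-- Let `R → S` be a ring map and `𝔫 ⊆ S` a finitely generated ideal, and let `S^` be the `𝔫`-adic
completion of `S`. Then `R → S` is formally smooth for the `𝔫`-adic topology if and only if `R → S^`
is formally smooth for the adic topology of the extension of `𝔫` to `S^`. No Noetherian hypothesis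
is made on `S`. -/
theorem result {R S : Type u} [CommRing R] [CommRing S]
    [Algebra R S] (𝔫 : Ideal S) (h𝔫 : 𝔫.FG) :
    CAlgX.IsAdicFormallySmooth R S 𝔫 ↔
      CAlgX.IsAdicFormallySmooth R (AdicCompletion 𝔫 S) (𝔫.map (algebraMap S (AdicCompletion 𝔫 S))) := by
  let T := AdicCompletion 𝔫 S
  let N : Ideal T := 𝔫.map (algebraMap S T)
  let ev : ∀ k : ℕ, T →ₐ[R] S ⧸ 𝔫 ^ k := fun k => (AdicCompletion.evalₐ 𝔫 k).restrictScalars R
  have hev : ∀ k (s : S), ev k (algebraMap S T s) = Ideal.Quotient.mk _ s := fun k s =>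
    (AdicCompletion.evalₐ 𝔫 k).commutes s
  have hker : ∀ k (x : T), x ∈ N ^ k ↔ ev k x = 0 := GrothLib.AdicFS.mem_map_pow_iff h𝔫
  have happ : ∀ k (x : T), ∃ s : S, x - algebraMap S T s ∈ N ^ k := GrothLib.AdicFS.exists_sub_mem_map_pow h𝔫
  constructor
  · intro h A _ _ J hJ ψ ⟨k, hk⟩
    obtain ⟨χ, hχ⟩ := h A J hJ (ψ.comp (IsScalarTower.toAlgHom R S T)) ⟨k, fun s hs =>
      hk _ (by rw [← Ideal.map_pow]; exact Ideal.mem_map_of_mem _ hs)⟩
    obtain ⟨m, hm⟩ := GrothLib.AdicFS.exists_pow_of_lift ⟨2, hJ⟩ χ (I := 𝔫) ⟨k, fun s hs =>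
      (AlgHom.congr_fun hχ s).trans (hk _ (by rw [← Ideal.map_pow]; exact Ideal.mem_map_of_mem _ hs))⟩
    refine ⟨(Ideal.Quotient.liftₐ (𝔫 ^ m) χ hm).comp (ev m), AlgHom.ext fun x => ?_⟩
    obtain ⟨s, hs⟩ := happ (k + m) x
    have h1 := hk _ (Ideal.pow_le_pow_right (Nat.le_add_right k m) hs)
    have h2 := (hker m _).1 (Ideal.pow_le_pow_right (Nat.le_add_left m k) hs)
    rw [map_sub, sub_eq_zero] at h1 h2
    show Ideal.Quotient.mk J (Ideal.Quotient.liftₐ (𝔫 ^ m) χ hm (ev m x)) = ψ x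
    rw [h1, h2, hev]
    exact AlgHom.congr_fun hχ s
  · intro h A _ _ J hJ ψ ⟨k, hk⟩
    obtain ⟨χ, hχ⟩ := h A J hJ ((Ideal.Quotient.liftₐ (𝔫 ^ k) ψ hk).comp (ev k)) ⟨k, fun x hx => by
      rw [AlgHom.comp_apply, (hker k x).1 hx, map_zero]⟩
    refine ⟨χ.comp (IsScalarTower.toAlgHom R S T), AlgHom.ext fun s => ?_⟩
    refine (AlgHom.congr_fun hχ (algebraMap S T s)).trans ?_
    rw [AlgHom.comp_apply, hev]
    rfl

end Groth.Agent.S9318
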