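import Groth.Statements.S9317
import Mathlib
import Groth.Agent.Lib.AdicFS.Completion
import Groth.Agent.S9318
-- import your own Groth.Agent.* helpers here

set_option autoImplicit false
universe u
open CAlg

namespace Groth.Agent.S9317

/-- Let `R → S` be a ring map, let `𝔪 ⊆ R` and `𝔫 ⊆ S` be finitely generated ideals such that some power
of `𝔪` maps into `𝔫`, and let `R^`, `S^` be the `𝔪`-adic and `𝔫`-adic completions. Let `ψ : R^ → S^`
be a ring map whose composite with `R → R^` is the composite `R → S → S^` (there is exactly one such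
map, the canonical one, since any such map is continuous for the adic topologies). Then `R → S` is
formally smooth for the `𝔫`-adic topology if and only if `R^ → S^`, i.e. `S^` viewed as an
`R^`-algebra through `ψ`, is formally smooth for the adic topology of the extension of `𝔫` to `S^`. -/
theorem result {R S : Type u} [CommRing R] [CommRing S]
    [Algebra R S] (𝔪 : Ideal R) (𝔫 : Ideal S) (h𝔪 : 𝔪.FG) (h𝔫 : 𝔫.FG)
    (hc : ∃ c : ℕ, (𝔪 ^ c).map (algebraMap R S) ≤ 𝔫)
    (ψ : AdicCompletion 𝔪 R →+* AdicCompletion 𝔫 S)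
    (hψ : ψ.comp (algebraMap R (AdicCompletion 𝔪 R)) =
      (algebraMap S (AdicCompletion 𝔫 S)).comp (algebraMap R S)) :
    CAlgX.IsAdicFormallySmooth R S 𝔫 ↔
      letI : Algebra (AdicCompletion 𝔪 R) (AdicCompletion 𝔫 S) := ψ.toAlgebra
      CAlgX.IsAdicFormallySmooth (AdicCompletion 𝔪 R) (AdicCompletion 𝔫 S)
        (𝔫.map (algebraMap S (AdicCompletion 𝔫 S))) := by
  rw [S9318.result 𝔫 h𝔫]
  letI : Algebra (AdicCompletion 𝔪 R) (AdicCompletion 𝔫 S) := ψ.toAlgebra
  haveI : IsScalarTower R (AdicCompletion 𝔪 R) (AdicCompletion 𝔫 S) := IsScalarTower.of_algebraMap_eq fun r =>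
    (IsScalarTower.algebraMap_apply R S (AdicCompletion 𝔫 S) r).trans (RingHom.congr_fun hψ r).symm
  obtain ⟨c, hc⟩ := hc
  let M : Ideal (AdicCompletion 𝔪 R) := 𝔪.map (algebraMap R _)
  let N : Ideal (AdicCompletion 𝔫 S) := 𝔫.map (algebraMap S _)
  have hMN : ∀ k, (M ^ (c * k)).map ψ ≤ N ^ k := fun k => by
    rw [pow_mul, Ideal.map_pow]
    refine Ideal.pow_right_mono ?_ k
    rw [← Ideal.map_pow, Ideal.map_map, hψ, ← Ideal.map_map]
    exact Ideal.map_mono hc
  have hkey : ∀ {A : Type u} [CommRing A] (J : Ideal A) (hJ : J ^ 2 = ⊥) (f : AdicCompletion 𝔪 R →+* A)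
      (u : AdicCompletion 𝔫 S →+* A ⧸ J) (hfu : (Ideal.Quotient.mk J).comp f = u.comp ψ) (k : ℕ)
      (hk : ∀ x ∈ N ^ k, u x = 0), (M ^ (c * k * 2)).map f = ⊥ := by
    intro A _ J hJ f u hfu k hk
    rw [eq_bot_iff, pow_mul, Ideal.map_pow, ← hJ]
    refine Ideal.pow_right_mono (Ideal.map_le_iff_le_comap.2 fun x hx => ?_) 2
    exact (Ideal.Quotient.eq_zero_iff_mem (I := J)).1
      ((RingHom.congr_fun hfu x).trans (hk _ (hMN k (Ideal.mem_map_of_mem ψ hx))))
  constructor
  · intro h A _ _ J hJ u ⟨k, hk⟩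
    letI : Algebra R A := ((algebraMap (AdicCompletion 𝔪 R) A).comp (algebraMap R _)).toAlgebra
    haveI : IsScalarTower R (AdicCompletion 𝔪 R) A := IsScalarTower.of_algebraMap_eq fun r => rfl
    obtain ⟨χ, hχ⟩ := h A J hJ (u.restrictScalars R) ⟨k, hk⟩
    have h1 : χ.toRingHom.comp ψ = algebraMap (AdicCompletion 𝔪 R) A := by
      refine GrothLib.AdicFS.ringHom_ext h𝔪 _ _ (c * k * 2)
        (hkey J hJ _ u.toRingHom (RingHom.ext fun x => AlgHom.congr_fun hχ (ψ x)) k hk)
        (hkey J hJ _ u.toRingHom (RingHom.ext fun x => (u.commutes x).symm) k hk) fun r => ?_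
      show χ (ψ (algebraMap R _ r)) = algebraMap R A r
      rw [show ψ (algebraMap R (AdicCompletion 𝔪 R) r) = algebraMap R (AdicCompletion 𝔫 S) r from
        (IsScalarTower.algebraMap_apply R (AdicCompletion 𝔪 R) (AdicCompletion 𝔫 S) r).symm]
      exact χ.commutes r
    exact ⟨{ χ.toRingHom with commutes' := fun x => RingHom.congr_fun h1 x },
      AlgHom.ext fun x => AlgHom.congr_fun hχ x⟩
  · intro h A _ _ J hJ u ⟨k, hk⟩
    have hR : ∀ r ∈ 𝔪 ^ (c * k * 2), algebraMap R A r = 0 := by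
      have h1 : (𝔪 ^ (c * k)).map (algebraMap R A) ≤ J := Ideal.map_le_iff_le_comap.2 fun r hr => by
        refine (Ideal.Quotient.eq_zero_iff_mem (I := J)).1 ((u.commutes r).symm.trans (hk _ ?_))
        rw [IsScalarTower.algebraMap_apply R (AdicCompletion 𝔪 R) (AdicCompletion 𝔫 S)]
        refine hMN k (Ideal.mem_map_of_mem ψ ?_)
        rw [← Ideal.map_pow]
        exact Ideal.mem_map_of_mem _ hr
      intro r hr
      rw [pow_mul] at hr
      have h2 := Ideal.mem_map_of_mem (algebraMap R A) hr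
      rw [Ideal.map_pow] at h2
      exact (Submodule.mem_bot A).1 (hJ ▸ Ideal.pow_right_mono h1 2 h2)
    let f : AdicCompletion 𝔪 R →+* A := (Ideal.Quotient.lift (𝔪 ^ (c * k * 2)) (algebraMap R A) hR).comp
      (AdicCompletion.evalₐ 𝔪 (c * k * 2)).toRingHom
    letI : Algebra (AdicCompletion 𝔪 R) A := f.toAlgebra
    have hf : ∀ r, algebraMap (AdicCompletion 𝔪 R) A (algebraMap R _ r) = algebraMap R A r := fun r => by
      show Ideal.Quotient.lift _ _ hR (AdicCompletion.evalₐ 𝔪 (c * k * 2) (algebraMap R _ r)) = _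
      rw [AlgHom.commutes]
      rfl
    haveI : IsScalarTower R (AdicCompletion 𝔪 R) A := IsScalarTower.of_algebraMap_eq fun r => (hf r).symm
    have h1 : u.toRingHom.comp ψ = algebraMap (AdicCompletion 𝔪 R) (A ⧸ J) := by
      refine GrothLib.AdicFS.ringHom_ext h𝔪 _ _ (c * k * 2) ?_ ?_ fun r => ?_
      · rw [eq_bot_iff, Ideal.map_le_iff_le_comap]
        intro x hx
        exact Ideal.mem_bot.2 (hk _ (hMN k (Ideal.mem_map_of_mem ψ
          (Ideal.pow_le_pow_right (Nat.le_mul_of_pos_right _ two_pos) hx))))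
      · rw [eq_bot_iff, Ideal.map_le_iff_le_comap]
        intro x hx
        refine Ideal.mem_bot.2 ?_
        show Ideal.Quotient.mk J (f x) = 0
        rw [show f x = 0 from by
          show Ideal.Quotient.lift _ _ hR (AdicCompletion.evalₐ 𝔪 (c * k * 2) x) = 0
          rw [(GrothLib.AdicFS.mem_map_pow_iff h𝔪 _ x).1 hx, map_zero], map_zero]
      · show u (ψ (algebraMap R _ r)) = Ideal.Quotient.mk J (f (algebraMap R _ r))
        rw [show ψ (algebraMap R (AdicCompletion 𝔪 R) r) = algebraMap R (AdicCompletion 𝔫 S) r from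
          (IsScalarTower.algebraMap_apply R (AdicCompletion 𝔪 R) (AdicCompletion 𝔫 S) r).symm, u.commutes]
        exact (congrArg (Ideal.Quotient.mk J) (hf r)).symm
    obtain ⟨χ, hχ⟩ := h A J hJ { u.toRingHom with commutes' := fun x => RingHom.congr_fun h1 x } ⟨k, hk⟩
    exact ⟨χ.restrictScalars R, AlgHom.ext fun x => AlgHom.congr_fun hχ x⟩

end Groth.Agent.S9317
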