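import Groth.Statements.S3015
import Groth.Agent.Lib.SepAct.DenseMul

set_option autoImplicit false
universe u
open CategoryTheory MonoidalCategory CartesianMonoidalCategory MonObj GrpObj AlgebraicGeometry TensorProduct
open SGA3

namespace Groth.Agent.S3015

/-- Let A be a local artinian ring, G a group scheme over A, and U, V dense open subsets of G. Then U ·
V, the image of U ×_A V under the multiplication, is the whole underlying space of G: every point of
G is the product of a point of G ×_A G whose two projections lie in U and V. -/
theorem result (A : Type u) [CommRing A] [IsArtinianRing A] [IsLocalRing A]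
    (G : Over (Spec (CommRingCat.of A))) [GrpObj G] (U V : G.left.Opens)
    (hU : Dense (U : Set G.left)) (hV : Dense (V : Set G.left)) (g : G.left) :
    ∃ z : ↥(G ⊗ G).left, (fst G G).left.base z ∈ U ∧ (snd G G).left.base z ∈ V ∧ μ[G].left.base z = g := by
  haveI : Subsingleton (Spec (CommRingCat.of A)) := inferInstanceAs (Subsingleton (PrimeSpectrum A))
  have hall : G.hom ⁻¹' {G.hom g} = Set.univ := Set.eq_univ_of_forall fun _ => Subsingleton.elim _ _
  exact GrothLib.SepAct.exists_mul_mem_of_dense_fibre G U V U.2 g
    (by rw [hall, Set.inter_univ]; exact fun w _ => hU w) (by rw [hall, Set.inter_univ]; exact fun w _ => hV w)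

end Groth.Agent.S3015
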