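import Groth.Statements.S2331
import Groth.Agent.Lib.Ample.RelComp

set_option autoImplicit false
universe u
open CategoryTheory CategoryTheory.Limits AlgebraicGeometry
open EGA2

namespace Groth.Agent.S2331

/-- Let Z be quasi-compact, f : X → Y and g : Y → Z quasi-compact morphisms, L an O_X-module ample
relative to f and K an O_Y-module ample relative to g. Then there is n₀ > 0 such that L ⊗
f^*(K^{⊗n}) is ample relative to g ∘ f for every n ≥ n₀. -/
theorem result {X Y Z : Scheme.{u}} [CompactSpace Z] (f : X ⟶ Y) (g : Y ⟶ Z)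
    [QuasiCompact f] [QuasiCompact g] (L : X.Modules) (K : Y.Modules)
    (hL : RelAmple.IsRelAmple f L) (hK : RelAmple.IsRelAmple g K) :
    ∃ n₀ : ℕ, 0 < n₀ ∧ ∀ n, n₀ ≤ n →
      RelAmple.IsRelAmple (f ≫ g) (CohB1.tensorMod L ((Scheme.Modules.pullback f).obj (CohB1.tensorPow K n))) := by
  haveI := hK.1
  haveI : QuasiCompact (f ≫ g) := inferInstance
  obtain ⟨s, hs⟩ := isCompact_univ.elim_finite_subcover (fun W : Z.affineOpens => (W.1 : Set Z))
    (fun W => W.1.2) (fun z _ => by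
      obtain ⟨W, hW, hz, -⟩ := exists_isAffineOpen_mem_and_subset (TopologicalSpace.Opens.mem_top z)
      exact Set.mem_iUnion.mpr ⟨⟨W, hW⟩, hz⟩)
  choose n₀ hn₀ using fun W : s => GrothLib.Ample.eventually_isAmple_restrict_of_rel f hL
    (GrothLib.Ample.isInvertible_of_isRelAmple hK) (hK.2 W.1)
  refine ⟨Finset.univ.sup n₀ + 1, Nat.succ_pos _, fun n hn => GrothLib.Ample.isRelAmple_of_cover fun z => ?_⟩
  obtain ⟨W, hWs, hz⟩ := Set.mem_iUnion₂.mp (hs (Set.mem_univ z))
  exact ⟨W.1, hz, W.2, hn₀ ⟨W, hWs⟩ n (by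
    have := Finset.le_sup (f := n₀) (Finset.mem_univ ⟨W, hWs⟩); omega)⟩

end Groth.Agent.S2331
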