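import Groth.Statements.S12460

set_option autoImplicit false
universe u
open CategoryTheory AlgebraicGeometry
open Props

namespace Groth.Agent.S12460

/-- (1) ⇔ (3) ⇔ (4): let X be a locally Noetherian scheme. Then X is J-2 — for every morphism Y → X
locally of finite type the set of points y with O_{Y,y} a regular local ring is open in Y — if and
only if for every affine open U of X the ring Γ(X, U) is J-2 (every finite type algebra over it has
open regular locus), if and only if every point of X lies in such an affine open. (Schemes Y over X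
are taken in the universe of X.) -/
theorem result (X : Scheme.{u}) [IsLocallyNoetherian X] :
    ((∀ (Y : Scheme.{u}) (g : Y ⟶ X), LocallyOfFiniteType g →
        IsOpen {y : Y | IsRegularLocalRing (Y.presheaf.stalk y)}) ↔
      ∀ U : X.affineOpens, EGA4.IsJ2 Γ(X, U)) ∧
    ((∀ (Y : Scheme.{u}) (g : Y ⟶ X), LocallyOfFiniteType g →
        IsOpen {y : Y | IsRegularLocalRing (Y.presheaf.stalk y)}) ↔
      ∀ x : X, ∃ U : X.affineOpens, x ∈ (U : X.Opens) ∧ EGA4.IsJ2 Γ(X, U)) := by
  let P := ∀ (Y : Scheme.{u}) (g : Y ⟶ X), LocallyOfFiniteType g →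
      IsOpen {y : Y | IsRegularLocalRing (Y.presheaf.stalk y)}
  have h12 : P → ∀ U : X.affineOpens, EGA4.IsJ2 Γ(X, U) := by
    intro h U S _ _ hS
    have h1 : LocallyOfFiniteType (Spec.map (CommRingCat.ofHom (algebraMap Γ(X, U) S))) :=
      (HasRingHomProperty.Spec_iff (P := @LocallyOfFiniteType)).mpr ((RingHom.finiteType_algebraMap).mpr hS)
    have ho := h (Spec (CommRingCat.of S)) (Spec.map (CommRingCat.ofHom (algebraMap Γ(X, U) S)) ≫ U.2.fromSpec) inferInstance
    suffices hset : EGA4.regLocus S =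
        ({p | IsRegularLocalRing ((Spec (CommRingCat.of S)).presheaf.stalk p)} : Set (Spec (CommRingCat.of S))) by
      rw [hset]; exact ho
    apply Set.ext
    intro p
    let _ : Algebra S ((Spec (CommRingCat.of S)).presheaf.stalk p) := StructureSheaf.stalkAlgebra S p
    haveI : IsLocalization.AtPrime ((Spec (CommRingCat.of S)).presheaf.stalk p) p.asIdeal :=
      StructureSheaf.IsLocalization.to_stalk S p
    have e := (IsLocalization.algEquiv p.asIdeal.primeCompl (Localization.AtPrime p.asIdeal)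
      ((Spec (CommRingCat.of S)).presheaf.stalk p)).toRingEquiv
    exact ⟨fun h => by haveI : IsRegularLocalRing _ := h; exact IsRegularLocalRing.of_ringEquiv e, fun h => by haveI : IsRegularLocalRing _ := h; exact IsRegularLocalRing.of_ringEquiv e.symm⟩
  have h31 : (∀ x : X, ∃ U : X.affineOpens, x ∈ (U : X.Opens) ∧ EGA4.IsJ2 Γ(X, U)) → P := by
    intro h Y g hg
    rw [isOpen_iff_forall_mem_open]
    intro y hy
    obtain ⟨U, hxU, hJ⟩ := h (g y)
    obtain ⟨V, hV, hyV, hVU⟩ := exists_isAffineOpen_mem_and_subset (X := Y) (U := g ⁻¹ᵁ U.1) (x := y) hxU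
    let φ : Γ(X, U) →+* Γ(Y, V) := (g.appLE U.1 V hVU).hom
    letI := φ.toAlgebra
    have hft : Algebra.FiniteType Γ(X, U) Γ(Y, V) :=
      LocallyOfFiniteType.finiteType_appLE g U.2 hV hVU
    have ho := hJ Γ(Y, V) hft
    let O : Set V := (fun v => hV.primeIdealOf v) ⁻¹' EGA4.regLocus Γ(Y, V)
    have hO : IsOpen O := by
      refine ho.preimage ?_
      exact hV.isoSpec.hom.continuous
    have key : ∀ v : V, v ∈ O ↔ IsRegularLocalRing (Y.presheaf.stalk v.1) := by
      intro v
      letI := TopCat.Presheaf.algebra_section_stalk Y.presheaf v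
      haveI := hV.isLocalization_stalk v
      have e := (IsLocalization.algEquiv (hV.primeIdealOf v).asIdeal.primeCompl
        (Localization.AtPrime (hV.primeIdealOf v).asIdeal) (Y.presheaf.stalk v.1)).toRingEquiv
      exact ⟨fun h => by haveI : IsRegularLocalRing _ := h; exact IsRegularLocalRing.of_ringEquiv e, fun h => by haveI := h; exact IsRegularLocalRing.of_ringEquiv e.symm⟩
    refine ⟨Subtype.val '' O, ?_, V.2.isOpenEmbedding_subtypeVal.isOpenMap _ hO, ⟨⟨y, hyV⟩, (key _).mpr hy, rfl⟩⟩
    rintro _ ⟨v, hv, rfl⟩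
    exact (key v).mp hv
  refine ⟨⟨h12, fun h => h31 fun x => ?_⟩, ⟨fun h x => ?_, h31⟩⟩
  · obtain ⟨U, hU, hxU, -⟩ := exists_isAffineOpen_mem_and_subset (X := X) (U := ⊤) (x := x) trivial
    exact ⟨⟨U, hU⟩, hxU, h ⟨U, hU⟩⟩
  · obtain ⟨U, hU, hxU, -⟩ := exists_isAffineOpen_mem_and_subset (X := X) (U := ⊤) (x := x) trivial
    exact ⟨⟨U, hU⟩, hxU, h12 h ⟨U, hU⟩⟩

end Groth.Agent.S12460
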