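import Groth.Statements.S7421
import Mathlib.AlgebraicGeometry.Properties
-- import your own Groth.Agent.* helpers here

set_option autoImplicit false
universe u
open CategoryTheory AlgebraicGeometry
open HTop

namespace Groth.Agent.S7421
theorem isReduced_of_isSeminormalRing {A : Type u} [CommRing A] (h : HTop.IsSeminormalRing A) : IsReduced A := by
  refine (isReduced_iff_pow_one_lt 2 one_lt_two).2 fun x hx => ?_
  obtain ⟨a, ⟨ha, ha'⟩, -⟩ := h 0 x (by rw [hx]; ring)
  rw [ha', show a ^ 3 = a * a ^ 2 by ring, ← ha, mul_zero]



/-- A seminormal ring is reduced, and a seminormal scheme is reduced. -/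
theorem result :
    (∀ (A : Type u) [CommRing A], HTop.IsSeminormalRing A → IsReduced A) ∧
    ∀ (X : Scheme.{u}), HTop.IsSeminormal X → AlgebraicGeometry.IsReduced X := by
  refine ⟨fun A _ h => isReduced_of_isSeminormalRing h, fun X h => ?_⟩
  choose U hU hsn using h
  have : ∀ x, AlgebraicGeometry.IsReduced ((U x : X.Opens) : Scheme.{u}) := fun x => by
    have : IsAffine ((U x : X.Opens) : Scheme.{u}) := (U x).2
    have : _root_.IsReduced Γ(((U x : X.Opens) : Scheme.{u}), ⊤) :=
      have := isReduced_of_isSeminormalRing (hsn x)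
      isReduced_of_injective ((U x : X.Opens).topIso.hom.hom) ((U x : X.Opens).topIso.commRingCatIsoToRingEquiv.injective)
    exact isReduced_of_isAffine_isReduced _
  exact @IsReduced.of_openCover X (X.openCoverOfIsOpenCover (fun x => (U x : X.Opens))
    (TopologicalSpace.IsOpenCover.mk (eq_top_iff.2 fun x _ => TopologicalSpace.Opens.mem_iSup.2 ⟨x, hU x⟩))) this

end Groth.Agent.S7421
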