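import Groth.Statements.S14620
import Groth.Agent.Lib.Hensel.Properties
import Groth.Agent.Lib.Hensel.Local
import Mathlib.FieldTheory.PurelyInseparable.Basic
-- import your own Groth.Agent.* helpers here

set_option autoImplicit false
universe u
open Hensel

namespace Groth.Agent.S14620

/-- In the strictly henselian case, let f : A → B be a finite local homomorphism of local rings. If A is
strictly henselian (henselian local with separably closed residue field), then so is B. -/
theorem result {A B : Type u} [CommRing A] [IsLocalRing A]
    [CommRing B] [IsLocalRing B] (f : A →+* B) (hf : f.Finite) [IsLocalHom f]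
    (hA : EtCoh.IsStrictlyHenselianLocalRing A) : EtCoh.IsStrictlyHenselianLocalRing B := by
  obtain ⟨_, hsep⟩ := hA
  let _ : Algebra A B := f.toAlgebra
  have : Module.Finite A B := hf
  have : IsLocalHom (algebraMap A B) := ‹IsLocalHom f›
  have := GrothLib.Hensel.henselianRing_of_isIntegral (IsLocalRing.maximalIdeal A) B
  have hrad : ((IsLocalRing.maximalIdeal A).map (algebraMap A B)).radical =
      (IsLocalRing.maximalIdeal B).radical := by
    have hle : (IsLocalRing.maximalIdeal A).map (algebraMap A B) ≤ IsLocalRing.maximalIdeal B :=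
      ((IsLocalRing.local_hom_TFAE (algebraMap A B)).out 0 2 rfl rfl).mp inferInstance
    refine le_antisymm (Ideal.radical_mono hle) ?_
    rw [(IsLocalRing.maximalIdeal.isMaximal B).isPrime.radical, Ideal.radical_eq_sInf]
    refine le_sInf fun P ⟨hP, hPp⟩ ↦ ?_
    have : P.LiesOver (IsLocalRing.maximalIdeal A) :=
      ⟨(IsLocalRing.maximalIdeal.isMaximal A).eq_of_le (Ideal.comap_ne_top _ hPp.ne_top)
        (Ideal.map_le_iff_le_comap.mp hP)⟩
    exact (IsLocalRing.eq_maximalIdeal ((GrothLib.Hensel.isMaximal_iff_liesOver P).mpr this)).ge
  have := (GrothLib.Hensel.henselianRing_iff_of_radical_eq hrad).mp inferInstance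
  refine ⟨GrothLib.Hensel.henselianLocalRing_of_henselianRing this, ?_⟩
  exact Algebra.IsAlgebraic.isSepClosed (F := IsLocalRing.ResidueField A)
end Groth.Agent.S14620
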