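import Groth.Statements.S2344
import Groth.Agent.Lib.DVRDom.Extend

set_option autoImplicit false
universe u
open CategoryTheory CategoryTheory.Limits AlgebraicGeometry
open EGA2

namespace Groth.Agent.S2344

/-- Let X be a normal algebraic curve over k (separated, of finite type, nonempty, local rings at closed
points of dimension one, all local rings integrally closed domains), Y proper over k, U a dense open
of X and g : U → Y a k-morphism. Then g extends uniquely to a k-morphism X → Y. -/
theorem result (k : Type u) [Field k] (X Y : Scheme.{u}) [X.Over (Spec (CommRingCat.of k))] [Y.Over (Spec (CommRingCat.of k))]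
    [LocallyOfFiniteType (X ↘ (Spec (CommRingCat.of k)))] [QuasiCompact (X ↘ (Spec (CommRingCat.of k)))] [IsSeparated (X ↘ (Spec (CommRingCat.of k)))] [Nonempty X] (hcurve : (∀ x : X, IsClosed ({x} : Set X) → ringKrullDim (X.presheaf.stalk x) = 1)) (hnorm : Pi1.IsNormalScheme X)
    [IsProper (Y ↘ (Spec (CommRingCat.of k)))] (U : X.Opens) (hU : Dense (U : Set X)) (g : (U : Scheme.{u}) ⟶ Y)
    (hg : g ≫ (Y ↘ (Spec (CommRingCat.of k))) = U.ι ≫ (X ↘ (Spec (CommRingCat.of k)))) :
    ∃! g' : X ⟶ Y, U.ι ≫ g' = g ∧ g' ≫ (Y ↘ (Spec (CommRingCat.of k))) = X ↘ (Spec (CommRingCat.of k)) := by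
  classical
  set q := X ↘ Spec (CommRingCat.of k)
  set p := Y ↘ Spec (CommRingCat.of k)
  have : IsLocallyNoetherian X := LocallyOfFiniteType.isLocallyNoetherian q
  have : CompactSpace X := QuasiCompact.compactSpace_of_compactSpace q
  have : ∀ x : X, _root_.IsReduced (X.presheaf.stalk x) := fun x ↦ have := (hnorm x).1; inferInstance
  have : IsReduced X := isReduced_of_isReduced_stalk X
  have : IsLocallyNoetherian (pullback p q) :=
    LocallyOfFiniteType.isLocallyNoetherian (pullback.snd p q)
  obtain ⟨W, hUW, s', h1, h2, h3⟩ := GrothLib.DVRDom.exists_extension_section (pullback.snd p q)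
    (pullback.snd p q).isClosedMap U hU (pullback.lift g U.ι hg) (pullback.lift_snd _ _ _)
  have hdim : ∀ x : X, ringKrullDim (X.presheaf.stalk x) ≤ 1 := by
    intro x
    obtain ⟨c, hc, hc'⟩ := (isClosed_closure (s := ({x} : Set X))).exists_closed_singleton
      ((Set.singleton_nonempty x).closure)
    have hle : Order.coheight x ≤ Order.coheight c :=
      Order.coheight_anti (show c ≤ x from specializes_iff_mem_closure.mpr hc)
    have h := hcurve c hc'
    rw [ringKrullDim_stalk_eq_coheight] at h ⊢
    rw [← h]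
    exact_mod_cast hle
  have hW : ∀ x : X, x ∈ W := fun x ↦ by
    obtain ⟨hd, hi⟩ := hnorm x
    exact h3 x hd (GrothLib.DVRDom.valuationRing_of_isIntegrallyClosed _ (hdim x))
  let e : X ⟶ W := IsOpenImmersion.lift W.ι (𝟙 X) (by
    rw [Scheme.Opens.range_ι]; exact fun z _ ↦ hW z)
  have he : e ≫ W.ι = 𝟙 X := IsOpenImmersion.lift_fac _ _ _
  have heU : U.ι ≫ e = X.homOfLE hUW := by
    rw [← cancel_mono W.ι, Category.assoc, he, Category.comp_id, Scheme.homOfLE_ι]
  refine ⟨e ≫ s' ≫ pullback.fst p q, ⟨?_, ?_⟩, fun g' ⟨hg1, hg2⟩ ↦ ?_⟩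
  · rw [← Category.assoc, heU, ← Category.assoc, h2, pullback.lift_fst]
  · simp only [Category.assoc, pullback.condition]
    rw [reassoc_of% h1, ← Category.assoc, he, Category.id_comp]
  · have : IsDominant U.ι := ⟨by rw [DenseRange, Scheme.Opens.range_ι]; exact hU⟩
    refine ext_of_isDominant_of_isSeparated p ?_ U.ι ?_
    · rw [hg2]
      simp only [Category.assoc, pullback.condition]
      rw [reassoc_of% h1, ← Category.assoc, he, Category.id_comp]
    · rw [hg1, ← Category.assoc, heU, ← Category.assoc, h2, pullback.lift_fst]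

end Groth.Agent.S2344
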