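import Groth.Statements.S11191
import Groth.Agent.Lib.Repr.Functions
import Groth.Agent.Lib.Repr.Coeff
-- import your own Groth.Agent.* helpers here

set_option autoImplicit false
universe u
open CategoryTheory MonoidalCategory CartesianMonoidalCategory MonObj GrpObj AlgebraicGeometry
open scoped TensorProduct
open AGF

namespace Groth.Agent.S11191

section Aux

open GrothLib.Repr

variable {k : Type u} [Field k]

/-- The comparison with the affine test scheme of global functions. -/
noncomputable def affIso (X : Over (Spec (CommRingCat.of k))) [IsAffine X.left] : X ≅ VecGrp.pt k (Fn X) :=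
  Over.isoMk X.left.isoSpec (by
    change X.left.isoSpec.hom ≫ Spec.map ((Scheme.ΓSpecIso (CommRingCat.of k)).inv ≫ X.hom.appTop) = X.hom
    rw [Spec.map_comp, Scheme.isoSpec_hom, ← Category.assoc, ← Scheme.toSpecΓ_naturality, Category.assoc,
      toSpecΓ_SpecMap_ΓSpecIso_inv, Category.comp_id])

variable {G : Over (Spec (CommRingCat.of k))} [GrpObj G]
  {M : Type u} [AddCommGroup M] [Module k M] (ρ : VecGrp.GMod G M) (ℓ : Module.Dual k M) (a : M)

/-- The value of the matrix coefficient at a point. -/
noncomputable def val {R : Type u} [CommRing R] [Algebra k R] (u : VecGrp.pt k R ⟶ G) : R :=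
  cf ℓ (ρ.ρ R u ((1 : R) ⊗ₜ[k] a))

theorem exists_coeff_fn [IsAffine G.left] :
    ∃ f : Fn G, ∀ (R : Type u) [CommRing R] [Algebra k R] (u : VecGrp.pt k R ⟶ G),
      fnMap u f = fnPt k R (val ρ ℓ a u) := by
  let e := affIso G
  refine ⟨fnMap e.hom (fnPt k (Fn G) (val ρ ℓ a e.inv)), fun R _ _ u => ?_⟩
  rw [← AlgHom.comp_apply, ← fnMap_comp]
  obtain ⟨φ, hφ⟩ := exists_ptMap (u ≫ e.hom)
  rw [hφ, fnMap_ptMap]
  congr 1
  have hu : VecGrp.ptMap φ ≫ e.inv = u := by rw [← hφ, Category.assoc, e.hom_inv_id, Category.comp_id]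
  rw [val, map_cf, ρ.naturality, hu, VecGrp.Wmap_tmul, map_one]
  rfl

theorem fnMap_injective_of_iso {X Y : Over (Spec (CommRingCat.of k))} (e : X ≅ Y) :
    Function.Injective (fnMap e.hom) :=
  Function.LeftInverse.injective (g := fnMap e.inv) fun y => by
    rw [← AlgHom.comp_apply, ← fnMap_comp, e.inv_hom_id, fnMap_id]; rfl

theorem fnPt_injective (R : Type u) [CommRing R] [Algebra k R] : Function.Injective (fnPt k R) :=
  (ConcreteCategory.bijective_of_isIso (Scheme.ΓSpecIso (CommRingCat.of R)).inv).1

end Aux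

/-- Let k be an algebraically closed field, G a linear algebraic group over k (an affine smooth group
scheme over k) and H a closed subgroup of G (a smooth closed subgroup scheme, i : H → G), and let M
be a rational G-module. Then every H-invariant element of M is fixed by the observable hull of H: if
a rational point g of G fixes under right translation every right-H-invariant global function on G,
then g fixes every H-invariant element of M. (The published statement is for a commutative algebra
with a rational action by automorphisms; the multiplication plays no role and the row is stated for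
modules.) -/
theorem result (k : Type u) [Field k] [IsAlgClosed k]
    (G : Over (Spec (CommRingCat.of k))) [GrpObj G] [IsAffine G.left] [Smooth G.hom]
    (H : Over (Spec (CommRingCat.of k))) [GrpObj H] [Smooth H.hom] (i : H ⟶ G) [IsMonHom i]
    [IsClosedImmersion i.left]
    (M : Type u) [AddCommGroup M] [Module k M] (ρ : VecGrp.GMod G M)
    (g : VecGrp.pt k k ⟶ G) (hg : ∀ f : Γ(G.left, ⊤), AGF.IsRTransInv i f → AGF.IsRTransInv g f)
    (a : M) (ha : a ∈ ρ.fixedUnder i) :
    ρ.ρ k g ((1 : k) ⊗ₜ[k] a) = (1 : k) ⊗ₜ[k] a := by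
  haveI : IsAffine H.left := isAffine_of_isAffineHom i.left
  haveI : IsAffine (G ⊗ H).left := by
    change IsAffine (Limits.pullback G.hom H.hom)
    infer_instance
  refine GrothLib.Repr.ext_cf fun ℓ => ?_
  obtain ⟨f, hf⟩ := exists_coeff_fn ρ ℓ a
  have hinv : AGF.IsRTransInv i f := by
    change GrothLib.Repr.fnMap ((G ◁ i) ≫ μ[G]) f = GrothLib.Repr.fnMap (fst G H) f
    refine fnMap_injective_of_iso (affIso (G ⊗ H)).symm ?_
    rw [← AlgHom.comp_apply, ← GrothLib.Repr.fnMap_comp, hf, ← AlgHom.comp_apply, ← GrothLib.Repr.fnMap_comp, hf]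
    congr 1
    set w := (affIso (G ⊗ H)).symm.hom
    have e : w ≫ (G ◁ i) ≫ μ[G] = (w ≫ fst G H) * ((w ≫ snd G H) ≫ i) := by
      rw [Hom.mul_def, ← Category.assoc]
      congr 1
      apply CartesianMonoidalCategory.hom_ext <;> simp
    rw [e]
    unfold val
    rw [map_mul, LinearEquiv.mul_apply, ha _ (w ≫ snd G H)]
  have h0 : GrothLib.Repr.fnMap ((G ◁ g) ≫ μ[G]) f = GrothLib.Repr.fnMap (fst G _) f := hg f hinv
  have h := congrArg (GrothLib.Repr.fnMap (lift (1 : VecGrp.pt k k ⟶ G) (𝟙 _))) h0
  rw [← AlgHom.comp_apply, ← GrothLib.Repr.fnMap_comp, hf, ← AlgHom.comp_apply, ← GrothLib.Repr.fnMap_comp, hf] at h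
  have h' := fnPt_injective k h
  rw [lift_whiskerLeft_assoc, lift_fst, Category.id_comp, ← Hom.mul_def, _root_.one_mul] at h'
  unfold val at h'
  rw [map_one] at h'
  exact h'

end Groth.Agent.S11191
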