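import Groth.Statements.S9801
import Groth.Agent.Lib.Ref1.Extend
import Groth.Agent.Lib.CMFree.FiniteFlat

set_option autoImplicit false
universe u
open CategoryTheory AlgebraicGeometry TopologicalSpace
open Props

namespace Groth.Agent.S9801

/-- A locally Noetherian normal scheme of dimension at most two is Cohen-Macaulay, that is, all of its
local rings are Cohen-Macaulay local rings. -/
theorem result (X : Scheme.{u})
    [IsLocallyNoetherian X] (hN : Pi1.IsNormalScheme X) (hd : topologicalKrullDim X ≤ 2) (x : X) :
    LocCoh.IsCohenMacaulayLocalRing (X.presheaf.stalk x) := by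
    have hR : ringKrullDim (X.presheaf.stalk x) ≤ 2 :=
      (GrothLib.Ref1.ringKrullDim_stalk_le_topologicalKrullDim x).trans hd
    by_cases h1 : ringKrullDim (X.presheaf.stalk x) ≤ 1
    · have := GrothLib.Ref1.isRegularLocalRing_of_dim_le_one hN h1
      obtain ⟨rs, h, hm, hl⟩ := GrothLib.CMFree.exists_weaklyRegular_of_isRegularLocalRing (X.presheaf.stalk x)
      exact GrothLib.CMFree.isCohenMacaulayLocalRing_of_weaklyRegular _ rs h hm (le_of_eq hl.symm)
    · have h2 := GrothLib.Ref1.two_le_depth_self hN (GrothLib.Ref1.two_le_of_not_le_one h1)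
      refine ⟨?_⟩
      rw [Module.supportDim_self_eq_ringKrullDim]
      exact le_antisymm (hR.trans (WithBot.coe_le_coe.2 h2)) (GrothLib.CMFree.depth_le_ringKrullDim _)

end Groth.Agent.S9801
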