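import Groth.Statements.S0866
import Mathlib.Topology.Sheaves.Skyscraper
import Mathlib.Topology.Sheaves.SheafCondition.PairwiseIntersections
import Mathlib.Topology.Sheaves.Stalks
-- import your own Groth.Agent.* helpers here

set_option autoImplicit false
universe u
open CategoryTheory
open CohTop

namespace Groth.Agent.S0866

/-- The first step of the Godement resolution, for abelian sheaves: let f : X_disc -> X be the identity
map from X with the discrete topology. For an abelian sheaf F on X, the adjunction unit F -> f_*
f^{-1} F is a monomorphism and f_* f^{-1} F is a flasque sheaf. (The source builds the whole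
functorial flasque resolution by iterating f_* f^{-1} and proves it is a stalkwise homotopy
equivalence; only this first step is asserted here.) -/
theorem result {X : TopCat.{u}} (F : CohTop.Ab X) :
    Mono ((TopCat.Sheaf.pullbackPushforwardAdjunction AddCommGrpCat.{u}
      (TopCat.adj₁.counit.app X)).unit.app F) ∧
    TopCat.Sheaf.IsFlasque ((CohTop.push (TopCat.adj₁.counit.app X)).obj
      ((CohTop.pull (TopCat.adj₁.counit.app X)).obj F)) := by
  constructor
  · constructor
    intro T a b hab
    let f := TopCat.adj₁.counit.app X
    let adjU := TopCat.Sheaf.pullbackPushforwardAdjunction AddCommGrpCat.{u} f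
    classical
    have hst : ∀ x : X, (TopCat.Presheaf.stalkFunctor AddCommGrpCat.{u} x).map a.hom
        = (TopCat.Presheaf.stalkFunctor AddCommGrpCat.{u} x).map b.hom := by
      intro x
      let adjS := stalkSkyscraperSheafAdjunction (X := X) (C := AddCommGrpCat.{u}) x
      let A := (TopCat.Sheaf.forget AddCommGrpCat.{u} X ⋙
        TopCat.Presheaf.stalkFunctor AddCommGrpCat.{u} x).obj F
      let K : CohTop.Ab ((forget TopCat.{u} ⋙ TopCat.discrete).obj X) :=
        skyscraperSheaf (X := (forget TopCat.{u} ⋙ TopCat.discrete).obj X) x A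
      let η : F ⟶ (CohTop.push f).obj K := adjS.unit.app F
      have hη : η = adjU.unit.app F ≫ (CohTop.push f).map ((adjU.homEquiv F K).symm η) :=
        ((adjU.homEquiv F K).apply_symm_apply η).symm.trans (adjU.homEquiv_unit _ _ _)
      have h2 : a ≫ adjS.unit.app F = b ≫ adjS.unit.app F := by
        have h3 : a ≫ η = b ≫ η := by
          rw [hη, ← Category.assoc, ← Category.assoc]
          exact congrArg (· ≫ _) hab
        exact h3
      apply (adjS.homEquiv T A).injective
      refine Eq.trans ?_ (Eq.trans h2 ?_)
      · exact (adjS.homEquiv_unit _ _ _).trans (adjS.unit.naturality a).symm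
      · exact ((adjS.homEquiv_unit _ _ _).trans (adjS.unit.naturality b).symm).symm
    apply Sheaf.hom_ext
    ext U t
    refine TopCat.Presheaf.section_ext F U.unop _ _ fun x hx => ?_
    have := ConcreteCategory.congr_hom (hst x) (TopCat.Presheaf.germ T.obj U.unop x hx t)
    erw [TopCat.Presheaf.stalkFunctor_map_germ_apply, TopCat.Presheaf.stalkFunctor_map_germ_apply] at this
    exact this
  · refine ⟨fun {U V} i => ?_⟩
    let G := (CohTop.pull (TopCat.adj₁.counit.app X)).obj F
    let A : TopologicalSpace.Opens ((forget TopCat.{u} ⋙ TopCat.discrete).obj X) :=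
      (TopologicalSpace.Opens.map (TopCat.adj₁.counit.app X)).obj V.unop
    let B := (TopologicalSpace.Opens.map (TopCat.adj₁.counit.app X)).obj U.unop
    let A' : TopologicalSpace.Opens ((forget TopCat.{u} ⋙ TopCat.discrete).obj X) :=
      ⟨(A : Set _)ᶜ, trivial⟩
    have hd : A ⊓ A' = ⊥ := TopologicalSpace.Opens.ext (Set.inter_compl_self _)
    have hle : B ≤ A ⊔ A' := fun z _ => em (z ∈ A)
    let hc := TopCat.Sheaf.isProductOfDisjoint (U := A) (V := A') G hd
    let s := hc.lift (Limits.BinaryFan.mk (𝟙 (G.obj.obj (Opposite.op A))) 0)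
    have hs : s ≫ G.obj.map (homOfLE le_sup_left).op = 𝟙 _ :=
      hc.fac _ ⟨Limits.WalkingPair.left⟩
    have hsplit : (s ≫ G.obj.map (homOfLE hle).op) ≫
        G.obj.map ((TopologicalSpace.Opens.map (TopCat.adj₁.counit.app X)).map i.unop).op = 𝟙 _ := by
      rw [Category.assoc, ← G.obj.map_comp]
      exact hs
    have : IsSplitEpi
        (G.obj.map ((TopologicalSpace.Opens.map (TopCat.adj₁.counit.app X)).map i.unop).op) :=
      IsSplitEpi.mk' ⟨_, hsplit⟩
    exact (inferInstance : Epi
        (G.obj.map ((TopologicalSpace.Opens.map (TopCat.adj₁.counit.app X)).map i.unop).op))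

end Groth.Agent.S0866
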