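import Groth.Statements.S11137
import Mathlib

set_option autoImplicit false
universe u v
open InvTh

open scoped Pointwise

namespace Groth.Agent.S11137

/-- Let G be a finite group acting by ring automorphisms on a Noetherian commutative ring R, and let A
be its ring of invariants (A → R injective with image the fixed elements), with R module-finite over
A. Then the going-down property holds for the extension A → R. (The published statement also asserts
that G acts transitively on the primes of R over a given prime of A; this row states only the
going-down assertion.) -/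
theorem result
    (A : Type u) (R : Type v) [CommRing A] [CommRing R] [Algebra A R] [IsNoetherianRing R]
    (G : Type u) [Group G] [Finite G] [MulSemiringAction G R] [SMulCommClass G A R]
    [Algebra.IsInvariant A R G] [FaithfulSMul A R] [Module.Finite A R] :
    Algebra.HasGoingDown A R := by
  classical
  refine ⟨fun {p} _ Q _ hlt => ?_⟩
  have hint : Algebra.IsIntegral A R := inferInstance
  obtain ⟨⟨P₀, hP₀, hP₀p⟩⟩ := (inferInstance : Nonempty (Ideal.primesOver p R))
  obtain ⟨Q₀, hQ₀P₀, hQ₀, hQ₀q⟩ := Ideal.exists_ideal_over_prime_of_isIntegral (Q.under A) P₀
    (by rw [show P₀.comap (algebraMap A R) = p from hP₀p.over.symm]; exact hlt.le)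
  obtain ⟨g, hg⟩ := Algebra.IsInvariant.exists_smul_of_under_eq A R G Q₀ Q hQ₀q
  refine ⟨g • P₀, ?_, hP₀.smul g, hP₀p.smul g⟩
  rw [hg]
  exact (Ideal.pointwise_smul_le_pointwise_smul_iff).2 hQ₀P₀

end Groth.Agent.S11137
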