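import Groth.Statements.S18672
import Groth.Agent.Lib.GrLC.Basic

set_option autoImplicit false
universe u
open GrLC

namespace Groth.Agent.S18672

open GrothLib.GrLC in
theorem mem_closure_mul {R : Type u} [CommRing R] (𝒜 : ℤ → AddSubgroup R) [GradedRing 𝒜]
    (hstd : Ideal.span (⋃ n ∈ Set.Ioi (0 : ℤ), (𝒜 n : Set R)) = Ideal.span ((𝒜 1 : AddSubgroup R) : Set R)) :
    ∀ (i : ℕ) (l : ℤ), 0 ≤ l → ∀ z ∈ 𝒜 (l + i),
      z ∈ AddSubgroup.closure {w | ∃ x ∈ 𝒜 (i : ℤ), ∃ y ∈ 𝒜 l, w = x * y} := by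
  intro i
  induction i with
  | zero =>
    intro l hl z hz
    rw [Nat.cast_zero, add_zero] at hz
    exact AddSubgroup.subset_closure ⟨1, by rw [Nat.cast_zero]; exact SetLike.GradedOne.one_mem, z, hz, (one_mul z).symm⟩
  | succ i ih =>
    intro l hl z hz
    have hz' : z ∈ Ideal.span ((𝒜 1 : AddSubgroup R) : Set R) := hstd ▸ Ideal.subset_span
      (Set.mem_biUnion (show l + ((i + 1 : ℕ) : ℤ) ∈ Set.Ioi 0 by simp only [Set.mem_Ioi]; omega) hz)
    have key : ∀ v ∈ Ideal.span ((𝒜 1 : AddSubgroup R) : Set R), ∀ c : R,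
        cmp 𝒜 (l + ((i + 1 : ℕ) : ℤ)) (c * v) ∈
          AddSubgroup.closure {w | ∃ x ∈ 𝒜 ((i + 1 : ℕ) : ℤ), ∃ y ∈ 𝒜 l, w = x * y} := by
      intro v hv
      induction hv using Submodule.span_induction with
      | mem v hv =>
        intro c
        rw [← smul_eq_mul c v, cmp_smul_mem (𝒜 := 𝒜) 𝒜 c hv]
        have h := ih l hl _ (show cmp 𝒜 (l + ((i + 1 : ℕ) : ℤ) - 1) c ∈ 𝒜 (l + (i : ℤ)) by
          rw [show l + (i : ℤ) = l + ((i + 1 : ℕ) : ℤ) - 1 by push_cast; ring]; exact cmp_mem 𝒜 _ c)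
        rw [smul_eq_mul]
        generalize cmp 𝒜 (l + ((i + 1 : ℕ) : ℤ) - 1) c = u at h
        induction h using AddSubgroup.closure_induction with
        | mem w hw =>
          obtain ⟨x, hx, y, hy, rfl⟩ := hw
          refine AddSubgroup.subset_closure ⟨x * v, ?_, y, hy, by ring⟩
          rw [Nat.cast_succ]
          exact SetLike.mul_mem_graded hx hv
        | zero => rw [zero_mul]; exact zero_mem _
        | add a b _ _ ha hb => rw [add_mul]; exact add_mem ha hb
        | neg a _ ha => rw [neg_mul]; exact neg_mem ha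
      | zero => intro c; rw [mul_zero, map_zero]; exact zero_mem _
      | add a b _ _ ha hb => intro c; rw [mul_add, map_add]; exact add_mem (ha c) (hb c)
      | smul c a _ ha => intro e; rw [smul_eq_mul, ← mul_assoc]; exact ha (e * c)
    have h := key z hz' 1
    rwa [one_mul, cmp_of_mem 𝒜 hz] at h


/-- Let R be a graded ring defined over a field k = R_0 which is Cohen–Macaulay and generated over k by
R_1 (the standing hypotheses of this section; only generation in degree one is used), q ≥ 1, R' =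
R^(q), and a an integer. Then the Veronese submodule [R(a)]^(q) = ⊕_j R_{a+jq} is generated over R'
by its piece R(a)_n = R_{a+n}, where n is the smallest multiple of q with n + a ≥ 0. Here 'graded
ring defined over a field' means R = ⊕_{n ≥ 0} R_n is Noetherian with R_0 a field, and m = R_+ is
its unique graded maximal ideal. The Veronese subring R^(q) = ⊕_j R_{jq}, regraded by (R^(q))_j =
R_{jq}, is presented abstractly as a ℤ-graded ring R' with an injective ring homomorphism φ : R' → R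
carrying R'_j onto R_{jq} for every j. The module [R(a)]^(q) is presented as a graded R'-module M'
with an injective additive map g : M' → R, semilinear over φ, carrying M'_j onto R_{a+jq} for every
j; with n = j₀q, the conclusion is that the R'-span of M'_{j₀} is all of M'. -/
theorem result (R : Type u) [CommRing R] [LocCoh.IsCohenMacaulayRing R] (𝒜 : ℤ → AddSubgroup R) [GradedRing 𝒜] (hpos : ∀ n : ℤ, n < 0 → 𝒜 n = ⊥) (h0 : IsField (GrLC.deg0 𝒜)) (hstd : Ideal.span (⋃ n ∈ Set.Ioi (0 : ℤ), (𝒜 n : Set R)) = Ideal.span ((𝒜 1 : AddSubgroup R) : Set R)) (q : ℕ) (hq : 0 < q) (R' : Type u) [CommRing R'] (𝒜' : ℤ → AddSubgroup R') [GradedRing 𝒜'] (φ : R' →+* R) (hφ : Function.Injective φ) (hdeg : ∀ j : ℤ, (𝒜' j).map (φ : R' →+ R) = 𝒜 (j * q)) (a : ℤ) (M' : Type u) [AddCommGroup M'] [Module R' M'] (ℳ' : ℤ → AddSubgroup M') [DirectSum.Decomposition ℳ'] [SetLike.GradedSMul 𝒜' ℳ'] (g : M' →ₛₗ[φ] R) (hg : Function.Injective g) (hgdeg : ∀ j : ℤ, (ℳ' j).map (g : M' →+ R) = 𝒜 (a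 + j * q)) (j₀ : ℤ) (hj₀ : 0 ≤ a + j₀ * q) (hj₀' : a + (j₀ - 1) * q < 0) : Submodule.span R' ((ℳ' j₀ : AddSubgroup M') : Set M') = ⊤ := by
  refine eq_top_iff.2 fun m _ => ?_
  induction m using GrothLib.GrLC.gr_induction ℳ' with
  | h0 => exact zero_mem _
  | hadd u v hu hv => exact add_mem (hu trivial) (hv trivial)
  | hh j m hm =>
    have hgm : g m ∈ 𝒜 (a + j * q) := hgdeg j ▸ AddSubgroup.mem_map_of_mem _ hm
    rcases lt_or_ge j j₀ with hj | hj
    · have h1 : g m = 0 := by
        have hle : j * (q : ℤ) ≤ (j₀ - 1) * q := mul_le_mul_of_nonneg_right (by omega) (Int.natCast_nonneg q)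
        rw [hpos _ (by omega)] at hgm
        exact hgm
      rw [hg (h1.trans (map_zero g).symm)]
      exact zero_mem _
    · obtain ⟨i, rfl⟩ : ∃ i : ℕ, j = j₀ + i := ⟨(j - j₀).toNat, by omega⟩
      have hgm' : g m ∈ 𝒜 ((a + j₀ * q) + ((i * q : ℕ) : ℤ)) := by
        rw [Nat.cast_mul, add_assoc, ← add_mul]; exact hgm
      have key : ∀ w ∈ AddSubgroup.closure {w | ∃ x ∈ 𝒜 ((i * q : ℕ) : ℤ), ∃ y ∈ 𝒜 (a + j₀ * q), w = x * y},
          ∀ m : M', g m = w → m ∈ Submodule.span R' ((ℳ' j₀ : AddSubgroup M') : Set M') := by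
        intro w hw
        suffices ∃ m' ∈ Submodule.span R' ((ℳ' j₀ : AddSubgroup M') : Set M'), g m' = w by
          obtain ⟨m', hm', e⟩ := this
          intro m e'
          rwa [hg (e'.trans e.symm)]
        induction hw using AddSubgroup.closure_induction with
        | mem w hw =>
          obtain ⟨x, hx, y, hy, rfl⟩ := hw
          rw [Nat.cast_mul, ← hdeg] at hx
          obtain ⟨x', -, rfl⟩ := hx
          rw [← hgdeg] at hy
          obtain ⟨y', hy', rfl⟩ := hy
          exact ⟨x' • y', Submodule.smul_mem _ x' (Submodule.subset_span hy'), map_smulₛₗ g x' y'⟩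
        | zero => exact ⟨0, zero_mem _, map_zero g⟩
        | add u v _ _ hu hv =>
          obtain ⟨a, ha, ea⟩ := hu
          obtain ⟨b, hb, eb⟩ := hv
          exact ⟨a + b, add_mem ha hb, by rw [map_add, ea, eb]⟩
        | neg u _ hu =>
          obtain ⟨a, ha, ea⟩ := hu
          exact ⟨-a, neg_mem ha, by rw [map_neg, ea]⟩
      exact key _ (mem_closure_mul 𝒜 hstd (i * q) _ hj₀ _ hgm') m rfl

end Groth.Agent.S18672
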