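import Groth.Statements.S18671
import Groth.Agent.Lib.GrLC.Veronese

set_option autoImplicit false
universe u
open GrLC

namespace Groth.Agent.S18671

theorem isNoetherianRing_veronese {R R' : Type u} [CommRing R] [CommRing R'] [IsNoetherianRing R]
    {𝒜 : ℤ → AddSubgroup R} [GradedRing 𝒜] {𝒜' : ℤ → AddSubgroup R'} [GradedRing 𝒜'] (φ : R' →+* R)
    (hφ : Function.Injective φ) (q : ℕ) (hq : 0 < q)
    (hdeg : ∀ j : ℤ, (𝒜' j).map (φ : R' →+ R) = 𝒜 (j * q)) : IsNoetherianRing R' := by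
  classical
  let p : R →+ R :=
    (DirectSum.decomposeAddEquiv 𝒜).symm.toAddMonoidHom.comp
      ((DFinsupp.filterAddMonoidHom (fun i => 𝒜 i) (fun i : ℤ => (q : ℤ) ∣ i)).comp
        (DirectSum.decomposeAddEquiv 𝒜).toAddMonoidHom)
  have hp1 : ∀ i, ∀ x ∈ 𝒜 i, (q : ℤ) ∣ i → p x = x := fun i x hx hi => by
    refine (DirectSum.decomposeAddEquiv 𝒜).injective ?_
    simp only [p, AddMonoidHom.coe_comp, Function.comp_apply, AddEquiv.coe_toAddMonoidHom, AddEquiv.apply_symm_apply]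
    change DFinsupp.filter (fun i : ℤ => (q : ℤ) ∣ i) (DirectSum.decompose 𝒜 x) = DirectSum.decompose 𝒜 x
    rw [DirectSum.decompose_of_mem 𝒜 hx]
    exact DFinsupp.filter_single_pos _ _ hi
  have hp2 : ∀ i, ∀ x ∈ 𝒜 i, ¬ (q : ℤ) ∣ i → p x = 0 := fun i x hx hi => by
    refine (DirectSum.decomposeAddEquiv 𝒜).injective ?_
    simp only [p, AddMonoidHom.coe_comp, Function.comp_apply, AddEquiv.coe_toAddMonoidHom, AddEquiv.apply_symm_apply,
      map_zero]
    change DFinsupp.filter (fun i : ℤ => (q : ℤ) ∣ i) (DirectSum.decompose 𝒜 x) = 0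
    rw [DirectSum.decompose_of_mem 𝒜 hx]
    exact DFinsupp.filter_single_neg _ _ hi
  have hrange : ∀ x : R, p x ∈ Set.range φ := by
    intro x
    induction x using GrothLib.GrLC.gr_induction 𝒜 with
    | h0 => exact ⟨0, by rw [map_zero, map_zero]⟩
    | hadd a b ha hb =>
      obtain ⟨a', ha⟩ := ha; obtain ⟨b', hb⟩ := hb
      exact ⟨a' + b', by rw [map_add, map_add, ha, hb]⟩
    | hh i x hx =>
      by_cases hi : (q : ℤ) ∣ i
      · obtain ⟨j, rfl⟩ := hi
        rw [mul_comm] at hx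
        obtain ⟨r, -, hr⟩ := (hdeg j).ge hx
        exact ⟨r, by rw [hp1 _ x hx ⟨j, mul_comm _ _⟩]; exact hr⟩
      · exact ⟨0, by rw [hp2 i x hx hi, map_zero]⟩
  have hfix : ∀ (r : R') (y : R), p (φ r * y) = φ r * p y := by
    intro r y
    induction r using GrothLib.GrLC.gr_induction 𝒜' with
    | h0 => simp
    | hadd a b ha hb => rw [map_add, add_mul, add_mul, map_add, ha, hb]
    | hh j r hr =>
      have hrj : φ r ∈ 𝒜 (j * q) := (hdeg j).le ⟨r, hr, rfl⟩
      induction y using GrothLib.GrLC.gr_induction 𝒜 with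
      | h0 => simp
      | hadd a b ha hb => rw [mul_add, map_add, map_add, ha, hb, mul_add]
      | hh i y hy =>
        have hm := SetLike.mul_mem_graded hrj hy
        by_cases hi : (q : ℤ) ∣ i
        · rw [hp1 _ y hy hi, hp1 _ _ hm (dvd_add (dvd_mul_left _ _) hi)]
        · rw [hp2 _ y hy hi, mul_zero, hp2 _ _ hm (fun h => hi ((dvd_add_right (dvd_mul_left _ _)).1 h))]
  have hfixφ : ∀ r : R', p (φ r) = φ r := fun r => by
    rw [← mul_one (φ r), hfix, hp1 0 1 SetLike.GradedOne.one_mem (dvd_zero _)]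
  have hcomap : ∀ J : Ideal R', (J.map φ).comap φ = J := by
    intro J
    refine le_antisymm (fun x hx => ?_) Ideal.le_comap_map
    have key : ∀ z ∈ J.map φ, ∀ y : R, p (y * z) ∈ φ '' J := by
      intro z hz
      induction hz using Submodule.span_induction with
      | mem z hz =>
        obtain ⟨a, ha, rfl⟩ := hz
        intro y
        obtain ⟨b, hb⟩ := hrange y
        exact ⟨a * b, J.mul_mem_right b ha, by rw [map_mul, hb, mul_comm y, hfix]⟩
      | zero => exact fun y => ⟨0, zero_mem _, by rw [mul_zero, map_zero, map_zero]⟩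
      | add a b _ _ ha hb =>
        intro y
        obtain ⟨a', ha', e1⟩ := ha y; obtain ⟨b', hb', e2⟩ := hb y
        exact ⟨a' + b', add_mem ha' hb', by rw [map_add, e1, e2, mul_add, map_add]⟩
      | smul c a _ ha =>
        intro y
        rw [smul_eq_mul, ← mul_assoc]
        exact ha (y * c)
    obtain ⟨a, ha, e⟩ := key _ hx 1
    rw [one_mul, hfixφ] at e
    exact hφ e ▸ ha
  rw [isNoetherianRing_iff, isNoetherian_iff]
  exact Subrelation.wf (r := InvImage (· > ·) (Ideal.map φ))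
    (fun {I J} h => lt_of_le_of_ne (Ideal.map_mono h.le) fun e => h.ne (by
      rw [← hcomap J, ← hcomap I]; exact congrArg (Ideal.comap φ) e))
    (InvImage.wf _ wellFounded_gt)

/-- Let R be a graded ring defined over a field, q ≥ 1, R' = R^(q) its Veronese subring with m' = R'_+,
and M a graded R-module with Veronese submodule M^(q) = ⊕_j M_{jq}, a graded R'-module. Then
H^p_{m'}(M^(q)) ≅ (H^p_m(M))^(q) for every p. Stated here, for M finitely generated, as the equality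
of dimensions dim H^p_{m'}(M^(q))_j = dim H^p_m(M)_{jq} over the degree-zero fields R'_0 ≅ R_0, for
all p and j (the published isomorphism is one of graded R'-modules; all these pieces are
finite-dimensional). Here 'graded ring defined over a field' means R = ⊕_{n ≥ 0} R_n is Noetherian
with R_0 a field, and m = R_+ is its unique graded maximal ideal. The graded local cohomologies are
computed from *injective resolutions in the respective graded categories; the Veronese subring R^(q)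
= ⊕_j R_{jq}, regraded by (R^(q))_j = R_{jq}, is presented abstractly as a ℤ-graded ring R' with an
injective ring homomorphism φ : R' → R carrying R'_j onto R_{jq} for every j. The module M^(q) is
presented as a graded R'-module M' with an injective additive map g : M' → M, semilinear over φ,
carrying M'_j onto M_{jq} for every j. -/
theorem result (R : Type u) [CommRing R] [IsNoetherianRing R] (𝒜 : ℤ → AddSubgroup R) [GradedRing 𝒜] (hpos : ∀ n : ℤ, n < 0 → 𝒜 n = ⊥) (h0 : IsField (GrLC.deg0 𝒜)) (m : HomogeneousIdeal 𝒜) (hm : GrLC.IsStarLocal 𝒜 m) (hmsp : m.toIdeal = Ideal.span (⋃ n ∈ Set.Ioi (0 : ℤ), (𝒜 n : Set R))) (M : Type u) [AddCommGroup M] [Module R M] (ℳ : ℤ → AddSubgroup M) [DirectSum.Decomposition ℳ] [SetLike.GradedSMul 𝒜 ℳ] [Module.Finite R M] (E : GrLC.StarInjRes 𝒜 ℳ) (q : ℕ) (hq : 0 < q) (R' : Type u) [CommRing R'] (𝒜' : ℤ → AddSubgroup R') [GradedRing 𝒜'] (φ : R' →+* R) (hφ : Function.Injective φ) (hdeg : ∀ j : ℤ, (𝒜' j).map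 (φ : R' →+ R) = 𝒜 (j * q)) (m' : HomogeneousIdeal 𝒜') (hm' : GrLC.IsStarLocal 𝒜' m') (hm'sp : m'.toIdeal = Ideal.span (⋃ j ∈ Set.Ioi (0 : ℤ), (𝒜' j : Set R'))) (M' : Type u) [AddCommGroup M'] [Module R' M'] (ℳ' : ℤ → AddSubgroup M') [DirectSum.Decomposition ℳ'] [SetLike.GradedSMul 𝒜' ℳ'] (g : M' →ₛₗ[φ] M) (hg : Function.Injective g) (hgdeg : ∀ j : ℤ, (ℳ' j).map (g : M' →+ M) = ℳ (j * q)) (F : GrLC.StarInjRes 𝒜' ℳ') (p : ℕ) (j : ℤ) : Module.finrank (GrLC.deg0 𝒜') (F.Hcomp m' p j) = Module.finrank (GrLC.deg0 𝒜) (E.Hcomp m p (j * q)) := by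
  classical
  have hpos' : ∀ n : ℤ, n < 0 → ∀ r ∈ 𝒜 n, r = 0 := fun i hi r hr => by
    rw [hpos i hi] at hr; exact hr
  have hqz : (0 : ℤ) < q := by exact_mod_cast hq
  have := isNoetherianRing_veronese φ hφ q hq hdeg
  have hmap : ∀ i : ℤ, ∀ r ∈ 𝒜' i, φ r ∈ 𝒜 (i * q) := fun i r hr => (hdeg i).le ⟨r, hr, rfl⟩
  obtain ⟨l, hl⟩ := GrothLib.GrLC.exists_hspan (𝒜 := 𝒜') (a := m')
  let v : GrothLib.GrLC.VMap φ q (GrothLib.GrLC.gmod 𝒜' ℳ') (GrothLib.GrLC.gmod 𝒜 ℳ) :=
    { f := g.toAddMonoidHom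
      smul := fun r x => g.map_smulₛₗ r x
      inj := hg
      hom := fun i x hx => (hgdeg i).le ⟨x, hx, rfl⟩
      onto := fun i y hy => by
        obtain ⟨x, hx, e⟩ := (hgdeg i).ge hy
        exact ⟨x, hx, e⟩ }
  let L := l.map (GrothLib.GrLC.mapElt hmap)
  have hprime : m.toIdeal.IsPrime := (GrothLib.GrLC.isMaximal_of_isStarLocal hpos' hm).isPrime
  have hrad : (GrothLib.GrLC.hspan L).toIdeal.radical = m.toIdeal.radical := by
    have hm'm : m'.toIdeal ≤ m.toIdeal.comap φ := by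
      rw [hm'sp]
      refine Ideal.span_le.2 fun r hr => ?_
      obtain ⟨i, hi, hr⟩ := Set.mem_iUnion₂.1 hr
      exact hmsp.ge (Ideal.subset_span (Set.mem_iUnion₂.2 ⟨i * q, mul_pos (show 0 < i from hi) hqz, hmap i r hr⟩))
    refine le_antisymm (Ideal.radical_mono (Ideal.span_le.2 ?_)) (Ideal.radical_le_radical_iff.2 ?_)
    · rintro r ⟨y, hy, rfl⟩
      obtain ⟨x, hx, rfl⟩ := List.mem_map.1 hy
      exact hm'm (hl.le (Ideal.subset_span ⟨x, hx, rfl⟩))
    · rw [hmsp, Ideal.span_le]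
      intro y hy
      obtain ⟨i, hi, hy⟩ := Set.mem_iUnion₂.1 hy
      have hyq : y ^ q ∈ 𝒜 (i * q) := by
        have := SetLike.pow_mem_graded q hy
        rwa [nsmul_eq_mul, mul_comm] at this
      obtain ⟨r, hr, e⟩ := (hdeg i).ge hyq
      have hmapl : (GrothLib.GrLC.hspan l).toIdeal ≤ (GrothLib.GrLC.hspan L).toIdeal.comap φ :=
        Ideal.span_le.2 (by
          rintro z ⟨x, hx, rfl⟩
          exact Ideal.subset_span ⟨_, List.mem_map_of_mem hx, rfl⟩)
      exact ⟨q, e ▸ hmapl (hl.ge (hm'sp.ge (Ideal.subset_span (Set.mem_iUnion₂.2 ⟨i, hi, hr⟩))))⟩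
  have hi0 : ∀ r : GrLC.deg0 𝒜', φ (r : R') ∈ 𝒜 0 := fun r => by
    have := hmap 0 r r.2
    rwa [zero_mul] at this
  let i₀ : GrLC.deg0 𝒜' → GrLC.deg0 𝒜 := fun r => ⟨φ r, hi0 r⟩
  have hi₀ : Function.Bijective i₀ := by
    refine ⟨fun a b h => Subtype.ext (hφ (congrArg Subtype.val h)), fun y => ?_⟩
    obtain ⟨r, hr, e⟩ := (hdeg 0).ge (by rw [zero_mul]; exact y.2)
    exact ⟨⟨r, hr⟩, Subtype.ext e⟩
  obtain ⟨e₁⟩ := GrothLib.GrLC.nonempty_HP_equiv_Hcomp F hl p j
  obtain ⟨e₂⟩ := GrothLib.GrLC.nonempty_HP_equiv_Hcomp E (a := GrothLib.GrLC.hspan L) rfl p (j * q)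
  obtain ⟨e₃⟩ := GrothLib.GrLC.nonempty_Hcomp_congr_radical E hrad p (j * q)
  rw [← e₁.finrank_eq, ← (e₂.trans e₃).finrank_eq]
  exact (GrothLib.GrLC.vcech hmap v l).finrank_HP_eq i₀ hi₀ (fun _ => rfl) p j

end Groth.Agent.S18671
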