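import Groth.Statements.S18648
import Groth.Agent.S18652
import Groth.Agent.Lib.GrLC.Degree

set_option autoImplicit false
universe u
open scoped TensorProduct
open GrSegre

namespace Groth.Agent.S18648

theorem lt_zero_iff_le_neg_one (x : WithBot (WithTop ℤ)) :
    x < 0 ↔ x ≤ (((-1 : ℤ) : WithTop ℤ) : WithBot (WithTop ℤ)) := by
  rw [← WithBot.coe_zero, ← WithTop.coe_zero]
  cases x with
  | bot => simp
  | coe y =>
    cases y with
    | top => simp
    | coe z => simp only [WithBot.coe_lt_coe, WithBot.coe_le_coe, WithTop.coe_lt_coe, WithTop.coe_le_coe]; omega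

theorem piece_ne_bot {k R : Type*} [Field k] [CommRing R] [Algebra k R] (𝒜 : ℤ → Submodule k R) [GradedAlgebra 𝒜]
    [Nontrivial R] (hmax : (Ideal.span (⋃ n ∈ Set.Ioi (0 : ℤ), (𝒜 n : Set R))).IsMaximal)
    (hstd : Ideal.span (⋃ n ∈ Set.Ioi (0 : ℤ), (𝒜 n : Set R)) = Ideal.span ((𝒜 1 : Submodule k R) : Set R))
    {r : ℕ} (hr : ringKrullDim R = r) (h1 : 1 ≤ r) {n : ℤ} (hn : 0 ≤ n) : 𝒜 n ≠ ⊥ := by
  intro h
  obtain ⟨n, rfl⟩ := Int.eq_ofNat_of_zero_le hn
  have hnil : Ideal.span ((𝒜 1 : Submodule k R) : Set R) ≤ nilradical R := by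
    refine Ideal.span_le.2 fun a ha => ⟨n, ?_⟩
    have := SetLike.pow_mem_graded n (show a ∈ 𝒜 1 from ha)
    rw [show n • (1 : ℤ) = (n : ℤ) by simp, h] at this
    exact (Submodule.mem_bot k).1 this
  have : Ring.KrullDimLE 0 R := Ring.krullDimLE_zero_iff.2 fun P hP => by
    rwa [← hmax.eq_of_le hP.ne_top (hstd.le.trans (hnil.trans (nilradical_le_prime P)))]
  have h0 := (Ring.krullDimLE_iff (n := 0) (R := R)).1 this
  rw [hr] at h0
  have : r ≤ 0 := by exact_mod_cast h0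
  omega

theorem forall_bot_or_iff {k R : Type*} [Field k] [CommRing R] [Algebra k R] {𝒜 : ℤ → Submodule k R}
    (hpos : ∀ n : ℤ, n < 0 → 𝒜 n = ⊥) (hne : ∀ n : ℤ, 0 ≤ n → 𝒜 n ≠ ⊥) {M : Type*} [AddCommGroup M]
    (ℳ : ℤ → AddSubgroup M) : (∀ n : ℤ, 𝒜 n = ⊥ ∨ ℳ n = ⊥) ↔ GrLC.endDeg ℳ < 0 := by
  rw [lt_zero_iff_le_neg_one, GrothLib.GrLC.endDeg_le_iff]
  refine ⟨fun h n hn => (h n).resolve_left (hne n (by omega)), fun h n => ?_⟩
  rcases lt_or_ge n 0 with hn | hn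
  · exact Or.inl (hpos n hn)
  · exact Or.inr (h n (by omega))


/-- Let R and S be standard graded rings defined over a field k which are Cohen–Macaulay, of dimensions
r ≥ 2 and s ≥ 2. Then the Segre product T = R # S is a Cohen–Macaulay ring if and only if a(R) < 0
and a(S) < 0. Here a graded ring defined over k is a commutative k-algebra of finite type, graded in
nonnegative degrees by k-subspaces with degree-zero part k·1, and it is standard graded when its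
irrelevant ideal is generated by the degree-one piece; the a-invariant a(R) is the largest degree in
which the graded local cohomology H^{dim R}_{R_+}(R), computed from a *injective resolution of R in
the graded category, is nonzero; the Segre product T = R # S = ⊕_n R_n ⊗_k S_n is presented
abstractly as a graded k-algebra T with an injective k-algebra homomorphism ψ : T → R ⊗_k S carrying
T_n onto the k-span of the elementary tensors a ⊗ b with a ∈ R_n, b ∈ S_n. -/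
theorem result (k : Type u) [Field k] (R : Type u) [CommRing R] [Algebra k R] (𝒜 : ℤ → Submodule k R) [GradedAlgebra 𝒜] (hposR : ∀ n : ℤ, n < 0 → 𝒜 n = ⊥) (h0R : 𝒜 0 = Submodule.span k {(1 : R)}) [Algebra.FiniteType k R] (S : Type u) [CommRing S] [Algebra k S] (ℬ : ℤ → Submodule k S) [GradedAlgebra ℬ] (hposS : ∀ n : ℤ, n < 0 → ℬ n = ⊥) (h0S : ℬ 0 = Submodule.span k {(1 : S)}) [Algebra.FiniteType k S] (T : Type u) [CommRing T] [Algebra k T] (𝒯 : ℤ → Submodule k T) [GradedAlgebra 𝒯] (ψ : T →ₐ[k] TensorProduct k R S) (hψ : Function.Injective ψ) (hdegT : ∀ n : ℤ, (𝒯 n).map ψ.toLinearMap = Submodule.span k {x : TensorProduct k R S | ∃ a ∈ 𝒜 n, ∃ b ∈ ℬ n, x = a ⊗ₜ[k] b}) [LocCoh.IsCohenMacaulayRing R] [LocCoh.IsCohenMacaulayRing S] (mR : HomogeneousIdeal 𝒜) (hmR : mR.toIdeal = Ideal.span (⋃ n ∈ Set.Ioi (0 : ℤ), (𝒜 n : Set R))) (hstdR : Ideal.span (⋃ n ∈ Set.Ioi (0 : ℤ), (𝒜 n : Set R)) = Ideal.span ((𝒜 1 : Submodule k R) : Set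 R)) (I : GrLC.StarInjRes 𝒜 𝒜) (mS : HomogeneousIdeal ℬ) (hmS : mS.toIdeal = Ideal.span (⋃ n ∈ Set.Ioi (0 : ℤ), (ℬ n : Set S))) (hstdS : Ideal.span (⋃ n ∈ Set.Ioi (0 : ℤ), (ℬ n : Set S)) = Ideal.span ((ℬ 1 : Submodule k S) : Set S)) (J : GrLC.StarInjRes ℬ ℬ) (r s : ℕ) (hr : ringKrullDim R = r) (hs : ringKrullDim S = s) (h2r : 2 ≤ r) (h2s : 2 ≤ s) : LocCoh.IsCohenMacaulayRing T ↔ GrLC.endDeg (I.Hgr mR r) < 0 ∧ GrLC.endDeg (J.Hgr mS s) < 0 := by
  rw [Groth.Agent.S18652.result k R 𝒜 hposR h0R S ℬ hposS h0S T 𝒯 ψ hψ hdegT mR hmR I mS hmS J r s hr hs h2r h2s]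
  have : Nontrivial R := not_subsingleton_iff_nontrivial.1 fun h => by
    rw [ringKrullDim_eq_bot_of_subsingleton] at hr; exact WithBot.bot_ne_coe hr
  have : Nontrivial S := not_subsingleton_iff_nontrivial.1 fun h => by
    rw [ringKrullDim_eq_bot_of_subsingleton] at hs; exact WithBot.bot_ne_coe hs
  have hneR : ∀ n : ℤ, 0 ≤ n → 𝒜 n ≠ ⊥ := fun n =>
    piece_ne_bot 𝒜 (hmR ▸ GrothLib.Segre.isMaximal hposR h0R hmR) hstdR hr (by omega)
  have hneS : ∀ n : ℤ, 0 ≤ n → ℬ n ≠ ⊥ := fun n =>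
    piece_ne_bot ℬ (hmS ▸ GrothLib.Segre.isMaximal hposS h0S hmS) hstdS hs (by omega)
  rw [and_comm]
  refine and_congr ?_ ?_
  · rw [← forall_bot_or_iff hposS hneS]
    exact forall_congr' fun n => by
      rw [or_comm]; simp [GrLC.StarInjRes.Hgr, Submodule.eq_bot_iff, AddSubgroup.eq_bot_iff_forall]
  · rw [← forall_bot_or_iff hposR hneR]
    exact forall_congr' fun n => by simp [GrLC.StarInjRes.Hgr, Submodule.eq_bot_iff, AddSubgroup.eq_bot_iff_forall]

end Groth.Agent.S18648
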