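import Groth.Statements.S5326
import Groth.Agent.Lib.Neutral.SetRep
import Groth.Agent.Lib.Neutral.Constructible

set_option autoImplicit false
universe u
open CategoryTheory CategoryTheory.Limits MonoidalCategory CartesianMonoidalCategory MonObj GrpObj AlgebraicGeometry
open SGA3

namespace Groth.Agent.S5326

/-- Let G be an S-group scheme locally of finite presentation over S, and suppose the neutral component
subfunctor of G is representable: there is a monomorphism i : G⁰ → G of S-schemes such that a point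
g : T → G factors through i exactly when the image of the underlying map of g lies in the union of
the neutral components of the fibres G_s. Then i is an open immersion and G⁰ is quasi-compact over
S. -/
theorem result (S : Scheme.{u}) (G : Over S) [GrpObj G]
    [LocallyOfFinitePresentation G.hom] (G0 : Over S) (i : G0 ⟶ G) [Mono i]
    (hrep : ∀ (T : Over S) (g : T ⟶ G), (∃ z : T ⟶ G0, z ≫ i = g) ↔ Set.range g.left.base ⊆ SGA3x.neutralSet G) :
    IsOpenImmersion i.left ∧ QuasiCompact G0.hom := by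
  classical
  haveI : Mono i.left := inferInstance
  have hG : ∀ s : S, LocallyOfFiniteType (G.hom.fiberToSpecResidueField s) :=
    fun s => MorphismProperty.pullback_snd _ _ inferInstance
  have hi : Set.range i.left ⊆ SGA3x.neutralSet G := (hrep G0 i).mp ⟨𝟙 _, Category.id_comp i⟩
  have hlift : ∀ {T : Scheme.{u}} (g : T ⟶ G.left), Set.range g ⊆ SGA3x.neutralSet G → ∃ z, z ≫ i.left = g := by
    intro T g hg
    obtain ⟨z, hz⟩ := (hrep (Over.mk (g ≫ G.hom)) (Over.homMk g)).mpr hg
    exact ⟨z.left, congrArg CommaMorphism.left hz⟩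
  have hopen : IsOpenImmersion i.left := GrothLib.Neutral.isOpenImmersion_of_rep i.left
    (GrothLib.Neutral.isIndConstructible_neutralSet G) hi hlift
  have hr : Set.range i.left = SGA3x.neutralSet G := by
    refine Set.Subset.antisymm hi fun g hg => ?_
    obtain ⟨z, hz⟩ := hlift (G.left.fromSpecResidueField g) (by rw [Scheme.range_fromSpecResidueField]; simpa using hg)
    exact ⟨z (IsLocalRing.closedPoint _), by
      rw [← Scheme.Hom.comp_apply, hz]; exact G.left.fromSpecResidueField_apply g _⟩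
  refine ⟨hopen, quasiCompact_iff_forall_isAffineOpen.mpr fun V hV => ?_⟩
  haveI : IsAffine V.toScheme := hV
  have hNo : IsOpen (SGA3x.neutralSet G) := hr ▸ i.left.isOpenEmbedding.isOpen_range
  let O : G.left.Opens := ⟨SGA3x.neutralSet G, hNo⟩ ⊓ G.hom ⁻¹ᵁ V
  obtain ⟨W, hWc, hWO, hWe⟩ : ∃ W : G.left.Opens, IsCompact (W : Set G.left) ∧ W ≤ O ∧
      η[G].left '' (V : Set S) ⊆ W := by
    have hsub : η[G].left '' (V : Set S) ⊆ ⋃ A : {A : G.left.affineOpens // A.1 ≤ O}, (A.1.1 : Set G.left) := by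
      rintro _ ⟨s, hs, rfl⟩
      obtain ⟨_, ⟨A, hA, rfl⟩, hxA, hAO⟩ := G.left.isBasis_affineOpens.exists_subset_of_mem_open
        (show η[G].left s ∈ O from ⟨GrothLib.Neutral.unit_mem_neutralSet G s, by
          change G.hom (η[G].left s) ∈ V; rw [GrothLib.Neutral.hom_unit]; exact hs⟩) O.2
      exact Set.mem_iUnion.mpr ⟨⟨⟨A, hA⟩, hAO⟩, hxA⟩
    obtain ⟨I, hI⟩ := (hV.isCompact.image η[G].left.continuous).elim_finite_subcover _ (fun A => A.1.1.2) hsub
    refine ⟨⨆ A ∈ I, A.1.1, ?_, iSup₂_le fun A _ => A.2, ?_⟩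
    · simp only [TopologicalSpace.Opens.coe_iSup]
      exact Finset.isCompact_biUnion _ fun A _ => A.1.2.isCompact
    · simp only [TopologicalSpace.Opens.coe_iSup]
      exact hI
  haveI : CompactSpace W.toScheme := isCompact_iff_compactSpace.mp hWc
  let P : Set ↥(G ⊗ G).left := (fst G G).left ⁻¹' (W : Set G.left) ∩ (snd G G).left ⁻¹' (W : Set G.left)
  have hP : IsCompact P := by
    have hf : Set.range (W.ι ≫ G.hom) ⊆ Set.range V.ι := by
      rintro _ ⟨w, rfl⟩
      exact ⟨⟨_, (hWO w.2).2⟩, rfl⟩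
    let f₀ := IsOpenImmersion.lift V.ι (W.ι ≫ G.hom) hf
    haveI : QuasiCompact f₀ := (quasiCompact_iff_compactSpace _).mpr inferInstance
    haveI : CompactSpace ↥(pullback f₀ f₀) := inferInstance
    let J := pullback.map f₀ f₀ G.hom G.hom W.ι W.ι V.ι (IsOpenImmersion.lift_fac ..) (IsOpenImmersion.lift_fac ..)
    have hJ : Set.range J = _ := Scheme.Pullback.range_map f₀ f₀ G.hom G.hom W.ι W.ι V.ι
      (IsOpenImmersion.lift_fac ..) (IsOpenImmersion.lift_fac ..)
    have h := isCompact_range J.continuous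
    rw [hJ, Scheme.Opens.range_ι] at h
    exact h
  have heq : μ[G].left '' P = SGA3x.neutralSet G ∩ G.hom ⁻¹' (V : Set S) := by
    refine Set.Subset.antisymm ?_ fun g ⟨hg, hgV⟩ => ?_
    · rintro _ ⟨q, ⟨h₁, h₂⟩, rfl⟩
      refine ⟨GrothLib.Neutral.mul_mem_neutralSet G q (hG _) (hWO h₁).1 (hWO h₂).1, ?_⟩
      rw [Set.mem_preimage, ← Scheme.Hom.comp_apply, Over.w μ[G], ← Over.w (fst G G), Scheme.Hom.comp_apply]
      exact (hWO h₁).2
    · obtain ⟨q, h₁, h₂, hq⟩ := GrothLib.Neutral.exists_pair G g hg (hG _) W (hWe ⟨_, hgV, rfl⟩)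
      exact ⟨q, ⟨h₁, h₂⟩, hq⟩
  have hc : IsCompact (SGA3x.neutralSet G ∩ G.hom ⁻¹' (V : Set S)) := heq ▸ hP.image μ[G].left.continuous
  rw [i.left.isEmbedding.isInducing.isCompact_iff]
  convert hc using 1
  ext g
  constructor
  · rintro ⟨z, hz, rfl⟩
    refine ⟨hi ⟨z, rfl⟩, ?_⟩
    rw [Set.mem_preimage, ← Scheme.Hom.comp_apply, Over.w i]
    exact hz
  · rintro ⟨hg, hgV⟩
    obtain ⟨z, rfl⟩ := hr.ge hg
    refine ⟨z, ?_, rfl⟩
    change G0.hom z ∈ V
    rw [← Over.w i, Scheme.Hom.comp_apply]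
    exact hgV

end Groth.Agent.S5326
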