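import Groth.Statements.S0321
import Groth.Agent.Lib.Depth.Basic
import Groth.Agent.Lib.LC.Seq
import Groth.Agent.Lib.LC.Torsion

set_option autoImplicit false
universe u v
open LocCoh

namespace Groth.Agent.S0321

/-- Depth inequalities along a short exact sequence 0 → N' → N → N'' → 0 of finite modules over a
Noetherian ring: depth N ≥ min(depth N', depth N''), depth N'' ≥ min(depth N, depth N' − 1), depth
N' ≥ min(depth N, depth N'' + 1). -/
theorem result (R : Type u) [CommRing R] [IsNoetherianRing R] (I : Ideal R) (N' : Type u) [AddCommGroup N'] [Module R N'] [Module.Finite R N'] (N : Type u) [AddCommGroup N] [Module R N] [Module.Finite R N] (N'' : Type u) [AddCommGroup N''] [Module R N''] [Module.Finite R N''] (f : N' →ₗ[R] N) (g : N →ₗ[R] N'') (hf : Function.Injective f) (hg : Function.Surjective g) (hfg : Function.Exact f g) : min (LocCoh.idealDepth I N') (LocCoh.idealDepth I N'') ≤ LocCoh.idealDepth I N ∧ min (LocCoh.idealDepth I N) (LocCoh.idealDepth I N' - 1) ≤ LocCoh.idealDepth I N'' ∧ min (LocCoh.idealDepth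 I N) (LocCoh.idealDepth I N'' + 1) ≤ LocCoh.idealDepth I N' := by
  have hS : (CategoryTheory.ShortComplex.mk (X₁ := ModuleCat.of R N') (X₂ := ModuleCat.of R N)
      (X₃ := ModuleCat.of R N'') (ModuleCat.ofHom f) (ModuleCat.ofHom g)
      (ModuleCat.hom_ext hfg.linearMap_comp_eq_zero)).ShortExact :=
    { exact := (CategoryTheory.ShortComplex.moduleCat_exact_iff _).2 fun x hx => (hfg x).1 hx
      mono_f := (ModuleCat.mono_iff_injective _).2 hf
      epi_g := (ModuleCat.epi_iff_surjective _).2 hg }
  refine ⟨?_, ?_, ?_⟩ <;> refine GrothLib.Depth.le_of_forall_coe_le fun n hn => ?_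
  · rw [le_min_iff, GrothLib.Depth.le_idealDepth_iff_H, GrothLib.Depth.le_idealDepth_iff_H] at hn
    rw [GrothLib.Depth.le_idealDepth_iff_H]
    exact fun i hi => GrothLib.LC.subsingleton₂ I hS i (hn.1 i hi) (hn.2 i hi)
  · rw [le_min_iff] at hn
    rcases n with - | m
    · exact zero_le
    have h1 : ((m + 1 + 1 : ℕ) : ℕ∞) ≤ LocCoh.idealDepth I N' := by
      have h2 := hn.2
      generalize LocCoh.idealDepth I N' = D at h2 ⊢
      induction D using ENat.recTopCoe with
      | top => exact le_top
      | coe d =>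
        have h3 : m + 1 ≤ d - 1 := by exact_mod_cast h2
        exact_mod_cast (show m + 1 + 1 ≤ d by omega)
    rw [GrothLib.Depth.le_idealDepth_iff_H] at h1 ⊢
    exact fun i hi => GrothLib.LC.subsingleton₃ I hS i
      ((GrothLib.Depth.le_idealDepth_iff_H I (m + 1)).1 hn.1 i hi) (h1 (i + 1) (by omega))
  · rw [le_min_iff] at hn
    rw [GrothLib.Depth.le_idealDepth_iff_H]
    intro i hi
    rcases i with - | j
    · have := (GrothLib.Depth.le_idealDepth_iff_H I n).1 hn.1 0 hi
      exact (GrothLib.LC.map_zero_injective I (M := ModuleCat.of R N') (M' := ModuleCat.of R N)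
        (ModuleCat.ofHom f) hf).subsingleton
    have h3 : ((j + 1 : ℕ) : ℕ∞) ≤ LocCoh.idealDepth I N'' := by
      have h2 : (n : ℕ∞) ≤ LocCoh.idealDepth I N'' + 1 := hn.2
      generalize LocCoh.idealDepth I N'' = D at h2 ⊢
      induction D using ENat.recTopCoe with
      | top => exact le_top
      | coe d =>
        have : n ≤ d + 1 := by exact_mod_cast h2
        exact_mod_cast (show j + 1 ≤ d by omega)
    exact GrothLib.LC.subsingleton₁ I hS j
      ((GrothLib.Depth.le_idealDepth_iff_H I n).1 hn.1 (j + 1) hi)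
      ((GrothLib.Depth.le_idealDepth_iff_H I (j + 1)).1 h3 j (Nat.lt_succ_self j))

end Groth.Agent.S0321
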