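import Groth.Statements.S0943
import Mathlib.CategoryTheory.Limits.Preserves.Shapes.Products
import Mathlib.CategoryTheory.Triangulated.Pretriangulated

set_option autoImplicit false
universe u
open CategoryTheory
open CohSite

namespace Groth.Agent.S0943

section General

open CategoryTheory Limits Pretriangulated

variable {T : Type*} [Category T] [Preadditive T] [HasZeroObject T] [HasShift T ℤ]
  [∀ n : ℤ, (shiftFunctor T n).Additive] [Pretriangulated T]
  (K : ℕ → T) (t : ∀ n, K (n + 1) ⟶ K n) [HasProduct K] {L : T} (a : ∀ n, L ⟶ K n)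

/-- Moving a shift from the target to the source. -/
noncomputable def shEquiv (X Y : T) (m : ℤ) :
    ((shiftFunctor T (-m)).obj X ⟶ Y) ≃ (X ⟶ (shiftFunctor T m).obj Y) :=
  (shiftEquiv' T (-m) m (neg_add_cancel m)).toAdjunction.homEquiv X Y

lemma shEquiv_comp (X : T) {Y Y' : T} (m : ℤ) (f : (shiftFunctor T (-m)).obj X ⟶ Y) (g : Y ⟶ Y') :
    shEquiv X Y' m (f ≫ g) = shEquiv X Y m f ≫ (shiftFunctor T m).map g :=
  Adjunction.homEquiv_naturality_right _ f g

lemma shEquiv_symm_comp (X : T) {Y Y' : T} (m : ℤ) (f : X ⟶ (shiftFunctor T m).obj Y) (g : Y ⟶ Y') :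
    (shEquiv X Y' m).symm (f ≫ (shiftFunctor T m).map g) = (shEquiv X Y m).symm f ≫ g :=
  Adjunction.homEquiv_naturality_right_symm _ f g

lemma shEquiv_sub (X : T) {Y : T} (m : ℤ) (f g : (shiftFunctor T (-m)).obj X ⟶ Y) :
    shEquiv X Y m (f - g) = shEquiv X Y m f - shEquiv X Y m g := by
  unfold shEquiv
  erw [Adjunction.homEquiv_unit, Adjunction.homEquiv_unit, Adjunction.homEquiv_unit]
  exact (congrArg (fun b => _ ≫ b) ((shiftFunctor T m).map_sub)).trans (Preadditive.comp_sub _ _ _)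

lemma shEquiv_zero (X Y : T) (m : ℤ) : shEquiv X Y m 0 = 0 := by
  simpa using shEquiv_sub X m (0 : (shiftFunctor T (-m)).obj X ⟶ Y) 0

theorem exists_lift_of_compatible (hL : CohCx.IsRlimVia K t L a) (X : T) (m : ℤ)
    (x : ∀ n, X ⟶ (shiftFunctor T m).obj (K n))
    (hx : ∀ n, x (n + 1) ≫ (shiftFunctor T m).map (t n) = x n) :
    ∃ y : X ⟶ (shiftFunctor T m).obj L, ∀ n, y ≫ (shiftFunctor T m).map (a n) = x n := by
  obtain ⟨c, hc⟩ := hL
  let x' : ∀ n, (shiftFunctor T (-m)).obj X ⟶ K n := fun n => (shEquiv X (K n) m).symm (x n)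
  have hx' : ∀ n, x' (n + 1) ≫ t n = x' n := fun n => by
    simp only [x', ← shEquiv_symm_comp, hx n]
  have h0 : Pi.lift x' ≫ (Pi.lift fun n => Pi.π K n - Pi.π K (n + 1) ≫ t n) = 0 := by
    refine Pi.hom_ext _ _ fun n => ?_
    simp [Preadditive.comp_sub, hx']
  obtain ⟨y, hy⟩ := Triangle.coyoneda_exact₂ _ hc (Pi.lift x') h0
  refine ⟨shEquiv X L m y, fun n => ?_⟩
  have hy' : Pi.lift x' = y ≫ Pi.lift a := hy
  have : y ≫ a n = x' n := by
    have h := congrArg (fun f => f ≫ Pi.π K n) hy'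
    simp at h
    exact h.symm
  refine (shEquiv_comp X m y (a n)).symm.trans ?_
  exact (congrArg (shEquiv X (K n) m) this).trans (Equiv.apply_symm_apply _ _)

theorem eq_zero_of_limOne (hL : CohCx.IsRlimVia K t L a) (X : T) (m : ℤ)
    (h1 : Function.Surjective fun (w : ∀ n, X ⟶ (shiftFunctor T (m - 1)).obj (K n)) (n : ℕ) =>
      w n - w (n + 1) ≫ (shiftFunctor T (m - 1)).map (t n))
    (y : X ⟶ (shiftFunctor T m).obj L) (hy : ∀ n, y ≫ (shiftFunctor T m).map (a n) = 0) :
    y = 0 := by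
  obtain ⟨c, hc⟩ := hL
  let y' : (shiftFunctor T (-m)).obj X ⟶ L := (shEquiv X L m).symm y
  have hy' : y' ≫ Pi.lift a = 0 := by
    refine Pi.hom_ext _ _ fun n => ?_
    simp only [Category.assoc, Pi.lift_π, zero_comp]
    apply (shEquiv X (K n) m).injective
    rw [shEquiv_comp, Equiv.apply_symm_apply, hy n, shEquiv_zero]
  let T₀ := Triangle.mk (Pi.lift a) (Pi.lift fun n => Pi.π K n - Pi.π K (n + 1) ≫ t n) c
  obtain ⟨z, hz⟩ := Triangle.coyoneda_exact₂ _ (inv_rot_of_distTriang T₀ hc) y' hy'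
  let e : shiftFunctor T (m - 1) ≅ shiftFunctor T (-1 : ℤ) ⋙ shiftFunctor T m :=
    shiftFunctorAdd' T (-1) m (m - 1) (by omega)
  let z₀ : (shiftFunctor T (-m)).obj X ⟶ (shiftFunctor T (-1 : ℤ)).obj (∏ᶜ K) := z
  obtain ⟨w, hw⟩ := h1 fun n =>
    shEquiv X _ m (z₀ ≫ (shiftFunctor T (-1 : ℤ)).map (Pi.π K n)) ≫ e.inv.app (K n)
  let w' : ∀ n, (shiftFunctor T (-m)).obj X ⟶ (shiftFunctor T (-1 : ℤ)).obj (K n) := fun n =>
    (shEquiv X _ m).symm (w n ≫ e.hom.app (K n))
  let hP := isLimitFanMkObjOfIsLimit (shiftFunctor T (-1 : ℤ)) K (fun n => Pi.π K n)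
    (productIsProduct K)
  let W := Fan.IsLimit.lift hP w'
  have hW : ∀ n, W ≫ (shiftFunctor T (-1 : ℤ)).map (Pi.π K n) = w' n := fun n =>
    Fan.IsLimit.fac hP w' n
  have hzW : z₀ = W ≫ (shiftFunctor T (-1 : ℤ)).map
      (Pi.lift fun n => Pi.π K n - Pi.π K (n + 1) ≫ t n) := by
    refine Fan.IsLimit.hom_ext hP _ _ fun n => ?_
    change z₀ ≫ (shiftFunctor T (-1 : ℤ)).map (Pi.π K n) =
      (W ≫ _) ≫ (shiftFunctor T (-1 : ℤ)).map (Pi.π K n)
    rw [Category.assoc, ← Functor.map_comp, Pi.lift_π, Functor.map_sub, Functor.map_comp,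
      Preadditive.comp_sub, hW, ← Category.assoc, hW]
    apply (shEquiv X _ m).injective
    rw [shEquiv_sub, shEquiv_comp X m (w' (n + 1))]
    simp only [w', Equiv.apply_symm_apply]
    rw [← cancel_mono (e.inv.app (K n))]
    refine (congrFun hw n).symm.trans ?_
    have h4 := e.hom.naturality (t n)
    dsimp at h4
    simp only [Preadditive.sub_comp, Category.assoc, ← reassoc_of% h4, Iso.hom_inv_id_app,
      Category.comp_id]
  have h0 : (Pi.lift fun n => Pi.π K n - Pi.π K (n + 1) ≫ t n) ≫ c = 0 :=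
    comp_distTriang_mor_zero₂₃ _ hc
  have h5 : z₀ ≫ (-((shiftFunctor T (-1 : ℤ)).map c)) = 0 := by
    rw [hzW, Category.assoc, Preadditive.comp_neg, ← Functor.map_comp, h0, Functor.map_zero,
      neg_zero, comp_zero]
  have hy0 : y' = 0 := by
    refine hz.trans ?_
    change z₀ ≫ (-((shiftFunctor T (-1 : ℤ)).map c) ≫ (shiftShiftNeg L (1 : ℤ)).hom) = 0
    refine (congrArg (fun b => z₀ ≫ b) (Preadditive.neg_comp _ _).symm).trans ?_
    exact (Category.assoc _ _ _).symm.trans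
      ((congrArg (fun b => b ≫ (shiftShiftNeg L (1 : ℤ)).hom) h5).trans zero_comp)
  refine (Equiv.apply_symm_apply (shEquiv X L m) y).symm.trans ?_
  exact (congrArg _ hy0).trans (shEquiv_zero X L m)

end General

open CategoryTheory.Limits in
/-- Abelian sheaves; the short exact sequence 0 -> R^1 lim H^{m-1}(U, K_n) -> H^m(U, R lim K_n) -> lim
H^m(U, K_n) -> 0 rendered by two consequences: let (K_n) be an inverse system in the derived
category of abelian sheaves on a site with a derived limit L through maps a_n : L -> K_n, U an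
object and m an integer. Then every compatible family of classes in the H^m(U, K_n) lifts to H^m(U,
L), and if the system H^{m-1}(U, K_n) has vanishing R^1 lim the lift is unique (a class with zero
images is zero). -/
theorem result {C : Type u} [SmallCategory C] {J : GrothendieckTopology C}
    [HasDerivedCategory.{u} (Sheaf J AddCommGrpCat.{u})]
    (K : ℕ → DerivedCategory (Sheaf J AddCommGrpCat.{u})) (t : ∀ n, K (n + 1) ⟶ K n) [HasProduct K]
    (L : DerivedCategory (Sheaf J AddCommGrpCat.{u})) (a : ∀ n, L ⟶ K n) (hL : CohCx.IsRlimVia K t L a)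
    (U : C) (m : ℤ) :
    (∀ x : ∀ n, CohCx.HDU (K n) m U,
      (∀ n, x (n + 1) ≫ (shiftFunctor _ m).map (t n) = x n) →
      ∃ y : CohCx.HDU L m U, ∀ n, y ≫ (shiftFunctor _ m).map (a n) = x n) ∧
    (CohCx.LimOneIsZero (fun n => CohCx.HDU (K n) (m - 1) U)
        (fun n => Preadditive.rightComp _ ((shiftFunctor _ (m - 1)).map (t n))) →
      ∀ y : CohCx.HDU L m U, (∀ n, y ≫ (shiftFunctor _ m).map (a n) = 0) → y = 0) := by
  exact ⟨fun x hx => exists_lift_of_compatible K t a hL _ m x hx,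
    fun h1 y hy => eq_zero_of_limOne K t a hL _ m h1 y hy⟩

end Groth.Agent.S0943
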