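import Groth.Statements.S14769
import Groth.Agent.Lib.SubtrLim.Criterion
import Mathlib.RingTheory.Flat.FaithfullyFlat.Algebra
import Mathlib.RingTheory.Flat.TorsionFree

set_option autoImplicit false
set_option backward.isDefEq.respectTransparency false
universe u
open CategoryTheory CategoryTheory.Limits AlgebraicGeometry
open Subtr

namespace Groth.Agent.S14769

/-- Let f : X ⟶ Y be any morphism of schemes. Then every base change of f has the lifting property for
ordered pairs of points if and only if, for every valuation ring V and morphism g : Spec V ⟶ Y,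
there are a valuation ring V', a morphism a : Spec V' ⟶ X and a surjective morphism b : Spec V' ⟶
Spec V with a ≫ f = b ≫ g. (The published statement assumes f universally submersive for the
constructible topologies and concludes universal subtrusiveness; for quasi-compact f the two agree.) -/
theorem result {X Y : Scheme.{u}} (f : X ⟶ Y) :
    Subtr.UnivSSubtrusive f ↔
      ∀ (V : Type u) [CommRing V] [IsDomain V] [ValuationRing V] (g : Spec (CommRingCat.of V) ⟶ Y),
        ∃ (V' : Type u) (_ : CommRing V') (_ : IsDomain V') (_ : ValuationRing V')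
          (a : Spec (CommRingCat.of V') ⟶ X) (b : Spec (CommRingCat.of V') ⟶ Spec (CommRingCat.of V)),
          Surjective b ∧ a ≫ f = b ≫ g := by
  rw [GrothLib.SubtrLim.univSSubtrusive_iff_valPair]
  constructor
  · intro h V _ _ _ g
    obtain ⟨x, x', hx, hbx, hbx'⟩ := h (CommRingCat.of V) g _ _ (IsPullback.of_hasPullback f g)
    obtain ⟨W, _, _, l, hl, hl'⟩ := GrothLib.HTop.exists_valuationRing_map hx
    refine ⟨W, inferInstance, inferInstance, inferInstance, l ≫ pullback.fst f g, l ≫ pullback.snd f g,
      ?_, by rw [Category.assoc, pullback.condition, Category.assoc]⟩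
    refine GrothLib.SubtrLim.surjective_of_gen_closed (V := CommRingCat.of V) (W := W) _ ?_ ?_
    · rw [Scheme.Hom.comp_apply, hl, hbx']
    · rw [Scheme.Hom.comp_apply, hl', hbx]
  · intro h V _ _ g P a b hP
    obtain ⟨W, _, _, _, a', b', hb', hab⟩ := h V g
    let l := hP.lift a' b' hab
    obtain ⟨w', hw'⟩ := b'.surjective (GrothLib.HTop.gen V)
    obtain ⟨w, hw⟩ := b'.surjective (GrothLib.HTop.closed V)
    have hc : b' (GrothLib.HTop.closed (CommRingCat.of W)) = GrothLib.HTop.closed V :=
      (PrimeSpectrum.isClosed_singleton_iff_isMaximal _ |>.mpr (IsLocalRing.maximalIdeal.isMaximal V)).closure_eq.le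
        (specializes_iff_mem_closure.mp (hw ▸ (GrothLib.HTop.specializes_closed w).map b'.continuous))
    refine ⟨l (GrothLib.HTop.closed (CommRingCat.of W)), l w',
      (GrothLib.HTop.specializes_closed w').map l.continuous, ?_, ?_⟩ <;>
      rw [← Scheme.Hom.comp_apply, IsPullback.lift_snd]
    exacts [hc, hw']

end Groth.Agent.S14769
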