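import Groth.Statements.S1273
import Groth.Agent.Lib.FlatBlow1.AlgChart
import Groth.Agent.Lib.BlowUp.Exists
-- import your own Groth.Agent.* helpers here

set_option autoImplicit false
universe u
open FlatMor

namespace Groth.Agent.S1273

open AlgebraicGeometry CategoryTheory Limits in
/-- A ring property at affine charts of a closed subscheme. -/
theorem appLE_subschemeι_comp {X Y : Scheme.{u}} (g : X ⟶ Y) (I : X.IdealSheafData) (D : Y.affineOpens)
    (O : X.affineOpens) (e : O.1 ≤ g ⁻¹ᵁ D.1) (e' : I.subschemeι ⁻¹ᵁ O.1 ≤ (I.subschemeι ≫ g) ⁻¹ᵁ D.1) :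
    (I.subschemeι ≫ g).appLE D.1 (I.subschemeι ⁻¹ᵁ O.1) e' =
      g.appLE D.1 O.1 e ≫ CommRingCat.ofHom (Ideal.Quotient.mk (I.ideal O)) ≫ (I.subschemeObjIso O).inv := by
  rw [← I.subschemeι_app O, Scheme.Hom.app_eq_appLE, Scheme.Hom.appLE_comp_appLE]

set_option maxHeartbeats 1600000 in
open AlgebraicGeometry CategoryTheory Limits in
/-- Let S be quasi-compact and quasi-separated, U ⊆ S a quasi-compact open, and f : X → S of finite type
and quasi-separated whose restriction over U is flat and locally of finite presentation. Then there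
is a U-admissible blow-up b : S' → S such that the strict transform X'' of X — the closed subscheme
of X' = X ×_S S' whose ideal consists, on each affine open, of the functions annihilated by a power
of the pulled-back exceptional ideal — is flat and of finite presentation (locally of finite
presentation, quasi-compact and quasi-separated) over S'. -/
theorem result {X S : Scheme.{u}} [CompactSpace S] [QuasiSeparatedSpace S]
    (f : X ⟶ S) [LocallyOfFiniteType f] [QuasiCompact f] [QuasiSeparated f] (U : S.Opens) (hU : IsCompact (U : Set S))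
    [Flat (f ∣_ U)] [LocallyOfFinitePresentation (f ∣_ U)] :
    ∃ (𝓘 : S.IdealSheafData) (S' : Scheme.{u}) (b : S' ⟶ S), BlowUp.IsBlowUp b 𝓘 ∧ BlowUp.IsAdmissibleFor U 𝓘 ∧
      ∀ (X' : Scheme.{u}) (p₁ : X' ⟶ X) (p₂ : X' ⟶ S'), IsPullback p₁ p₂ f b →
      ∀ (𝒥 : X'.IdealSheafData),
        (∀ (V : X'.affineOpens) (a : Γ(X', V.1)), a ∈ 𝒥.ideal V ↔
          BlowUp.KilledByPowerNear ((𝓘.comap f).comap p₁) (Coh.structureModule X') V a) →
        Flat (𝒥.subschemeι ≫ p₂) ∧ LocallyOfFinitePresentation (𝒥.subschemeι ≫ p₂) ∧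
          QuasiCompact (𝒥.subschemeι ≫ p₂) ∧ QuasiSeparated (𝒥.subschemeι ≫ p₂) := by
  classical
  haveI : CompactSpace X := QuasiCompact.compactSpace_of_compactSpace f
  have hloc : ∀ x : X, ∃ (W : S.affineOpens) (V : X.affineOpens), x ∈ V.1 ∧ V.1 ≤ f ⁻¹ᵁ W.1 := fun x => by
    obtain ⟨W, hW, hxW, -⟩ := exists_isAffineOpen_mem_and_subset (show f.base x ∈ (⊤ : S.Opens) from trivial)
    obtain ⟨V, hV, hxV, hVW⟩ := exists_isAffineOpen_mem_and_subset (show x ∈ f ⁻¹ᵁ W from hxW)
    exact ⟨⟨W, hW⟩, ⟨V, hV⟩, hxV, hVW⟩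
  choose W V hxV hVW using hloc
  obtain ⟨t, ht⟩ := isCompact_univ.elim_finite_subcover (fun x : X => ((V x).1 : Set X)) (fun x => (V x).1.2)
    fun x _ => Set.mem_iUnion.2 ⟨x, hxV x⟩
  choose J hJ hJchart using fun k : t =>
    GrothLib.FlatBlow1.exists_ideal_alg_chart f U hU (W k.1) (V k.1) (hVW k.1)
  let P : S.IdealSheafData := ∏ k, J k
  have hP : BlowUp.IsAdmissibleFor U P := by
    refine Finset.prod_induction J (BlowUp.IsAdmissibleFor U) (fun A B hA hB => ⟨fun V => ?_, ?_⟩) ?_ fun k _ => hJ k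
    · rw [Scheme.IdealSheafData.ideal_mul, Pi.mul_apply]
      exact (hA.1 V).mul (hB.1 V)
    · rw [Scheme.IdealSheafData.support_mul, TopologicalSpace.Closeds.coe_sup]
      exact Set.disjoint_union_left.2 ⟨hA.2, hB.2⟩
    · refine ⟨fun V => ⟨{1}, by simp⟩, ?_⟩
      simp
  obtain ⟨S', b, hb⟩ := GrothLib.BlowUp.exists_isBlowUp S P
  refine ⟨P, S', b, hb, hP, fun X' p₁ p₂ sq 𝒥 h𝒥 => ?_⟩
  have key : ∀ z : 𝒥.subscheme, ∃ (D : S'.affineOpens) (O : 𝒥.subscheme.affineOpens) (_ : z ∈ O.1)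
      (e : O.1 ≤ (𝒥.subschemeι ≫ p₂) ⁻¹ᵁ D.1), ((𝒥.subschemeι ≫ p₂).appLE D.1 O.1 e).hom.Flat ∧
        ((𝒥.subschemeι ≫ p₂).appLE D.1 O.1 e).hom.FinitePresentation := fun z => by
    let x' := 𝒥.subschemeι z
    obtain ⟨x, hxt, hx⟩ := Set.mem_iUnion₂.1 (ht (Set.mem_univ (p₁ x')))
    let k : t := ⟨x, hxt⟩
    have hsplit : P.ideal (W k.1) = (J k).ideal (W k.1) * (∏ i ∈ Finset.univ.erase k, J i).ideal (W k.1) := by
      rw [← Pi.mul_apply, ← Scheme.IdealSheafData.ideal_mul, Finset.mul_prod_erase _ _ (Finset.mem_univ k)]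
    obtain ⟨D, O, e, hxO, hfl, hfp⟩ := hJchart k P _ hsplit b p₁ p₂ sq hb.1 𝒥 h𝒥 x' hx
    refine ⟨D, ⟨_, O.2.preimage 𝒥.subschemeι⟩, hxO, fun y hy => e hy, ?_⟩
    have heq := appLE_subschemeι_comp p₂ 𝒥 D O e (fun y hy => e hy)
    rw [heq, CommRingCat.hom_comp, CommRingCat.hom_comp]
    exact ⟨RingHom.Flat.respectsIso.1 _ (𝒥.subschemeObjIso O).symm.commRingCatIsoToRingEquiv hfl,
      RingHom.finitePresentation_respectsIso.1 _ (𝒥.subschemeObjIso O).symm.commRingCatIsoToRingEquiv hfp⟩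
  refine ⟨?_, ?_, ?_, ?_⟩
  · refine (HasRingHomProperty.iff_exists_appLE ?_).2 fun z => ?_
    · exact RingHom.Flat.stableUnderComposition.stableUnderCompositionWithLocalizationAway
        RingHom.Flat.holdsForLocalizationAway |>.1
    · obtain ⟨D, O, hz, e, hfl, -⟩ := key z
      exact ⟨D, O, hz, e, hfl⟩
  · refine (HasRingHomProperty.iff_exists_appLE ?_).2 fun z => ?_
    · exact RingHom.finitePresentation_stableUnderComposition.stableUnderCompositionWithLocalizationAway
        RingHom.finitePresentation_holdsForLocalizationAway |>.1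
    · obtain ⟨D, O, hz, e, -, hfp⟩ := key z
      exact ⟨D, O, hz, e, hfp⟩
  · haveI : QuasiCompact p₂ := MorphismProperty.of_isPullback sq inferInstance
    infer_instance
  · haveI : QuasiSeparated p₂ := MorphismProperty.of_isPullback sq inferInstance
    infer_instance

end Groth.Agent.S1273
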