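import Groth.Statements.S8983
import Groth.Agent.Lib.ABU25.Basic
-- import your own Groth.Agent.* helpers here

set_option autoImplicit false
universe u
open HTop

namespace Groth.Agent.S8983

open CategoryTheory CategoryTheory.Limits AlgebraicGeometry in
/-- Given an almost blow up square with top right corner X' and a closed immersion W → X' of finite
presentation, the ideal of W lies inside the ideal of sections of the structure sheaf of X'
supported on the exceptional locus E (this single condition expresses both that X' minus E is
scheme-theoretically contained in W and that the blow up of X in Z is, the two being the same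
containment of ideal sheaves here) if and only if replacing X' by W and E by the scheme-theoretic
intersection of E and W gives again an almost blow up square. -/
theorem result {E Z X' X W EW : Scheme.{u}} {e : E ⟶ X'} {π : E ⟶ Z} {b : X' ⟶ X} {i : Z ⟶ X} (h : HTop.IsAlmostBlowUpSquare e π b i) (w : W ⟶ X') [IsClosedImmersion w] [LocallyOfFinitePresentation w] {eW : EW ⟶ W} {gE : EW ⟶ E} (hEW : IsPullback gE eW e w) : w.ker ≤ HTop.supportedOn (i.ker.comap b) ↔ HTop.IsAlmostBlowUpSquare eW (gE ≫ π) (w ≫ b) i := by
  have := h.isClosedImmersion
  have := h.finitePresentation_base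
  have := h.isProper
  have := h.finitePresentation
  have hp : HTop.IsLocPrincipal (i.ker.comap (w ≫ b)) := by
    rw [Scheme.IdealSheafData.comap_comp]
    exact GrothLib.ABU25.isLocPrincipal_comap _ w h.locPrincipal
  have hu := GrothLib.ABU25.isUniv_of_square h
  constructor
  · intro hle
    refine ⟨h.isClosedImmersion, h.finitePresentation_base, hEW.flip.paste_vert h.isPullback, hp,
      inferInstance, inferInstance, (GrothLib.ABU25.isBlowUp_iff_isUniv _ _ hp).2 fun T g hg => ?_⟩
    obtain ⟨k, hk, huniq⟩ := hu T g hg
    obtain ⟨l, hl⟩ := GrothLib.ABU25.exists_factor b i.ker k (hk.symm ▸ hg)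
    have hle' : w.ker ≤ k.ker := hle.trans (by
      refine GrothLib.ABU25.supportedOn_le_ker _ k ?_
      rw [← Scheme.IdealSheafData.comap_comp, hk]
      exact hg)
    refine ⟨IsClosedImmersion.lift w k hle',
      (Category.assoc _ _ _).symm.trans ((congrArg (· ≫ b) (IsClosedImmersion.lift_fac w k hle')).trans hk),
      fun m hm => ?_⟩
    rw [← cancel_mono w, IsClosedImmersion.lift_fac]
    exact huniq _ ((Category.assoc _ _ _).trans hm)
  · intro h'
    let ι := (HTop.supportedOn (i.ker.comap b)).subschemeι
    obtain ⟨k, hk, -⟩ := GrothLib.ABU25.isUniv_of_square h' _ (ι ≫ b) h.isBlowUp.1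
    have e : k ≫ w = ι := (hu _ (ι ≫ b) h.isBlowUp.1).unique ((Category.assoc _ _ _).trans hk) rfl
    refine le_trans (Scheme.Hom.le_ker_comp k w) ?_
    rw [e, Scheme.IdealSheafData.ker_subschemeι]

end Groth.Agent.S8983
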