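import Groth.Statements.S0310
import Groth.Agent.Lib.InjMod.Matlis

set_option autoImplicit false
universe u v
open Matlis

namespace Groth.Agent.S0310

/-- Over a local ring, a module killed elementwise by powers of the maximal ideal and whose socle has
finite dimension n over the residue field embeds into the n-fold sum of an injective hull of the
residue field. -/
theorem result (R : Type u) [CommRing R] [IsLocalRing R] (E : Type u) [AddCommGroup E] [Module R E] (f : IsLocalRing.ResidueField R →ₗ[R] E) (hf : InjHull.IsInjectiveHull f) (M : Type u) [AddCommGroup M] [Module R M] (hM : LocCoh.IsPowerTorsion (IsLocalRing.maximalIdeal R) M) (n : ℕ) [Module.Finite (R ⧸ IsLocalRing.maximalIdeal R) ↥(LocCoh.torsionBy (IsLocalRing.maximalIdeal R) M)] (hn : Module.finrank (R ⧸ IsLocalRing.maximalIdeal R) ↥(LocCoh.torsionBy (IsLocalRing.maximalIdeal R) M) = n) : ∃ g : M →ₗ[R] (Fin n → E), Function.Injective g := by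
    subst hn
    let S := LocCoh.torsionBy (IsLocalRing.maximalIdeal R) M
    letI : Field (R ⧸ IsLocalRing.maximalIdeal R) := Ideal.Quotient.field _
    let b := Module.finBasis (R ⧸ IsLocalRing.maximalIdeal R) S
    let g₀ : S →ₗ[R] Fin (Module.finrank (R ⧸ IsLocalRing.maximalIdeal R) S) → E :=
      LinearMap.pi fun i => f ∘ₗ (LinearMap.proj i ∘ₗ
        (b.equivFun.restrictScalars R).toLinearMap)
    have hg₀ : Function.Injective g₀ := fun x y h =>
      b.equivFun.injective (funext fun i => hf.injective (congrFun h i))
    choose ψ hψ using fun i => hf.isInjective.out S.subtype S.injective_subtype ((LinearMap.proj i) ∘ₗ g₀)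
    refine ⟨LinearMap.pi ψ, GrothLib.Matlis.injective_of_socle hM _ fun x hx h => ?_⟩
    exact congrArg Subtype.val (hg₀ (a₁ := (⟨x, hx⟩ : S)) (a₂ := 0) (by
      rw [map_zero]
      funext i
      exact (hψ i ⟨x, hx⟩).symm.trans (congrFun h i)))

end Groth.Agent.S0310
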