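import Groth.Statements.S0315
import Groth.Agent.Lib.InjMod.Matlis

set_option autoImplicit false
universe u v
open Matlis

namespace Groth.Agent.S0315

/-- Over a Noetherian local ring a module has the descending chain condition exactly when it is killed
elementwise by powers of the maximal ideal and its socle is finite-dimensional over the residue
field. -/
theorem result (R : Type u) [CommRing R] [IsLocalRing R] [IsNoetherianRing R] (M : Type u) [AddCommGroup M] [Module R M] : IsArtinian R M ↔ (LocCoh.IsPowerTorsion (IsLocalRing.maximalIdeal R) M ∧ Module.Finite (R ⧸ IsLocalRing.maximalIdeal R) ↥(LocCoh.torsionBy (IsLocalRing.maximalIdeal R) M)) := by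
    have h1 : ∀ (a : R), a ∈ (IsLocalRing.maximalIdeal R) ^ 1 →
        ∀ x : LocCoh.torsionBy (IsLocalRing.maximalIdeal R) M, a • x = 0 := fun a ha x =>
      Subtype.ext ((Submodule.mem_torsionBySet_iff _ _).1 x.2 ⟨a, by rwa [pow_one] at ha⟩)
    constructor
    · intro hM
      refine ⟨fun x => ?_, ?_⟩
      · let N : ℕ →o (Submodule R M)ᵒᵈ := ⟨fun n => OrderDual.toDual
          ((IsLocalRing.maximalIdeal R) ^ n • Submodule.span R {x}), fun i j h =>
            Submodule.smul_mono (Ideal.pow_le_pow_right h) le_rfl⟩
        obtain ⟨n, hn⟩ := IsArtinian.monotone_stabilizes N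
        refine ⟨n, fun a ha => ?_⟩
        have hfg : ((IsLocalRing.maximalIdeal R) ^ n • Submodule.span R {x}).FG :=
          Submodule.FG.smul (IsNoetherian.noetherian ((IsLocalRing.maximalIdeal R) ^ n)) (Submodule.fg_span_singleton x)
        have hbot : (IsLocalRing.maximalIdeal R) ^ n • Submodule.span R {x} = ⊥ := by
          refine Submodule.eq_bot_of_le_smul_of_le_jacobson_bot (IsLocalRing.maximalIdeal R) _ hfg ?_
            (IsLocalRing.maximalIdeal_le_jacobson _)
          rw [← Submodule.mul_smul, ← pow_succ']
          exact (congrArg OrderDual.ofDual (hn (n + 1) (Nat.le_succ n))).le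
        exact (Submodule.mem_bot R).1 (hbot ▸ Submodule.smul_mem_smul ha (Submodule.mem_span_singleton_self x))
      · haveI := (GrothLib.LC.finite_iff_isArtinian_of_pow_smul (IsLocalRing.maximalIdeal R) h1).2 inferInstance
        exact Module.Finite.of_restrictScalars_finite R _ _
    · rintro ⟨hM, hfin⟩
      haveI : Module.Finite R (LocCoh.torsionBy (IsLocalRing.maximalIdeal R) M) :=
        Module.Finite.trans (R ⧸ IsLocalRing.maximalIdeal R) _
      haveI := (GrothLib.LC.finite_iff_isArtinian_of_pow_smul (IsLocalRing.maximalIdeal R) h1).1 inferInstance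
      exact GrothLib.LC.isArtinian_of_isPowerTorsion (IsNoetherian.noetherian _) hM

end Groth.Agent.S0315
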