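import Groth.Statements.S19603
import Groth.Agent.Lib.AffQuot.Bridge
import Groth.Agent.Lib.AffQuot.FinGen

set_option autoImplicit false
universe u
open GIT

namespace Groth.Agent.S19603

/-- For the whole projective space U = P(V), let k be an algebraically closed field of arbitrary
characteristic and G = Spec A a linearly reductive affine algebraic group acting linearly on affine
ι-space, and let v be a vector. Then some invariant homogeneous polynomial of positive degree is
non-zero at v (the point of v is semistable) if and only if the origin is not in the closure of the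
orbit of v. -/
theorem result (k : Type u) [Field k] [IsAlgClosed k]
    (A : Type u) [CommRing A] [HopfAlgebra k A] [Algebra.FiniteType k A] (hG : HopfRep.IsLinearlyReductive k A)
    (ι : Type u) [Fintype ι] [HopfRep.Comod k A (MvPolynomial ι k)] [GLin.IsCoactAlg k A (MvPolynomial ι k)]
    (hlin : GLin.IsLinear k A ι) (v : ι → k) :
    GLin.IsSemistableVec k A v ↔
      ¬ GLin.InOrbitClosure k A (GLin.vecPt k ι v) (GLin.vecPt k ι (fun _ => (0 : k))) := by
  classical
  have hlin' : ∀ i : ι, HopfRep.Comod.coact (k := k) (A := A) (MvPolynomial.X i : MvPolynomial ι k) ∈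
      LinearMap.range ((MvPolynomial.homogeneousSubmodule ι k 1).subtype.rTensor A) := fun i => by
    obtain ⟨m, hm⟩ := hlin i
    rw [hm]
    exact Submodule.sum_mem _ fun j _ =>
      ⟨(⟨MvPolynomial.X j, MvPolynomial.isHomogeneous_X k j⟩ : MvPolynomial.homogeneousSubmodule ι k 1) ⊗ₜ[k] m j, rfl⟩
  have h0 : ∀ (F : MvPolynomial ι k) (d : ℕ), 0 < d → F.IsHomogeneous d →
      GLin.vecPt k ι (fun _ => (0 : k)) F = 0 := fun F d hd hF => by
    change MvPolynomial.aeval (0 : ι → k) F = 0
    rw [MvPolynomial.aeval_zero, MvPolynomial.constantCoeff_eq, hF.coeff_eq_zero (by simpa using hd.ne), map_zero]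
  constructor
  · intro hss hcl
    refine hss fun F hF d hd hFd => ?_
    exact ((GrothLib.AffQuot.Cl.invariant (A := A) (fun a ha => hcl ha) hF).symm.trans (h0 F d hd hFd))
  · intro hncl hnull
    apply hncl
    have heq : ∀ f ∈ HopfRep.fixedPts k A (MvPolynomial ι k),
        GLin.vecPt k ι v f = GLin.vecPt k ι (fun _ => (0 : k)) f := by
      intro f hf
      rw [← MvPolynomial.sum_homogeneousComponent f, map_sum, map_sum]
      refine Finset.sum_congr rfl fun d _ => ?_
      rcases Nat.eq_zero_or_pos d with rfl | hd
      · simp [MvPolynomial.homogeneousComponent_zero]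
      · rw [h0 _ d hd (MvPolynomial.homogeneousComponent_mem d f)]
        refine hnull _ ?_ d hd (MvPolynomial.homogeneousComponent_mem d f)
        change HopfRep.Comod.coact (k := k) (A := A) _ = _
        rw [GrothLib.Comodule.IsComodHom.apply (GrothLib.AffQuot.isComodHom_homogeneousComponent hlin' d),
          show HopfRep.Comod.coact (k := k) (A := A) f = f ⊗ₜ[k] (1 : A) from hf, LinearMap.rTensor_tmul]
    obtain ⟨z, hz, hz'⟩ := GrothLib.AffQuot.exists_common hG _ _ heq
    suffices e : z = GLin.vecPt k ι (fun _ => (0 : k)) by
      subst e; exact fun f hf => hz f hf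
    refine MvPolynomial.algHom_ext fun i => ?_
    obtain ⟨m, hm⟩ := hlin i
    rw [hz' (MvPolynomial.X i) (by
      rw [GrothLib.AffQuot.orbitHom_apply, GrothLib.Comodule.cfMap_apply, hm]
      simp)]
    simp

end Groth.Agent.S19603
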