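import Groth.Statements.S8978
import Groth.Agent.Lib.HPh4.Glue
import Groth.Agent.Lib.FppfPh.Main
import Groth.Agent.Lib.SubtrLim.Criterion
import Groth.Agent.Lib.SubtrLim.Cover
import Groth.Agent.S14779
import Groth.Agent.S14769
import Groth.Agent.S0590
import Groth.Agent.S18756
-- import your own Groth.Agent.* helpers here

set_option autoImplicit false
set_option linter.all false
set_option backward.isDefEq.respectTransparency false
universe w u
open HTop

namespace Groth.Agent.S8978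

open CategoryTheory CategoryTheory.Limits AlgebraicGeometry in
/-- Given an h covering of an affine scheme X, one can find a proper surjective Y → X that is of finite
presentation, together with finitely many affine opens covering Y, such that each of these opens,
composed into X, factors through some member of the given family. -/
theorem result {X : Scheme.{u}} [IsAffine X] (E : PreZeroHypercover.{w} X) (hE : HTop.IsHCover E) : ∃ (Y : Scheme.{u}) (g : Y ⟶ X) (n : ℕ) (V : Fin n → Y.Opens), IsProper g ∧ Surjective g ∧ LocallyOfFinitePresentation g ∧ (∀ j, IsAffineOpen (V j)) ∧ ⨆ j, V j = ⊤ ∧ ∀ j, ∃ (i : E.I₀) (h : ((V j : Y.Opens) : Scheme.{u}) ⟶ E.X i), h ≫ E.f i = (V j).ι ≫ g := by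
  obtain ⟨hE1, hE2⟩ := hE
  obtain ⟨F, hF, hr⟩ := hE2 ⟨⊤, isAffineOpen_top X⟩
  haveI := hF.finite_index
  choose i h hh using hr
  haveI : ∀ j, CompactSpace (F.X j) := fun j => by haveI := hF.isAffine_obj j; infer_instance
  have hcov : ∀ j, ∃ (S : Set (E.X (i j)).Opens), S.Finite ∧ (∀ W ∈ S, IsAffineOpen W) ∧
      Set.range (h j) ⊆ ⋃ W ∈ S, (W : Set (E.X (i j))) := by
    intro j
    obtain ⟨t, ht⟩ := (isCompact_range (h j).continuous).elim_finite_subcover
      (fun W : {W : (E.X (i j)).Opens // IsAffineOpen W} => (W.1 : Set (E.X (i j))))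
      (fun W => W.1.2) fun z _ => by
        obtain ⟨W, hW, hzW, -⟩ := exists_isAffineOpen_mem_and_subset (x := z) (U := (⊤ : (E.X (i j)).Opens)) trivial
        exact Set.mem_iUnion.2 ⟨⟨W, hW⟩, hzW⟩
    refine ⟨_, t.finite_toSet.image Subtype.val, ?_, fun z hz => ?_⟩
    · rintro _ ⟨W, -, rfl⟩; exact W.2
    · obtain ⟨W, hW, hzW⟩ := Set.mem_iUnion₂.1 (ht hz)
      exact Set.mem_iUnion₂.2 ⟨W.1, ⟨W, hW, rfl⟩, hzW⟩
  choose S hSf hSW hSc using hcov
  haveI := fun j => (hSf j).to_subtype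
  let K := Σ j, S j
  let Y : K → Scheme.{u} := fun k => ((k.2 : (E.X (i k.1)).Opens) : Scheme.{u})
  haveI : ∀ k, IsAffine (Y k) := fun k => hSW k.1 _ k.2.2
  let g : ∀ k, Y k ⟶ X := fun k => (k.2 : (E.X (i k.1)).Opens).ι ≫ E.f (i k.1)
  let f : ∐ Y ⟶ X := Sigma.desc g
  haveI : LocallyOfFinitePresentation f := by
    refine IsZariskiLocalAtSource.sigmaDesc (P := @LocallyOfFinitePresentation) fun k => ?_
    haveI := hE1 (i k.1)
    show LocallyOfFinitePresentation (_ ≫ E.f (i k.1))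
    infer_instance
  haveI : IsAffine (∐ Y) := inferInstance
  have hsub : Subtr.UnivSSubtrusive f := by
    rw [Groth.Agent.S14769.result]
    intro V _ _ _ a
    obtain ⟨W, i1, i2, φ, hφ, j, l, hl⟩ := hF.lift (CommRingCat.of V) (a ≫ (Scheme.topIso X).inv)
    let m : Spec W ⟶ E.X (i j) := l ≫ h j
    obtain ⟨O, hO, hmO⟩ := Set.mem_iUnion₂.1 (hSc j ⟨l (GrothLib.HTop.closed W), (Scheme.Hom.comp_apply l (h j) _).symm⟩)
    obtain ⟨m', hm'⟩ := GrothLib.HTop.exists_lift_of_closed_mem m O.ι (by rw [Scheme.Opens.range_ι]; exact hmO)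
    haveI := hφ.2
    refine ⟨W, inferInstance, i1, i2, m' ≫ Sigma.ι Y ⟨j, O, hO⟩, Spec.map φ,
      GrothLib.SubtrLim.surjective_of_gen_closed _ (GrothLib.HTop.specMap_gen hφ.1) (GrothLib.HTop.specMap_closed φ), ?_⟩
    rw [Category.assoc, Sigma.ι_desc]
    show m' ≫ O.ι ≫ E.f (i j) = _
    rw [reassoc_of% hm', show m = l ≫ h j from rfl, Category.assoc, hh, ← Category.assoc, hl, Category.assoc,
      Category.assoc]
    refine congrArg (Spec.map φ ≫ ·) ?_
    rw [← Scheme.topIso_hom, Iso.inv_hom_id, Category.comp_id]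
  haveI : QuasiCompact f := inferInstance
  haveI : QuasiSeparated f := inferInstance
  obtain ⟨X', Y', a, p, q, hapq, hp1, hp2, hp3, hp4, hp5, hq1, hq2, hq3⟩ :=
    Groth.Agent.S14779.result f (Or.inl inferInstance) hsub
  haveI := hp1; haveI := hp2; haveI := hp3; haveI := hp4; haveI := hp5; haveI := hq1; haveI := hq2; haveI := hq3
  haveI : CompactSpace Y' := QuasiCompact.compactSpace_of_compactSpace q
  haveI : QuasiSeparatedSpace Y' := quasiSeparatedSpace_of_quasiSeparated q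
  obtain ⟨I, _, _, _, D, c, hc, haff, hD, ⟨eY⟩⟩ := Groth.Agent.S0590.result Y'
  haveI : ∀ (i j : Iᵒᵖ) (f : i ⟶ j), IsAffineHom (D.map f) := haff
  haveI : ∀ j, CompactSpace (D.obj j) := fun j => (hD j).1
  haveI : IsCofiltered Iᵒᵖ := inferInstance
  let c' : Cone D := c.extend eY.inv
  have hc' : IsLimit c' := hc.extendIso eY.inv
  haveI hN : ∀ j, IsLocallyNoetherian (D.obj j) := fun j => by
    haveI := (hD j).2
    haveI : IsNoetherianRing (CommRingCat.of (ULift.{u} ℤ)) := isNoetherianRing_of_ringEquiv ℤ ULift.ringEquiv.symm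
    exact LocallyOfFiniteType.isLocallyNoetherian (Limits.IsTerminal.from specULiftZIsTerminal (D.obj j))
  haveI : ∀ j, QuasiSeparatedSpace (D.obj j) := fun j => inferInstance
  obtain ⟨j0⟩ : Nonempty Iᵒᵖ := IsCofiltered.nonempty
  obtain ⟨st, m, V, v, i0, e, hv, hvs, hpb⟩ := Groth.Agent.S18756.result D c' hc' j0
    (fun _ : PUnit.{u + 1} => X') (fun _ => p) fun y => ⟨PUnit.unit, p.surjective y⟩
  have hph : HTop.IsPhCover (⟨Fin m, V, v⟩ : PreZeroHypercover.{0} (D.obj st)) :=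
    GrothLib.FppfPh.isPhCover_of_fppf _ (fun x => (hv x).1) (fun x => (hv x).2.1) hvs
  obtain ⟨Zs, ps, hps, hpss, hloc⟩ := GrothLib.HPh4.exists_proper_refining _ hph
  haveI := hps
  haveI := hpss
  haveI : LocallyOfFinitePresentation ps := inferInstance
  let π : Y' ⟶ D.obj st := c'.π.app st
  let Z := pullback π ps
  let r : Z ⟶ Y' := pullback.fst π ps
  haveI : IsProper r := inferInstance
  haveI : Surjective r := inferInstance
  haveI : LocallyOfFinitePresentation r := inferInstance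
  let G : Z ⟶ X := r ≫ q
  have hlocal : ∀ z : Z, ∃ W : Z.Opens, IsAffineOpen W ∧ z ∈ W ∧
      ∃ (t : E.I₀) (k : (W : Scheme.{u}) ⟶ E.X t), k ≫ E.f t = W.ι ≫ G := by
    intro z
    obtain ⟨O, x, k, hzO, hk⟩ := hloc (pullback.snd π ps z)
    let O' : Z.Opens := pullback.snd π ps ⁻¹ᵁ O
    have hsq : (O'.ι ≫ r) ≫ π = ((pullback.snd π ps ∣_ O) ≫ k) ≫ v x := by
      rw [Category.assoc, Category.assoc, hk, morphismRestrict_ι_assoc]
      exact congrArg (O'.ι ≫ ·) pullback.condition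
    let d : (O' : Scheme.{u}) ⟶ X' :=
      (hpb x).lift ((pullback.snd π ps ∣_ O) ≫ k) (O'.ι ≫ r) hsq.symm
    have hd : d ≫ p = O'.ι ≫ r := (hpb x).lift_snd _ _ _
    obtain ⟨nn, y, hy⟩ := GrothLib.Constr.exists_sigma_eq Y ((d ≫ a) ⟨z, hzO⟩)
    let O'' : (O' : Scheme.{u}).Opens := (d ≫ a) ⁻¹ᵁ (Sigma.ι Y nn).opensRange
    obtain ⟨W, hW, hzW, hWle⟩ := exists_isAffineOpen_mem_and_subset (x := (⟨z, hzO⟩ : O')) (U := O'') ⟨y, hy⟩
    obtain ⟨l, hl⟩ : ∃ l, l ≫ Sigma.ι Y nn = W.ι ≫ d ≫ a := ⟨_, IsOpenImmersion.lift_fac (Sigma.ι Y nn) _ (by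
      rintro _ ⟨w', rfl⟩
      rw [Scheme.Hom.comp_apply]
      exact hWle w'.2)⟩
    refine ⟨O'.ι ''ᵁ W, hW.image_of_isOpenImmersion _, ⟨⟨z, hzO⟩, hzW, rfl⟩, i nn.1,
      (O'.ι.isoImage W).inv ≫ l ≫ (nn.2 : (E.X (i nn.1)).Opens).ι, ?_⟩
    have hg : l ≫ g nn = W.ι ≫ O'.ι ≫ G := by
      rw [show g nn = Sigma.ι Y nn ≫ f from (Sigma.ι_desc g nn).symm, reassoc_of% hl, hapq, reassoc_of% hd]
    rw [Category.assoc, Category.assoc]
    refine (congrArg ((O'.ι.isoImage W).inv ≫ ·) hg).trans ?_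
    exact (reassoc_of% (O'.ι.isoImage_inv_ι W)) G
  choose W hW hzW hWk using hlocal
  haveI : CompactSpace Z := QuasiCompact.compactSpace_of_compactSpace G
  obtain ⟨s, hs⟩ := isCompact_univ.elim_finite_subcover (fun z : Z => (W z : Set Z))
    (fun z => (W z).2) fun z _ => Set.mem_iUnion.2 ⟨z, hzW z⟩
  refine ⟨Z, G, s.card, fun j => W (s.equivFin.symm j).1, inferInstance, inferInstance, inferInstance,
    fun j => hW _, ?_, fun j => hWk _⟩
  refine top_le_iff.1 fun z _ => ?_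
  obtain ⟨x, hx, hzx⟩ := Set.mem_iUnion₂.1 (hs (Set.mem_univ z))
  refine TopologicalSpace.Opens.mem_iSup.2 ⟨s.equivFin ⟨x, hx⟩, ?_⟩
  show z ∈ W (s.equivFin.symm (s.equivFin ⟨x, hx⟩)).1
  rw [Equiv.symm_apply_apply]
  exact hzx

end Groth.Agent.S8978
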