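import Groth.Statements.S8982
import Groth.Agent.Lib.ABU25.Basic
-- import your own Groth.Agent.* helpers here

set_option autoImplicit false
universe u
open HTop

namespace Groth.Agent.S8982

open CategoryTheory CategoryTheory.Limits AlgebraicGeometry in
/-- The base change of an almost blow up square along an arbitrary morphism Y → X is an almost blow up
square over Y. The base-changed corners are introduced through fibre-product squares; the morphism
from the new exceptional corner to the new centre is the one compatible with them. -/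
theorem result {E Z X' X Y E₁ Z₁ X₁ : Scheme.{u}} {e : E ⟶ X'} {π : E ⟶ Z} {b : X' ⟶ X} {i : Z ⟶ X} (h : HTop.IsAlmostBlowUpSquare e π b i) (g : Y ⟶ X) {b₁ : X₁ ⟶ Y} {gX : X₁ ⟶ X'} (hX : IsPullback gX b₁ b g) {i₁ : Z₁ ⟶ Y} {gZ : Z₁ ⟶ Z} (hZ : IsPullback gZ i₁ i g) {e₁ : E₁ ⟶ X₁} {gE : E₁ ⟶ E} (hE : IsPullback gE e₁ e gX) {π₁ : E₁ ⟶ Z₁} (hπ : π₁ ≫ i₁ = e₁ ≫ b₁) : HTop.IsAlmostBlowUpSquare e₁ π₁ b₁ i₁ := by
  have := h.isClosedImmersion
  have := h.finitePresentation_base
  have := h.isProper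
  have := h.finitePresentation
  have hi₁ : IsClosedImmersion i₁ := MorphismProperty.of_isPullback hZ h.isClosedImmersion
  have hker : i₁.ker = i.ker.comap g := by
    rw [← Scheme.IdealSheafData.ker_fst_of_isClosedImmersion, ← Scheme.Hom.ker_comp_of_isIso hZ.flip.isoPullback.inv,
      IsPullback.isoPullback_inv_fst]
  have hcomap : i₁.ker.comap b₁ = (i.ker.comap b).comap gX := by
    rw [hker, ← Scheme.IdealSheafData.comap_comp, ← Scheme.IdealSheafData.comap_comp, hX.w]
  have hp : HTop.IsLocPrincipal (i₁.ker.comap b₁) := hcomap ▸ GrothLib.ABU25.isLocPrincipal_comap _ gX h.locPrincipal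
  have hgE : gE ≫ π = π₁ ≫ gZ := by
    rw [← cancel_mono i, Category.assoc, Category.assoc, ← h.isPullback.w, hZ.w, reassoc_of% hπ, reassoc_of% hE.w, hX.w]
  have hout := hE.flip.paste_vert h.isPullback
  rw [hX.w, hgE] at hout
  refine ⟨hi₁, MorphismProperty.of_isPullback hZ h.finitePresentation_base, IsPullback.of_bot hout hπ.symm hZ.flip, hp,
    MorphismProperty.of_isPullback hX h.isProper, MorphismProperty.of_isPullback hX h.finitePresentation, ?_⟩
  refine (GrothLib.ABU25.isBlowUp_iff_isUniv b₁ i₁.ker hp).2 fun T g' hg' => ?_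
  rw [hker, ← Scheme.IdealSheafData.comap_comp] at hg'
  obtain ⟨k₀, hk₀, huniq⟩ := GrothLib.ABU25.isUniv_of_square h T (g' ≫ g) hg'
  refine ⟨hX.lift k₀ g' hk₀, hX.lift_snd _ _ _, fun k hk => ?_⟩
  refine hX.hom_ext ?_ ((hk : k ≫ b₁ = g').trans (hX.lift_snd _ _ _).symm)
  rw [hX.lift_fst]
  exact huniq _ ((Category.assoc _ _ _).trans ((congrArg (k ≫ ·) hX.w).trans
    ((Category.assoc _ _ _).symm.trans (congrArg (· ≫ g) hk))))

end Groth.Agent.S8982
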