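import Groth.Statements.S0386
import Groth.Agent.Lib.FibreFlat.OpenScheme
-- import your own Groth.Agent.* helpers here

set_option autoImplicit false
universe u
open FlatMor

namespace Groth.Agent.S0386

open AlgebraicGeometry CategoryTheory Limits in
/-- Openness of the flat locus: for a morphism f : X ⟶ S locally of finite presentation, the set of
points x of X at which the local ring O_{X,x} is flat over O_{S,f(x)} is open in X. (The published
statement also treats the flat locus of a finitely presented quasi-coherent module; stated here for
the structure sheaf.) -/
theorem result {X S : Scheme.{u}} (f : X ⟶ S) [LocallyOfFinitePresentation f] :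
    IsOpen {x : X | (f.stalkMap x).hom.Flat} := by
    exact GrothLib.FibreFlat.isOpen_flat_stalkMap f

end Groth.Agent.S0386
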