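import Groth.Statements.S14790
import Groth.Agent.S0386
import Groth.Agent.Lib.GrpdQuot.InvariantOpen
import Mathlib

set_option autoImplicit false
universe u
open CategoryTheory CategoryTheory.Limits AlgebraicGeometry
open Subtr

namespace Groth.Agent.S14790

/-- The local ring of a reduced scheme at a maximal point is a field. -/
theorem isField_stalk_of_maximal {X : Scheme.{u}} [AlgebraicGeometry.IsReduced X] (w : X) (hw : ∀ z, z ⤳ w → z = w) :
    IsField (X.presheaf.stalk w) := by
  rw [IsLocalRing.isField_iff_maximalIdeal_eq]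
  refine le_bot_iff.1 fun a ha => ?_
  have hn : a ∈ nilradical (X.presheaf.stalk w) := by
    rw [nilradical_eq_sInf, Ideal.mem_sInf]
    intro p hp
    haveI : p.IsPrime := hp
    let q : Spec (X.presheaf.stalk w) := ⟨p, hp⟩
    have h1 : (X.fromSpecStalk w).base q = w :=
      hw _ ((Scheme.range_fromSpecStalk (X := X) (x := w)).le ⟨q, rfl⟩)
    have h2 : q = IsLocalRing.closedPoint (X.presheaf.stalk w) :=
      (X.fromSpecStalk w).isEmbedding.injective (h1.trans Scheme.fromSpecStalk_closedPoint.symm)
    have h3 : p = IsLocalRing.maximalIdeal _ := congrArg PrimeSpectrum.asIdeal h2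
    rwa [h3]
  rw [nilradical_eq_zero] at hn
  exact hn


/-- Take a scheme Y that is reduced, quasi-compact and quasi-separated, whose set of maximal points
(points with no proper generization) is quasi-compact, and f : X ⟶ Y a morphism of finite
presentation. Then there is a dense quasi-compact open subset U ⊆ Y over which f is flat. -/
theorem result {X Y : Scheme.{u}} [IsReduced Y]
    [CompactSpace Y] [QuasiSeparatedSpace Y]
    (hgen : IsCompact {y : Y | ∀ y' : Y, y' ⤳ y → y' = y})
    (f : X ⟶ Y) [LocallyOfFinitePresentation f] [QuasiCompact f] [QuasiSeparated f] :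
    ∃ U : Y.Opens, Dense (U : Set Y) ∧ IsCompact (U : Set Y) ∧ Flat (f ∣_ U) := by
  classical
  let Z : Set X := {x : X | (f.stalkMap x).hom.Flat}ᶜ
  have hZ : IsClosed Z := (Groth.Agent.S0386.result f).isClosed_compl
  let T : Set Y := {y : Y | ∀ y' : Y, y' ⤳ y → y' = y}
  have hT : ∀ y ∈ T, y ∉ closure (f '' Z) := fun y hy hcl => by
    obtain ⟨z, hz, hzy⟩ := GrothLib.GrpdQuot.exists_specializes_of_mem_closure f Z hZ y hcl
    refine hz ?_
    letI := (isField_stalk_of_maximal (X := Y) (f z) ((hy _ hzy).symm ▸ hy)).toField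
    letI : Algebra (Y.presheaf.stalk (f z)) (X.presheaf.stalk z) := (f.stalkMap z).hom.toAlgebra
    exact (inferInstance : Module.Flat (Y.presheaf.stalk (f z)) (X.presheaf.stalk z))
  have hex : ∀ y : T, ∃ W : Y.Opens, IsCompact (W : Set Y) ∧ (y : Y) ∈ W ∧ (W : Set Y) ⊆ (closure (f '' Z))ᶜ := by
    intro y
    obtain ⟨_, ⟨W, hW, rfl⟩, hyW, hWs⟩ :=
      Y.isBasis_affineOpens.exists_subset_of_mem_open (hT y y.2) isClosed_closure.isOpen_compl
    exact ⟨W, hW.isCompact, hyW, hWs⟩
  choose W hWc hyW hWs using hex
  obtain ⟨s, hs⟩ := hgen.elim_finite_subcover (fun y : T => (W y : Set Y)) (fun y => (W y).2)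
    (fun y hy => Set.mem_iUnion.mpr ⟨⟨y, hy⟩, hyW _⟩)
  let U : Y.Opens := ⟨⋃ y ∈ s, (W y : Set Y), isOpen_biUnion fun y _ => (W y).2⟩
  refine ⟨U, fun y => ?_, s.isCompact_biUnion fun y _ => hWc y, ?_⟩
  · obtain ⟨η, hη, hηy⟩ : ∃ z : Y, z ∈ T ∧ z ⤳ y := by
      have hirr := isIrreducible_irreducibleComponent (x := y)
      have hg := hirr.isGenericPoint_genericPoint isClosed_irreducibleComponent
      refine ⟨hirr.genericPoint, fun y' hy' => ?_, hg.specializes mem_irreducibleComponent⟩
      have heq : closure ({y'} : Set Y) = irreducibleComponent y := by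
        refine eq_irreducibleComponent isIrreducible_singleton.closure.isPreirreducible ?_
        rw [← hg.def]
        exact closure_minimal (Set.singleton_subset_iff.mpr (specializes_iff_mem_closure.mp hy'))
          isClosed_closure
      exact IsGenericPoint.eq (S := irreducibleComponent y) heq hg
    exact hηy.mem_closed isClosed_closure (subset_closure (hs hη))
  · refine Flat.of_stalkMap _ fun x => ?_
    have hx : x.1 ∉ Z := fun h => by
      obtain ⟨y, hys, hy⟩ := Set.mem_iUnion₂.mp (show f x.1 ∈ U from x.2)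
      exact hWs y hy (subset_closure ⟨_, h, rfl⟩)
    exact (RingHom.Flat.respectsIso.arrow_mk_iso_iff (morphismRestrictStalkMap f U x)).mpr
      (not_not.mp hx)

end Groth.Agent.S14790
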