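import Groth.Statements.S14793
import Groth.Agent.Lib.FlatBlow1.AlgChart
import Groth.Agent.Lib.BlowUp.Exists
import Groth.Agent.Lib.BlowUp.Universal
import Groth.Agent.Lib.FgSupport6.Exists
import Groth.Agent.Lib.FibreDimAt6.DenseBase
import Groth.Agent.Lib.QuasiDom6.Main
import Groth.Agent.Lib.Nagata6.Proper
import Groth.Agent.Lib.FlatStab13.Locus
-- import your own Groth.Agent.* helpers here

set_option autoImplicit false
set_option backward.isDefEq.respectTransparency false
universe u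
open Subtr

namespace Groth.Agent.S14793

open AlgebraicGeometry CategoryTheory Limits in
/-- A ring property at affine charts of a closed subscheme. -/
theorem appLE_subschemeι_comp {X Y : Scheme.{u}} (g : X ⟶ Y) (I : X.IdealSheafData) (D : Y.affineOpens)
    (O : X.affineOpens) (e : O.1 ≤ g ⁻¹ᵁ D.1) (e' : I.subschemeι ⁻¹ᵁ O.1 ≤ (I.subschemeι ≫ g) ⁻¹ᵁ D.1) :
    (I.subschemeι ≫ g).appLE D.1 (I.subschemeι ⁻¹ᵁ O.1) e' =
      g.appLE D.1 O.1 e ≫ CommRingCat.ofHom (Ideal.Quotient.mk (I.ideal O)) ≫ (I.subschemeObjIso O).inv := by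
  rw [← I.subschemeι_app O, Scheme.Hom.app_eq_appLE, Scheme.Hom.appLE_comp_appLE]

open AlgebraicGeometry CategoryTheory Limits GrothLib.QSecGen13 GrothLib.GrpdQuot in
/-- A morphism of finite presentation to a reduced scheme is flat over a quasi-compact dense open
when the maximal points form a quasi-compact set. -/
theorem exists_qc_dense_flat {X Y : Scheme.{u}} [IsReduced Y] [CompactSpace X]
    (hgen : IsCompact {y : Y | ∀ y' : Y, y' ⤳ y → y' = y})
    (f : X ⟶ Y) [LocallyOfFinitePresentation f] [QuasiCompact f] :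
    ∃ U : Y.Opens, Dense (U : Set Y) ∧ IsCompact (U : Set Y) ∧ Flat (f ∣_ U) := by
  classical
  let N : Set X := {x | (f.stalkMap x).hom.Flat}ᶜ
  have hop : IsOpen {x : X | (f.stalkMap x).hom.Flat} := GrothLib.FibreFlat.isOpen_flat_stalkMap f
  have hN : ProCons.IsProConstructible (f '' N) :=
    GrothLib.Constr.isProConstructible_image f (GrothLib.SubtrLim.isProConstructible_of_isClosed hop.isClosed_compl)
  let O : Y.Opens := ⟨(closure (f '' N))ᶜ, isClosed_closure.isOpen_compl⟩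
  have hmem : ∀ η ∈ {y : Y | ∀ y' : Y, y' ⤳ y → y' = y}, η ∈ O := fun η hη hc => by
    obtain ⟨_, ⟨x, hx, rfl⟩, hz⟩ := GrothLib.QuasiFlat.exists_specializes_of_mem_closure hN hc
    have hfx := hη _ hz
    exact hx (flat_of_isField (isField_stalk_of_generic (f x) (by rw [hfx]; exact hη)) _)
  have hloc : ∀ η : {y : Y | ∀ y' : Y, y' ⤳ y → y' = y}, ∃ V : Y.affineOpens, η.1 ∈ V.1 ∧ V.1 ≤ O :=
    fun η => by
      obtain ⟨V, hV, hyV, hVO⟩ := exists_isAffineOpen_mem_and_subset (hmem η.1 η.2)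
      exact ⟨⟨V, hV⟩, hyV, hVO⟩
  choose V hηV hVO using hloc
  obtain ⟨t, ht⟩ := hgen.elim_finite_subcover (fun η => ((V η).1 : Set Y)) (fun η => (V η).1.2)
    fun η hη => Set.mem_iUnion.2 ⟨⟨η, hη⟩, hηV _⟩
  let U : Y.Opens := ⨆ η ∈ t, (V η).1
  have hcoe : (U : Set Y) = ⋃ η ∈ t, ((V η).1 : Set Y) := by simp [U]
  refine ⟨U, ?_, ?_, ?_⟩
  · rw [dense_iff_inter_open]
    rintro W hW ⟨x, hx⟩
    obtain ⟨m, hm, hmax⟩ := exists_gen_specializes x
    exact ⟨m, hm.mem_open hW hx, hcoe ▸ ht hmax⟩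
  · rw [hcoe]
    exact t.isCompact_biUnion fun η _ => (V η).2.isCompact
  · refine Flat.of_stalkMap _ fun y => ?_
    have hyU : f y.1 ∈ O := by
      have h : f y.1 ∈ U := y.2
      simp only [U, TopologicalSpace.Opens.mem_iSup] at h
      obtain ⟨η, _, h⟩ := h
      exact hVO η h
    have h : (f.stalkMap y.1).hom.Flat := by
      by_contra hc
      exact hyU (subset_closure ⟨y.1, hc, rfl⟩)
    exact (RingHom.Flat.respectsIso.arrow_mk_iso_iff (morphismRestrictStalkMap f U y)).2 h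

open AlgebraicGeometry CategoryTheory Limits in
/-- Off the exceptional locus the strict transform is everything. -/
theorem mem_range_of_killed {X' : Scheme.{u}} (E 𝒥 : X'.IdealSheafData)
    (h𝒥 : ∀ (V : X'.affineOpens) (a : Γ(X', V.1)), a ∈ 𝒥.ideal V ↔
      BlowUp.KilledByPowerNear E (Coh.structureModule X') V a)
    (x : X') (hx : x ∉ E.support) : x ∈ Set.range 𝒥.subschemeι := by
  rw [Scheme.IdealSheafData.range_subschemeι, SetLike.mem_coe, Scheme.IdealSheafData.mem_support_iff]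
  intro V
  rw [Scheme.mem_zeroLocus_iff]
  intro m hm hxm
  obtain ⟨n, hn⟩ := (h𝒥 V m).1 hm
  have hxV : x ∈ V.1 := X'.basicOpen_le m hxm
  have hxn : x ∉ (E ^ n).support := by
    rcases n with - | n
    · rw [pow_zero]; exact fun h => h
    · rwa [Scheme.IdealSheafData.support_pow _ _ n.succ_ne_zero]
  rw [Scheme.IdealSheafData.mem_support_iff_of_mem hxV, Scheme.mem_zeroLocus_iff] at hxn
  push_neg at hxn
  obtain ⟨a, ha, hxa⟩ := hxn
  have h0 : a * m = 0 := hn a ha
  have : x ∈ X'.basicOpen (a * m) := by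
    rw [Scheme.basicOpen_mul]
    exact ⟨hxa, hxm⟩
  rw [h0, Scheme.basicOpen_zero] at this
  exact this

set_option maxHeartbeats 1600000 in
open AlgebraicGeometry CategoryTheory Limits in
/-- Let Y be a reduced, quasi-compact and quasi-separated scheme whose set of maximal points is
quasi-compact (for instance Y Noetherian), and f : X ⟶ Y a morphism of finite presentation every
base change of which has the lifting property for ordered pairs of points. Then there are a dense
quasi-compact open U ⊆ Y, an ideal sheaf 𝓘 admissible for U (of finite type, cosupported off U) and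
a blow-up b : Y' ⟶ Y of Y in 𝓘, with b surjective, such that the strict transform X'' of X (the
closed subscheme of X' = X ×_Y Y' whose ideal consists, on each affine open, of the functions
annihilated by a power of the pulled-back exceptional ideal) is flat, surjective and of finite
presentation over Y'. -/
theorem result {X Y : Scheme.{u}} [IsReduced Y] [CompactSpace Y]
    [QuasiSeparatedSpace Y] (hgen : IsCompact {y : Y | ∀ y' : Y, y' ⤳ y → y' = y})
    (f : X ⟶ Y) [LocallyOfFinitePresentation f] [QuasiCompact f] [QuasiSeparated f]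
    (hf : Subtr.UnivSSubtrusive f) :
    ∃ (U : Y.Opens) (𝓘 : Y.IdealSheafData) (Y' : Scheme.{u}) (b : Y' ⟶ Y),
      Dense (U : Set Y) ∧ IsCompact (U : Set Y) ∧ BlowUp.IsBlowUp b 𝓘 ∧ BlowUp.IsAdmissibleFor U 𝓘 ∧
      Surjective b ∧
      ∀ (X' : Scheme.{u}) (p₁ : X' ⟶ X) (p₂ : X' ⟶ Y'), IsPullback p₁ p₂ f b →
      ∀ (𝒥 : X'.IdealSheafData),
        (∀ (V : X'.affineOpens) (a : Γ(X', V.1)), a ∈ 𝒥.ideal V ↔
          BlowUp.KilledByPowerNear ((𝓘.comap f).comap p₁) (Coh.structureModule X') V a) →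
        Flat (𝒥.subschemeι ≫ p₂) ∧ Surjective (𝒥.subschemeι ≫ p₂) ∧
          LocallyOfFinitePresentation (𝒥.subschemeι ≫ p₂) ∧
          QuasiCompact (𝒥.subschemeι ≫ p₂) ∧ QuasiSeparated (𝒥.subschemeι ≫ p₂) := by
  classical
  haveI : CompactSpace X := QuasiCompact.compactSpace_of_compactSpace f
  obtain ⟨U, hUd, hU, hUflat⟩ := exists_qc_dense_flat hgen f
  haveI := hUflat
  obtain ⟨Z, hZfg, hZ⟩ := GrothLib.FgSupport6.exists_fg_support_eq U hU
  haveI : CompactSpace X := QuasiCompact.compactSpace_of_compactSpace f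
  have hloc : ∀ x : X, ∃ (W : Y.affineOpens) (V : X.affineOpens), x ∈ V.1 ∧ V.1 ≤ f ⁻¹ᵁ W.1 := fun x => by
    obtain ⟨W, hW, hxW, -⟩ := exists_isAffineOpen_mem_and_subset (show f.base x ∈ (⊤ : Y.Opens) from trivial)
    obtain ⟨V, hV, hxV, hVW⟩ := exists_isAffineOpen_mem_and_subset (show x ∈ f ⁻¹ᵁ W from hxW)
    exact ⟨⟨W, hW⟩, ⟨V, hV⟩, hxV, hVW⟩
  choose W V hxV hVW using hloc
  obtain ⟨t, ht⟩ := isCompact_univ.elim_finite_subcover (fun x : X => ((V x).1 : Set X)) (fun x => (V x).1.2)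
    fun x _ => Set.mem_iUnion.2 ⟨x, hxV x⟩
  choose J hJ hJchart using fun k : t =>
    GrothLib.FlatBlow1.exists_ideal_alg_chart f U hU (W k.1) (V k.1) (hVW k.1)
  let P : Y.IdealSheafData := Z * ∏ k, J k
  have hJs : BlowUp.IsAdmissibleFor U (∏ k, J k) := by
    refine Finset.prod_induction J (BlowUp.IsAdmissibleFor U) (fun A B hA hB => ⟨fun V => ?_, ?_⟩) ?_ fun k _ => hJ k
    · rw [Scheme.IdealSheafData.ideal_mul, Pi.mul_apply]
      exact (hA.1 V).mul (hB.1 V)
    · rw [Scheme.IdealSheafData.support_mul, TopologicalSpace.Closeds.coe_sup]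
      exact Set.disjoint_union_left.2 ⟨hA.2, hB.2⟩
    · refine ⟨fun V => ⟨{1}, by simp⟩, ?_⟩
      simp
  have hPsupp : (P.support : Set Y) = (U : Set Y)ᶜ := by
    rw [Scheme.IdealSheafData.support_mul, TopologicalSpace.Closeds.coe_sup, hZ, Set.union_eq_left]
    exact hJs.2.subset_compl_right
  have hP : BlowUp.IsAdmissibleFor U P := ⟨fun V => by
    rw [Scheme.IdealSheafData.ideal_mul, Pi.mul_apply]
    exact Submodule.FG.mul (hZfg V) (hJs.1 V), by rw [hPsupp]; exact disjoint_compl_left⟩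
  obtain ⟨Y', b, hb⟩ := GrothLib.BlowUp.exists_isBlowUp Y P
  haveI : IsProper b := GrothLib.Nagata6.isProper_of_isBlowUp hP.1 hb
  haveI : QuasiSeparatedSpace Y' := quasiSeparatedSpace_of_quasiSeparated b
  have hEsupp : ((P.comap b).support : Set Y') = (b ⁻¹ᵁ U : Set Y')ᶜ := by
    rw [Scheme.IdealSheafData.support_comap, TopologicalSpace.Closeds.coe_preimage, hPsupp]
    rfl
  have hd : Dense ((b ⁻¹ᵁ U : Y'.Opens) : Set Y') := by
    have h := GrothLib.QuasiDom6.dense_compl_support hb.1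
    rwa [hEsupp, compl_compl] at h
  have hsurj : Surjective b := ⟨fun y => by
    have hsub : (U : Set Y) ⊆ Set.range b := fun y hy => by
      have hi := GrothLib.BlowUp.isIso_off_center hb
      have hy' : y ∈ P.support.compl := by
        show y ∈ (P.support : Set Y)ᶜ
        rw [hPsupp, compl_compl]
        exact hy
      obtain ⟨z, hz⟩ := (b ∣_ P.support.compl).surjective ⟨y, hy'⟩
      refine ⟨(b ⁻¹ᵁ P.support.compl).ι z, ?_⟩
      rw [← Scheme.Hom.comp_apply, ← morphismRestrict_ι, Scheme.Hom.comp_apply, hz]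
      rfl
    exact (b.isClosedMap.isClosed_range.closure_subset_iff.2 hsub) (hUd y)⟩
  refine ⟨U, P, Y', b, hUd, hU, hb, hP, hsurj, fun X' p₁ p₂ sq 𝒥 h𝒥 => ?_⟩
  have key : ∀ z : 𝒥.subscheme, ∃ (D : Y'.affineOpens) (O : 𝒥.subscheme.affineOpens) (_ : z ∈ O.1)
      (e : O.1 ≤ (𝒥.subschemeι ≫ p₂) ⁻¹ᵁ D.1), ((𝒥.subschemeι ≫ p₂).appLE D.1 O.1 e).hom.Flat ∧
        ((𝒥.subschemeι ≫ p₂).appLE D.1 O.1 e).hom.FinitePresentation := fun z => by
    let x' := 𝒥.subschemeι z
    obtain ⟨x, hxt, hx⟩ := Set.mem_iUnion₂.1 (ht (Set.mem_univ (p₁ x')))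
    let k : t := ⟨x, hxt⟩
    have hsplit : P.ideal (W k.1) = (J k).ideal (W k.1) * (Z * ∏ i ∈ Finset.univ.erase k, J i).ideal (W k.1) := by
      rw [← Pi.mul_apply, ← Scheme.IdealSheafData.ideal_mul, mul_left_comm,
        Finset.mul_prod_erase _ _ (Finset.mem_univ k)]
    obtain ⟨D, O, e, hxO, hfl, hfp⟩ := hJchart k P _ hsplit b p₁ p₂ sq hb.1 𝒥 h𝒥 x' hx
    refine ⟨D, ⟨_, O.2.preimage 𝒥.subschemeι⟩, hxO, fun y hy => e hy, ?_⟩
    have heq := appLE_subschemeι_comp p₂ 𝒥 D O e (fun y hy => e hy)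
    rw [heq, CommRingCat.hom_comp, CommRingCat.hom_comp]
    exact ⟨RingHom.Flat.respectsIso.1 _ (𝒥.subschemeObjIso O).symm.commRingCatIsoToRingEquiv hfl,
      RingHom.finitePresentation_respectsIso.1 _ (𝒥.subschemeObjIso O).symm.commRingCatIsoToRingEquiv hfp⟩
  haveI : Flat (𝒥.subschemeι ≫ p₂) := by
    refine (HasRingHomProperty.iff_exists_appLE ?_).2 fun z => ?_
    · exact RingHom.Flat.stableUnderComposition.stableUnderCompositionWithLocalizationAway
        RingHom.Flat.holdsForLocalizationAway |>.1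
    · obtain ⟨D, O, hz, e, hflat, -⟩ := key z
      exact ⟨D, O, hz, e, hflat⟩
  haveI : LocallyOfFinitePresentation (𝒥.subschemeι ≫ p₂) := by
    refine (HasRingHomProperty.iff_exists_appLE ?_).2 fun z => ?_
    · exact RingHom.finitePresentation_stableUnderComposition.stableUnderCompositionWithLocalizationAway
        RingHom.finitePresentation_holdsForLocalizationAway |>.1
    · obtain ⟨D, O, hz, e, -, hfp⟩ := key z
      exact ⟨D, O, hz, e, hfp⟩
  haveI : QuasiCompact p₂ := MorphismProperty.of_isPullback sq inferInstance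
  haveI : QuasiSeparated p₂ := MorphismProperty.of_isPullback sq inferInstance
  refine ⟨inferInstance, ⟨fun y' => ?_⟩, inferInstance, inferInstance, inferInstance⟩
  have hr : IsRetrocompact ((b ⁻¹ᵁ U : Y'.Opens) : Set Y') := fun W hWc hWo =>
    QuasiSeparatedSpace.inter_isCompact _ _ (b ⁻¹ᵁ U).2 (b.isSpectralMap.isCompact_preimage_of_isOpen U.2 hU) hWo hWc
  obtain ⟨η, hη, hηy⟩ := GrothLib.FibreDimAt6.exists_specializes_mem _ hd hr y'
  have hs : Subtr.IsSSubtrusive p₂ := hf p₁ b p₂ sq.flip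
  obtain ⟨x, x', hxx, hx, hx'⟩ := hs hηy
  have hmem : x' ∈ Set.range 𝒥.subschemeι := by
    refine mem_range_of_killed _ 𝒥 h𝒥 x' fun h => ?_
    rw [← Scheme.IdealSheafData.comap_comp, sq.w, Scheme.IdealSheafData.comap_comp,
      Scheme.IdealSheafData.support_comap, ← SetLike.mem_coe, TopologicalSpace.Closeds.coe_preimage,
      Set.mem_preimage, hx', hEsupp] at h
    exact h hη
  obtain ⟨z, hz⟩ := hxx.mem_closed 𝒥.subschemeι.isClosedMap.isClosed_range hmem
  exact ⟨z, by rw [Scheme.Hom.comp_apply, hz, hx]⟩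

end Groth.Agent.S14793
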