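import Groth.Statements.S13598
import Groth.Agent.Lib.Hensel.Properties
import Groth.Agent.Lib.Hensel.Local
-- import your own Groth.Agent.* helpers here

set_option autoImplicit false
universe u
open Hensel

namespace Groth.Agent.S13598

/-- For a local ring A, a henselization A ⟶ S of A (S a henselian local ring, the structure map local,
and initial among local homomorphisms from A to henselian local rings) and an ideal I of A inside
the maximal ideal, the quotient S/IS with its induced algebra structure over A/I is a henselization
of A/I. (The local-ring and local-homomorphism instances on the quotients hold automatically; they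
are taken as hypotheses only so that the conclusion can be stated.) -/
theorem result {A S : Type u} [CommRing A] [IsLocalRing A] [CommRing S]
    [IsLocalRing S] [Algebra A S] [IsLocalHom (algebraMap A S)] [Hensel.IsHenselization A S]
    (I : Ideal A) (hI : I ≤ IsLocalRing.maximalIdeal A)
    [IsLocalRing (A ⧸ I)] [IsLocalRing (S ⧸ I.map (algebraMap A S))]
    [IsLocalHom (algebraMap (A ⧸ I) (S ⧸ I.map (algebraMap A S)))] :
    Hensel.IsHenselization (A ⧸ I) (S ⧸ I.map (algebraMap A S)) := by
  have hS := (inferInstance : Hensel.IsHenselization A S)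
  have := hS.henselian
  have hA : IsLocalHom (Ideal.Quotient.mk I) := IsLocalHom.of_surjective _ Ideal.Quotient.mk_surjective
  have hS' : IsLocalHom (Ideal.Quotient.mk (I.map (algebraMap A S))) :=
    IsLocalHom.of_surjective _ Ideal.Quotient.mk_surjective
  have hne : (IsLocalRing.maximalIdeal S).map (Ideal.Quotient.mk (I.map (algebraMap A S))) =
      IsLocalRing.maximalIdeal (S ⧸ I.map (algebraMap A S)) := by
    refine le_antisymm (fun x hx ↦ ?_) (fun x hx ↦ ?_)
    · obtain ⟨y, hy, rfl⟩ := (Ideal.mem_map_iff_of_surjective _ Ideal.Quotient.mk_surjective).mp hx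
      refine map_nonunit (Ideal.Quotient.mk (I.map (algebraMap A S))) y hy
    · obtain ⟨y, rfl⟩ := Ideal.Quotient.mk_surjective x
      exact Ideal.mem_map_of_mem _ fun hy ↦ hx (hy.map _)
  refine ⟨GrothLib.Hensel.henselianLocalRing_of_henselianRing
    (hne ▸ GrothLib.Hensel.henselianRing_quotient (I.map (algebraMap A S)) (IsLocalRing.maximalIdeal S)),
    fun T _ _ f hf ↦ ?_⟩
  obtain ⟨g, hg, huniq⟩ := hS.universal T (f.comp (Ideal.Quotient.mk I)) inferInstance
  have hker : ∀ x ∈ I.map (algebraMap A S), g x = 0 := by
    have : I.map (algebraMap A S) ≤ RingHom.ker g := by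
      rw [Ideal.map_le_iff_le_comap]
      intro a ha
      show g (algebraMap A S a) = 0
      rw [show g (algebraMap A S a) = f (Ideal.Quotient.mk I a) from RingHom.congr_fun hg a,
        Ideal.Quotient.eq_zero_iff_mem.mpr ha, map_zero]
    exact this
  refine ⟨Ideal.Quotient.lift _ g hker, ?_, fun g' hg' ↦ ?_⟩
  · refine Ideal.Quotient.ringHom_ext (RingHom.ext fun a ↦ ?_)
    exact RingHom.congr_fun hg a
  · refine Ideal.Quotient.ringHom_ext ?_
    rw [Ideal.Quotient.lift_comp_mk]
    exact huniq _ (RingHom.ext fun a ↦ RingHom.congr_fun hg' (Ideal.Quotient.mk I a))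
end Groth.Agent.S13598
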