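import Groth.Statements.S0567
import Groth.Agent.Lib.N2.FiniteType
-- import your own Groth.Agent.* helpers here

set_option autoImplicit false
universe u
open CAlg

namespace Groth.Agent.S0567

/-- A ring is Nagata exactly when it is Noetherian and universally Japanese. -/
theorem result (R : Type u) [CommRing R] :
    CAlg.IsNagata R ↔ (IsNoetherianRing R ∧ CAlg.IsUniversallyJapanese R) := by
  refine ⟨fun hR => ⟨hR.1, GrothLib.N2.isUniversallyJapanese_of_isNagata hR⟩, fun h => ⟨h.1, fun p _ => ?_⟩⟩
  exact h.2 (R ⧸ p) inferInstance

end Groth.Agent.S0567
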