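import Groth.Statements.S17341
-- import your own Groth.Agent.* helpers here
import Groth.Agent.Lib.CBExt28.Transfer
import Groth.Agent.Lib.DimCut.Product

set_option autoImplicit false
set_option maxHeartbeats 1600000
set_option linter.style.haveILetI false
set_option backward.isDefEq.respectTransparency false
universe u
open CategoryTheory CategoryTheory.Limits AlgebraicGeometry
open AdjLin

namespace Groth.Agent.S17341

/-- Let k be an algebraically closed field of characteristic zero and X a smooth projective surface over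
k (irreducible, proper, smooth of dimension 2, with an ample invertible module), ω a second exterior
power of Ω_{X/k}, L an invertible O_X-module and Z ⊆ X a finite set of closed points, viewed as a
reduced finite subscheme with ideal sheaf I_Z (the vanishing ideal of the closed set Z). Then the
following are equivalent: (a) there are a locally free O_X-module E of rank 2, a section s : O_X → E
and a map E → L ⊗ I_Z making 0 → O_X → E → L ⊗ I_Z → 0 a short exact sequence (the Koszul complex of
a rank-2 bundle of determinant L with a section vanishing exactly on Z); (b) for every point z of Z,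
every global section of L ⊗ ω whose zero scheme contains all the other points of Z also vanishes at
z. -/
theorem result (k : Type u) [Field k] [IsAlgClosed k] [CharZero k]
    (X : Scheme.{u}) [X.Over (Spec (CommRingCat.of k))] [IsProper (X ↘ (Spec (CommRingCat.of k)))]
    [Smooth (X ↘ (Spec (CommRingCat.of k)))] [IrreducibleSpace X] (hdim : topologicalKrullDim X = 2)
    (H : X.Modules) (hH : CohB1.IsAmple H)
    (L : X.Modules) (hL : PicF.IsInvertible L)
    (ω : X.Modules) (hω : ExtPow.IsExtPow 2 (Omega.sheaf (X ↘ (Spec (CommRingCat.of k)))) ω)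
    (Z : Finset X) (hZc : IsClosed ((Z : Set X))) (hZ : ∀ z ∈ Z, IsClosed ({z} : Set X)) :
    (∃ (E : X.Modules) (sE : Coh.structureModule X ⟶ E)
        (p : E ⟶ CohB1.tensorMod L (ClSub.idealMod (Scheme.IdealSheafData.vanishingIdeal ⟨(Z : Set X), hZc⟩)))
        (w : sE ≫ p = 0), FlatMod.IsFinLocFreeOfRank 2 E ∧ (ShortComplex.mk sE p w).ShortExact) ↔
      (∀ z ∈ Z, ∀ σ : Coh.structureModule X ⟶ CohB1.tensorMod L ω,
        (∀ z' ∈ Z, z' ≠ z → z' ∈ (PicF2.zeroScheme (CohB1.tensorMod L ω) σ).support) →
          z ∈ (PicF2.zeroScheme (CohB1.tensorMod L ω) σ).support) := by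
  classical
  haveI := GrothLib.RedSmooth.isReduced_of_smooth (X ↘ Spec (CommRingCat.of k))
  haveI : IsIntegral X := isIntegral_of_irreducibleSpace_of_isReduced X
  haveI : Infinite k := IsAlgClosed.instInfinite
  haveI := GrothLib.Euler.isNoetherian_of_proper (X := X) k
  haveI : Nonempty X := ⟨genericPoint X⟩
  haveI : SmoothOfRelativeDimension 2 (X ↘ Spec (CommRingCat.of k)) :=
    GrothLib.DimCut.smoothOfRelativeDimension _ 2 (by exact_mod_cast hdim)
  haveI : HasExt.{u} X.Modules := CategoryTheory.hasExt_of_enoughInjectives X.Modules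
  -- a projective embedding
  obtain ⟨n, ιP, hιP, hιf⟩ : ∃ (n : ℕ) (i : X ⟶ CohB1.ProjSpace n k), IsClosedImmersion i ∧
      i ≫ CohB1.ProjSpace.toSpec n k = X ↘ Spec (CommRingCat.of k) := by
    obtain ⟨n, i, hi, hif⟩ := GrothLib.Ample.exists_immersion_of_isAmple (X ↘ Spec (CommRingCat.of k)) hH
    haveI := hi
    haveI : IsProper (CohB1.ProjSpaceOver.toBase n (Spec (CommRingCat.of k))) := GrothLib.Chow.isProper_toBase n _
    haveI : IsProper (i ≫ CohB1.ProjSpaceOver.toBase n (Spec (CommRingCat.of k))) := hif ▸ inferInstance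
    haveI : IsProper i := IsProper.of_comp i (CohB1.ProjSpaceOver.toBase n _)
    haveI := GrothLib.Chow.isClosedImmersion_of_isImmersion_of_isProper i
    haveI := GrothLib.Ample.ProjMap.isClosedImmersion_toProjSpace n k
    refine ⟨n, i ≫ GrothLib.Ample.ProjMap.toProjSpace n k, inferInstance, ?_⟩
    rw [Category.assoc, GrothLib.Ample.ProjMap.toProjSpace_toSpec]
    exact hif
  haveI := hιP
  have hωinv := GrothLib.DualSm27.isInvertible_top k n 2 X ιP hιf ω hω
  have hA := GrothLib.Ample.isInvertible_tensorMod hL hωinv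
  obtain ⟨K, hK, ⟨eLK⟩, ⟨eKL⟩⟩ := GrothLib.CBExt28.exists_inv hL
  let e : (GrothLib.CBExt28.Tw (CohB1.tensorMod L ω)).obj K ≅ ω :=
    ((DCoh.tensorBi (X := X)).mapIso (GrothLib.GrTilde.tensorModComm (X := X) L ω)).app K ≪≫
      GrothLib.OX.tensorAssoc ω L K ≪≫ ((DCoh.tensorBi (X := X)).obj ω).mapIso eLK ≪≫
      GrothLib.GrTilde.tensorModComm (X := X) ω (Coh.structureModule X) ≪≫ GrothLib.OX.tensorUnitLeftIso ω
  set IZ := Scheme.IdealSheafData.vanishingIdeal (⟨(Z : Set X), hZc⟩ : TopologicalSpace.Closeds X) with hIZ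
  have hcl : ∀ Z' : Finset X, Z' ⊆ Z → IsClosed (Z' : Set X) := fun Z' hs => by
    rw [← Set.biUnion_of_singleton (Z' : Set X)]
    exact Z'.finite_toSet.isClosed_biUnion fun z hz => hZ z (hs hz)
  -- the ideal of the points has rank one
  have hI1 : GrothLib.Euler.grank (ClSub.idealMod IZ) = 1 := by
    have hη : genericPoint X ∉ (IZ.support : Set X) := by
      rw [hIZ, Scheme.IdealSheafData.coe_support_vanishingIdeal]
      intro hmem
      have hc := hZ (genericPoint X) hmem
      have h0 : topologicalKrullDim X ≤ 0 := by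
        haveI : Subsingleton X := ⟨fun a b => by
          have ha : a ∈ ({genericPoint X} : Set X) := hc.closure_eq.le ((genericPoint_spec X).specializes trivial).mem_closure
          have hb : b ∈ ({genericPoint X} : Set X) := hc.closure_eq.le ((genericPoint_spec X).specializes trivial).mem_closure
          exact ha.trans hb.symm⟩
        haveI : DiscreteTopology X := inferInstance
        exact topologicalKrullDim_zero_of_discreteTopology X
      rw [hdim] at h0
      exact absurd h0 (by norm_num)
    have hst := GrothLib.Goodman.st_of_notMem IZ hη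
    have hb : Function.Bijective (GrothLib.QCoh.stalkLin (ClSub.idealModι IZ) (genericPoint X)) := by
      refine ⟨fun a b hab => GrothLib.OmegaBC.sval_injective IZ _ ((GrothLib.HomSh.unitStalk _).injective ?_),
        fun v => ?_⟩
      · rw [← GrothLib.Goodman.stalkLin_idealModι, hab, GrothLib.Goodman.stalkLin_idealModι]
      · obtain ⟨c, rfl⟩ := (GrothLib.HomSh.unitStalk (genericPoint X)).surjective v
        obtain ⟨a, ha⟩ : c ∈ GrothLib.Goodman.st IZ (genericPoint X) := hst ▸ trivial
        exact ⟨a, by rw [GrothLib.Goodman.stalkLin_idealModι, ha]⟩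
    refine (LinearEquiv.finrank_eq (LinearEquiv.ofBijective _ hb)).trans ?_
    exact GrothLib.Euler.grank_of_locFree (GrothLib.Euler.isFinLocFreeOfRank_one' GrothLib.Euler.isInvertible_structure)
  rw [GrothLib.CBExt28.exists_rankTwo_iff k hL hK eLK eKL (GrothLib.CBExt28.isCoh_idealMod k IZ) hI1,
    GrothLib.ExtHull28.exists_bundle_iff k hdim K hK Z hZc hZ]
  constructor
  · intro h z hz σ hσ
    by_contra hzσ
    let φ := GrothLib.HodgeIndex.idealIncl (I := IZ) (J := Scheme.IdealSheafData.vanishingIdeal
      ⟨((Z.erase z : Finset X) : Set X), hcl _ (Finset.erase_subset z Z)⟩)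
      (Scheme.IdealSheafData.vanishingIdeal_antimono (Finset.coe_subset.2 (Finset.erase_subset z Z)))
    exact h (Z.erase z) (hcl _ (Finset.erase_subset z Z)) (Finset.erase_ssubset hz) φ (kernel.lift_ι _ _ _)
      ((GrothLib.CBExt28.surjective_precomp_iff_exists_section hιf hω hA e hZc hZ hz _ φ (kernel.lift_ι _ _ _)).2
        ⟨σ, hσ, hzσ⟩)
  · intro h Z' hZ'c hss φ hφ hsurj
    obtain ⟨z, hz, hz'⟩ := Finset.exists_of_ssubset hss
    have hsub : Z' ⊆ Z.erase z := fun a ha => Finset.mem_erase.2 ⟨fun e => hz' (e ▸ ha), hss.subset ha⟩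
    let φz := GrothLib.HodgeIndex.idealIncl (I := IZ) (J := Scheme.IdealSheafData.vanishingIdeal
      ⟨((Z.erase z : Finset X) : Set X), hcl _ (Finset.erase_subset z Z)⟩)
      (Scheme.IdealSheafData.vanishingIdeal_antimono (Finset.coe_subset.2 (Finset.erase_subset z Z)))
    let ψ := GrothLib.HodgeIndex.idealIncl (I := Scheme.IdealSheafData.vanishingIdeal
      ⟨((Z.erase z : Finset X) : Set X), hcl _ (Finset.erase_subset z Z)⟩)
      (J := Scheme.IdealSheafData.vanishingIdeal ⟨(Z' : Set X), hZ'c⟩)
      (Scheme.IdealSheafData.vanishingIdeal_antimono (Finset.coe_subset.2 hsub))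
    haveI : Mono (ClSub.idealModι (Scheme.IdealSheafData.vanishingIdeal
        (⟨(Z' : Set X), hZ'c⟩ : TopologicalSpace.Closeds X))) := GrothLib.CBExt28.mono_idealModι _
    have hfac : φz ≫ ψ = φ := by
      rw [← cancel_mono (ClSub.idealModι (Scheme.IdealSheafData.vanishingIdeal
        (⟨(Z' : Set X), hZ'c⟩ : TopologicalSpace.Closeds X))), Category.assoc, hφ]
      exact (congrArg (φz ≫ ·) (kernel.lift_ι _ _ _)).trans (kernel.lift_ι _ _ _)
    have hs : Function.Surjective ((Abelian.Ext.mk₀ φz).precomp K (zero_add 1)) := fun x => by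
      obtain ⟨y, hy⟩ := hsurj x
      refine ⟨(Abelian.Ext.mk₀ ψ).comp y (zero_add 1), ?_⟩
      rw [← hy]
      show (Abelian.Ext.mk₀ φz).comp ((Abelian.Ext.mk₀ ψ).comp y (zero_add 1)) (zero_add 1) =
        (Abelian.Ext.mk₀ φ).comp y (zero_add 1)
      rw [Abelian.Ext.mk₀_comp_mk₀_assoc, hfac]
    obtain ⟨σ, hσ, hσz⟩ :=
      (GrothLib.CBExt28.surjective_precomp_iff_exists_section hιf hω hA e hZc hZ hz _ φz (kernel.lift_ι _ _ _)).1 hs
    exact hσz (h z hz σ hσ)

end Groth.Agent.S17341
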