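import Groth.Agent.Lib.ArtFun.Torsor
import Groth.Statements.S15131
-- import your own Groth.Agent.* helpers here

set_option autoImplicit false
universe u v
open CategoryTheory
open ArtFun

namespace Groth.Agent.S15131

/-- Let k be a field and F a functor on local Artinian k-algebras with residue field k with F(k) a
single point, satisfying (H1) (the comparison map of A₁ ×_A A₂ is surjective when A₂ → A is a small
extension) and (H2) (it is bijective when A = k and A₂ = k[ε]). If the tangent space F(k[ε]) is a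
single point then F is the one-point functor: every F(A) has exactly one element. (The converse is
clear.) -/
theorem result
    {k : Type u} [Field k] (F : ArtFun.Art k k ⥤ Type v)
    (h0 : ArtFun.H0 F) (h1 : ArtFun.Hbar F) (h2 : ArtFun.Heps F)
    (ht : Subsingleton (ArtFun.TangentSpace F)) (A : ArtFun.Art k k) :
    Nonempty (F.obj A) ∧ Subsingleton (F.obj A) := by
  refine ⟨h0.1.map fun pt => F.map (Art.homMk (Algebra.ofId k A)
    (AlgHom.ext fun c => A.res.commutes c) : Art.base k k ⟶ A) pt, ⟨?_⟩⟩
  suffices H : ∀ ⦃A B : Art k k⦄ (μ : B ⟶ A), Function.Surjective μ →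
      (∀ x y : F.obj A, x = y) → ∀ x y : F.obj B, x = y from
    H (Art.toBase A) (GrothLib.ArtFun.toBase_surjective A) (GrothLib.ArtFun.h0_eq h0)
  refine GrothLib.ArtFun.surj_induction (fun A B _ => (∀ x y : F.obj A, x = y) → ∀ x y : F.obj B, x = y)
    ?_ ?_ (fun _ _ _ _ _ _ _ hp hq h => hp (hq h))
  · intro A B e he h x y
    exact (GrothLib.ArtFun.map_bijective_of_isIso F e).1 (h _ _)
  · intro A B μ hμ h x y
    obtain ⟨t, hker, -⟩ := GrothLib.ArtFun.smallExt_exists_gen hμ
    obtain ⟨P, p₁, p₂, hP⟩ := GrothLib.ArtFun.exists_isFibreProd_of_surjective μ μ hμ.1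
    obtain ⟨g, hg⟩ := GrothLib.ArtFun.exists_isDiff hμ hker hP
    obtain ⟨θ, hθ⟩ := GrothLib.ArtFun.trel_transitive (g := g) hμ hP h1 (y := x) (y' := y) (h _ _)
    obtain ⟨pt⟩ := h0.1
    rw [show θ = F.map Art.baseToDual pt from ht.elim _ _] at hθ
    exact GrothLib.ArtFun.trel_unique hμ hker hP hg h2
      (GrothLib.ArtFun.trel_zero hμ hker hP hg h0 x pt) hθ

end Groth.Agent.S15131
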