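import Groth.Statements.S11406
import Groth.Agent.Lib.AntiAffine.Hom
-- import your own Groth.Agent.* helpers here

set_option autoImplicit false
universe u
open CategoryTheory MonoidalCategory CartesianMonoidalCategory MonObj GrpObj AlgebraicGeometry CategoryTheory.Limits
open AlgGrp

namespace Groth.Agent.S11406

/-- Over an algebraically closed field k, let G be an algebraic group (smooth k-group scheme of finite
type) whose only global functions are the constants, let H be a connected algebraic group, let i : N
→ H be the largest connected affine normal algebraic subgroup H_aff of H (a homomorphism and closed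
immersion from a smooth, connected, affine k-group scheme, normal in H, through which every other
such subgroup factors), and let α : H → A be a flat surjective homomorphism with kernel i onto a
proper smooth k-group scheme A (so A = H/H_aff). If two morphisms of k-schemes f, f′ : G → H both
send e_G to e_H and have the same composite with α, then f = f′. (The published assertion is that
such a morphism f is determined by the homomorphism from G/G_aff to H/H_aff which it induces; two
such morphisms induce the same homomorphism exactly when their composites with α agree, because the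
quotient morphism of G is an epimorphism, so the assertion is stated in that form. The remaining
assertions, that f is a homomorphism and that its image is central, are not stated here.) -/
theorem result (k : Type u) [Field k] [IsAlgClosed k]
    (G H : Over (Spec (CommRingCat.of k))) [GrpObj G] [Smooth G.hom] [QuasiCompact G.hom]
    (hG : Function.Bijective ((Scheme.ΓSpecIso (CommRingCat.of k)).inv ≫ G.hom.appTop).hom)
    [GrpObj H] [Smooth H.hom] [QuasiCompact H.hom] [ConnectedSpace ↥H.left]
    (N : Over (Spec (CommRingCat.of k))) [GrpObj N] (i : N ⟶ H) [IsMonHom i] [IsClosedImmersion i.left]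
    [Smooth N.hom] [ConnectedSpace ↥N.left] [IsAffine N.left] (hN : AlgGrp.IsNormalHom i)
    (hNmax : ∀ (N' : Over (Spec (CommRingCat.of k))) [GrpObj N'] (i' : N' ⟶ H) [IsMonHom i'] [IsClosedImmersion i'.left]
      [Smooth N'.hom] [ConnectedSpace ↥N'.left] [IsAffine N'.left], AlgGrp.IsNormalHom i' → ∃ g : N' ⟶ N, g ≫ i = i')
    (A : Over (Spec (CommRingCat.of k))) [GrpObj A] [IsProper A.hom] [Smooth A.hom] (α : H ⟶ A) [IsMonHom α]
    [Surjective α.left] [Flat α.left] (hker : AlgGrp.IsKernel i α)
    (f f' : G ⟶ H) (hf : η[G] ≫ f = η[H]) (hf' : η[G] ≫ f' = η[H]) (hα : f ≫ α = f' ≫ α) :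
    f = f' := by
  have : IsSeparated G.hom := GrothLib.GrpSchField.isSeparated G
  let d : G ⟶ H := f * f'⁻¹
  have hd : d ≫ α = toUnit G ≫ η[A] := by
    rw [MonObj.mul_comp, GrpObj.inv_comp, hα, mul_inv_cancel, Hom.one_def]
  let n : G ⟶ N := hker.lift d (toUnit G) hd
  have hn : n ≫ i = d := hker.lift_fst _ _ _
  have h1 := GrothLib.AntiAffine.IsAntiAffine.eq_const hG η[G] n
  have h2 : d = 1 := by
    rw [← hn, h1, Category.assoc, Category.assoc, hn, MonObj.comp_mul, GrpObj.comp_inv, hf, hf',
      mul_inv_cancel, MonObj.comp_one]
  exact mul_inv_eq_one.mp h2


end Groth.Agent.S11406
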