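import Groth.Statements.S3882
import Groth.Agent.Lib.Hyper25.Refine
-- import your own Groth.Agent.* helpers here

set_option autoImplicit false
set_option backward.isDefEq.respectTransparency false
set_option backward.isDefEq.respectTransparency.types false
universe u
open CategoryTheory
open Hyper

namespace Groth.Agent.S3882

open Opposite CategoryTheory.Limits in
/-- The statement its proof reduces the result to (hypercoverings of an object X of a small site with
fibre products; coskeleta assumed to exist): let N be a presheaf of abelian groups whose associated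
sheaf is zero, K a hypercovering of X and ξ a class in the p-th Cech cohomology group of N with
respect to K. Then there is a morphism of hypercoverings f : L -> K such that ξ maps to zero in the
p-th Cech cohomology group of N with respect to L. (So Cech cohomology over all hypercoverings up to
homotopy kills such presheaves in every degree.) -/
theorem result {C : Type u} [SmallCategory C] [HasPullbacks C]
    (J : GrothendieckTopology C) (X : C)
    [∀ (n : ℕ) (F : (SimplexCategory.Truncated n)ᵒᵖ ⥤ Limits.FormalCoproduct.{u} (Over X)),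
      (SimplexCategory.Truncated.inclusion n).op.HasRightKanExtension F]
    (K : SimplicialObject (FormalCoproduct.{u} (Over X))) (hK : Hyper.IsHypercovering J X K)
    (N : Cᵒᵖ ⥤ AddCommGrpCat.{u}) (hN : IsZero ((presheafToSheaf J AddCommGrpCat.{u}).obj N))
    (p : ℕ) (ξ : Hyper.cechH X K N p) :
    ∃ (L : SimplicialObject (FormalCoproduct.{u} (Over X))) (f : L ⟶ K),
      Hyper.IsHypercovering J X L ∧ Hyper.cechHMap X f N p ξ = 0 := by
  classical
  haveI : Mono ((Hyper.cechCx X K N).iCycles p) := inferInstance
  obtain ⟨z, rfl⟩ := (AddCommGrpCat.epi_iff_surjective ((Hyper.cechCx X K N).homologyπ p)).1 inferInstance ξ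
  let Kp := K.obj (op (SimplexCategory.mk p))
  let N' : (Over X)ᵒᵖ ⥤ AddCommGrpCat.{u} := (Over.forget X).op ⋙ N
  let c : ((∏ᶜ fun i : Kp.I => N'.obj (op (Kp.obj i))) : AddCommGrpCat.{u}) := (Hyper.cechCx X K N).iCycles p z
  let cc : ∀ i : Kp.I, N'.obj (op (Kp.obj i)) := fun i => Pi.π (fun i => N'.obj (op (Kp.obj i))) i c
  let Z : FormalCoproduct.{u} (Over X) :=
    ⟨Σ (i : Kp.I) (V : Over X), {h : V ⟶ Kp.obj i // N'.map h.op (cc i) = 0}, fun q => q.2.1⟩
  let u : Z ⟶ Kp := ⟨fun q => q.1, fun q => q.2.2.1⟩
  have hu : Hyper.IsSRCovering (J.over X) u := fun j => by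
    rw [GrothendieckTopology.mem_over_iff]
    refine J.superset_covering (fun W a ha => ?_)
      (Presheaf.equalizerSieve_mem J (toSheafify J N) (X := op (Kp.obj j).left) (cc j) 0 ?_)
    · rw [Sieve.overEquiv_iff]
      let V : Over X := Over.mk (a ≫ (Kp.obj j).hom)
      have h0 : N'.map (Over.homMk a rfl : V ⟶ Kp.obj j).op (cc j) = 0 :=
        (show N.map a.op (cc j) = N.map a.op 0 from ha).trans (map_zero _)
      exact ⟨_, 𝟙 V, _, Presieve.ofArrows.mk
        (⟨⟨j, V, Over.homMk a rfl, h0⟩, rfl⟩ : {q : Z.I // u.f q = j}), by simp [u, V]⟩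
    · rw [map_zero]
      haveI : Subsingleton (((presheafToSheaf J AddCommGrpCat.{u}).obj N).obj.obj (op (Kp.obj j).left)) :=
        AddCommGrpCat.subsingleton_of_isZero
          (((sheafToPresheaf J AddCommGrpCat.{u} ⋙ (evaluation _ _).obj (op (Kp.obj j).left))).map_isZero hN)
      exact Subsingleton.elim (α := ((presheafToSheaf J AddCommGrpCat.{u}).obj N).obj.obj (op (Kp.obj j).left)) _ _
  refine ⟨GrothLib.Hyper25.refineObj p K u,
    pullback.fst (GrothLib.Hyper25.toPow p K) (GrothLib.Hyper25.powMap p u),
    GrothLib.Hyper25.isHypercovering_refineObj p K u J hK hu, ?_⟩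
  let f := pullback.fst (GrothLib.Hyper25.toPow p K) (GrothLib.Hyper25.powMap p u)
  have hf : f.app (op (SimplexCategory.mk p)) = GrothLib.Hyper25.comp' p K u _ (𝟙 _) ≫ u := by
    rw [GrothLib.Hyper25.comp'_u, op_id, K.map_id, Category.comp_id]
  let E := (FormalCoproduct.evalOp.{u} (Over X) AddCommGrpCat.{u}).obj N'
  have hu0 : E.map u.op c = 0 := by
    refine (Concrete.productEquiv (fun q : Z.I => N'.obj (op (Z.obj q)))).injective (funext fun q => ?_)
    rw [Concrete.productEquiv_apply_apply, Concrete.productEquiv_apply_apply]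
    refine Eq.trans ?_ (map_zero (Pi.π (fun q : Z.I => N'.obj (op (Z.obj q))) q).hom).symm
    refine (congrArg (fun t : E.obj (op Kp) ⟶ N'.obj (op (Z.obj q)) => t c)
      (Pi.lift_π (fun q => Pi.π (fun i : Kp.I => N'.obj (op (Kp.obj i))) (u.f q) ≫ N'.map (u.φ q).op) q)).trans ?_
    exact q.2.2.2
  have h1 : (Hyper.cechMap X f N).f p c = 0 := by
    change E.map (f.app (op (SimplexCategory.mk p))).op c = 0
    rw [hf, op_comp, E.map_comp]
    exact (congrArg (E.map (GrothLib.Hyper25.comp' p K u _ (𝟙 _)).op) hu0).trans (map_zero _)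
  have h2 : HomologicalComplex.cyclesMap (Hyper.cechMap X f N) p z = 0 := by
    apply (AddCommGrpCat.mono_iff_injective ((Hyper.cechCx X (GrothLib.Hyper25.refineObj p K u) N).iCycles p)).1
      inferInstance
    rw [map_zero]
    exact (ConcreteCategory.congr_hom (HomologicalComplex.cyclesMap_i (Hyper.cechMap X f N) p) z).trans h1
  refine (ConcreteCategory.congr_hom (HomologicalComplex.homologyπ_naturality (Hyper.cechMap X f N) p) z).trans ?_
  exact (congrArg ((Hyper.cechCx X (GrothLib.Hyper25.refineObj p K u) N).homologyπ p) h2).trans (map_zero _)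

end Groth.Agent.S3882
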