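import Groth.Statements.S2147
import Groth.Agent.Lib.AbsApprox.ProperSystem
import Groth.Agent.Lib.AbsApprox.ImageSystem
import Groth.Agent.Lib.AbsApprox.Rel
import Groth.Agent.Lib.LimDesc.Proper
import Groth.Agent.Lib.LimDesc.Snd

set_option autoImplicit false
universe u
open CategoryTheory AlgebraicGeometry
open Lim

namespace Groth.Agent.S2147

/-- Let `f : X → S` be proper with `S` quasi-compact and quasi-separated. Then `f` is a limit of proper
morphisms `f_i : X_i → S_i` with `S_i` of finite type over `ℤ`: there are cofiltered diagrams of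
schemes `X_i`, `S_i` with affine transition morphisms, a natural transformation with proper
components, and limit cones identified with `X` and `S` compatibly with `f`. -/
theorem result {X S : Scheme.{u}} (f : X ⟶ S) [IsProper f] [CompactSpace S]
    [QuasiSeparatedSpace S] :
    ∃ (I : Type u) (_ : SmallCategory I) (_ : IsCofiltered I) (DX DS : I ⥤ Scheme.{u}) (φ : DX ⟶ DS)
      (cX : Limits.Cone DX) (cS : Limits.Cone DS) (_ : Limits.IsLimit cX) (_ : Limits.IsLimit cS)
      (eX : cX.pt ≅ X) (eS : cS.pt ≅ S),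
      (∀ (i j : I) (a : i ⟶ j), IsAffineHom (DX.map a) ∧ IsAffineHom (DS.map a)) ∧
      (∀ i, IsProper (φ.app i) ∧ CompactSpace (DS.obj i) ∧
        LocallyOfFiniteType (Limits.IsTerminal.from specULiftZIsTerminal (DS.obj i))) ∧
      (∀ i, cX.π.app i ≫ φ.app i = eX.hom ≫ f ≫ eS.inv ≫ cS.π.app i) := by
  classical
  haveI : CompactSpace X := QuasiCompact.compactSpace_of_compactSpace f
  obtain ⟨I₁, _, _, _, D₁, π₁, -, h1, -, h3⟩ := GrothLib.AbsApprox.exists_proper_system f
  obtain ⟨i₁⟩ : Nonempty I₁ := inferInstance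
  let f₀ : (D₁.obj (Opposite.op i₁)).left ⟶ S := (D₁.obj (Opposite.op i₁)).hom
  haveI : IsProper f₀ := (h1 _).1
  haveI : LocallyOfFinitePresentation f₀ := (h1 _).2
  let ι : X ⟶ (D₁.obj (Opposite.op i₁)).left := (π₁.app (Opposite.op i₁)).left
  haveI : IsClosedImmersion ι := h3 _
  have hι : ι ≫ f₀ = f := Over.w (π₁.app (Opposite.op i₁))
  obtain ⟨𝒲⟩ := GrothLib.AbsApprox.nonempty_cov (S := S)
  let D := GrothLib.AbsApprox.Cov.system 𝒲
  let c : Limits.Cone D := GrothLib.AbsApprox.Cov.cone 𝒲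
  have hc : Limits.IsLimit c := GrothLib.AbsApprox.Cov.isLimitCone 𝒲
  haveI : ∀ (i j : 𝒲.Idxᵒᵖ) (a : i ⟶ j), IsAffineHom (D.map a) := fun i j a =>
    GrothLib.AbsApprox.Cov.isAffineHom_system a
  haveI hN : ∀ i, IsLocallyNoetherian (D.obj i) := fun i =>
    GrothLib.AbsApprox.Cov.isLocallyNoetherian_model i.unop.2
  haveI hC : ∀ i, CompactSpace ↥(D.obj i) := fun i =>
    inferInstanceAs (CompactSpace ↥(GrothLib.AbsApprox.Cov.model i.unop.2))
  haveI hQ : ∀ i, QuasiSeparatedSpace ↥(D.obj i) := fun i => inferInstance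
  obtain ⟨i₀⟩ : Nonempty 𝒲.Idxᵒᵖ := inferInstance
  let f₁ : (D₁.obj (Opposite.op i₁)).left ⟶ c.pt := f₀
  haveI : LocallyOfFinitePresentation f₁ := (h1 _).2
  haveI : IsProper f₁ := (h1 _).1
  haveI : QuasiCompact f₁ := (inferInstance : QuasiCompact f₀)
  haveI : QuasiSeparated f₁ := (inferInstance : QuasiSeparated f₀)
  obtain ⟨j, _, ⟨M⟩⟩ := GrothLib.LimDescend.exists_model_over D c hc i₀ f₁
  haveI := M.lfp
  haveI := M.qc
  haveI := M.qs
  haveI : CompactSpace M.obj := QuasiCompact.compactSpace_of_compactSpace M.hom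
  haveI : QuasiSeparatedSpace M.obj := quasiSeparatedSpace_of_quasiSeparated M.hom
  have hY : IsPullback (c.π.app j) (𝟙 c.pt) (𝟙 (D.obj j)) (c.π.app j) :=
    IsPullback.id_vert _
  obtain ⟨j', φ, hp⟩ := GrothLib.LimDesc.exists_snd_of_exists_stage D (i₀ := j) @IsProper M.hom
    (GrothLib.LimDesc.exists_isProper D hc M.hom (𝟙 _) hY M.isPullback)
  let a := Limits.pullback.snd M.hom (D.map φ)
  haveI : IsProper a := hp
  let q : (D₁.obj (Opposite.op i₁)).left ⟶ Limits.pullback M.hom (D.map φ) :=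
    Limits.pullback.lift M.proj (f₁ ≫ c.π.app j')
      (by rw [Category.assoc, c.w]; exact M.isPullback.w)
  have hP : IsPullback q f₁ a (c.π.app j') := by
    refine IsPullback.of_right ?_ (Limits.pullback.lift_snd _ _ _) (IsPullback.of_hasPullback M.hom (D.map φ))
    rw [Limits.pullback.lift_fst, c.w]
    exact M.isPullback
  haveI : CompactSpace ↥(Limits.pullback M.hom (D.map φ)) := QuasiCompact.compactSpace_of_compactSpace a
  haveI : QuasiSeparatedSpace ↥(Limits.pullback M.hom (D.map φ)) := quasiSeparatedSpace_of_quasiSeparated a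
  let G := GrothLib.LimDesc.diag D j' a
  let cG := GrothLib.LimDesc.cone D j' a hP
  have hG : Limits.IsLimit cG := GrothLib.LimDesc.isLimitCone D j' a hP hc
  haveI : ∀ i, IsAffineHom (cG.π.app i) := fun i => isAffineHom_π_app G cG hG i
  let ι' : X ⟶ cG.pt := ι
  haveI : IsClosedImmersion ι' := h3 _
  let ν : GrothLib.AbsApprox.imageSys G cG ι' ⟶ Over.forget j' ⋙ D :=
    { app := fun i => (GrothLib.AbsApprox.imageIncl G cG ι').app i ≫ Limits.pullback.snd a (D.map i.hom)
      naturality := fun i k b => by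
        rw [← Category.assoc, (GrothLib.AbsApprox.imageIncl G cG ι').naturality b]
        exact (Category.assoc _ _ _).trans ((congrArg _ (GrothLib.LimDesc.map_snd D j' a b)).trans
          (Category.assoc _ _ _).symm) }
  refine ⟨Over j', inferInstance, inferInstance, GrothLib.AbsApprox.imageSys G cG ι', Over.forget j' ⋙ D, ν,
    GrothLib.AbsApprox.imageCone G cG ι', c.whisker (Over.forget j'),
    GrothLib.AbsApprox.isLimitImageCone G cG ι' hG,
    (Functor.Initial.isLimitWhiskerEquiv (Over.forget j') c).symm hc, Iso.refl X, Iso.refl S,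
    fun i k b => ⟨GrothLib.AbsApprox.isAffineHom_imageSys G cG ι' b,
      inferInstanceAs (IsAffineHom (D.map b.left))⟩,
    fun i => ⟨?_, hC i.left, GrothLib.AbsApprox.Cov.locallyOfFiniteType_model i.left.unop.2⟩, fun i => ?_⟩
  · show IsProper ((GrothLib.AbsApprox.imageIncl G cG ι').app i ≫ Limits.pullback.snd a (D.map i.hom))
    haveI : IsProper (Limits.pullback.snd a (D.map i.hom)) := MorphismProperty.pullback_snd _ _ hp
    exact MorphismProperty.comp_mem _ _ _ (inferInstance : IsProper _) ‹_›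
  · show (GrothLib.AbsApprox.imageCone G cG ι').π.app i ≫
        (GrothLib.AbsApprox.imageIncl G cG ι').app i ≫ Limits.pullback.snd a (D.map i.hom) =
      𝟙 X ≫ f ≫ 𝟙 S ≫ c.π.app i.left
    rw [← Category.assoc, GrothLib.AbsApprox.imageCone_π]
    exact (Category.assoc ι' _ _).trans ((congrArg (ι' ≫ ·) (GrothLib.LimDesc.π_snd D j' a hP i)).trans
      ((Category.assoc ι f₀ _).symm.trans (by rw [hι, Category.id_comp, Category.id_comp])))

end Groth.Agent.S2147
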