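import Groth.Statements.S0675
import Groth.Agent.Lib.IndEt.Retract
import Groth.Agent.Lib.IndEt.StrictLocal

set_option autoImplicit false
open CategoryTheory CategoryTheory.Limits AlgebraicGeometry Opposite Topology
universe u
open ProEtW

namespace Groth.Agent.S0675

/-- If every faithfully flat etale A-algebra has an A-algebra retraction, then for every maximal ideal m
of A the localization A_m is a strictly henselian local ring (henselian with separably closed
residue field). -/
theorem result (A : Type u) [CommRing A]
    (h : ProEtW.HasEtaleRetractions A) (m : Ideal A) [m.IsMaximal] :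
    EtCoh.IsStrictlyHenselianLocalRing (Localization.AtPrime m) := by
  refine GrothLib.IndEt.strictlyHenselian_of_hasEtaleRetractions
    (GrothLib.IndEt.hasEtaleRetractions_localization m.primeCompl m ?_ h)
  ext x
  rw [PrimeSpectrum.localization_comap_range (Localization.AtPrime m) m.primeCompl]
  constructor
  · intro hx
    refine ⟨⟨m, inferInstance⟩, le_refl m, (PrimeSpectrum.le_iff_specializes _ _).1 ?_⟩
    intro a ha
    by_contra hna
    exact Set.disjoint_left.1 hx hna ha
  · rintro ⟨z, hz, hxz⟩
    have h1 : x.asIdeal ≤ z.asIdeal := (PrimeSpectrum.le_iff_specializes _ _).2 hxz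
    have h2 : z.asIdeal = m := ((‹m.IsMaximal›).eq_of_le z.isPrime.ne_top hz).symm
    exact Set.disjoint_left.2 fun a ha hax => ha (h2 ▸ h1 hax)

end Groth.Agent.S0675
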