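import Groth.Statements.S7127
import Groth.Agent.Lib.AbsFlat.Basic
import Mathlib.Tactic.Algebraize
-- import your own Groth.Agent.* helpers here

set_option autoImplicit false
universe u
open EtAlg

namespace Groth.Agent.S7127
open TensorProduct

/-- Let A be a ring and B → C an A-algebra homomorphism between weakly étale A-algebras. Then C is
weakly étale over B. -/
theorem result (A B C : Type u) [CommRing A] [CommRing B] [CommRing C]
    [Algebra A B] [Algebra A C] [Algebra B C] [IsScalarTower A B C] [Algebra.WeaklyEtale A B]
    [Algebra.WeaklyEtale A C] : Algebra.WeaklyEtale B C := by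
  haveI : Module.Flat B C := AbsFlat.flat_of_flat_lmul (Algebra.WeaklyEtale.flat_lmul' A B) C
  refine ⟨inferInstance, ?_⟩
  let q : C ⊗[A] C →ₐ[A] C ⊗[B] C := Algebra.TensorProduct.mapOfCompatibleSMul B A A C C
  have hq : Function.Surjective q := Algebra.TensorProduct.mapOfCompatibleSMul_surjective B A A C C
  have hc : (Algebra.TensorProduct.lmul' A (S := C)).toRingHom =
      (Algebra.TensorProduct.lmul' B (S := C)).toRingHom.comp q.toRingHom := by
    refine RingHom.ext fun z => ?_
    induction z with
    | zero => simp
    | tmul x y => simp [q]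
    | add x y hx hy => simp only [map_add, hx, hy]
  have h0 : (Algebra.TensorProduct.lmul' A (S := C)).toRingHom.Flat := Algebra.WeaklyEtale.flat_lmul' A C
  show (Algebra.TensorProduct.lmul' B (S := C)).toRingHom.Flat
  rw [hc] at h0
  exact AbsFlat.flat_ringHom_of_comp_surjective q.toRingHom _ hq h0

end Groth.Agent.S7127
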