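import Groth.Statements.S0737
import Groth.Agent.Lib.WLocal.Along
import Groth.Agent.Lib.WLocal.Pull

set_option autoImplicit false
open CategoryTheory CategoryTheory.Limits AlgebraicGeometry Opposite Topology
universe u
open ProEtW

namespace Groth.Agent.S0737

/-- Let Spec A be w-local with radical ideal I cutting out its closed points, and A -> B inducing
algebraic residue field extensions. Then (1) every point of V(IB) is closed in Spec B, and (2) there
is an ind-Zariski B-algebra C with B/IB -> C/IC bijective, Spec C w-local, Spec C -> Spec A w-local,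
and closed points of Spec C exactly the points over closed points of Spec A. -/
theorem result (A B : Type u) [CommRing A]
    [CommRing B] [Algebra A B] (hA : ProEtW.IsWLocal (PrimeSpectrum A)) (I : Ideal A) (hI : I.IsRadical)
    (hI0 : PrimeSpectrum.zeroLocus (R := A) I = ProEtW.closedPoints (PrimeSpectrum A))
    (h : ProEtW.AlgebraicResidueExtensions A B) :
    PrimeSpectrum.zeroLocus (R := B) (I.map (algebraMap A B)) ⊆ ProEtW.closedPoints (PrimeSpectrum B) ∧
    ∃ (C : Type u) (_ : CommRing C) (_ : Algebra B C) (_ : Algebra A C) (_ : IsScalarTower A B C),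
      EtPBC.IsIndZariski B C ∧
      Function.Bijective (Ideal.quotientMap ((I.map (algebraMap A B)).map (algebraMap B C))
        (algebraMap B C) Ideal.le_comap_map) ∧
      ProEtW.IsWLocal (PrimeSpectrum C) ∧
      ProEtW.IsWLocalMap (PrimeSpectrum.comap (algebraMap A C)) ∧
      ProEtW.closedPoints (PrimeSpectrum C) =
        PrimeSpectrum.comap (algebraMap A C) ⁻¹' ProEtW.closedPoints (PrimeSpectrum A) := by
  have hmaxA : ∀ p : PrimeSpectrum A, I ≤ p.asIdeal → p.asIdeal.IsMaximal := fun p hp =>
    GrothLib.WLocal.mem_closedPoints.1 (hI0 ▸ (hp : p ∈ PrimeSpectrum.zeroLocus (R := A) I))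
  have hmaxB : ∀ q : PrimeSpectrum B, I.map (algebraMap A B) ≤ q.asIdeal → q.asIdeal.IsMaximal := by
    intro q hq
    haveI := hmaxA (PrimeSpectrum.comap (algebraMap A B) q) (Ideal.map_le_iff_le_comap.1 hq)
    haveI : (q.asIdeal.comap (algebraMap A B)).IsMaximal := this
    haveI := h q.asIdeal
    haveI : Algebra.IsIntegral (A ⧸ q.asIdeal.comap (algebraMap A B)) (B ⧸ q.asIdeal) := by
      letI := Ideal.Quotient.field (q.asIdeal.comap (algebraMap A B))
      exact Algebra.IsAlgebraic.isIntegral
    exact Ideal.Quotient.maximal_of_isField _ (isField_of_isIntegral_of_isField'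
      (R := A ⧸ q.asIdeal.comap (algebraMap A B))
      ((Ideal.Quotient.maximal_ideal_iff_isField_quotient _).1 inferInstance))
  refine ⟨fun q hq => GrothLib.WLocal.mem_closedPoints.2 (hmaxB q hq), ?_⟩
  obtain ⟨C, _, _, hiz, hwl, hcl, hbij⟩ := GrothLib.WLocal.exists_along B _ hmaxB
  letI := ((algebraMap B C).comp (algebraMap A B)).toAlgebra
  haveI : IsScalarTower A B C := IsScalarTower.of_algebraMap_eq fun _ => rfl
  have hiff : ∀ q : PrimeSpectrum C, q ∈ ProEtW.closedPoints (PrimeSpectrum C) ↔
      PrimeSpectrum.comap (algebraMap A C) q ∈ ProEtW.closedPoints (PrimeSpectrum A) := fun q => by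
    rw [hcl, ← hI0, Ideal.map_map, ← IsScalarTower.algebraMap_eq]
    show (Ideal.map (algebraMap A C) I ≤ q.asIdeal) ↔ I ≤ q.asIdeal.comap (algebraMap A C)
    exact Ideal.map_le_iff_le_comap
  exact ⟨C, inferInstance, inferInstance, inferInstance, inferInstance, hiz, hbij, hwl,
    ⟨GrothLib.WLocal.isSpectralMap_comap _, fun q hq => (hiff q).1 hq⟩, Set.ext hiff⟩

end Groth.Agent.S0737
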