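import Groth.Statements.S0692
import Groth.Agent.Lib.WLocal.Square

set_option autoImplicit false
open CategoryTheory CategoryTheory.Limits AlgebraicGeometry Opposite Topology
universe u
open ProEtW

namespace Groth.Agent.S0692

/-- Let A -> B induce algebraic residue field extensions. Then one can find faithfully flat ind-etale
extensions C of A and D of B, with D a C-algebra compatibly, such that: Spec C and Spec D are
w-local; Spec D -> Spec C is w-local; the closed points of Spec D are exactly the points over closed
points of Spec C; the closed points of Spec C map onto Spec A and those of Spec D onto Spec B; and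
C_m is strictly henselian for every maximal ideal m of C. -/
theorem result (A B : Type u) [CommRing A] [CommRing B] [Algebra A B]
    (h : ProEtW.AlgebraicResidueExtensions A B) :
    ∃ (C D : Type u) (_ : CommRing C) (_ : CommRing D) (_ : Algebra A C) (_ : Algebra B D)
      (_ : Algebra C D) (_ : Algebra A D) (_ : IsScalarTower A C D) (_ : IsScalarTower A B D),
      Module.FaithfullyFlat A C ∧ EtPBC.IsIndEtale A C ∧ Module.FaithfullyFlat B D ∧
      EtPBC.IsIndEtale B D ∧ ProEtW.IsWLocal (PrimeSpectrum C) ∧ ProEtW.IsWLocal (PrimeSpectrum D) ∧
      ProEtW.IsWLocalMap (PrimeSpectrum.comap (algebraMap C D)) ∧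
      ProEtW.closedPoints (PrimeSpectrum D) =
        PrimeSpectrum.comap (algebraMap C D) ⁻¹' ProEtW.closedPoints (PrimeSpectrum C) ∧
      PrimeSpectrum.comap (algebraMap A C) '' ProEtW.closedPoints (PrimeSpectrum C) = Set.univ ∧
      PrimeSpectrum.comap (algebraMap B D) '' ProEtW.closedPoints (PrimeSpectrum D) = Set.univ ∧
      ∀ (m : Ideal C) [m.IsMaximal], EtCoh.IsStrictlyHenselianLocalRing (Localization.AtPrime m) := by
  exact GrothLib.WLocal.exists_square A B h

end Groth.Agent.S0692
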