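import Groth.Statements.S1974
import Groth.Agent.Lib.WeakEtale.OverField
import Mathlib.FieldTheory.SeparableClosure

set_option autoImplicit false
universe u
open EtAlg
open Polynomial TensorProduct GrothLib.WeakEtale

namespace Groth.Agent.S1974

/-- Let A -> B be weakly etale and q a prime of B lying over the prime p of A. Then the residue field of
q is a separable algebraic extension of the residue field of p. -/
theorem result (A B : Type u) [CommRing A] [CommRing B] [Algebra A B]
    [Algebra.WeaklyEtale A B] (p : Ideal A) [p.IsPrime] (q : Ideal B) [q.IsPrime] [q.LiesOver p]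
    [Algebra (Localization.AtPrime p) (Localization.AtPrime q)] [Localization.AtPrime.IsLiesOverAlgebra p q] :
    Algebra.IsSeparable p.ResidueField q.ResidueField := by
  haveI : IsScalarTower A p.ResidueField q.ResidueField := inferInstance
  let Φ : p.ResidueField ⊗[A] B →ₐ[p.ResidueField] q.ResidueField :=
    Algebra.TensorProduct.lift (Algebra.ofId p.ResidueField q.ResidueField)
      (IsScalarTower.toAlgHom A B q.ResidueField) fun _ _ => Commute.all _ _
  have hB : ∀ b : B, algebraMap B q.ResidueField b ∈ separableClosure p.ResidueField q.ResidueField := by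
    intro b
    have h := (isSepElem_of_weaklyEtale ((1 : p.ResidueField) ⊗ₜ[A] b)).map Φ
    rw [show Φ (1 ⊗ₜ b) = algebraMap B q.ResidueField b by simp [Φ]] at h
    obtain ⟨f, hf, hb⟩ := h
    exact mem_separableClosure_iff.mpr (hf.of_dvd (minpoly.dvd _ _ hb))
  refine ⟨fun x => mem_separableClosure_iff.mp ?_⟩
  obtain ⟨⟨a, s⟩, h⟩ := IsLocalization.surj (nonZeroDivisors (B ⧸ q)) x
  obtain ⟨a, rfl⟩ := Ideal.Quotient.mk_surjective a
  obtain ⟨t, ht⟩ := Ideal.Quotient.mk_surjective (s : B ⧸ q)
  have hs : algebraMap (B ⧸ q) q.ResidueField (s : B ⧸ q) ≠ 0 :=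
    IsFractionRing.to_map_ne_zero_of_mem_nonZeroDivisors s.2
  rw [eq_div_iff hs |>.mpr h, ← ht]
  exact div_mem (by rw [show Ideal.Quotient.mk q a = algebraMap B (B ⧸ q) a from rfl,
    ← IsScalarTower.algebraMap_apply]; exact hB a)
    (by rw [show Ideal.Quotient.mk q t = algebraMap B (B ⧸ q) t from rfl,
      ← IsScalarTower.algebraMap_apply]; exact hB t)

end Groth.Agent.S1974
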