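import Groth.Statements.S11198
import Groth.Agent.S11191
import Groth.Agent.Lib.Rigidity.Field
import Groth.Agent.Lib.Rigidity.PointsExt
import Groth.Agent.Lib.DiagGrp.Bihom
import Groth.Agent.Lib.RedSmooth.Basic
import Groth.Agent.Lib.FlatFactor.OrbitImmersion

set_option autoImplicit false
universe u
open CategoryTheory MonoidalCategory CartesianMonoidalCategory MonObj GrpObj AlgebraicGeometry
open scoped TensorProduct
open AGF

namespace Groth.Agent.S11198

section Aux

open GrothLib.Repr

variable {k : Type u} [Field k] {G : Over (Spec (CommRingCat.of k))}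

/-- Morphisms into the affine line are determined by the coordinate function. -/
theorem lineMor_ext {Y : Over (Spec (CommRingCat.of k))} (m m' : Y ⟶ VecGrp.pt k (Polynomial k))
    (h : fnMap m (fnPt k _ Polynomial.X) = fnMap m' (fnPt k _ Polynomial.X)) : m = m' := by
  have h1 : (fnMap m).comp (fnPt k (Polynomial k)) = (fnMap m').comp (fnPt k (Polynomial k)) :=
    Polynomial.algHom_ext h
  refine Over.OverMorphism.ext ?_
  have : IsAffine (VecGrp.pt k (Polynomial k)).left :=
    inferInstanceAs (IsAffine (Spec (CommRingCat.of (Polynomial k))))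
  apply ext_of_isAffine
  refine CommRingCat.hom_ext (RingHom.ext fun z => ?_)
  obtain ⟨r, rfl⟩ :=
    (ConcreteCategory.bijective_of_isIso (Scheme.ΓSpecIso (CommRingCat.of (Polynomial k))).inv).2 z
  exact DFunLike.congr_fun h1 r

/-- The morphism to the affine line of a global function on an affine scheme. -/
noncomputable def toLine [IsAffine G.left] (f : Γ(G.left, ⊤)) : G ⟶ VecGrp.pt k (Polynomial k) :=
  (Groth.Agent.S11191.affIso G).hom ≫ VecGrp.ptMap (Polynomial.aeval (show Fn G from f))

theorem fnMap_toLine [IsAffine G.left] (f : Γ(G.left, ⊤)) :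
    fnMap (toLine f) (fnPt k _ Polynomial.X) = f := by
  rw [toLine, fnMap_comp, AlgHom.comp_apply, fnMap_ptMap, Polynomial.aeval_X]
  change (G.left.isoSpec.hom.appTop).hom ((Scheme.ΓSpecIso Γ(G.left, ⊤)).inv.hom f) = f
  rw [Scheme.isoSpec_hom, Scheme.toSpecΓ_appTop, ← CommRingCat.comp_apply, Iso.inv_hom_id]
  rfl

theorem mem_rTransInv_iff_toLine [GrpObj G] [IsAffine G.left] {T : Over (Spec (CommRingCat.of k))}
    (g : T ⟶ G) (f : Γ(G.left, ⊤)) :
    f ∈ AGF.rTransInv g ↔ ((G ◁ g) ≫ μ[G]) ≫ toLine f = fst G T ≫ toLine f := by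
  constructor
  · intro h
    refine lineMor_ext _ _ ?_
    rw [fnMap_comp _ (toLine f), AlgHom.comp_apply, fnMap_toLine, fnMap_comp _ (toLine f),
      AlgHom.comp_apply, fnMap_toLine]
    exact h
  · intro h
    have h' := congrArg (fun m => fnMap m (fnPt k _ Polynomial.X)) h
    simp only [fnMap_comp _ (toLine f), AlgHom.comp_apply, fnMap_toLine] at h'
    exact h'

end Aux

/-- Let k be an algebraically closed field, G a linear algebraic group over k and H₁ ⊆ H₂ ⊆ G closed
subgroups (smooth closed subgroup schemes i₁ : H₁ → H₂, i₂ : H₂ → G), such that the quotient H₂/H₁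
(the scheme X with H₂-action a and base point o) is proper over k and irreducible. Then a global
function on G is invariant under right translation by H₁ if and only if it is invariant under right
translation by H₂. -/
theorem result (k : Type u) [Field k] [IsAlgClosed k]
    (G : Over (Spec (CommRingCat.of k))) [GrpObj G] [IsAffine G.left] [Smooth G.hom]
    (H₂ : Over (Spec (CommRingCat.of k))) [GrpObj H₂] [Smooth H₂.hom] (i₂ : H₂ ⟶ G) [IsMonHom i₂] [IsClosedImmersion i₂.left]
    (H₁ : Over (Spec (CommRingCat.of k))) [GrpObj H₁] [Smooth H₁.hom] (i₁ : H₁ ⟶ H₂) [IsMonHom i₁] [IsClosedImmersion i₁.left]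
    (X : Over (Spec (CommRingCat.of k))) (a : AlgGrp.Action H₂ X) (o : 𝟙_ (Over (Spec (CommRingCat.of k))) ⟶ X) (hX : AGF.IsQuotient i₁ X a o)
    [IsProper X.hom] [IrreducibleSpace X.left] :
    AGF.rTransInv (i₁ ≫ i₂) = AGF.rTransInv i₂ := by
  classical
  obtain ⟨hXlft, hflat, hsurj, hpb⟩ := hX
  haveI := hflat
  haveI := hsurj
  haveI : LocallyOfFiniteType X.hom := hXlft
  haveI : LocallyOfFinitePresentation (a.orbitMap o).left := by
    haveI : IsNoetherianRing (CommRingCat.of k) := inferInstanceAs (IsNoetherianRing k)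
    haveI : LocallyOfFinitePresentation ((a.orbitMap o).left ≫ X.hom) := by
      rw [Over.w]; infer_instance
    exact GrothLib.DiagGrp.lfp_of_comp_of_lft _ X.hom ‹_› hXlft
  haveI hredH : IsReduced H₂.left := GrothLib.RedSmooth.isReduced_of_smooth H₂.hom
  haveI : IsReduced X.left := GrothLib.FlatFactor.isReduced_of_flat_surjective (a.orbitMap o).left
  haveI : IsIntegral X.left := isIntegral_of_irreducibleSpace_of_isReduced _
  haveI : IsAffine (VecGrp.pt k (Polynomial k)).left :=
    inferInstanceAs (IsAffine (Spec (CommRingCat.of (Polynomial k))))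
  refine le_antisymm ?_ ?_
  · intro f hf
    rw [mem_rTransInv_iff_toLine] at hf ⊢
    haveI : Smooth (G ⊗ H₂).hom := inferInstanceAs (Smooth (Limits.pullback.fst G.hom H₂.hom ≫ G.hom))
    haveI : IsReduced (G ⊗ H₂).left := GrothLib.RedSmooth.isReduced_of_smooth (G ⊗ H₂).hom
    haveI : LocallyOfFiniteType (G ⊗ H₂).hom := inferInstance
    haveI : IsSeparated (VecGrp.pt k (Polynomial k)).hom := inferInstanceAs (IsSeparated (Spec.map _))
    refine GrothLib.Rigidity.ext_of_points _ _ fun p => ?_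
    obtain ⟨g, h, rfl⟩ : ∃ g h, p = lift g h :=
      ⟨p ≫ fst G H₂, p ≫ snd G H₂, by apply CartesianMonoidalCategory.hom_ext <;> simp⟩
    rw [Category.assoc, lift_whiskerLeft_assoc, lift_fst_assoc, ← Category.assoc, ← Hom.mul_def]
    -- invariance on points
    have hinv : ∀ (T : Over (Spec (CommRingCat.of k))) (x : T ⟶ G) (n : T ⟶ H₁),
        (x * (n ≫ i₁ ≫ i₂)) ≫ toLine f = x ≫ toLine f := fun T x n => by
      have := congrArg (lift x n ≫ ·) hf
      simp only [lift_fst_assoc] at this
      rw [Category.assoc, lift_whiskerLeft_assoc, ← Category.assoc, ← Hom.mul_def] at this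
      exact this
    let Ψ : H₂ ⟶ VecGrp.pt k (Polynomial k) := ((toUnit H₂ ≫ g) * i₂) ≫ toLine f
    have hΨ : ∀ (T : Over (Spec (CommRingCat.of k))) (y : T ⟶ H₂),
        y ≫ Ψ = ((toUnit T ≫ g) * (y ≫ i₂)) ≫ toLine f := fun T y => by
      simp only [Ψ]
      rw [← Category.assoc, MonObj.comp_mul, ← Category.assoc, comp_toUnit]
    obtain ⟨d, hd⟩ := GrothLib.DiagGrp.exists_desc (a.orbitMap o) Ψ fun T y y' hyy => by
      obtain ⟨l, hl1, hl2⟩ : ∃ l : T ⟶ H₂ ⊗ H₁, l ≫ fst H₂ H₁ = y ∧ l ≫ (H₂ ◁ i₁) ≫ μ[H₂] = y' :=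
        ⟨hpb.lift y y' hyy, hpb.lift_fst _ _ _, hpb.lift_snd _ _ _⟩
      have hy' : y' = y * ((l ≫ snd H₂ H₁) ≫ i₁) := by
        rw [← hl2, ← hl1, Hom.mul_def, ← Category.assoc]
        congr 1
        apply CartesianMonoidalCategory.hom_ext <;> simp
      rw [hΨ, hΨ, hy', MonObj.mul_comp y _ i₂, Category.assoc (l ≫ snd H₂ H₁) i₁ i₂,
        ← _root_.mul_assoc, hinv]
    have hconst : ∀ y : 𝟙_ (Over (Spec (CommRingCat.of k))) ⟶ H₂, y ≫ Ψ = o ≫ d := fun y => by
      have h0 : d = toUnit X ≫ o ≫ d :=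
        Over.OverMorphism.ext (GrothLib.Rigidity.eq_comp_section_of_isAffine X.hom o.left (Over.w o) d.left)
      rw [← hd, h0, ← Category.assoc, ← Category.assoc, ← Category.assoc]
      congr 2
      exact (congrArg (· ≫ o) (Subsingleton.elim ((y ≫ a.orbitMap o) ≫ toUnit X) (𝟙 _))).trans
        (Category.id_comp o)
    have h1 := (hconst h).trans (hconst 1).symm
    rw [hΨ, hΨ] at h1
    simpa using h1
  · intro f hf
    rw [mem_rTransInv_iff_toLine] at hf ⊢
    have := congrArg ((G ◁ i₁) ≫ ·) hf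
    simp only [← Category.assoc, ← whiskerLeft_comp, whiskerLeft_fst] at this
    exact this

end Groth.Agent.S11198
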