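import Groth.Statements.S5821
import Groth.Agent.Lib.ExalLib.Char

set_option autoImplicit false
universe u v
open EGA41

namespace Groth.Agent.S5821

open scoped TensorProduct

/-- For a ring map A → B, an ideal K of B, C = B ⧸ K and the B-extension E = B ⧸ K² of C by K/K², if E
is A-trivial then its characteristic homomorphism Υ_{C/B/A} → K/K² is bijective (stated for every
C-linear χ satisfying the defining square, of which there is exactly one). -/
theorem result {A : Type u} {B : Type v} [CommRing A] [CommRing B] [Algebra A B]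
    (K : Ideal B) (hK : (Exal.Ext.infinitesimal K).IsTrivialOver A)
    (χ : ↥(EGA41.imperfection A B (B ⧸ K)) →ₗ[B ⧸ K] K.Cotangent)
    (hχ : (Exal.Ext.infinitesimal K).IsCharHom A χ) :
    Function.Bijective χ := by
  haveI : IsScalarTower A (B ⧸ K) K.Cotangent := IsScalarTower.of_algebraMap_smul fun a z => by
    rw [IsScalarTower.algebraMap_apply A B (B ⧸ K), algebraMap_smul, algebraMap_smul]
  haveI : IsScalarTower A B K.Cotangent := IsScalarTower.of_algebraMap_smul fun a z => by
    rw [← algebraMap_smul (B ⧸ K) (algebraMap A B a), ← IsScalarTower.algebraMap_apply A B (B ⧸ K), algebraMap_smul]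
  obtain ⟨s, hs, D, hD⟩ := GrothLib.ExalLib.exists_data (Exal.Ext.infinitesimal K) hK
  have h1 := (GrothLib.ExalLib.isCharHom_iff _ s hs D hD χ).1 hχ
  have hDk : ∀ k : K, D k = K.toCotangent k := fun k => by
    refine (Exal.Ext.infinitesimal K).isExtension.incl_injective ?_
    have h2 := hD k
    rw [show algebraMap B (B ⧸ K) (k : B) = 0 from Ideal.Quotient.eq_zero_iff_mem.2 k.2] at h2
    refine Eq.symm (Eq.trans ?_ (h2.trans ((congrArg (· + (Exal.Ext.infinitesimal K).incl (D k)) (map_zero s)).trans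
      (zero_add _))))
    rfl
  have hker : RingHom.ker (algebraMap B (B ⧸ K)) = K := Ideal.mk_ker
  have hex := KaehlerDifferential.exact_kerCotangentToTensor_mapBaseChange A B (B ⧸ K) Ideal.Quotient.mk_surjective
  have hz : ∀ z : ↥(EGA41.imperfection A B (B ⧸ K)), ∃ k : K,
      (z : TensorProduct B (B ⧸ K) (KaehlerDifferential A B)) =
        (1 : B ⧸ K) ⊗ₜ[B] KaehlerDifferential.D A B k ∧ χ z = K.toCotangent k := by
    intro z
    obtain ⟨q, hq⟩ := (hex _).1 z.2
    obtain ⟨⟨x, hx⟩, rfl⟩ := Ideal.toCotangent_surjective _ q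
    rw [KaehlerDifferential.kerCotangentToTensor_toCotangent] at hq
    refine ⟨⟨x, hker ▸ hx⟩, hq.symm, ?_⟩
    rw [h1, ← hq, GrothLib.ExalLib.diffMap_tmul_D, one_smul]
    exact hDk ⟨x, hker ▸ hx⟩
  have hinj : ∀ z, χ z = 0 → z = 0 := by
    intro z h0
    obtain ⟨k, hk, hχk⟩ := hz z
    rw [h0] at hχk
    refine Subtype.ext (hk.trans ?_)
    have hk2 : (k : B) ∈ K ^ 2 := (Ideal.toCotangent_eq_zero K k).1 hχk.symm
    refine (?_ : ∀ x ∈ K ^ 2, (1 : B ⧸ K) ⊗ₜ[B] KaehlerDifferential.D A B x = 0) k hk2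
    intro x hx
    rw [pow_two] at hx
    induction hx using Submodule.mul_induction_on' with
    | mem_mul_mem a ha b hb =>
      rw [Derivation.leibniz, TensorProduct.tmul_add, TensorProduct.tmul_smul, TensorProduct.tmul_smul,
        TensorProduct.smul_tmul', TensorProduct.smul_tmul', ← Algebra.algebraMap_eq_smul_one,
        ← Algebra.algebraMap_eq_smul_one, Ideal.Quotient.algebraMap_eq, Ideal.Quotient.eq_zero_iff_mem.2 ha,
        Ideal.Quotient.eq_zero_iff_mem.2 hb, TensorProduct.zero_tmul, TensorProduct.zero_tmul, add_zero]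
    | add a _ b _ ha hb => rw [map_add, TensorProduct.tmul_add, ha, hb, add_zero]
  refine ⟨fun z z' hzz => sub_eq_zero.1 (hinj _ ((LinearMap.map_sub χ z z').trans (sub_eq_zero.2 hzz))), fun q => ?_⟩
  · obtain ⟨k, rfl⟩ := K.toCotangent_surjective q
    have hm : (1 : B ⧸ K) ⊗ₜ[B] KaehlerDifferential.D A B (k : B) ∈ EGA41.imperfection A B (B ⧸ K) := by
      change KaehlerDifferential.mapBaseChange A B (B ⧸ K) _ = 0
      rw [KaehlerDifferential.mapBaseChange_tmul, KaehlerDifferential.map_D, Ideal.Quotient.algebraMap_eq,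
        Ideal.Quotient.eq_zero_iff_mem.2 k.2, map_zero, smul_zero]
    refine ⟨⟨_, hm⟩, ?_⟩
    rw [h1, GrothLib.ExalLib.diffMap_tmul_D, one_smul]
    exact hDk k

end Groth.Agent.S5821
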