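import Groth.Statements.S18744
import Groth.Agent.Lib.ModPair19.Basic
import Groth.Agent.Lib.FlatLimit.Stage
import Groth.Agent.Lib.ConsLim.LimFlat

set_option autoImplicit false
set_option backward.isDefEq.respectTransparency false
universe u
open CategoryTheory CategoryTheory.Limits AlgebraicGeometry TopologicalSpace
open ModPair

namespace Groth.Agent.S18744

theorem mem_nzd {T : Scheme.{u}} {J : T.IdealSheafData} (hJ : BlowUp.IsEffCartierIdeal J) (U : T.affineOpens)
    (f : Γ(T, U.1)) (hf : J.ideal U = Ideal.span {f}) : f ∈ nonZeroDivisors Γ(T, U.1) := by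
  refine mem_nonZeroDivisors_iff_right.2 fun z hz => ?_
  refine GrothLib.ABU25.eq_zero_of_effCartier hJ z ?_
  rw [GrothLib.ABU25.app_ι_eq_zero_iff]
  have hle : U.1 ⊓ HTop.awayFrom J ≤ T.basicOpen f := (GrothLib.ABU25.inter_awayFrom J U f hf).le
  let r := T.presheaf.map (homOfLE (inf_le_left : U.1 ⊓ HTop.awayFrom J ≤ U.1)).op
  have h1 : T.basicOpen f ≤ U.1 := T.basicOpen_le f
  have hu : IsUnit (r f) := by
    have h2 : IsUnit (T.presheaf.map (homOfLE h1).op f) :=
      RingedSpace.isUnit_res_basicOpen T.toRingedSpace f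
    have h3 : r = T.presheaf.map (homOfLE h1).op ≫ T.presheaf.map (homOfLE hle).op := by
      rw [← Functor.map_comp]; rfl
    rw [h3, CommRingCat.comp_apply]
    exact h2.map _
  have h4 : r z * r f = 0 := by rw [← map_mul, hz, map_zero]
  exact hu.mul_left_eq_zero.mp h4

/-- Let (X_i, I_i) be a cofiltered system of schemes equipped with quasi-coherent ideal sheaves of
effective Cartier divisors, with affine and minimal transition morphisms (the modulus of X_i is the
pull-back of the modulus of X_j along each transition morphism X_i ⟶ X_j), and let X be its limit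
with projections π_i. Then the pulled-back ideal I_i.comap π_i is the ideal sheaf of an effective
Cartier divisor on X for every i; with this modulus X is a modulus pair mapping minimally to each
(X_i, I_i). (The source allows the conditions on the transition morphisms to hold only beyond some
index; here they are assumed throughout.) -/
theorem result {I : Type u}
    [SmallCategory I] [IsCofiltered I] (D : I ⥤ Scheme.{u}) (c : Cone D) (hc : IsLimit c)
    [∀ (i j : I) (t : i ⟶ j), IsAffineHom (D.map t)]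
    (J : ∀ i, (D.obj i).IdealSheafData) (hJ : ∀ i, BlowUp.IsEffCartierIdeal (J i))
    (hmin : ∀ (i j : I) (t : i ⟶ j), ModPair.IsMinimal (J i) (J j) (D.map t)) (i : I) :
    BlowUp.IsEffCartierIdeal ((J i).comap (c.π.app i)) := by
  intro x
  obtain ⟨U, hxU, f, -, hf⟩ := hJ i ((c.π.app i).base x)
  have := AlgebraicGeometry.isAffineHom_π_app D c hc
  let V : c.pt.affineOpens := ⟨c.π.app i ⁻¹ᵁ U.1, U.2.preimage _⟩
  refine ⟨V, hxU, (c.π.app i).app U.1 f, ?_, ?_⟩
  · refine mem_nonZeroDivisors_iff_right.2 fun z hz => ?_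
    obtain ⟨k, φ, e, t, ht⟩ := GrothLib.FlatLimit.exists_appLE_π_eq D c hc U.2 z
    let W := D.map φ ⁻¹ᵁ U.1
    have hW : IsAffineOpen W := U.2.preimage _
    have e' : c.π.app k ⁻¹ᵁ W ≤ c.π.app i ⁻¹ᵁ U.1 := by
      rw [← Scheme.Hom.comp_preimage, c.w]
    have hfk : ∀ a, (c.π.app k).appLE W V.1 e ((D.map φ).app U.1 a) = (c.π.app i).app U.1 a := fun a => by
      rw [Scheme.Hom.app_eq_appLE, Scheme.Hom.app_eq_appLE]
      exact GrothLib.ConsLim.appLE_appLE (c.w φ) U.1 W V.1 le_rfl e le_rfl a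
    have h0 : (c.π.app k).app W (t * (D.map φ).app U.1 f) = 0 := by
      have h1 : (c.π.app k).appLE W V.1 e (t * (D.map φ).app U.1 f) = 0 := by
        rw [map_mul, ht, hfk, hz]
      rw [Scheme.Hom.app_eq_appLE, ← Scheme.Hom.appLE_map (c.π.app k) e (homOfLE e').op,
        CommRingCat.comp_apply, h1, map_zero]
    obtain ⟨l, ψ, hl⟩ := exists_app_map_eq_zero_of_isLimit D c hc hW.isCompact _ h0
    rw [map_mul] at hl
    have hfl : (D.map ψ).app W ((D.map φ).app U.1 f) ∈ nonZeroDivisors _ := by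
      refine mem_nzd (hJ l) ⟨D.map ψ ⁻¹ᵁ W, hW.preimage _⟩ _ ?_
      have h2 : J l = (J i).comap (D.map ψ ≫ D.map φ) := by rw [← D.map_comp]; exact hmin l i (ψ ≫ φ)
      rw [h2, GrothLib.BlowUp.ideal_comap_eq_map (J i) (D.map ψ ≫ D.map φ) U
        ⟨D.map ψ ⁻¹ᵁ W, hW.preimage _⟩ le_rfl, hf, Ideal.map_span, Set.image_singleton]
      refine congrArg Ideal.span (congrArg _ ?_)
      rw [Scheme.Hom.app_eq_appLE, Scheme.Hom.app_eq_appLE]
      exact (GrothLib.ConsLim.appLE_appLE rfl U.1 W (D.map ψ ⁻¹ᵁ W) le_rfl le_rfl le_rfl f).symm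
    have htl : (D.map ψ).app W t = 0 := mem_nonZeroDivisors_iff_right.1 hfl _ hl
    have e2 : c.π.app i ⁻¹ᵁ U.1 ≤ c.π.app l ⁻¹ᵁ (D.map ψ ⁻¹ᵁ W) := by
      rw [← Scheme.Hom.comp_preimage, c.w]; exact e
    rw [← ht]
    refine (GrothLib.ConsLim.appLE_appLE (c.w ψ) W (D.map ψ ⁻¹ᵁ W) V.1 le_rfl e2 e t).symm.trans ?_
    rw [← Scheme.Hom.app_eq_appLE, htl, map_zero]
  · rw [GrothLib.BlowUp.ideal_comap_eq_map (J i) (c.π.app i) U V le_rfl, hf, Ideal.map_span,
      Set.image_singleton, ← Scheme.Hom.app_eq_appLE]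

end Groth.Agent.S18744
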