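import Groth.Statements.S18759
import Groth.Agent.Lib.AbsApprox.ModApprox

set_option autoImplicit false
set_option backward.isDefEq.respectTransparency false
universe u
open CategoryTheory CategoryTheory.Limits AlgebraicGeometry TopologicalSpace
open ModPair

namespace Groth.Agent.S18759

/-- Let (X, I_X) and (Y, I_Y) be modulus pairs with X, Y quasi-compact and quasi-separated, and f : X ⟶
Y an ambient morphism (modulus condition I_X ≤ I_Y.comap f) which is locally of finite type. Then X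
⟶ Y is a cofiltered limit of Y-schemes X_i such that: (1) every X_i ⟶ Y is of finite presentation
and all transition maps X_i ⟶ X_j and projections X ⟶ X_i are closed immersions; (2) every X_i
carries a locally principal quasi-coherent ideal sheaf J_i whose pull-back to X is I_X and whose
pull-back along each transition map X_i ⟶ X_j of J_j is J_i; (3) every X_i ⟶ Y satisfies the modulus
condition for J_i, and if f is minimal all X_i ⟶ Y are minimal; (4) if f is proper all X_i ⟶ Y are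
proper; (5) if f is minimal and an isomorphism over the interior of Y, every X_i ⟶ Y is an
isomorphism over the interior of Y. (Part (5) is given here in the minimal case, where the interior
of (X_i, J_i) is the preimage of the interior of Y.) -/
theorem result {X Y : Scheme.{u}}
    [CompactSpace X] [QuasiSeparatedSpace X] [CompactSpace Y] [QuasiSeparatedSpace Y]
    (IX : X.IdealSheafData) (IY : Y.IdealSheafData) (hX : BlowUp.IsEffCartierIdeal IX)
    (hY : BlowUp.IsEffCartierIdeal IY) (f : X ⟶ Y) (hf : ModPair.IsAmbient IX IY f)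
    [LocallyOfFiniteType f] :
    ∃ (I : Type u) (_ : SmallCategory I) (_ : IsCofiltered I) (D : I ⥤ Over Y) (c : Cone D)
      (_ : IsLimit c) (e : c.pt ≅ Over.mk f) (J : ∀ i, (D.obj i).left.IdealSheafData),
      (∀ i, LocallyOfFinitePresentation (D.obj i).hom ∧ QuasiCompact (D.obj i).hom ∧
          QuasiSeparated (D.obj i).hom) ∧
        (∀ (i j : I) (t : i ⟶ j), IsClosedImmersion (D.map t).left) ∧
        (∀ i, IsClosedImmersion (c.π.app i).left) ∧
        (∀ i, Curv2.IsLocPrincipal (J i)) ∧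
        (∀ i, IX = (J i).comap (e.inv.left ≫ (c.π.app i).left)) ∧
        (∀ (i j : I) (t : i ⟶ j), J i = (J j).comap (D.map t).left) ∧
        (∀ i, ModPair.IsAmbient (J i) IY (D.obj i).hom) ∧
        (ModPair.IsMinimal IX IY f → ∀ i, ModPair.IsMinimal (J i) IY (D.obj i).hom) ∧
        (IsProper f → ∀ i, IsProper (D.obj i).hom) ∧
        (ModPair.IsMinimal IX IY f → IsIso (f ∣_ ModPair.interior IY) →
          ∀ i, IsIso ((D.obj i).hom ∣_ ModPair.interior IY)) := by
  classical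
  haveI : QuasiCompact f := quasiCompact_of_compactSpace f
  obtain ⟨I₁, _, _, _, E₁, π₁, -, h1, -, h3⟩ := GrothLib.AbsApprox.exists_closed_system f
  obtain ⟨i₁⟩ : Nonempty I₁ᵒᵖ := inferInstance
  obtain ⟨hp, hqc, hqs, hcs, hqss⟩ := h1 i₁
  let Z := (E₁.obj i₁).left
  let f₀ : Z ⟶ Y := (E₁.obj i₁).hom
  let ι : X ⟶ Z := (π₁.app i₁).left
  haveI : CompactSpace Z := hcs
  haveI : QuasiSeparatedSpace Z := hqss
  haveI : LocallyOfFinitePresentation f₀ := hp
  haveI : QuasiCompact f₀ := hqc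
  haveI : QuasiSeparated f₀ := hqs
  haveI : IsClosedImmersion ι := h3 i₁
  have hι : ι ≫ f₀ = f := Over.w (π₁.app i₁)
  clear_value ι f₀ Z
  subst hι
  let M := IY.comap f₀
  have hM : ∀ U : Z.affineOpens, (M.ideal U).FG :=
    GrothLib.Nagata6.fg_comap' IY (GrothLib.AbsApprox.fg_of_isEffCartierIdeal hY) f₀
  have hMι : IY.comap (ι ≫ f₀) = M.comap ι := Scheme.IdealSheafData.comap_comp _ _ _
  obtain ⟨L, hL, hLι, κ, _, U, g, hO, hg⟩ := GrothLib.AbsApprox.exists_fg_lift ι IX (fun x => by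
    obtain ⟨W, hxW, t, -, ht⟩ := hX x
    exact ⟨W, hxW, t, ht⟩)
  obtain ⟨K₁, -, hK₁⟩ := GrothLib.AbsApprox.exists_fgSub_preimage_eq_top ι (⨆ k, (U k).1) hO
    (Classical.arbitrary _)
  obtain ⟨K₂, h₂, hK₂⟩ := GrothLib.AbsApprox.exists_fgSub_ideals_le ι U (fun k => L.ideal (U k))
    (fun k => Ideal.span {g k}) (fun k => hL _) (fun k => (hg k).2) K₁
  obtain ⟨K₃, h₃, hK₃⟩ := GrothLib.AbsApprox.exists_fgSub_comap_le ι hL
    (show L.comap ι ≤ M.comap ι by rw [hLι, ← hMι]; exact hf) K₂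
  obtain ⟨K₄, h₄, hK₄⟩ : ∃ K₄, K₃ ≤ K₄ ∧ (ModPair.IsMinimal IX IY (ι ≫ f₀) →
      M.comap K₄.1.subschemeι ≤ L.comap K₄.1.subschemeι) := by
    by_cases hmin : ModPair.IsMinimal IX IY (ι ≫ f₀)
    · obtain ⟨K, h, hK⟩ := GrothLib.AbsApprox.exists_fgSub_comap_le ι hM
        (show M.comap ι ≤ L.comap ι by
          rw [hLι, ← hMι]
          exact le_of_eq (hmin : IX = IY.comap (ι ≫ f₀)).symm) K₃
      exact ⟨K, h, fun _ => hK⟩
    · exact ⟨K₃, le_rfl, fun h => absurd h hmin⟩
  obtain ⟨κ', _, U', hU'⟩ := GrothLib.AbsApprox.exists_affine_cover_compl_support M hM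
  have hV : f₀ ⁻¹ᵁ (ModPair.interior IY) = M.support.compl := by
    ext x
    simp [M, ModPair.interior, Scheme.IdealSheafData.support_comap]
  obtain ⟨K₅, h₅, hK₅⟩ : ∃ K₅, K₄ ≤ K₅ ∧ (IsIso ((ι ≫ f₀) ∣_ ModPair.interior IY) →
      ∀ K' : GrothLib.AbsApprox.FgSub ι, K₅ ≤ K' →
        IsIso ((K'.1.subschemeι ≫ f₀) ∣_ ModPair.interior IY)) := by
    by_cases hiso : IsIso ((ι ≫ f₀) ∣_ ModPair.interior IY)
    · haveI := hiso
      obtain ⟨K, h, hK⟩ := GrothLib.AbsApprox.exists_fgSub_isIso ι f₀ (ModPair.interior IY) U'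
        (hU'.trans hV.symm) K₄
      exact ⟨K, h, fun _ => hK⟩
    · exact ⟨K₄, le_rfl, fun h => absurd h hiso⟩
  obtain ⟨hl₀⟩ := GrothLib.AbsApprox.exists_isLimit_map ι f₀
  let D₀ := GrothLib.AbsApprox.closedSys ι ⋙ Over.map f₀
  let F := D₀ ⋙ Over.forget Y
  obtain ⟨K₆, h₆, hK₆⟩ : ∃ K₆, K₅ ≤ K₆ ∧ (IsProper (ι ≫ f₀) →
      ∀ K' : GrothLib.AbsApprox.FgSub ι, K₆ ≤ K' → IsProper (K'.1.subschemeι ≫ f₀)) := by
    by_cases hprop : IsProper (ι ≫ f₀)
    · haveI := hprop
      haveI : ∀ i j (a : i ⟶ j), IsClosedImmersion (F.map a) := fun i j a =>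
        GrothLib.AbsApprox.isClosedImmersion_inclusion (show j.unop.1 ≤ i.unop.1 from a.unop.le)
      haveI : ∀ i, CompactSpace ↥(F.obj i) := fun i =>
        QuasiCompact.compactSpace_of_compactSpace i.unop.1.subschemeι
      haveI : ∀ i, QuasiSeparatedSpace ↥(F.obj i) := fun i =>
        quasiSeparatedSpace_of_quasiSeparated i.unop.1.subschemeι
      haveI : ∀ i, LocallyOfFiniteType ((GrothLib.AbsApprox.overHom D₀).app i : F.obj i ⟶ Y) := fun i =>
        inferInstanceAs (LocallyOfFiniteType (i.unop.1.subschemeι ≫ f₀))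
      let cF := (Over.forget Y).mapCone ((Over.map f₀).mapCone (GrothLib.AbsApprox.closedCone ι))
      haveI : ∀ i, IsClosedImmersion (cF.π.app i) := fun i => GrothLib.AbsApprox.isClosedImmersion_proj ι i
      haveI : IsProper (cF.π.app (Opposite.op K₅) ≫ (GrothLib.AbsApprox.overHom D₀).app (Opposite.op K₅)) := by
        show IsProper (((GrothLib.AbsApprox.closedCone ι).π.app (Opposite.op K₅)).left ≫
          K₅.1.subschemeι ≫ f₀)
        rw [← Category.assoc, GrothLib.AbsApprox.proj_ι]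
        exact hprop
      obtain ⟨k, hk⟩ := GrothLib.AbsApprox.eventually_isProper F cF (isLimitOfPreserves _ hl₀)
        (GrothLib.AbsApprox.overHom D₀) (Opposite.op K₅)
      obtain ⟨K, hA, hB⟩ := exists_ge_ge K₅ k.unop
      exact ⟨K, hA, fun _ K' h => hk (Opposite.op K') (homOfLE (hB.trans h)).op⟩
    · exact ⟨K₅, le_rfl, fun h => absurd h hprop⟩
  obtain ⟨I, _, _, _, ρ, ⟨hρ⟩, hle⟩ := GrothLib.AbsApprox.exists_tail D₀
    ((Over.map f₀).mapCone (GrothLib.AbsApprox.closedCone ι)) hl₀ (Opposite.op K₆)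
  have hge : ∀ i, K₆ ≤ (ρ.obj i).unop := fun i => (hle i).some.unop.le
  let J : ∀ i, ((ρ ⋙ D₀).obj i).left.IdealSheafData := fun i => L.comap (ρ.obj i).unop.1.subschemeι
  have hJM : ∀ i, J i ≤ IY.comap ((ρ.obj i).unop.1.subschemeι ≫ f₀) := fun i => by
    rw [Scheme.IdealSheafData.comap_comp]
    exact GrothLib.AbsApprox.comap_mono_right L (((h₄.trans h₅).trans h₆).trans (hge i)) hK₃
  have hMJ : ModPair.IsMinimal IX IY (ι ≫ f₀) → ∀ i,
      IY.comap ((ρ.obj i).unop.1.subschemeι ≫ f₀) ≤ J i := fun hmin i => by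
    rw [Scheme.IdealSheafData.comap_comp]
    exact GrothLib.AbsApprox.comap_mono_right M ((h₅.trans h₆).trans (hge i)) (hK₄ hmin)
  refine ⟨Iᵒᵖ, inferInstance, inferInstance, ρ ⋙ D₀, _, hρ, Iso.refl _, J,
    fun i => ?_, fun i j t => GrothLib.AbsApprox.isClosedImmersion_inclusion _,
    fun i => GrothLib.AbsApprox.isClosedImmersion_proj ι _, fun i x _ => ?_, fun i => ?_, fun i j t => ?_,
    hJM, fun hmin i => le_antisymm (hJM i) (hMJ hmin i),
    fun hp i => hK₆ hp _ (hge i), fun _ hi i => hK₅ hi _ (h₆.trans (hge i))⟩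
  · haveI : LocallyOfFinitePresentation (ρ.obj i).unop.1.subschemeι :=
      GrothLib.AbsApprox.lfp_subschemeι _ (ρ.obj i).unop.2.2
    exact ⟨inferInstanceAs (LocallyOfFinitePresentation ((ρ.obj i).unop.1.subschemeι ≫ f₀)),
      inferInstanceAs (QuasiCompact ((ρ.obj i).unop.1.subschemeι ≫ f₀)),
      inferInstanceAs (QuasiSeparated ((ρ.obj i).unop.1.subschemeι ≫ f₀))⟩
  · let K := (ρ.obj i).unop
    have h26 : K₂ ≤ K := (((h₃.trans h₄).trans h₅).trans h₆).trans (hge i)
    have hx : x ∈ K.1.subschemeι ⁻¹ᵁ (⨆ k, (U k).1) := by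
      have h1K : K₁.1 ≤ K.1 := h₂.trans h26
      rw [← Scheme.IdealSheafData.inclusion_subschemeι h1K, Scheme.Hom.comp_preimage, hK₁]
      trivial
    obtain ⟨k, hk⟩ := TopologicalSpace.Opens.mem_iSup.1 hx
    refine ⟨⟨K.1.subschemeι ⁻¹ᵁ (U k).1, (U k).2.preimage K.1.subschemeι⟩, hk,
      K.1.subschemeι.app (U k).1 (g k), ?_⟩
    show (L.comap K.1.subschemeι).ideal ⟨K.1.subschemeι ⁻¹ᵁ (U k).1, (U k).2.preimage K.1.subschemeι⟩ = _
    rw [GrothLib.AbsApprox.ideal_comap_subschemeι]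
    refine le_antisymm ?_ ((Ideal.span_singleton_le_iff_mem _).2 (Ideal.mem_map_of_mem _ (hg k).1))
    refine (GrothLib.AbsApprox.map_le_of_le_sup K.1 (U k)
      ((hK₂ k).trans (sup_le_sup_left (h26 (U k)) _))).trans (le_of_eq ?_)
    rw [Ideal.map_span, Set.image_singleton]
    rfl
  · show IX = (L.comap (ρ.obj i).unop.1.subschemeι).comap
      (𝟙 X ≫ ((GrothLib.AbsApprox.closedCone ι).π.app (ρ.obj i)).left)
    rw [Category.id_comp, ← Scheme.IdealSheafData.comap_comp, GrothLib.AbsApprox.proj_ι, hLι]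
  · show L.comap (ρ.obj i).unop.1.subschemeι = (L.comap (ρ.obj j).unop.1.subschemeι).comap
      (Scheme.IdealSheafData.inclusion (show (ρ.obj j).unop.1 ≤ (ρ.obj i).unop.1 from (ρ.map t).unop.le))
    rw [← Scheme.IdealSheafData.comap_comp, Scheme.IdealSheafData.inclusion_subschemeι]

end Groth.Agent.S18759
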