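import Groth.Statements.S6941
import Groth.Agent.Lib.DCxRing.BC
import Mathlib.RingTheory.Finiteness.Descent

set_option autoImplicit false
universe u
open CategoryTheory CategoryTheory.Limits
attribute [local instance] HasDerivedCategory.standard
open DRing

namespace Groth.Agent.S6941

/-- Let R → R' be a faithfully flat homomorphism of commutative rings, K a cochain complex of R-modules
and m an integer. If the termwise base change K ⊗_R R' is m-pseudo-coherent in D(R'), then K is
m-pseudo-coherent in D(R); if K ⊗_R R' is pseudo-coherent, then K is pseudo-coherent. -/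
theorem result {R R' : Type u} [CommRing R] [CommRing R']
    [Algebra R R'] [Module.FaithfullyFlat R R'] (K : DRing.Cx R) (m : ℤ) :
    (DRing.IsPseudoCoherent R' m (DRing.toD (((ModuleCat.extendScalars (algebraMap R R')).mapHomologicalComplex
        (ComplexShape.up ℤ)).obj K)) → DRing.IsPseudoCoherent R m (DRing.toD K)) ∧
      (DRing.IsPseudoCoherent' R' (DRing.toD (((ModuleCat.extendScalars (algebraMap R R')).mapHomologicalComplex
        (ComplexShape.up ℤ)).obj K)) → DRing.IsPseudoCoherent' R (DRing.toD K)) := by
  let F := ModuleCat.extendScalars.{u, u, u} (algebraMap R R')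
  haveI := GrothLib.DR.preservesFiniteLimits_extendScalars (algebraMap R R') GrothLib.DR.flat_algebraMap
  haveI := (ModuleCat.extendRestrictScalarsAdj.{u} (algebraMap R R')).leftAdjoint_preservesColimits
  let FK := (F.mapHomologicalComplex (ComplexShape.up ℤ)).obj K
  have key : ∀ k, DRing.IsPseudoCoherent R' k (DRing.toD FK) →
      DRing.IsPseudoCoherent R k (DRing.toD K) := by
    intro k h
    obtain ⟨b, _, hb⟩ := GrothLib.DR.exists_bound h
    have hKb : ∀ i, b < i → Subsingleton (Dual.HD R (DRing.toD K) i) := fun i hi => by
      rw [← GrothLib.DR.exactAt_iff, HomologicalComplex.exactAt_iff_isZero_homology,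
        ← GrothLib.DR.subsingleton_iff_isZero]
      haveI : Subsingleton (F.obj (K.homology i)) := by
        rw [GrothLib.DR.subsingleton_iff_isZero]
        exact ((HomologicalComplex.exactAt_iff_isZero_homology _ i).1
          ((GrothLib.DR.exactAt_iff FK i).2 (hb i hi))).of_iso (GrothLib.DR.mapHomologyIso F K i).symm
      obtain ⟨e⟩ := GrothLib.DR.nonempty_extendScalars_iso (A := R) (B := R') (K.homology i)
      haveI : Subsingleton (TensorProduct R R' (K.homology i)) := e.toLinearEquiv.toEquiv.subsingleton
      exact Module.FaithfullyFlat.lTensor_reflects_triviality R R' _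
    obtain ⟨P, hP, _, ⟨eP⟩⟩ := GrothLib.DR.exists_projective_rep (DRing.toD K) b hKb
    refine GrothLib.DerBC.isPseudoCoherent_of_iso eP
      (GrothLib.DR.isPseudoCoherent_of_canStep hP k fun j hj _ E f hv hf hex => ?_)
    have hfin := GrothLib.DR.finite_cone ((F.mapHomologicalComplex (ComplexShape.up ℤ)).map f)
      (GrothLib.DR.vanishesOutside_map F hv)
      (fun i => GrothLib.DerBC.finiteFree_extendScalars (algebraMap R R') (E.X i) (hf i).1 (hf i).2)
      (GrothLib.DR.isPseudoCoherent_mono (show k ≤ j - 1 by omega)
        (GrothLib.DerBC.isPseudoCoherent_of_iso (GrothLib.DR.toDMapCongr F eP).symm h))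
      fun i hi => (GrothLib.DR.exactAt_map_exact F (hex i hi)).of_iso
        (CochainComplex.mappingCone.mapHomologicalComplexIso f F)
    obtain ⟨e⟩ := GrothLib.DR.nonempty_extendScalars_iso (A := R) (B := R')
      ((CochainComplex.mappingCone f).homology (j - 1))
    haveI : Module.Finite R' (TensorProduct R R' ((CochainComplex.mappingCone f).homology (j - 1))) :=
      @Module.Finite.equiv _ _ _ _ _ _ _ _ hfin (((HomologicalComplex.homologyFunctor _ _ (j - 1)).mapIso
        (CochainComplex.mappingCone.mapHomologicalComplexIso f F)).symm ≪≫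
          GrothLib.DR.mapHomologyIso F (CochainComplex.mappingCone f) (j - 1) ≪≫
            e.symm).toLinearEquiv
    exact Module.Finite.of_finite_tensorProduct_of_faithfullyFlat R'
  exact ⟨key m, fun h => GrothLib.DR.isPseudoCoherent'_of_forall fun k =>
    key k (GrothLib.DR.isPseudoCoherent_of_prime h k)⟩

end Groth.Agent.S6941
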