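import Groth.Statements.S6236
import Groth.Agent.Lib.KSix19.Chart

set_option autoImplicit false
universe u
open CategoryTheory CategoryTheory.Limits AlgebraicGeometry
attribute [local instance] HasDerivedCategory.standard
open KSix

namespace Groth.Agent.S6236

/-- Let f : X ⟶ Y be a morphism of schemes with X quasi-compact, n an integer, and E an object of D(O_X)
which is n-pseudo-coherent relative to f (chart form; in particular f is locally of finite type).
Then the cohomology of E is bounded above. (Without quasi-compactness of X the cohomology is only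
locally bounded above.) -/
theorem result {X Y : Scheme.{u}} [CompactSpace X] (f : X ⟶ Y) (n : ℤ)
    (E : DCoh.D X) (hE : DerSch.IsPseudoCoherentRel f n E) : ∃ b : ℤ, E.IsLE b := by
  let G := DerivedCategory.Q.objPreimage E
  let e : DCoh.toD X G ≅ E := DerivedCategory.Q.objObjPreimageIso E
  have key : ∀ x : X, ∃ (W : X.Opens) (b : ℤ), x ∈ W ∧
      ∀ z ∈ W, ∀ k, b < k → IsZero ((GrothLib.OX.stalk z).obj (G.homology k)) := fun x => by
    obtain ⟨U, V, hle, N, φ, hxU, -, -, hcl, hpc⟩ := GrothLib.KSix19.exists_chart hE x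
    obtain ⟨W, b, hxW, hW⟩ := GrothLib.KSix19.exists_bound_of_chart (DerSch.chartImm U φ)
      (hpc G ⟨e⟩) (⟨x, hxU⟩ : U.toScheme)
    refine ⟨U.ι ''ᵁ W, b, ⟨⟨x, hxU⟩, hxW, rfl⟩, fun z hz k hk => ?_⟩
    obtain ⟨z', hz', rfl⟩ := hz
    let H := ((DCoh.restrictCx U).obj G).homology k
    have h1 : IsZero H → IsZero ((GrothLib.OX.stalk (U.ι z')).obj (G.homology k)) := fun hH => by
      rw [IsZero.iff_id_eq_zero, ← CategoryTheory.Functor.map_id]
      exact GrothLib.OX.stalk_map_zero_of_restrictZero U.ι (𝟙 _) z'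
        ((hH.of_iso ((G.sc k).mapHomologyIso (Scheme.Modules.restrictFunctor U.ι)).symm).eq_of_src _ _)
    have h2 : IsZero ((GrothLib.OX.stalk z').obj H) := hW z' hz' k hk
    rw [IsZero.iff_id_eq_zero, ← CategoryTheory.Functor.map_id]
    have hr : (Scheme.Modules.restrictFunctor (W.ι ≫ U.ι)).map (𝟙 (G.homology k)) = 0 := by
      refine IsZero.eq_of_src ?_ _ _
      refine IsZero.of_iso ?_ ((Scheme.Modules.restrictFunctorComp W.ι U.ι).app (G.homology k) ≪≫
        (Scheme.Modules.restrictFunctor W.ι).mapIso ((G.sc k).mapHomologyIso (Scheme.Modules.restrictFunctor U.ι)).symm)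
      have hs : ∀ w : W.toScheme, IsZero ((GrothLib.OX.stalk w).obj ((Scheme.Modules.restrictFunctor W.ι).obj H)) :=
        fun w => by
          rw [IsZero.iff_id_eq_zero, ← CategoryTheory.Functor.map_id, ← CategoryTheory.Functor.map_id]
          refine GrothLib.OX.stalk_map_restrict_eq_zero W.ι w (𝟙 H) ?_
          rw [CategoryTheory.Functor.map_id]
          exact (IsZero.iff_id_eq_zero _).1 (hW (W.ι w) w.2 k hk)
      exact GrothLib.KSix19.isZero_of_stalks hs
    exact GrothLib.OX.stalk_map_zero_of_restrictZero (W.ι ≫ U.ι) (𝟙 _) (⟨z', hz'⟩ : W.toScheme) hr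
  choose W b hxW hW using key
  obtain ⟨t, ht⟩ := isCompact_univ.elim_finite_subcover (fun x => (W x : Set X)) (fun x => (W x).2)
    (fun x _ => Set.mem_iUnion.2 ⟨x, hxW x⟩)
  obtain ⟨B, hB⟩ := (t.finite_toSet.image b).bddAbove
  refine ⟨B, (DerivedCategory.isLE_iff _ _).2 fun k hk => ?_⟩
  have hs : ∀ z : X, IsZero ((GrothLib.OX.stalk z).obj (G.homology k)) := fun z => by
    obtain ⟨y, hy, hzy⟩ := Set.mem_iUnion₂.1 (ht (Set.mem_univ z))
    have hby : b y ≤ B := hB ⟨y, hy, rfl⟩
    exact hW y z hzy k (by omega)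
  have hz : IsZero (G.homology k) := GrothLib.KSix19.isZero_of_stalks hs
  exact hz.of_iso ((DerivedCategory.homologyFunctor _ k).mapIso e.symm ≪≫ GrothLib.OX.hdIso G k)

end Groth.Agent.S6236
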