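import Groth.Statements.S10884
import Groth.Agent.Lib.AffDom.PointDim
import Groth.Agent.Lib.LocNoeth.Scheme

set_option autoImplicit false
universe u
open CategoryTheory AlgebraicGeometry
open Variety

namespace Groth.Agent.S10884

/-- Let Y be a scheme of finite type over a field k and f : X → Y a dominant morphism of finite type all
of whose non-empty fibres have dimension r. Then dim X = r + dim Y. -/
theorem result (k : Type u) [Field k] {X Y : Scheme.{u}}
    (q : Y ⟶ Spec (CommRingCat.of k)) [LocallyOfFiniteType q] [QuasiCompact q]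
    (f : X ⟶ Y) [LocallyOfFiniteType f] [QuasiCompact f] (hdom : DenseRange f.base) (r : ℕ)
    (hfib : ∀ y : Y, (f.base ⁻¹' {y}).Nonempty → topologicalKrullDim (f.base ⁻¹' {y}) = r) :
    topologicalKrullDim X = (r : WithBot ℕ∞) + topologicalKrullDim Y := by
  refine le_antisymm ?_ ?_
  · rw [GrothLib.AffDom.topologicalKrullDim_eq_iSup_ptDim X]
    refine iSup_le fun x => ?_
    rw [GrothLib.AffDom.ptDim_eq_add f q x, add_comm (r : WithBot ℕ∞)]
    refine add_le_add (GrothLib.AffDom.ptDim_le _) ?_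
    rw [← hfib (f x) ⟨x, rfl⟩, GrothLib.AffDom.topologicalKrullDim_fiber]
    exact GrothLib.AffDom.ptDim_le _
  · rw [GrothLib.AffDom.topologicalKrullDim_eq_iSup_ptDim Y]
    refine GrothLib.AffDom.add_iSup_le r fun y => ?_
    obtain ⟨η, hη, hmax⟩ := GrothLib.AffDom.exists_maximal_point y
    obtain ⟨x, hx⟩ := GrothLib.LocNoeth.exists_specializes_of_mem_closure_range f (hdom.closure_range.symm ▸ Set.mem_univ η)
    have hne : (f.base ⁻¹' {η}).Nonempty := ⟨x, hmax _ hx⟩
    have : Nonempty (f.fiber η) := ⟨(f.fiberHomeo η).symm ⟨x, hmax _ hx⟩⟩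
    have hr := (hfib η hne).ge
    rw [GrothLib.AffDom.topologicalKrullDim_fiber, GrothLib.AffDom.topologicalKrullDim_eq_iSup_ptDim] at hr
    obtain ⟨z, hz⟩ := GrothLib.AffDom.exists_le_of_le_iSup (fun z : f.fiber η => GrothLib.AffDom.ptDim_nonneg z) r hr
    calc (r : WithBot ℕ∞) + GrothLib.AffDom.ptDim y ≤ GrothLib.AffDom.ptDim η + GrothLib.AffDom.ptDim z := by
          rw [add_comm]; exact add_le_add (GrothLib.AffDom.ptDim_mono hη) hz
      _ = GrothLib.AffDom.ptDim (f.fiberι η z) := (GrothLib.AffDom.ptDim_fiberι f q η z).symm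
      _ ≤ _ := GrothLib.AffDom.ptDim_le _

end Groth.Agent.S10884
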