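import Groth.Prelude
import Groth.Agent.Lib.FibEq10.Scheme

set_option autoImplicit false
universe u
open CategoryTheory AlgebraicGeometry
namespace Cons9
end Cons9
open Cons9

namespace Groth.Agent.S4781

/-- Let S be a Noetherian irreducible scheme with generic point η, let X be an irreducible scheme and f
: X ⟶ S a dominant morphism of finite type. Then there is an open neighbourhood U of η in S such
that, for every s ∈ U, all irreducible components of the fibre f⁻¹(s) have dimension equal to dim
f⁻¹(η). Fibres are taken as subspaces of X and dimensions are topological Krull dimensions. -/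
theorem result {X S : Scheme.{u}} (f : X ⟶ S)
    [IsNoetherian S] [IrreducibleSpace S] [IrreducibleSpace X] [IsDominant f]
    [LocallyOfFiniteType f] [QuasiCompact f] :
    ∃ U : S.Opens, genericPoint S ∈ U ∧ ∀ s ∈ U, ∀ T ∈ irreducibleComponents ↥(⇑f ⁻¹' {s}),
      topologicalKrullDim ↥T = topologicalKrullDim ↥(⇑f ⁻¹' {genericPoint S}) := GrothLib.FibEq10.exists_nhd_dim_components f

end Groth.Agent.S4781
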