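import Groth.Statements.S19416
-- import your own Groth.Agent.* helpers here
import Groth.Agent.Lib.DimCut.Product

set_option autoImplicit false
universe u
open CategoryTheory AlgebraicGeometry
open IntMult
open CategoryTheory CategoryTheory.Limits

namespace Groth.Agent.S19416

/-- Let k be a field and X a smooth variety over k (the structure morphism X → Spec k smooth, separated
and quasi-compact, X integral) of dimension n, and let V, W ⊆ X be closed irreducible subsets of
dimensions r and s. Then every irreducible component Z of V ∩ W has dimension at least r + s − n,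
stated as r + s ≤ dim Z + n with Krull dimensions of the subspaces; equivalently the codimension of
Z is at most the sum of the codimensions of V and W. The base field is arbitrary here; the same
statement over an algebraically closed field is the classical dimension count for intersections on a
nonsingular variety. -/
theorem result (k : Type u) [Field k] (X : Scheme.{u})
    (f : X ⟶ Spec (CommRingCat.of k)) [Smooth f] [IsSeparated f] [QuasiCompact f] [IsIntegral X]
    (n r s : ℕ) (hn : topologicalKrullDim X = n) (V W : Set X) (hVc : IsClosed V)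
    (hVi : IsIrreducible V) (hWc : IsClosed W) (hWi : IsIrreducible W)
    (hr : topologicalKrullDim ↥V = r) (hs : topologicalKrullDim ↥W = s) (Z : Set ↥(V ∩ W))
    (hZ : Z ∈ irreducibleComponents ↥(V ∩ W)) :
    ((r + s : ℕ) : WithBot ℕ∞) ≤ topologicalKrullDim ↥Z + n := by
  classical
  have hΔ := GrothLib.DimCut.diagonal_regular f n hn
  let IV := Scheme.IdealSheafData.vanishingIdeal (⟨V, hVc⟩ : TopologicalSpace.Closeds X)
  let IW := Scheme.IdealSheafData.vanishingIdeal (⟨W, hWc⟩ : TopologicalSpace.Closeds X)
  let v := IV.subschemeι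
  let w := IW.subschemeι
  have hv : Set.range v = V := by
    rw [Scheme.IdealSheafData.range_subschemeι, Scheme.IdealSheafData.coe_support_vanishingIdeal]; rfl
  have hw : Set.range w = W := by
    rw [Scheme.IdealSheafData.range_subschemeι, Scheme.IdealSheafData.coe_support_vanishingIdeal]; rfl
  haveI : IrreducibleSpace V := Subtype.irreducibleSpace hVi
  haveI : IrreducibleSpace W := Subtype.irreducibleSpace hWi
  let eV := v.isEmbedding.toHomeomorph.trans (Homeomorph.setCongr hv)
  let eW := w.isEmbedding.toHomeomorph.trans (Homeomorph.setCongr hw)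
  haveI : IrreducibleSpace IV.subscheme := eV.irreducibleSpace_iff.2 inferInstance
  haveI : IrreducibleSpace IW.subscheme := eW.irreducibleSpace_iff.2 inferInstance
  have hr' : topologicalKrullDim IV.subscheme = r := by rw [eV.isHomeomorph.topologicalKrullDim_eq, hr]
  have hs' : topologicalKrullDim IW.subscheme = s := by rw [eW.isHomeomorph.topologicalKrullDim_eq, hs]
  let π := pullback.map (v ≫ f) (w ≫ f) f f v w (𝟙 _) (Category.comp_id _) (Category.comp_id _)
  haveI : IsClosedImmersion π :=
    MorphismProperty.pullbackMap (P := @IsClosedImmersion) inferInstance inferInstance rfl rfl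
  have hclosed : IsClosed (V ∩ W) := hVc.inter hWc
  haveI : QuasiSober ↥(V ∩ W) := hclosed.isClosedEmbedding_subtypeVal.quasiSober
  obtain ⟨z, hz⟩ := QuasiSober.sober hZ.1 (isClosed_of_mem_irreducibleComponents Z hZ)
  obtain ⟨v₀, hv₀⟩ : (z.1 : X) ∈ Set.range v := by rw [hv]; exact z.2.1
  obtain ⟨w₀, hw₀⟩ : (z.1 : X) ∈ Set.range w := by rw [hw]; exact z.2.2
  -- a point of the product over the diagonal
  let T := pullback v w
  obtain ⟨t, ht₁, ht₂⟩ := Scheme.Pullback.exists_preimage_pullback v₀ w₀ (hv₀.trans hw₀.symm)
  let j : T ⟶ pullback (v ≫ f) (w ≫ f) := pullback.lift (pullback.fst v w) (pullback.snd v w) (by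
    rw [← Category.assoc, pullback.condition, Category.assoc])
  have hjπ : j ≫ π = (pullback.fst v w ≫ v) ≫ pullback.diagonal f := by
    refine pullback.hom_ext ?_ ?_
    · simp only [j, π, pullback.map, Category.assoc, pullback.lift_fst, pullback.diagonal_fst, Category.comp_id,
        pullback.lift_fst_assoc]
    · simp only [j, π, pullback.map, Category.assoc, pullback.lift_snd, pullback.diagonal_snd, Category.comp_id,
        pullback.lift_snd_assoc]
      exact pullback.condition.symm
  have hπp : π (j t) = pullback.diagonal f z.1 := by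
    rw [← Scheme.Hom.comp_apply, hjπ]
    show pullback.diagonal f (v (pullback.fst v w t)) = _
    rw [ht₁, hv₀]
  obtain ⟨η, hη, hdim⟩ := GrothLib.DimCut.exists_specializes_ptDim_ge (v ≫ f) (w ≫ f)
    (IsPullback.of_hasPullback (v ≫ f) (w ≫ f)).flip r s hr' hs' (j t)
  haveI : LocallyOfFiniteType (pullback.fst f f ≫ f) := inferInstance
  have hle := GrothLib.DimCut.ptDim_le_add_codim (π ≫ pullback.fst f f ≫ f) π hΔ
    (show π (j t) ∈ Set.range (pullback.diagonal f) from ⟨z.1, hπp.symm⟩) hη (fun q hq _ hqt => by
      obtain ⟨x, hx⟩ := hq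
      refine π.isEmbedding.injective ?_
      rw [← hx, hπp]
      have hxv : x ∈ V := by
        rw [← hv]
        refine ⟨pullback.fst (v ≫ f) (w ≫ f) q, ?_⟩
        rw [← Scheme.Hom.comp_apply, show pullback.fst (v ≫ f) (w ≫ f) ≫ v = π ≫ pullback.fst f f from
          (pullback.lift_fst _ _ _).symm, Scheme.Hom.comp_apply, ← hx, ← Scheme.Hom.comp_apply,
          pullback.diagonal_fst]
        rfl
      have hxw : x ∈ W := by
        rw [← hw]
        refine ⟨pullback.snd (v ≫ f) (w ≫ f) q, ?_⟩
        rw [← Scheme.Hom.comp_apply, show pullback.snd (v ≫ f) (w ≫ f) ≫ w = π ≫ pullback.snd f f from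
          (pullback.lift_snd _ _ _).symm, Scheme.Hom.comp_apply, ← hx, ← Scheme.Hom.comp_apply,
          pullback.diagonal_snd]
        rfl
      have hsp : x ⤳ z.1 := by
        have := hqt.map π.continuous
        rw [hπp, ← hx] at this
        exact (pullback.diagonal f).isEmbedding.isInducing.specializes_iff.1 this
      have h1 : (⟨x, hxv, hxw⟩ : ↥(V ∩ W)) ⤳ z := (subtype_specializes_iff _ _).2 hsp
      have h2 : Z ⊆ closure {(⟨x, hxv, hxw⟩ : ↥(V ∩ W))} := by rw [← hz.def]; exact h1.closure_subset
      have h3 := hZ.2 isIrreducible_singleton.closure h2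
      exact congrArg _ (congrArg Subtype.val (h1.antisymm (hz.specializes (h3 (subset_closure rfl)))).eq :))
  refine hdim.trans (hle.trans ?_)
  gcongr
  have hzdim : topologicalKrullDim Z = GrothLib.AffDom.ptDim z.1 := by
    rw [← hz.def]
    exact GrothLib.DimCut.ptDim_of_isEmbedding Topology.IsEmbedding.subtypeVal z
      (fun y hy => ⟨⟨y, hy.mem_closed hclosed z.2⟩, rfl⟩)
  rw [hzdim, GrothLib.DimCut.ptDim_immersion (pullback.fst f f ≫ f) π (j t), hπp,
    ← GrothLib.DimCut.ptDim_immersion (pullback.fst f f ≫ f) (pullback.diagonal f) z.1]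

end Groth.Agent.S19416
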