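import Groth.Statements.S14486
import Groth.Agent.Lib.SurfRR28.Canonical
import Groth.Agent.Lib.Adj27.Variety
import Groth.Agent.Lib.HodgeIndex.Curves

set_option autoImplicit false
universe u
open CategoryTheory CategoryTheory.Limits AlgebraicGeometry
open Surf

namespace Groth.Agent.S14486

/-- Let k be an algebraically closed field and X a projective K3 surface over k: an integral scheme of
dimension two with all local rings regular, admitting a closed immersion into some P^n_k over k,
whose structure sheaf O_X is a second exterior power of Ω_{X/k} (the canonical sheaf is trivial) and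
with H^1(X, O_X) = 0. Let C be a nonsingular curve of genus g on X: an integral closed subscheme of
dimension one with all local rings regular, with ideal sheaf I ⊆ O_X and g = dim_k H^1(C, O_C); let
M be an inverse of I for the tensor product (M = O_X(C)). Then C² = 2g - 2 and h^0(X, O_X(C)) = g +
1. Writing (L·L') for the intersection number χ(O_X) - χ(L) - χ(L') + χ(L ⊗ L') of two invertible
modules (packaged as FGA.intNum), C² = (I·I), so the assertion reads (I·I) = 2g - 2 and dim_k H^0(X,
M) = g + 1. (A K3 surface is only required to be proper; this row assumes the projective embedding.) -/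
theorem result (k : Type u) [Field k] [IsAlgClosed k] (X : Scheme.{u})
    [X.Over (Spec (CommRingCat.of k))] [IsIntegral X] (hdim : topologicalKrullDim X = 2)
    (hreg : ∀ x : X, IsRegularLocalRing (X.presheaf.stalk x))
    (hproj : ∃ (n : ℕ) (ι : X ⟶ CohB1.ProjSpace n k), IsClosedImmersion ι ∧
      ι ≫ CohB1.ProjSpace.toSpec n k = (X ↘ (Spec (CommRingCat.of k))))
    (hK : ExtPow.IsExtPow 2 (Omega.sheaf (X ↘ (Spec (CommRingCat.of k)))) (Coh.structureModule X))
    (hH1 : Subsingleton (Coh.HH X (Coh.structureModule X) 1))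
    (C : Scheme.{u}) (i : C ⟶ X) [IsClosedImmersion i] [IsIntegral C] (hC : topologicalKrullDim C = 1)
    (hCreg : ∀ c : C, IsRegularLocalRing (C.presheaf.stalk c))
    (M : X.Modules) (hM : ClSub.IsInverseOf M (ClSub.idealMod i.ker)) :
    letI : C.Over (Spec (CommRingCat.of k)) := ⟨i ≫ (X ↘ (Spec (CommRingCat.of k)))⟩
    FGA.intNum k X 2 ![ClSub.idealMod i.ker, ClSub.idealMod i.ker] (Coh.structureModule X) =
        2 * (Curv2.genus k C : ℤ) - 2 ∧
      Module.finrank k (Coh.HH X M 0) = Curv2.genus k C + 1 := by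
  obtain ⟨n, ι, hι, hιc⟩ := hproj
  haveI := hι
  haveI := GrothLib.HodgeIndex.isProper_of_proj ι hιc
  haveI := GrothLib.Adj27.smoothOfRelativeDimension_of_regular (X ↘ Spec (CommRingCat.of k)) hreg 2 hdim
  haveI : Smooth (X ↘ Spec (CommRingCat.of k)) := SmoothOfRelativeDimension.smooth 2 _
  haveI := GrothLib.Euler.isNoetherian_of_proper (X := X) k
  have hd : topologicalKrullDim X = ((2 : ℕ) : WithBot ℕ∞) := hdim
  have hA := GrothLib.HodgeIndex.isAmple_hyperplane ι
  letI : C.Over (Spec (CommRingCat.of k)) := ⟨i ≫ (X ↘ (Spec (CommRingCat.of k)))⟩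
  haveI : IsProper (C ↘ Spec (CommRingCat.of k)) := inferInstanceAs (IsProper (i ≫ X ↘ Spec (CommRingCat.of k)))
  haveI : IsIso i.toImage := inferInstance
  have hCi : IsIntegral i.ker.subscheme := IsIntegral.of_isIso i.toImage
  have hCd : topologicalKrullDim (i.ker.support : Set X) = 1 := by
    rw [← hC, i.isClosedEmbedding.isEmbedding.toHomeomorph.isHomeomorph.topologicalKrullDim_eq,
      i.support_ker, i.isClosedEmbedding.isClosed_range.closure_eq]
  have hI := GrothLib.HodgeIndex.inv_curve k hd hCi hCd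
  have hO := GrothLib.Euler.isInvertible_structure (X := X)
  have hO1 : GrothLib.Cube.clsMod hO = 1 := GrothLib.SurfRR28.clsMod_structure
  have hadj := GrothLib.SurfRR28.adjunction k ι hιc _ hK i rfl hI
  have hIW : FGA.intNum k X 2 ![ClSub.idealMod i.ker, Coh.structureModule X] (Coh.structureModule X) = 0 := by
    rw [GrothLib.HodgeIndex.intNum_eq_isect k hd.le hA hI hO, hO1, GrothLib.HodgeIndex.isect_comm,
      GrothLib.HodgeIndex.isect_one_left k hd.le]
  rw [hIW, sub_zero, GrothLib.Euler.euler_structure k hC.le, GrothLib.ConnH0.finrank_H0_eq_one k] at hadj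
  refine ⟨by rw [hadj]; push_cast; ring, ?_⟩
  obtain ⟨M₀, hM₀, hM₀c⟩ : ∃ (M₀ : X.Modules) (h : PicF.IsInvertible M₀),
      GrothLib.Cube.clsMod h = (GrothLib.Cube.clsMod hI)⁻¹ :=
    ⟨_, GrothLib.HodgeIndex.isInv_rep _, GrothLib.HodgeIndex.cls_rep _⟩
  obtain ⟨eM⟩ : Nonempty (M ≅ M₀) := by
    obtain ⟨a⟩ := hM
    obtain ⟨b⟩ : Nonempty (CohB1.tensorMod M₀ (ClSub.idealMod i.ker) ≅ Coh.structureModule X) :=
      (GrothLib.Cube.clsMod_eq_one_iff (GrothLib.Ample.isInvertible_tensorMod hM₀ hI)).1
        (by rw [GrothLib.Cube.clsMod_tensorMod hM₀ hI, hM₀c, inv_mul_cancel])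
    haveI := GrothLib.FundIso27.isEquivalence_tensor hI
    exact ⟨(GrothLib.Euler.tF (ClSub.idealMod i.ker)).preimageIso (a ≪≫ b.symm)⟩
  have hh := fun (A : X.Modules) (B : X.Modules) (hA : PicF.IsInvertible A) (hB : PicF.IsInvertible B) =>
    GrothLib.SurfRR28.hh_serre k ι hιc _ hK hO hA hB
  have e2 : Module.finrank k (Coh.HH X M₀ 2) = Module.finrank k (Coh.HH X (ClSub.idealMod i.ker) 0) :=
    hh _ _ hM₀ hI (by rw [hM₀c, hO1, one_mul, inv_inv]) (p := 2) le_rfl
  have e1 : Module.finrank k (Coh.HH X M₀ 1) = Module.finrank k (Coh.HH X (ClSub.idealMod i.ker) 1) :=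
    hh _ _ hM₀ hI (by rw [hM₀c, hO1, one_mul, inv_inv]) (p := 1) (by omega)
  have eO : Module.finrank k (Coh.HH X (Coh.structureModule X) 2) = Module.finrank k (Coh.HH X (Coh.structureModule X) 0) :=
    hh _ _ hO hO (by rw [hO1, inv_one, mul_one]) (p := 2) le_rfl
  haveI := GrothLib.SurfRR28.subsingleton_H0_idealMod k i.ker hCi hCd hd hA
  haveI := GrothLib.SurfRR28.subsingleton_H1_idealMod k i.ker hCi hCd hd hA hH1
  haveI := hH1
  rw [Module.finrank_zero_of_subsingleton (R := k) (M := Coh.HH X (ClSub.idealMod i.ker) 0)] at e2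
  rw [Module.finrank_zero_of_subsingleton (R := k) (M := Coh.HH X (ClSub.idealMod i.ker) 1)] at e1
  have hRR := GrothLib.SurfRR28.riemann_roch k ι hιc _ hK hM₀
  rw [GrothLib.HodgeIndex.intNum_eq_isect k hd.le hA hM₀ hM₀, GrothLib.HodgeIndex.intNum_eq_isect k hd.le hA hM₀ hO,
    hM₀c, hO1, GrothLib.HodgeIndex.isect_inv_left k hd.le, GrothLib.HodgeIndex.isect_inv_right k hd.le,
    ← GrothLib.HodgeIndex.intNum_eq_isect k hd.le hA hI hI, hadj,
    GrothLib.HodgeIndex.isect_comm k _ 1, GrothLib.HodgeIndex.isect_one_left k hd.le,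
    GrothLib.SurfRR28.euler_eq_three_terms k (hd := hd.le) hA (GrothLib.Euler.isCoh_of_isInvertible hM₀), e1, e2,
    GrothLib.SurfRR28.euler_eq_three_terms k (hd := hd.le) hA (GrothLib.Euler.isCoh_of_isInvertible hO), eO,
    Module.finrank_zero_of_subsingleton (R := k) (M := Coh.HH X (Coh.structureModule X) 1),
    GrothLib.ConnH0.finrank_H0_eq_one k] at hRR
  have e0 := GrothLib.HodgeIndex.hh_of_iso k eM 0
  simp only [GrothLib.HodgeIndex.hh] at e0
  omega

end Groth.Agent.S14486
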