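import Groth.Statements.S15848
import Groth.Agent.Lib.Ref1.DepthTwo
import Groth.Agent.Lib.Ref1.Frame
import Groth.Agent.Lib.Ref1.Extend
import Groth.Agent.Lib.HodgeIndex.Curves
import Groth.Agent.Lib.Snapper.PushTop
import Groth.Agent.Lib.QCoh.SupportExact
import Groth.Agent.Lib.FlatQuot29.Basic
import Groth.Agent.Lib.Euler.Coh

set_option autoImplicit false
set_option linter.all false
universe u
open CategoryTheory CategoryTheory.Limits AlgebraicGeometry
open Surf

namespace Groth.Agent.S15848

section Aux

open IsLocalRing
open scoped Pointwise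

/-- The kernel of a map from a finite free module onto a module with a regular element outside `m²` is free over a
regular local ring of dimension at most two. -/
theorem free_ker_of_ses {A : Type u} [CommRing A] [IsLocalRing A] [IsRegularLocalRing A] (hd : ringKrullDim A ≤ 2)
    {K F M : Type u} [AddCommGroup K] [Module A K] [AddCommGroup F] [Module A F] [AddCommGroup M] [Module A M]
    [Module.Finite A K] [Module.Free A F] (i : K →ₗ[A] F) (p : F →ₗ[A] M) (hi : Function.Injective i)
    (he : Function.Exact i p) {a : A} (ha : a ∈ maximalIdeal A) (ha2 : a ∉ maximalIdeal A ^ 2)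
    (hreg : IsSMulRegular M a) : Module.Free A K := by
  have := GrothLib.CMFree.isDomain_of_isRegularLocalRing A
  obtain ⟨hR', hdim, -⟩ := GrothLib.RegLoc.quotient_isRegularLocalRing ha ha2
  let R' := A ⧸ Ideal.span {a}
  have := GrothLib.CMFree.isDomain_of_isRegularLocalRing R'
  have ha0 : a ≠ 0 := fun e => ha2 (e ▸ Submodule.zero_mem _)
  have hd' : ringKrullDim R' ≤ 1 := by
    rw [← hdim] at hd
    exact (ENat.WithBot.add_le_add_one_right_iff).1 (hd.trans_eq one_add_one_eq_two.symm)
  haveI : Module.Finite R' (QuotSMulTop a K) := Module.Finite.of_restrictScalars_finite A R' _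
  haveI : Module.Free R' (QuotSMulTop a F) := inferInstance
  haveI : Module.IsTorsionFree R' (QuotSMulTop a K) := .of_smul_eq_zero fun c v h => by
    obtain ⟨c, rfl⟩ := Ideal.Quotient.mk_surjective c
    obtain ⟨v, rfl⟩ := Submodule.Quotient.mk_surjective _ v
    have hmap : ∀ w : K, (QuotSMulTop.map a i) (Submodule.Quotient.mk w) = Submodule.Quotient.mk (i w) := fun w => rfl
    have hinj : Function.Injective (QuotSMulTop.map a i) := by
      rw [injective_iff_map_eq_zero]
      intro z hz
      obtain ⟨z, rfl⟩ := Submodule.Quotient.mk_surjective _ z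
      rw [hmap, Submodule.Quotient.mk_eq_zero, Submodule.mem_smul_pointwise_iff_exists] at hz
      obtain ⟨g, -, hg⟩ := hz
      obtain ⟨w, rfl⟩ := (he g).1 (hreg (by
        show a • p g = a • (0 : M)
        rw [← map_smul, hg, he.apply_apply_eq_zero, smul_zero]))
      rw [Submodule.Quotient.mk_eq_zero, Submodule.mem_smul_pointwise_iff_exists]
      exact ⟨w, trivial, hi (by rw [map_smul, hg])⟩
    have h1 := congrArg (QuotSMulTop.map a i) h
    rw [map_zero] at h1
    replace h1 : (Ideal.Quotient.mk (Ideal.span {a}) c) • (QuotSMulTop.map a i) (Submodule.Quotient.mk v) = 0 := by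
      rw [← h1]
      exact (map_smul (QuotSMulTop.map a i) c (Submodule.Quotient.mk v)).symm
    rcases eq_or_ne (Ideal.Quotient.mk (Ideal.span {a}) c) 0 with h0 | h0
    · exact Or.inl h0
    · exact Or.inr (hinj (((smul_eq_zero.1 h1).resolve_left h0).trans (map_zero _).symm))
  haveI : Module.FinitePresentation A K := Module.finitePresentation_of_finite A K
  refine (Module.free_quotSMulTop_iff_free A K (maximalIdeal_le_jacobson _ ha) ?_).1
    (GrothLib.Ref1.free_of_isTorsionFree_dim_one (A := R') hd' _)
  intro v w hvw
  refine hi (smul_right_injective F ha0 ?_)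
  show a • i v = a • i w
  rw [← map_smul, ← map_smul]
  exact congrArg i hvw

/-- A module that is torsion free over a quotient domain. -/
theorem free_ker_of_quotient {A B : Type u} [CommRing A] [IsLocalRing A] [IsRegularLocalRing A]
    [CommRing B] [IsDomain B] (φ : A →+* B) (hd : ringKrullDim A ≤ 2)
    {K F M N : Type u} [AddCommGroup K] [Module A K] [AddCommGroup F] [Module A F] [AddCommGroup M] [Module A M]
    [AddCommGroup N] [Module B N] [Module.IsTorsionFree B N] (h : M →+ N) (hinj : Function.Injective h)
    (hlin : ∀ (a : A) (m : M), h (a • m) = φ a • h m)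
    [Module.Finite A K] [Module.Finite A F] [Module.Free A F] (i : K →ₗ[A] F) (p : F →ₗ[A] M)
    (hi : Function.Injective i) (he : Function.Exact i p)
    (hk : 1 < ringKrullDim A → ∃ a ∈ maximalIdeal A, φ a ≠ 0) : Module.Free A K := by
  have := GrothLib.CMFree.isDomain_of_isRegularLocalRing A
  by_cases h1 : ringKrullDim A ≤ 1
  · haveI : Module.IsTorsionFree A K := .of_smul_eq_zero fun c v hcv => by
      have h' := congrArg i hcv
      rw [map_smul, map_zero, smul_eq_zero] at h'
      exact h'.imp id fun h0 => hi (h0.trans (map_zero i).symm)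
    exact GrothLib.Ref1.free_of_isTorsionFree_dim_one h1 K
  obtain ⟨b, hb, hb0⟩ := hk (not_le.1 h1)
  obtain ⟨a, ha, ha2, ha0⟩ : ∃ a ∈ maximalIdeal A, a ∉ maximalIdeal A ^ 2 ∧ φ a ≠ 0 := by
    by_contra hne
    push Not at hne
    have hm : maximalIdeal A ^ 2 ≠ maximalIdeal A := fun e => by
      have h0 := Submodule.eq_bot_of_le_smul_of_le_jacobson_bot (maximalIdeal A) (maximalIdeal A)
        (IsNoetherian.noetherian _) (by rw [smul_eq_mul, ← sq, e]) (maximalIdeal_le_jacobson _)
      rw [h0, Ideal.mem_bot] at hb
      exact hb0 (by rw [hb, map_zero])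
    obtain ⟨c, hc, hc2⟩ : ∃ c ∈ maximalIdeal A, c ∉ maximalIdeal A ^ 2 :=
      SetLike.exists_of_lt (lt_of_le_of_ne (Ideal.pow_le_self two_ne_zero) hm)
    by_cases hb2 : b ∈ maximalIdeal A ^ 2
    · refine hb0 ?_
      have h3 := hne (c + b) (add_mem hc hb) (fun h => hc2 (by
        have h4 := sub_mem h hb2
        rwa [add_sub_cancel_right] at h4))
      rwa [map_add, hne c hc hc2, zero_add] at h3
    · exact hb0 (hne b hb hb2)
  refine free_ker_of_ses hd i p hi he ha ha2 fun v w hvw => hinj ?_
  have h2 := congrArg h hvw
  simp only [hlin] at h2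
  exact smul_right_injective N ha0 h2

end Aux

/-- Let k be an algebraically closed field of characteristic zero and S a smooth surface over k (an
integral k-scheme, smooth over k, of dimension two). Let j : C → S be a closed immersion with C
integral of dimension one, M a coherent O_C-module whose stalks are torsion-free modules over the
local rings of C, F a finite locally free O_S-module and f : F → j_*M an epimorphism of O_S-modules.
Then the kernel of f, the elementary transformation of F along f, is a finite locally free
O_S-module. (The published setting takes S projective; the argument is local on S and projectivity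
is not assumed here.) -/
theorem result
    (k : Type u) [Field k] [IsAlgClosed k] [CharZero k]
    (S : Scheme.{u}) [S.Over (Spec (CommRingCat.of k))] [IsIntegral S]
    [Smooth (S ↘ Spec (CommRingCat.of k))] (hdim : topologicalKrullDim S = 2)
    (C : Scheme.{u}) (j : C ⟶ S) [IsClosedImmersion j] [IsIntegral C]
    (hC : topologicalKrullDim C = 1)
    (M : C.Modules) (hM : Coh.IsCoh M) (hMtf : TorSh.IsTorsionFree M)
    (F : S.Modules) (hF : FlatMod.IsFinLocFree F)
    (f : F ⟶ (Coh.push j).obj M) [Epi f] :
    FlatMod.IsFinLocFree (kernel f) := by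
  haveI : IsLocallyNoetherian S := LocallyOfFiniteType.isLocallyNoetherian (S ↘ Spec (CommRingCat.of k))
  haveI : IsLocallyNoetherian C := LocallyOfFiniteType.isLocallyNoetherian j
  have hFc : Coh.IsCoh F := GrothLib.Euler.isCoh_of_isFinLocFree hF
  have hMp : Coh.IsCoh ((Coh.push j).obj M) :=
    haveI := hM.1
    ⟨GrothLib.QCoh.isQuasicoherent_pushforward j M, GrothLib.QCoh.isFiniteType_pushforward j M hM.2⟩
  have hK : Coh.IsCoh (kernel f) := GrothLib.QCoh.isCoh_kernel f hFc hMp
  have hKr := GrothLib.HomSh.hasRel_of_isCoh hK
  refine (GrothLib.Ref1.isFinLocFree_iff_free hKr).2 fun x => ?_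
  have := hKr.span_stalk x
  haveI := GrothLib.HodgeIndex.regular_of_smooth (X := S) k x
  haveI hFfree := (GrothLib.Ref1.isFinLocFree_iff_free (GrothLib.HomSh.hasRel_of_isCoh hFc)).1 hF x
  haveI := (GrothLib.HomSh.hasRel_of_isCoh hFc).span_stalk x
  have hi : Function.Injective (GrothLib.QCoh.stalkLin (kernel.ι f) x) := GrothLib.QCoh.stalkLin_injective (kernel.ι f) x
  let S₀ : ShortComplex S.Modules := ShortComplex.mk (kernel.ι f) f (kernel.condition f)
  have hS₀ : S₀.Exact := ShortComplex.exact_of_f_is_kernel _ (kernelIsKernel f)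
  have he : Function.Exact (GrothLib.QCoh.stalkLin (kernel.ι f) x) (GrothLib.QCoh.stalkLin f x) :=
    (ShortComplex.ShortExact.moduleCat_exact_iff_function_exact _).1 ((GrothLib.OX.exact_iff S₀).1 hS₀ x)
  by_cases hx : x ∈ Set.range j
  · obtain ⟨c, rfl⟩ := hx
    have hb := GrothLib.Snapper.pushStalkHom_bijective_of_fibre j j.isClosedEmbedding.isClosedMap c
      (fun z hz => j.isClosedEmbedding.injective hz) M
    haveI : Module.IsTorsionFree (C.presheaf.stalk c) (M.presheaf.stalk c) := hMtf c
    refine free_ker_of_quotient (N := M.presheaf.stalk c) (j.stalkMap c).hom ?_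
      ((GrothLib.QCoh.pushStalkHom j c M).hom.toAddMonoidHom :) hb.1
      (fun a m => map_smul (GrothLib.QCoh.pushStalkHom j c M).hom a m) _ _ hi he fun h1 => ?_
    · exact (GrothLib.Ref1.ringKrullDim_stalk_le_topologicalKrullDim _).trans hdim.le
    · by_contra hne
      push Not at hne
      have hc : c = genericPoint C := by
        have hm : IsLocalRing.maximalIdeal (C.presheaf.stalk c) = ⊥ := by
          refine eq_bot_iff.2 fun t ht => ?_
          obtain ⟨a, rfl⟩ := j.stalkMap_surjective c t
          exact hne a (fun hu => ht (hu.map (j.stalkMap c).hom))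
        exact GrothLib.FlatQuot29.eq_genericPoint_of_maximalIdeal_eq_bot c hm
      subst hc
      have hT : GrothLib.Snapper.IsTop 1 (j (genericPoint C)) := by
        show topologicalKrullDim _ = _
        rw [GrothLib.QCoh.closure_singleton_eq_range j]
        exact (IsHomeomorph.topologicalKrullDim_eq _
          j.isClosedEmbedding.isEmbedding.toHomeomorph.isHomeomorph).symm.trans hC
      have hne' : j (genericPoint C) ≠ genericPoint S := fun e => by
        have h2 : topologicalKrullDim (closure ({genericPoint S} : Set S)) = 2 := by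
          rw [(genericPoint_spec S).def]
          exact (IsHomeomorph.topologicalKrullDim_eq _ (Homeomorph.Set.univ S).isHomeomorph).trans hdim
        rw [← e, show topologicalKrullDim (closure ({j (genericPoint C)} : Set S)) = ((1 : ℕ) : WithBot ℕ∞) from hT] at h2
        norm_cast at h2
      exact h1.ne' (GrothLib.HodgeIndex.ringKrullDim_stalk_eq_one hdim.le hT hne')
  · haveI := GrothLib.Snapper.subsingleton_stalk_push j M j.isClosedEmbedding.isClosed_range hx
    have hsurj : Function.Surjective (GrothLib.QCoh.stalkLin (kernel.ι f) x) := fun v =>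
      (he v).1 (Subsingleton.elim _ _)
    exact Module.Free.of_equiv (LinearEquiv.ofBijective _ ⟨hi, hsurj⟩).symm

end Groth.Agent.S15848
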