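import Groth.Statements.S2944
import Groth.Agent.Lib.LefAmp7.Hom
import Groth.Agent.Lib.LefAmp7.Open
import Groth.Agent.Lib.LefAmp7.Points
import Groth.Agent.S2252
import Groth.Agent.Lib.OX.ExtFinite

set_option autoImplicit false
universe u
open CategoryTheory CategoryTheory.Limits AlgebraicGeometry
open Lef CategoryTheory CategoryTheory.Abelian

namespace Groth.Agent.S2944

/-- Case 'resp.', over S = Spec k: Let k be a field, X a proper k-scheme and 𝓘 a quasi-coherent ideal
sheaf whose ideal module is invertible with an ample inverse L (𝓘 defines an effective Cartier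
divisor Y with O_X(Y) ample). If O_{X,x} has depth ≥ 2 at every closed point x, then Lef(X, Y)
holds: for every open U ⊇ Y and every finite locally free O_U-module D, the map Hom(D, O_U) → lim_n
Hom(D, O_U/𝓘^{n+1}) is bijective (equivalently Γ(U, E) ≅ Γ(X̂, Ê) for every finite locally free E on
U). -/
theorem result (k : Type u) [Field k] (X : Scheme.{u}) [X.Over (Spec (CommRingCat.of k))] [IsProper (X ↘ (Spec (CommRingCat.of k)))] (𝓘 : X.IdealSheafData) (L : X.Modules) (hL : ClSub.IsInverseOf L (ClSub.idealMod 𝓘)) (hamp : CohB1.IsAmple L) (hdepth : ∀ x : X, IsClosed ({x} : Set X) → (2 : ℕ∞) ≤ LocCoh.depth (X.presheaf.stalk x) (X.presheaf.stalk x)) : Lef.LefCond X 𝓘 := by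
  haveI := GrothLib.Euler.isNoetherian_of_proper (X := X) k
  haveI : HasExt.{u} X.Modules := hasExt_of_enoughInjectives _
  have hI := GrothLib.LefAmp7.isInvertible_idealMod_of_inverse hamp.1 hL
  intro U hU D hD
  have hd2 : GrothLib.Depth.DepthTwoOutside U := fun x hx =>
    hdepth x (GrothLib.LefAmp7.isClosed_of_notMem k 𝓘 hL hI hamp hU hx)
  have hDc := GrothLib.Euler.isCoh_of_isFinLocFree hD
  haveI : Coh.IsQCoh D := hDc.1
  obtain ⟨D', hq, hft, ⟨e⟩⟩ := Groth.Agent.S2252.result
    (fun x => ⟨⊤, trivial, inferInstance⟩) U D hDc.2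
  exact GrothLib.LefAmp7.homBij_open 𝓘 hU (GrothLib.FEt21.app_ι_bijective_of_depthTwo hd2) e
    (GrothLib.LefAmp7.homBij_of_isCoh k 𝓘 hL hamp hdepth ⟨hq, hft⟩)

end Groth.Agent.S2944
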