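import Groth.Statements.S8853
import Groth.Agent.Lib.BlowUp.Universal

set_option autoImplicit false
universe u
open CategoryTheory CategoryTheory.Limits AlgebraicGeometry TopologicalSpace
open SDiv

namespace Groth.Agent.S8853

/-- Let Z be a locally principal closed subscheme of a scheme S, with ideal sheaf 𝓘 generated by a
single section on some affine open neighbourhood of each point of its support, and let U be the open
complement of Z. Then the inclusion U ⟶ S is an affine morphism. -/
theorem result {S : Scheme.{u}} (𝓘 : S.IdealSheafData) (h : Curv2.IsLocPrincipal 𝓘) :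
    IsAffineHom (Scheme.Opens.ι 𝓘.support.compl) := by
  refine isAffineHom_of_forall_exists_isAffineOpen _ fun x => ?_
  have key : ∀ W : S.Opens, IsAffineOpen (W ⊓ 𝓘.support.compl) →
      IsAffineOpen ((Scheme.Opens.ι 𝓘.support.compl) ⁻¹ᵁ W) := by
    intro W hW
    refine (Scheme.Hom.isAffineOpen_iff_of_isOpenImmersion (Scheme.Opens.ι 𝓘.support.compl)).mp ?_
    rwa [Scheme.Hom.image_preimage_eq_opensRange_inf, Scheme.Opens.opensRange_ι, inf_comm]
  by_cases hx : x ∈ 𝓘.support
  · obtain ⟨U, hxU, t, ht⟩ := h x hx
    refine ⟨U.1, hxU, U.2, key _ ?_⟩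
    have e : (U.1 ⊓ 𝓘.support.compl : S.Opens) = S.basicOpen t := by
      ext y
      constructor
      · rintro ⟨hy, hyc⟩
        by_contra hb
        refine hyc ((Scheme.IdealSheafData.mem_support_iff_of_mem hy).mpr ?_)
        rw [Scheme.mem_zeroLocus_iff]
        intro z hz
        obtain ⟨c, rfl⟩ := Ideal.mem_span_singleton.mp (ht.le hz)
        rw [Scheme.basicOpen_mul]
        exact fun h' => hb h'.1
      · intro hy
        exact ⟨S.basicOpen_le t hy, Set.disjoint_left.mp
          (GrothLib.BlowUp.disjoint_basicOpen_support (ht.ge (Ideal.mem_span_singleton_self t))) hy⟩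
    rw [e]
    exact U.2.basicOpen t
  · obtain ⟨W, hxW, hW⟩ := GrothLib.BlowUp.exists_affine_mem_le (W := 𝓘.support.compl) (x := x) hx
    refine ⟨W.1, hxW, W.2, key _ ?_⟩
    rw [inf_eq_left.mpr hW]
    exact W.2

end Groth.Agent.S8853
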