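import Groth.Statements.S5802
import Groth.Agent.Lib.RegLoc.QuasiRegular

set_option autoImplicit false
universe u
open EGA41

namespace Groth.Agent.S5802

open IsLocalRing RingTheory.Sequence MvPolynomial

/-- A weakly regular sequence read backwards is regular from the right. -/
theorem regularFromRight_rev {R : Type u} [CommRing R] {d : ℕ} (x : Fin d → R)
    (hw : IsWeaklyRegular R (List.ofFn (x ∘ Fin.rev))) : GrothLib.RegLoc.RegularFromRight x := by
  intro i a ha
  obtain ⟨hreg⟩ := hw
  have := hreg (Fin.rev i).1 (by simp only [List.length_ofFn]; exact (Fin.rev i).2)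
  have hspan : Ideal.ofList ((List.ofFn (x ∘ Fin.rev)).take (Fin.rev i).1) • (⊤ : Ideal R) =
      Ideal.span (x '' Set.Ioi i) := by
    rw [smul_eq_mul, Ideal.mul_top, Ideal.ofList]
    congr 1
    ext r
    simp only [Set.mem_setOf_eq, List.mem_take_iff_getElem, Set.mem_image, Set.mem_Ioi]
    constructor
    · rintro ⟨j, hj, rfl⟩
      simp only [List.length_ofFn, lt_min_iff] at hj
      refine ⟨Fin.rev ⟨j, hj.2⟩, ?_, by simp⟩
      rw [← Fin.rev_lt_rev, Fin.rev_rev]
      exact hj.1
    · rintro ⟨k, hk, rfl⟩
      refine ⟨(Fin.rev k).1, ?_, by rw [List.getElem_ofFn]; simp only [Fin.eta, Function.comp_apply, Fin.rev_rev]⟩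
      simp only [List.length_ofFn, lt_min_iff]
      exact ⟨Fin.rev_lt_rev.2 hk, (Fin.rev k).2⟩
  rw [hspan] at this
  rw [List.getElem_ofFn] at this
  simp only [Fin.eta, Function.comp_apply, Fin.rev_rev] at this
  have h2 := this.right_eq_zero_of_smul (x := Submodule.Quotient.mk a) (by
    rw [← Submodule.Quotient.mk_smul, Submodule.Quotient.mk_eq_zero]; exact ha)
  exact (Submodule.Quotient.mk_eq_zero _).1 h2


/-- First assertion: case M = A: in a ring A, every A-regular sequence (f_i)_{1 ≤ i ≤ c} is
quasi-regular, i.e. the canonical surjection (A/J)[T_1, ..., T_c] → gr_J(A), J = f_1 A + ... + f_c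
A, is bijective. -/
theorem result (A : Type u) [CommRing A] (c : ℕ) (f : Fin c → A)
    (hf : RingTheory.Sequence.IsWeaklyRegular A (List.ofFn f)) : CAlgX.IsQuasiRegular f := by
  have hx := regularFromRight_rev (f ∘ Fin.rev) (by rwa [Function.comp_assoc, Fin.rev_involutive.comp_self])
  intro n P hP hev d
  have hspan : Ideal.span (Set.range (f ∘ Fin.rev)) = Ideal.span (Set.range f) := by
    rw [Fin.rev_surjective.range_comp]
  have h := GrothLib.RegLoc.map_eq_zero_of_eval_mem_pow_succ hx (F := rename Fin.rev P)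
    (hP.rename_isHomogeneous) (by
      rw [hspan, eval_rename, Function.comp_assoc, Fin.rev_involutive.comp_self]; exact hev)
  have h2 := congrArg (coeff (d.mapDomain Fin.rev)) h
  rw [coeff_map, coeff_zero, coeff_rename_mapDomain _ Fin.rev_injective, Ideal.Quotient.eq_zero_iff_mem,
    hspan] at h2
  exact h2

end Groth.Agent.S5802
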