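import Groth.Statements.S5803
import Groth.Agent.Lib.SeqKinds.NoetherianLocal

set_option autoImplicit false
universe u
open EGA41

namespace Groth.Agent.S5803

/-- Case M = A: let A be a Noetherian ring and (f_i)_{1 ≤ i ≤ c} a finite sequence of elements of the
Jacobson radical of A. Then (f_i) is a regular sequence if it is quasi-regular (and conversely every
regular sequence is quasi-regular). -/
theorem result (A : Type u) [CommRing A] [IsNoetherianRing A]
    (c : ℕ) (f : Fin c → A) (hf : ∀ i, f i ∈ Ring.jacobson A) (hq : CAlgX.IsQuasiRegular f) :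
    RingTheory.Sequence.IsWeaklyRegular A (List.ofFn f) := by
  classical
  refine ⟨fun i hi => ?_⟩
  rw [isSMulRegular_iff_right_eq_zero_of_smul]
  intro q hq0
  obtain ⟨a, rfl⟩ := Submodule.Quotient.mk_surjective _ q
  rw [← Submodule.Quotient.mk_smul, Submodule.Quotient.mk_eq_zero, smul_eq_mul, smul_eq_mul,
    Ideal.mul_top] at hq0
  rw [Submodule.Quotient.mk_eq_zero, smul_eq_mul, Ideal.mul_top]
  refine Ideal.mem_of_localization_maximal fun P _ => ?_
  let φ := algebraMap A (Localization.AtPrime P)
  have hmem : ∀ j, φ (f j) ∈ IsLocalRing.maximalIdeal (Localization.AtPrime P) := fun j => by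
    rw [← Localization.AtPrime.map_eq_maximalIdeal]
    exact Ideal.mem_map_of_mem _ ((Ideal.mem_sInf.1 (Ring.jacobson_eq_sInf_isMaximal A ▸ hf j)) ‹_›)
  have hflat : φ.Flat := RingHom.flat_algebraMap_iff.2 inferInstance
  have hw := GrothLib.SeqKinds.isWeaklyRegular_of_isQuasiRegular (φ ∘ f) hmem
    (GrothLib.SeqKinds.isQuasiRegular_map φ hflat f hq)
  obtain ⟨hreg⟩ := hw
  have hlen : i < (List.ofFn (φ ∘ f)).length := by simpa using hi
  have hlist : List.ofFn (φ ∘ f) = (List.ofFn f).map φ := by rw [List.map_ofFn]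
  have := (hreg i hlen).right_eq_zero_of_smul (x := Submodule.Quotient.mk (φ a)) ?_
  · rw [Submodule.Quotient.mk_eq_zero, smul_eq_mul, Ideal.mul_top] at this
    rw [Ideal.map_ofList, List.map_take, ← hlist]
    exact this
  · rw [← Submodule.Quotient.mk_smul, Submodule.Quotient.mk_eq_zero, smul_eq_mul, smul_eq_mul,
      Ideal.mul_top]
    have h2 := Ideal.mem_map_of_mem φ hq0
    rw [Ideal.map_ofList, List.map_take, ← hlist, map_mul] at h2
    convert h2 using 2
    simp [List.getElem_ofFn]

end Groth.Agent.S5803
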