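import Groth.Statements.S9252
import Mathlib
import Groth.Agent.Lib.QReg26.Basic
import Groth.Agent.Lib.SeqKinds.Basic

set_option autoImplicit false
universe u
attribute [local instance] HasDerivedCategory.standard
open CategoryTheory
open PP16

namespace Groth.Agent.S9252

open MvPolynomial

/-- A relation over a flat algebra with a coefficient outside `Q` comes from one below. -/
theorem exists_relation {R L : Type u} [CommRing R] [CommRing L] [Algebra R L] [Module.Flat R L]
    {r : ℕ} (y : Fin r → R) (b : Fin r → L) (hb : ∑ i, b i * algebraMap R L (y i) = 0)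
    (Q : Ideal L) (k : Fin r) (hk : b k ∉ Q) :
    ∃ c : Fin r → R, ∑ i, c i * y i = 0 ∧ algebraMap R L (c k) ∉ Q := by
  obtain ⟨m, a, z, hbz, ha⟩ := Module.Flat.isTrivialRelation_of_sum_smul_eq_zero (f := y) (x := b)
    (by simpa [Algebra.smul_def, mul_comm] using hb)
  by_contra hne
  refine hk ?_
  rw [hbz k]
  refine Ideal.sum_mem _ fun j _ => ?_
  rw [Algebra.smul_def]
  refine Ideal.mul_mem_right _ _ ?_
  by_contra hj
  exact hne ⟨fun i => a i j, by simpa [mul_comm] using ha j, hj⟩

/-- Generating families of equal minimal length. -/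
theorem card_le {L : Type u} [CommRing L] [IsLocalRing L] {r r' : ℕ} (y : Fin r → L) (z : Fin r' → L)
    (hy : ∀ i, y i ∈ Ideal.span (Set.range z)) (hz : ∀ i, z i ∈ Ideal.span (Set.range y))
    (hmin : ∀ c : Fin r → L, ∑ i, c i * y i = 0 → ∀ i, c i ∈ IsLocalRing.maximalIdeal L) : r ≤ r' := by
  classical
  obtain ⟨M, hM⟩ := GrothLib.QReg26.exists_matrix (f := z) (g := y) hy
  obtain ⟨N, hN⟩ := GrothLib.QReg26.exists_matrix (f := y) (g := z) hz
  let φ := IsLocalRing.residue L
  let M' : Matrix (Fin r) (Fin r') L := Matrix.of M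
  let N' : Matrix (Fin r') (Fin r) L := Matrix.of N
  have h1 : M'.map φ * N'.map φ = 1 := by
    rw [← Matrix.map_mul]
    ext i l
    have hsum : ∑ l, ((M' * N') i l - (1 : Matrix (Fin r) (Fin r) L) i l) * y l = 0 := by
      simp only [sub_mul, Finset.sum_sub_distrib, Matrix.mul_apply, Finset.sum_mul]
      rw [Finset.sum_comm]
      simp only [mul_assoc, ← Finset.mul_sum, N', M', Matrix.of_apply, hM, hN]
      simp [Matrix.one_apply]
    have h2 := hmin _ hsum l
    rw [Matrix.map_apply]
    rw [show φ ((M' * N') i l) = φ ((1 : Matrix (Fin r) (Fin r) L) i l) from Ideal.Quotient.eq.2 h2]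
    rcases eq_or_ne i l with rfl | hne
    · simp
    · simp [hne]
  have hinj : Function.Injective (N'.map φ).mulVecLin := by
    intro u v h
    have := congrArg (fun w => (M'.map φ).mulVec w) h
    simpa [Matrix.mulVec_mulVec, h1] using this
  simpa using LinearMap.finrank_le_finrank_of_injective hinj

/-- The image in `Localization.AtPrime Q` generates and is quasi-regular. -/
def Good {A B : Type u} [CommRing A] [CommRing B] [Algebra A B] (I : Ideal A) {r : ℕ} (x : Fin r → A)
    (h : B) : Prop :=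
  ∀ (Q : Ideal B) [Q.IsPrime], h ∉ Q →
    (Ideal.span (Set.range fun i => algebraMap B (Localization.AtPrime Q) (algebraMap A B (x i))) =
      (I.map (algebraMap A B)).map (algebraMap B (Localization.AtPrime Q))) ∧
    CAlgX.IsQuasiRegular fun i => algebraMap B (Localization.AtPrime Q) (algebraMap A B (x i))

section
variable {A B : Type u} [CommRing A] [CommRing B] [Algebra A B] (I : Ideal A) {r : ℕ} (x : Fin r → A)

theorem relation_mem_of_good {h : B} (hh : Good I x h) (Q : Ideal B) [Q.IsPrime] (hQ : h ∉ Q)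
    (hIQ : I.map (algebraMap A B) ≤ Q) (c : Fin r → A) (hc : ∑ i, c i * x i = 0) (i : Fin r) :
    algebraMap A B (c i) ∈ Q := by
  obtain ⟨hsp, hqr⟩ := hh Q hQ
  let e : A →+* Localization.AtPrime Q := (algebraMap B (Localization.AtPrime Q)).comp (algebraMap A B)
  have h0 := congrArg e hc
  simp only [map_sum, map_mul, map_zero] at h0
  have h1 := GrothLib.QReg26.mem_of_sum_mul_mem_sq hqr (fun i => e (c i))
    (by
      have : ∑ i, e (c i) * (algebraMap B (Localization.AtPrime Q) (algebraMap A B (x i))) = 0 := h0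
      rw [this]
      exact zero_mem _) i
  rw [hsp] at h1
  have h2 : e (c i) ∈ IsLocalRing.maximalIdeal (Localization.AtPrime Q) := by
    rw [← Localization.AtPrime.map_eq_maximalIdeal]
    exact Ideal.map_mono hIQ h1
  exact (IsLocalization.AtPrime.to_map_mem_maximal_iff (Localization.AtPrime Q) Q _).1 h2

theorem exists_good (g₀ : A) (hg₀ : ∀ y ∈ I, g₀ * y ∈ Ideal.span (Set.range x)) (hx : ∀ i, x i ∈ I)
    [Module.Flat A B] (hB : PP16.IsLocallyQuasiRegular B (I.map (algebraMap A B)))
    (Q : Ideal B) [Q.IsPrime] (hIQ : I.map (algebraMap A B) ≤ Q) (hgQ : algebraMap A B g₀ ∉ Q)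
    (hmin : ∀ c : Fin r → A, ∑ i, c i * x i = 0 → ∀ i, algebraMap A B (c i) ∈ Q) :
    ∃ h : B, h ∉ Q ∧ Good I x h := by
  obtain ⟨h₀, hh₀, r', f, hf, hfs⟩ := hB Q hIQ
  have hloc : ∀ (Q' : Ideal B) [Q'.IsPrime], h₀ * algebraMap A B g₀ ∉ Q' →
      ∃ f' : Fin r' → Localization.AtPrime Q', CAlgX.IsQuasiRegular f' ∧
        Ideal.span (Set.range f') = (I.map (algebraMap A B)).map (algebraMap B (Localization.AtPrime Q')) ∧
        Ideal.span (Set.range fun i => algebraMap B (Localization.AtPrime Q') (algebraMap A B (x i))) =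
          (I.map (algebraMap A B)).map (algebraMap B (Localization.AtPrime Q')) := by
    intro Q' _ hQ'
    have hh : h₀ ∉ Q' := fun h => hQ' (Ideal.mul_mem_right _ _ h)
    have hu : IsUnit (algebraMap B (Localization.AtPrime Q') h₀) :=
      IsLocalization.map_units (Localization.AtPrime Q') (⟨h₀, hh⟩ : Q'.primeCompl)
    let φ : Localization.Away h₀ →+* Localization.AtPrime Q' := IsLocalization.Away.lift h₀ hu
    have hφc : φ.comp (algebraMap B (Localization.Away h₀)) = algebraMap B (Localization.AtPrime Q') :=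
      IsLocalization.Away.lift_comp h₀ hu
    have hφ : φ.Flat := by
      letI := φ.toAlgebra
      haveI : IsScalarTower B (Localization.Away h₀) (Localization.AtPrime Q') :=
        IsScalarTower.of_algebraMap_eq' hφc.symm
      show Module.Flat (Localization.Away h₀) (Localization.AtPrime Q')
      exact (Module.flat_iff_of_isLocalization (R := B) (Localization.Away h₀) (Submonoid.powers h₀) _).2
        (IsLocalization.flat (Localization.AtPrime Q') Q'.primeCompl)
    refine ⟨φ ∘ f, GrothLib.SeqKinds.isQuasiRegular_map φ hφ f hf, ?_, le_antisymm ?_ ?_⟩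
    · rw [Set.range_comp, ← Ideal.map_span, hfs, Ideal.map_map, hφc]
    · rw [Ideal.span_le]
      rintro _ ⟨i, rfl⟩
      exact Ideal.mem_map_of_mem _ (Ideal.mem_map_of_mem _ (hx i))
    · rw [Ideal.map_map, Ideal.map_le_iff_le_comap]
      intro y hy
      have hg : IsUnit (algebraMap B (Localization.AtPrime Q') (algebraMap A B g₀)) :=
        IsLocalization.map_units (Localization.AtPrime Q')
          (⟨_, fun h => hQ' (Ideal.mul_mem_left _ _ h)⟩ : Q'.primeCompl)
      have h1 := Ideal.mem_map_of_mem ((algebraMap B (Localization.AtPrime Q')).comp (algebraMap A B))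
        (hg₀ y hy)
      rw [Ideal.map_span, ← Set.range_comp, map_mul] at h1
      exact (Ideal.unit_mul_mem_iff_mem _ hg).1 h1
  have hQ2 : h₀ * algebraMap A B g₀ ∉ Q := fun h => (‹Q.IsPrime›.mem_or_mem h).elim hh₀ hgQ
  have hr : r = r' := by
    obtain ⟨f', hf', hfs', hxs⟩ := hloc Q hQ2
    refine le_antisymm ?_ ?_
    · refine card_le _ f' (fun i => by rw [hfs', ← hxs]; exact Ideal.subset_span ⟨i, rfl⟩)
        (fun i => by rw [hxs, ← hfs']; exact Ideal.subset_span ⟨i, rfl⟩) fun c hc i => ?_
      by_contra hi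
      letI : Algebra A (Localization.AtPrime Q) := inferInstance
      haveI : Module.Flat A (Localization.AtPrime Q) := Module.Flat.trans A B (Localization.AtPrime Q)
      obtain ⟨a, ha, hai⟩ := exists_relation x c (by
        simpa [IsScalarTower.algebraMap_apply A B (Localization.AtPrime Q)] using hc) _ i hi
      rw [IsScalarTower.algebraMap_apply A B (Localization.AtPrime Q)] at hai
      exact hai ((IsLocalization.AtPrime.to_map_mem_maximal_iff (Localization.AtPrime Q) Q _).2 (hmin a ha i))
    · refine card_le f' _ (fun i => by rw [hxs, ← hfs']; exact Ideal.subset_span ⟨i, rfl⟩)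
        (fun i => by rw [hfs', ← hxs]; exact Ideal.subset_span ⟨i, rfl⟩) fun c hc i => ?_
      have h1 := GrothLib.QReg26.mem_of_sum_mul_mem_sq hf' c (by rw [hc]; exact zero_mem _) i
      rw [hfs'] at h1
      rw [← Localization.AtPrime.map_eq_maximalIdeal]
      exact Ideal.map_mono hIQ h1
  subst hr
  refine ⟨_, hQ2, fun Q' _ hQ' => ?_⟩
  obtain ⟨f', hf', hfs', hxs⟩ := hloc Q' hQ'
  exact ⟨hxs, GrothLib.QReg26.isQuasiRegular_of_span_eq f' _ hf' (hxs.trans hfs'.symm)⟩

theorem fg_descent [Module.FaithfullyFlat A B] (hB : PP16.IsLocallyQuasiRegular B (I.map (algebraMap A B))) :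
    I.FG := by
  classical
  let t : Set B := {h | (Ideal.map (algebraMap B (Localization.Away h)) (I.map (algebraMap A B))).FG}
  have ht : Ideal.span t = ⊤ := by
    by_contra hne
    obtain ⟨Q, hQ, htQ⟩ := Ideal.exists_le_maximal _ hne
    haveI := hQ.isPrime
    by_cases hIQ : I.map (algebraMap A B) ≤ Q
    · obtain ⟨h, hh, r, f, -, hfs⟩ := hB Q hIQ
      exact hh (htQ (Ideal.subset_span (show h ∈ t from (show Ideal.FG _ by rw [← hfs]; exact ⟨Finset.univ.image f, by simp⟩))))
    · obtain ⟨h, hh, hhQ⟩ := SetLike.not_le_iff_exists.1 hIQ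
      refine hhQ (htQ (Ideal.subset_span ?_))
      show Ideal.FG _
      rw [Ideal.eq_top_of_isUnit_mem _ (Ideal.mem_map_of_mem (algebraMap B (Localization.Away h)) hh)
        (IsLocalization.Away.algebraMap_isUnit h)]
      exact ⟨{1}, by simp⟩
  have hfg : (I.map (algebraMap A B)).FG := Ideal.fg_of_localizationSpan t ht fun g => g.2
  obtain ⟨s, hs⟩ := hfg
  have hmem : ∀ z ∈ s, ∃ J : Finset A, (↑J : Set A) ⊆ I ∧ z ∈ (Ideal.span (↑J : Set A)).map (algebraMap A B) := by
    intro z hz
    have : z ∈ I.map (algebraMap A B) := hs ▸ Ideal.subset_span hz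
    rw [Ideal.map] at this
    obtain ⟨T, hT, hzT⟩ := Submodule.mem_span_finite_of_mem_span this
    obtain ⟨J, hJI, hJT⟩ := Finset.subset_set_image_iff.1 hT
    refine ⟨J, hJI, ?_⟩
    rw [Ideal.map_span]
    rw [← hJT, Finset.coe_image] at hzT
    exact hzT
  choose! J hJ hzJ using hmem
  refine ⟨s.biUnion J, ?_⟩
  apply Ideal.map_injective_of_faithfullyFlat (B := B)
  refine le_antisymm (Ideal.map_mono (Ideal.span_le.2 fun a ha => ?_)) (hs ▸ Ideal.span_le.2 fun z hz => ?_)
  · rw [Finset.coe_biUnion, Set.mem_iUnion₂] at ha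
    obtain ⟨z, hz, haz⟩ := ha
    exact hJ z hz haz
  · refine Ideal.map_mono (Ideal.span_mono ?_) (hzJ z hz)
    rw [Finset.coe_biUnion]
    exact Set.subset_biUnion_of_mem (u := fun z => (↑(J z) : Set A)) hz

end

theorem main {A B : Type u} [CommRing A] [CommRing B] [Algebra A B] (I : Ideal A) [Module.FaithfullyFlat A B] (hB : PP16.IsLocallyQuasiRegular B (I.map (algebraMap A B))) :
    PP16.IsLocallyQuasiRegular A I := by
  classical
  intro P _ hIP
  have hex : ∃ r : ℕ, ∃ x : Fin r → A, (∀ i, x i ∈ I) ∧ ∃ g, g ∉ P ∧ ∀ y ∈ I, g * y ∈ Ideal.span (Set.range x) := by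
    obtain ⟨s, hs⟩ := fg_descent I hB
    refine ⟨s.card, fun i => (s.equivFin.symm i : A), fun i => hs ▸ Ideal.subset_span (s.equivFin.symm i).2, 1,
      fun h => ‹P.IsPrime›.ne_top ((Ideal.eq_top_iff_one P).2 h), fun y hy => ?_⟩
    rw [one_mul]
    refine Ideal.span_mono ?_ (hs.symm ▸ hy : y ∈ Ideal.span (↑s : Set A))
    intro a ha
    exact ⟨s.equivFin ⟨a, ha⟩, by simp⟩
  obtain ⟨r, ⟨x, hx, g₀, hg₀P, hg₀⟩, hrmin⟩ : ∃ r : ℕ, (∃ x : Fin r → A, (∀ i, x i ∈ I) ∧
      ∃ g, g ∉ P ∧ ∀ y ∈ I, g * y ∈ Ideal.span (Set.range x)) ∧ ∀ m < r, ¬ (∃ x : Fin m → A,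
      (∀ i, x i ∈ I) ∧ ∃ g, g ∉ P ∧ ∀ y ∈ I, g * y ∈ Ideal.span (Set.range x)) :=
    ⟨Nat.find hex, Nat.find_spec hex, fun m hm => Nat.find_min hex hm⟩
  have hminP : ∀ c : Fin r → A, ∑ i, c i * x i = 0 → ∀ i, c i ∈ P := by
    intro c hc k
    by_contra hk
    obtain ⟨n, hn⟩ : ∃ n, r = n + 1 := ⟨r - 1, by have := k.pos; omega⟩
    refine hrmin n (by omega) ⟨fun j => x ((Fin.cast hn k).succAbove j |>.cast hn.symm),
      fun j => hx _, c k * g₀, fun h => (‹P.IsPrime›.mem_or_mem h).elim hk hg₀P, fun y hy => ?_⟩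
    obtain ⟨a, ha⟩ := (Submodule.mem_span_range_iff_exists_fun A).1 (hg₀ y hy)
    rw [mul_assoc, ← ha, Finset.mul_sum]
    refine Ideal.sum_mem _ fun i _ => ?_
    rw [smul_eq_mul, mul_left_comm]
    refine Ideal.mul_mem_left _ _ ?_
    have hmem : ∀ i, i ≠ k → x i ∈ Ideal.span (Set.range fun j => x ((Fin.cast hn k).succAbove j |>.cast hn.symm)) := by
      intro i hi
      obtain ⟨j, hj⟩ := Fin.exists_succAbove_eq (x := Fin.cast hn i) (y := Fin.cast hn k)
        (fun h => hi (Fin.cast_injective _ h))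
      exact Ideal.subset_span ⟨j, congrArg x (by rw [hj]; rfl)⟩
    by_cases hi : i = k
    · subst hi
      rw [← Finset.add_sum_erase _ _ (Finset.mem_univ i)] at hc
      rw [eq_neg_of_add_eq_zero_left hc]
      exact neg_mem (Ideal.sum_mem _ fun j hj => Ideal.mul_mem_left _ _ (hmem j (Finset.ne_of_mem_erase hj)))
    · exact Ideal.mul_mem_left _ _ (hmem i hi)
  let K : Ideal B := I.map (algebraMap A B) ⊔ Ideal.span {h | Good I x h}
  have hcap : ¬ K.comap (algebraMap A B) ≤ P := by
    intro hle
    obtain ⟨p, hp, hpP⟩ := Ideal.exists_minimalPrimes_le hle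
    haveI := hp.1.1
    obtain ⟨Q2, hQ2, hQ2p⟩ := Ideal.exists_minimalPrimes_comap_eq (algebraMap A B) p hp
    haveI := hQ2.1.1
    obtain ⟨Q, hQp, hQover⟩ := Ideal.exists_isPrime_liesOver_of_faithfullyFlat P (B := B)
    haveI := hQp
    haveI := hQover
    have hgQ : algebraMap A B g₀ ∉ Q := fun h => hg₀P (by
      rw [hQover.over]; exact h)
    have hIQ : I.map (algebraMap A B) ≤ Q := Ideal.map_le_iff_le_comap.2 (hIP.trans hQover.over.le)
    obtain ⟨h, hhQ, hgood⟩ := exists_good I x g₀ hg₀ hx hB Q hIQ hgQ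
      fun c hc i => (hQover.over.le (hminP c hc i) : c i ∈ Q.comap (algebraMap A B))
    obtain ⟨Q1, hQ1, hQ1p, hQ1over⟩ := Ideal.exists_ideal_le_liesOver_of_le (p := p) (q := P) Q hpP
    haveI := hQ1p
    have hIp : I ≤ p := (Ideal.map_le_iff_le_comap.1 (le_sup_left : I.map (algebraMap A B) ≤ K)).trans hp.1.2
    have hminp : ∀ c : Fin r → A, ∑ i, c i * x i = 0 → ∀ i, c i ∈ p := fun c hc i => by
      rw [hQ1over.over]
      exact relation_mem_of_good I x hgood Q1 (fun h => hhQ (hQ1 h))
        (Ideal.map_le_iff_le_comap.2 (hIp.trans hQ1over.over.le)) c hc i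
    have hgQ2 : algebraMap A B g₀ ∉ Q2 := fun h => hg₀P (hpP (hQ2p ▸ h : g₀ ∈ p))
    obtain ⟨h', hh', hgood'⟩ := exists_good I x g₀ hg₀ hx hB Q2
      (le_sup_left.trans hQ2.1.2) hgQ2 fun c hc i => (hQ2p.ge (hminp c hc i) : c i ∈ Q2.comap _)
    exact hh' ((le_sup_right.trans hQ2.1.2) (Ideal.subset_span hgood'))
  obtain ⟨g₁, hg₁, hg₁P⟩ := SetLike.not_le_iff_exists.1 hcap
  refine ⟨g₀ * g₁, fun h => (‹P.IsPrime›.mem_or_mem h).elim hg₀P hg₁P, r,
    fun i => algebraMap A _ (x i), ?_, ?_⟩
  · -- quasi-regularity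
    let T := Localization.Away (g₀ * g₁)
    intro n F hF hev d
    set J := Ideal.span (Set.range fun i => algebraMap A T (x i)) with hJ
    have hcol : ∀ m : Ideal T, m.IsMaximal → ∃ t : T, t ∉ m ∧ t * F.coeff d ∈ J := by
      intro m hm
      by_cases hJm : J ≤ m
      swap
      · obtain ⟨t, ht, htm⟩ := SetLike.not_le_iff_exists.1 hJm
        exact ⟨t, htm, Ideal.mul_mem_right _ _ ht⟩
      haveI := hm.isPrime
      let p := m.comap (algebraMap A T)
      have hgp : g₀ * g₁ ∉ p := fun h => hm.ne_top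
        (Ideal.eq_top_of_isUnit_mem _ h (IsLocalization.Away.algebraMap_isUnit _))
      obtain ⟨Q, hQp, hQover⟩ := Ideal.exists_isPrime_liesOver_of_faithfullyFlat p (B := B)
      haveI := hQp
      have hgQ : algebraMap A B (g₀ * g₁) ∉ Q := fun h => hgp (by rw [hQover.over]; exact h)
      have hIQ : I.map (algebraMap A B) ≤ Q := by
        rw [Ideal.map_le_iff_le_comap]
        intro y hy
        show y ∈ Q.under A
        rw [← hQover.over]
        refine ((hm.isPrime.mem_or_mem (x := algebraMap A T g₀) ?_).resolve_left fun h =>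
          hgp (Ideal.mul_mem_right _ _ h : g₀ * g₁ ∈ p))
        rw [← map_mul]
        have h1 := Ideal.mem_map_of_mem (algebraMap A T) (hg₀ y hy)
        rw [Ideal.map_span, ← Set.range_comp] at h1
        exact hJm h1
      obtain ⟨h, hh, hhQ⟩ : ∃ h, Good I x h ∧ h ∉ Q := by
        by_contra hno
        push Not at hno
        refine hgQ ?_
        rw [map_mul]
        exact Ideal.mul_mem_left _ _ ((sup_le hIQ (Ideal.span_le.2 hno)) hg₁)
      obtain ⟨hsp, hqr⟩ := hh Q hhQ
      let L := Localization.AtPrime Q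
      have hu : IsUnit (algebraMap A L (g₀ * g₁)) := by
        rw [IsScalarTower.algebraMap_apply A B L]
        exact IsLocalization.map_units L (⟨_, hgQ⟩ : Q.primeCompl)
      let φ : T →+* L := IsLocalization.Away.lift (g₀ * g₁) hu
      have hφc : φ.comp (algebraMap A T) = algebraMap A L := IsLocalization.Away.lift_comp _ hu
      letI := φ.toAlgebra
      haveI : IsScalarTower A T L := IsScalarTower.of_algebraMap_eq' hφc.symm
      haveI : Module.Flat T L := by
        haveI : Module.Flat A L := Module.Flat.trans A B L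
        exact (Module.flat_iff_of_isLocalization (R := A) T (Submonoid.powers (g₀ * g₁)) _).2 inferInstance
      have hrange : (fun i => φ (algebraMap A T (x i))) = fun i => algebraMap B L (algebraMap A B (x i)) :=
        funext fun i => (RingHom.congr_fun hφc (x i)).trans (IsScalarTower.algebraMap_apply A B L (x i))
      have hJL : J.map φ = Ideal.span (Set.range fun i => algebraMap B L (algebraMap A B (x i))) := by
        rw [hJ, Ideal.map_span, ← Set.range_comp, ← hrange]
        rfl
      have hev' : eval (fun i => algebraMap B L (algebraMap A B (x i))) (MvPolynomial.map φ F) ∈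
          Ideal.span (Set.range fun i => algebraMap B L (algebraMap A B (x i))) ^ (n + 1) := by
        rw [← hJL, ← Ideal.map_pow, ← hrange, MvPolynomial.eval_map]
        rw [show eval₂ φ (fun i => φ (algebraMap A T (x i))) F = φ (eval (fun i => algebraMap A T (x i)) F) from
          (eval₂_comp _ _ _).symm]
        exact Ideal.mem_map_of_mem φ hev
      have hd := hqr n _ (hF.map φ) hev' d
      rw [coeff_map] at hd
      obtain ⟨b, hb⟩ := (Submodule.mem_span_range_iff_exists_fun L).1 hd
      let y : Fin (r + 1) → T := Fin.cons (F.coeff d) fun i => algebraMap A T (x i)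
      let c : Fin (r + 1) → L := Fin.cons 1 fun i => -b i
      have hc : ∑ i, c i * algebraMap T L (y i) = 0 := by
        rw [Fin.sum_univ_succ]
        simp only [c, y, Fin.cons_zero, Fin.cons_succ, one_mul, neg_mul, Finset.sum_neg_distrib]
        rw [RingHom.algebraMap_toAlgebra, ← hb, ← Finset.sum_add_distrib]
        refine Finset.sum_eq_zero fun i _ => ?_
        rw [smul_eq_mul, congrFun hrange i, neg_mul, add_neg_cancel]
      obtain ⟨a, ha, ha0⟩ := exists_relation y c hc (IsLocalRing.maximalIdeal L) 0 (by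
        simp [c, IsLocalRing.mem_maximalIdeal])
      refine ⟨a 0, fun h0 => ha0 ?_, ?_⟩
      · obtain ⟨q, hq⟩ := IsLocalization.Away.surj (g₀ * g₁) (a 0)
        obtain ⟨a', ha'⟩ := hq
        have hmem : a' ∈ p := by
          show algebraMap A T a' ∈ m
          rw [← ha']
          exact Ideal.mul_mem_right _ _ h0
        have hu' : IsUnit (algebraMap T L (algebraMap A T (g₀ * g₁)) ^ q) := by
          rw [← IsScalarTower.algebraMap_apply]; exact hu.pow q
        refine (Ideal.mul_unit_mem_iff_mem _ hu').1 ?_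
        rw [← map_pow, ← map_mul, ha', ← IsScalarTower.algebraMap_apply, IsScalarTower.algebraMap_apply A B L]
        exact (IsLocalization.AtPrime.to_map_mem_maximal_iff L Q _).2 (hQover.over ▸ hmem : a' ∈ Q.under A)
      · rw [Fin.sum_univ_succ] at ha
        simp only [y, Fin.cons_zero, Fin.cons_succ] at ha
        rw [eq_neg_of_add_eq_zero_left ha]
        exact neg_mem (Ideal.sum_mem _ fun i _ => Ideal.mul_mem_left _ _ (Ideal.subset_span ⟨i, rfl⟩))
    by_contra hnot
    obtain ⟨m, hm, hle⟩ := Ideal.exists_le_maximal (J.colon (Ideal.span {F.coeff d})) (by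
      intro htop
      refine hnot ?_
      have : (1 : T) ∈ J.colon (Ideal.span {F.coeff d}) := htop ▸ trivial
      simpa using Submodule.mem_colon.1 this (F.coeff d) (Ideal.subset_span rfl))
    obtain ⟨t, ht, htd⟩ := hcol m hm
    refine ht (hle (Submodule.mem_colon.2 fun z hz => ?_))
    obtain ⟨s, rfl⟩ := Ideal.mem_span_singleton'.1 hz
    rw [smul_eq_mul, mul_left_comm]
    exact Ideal.mul_mem_left _ _ htd
  · refine le_antisymm (Ideal.span_le.2 ?_) (Ideal.map_le_iff_le_comap.2 fun y hy => ?_)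
    · rintro _ ⟨i, rfl⟩
      exact Ideal.mem_map_of_mem _ (hx i)
    · have h1 := Ideal.mem_map_of_mem (algebraMap A (Localization.Away (g₀ * g₁))) (hg₀ y hy)
      rw [Ideal.map_span, ← Set.range_comp, map_mul] at h1
      have hu : IsUnit (algebraMap A (Localization.Away (g₀ * g₁)) g₀) := by
        have := IsLocalization.Away.algebraMap_isUnit (S := Localization.Away (g₀ * g₁)) (g₀ * g₁)
        rw [map_mul] at this
        exact isUnit_of_mul_isUnit_left this
      exact (Ideal.unit_mul_mem_iff_mem _ hu).1 h1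


/-- Let A → B be faithfully flat and I an ideal of A. If IB is a quasi-regular ideal of B then I is a
quasi-regular ideal of A. -/
theorem result (A B : Type u) [CommRing A] [CommRing B]
    [Algebra A B] [Module.FaithfullyFlat A B] (I : Ideal A)
    (h : PP16.IsLocallyQuasiRegular B (Ideal.map (algebraMap A B) I)) :
    PP16.IsLocallyQuasiRegular A I := by
  exact main I h

end Groth.Agent.S9252
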