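import Groth.Statements.S2928
import Groth.Agent.Lib.SerrePn27.DepthExt
-- import your own Groth.Agent.* helpers here

set_option autoImplicit false
universe u
open CategoryTheory AlgebraicGeometry
open ProjDual

namespace Groth.Agent.S2928

/-- (i)⇔(ii): Let k be a field, X = P^r_k, F a coherent O_X-module and n ≥ 0. Then H^i(X, F(−m)) = 0 for
all i ≤ n and all sufficiently large m if and only if at every closed point x of X the stalk F_x has
depth greater than n over O_{X,x}. -/
theorem result (k : Type u) [Field k] (r : ℕ) (F : (CohB1.ProjSpace r k).Modules) (hF : Coh.IsCoh F) (n : ℕ) : (∃ m₀ : ℤ, ∀ m : ℤ, m₀ ≤ m → ∀ i : ℕ, i ≤ n → Subsingleton (Coh.HH (CohB1.ProjSpace r k) (Twist.twistBy _ F (-m)) i)) ↔ ∀ x : (CohB1.ProjSpace r k), IsClosed ({x} : Set (CohB1.ProjSpace r k)) → (n : ℕ∞) < LocCoh.depth ((CohB1.ProjSpace r k).presheaf.stalk x) (F.presheaf.stalk x) := by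
  classical
  haveI : HasInjectiveResolutions (ModSite.Mod (CohB1.ProjSpace r k).sheaf) :=
    GrothLib.ExtTilde20.hasInjectiveResolutions_mod _
  haveI : ModSite.HasSheafHom (O := (CohB1.ProjSpace r k).sheaf) F := GrothLib.SheafCoh.hasSheafHom _ F
  have hL : (∃ m₀ : ℤ, ∀ m : ℤ, m₀ ≤ m → ∀ i : ℕ, i ≤ n →
      Subsingleton (Coh.HH (CohB1.ProjSpace r k) (GrothLib.CMReg.Ft F (-m)) i)) ↔
      ∀ j : ℕ, j ≤ r → r ≤ j + n → CategoryTheory.Limits.IsZero ((ModSite.extSh (O := (CohB1.ProjSpace r k).sheaf) F j).obj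
        (Twist.twistProjSpace r k (-((r : ℤ) + 1)))) := by
    constructor
    · rintro ⟨m₀, h⟩ j hj hjn
      exact (GrothLib.SerrePn27.vanish_iff_isZero_extSh hF (i := r - j) (j := j) (by omega)).1
        ⟨m₀, fun m hm => h m hm _ (by omega)⟩
    · intro h
      have h1 : ∀ i : ℕ, ∃ m₀ : ℤ, i ≤ n → ∀ m : ℤ, m₀ ≤ m →
          Subsingleton (Coh.HH (CohB1.ProjSpace r k) (GrothLib.CMReg.Ft F (-m)) i) := fun i => by
        by_cases hi : i ≤ n
        · rcases Nat.lt_or_ge r i with hr | hr
          · refine ⟨0, fun _ m _ => ?_⟩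
            haveI := (GrothLib.CMReg.isCoh_Ft hF (-m)).1
            exact GrothLib.CMReg.subsingleton_HH_of_lt _ hr
          · obtain ⟨m₀, hm₀⟩ := (GrothLib.SerrePn27.vanish_iff_isZero_extSh hF (i := i) (j := r - i) (by omega)).2
              (h (r - i) (by omega) (by omega))
            exact ⟨m₀, fun _ => hm₀⟩
        · exact ⟨0, fun h => absurd h hi⟩
      choose M hM using h1
      exact ⟨(Finset.range (n + 1)).sup' ⟨0, Finset.mem_range.2 (Nat.succ_pos n)⟩ M, fun m hm i hi =>
        hM i hi m ((Finset.le_sup' M (Finset.mem_range.2 (by omega))).trans hm)⟩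
  have htop : ∀ j, r < j → CategoryTheory.Limits.IsZero ((ModSite.extSh (O := (CohB1.ProjSpace r k).sheaf) F j).obj
      (Twist.twistProjSpace r k (-((r : ℤ) + 1)))) :=
    (GrothLib.SerrePn27.extSh_vanish_above_iff_depth hF r).2 fun _ _ => le_self_add
  refine hL.trans ?_
  constructor
  · intro h x hx
    rcases Nat.lt_or_ge n r with hn | hn
    · have h2 := (GrothLib.SerrePn27.extSh_vanish_above_iff_depth hF (r - n - 1)).1 (fun j hj => by
        rcases Nat.lt_or_ge r j with hr | hr
        · exact htop j hr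
        · exact h j hr (by omega)) x hx
      induction hd : LocCoh.depth ((CohB1.ProjSpace r k).presheaf.stalk x) (F.presheaf.stalk x) using ENat.recTopCoe with
      | top => exact WithTop.coe_lt_top n
      | coe d =>
        rw [hd] at h2
        have h3 : r ≤ (r - n - 1) + d := by exact_mod_cast h2
        exact_mod_cast (show n < d by omega)
    · haveI := GrothLib.SerrePn27.subsingleton_stalk_of_extSh_vanish hF (fun j => by
        rcases Nat.lt_or_ge r j with hr | hr
        · exact htop j hr
        · exact h j hr (by omega)) x hx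
      rw [GrothLib.Depth.depth_eq_top_of_subsingleton]
      exact WithTop.coe_lt_top n
  · intro h j hj hjn
    rcases Nat.lt_or_ge n r with hn | hn
    · refine (GrothLib.SerrePn27.extSh_vanish_above_iff_depth hF (r - n - 1)).2 (fun x hx => ?_) j (by omega)
      calc (r : ℕ∞) ≤ ((r - n - 1 : ℕ) : ℕ∞) + ((n + 1 : ℕ) : ℕ∞) := by exact_mod_cast (show r ≤ (r - n - 1) + (n + 1) by omega)
        _ ≤ _ := by
          gcongr
          rw [Nat.cast_add, Nat.cast_one]
          exact Order.add_one_le_of_lt (h x hx)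
    · refine (GrothLib.SerrePn27.isZero_extSh_omega_iff hF j).2 fun x hx => ?_
      haveI := GrothLib.DualTF27.isRegular_projSpace k r x
      haveI := GrothLib.QuasiFlat.finite_stalk F hF x
      have hs : Subsingleton (F.presheaf.stalk x) := by
        refine not_nontrivial_iff_subsingleton.1 fun hnt => ?_
        have h2 := (GrothLib.Depth.depth_le_supportDim ((CohB1.ProjSpace r k).presheaf.stalk x) (F.presheaf.stalk x)).trans
          ((Module.supportDim_le_ringKrullDim _ _).trans_eq (GrothLib.SerrePn27.dim_stalk_closedPoint x hx))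
        have h2' : LocCoh.depth ((CohB1.ProjSpace r k).presheaf.stalk x) (F.presheaf.stalk x) ≤ (r : ℕ∞) :=
          WithBot.coe_le_coe.1 h2
        have h3 : n < r := by exact_mod_cast lt_of_lt_of_le (h x hx) h2'
        omega
      refine subsingleton_of_forall_eq 0 fun y => ?_
      rw [← y.mk₀_id_comp, (ModuleCat.isZero_of_subsingleton (ModuleCat.of _ (F.presheaf.stalk x))).eq_of_src (𝟙 _) 0,
        CategoryTheory.Abelian.Ext.mk₀_zero, CategoryTheory.Abelian.Ext.zero_comp]

end Groth.Agent.S2928
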