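import Groth.Statements.S18195
import Groth.Agent.Lib.LocImm8.Affine
import Mathlib.AlgebraicGeometry.Morphisms.Separated
import Mathlib.AlgebraicGeometry.Morphisms.UniversallyInjective
import Mathlib.AlgebraicGeometry.PullbackCarrier

set_option autoImplicit false
set_option backward.isDefEq.respectTransparency false
universe u
open LocImm

namespace Groth.Agent.S18195

open CategoryTheory AlgebraicGeometry in
/-- Let `f : X ⟶ Y` and `g : Y ⟶ Z` be morphisms of Noetherian schemes with `g` separated and `f ≫ g` a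
localizing immersion (localizing and injective on points). If `f` has schematically dense image,
i.e. each ring map `Γ(Y, U) → Γ(X, f⁻¹U)` is injective, then `f` is a localizing immersion. -/
theorem result {X Y Z : Scheme.{u}} [IsNoetherian X] [IsNoetherian Y] [IsNoetherian Z]
    (f : X ⟶ Y) (g : Y ⟶ Z) (hfg : LocImm.IsLocImmersion (f ≫ g)) [IsSeparated g]
    (hd : ∀ U : Y.Opens, Function.Injective (f.app U).hom) : LocImm.IsLocImmersion f := by
  refine ⟨fun x => ?_, fun a b e => hfg.2 (congrArg (fun y => g y) e)⟩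
  obtain ⟨V, hxV, hV, hW, hQ⟩ := GrothLib.LocImm8.exists_affine_nhd hfg x
  let W : X.Opens := (f ≫ g) ⁻¹ᵁ V
  have hxW : x ∈ W := hxV
  obtain ⟨U, hU, hxU, hUV⟩ := exists_isAffineOpen_mem_and_subset (x := f x) (U := g ⁻¹ᵁ V) hxV
  let A := Γ(Z, V)
  let φ : A ⟶ Γ(X, W) := (f ≫ g).app V
  obtain ⟨b, hbU, hxb⟩ := hW.exists_basicOpen_le (V := f ⁻¹ᵁ U ⊓ W) ⟨x, hxU, hxV⟩ hxW
  have hQ' := hQ
  algebraize [φ.hom]
  obtain ⟨M, hM⟩ := hQ'
  obtain ⟨⟨a, s⟩, has⟩ := IsLocalization.surj M b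
  change b * φ s = φ a at has
  have hbo : X.basicOpen (φ a) = X.basicOpen b := by
    rw [← has, Scheme.basicOpen_mul, X.basicOpen_of_isUnit (show IsUnit (φ s) from IsLocalization.map_units _ s),
      inf_eq_left]
    exact X.basicOpen_le b
  let c : Γ(Y, U) := g.appLE V U hUV a
  have hpre : f ⁻¹ᵁ Y.basicOpen c = X.basicOpen (φ a) := by
    have h1 : Y.basicOpen c = U ⊓ g ⁻¹ᵁ Z.basicOpen a := Scheme.basicOpen_appLE g _ _ _ a
    have h2 : X.basicOpen (φ a) = (f ≫ g) ⁻¹ᵁ Z.basicOpen a := (Scheme.preimage_basicOpen (f ≫ g) a).symm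
    rw [h1, h2, Scheme.Hom.preimage_inf, ← Scheme.Hom.comp_preimage, inf_eq_right, ← h2, hbo]
    exact hbU.trans inf_le_left
  refine ⟨⟨_, hU.basicOpen c⟩, ⟨_, hW.basicOpen (φ a)⟩, (show x ∈ X.basicOpen (φ a) by rw [hbo]; exact hxb), hpre.ge, ?_⟩
  let U' := Y.basicOpen c
  let W' := X.basicOpen (φ a)
  let Va := Z.basicOpen a
  let ψ : Γ(Z, Va) ⟶ Γ(X, W') := (f ≫ g).appLE Va W' (Scheme.preimage_basicOpen (f ≫ g) a).ge
  haveI := hV.isLocalization_basicOpen a
  haveI := hW.isLocalization_basicOpen (φ a)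
  have hψ : LocImm.IsLocHom ψ.hom := by
    refine GrothLib.LocImm8.isLocHom_away a φ.hom ψ.hom (fun z => ?_) hQ
    show (Z.presheaf.map (homOfLE (Z.basicOpen_le a)).op ≫ ψ) z =
      (φ ≫ X.presheaf.map (homOfLE (X.basicOpen_le (φ a))).op) z
    congr 2
    simp only [ψ, φ, Scheme.Hom.app_eq_appLE, Scheme.Hom.appLE_map]
    exact Scheme.Hom.map_appLE _ _ _
  have hUVa : U' ≤ g ⁻¹ᵁ Va := (Scheme.basicOpen_appLE g _ _ _ a).trans_le inf_le_right
  let χ : Γ(Y, U') ⟶ Γ(X, W') := f.appLE U' W' hpre.ge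
  have hχ : Function.Injective χ.hom := by
    haveI : IsIso (X.presheaf.map (homOfLE hpre.ge).op) := by
      have : (homOfLE hpre.ge) = eqToHom hpre.symm := Subsingleton.elim _ _
      rw [this]; infer_instance
    show Function.Injective ((f.app U' ≫ X.presheaf.map (homOfLE hpre.ge).op) : _ ⟶ _).hom
    exact ((ConcreteCategory.bijective_of_isIso (X.presheaf.map (homOfLE hpre.ge).op)).1).comp (hd U')
  show LocImm.IsLocHom χ.hom
  have hcomp : ∀ z, χ (g.appLE Va U' hUVa z) = ψ z := by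
    intro z
    show (g.appLE Va U' hUVa ≫ χ) z = ψ z
    rw [Scheme.Hom.appLE_comp_appLE]
  letI := ψ.hom.toAlgebra
  obtain ⟨S, hS⟩ := hψ
  letI := χ.hom.toAlgebra
  refine ⟨(IsUnit.submonoid Γ(X, W')).comap χ.hom.toMonoidHom, ⟨fun t => t.2, fun z => ?_, fun {p q} e => ?_⟩⟩
  · obtain ⟨⟨r, t⟩, hr⟩ := IsLocalization.surj S z
    refine ⟨⟨g.appLE Va U' hUVa r, ⟨g.appLE Va U' hUVa t, ?_⟩⟩, ?_⟩
    · show IsUnit (χ (g.appLE Va U' hUVa t.1))
      rw [hcomp]
      exact IsLocalization.map_units Γ(X, W') t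
    · show z * χ (g.appLE Va U' hUVa t.1) = χ (g.appLE Va U' hUVa r)
      rw [hcomp, hcomp]
      exact hr
  · exact ⟨1, by rw [hχ e]⟩

end Groth.Agent.S18195
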