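import Groth.Statements.S11460
import Groth.Agent.Lib.HB26.Spread
import Groth.Agent.Lib.RegSeqLoc.Scheme
import Groth.Agent.Lib.WeilExt.Extend

set_option autoImplicit false
universe u
open CategoryTheory AlgebraicGeometry
open DefT

namespace Groth.Agent.S11460

/-- Let X be smooth over a field k and Y ⊆ X a closed subscheme which is Cohen–Macaulay of codimension 2
(all local rings of Y Cohen–Macaulay, and dim O_{X,y} = dim O_{Y,y} + 2 at every point y of Y). Then
each point of Y has an affine open neighbourhood U in X and an (r+1) × r matrix φ of functions on U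
whose signed maximal minors f_i generate the ideal of Y ∩ U and give an exact sequence 0 → O(U)^r →
O(U)^{r+1} → O(U), hence a resolution of O_{Y ∩ U} on the affine U. -/
theorem result (k : Type u) [Field k]
    (X Y : Scheme.{u}) (f : X ⟶ Spec (CommRingCat.of k)) [Smooth f] (ι : Y ⟶ X) [IsClosedImmersion ι]
    (hCM : ∀ y : Y, LocCoh.IsCohenMacaulayLocalRing (Y.presheaf.stalk y))
    (hcodim : ∀ y : Y, ringKrullDim (Y.presheaf.stalk y) + 2 = ringKrullDim (X.presheaf.stalk (ι.base y)))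
    (y : Y) :
    ∃ U : X.affineOpens, ι.base y ∈ (U : X.Opens) ∧ ∃ (r : ℕ) (φ : Matrix (Fin (r + 1)) (Fin r) Γ(X, U)),
      (Ideal.span (Set.range (fun i : Fin (r + 1) => (-1 : Γ(X, U)) ^ (i : ℕ) * ((φ).submatrix i.succAbove id).det)) = ι.ker.ideal U ∧
        Function.Injective (φ).mulVecLin ∧
        LinearMap.range (φ).mulVecLin = LinearMap.ker (Fintype.linearCombination Γ(X, U) (fun i : Fin (r + 1) => (-1 : Γ(X, U)) ^ (i : ℕ) * ((φ).submatrix i.succAbove id).det))) := by
  haveI : IsLocallyNoetherian X := LocallyOfFiniteType.isLocallyNoetherian f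
  obtain ⟨_, ⟨U, hU, rfl⟩, hxU, -⟩ :=
    X.isBasis_affineOpens.exists_subset_of_mem_open (Set.mem_univ (ι.base y)) isOpen_univ
  let U' : X.affineOpens := ⟨U, hU⟩
  haveI : IsNoetherianRing Γ(X, U) := IsLocallyNoetherian.component_noetherian U'
  letI : Algebra Γ(X, U) (X.presheaf.stalk (ι.base y)) :=
    TopCat.Presheaf.algebra_section_stalk X.presheaf (⟨ι.base y, hxU⟩ : U)
  haveI := hU.isLocalization_stalk ⟨ι.base y, hxU⟩
  haveI : IsRegularLocalRing (X.presheaf.stalk (ι.base y)) :=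
    GrothLib.WeilExt.isRegularLocalRing_stalk_of_smooth f (GrothLib.WeilExt.isRegularLocalRing_stalk_spec k) (ι.base y)
  let J := (ι.ker.ideal U').map (algebraMap Γ(X, U) (X.presheaf.stalk (ι.base y)))
  have hJ : RingHom.ker (ι.stalkMap y).hom = J := GrothLib.RegSeqLoc.ker_stalkMap ι y U' hxU
  let e : (X.presheaf.stalk (ι.base y) ⧸ J) ≃+* Y.presheaf.stalk y :=
    (Ideal.quotEquivOfEq hJ.symm).trans
      (RingHom.quotientKerEquivOfSurjective (ι.stalkMap_surjective y))
  haveI := hCM y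
  haveI : LocCoh.IsCohenMacaulayLocalRing (X.presheaf.stalk (ι.base y) ⧸ J) :=
    GrothLib.HB26.isCohenMacaulayLocalRing_of_ringEquiv e.symm
  obtain ⟨r, φL, h1, -, h2, h3⟩ := GrothLib.HB26.exists_minors_presentation J
    (by rw [ringKrullDim_eq_of_ringEquiv e]; exact hcodim y)
  obtain ⟨g, hg, hS⟩ := GrothLib.HB26.exists_spread (L := X.presheaf.stalk (ι.base y))
    (hU.primeIdealOf ⟨ι.base y, hxU⟩).asIdeal (ι.ker.ideal U') φL h1 h2 h3
  letI : Algebra Γ(X, U) Γ(X, X.basicOpen g) :=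
    (X.presheaf.map (homOfLE (X.basicOpen_le g)).op).hom.toAlgebra
  obtain ⟨φ, hφ⟩ := hS Γ(X, X.basicOpen g) (hU.isLocalization_basicOpen g)
  have hmem : ι.base y ∈ X.basicOpen g :=
    (X.mem_basicOpen g (ι.base y) hxU).2
      (IsLocalization.map_units (X.presheaf.stalk (ι.base y))
        (⟨g, hg⟩ : (hU.primeIdealOf ⟨ι.base y, hxU⟩).asIdeal.primeCompl))
  refine ⟨X.affineBasicOpen (U := U') g, hmem, r, φ, hφ.1.trans ?_, hφ.2⟩
  exact ι.ker.map_ideal_basicOpen U' g

end Groth.Agent.S11460
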