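import Groth.Statements.S5242
import Groth.Agent.Lib.MultLocal.Main
import Groth.Agent.Lib.Hopf.Descent

set_option autoImplicit false
universe u
open TensorProduct SGA3b
open SGA3b

namespace Groth.Agent.S5242

/-- Let G = Spec A be an R-group of multiplicative type and of finite type and n > 0 an integer. Then
the kernel ₙG = Spec (A/J) of the n-th power map of G, J being the ideal generated by the image of
the augmentation ideal under the n-th power endomorphism (a Hopf ideal; the instance hypothesis
holds automatically for this J), is an R-group of multiplicative type which is finite over R.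
(Affine group schemes over an affine base are taken in Hopf-algebra form; base change is the tensor
product; a homomorphism of groups Spec A ⟶ Spec C is a bialgebra map C → A.) -/
theorem result (R : Type u) [CommRing R] (A : Type u) [CommRing A] [HopfAlgebra R A]
    (hft : Algebra.FiniteType R A) (h : IsMultType R A) (n : ℕ) (hn : 0 < n)
    (J : Ideal A) [J.IsHopfIdeal R] (hJ : J = torsionIdeal R A n) :
    IsMultType R (A ⧸ J) ∧ Module.Finite R (A ⧸ J) := by
  haveI := hft
  obtain ⟨s, hs, hloc⟩ := h
  let π := Bialgebra.Quotient.mkBialgHom (R := R) J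
  have hπ : GrothLib.MultLocal.IsKerPow π n := ⟨Ideal.Quotient.mk_surjective, by
    ext x
    rw [RingHom.mem_ker, ← hJ]
    exact Ideal.Quotient.eq_zero_iff_mem⟩
  have key : ∀ f ∈ s, IsMultTypeConst (Localization.Away f) (Localization.Away f ⊗[R] (A ⧸ J)) ∧
      Module.Finite (Localization.Away f) (Localization.Away f ⊗[R] (A ⧸ J)) := by
    intro f hf
    obtain ⟨R', _, _, hff, M, _, ⟨e⟩⟩ := hloc f hf
    letI : Algebra R R' := Algebra.compHom R' (algebraMap R (Localization.Away f))
    haveI : IsScalarTower R (Localization.Away f) R' := IsScalarTower.of_algebraMap_eq fun _ => rfl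
    obtain ⟨g, hg⟩ := GrothLib.MultLocal.exists_frame_of_equiv (GrothLib.Hopf.trivOfAway (Localization.Away f) R' e)
    obtain ⟨gQ, hgQ, -⟩ := GrothLib.MultLocal.exists_frame_kernel π hπ hg
    have hgQ' := hgQ.push (GrothLib.Hopf.cancelBaseChange R (Localization.Away f) R' (A ⧸ J)).symm
    refine ⟨⟨R', inferInstance, inferInstance, hff, _, inferInstance, ⟨hgQ'.equiv.symm⟩⟩, ?_⟩
    haveI : Module.Finite R' (R' ⊗[Localization.Away f] (Localization.Away f ⊗[R] (A ⧸ J))) := by
      cases subsingleton_or_nontrivial R' with
      | inl _ =>
        haveI := Module.subsingleton R' (R' ⊗[Localization.Away f] (Localization.Away f ⊗[R] (A ⧸ J)))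
        infer_instance
      | inr _ =>
        haveI := GrothLib.MultLocal.fg_of_frame hg
        haveI := GrothLib.MultLocal.finite_quot_powSub (M := M) hn
        exact Module.Finite.of_basis ((MonoidAlgebra.basis _ R').map hgQ'.equiv.toLinearEquiv)
    exact Module.Finite.of_finite_tensorProduct_of_faithfullyFlat R'
  refine ⟨⟨s, hs, fun f hf => (key f hf).1⟩, ?_⟩
  exact Module.Finite.of_localizationSpan' s hs (Mₚ := fun f : s => Localization.Away f.1 ⊗[R] (A ⧸ J))
    (Rₚ := fun f : s => Localization.Away f.1)
    (fun f => TensorProduct.mk R (Localization.Away f.1) (A ⧸ J) 1) fun f => (key f.1 f.2).2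

end Groth.Agent.S5242
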