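import Groth.Statements.S2969
import Groth.Agent.Lib.MultLocal.Main
import Mathlib.RingTheory.Etale.Field
import Mathlib.RingTheory.Unramified.Field

set_option autoImplicit false
universe u
open TensorProduct SGA3b
open SGA3b

namespace Groth.Agent.S2969

/-- Let k be a field and H = Spec A a k-group of multiplicative type and of finite type. Then H is
isotrivial: there is a finite separable extension k' of k over which H becomes diagonalisable (of
finite type). (Affine group schemes over an affine base are taken in Hopf-algebra form; base change
is the tensor product.) -/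
theorem result (k : Type u) [Field k] (A : Type u) [CommRing A] [HopfAlgebra k A]
    (hft : Algebra.FiniteType k A) (h : IsMultType k A) :
    ∃ (k' : Type u) (_ : Field k') (_ : Algebra k k'), Module.Finite k k' ∧ Algebra.IsSeparable k k' ∧ IsDiagFT k' (k' ⊗[k] A) := by
  haveI := hft
  obtain ⟨E, _, _, q, M, _, hE, hq, -, hfg, g, hg⟩ :=
    GrothLib.MultLocal.exists_etale_frame_of_isMultType h (⊥ : Ideal k)
  haveI : Module.Finite k E := Algebra.FormallyUnramified.finite_of_free k E
  obtain ⟨m, hm, -⟩ := Ideal.exists_le_maximal q hq.ne_top
  haveI := hm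
  letI := Ideal.Quotient.field m
  haveI : Algebra.FormallyUnramified k (E ⧸ m) :=
    Algebra.FormallyUnramified.of_surjective (Ideal.Quotient.mkₐ k m) (Ideal.Quotient.mkₐ_surjective k m)
  haveI : Module.Finite k (E ⧸ m) := Module.Finite.quotient k m
  refine ⟨E ⧸ m, inferInstance, inferInstance, inferInstance, Algebra.FormallyUnramified.isSeparable k (E ⧸ m),
    M, inferInstance, hfg, ⟨(hg.map (Ideal.Quotient.mkₐ k m)).equiv.symm⟩⟩

end Groth.Agent.S2969
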