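import Groth.Statements.S5285
import Groth.Agent.Lib.MultLocal.Formal
import Groth.Agent.Lib.MultLocal.DescIdem2
import Groth.Agent.Lib.MultLocal.LevelFlat
import Groth.Agent.Lib.MultLocal.FiniteLift
import Groth.Agent.Lib.Hopf.Descent
import Groth.Agent.S3866

set_option autoImplicit false
universe u
open TensorProduct SGA3b
open SGA3b

namespace Groth.Agent.S5285

/-- Let A be a Noetherian ring, separated and complete for the I-adic topology, and H = Spec C an affine
A-group with C of finite type over A, flat over A at the points of H₀ (C localised at any prime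
containing IC is flat over A), such that H₀ = Spec ((A/I) ⊗ C) is an isotrivial (A/I)-group of
multiplicative type. Then H has an open and closed subgroup G which is an isotrivial A-group of
multiplicative type with G₀ = H₀: there is an idempotent e of C lying in IC such that the ideal (e)
is a Hopf ideal and Spec (C/(e)) is isotrivial of multiplicative type. (Affine group schemes over an
affine base are taken in Hopf-algebra form; base change is the tensor product; a homomorphism of
groups Spec A ⟶ Spec C is a bialgebra map C → A.) -/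
theorem result (A : Type u) [CommRing A] [IsNoetherianRing A] (I : Ideal A) [IsAdicComplete I A]
    (C : Type u) [CommRing C] [HopfAlgebra A C] (hft : Algebra.FiniteType A C)
    (hfl : ∀ (q : Ideal C) [q.IsPrime], Ideal.map (algebraMap A C) I ≤ q → Module.Flat A (Localization.AtPrime q))
    (h0 : IsIsotrivial (A ⧸ I) ((A ⧸ I) ⊗[A] C)) :
    ∃ e : C, IsIdempotentElem e ∧ e ∈ Ideal.map (algebraMap A C) I ∧
      ∃ _ : (Ideal.span {e}).IsHopfIdeal A, IsIsotrivial A (C ⧸ Ideal.span {e}) := by
  obtain ⟨E₀, _, _, hE, hfin, hff, M, _, ⟨e⟩⟩ := h0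
  haveI : HenselianRing A I := inferInstance
  letI : Algebra A E₀ := Algebra.compHom E₀ (algebraMap A (A ⧸ I))
  haveI : IsScalarTower A (A ⧸ I) E₀ := IsScalarTower.of_algebraMap_eq fun _ => rfl
  obtain ⟨B, _, _, π, hBfin, hBet, hBff, hπ, hker⟩ := GrothLib.MultLocal.exists_finite_etale_ff_lift I E₀
  haveI := hBfin
  haveI := hBff
  haveI := hft
  haveI : IsNoetherianRing B := IsNoetherianRing.of_finite A B
  haveI : IsNoetherianRing (B ⊗[A] C) := Algebra.FiniteType.isNoetherianRing B _
  let J := I.map (algebraMap A B)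
  haveI : IsAdicComplete J B :=
    (IsAdicComplete.map_algebraMap_iff I B (S := B)).mpr (Groth.Agent.S3866.result A I B)
  obtain ⟨h₀, hh₀⟩ := GrothLib.MultLocal.exists_frame_of_equiv (GrothLib.Hopf.trivOfAway (A ⧸ I) E₀ e)
  let q : E₀ →ₐ[A] B ⧸ J :=
    ((Ideal.quotientKerAlgEquivOfSurjective hπ).symm.trans (Ideal.quotientEquivAlgOfEq A hker)).toAlgHom
  obtain ⟨f, d, hsurj, hd, hfd, hdk, hdJ, -⟩ := GrothLib.MultLocal.exists_formal_subgroup J
    (fun n => GrothLib.MultLocal.flat_tensor_of_flat_at I hfl (B ⧸ J ^ (n + 1)) fun a ha => ⟨n + 1, by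
      rw [IsScalarTower.algebraMap_apply A B (B ⧸ J ^ (n + 1)), ← map_pow, Ideal.Quotient.algebraMap_eq,
        Ideal.Quotient.eq_zero_iff_mem]
      exact Ideal.pow_mem_pow (Ideal.mem_map_of_mem _ ha) _⟩)
    (hh₀.map q)
  have hdI : d ∈ I.map (algebraMap A (B ⊗[A] C)) := by
    rw [IsScalarTower.algebraMap_eq A B (B ⊗[A] C), ← Ideal.map_map]
    exact hdJ
  obtain ⟨e₀, he₀, he₀I, he₀d⟩ := GrothLib.MultLocal.exists_descended_idem (IsAdicComplete.le_jacobson_bot I)
    f hsurj hd hfd hdk hdI
  subst he₀d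
  obtain ⟨hK, ⟨ε⟩⟩ := GrothLib.MultLocal.exists_hopfIdeal_of_idem e₀ f hsurj hfd hdk
  exact ⟨e₀, he₀, he₀I, hK, B, inferInstance, inferInstance, hBet, hBfin, hBff, M, inferInstance, ⟨ε⟩⟩

end Groth.Agent.S5285
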