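import Groth.Statements.S5298
import Groth.Agent.Lib.MultLocal.LocalCrit

set_option autoImplicit false
universe u
open TensorProduct SGA3b
open SGA3b

namespace Groth.Agent.S5298

/-- Condition (c) (over a local base, where every point is a generization of the closed point and an
open neighbourhood of the closed point is the whole base). Let R be a local ring with maximal ideal
𝔪 and residue field k, and H = Spec C an affine R-group with C of finite presentation over R, flat
over R at the points of the closed fibre (C localised at any prime containing 𝔪C is flat over R),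
whose closed fibre Spec (k ⊗ C) is a k-group of multiplicative type, and such that every fibre Spec
(κ(p) ⊗ C) is connected. Then H is of multiplicative type. (Affine group schemes over an affine base
are taken in Hopf-algebra form; base change is the tensor product; a homomorphism of groups Spec A ⟶
Spec C is a bialgebra map C → A.) -/
theorem result (R : Type u) [CommRing R] [IsLocalRing R]
    (C : Type u) [CommRing C] [HopfAlgebra R C] (hfp : Algebra.FinitePresentation R C)
    (hfl : ∀ (q : Ideal C) [q.IsPrime], Ideal.map (algebraMap R C) (IsLocalRing.maximalIdeal R) ≤ q → Module.Flat R (Localization.AtPrime q))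
    (hs : IsMultType (IsLocalRing.ResidueField R) (IsLocalRing.ResidueField R ⊗[R] C))
    (hconn : ∀ (p : Ideal R) [p.IsPrime], ConnectedSpace (PrimeSpectrum (p.ResidueField ⊗[R] C))) :
    IsMultType R C := by
  haveI := hfp
  obtain ⟨R', _, _, _, hR', e, E, _, _, hE, M, _, p, he, -, hp, hk⟩ :=
    GrothLib.MultLocal.exists_clopen_of_local R C hfl hs
  haveI := hE
  haveI := hR'
  have h0 : Coalgebra.counit (R := R') e = 0 := GrothLib.MultLocal.counit_eq_zero_of_clopen p hk
  have he0 : e = 0 := by
    refine he.eq_zero_of_isNilpotent ?_
    rw [nilpotent_iff_mem_prime]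
    intro q hq
    let L := q.ResidueField
    let P := Ideal.comap (algebraMap R (R' ⊗[R] C)) q
    let κ := P.ResidueField
    haveI := hconn P
    let χ : κ →ₐ[R] L := Ideal.ResidueField.mapₐ P q (Algebra.ofId R (R' ⊗[R] C)) rfl
    letI : Algebra κ L := χ.toRingHom.toAlgebra
    haveI : IsScalarTower R κ L := IsScalarTower.of_algebraMap_eq fun r => (χ.commutes r).symm
    let a : R' →ₐ[R] L := (IsScalarTower.toAlgHom R (R' ⊗[R] C) L).comp Algebra.TensorProduct.includeLeft
    let b : C →ₐ[R] L := (IsScalarTower.toAlgHom R (R' ⊗[R] C) L).comp Algebra.TensorProduct.includeRight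
    have hc : ∀ z : R' ⊗[R] C, Coalgebra.counit (R := L) (GrothLib.MultLocal.coefMap C a z) =
        a (Coalgebra.counit (R := R') z) := by
      intro z
      induction z using TensorProduct.induction_on with
      | zero => simp
      | add x y hx hy => simp only [map_add, hx, hy]
      | tmul t c =>
        rw [GrothLib.MultLocal.coefMap_tmul, TensorProduct.counit_tmul, TensorProduct.counit_tmul,
          CommSemiring.counit_apply, CommSemiring.counit_apply, map_smul]
    let σ : L ⊗[R] C ≃ₐc[L] L ⊗[κ] (κ ⊗[R] C) := (GrothLib.Hopf.cancelBaseChange R κ L C).symm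
    have h1 : σ (GrothLib.MultLocal.coefMap C a e) = 0 := by
      refine GrothLib.MultLocal.eq_zero_of_connected_field L ((he.map (GrothLib.MultLocal.coefMap C a)).map σ) ?_
      rw [CoalgHomClass.counit_comp_apply σ, hc, h0, map_zero]
    have h2 : GrothLib.MultLocal.coefMap C a e = 0 := (map_eq_zero_iff σ (EquivLike.injective σ)).mp h1
    have key : ∀ z : R' ⊗[R] C, Algebra.TensorProduct.lift (AlgHom.id R L) b (fun _ _ => Commute.all _ _)
        (GrothLib.MultLocal.coefMap C a z) = algebraMap (R' ⊗[R] C) L z := by
      intro z
      induction z using TensorProduct.induction_on with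
      | zero => simp
      | add x y hx hy => simp only [map_add, hx, hy]
      | tmul t c =>
        rw [GrothLib.MultLocal.coefMap_tmul, Algebra.TensorProduct.lift_tmul]
        change algebraMap (R' ⊗[R] C) L (t ⊗ₜ[R] (1 : C)) * algebraMap (R' ⊗[R] C) L ((1 : R') ⊗ₜ[R] c) = _
        rw [← map_mul, Algebra.TensorProduct.tmul_mul_tmul, _root_.mul_one, _root_.one_mul]
    have h3 := key e
    rw [h2, map_zero] at h3
    exact Ideal.algebraMap_residueField_eq_zero.mp h3.symm
  have hmt := GrothLib.MultLocal.isMultType_of_clopen p hp hk he0
  exact GrothLib.MultLocal.isMultType_of_ff R' hmt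

end Groth.Agent.S5298
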