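import Groth.Statements.S5299
import Groth.Agent.Lib.MultLocal.LocalCrit

set_option autoImplicit false
universe u
open TensorProduct SGA3b
open SGA3b

namespace Groth.Agent.S5299

/-- Condition (b) (over a local base). Let R be a local ring with maximal ideal 𝔪 and residue field k,
and H = Spec C a commutative affine R-group (C cocommutative) with C of finite presentation over R,
flat over R at the points of the closed fibre (C localised at any prime containing 𝔪C is flat over
R), whose closed fibre Spec (k ⊗ C) is a k-group of multiplicative type, and such that for every n >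
0 the kernel ₙH = Spec (C/Jₙ) of the n-th power map is finite over R (Jₙ the ideal generated by the
image of the augmentation ideal under the n-th power endomorphism). Then H is of multiplicative
type. (Affine group schemes over an affine base are taken in Hopf-algebra form; base change is the
tensor product; a homomorphism of groups Spec A ⟶ Spec C is a bialgebra map C → A.) -/
theorem result (R : Type u) [CommRing R] [IsLocalRing R]
    (C : Type u) [CommRing C] [HopfAlgebra R C] [Coalgebra.IsCocomm R C] (hfp : Algebra.FinitePresentation R C)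
    (hfl : ∀ (q : Ideal C) [q.IsPrime], Ideal.map (algebraMap R C) (IsLocalRing.maximalIdeal R) ≤ q → Module.Flat R (Localization.AtPrime q))
    (hs : IsMultType (IsLocalRing.ResidueField R) (IsLocalRing.ResidueField R ⊗[R] C))
    (hfin : ∀ n : ℕ, 0 < n → Module.Finite R (C ⧸ torsionIdeal R C n)) :
    IsMultType R C := by
  haveI := hfp
  obtain ⟨R', _, _, _, hR', e, E, _, _, hE, M, _, p, he, hem, hp, hk⟩ :=
    GrothLib.MultLocal.exists_clopen_of_local R C hfl hs
  haveI := hE
  haveI := hR'
  have he0 : e = 0 := GrothLib.MultLocal.eq_zero_of_torsion_clopen he p hp hk fun n hn => by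
    haveI := hfin n hn
    let π := Ideal.Quotient.mkₐ R (torsionIdeal R C n)
    let Ψ : R' ⊗[R] C →ₐ[R'] R' ⊗[R] (C ⧸ torsionIdeal R C n) := Algebra.TensorProduct.map (AlgHom.id R' R') π
    haveI : Module.Finite R' ((R' ⊗[R] (C ⧸ torsionIdeal R C n)) ⧸ (⊥ : Ideal (R' ⊗[R] (C ⧸ torsionIdeal R C n)))) :=
      Module.Finite.of_surjective (Ideal.Quotient.mkₐ R' ⊥).toLinearMap (Ideal.Quotient.mkₐ_surjective R' _)
    have hΨe : Ψ e ∈ (IsLocalRing.maximalIdeal R').map (algebraMap R' (R' ⊗[R] (C ⧸ torsionIdeal R C n))) := by
      have := Ideal.mem_map_of_mem (Ψ : R' ⊗[R] C →+* R' ⊗[R] (C ⧸ torsionIdeal R C n)) hem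
      rwa [Ideal.map_map, AlgHom.comp_algebraMap] at this
    have h1 : e ∈ RingHom.ker Ψ := RingHom.mem_ker.mpr (Ideal.mem_bot.mp (GrothLib.MultLocal.mem_of_finite_quot
      (IsLocalRing.maximalIdeal_le_jacobson ⊥ |>.trans_eq Ideal.jacobson_bot) _ (he.map Ψ) hΨe))
    have h2 : RingHom.ker Ψ ≤ torsionIdeal R' (R' ⊗[R] C) n := by
      have h3 := Algebra.TensorProduct.lTensor_ker (A := R') π (Ideal.Quotient.mkₐ_surjective R _)
      intro z hz
      have hz' : z ∈ RingHom.ker (Algebra.TensorProduct.map (AlgHom.id R R') π) := hz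
      rw [h3, show RingHom.ker π = torsionIdeal R C n from Ideal.mk_ker] at hz'
      refine Ideal.map_le_iff_le_comap.mpr (Ideal.map_le_iff_le_comap.mpr fun a ha => ?_) hz'
      change (1 : R') ⊗ₜ[R] powConv R C n a ∈ torsionIdeal R' (R' ⊗[R] C) n
      rw [← GrothLib.OT.powConv_baseChange]
      refine Ideal.mem_map_of_mem _ (RingHom.mem_ker.mpr ?_)
      change Coalgebra.counit (R := R') ((1 : R') ⊗ₜ[R] a) = 0
      rw [TensorProduct.counit_tmul, show Coalgebra.counit (R := R) a = 0 from (RingHom.mem_ker.mp ha :), zero_smul]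
    exact h2 h1
  have hmt := GrothLib.MultLocal.isMultType_of_clopen p hp hk he0
  exact GrothLib.MultLocal.isMultType_of_ff R' hmt

end Groth.Agent.S5299
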