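import Groth.Statements.S5430
import Groth.Agent.Lib.DiagGrp.BaseChange
import Groth.Agent.Lib.DiagGrp.TrivialLocus
import Groth.Agent.Lib.GrpSchField.Points
import Mathlib.AlgebraicGeometry.Morphisms.Flat

set_option autoImplicit false
universe u
open CategoryTheory MonoidalCategory CartesianMonoidalCategory MonObj GrpObj AlgebraicGeometry CategoryTheory.Limits
open SGA3x

namespace Groth.Agent.S5430

/-- Let S be a scheme and E an S-group scheme which is an extension of an S-group scheme U with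
connected fibres by an S-group H of multiplicative type and of finite type: p : E → U is a
homomorphism which is surjective, flat and quasi-compact (U is the fpqc quotient E/H) and i : H → E
is its kernel. Then the extension is central: every point of H commutes with every point of E. -/
theorem result (S : Scheme.{u}) (E H U : Over S) [GrpObj E] [GrpObj H] [GrpObj U]
    (p : E ⟶ U) [IsMonHom p] [Surjective p.left] [Flat p.left] [QuasiCompact p.left]
    (i : H ⟶ E) [IsMonHom i] (hker : AlgGrp.IsKernel i p) (hH : SGA3x.IsMultTypeFT H)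
    (hU : ∀ s : S, _root_.IsConnected (U.hom.base ⁻¹' {s})) :
    ∀ (X : Over S) (h : X ⟶ H) (e : X ⟶ E), (h ≫ i) * e = e * (h ≫ i) := by
  classical
  haveI : Mono i := ⟨fun a b e => hker.hom_ext e (toUnit_unique _ _)⟩
  have hnorm : ∀ (T : Over S) (g : T ⟶ E) (n : T ⟶ H), ∃ m, g * (n ≫ i) * g⁻¹ = m ≫ i := by
    intro T g n
    have h : (g * (n ≫ i) * g⁻¹) ≫ p = toUnit T ≫ η[U] := by
      rw [MonObj.mul_comp, MonObj.mul_comp, GrpObj.inv_comp, Category.assoc, hker.w, ← Category.assoc,
        toUnit_unique (n ≫ toUnit H) (toUnit T), ← Hom.one_def, _root_.mul_one, mul_inv_cancel]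
    exact ⟨hker.lift _ _ h, (hker.lift_fst _ _ h).symm⟩
  have hch := GrothLib.DiagGrp.hasChartsFpqc_of_isMultTypeFT hH
  open GrothLib.DiagGrp in
  let z := E.hom
  let HT := Red.bc z H
  letI : GrpObj HT := Functor.grpObjObj
  let kk : ∀ Y : Over E.left, (Over.map z).obj Y ⟶ E := fun Y => Over.homMk Y.hom rfl
  have hkk : ∀ {Y Y' : Over E.left} (a : Y ⟶ Y'), (Over.map z).map a ≫ kk Y' = kk Y := fun a =>
    Over.OverMorphism.ext (Over.w a)
  let h₀ := (GrothLib.DiagGrp.bcPoint z H HT).symm (𝟙 HT)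
  obtain ⟨c, hc⟩ := hnorm _ (kk HT) h₀
  have hcY : ∀ {Y : Over E.left} (a : Y ⟶ HT),
      kk Y * ((GrothLib.DiagGrp.bcPoint z H Y).symm a ≫ i) * (kk Y)⁻¹ = ((Over.map z).map a ≫ c) ≫ i := by
    intro Y a
    have h1 : (GrothLib.DiagGrp.bcPoint z H Y).symm a = (Over.map z).map a ≫ h₀ := by
      rw [Equiv.symm_apply_eq, GrothLib.DiagGrp.bcPoint_comp, Equiv.apply_symm_apply, Category.comp_id]
    rw [Category.assoc, ← hc, MonObj.comp_mul, MonObj.comp_mul, GrpObj.comp_inv, hkk, h1, Category.assoc]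
  let w : HT ⟶ HT := GrothLib.DiagGrp.bcPointMulEquiv z H HT (c * h₀⁻¹)
  have hw : ∀ {Y : Over E.left} (a : Y ⟶ HT), a ≫ w = GrothLib.DiagGrp.bcPointMulEquiv z H Y
      (((Over.map z).map a ≫ c) * ((GrothLib.DiagGrp.bcPoint z H Y).symm a)⁻¹) := by
    intro Y a
    have h1 : (GrothLib.DiagGrp.bcPoint z H Y).symm a = (Over.map z).map a ≫ h₀ := by
      rw [Equiv.symm_apply_eq, GrothLib.DiagGrp.bcPoint_comp, Equiv.apply_symm_apply, Category.comp_id]
    rw [h1, ← GrpObj.comp_inv, ← MonObj.comp_mul]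
    exact (GrothLib.DiagGrp.bcPoint_comp z a _).symm
  have hwmul : ∀ {Y : Over E.left} (a b : Y ⟶ HT), (a * b) ≫ w = (a ≫ w) * (b ≫ w) := by
    intro Y a b
    rw [hw, hw, hw, ← map_mul]
    congr 1
    have hs : (GrothLib.DiagGrp.bcPoint z H Y).symm (a * b) =
        (GrothLib.DiagGrp.bcPoint z H Y).symm a * (GrothLib.DiagGrp.bcPoint z H Y).symm b :=
      map_mul (GrothLib.DiagGrp.bcPointMulEquiv z H Y).symm a b
    have hcm : (Over.map z).map (a * b) ≫ c = ((Over.map z).map a ≫ c) * ((Over.map z).map b ≫ c) := by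
      rw [← cancel_mono i, MonObj.mul_comp, ← hcY, ← hcY, ← hcY, hs, MonObj.mul_comp]
      simp only [_root_.mul_assoc, inv_mul_cancel_left]
    rw [hcm, hs]
    letI : CommGroup ((Over.map z).obj Y ⟶ H) :=
      { (inferInstance : Group ((Over.map z).obj Y ⟶ H)) with mul_comm := GrothLib.DiagGrp.mul_comm_of_charts hch _ }
    rw [_root_.mul_inv_rev, _root_.mul_comm ((GrothLib.DiagGrp.bcPoint z H Y).symm b)⁻¹, _root_.mul_mul_mul_comm]
  haveI : IsMonHom w := GrothLib.GrpSchField.isMonHom_of_mul w (by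
    have h1 := hwmul (fst HT HT) (snd HT HT)
    rw [Hom.mul_def, lift_fst_snd, Category.id_comp, Hom.mul_def, ← lift_map] at h1
    rw [h1, lift_fst_snd, Category.id_comp])
  have hchT := hch.baseChange z
  haveI := GrothLib.DiagGrp.isClosedImmersion_one_of_charts hchT
  haveI : LocallyOfFinitePresentation HT.hom := by
    have := GrothLib.DiagGrp.lfp_of_isMultTypeFT hH
    exact inferInstanceAs (LocallyOfFinitePresentation (Limits.pullback.snd H.hom z))
  haveI : LocallyOfFinitePresentation η[HT].left := by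
    refine GrothLib.DiagGrp.lfp_of_comp_of_lft _ HT.hom ?_ inferInstance
    rw [Over.w η[HT]]
    exact inferInstanceAs (LocallyOfFinitePresentation (𝟙 E.left))
  haveI : LocallyOfFinitePresentation (Limits.pullback.fst w.left η[HT].left) := inferInstance
  obtain ⟨V, hVc, hV, hVtriv⟩ := GrothLib.DiagGrp.exists_clopen_trivial w (hchT.mono fun _ _ _ => trivial)
  -- triviality on a point of the parameter space
  let P : Over E.left → Prop := fun Y => ∀ h : (Over.map z).obj Y ⟶ H, kk Y * (h ≫ i) = (h ≫ i) * kk Y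
  have hP : ∀ {Z : Scheme.{u}} (σ : Z ⟶ E.left), GrothLib.DiagGrp.TrivOver w σ ↔
      ∀ (Y : Over E.left) (τ : Y.left ⟶ Z), τ ≫ σ = Y.hom → P Y := by
    intro Z σ
    refine ⟨fun hσ Y τ hτ h => ?_, fun hσ Y τ hτ a => ?_⟩
    · have h2 := hσ Y τ hτ (GrothLib.DiagGrp.bcPoint z H Y h)
      rw [hw, ← map_one (GrothLib.DiagGrp.bcPointMulEquiv z H Y), EmbeddingLike.apply_eq_iff_eq,
        Equiv.symm_apply_apply, mul_inv_eq_one] at h2
      have h3 := hcY (GrothLib.DiagGrp.bcPoint z H Y h)
      rw [h2, Equiv.symm_apply_apply, mul_inv_eq_iff_eq_mul] at h3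
      exact h3
    · rw [hw, ← map_one (GrothLib.DiagGrp.bcPointMulEquiv z H Y), EmbeddingLike.apply_eq_iff_eq, mul_inv_eq_one,
        ← cancel_mono i, ← hcY, mul_inv_eq_iff_eq_mul]
      exact hσ Y τ hτ _
  have hmem : ∀ {L : Type u} [Field L] (σ : Spec (CommRingCat.of L) ⟶ E.left),
      GrothLib.DiagGrp.TrivOver w σ ↔ σ.base (IsLocalRing.closedPoint L) ∈ V := fun {L} _ σ => by
    rw [hV, GrothLib.DiagGrp.trivOver_iff_pullback_eq_one, ← GrothLib.DiagGrp.trivOver_field_iff w σ]
  have hsat : ∀ x x' : E.left, p.left.base x = p.left.base x' → x ∈ V → x' ∈ V := by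
    intro x x' hxx hx
    obtain ⟨y, hy, hy'⟩ := Scheme.Pullback.exists_preimage_pullback (f := p.left) (g := p.left) x x' hxx
    let e := (Limits.pullback p.left p.left).fromSpecResidueField y
    let σ := e ≫ Limits.pullback.fst p.left p.left
    let σ' := e ≫ Limits.pullback.snd p.left p.left
    have hσσ : σ ≫ p.left = σ' ≫ p.left := by simp only [σ, σ', Category.assoc, Limits.pullback.condition]
    have he : e.base (IsLocalRing.closedPoint _) = y := Scheme.fromSpecResidueField_apply _ _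
    have h1 : σ.base (IsLocalRing.closedPoint _) = x := by
      simp only [σ, Scheme.Hom.comp_apply]; rw [he, hy]
    have h2 : σ'.base (IsLocalRing.closedPoint _) = x' := by
      simp only [σ', Scheme.Hom.comp_apply]; rw [he, hy']
    rw [← h2]
    refine (hmem σ').1 ((hP σ').2 ?_)
    intro Y' τ hτ h
    have hT := (hP σ).1 ((hmem σ).2 (h1.symm ▸ hx))
    let Y : Over E.left := Over.mk (τ ≫ σ)
    have hz : Y.hom ≫ z = Y'.hom ≫ z := by
      change (τ ≫ σ) ≫ z = _
      rw [← hτ]
      simp only [z, ← Over.w p, Category.assoc, reassoc_of% hσσ]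
    let j : (Over.map z).obj Y' ⟶ (Over.map z).obj Y := Over.homMk (𝟙 _) ((Category.id_comp _).trans hz)
    let j' : (Over.map z).obj Y ⟶ (Over.map z).obj Y' := Over.homMk (𝟙 _) ((Category.id_comp _).trans hz.symm)
    have hk : (j ≫ kk Y) ≫ p = kk Y' ≫ p := Over.OverMorphism.ext (by
      change (𝟙 _ ≫ (τ ≫ σ)) ≫ p.left = Y'.hom ≫ p.left
      rw [← hτ]
      simp only [Category.id_comp, Category.assoc, σ, σ', Limits.pullback.condition])
    have hl : ((j ≫ kk Y)⁻¹ * kk Y') ≫ p = toUnit _ ≫ η[U] := by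
      rw [MonObj.mul_comp, GrpObj.inv_comp, hk, inv_mul_cancel, Hom.one_def]
    have hn := hker.lift_fst _ _ hl
    have hcomm : Commute (hker.lift _ _ hl ≫ i) (h ≫ i) := by
      rw [Commute, SemiconjBy, ← MonObj.mul_comp, ← MonObj.mul_comp, GrothLib.DiagGrp.mul_comm_of_charts hch]
    have h3 : Commute (j ≫ kk Y) (h ≫ i) := by
      have h4 := congrArg (j ≫ ·) (hT Y τ rfl (j' ≫ h))
      simp only [MonObj.comp_mul, ← Category.assoc] at h4
      rwa [show j ≫ j' = 𝟙 _ from Over.OverMorphism.ext (Category.id_comp _), Category.id_comp] at h4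
    have h5 := h3.mul_left hcomm
    rwa [hn, mul_inv_cancel_left] at h5
  let V' : Set U.left := p.left.base '' (V : Set E.left)
  have hpre : p.left.base ⁻¹' V' = (V : Set E.left) :=
    Set.Subset.antisymm (fun x ⟨x₀, hx₀, e⟩ => hsat x₀ x e hx₀) (Set.subset_preimage_image _ _)
  have hq : Topology.IsQuotientMap p.left.base := Flat.isQuotientMap_of_surjective p.left
  have hV' : IsClopen V' := ⟨hq.isClosed_preimage.1 (hpre ▸ hVc), hq.isOpen_preimage.1 (hpre ▸ V.isOpen)⟩
  have hunit : ∀ s : S, η[E].left.base s ∈ V := by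
    intro s
    let σ := S.fromSpecResidueField s ≫ η[E].left
    have h1 : σ.base (IsLocalRing.closedPoint _) = η[E].left.base s := by
      simp only [σ, Scheme.Hom.comp_apply]
      rw [Scheme.fromSpecResidueField_apply]
    rw [← h1]
    refine (hmem σ).1 ((hP σ).2 ?_)
    intro Y τ hτ h
    have hk1 : kk Y = 1 := by
      apply Over.OverMorphism.ext
      change Y.hom = (toUnit ((Over.map z).obj Y)).left ≫ η[E].left
      have h2 : η[E].left ≫ z = 𝟙 S := Over.w η[E]
      have h3 : (toUnit ((Over.map z).obj Y)).left = Y.hom ≫ z := (Category.comp_id _).symm.trans (Over.w _)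
      rw [h3, ← hτ]
      simp only [σ, Category.assoc, reassoc_of% h2]
      erw [Category.id_comp]
    rw [hk1, _root_.one_mul, _root_.mul_one]
  have hall : ∀ x : E.left, x ∈ V := by
    intro x
    let s := E.hom.base x
    have hup : p.left.base x ∈ U.hom.base ⁻¹' {s} := congr($(Over.w p) x)
    have hu1 : p.left.base (η[E].left.base s) ∈ U.hom.base ⁻¹' {s} := by
      have : (η[E].left ≫ p.left) ≫ U.hom = 𝟙 S := by rw [Category.assoc, Over.w p]; exact Over.w η[E]
      exact congr($this s)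
    have hsub := (hU s).isPreconnected.subset_isClopen hV' ⟨_, hu1, _, hunit s, rfl⟩
    obtain ⟨x₀, hx₀, e⟩ := hsub hup
    exact hsat x₀ x e hx₀
  intro X h e
  let Y : Over E.left := Over.mk e.left
  let j : X ⟶ (Over.map z).obj Y := Over.homMk (𝟙 _) ((Category.id_comp _).trans (Over.w e))
  let j' : (Over.map z).obj Y ⟶ X := Over.homMk (𝟙 _) ((Category.id_comp _).trans (Over.w e).symm)
  have hY : P Y := (hP V.ι).1 ((GrothLib.DiagGrp.trivOver_iff_pullback_eq_one w _).mp hVtriv) Y
    (IsOpenImmersion.lift V.ι Y.hom (by rw [V.range_ι]; exact fun y _ => hall y))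
    (IsOpenImmersion.lift_fac _ _ _)
  have h6 := congrArg (j ≫ ·) (hY (j' ≫ h))
  simp only [MonObj.comp_mul, ← Category.assoc] at h6
  rw [show j ≫ j' = 𝟙 _ from Over.OverMorphism.ext (Category.id_comp _), Category.id_comp,
    show j ≫ kk Y = e from Over.OverMorphism.ext (Category.id_comp _)] at h6
  exact h6.symm

end Groth.Agent.S5430
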