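import Groth.Statements.S18285
import Groth.Agent.Lib.MagnetSep25.Basic
-- import your own Groth.Agent.* helpers here

set_option autoImplicit false
universe u
open CategoryTheory MonoidalCategory CartesianMonoidalCategory MonObj AlgebraicGeometry Opposite
open Magnet

namespace Groth.Agent.S18285
open CategoryTheory CategoryTheory.Limits MonoidalCategory CartesianMonoidalCategory Magnet Magnet.MonAct
open scoped MonObj


/-- Let X be an S-scheme separated over S with an action of the diagonalizable monoid scheme A(M)_S of a
commutative monoid M, and N a submonoid of M. Then the canonical map from the attractor X^N to X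
(evaluation at the unit section of A(N)_S) is a monomorphism: for every S-scheme T it is injective
on T-points. (The published statement allows X to be an algebraic space over S; here X is a scheme.) -/
theorem result (S : Scheme.{u}) (M : Type) [AddCommMonoid M]
    (X : Over S) [IsSeparated X.hom] (a : Magnet.MonAct (Magnet.AMonS S M) X) (N : AddSubmonoid M) (T : Over S) :
    Function.Injective (fun φ => (Magnet.attrToX a N).app (op T) φ) := by
  intro φ ψ e
  apply Subtype.ext
  refine GrothLib.MagnetSep.ext_map (S := S) N.subtype Subtype.val_injective φ.1 ψ.1 ?_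
  apply hom_ext_lift₂
  intro T' g t
  have key : ∀ χ : (attr a N).obj (Opposite.op T),
      lift g t ≫ (AMonS.map S N.subtype ▷ T) ≫ χ.1 =
        lift g (t ≫ (attrToX a N).app (Opposite.op T) χ) ≫ a.act := by
    intro χ
    have h := (mem_eqvHom_iff χ.1).1 χ.2 T' g 1 t
    change lift (lift g 1 ≫ ((MonAct.regular (AMonS S N)).restrict (AMonS.map S N.subtype)).act) t ≫ χ.1 = _ at h
    rw [lift_restrict_act, lift_regular_act, _root_.mul_one] at h
    rw [lift_whiskerRight_assoc, h]
    change _ = lift g (t ≫ lift (toUnit T ≫ η[AMonS S N]) (𝟙 T) ≫ χ.1) ≫ a.act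
    rw [← Category.assoc t, comp_lift, Category.comp_id, Hom.one_def, ← Category.assoc t,
      show t ≫ toUnit T = toUnit T' from toUnit_unique _ _]
  refine (key φ).trans (Eq.trans ?_ (key ψ).symm)
  exact congrArg (fun z : T ⟶ X => lift g (t ≫ z) ≫ a.act) e

end Groth.Agent.S18285
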