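import Groth.Statements.S18295
import Groth.Agent.Lib.MagnetGr25.Global
-- import your own Groth.Agent.* helpers here

set_option autoImplicit false
universe u
open CategoryTheory MonoidalCategory CartesianMonoidalCategory MonObj AlgebraicGeometry Opposite
open Magnet

namespace Groth.Agent.S18295

/-- Let X be an S-scheme affine over S with an action of the diagonalizable monoid scheme A(M)_S of a
commutative monoid M, and N a submonoid (magnet) of M. Then X^N is represented by a closed subscheme
Z of X: there are a closed immersion i : Z → X over S and an isomorphism of the functor of points of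
Z with X^N under which the canonical map X^N → X (evaluation at the unit section) is composition
with i. (Over an affine base the ideal of Z is generated by the homogeneous components of degree
outside N; that description is a separate statement.) -/
theorem result (S : Scheme.{u}) (M : Type)
    [AddCommMonoid M] (N : AddSubmonoid M) (X : Over S) [IsAffineHom X.hom]
    (a : Magnet.MonAct (Magnet.AMonS S M) X) :
    ∃ (Z : Over S) (i : Z ⟶ X) (e : (Magnet.attr a N).RepresentableBy Z), IsClosedImmersion i.left ∧
      ∀ (T : Over S) (z : T ⟶ Z), (Magnet.attrToX a N).app (op T) (e.homEquiv z) = z ≫ i := by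
  obtain ⟨J, hJ⟩ := GrothLib.MagnetGr.exists_ideal a N
  let i := GrothLib.MagnetFix.subι J
  haveI : IsClosedImmersion i.left := inferInstanceAs (IsClosedImmersion J.subschemeι)
  haveI : Mono i := GrothLib.MagnetClosed.mono_of_left i
  have hfwd : ∀ (T : Over S) (z : T ⟶ GrothLib.MagnetFix.sub J), GrothLib.MagnetGr.InAttr a N (z ≫ i) := fun T z =>
    (hJ T _).2 ((GrothLib.AlgSp.exists_factor_subscheme_iff J _).1 ⟨z, rfl⟩)
  let F : ∀ T : Over S, (T ⟶ GrothLib.MagnetFix.sub J) → (Magnet.attr a N).obj (op T) :=
    fun T z => Exists.choose (hfwd T z)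
  have hF : ∀ (T : Over S) (z : T ⟶ GrothLib.MagnetFix.sub J),
      (Magnet.attrToX a N).app (op T) (F T z) = z ≫ i := fun T z => Exists.choose_spec (hfwd T z)
  have hinj : ∀ (T : Over S) (φ ψ : (Magnet.attr a N).obj (op T)),
      (Magnet.attrToX a N).app (op T) φ = (Magnet.attrToX a N).app (op T) ψ → φ = ψ := fun T =>
    Groth.Agent.S18285.result S M X a N T
  have hbij : ∀ T : Over S, Function.Bijective (F T) := by
    refine fun T => ⟨fun z z' h => (cancel_mono i).1 (by rw [← hF T z, ← hF T z', h]), fun φ => ?_⟩
    obtain ⟨z, hz⟩ := (GrothLib.AlgSp.exists_factor_subscheme_iff J _).2 ((hJ T _).1 ⟨φ, rfl⟩)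
    exact ⟨z, hinj T _ _ (by rw [hF]; exact hz)⟩
  refine ⟨GrothLib.MagnetFix.sub J, i, ⟨fun {T} => Equiv.ofBijective _ (hbij T), fun {T T'} t z => ?_⟩, ‹_›, hF⟩
  refine hinj T _ _ ?_
  rw [GrothLib.MagnetGr.attrToX_map t]
  change (Magnet.attrToX a N).app _ (F T (t ≫ z)) = t ≫ (Magnet.attrToX a N).app _ (F T' z)
  rw [hF, hF, Category.assoc]

end Groth.Agent.S18295
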