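import Groth.Statements.S18299
import Groth.Agent.Lib.MagnetFix25.Descent
-- import your own Groth.Agent.* helpers here

set_option autoImplicit false
universe u
open CategoryTheory MonoidalCategory CartesianMonoidalCategory MonObj AlgebraicGeometry Opposite
open Magnet

namespace Groth.Agent.S18299
open CategoryTheory.Limits

/-- Let Q be a commutative group, X and U S-schemes with actions of the diagonalizable group scheme
D(Q)_S, and f : U → X an equivariant morphism over S which is étale and surjective and fixed-point
reflecting: the square formed by the fixed-point functors U^{D(Q)} → X^{D(Q)} over U → X is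
cartesian (an FPR atlas). If the fixed-point functor of U is represented by a closed subscheme of U
— which holds when U is a disjoint union of D(Q)_S-stable S-affine schemes, by the affine
representability of attractors — then the fixed-point functor of X is represented by a closed
subscheme of X, compatibly with its inclusion into X. (In the source Q = M/Z for a subgroup Z of a
commutative group M acting through D(M)_S, the fixed points of D(M/Z)_S being the attractor X^Z, and
X may be an algebraic space; here X is a scheme.) -/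
theorem result (S : Scheme.{u}) (Q : Type)
    [AddCommGroup Q] (X U : Over S) (aX : AlgGrp.Action (Red.DS S Q) X) (aU : AlgGrp.Action (Red.DS S Q) U)
    (f : U ⟶ X) [Etale f.left] [Surjective f.left]
    (hf : Magnet.MonAct.IsEquivariant (Magnet.MonAct.ofAction aU) (Magnet.MonAct.ofAction aX) f)
    (hfpr : IsPullback (Magnet.MonAct.fixedPsh.map f hf) (Magnet.MonAct.fixedPshι (Magnet.MonAct.ofAction aU))
      (Magnet.MonAct.fixedPshι (Magnet.MonAct.ofAction aX)) (yoneda.map f))
    (hU : ∃ (W' : Over S) (i' : W' ⟶ U) (e' : (Magnet.MonAct.fixedPsh (Magnet.MonAct.ofAction aU)).RepresentableBy W'),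
      IsClosedImmersion i'.left ∧ ∀ (T : Over S) (w : T ⟶ W'),
        (Magnet.MonAct.fixedPshι (Magnet.MonAct.ofAction aU)).app (op T) (e'.homEquiv w) = w ≫ i') :
    ∃ (W : Over S) (i : W ⟶ X) (e : (Magnet.MonAct.fixedPsh (Magnet.MonAct.ofAction aX)).RepresentableBy W),
      IsClosedImmersion i.left ∧ ∀ (T : Over S) (w : T ⟶ W),
        (Magnet.MonAct.fixedPshι (Magnet.MonAct.ofAction aX)).app (op T) (e.homEquiv w) = w ≫ i := by
  obtain ⟨W', i', e', hi', hW'⟩ := hU
  haveI := hi'
  have hfix : ∀ (T : Over S) (u : T ⟶ U), GrothLib.MagnetFix.IsFixed (Magnet.MonAct.ofAction aU) u ↔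
      GrothLib.MagnetFix.IsFixed (Magnet.MonAct.ofAction aX) (u ≫ f) := by
    intro T u
    constructor
    · intro h
      exact ((Magnet.MonAct.fixedPsh.map f hf).app (op T) ⟨u, h⟩).2
    · intro h
      obtain ⟨z, -, hz⟩ := ((Types.isPullback_iff _ _ _ _).1 (hfpr.map ((evaluation _ _).obj (op T)))).2.2 ⟨u ≫ f, h⟩ u rfl
      have : z.1 = u := hz
      exact this ▸ z.2
  have hI : ∀ (T : Over S) (u : T ⟶ U), GrothLib.MagnetFix.IsFixed (Magnet.MonAct.ofAction aU) u ↔ i'.left.ker ≤ u.left.ker := by
    intro T u
    constructor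
    · intro h
      have := hW' T (e'.homEquiv.symm ⟨u, h⟩)
      rw [Equiv.apply_symm_apply] at this
      change u = _ at this
      rw [this, Over.comp_left]
      exact Scheme.Hom.le_ker_comp _ _
    · intro h
      let l := IsClosedImmersion.lift i'.left u.left h
      have hl : l ≫ i'.left = u.left := IsClosedImmersion.lift_fac _ _ _
      let w : T ⟶ W' := Over.homMk l (by rw [← Over.w i', ← Category.assoc, hl, Over.w u])
      have hw : w ≫ i' = u := Over.OverMorphism.ext hl
      rw [← hw, ← hW' T w]
      exact (e'.homEquiv w).2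
  obtain ⟨J, hJ⟩ := GrothLib.MagnetFix.exists_fixed_ideal (Magnet.MonAct.ofAction aX) (Magnet.MonAct.ofAction aU) f hfix
    i'.left.ker hI
  let i := GrothLib.MagnetFix.subι J
  have hfwd : ∀ (T : Over S) (w : T ⟶ GrothLib.MagnetFix.sub J),
      GrothLib.MagnetFix.IsFixed (Magnet.MonAct.ofAction aX) (w ≫ i) := fun T w =>
    (hJ T _).2 ((GrothLib.AlgSp.exists_factor_subscheme_iff J _).1 ⟨w, rfl⟩)
  haveI : IsClosedImmersion i.left := inferInstanceAs (IsClosedImmersion J.subschemeι)
  haveI : Mono i := GrothLib.MagnetClosed.mono_of_left i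
  have hbij : ∀ T : Over S, Function.Bijective (fun w : T ⟶ GrothLib.MagnetFix.sub J =>
      (⟨w ≫ i, hfwd T w⟩ : (Magnet.MonAct.fixedPsh (Magnet.MonAct.ofAction aX)).obj (op T))) := by
    refine fun T => ⟨fun w w' h => (cancel_mono i).1 (congrArg Subtype.val h), fun x => ?_⟩
    obtain ⟨w, hw⟩ := (GrothLib.AlgSp.exists_factor_subscheme_iff J x.1).2 ((hJ T x.1).1 x.2)
    exact ⟨w, Subtype.ext hw⟩
  refine ⟨GrothLib.MagnetFix.sub J, i, ⟨fun {T} => Equiv.ofBijective _ (hbij T), fun {T T'} t w => ?_⟩, ‹_›,
    fun T w => rfl⟩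
  exact Subtype.ext (Category.assoc t w i)

end Groth.Agent.S18299
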