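import Groth.Statements.S18302
import Groth.Agent.Lib.MagnetGr25.EtaleFace
-- import your own Groth.Agent.* helpers here

set_option autoImplicit false
universe u
open CategoryTheory MonoidalCategory CartesianMonoidalCategory MonObj AlgebraicGeometry Opposite
open Magnet

namespace Groth.Agent.S18302

/-- Let M be a finitely generated commutative group, X an S-scheme with an action of the diagonalizable
group scheme D(M)_S, U an S-scheme affine over S with a D(M)_S-action and f : U → X an étale
equivariant morphism; let N be a submonoid (magnet) of M and Q a face of N. Assume that N is
finitely generated as a monoid, or that X is locally of finite presentation and separated over S.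
Then the natural map U^N → X^N ×_{X^Q} U^Q is an isomorphism: the square of functors formed by f^N :
U^N → X^N, the face projections U^N → U^Q and X^N → X^Q, and f^Q : U^Q → X^Q is cartesian. (The
published alternative to finite generation is only 'X separated'; its argument passes through the
directed-union description of X^N on T-points, which is established for X locally of finite
presentation and separated, and T affine, so finite presentation is assumed here in that case; X may
be an algebraic space in the source, here it is a scheme.) -/
theorem result (S : Scheme.{u}) (M : Type) [AddCommGroup M]
    [AddGroup.FG M] (X U : Over S) (aX : AlgGrp.Action (Red.DS S M) X) (aU : AlgGrp.Action (Red.DS S M) U)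
    [IsAffineHom U.hom] (f : U ⟶ X) [Etale f.left]
    (hf : Magnet.MonAct.IsEquivariant (Magnet.MonAct.ofAction aU) (Magnet.MonAct.ofAction aX) f)
    (N Q : AddSubmonoid M) (hQ : Magnet.IsFace N Q)
    (h : N.FG ∨ (IsSeparated X.hom ∧ LocallyOfFinitePresentation X.hom)) :
    IsPullback (Magnet.MonAct.eqvHom.postcomp (Magnet.subAct S M N) f hf)
      (Magnet.attrFace (Magnet.MonAct.ofAction aU) hQ) (Magnet.attrFace (Magnet.MonAct.ofAction aX) hQ)
      (Magnet.MonAct.eqvHom.postcomp (Magnet.subAct S M Q) f hf) := GrothLib.MagnetGr.isPullback_face hf hQ h

end Groth.Agent.S18302
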