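import Groth.Statements.S6646
import Groth.Agent.Lib.TrivMod.Et

set_option autoImplicit false
set_option linter.style.haveILetI false
set_option backward.isDefEq.respectTransparency.types false
open CategoryTheory CategoryTheory.Limits AlgebraicGeometry Opposite
universe u
open EtModW

namespace Groth.Agent.S6646

/-- For a Noetherian coefficient ring Λ, on the small etale site of a scheme, kernels and cokernels of
maps between finite type locally constant sheaves of Λ-modules are finite type locally constant, and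
that property is closed under extensions (a weak Serre subcategory). -/
theorem result (Λ : Type (u + 1)) [CommRing Λ] [IsNoetherianRing Λ] (X : Scheme.{u}) :
    (∀ (F G : EtModW.Mod Λ X) (φ : F ⟶ G), EtModW.IsFTLocConst Λ F → EtModW.IsFTLocConst Λ G →
      EtModW.IsFTLocConst Λ (kernel φ) ∧ EtModW.IsFTLocConst Λ (cokernel φ)) ∧
    ObjectProperty.IsClosedUnderExtensions (fun F : EtModW.Mod Λ X => EtModW.IsFTLocConst Λ F) := by
  refine ⟨fun F G φ hF hG => ?_, ⟨fun {T} hT h₁ h₃ => ?_⟩⟩
  · have key : ∀ x : X, ∃ (V : X.Etale) (v : V.left), V.hom v = x ∧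
        ∃ (M N : Type (u + 1)) (_ : AddCommGroup M) (_ : AddCommGroup N) (_ : Module Λ M) (_ : Module Λ N)
          (_ : Module.Finite Λ M) (_ : Module.Finite Λ N)
          (h : M →ₗ[Λ] N) (m : M →ₗ[Λ] F.obj.obj (op V)) (n : N →ₗ[Λ] G.obj.obj (op V)),
          GrothLib.TrivMod.IsTriv X.smallEtaleTopology F V m ∧ GrothLib.TrivMod.IsTriv X.smallEtaleTopology G V n ∧
            ∀ a, φ.hom.app (op V) (m a) = n (h a) := fun x => by
      obtain ⟨V, v, hv, M, N, _, _, _, _, _, _, m, n, hm, hn⟩ := GrothLib.TrivEt.exists_common hF hG x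
      obtain ⟨W, g, z, h, hz, hh⟩ := GrothLib.TrivEt.exists_hom_triv hm hn φ v
      exact ⟨W, z, (GrothLib.TrivEt.hom_over_eq g hz).trans hv, M, N, inferInstance, inferInstance, inferInstance,
        inferInstance, inferInstance, inferInstance, h, _, _, hm.restrict g, hn.restrict g, hh⟩
    refine ⟨GrothLib.TrivEt.isFTLocConst_of_forall fun x => ?_, GrothLib.TrivEt.isFTLocConst_of_forall fun x => ?_⟩
    · obtain ⟨V, v, hv, M, N, _, _, _, _, _, _, h, m, n, hm, hn, hh⟩ := key x
      obtain ⟨k, hk⟩ := GrothLib.TrivEt.exists_triv_kernel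
        (T := ShortComplex.mk (kernel.ι φ) φ (kernel.condition φ))
        (ShortComplex.exact_of_f_is_kernel _ (kernelIsKernel φ)) hm hn h hh
      haveI : IsNoetherian Λ M := isNoetherian_of_isNoetherianRing_of_finite Λ M
      exact ⟨V, v, hv, _, inferInstance, inferInstance, inferInstance, k, hk⟩
    · obtain ⟨V, v, hv, M, N, _, _, _, _, _, _, h, m, n, hm, hn, hh⟩ := key x
      obtain ⟨k, hk⟩ := GrothLib.TrivEt.exists_triv_cokernel φ hm hn h hh
      exact ⟨V, v, hv, _, inferInstance, inferInstance, inferInstance, k, hk⟩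
  · refine GrothLib.TrivEt.isFTLocConst_of_forall fun x => ?_
    obtain ⟨V, v, hv, M, N, _, _, _, _, _, _, m, n, hm, hn⟩ := GrothLib.TrivEt.exists_common h₁ h₃ x
    obtain ⟨W, g, z, hz, M₂, hfg, hM₂⟩ := GrothLib.TrivEt.exists_triv_extension hT hm hn v
    exact ⟨W, z, (GrothLib.TrivEt.hom_over_eq g hz).trans hv, M₂, inferInstance, inferInstance,
      Module.Finite.iff_fg.2 hfg, M₂.subtype, hM₂⟩

end Groth.Agent.S6646
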