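import Groth.Statements.S18735
import Groth.Agent.Lib.ModPair19.Closure
-- import your own Groth.Agent.* helpers here

set_option autoImplicit false
universe u
open CategoryTheory CategoryTheory.Limits AlgebraicGeometry TopologicalSpace
open ModPair

namespace Groth.Agent.S18735

/-- Let (S, I_S), (T, I_T), (X, I_X) be schemes equipped with quasi-coherent ideal sheaves of effective
Cartier divisors, g : T ⟶ S a morphism satisfying the modulus condition I_T ≤ I_S.comap g, and s : X
⟶ S an abstract admissible blow-up (I_X = I_S.comap s, s proper and an isomorphism over the open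
complement of the support of I_S). Let Y be the scheme-theoretic image in X ×_S T of the open
pr₁⁻¹(X°) ∩ pr₂⁻¹(T°), where X°, T° are the open complements of the supports of I_X, I_T, with
projections q : Y ⟶ T and r : Y ⟶ X. Then I_T.comap q is the ideal sheaf of an effective Cartier
divisor on Y, q is an abstract admissible blow-up from (Y, I_T.comap q) to (T, I_T), and r satisfies
the modulus condition from (Y, I_T.comap q) to (X, I_X). -/
theorem result {S T X : Scheme.{u}} (IS : S.IdealSheafData)
    (IT : T.IdealSheafData) (IX : X.IdealSheafData) (hS : BlowUp.IsEffCartierIdeal IS)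
    (hT : BlowUp.IsEffCartierIdeal IT) (hX : BlowUp.IsEffCartierIdeal IX)
    (g : T ⟶ S) (hg : ModPair.IsAmbient IT IS g) (s : X ⟶ S) (hs : ModPair.IsAdmBlowup IX IS s) :
    BlowUp.IsEffCartierIdeal (IT.comap (ModPair.mprodι s g IX IT ≫ pullback.snd s g)) ∧
      ModPair.IsAdmBlowup (IT.comap (ModPair.mprodι s g IX IT ≫ pullback.snd s g)) IT
        (ModPair.mprodι s g IX IT ≫ pullback.snd s g) ∧
      ModPair.IsAmbient (IT.comap (ModPair.mprodι s g IX IT ≫ pullback.snd s g)) IX
        (ModPair.mprodι s g IX IT ≫ pullback.fst s g) := by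
  obtain ⟨hs1, hs2, hs3⟩ := hs
  obtain ⟨-, e2⟩ := GrothLib.ModPair19.eff_mprod s g IX IT hX hT
  have hO : ModPair.prodInterior s g IX IT = pullback.snd s g ⁻¹ᵁ ModPair.interior IT := by
    refine le_antisymm inf_le_right (le_inf ?_ le_rfl)
    rw [hs1, GrothLib.ModPair19.interior_comap, ← Scheme.Hom.comp_preimage, pullback.condition,
      Scheme.Hom.comp_preimage]
    exact (Opens.map (pullback.snd s g).base).monotone (GrothLib.ModPair19.interior_le_of_isAmbient hg)
  refine ⟨e2, ⟨rfl, inferInstance, ?_⟩, ?_⟩
  · haveI : IsIso (s ∣_ ModPair.interior IS) := hs3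
    haveI : IsIso (pullback.fst g s ∣_ ModPair.interior IT) :=
      GrothLib.ModPair19.isIso_pullback_fst_restrict g s (GrothLib.ModPair19.interior_le_of_isAmbient hg)
    haveI : IsIso (pullback.snd s g ∣_ ModPair.interior IT) := by
      rw [← pullbackSymmetry_hom_comp_fst s g, morphismRestrict_comp]
      exact IsIso.comp_isIso'
        (IsZariskiLocalAtTarget.restrict (P := MorphismProperty.isomorphisms Scheme.{u})
          (inferInstanceAs (IsIso (pullbackSymmetry s g).hom)) _)
        (GrothLib.ModPair19.isIso_pullback_fst_restrict g s (GrothLib.ModPair19.interior_le_of_isAmbient hg))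
    haveI : IsIso (ModPair.mprodι s g IX IT ∣_ pullback.snd s g ⁻¹ᵁ ModPair.interior IT) :=
      hO ▸ GrothLib.ModPair19.isIso_mprodι_restrict s g IX IT
    exact GrothLib.ModPair19.isIso_restrict_comp _ _ _
  · change _ ≤ _
    have h := Scheme.IdealSheafData.comap_mono (ModPair.mprodι s g IX IT ≫ pullback.snd s g) hg
    simp only [← Scheme.IdealSheafData.comap_comp, Category.assoc, ← pullback.condition] at h
    refine h.trans (le_of_eq ?_)
    rw [← Category.assoc, Scheme.IdealSheafData.comap_comp, ← hs1]

end Groth.Agent.S18735
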