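import Groth.Statements.S18738
import Groth.Agent.Lib.ModPair19.Basic
-- import your own Groth.Agent.* helpers here

set_option autoImplicit false
universe u
open CategoryTheory CategoryTheory.Limits AlgebraicGeometry TopologicalSpace
open ModPair

namespace Groth.Agent.S18738

section
open AlgebraicGeometry CategoryTheory Limits GrothLib.ModPair19

theorem admBlowup_id (P : ModPair.Pair.{u}) : ModPair.Pair.admBlowup (𝟙 P) := by
  refine ⟨(Scheme.IdealSheafData.comap_id P.mod).symm, ?_, ?_⟩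
  · exact inferInstanceAs (IsProper (𝟙 P.total))
  · exact inferInstanceAs (IsIso ((𝟙 P.total : P.total ⟶ P.total) ∣_ ModPair.interior P.mod))

theorem admBlowup_comp {P Q R : ModPair.Pair.{u}} (a : P ⟶ Q) (b : Q ⟶ R)
    (ha : ModPair.Pair.admBlowup a) (hb : ModPair.Pair.admBlowup b) : ModPair.Pair.admBlowup (a ≫ b) := by
  obtain ⟨ha1, ha2, ha3⟩ := ha
  obtain ⟨hb1, hb2, hb3⟩ := hb
  have hm : P.mod = R.mod.comap (a.hom ≫ b.hom) := by
    rw [Scheme.IdealSheafData.comap_comp, ← hb1, ← ha1]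
  refine ⟨hm, ?_, ?_⟩
  · exact inferInstanceAs (IsProper (a.hom ≫ b.hom))
  · rw [hb1, interior_comap] at ha3
    exact isIso_restrict_comp a.hom b.hom _

theorem admBlowup_ext {P Q Q' : ModPair.Pair.{u}} (f₁ f₂ : P ⟶ Q) (s : Q ⟶ Q')
    (hs : ModPair.Pair.admBlowup s) (h : f₁ ≫ s = f₂ ≫ s) : f₁ = f₂ := by
  obtain ⟨hs1, hs2, hs3⟩ := hs
  have h' : f₁.hom ≫ s.hom = f₂.hom ≫ s.hom := congrArg ModPair.Pair.Hom.hom h
  refine ModPair.Pair.Hom.ext (ext_of_interior P.isEffCartier s.hom h' ?_)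
  let O := ModPair.interior Q'.mod
  have hle : ∀ f : P ⟶ Q, ModPair.interior P.mod ≤ f.hom ⁻¹ᵁ (s.hom ⁻¹ᵁ O) := fun f => by
    refine (interior_le_of_isAmbient f.cond).trans ?_
    rw [hs1, interior_comap]
  let g : ∀ f : P ⟶ Q, (ModPair.interior P.mod : Scheme.{u}) ⟶ (s.hom ⁻¹ᵁ O : Scheme.{u}) := fun f =>
    P.total.homOfLE (hle f) ≫ (f.hom ∣_ s.hom ⁻¹ᵁ O)
  have hg : ∀ f : P ⟶ Q, g f ≫ (s.hom ⁻¹ᵁ O).ι = (ModPair.interior P.mod).ι ≫ f.hom := fun f => by
    simp [g]
  haveI : IsIso (s.hom ∣_ O) := hs3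
  have : g f₁ = g f₂ := by
    rw [← cancel_mono (s.hom ∣_ O), ← cancel_mono O.ι]
    simp only [Category.assoc, morphismRestrict_ι]
    rw [reassoc_of% (hg f₁), reassoc_of% (hg f₂), h']
  rw [← hg, ← hg, this]

theorem exists_ore {X Y : ModPair.Pair.{u}} {Z : ModPair.Pair.{u}} (f : X ⟶ Z) (s : Y ⟶ Z)
    (hs : ModPair.Pair.admBlowup s) :
    ∃ (X' : ModPair.Pair.{u}) (t : X' ⟶ X) (g : X' ⟶ Y), ModPair.Pair.admBlowup t ∧ t ≫ f = g ≫ s := by
  obtain ⟨hs1, hs2, hs3⟩ := hs
  let p := pullback.fst f.hom s.hom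
  let q := pullback.snd f.hom s.hom
  let I := X.mod.comap p
  let j := (HTop.supportedOn I).subschemeι
  have hI : BlowUp.IsEffCartierIdeal (I.comap j) :=
    GrothLib.ABU25.isEffCartier_comap_supportedOn I
      (isLocPrincipal_comap (isLocPrincipal_of_eff X.isEffCartier) p)
  have hm : I.comap j = X.mod.comap (j ≫ p) := (Scheme.IdealSheafData.comap_comp _ _ _).symm
  have hc : ModPair.IsAmbient (I.comap j) Y.mod (j ≫ q) := by
    change _ ≤ _
    rw [hm, hs1, ← Scheme.IdealSheafData.comap_comp, Category.assoc, ← pullback.condition, ← Category.assoc,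
      Scheme.IdealSheafData.comap_comp (f := j ≫ p)]
    exact Scheme.IdealSheafData.comap_mono (j ≫ p) f.cond
  let X' : ModPair.Pair.{u} := ⟨_, I.comap j, hI⟩
  refine ⟨X', ⟨j ≫ p, hm.le⟩, ⟨j ≫ q, hc⟩, ⟨hm, ?_, ?_⟩, ModPair.Pair.Hom.ext ?_⟩
  · exact inferInstanceAs (IsProper (j ≫ p))
  · haveI : IsIso (s.hom ∣_ ModPair.interior Z.mod) := hs3
    haveI : IsIso (p ∣_ ModPair.interior X.mod) :=
      isIso_pullback_fst_restrict f.hom s.hom (interior_le_of_isAmbient f.cond)
    haveI : IsIso (j ∣_ p ⁻¹ᵁ ModPair.interior X.mod) :=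
      interior_comap X.mod p ▸ isIso_supportedOn_restrict I
    exact isIso_restrict_comp j p _
  · change (j ≫ p) ≫ f.hom = (j ≫ q) ≫ s.hom
    simp only [Category.assoc]
    exact congrArg (j ≫ ·) pullback.condition

end


/-- In the category of modulus pairs and ambient morphisms, the class Σ of abstract admissible blow-ups
(minimal, proper, an isomorphism over the interior of the target) admits a calculus of right
fractions: it contains the identities and is stable under composition; every pair X' ⟶ X ⟵ Y with X'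
⟶ X in Σ can be completed to a commutative square with a morphism Y' ⟶ Y in Σ; and two ambient
morphisms f, g : X ⟶ Y equalized by some Y ⟶ Z in Σ are equalized by some X' ⟶ X in Σ. -/
theorem result :
    (ModPair.Pair.admBlowup.{u}).HasRightCalculusOfFractions := by
  exact
    { id_mem := admBlowup_id
      comp_mem := fun a b ha hb => admBlowup_comp a b ha hb
      exists_rightFraction := fun X Y φ => by
        obtain ⟨X', t, g, ht, h⟩ := exists_ore φ.f φ.s φ.hs
        exact ⟨MorphismProperty.RightFraction.mk t ht g, h⟩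
      ext := fun X Y Y' f₁ f₂ s hs h =>
        ⟨X, 𝟙 X, admBlowup_id X, by rw [admBlowup_ext f₁ f₂ s hs h]⟩ }

end Groth.Agent.S18738
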