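import Groth.Statements.S18749
import Groth.Agent.Lib.ModPair19.Closure
-- import your own Groth.Agent.* helpers here

set_option autoImplicit false
universe u
open CategoryTheory CategoryTheory.Limits AlgebraicGeometry TopologicalSpace
open ModPair

namespace Groth.Agent.S18749

/-- Let (S, I_S), (T, J), (X, I) be schemes with quasi-coherent ideal sheaves of effective Cartier
divisors and f : X ⟶ S, g : T ⟶ S morphisms satisfying the modulus condition. Let Y₀ be the
scheme-theoretic image of pr₁⁻¹(X°) ∩ pr₂⁻¹(T°) in X ×_S T, let π : Y ⟶ Y₀ be a blowing up of Y₀ in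
the sum of the two ideal sheaves I, J pulled back to Y₀ (the intersection of the two pulled-back
divisors), and let K be an ideal sheaf on Y whose product with the exceptional ideal is the product
of the pull-backs of I and J to Y. Then K is the ideal sheaf of an effective Cartier divisor (the
divisor D_X + D_T − E), the projections Y ⟶ X and Y ⟶ T satisfy the modulus condition with respect
to K, and the interior of (Y, K) is the preimage of pr₁⁻¹(X°) ∩ pr₂⁻¹(T°). -/
theorem result {S T X Y : Scheme.{u}} (IS : S.IdealSheafData)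
    (J : T.IdealSheafData) (I : X.IdealSheafData) (hS : BlowUp.IsEffCartierIdeal IS)
    (hT : BlowUp.IsEffCartierIdeal J) (hX : BlowUp.IsEffCartierIdeal I)
    (f : X ⟶ S) (hf : ModPair.IsAmbient I IS f) (g : T ⟶ S) (hg : ModPair.IsAmbient J IS g)
    (π : Y ⟶ ModPair.mprod f g I J) (K : Y.IdealSheafData) (hY : ModPair.IsAmbProd f g I J π K) :
    BlowUp.IsEffCartierIdeal K ∧
      ModPair.IsAmbient K I (π ≫ ModPair.mprodι f g I J ≫ pullback.fst f g) ∧
      ModPair.IsAmbient K J (π ≫ ModPair.mprodι f g I J ≫ pullback.snd f g) ∧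
      ModPair.interior K = (π ≫ ModPair.mprodι f g I J) ⁻¹ᵁ ModPair.prodInterior f g I J := by
  obtain ⟨hb, hK⟩ := hY
  obtain ⟨e1, e2⟩ := GrothLib.ModPair19.eff_mprod f g I J hX hT
  let m := ModPair.mprodι f g I J
  have a1 := GrothLib.BlowUp.isEffCartierIdeal_comap_blowUp hb e1
  have a2 := GrothLib.BlowUp.isEffCartierIdeal_comap_blowUp hb e2
  let A := (I.comap (m ≫ pullback.fst f g)).comap π
  let B := (J.comap (m ≫ pullback.snd f g)).comap π
  let E := (ModPair.prodCentre f g I J).comap π
  have hE : E = A ⊔ B := Scheme.IdealSheafData.comap_sup _ _ _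
  have hEeff : BlowUp.IsEffCartierIdeal E := hb.1
  have hKeff : BlowUp.IsEffCartierIdeal K :=
    (GrothLib.BlowUp.isEffCartierIdeal_factors_of_mul
      (hK ▸ GrothLib.BlowUp.isEffCartierIdeal_mul a1 a2)).1
  have hKA : K ≤ A := by
    refine GrothLib.RelDiv.le_of_mul_le_mul_left hEeff ?_
    rw [mul_comm E K, hK, mul_comm E A]
    refine fun U => ?_
    simp only [Scheme.IdealSheafData.ideal_mul, Pi.mul_apply]
    exact Ideal.mul_mono_right ((le_sup_right.trans hE.ge : B ≤ E) U)
  have hKB : K ≤ B := by
    refine GrothLib.RelDiv.le_of_mul_le_mul_left hEeff ?_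
    rw [mul_comm E K, hK]
    refine fun U => ?_
    simp only [Scheme.IdealSheafData.ideal_mul, Pi.mul_apply]
    exact Ideal.mul_mono_left ((le_sup_left.trans hE.ge : A ≤ E) U)
  refine ⟨hKeff, ?_, ?_, ?_⟩
  · change _ ≤ _
    rw [Scheme.IdealSheafData.comap_comp]
    exact hKA
  · change _ ≤ _
    rw [Scheme.IdealSheafData.comap_comp]
    exact hKB
  · have hAB : ModPair.interior A ⊓ ModPair.interior B =
        (π ≫ m) ⁻¹ᵁ ModPair.prodInterior f g I J := by
      simp only [A, B, GrothLib.ModPair19.interior_comap]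
      rfl
    rw [← hAB]
    refine le_antisymm (le_inf (GrothLib.ModPair19.interior_mono hKA) (GrothLib.ModPair19.interior_mono hKB)) ?_
    rw [← GrothLib.ModPair19.interior_mul, ← hK, GrothLib.ModPair19.interior_mul]
    exact inf_le_left

end Groth.Agent.S18749
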