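import Groth.Statements.S18750
import Groth.Agent.Lib.ModPair19.Closure
import Groth.Agent.Lib.BlowUp.Exists
-- import your own Groth.Agent.* helpers here

set_option autoImplicit false
universe u
open CategoryTheory CategoryTheory.Limits AlgebraicGeometry TopologicalSpace
open ModPair

namespace Groth.Agent.S18750

/-- Let (S, I_S), (T, J), (X, I) be schemes with quasi-coherent ideal sheaves of effective Cartier
divisors and f : X ⟶ S, g : T ⟶ S morphisms satisfying the modulus condition, and let Y₀ be the
scheme-theoretic image of pr₁⁻¹(X°) ∩ pr₂⁻¹(T°) in X ×_S T. Then the ambient product exists: there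
are a blowing up π : Y ⟶ Y₀ of Y₀ in the sum of the two pulled-back moduli and an ideal sheaf K on Y
whose product with the exceptional ideal is the product of the pull-backs of I and J (the divisor
D_X + D_T − E exists). -/
theorem result {S T X : Scheme.{u}} (IS : S.IdealSheafData)
    (J : T.IdealSheafData) (I : X.IdealSheafData) (hS : BlowUp.IsEffCartierIdeal IS)
    (hT : BlowUp.IsEffCartierIdeal J) (hX : BlowUp.IsEffCartierIdeal I)
    (f : X ⟶ S) (hf : ModPair.IsAmbient I IS f) (g : T ⟶ S) (hg : ModPair.IsAmbient J IS g) :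
    ∃ (Y : Scheme.{u}) (π : Y ⟶ ModPair.mprod f g I J) (K : Y.IdealSheafData),
      ModPair.IsAmbProd f g I J π K := by
  obtain ⟨e1, e2⟩ := GrothLib.ModPair19.eff_mprod f g I J hX hT
  obtain ⟨Y, π, hb⟩ := GrothLib.BlowUp.exists_isBlowUp _ (ModPair.prodCentre f g I J)
  have a1 := GrothLib.BlowUp.isEffCartierIdeal_comap_blowUp hb e1
  have a2 := GrothLib.BlowUp.isEffCartierIdeal_comap_blowUp hb e2
  obtain ⟨K, -, hK⟩ := GrothLib.RelDiv.exists_eq_mul hb.1 (GrothLib.BlowUp.isEffCartierIdeal_mul a1 a2)
    ((GrothLib.RelDiv.mul_le_self _ _).trans (by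
      rw [ModPair.prodCentre, Scheme.IdealSheafData.comap_sup]; exact le_sup_left))
  exact ⟨Y, π, K, hb, by rw [mul_comm, ← hK]⟩

end Groth.Agent.S18750
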