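import Groth.Statements.S19328
import Mathlib.AlgebraicGeometry.Sites.MorphismProperty
import Mathlib.FieldTheory.IsAlgClosed.Basic
import Mathlib.RingTheory.AdjoinRoot
import Mathlib.RingTheory.Flat.FaithfullyFlat.Algebra
import Mathlib.RingTheory.LocalRing.ResidueField.Ideal
-- import your own Groth.Agent.* helpers here

set_option autoImplicit false
universe u
open CategoryTheory CategoryTheory.Limits AlgebraicGeometry
open ModPair

namespace Groth.Agent.S19328

/-- Let A be a commutative ring such that Spec A is local for fppf coverings, in the sense that for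
every scheme X, every jointly surjective family of morphisms to X each of which is flat and of
finite presentation (locally of finite presentation, quasi-compact and quasi-separated), and every
morphism Spec A ⟶ X, the morphism factors through a member of the family. Then the residue field of
A at every prime ideal is algebraically closed. -/
theorem result (A : Type u) [CommRing A]
    (hloc : ∀ (X : Scheme.{u}) (R : Presieve X),
      R ∈ Scheme.precoverage (@Flat ⊓ @LocallyOfFinitePresentation ⊓ @QuasiCompact ⊓ @QuasiSeparated) X →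
      ∀ g : Spec (CommRingCat.of A) ⟶ X,
        ∃ (Y : Scheme.{u}) (v : Y ⟶ X) (h : Spec (CommRingCat.of A) ⟶ Y), R v ∧ h ≫ v = g)
    (p : Ideal A) [p.IsPrime] : IsAlgClosed p.ResidueField := by
  haveI : Nontrivial A := ⟨0, 1, fun h => Ideal.IsPrime.ne_top ‹_› ((Ideal.eq_top_iff_one p).2 (h ▸ p.zero_mem))⟩
  refine IsAlgClosed.of_exists_root _ fun f hf hirr => ?_
  let φ := algebraMap (A ⧸ p) p.ResidueField
  let d : A ⧸ p := IsLocalization.commonDenom (nonZeroDivisors (A ⧸ p)) f.support f.coeff
  have hd : φ d ≠ 0 := IsFractionRing.to_map_ne_zero_of_mem_nonZeroDivisors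
    (IsLocalization.commonDenom (nonZeroDivisors (A ⧸ p)) f.support f.coeff).2
  have hl : f.scaleRoots (φ d) ∈ Polynomial.lifts φ :=
    IsLocalization.scaleRoots_commonDenom_mem_lifts (nonZeroDivisors (A ⧸ p)) f ⟨1, by simp [hf.leadingCoeff]⟩
  obtain ⟨q, hq, hqd, hqm⟩ := Polynomial.lifts_and_degree_eq_and_monic hl ((Polynomial.monic_scaleRoots_iff (φ d)).2 hf)
  obtain ⟨g, hg, hgd, hgm⟩ := Polynomial.lifts_and_degree_eq_and_monic
    (Polynomial.map_surjective _ Ideal.Quotient.mk_surjective q :
      q ∈ Polynomial.lifts (Ideal.Quotient.mk p)) hqm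
  have hdeg : 0 < g.natDegree := by
    rw [Polynomial.natDegree_pos_iff_degree_pos, hgd, hqd, Polynomial.degree_scaleRoots]
    exact hirr.degree_pos
  haveI : Module.Free A (AdjoinRoot g) := Module.Free.of_basis (AdjoinRoot.powerBasis' hgm).basis
  haveI : Module.Finite A (AdjoinRoot g) := (AdjoinRoot.powerBasis' hgm).finite
  haveI : Nontrivial (AdjoinRoot g) := by
    have : Nonempty (Fin (AdjoinRoot.powerBasis' hgm).dim) := ⟨⟨0, by simpa using hdeg⟩⟩
    exact (AdjoinRoot.powerBasis' hgm).basis.repr.toEquiv.nontrivial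
  haveI : Module.FaithfullyFlat A (AdjoinRoot g) := inferInstance
  have hflat : Module.Flat A (AdjoinRoot g) := inferInstance
  have hfp : Algebra.FinitePresentation A (AdjoinRoot g) := inferInstance
  let u := Spec.map (CommRingCat.ofHom (algebraMap A (AdjoinRoot g)))
  haveI : Flat u := HasRingHomProperty.Spec_iff.2 (RingHom.flat_algebraMap_iff.2 hflat)
  haveI : LocallyOfFinitePresentation u :=
    HasRingHomProperty.Spec_iff.2 (RingHom.finitePresentation_algebraMap.2 hfp)
  have hmem : Presieve.singleton u ∈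
      Scheme.precoverage (@Flat ⊓ @LocallyOfFinitePresentation ⊓ @QuasiCompact ⊓ @QuasiSeparated) _ :=
    (Scheme.singleton_mem_precoverage_iff _ u).2 ⟨PrimeSpectrum.comap_surjective_of_faithfullyFlat,
      ⟨⟨inferInstance, inferInstance⟩, inferInstance⟩, inferInstance⟩
  obtain ⟨Y, v, h, ⟨⟩, hv⟩ := hloc _ _ hmem (𝟙 _)
  obtain ⟨ψ, rfl⟩ : ∃ ψ, Spec.map ψ = h := Spec.map_surjective h
  rw [← Spec.map_comp, ← Spec.map_id] at hv
  have hψ : ∀ a : A, ψ.hom (algebraMap A (AdjoinRoot g) a) = a := fun a =>
    congrArg (fun k : CommRingCat.of A ⟶ CommRingCat.of A => k.hom a) (Spec.map_injective hv)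
  let r : A := ψ.hom (AdjoinRoot.root g)
  have hr : g.eval r = 0 := by
    have h1 := Polynomial.hom_eval₂ g (algebraMap A (AdjoinRoot g)) ψ.hom (AdjoinRoot.root g)
    rw [show ψ.hom.comp (algebraMap A (AdjoinRoot g)) = RingHom.id A from RingHom.ext hψ,
      show Polynomial.eval₂ (algebraMap A (AdjoinRoot g)) (AdjoinRoot.root g) g = 0 from AdjoinRoot.eval₂_root g,
      map_zero] at h1
    exact h1.symm
  refine ⟨(φ d)⁻¹ * φ (Ideal.Quotient.mk p r), ?_⟩
  have h2 : (f.scaleRoots (φ d)).eval (φ (Ideal.Quotient.mk p r)) = 0 := by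
    rw [← hq, ← hg, Polynomial.eval_map_apply, Polynomial.eval_map_apply, hr, map_zero, map_zero]
  have h3 := Polynomial.scaleRoots_eval₂_mul (p := f) (RingHom.id p.ResidueField)
    ((φ d)⁻¹ * φ (Ideal.Quotient.mk p r)) (φ d)
  rw [RingHom.id_apply, mul_inv_cancel_left₀ hd, Polynomial.eval₂_id, Polynomial.eval₂_id, h2] at h3
  exact (mul_eq_zero.1 h3.symm).resolve_left (pow_ne_zero _ hd)

end Groth.Agent.S19328
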