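import Groth.Statements.S2987
import Groth.Agent.Lib.MultLocal.FlatNil
import Groth.Agent.Lib.MultLocal.EtaleLift
import Groth.Agent.Lib.Hopf.Descent

set_option autoImplicit false
universe u
open TensorProduct SGA3b
open SGA3b

namespace Groth.Agent.S2987

/-- Let R be a ring, I a nilpotent ideal, and H = Spec A an affine R-group with A flat over R. If the
base change of H to R/I is a quasi-isotrivial group of multiplicative type, then so is H. (Affine
group schemes over an affine base are taken in Hopf-algebra form; base change is the tensor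
product.) -/
theorem result (R : Type u) [CommRing R] (A : Type u) [CommRing A] [HopfAlgebra R A] [Module.Flat R A] (I : Ideal R) (hI : IsNilpotent I)
    (h0 : IsQuasiIsotrivial (R ⧸ I) ((R ⧸ I) ⊗[R] A)) : IsQuasiIsotrivial R A := by
  obtain ⟨s₀, hs₀, hloc⟩ := h0
  obtain ⟨n, hn⟩ := hI
  have hnilI : ∀ x ∈ I, IsNilpotent x := fun x hx => ⟨n, by
    have h := Ideal.pow_mem_pow hx n
    rwa [hn] at h⟩
  refine ⟨Ideal.Quotient.mk I ⁻¹' s₀, ?_, fun f hf => ?_⟩
  · have hle : ∀ x ∈ (Ideal.span s₀ : Ideal (R ⧸ I)), x ∈ (Ideal.span (Ideal.Quotient.mk I ⁻¹' s₀)).map (Ideal.Quotient.mk I) := by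
      intro x hx
      rw [Ideal.map_span, Set.image_preimage_eq _ Ideal.Quotient.mk_surjective]
      exact hx
    obtain ⟨y, hy, hy1⟩ := (Ideal.mem_map_iff_of_surjective _ Ideal.Quotient.mk_surjective).mp
      (hle 1 (hs₀ ▸ Submodule.mem_top))
    refine Ideal.eq_top_of_isUnit_mem _ hy ?_
    have hy' : 1 - y ∈ I := Ideal.Quotient.eq_zero_iff_mem.mp (by rw [map_sub, map_one, hy1, sub_self])
    have := (hnilI _ hy').isUnit_one_sub
    rwa [sub_sub_cancel] at this
  · obtain ⟨E₀, _, _, hE, hff, M, _, ⟨e⟩⟩ := hloc _ hf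
    let S := Localization.Away f
    let S₀ := Localization.Away (Ideal.Quotient.mk I f)
    let φ : S →+* S₀ := IsLocalization.Away.map S S₀ (Ideal.Quotient.mk I) f
    letI : Algebra S S₀ := φ.toAlgebra
    have hφ : ∀ r, φ (algebraMap R S r) = algebraMap R S₀ r := fun r => by
      rw [IsScalarTower.algebraMap_apply R (R ⧸ I) S₀]
      exact IsLocalization.map_eq _ r
    have hmap : (Submonoid.powers f).map (Ideal.Quotient.mk I) = Submonoid.powers (Ideal.Quotient.mk I f) :=
      Submonoid.map_powers _ _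
    haveI : IsLocalization ((Submonoid.powers f).map (Ideal.Quotient.mk I)) S₀ := by rw [hmap]; infer_instance
    have hs : Function.Surjective (algebraMap S S₀) :=
      IsLocalization.map_surjective_of_surjective (Submonoid.powers f) S S₀ Ideal.Quotient.mk_surjective
    have hnil : IsNilpotent (RingHom.ker (algebraMap S S₀)) := by
      refine ⟨n, ?_⟩
      rw [RingHom.algebraMap_toAlgebra]
      have hker : RingHom.ker φ = (RingHom.ker (Ideal.Quotient.mk I)).map (algebraMap R S) :=
        IsLocalization.ker_map S₀ (Ideal.Quotient.mk I) hmap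
      rw [hker, Ideal.mk_ker, ← Ideal.map_pow, hn]
      exact Ideal.map_bot
    letI : Algebra S E₀ := Algebra.compHom E₀ (algebraMap S S₀)
    haveI : IsScalarTower S S₀ E₀ := IsScalarTower.of_algebraMap_eq fun _ => rfl
    obtain ⟨T, _, _, π, hTet, hTff, hπ, hπnil⟩ := GrothLib.MultLocal.exists_etale_ff_lift_map hs hnil E₀
    letI : Algebra (R ⧸ I) E₀ := Algebra.compHom E₀ (algebraMap (R ⧸ I) S₀)
    haveI : IsScalarTower (R ⧸ I) S₀ E₀ := IsScalarTower.of_algebraMap_eq fun _ => rfl
    letI : Algebra R E₀ := Algebra.compHom E₀ (algebraMap R (R ⧸ I))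
    haveI : IsScalarTower R (R ⧸ I) E₀ := IsScalarTower.of_algebraMap_eq fun _ => rfl
    letI : Algebra R T := Algebra.compHom T (algebraMap R S)
    haveI : IsScalarTower R S T := IsScalarTower.of_algebraMap_eq fun _ => rfl
    obtain ⟨h₀, hh₀⟩ := GrothLib.MultLocal.exists_frame_of_equiv
      (GrothLib.Hopf.trivOfAway (R ⧸ I) E₀ (GrothLib.Hopf.trivOfAway S₀ E₀ e))
    let πR : T →ₐ[R] E₀ :=
      { π.toRingHom with
        commutes' := fun r => (π.commutes (algebraMap R S r)).trans
          ((congrArg (algebraMap S₀ E₀) (hφ r)).trans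
            (congrArg (algebraMap S₀ E₀) (IsScalarTower.algebraMap_apply R (R ⧸ I) S₀ r))) }
    obtain ⟨g, hg, -⟩ := GrothLib.MultLocal.exists_frame_of_flat_surjective πR hπ hπnil hh₀
    exact ⟨T, inferInstance, inferInstance, hTet, hTff, M, inferInstance,
      ⟨(hg.push (GrothLib.Hopf.cancelBaseChange R S T A).symm).equiv.symm⟩⟩

end Groth.Agent.S2987
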