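import Groth.Statements.S2974
import Groth.Agent.Lib.MultLocal.Main
import Groth.Agent.Lib.Hensel.LocalSplit
import Mathlib.RingTheory.Finiteness.ModuleFinitePresentation

set_option autoImplicit false
universe u
open TensorProduct SGA3b
open SGA3b

namespace Groth.Agent.S2974

/-- Let R be a henselian local ring and H = Spec A an R-group of multiplicative type and of finite type.
Then H is isotrivial: split by a finite etale faithfully flat R-algebra. (Affine group schemes over
an affine base are taken in Hopf-algebra form; base change is the tensor product.) -/
theorem result (R : Type u) [CommRing R] (A : Type u) [CommRing A] [HopfAlgebra R A] [HenselianLocalRing R] (hft : Algebra.FiniteType R A) (h : IsMultType R A) :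
    IsIsotrivial R A := by
  haveI := hft
  obtain ⟨E, _, _, q, M, _, hE, hq, hqp, -, g, hg⟩ :=
    GrothLib.MultLocal.exists_etale_frame_of_isMultType h (IsLocalRing.maximalIdeal R)
  haveI := hq
  haveI : q.LiesOver (IsLocalRing.maximalIdeal R) := ⟨hqp.symm⟩
  haveI : Algebra.QuasiFiniteAt R q := inferInstance
  let L := Localization.AtPrime q
  haveI : Module.Finite R L := GrothLib.Hensel.finite_localization_of_quasiFiniteAt q
  haveI : Module.Flat R L := Module.Flat.trans R E L
  haveI : Module.Free R L := Module.free_of_flat_of_isLocalRing
  haveI : Module.FinitePresentation R L := Module.finitePresentation_of_projective R L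
  haveI : Algebra.FormallyEtale E L := Algebra.FormallyEtale.of_isLocalization q.primeCompl
  haveI : Algebra.FormallyEtale R L := Algebra.FormallyEtale.comp R E L
  haveI : Algebra.Etale R L := ⟨inferInstance, inferInstance⟩
  haveI : IsLocalHom (algebraMap R L) := by
    refine ((IsLocalRing.local_hom_TFAE (algebraMap R L)).out 0 2).mpr ?_
    rw [IsScalarTower.algebraMap_eq R E L, ← Ideal.map_map]
    refine (Ideal.map_mono ?_).trans (Localization.AtPrime.map_eq_maximalIdeal).le
    exact Ideal.map_le_iff_le_comap.mpr hqp.ge
  exact ⟨L, inferInstance, inferInstance, inferInstance, inferInstance, Module.FaithfullyFlat.of_flat_of_isLocalHom,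
    M, inferInstance, ⟨(hg.map (IsScalarTower.toAlgHom R E L)).equiv.symm⟩⟩

end Groth.Agent.S2974
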