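import Groth.Statements.S5263
import Groth.Agent.Lib.HomScheme.MultType

set_option autoImplicit false
open CategoryTheory MonoidalCategory CartesianMonoidalCategory MonObj GrpObj AlgebraicGeometry
universe u
open SGA3x

namespace Groth.Agent.S5263

/-- Let G and H be S-groups of multiplicative type which are finite over S. Then the functor of group
homomorphisms from G to H is representable by an S-scheme which is finite and etale over S (with its
universal family of homomorphisms). -/
theorem result {S : Scheme.{u}} (G H : Over S) [GrpObj G] [GrpObj H]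
    (hG : SGA3x.IsMultTypeFT G) [IsFinite G.hom] (hH : SGA3x.IsMultTypeFT H) [IsFinite H.hom] :
    ∃ (A : Over S) (υ : G ⊗ A ⟶ H), AutFam.RepresentsHom G H A υ ∧ IsFinite A.hom ∧ Etale A.hom := by
  haveI := GrothLib.DiagGrp.lfp_of_isMultTypeFT hG
  haveI : Flat G.hom := GrothLib.DiagGrp.flat_of_charts hG
  obtain ⟨A, υ, hυ, hA, -, -⟩ := GrothLib.HomScheme.exists_grpHom G H
  exact ⟨A, υ, hυ, GrothLib.HomScheme.finite_etale_hom hG hH hυ⟩

end Groth.Agent.S5263
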