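import Groth.Statements.S7654
import Groth.Agent.Lib.DeltaFlat4.Main
import Groth.Agent.Lib.Hensel.Noetherian

set_option autoImplicit false
universe u
open CategoryTheory CategoryTheory.Limits AlgebraicGeometry
open Variety

namespace Groth.Agent.S7654

open IsLocalRing GrothLib in
theorem key (A B : Type u) [CommRing A] [IsLocalRing A] [IsReduced A] (hN : CAlg.IsNagata A)
    (hdim : ringKrullDim A = 1) [CommRing B] [IsLocalRing B] [IsNoetherianRing B] [Algebra A B]
    [IsLocalHom (algebraMap A B)] [Module.Flat A B]
    (hm : (maximalIdeal A).map (algebraMap A B) = maximalIdeal B)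
    [Algebra.IsSeparable (ResidueField A) (ResidueField B)] :
    Curv2.deltaInv B = Curv2.deltaInv A :=
  haveI := hN.1
  DeltaFlat4.deltaInv_eq A B hdim (RedTotal.finite_integralClosure hN) RedTotal.localization_normal hm

theorem isSeparable_of_surjective {k L : Type u} [Field k] [Field L] [Algebra k L]
    (h : Function.Surjective (algebraMap k L)) : Algebra.IsSeparable k L :=
  ⟨fun x => by
    obtain ⟨r, rfl⟩ := h x
    exact isSeparable_algebraMap r⟩

/-- For a reduced local Nagata ring A of Krull dimension one, the δ-invariant does not change on passing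
to a henselization of A, to a strict henselization of A, or to the completion of A. -/
theorem result (A : Type u) [CommRing A] [IsLocalRing A]
    [IsReduced A] (hN : CAlg.IsNagata A) (hdim : ringKrullDim A = 1) :
    (∀ (B : Type u) [CommRing B] [IsLocalRing B] [Algebra A B] [IsLocalHom (algebraMap A B)],
        Hensel.IsHenselization A B → Curv2.deltaInv B = Curv2.deltaInv A) ∧
      (∀ (B : Type u) [CommRing B] [IsLocalRing B] [Algebra A B] [IsLocalHom (algebraMap A B)],
        Hensel.IsStrictHenselization A B → Curv2.deltaInv B = Curv2.deltaInv A) ∧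
      Curv2.deltaInv (Curv2.cpl A) = Curv2.deltaInv A := by
  haveI := hN.1
  refine ⟨fun B _ _ _ _ hB => ?_, fun B _ _ _ _ hB => ?_, ?_⟩
  · haveI := hB
    haveI : IsNoetherianRing B := (GrothLib.Hensel.IsHenselization.isNoetherianRing_iff (R := A)).1 hN.1
    haveI : Module.Flat A B := GrothLib.Hensel.IsHenselization.flat
    haveI := isSeparable_of_surjective (k := IsLocalRing.ResidueField A) (L := IsLocalRing.ResidueField B)
      (GrothLib.Hensel.IsHenselization.residueField_map_bijective (R := A) (S := B)).2
    exact key A B hN hdim GrothLib.Hensel.IsHenselization.map_maximalIdeal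
  · haveI := hB
    haveI : IsNoetherianRing B :=
      (GrothLib.Hensel.IsStrictHenselization.isNoetherianRing_iff (R := A)).1 hN.1
    haveI : Module.Flat A B := GrothLib.Hensel.IsStrictHenselization.flat
    haveI := hB.isSepClosure.separable
    exact key A B hN hdim GrothLib.Hensel.IsStrictHenselization.map_maximalIdeal
  · haveI : IsNoetherianRing (Curv2.cpl A) :=
      GrothLib.Hensel.isNoetherianRing_adicCompletion _ (IsNoetherian.noetherian _)
    haveI := isSeparable_of_surjective (k := IsLocalRing.ResidueField A)
      (L := IsLocalRing.ResidueField (Curv2.cpl A)) (AdicCompletion.residueField_map_bijective A).2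
    exact key A (Curv2.cpl A) hN hdim AdicCompletion.maximalIdeal_eq_map.symm

end Groth.Agent.S7654
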