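import Groth.Statements.S14541
import Groth.Agent.Lib.TorsorDesc.Basic
-- import your own Groth.Agent.* helpers here

set_option autoImplicit false
universe u
open CategoryTheory MonoidalCategory CartesianMonoidalCategory MonObj GrpObj AlgebraicGeometry
open PrincBund

namespace Groth.Agent.S14541

/-- Let X be a scheme, J, J' and J'' group schemes affine over X, with no flatness or finiteness
condition, u : J → J' and v : J' → J'' homomorphisms, P a J-torsor, P' a J'-torsor and P'' a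
J''-torsor, all for the fpqc topology, q' : P → P' an X-morphism compatible with u and q'' : P → P''
an X-morphism compatible with the composite homomorphism J → J' → J''. Then there is exactly one
X-morphism r : P' → P'' compatible with v whose composite with q' is q''. Taking v to be the
identity, the push forward of a torsor along u is unique up to unique isomorphism. -/
theorem result {X : Scheme.{u}}
    {J J' J'' : Over X} [GrpObj J] [GrpObj J'] [GrpObj J''] [IsAffineHom J.hom] [IsAffineHom J'.hom]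
    [IsAffineHom J''.hom] (u : J ⟶ J') [IsMonHom u] (v : J' ⟶ J'') [IsMonHom v] {P P' P'' : Over X}
    (a : AlgGrp.Action J P) (a' : AlgGrp.Action J' P') (a'' : AlgGrp.Action J'' P'')
    (hP : NonAbH1.IsTorsorFor Scheme.fpqcPrecoverage a)
    (hP' : NonAbH1.IsTorsorFor Scheme.fpqcPrecoverage a')
    (hP'' : NonAbH1.IsTorsorFor Scheme.fpqcPrecoverage a'')
    (q' : P ⟶ P') (hq' : a.act ≫ q' = lift (fst J P ≫ u) (snd J P ≫ q') ≫ a'.act)
    (q'' : P ⟶ P'') (hq'' : a.act ≫ q'' = lift (fst J P ≫ u ≫ v) (snd J P ≫ q'') ≫ a''.act) :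
    ∃! r : P' ⟶ P'', a'.act ≫ r = lift (fst J' P' ≫ v) (snd J' P' ≫ r) ≫ a''.act ∧ q' ≫ r = q'' := by
  haveI hiP : IsIso (lift a.act (snd J P)) := hP.1
  haveI hiP' : IsIso (lift a'.act (snd J' P')) := hP'.1
  have exP : ∀ {T : Over X} (p₁ p₂ : T ⟶ P), ∃ h : T ⟶ J, lift h p₂ ≫ a.act = p₁ := by
    intro T p₁ p₂
    have e := congrArg (lift p₁ p₂ ≫ ·) (IsIso.inv_hom_id (lift a.act (snd J P)))
    simp only [Category.comp_id] at e
    rw [← Category.assoc, comp_lift] at e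
    have e₁ := congrArg (· ≫ fst P P) e
    have e₂ := congrArg (· ≫ snd P P) e
    simp only [lift_fst, lift_snd] at e₁ e₂
    refine ⟨(lift p₁ p₂ ≫ inv (lift a.act (snd J P))) ≫ fst J P, ?_⟩
    generalize lift p₁ p₂ ≫ inv (lift a.act (snd J P)) = q at e₁ e₂ ⊢
    rw [← e₂, ← comp_lift, lift_fst_snd, Category.comp_id, e₁]
  have exP' : ∀ {T : Over X} (p₁ p₂ : T ⟶ P'), ∃ h : T ⟶ J', lift h p₂ ≫ a'.act = p₁ := by
    intro T p₁ p₂
    have e := congrArg (lift p₁ p₂ ≫ ·) (IsIso.inv_hom_id (lift a'.act (snd J' P')))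
    simp only [Category.comp_id] at e
    rw [← Category.assoc, comp_lift] at e
    have e₁ := congrArg (· ≫ fst P' P') e
    have e₂ := congrArg (· ≫ snd P' P') e
    simp only [lift_fst, lift_snd] at e₁ e₂
    refine ⟨(lift p₁ p₂ ≫ inv (lift a'.act (snd J' P'))) ≫ fst J' P', ?_⟩
    generalize lift p₁ p₂ ≫ inv (lift a'.act (snd J' P')) = q at e₁ e₂ ⊢
    rw [← e₂, ← comp_lift, lift_fst_snd, Category.comp_id, e₁]
  have freeP' : ∀ {T : Over X} (g₁ g₂ : T ⟶ J') (p : T ⟶ P'),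
      lift g₁ p ≫ a'.act = lift g₂ p ≫ a'.act → g₁ = g₂ := by
    intro T g₁ g₂ p h
    have e : lift g₁ p = lift g₂ p := by
      rw [← cancel_mono (lift a'.act (snd J' P')), comp_lift, comp_lift, h, lift_snd, lift_snd]
    simpa using congrArg (· ≫ fst J' P') e
  have hq'p : ∀ {T : Over X} (h : T ⟶ J) (p : T ⟶ P),
      (lift h p ≫ a.act) ≫ q' = lift (h ≫ u) (p ≫ q') ≫ a'.act := by
    intro T h p
    rw [Category.assoc, hq', comp_lift_assoc, lift_fst_assoc, lift_snd_assoc]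
  have hq''p : ∀ {T : Over X} (h : T ⟶ J) (p : T ⟶ P),
      (lift h p ≫ a.act) ≫ q'' = lift ((h ≫ u) ≫ v) (p ≫ q'') ≫ a''.act := by
    intro T h p
    rw [Category.assoc, hq'', comp_lift_assoc, lift_fst_assoc, lift_snd_assoc, Category.assoc h]
  -- the covering map Φ : J' ⊗ P → P'
  let Φ : J' ⊗ P ⟶ P' := (J' ◁ q') ≫ a'.act
  let ψ : J' ⊗ P ⟶ P'' := lift (fst J' P ≫ v) (snd J' P ≫ q'') ≫ a''.act
  have hΦp : ∀ {T : Over X} (g : T ⟶ J') (p : T ⟶ P), lift g p ≫ Φ = lift g (p ≫ q') ≫ a'.act :=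
    fun g p => lift_whiskerLeft_assoc _ _ _ _
  have hψp : ∀ {T : Over X} (g : T ⟶ J') (p : T ⟶ P), lift g p ≫ ψ = lift (g ≫ v) (p ≫ q'') ≫ a''.act := by
    intro T g p
    change lift g p ≫ lift (fst J' P ≫ v) (snd J' P ≫ q'') ≫ a''.act = _
    rw [comp_lift_assoc, lift_fst_assoc, lift_snd_assoc]
  have hloc : NonAbH1.IsLocallyTrivialFor Scheme.fpqcPrecoverage (Over.mk Φ.left) := by
    obtain ⟨R, hR, hsec⟩ := hP.2
    refine ⟨R.pullbackArrows P'.hom, Precoverage.pullbackArrows_mem P'.hom hR, ?_⟩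
    rintro T t ⟨Z, w, hw⟩
    obtain ⟨s, hs⟩ := hsec w hw
    let T' : Over X := Over.mk (Limits.pullback.snd w P'.hom ≫ P'.hom)
    let x : T' ⟶ P' := Over.homMk (Limits.pullback.snd w P'.hom) rfl
    let p : T' ⟶ P := Over.homMk (Limits.pullback.fst w P'.hom ≫ s)
      (by rw [Category.assoc, show s ≫ P.hom = w from hs, Limits.pullback.condition]; rfl)
    obtain ⟨g, hg⟩ := exP' x (p ≫ q')
    exact ⟨(lift g p).left, congrArg CommaMorphism.left ((hΦp g p).trans hg)⟩
  haveI : EffectiveEpi Φ.left := GrothLib.TorsorDesc.effectiveEpi_of_localSections _ hloc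
  haveI : EffectiveEpi (J' ◁ Φ).left := GrothLib.TorsorDesc.effectiveEpi_whiskerLeft J' Φ hloc
  obtain ⟨r, hr, hrun⟩ := GrothLib.TorsorDesc.existsUnique_desc Φ ψ (by
    intro T x y hxy
    have ex : x = lift (x ≫ fst J' P) (x ≫ snd J' P) := by rw [← comp_lift, lift_fst_snd, Category.comp_id]
    have ey : y = lift (y ≫ fst J' P) (y ≫ snd J' P) := by rw [← comp_lift, lift_fst_snd, Category.comp_id]
    rw [ex, ey, hΦp, hΦp] at hxy
    rw [ex, ey, hψp, hψp]
    obtain ⟨h, hh⟩ := exP (x ≫ snd J' P) (y ≫ snd J' P)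
    rw [← hh, hq'p, ← AlgGrp.Action.lift_mul_act] at hxy
    rw [← hh, hq''p, ← AlgGrp.Action.lift_mul_act, ← freeP' _ _ _ hxy, MonObj.mul_comp])
  have hrp : ∀ {T : Over X} (g : T ⟶ J') (p : T ⟶ P),
      (lift g (p ≫ q') ≫ a'.act) ≫ r = lift (g ≫ v) (p ≫ q'') ≫ a''.act := by
    intro T g p
    rw [← hΦp, Category.assoc, hr, hψp]
  have hv1 : ∀ {T : Over X}, ((1 : T ⟶ J') ≫ v) = 1 := fun {T} => by
    rw [Hom.one_def, Category.assoc, IsMonHom.one_hom, Hom.one_def]
  refine ⟨r, ⟨?_, ?_⟩, fun r' hr' => hrun r' ?_⟩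
  · apply GrothLib.TorsorDesc.cancel_of_effectiveEpi (J' ◁ Φ)
    apply AlgGrp.Action.hom_ext_lift₂
    intro T g m
    have hm : m = lift (m ≫ fst J' P) (m ≫ snd J' P) := by rw [← comp_lift, lift_fst_snd, Category.comp_id]
    rw [lift_whiskerLeft_assoc, lift_whiskerLeft_assoc, comp_lift_assoc, lift_fst_assoc, lift_snd_assoc, hm, hΦp,
      hrp, ← AlgGrp.Action.lift_mul_act, ← MonObj.mul_comp, ← Category.assoc (lift g _),
      ← AlgGrp.Action.lift_mul_act, hrp]
  · have h := hrp (1 : P ⟶ J') (𝟙 P)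
    rw [AlgGrp.Action.lift_one_act, hv1, AlgGrp.Action.lift_one_act, Category.id_comp, Category.id_comp] at h
    exact h
  · obtain ⟨h1, h2⟩ := hr'
    apply AlgGrp.Action.hom_ext_lift₂
    intro T g p
    rw [← Category.assoc, hΦp, hψp, Category.assoc, h1, comp_lift_assoc, lift_fst_assoc, lift_snd_assoc,
      Category.assoc p, h2]

end Groth.Agent.S14541
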