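import Groth.Statements.S3609
import Groth.Agent.Lib.ShriekBridge22.Invertible
import Groth.Agent.Lib.QCoh.Abelian
-- import your own Groth.Agent.* helpers here

set_option autoImplicit false
universe u
open CategoryTheory CategoryTheory.Limits AlgebraicGeometry
attribute [local instance] HasDerivedCategory.standard
open Dual3

namespace Groth.Agent.S3609

/-- Let S be a Noetherian scheme, X and Y schemes separated and of finite type over S and f : X → Y a
morphism over S; compute f^! through a compactification f = j ∘ p (j : X → X' an open immersion, p :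
X' → Y proper, Rp_* on D_QCoh assumed to exist and to preserve quasi-coherence of cohomology, a a
right adjoint of Rp_*, restriction of modules to opens assumed exact), so that f^!K = a(K)|_X. If f
is a local complete intersection morphism (affine-locally given by local complete intersection ring
maps) and O denotes the structure sheaf of Y in degree 0, then f^!O is an invertible object of
D(O_X): every point of X has an open neighbourhood over which it is isomorphic to a shift of the
structure sheaf. -/
theorem result (S X Y : Scheme.{u}) [IsNoetherian S] (p : X ⟶ S) (q : Y ⟶ S) [Dual3.IsSepFT p] [Dual3.IsSepFT q] (f : X ⟶ Y) (w : f ≫ q = p) (hf : Dual3.IsLCIMor f) (c : DEt.Compactification f) [DCoh.HasRpush c.fbar] (hc : DCoh.RpushPreservesQCoh c.fbar) (a : DCoh.DQCoh Y ⥤ DCoh.DQCoh c.Xbar) (adj : DCoh.RpushQ c.fbar hc ⊣ a) [∀ (U V : Scheme.{u}) (j : U ⟶ V) [IsOpenImmersion j], PreservesFiniteLimits (Scheme.Modules.restrictFunctor j)] (O : DCoh.DQCoh Y) (hO : Nonempty (O.obj ≅ DCoh.inD Y (Coh.structureModule Y))) : Dual3.IsInvertibleD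 ((Dual3.shriekC c a).obj O) := by
  haveI : LocallyOfFiniteType f := by
    haveI : LocallyOfFiniteType (f ≫ q) := by rw [w]; infer_instance
    exact locallyOfFiniteType_of_comp f q
  haveI : IsNoetherian Y := GrothLib.ShriekBridge22.isNoetherian_of_sepFT q
  intro x
  obtain ⟨⟨U, hU⟩, ⟨V, hV⟩, e, hx, hl⟩ := hf x
  letI := (f.appLE V U e).hom.toAlgebra
  obtain ⟨_, _, _, n, ψ, hψ⟩ := GrothLib.ShriekBridge22.exists_chart_pres f U hU V hV e
  obtain ⟨ec⟩ := GrothLib.ShriekBridge22.nonempty_shriekC_O c hc adj O hO U hU V hV e ψ hψ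
  obtain ⟨y, hy⟩ := GrothLib.OX.mem_range_fromSpec hU hx
  haveI : ∀ g : Γ(X, U), PreservesFiniteLimits (GrothLib.DualCx22.bcMod (A := Γ(X, U)) (Localization.Away g)) :=
    fun g =>
      haveI : Module.Flat Γ(X, U) (Localization.Away g) := IsLocalization.flat _ (Submonoid.powers g)
      GrothLib.DR.preservesFiniteLimits_extendScalars (algebraMap Γ(X, U) (Localization.Away g)) GrothLib.DR.flat_algebraMap
  obtain ⟨g, hg, m, ⟨em⟩⟩ := GrothLib.DualRing.LCIInv.exists_away ψ hψ hl y
  obtain ⟨W, hW, ⟨r⟩⟩ := GrothLib.ShriekBridge22.exists_opens_iso_of_away hU.fromSpec _ ec g m em y hg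
  exact ⟨W, m, hy ▸ hW, ⟨r⟩⟩

end Groth.Agent.S3609
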