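import Groth.Statements.S10962
import Groth.Agent.Lib.ProjPic26.Over
import Groth.Agent.Lib.ProjPic26.Relative
import Groth.Agent.Lib.Ample.ProjAmple
import Groth.Agent.Lib.Ample.RelAmple
import Groth.Agent.Lib.Ample.Criterion
import Groth.Agent.Lib.Cube.AmpleDescent
import Groth.Agent.Lib.GrTilde.Mul
import Groth.Agent.S10829

set_option autoImplicit false
set_option linter.all false
universe u
open CategoryTheory CategoryTheory.Limits AlgebraicGeometry TopologicalSpace
open SDiv

namespace Groth.Agent.S10962

/-- Let R be a nonzero ring and n ≥ 1, and let X be projective n-space over R. For an integer d, the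
Serre twist O_X(d) is ample if and only if d > 0. (Ample is taken in the sense that X is
quasi-compact and covered by the affine open non-vanishing loci X_s of global sections s of positive
tensor powers; for the quasi-compact separated scheme X this agrees with the definition through
finitely many generating sections with quasi-affine non-vanishing loci. The published remark also
asserts that O_X(d) is very ample relative to R for d > 0; that clause is not part of this row.) -/
theorem result (R : Type u) [CommRing R] [Nontrivial R] (n : ℕ) (hn : 1 ≤ n) (d : ℤ) :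
    CohB1.IsAmple (Twist.twistProjSpace n R d) ↔ 0 < d := by
  have h1 := GrothLib.ProjPic26.h1_polyGrading n R
  constructor
  · intro h
    by_contra hd
    rw [not_lt] at hd
    obtain ⟨m, rfl⟩ : ∃ m : ℕ, d = -(m : ℤ) := ⟨(-d).toNat, by omega⟩
    have hO : CohB1.IsAmple (Coh.structureModule (CohB1.ProjSpace n R)) := by
      obtain ⟨z⟩ := GrothLib.GrTilde.nonempty_structureModule_iso_twist_zero (CohB1.polyGrading n R)
      rcases Nat.eq_zero_or_pos m with hm | hm
      · subst hm
        exact (GrothLib.Ample.isAmple_iff_of_iso z).mpr (by rw [Nat.cast_zero, neg_zero] at h; exact h)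
      · obtain ⟨t⟩ := GrothLib.GrTilde.nonempty_twist_iso_tensorPow h1 m
        have hm' : CohB1.IsAmple (Twist.twist (CohB1.polyGrading n R) (m : ℤ)) :=
          (GrothLib.Ample.isAmple_iff_of_iso t).mpr
            ((GrothLib.Ample.isAmple_tensorPow_iff (GrothLib.ProjPic26.isInvertible_twistProjSpace n R 1) hm).mp
              (GrothLib.Ample.isAmple_twistProjSpace_one n R))
        obtain ⟨s⟩ := GrothLib.GrTilde.nonempty_twist_tensor_twist h1 (-(m : ℤ)) (m : ℤ)
        exact (GrothLib.Ample.isAmple_iff_of_iso (s ≪≫ eqToIso (by rw [neg_add_cancel]) ≪≫ z.symm)).mp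
          (GrothLib.Ample.isAmple_tensorMod h hm')
    obtain ⟨I, hI⟩ := Ideal.exists_maximal R
    haveI := hI
    letI := Ideal.Quotient.field I
    let φ := Spec.map (CommRingCat.ofHom (Ideal.Quotient.mk I))
    have hR := GrothLib.ProjPic26.isPullback_chi n R
    have hK := GrothLib.ProjPic26.isPullback_chi n (R ⧸ I)
    let g : CohB1.ProjSpace n (R ⧸ I) ⟶ CohB1.ProjSpace n R :=
      hR.lift (GrothLib.ProjPic26.chi n (R ⧸ I)) (CohB1.ProjSpace.toSpec n (R ⧸ I) ≫ φ)
        (specULiftZIsTerminal.hom_ext _ _)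
    have hg : IsPullback g (CohB1.ProjSpace.toSpec n (R ⧸ I)) (CohB1.ProjSpace.toSpec n R) φ := by
      refine IsPullback.of_right ?_ (hR.lift_snd _ _ _) hR
      rw [hR.lift_fst, specULiftZIsTerminal.hom_ext (φ ≫ specULiftZIsTerminal.from _) (specULiftZIsTerminal.from _)]
      exact hK
    haveI : IsAffineHom g := MorphismProperty.of_isPullback hg.flip (inferInstance : IsAffineHom φ)
    haveI : (CohB1.ProjSpace n R).IsQuasiAffine := GrothLib.Ample.isQuasiAffine_iff.mpr hO
    haveI : (CohB1.ProjSpace n (R ⧸ I)).IsQuasiAffine := Scheme.IsQuasiAffine.of_isAffineHom g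
    haveI := GrothLib.Chow.isProper_toSpec n (R ⧸ I)
    haveI : Finite (CohB1.ProjSpace n (R ⧸ I)) :=
      GrothLib.Cube.finite_of_isQuasiAffine (CohB1.ProjSpace.toSpec n (R ⧸ I))
    haveI : JacobsonSpace (CohB1.ProjSpace n (R ⧸ I)) :=
      LocallyOfFiniteType.jacobsonSpace (CohB1.ProjSpace.toSpec n (R ⧸ I))
    haveI : IsIntegral (CohB1.ProjSpace n (R ⧸ I)) := GrothLib.ProjDim.isIntegral_proj (R ⧸ I) n
    haveI : DiscreteTopology (CohB1.ProjSpace n (R ⧸ I)) := inferInstance
    haveI : Subsingleton (CohB1.ProjSpace n (R ⧸ I)) := ⟨fun a b => by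
      have hab := (PreirreducibleSpace.isPreirreducible_univ (X := CohB1.ProjSpace n (R ⧸ I))) {a} {b}
        (isOpen_discrete _) (isOpen_discrete _) ⟨a, trivial, rfl⟩ ⟨b, trivial, rfl⟩
      obtain ⟨c, -, rfl, hc⟩ := hab
      exact hc⟩
    haveI : Subsingleton (IrreducibleCloseds (CohB1.ProjSpace n (R ⧸ I))) := ⟨fun A B => by
      ext x
      obtain ⟨a, ha⟩ := A.isIrreducible.nonempty
      obtain ⟨b, hb⟩ := B.isIrreducible.nonempty
      exact ⟨fun _ => Subsingleton.elim b x ▸ hb, fun _ => Subsingleton.elim a x ▸ ha⟩⟩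
    have h0 : topologicalKrullDim (CohB1.ProjSpace n (R ⧸ I)) ≤ 0 := Order.krullDim_nonpos_of_subsingleton
    rw [Groth.Agent.S10829.result] at h0
    have : n ≤ 0 := by exact_mod_cast h0
    omega
  · intro hd
    obtain ⟨m, rfl⟩ : ∃ m : ℕ, d = (m : ℤ) := ⟨d.toNat, by omega⟩
    obtain ⟨t⟩ := GrothLib.GrTilde.nonempty_twist_iso_tensorPow h1 m
    exact (GrothLib.Ample.isAmple_iff_of_iso t).mpr
      ((GrothLib.Ample.isAmple_tensorPow_iff (GrothLib.ProjPic26.isInvertible_twistProjSpace n R 1) (by omega)).mp
        (GrothLib.Ample.isAmple_twistProjSpace_one n R))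

end Groth.Agent.S10962
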