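import Groth.Statements.S5969
import Mathlib
import Groth.Agent.Lib.PPGen.Maps
-- import your own Groth.Agent.* helpers here

set_option autoImplicit false
universe u
open CategoryTheory CategoryTheory.Limits AlgebraicGeometry TopologicalSpace Opposite
open Nrm16

namespace Groth.Agent.S5969

/-- Let f : X ⟶ S be a morphism of schemes and n a natural number. On the order-n infinitesimal
thickening of the diagonal of f there is an endomorphism σ which is compatible, under the immersion
into X ×_S X, with the symmetry exchanging the two factors; σ is an involution, it exchanges the two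
projections to X (so it exchanges the two O_X-algebra structures of P^n_{X/S}) and it fixes the
diagonal section. -/
theorem result {X S : Scheme.{u}} (f : X ⟶ S) (n : ℕ) :
    ∃ σ : PrinPart.nbhd f n ⟶ PrinPart.nbhd f n,
      σ ≫ PrinPart.nbhdι f n = PrinPart.nbhdι f n ≫ (pullbackSymmetry f f).hom ∧
      σ ≫ σ = 𝟙 (PrinPart.nbhd f n) ∧
      σ ≫ PrinPart.pr1 f n = PrinPart.pr2 f n ∧ σ ≫ PrinPart.pr2 f n = PrinPart.pr1 f n ∧
      PrinPart.toNbhd f n ≫ σ = PrinPart.toNbhd f n := by
  let Ω := (pullback.diagonal f).coborderRange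
  let s := (pullbackSymmetry f f).hom
  have hds : pullback.diagonal f ≫ s = pullback.diagonal f :=
    pullback.hom_ext (by simp [s]) (by simp [s])
  have hss : s ≫ s = 𝟙 _ := pullback.hom_ext (by simp [s]) (by simp [s])
  have hinv : ∀ y, s (s y) = y := fun y => by
    rw [← Scheme.Hom.comp_apply, hss]; rfl
  have hrange : (fun y => s y) ⁻¹'
      Set.range (pullback.diagonal f) = Set.range (pullback.diagonal f) := by
    ext y
    constructor
    · rintro ⟨z, hz⟩
      refine ⟨z, ?_⟩
      have hz' : pullback.diagonal f z = s y := hz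
      rw [← hinv y, ← hz', ← Scheme.Hom.comp_apply, hds]
    · rintro ⟨z, rfl⟩
      refine ⟨z, ?_⟩
      show pullback.diagonal f z = s (pullback.diagonal f z)
      rw [← Scheme.Hom.comp_apply, hds]
  have hΩ : Set.range (Ω.ι ≫ s) ⊆ Set.range Ω.ι := by
    rintro _ ⟨y, rfl⟩
    rw [Scheme.Opens.range_ι, Scheme.Hom.comp_apply]
    have h1 : (fun y => s y) ⁻¹'
        coborder (Set.range (pullback.diagonal f)) = coborder (Set.range (pullback.diagonal f)) := by
      have := Topology.IsOpenEmbedding.coborder_preimage (Scheme.Hom.homeomorph s).isOpenEmbedding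
        (Set.range (pullback.diagonal f))
      rw [show (⇑(Scheme.Hom.homeomorph s)) = (fun y => s y) from rfl, hrange] at this
      exact this.symm
    have h2 : Ω.ι y ∈ coborder (Set.range (pullback.diagonal f)) := y.2
    rw [← h1] at h2
    exact h2
  let s' : (Ω : Scheme.{u}) ⟶ (Ω : Scheme.{u}) := IsOpenImmersion.lift Ω.ι (Ω.ι ≫ s) hΩ
  have hs' : s' ≫ Ω.ι = Ω.ι ≫ s := IsOpenImmersion.lift_fac _ _ _
  have hd' : 𝟙 X ≫ PrinPart.diagCl f = PrinPart.diagCl f ≫ s' := by
    rw [← cancel_mono Ω.ι, Category.id_comp, Category.assoc, hs', ← Category.assoc]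
    simp [Ω, hds]
  obtain ⟨σ, hσ⟩ := GrothLib.PPGen.exists_infNbhd_map (PrinPart.diagCl f) (PrinPart.diagCl f) s'
    (𝟙 X) hd' n
  have hσι : σ ≫ PrinPart.nbhdι f n = PrinPart.nbhdι f n ≫ s := by
    rw [PrinPart.nbhdι, reassoc_of% hσ, Category.assoc, hs']
  haveI : Mono (PrinPart.nbhdι f n) := by
    haveI := GrothLib.PPGen.mono_infNbhdι (PrinPart.diagCl f) n
    unfold PrinPart.nbhdι
    infer_instance
  refine ⟨σ, hσι, ?_, ?_, ?_, ?_⟩
  · rw [← cancel_mono (PrinPart.nbhdι f n), Category.assoc, hσι, reassoc_of% hσι, hss,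
      Category.comp_id, Category.id_comp]
  · rw [PrinPart.pr1, PrinPart.pr2, reassoc_of% hσι]; simp [s]
  · rw [PrinPart.pr2, PrinPart.pr1, reassoc_of% hσι]; simp [s]
  · rw [← cancel_mono (PrinPart.nbhdι f n), Category.assoc, hσι, PrinPart.toNbhd_ι_assoc, hds,
      PrinPart.toNbhd_ι]

end Groth.Agent.S5969
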