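import Groth.Statements.S1509
import Groth.Agent.Lib.PerfHom.Scheme
import Groth.Agent.Lib.LCI6.Perfect
import Groth.Agent.Lib.LCI6.InLocus
import Groth.Agent.Lib.LCI6.Koszul
-- import your own Groth.Agent.* helpers here

set_option autoImplicit false
universe u
attribute [local instance] HasDerivedCategory.standard
open FlatMor

namespace Groth.Agent.S1509

open AlgebraicGeometry CategoryTheory Limits in
/-- A regular closed immersion (kernel ideal locally generated by a regular sequence) is a perfect
morphism. -/
theorem result {Z X : Scheme.{u}} (i : Z ⟶ X) (hi : Mor2.IsRegularClosedImmersion i) : MoreMor.IsPerfectMor i := by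
    haveI := hi.1
    have hL : ∀ z, GrothLib.LCI6.InLocus i z := fun z => by
      obtain ⟨U, hU, hzU, rs, hrs, hker⟩ := hi.2 z
      refine (GrothLib.LCI6.isRegularImmersionAt_iff_inLocus i z).mp
        ⟨⟨U, hU⟩, hzU, IsZariskiLocalAtTarget.restrict hi.1 _, rs.reverse,
          GrothLib.KoszulColon.isKoszulRegularSeq_of_isWeaklyRegular _ (by rw [List.reverse_reverse]; exact hrs.toIsWeaklyRegular), ?_⟩
      rw [show Ideal.ofList rs.reverse = Ideal.ofList rs by simp [Ideal.ofList], ← hker, Scheme.Hom.ker_apply]
    intro U V hU hV e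
    letI := (i.appLE V U e).hom.toAlgebra
    exact GrothLib.LCI6.isPerfectHom_of_isLCI (GrothLib.LCI6.isLCI_of_forall_inLocus i hL U V hU hV e)

end Groth.Agent.S1509
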