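import Groth.Statements.S2206
import Groth.Agent.Lib.DiagSmooth.Basic
-- import your own Groth.Agent.* helpers here

set_option autoImplicit false
universe u
open TensorProduct
open LCI

namespace Groth.Agent.S2206

/-- Let A be a Noetherian ring and B a flat A-algebra of finite type, viewed as an algebra over B
tensor_A B through the multiplication map. If B, as a module over B tensor_A B, has finite
Tor-dimension (the diagonal is a perfect ring map), then B is smooth over A. -/
theorem result {A B : Type u} [CommRing A] [CommRing B]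
    [Algebra A B] [IsNoetherianRing A] [Algebra.FiniteType A B] [Module.Flat A B]
    [Algebra (B ⊗[A] B) B]
    (hmul : ∀ x y : B, algebraMap (B ⊗[A] B) B (x ⊗ₜ[A] y) = x * y)
    (h : DRing.HasFiniteTorDim (B ⊗[A] B) B) : Algebra.Smooth A B := by
  haveI : Algebra.FiniteType A (B ⊗[A] B) := Algebra.FiniteType.trans (S := B) ‹_› inferInstance
  haveI : IsNoetherianRing (B ⊗[A] B) := Algebra.FiniteType.isNoetherianRing A _
  let ε : (Fin 1 → B ⊗[A] B) →ₗ[B ⊗[A] B] B :=
    (Algebra.linearMap (B ⊗[A] B) B).comp (LinearMap.proj 0)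
  have hε : Function.Surjective ε := fun b => by
    obtain ⟨t, ht⟩ := GrothLib.DiagSmooth.diag_surjective hmul b
    exact ⟨fun _ => t, ht⟩
  obtain ⟨n, hn⟩ := GrothLib.DiagSmooth.exists_pdLE_of_hasFiniteTorDim ε hε h
  exact GrothLib.DiagSmooth.smooth_of_pdLE hmul hn

end Groth.Agent.S2206
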