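import Groth.Statements.S7002
import Groth.Agent.Lib.DCxRing.FibreSplit
import Groth.Agent.Lib.DCxRing.FibreAmp
import Groth.Agent.Lib.DCxRing.Perfect


set_option autoImplicit false
universe u
open CategoryTheory CategoryTheory.Limits
attribute [local instance] HasDerivedCategory.standard
open DRing

namespace Groth.Agent.S7002

lemma finiteFree_bc {A B : Type u} [CommRing A] [CommRing B] (φ : A →+* B) {P : DRing.Cx A}
    (hP : DRing.TermwiseFiniteFree P) : DRing.TermwiseFiniteFree ((GrothLib.DR.bc φ).obj P) := fun j => by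
  letI := φ.toAlgebra
  haveI := (hP j).1
  haveI := (hP j).2
  exact ⟨inferInstanceAs (Module.Finite B (TensorProduct A B (P.X j))),
    inferInstanceAs (Module.Free B (TensorProduct A B (P.X j)))⟩


/-- Let R be a commutative ring, p a prime ideal of R with residue field κ(p), such that the derived
base change D(R) → D(κ(p)) exists; let i be an integer and K a cochain complex of R-modules which is
pseudo-coherent in D(R) and satisfies H^i(K ⊗^L_R κ(p)) = 0. Then there is an element f ∈ R with f ∉
p such that, for the termwise localization K_f of K over R_f, the truncation τ_(≥ i+1) K_f is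
perfect in D(R_f), its tor amplitude lying in [i+1, b] for some integer b, and K_f ≅ τ_(≥ i+1) K_f ⊕
τ_(≤ i-1) K_f in D(R_f) by an isomorphism carrying K_f → τ_(≥ i+1) K_f to the first projection and
τ_(≤ i-1) K_f → K_f to the second inclusion. -/
theorem result (R : Type u) [CommRing R]
    (p : Ideal R) [p.IsPrime] [DRing.HasLBaseChange (algebraMap R p.ResidueField)] (i : ℤ) (K : DRing.Cx R)
    (hK : DRing.IsPseudoCoherent' R (DRing.toD K))
    (hi : Subsingleton (Dual.HD p.ResidueField ((DRing.LBaseChange (algebraMap R p.ResidueField)).obj (DRing.toD K)) i)) :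
    ∃ f : R, f ∉ p ∧
      let Kf := DRing.toD (((ModuleCat.extendScalars (algebraMap R (Localization.Away f))).mapHomologicalComplex
        (ComplexShape.up ℤ)).obj K)
      let t := (DerivedCategory.TStructure.t : Triangulated.TStructure (Dual.D (Localization.Away f)))
      let Kge := (t.truncGE (i + 1)).obj Kf
      let Klt := (t.truncLT i).obj Kf
      DRing.IsPerfect (Localization.Away f) Kge ∧
        (∃ b : ℤ, DRing.HasTorAmplitudeIn (Localization.Away f) (i + 1) b Kge) ∧
        ∀ [HasBinaryBiproduct Kge Klt], ∃ e : Kf ≅ Kge ⊞ Klt,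
          e.hom ≫ biprod.fst = (t.truncGEπ (i + 1)).app Kf ∧ (t.truncLTι i).app Kf ≫ e.hom = biprod.inr := by
  obtain ⟨P, c, hPc, hPf, ⟨eP⟩⟩ := hK
  have hPk := GrothLib.KF.isKFlat_of_vanishesAbove hPc
    (GrothLib.DR.termwiseFlat_of_projective (GrothLib.DR.projective_of_finiteFree hPf))
  obtain ⟨f, hf, u, v, huv⟩ := GrothLib.DR.exists_contraction_away p P hPf i
    (GrothLib.DR.exactAt_bc_of_lBase (algebraMap R p.ResidueField) hPk ⟨eP⟩ i hi)
  refine ⟨f, hf, ?_⟩
  intro Kf t Kge Klt
  let φ := algebraMap R (Localization.Away f)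
  let Pf := (GrothLib.DR.bc φ).obj P
  haveI := GrothLib.DR.preservesFiniteLimits_extendScalars φ GrothLib.DR.flat_algebraMap
  let e : DRing.toD Pf ≅ Kf := GrothLib.DR.toDMapCongr (ModuleCat.extendScalars φ) eP
  have hPfc : DRing.VanishesAbove Pf c := fun j hj => (ModuleCat.extendScalars φ).map_isZero (hPc j hj)
  have hPff : DRing.TermwiseFiniteFree Pf := finiteFree_bc φ hPf
  haveI := GrothLib.DR.isKProjective Pf c hPfc (GrothLib.DR.projective_of_finiteFree hPff)
  have hhom : ∀ (N : Type u) [AddCommGroup N] [Module (Localization.Away f) N],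
      Subsingleton (Kf ⟶ (shiftFunctor _ (-i)).obj (Dual.inD (Localization.Away f) N)) := fun N _ _ =>
    (Iso.homFromEquiv e).subsingleton_congr.1 (GrothLib.DR.subsingleton_hom_single_of_contraction Pf i u v huv N)
  have hHi : Subsingleton (Dual.HD _ Kf i) := GrothLib.DR.subsingleton_HD_of_iso e i
    ((GrothLib.DR.exactAt_iff Pf i).1 (by
      rw [GrothLib.DR.element_exact Pf (i - 1) i (i + 1) (by omega) rfl]
      intro z hz
      refine ⟨v z, ?_⟩
      have h := huv z
      rwa [hz, map_zero, zero_add] at h))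
  have hb : ∀ j, c < j → Subsingleton (Dual.HD _ Kf j) := fun j hj => GrothLib.DR.subsingleton_HD_of_iso e j
    ((GrothLib.DR.exactAt_iff Pf j).1 (ShortComplex.exact_of_isZero_X₂ _ (hPfc j hj)))
  have hamp : GrothLib.DR.HasProjAmp Kge (i + 1) (max c (i + 1)) :=
    GrothLib.DR.hasProjAmp_truncGE i c Kf hb fun M M' _ _ _ _ g _ => fun x y _ =>
      @Subsingleton.elim _ (hhom M) x y
  have hδ := GrothLib.DR.subsingleton_hom_of_hasProjAmp' hamp
    (Y := (shiftFunctor _ (1 : ℤ)).obj ((t.truncLT (i + 1)).obj Kf)) fun j hj =>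
      ((((DerivedCategory.homologyFunctor (ModuleCat.{u} (Localization.Away f)) 0).shiftIso 1 j (1 + j) rfl).app
        ((t.truncLT (i + 1)).obj Kf)).toLinearEquiv).toEquiv.subsingleton_congr.2
          ((GrothLib.DR.subsingleton_iff_isZero _).2 (GrothLib.DerTrunc.isZero_homology_truncLT Kf (i + 1) (1 + j) (by omega)))
  obtain ⟨e', he₁, he₂⟩ := GrothLib.DR.exists_split Kf i (i + 1) (by omega) (fun j hj hj' => by
    obtain rfl : j = i := by omega
    exact hHi) hδ
  obtain ⟨E, hEv, hEp, ⟨eE⟩⟩ := hamp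
  have hTor : DRing.HasTorAmplitudeIn (Localization.Away f) (i + 1) (max c (i + 1)) Kge :=
    ⟨E, hEv, GrothLib.DR.termwiseFlat_of_projective hEp, ⟨eE⟩⟩
  have hpc : DRing.IsPseudoCoherent' (Localization.Away f) Kge :=
    GrothLib.DR.isPseudoCoherent'_of_forall fun m => (GrothLib.DR.isPseudoCoherent_of_biprod Klt Kge m
      (GrothLib.DerBC.isPseudoCoherent_of_iso e'
        (GrothLib.DR.isPseudoCoherent_of_prime ⟨Pf, c, hPfc, hPff, ⟨e⟩⟩ m))).2
  refine ⟨GrothLib.DR.isPerfect_iff.2 ⟨hpc, i + 1, max c (i + 1), hTor⟩, ⟨_, hTor⟩, fun {_} => ?_⟩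
  refine ⟨e' ≪≫
    { hom := biprod.lift biprod.snd biprod.fst
      inv := biprod.lift biprod.snd biprod.fst
      hom_inv_id := by apply biprod.hom_ext <;> simp <;> exact Category.id_comp _
      inv_hom_id := by apply biprod.hom_ext <;> simp <;> exact Category.id_comp _ }, ?_, ?_⟩
  · rw [Iso.trans_hom, Category.assoc, biprod.lift_fst]
    exact he₂
  · rw [Iso.trans_hom, ← Category.assoc, he₁]
    apply biprod.hom_ext <;> simp <;> first | exact biprod.inr_fst.symm | exact biprod.inr_snd.symm

end Groth.Agent.S7002
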