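import Groth.Statements.S15779
import Mathlib
import Groth.Agent.Lib.Hensel.LocalFactor
-- import your own Groth.Agent.* helpers here

set_option autoImplicit false
universe u
open Polynomial
open CAlg

namespace Groth.Agent.S15779


variable {R : Type u} [CommRing R]

/-- monic polynomials are units modulo an ideal avoiding the special fibre -/
theorem isUnit_mk_of_monic [IsLocalRing R] {I : Ideal R[X]}
    (hI : I ⊔ (IsLocalRing.maximalIdeal R).map (algebraMap R R[X]) = ⊤) {Q : R[X]} (hQ : Q.Monic) :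
    IsUnit (Ideal.Quotient.mk I Q) := by
  suffices h : I ⊔ Ideal.span {Q} = ⊤ by
    have h1 : (1 : R[X]) ∈ I ⊔ Ideal.span {Q} := h ▸ Submodule.mem_top
    obtain ⟨a, ha, b, hb, hab⟩ := Submodule.mem_sup.1 h1
    obtain ⟨c, rfl⟩ := Ideal.mem_span_singleton'.1 hb
    refine IsUnit.of_mul_eq_one (Ideal.Quotient.mk I c) ?_
    have := congrArg (Ideal.Quotient.mk I) hab
    rw [map_add, Ideal.Quotient.eq_zero_iff_mem.2 ha, zero_add, map_one, map_mul] at this
    rwa [mul_comm]
  set K := I ⊔ Ideal.span {Q} with hK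
  haveI : Module.Finite R (R[X] ⧸ Ideal.span {Q}) := hQ.finite_adjoinRoot
  haveI : Module.Finite R (R[X] ⧸ K) := Module.Finite.of_surjective
    (Ideal.Quotient.factorₐ R (show Ideal.span {Q} ≤ K from le_sup_right)).toLinearMap
    (Ideal.Quotient.factor_surjective le_sup_right)
  have hm : (⊤ : Submodule R (R[X] ⧸ K)) ≤ IsLocalRing.maximalIdeal R • ⊤ := by
    intro x _
    rw [Ideal.smul_top_eq_map, Submodule.restrictScalars_mem]
    have h1 : (1 : R[X]) ∈ I ⊔ (IsLocalRing.maximalIdeal R).map (algebraMap R R[X]) := hI ▸ Submodule.mem_top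
    obtain ⟨a, ha, b, hb, hab⟩ := Submodule.mem_sup.1 h1
    have hb' := Ideal.mem_map_of_mem (Ideal.Quotient.mk K) hb
    have := congrArg (Ideal.Quotient.mk K) hab
    rw [map_add, Ideal.Quotient.eq_zero_iff_mem.2 (show a ∈ K from Submodule.mem_sup_left ha), zero_add, map_one]
      at this
    rw [Ideal.map_map, this] at hb'
    rw [← mul_one x]
    exact Ideal.mul_mem_left _ x hb'
  have h0 := Submodule.eq_bot_of_le_smul_of_le_jacobson_bot _ _ Module.Finite.fg_top hm
    (IsLocalRing.maximalIdeal_le_jacobson _)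
  rw [eq_top_iff]
  intro x _
  rw [← Ideal.Quotient.eq_zero_iff_mem]
  exact (Submodule.mem_bot R).1 (h0 ▸ Submodule.mem_top : Ideal.Quotient.mk K x ∈ (⊥ : Submodule R (R[X] ⧸ K)))

/-- constant terms of elements of the special monoid -/
theorem isUnit_mk_X [IsLocalRing R] {I : Ideal R[X]}
    (hI : I ⊔ (IsLocalRing.maximalIdeal R).map (algebraMap R R[X]) = ⊤) :
    IsUnit (Ideal.Quotient.mk I X) :=
  isUnit_mk_of_monic hI monic_X

variable {L : Type u} [CommRing L] [Algebra R[X] L] [Algebra R L] [IsScalarTower R R[X] L]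
  (ψ : R[X] →ₐ[R] L) (hψ : ψ X * algebraMap R[X] L X = 1)

include hψ in
theorem psi_reflect (N : ℕ) (a : R[X]) (ha : a.natDegree ≤ N) :
    ψ (a.reflect N) * algebraMap R[X] L X ^ N = algebraMap R[X] L a := by
  have hC : ∀ c, ψ (C c) = algebraMap R[X] L (C c) := fun c => by
    rw [← Polynomial.algebraMap_eq, AlgHom.commutes, ← IsScalarTower.algebraMap_apply]
  refine Polynomial.induction_with_natDegree_le
    (fun a => ψ (a.reflect N) * algebraMap R[X] L X ^ N = algebraMap R[X] L a) N (by simp) ?_ ?_ a ha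
  · intro i c _ hi
    rw [Polynomial.reflect_C_mul_X_pow, Polynomial.revAt_le hi, map_mul, map_mul, map_pow, map_pow, hC, mul_assoc]
    congr 1
    obtain ⟨j, rfl⟩ := Nat.exists_eq_add_of_le hi
    rw [Nat.add_sub_cancel_left, pow_add, mul_comm (_ ^ i), ← mul_assoc, ← mul_pow, hψ, one_pow, one_mul]
  · intro p q _ _ hp hq
    rw [Polynomial.reflect_add, map_add, add_mul, hp, hq, map_add]

theorem monic_reflect {p : R[X]} (hp : p.coeff 0 = 1) : (p.reflect p.natDegree).Monic := by
  apply Polynomial.monic_of_natDegree_le_of_coeff_eq_one p.natDegree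
  · exact (Polynomial.natDegree_reflect_le).trans (max_self _).le
  · rw [Polynomial.coeff_reflect, Polynomial.revAt_le le_rfl, Nat.sub_self, hp]

include hψ in
theorem exists_retraction [IsLocalRing R]
    [IsLocalization (Submonoid.closure ({f : R[X] | f.coeff 0 = 1} ∪ {X})) L] {I : Ideal R[X]}
    (hI : I ⊔ (IsLocalRing.maximalIdeal R).map (algebraMap R R[X]) = ⊤) :
    ∃ χ : L →+* R[X] ⧸ I, (∀ f, χ (ψ f) = Ideal.Quotient.mk I f) ∧
      ∀ x, ∃ f, Ideal.Quotient.mk I f = χ x ∧ x - ψ f ∈ I.map ψ.toRingHom := by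
  obtain ⟨u, hu⟩ := isUnit_mk_X hI
  let g : R[X] →+* R[X] ⧸ I :=
    Polynomial.eval₂RingHom ((Ideal.Quotient.mk I).comp C) (↑u⁻¹)
  have hg : ∀ (N : ℕ) (a : R[X]), a.natDegree ≤ N → g a * (u : R[X] ⧸ I) ^ N = Ideal.Quotient.mk I (a.reflect N) := by
    intro N a ha
    refine Polynomial.induction_with_natDegree_le
      (fun a => g a * (u : R[X] ⧸ I) ^ N = Ideal.Quotient.mk I (a.reflect N)) N (by simp) ?_ ?_ a ha
    · intro i c _ hi
      rw [Polynomial.reflect_C_mul_X_pow, Polynomial.revAt_le hi, map_mul, map_mul, map_pow, map_pow, mul_assoc,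
        ← hu]
      simp only [g, Polynomial.coe_eval₂RingHom, Polynomial.eval₂_C, Polynomial.eval₂_X, RingHom.comp_apply]
      congr 1
      obtain ⟨j, rfl⟩ := Nat.exists_eq_add_of_le hi
      rw [Nat.add_sub_cancel_left, pow_add, ← mul_assoc, ← mul_pow, Units.inv_mul, one_pow, one_mul]
    · intro p q _ _ hp hq
      rw [map_add, add_mul, hp, hq, Polynomial.reflect_add, map_add]
  have hunit : ∀ y : Submonoid.closure ({f : R[X] | f.coeff 0 = 1} ∪ {X}), IsUnit (g y) := by
    rintro ⟨y, hy⟩
    induction hy using Submonoid.closure_induction with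
    | mem y hy =>
      rcases hy with hy | hy
      · have := isUnit_mk_of_monic hI (monic_reflect hy)
        rw [← hg _ y le_rfl] at this
        exact isUnit_of_mul_isUnit_left this
      · show IsUnit (g y)
        rw [Set.mem_singleton_iff.1 hy]
        simp [g]
    | one => simp
    | mul a b _ _ ha hb => simp only [map_mul]; exact ha.mul hb
  let χ : L →+* R[X] ⧸ I := IsLocalization.lift hunit
  have hχ : ∀ a, χ (algebraMap R[X] L a) = g a := fun a => IsLocalization.lift_eq _ a
  have hχψ : χ.comp ψ.toRingHom = Ideal.Quotient.mk I := by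
    refine Polynomial.ringHom_ext (fun c => ?_) ?_
    · show χ (ψ (C c)) = _
      rw [← Polynomial.algebraMap_eq, AlgHom.commutes, IsScalarTower.algebraMap_apply R R[X] L, hχ]
      simp [g]
    · show χ (ψ X) = _
      have := congrArg χ hψ
      rw [map_mul, map_one, hχ] at this
      simp only [g, Polynomial.coe_eval₂RingHom, Polynomial.eval₂_X] at this
      rw [← hu, ← mul_one (χ _), ← Units.inv_mul u, ← mul_assoc, this, one_mul]
  refine ⟨χ, fun f => RingHom.congr_fun hχψ f, fun x => ?_⟩
  obtain ⟨f, hf⟩ := Ideal.Quotient.mk_surjective (χ x)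
  refine ⟨f, hf, ?_⟩
  rw [← Ideal.Quotient.eq_zero_iff_mem, map_sub, sub_eq_zero]
  let q : R[X] ⧸ I →+* L ⧸ I.map ψ.toRingHom := Ideal.quotientMap _ ψ.toRingHom Ideal.le_comap_map
  have hqχ : q.comp χ = Ideal.Quotient.mk (I.map ψ.toRingHom) := by
    refine IsLocalization.ringHom_ext (Submonoid.closure ({f : R[X] | f.coeff 0 = 1} ∪ {X})) (RingHom.ext fun a => ?_)
    show q (χ (algebraMap R[X] L a)) = Ideal.Quotient.mk _ (algebraMap R[X] L a)
    rw [hχ]
    refine RingHom.congr_fun (Polynomial.ringHom_ext (f := q.comp g)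
      (g := (Ideal.Quotient.mk (I.map ψ.toRingHom)).comp (algebraMap R[X] L)) (fun c => ?_) ?_) a
    · simp only [g, RingHom.comp_apply, Polynomial.coe_eval₂RingHom, Polynomial.eval₂_C, q, Ideal.quotientMap_mk]
      show Ideal.Quotient.mk _ (ψ (C c)) = _
      rw [← Polynomial.algebraMap_eq, AlgHom.commutes, ← IsScalarTower.algebraMap_apply]
    · simp only [g, RingHom.comp_apply, Polynomial.coe_eval₂RingHom, Polynomial.eval₂_X]
      have h1 : q (u : R[X] ⧸ I) = Ideal.Quotient.mk _ (ψ X) := by rw [hu]; rfl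
      have h2 := congrArg (Ideal.Quotient.mk (I.map ψ.toRingHom)) hψ
      rw [map_mul, map_one, ← h1] at h2
      rw [← one_mul (Ideal.Quotient.mk _ (algebraMap R[X] L X)), ← map_one q, ← Units.inv_mul u, map_mul, mul_assoc,
        h2, mul_one]
  rw [← RingHom.congr_fun hqχ x, RingHom.comp_apply, ← hf]
  rfl

include hψ in
theorem exists_psi_unit_mul [IsLocalization (Submonoid.closure ({f : R[X] | f.coeff 0 = 1} ∪ {X})) L] (x : L) :
    ∃ (f : R[X]) (w : L), IsUnit w ∧ ψ f = x * w := by
  obtain ⟨⟨a, s⟩, hs⟩ := IsLocalization.surj (Submonoid.closure ({f : R[X] | f.coeff 0 = 1} ∪ {X})) x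
  refine ⟨a.reflect a.natDegree, algebraMap R[X] L s * ψ X ^ a.natDegree,
    (IsLocalization.map_units L s).mul ((IsUnit.of_mul_eq_one _ hψ).pow _), ?_⟩
  rw [← mul_assoc, hs, ← psi_reflect ψ hψ _ a le_rfl, mul_assoc, ← mul_pow, mul_comm (algebraMap R[X] L X), hψ,
    one_pow, mul_one]

include hψ in
theorem isUnit_psi_monic [IsLocalization (Submonoid.closure ({f : R[X] | f.coeff 0 = 1} ∪ {X})) L] {Q : R[X]}
    (hQ : Q.Monic) : IsUnit (ψ Q) := by
  have h0 : (Q.reflect Q.natDegree).coeff 0 = 1 := by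
    rw [Polynomial.coeff_reflect, Polynomial.revAt_le (Nat.zero_le _), Nat.sub_zero]
    exact hQ.coeff_natDegree
  have h := psi_reflect ψ hψ Q.natDegree (Q.reflect Q.natDegree)
    (Polynomial.natDegree_reflect_le.trans (max_self _).le)
  rw [Polynomial.reflect_reflect] at h
  have hu := IsLocalization.map_units L
    (⟨_, Submonoid.subset_closure (Or.inl h0)⟩ : Submonoid.closure ({f : R[X] | f.coeff 0 = 1} ∪ {X}))
  rw [← h] at hu
  exact isUnit_of_mul_isUnit_left hu


/-- For a Henselian local ring (R, m), L the localisation of R[t] at the monoid generated by t and the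
polynomials with constant term 1, and ψ : R[s] → L the R-algebra map with s ↦ t⁻¹, extension and
contraction along ψ are mutually inverse bijections between the ideals of R[s] comaximal with mR[s]
and the ideals of L comaximal with mL, and R[s]/I → L/IL is bijective for every such I. -/
theorem result (R : Type u) [CommRing R]
    [HenselianLocalRing R] (L : Type u) [CommRing L] [Algebra R[X] L]
    [IsLocalization (Submonoid.closure ({f : R[X] | f.coeff 0 = 1} ∪ {X})) L]
    [Algebra R L] [IsScalarTower R R[X] L]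
    (ψ : R[X] →ₐ[R] L) (hψ : ψ X * algebraMap R[X] L X = 1) :
    (∀ I : Ideal R[X], I ⊔ (IsLocalRing.maximalIdeal R).map (algebraMap R R[X]) = ⊤ →
        (I.map ψ.toRingHom).comap ψ.toRingHom = I ∧
        I.map ψ.toRingHom ⊔ (IsLocalRing.maximalIdeal R).map (algebraMap R L) = ⊤ ∧
        Function.Bijective (Ideal.quotientMap (I.map ψ.toRingHom) ψ.toRingHom Ideal.le_comap_map)) ∧
    (∀ J : Ideal L, J ⊔ (IsLocalRing.maximalIdeal R).map (algebraMap R L) = ⊤ →
        (J.comap ψ.toRingHom).map ψ.toRingHom = J ∧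
        J.comap ψ.toRingHom ⊔ (IsLocalRing.maximalIdeal R).map (algebraMap R R[X]) = ⊤) := by
  classical
  have hfib : ((IsLocalRing.maximalIdeal R).map (algebraMap R R[X])).map ψ.toRingHom =
      (IsLocalRing.maximalIdeal R).map (algebraMap R L) := by
    rw [Ideal.map_map]
    congr 1
    exact ψ.comp_algebraMap
  refine ⟨fun I hI => ?_, fun J hJ => ?_⟩
  · obtain ⟨χ, hχ, hχ'⟩ := exists_retraction ψ hψ hI
    have hker : ∀ x ∈ I.map ψ.toRingHom, χ x = 0 := fun x hx => by
      induction hx using Submodule.span_induction with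
      | mem y hy =>
        obtain ⟨f, hf, rfl⟩ := hy
        exact (hχ f).trans (Ideal.Quotient.eq_zero_iff_mem.2 hf)
      | zero => exact map_zero _
      | add a b _ _ ha hb => rw [map_add, ha, hb, add_zero]
      | smul a b _ hb => rw [smul_eq_mul, map_mul, hb, mul_zero]
    have hcm : (I.map ψ.toRingHom).comap ψ.toRingHom = I :=
      le_antisymm (fun f hf => Ideal.Quotient.eq_zero_iff_mem.1 ((hχ f).symm.trans (hker _ hf))) Ideal.le_comap_map
    refine ⟨hcm, ?_, Ideal.quotientMap_injective' hcm.le, fun y => ?_⟩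
    · rw [← hfib, ← Ideal.map_sup, hI, Ideal.map_top]
    · obtain ⟨x, rfl⟩ := Ideal.Quotient.mk_surjective y
      obtain ⟨f, -, hf⟩ := hχ' x
      exact ⟨Ideal.Quotient.mk _ f, ((Ideal.Quotient.mk_eq_mk_iff_sub_mem _ _).2 hf).symm⟩
  · have h1 : (1 : L) ∈ J ⊔ (IsLocalRing.maximalIdeal R).map (algebraMap R L) := hJ ▸ Submodule.mem_top
    have hmc : (J.comap ψ.toRingHom).map ψ.toRingHom = J := by
      refine le_antisymm Ideal.map_comap_le fun x hx => ?_
      obtain ⟨f, w, hw, hf⟩ := exists_psi_unit_mul ψ hψ x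
      have : ψ f ∈ (J.comap ψ.toRingHom).map ψ.toRingHom :=
        Ideal.mem_map_of_mem _ (show ψ f ∈ J from hf ▸ Ideal.mul_mem_right _ _ hx)
      rw [hf] at this
      exact (Ideal.mul_unit_mem_iff_mem _ hw).1 this
    refine ⟨hmc, ?_⟩
    set M := (IsLocalRing.maximalIdeal R).map (algebraMap R R[X])
    -- an element of the contraction with non-zero reduction
    obtain ⟨g, hgJ, hgne⟩ : ∃ g ∈ J.comap ψ.toRingHom, g ∉ M := by
      by_contra hcon
      have hle : J.comap ψ.toRingHom ≤ M := fun g hg => not_not.1 fun hgn => hcon ⟨g, hg, hgn⟩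
      have h2 : (1 : L) ∈ M.map ψ.toRingHom := by
        have hJle : J ≤ M.map ψ.toRingHom := hmc.symm.le.trans (Ideal.map_mono hle)
        rw [← hfib, sup_eq_right.2 hJle] at h1
        exact h1
      rw [hfib, IsScalarTower.algebraMap_eq R R[X] L, ← Ideal.map_map,
        IsLocalization.mem_map_algebraMap_iff (Submonoid.closure ({f : R[X] | f.coeff 0 = 1} ∪ {X}))] at h2
      obtain ⟨⟨⟨a, ha⟩, ⟨s, hs⟩⟩, has⟩ := h2
      rw [one_mul] at has
      obtain ⟨⟨c, hc⟩, hcs⟩ := (IsLocalization.eq_iff_exists (Submonoid.closure ({f : R[X] | f.coeff 0 = 1} ∪ {X})) L).1 has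
      have hnot : ∀ z ∈ Submonoid.closure ({f : R[X] | f.coeff 0 = 1} ∪ {X}), z ∉ M := by
        intro z hz
        induction hz using Submonoid.closure_induction with
        | mem z hz =>
          intro hzM
          have hzM' := (Ideal.mem_map_C_iff (I := IsLocalRing.maximalIdeal R)).1 hzM
          rcases hz with hz | hz
          · exact (IsLocalRing.maximalIdeal.isMaximal R).ne_top ((Ideal.eq_top_iff_one _).2 (hz ▸ hzM' 0))
          · rw [Set.mem_singleton_iff.1 hz] at hzM'
            have := hzM' 1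
            rw [Polynomial.coeff_X_one] at this
            exact (IsLocalRing.maximalIdeal.isMaximal R).ne_top ((Ideal.eq_top_iff_one _).2 this)
        | one =>
          intro h
          exact (IsLocalRing.maximalIdeal.isMaximal R).ne_top ((Ideal.eq_top_iff_one _).2
            (by simpa using (Ideal.mem_map_C_iff (I := IsLocalRing.maximalIdeal R)).1 h 0))
        | mul z z' _ _ hz hz' =>
          intro h
          haveI : M.IsPrime := Ideal.isPrime_map_C_of_isPrime
          rcases Ideal.IsPrime.mem_or_mem ‹_› h with h | h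
          exacts [hz h, hz' h]
      exact hnot _ (mul_mem hc hs) (by simp only at hcs ⊢; rw [hcs]; exact Ideal.mul_mem_left _ _ ha)
    have hne : g.map (IsLocalRing.residue R) ≠ 0 := fun h0 => hgne <| Ideal.mem_map_C_iff.2 fun i => by
      have := congrArg (fun p => p.coeff i) h0
      rwa [Polynomial.coeff_map, Polynomial.coeff_zero, IsLocalRing.residue_eq_zero_iff] at this
    set c := (g.map (IsLocalRing.residue R)).leadingCoeff with hc
    have hc0 : c ≠ 0 := Polynomial.leadingCoeff_ne_zero.2 hne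
    obtain ⟨Q, h, rfl, hQ, -, hh⟩ := GrothLib.Hensel.exists_factor_lift_local g (g.map (IsLocalRing.residue R) * C c⁻¹) (C c)
      (Polynomial.monic_mul_leadingCoeff_inv hne) ⟨0, C c⁻¹, by rw [zero_mul, zero_add, ← C_mul, inv_mul_cancel₀ hc0, C_1]⟩
      (by rw [mul_assoc, ← C_mul, inv_mul_cancel₀ hc0, C_1, mul_one])
    have hhJ : h ∈ J.comap ψ.toRingHom := by
      have hu := isUnit_psi_monic ψ hψ hQ
      have : ψ Q * ψ h ∈ J := by rw [← map_mul]; exact hgJ
      exact (Ideal.unit_mul_mem_iff_mem _ hu).1 this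
    rw [Ideal.eq_top_iff_one]
    obtain ⟨d, hd⟩ := IsLocalRing.residue_surjective c
    have hd' : IsUnit d := (IsLocalRing.residue_ne_zero_iff_isUnit d).1 (hd ▸ hc0)
    have hdM : h - C d ∈ M := Ideal.mem_map_C_iff.2 fun i => by
      rw [← IsLocalRing.residue_eq_zero_iff, ← Polynomial.coeff_map, Polynomial.map_sub, hh, Polynomial.map_C, hd,
        sub_self, Polynomial.coeff_zero]
    have hmem : C d ∈ J.comap ψ.toRingHom ⊔ M := by
      rw [show C d = h - (h - C d) by ring]
      exact sub_mem (Submodule.mem_sup_left hhJ) (Submodule.mem_sup_right hdM)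
    rw [show (1 : R[X]) = C (↑hd'.unit⁻¹ : R) * C d by rw [← C_mul, IsUnit.val_inv_mul, C_1]]
    exact Ideal.mul_mem_left _ _ hmem

end Groth.Agent.S15779
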