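import Groth.Statements.S15773
import Mathlib
import Groth.Agent.S15779
import Groth.Agent.Lib.HensPrep1.Prep
-- import your own Groth.Agent.* helpers here

set_option autoImplicit false
universe u
open Polynomial
open CAlg

namespace Groth.Agent.S15773


open Groth.Agent.S15779 (isUnit_mk_X)

variable {R : Type u} [CommRing R] {L : Type u} [CommRing L] [Algebra R[X] L] [Algebra R L] [IsScalarTower R R[X] L]
  (ψ : R[X] →ₐ[R] L)

theorem psi_C (c : R) : ψ (C c) = algebraMap R[X] L (C c) := by
  rw [← Polynomial.algebraMap_eq, AlgHom.commutes, ← IsScalarTower.algebraMap_apply]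

/-- reflection of a polynomial with distinguished reverse -/
theorem exists_distinguished_of_sup_eq_top [IsLocalRing R] {I : Ideal R[X]}
    (hI : I ⊔ (IsLocalRing.maximalIdeal R).map (algebraMap R R[X]) = ⊤) :
    ∃ P : R[X], P.Monic ∧ (∀ i < P.natDegree, P.coeff i ∈ IsLocalRing.maximalIdeal R) ∧
      P.reflect P.natDegree ∈ I := by
  obtain ⟨h, hh, z, hz, hhz⟩ := Submodule.mem_sup.1 (hI ▸ Submodule.mem_top : (1 : R[X]) ∈ I ⊔ _)
  have hcoef : ∀ i, h.coeff i - (1 : R[X]).coeff i ∈ IsLocalRing.maximalIdeal R := fun i => by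
    rw [← hhz, coeff_add, show h.coeff i - (h.coeff i + z.coeff i) = -z.coeff i by ring, neg_mem_iff]
    exact Ideal.mem_map_C_iff.1 hz i
  have h0 : IsUnit (h.coeff 0) := by
    have := hcoef 0
    rw [coeff_one_zero] at this
    by_contra hn
    exact (IsLocalRing.maximalIdeal.isMaximal R).ne_top ((Ideal.eq_top_iff_one _).2
      (by simpa using sub_mem (show h.coeff 0 ∈ IsLocalRing.maximalIdeal R from hn) this))
  obtain ⟨v, hv⟩ := h0
  let h' := C (↑v⁻¹ : R) * h
  have h'0 : h'.coeff 0 = 1 := by simp [h', ← hv]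
  have hdeg : (h'.reflect h'.natDegree).natDegree = h'.natDegree := by
    refine le_antisymm (Polynomial.natDegree_reflect_le.trans (max_self _).le) ?_
    refine Polynomial.le_natDegree_of_ne_zero ?_
    rw [Polynomial.coeff_reflect, Polynomial.revAt_le le_rfl, Nat.sub_self, h'0]
    exact one_ne_zero
  refine ⟨h'.reflect h'.natDegree, Groth.Agent.S15779.monic_reflect h'0, fun i hi => ?_, ?_⟩
  · rw [hdeg] at hi
    rw [Polynomial.coeff_reflect, Polynomial.revAt_le hi.le]
    have := hcoef (h'.natDegree - i)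
    rw [coeff_one, if_neg (by omega), sub_zero] at this
    rw [show h' = C (↑v⁻¹ : R) * h from rfl] at this ⊢
    rw [coeff_C_mul]
    exact Ideal.mul_mem_left _ _ this
  · rw [hdeg, Polynomial.reflect_reflect]
    exact Ideal.mul_mem_left _ _ hh

variable [HenselianLocalRing R] {B : Type u} [CommRing B] [Algebra R B] [Algebra R[X] B] [IsScalarTower R R[X] B]
  (hB : Hens2.IsPairHenselization R[X] (Ideal.span {(X : R[X])}) B)
  [Algebra B L] [IsScalarTower R[X] B L] [IsLocalization.Away (algebraMap R[X] B X) L]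
  (hψ : ψ X * algebraMap R[X] L X = 1)

include hB hψ in
theorem main :
    (∀ I : Ideal R[X], I ⊔ (IsLocalRing.maximalIdeal R).map (algebraMap R R[X]) = ⊤ →
        (I.map ψ.toRingHom).comap ψ.toRingHom = I ∧
        I.map ψ.toRingHom ⊔ (IsLocalRing.maximalIdeal R).map (algebraMap R L) = ⊤ ∧
        Function.Bijective (Ideal.quotientMap (I.map ψ.toRingHom) ψ.toRingHom Ideal.le_comap_map)) ∧
    (∀ J : Ideal L, J ⊔ (IsLocalRing.maximalIdeal R).map (algebraMap R L) = ⊤ →
        (J.comap ψ.toRingHom).map ψ.toRingHom = J ∧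
        J.comap ψ.toRingHom ⊔ (IsLocalRing.maximalIdeal R).map (algebraMap R R[X]) = ⊤) := by
  classical
  set M := (IsLocalRing.maximalIdeal R).map (algebraMap R R[X]) with hM
  have hfib : M.map ψ.toRingHom = (IsLocalRing.maximalIdeal R).map (algebraMap R L) := by
    rw [hM, Ideal.map_map]
    congr 1
    exact ψ.comp_algebraMap
  have hrefl := Groth.Agent.S15779.psi_reflect ψ hψ
  have htu : IsUnit (algebraMap R[X] L X) := IsUnit.of_mul_eq_one (ψ X) (by rw [mul_comm, hψ])
  refine ⟨fun I hI => ?_, fun J hJ => ?_⟩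
  · obtain ⟨P, hP, hc, hPI⟩ := exists_distinguished_of_sup_eq_top hI
    obtain ⟨hsurj, hinj⟩ := GrothLib.HensPrep1.quot_distinguished hB hP hc
    letI := Ideal.Quotient.commRing (Ideal.span {P})
    letI := Ideal.Quotient.commRing (Ideal.span {algebraMap R[X] B P})
    let q₀ : R[X] ⧸ Ideal.span {P} →+* B ⧸ Ideal.span {algebraMap R[X] B P} :=
      Ideal.quotientMap _ (algebraMap R[X] B) (by
        rw [Ideal.span_singleton_le_iff_mem]; exact Ideal.mem_span_singleton_self _)
    have hq₀ : Function.Bijective q₀ := by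
      refine ⟨Ideal.quotientMap_injective' hinj, fun y => ?_⟩
      obtain ⟨b, rfl⟩ := Ideal.Quotient.mk_surjective y
      obtain ⟨q, hq⟩ := hsurj b
      exact ⟨Ideal.Quotient.mk _ q, (Ideal.Quotient.mk_eq_mk_iff_sub_mem _ _).2 hq⟩
    obtain ⟨u, hu⟩ := isUnit_mk_X hI
    let g : R[X] →+* R[X] ⧸ I := Polynomial.eval₂RingHom ((Ideal.Quotient.mk I).comp C) (↑u⁻¹)
    have hgX : g X = ↑u⁻¹ := by simp [g]
    have hgC : ∀ c, g (C c) = Ideal.Quotient.mk I (C c) := fun c => by simp [g]
    have hg : ∀ (N : ℕ) (a : R[X]), a.natDegree ≤ N →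
        g a * (u : R[X] ⧸ I) ^ N = Ideal.Quotient.mk I (a.reflect N) := by
      intro N a ha
      refine Polynomial.induction_with_natDegree_le
        (fun a => g a * (u : R[X] ⧸ I) ^ N = Ideal.Quotient.mk I (a.reflect N)) N (by simp) ?_ ?_ a ha
      · intro i c _ hi
        rw [Polynomial.reflect_C_mul_X_pow, Polynomial.revAt_le hi, map_mul, map_mul, map_pow, map_pow, mul_assoc,
          hgC, hgX, ← hu]
        congr 1
        obtain ⟨j, rfl⟩ := Nat.exists_eq_add_of_le hi
        rw [Nat.add_sub_cancel_left, pow_add, ← mul_assoc, ← mul_pow, Units.inv_mul, one_pow, one_mul]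
      · intro p q _ _ hp hq
        rw [map_add, add_mul, hp, hq, Polynomial.reflect_add, map_add]
    have hgP : Ideal.span {P} ≤ RingHom.ker g := by
      rw [Ideal.span_singleton_le_iff_mem, RingHom.mem_ker]
      have := hg P.natDegree P le_rfl
      rw [Ideal.Quotient.eq_zero_iff_mem.2 hPI] at this
      exact ((u.isUnit).pow _).mul_left_eq_zero.1 this
    let χB : B →+* R[X] ⧸ I := ((Ideal.Quotient.lift _ g hgP).comp
      (RingEquiv.ofBijective q₀ hq₀).symm.toRingHom).comp (Ideal.Quotient.mk _)
    have hχB : ∀ a : R[X], χB (algebraMap R[X] B a) = g a := fun a => by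
      show Ideal.Quotient.lift _ g hgP ((RingEquiv.ofBijective q₀ hq₀).symm ((RingEquiv.ofBijective q₀ hq₀) (Ideal.Quotient.mk _ a))) = _
      rw [RingEquiv.symm_apply_apply, Ideal.Quotient.lift_mk]
    have hχt : IsUnit (χB (algebraMap R[X] B X)) := by rw [hχB, hgX]; exact Units.isUnit _
    let χ : L →+* R[X] ⧸ I := IsLocalization.Away.lift (algebraMap R[X] B X) hχt
    have hχ : ∀ a, χ (algebraMap R[X] L a) = g a := fun a => by
      rw [IsScalarTower.algebraMap_apply R[X] B L, IsLocalization.Away.lift_eq, hχB]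
    have hχψ : χ.comp ψ.toRingHom = Ideal.Quotient.mk I := by
      refine Polynomial.ringHom_ext (fun c => ?_) ?_
      · show χ (ψ (C c)) = _
        rw [psi_C, hχ, hgC]
      · show χ (ψ X) = _
        have := congrArg χ hψ
        rw [map_mul, map_one, hχ, hgX] at this
        rw [← hu, ← mul_one (χ _), ← Units.inv_mul u, ← mul_assoc, this, one_mul]
    have hker : I.map ψ.toRingHom ≤ RingHom.ker χ := Ideal.map_le_iff_le_comap.2 fun f hf => by
      rw [Ideal.mem_comap, RingHom.mem_ker]
      exact (RingHom.congr_fun hχψ f).trans (Ideal.Quotient.eq_zero_iff_mem.2 hf)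
    have hcm : (I.map ψ.toRingHom).comap ψ.toRingHom = I :=
      le_antisymm (fun f hf => Ideal.Quotient.eq_zero_iff_mem.1
        ((RingHom.congr_fun hχψ f).symm.trans (hker hf))) Ideal.le_comap_map
    refine ⟨hcm, ?_, Ideal.quotientMap_injective' hcm.le, ?_⟩
    · rw [← hfib, ← Ideal.map_sup, hI, Ideal.map_top]
    -- surjectivity
    let qI : R[X] ⧸ I →+* L ⧸ I.map ψ.toRingHom := Ideal.quotientMap _ ψ.toRingHom Ideal.le_comap_map
    have hq : ∀ a : R[X], qI (g a) = Ideal.Quotient.mk _ (algebraMap R[X] L a) := by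
      intro a
      refine RingHom.congr_fun (Polynomial.ringHom_ext (f := qI.comp g)
        (g := (Ideal.Quotient.mk (I.map ψ.toRingHom)).comp (algebraMap R[X] L)) (fun c => ?_) ?_) a
      · show qI (g (C c)) = Ideal.Quotient.mk _ _
        rw [hgC, ← psi_C ψ]
        rfl
      · show qI (g X) = Ideal.Quotient.mk _ _
        have h1 : qI (u : R[X] ⧸ I) = Ideal.Quotient.mk _ (ψ X) := by rw [hu]; rfl
        have h2 := congrArg (Ideal.Quotient.mk (I.map ψ.toRingHom)) hψ
        rw [map_mul, map_one, ← h1] at h2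
        rw [hgX, ← one_mul (Ideal.Quotient.mk _ (algebraMap R[X] L X)), ← map_one qI, ← Units.inv_mul u, map_mul,
          mul_assoc, h2, mul_one]
    have hqχ : qI.comp χ = Ideal.Quotient.mk (I.map ψ.toRingHom) := by
      refine IsLocalization.ringHom_ext (Submonoid.powers (algebraMap R[X] B X)) (RingHom.ext fun b => ?_)
      obtain ⟨q, hqb⟩ := hsurj b
      obtain ⟨c, hc'⟩ := Ideal.mem_span_singleton'.1 hqb
      have hb : b = algebraMap R[X] B q - c * algebraMap R[X] B P := by rw [hc']; ring
      have hP0 : Ideal.Quotient.mk (I.map ψ.toRingHom) (algebraMap R[X] L P) = 0 := by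
        rw [← hq, RingHom.mem_ker.1 (hgP (Ideal.mem_span_singleton_self P)), map_zero]
      show qI (χ (algebraMap B L b)) = Ideal.Quotient.mk _ (algebraMap B L b)
      rw [hb]
      simp only [map_sub, map_mul, ← IsScalarTower.algebraMap_apply, hχ, hq, hP0, mul_zero]
    intro y
    obtain ⟨x, rfl⟩ := Ideal.Quotient.mk_surjective y
    exact ⟨χ x, RingHom.congr_fun hqχ x⟩
  · set K := J.comap ψ.toRingHom
    have hclear : ∀ x : L, ∃ (b : B) (w : L), IsUnit w ∧ algebraMap B L b = x * w := fun x => by
      obtain ⟨k, b, hb⟩ := IsLocalization.Away.surj (algebraMap R[X] B X) x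
      exact ⟨b, _, (IsLocalization.Away.algebraMap_isUnit (algebraMap R[X] B X)).pow k, hb.symm⟩
    obtain ⟨b, hbJ, hbM⟩ : ∃ b : B, algebraMap B L b ∈ J ∧
        b ∉ (IsLocalRing.maximalIdeal R).map (algebraMap R B) := by
      by_contra hcon
      haveI : IsScalarTower R B L := IsScalarTower.of_algebraMap_eq fun r => by
        rw [IsScalarTower.algebraMap_apply R R[X] L, IsScalarTower.algebraMap_apply R[X] B L,
          ← IsScalarTower.algebraMap_apply R R[X] B]
      have hJle : J ≤ (IsLocalRing.maximalIdeal R).map (algebraMap R L) := fun x hx => by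
        obtain ⟨b, w, hw, hb⟩ := hclear x
        refine (Ideal.mul_unit_mem_iff_mem _ hw).1 ?_
        rw [← hb, IsScalarTower.algebraMap_eq R B L, ← Ideal.map_map]
        exact Ideal.mem_map_of_mem _ (not_not.1 fun hn => hcon ⟨b, hb ▸ Ideal.mul_mem_right _ _ hx, hn⟩)
      rw [sup_eq_right.2 hJle, Ideal.eq_top_iff_one, IsScalarTower.algebraMap_eq R B L, ← Ideal.map_map,
        IsLocalization.mem_map_algebraMap_iff (Submonoid.powers (algebraMap R[X] B X))] at hJ
      obtain ⟨⟨⟨a, ha⟩, ⟨_, n, rfl⟩⟩, has⟩ := hJ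
      rw [one_mul] at has
      obtain ⟨⟨_, l, rfl⟩, hl⟩ := (IsLocalization.eq_iff_exists (Submonoid.powers (algebraMap R[X] B X)) L).1 has
      simp only at hl
      have hmem : algebraMap R[X] B (X ^ (l + n)) ∈ (IsLocalRing.maximalIdeal R).map (algebraMap R B) ⊔
          Ideal.span {algebraMap R[X] B X ^ (l + n + 1)} := by
        rw [map_pow, show algebraMap R[X] B X ^ (l + n) = algebraMap R[X] B X ^ l * a from (pow_add _ _ _).trans hl]
        exact Submodule.mem_sup_left (Ideal.mul_mem_left _ _ ha)
      have := GrothLib.HensPrep1.mem_sup_X_pow_iff.1 (GrothLib.HensPrep1.mem_of_algebraMap_mem hB hmem) (l + n)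
        (Nat.lt_succ_self _)
      rw [coeff_X_pow_self] at this
      exact (IsLocalRing.maximalIdeal.isMaximal R).ne_top ((Ideal.eq_top_iff_one _).2 this)
    obtain ⟨P, v, hP, hc, hbP⟩ := GrothLib.HensPrep1.exists_prep hB hbM
    have hPJ : algebraMap R[X] L P ∈ J := by
      rw [hbP, map_mul, ← IsScalarTower.algebraMap_apply] at hbJ
      exact (Ideal.mul_unit_mem_iff_mem _ (v.isUnit.map _)).1 hbJ
    have hrJ : ∀ a : R[X], algebraMap R[X] L a ∈ J → a.reflect a.natDegree ∈ K := fun a ha => by
      rw [← hrefl _ a le_rfl] at ha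
      exact (Ideal.mul_unit_mem_iff_mem _ (htu.pow _)).1 ha
    have hPK : algebraMap R[X] L P ∈ K.map ψ.toRingHom := by
      rw [← hrefl _ P le_rfl]
      exact Ideal.mul_mem_right _ _ (Ideal.mem_map_of_mem _ (hrJ P hPJ))
    refine ⟨le_antisymm Ideal.map_comap_le fun x hx => ?_, ?_⟩
    · obtain ⟨a, w, hw, ha⟩ := hclear x
      refine (Ideal.mul_unit_mem_iff_mem _ hw).1 ?_
      have haJ : algebraMap B L a ∈ J := ha ▸ Ideal.mul_mem_right _ _ hx
      rw [← ha]
      obtain ⟨q, hq⟩ := (GrothLib.HensPrep1.quot_distinguished hB hP hc).1 a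
      obtain ⟨c, hc'⟩ := Ideal.mem_span_singleton'.1 hq
      have hb : algebraMap B L a = algebraMap R[X] L q - algebraMap B L c * algebraMap R[X] L P := by
        have := congrArg (algebraMap B L) hc'
        simp only [map_sub, map_mul, ← IsScalarTower.algebraMap_apply] at this
        linear_combination this
      have hqJ : algebraMap R[X] L q ∈ J := by
        rw [show algebraMap R[X] L q = algebraMap B L a + algebraMap B L c * algebraMap R[X] L P by rw [hb]; ring]
        exact add_mem haJ (Ideal.mul_mem_left _ _ hPJ)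
      rw [hb]
      refine sub_mem ?_ (Ideal.mul_mem_left _ _ hPK)
      rw [← hrefl _ q le_rfl]
      exact Ideal.mul_mem_right _ _ (Ideal.mem_map_of_mem _ (hrJ q hqJ))
    · rw [Ideal.eq_top_iff_one, show (1 : R[X]) = P.reflect P.natDegree - (P.reflect P.natDegree - 1) by ring]
      refine sub_mem (Submodule.mem_sup_left (hrJ P hPJ)) (Submodule.mem_sup_right (Ideal.mem_map_C_iff.2 fun i => ?_))
      rw [coeff_sub, Polynomial.coeff_reflect, coeff_one]
      rcases Nat.eq_zero_or_pos i with rfl | hi
      · rw [if_pos rfl, Polynomial.revAt_le (Nat.zero_le _), Nat.sub_zero, hP.coeff_natDegree, sub_self]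
        exact zero_mem _
      · rw [if_neg hi.ne', sub_zero]
        rcases le_or_gt i P.natDegree with hin | hin
        · rw [Polynomial.revAt_le hin]
          exact hc _ (by omega)
        · rw [Polynomial.revAt_eq_self_of_lt hin, coeff_eq_zero_of_natDegree_lt hin]
          exact zero_mem _


/-- For a Henselian local ring (R, m), a henselization B of R[t] along (t), L = B[1/t] and the R-algebra
map ψ : R[s] → L sending s to t⁻¹, extension and contraction along ψ are mutually inverse bijections
between the ideals of R[s] comaximal with mR[s] and the ideals of L comaximal with mL, and R[s]/I →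
L/IL is bijective for every such I. (The published statement is phrased with closed subschemes of
Spec R[t⁻¹] and of Spec L not meeting the residue fibre, matched by base change and schematic image,
and treats the localisation (R[t]_{1+tR[t]})[1/t] alongside R{t}[1/t]; this row states it with
ideals and includes the bijection of the corresponding quotient rings.) -/
theorem result (R : Type u) [CommRing R]
    [HenselianLocalRing R] (B : Type u) [CommRing B] [Algebra R B] [Algebra R[X] B] [IsScalarTower R R[X] B]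
    (hB : Hens2.IsPairHenselization R[X] (Ideal.span {(X : R[X])}) B)
    (ψ : R[X] →ₐ[R] Localization.Away (algebraMap R[X] B X))
    (hψ : ψ X * algebraMap B (Localization.Away (algebraMap R[X] B X)) (algebraMap R[X] B X) = 1) :
    (∀ I : Ideal R[X], I ⊔ (IsLocalRing.maximalIdeal R).map (algebraMap R R[X]) = ⊤ →
        (I.map ψ.toRingHom).comap ψ.toRingHom = I ∧
        I.map ψ.toRingHom ⊔ (IsLocalRing.maximalIdeal R).map
          (algebraMap R (Localization.Away (algebraMap R[X] B X))) = ⊤ ∧
        Function.Bijective (Ideal.quotientMap (I.map ψ.toRingHom) ψ.toRingHom Ideal.le_comap_map)) ∧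
    (∀ J : Ideal (Localization.Away (algebraMap R[X] B X)),
        J ⊔ (IsLocalRing.maximalIdeal R).map (algebraMap R (Localization.Away (algebraMap R[X] B X))) = ⊤ →
        (J.comap ψ.toRingHom).map ψ.toRingHom = J ∧
        J.comap ψ.toRingHom ⊔ (IsLocalRing.maximalIdeal R).map (algebraMap R R[X]) = ⊤) := by
  exact main ψ hB (by rw [IsScalarTower.algebraMap_apply R[X] B (Localization.Away (algebraMap R[X] B X))]; exact hψ)

end Groth.Agent.S15773
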