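import Groth.Statements.S19779
import Mathlib
import Groth.Agent.Lib.DenseProj1.Henselian
import Groth.Agent.Lib.Hensel.Henselization
-- import your own Groth.Agent.* helpers here

set_option autoImplicit false
universe u
open Polynomial TensorProduct
open CAlg

namespace Groth.Agent.S19779

/-- For general linear groups, in the case R{t}[1/t] → R((t)), let R be a commutative ring, B = R{t} a
henselization of R[t] along (t), ψ : B → R[[t]] the R[t]-algebra map, L = B[1/t], and L' an
L-algebra identified with R((t)) compatibly with ψ. Then base change along L → L' is a bijection on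
isomorphism classes of finitely generated projective modules: two finitely generated projective
L-modules isomorphic over L' are isomorphic, and every finitely generated projective L'-module is
extended from one over L. (The published statement is the bijection H¹(R{t}[1/t], G) ≅ H¹(R((t)), G)
for every quasi-affine smooth group G; this row is the case of the general linear groups, stated for
finitely generated projective modules of arbitrary rank.) -/
theorem result (R : Type u) [CommRing R]
    (B : Type u) [CommRing B] [Algebra R[X] B] (hB : Hens2.IsPairHenselization R[X] (Ideal.span {(X : R[X])}) B)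
    (ψ : B →ₐ[R[X]] PowerSeries R)
    (L' : Type u) [CommRing L'] [Algebra (Localization.Away (algebraMap R[X] B X)) L'] (e : L' ≃+* LaurentSeries R)
    (he : ∀ b : B, e (algebraMap (Localization.Away (algebraMap R[X] B X)) L' (algebraMap B (Localization.Away (algebraMap R[X] B X)) b)) =
      HahnSeries.ofPowerSeries ℤ R (ψ b)) :
    (∀ (M N : Type u) [AddCommGroup M] [Module (Localization.Away (algebraMap R[X] B X)) M] [Module.Finite (Localization.Away (algebraMap R[X] B X)) M] [Module.Projective (Localization.Away (algebraMap R[X] B X)) M]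
        [AddCommGroup N] [Module (Localization.Away (algebraMap R[X] B X)) N] [Module.Finite (Localization.Away (algebraMap R[X] B X)) N] [Module.Projective (Localization.Away (algebraMap R[X] B X)) N],
        Nonempty (L' ⊗[Localization.Away (algebraMap R[X] B X)] M ≃ₗ[L'] L' ⊗[Localization.Away (algebraMap R[X] B X)] N) → Nonempty (M ≃ₗ[Localization.Away (algebraMap R[X] B X)] N)) ∧
    (∀ (M' : Type u) [AddCommGroup M'] [Module L' M'] [Module.Finite L' M'] [Module.Projective L' M'],
        ∃ (M : Type u) (_ : AddCommGroup M) (_ : Module (Localization.Away (algebraMap R[X] B X)) M),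
          Module.Finite (Localization.Away (algebraMap R[X] B X)) M ∧ Module.Projective (Localization.Away (algebraMap R[X] B X)) M ∧
          Nonempty (L' ⊗[Localization.Away (algebraMap R[X] B X)] M ≃ₗ[L'] M')) := by
  haveI hB1 : HenselianRing B (Ideal.span {algebraMap R[X] B X}) := by
    simpa [Ideal.map_span] using hB.1
  have hsub : ∀ (m : ℕ) (b : B), ∃ p : R[X], (algebraMap R[X] B X) ^ m ∣ b - algebraMap R[X] B p := fun m b => by
    obtain ⟨p, hp⟩ := GrothLib.Hensel.exists_sub_mem_map_pow (Ideal.span {(X : R[X])})
      (GrothLib.Hensel.IsPairHenselization.exists_sub_mem hB) m b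
    rw [Ideal.span_singleton_pow, Ideal.map_span, Set.image_singleton, map_pow, Ideal.mem_span_singleton] at hp
    exact ⟨p, hp⟩
  have hψ : ∀ p : R[X], ψ (algebraMap R[X] B p) = (p : PowerSeries R) := fun p => by
    rw [ψ.commutes]
    simp [PowerSeries.algebraMap_apply', PowerSeries.map]
  have hψX : ψ (algebraMap R[X] B X) = PowerSeries.X := by rw [hψ, Polynomial.coe_X]
  have hjac : algebraMap R[X] B X ∈ (⊥ : Ideal B).jacobson :=
    hB1.jac (Ideal.mem_span_singleton_self _)
  have hjac' : ψ.toRingHom (algebraMap R[X] B X) ∈ (⊥ : Ideal (PowerSeries R)).jacobson :=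
    Ideal.mem_jacobson_bot.2 fun y => by
      show IsUnit (ψ (algebraMap R[X] B X) * y + 1)
      rw [hψX, PowerSeries.isUnit_iff_constantCoeff]
      simp
  letI : Algebra (PowerSeries R) L' := (e.symm.toRingHom.comp (HahnSeries.ofPowerSeries ℤ R)).toAlgebra
  haveI : IsLocalization.Away (PowerSeries.X : PowerSeries R) L' :=
    IsLocalization.isLocalization_of_algEquiv (Submonoid.powers (PowerSeries.X : PowerSeries R))
      (S := LaurentSeries R) (AlgEquiv.ofRingEquiv (f := e.symm) fun _ => rfl)
  haveI : IsLocalization.Away (ψ.toRingHom (algebraMap R[X] B X)) L' := by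
    show IsLocalization.Away (ψ (algebraMap R[X] B X)) L'
    rw [hψX]; infer_instance
  have hcomm : ∀ b, algebraMap (Localization.Away (algebraMap R[X] B X)) L'
      (algebraMap B (Localization.Away (algebraMap R[X] B X)) b) = algebraMap (PowerSeries R) L' (ψ.toRingHom b) :=
    fun b => e.injective ((he b).trans (e.apply_symm_apply _).symm)
  have hd : ∀ (m : ℕ) (y : PowerSeries R), ∃ b, ψ.toRingHom (algebraMap R[X] B X) ^ m ∣ y - ψ.toRingHom b := fun m y => by
    refine ⟨algebraMap R[X] B (PowerSeries.trunc m y), ?_⟩
    show ψ (algebraMap R[X] B X) ^ m ∣ y - ψ (algebraMap R[X] B _)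
    rw [hψX, hψ, PowerSeries.X_pow_dvd_iff]
    intro i hi
    rw [map_sub, Polynomial.coeff_coe, PowerSeries.coeff_trunc, if_pos hi, sub_self]
  have hi : ∀ (m : ℕ) (b : B), ψ.toRingHom (algebraMap R[X] B X) ^ m ∣ ψ.toRingHom b →
      algebraMap R[X] B X ^ m ∣ b := fun m b h => by
    obtain ⟨p, hp⟩ := hsub m b
    have h1 : ψ (algebraMap R[X] B X) ^ m ∣ ψ (algebraMap R[X] B p) := by
      have := map_dvd ψ hp
      rw [map_pow, map_sub] at this
      exact (dvd_sub_right h).1 this
    rw [hψX, hψ, PowerSeries.X_pow_dvd_iff] at h1
    have h2 : (X : R[X]) ^ m ∣ p := Polynomial.X_pow_dvd_iff.2 fun i hi => by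
      simpa [Polynomial.coeff_coe] using h1 i hi
    have h3 := map_dvd (algebraMap R[X] B) h2
    rw [map_pow] at h3
    simpa using dvd_add hp h3
  refine ⟨?_, ?_⟩
  · intro M N _ _ _ _ _ _ _ _ ⟨θ⟩
    exact GrothLib.DenseProj1.nonempty_equiv
      (GrothLib.DenseProj1.isDense_away ψ.toRingHom (algebraMap R[X] B X) hcomm hd hi hjac hjac') M N θ
  · intro M' _ _ _ _
    exact GrothLib.DenseProj1.exists_projective hcomm hd hi hjac' M'

end Groth.Agent.S19779
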