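import Groth.Statements.S15753
import Mathlib
import Groth.Agent.S19779
import Groth.Agent.S15773
import Groth.Agent.Lib.HensPrep1.Pic
import Groth.Agent.Lib.Hensel.PairHull
-- import your own Groth.Agent.* helpers here

set_option autoImplicit false
universe u
open Polynomial TensorProduct
open CAlg

namespace Groth.Agent.S15753


/-- the comparison with abstract localisation -/
theorem aux (R : Type u) [CommRing R] [HenselianLocalRing R]
    (B : Type u) [CommRing B] [Algebra R B] [Algebra R[X] B] [IsScalarTower R R[X] B]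
    (hB : Hens2.IsPairHenselization R[X] (Ideal.span {(X : R[X])}) B)
    (L : Type u) [CommRing L] [Algebra B L] [IsLocalization.Away (algebraMap R[X] B X) L] [Algebra R L]
    [IsScalarTower R B L] (L' : Type u) [CommRing L'] [Algebra L L'] [Algebra R[X] L']
    (ψ : R[X] →ₐ[R] L) (hψ : ψ X * algebraMap B L (algebraMap R[X] B X) = 1)
    (hcomp : algebraMap R[X] L' = (algebraMap L L').comp ψ.toRingHom)
    (hcomap : ∀ I : Ideal R[X], I ⊔ (IsLocalRing.maximalIdeal R).map (algebraMap R R[X]) = ⊤ →
      (I.map ψ.toRingHom).comap ψ.toRingHom = I)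
    (hmap : ∀ J : Ideal L, J ⊔ (IsLocalRing.maximalIdeal R).map (algebraMap R L) = ⊤ →
      (J.comap ψ.toRingHom).map ψ.toRingHom = J ∧
        J.comap ψ.toRingHom ⊔ (IsLocalRing.maximalIdeal R).map (algebraMap R R[X]) = ⊤)
    (hinj : ∀ (M N : Type u) [AddCommGroup M] [Module L M] [Module.Finite L M] [Module.Projective L M]
      [AddCommGroup N] [Module L N] [Module.Finite L N] [Module.Projective L N],
      Nonempty (L' ⊗[L] M ≃ₗ[L'] L' ⊗[L] N) → Nonempty (M ≃ₗ[L] N))
    (hex : ∀ (M' : Type u) [AddCommGroup M'] [Module L' M'] [Module.Finite L' M'] [Module.Projective L' M'],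
      ∃ (M : Type u) (_ : AddCommGroup M) (_ : Module L M), Module.Finite L M ∧ Module.Projective L M ∧
        Nonempty (L' ⊗[L] M ≃ₗ[L'] M')) :
    (∀ (M : Type u) [AddCommGroup M] [Module R[X] M] [Module.Invertible R[X] M],
        Module.Free L' (L' ⊗[R[X]] M) → Module.Free R[X] M) ∧
    (∀ (L₀ : Type u) [AddCommGroup L₀] [Module L' L₀] [Module.Invertible L' L₀],
        ∃ (M : Type u) (_ : AddCommGroup M) (_ : Module R[X] M), Module.Invertible R[X] M ∧
          Nonempty (L₀ ≃ₗ[L'] L' ⊗[R[X]] M)) := by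
  letI : Algebra R[X] L := ψ.toAlgebra
  haveI : IsScalarTower R R[X] L := IsScalarTower.of_algebraMap_eq fun r => (ψ.commutes r).symm
  haveI : IsScalarTower R[X] L L' := IsScalarTower.of_algebraMap_eq' hcomp
  refine ⟨fun M _ _ _ hfree => ?_, fun L₀ _ _ _ => ?_⟩
  · obtain ⟨e⟩ := Module.Invertible.free_iff_linearEquiv.1 hfree
    obtain ⟨e'⟩ := hinj (L ⊗[R[X]] M) L
      ⟨(TensorProduct.AlgebraTensorModule.cancelBaseChange R[X] L L' L' M).trans
        (e.trans (TensorProduct.AlgebraTensorModule.rid L L' L').symm)⟩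
    exact GrothLib.HensPrep1.free_of_free_baseChange hB hψ hcomap M e'
  · obtain ⟨M₀, _, _, _, _, ⟨e₀⟩⟩ := hex L₀
    obtain ⟨N₀, _, _, _, _, ⟨eN⟩⟩ := hex (Module.Dual L' L₀)
    obtain ⟨eM⟩ := hinj (N₀ ⊗[L] M₀) L
      ⟨(TensorProduct.AlgebraTensorModule.distribBaseChange L L' N₀ M₀).trans
        ((TensorProduct.congr eN e₀).trans ((Module.Invertible.linearEquiv L' L₀).trans
          (TensorProduct.AlgebraTensorModule.rid L L' L').symm))⟩
    haveI := Module.Invertible.right eM
    obtain ⟨M, _, _, hM, ⟨eK⟩⟩ := GrothLib.HensPrep1.exists_invertible hB hψ hcomap hmap M₀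
    exact ⟨M, inferInstance, inferInstance, hM, ⟨e₀.symm.trans
      ((TensorProduct.AlgebraTensorModule.congr (LinearEquiv.refl L' L') eK.symm).trans
        (TensorProduct.AlgebraTensorModule.cancelBaseChange R[X] L L' L' M))⟩⟩

/-- Let R be a Henselian local ring and regard R((t)) as an R[s]-algebra through s ↦ t⁻¹. Then the
pullback map Pic(R[t⁻¹]) → Pic(R((t))) is bijective: an invertible R[s]-module that becomes free
over R((t)) is free, and every invertible R((t))-module is extended from an invertible R[s]-module.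
(The published statement is the chain of three bijections Pic(R[t⁻¹]) ≅ Pic((R[t]_{1+tR[t]})[1/t]) ≅
Pic(R{t}[1/t]) ≅ Pic(R((t))), each induced by pullback; this row states the composite.) -/
theorem result (R : Type u) [CommRing R]
    [HenselianLocalRing R] [Algebra R[X] (LaurentSeries R)]
    (halg : algebraMap R[X] (LaurentSeries R) =
      Polynomial.eval₂RingHom (HahnSeries.C) (HahnSeries.single (-1 : ℤ) (1 : R))) :
    (∀ (M : Type u) [AddCommGroup M] [Module R[X] M] [Module.Invertible R[X] M],
        Module.Free (LaurentSeries R) (LaurentSeries R ⊗[R[X]] M) → Module.Free R[X] M) ∧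
    (∀ (L : Type u) [AddCommGroup L] [Module (LaurentSeries R) L] [Module.Invertible (LaurentSeries R) L],
        ∃ (M : Type u) (_ : AddCommGroup M) (_ : Module R[X] M), Module.Invertible R[X] M ∧
          Nonempty (L ≃ₗ[LaurentSeries R] LaurentSeries R ⊗[R[X]] M)) := by
  classical
  haveI hPS : HenselianRing (PowerSeries R) (Ideal.span {(PowerSeries.X : PowerSeries R)}) := inferInstance
  let H := GrothLib.Hensel.Hull R[X] (R[X] ⧸ Ideal.span {(X : R[X])})
  have hH : Hens2.IsPairHenselization R[X] (Ideal.span {(X : R[X])}) H :=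
    GrothLib.Hensel.PairHull.isPairHenselization _ _
  obtain ⟨B, _, _, hB⟩ : ∃ (B : Type u) (_ : CommRing B) (_ : Algebra R[X] B),
      Hens2.IsPairHenselization R[X] (Ideal.span {(X : R[X])}) B := ⟨H, inferInstance, inferInstance, hH⟩
  letI : Algebra R B := ((algebraMap R[X] B).comp (algebraMap R R[X])).toAlgebra
  haveI : IsScalarTower R R[X] B := IsScalarTower.of_algebraMap_eq fun _ => rfl
  obtain ⟨g, hg, -⟩ := hB.2 (PowerSeries R) _ (algebraMap R[X] (PowerSeries R)) hPS (by
    rw [Ideal.map_span, Set.image_singleton]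
    simp [PowerSeries.algebraMap_apply', PowerSeries.map])
  let ψB : B →ₐ[R[X]] PowerSeries R := { g with commutes' := fun p => RingHom.congr_fun hg p }
  have hgp : ∀ p : R[X], g (algebraMap R[X] B p) = (p : PowerSeries R) := fun p => by
    rw [← RingHom.comp_apply, hg]
    simp [PowerSeries.algebraMap_apply', PowerSeries.map]
  let τ := algebraMap R[X] B X
  let φ' : B →+* LaurentSeries R := (HahnSeries.ofPowerSeries ℤ R).comp g
  have hφX : φ' τ = HahnSeries.single (1 : ℤ) (1 : R) := by
    show HahnSeries.ofPowerSeries ℤ R (g τ) = _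
    rw [hgp, Polynomial.coe_X, HahnSeries.ofPowerSeries_X]
  have hsingle : HahnSeries.single (1 : ℤ) (1 : R) * HahnSeries.single (-1 : ℤ) (1 : R) = 1 := by
    rw [HahnSeries.single_mul_single, add_neg_cancel, one_mul, HahnSeries.single_zero_one]
  have hunit : IsUnit (φ' τ) := by rw [hφX]; exact IsUnit.of_mul_eq_one _ hsingle
  letI : Algebra (Localization.Away τ) (LaurentSeries R) :=
    (IsLocalization.Away.lift (S := Localization.Away τ) τ hunit).toAlgebra
  have hlift : ∀ b : B, algebraMap (Localization.Away τ) (LaurentSeries R) (algebraMap B _ b) = φ' b :=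
    fun b => IsLocalization.Away.lift_eq τ hunit b
  obtain ⟨hinj, hex⟩ := Groth.Agent.S19779.result R B hB ψB (LaurentSeries R) (RingEquiv.refl _) (fun b => hlift b)
  obtain ⟨v, hv⟩ := IsLocalization.Away.algebraMap_isUnit (S := Localization.Away τ) τ
  let ψ : R[X] →ₐ[R] Localization.Away τ := Polynomial.aeval (↑v⁻¹)
  have hψ : ψ X * algebraMap B (Localization.Away τ) τ = 1 := by
    show Polynomial.aeval _ X * _ = _
    rw [Polynomial.aeval_X, ← hv, Units.inv_mul]
  obtain ⟨h1, h2⟩ := Groth.Agent.S15773.result R B hB ψ hψ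
  refine aux R B hB (Localization.Away τ) (LaurentSeries R) ψ hψ ?_ (fun I hI => (h1 I hI).1) (fun J hJ => h2 J hJ)
    hinj hex
  refine Polynomial.ringHom_ext (fun c => ?_) ?_
  · rw [halg, RingHom.comp_apply]
    show _ = algebraMap (Localization.Away τ) _ (ψ (C c))
    rw [← Polynomial.algebraMap_eq, ψ.commutes, IsScalarTower.algebraMap_apply R B (Localization.Away τ), hlift]
    show eval₂ HahnSeries.C _ (C c) = HahnSeries.ofPowerSeries ℤ R (g (algebraMap R[X] B (C c)))
    rw [hgp, eval₂_C, Polynomial.coe_C, HahnSeries.ofPowerSeries_C]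
  · rw [halg, RingHom.comp_apply]
    show _ = algebraMap (Localization.Away τ) _ (ψ X)
    have h := congrArg (algebraMap (Localization.Away τ) (LaurentSeries R)) hψ
    rw [map_mul, map_one, hlift, hφX] at h
    show eval₂ HahnSeries.C (HahnSeries.single (-1 : ℤ) (1 : R)) X = _
    rw [eval₂_X, ← one_mul (HahnSeries.single (-1 : ℤ) (1 : R)), ← h, mul_assoc, hsingle, mul_one]

end Groth.Agent.S15753
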