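import Groth.Statements.S15751
import Mathlib
import Groth.Agent.Lib.SwanPic1.Basic
import Groth.Agent.Lib.HensPrep1.Pic
import Groth.Agent.S15753
-- import your own Groth.Agent.* helpers here

set_option autoImplicit false
universe u
open CAlg

namespace Groth.Agent.S15751

open Polynomial TensorProduct

/-- Traverso–Swan over a local ring: invertible modules over `R[X]` are free. -/
theorem free_of_invertible_polynomial {R : Type u} [CommRing R] [IsLocalRing R] (hR : HTop.IsSeminormalRing R)
    (M : Type u) [AddCommGroup M] [Module R[X] M] [Module.Invertible R[X] M] : Module.Free R[X] M := by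
  classical
  set F := (IsLocalRing.maximalIdeal R).map (algebraMap R R[X]) with hF
  -- a linear form which is surjective on the fibre
  obtain ⟨φ, hφ⟩ : ∃ φ : M →ₗ[R[X]] R[X], (LinearMap.range φ : Ideal R[X]) ⊔ F = ⊤ := by
    letI := Ideal.Quotient.commRing F
    letI := Ideal.Quotient.field (IsLocalRing.maximalIdeal R)
    let eq := Ideal.polynomialQuotientEquivQuotientPolynomial (IsLocalRing.maximalIdeal R)
    haveI : IsPrincipalIdealRing (R[X] ⧸ F) := IsPrincipalIdealRing.of_surjective eq.toRingHom eq.surjective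
    haveI : IsDomain (R[X] ⧸ F) := MulEquiv.isDomain (R ⧸ IsLocalRing.maximalIdeal R)[X] eq.symm.toMulEquiv
    haveI : Module.Invertible (R[X] ⧸ F) ((R[X] ⧸ F) ⊗[R[X]] M) := inferInstance
    haveI : Module.Free (R[X] ⧸ F) ((R[X] ⧸ F) ⊗[R[X]] M) := Module.free_of_finite_type_torsion_free'
    obtain ⟨ε⟩ := Module.Invertible.free_iff_linearEquiv.1
      (inferInstance : Module.Free (R[X] ⧸ F) ((R[X] ⧸ F) ⊗[R[X]] M))
    let π : M →ₗ[R[X]] R[X] ⧸ F := (ε.toLinearMap.restrictScalars R[X]) ∘ₗ TensorProduct.mk R[X] (R[X] ⧸ F) M 1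
    have hπ : Function.Surjective π := by
      refine ε.surjective.comp ?_
      exact TensorProduct.mk_surjective R[X] M (R[X] ⧸ F) Ideal.Quotient.mk_surjective
    obtain ⟨φ, hφ⟩ := Module.projective_lifting_property (Submodule.mkQ F) π (Submodule.mkQ_surjective _)
    refine ⟨φ, ?_⟩
    obtain ⟨m, hm⟩ := hπ 1
    rw [Ideal.eq_top_iff_one, show (1 : R[X]) = φ m - (φ m - 1) by ring]
    refine sub_mem (Submodule.mem_sup_left (LinearMap.mem_range_self φ m)) (Submodule.mem_sup_right ?_)
    rw [← Ideal.Quotient.mk_eq_mk_iff_sub_mem, map_one]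
    exact (LinearMap.congr_fun hφ m).trans hm
  set K : Ideal R[X] := LinearMap.range φ with hK
  obtain ⟨h₁, hh, z, hz, hhz⟩ := Submodule.mem_sup.1 (hφ ▸ Submodule.mem_top : (1 : R[X]) ∈ K ⊔ F)
  obtain ⟨v, hv⟩ := GrothLib.HensPrep1.isUnit_coeff_zero_of_mem hz hhz
  set h := C (↑v⁻¹ : R) * h₁ with hh'
  have h0 : h.coeff 0 = 1 := by rw [hh', coeff_C_mul, ← hv, Units.inv_mul]
  obtain ⟨x₀, hx₀⟩ : h ∈ K := Ideal.mul_mem_left _ _ hh
  have hreg : ∀ a : R[X], a * h = 0 → a = 0 :=
    GrothLib.HensPrep1.eq_zero_of_mul_eq_zero_of_coeff (by rw [h0]; exact isUnit_one)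
  have hinj : Function.Injective φ := GrothLib.HensPrep1.injective_of_regular φ x₀ hx₀ hreg
  let K' : Ideal R[X] := LinearMap.range (Module.Dual.eval R[X] M x₀)
  have hKK' : K * K' = Ideal.span {h} := by
    refine le_antisymm (Ideal.mul_le.2 ?_) ((Ideal.span_singleton_le_iff_mem _).2 ?_)
    · rintro _ ⟨x, rfl⟩ _ ⟨θ, rfl⟩
      refine Ideal.mem_span_singleton'.2 ⟨θ x, ?_⟩
      have := congrArg θ (GrothLib.HensPrep1.smul_comm_of_invertible φ x x₀)
      rw [map_smul, map_smul, hx₀, smul_eq_mul, smul_eq_mul] at this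
      show θ x * h = φ x * θ x₀
      linear_combination -this
    · obtain ⟨w₁, hw₁⟩ := (Module.Invertible.bijective (R := R[X]) (M := M)).2 1
      have h1 : ∀ w, h * contractLeft R[X] M w ∈ K * K' := fun w => by
        induction w using TensorProduct.induction_on with
        | zero => rw [map_zero, mul_zero]; exact zero_mem _
        | tmul θ v =>
          have := congrArg θ (GrothLib.HensPrep1.smul_comm_of_invertible φ v x₀)
          rw [map_smul, map_smul, hx₀, smul_eq_mul, smul_eq_mul] at this
          rw [contractLeft_apply, ← this]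
          exact Ideal.mul_mem_mul (LinearMap.mem_range_self φ v) (LinearMap.mem_range_self _ θ)
        | add a b ha hb => rw [map_add, mul_add]; exact add_mem ha hb
      simpa [hw₁] using h1 w₁
  obtain ⟨g, hg, hKg⟩ := GrothLib.SwanPic1.exists_generator hR h0 hKK'
  let μ : R[X] →ₗ[R[X]] R[X] := LinearMap.mulRight R[X] g
  have hμ : Function.Injective μ := (injective_iff_map_eq_zero _).2
    (fun a ha => GrothLib.HensPrep1.eq_zero_of_mul_eq_zero_of_coeff (by rw [hg]; exact isUnit_one) a ha)
  refine Module.Free.of_equiv ((LinearEquiv.ofInjective μ hμ).trans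
    ((LinearEquiv.ofEq _ _ ?_).trans (LinearEquiv.ofInjective φ hinj).symm))
  show LinearMap.range μ = K
  rw [hKg]
  ext a
  rw [LinearMap.mem_range, Ideal.mem_span_singleton']
  rfl

/-- For a seminormal Henselian local ring R the Picard group of the Laurent series ring R((t)) is
trivial: every invertible R((t))-module is free. -/
theorem result (R : Type u) [CommRing R]
    [HenselianLocalRing R] (hR : HTop.IsSeminormalRing R)
    (M : Type u) [AddCommGroup M] [Module (LaurentSeries R) M] [Module.Invertible (LaurentSeries R) M] :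
    Module.Free (LaurentSeries R) M := by
  letI : Algebra R[X] (LaurentSeries R) :=
    (Polynomial.eval₂RingHom (HahnSeries.C) (HahnSeries.single (-1 : ℤ) (1 : R))).toAlgebra
  obtain ⟨K, _, _, _, ⟨e⟩⟩ := (Groth.Agent.S15753.result R rfl).2 M
  haveI := free_of_invertible_polynomial hR K
  exact Module.Free.of_equiv e.symm

end Groth.Agent.S15751
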