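import Groth.Statements.S1417
import Groth.Agent.S2793

set_option autoImplicit false
set_option linter.style.haveILetI false
universe u
open FlatMor

namespace GrothLib.SmallExt6

open AlgebraicGeometry CategoryTheory Limits IsLocalRing

/-- A local Artinian algebra with residue field of finite type is of finite type. -/
theorem finiteType_of_residue {R A' : Type u} [CommRing R] [CommRing A'] [IsLocalRing A'] [IsArtinianRing A']
    (ψ : R →+* A') (hψ : ((residue A').comp ψ).FiniteType) : ψ.FiniteType := by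
  classical
  letI := ψ.toAlgebra
  obtain ⟨s, hs⟩ : Algebra.FiniteType R (ResidueField A') := hψ
  obtain ⟨t, ht⟩ : (maximalIdeal A').FG := IsNoetherian.noetherian _
  choose lift hlift using residue_surjective (R := A')
  let S : Subalgebra R A' := Algebra.adjoin R ((lift '' (s : Set (ResidueField A'))) ∪ (t : Set A'))
  have hres : ∀ a : A', ∃ c ∈ S, a - c ∈ maximalIdeal A' := fun a => by
    have h1 : residue A' a ∈ Algebra.adjoin R (s : Set (ResidueField A')) := hs ▸ Algebra.mem_top
    have h2 : Algebra.adjoin R (s : Set (ResidueField A')) ≤ S.map (IsScalarTower.toAlgHom R A' (ResidueField A')) := by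
      refine Algebra.adjoin_le fun x hx => ⟨lift x, Algebra.subset_adjoin (Or.inl ⟨x, hx, rfl⟩), ?_⟩
      exact hlift x
    obtain ⟨c, hc, hce⟩ := h2 h1
    refine ⟨c, hc, (residue_eq_zero_iff _).1 ?_⟩
    rw [map_sub, sub_eq_zero]
    exact hce.symm
  obtain ⟨N, hN⟩ : IsNilpotent (maximalIdeal A') := by
    have := IsArtinianRing.isNilpotent_jacobson_bot (R := A')
    rwa [IsLocalRing.jacobson_eq_maximalIdeal ⊥ bot_ne_top] at this
  have hspan : ∀ k, (maximalIdeal A') ^ k ≤ Ideal.span ((S : Set A') ∩ ((maximalIdeal A') ^ k : Ideal A')) := by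
    intro k
    induction k with
    | zero =>
      rw [pow_zero, Ideal.one_eq_top, top_le_iff, Ideal.eq_top_iff_one]
      exact Ideal.subset_span ⟨one_mem S, Submodule.mem_top⟩
    | succ k ih =>
      rw [pow_succ]
      calc (maximalIdeal A') ^ k * maximalIdeal A'
          ≤ Ideal.span ((S : Set A') ∩ ((maximalIdeal A') ^ k : Ideal A')) * Ideal.span (t : Set A') :=
            Ideal.mul_mono ih ht.ge
        _ ≤ _ := by
            rw [Ideal.span_mul_span']
            refine Ideal.span_mono ?_
            rintro _ ⟨a, ha, b, hb, rfl⟩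
            have hb' : b ∈ maximalIdeal A' := ht.le (Ideal.subset_span hb)
            exact ⟨mul_mem ha.1 (Algebra.subset_adjoin (Or.inr hb)), Ideal.mul_mem_mul ha.2 hb'⟩
  have key : ∀ j k, k + j = N → ∀ a ∈ (maximalIdeal A') ^ k, a ∈ S := by
    intro j
    induction j with
    | zero =>
      intro k hk a ha
      rw [show k = N by omega, hN] at ha
      rw [(Submodule.mem_bot A').1 ha]
      exact zero_mem S
    | succ j ih =>
      intro k hk a ha
      have ha' := hspan k ha
      induction ha' using Submodule.span_induction with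
      | mem x hx => exact hx.1
      | zero => exact zero_mem S
      | add x y hx hy h1 h2 =>
        have hle : Ideal.span ((S : Set A') ∩ ((maximalIdeal A') ^ k : Ideal A')) ≤ (maximalIdeal A') ^ k :=
          Ideal.span_le.2 Set.inter_subset_right
        exact add_mem (h1 (hle hx)) (h2 (hle hy))
      | smul c x hx h1 =>
        have hle : Ideal.span ((S : Set A') ∩ ((maximalIdeal A') ^ k : Ideal A')) ≤ (maximalIdeal A') ^ k :=
          Ideal.span_le.2 Set.inter_subset_right
        obtain ⟨c', hc', hm⟩ := hres c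
        have h2 : (c - c') * x ∈ (maximalIdeal A') ^ (k + 1) := by
          rw [pow_succ']; exact Ideal.mul_mem_mul hm (hle hx)
        rw [smul_eq_mul, show c * x = c' * x + (c - c') * x by ring]
        exact add_mem (mul_mem hc' (h1 (hle hx))) (ih (k + 1) (by omega) _ h2)
  exact (⟨⟨t.disjUnion ∅ (by simp) ∪ s.image lift, by
    rw [eq_top_iff]
    intro a _
    have := key N 0 (zero_add N) a (by simp)
    refine Algebra.adjoin_mono ?_ this
    simp [Set.union_comm]⟩⟩ : Algebra.FiniteType R A')

variable {X S : Scheme.{u}} (f : X ⟶ S)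

/-- The property tested by lifting along small extensions. -/
abbrev Lifts : Prop :=
  ∀ (B B' : Type u) [CommRing B] [CommRing B'] [IsArtinianRing B] [IsArtinianRing B'] [IsLocalRing B] [IsLocalRing B']
      (φ : B' →+* B) (ε : B'), Function.Surjective φ → RingHom.ker φ = Ideal.span {ε} →
      (∀ m ∈ IsLocalRing.maximalIdeal B', ε * m = 0) →
      ∀ (α : Spec (CommRingCat.of B) ⟶ X) (β : Spec (CommRingCat.of B') ⟶ S), LocallyOfFiniteType β →
        Spec.map (CommRingCat.ofHom φ) ≫ β = α ≫ f →
        ∃ γ : Spec (CommRingCat.of B') ⟶ X, Spec.map (CommRingCat.ofHom φ) ≫ γ = α ∧ γ ≫ f = β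

/-- The lifting property gives lifts at the level of stalks along principal small extensions. -/
theorem lift_stalk (H : Lifts f) (x : X) (B B' : Type u) [CommRing B] [CommRing B'] [IsArtinianRing B]
    [IsArtinianRing B'] [IsLocalRing B] [IsLocalRing B'] (φ : B' →+* B) (ε : B') (hφ : Function.Surjective φ)
    (hk : RingHom.ker φ = Ideal.span {ε}) (hε : ∀ m ∈ IsLocalRing.maximalIdeal B', ε * m = 0)
    (g₀ : X.presheaf.stalk x →+* B) [IsLocalHom g₀] (h : S.presheaf.stalk (f x) →+* B')
    (hft : LocallyOfFiniteType (Spec.map (CommRingCat.ofHom h) ≫ S.fromSpecStalk (f x)))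
    (hc : g₀.comp (f.stalkMap x).hom = φ.comp h) :
    ∃ g : X.presheaf.stalk x →+* B', g.comp (f.stalkMap x).hom = h ∧ φ.comp g = g₀ := by
  obtain ⟨γ, hγ, hγf⟩ := H B B' φ ε hφ hk hε (Spec.map (CommRingCat.ofHom g₀) ≫ X.fromSpecStalk x)
    (Spec.map (CommRingCat.ofHom h) ≫ S.fromSpecStalk (f x)) hft (by
      rw [Category.assoc, ← Scheme.SpecMap_stalkMap_fromSpecStalk, ← Spec.map_comp_assoc, ← Spec.map_comp_assoc]
      exact congrArg (fun m => Spec.map m ≫ _) (CommRingCat.hom_ext hc.symm))
  obtain ⟨⟨x', g, hg⟩, hgx⟩ := (SpecToEquivOfLocalRing X (CommRingCat.of B')).symm.surjective γ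
  change Spec.map g ≫ X.fromSpecStalk x' = γ at hgx
  obtain rfl : x' = x := by
    haveI : IsLocalHom φ := IsLocalHom.of_surjective _ hφ
    haveI : IsLocalHom (CommRingCat.ofHom g₀).hom := ‹IsLocalHom g₀›
    haveI : IsLocalHom g.hom := hg
    have h1 : γ (closedPoint B') = x' := by
      rw [← hgx]
      exact (congrArg (X.fromSpecStalk x') (IsLocalRing.comap_closedPoint g.hom)).trans Scheme.fromSpecStalk_closedPoint
    have h2 : (Spec.map (CommRingCat.ofHom φ) ≫ γ) (closedPoint B) = x := by
      rw [hγ]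
      exact (congrArg (X.fromSpecStalk x) (IsLocalRing.comap_closedPoint g₀)).trans Scheme.fromSpecStalk_closedPoint
    rw [← h1, ← h2]
    exact congrArg γ (IsLocalRing.comap_closedPoint φ).symm
  refine ⟨g.hom, ?_, ?_⟩
  · have h1 : Spec.map (f.stalkMap x' ≫ g) ≫ S.fromSpecStalk (f x') =
        Spec.map (CommRingCat.ofHom h) ≫ S.fromSpecStalk (f x') := by
      rw [Spec.map_comp, Category.assoc, Scheme.SpecMap_stalkMap_fromSpecStalk, reassoc_of% hgx, hγf]
    exact congrArg CommRingCat.Hom.hom (Spec.map_injective ((cancel_mono _).1 h1))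
  · have h1 : Spec.map (g ≫ CommRingCat.ofHom φ) ≫ X.fromSpecStalk x' =
        Spec.map (CommRingCat.ofHom g₀) ≫ X.fromSpecStalk x' := by
      rw [Spec.map_comp, Category.assoc, hgx, hγ]
    exact congrArg CommRingCat.Hom.hom (Spec.map_injective ((cancel_mono _).1 h1))

/-- Lifts along principal small extensions give lifts along small extensions. -/
theorem lift_stalk_finset (H : Lifts f) (x : X) (A' : Type u) [CommRing A'] [IsLocalRing A'] [IsArtinianRing A']
    (h : S.presheaf.stalk (f x) →+* A')
    (hft : LocallyOfFiniteType (Spec.map (CommRingCat.ofHom h) ≫ S.fromSpecStalk (f x)))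
    (G : Finset A') (hI : Ideal.span (G : Set A') ≠ ⊤) (hIm : Ideal.span (G : Set A') * maximalIdeal A' = ⊥) :
    ∀ (g₀ : X.presheaf.stalk x →+* A' ⧸ Ideal.span (G : Set A')), IsLocalHom g₀ →
      g₀.comp (f.stalkMap x).hom = (Ideal.Quotient.mk _).comp h →
      ∃ g : X.presheaf.stalk x →+* A', g.comp (f.stalkMap x).hom = h ∧ (Ideal.Quotient.mk _).comp g = g₀ := by
  classical
  induction G using Finset.induction with
  | empty =>
    intro g₀ _ hc
    haveI : Nontrivial (A' ⧸ Ideal.span ((∅ : Finset A') : Set A')) := Ideal.Quotient.nontrivial_iff.2 hI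
    haveI : IsLocalRing (A' ⧸ Ideal.span ((∅ : Finset A') : Set A')) :=
      IsLocalRing.of_surjective' _ Ideal.Quotient.mk_surjective
    exact lift_stalk f H x _ A' (Ideal.Quotient.mk _) 0 Ideal.Quotient.mk_surjective
      (by rw [Ideal.mk_ker]; simp) (fun m _ => zero_mul m) g₀ h hft hc
  | @insert t G _ ih =>
    intro g₀ _ hc
    let J : Ideal A' := Ideal.span (G : Set A')
    let K : Ideal A' := Ideal.span ((insert t G : Finset A') : Set A')
    have hJK : J ≤ K := Ideal.span_mono (by simp)
    have hK : K = Ideal.span {t} ⊔ J := by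
      show Ideal.span ((insert t G : Finset A') : Set A') = _
      rw [Finset.coe_insert, Ideal.span_insert]
    have hJ : J ≠ ⊤ := fun e => hI (top_le_iff.1 (e ▸ hJK))
    have hJm : J * maximalIdeal A' = ⊥ := le_bot_iff.1 ((Ideal.mul_mono_left hJK).trans hIm.le)
    haveI : Nontrivial (A' ⧸ J) := Ideal.Quotient.nontrivial_iff.2 hJ
    haveI : Nontrivial (A' ⧸ K) := Ideal.Quotient.nontrivial_iff.2 hI
    haveI : IsLocalRing (A' ⧸ J) := IsLocalRing.of_surjective' _ Ideal.Quotient.mk_surjective
    haveI : IsLocalRing (A' ⧸ K) := IsLocalRing.of_surjective' _ Ideal.Quotient.mk_surjective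
    let π : A' ⧸ J →+* A' ⧸ K := Ideal.Quotient.factor hJK
    have hπ : Function.Surjective π := Ideal.Quotient.factor_surjective hJK
    have hftJ : LocallyOfFiniteType
        (Spec.map (CommRingCat.ofHom ((Ideal.Quotient.mk J).comp h)) ≫ S.fromSpecStalk (f x)) := by
      haveI := hft
      haveI : IsClosedImmersion (Spec.map (CommRingCat.ofHom (Ideal.Quotient.mk J))) :=
        IsClosedImmersion.spec_of_surjective _ Ideal.Quotient.mk_surjective
      rw [CommRingCat.ofHom_comp, Spec.map_comp, Category.assoc]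
      infer_instance
    obtain ⟨g₁, hg₁, hg₁'⟩ := lift_stalk f H x (A' ⧸ K) (A' ⧸ J) π (Ideal.Quotient.mk J t) hπ
      (by rw [show RingHom.ker π = K.map (Ideal.Quotient.mk J) from Ideal.Quotient.factor_ker hJK, hK, Ideal.map_sup,
          Ideal.map_span, Set.image_singleton, Ideal.map_quotient_self, sup_bot_eq])
      (fun a ha => by
        obtain ⟨a, rfl⟩ := Ideal.Quotient.mk_surjective a
        have ha' : a ∈ maximalIdeal A' := fun hu => ha (hu.map _)
        have h2 : t * a ∈ K * maximalIdeal A' := Ideal.mul_mem_mul (Ideal.subset_span (by simp)) ha'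
        rw [hIm, Ideal.mem_bot] at h2
        rw [← map_mul, h2, map_zero])
      g₀ ((Ideal.Quotient.mk J).comp h) hftJ
      (hc.trans (by rw [← RingHom.comp_assoc, Ideal.Quotient.factor_comp_mk hJK]))
    haveI : IsLocalHom g₁ := ⟨fun a ha => IsUnit.of_map g₀ a (by rw [← hg₁']; exact ha.map π)⟩
    obtain ⟨g, hg, hg'⟩ := ih hJ hJm g₁ inferInstance hg₁
    refine ⟨g, hg, ?_⟩
    rw [← hg₁', ← hg', ← RingHom.comp_assoc, Ideal.Quotient.factor_comp_mk hJK]

/-- The lifting property implies smoothness. -/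
theorem smooth_of_lifts [IsLocallyNoetherian S] [LocallyOfFiniteType f] (H : Lifts f) : Smooth f := by
  haveI := GrothLib.LocProp.locallyOfFinitePresentation_of_isLocallyNoetherian f
  rw [← Scheme.Hom.smoothLocus_eq_top_iff, eq_top_iff]
  rintro x -
  by_contra hx
  obtain ⟨_, ⟨V, hV, rfl⟩, hxV, -⟩ :=
    S.isBasis_affineOpens.exists_subset_of_mem_open (Set.mem_univ (f x)) isOpen_univ
  obtain ⟨_, ⟨W, hW, rfl⟩, hxW, hWV⟩ :=
    X.isBasis_affineOpens.exists_subset_of_mem_open (show x ∈ f ⁻¹ᵁ V from hxV) (f ⁻¹ᵁ V).isOpen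
  have e : W ≤ f ⁻¹ᵁ V := hWV
  let Z : Set (Spec Γ(X, W)) := hW.fromSpec ⁻¹' (f.smoothLocus : Set X)ᶜ
  have hZ : IsClosed Z := (f.smoothLocus.isOpen.isClosed_compl).preimage hW.fromSpec.continuous
  have hZne : Z.Nonempty := by
    refine ⟨hW.primeIdealOf ⟨x, hxW⟩, ?_⟩
    show hW.fromSpec _ ∈ (f.smoothLocus : Set X)ᶜ
    rw [hW.fromSpec_primeIdealOf]
    exact hx
  obtain ⟨p, hpZ, hp⟩ := hZ.exists_closed_singleton hZne
  have hpm : p.asIdeal.IsMaximal := (PrimeSpectrum.isClosed_singleton_iff_isMaximal p).1 hp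
  have hw : hW.fromSpec p ∈ W := hW.range_fromSpec.le ⟨p, rfl⟩
  apply hpZ
  set w := hW.fromSpec p with hwdef
  rw [SetLike.mem_coe, ← GrothLib.LocProp.smooth_nhd_iff]
  refine (Groth.Agent.S2793.result f w).2 fun A' _ _ _ h _ I hI hIm g₀ hg₀ hgm hgs => ?_
  haveI : Nontrivial (A' ⧸ I) := Ideal.Quotient.nontrivial_iff.2 hI
  haveI : IsLocalRing (A' ⧸ I) := IsLocalRing.of_surjective' _ Ideal.Quotient.mk_surjective
  let q : A' ⧸ I →+* ResidueField A' :=
    Ideal.Quotient.lift I (residue A') fun y hy => (residue_eq_zero_iff y).2 (IsLocalRing.le_maximalIdeal hI hy)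
  haveI : IsLocalHom g₀ := ⟨fun b hb => by_contra fun hn => by
    obtain ⟨m, hm, hm'⟩ := (Ideal.mem_map_iff_of_surjective _ Ideal.Quotient.mk_surjective).1 (hgm b hn)
    have h1 := hb.map q
    rw [← hm', Ideal.Quotient.lift_mk, (residue_eq_zero_iff m).2 hm] at h1
    exact not_isUnit_zero h1⟩
  have hgs' : Function.Surjective (q.comp g₀) := fun y => by
    obtain ⟨a', rfl⟩ := residue_surjective y
    obtain ⟨b, hb⟩ := hgs a'
    obtain ⟨m, hm, hm'⟩ := (Ideal.mem_map_iff_of_surjective _ Ideal.Quotient.mk_surjective).1 hb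
    refine ⟨b, ?_⟩
    rw [RingHom.comp_apply, show g₀ b = Ideal.Quotient.mk I (m + a') by rw [map_add, hm', sub_add_cancel],
      Ideal.Quotient.lift_mk, map_add, (residue_eq_zero_iff m).2 hm, zero_add]
  -- the residue field of `A'` is a quotient of the coordinate ring of `W`
  let gW : Γ(X, W) →+* ResidueField A' := (q.comp g₀).comp (X.presheaf.germ W w hw).hom
  have hgW : Function.Surjective gW := fun y => by
    letI := (X.presheaf.germ W w hw).hom.toAlgebra
    haveI : IsLocalization.AtPrime (X.presheaf.stalk w) p.asIdeal := hW.isLocalization_stalk' p hw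
    obtain ⟨b, rfl⟩ := hgs' y
    obtain ⟨⟨a, s⟩, rfl⟩ := IsLocalization.mk'_surjective p.asIdeal.primeCompl b
    obtain ⟨s', m, hm, hs'⟩ := hpm.exists_inv s.2
    refine ⟨a * s', ?_⟩
    have hs1 : gW s * gW s' = 1 := by
      have hm0 : gW m = 0 := by
        have hnu : ¬ IsUnit ((X.presheaf.germ W w hw).hom m) := fun hu =>
          (IsLocalization.AtPrime.isUnit_to_map_iff (X.presheaf.stalk w) p.asIdeal m).1 hu hm
        obtain ⟨m', hm', hm''⟩ := (Ideal.mem_map_iff_of_surjective _ Ideal.Quotient.mk_surjective).1 (hgm _ hnu)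
        simp only [gW, RingHom.comp_apply]
        rw [← hm'', Ideal.Quotient.lift_mk, (residue_eq_zero_iff m').2 hm']
      have := congrArg gW hs'
      rw [map_add, map_mul, map_one, hm0, add_zero, mul_comm] at this
      exact this
    have h1 : (q.comp g₀) (IsLocalization.mk' _ a s) * gW s = gW a := by
      show _ * (q.comp g₀) (algebraMap _ _ _) = (q.comp g₀) (algebraMap _ _ _)
      rw [← map_mul, IsLocalization.mk'_spec]
    rw [map_mul, ← h1, mul_assoc, hs1, mul_one]
  let hR : Γ(S, V) →+* A' := h.comp (S.presheaf.germ V (f w) (e hw)).hom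
  have hRW : (residue A').comp hR = gW.comp (f.appLE V W e).hom := by
    ext r
    have h1 : (X.presheaf.germ W w hw).hom ((f.appLE V W e).hom r) =
        (f.stalkMap w).hom ((S.presheaf.germ V (f w) (e hw)).hom r) := by
      have : f.appLE V W e ≫ X.presheaf.germ W w hw = S.presheaf.germ V (f w) (e hw) ≫ f.stalkMap w := by
        rw [Scheme.Hom.germ_stalkMap, Scheme.Hom.appLE, Category.assoc, TopCat.Presheaf.germ_res]
      exact congrArg (fun m => m.hom r) this
    simp only [hR, gW, RingHom.comp_apply, h1]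
    rw [show g₀ ((f.stalkMap w).hom _) = Ideal.Quotient.mk I (h _) from DFunLike.congr_fun hg₀ _,
      Ideal.Quotient.lift_mk]
  have hftR : hR.FiniteType := by
    refine finiteType_of_residue hR ?_
    rw [hRW]
    exact RingHom.FiniteType.comp_surjective (LocallyOfFiniteType.finiteType_appLE f hV hW e) hgW
  have hft : LocallyOfFiniteType (Spec.map (CommRingCat.ofHom h) ≫ S.fromSpecStalk (f w)) := by
    rw [← hV.fromSpecStalk_eq_fromSpecStalk (e hw), IsAffineOpen.fromSpecStalk, ← Spec.map_comp_assoc]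
    haveI : LocallyOfFiniteType (Spec.map (S.presheaf.germ V (f w) (e hw) ≫ CommRingCat.ofHom h)) :=
      (HasRingHomProperty.Spec_iff (P := @LocallyOfFiniteType)).2 hftR
    infer_instance
  obtain ⟨G, rfl⟩ := IsNoetherian.noetherian I
  exact lift_stalk_finset f H w A' h hft G hI hIm g₀ inferInstance hg₀

/-- Smooth morphisms have lifts along small extensions. -/
theorem lifts_of_smooth [IsLocallyNoetherian S] [LocallyOfFiniteType f] (hf : Smooth f) : Lifts f := by
  intro B B' _ _ _ _ _ _ φ ε hφ hk hε α β _ hc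
  haveI := GrothLib.LocProp.locallyOfFinitePresentation_of_isLocallyNoetherian f
  obtain ⟨⟨x, g₀, hl⟩, rfl⟩ := (SpecToEquivOfLocalRing X (CommRingCat.of B)).symm.surjective α
  obtain ⟨⟨y, h, hh⟩, rfl⟩ := (SpecToEquivOfLocalRing S (CommRingCat.of B')).symm.surjective β
  simp only [SpecToEquivOfLocalRing_symm_apply] at hc ⊢
  haveI : IsLocalHom φ := IsLocalHom.of_surjective _ hφ
  haveI := hl
  haveI := hh
  obtain rfl : y = f x := by
    have := congrArg (fun m : Spec (CommRingCat.of B) ⟶ S => m (closedPoint B)) hc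
    simp only [Scheme.Hom.comp_apply] at this
    rw [show (Spec.map g₀) (closedPoint B) = closedPoint _ from IsLocalRing.comap_closedPoint g₀.hom,
      show (Spec.map (CommRingCat.ofHom φ)) (closedPoint B) = closedPoint _ from IsLocalRing.comap_closedPoint φ,
      show (Spec.map h) (closedPoint _) = closedPoint _ from IsLocalRing.comap_closedPoint h.hom,
      Scheme.fromSpecStalk_closedPoint, Scheme.fromSpecStalk_closedPoint] at this
    exact this
  have hcomp : f.stalkMap x ≫ g₀ = h ≫ CommRingCat.ofHom φ := by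
    refine Spec.map_injective ((cancel_mono (S.fromSpecStalk (f x))).1 ?_)
    rw [Spec.map_comp, Spec.map_comp, Category.assoc, Category.assoc, Scheme.SpecMap_stalkMap_fromSpecStalk,
      hc, Category.assoc]
  have hfs : (f.stalkMap x).hom.FormallySmooth :=
    Scheme.Hom.mem_smoothLocus.1 (by rw [Scheme.Hom.smoothLocus_eq_top_iff.2 hf]; trivial)
  letI := (f.stalkMap x).hom.toAlgebra
  letI := h.hom.toAlgebra
  letI := (h ≫ CommRingCat.ofHom φ).hom.toAlgebra
  haveI : Algebra.FormallySmooth (S.presheaf.stalk (f x)) (X.presheaf.stalk x) := hfs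
  let φ' : B' →ₐ[S.presheaf.stalk (f x)] B := { φ with commutes' := fun _ => rfl }
  let g₀' : X.presheaf.stalk x →ₐ[S.presheaf.stalk (f x)] B :=
    { g₀.hom with commutes' := fun r => DFunLike.congr_fun (congrArg CommRingCat.Hom.hom hcomp) r }
  have hsq : RingHom.ker φ' ^ 2 = ⊥ := by
    show RingHom.ker φ ^ 2 = ⊥
    have hεm : ε ∈ maximalIdeal B' := fun hu => by
      have : φ ε = 0 := hk.ge (Ideal.mem_span_singleton_self ε)
      exact not_isUnit_zero (this ▸ hu.map φ)
    rw [hk, Ideal.span_singleton_pow, pow_two, hε ε hεm, Ideal.span_singleton_eq_bot.2 rfl]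
  refine ⟨Spec.map (CommRingCat.ofHom
    (Algebra.FormallySmooth.liftOfSurjective g₀' φ' hφ ⟨2, hsq⟩).toRingHom) ≫ X.fromSpecStalk x, ?_, ?_⟩
  · rw [← Spec.map_comp_assoc]
    congr 2
    ext b
    exact Algebra.FormallySmooth.liftOfSurjective_apply g₀' φ' hφ ⟨2, hsq⟩ b
  · rw [Category.assoc, ← Scheme.SpecMap_stalkMap_fromSpecStalk, ← Spec.map_comp_assoc]
    congr 2
    ext r
    exact (Algebra.FormallySmooth.liftOfSurjective g₀' φ' hφ ⟨2, hsq⟩).commutes r

end GrothLib.SmallExt6

namespace Groth.Agent.S1417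

open AlgebraicGeometry CategoryTheory Limits in
/-- Let S be locally Noetherian and f : X → S locally of finite type. Then f is smooth if and only if
for every small extension B' → B of Artinian local rings (a surjection whose kernel is generated by
one element annihilated by the maximal ideal), every morphism Spec B → X and every morphism Spec B'
→ S locally of finite type making the square commute, there is a lift Spec B' → X. -/
theorem result {X S : Scheme.{u}} (f : X ⟶ S) [IsLocallyNoetherian S] [LocallyOfFiniteType f] :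
    Smooth f ↔ ∀ (B B' : Type u) [CommRing B] [CommRing B'] [IsArtinianRing B] [IsArtinianRing B'] [IsLocalRing B] [IsLocalRing B']
      (φ : B' →+* B) (ε : B'), Function.Surjective φ → RingHom.ker φ = Ideal.span {ε} → (∀ m ∈ IsLocalRing.maximalIdeal B', ε * m = 0) →
      ∀ (α : Spec (CommRingCat.of B) ⟶ X) (β : Spec (CommRingCat.of B') ⟶ S), LocallyOfFiniteType β →
        Spec.map (CommRingCat.ofHom φ) ≫ β = α ≫ f →
        ∃ γ : Spec (CommRingCat.of B') ⟶ X, Spec.map (CommRingCat.ofHom φ) ≫ γ = α ∧ γ ≫ f = β :=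
  ⟨GrothLib.SmallExt6.lifts_of_smooth f, GrothLib.SmallExt6.smooth_of_lifts f⟩

end Groth.Agent.S1417
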