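import Groth.Statements.S16087
import Groth.Agent.Lib.Ref1.Divisor

set_option autoImplicit false
universe u
open CategoryTheory CategoryTheory.Limits AlgebraicGeometry TopologicalSpace
open SDiv

namespace Groth.Agent.S16087

/-- The class map takes values in Weil divisor classes and is surjective: suppose X is a normal scheme
that is integral and locally Noetherian, and denote its generic point by η. For a rank one coherent
reflexive O_X-module F and a nonzero rational section s ∈ F_η write ord_{x,F}(s) for the order of s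
with respect to a generator of the free rank one O_{X,x}-module F_x at a point x of codimension 1.
Then (1) the function sending a codimension-1 point x to ord_{x,F}(s) and every other point to 0 has
locally finite support, so it is a Weil divisor; and (2) every Weil divisor D on X (an
integer-valued function with locally finite support vanishing outside the codimension-1 points)
arises this way: D(x) = ord_{x,F}(s) at all codimension-1 points x for some rank one coherent
reflexive F and nonzero s ∈ F_η. -/
theorem result (X : Scheme.{u}) [IsIntegral X] [IsLocallyNoetherian X]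
    (hX : Pi1.IsNormalScheme X) :
    (∀ (F : X.Modules) (hF : RefHull.IsRef1 F) (s : Cyc.secFibre F (genericPoint ↥X)), s ≠ 0 →
        ∃ D : AlgebraicCycle X ℤ, (∀ x : ↥X, Order.coheight x ≠ 1 → D x = 0) ∧
          ∀ (x : ↥X), Order.coheight x = 1 →
            D x = Cyc.secOrdAt F (genericPoint ↥X) x ((genericPoint_spec ↥X).specializes (Set.mem_univ x)) s) ∧
      ∀ D : AlgebraicCycle X ℤ, (∀ x : ↥X, Order.coheight x ≠ 1 → D x = 0) →
        ∃ (F : X.Modules) (_ : RefHull.IsRef1 F) (s : Cyc.secFibre F (genericPoint ↥X)), s ≠ 0 ∧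
          ∀ (x : ↥X), Order.coheight x = 1 →
            D x = Cyc.secOrdAt F (genericPoint ↥X) x ((genericPoint_spec ↥X).specializes (Set.mem_univ x)) s := by
  classical
  refine ⟨fun F hF s hs => ?_, fun D hD => ?_⟩
  · obtain ⟨v, rfl⟩ := GrothLib.Ref1.exists_eq_mk s
    have hv : v ≠ 0 := fun h => hs (by rw [h]; exact Submodule.Quotient.mk_zero _)
    have := hF.1.1
    obtain ⟨e, he⟩ := GrothLib.Ref1.exists_gen_of_genInvertible hF.2.2
    refine ⟨⟨fun x => if Order.coheight x = 1 then GrothLib.Ref1.secOrd F v x else 0, by simp, fun z _ => ?_⟩,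
      fun x hx => if_neg hx, fun x hx => if_pos hx⟩
    obtain ⟨V, hV, hzV, -⟩ := Opens.isBasis_iff_nbhd.1 X.isBasis_affineOpens (Opens.mem_top z)
    refine ⟨V, V.isOpen.mem_nhds hzV, (GrothLib.Ref1.finite_secOrd_ne_zero
      (GrothLib.HomSh.hasRel_of_isCoh hF.1) (GrothLib.Ref1.gen_of_ne_zero he hv) hV).subset ?_⟩
    rintro x ⟨hxV, hx⟩
    rw [Function.mem_support, ite_ne_right_iff] at hx
    exact ⟨hxV, hx⟩
  · have hfin : ∀ V : X.Opens, IsAffineOpen V → ((V : Set X) ∩ {x | D x ≠ 0}).Finite := fun V hV =>
      (Function.locallyFinsupp.locallyFiniteSupport D).finite_inter_support_of_isCompact hV.isCompact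
    have hcod : ∀ x, D x ≠ 0 → Order.coheight x = 1 := fun x h => by_contra fun h' => h (hD x h')
    obtain ⟨P, hP, p, hp, hpord⟩ := GrothLib.Ref1.exists_isRef1_of_effective (n := fun x => (-D x).toNat)
      (fun V hV => (hfin V hV).subset fun x ⟨hx, hx'⟩ =>
        ⟨hx, show D x ≠ 0 from fun h => hx' (by simp [h])⟩)
      (fun x h => hcod x fun h' => h (by simp [h'])) hX
    obtain ⟨Q, hQ, q, hq, hqord⟩ := GrothLib.Ref1.exists_isRef1_of_effective (n := fun x => (D x).toNat)
      (fun V hV => (hfin V hV).subset fun x ⟨hx, hx'⟩ =>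
        ⟨hx, show D x ≠ 0 from fun h => hx' (by simp [h])⟩)
      (fun x h => hcod x fun h' => h (by simp [h'])) hX
    obtain ⟨θ, hθ, hθord⟩ := GrothLib.Ref1.exists_secOrd_dual Q hX hQ hq
    have hQd := GrothLib.Ref1.isRef1_dual Q hQ
    refine ⟨_, GrothLib.Ref1.isRef1_refTensor hP hQd, Submodule.Quotient.mk (GrothLib.Ref1.refMul P _ p θ),
      fun h => GrothLib.Ref1.refMul_ne_zero hP hQd hp hθ
        (GrothLib.Ref1.mk_injective (h.trans (Submodule.Quotient.mk_zero _).symm)), fun x hx => ?_⟩
    show D x = GrothLib.Ref1.secOrd _ _ x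
    rw [GrothLib.Ref1.secOrd_refMul hX hP hQd hp hθ hx, hθord x hx, hpord x hx, hqord x hx]
    omega

end Groth.Agent.S16087
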