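import Groth.Statements.S7282
import Groth.Agent.Lib.ProEtS.EpsSecs
import Groth.Agent.Lib.EtSec.Limit
import Mathlib.Algebra.Category.Grp.FilteredColimits
import Mathlib.CategoryTheory.Limits.Filtered

set_option autoImplicit false
open CategoryTheory CategoryTheory.Limits AlgebraicGeometry Opposite
universe u
open ProEtS

namespace Groth.Agent.S7282

/-- Let X be a scheme and F an abelian sheaf on the small etale site of X. Let (Y_i) be a cofiltered
system of objects of the small pro-etale site of X, each quasi-compact and quasi-separated, with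
affine transition morphisms, and let Y be a cone over it which is a limit of the Y_i as schemes.
Then the restriction maps exhibit the sections of the pro-etale pullback of F over Y as the colimit
of its sections over the Y_i. (Continuity of the inclusion of the etale site into the pro-etale site
is carried as a binder.) -/
theorem result (X : Scheme.{u}) [ProEtS.EpsCont X]
    {I : Type u} [SmallCategory I] [IsCofiltered I] (D : I ⥤ X.ProEt)
    [∀ (i j : I) (a : i ⟶ j), IsAffineHom (D.map a).left]
    [∀ i, CompactSpace ↥(D.obj i).left] [∀ i, QuasiSeparatedSpace ↥(D.obj i).left]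
    (c : Cone D) (hc : IsLimit ((Scheme.ProEt.forget X ⋙ Over.forget X).mapCone c))
    (F : EtCoh.Ab X) :
    Nonempty (IsColimit (((ProEtS.epsPull X).obj F).obj.mapCocone c.op)) := by
  obtain ⟨e⟩ := GrothLib.ProEtS.nonempty_epsPull_iso_secP F
  let T : X.ProEt ⥤ Scheme.{u} := Scheme.ProEt.forget X ⋙ CategoryTheory.Over.forget X
  let F' := GrothLib.EtSec.forgetSh F
  let D' : I ⥤ Scheme.{u} := D ⋙ T
  haveI : ∀ {i j : I} (a : i ⟶ j), IsAffineHom (D'.map a) := fun {i j} a =>
    inferInstanceAs (IsAffineHom (D.map a).left)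
  haveI : ∀ i, CompactSpace ↥(D'.obj i) := fun i => inferInstanceAs (CompactSpace ↥(D.obj i).left)
  haveI : ∀ i, QuasiSeparatedSpace ↥(D'.obj i) := fun i => inferInstanceAs (QuasiSeparatedSpace ↥(D.obj i).left)
  have hb : ∀ {i j : I} (a : i ⟶ j), D'.map a ≫ (D.obj j).hom = (D.obj i).hom := fun a =>
    MorphismProperty.Over.w (D.map a)
  have hbc : ∀ i, (T.mapCone c).π.app i ≫ (D.obj i).hom = c.pt.hom := fun i =>
    MorphismProperty.Over.w (c.π.app i)
  have hsec : IsColimit ((GrothLib.ProEtS.secP F').mapCocone c.op) := by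
    refine Types.FilteredColimit.isColimitOf' _ _ (fun σ => ?_) (fun i σ τ h => ?_)
    · obtain ⟨i, s, hs⟩ := GrothLib.EtSec.exists_stage (D := D') (c := T.mapCone c) hc
        (b := fun i => (D.obj i).hom) hb (bc := c.pt.hom) hbc σ
      exact ⟨op i, s, hs.symm⟩
    · obtain ⟨j, f, hf⟩ := GrothLib.EtSec.exists_res_eq (D := D') (c := T.mapCone c) hc
        (b := fun i => (D.obj i).hom) hb (bc := c.pt.hom) hbc (i := i.unop) σ τ h
      exact ⟨op j, f.op, hf⟩
  have h2 : IsColimit ((forget AddCommGrpCat.{u + 1}).mapCocone (((ProEtS.epsPull X).obj F).obj.mapCocone c.op)) :=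
    IsColimit.mapCoconeEquiv e hsec
  haveI : ReflectsColimitsOfShape Iᵒᵖ (forget AddCommGrpCat.{u + 1}) := by
    haveI : PreservesColimitsOfShape Iᵒᵖ (forget AddCommGrpCat.{u + 1}) := inferInstance
    exact reflectsColimitsOfShape_of_reflectsIsomorphisms
  exact ⟨isColimitOfReflects (forget AddCommGrpCat.{u + 1}) h2⟩

end Groth.Agent.S7282
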