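import Groth.Statements.S0778
import Groth.Agent.Lib.WLocal.Contractible

set_option autoImplicit false
open CategoryTheory CategoryTheory.Limits AlgebraicGeometry Opposite Topology
universe u
open ProEtW

namespace Groth.Agent.S0778

/-- A ring A is w-contractible (retractions for faithfully flat weakly etale algebras) if and only if
every faithfully flat ind-etale A-algebra has an A-algebra retraction. -/
theorem result (A : Type u) [CommRing A] :
    EtPBC.IsWContractible A ↔ ProEtW.HasIndEtaleRetractions A := by
  refine ⟨GrothLib.WLocal.hasIndEtaleRetractions_of_isWContractible, fun h => ?_⟩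
  obtain ⟨h1, h2, h3⟩ := GrothLib.WLocal.conditions_of_hasIndEtaleRetractions h
  exact GrothLib.WLocal.isWContractible_of_conditions h1 h2 h3

end Groth.Agent.S0778
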