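import Groth.Statements.S0646
import Groth.Agent.Lib.EtLimit.Main
-- import your own Groth.Agent.* helpers here

set_option autoImplicit false
open CategoryTheory CategoryTheory.Limits AlgebraicGeometry Opposite
universe u
open EtCore

namespace Groth.Agent.S0646

/-- For systems of sheaves pulled back from one stage: let ι be a directed preordered set, (X_i) an
inverse system of quasi-compact quasi-separated schemes indexed by ι with affine transition
morphisms, X a limit with projections f_i, i₀ an index and F₀ an abelian sheaf on the small etale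
site of X_{i₀}. Then H^p(X, f_{i₀}^{-1} F₀) is the colimit of the groups H^p(X_j, F₀|_{X_j}) over j
≥ i₀, in the concrete sense: every class on X is pulled back from some X_j, and a class on X_j that
pulls back to zero on X already pulls back to zero on some X_k, k ≥ j. (The source allows general
systems of sheaves (F_i, φ_{i'i}); only systems pulled back from a single stage are stated.)
(Exactness of pullback of abelian sheaves, which always holds, is carried as an instance
hypothesis.) -/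
theorem result {ι : Type u} [Preorder ι] [IsDirected ι (· ≤ ·)] (Xs : ιᵒᵖ ⥤ Scheme.{u})
    (haff : ∀ ⦃a b : ιᵒᵖ⦄ (h : a ⟶ b), IsAffineHom (Xs.map h))
    (hqc : ∀ a, CompactSpace ↥(Xs.obj a)) (hqs : ∀ a, QuasiSeparatedSpace ↥(Xs.obj a))
    (c : Cone Xs) (hc : IsLimit c) (i₀ : ι) (F₀ : EtCoh.Ab (Xs.obj (op i₀))) (p : ℕ)
    [∀ a, PreservesFiniteLimits (EtCoh.pull (c.π.app a))]
    [∀ ⦃a b : ιᵒᵖ⦄ (h : a ⟶ b), PreservesFiniteLimits (EtCoh.pull (Xs.map h))] :
    (∀ ξ : EtCoh.H c.pt ((EtCoh.pull (c.π.app (op i₀))).obj F₀) p,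
      ∃ (j : ι) (hj : i₀ ≤ j) (ξj : EtCoh.H (Xs.obj (op j)) ((EtCoh.pull (Xs.map (homOfLE hj).op)).obj F₀) p),
        EtCore.HpullVia (c.π.app (op j)) (Xs.map (homOfLE hj).op) (c.π.app (op i₀)) (c.w (homOfLE hj).op) F₀ p ξj = ξ) ∧
    (∀ (j : ι) (hj : i₀ ≤ j) (ξj : EtCoh.H (Xs.obj (op j)) ((EtCoh.pull (Xs.map (homOfLE hj).op)).obj F₀) p),
      EtCore.HpullVia (c.π.app (op j)) (Xs.map (homOfLE hj).op) (c.π.app (op i₀)) (c.w (homOfLE hj).op) F₀ p ξj = 0 →
        ∃ (k : ι) (hk : j ≤ k), EtCore.Hpull (Xs.map (homOfLE hk).op) _ p ξj = 0) := by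
  haveI : Nonempty ι := ⟨i₀⟩
  haveI : ∀ (a b : ιᵒᵖ) (f : a ⟶ b), IsAffineHom (Xs.map f) := fun a b f => haff f
  haveI := hqc
  haveI := hqs
  refine ⟨fun ξ => ?_, fun j hj ξj h => ?_⟩
  · obtain ⟨j, a, ξj, e⟩ := GrothLib.EtLimit.exists_HpullVia_eq hc (op i₀) F₀ p ξ
    obtain ⟨j⟩ := j
    have ha : a = (homOfLE a.unop.le).op := Subsingleton.elim _ _
    refine ⟨j, a.unop.le, ?_⟩
    revert ξj
    rw [ha]
    exact fun ξj e => ⟨ξj, e⟩
  · obtain ⟨k, b, e⟩ := GrothLib.EtLimit.exists_Hpull_eq_zero hc (homOfLE hj).op F₀ p ξj h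
    obtain ⟨k⟩ := k
    have hb : b = (homOfLE b.unop.le).op := Subsingleton.elim _ _
    refine ⟨k, b.unop.le, ?_⟩
    revert e
    rw [hb]
    exact fun e => e

end Groth.Agent.S0646
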