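import Groth.Statements.S4991
import Groth.Agent.Lib.LocProp.SmoothRegularScheme
-- import your own Groth.Agent.* helpers here

set_option autoImplicit false
universe u
open CategoryTheory CategoryTheory.Limits AlgebraicGeometry TopologicalSpace
open Unram17

namespace Groth.Agent.S4991

/-- Let Y be locally Noetherian and f : X ⟶ Y locally of finite type, smooth on an open neighbourhood of
a point x with image y. Then the local ring of X at x is regular if and only if the local ring of Y
at y is regular. -/
theorem result {X Y : Scheme.{u}} (f : X ⟶ Y)
    [IsLocallyNoetherian Y] [LocallyOfFiniteType f] (x : ↥X)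
    (hx : ∃ U : X.Opens, x ∈ U ∧ Smooth (U.ι ≫ f)) :
    IsRegularLocalRing ↑(X.presheaf.stalk x) ↔ IsRegularLocalRing ↑(Y.presheaf.stalk (f.base x)) := by
  have : LocallyOfFinitePresentation f := GrothLib.LocProp.locallyOfFinitePresentation_of_isLocallyNoetherian f
  rw [GrothLib.LocProp.smooth_nhd_iff] at hx
  exact GrothLib.LocProp.isRegularLocalRing_stalk_iff_of_mem_smoothLocus f x hx

end Groth.Agent.S4991
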