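import Groth.Statements.S1217
import Groth.Agent.Lib.RG6.Impure.Purity
-- import your own Groth.Agent.* helpers here

set_option autoImplicit false
universe u
open FlatMor

namespace Groth.Agent.S1217

/-- Ring form, X = Spec B affine: let B be a finite type A-algebra, N a finite B-module, p a prime of A,
and A' an A-algebra with a prime p' over p such that the local ring of A' at p' is flat over A. Let
B', N' be the base changes of B, N to A'. If N' is pure along the fibre over p' then N is pure along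
the fibre over p, and likewise for universal purity. -/
theorem result {A B : Type u} [CommRing A] [CommRing B] [Algebra A B] [Algebra.FiniteType A B]
    (N : Type u) [AddCommGroup N] [Module B N] [Module.Finite B N] (p : Ideal A) [p.IsPrime]
    (A' B' N' : Type u) [CommRing A'] [CommRing B'] [Algebra A A'] [Algebra B B'] [Algebra A' B'] [Algebra A B']
    [IsScalarTower A B B'] [IsScalarTower A A' B'] [Algebra.IsPushout A B A' B']
    [AddCommGroup N'] [Module B' N'] [Module B N'] [IsScalarTower B B' N'] (f : N →ₗ[B] N') (hf : IsBaseChange B' f)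
    (p' : Ideal A') [p'.IsPrime] [p'.LiesOver p] [Module.Flat A (Localization.AtPrime p')] :
    (FlatCA.IsPureAlong A' B' N' p' → FlatCA.IsPureAlong A B N p) ∧
    (FlatCA.IsUnivPureAlong A' B' N' p' → FlatCA.IsUnivPureAlong A B N p) := by
  have hpo : Algebra.IsPushout A B A' B' := ‹_›
  refine ⟨fun h => ?_, fun h => ?_⟩
  · intro A₁ B₁ N₁ _ _ _ _ _ _ _ _ _ _ _ _ _ _ f₁ t' t _ _ P _ het himp
    obtain ⟨het', hlo, hbij⟩ := het
    letI : Algebra A₁ (TensorProduct A A' A₁) := Algebra.TensorProduct.rightAlgebra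
    obtain ⟨t₂, _, _, ht₂, hb⟩ := GrothLib.RG6.Impure.exists_prime_pair_nhd t p' hbij
    haveI : t₂.LiesOver t := ⟨ht₂.symm⟩
    obtain ⟨t₂', _, hle, _⟩ := GrothLib.RG6.Impure.exists_le_pair t p' t' himp.2.2.1 t₂
    obtain ⟨C, BC, NC, _, _, _, _, _, _, _, _, _, _, _, _, _, _, fC, u', u, _, _, PC, _, himpC, _, hu⟩ :=
      GrothLib.RG6.Impure.hasImpurity_baseChange_of_pair (p' := p') hpo hf himp hle
        (fun C _ _ u => ∃ _ : u.IsPrime, FlatCA.IsEtaleNhd A' C p' u) ⟨inferInstance, inferInstance, ‹_›, hb⟩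
    exact h C BC NC fC u' u PC hu himpC
  · intro A₁ B₁ N₁ _ _ _ _ _ _ _ _ _ _ _ _ _ _ f₁ t' t _ _ P _ himp
    haveI := himp.2.2.2.1
    letI : Algebra A₁ (TensorProduct A A' A₁) := Algebra.TensorProduct.rightAlgebra
    obtain ⟨t₂, _, ht₁, ht₂⟩ := GrothLib.RG6.Impure.exists_prime_pair (p := p) p' t
    haveI : t₂.LiesOver t := ⟨ht₂.symm⟩
    haveI : t₂.LiesOver p' := ⟨ht₁.symm⟩
    obtain ⟨t₂', _, hle, _⟩ := GrothLib.RG6.Impure.exists_le_pair t p' t' himp.2.2.1 t₂
    obtain ⟨C, BC, NC, _, _, _, _, _, _, _, _, _, _, _, _, _, _, fC, u', u, _, _, PC, _, himpC, -⟩ :=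
      GrothLib.RG6.Impure.hasImpurity_baseChange_of_pair (p' := p') hpo hf himp hle (fun _ _ _ _ => True) trivial
    exact h C BC NC fC u' u PC himpC

end Groth.Agent.S1217
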