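import Groth.Statements.S1205
import Groth.Agent.Lib.RG6.GenericBasis
-- import your own Groth.Agent.* helpers here

set_option autoImplicit false
universe u
open FlatMor

namespace Groth.Agent.S1205

open TensorProduct in
/-- Let S be a finitely presented flat R-algebra with geometrically integral fibres, q a prime of S over
the prime 𝔯 of R, so that 𝔭 = 𝔯S is a prime of S, and N a finitely presented S-module. Then there is
an S-linear map α from a finite free module S^r to N inducing a bijection after base change to κ(𝔭);
and for any such α the following are equivalent: N_q is flat over R; for some f ∈ R outside 𝔯 the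
localization α_f is universally injective over R and for some g ∈ S outside q the localization of
the cokernel at g is flat over R; α localized at (the image of) 𝔯 is universally injective over R
and the cokernel is flat over R at q; α localized at 𝔯 is injective and the cokernel is flat at q; α
localized at 𝔭 is bijective and the cokernel is flat at q; α localized at q is injective and the
cokernel is flat at q. (Universal injectivity over R_f or R_𝔯 of a map of modules over these
localizations is the same as over R, which is how it is written.) -/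
theorem result {R S : Type u} [CommRing R] [CommRing S] [Algebra R S] [Algebra.FinitePresentation R S] [Module.Flat R S]
    (hgi : FlatCA.GeomIntegralFibres R S) (rr : Ideal R) [rr.IsPrime] [(rr.map (algebraMap R S)).IsPrime]
    (q : Ideal S) [q.IsPrime] [q.LiesOver rr]
    (N : Type u) [AddCommGroup N] [Module S N] [Module R N] [IsScalarTower R S N] [Module.FinitePresentation S N] :
    (∃ (r : ℕ) (α : (Fin r → S) →ₗ[S] N), Function.Bijective (α.baseChange (rr.map (algebraMap R S)).ResidueField)) ∧
    ∀ (r : ℕ) (α : (Fin r → S) →ₗ[S] N), Function.Bijective (α.baseChange (rr.map (algebraMap R S)).ResidueField) →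
      [FlatCA.FlatAt R q N,
       (∃ f : R, f ∉ rr ∧ FlatCA.UnivInj R ((LocalizedModule.map (Submonoid.powers (algebraMap R S f)) α).restrictScalars R)) ∧
         (∃ g : S, g ∉ q ∧ Module.Flat R (LocalizedModule (Submonoid.powers g) (N ⧸ LinearMap.range α))),
       FlatCA.UnivInj R ((LocalizedModule.map (Algebra.algebraMapSubmonoid S rr.primeCompl) α).restrictScalars R) ∧ FlatCA.FlatAt R q (N ⧸ LinearMap.range α),
       Function.Injective (LocalizedModule.map (Algebra.algebraMapSubmonoid S rr.primeCompl) α) ∧ FlatCA.FlatAt R q (N ⧸ LinearMap.range α),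
       Function.Bijective (LocalizedModule.map (rr.map (algebraMap R S)).primeCompl α) ∧ FlatCA.FlatAt R q (N ⧸ LinearMap.range α),
       Function.Injective (LocalizedModule.map q.primeCompl α) ∧ FlatCA.FlatAt R q (N ⧸ LinearMap.range α)].TFAE := by
    set 𝔭 : Ideal S := rr.map (algebraMap R S) with h𝔭
    refine ⟨GrothLib.RG6.exists_bijective_baseChange 𝔭, fun r α hα => ?_⟩
    have hq : q.comap (algebraMap R S) = rr := (Ideal.over_def q rr).symm
    have hle : 𝔭 ≤ q := Ideal.map_le_iff_le_comap.2 hq.ge
    set T : Submonoid S := Algebra.algebraMapSubmonoid S rr.primeCompl with hT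
    have hTq : T ≤ q.primeCompl := by
      rintro _ ⟨a, ha, rfl⟩ h
      exact ha (hq.le h)
    have hTp : T ≤ 𝔭.primeCompl := fun x hx h => hTq hx (hle h)
    have hreg : ∀ g ∈ 𝔭.primeCompl, ∀ (p' : Ideal R) [p'.IsPrime], Disjoint (p' : Set R) rr.primeCompl →
        GrothLib.RG6.FibreNonzero p' g := fun g hg p' _ hd =>
      GrothLib.RG6.fibreNonzero_of_notMem (fun a ha => by
        by_contra h
        exact Set.disjoint_left.1 hd ha h) hg
    have hpow : ∀ f : R, Algebra.algebraMapSubmonoid S (Submonoid.powers f) = Submonoid.powers (algebraMap R S f) :=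
      fun f => Submonoid.map_powers _ f
    tfae_have 1 → 3 := fun h => by
      have hk := GrothLib.RG6.killedKer_of_regular hgi 𝔭.primeCompl rr.primeCompl hreg
        (GrothLib.RG6.killedKer_generic q α hgi rr h hα)
      exact ⟨(GrothLib.RG6.univInj_map_iff_killedKer T α).2 hk, GrothLib.RG6.flatAt_coker q α T hTq hk h⟩
    tfae_have 3 → 4 := fun h => by
      refine ⟨fun a b hab => ?_, h.2⟩
      have h1 : ((LocalizedModule.map T α).restrictScalars R).lTensor R ((1 : R) ⊗ₜ[R] a) =
          ((LocalizedModule.map T α).restrictScalars R).lTensor R ((1 : R) ⊗ₜ[R] b) := by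
        simp only [LinearMap.lTensor_tmul, LinearMap.coe_restrictScalars, hab]
      simpa using congrArg (TensorProduct.lid R _) (h.1 R h1)
    tfae_have 4 → 5 := fun h => by
      refine ⟨⟨?_, GrothLib.RG6.surjective_map_of_bijective 𝔭 α hα⟩, h.2⟩
      rw [GrothLib.RG6.injective_map_iff]
      intro y hy
      obtain ⟨t, ht, hty⟩ := (GrothLib.RG6.injective_map_iff _ _).1 h.1 y hy
      exact ⟨t, hTp ht, hty⟩
    tfae_have 5 → 6 := fun h => by
      refine ⟨?_, h.2⟩
      have h1 := GrothLib.RG6.injective_map_of_regular hgi 𝔭.primeCompl rr.primeCompl hreg h.1.1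
      rw [GrothLib.RG6.injective_map_iff] at h1 ⊢
      intro y hy
      obtain ⟨t, ht, hty⟩ := h1 y hy
      exact ⟨t, hTq ht, hty⟩
    tfae_have 6 → 1 := fun h => GrothLib.RG6.flatAt_of_injective q α h.1 h.2
    tfae_have 2 → 3 := fun h => by
      obtain ⟨⟨f, hf, hU⟩, g, hg, hC⟩ := h
      refine ⟨(GrothLib.RG6.univInj_map_iff_killedKer T α).2
        (((GrothLib.RG6.univInj_map_iff_killedKer _ α).1 hU).mono ?_), GrothLib.RG6.flatAt_of_powers g q hg hC⟩
      rw [Submonoid.powers_le]
      exact ⟨f, hf, rfl⟩
    tfae_have 1 → 2 := fun h => by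
      have hk0 := GrothLib.RG6.killedKer_generic q α hgi rr h hα
      constructor
      · have hbij : Function.Bijective (LocalizedModule.map 𝔭.primeCompl α) :=
          ⟨(GrothLib.RG6.injective_map_iff _ _).2 fun y hy => by
            obtain ⟨t, ht, hty⟩ := hk0 R (y ⊗ₜ[R] (1 : R)) (by
              rw [TensorProduct.AlgebraTensorModule.rTensor_tmul, hy, TensorProduct.zero_tmul])
            refine ⟨t, ht, ?_⟩
            simpa [TensorProduct.smul_tmul'] using congrArg (TensorProduct.rid R (Fin r → S)) hty,
            GrothLib.RG6.surjective_map_of_bijective 𝔭 α hα⟩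
        obtain ⟨g, hg, hgb⟩ := Module.FinitePresentation.exists_notMem_bijective α 𝔭
          (LocalizedModule.mkLinearMap 𝔭.primeCompl (Fin r → S)) (LocalizedModule.mkLinearMap 𝔭.primeCompl N) hbij
        have hO : IsOpen (PrimeSpectrum.comap (algebraMap R S) '' (PrimeSpectrum.basicOpen g : Set (PrimeSpectrum S))) :=
          PrimeSpectrum.isOpenMap_comap_of_hasGoingDown_of_finitePresentation _ (PrimeSpectrum.basicOpen g).2
        have hmem : (⟨rr, inferInstance⟩ : PrimeSpectrum R) ∈
            PrimeSpectrum.comap (algebraMap R S) '' (PrimeSpectrum.basicOpen g : Set (PrimeSpectrum S)) :=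
          ⟨⟨𝔭, inferInstance⟩, hg, PrimeSpectrum.ext (le_antisymm ((Ideal.comap_mono hle).trans hq.le) Ideal.le_comap_map)⟩
        obtain ⟨V, ⟨f, rfl⟩, hfr, hfV⟩ := PrimeSpectrum.isTopologicalBasis_basic_opens.exists_subset_of_mem_open hmem hO
        refine ⟨f, hfr, ?_⟩
        rw [GrothLib.RG6.univInj_map_iff_killedKer, ← hpow f]
        refine GrothLib.RG6.killedKer_of_regular hgi (Submonoid.powers g) (Submonoid.powers f) ?_
          (GrothLib.RG6.killedKer_of_bijective _ α hgb)
        intro x hx p' _ hd
        obtain ⟨Q, hgQ, hQ⟩ := hfV (show (⟨p', inferInstance⟩ : PrimeSpectrum R) ∈ PrimeSpectrum.basicOpen f from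
          fun hfp => Set.disjoint_left.1 hd hfp (Submonoid.mem_powers f))
        refine GrothLib.RG6.fibreNonzero_of_prime p' Q.asIdeal (congrArg PrimeSpectrum.asIdeal hQ) ?_
        obtain ⟨k, rfl⟩ := hx
        exact fun hk => hgQ (Q.2.mem_of_pow_mem k hk)
      · have hk := GrothLib.RG6.killedKer_of_regular hgi 𝔭.primeCompl rr.primeCompl hreg hk0
        have hC := GrothLib.RG6.flatAt_coker q α T hTq hk h
        haveI : Module.FinitePresentation S (N ⧸ LinearMap.range α) :=
          Module.finitePresentation_of_surjective _ (LinearMap.range α).mkQ_surjective (by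
            rw [Submodule.ker_mkQ, ← Submodule.map_top]
            exact Module.Finite.fg_top.map α)
        obtain ⟨V, ⟨g, rfl⟩, hgq, hgV⟩ := PrimeSpectrum.isTopologicalBasis_basic_opens.exists_subset_of_mem_open
          (show (⟨q, inferInstance⟩ : PrimeSpectrum S) ∈ _ from hC)
          (GrothLib.FibreFlat.isOpen_flat_locus (R := R) (A := S) (M := N ⧸ LinearMap.range α))
        exact ⟨g, hgq, GrothLib.RG6.flat_powers_of_forall g fun P _ hP => hgV (show (⟨P, inferInstance⟩ : PrimeSpectrum S) ∈
          PrimeSpectrum.basicOpen g from hP)⟩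
    tfae_finish

end Groth.Agent.S1205
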