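import Groth.Statements.S1254
import Groth.Agent.Lib.RGProj13.DevissageLoc
import Groth.Agent.S1205
-- import your own Groth.Agent.* helpers here

set_option autoImplicit false
universe u
open FlatMor

namespace Groth.Agent.S1254

/-- Let S be a finitely presented R-algebra, N a finitely presented S-module which is flat over R, and 𝔯
a prime of R such that N/S/R admits a complete dévissage over 𝔯. Then for some f ∈ R outside 𝔯 the
localization N_f is projective over R_f, and is R_f-isomorphic to a finite product of free modules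
B_i^{r_i} over smooth R_f-algebras B_i whose fibres are geometrically irreducible. -/
theorem result {R S : Type u} [CommRing R] [CommRing S] [Algebra R S] [Algebra.FinitePresentation R S]
    (N : Type u) [AddCommGroup N] [Module S N] [Module R N] [IsScalarTower R S N] [Module.FinitePresentation S N] [Module.Flat R N]
    (rr : Ideal R) [rr.IsPrime] (D : FlatCA.CompleteDevissage R S N rr) :
    ∃ f : R, f ∉ rr ∧
      Module.Projective (Localization.Away f) (LocalizedModule (Submonoid.powers f) N) ∧
      ∃ (k : ℕ) (B : Fin k → Type u) (_ : ∀ i, CommRing (B i)) (_ : ∀ i, Algebra (Localization.Away f) (B i)) (r : Fin k → ℕ),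
        (∀ i, Algebra.Smooth (Localization.Away f) (B i) ∧ FlatCA.GeomIrredFibres (Localization.Away f) (B i)) ∧
        Nonempty (LocalizedModule (Submonoid.powers f) N ≃ₗ[Localization.Away f] (∀ i, Fin (r i) → B i)) := by
  obtain ⟨f, hf, hk⟩ := GrothLib.RGProj13.exists_killed D fun i hi Q _ _ hQ hfp => by
    haveI := D.smooth i hi
    haveI := hfp
    obtain ⟨⟨g, hg, hU⟩, -⟩ := (((Groth.Agent.S1205.result (GrothLib.RGProj13.hgi_B D hi) rr Q (D.M i)).2 (D.r i) (D.α i)
      (D.fibreIso i hi)).out 0 1).1 hQ
    exact ⟨g, hg, (GrothLib.RG6.univInj_map_iff_killedKer _ _).1 hU⟩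
  let Rf := Localization.Away f
  let F : ℕ → Type u := fun k => Fin (D.r k) → TensorProduct R Rf (D.B k)
  let a : ∀ k, F k →ₗ[Rf] TensorProduct R Rf (D.M k) := fun k =>
    ((D.α k).restrictScalars R).baseChange Rf ∘ₗ
      (TensorProduct.piRight R Rf Rf (fun _ : Fin (D.r k) => D.B k)).symm.toLinearMap
  have hproj : ∀ k, k < D.n → Module.Projective Rf (F k) := fun k hk' => by
    haveI := GrothLib.RGProj13.projective_B D hk'
    exact GrothLib.RGProj13.projective_pi_fin (TensorProduct R Rf (D.B k)) (D.r k)
  obtain ⟨hP, ⟨e⟩⟩ := GrothLib.RGProj13.chain_split' (R := Rf) D.n D.pos (fun k => TensorProduct R Rf (D.M k)) F a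
    (fun k hk' => (GrothLib.RGProj13.baseChange_injective f Rf (IsLocalization.Away.algebraMap_isUnit f)
      (hk k hk')).comp (LinearEquiv.injective _))
    (fun k hk' => by
      obtain ⟨π, h1, h2⟩ := GrothLib.RGProj13.exists_proj' D hk'
      refine ⟨π.baseChange Rf, LinearMap.lTensor_surjective Rf h1, ?_⟩
      intro x
      refine (lTensor_exact Rf h2 h1 x).trans ?_
      constructor
      · rintro ⟨y, rfl⟩
        exact ⟨TensorProduct.piRight R Rf Rf (fun _ : Fin (D.r k) => D.B k) y,
          congrArg _ (LinearEquiv.symm_apply_apply _ y)⟩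
      · rintro ⟨y, rfl⟩
        exact ⟨_, rfl⟩)
    ((LinearMap.lTensor_surjective Rf (g := (D.α (D.n - 1)).restrictScalars R) D.cokerLast).comp (LinearEquiv.surjective _)) hproj
  let e0 : LocalizedModule (Submonoid.powers f) N ≃ₗ[Rf] TensorProduct R Rf (D.M 0) :=
    LocalizedModule.equivTensorProduct (Submonoid.powers f) N ≪≫ₗ
      TensorProduct.AlgebraTensorModule.congr (LinearEquiv.refl Rf Rf) (D.isoN.restrictScalars R)
  haveI := hP
  refine ⟨f, hf, Module.Projective.of_equiv e0.symm, D.n, fun k => TensorProduct R Rf (D.B k), fun _ => inferInstance,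
    fun _ => inferInstance, fun k => D.r k, fun k => ?_, ⟨e0 ≪≫ₗ e⟩⟩
  haveI := D.smooth k k.2
  haveI := GrothLib.RGProj13.geomIntegralFibres_baseChange Rf (GrothLib.RGProj13.hgi_B D k.2)
  exact ⟨inferInstance, inferInstance⟩

end Groth.Agent.S1254
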