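import Groth.Statements.S9005
import Mathlib.RingTheory.Ideal.AssociatedPrime.Basic
import Mathlib.RingTheory.Nakayama
import Mathlib.RingTheory.IsTensorProduct
import Mathlib.RingTheory.Localization.AtPrime.Basic
-- import your own Groth.Agent.* helpers here

set_option autoImplicit false
universe u
open FlatMor

namespace Groth.Agent.S9005

/-- For an affine finite type morphism Spec B → Spec A: a finite B-module which is projective as an
A-module is universally pure over Spec A. (The published statement allows any base scheme S and asks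
the direct image to be locally projective; over an affine base a projective module gives such a
direct image, so this row is that case.) -/
theorem result {A B : Type u} [CommRing A] [CommRing B] [Algebra A B] [Algebra.FiniteType A B] (N : Type u) [AddCommGroup N] [Module B N] [Module A N] [IsScalarTower A B N] [Module.Finite B N] [Module.Projective A N] : FlatCA.IsUnivPure A B N := by
  intro p _ A' B' N' _ _ _ _ _ _ _ _ _ _ _ _ _ _ f t' t _ _ P _ himp
  obtain ⟨hpo, hf, hle, -, -, hass, hno⟩ := himp
  haveI hpo' : Algebra.IsPushout A A' B B' := Algebra.IsPushout.symm hpo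
  haveI : Module.Projective A' N' := Module.Projective.of_equiv
    ((Algebra.IsPushout.cancelBaseChange A A' B B' N).symm.trans (hf.equiv.restrictScalars A'))
  obtain ⟨σ, hσ⟩ := Module.projective_def'.mp (inferInstance : Module.Projective A' N')
  obtain ⟨s, hst, hs⟩ : ∃ s : A', s ∉ t ∧ algebraMap A' B' s ∈ P ⊔ t.map (algebraMap A' B') := by
    by_contra hc
    push Not at hc
    obtain ⟨P', hP', hle', hd⟩ := Ideal.exists_le_prime_disjoint (P ⊔ t.map (algebraMap A' B'))
      (Submonoid.map (algebraMap A' B') t.primeCompl) (by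
        rw [Set.disjoint_left]
        rintro _ hx ⟨a, ha, rfl⟩
        exact hc a ha hx)
    refine hno P' (le_sup_left.trans hle') ⟨le_antisymm ?_ ?_⟩
    · intro a ha
      exact Ideal.mem_comap.mpr (hle' (Ideal.mem_sup_right (Ideal.mem_map_of_mem _ ha)))
    · intro a ha
      by_contra hat
      exact Set.disjoint_left.mp hd (Ideal.mem_comap.mp ha) ⟨a, hat, rfl⟩
  obtain ⟨q, hq, y, hy, hqy⟩ := Submodule.mem_sup.mp hs
  obtain ⟨hprime, x, hx⟩ := hass
  letI := Algebra.TensorProduct.rightAlgebra (R := A') (A := t'.ResidueField) (B := B')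
  let T := TensorProduct B' (t'.Fiber B') N'
  revert x
  intro (x : T) hx
  let e : T ≃ₗ[t'.ResidueField] TensorProduct A' t'.ResidueField N' :=
    Algebra.IsPushout.cancelBaseChange A' t'.ResidueField B' (t'.Fiber B') N'
  obtain ⟨n, hn⟩ : ∃ n : ℕ, (algebraMap B' (t'.Fiber B') (q ^ n)) • x = 0 := by
    have : algebraMap B' (t'.Fiber B') q ∈ FlatCA.fiberIdeal t' P := Ideal.mem_map_of_mem _ hq
    rw [hx] at this
    obtain ⟨n, hn⟩ := this
    exact ⟨n, by simpa [map_pow, Submodule.mem_colon_singleton] using! hn⟩
  have hx0 : x ≠ 0 := by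
    rintro rfl
    apply hprime.ne_top
    rw [hx, Ideal.radical_eq_top]
    exact eq_top_iff.mpr fun z _ => Submodule.mem_colon_singleton.mpr ((Submodule.mem_bot _).mpr (smul_zero (A := T) z))
  have key : ∀ W : TensorProduct A' t'.ResidueField N',
      ∃ u : A', u ∉ t' ∧ ∃ v : N', algebraMap A' t'.ResidueField u • W = 1 ⊗ₜ v := by
    intro W
    induction W using TensorProduct.induction_on with
    | zero => exact ⟨1, t'.one_notMem, 0, by simp⟩
    | tmul c m =>
      obtain ⟨⟨r, u⟩, hru⟩ := IsLocalization.surj (nonZeroDivisors (A' ⧸ t')) c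
      obtain ⟨r, rfl⟩ := Ideal.Quotient.mk_surjective r
      obtain ⟨u₀, hu₀⟩ := Ideal.Quotient.mk_surjective u.1
      refine ⟨u₀, fun h => nonZeroDivisors.ne_zero u.2 (by rw [← hu₀]; exact Ideal.Quotient.eq_zero_iff_mem.mpr h), r • m, ?_⟩
      have hc : algebraMap A' t'.ResidueField u₀ * c = algebraMap A' t'.ResidueField r := by
        rw [IsScalarTower.algebraMap_apply A' (A' ⧸ t') t'.ResidueField,
          IsScalarTower.algebraMap_apply A' (A' ⧸ t') t'.ResidueField, mul_comm,
          Ideal.Quotient.algebraMap_eq, hu₀]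
        exact hru
      rw [TensorProduct.smul_tmul', smul_eq_mul, hc, ← mul_one (algebraMap A' t'.ResidueField r),
        ← Algebra.smul_def, TensorProduct.smul_tmul]
    | add W₁ W₂ h₁ h₂ =>
      obtain ⟨u₁, hu₁, v₁, hv₁⟩ := h₁
      obtain ⟨u₂, hu₂, v₂, hv₂⟩ := h₂
      refine ⟨u₁ * u₂, fun h => (‹t'.IsPrime›.mem_or_mem h).elim hu₁ hu₂, u₂ • v₁ + u₁ • v₂, ?_⟩
      rw [smul_add, map_mul, mul_smul _ _ W₂, mul_comm, mul_smul, hv₁, hv₂, algebraMap_smul,
        algebraMap_smul, TensorProduct.tmul_add, TensorProduct.tmul_smul, TensorProduct.tmul_smul]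
  obtain ⟨u, hu, v, hv⟩ := key (e x)
  have hu' : algebraMap A' t'.ResidueField u ≠ 0 :=
    fun h => hu (Ideal.algebraMap_residueField_eq_zero.mp h)
  let coord : N' → N' → t'.ResidueField := fun z k => algebraMap A' t'.ResidueField (σ z k)
  have h0 : ∀ z : N', (1 : t'.ResidueField) ⊗ₜ[A'] z = 0 → ∀ k, coord z k = 0 := by
    intro z hz k
    let L : N' →ₗ[A'] t'.ResidueField :=
      (Algebra.linearMap A' t'.ResidueField).comp ((Finsupp.lapply k).comp σ)
    have := congrArg (TensorProduct.lift ((LinearMap.lsmul t'.ResidueField t'.ResidueField).restrictScalars₁₂ A' A' |>.compl₂ L)) hz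
    simpa [L, coord] using! this
  have hqv : ∀ k, coord ((q ^ n) • v) k = 0 := by
    apply h0
    have h1 : e.symm (1 ⊗ₜ ((q ^ n) • v)) = algebraMap B' (t'.Fiber B') (q ^ n) • e.symm (1 ⊗ₜ v) := by
      simp only [e, Algebra.IsPushout.cancelBaseChange_symm_tmul, map_one]
      rw [algebraMap_smul]
      exact TensorProduct.tmul_smul _ _ _
    rw [← e.symm.map_eq_zero_iff, h1, ← hv, map_smul, e.symm_apply_apply, smul_comm, hn, smul_zero]
  let O := Localization.AtPrime t
  let φ : O →+* t'.ResidueField := IsLocalization.lift (M := t.primeCompl)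
    (g := algebraMap A' t'.ResidueField) (fun w => isUnit_iff_ne_zero.mpr
      fun h => w.2 (hle (Ideal.algebraMap_residueField_eq_zero.mp h)))
  letI := φ.toAlgebra
  have hφ : ∀ (a : A') (c : t'.ResidueField),
      algebraMap A' O a • c = algebraMap A' t'.ResidueField a * c := by
    intro a c
    show φ (algebraMap A' O a) * c = _
    rw [IsLocalization.lift_eq]
  classical
  let M : Submodule O t'.ResidueField := Submodule.span O ((σ v).support.image (coord v) : Set _)
  have hcv : ∀ b : B', ∀ k, coord (b • v) k ∈ M := by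
    intro b k
    have hv' : v = (σ v).sum fun i c => c • i := by
      have := LinearMap.congr_fun hσ v
      rw [LinearMap.comp_apply, Finsupp.linearCombination_apply] at this
      exact this.symm
    show algebraMap A' t'.ResidueField (σ (b • v) k) ∈ M
    rw [hv', Finsupp.sum, Finset.smul_sum, map_sum, Finsupp.finsetSum_apply, map_sum]
    refine Submodule.sum_mem _ fun i hi => ?_
    rw [smul_comm, map_smul, Finsupp.smul_apply, smul_eq_mul, mul_comm, map_mul, ← hφ]
    exact M.smul_mem _ (Submodule.subset_span (Finset.mem_coe.mpr (Finset.mem_image_of_mem _ hi)))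
  have hty : ∀ z ∈ t.map (algebraMap A' B'), ∀ b : B', ∀ k,
      coord ((b * z) • v) k ∈ IsLocalRing.maximalIdeal O • M := by
    intro z hz
    induction hz using Submodule.span_induction with
    | mem z hz =>
      obtain ⟨a, ha, rfl⟩ := hz
      intro b k
      have hc : coord ((b * algebraMap A' B' a) • v) k = algebraMap A' O a • coord (b • v) k := by
        rw [hφ, mul_comm, mul_smul, algebraMap_smul]
        simp [coord]
      rw [hc]
      refine Submodule.smul_mem_smul ?_ (hcv b k)
      rw [← IsLocalization.AtPrime.map_eq_maximalIdeal t O]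
      exact Ideal.mem_map_of_mem _ ha
    | zero => intro b k; simp [coord]
    | add z₁ z₂ _ _ h₁ h₂ =>
      intro b k
      have hc : coord ((b * (z₁ + z₂)) • v) k = coord ((b * z₁) • v) k + coord ((b * z₂) • v) k := by
        simp [coord, mul_add, add_smul]
      rw [hc]
      exact add_mem (h₁ b k) (h₂ b k)
    | smul c z _ h =>
      intro b k
      rw [smul_eq_mul, ← mul_assoc]
      exact h (b * c) k
  have hdiff : algebraMap A' B' (s ^ n) - q ^ n ∈ t.map (algebraMap A' B') := by
    rw [map_pow]
    refine Ideal.mem_of_dvd _ (sub_dvd_pow_sub_pow _ _ n) ?_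
    rwa [← hqy, add_sub_cancel_left]
  have hM : M = ⊥ := by
    refine Submodule.eq_bot_of_le_smul_of_le_jacobson_bot (IsLocalRing.maximalIdeal O) M
      (Submodule.fg_span (Finset.finite_toSet _)) ?_ (IsLocalRing.maximalIdeal_le_jacobson _)
    refine Submodule.span_le.mpr fun c hc => ?_
    obtain ⟨k, hk, rfl⟩ := Finset.mem_image.mp (Finset.mem_coe.mp hc)
    have hu₁ : IsUnit (algebraMap A' O (s ^ n)) :=
      IsLocalization.map_units O (⟨s ^ n, fun h => hst (‹t.IsPrime›.mem_of_pow_mem n h)⟩ : t.primeCompl)
    rw [SetLike.mem_coe, ← Submodule.smul_mem_iff_of_isUnit _ hu₁]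
    have hc' : algebraMap A' O (s ^ n) • coord v k =
        coord ((1 * (algebraMap A' B' (s ^ n) - q ^ n)) • v) k := by
      rw [hφ, one_mul]
      have := hqv k
      simp only [coord] at this ⊢
      rw [sub_smul, algebraMap_smul, map_sub, Finsupp.sub_apply, map_sub, this, sub_zero, map_smul,
        Finsupp.smul_apply, smul_eq_mul, map_mul]
    rw [hc']
    exact hty _ hdiff 1 k
  apply hx0
  have hv0 : (1 : t'.ResidueField) ⊗ₜ[A'] v = 0 := by
    have hv' : v = (σ v).sum fun i c => c • i := by
      have := LinearMap.congr_fun hσ v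
      rw [LinearMap.comp_apply, Finsupp.linearCombination_apply] at this
      exact this.symm
    rw [hv', Finsupp.sum, TensorProduct.tmul_sum]
    refine Finset.sum_eq_zero fun i hi => ?_
    rw [← TensorProduct.smul_tmul, Algebra.smul_def, mul_one]
    have : coord v i ∈ M :=
      Submodule.subset_span (Finset.mem_coe.mpr (Finset.mem_image_of_mem _ hi))
    rw [hM, Submodule.mem_bot] at this
    change algebraMap A' t'.ResidueField (σ v i) = 0 at this
    rw [this, TensorProduct.zero_tmul]
  rw [hv0, smul_eq_zero, or_iff_right hu'] at hv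
  exact e.map_eq_zero_iff.mp hv

end Groth.Agent.S9005
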