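import Groth.Statements.S12444
import Groth.Agent.Lib.Catenary20.Basic

set_option autoImplicit false
universe u
open PtTop

namespace Groth.Agent.S12444

/-- A topological space X is catenary if and only if it has an open covering by catenary subspaces
(here: every point has a catenary open neighbourhood); and if X is catenary then so is every locally
closed subspace of X. -/
theorem result (X : Type u) [TopologicalSpace X] :
    (PtTop.IsCatenarySpace X ↔
      ∀ x : X, ∃ U : TopologicalSpace.Opens X, x ∈ U ∧ PtTop.IsCatenarySpace U) ∧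
    (PtTop.IsCatenarySpace X → ∀ S : Set X, IsLocallyClosed S → PtTop.IsCatenarySpace S) := by
  have loc : ∀ S : Set X, IsLocallyClosed S → GrothLib.Catenary20.Cat (TopologicalSpace.IrreducibleCloseds X) →
      GrothLib.Catenary20.Cat (TopologicalSpace.IrreducibleCloseds S) := fun S hS h =>
    h.of_map (GrothLib.Catenary20.extendEmb S) (GrothLib.Catenary20.extend_convex hS)
  refine ⟨⟨fun h x => ⟨⊤, trivial, loc _ isOpen_univ.isLocallyClosed h⟩, fun h T T' hTT' => ?_⟩,
    fun h S hS => loc S hS h⟩
  obtain ⟨x, hx⟩ := T.isIrreducible.nonempty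
  obtain ⟨U, hxU, hU⟩ := h x
  obtain ⟨a, rfl⟩ := GrothLib.Catenary20.mem_range U.2 T ⟨x, hx, hxU⟩
  obtain ⟨b, rfl⟩ := GrothLib.Catenary20.mem_range U.2 T' ⟨x, hTT' hx, hxU⟩
  exact GrothLib.Catenary20.Cat.map_interval hU (GrothLib.Catenary20.extendEmb _)
    (GrothLib.Catenary20.extend_convex U.2.isLocallyClosed) a b
    ((GrothLib.Catenary20.extendEmb _).le_iff_le.1 hTT')

end Groth.Agent.S12444
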