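import Groth.Statements.S1255
import Groth.Agent.Lib.ProjPure13.CoverPurity
-- import your own Groth.Agent.* helpers here

set_option autoImplicit false
universe u
open FlatMor

namespace Groth.Agent.S1255

/-- Ring form, all schemes affine: let B be an A-algebra of finite type, N a finite B-module and p a
prime of A such that N is flat over A at every prime of B over p. Let (A, p) → (A', p') be an
elementary étale ring map and B' an étale B-algebra which is compatibly an A'-algebra of finite
type, with base change N' of N to B', such that N' is pure along the fibre over p' and every prime q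
of B over p whose extension to the fibre ring over p is an associated prime of the fibre module of N
is the contraction of a prime of B' lying over p'. Let B_{A'} and N_{A'} be the base changes of B
and N to A' (any models), with the induced map B_{A'} → B'. Then N is pure along the fibre over p if
and only if: for every prime t' ⊆ p' of A' and every prime Q of B_{A'} over t' whose extension to
the fibre ring over t' is an associated prime of the fibre module of N_{A'}, Q is the contraction of
a prime of B'. (The published statement asks in its covering hypothesis only that the image of Spec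
B' in Spec B contain the associated primes of the fibre module of N over p, without requiring the
covering primes of B' to lie over p'. That is not enough when Spec A' has a second point over p —
with Spec A' = Spec A ⊔ Spec A and Spec B' over the other copy the "only if" fails — so the
hypothesis is stated here in the stronger form: the covering primes of B' lie over p'.) -/
theorem result {A B : Type u} [CommRing A] [CommRing B] [Algebra A B] [Algebra.FiniteType A B]
    (N : Type u) [AddCommGroup N] [Module B N] [Module A N] [IsScalarTower A B N] [Module.Finite B N] (p : Ideal A) [p.IsPrime]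
    (hflat : ∀ (q : Ideal B) [q.IsPrime], q.LiesOver p → FlatCA.FlatAt A q N)
    (A' : Type u) [CommRing A'] [Algebra A A'] (p' : Ideal A') [p'.IsPrime] (het : FlatCA.IsEtaleNhd A A' p p')
    (B' : Type u) [CommRing B'] [Algebra B B'] [Algebra A' B'] [Algebra A B'] [IsScalarTower A B B'] [IsScalarTower A A' B']
    [Algebra.Etale B B'] [Algebra.FiniteType A' B']
    (N' : Type u) [AddCommGroup N'] [Module B' N'] [Module B N'] [IsScalarTower B B' N'] [Module A' N'] [IsScalarTower A' B' N']
    (f : N →ₗ[B] N') (hf : IsBaseChange B' f)
    (hpure : FlatCA.IsPureAlong A' B' N' p')
    (hcov : ∀ (q : Ideal B) [q.IsPrime], q.LiesOver p →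
      FlatCA.fiberIdeal p q ∈ associatedPrimes (p.Fiber B) (FlatCA.fiberMod p B N) →
      ∃ q' : Ideal B', q'.IsPrime ∧ q'.comap (algebraMap B B') = q ∧ q'.comap (algebraMap A' B') = p')
    (BA NA : Type u) [CommRing BA] [Algebra B BA] [Algebra A' BA] [Algebra A BA] [IsScalarTower A B BA] [IsScalarTower A A' BA]
    [Algebra.IsPushout A B A' BA] [Algebra BA B'] [IsScalarTower B BA B'] [IsScalarTower A' BA B']
    [AddCommGroup NA] [Module BA NA] [Module B NA] [IsScalarTower B BA NA] [Module A' NA] [IsScalarTower A' BA NA]
    (fA : N →ₗ[B] NA) (hfA : IsBaseChange BA fA) :
    FlatCA.IsPureAlong A B N p ↔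
      ∀ (t' : Ideal A') [t'.IsPrime], t' ≤ p' → ∀ (Q : Ideal BA) [Q.IsPrime], Q.LiesOver t' →
        FlatCA.fiberIdeal t' Q ∈ associatedPrimes (t'.Fiber BA) (FlatCA.fiberMod t' BA NA) →
        ∃ Q' : Ideal B', Q'.IsPrime ∧ Q'.comap (algebraMap BA B') = Q := by
  refine ⟨fun h t' _ htle Q _ hQt hass =>
    GrothLib.ProjPure13.covered_of_pure hflat het hcov fA hfA h t' htle Q hQt hass, fun hc => ?_⟩
  exact GrothLib.ProjPure13.pure_of_covered het f hf hpure fA hfA hc

end Groth.Agent.S1255
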