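import Groth.Statements.S1226
import Groth.Agent.Lib.RG6.Impure.Purity
-- import your own Groth.Agent.* helpers here

set_option autoImplicit false
universe u
open FlatMor

namespace Groth.Agent.S1226

/-- Ring form, X = Spec B affine: let B be a finite type A-algebra, N a finite B-module and p a prime of
A; let A' be an A-algebra with a prime p' over p such that A' is of finite type over A and
quasi-finite at p', and let B', N' be the base changes of B, N. If N is pure along the fibre over p
then N' is pure along the fibre over p'. -/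
theorem result {A B : Type u} [CommRing A] [CommRing B] [Algebra A B] [Algebra.FiniteType A B]
    (N : Type u) [AddCommGroup N] [Module B N] [Module.Finite B N] (p : Ideal A) [p.IsPrime]
    (A' B' N' : Type u) [CommRing A'] [CommRing B'] [Algebra A A'] [Algebra B B'] [Algebra A' B'] [Algebra A B']
    [IsScalarTower A B B'] [IsScalarTower A A' B'] [Algebra.IsPushout A B A' B']
    [AddCommGroup N'] [Module B' N'] [Module B N'] [IsScalarTower B B' N'] (f : N →ₗ[B] N') (hf : IsBaseChange B' f)
    (p' : Ideal A') [p'.IsPrime] [p'.LiesOver p] [Algebra.FiniteType A A'] [Algebra.QuasiFiniteAt A p']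
    (h : FlatCA.IsPureAlong A B N p) : FlatCA.IsPureAlong A' B' N' p' := by
  intro A'' B'' N'' _ _ _ _ _ _ _ _ _ _ _ _ _ _ g t' t _ _ P _ het himp
  obtain ⟨het', hlo, hbij⟩ := het
  letI : Algebra A A'' := ((algebraMap A' A'').comp (algebraMap A A')).toAlgebra
  haveI : IsScalarTower A A' A'' := .of_algebraMap_eq fun _ => rfl
  haveI : Algebra.FiniteType A A'' := Algebra.FiniteType.trans (S := A') inferInstance inferInstance
  haveI : Algebra.QuasiFinite A' A'' := inferInstance
  haveI : Algebra.QuasiFiniteAt A t := by
    letI := Localization.AtPrime.algebraOfLiesOver p' t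
    haveI : Algebra.QuasiFinite (Localization.AtPrime p') (Localization.AtPrime t) := .of_restrictScalars A' _ _
    exact Algebra.QuasiFinite.trans A (Localization.AtPrime p') (Localization.AtPrime t)
  have := GrothLib.RG6.Impure.hasImpurity_of_baseChange (p := p) ‹Algebra.IsPushout A B A' B'› hf himp
    (fun C _ _ u => ∃ _ : u.IsPrime, Algebra.FiniteType A C ∧ Algebra.QuasiFiniteAt A u) ⟨inferInstance, ‹_›, ‹_›⟩
  obtain ⟨C, BC, NC, _, _, _, _, _, _, _, _, _, _, _, _, _, _, fC, u', u, _, _, PC, _, himpC, _, _, _⟩ := this
  obtain ⟨D, BD, ND, _, _, _, _, _, _, _, _, _, _, _, _, _, _, fD, v', v, _, _, PD, _, himpD, _, hv⟩ :=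
    GrothLib.RG6.Impure.etaleNhd_of_qf himpC
  exact h D BD ND fD v' v PD hv himpD

end Groth.Agent.S1226
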