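import Groth.Statements.S12243
import Groth.Agent.Lib.DevBC13.Family
-- import your own Groth.Agent.* helpers here

set_option autoImplicit false
universe u
open FlatMor

namespace Groth.Agent.S12243


attribute [local instance] Algebra.TensorProduct.rightAlgebra
set_option maxHeartbeats 1600000


open TensorProduct in
/-- All schemes are affine; the base-changed complete dévissage is asserted to exist with its pieces
pinned as base changes. Let R → S be of finite type, N a finite S-module, p a prime of R and 𝒟 a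
complete dévissage of N/S/R over p in the prelude's algebraic form (rings A_i, smooth R-algebras B_i
with pB_i prime and geometrically irreducible fibres, finite A_i-modules M_i with N ≅ M_0, maps α_i
from finite free B_i-modules, bijective on the fibre at pB_i, whose cokernels are the next modules,
the last one surjective; steps indexed by i below the length). Let R → R' be a ring map, p' a prime
of R' over p, S' the base change of S and N' = N ⊗_S S'. Then N'/S'/R' has a complete dévissage 𝒟'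
over p' of the same length and the same ranks whose pieces are base changes of those of 𝒟: for the
steps i below the length there are algebra structures making A'_i and B'_i the base changes of A_i
and B_i along R → R', compatibly with B_i → A_i, with B_i → A_{i+1}, with S → A_0 and with S' →
A'_0, and A_i-linear base-change maps M_i → M'_i (M'_i ≅ M_i ⊗_{A_i} A'_i) carrying N ≅ M_0 to N' ≅
M'_0 and the image of α_i onto a generating set of the image of α'_i. (The published statement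
base-changes all the data functorially; here the identifications of cokernels inside 𝒟' are not
required to be the base-changed ones.) -/
theorem result
    (R S : Type u) [CommRing R] [CommRing S] [Algebra R S] [Algebra.FiniteType R S]
    (N : Type u) [AddCommGroup N] [Module S N] [Module.Finite S N]
    (p : Ideal R) [p.IsPrime] (𝒟 : FlatCA.CompleteDevissage R S N p)
    (R' : Type u) [CommRing R'] [Algebra R R'] (p' : Ideal R') [p'.IsPrime] [p'.LiesOver p]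
    (S' : Type u) [CommRing S'] [Algebra R' S'] [Algebra R S'] [Algebra S S'] [IsScalarTower R R' S']
    [IsScalarTower R S S'] [Algebra.IsPushout R R' S S']
    (N' : Type u) [AddCommGroup N'] [Module S' N'] [Module S N'] [IsScalarTower S S' N']
    (f : N →ₗ[S] N') (hf : IsBaseChange S' f) :
    ∃ (𝒟' : FlatCA.CompleteDevissage R' S' N' p')
      (aA : ∀ i : Fin 𝒟.n, Algebra (𝒟.A i) (𝒟'.A i)) (rA : ∀ i : Fin 𝒟.n, Algebra R (𝒟'.A i))
      (_t1 : ∀ i : Fin 𝒟.n, IsScalarTower R (R') (𝒟'.A i)) (_t2 : ∀ i : Fin 𝒟.n, IsScalarTower R (𝒟.A i) (𝒟'.A i))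
      (aB : ∀ i : Fin 𝒟.n, Algebra (𝒟.B i) (𝒟'.B i)) (rB : ∀ i : Fin 𝒟.n, Algebra R (𝒟'.B i))
      (_t3 : ∀ i : Fin 𝒟.n, IsScalarTower R (R') (𝒟'.B i)) (_t4 : ∀ i : Fin 𝒟.n, IsScalarTower R (𝒟.B i) (𝒟'.B i))
      (bA : ∀ i : Fin 𝒟.n, Algebra (𝒟.B i) (𝒟'.A i)) (_t5 : ∀ i : Fin 𝒟.n, IsScalarTower (𝒟.B i) (𝒟.A i) (𝒟'.A i))
      (_t6 : ∀ i : Fin 𝒟.n, IsScalarTower (𝒟.B i) (𝒟'.B i) (𝒟'.A i))
      (bA' : ∀ i : Fin 𝒟.n, Algebra (𝒟.B i) (𝒟'.A (i + 1)))
      (_t7 : ∀ i : Fin 𝒟.n, IsScalarTower (𝒟.B i) (𝒟'.B i) (𝒟'.A (i + 1)))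
      (sA : Algebra S (𝒟'.A 0)) (_t8 : IsScalarTower S (S') (𝒟'.A 0))
      (mA : ∀ i : Fin 𝒟.n, Module (𝒟.A i) (𝒟'.M i)) (_t9 : ∀ i : Fin 𝒟.n, IsScalarTower (𝒟.A i) (𝒟'.A i) (𝒟'.M i))
      (gM : ∀ i : Fin 𝒟.n, 𝒟.M i →ₗ[𝒟.A i] 𝒟'.M i),
      𝒟'.n = 𝒟.n ∧ 𝒟'.r = 𝒟.r ∧
      (letI := aA ⟨0, 𝒟.pos⟩; IsScalarTower S (𝒟.A 0) (𝒟'.A 0)) ∧
      (∀ x : N, 𝒟'.isoN (f x) = gM ⟨0, 𝒟.pos⟩ (𝒟.isoN x)) ∧
      (∀ (i : Fin 𝒟.n) (h : (i : ℕ) + 1 < 𝒟.n),
        letI := aA ⟨i + 1, h⟩; IsScalarTower (𝒟.B i) (𝒟.A (i + 1)) (𝒟'.A (i + 1))) ∧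
      ∀ i : Fin 𝒟.n,
        Algebra.IsPushout R R' (𝒟.A i) (𝒟'.A i) ∧ Algebra.IsPushout R R' (𝒟.B i) (𝒟'.B i) ∧
        IsBaseChange (𝒟'.A i) (gM i) ∧
        LinearMap.range (𝒟'.α i) =
          Submodule.span (𝒟'.B i) ((gM i) '' (LinearMap.range (𝒟.α i) : Set (𝒟.M i))) := by
  classical
  let A' : ℕ → Type u := fun i => GrothLib.DevBC13.TrRing R R' 𝒟.n 𝒟.A i
  let B' : ℕ → Type u := fun i => GrothLib.DevBC13.PdRing R R' 𝒟.n 𝒟.B i
  let M' : ℕ → Type u := fun i => GrothLib.DevBC13.TrMod R R' 𝒟.n 𝒟.A 𝒟.M i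
  let φA : ∀ i, 𝒟.B i →ₐ[R] 𝒟.A i := fun i => IsScalarTower.toAlgHom R (𝒟.B i) (𝒟.A i)
  let φA' : ∀ i, 𝒟.B i →ₐ[R] 𝒟.A (i + 1) := fun i => IsScalarTower.toAlgHom R (𝒟.B i) (𝒟.A (i + 1))
  let φS : S →ₐ[R] 𝒟.A 0 := IsScalarTower.toAlgHom R S (𝒟.A 0)
  have hlt : ∀ i, i + 1 < 𝒟.n → i < 𝒟.n := fun i h => by omega
  letI iBA : ∀ i, Algebra (B' i) (A' i) := fun i =>
    (GrothLib.DevBC13.pdTo R R' 𝒟.A 𝒟.B (φA i) id).toAlgebra
  letI iBA' : ∀ i, Algebra (B' i) (A' (i + 1)) := fun i =>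
    (GrothLib.DevBC13.pdTo R R' 𝒟.A 𝒟.B (φA' i) (hlt i)).toAlgebra
  haveI tBA : ∀ i, IsScalarTower R' (B' i) (A' i) := fun i =>
    IsScalarTower.of_algebraMap_eq fun r => (GrothLib.DevBC13.pdTo_algebraMap R R' 𝒟.A 𝒟.B (φA i) id r).symm
  haveI tBA' : ∀ i, IsScalarTower R' (B' i) (A' (i + 1)) := fun i =>
    IsScalarTower.of_algebraMap_eq fun r => (GrothLib.DevBC13.pdTo_algebraMap R R' 𝒟.A 𝒟.B (φA' i) (hlt i) r).symm
  letI iSA : Algebra S' (A' 0) := (GrothLib.DevBC13.fromS R R' 𝒟.A (n := 𝒟.n) φS).toAlgebra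
  haveI tSA : IsScalarTower R' S' (A' 0) := IsScalarTower.of_algebraMap_eq fun r => funext fun k =>
    (((Algebra.TensorProduct.map (AlgHom.id R' R') φS).comp
      (Algebra.IsPushout.equiv R R' S S').symm.toAlgHom).commutes r).symm
  letI mAM : ∀ i, Module (A' i) (M' i) := fun i =>
    (inferInstance : Module (GrothLib.DevBC13.TrRing R R' 𝒟.n 𝒟.A i) (GrothLib.DevBC13.TrMod R R' 𝒟.n 𝒟.A 𝒟.M i))
  letI mA : ∀ i, Module (𝒟.A i) (M' i) := fun i =>
    (inferInstance : Module (𝒟.A i) (GrothLib.DevBC13.TrMod R R' 𝒟.n 𝒟.A 𝒟.M i))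
  letI mRM : ∀ i, Module R' (M' i) := fun i =>
    (inferInstance : Module R' (GrothLib.DevBC13.TrMod R R' 𝒟.n 𝒟.A 𝒟.M i))
  haveI tAM : ∀ i, IsScalarTower (𝒟.A i) (A' i) (M' i) := fun i =>
    IsScalarTower.of_algebraMap_smul fun a x => funext fun k => algebraMap_smul (R' ⊗[R] 𝒟.A i) a (x k)
  letI mBM : ∀ i, Module (B' i) (M' i) := fun i => Module.compHom _ (algebraMap (B' i) (A' i))
  haveI tBAM : ∀ i, IsScalarTower (B' i) (A' i) (M' i) := fun i => IsScalarTower.of_algebraMap_smul fun _ _ => rfl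
  haveI tRBM : ∀ i, IsScalarTower R' (B' i) (M' i) := fun i => IsScalarTower.of_algebraMap_smul fun r x =>
    (show algebraMap (B' i) (A' i) (algebraMap R' (B' i) r) • x = r • x by
      rw [← IsScalarTower.algebraMap_apply]
      exact funext fun k => algebraMap_smul (R' ⊗[R] 𝒟.A i) r (x k))
  letI mSM : Module S' (M' 0) := Module.compHom _ (algebraMap S' (A' 0))
  haveI tSAM : IsScalarTower S' (A' 0) (M' 0) := IsScalarTower.of_algebraMap_smul fun _ _ => rfl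
  letI mB'M : ∀ i, Module (B' i) (M' (i + 1)) := fun i => Module.compHom _ (algebraMap (B' i) (A' (i + 1)))
  haveI tB'AM : ∀ i, IsScalarTower (B' i) (A' (i + 1)) (M' (i + 1)) := fun i =>
    IsScalarTower.of_algebraMap_smul fun _ _ => rfl
  have hp' : ∀ i, (p'.map (algebraMap R' (B' i))).IsPrime := fun i => by
    by_cases hi : i < 𝒟.n
    · haveI := 𝒟.smooth i hi
      haveI := GrothLib.RGProj13.geomIntegralFibres_baseChange R' (GrothLib.RGProj13.hgi_B 𝒟 hi)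
      haveI := GrothLib.DevBC13.map_isPrime (R := R') (B := R' ⊗[R] 𝒟.B i) inferInstance p'
      let e := GrothLib.DevBC13.pdEquiv R R' 𝒟.B hi
      have h : p'.map (algebraMap R' (B' i)) = (p'.map (algebraMap R' (R' ⊗[R] 𝒟.B i))).map e.symm.toRingEquiv := by
        rw [← Ideal.map_coe (e.symm.toRingEquiv), Ideal.map_map]
        congr 1
        exact RingHom.ext fun r => (e.symm.commutes r).symm
      rw [h]
      exact Ideal.map_isPrime_of_equiv e.symm.toRingEquiv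
    · let e := GrothLib.DevBC13.pdEquiv' R R' 𝒟.B hi
      have h : p'.map (algebraMap R' (B' i)) = p'.map e.symm.toRingEquiv := by
        rw [← Ideal.map_coe (e.symm.toRingEquiv)]
        congr 1
        exact RingHom.ext fun r => (e.symm.commutes r).symm
      rw [h]
      exact Ideal.map_isPrime_of_equiv e.symm.toRingEquiv
  haveI := hp'
  -- the structures over the original rings below the length
  letI aB : ∀ j : Fin 𝒟.n, Algebra (𝒟.B j) (B' j) := fun j => (GrothLib.DevBC13.fromB R R' 𝒟.B j.2).toAlgebra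
  haveI t4 : ∀ j : Fin 𝒟.n, IsScalarTower R (𝒟.B j) (B' j) := fun j => IsScalarTower.of_algebraMap_eq fun r =>
    Prod.ext (funext fun _ => ((Algebra.TensorProduct.includeRight : 𝒟.B j →ₐ[R] R' ⊗[R] 𝒟.B j).commutes r).symm)
      (funext fun h => absurd j.2 h.down)
  letI bA : ∀ j : Fin 𝒟.n, Algebra (𝒟.B j) (A' j) := fun j =>
    ((algebraMap (𝒟.A j) (A' j)).comp (algebraMap (𝒟.B j) (𝒟.A j))).toAlgebra
  haveI t5 : ∀ j : Fin 𝒟.n, IsScalarTower (𝒟.B j) (𝒟.A j) (A' j) := fun j => IsScalarTower.of_algebraMap_eq fun _ => rfl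
  haveI t6 : ∀ j : Fin 𝒟.n, IsScalarTower (𝒟.B j) (B' j) (A' j) := fun j => IsScalarTower.of_algebraMap_eq fun b =>
    (GrothLib.DevBC13.pdTo_fromB R R' 𝒟.A 𝒟.B (φA j) id j.2 b).symm
  letI bA' : ∀ j : Fin 𝒟.n, Algebra (𝒟.B j) (A' (j + 1)) := fun j =>
    ((algebraMap (𝒟.A (j + 1)) (A' (j + 1))).comp (algebraMap (𝒟.B j) (𝒟.A (j + 1)))).toAlgebra
  haveI t5' : ∀ j : Fin 𝒟.n, IsScalarTower (𝒟.B j) (𝒟.A (j + 1)) (A' (j + 1)) := fun j =>
    IsScalarTower.of_algebraMap_eq fun _ => rfl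
  haveI t7 : ∀ j : Fin 𝒟.n, IsScalarTower (𝒟.B j) (B' j) (A' (j + 1)) := fun j => IsScalarTower.of_algebraMap_eq fun b =>
    (GrothLib.DevBC13.pdTo_fromB R R' 𝒟.A 𝒟.B (φA' j) (hlt j) j.2 b).symm
  letI sA : Algebra S (A' 0) := ((algebraMap (𝒟.A 0) (A' 0)).comp (algebraMap S (𝒟.A 0))).toAlgebra
  haveI t5S : IsScalarTower S (𝒟.A 0) (A' 0) := IsScalarTower.of_algebraMap_eq fun _ => rfl
  haveI t8 : IsScalarTower S S' (A' 0) := IsScalarTower.of_algebraMap_eq fun s => funext fun k => by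
    show (1 : R') ⊗ₜ[R] (algebraMap S (𝒟.A 0) s) = ((Algebra.TensorProduct.map (AlgHom.id R' R') φS).comp
      (Algebra.IsPushout.equiv R R' S S').symm.toAlgHom) (algebraMap S S' s)
    simp [Algebra.IsPushout.equiv_symm_algebraMap_right, φS]
  have hA : ∀ j : Fin 𝒟.n, Algebra.IsPushout R R' (𝒟.A j) (A' j) := fun j =>
    GrothLib.DevBC13.isPushout_of_equiv (GrothLib.DevBC13.trEquiv R R' 𝒟.A j.2) fun _ => rfl
  have hB : ∀ j : Fin 𝒟.n, Algebra.IsPushout R R' (𝒟.B j) (B' j) := fun j =>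
    GrothLib.DevBC13.isPushout_of_equiv (GrothLib.DevBC13.pdEquiv R R' 𝒟.B j.2) fun _ => rfl
  haveI := hA
  haveI := hB
  let gM : ∀ i, 𝒟.M i →ₗ[𝒟.A i] M' i := fun i => GrothLib.DevBC13.trMk R R' 𝒟.A (n := 𝒟.n) (M := 𝒟.M) i
  have hgA : ∀ j : Fin 𝒟.n, IsBaseChange (A' j) (gM j) := fun j =>
    GrothLib.DevBC13.isBaseChange_trMk R R' 𝒟.A j.2
  letI mB : ∀ j : Fin 𝒟.n, Module (𝒟.B j) (M' j) := fun j => Module.compHom _ (algebraMap (𝒟.B j) (B' j))
  haveI tB : ∀ j : Fin 𝒟.n, IsScalarTower (𝒟.B j) (B' j) (M' j) := fun j => IsScalarTower.of_algebraMap_smul fun _ _ => rfl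
  haveI tBA2 : ∀ j : Fin 𝒟.n, IsScalarTower (𝒟.B j) (𝒟.A j) (M' j) := fun j => IsScalarTower.of_algebraMap_smul fun b x =>
    (show algebraMap (𝒟.B j) (𝒟.A j) b • x = algebraMap (B' j) (A' j) (algebraMap (𝒟.B j) (B' j) b) • x by
      rw [← IsScalarTower.algebraMap_apply (𝒟.B j) (B' j) (A' j), IsScalarTower.algebraMap_apply (𝒟.B j) (𝒟.A j) (A' j),
        algebraMap_smul (A' j)])
  have hgB : ∀ j : Fin 𝒟.n, IsBaseChange (B' j) ((gM j).restrictScalars (𝒟.B j)) := fun j =>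
    GrothLib.DevBC13.isBaseChange_over (R := R) (R' := R') (gM j) (hgA j)
  let α' : ∀ i, (Fin (𝒟.r i) → B' i) →ₗ[B' i] M' i := fun i =>
    Fintype.linearCombination (B' i) fun k => gM i (𝒟.α i (Pi.single k 1))
  have hα : ∀ j : Fin 𝒟.n, α' j = GrothLib.DevBC13.alphaBC ((gM j).restrictScalars (𝒟.B j)) (𝒟.α j) := fun j => rfl
  have hcoker : ∀ i, i + 1 < 𝒟.n → Nonempty ((M' i ⧸ LinearMap.range (α' i)) ≃ₗ[B' i] M' (i + 1)) := by
    intro i hi
    obtain ⟨j, rfl⟩ : ∃ j : Fin 𝒟.n, (j : ℕ) = i := ⟨⟨i, by omega⟩, rfl⟩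
    obtain ⟨j', hj'⟩ : ∃ j' : Fin 𝒟.n, (j' : ℕ) = j + 1 := ⟨⟨j + 1, hi⟩, rfl⟩
    haveI : Algebra.IsPushout R R' (𝒟.A (j + 1)) (A' (j + 1)) := hA ⟨j + 1, hi⟩
    letI : Module (𝒟.B j) (M' (j + 1)) := Module.compHom _ (algebraMap (𝒟.B j) (B' j))
    haveI : IsScalarTower (𝒟.B j) (B' j) (M' (j + 1)) := IsScalarTower.of_algebraMap_smul fun _ _ => rfl
    haveI : IsScalarTower (𝒟.B j) (𝒟.A (j + 1)) (M' (j + 1)) := IsScalarTower.of_algebraMap_smul fun b x =>
      (show algebraMap (𝒟.B j) (𝒟.A (j + 1)) b • x =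
          algebraMap (B' j) (A' (j + 1)) (algebraMap (𝒟.B j) (B' j) b) • x by
        rw [← IsScalarTower.algebraMap_apply (𝒟.B j) (B' j) (A' (j + 1)),
          IsScalarTower.algebraMap_apply (𝒟.B j) (𝒟.A (j + 1)) (A' (j + 1)), algebraMap_smul (A' (j + 1))])
    have hg1 : IsBaseChange (B' j) ((gM (j + 1)).restrictScalars (𝒟.B j)) :=
      GrothLib.DevBC13.isBaseChange_over (R := R) (R' := R') (gM (j + 1)) (hgA ⟨j + 1, hi⟩)
    exact GrothLib.DevBC13.exists_coker_equiv (𝒟.α j) (hgB j) hg1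
      ((𝒟.isoCoker j hi).toLinearMap ∘ₗ (LinearMap.range (𝒟.α j)).mkQ)
      ((𝒟.isoCoker j hi).surjective.comp (Submodule.mkQ_surjective _)) fun x => by
        rw [LinearMap.comp_apply, LinearEquiv.coe_coe, LinearEquiv.map_eq_zero_iff, Submodule.mkQ_apply,
          Submodule.Quotient.mk_eq_zero]
        exact Iff.rfl
  haveI : Algebra.IsPushout R R' (𝒟.A 0) (A' 0) := hA ⟨0, 𝒟.pos⟩
  letI : Module S (M' 0) := Module.compHom _ (algebraMap S S')
  haveI : IsScalarTower S S' (M' 0) := IsScalarTower.of_algebraMap_smul fun _ _ => rfl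
  haveI : IsScalarTower S (𝒟.A 0) (M' 0) := IsScalarTower.of_algebraMap_smul fun s x =>
    (show algebraMap S (𝒟.A 0) s • x = algebraMap S' (A' 0) (algebraMap S S' s) • x by
      rw [← IsScalarTower.algebraMap_apply S S' (A' 0), IsScalarTower.algebraMap_apply S (𝒟.A 0) (A' 0), algebraMap_smul (A' 0)])
  have hgS : IsBaseChange S' ((gM 0).restrictScalars S) :=
    GrothLib.DevBC13.isBaseChange_over (R := R) (R' := R') (gM 0) (hgA ⟨0, 𝒟.pos⟩)
  let isoN' : N' ≃ₗ[S'] M' 0 := hf.equiv.symm ≪≫ₗ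
    TensorProduct.AlgebraTensorModule.congr (LinearEquiv.refl S' S') 𝒟.isoN ≪≫ₗ hgS.equiv
  let 𝒟' : FlatCA.CompleteDevissage R' S' N' p' :=
    { n := 𝒟.n
      pos := 𝒟.pos
      A := A'
      B := B'
      M := M'
      r := 𝒟.r
      α := α'
      surjSA := GrothLib.DevBC13.surjective_bc R R' (B := S) (B' := S') (A := 𝒟.A 0) (A' := A' 0) 𝒟.surjSA
      fpSA := by
        haveI := 𝒟.fpSA
        exact GrothLib.DevBC13.finitePresentation_bc R R' (B := S) (B' := S') (A := 𝒟.A 0) (A' := A' 0)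
      surjBA' := fun i hi => by
        obtain ⟨j, rfl⟩ : ∃ j : Fin 𝒟.n, (j : ℕ) = i := ⟨⟨i, by omega⟩, rfl⟩
        haveI : Algebra.IsPushout R R' (𝒟.A (j + 1)) (A' (j + 1)) := hA ⟨j + 1, hi⟩
        exact GrothLib.DevBC13.surjective_bc R R' (B := 𝒟.B j) (A := 𝒟.A (j + 1)) (𝒟.surjBA' j hi)
      fpBA' := fun i hi => by
        obtain ⟨j, rfl⟩ : ∃ j : Fin 𝒟.n, (j : ℕ) = i := ⟨⟨i, by omega⟩, rfl⟩
        haveI : Algebra.IsPushout R R' (𝒟.A (j + 1)) (A' (j + 1)) := hA ⟨j + 1, hi⟩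
        haveI := 𝒟.fpBA' j hi
        exact GrothLib.DevBC13.finitePresentation_bc R R' (B := 𝒟.B j) (A := 𝒟.A (j + 1))
      finiteBA := fun i hi => by
        obtain ⟨j, rfl⟩ : ∃ j : Fin 𝒟.n, (j : ℕ) = i := ⟨⟨i, hi⟩, rfl⟩
        haveI := 𝒟.finiteBA j hi
        exact GrothLib.DevBC13.finite_bc R R' (B := 𝒟.B j) (A := 𝒟.A j)
      smooth := fun i hi => by
        haveI := 𝒟.smooth i hi
        exact Algebra.Smooth.of_equiv (GrothLib.DevBC13.pdEquiv R R' 𝒟.B hi).symm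
      geomIrred := fun i hi => by
        haveI := GrothLib.RGProj13.geomIntegralFibres_congr (GrothLib.DevBC13.pdEquiv R R' 𝒟.B hi).symm
          (GrothLib.RGProj13.geomIntegralFibres_baseChange R' (GrothLib.RGProj13.hgi_B 𝒟 hi))
        exact inferInstance
      finiteM := fun i hi => by
        obtain ⟨j, rfl⟩ : ∃ j : Fin 𝒟.n, (j : ℕ) = i := ⟨⟨i, hi⟩, rfl⟩
        haveI := 𝒟.finiteM j hi
        exact Module.Finite.equiv (hgA j).equiv
      isoN := isoN'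
      isoCoker := fun i hi => (hcoker i hi).some
      fibreIso := fun i hi => by
        obtain ⟨j, rfl⟩ : ∃ j : Fin 𝒟.n, (j : ℕ) = i := ⟨⟨i, hi⟩, rfl⟩
        haveI := 𝒟.smooth j hi
        have hQ := GrothLib.DevBC13.comap_map_eq (B := 𝒟.B j) (B' := B' j) p p'
        let ψ := Ideal.ResidueField.mapₐ (p.map (algebraMap R (𝒟.B j))) (p'.map (algebraMap R' (B' j)))
          (Algebra.ofId (𝒟.B j) (B' j)) hQ.symm
        letI : Algebra (p.map (algebraMap R (𝒟.B j))).ResidueField (p'.map (algebraMap R' (B' j))).ResidueField :=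
          ψ.toRingHom.toAlgebra
        haveI : IsScalarTower (𝒟.B j) (p.map (algebraMap R (𝒟.B j))).ResidueField
            (p'.map (algebraMap R' (B' j))).ResidueField :=
          IsScalarTower.of_algebraMap_eq fun b => (ψ.commutes b).symm
        rw [hα j]
        exact GrothLib.DevBC13.alphaBC_baseChange_bijective (𝒟.α j) (hgB j) _ _ (𝒟.fibreIso j hi)
      cokerLast := by
        obtain ⟨j, hj⟩ : ∃ j : Fin 𝒟.n, (j : ℕ) = 𝒟.n - 1 := ⟨⟨𝒟.n - 1, by have := 𝒟.pos; omega⟩, rfl⟩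
        rw [← hj, hα j]
        exact GrothLib.DevBC13.alphaBC_surjective (𝒟.α j) (hgB j) (by rw [hj]; exact 𝒟.cokerLast) }
  refine ⟨𝒟', fun j => (inferInstance : Algebra (𝒟.A j) (A' j)), fun j => (inferInstance : Algebra R (A' j)),
    fun j => (inferInstance : IsScalarTower R R' (A' j)), fun j => (inferInstance : IsScalarTower R (𝒟.A j) (A' j)),
    aB, fun j => (inferInstance : Algebra R (B' j)), fun j => (inferInstance : IsScalarTower R R' (B' j)), t4, bA, t5,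
    t6, bA', t7, sA, t8, fun j => mA j, fun j => tAM j, fun j => gM j,
    rfl, rfl, t5S, fun x => ?_, fun j h => t5' j, fun j => ⟨hA j, hB j, hgA j, ?_⟩⟩
  · show isoN' (f x) = gM 0 (𝒟.isoN x)
    simp [isoN', IsBaseChange.equiv_symm_apply, IsBaseChange.equiv_tmul]
  · show LinearMap.range (α' j) = _
    rw [hα j]
    exact GrothLib.DevBC13.range_alphaBC _ _

end Groth.Agent.S12243
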