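import Groth.Statements.S18935
import Groth.Agent.Lib.LCI6.Descent
-- import your own Groth.Agent.* helpers here

set_option autoImplicit false
universe u
open LCI

namespace Groth.Agent.S18935

/-- Let R be a commutative ring and I a proper ideal of R which is generated by some Koszul-regular
sequence. A finite sequence f of generators of I is Koszul-regular if and only if f has the smallest
possible length among all finite generating sequences of I. (Properness of I is needed: the
sequences (1) and (1, 1) are both Koszul-regular and generate the unit ideal.) -/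
theorem result {R : Type u} [CommRing R] {I : Ideal R} (hI : I ≠ ⊤)
    (g : List R) (hg : LCI.IsKoszulRegularSeq R g) (hgI : Ideal.ofList g = I)
    (f : List R) (hfI : Ideal.ofList f = I) :
    LCI.IsKoszulRegularSeq R f ↔ ∀ h : List R, Ideal.ofList h = I → f.length ≤ h.length := by
  classical
  obtain ⟨m, hm, hIm⟩ := Ideal.exists_le_maximal I hI
  haveI := hm.isPrime
  have hrange : ∀ l : List R, Ideal.span (Set.range l.get) = Ideal.ofList l := fun l => by rw [Set.range_list_get]
  constructor
  · intro hf h hh
    exact (GrothLib.LCI6.length_le_of_isKoszulRegularSeq m f hf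
      (fun i => hIm (hfI ▸ Ideal.subset_span (List.get_mem f i))) h.get (by rw [hrange, hh, hfI])).1
  · intro hmin
    have hle := (GrothLib.LCI6.length_le_of_isKoszulRegularSeq m g hg
      (fun i => hIm (hgI ▸ Ideal.subset_span (List.get_mem g i))) f.get (by rw [hrange, hfI, hgI])).1
    have hlen : f.length = g.length := le_antisymm (hmin g hgI) hle
    have hN : ∀ i, ∃ c : Fin f.length → R, ∑ j, c j * f.get j = g.get i := fun i =>
      Ideal.mem_span_range_iff_exists_fun.mp (by rw [hrange, hfI, ← hgI]; exact Ideal.subset_span (List.get_mem g i))
    choose N hN using hN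
    let e : Fin f.length ≃ Fin g.length := finCongr hlen
    let M : Matrix (Fin g.length) (Fin g.length) R := (Matrix.of N).submatrix id e.symm
    have hMy : M.mulVec (f.get ∘ e.symm) = g.get := by
      rw [show M = (Matrix.of N).submatrix id e.symm from rfl, Matrix.submatrix_mulVec_equiv]
      simp [Function.comp_assoc]
      exact funext hN
    refine GrothLib.KoszulColon.isKoszulRegularSeq_of_localized f fun q hq hfq => ?_
    let φ := algebraMap R (Localization.AtPrime q)
    have hdet : IsUnit (M.map φ).det := by
      rw [← RingHom.mapMatrix_apply, ← RingHom.map_det]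
      refine IsLocalization.map_units (Localization.AtPrime q) (⟨M.det, ?_⟩ : q.primeCompl)
      exact (GrothLib.LCI6.length_le_of_isKoszulRegularSeq q g hg
        (fun i => hfq (by rw [hfI, ← hgI]; exact Ideal.subset_span (List.get_mem g i))) f.get
        (by rw [hrange, hfI, hgI])).2 e (Matrix.of N) (funext hN)
    have hg' : LCI.IsKoszulRegularSeq (Localization.AtPrime q) (List.ofFn fun i => φ (g.get i)) := by
      have := GrothLib.KoszulColon.isKoszulRegularSeq_map φ
        (RingHom.flat_algebraMap_iff.mpr (IsLocalization.flat _ q.primeCompl)) g hg
      convert this using 1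
      rw [show (fun i => φ (g.get i)) = φ ∘ g.get from rfl, ← List.map_ofFn, List.ofFn_get]
    have hk := GrothLib.LCI6.isKoszulRegularSeq_mulVec (M.map φ)⁻¹ (Matrix.isUnit_nonsing_inv_det _ hdet) _ hg'
    rw [show (fun i => φ (g.get i)) = (M.map φ).mulVec (φ ∘ (f.get ∘ e.symm)) from funext fun i => by
        rw [← RingHom.map_mulVec, hMy],
      Matrix.mulVec_mulVec, Matrix.nonsing_inv_mul _ hdet, Matrix.one_mulVec] at hk
    convert hk using 1
    apply List.ext_getElem
    · simp [hlen]
    · intro i h1 h2
      simp [φ, e]

end Groth.Agent.S18935
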