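import Groth.Statements.S2333
import Groth.Agent.Lib.Ample.RelAmple

set_option autoImplicit false
universe u
open CategoryTheory CategoryTheory.Limits AlgebraicGeometry
open EGA2

namespace Groth.Agent.S2333

/-- Let f : X → Y and g : Y → Z be morphisms of schemes with f quasi-compact, and L an O_X-module which
is ample relative to the composite g ∘ f. Then L is ample relative to f. (No separatedness
hypothesis on g is imposed.) -/
theorem result {X Y Z : Scheme.{u}} (f : X ⟶ Y) (g : Y ⟶ Z) [QuasiCompact f]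
    (L : X.Modules) (hL : RelAmple.IsRelAmple (f ≫ g) L) : RelAmple.IsRelAmple f L := by
  refine GrothLib.Ample.isRelAmple_of_cover fun y => ?_
  obtain ⟨W, hW, hyW, -⟩ := exists_isAffineOpen_mem_and_subset (TopologicalSpace.Opens.mem_top (g y))
  obtain ⟨O, hO, hyO, hOW⟩ := exists_isAffineOpen_mem_and_subset (U := g ⁻¹ᵁ W) (x := y) hyW
  exact ⟨O, hyO, hO, GrothLib.Ample.isAmple_restrict_of_le (U := (f ≫ g) ⁻¹ᵁ W) (f.preimage_mono hOW)
    (f.isCompact_preimage hO.isCompact) (hL.2 ⟨W, hW⟩)⟩

end Groth.Agent.S2333
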