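import Groth.Statements.S2337
import Groth.Agent.Lib.Ample.Criterion
import Groth.Agent.Lib.Ample.Finite

set_option autoImplicit false
universe u
open CategoryTheory CategoryTheory.Limits AlgebraicGeometry
open EGA2

namespace Groth.Agent.S2337

/-- Let f : X → Y be quasi-compact. Then f is quasi-affine (preimages of affine opens are quasi-affine)
if and only if O_X is ample relative to f. -/
theorem result {X Y : Scheme.{u}} (f : X ⟶ Y) [QuasiCompact f] :
    Mor2.IsQuasiAffine f ↔ RelAmple.IsRelAmple f (Coh.structureModule X) := by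
  have key : ∀ U : X.Opens, (U : Scheme.{u}).IsQuasiAffine ↔ CohB1.IsAmple ((Coh.structureModule X).restrict U.ι) :=
    fun U => GrothLib.Ample.isQuasiAffine_iff.trans
      (GrothLib.Ample.isAmple_iff_of_iso (Scheme.Modules.restrictUnitIso U.ι)).symm
  exact ⟨fun h => ⟨h.1, fun V => (key _).mp (h.2 V.1 V.2)⟩,
    fun h => ⟨h.1, fun V hV => (key _).mpr (h.2 ⟨V, hV⟩)⟩⟩

end Groth.Agent.S2337
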