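import Groth.Statements.S2359
import Groth.Agent.Lib.Ample.RelAmple

set_option autoImplicit false
universe u
open CategoryTheory CategoryTheory.Limits AlgebraicGeometry
open EGA2

namespace Groth.Agent.S2359

/-- Let f : X → Y be quasi-compact, j : X' → X a quasi-compact morphism whose underlying map is a
homeomorphism onto a subspace of X, and L an O_X-module ample relative to f. Then j^* L is ample
relative to j ≫ f. -/
theorem result {X X' Y : Scheme.{u}} (f : X ⟶ Y) [QuasiCompact f] (j : X' ⟶ X) [QuasiCompact j]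
    (hj : Topology.IsEmbedding j.base) (L : X.Modules) (hL : RelAmple.IsRelAmple f L) :
    RelAmple.IsRelAmple (j ≫ f) ((Scheme.Modules.pullback j).obj L) := by
  refine GrothLib.Ample.isRelAmple_of_cover fun y => ?_
  obtain ⟨W, hW, hyW, -⟩ := exists_isAffineOpen_mem_and_subset (TopologicalSpace.Opens.mem_top y)
  refine ⟨W, hyW, hW, ?_⟩
  let U : X.Opens := f ⁻¹ᵁ W
  let U' : X'.Opens := (j ≫ f) ⁻¹ᵁ W
  haveI : CompactSpace (U' : Scheme.{u}) :=
    isCompact_iff_compactSpace.mp ((j ≫ f).isCompact_preimage hW.isCompact)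
  have hU : U' ≤ j ⁻¹ᵁ U := le_rfl
  let q : (U' : Scheme.{u}) ⟶ U := j.resLE U U' hU
  have hq : Topology.IsEmbedding q.base := by
    have h1 : q ≫ U.ι = U'.ι ≫ j := Scheme.Hom.resLE_comp_ι j hU
    have h2 : Topology.IsEmbedding (U'.ι ≫ j).base := hj.comp U'.ι.isOpenEmbedding.isEmbedding
    rw [← h1] at h2
    exact Topology.IsEmbedding.of_comp q.continuous U.ι.continuous h2
  have h0 := GrothLib.Ample.isAmple_pullback_of_isEmbedding q hq
    ((GrothLib.Ample.isAmple_restrict_iff U.ι L).mp (hL.2 ⟨W, hW⟩))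
  rw [GrothLib.Ample.isAmple_pullback_comp_iff, Scheme.Hom.resLE_comp_ι,
    ← GrothLib.Ample.isAmple_pullback_comp_iff, ← GrothLib.Ample.isAmple_restrict_iff] at h0
  exact h0

end Groth.Agent.S2359
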