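import Groth.Statements.S10493
import Groth.Agent.Lib.AlgSp.FieldDescentOpen
-- import your own Groth.Agent.* helpers here

set_option autoImplicit false
universe u
open CategoryTheory CategoryTheory.Limits AlgebraicGeometry Topology TopologicalSpace
open AlgSp GrothLib.AlgSp
set_option backward.isDefEq.respectTransparency false

namespace Groth.Agent.S10493

/-- Let k be a field with algebraic closure k̄ and X an algebraic space over k which is decent and
locally of finite type over k, such that X_{k̄} is a scheme in which every finite set of k̄-rational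
points is contained in an affine open. Then X is a scheme. -/
theorem result (k : Type u) [Field k] (X : AlgSp.Space (Spec (CommRingCat.of k)))
    (hdec : AlgSp.IsDecent X.obj) (p : X.obj ⟶ (AlgSp.yon (Spec (CommRingCat.of k))).obj (Over.mk (𝟙 _))) (hp : AlgSp.LocP @LocallyOfFiniteType p)
    (kbar : Type u) [Field kbar] [Algebra k kbar] [IsAlgClosure k kbar]
    (T : Over (Spec (CommRingCat.of k))) (e : (AlgSp.yon (Spec (CommRingCat.of k))).obj T ≅ (X.obj ⨯ (AlgSp.yon (Spec (CommRingCat.of k))).obj (Over.mk (Spec.map (CommRingCat.ofHom (algebraMap k kbar))))))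
    (q : T ⟶ Over.mk (Spec.map (CommRingCat.ofHom (algebraMap k kbar))))
    (hq : (AlgSp.yon (Spec (CommRingCat.of k))).map q = e.hom ≫ Limits.prod.snd)
    (h3 : ∀ s : Finset ↥T.left,
      (∀ t ∈ s, ∃ σ : Spec (CommRingCat.of kbar) ⟶ T.left, σ ≫ q.left = 𝟙 _ ∧ σ (IsLocalRing.closedPoint kbar) = t) →
        ∃ W : T.left.Opens, IsAffineOpen W ∧ ∀ t ∈ s, t ∈ W) :
    X.obj.obj.IsRepresentable := by
  haveI : IsAlgClosed kbar := IsAlgClosure.isAlgClosed k
  haveI : Algebra.IsAlgebraic k kbar := IsAlgClosure.isAlgebraic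
  obtain ⟨U, a, -, as⟩ := X.property.atlas
  have key : ∀ u : ↥U.left, ∃ (W : Over (Spec (CommRingCat.of k))) (f : (yon (Spec (CommRingCat.of k))).obj W ⟶ X.obj),
      RepWith @IsOpenImmersion f ∧ Points.ofPt a u ∈ Set.range (Points.map f) := by
    intro u
    obtain ⟨y, hy, hft⟩ := exists_ftPoint_of_isLocallyClosed X.property
      (isClosed_closure (s := {Points.ofPt a u})).isLocallyClosed ⟨_, subset_closure rfl⟩
    obtain ⟨s, hs, hrat⟩ := finite_rational_fibre X hp T e q hq hft
    obtain ⟨V, hV, hsV⟩ := h3 s hrat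
    obtain ⟨W, f, hf, hyW⟩ := exists_open_scheme_of_fibre X T e V hV y fun t ht => hsV t (hs t ht)
    exact ⟨W, f, hf,
      (specializes_iff_mem_closure.2 hy).mem_open (isOpen_range_openImmersion hf) hyW⟩
  choose W f hf hu using key
  obtain ⟨M, eM, -⟩ := exists_iso_yon_of_openCover W f hf (fun x => by
    obtain ⟨u, rfl⟩ := surjective_ofPt_of_repWith as x
    exact ⟨u, hu u⟩)
  exact (representableByOfIso eM).isRepresentable

end Groth.Agent.S10493
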