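import Groth.Statements.S2069
import Mathlib

set_option autoImplicit false
universe u
open CAlg
open scoped TensorProduct

namespace Groth.Agent.S2069

open TensorProduct in
/-- `N ⊗ R/q ≅ N/qN`, linearly over `S`. -/
theorem nonempty_quot_equiv (R S N : Type u) [CommRing R] [CommRing S] [Algebra R S] [AddCommGroup N] [Module S N]
    [Module R N] [IsScalarTower R S N] (q : Ideal R) :
    Nonempty ((N ⧸ q.map (algebraMap R S) • (⊤ : Submodule S N)) ≃ₗ[S] N ⊗[R] (R ⧸ q)) := by
  let L : N →ₗ[S] N ⊗[R] (R ⧸ q) :=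
    { toFun := fun n => n ⊗ₜ[R] Ideal.Quotient.mk q 1
      map_add' := fun a b => add_tmul _ _ _
      map_smul' := fun s a => (smul_tmul' s a _).symm }
  have hL : Function.Surjective L := by
    intro y
    induction y with
    | zero => exact ⟨0, map_zero L⟩
    | add a b ha hb =>
      obtain ⟨x, rfl⟩ := ha; obtain ⟨z, rfl⟩ := hb
      exact ⟨x + z, map_add L x z⟩
    | tmul n r =>
      obtain ⟨r, rfl⟩ := Ideal.Quotient.mk_surjective r
      refine ⟨algebraMap R S r • n, ?_⟩
      show (algebraMap R S r • n) ⊗ₜ[R] Ideal.Quotient.mk q 1 = _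
      rw [algebraMap_smul, smul_tmul]
      congr 1
      show Ideal.Quotient.mk q (r * 1) = _
      rw [mul_one]
  have hk : LinearMap.ker L = q.map (algebraMap R S) • (⊤ : Submodule S N) := by
    ext n
    rw [LinearMap.mem_ker, ← Submodule.restrictScalars_mem R (q.map (algebraMap R S) • (⊤ : Submodule S N)),
      Submodule.restrictScalars_map_smul_eq, Submodule.restrictScalars_top]
    show n ⊗ₜ[R] Ideal.Quotient.mk q 1 = 0 ↔ _
    rw [← (TensorProduct.tensorQuotEquivQuotSMul N q).map_eq_zero_iff, tensorQuotEquivQuotSMul_tmul_mk,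
      one_smul, Submodule.Quotient.mk_eq_zero]
  exact ⟨(Submodule.quotEquivOfEq _ _ hk.symm).trans (L.quotKerEquivOfSurjective hL)⟩

variable {R S N : Type u} [CommRing R] [CommRing S]
    [Algebra R S] [AddCommGroup N] [Module S N] [Module R N] [IsScalarTower R S N] [Module.Flat R N]

theorem inj_lT {A B : Type u} [AddCommGroup A] [Module R A] [AddCommGroup B] [Module R B] (f : A →ₗ[R] B)
    (hf : Function.Injective f) :
    Function.Injective (TensorProduct.AlgebraTensorModule.lTensor S N f) := fun a b h => by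
  rw [TensorProduct.AlgebraTensorModule.coe_lTensor] at h
  exact Module.Flat.lTensor_preserves_injective_linearMap f hf h

/-- Elements outside `q` are nonzerodivisors on `N/qN`. -/
theorem eq_zero_of_smul {q : Ideal R} [q.IsPrime] {r : R} (hr : r ∉ q) (x : N ⊗[R] (R ⧸ q))
    (hx : algebraMap R S r • x = 0) : x = 0 := by
  have hinj : Function.Injective (r • (LinearMap.id : (R ⧸ q) →ₗ[R] (R ⧸ q))) := fun a b h => by
    obtain ⟨a, rfl⟩ := Ideal.Quotient.mk_surjective a
    obtain ⟨b, rfl⟩ := Ideal.Quotient.mk_surjective b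
    simp only [LinearMap.smul_apply, LinearMap.id_apply] at h
    rw [← sub_eq_zero, ← smul_sub, ← map_sub, Algebra.smul_def, Ideal.Quotient.algebraMap_eq, ← map_mul,
      Ideal.Quotient.eq_zero_iff_mem] at h
    exact Ideal.Quotient.eq.mpr ((‹q.IsPrime›.mem_or_mem h).resolve_left hr)
  apply Module.Flat.lTensor_preserves_injective_linearMap (M := N) _ hinj
  rw [map_zero, LinearMap.lTensor_smul, LinearMap.smul_apply, LinearMap.lTensor_id, LinearMap.id_apply,
    ← algebraMap_smul S r x, hx]

theorem mem_ass_of_finite [IsNoetherianRing R] (M : Type u) [AddCommGroup M] [Module R M] [Module.Finite R M]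
    (P : Ideal S) (hP : P ∈ associatedPrimes S (N ⊗[R] M)) :
    P ∈ associatedPrimes S (N ⊗[R] (R ⧸ P.comap (algebraMap R S))) := by
  induction ‹Module.Finite R M› using IsNoetherianRing.induction_on_isQuotientEquivQuotientPrime R with
  | subsingleton M =>
    have : Subsingleton (N ⊗[R] M) := inferInstance
    rw [associatedPrimes.eq_empty_of_subsingleton] at hP
    exact absurd hP (Set.notMem_empty P)
  | quotient M q e =>
    have hP' : P ∈ associatedPrimes S (N ⊗[R] (R ⧸ q.asIdeal)) :=
      (LinearEquiv.AssociatedPrimes.eq (TensorProduct.AlgebraTensorModule.congr (LinearEquiv.refl S N) e)) ▸ hP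
    suffices h : P.comap (algebraMap R S) = q.asIdeal by rwa [h]
    obtain ⟨hp, x, hx⟩ := hP'
    have hx0 : x ≠ 0 := by
      rintro rfl
      exact hp.ne_top (by rw [hx]; simp)
    refine le_antisymm (fun r hr => ?_) (fun r hr => ?_)
    · by_contra hrq
      obtain ⟨n, hn⟩ := hx.le hr
      rw [Submodule.mem_colon_singleton, Submodule.mem_bot, ← map_pow] at hn
      exact hx0 (eq_zero_of_smul (fun h => hrq (q.2.mem_of_pow_mem n h)) x hn)
    · refine hx.ge (Ideal.le_radical ?_)
      rw [Submodule.mem_colon_singleton, Submodule.mem_bot, algebraMap_smul]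
      clear hx hx0
      induction x with
      | zero => rw [smul_zero]
      | add a b ha hb => rw [smul_add, ha, hb, add_zero]
      | tmul n z =>
        rw [← TensorProduct.tmul_smul, Algebra.smul_def, Ideal.Quotient.algebraMap_eq,
          Ideal.Quotient.eq_zero_iff_mem.mpr hr, zero_mul, TensorProduct.tmul_zero]
  | exact M₁ M₂ M₃ f g hf hg hfg h₁ h₃ =>
    have hex : Function.Exact (TensorProduct.AlgebraTensorModule.lTensor S N f)
        (TensorProduct.AlgebraTensorModule.lTensor S N g) := by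
      rw [TensorProduct.AlgebraTensorModule.coe_lTensor, TensorProduct.AlgebraTensorModule.coe_lTensor]
      exact lTensor_exact N hfg hg
    rcases associatedPrimes.subset_union_of_exact (inj_lT f hf) hex hP with h | h
    · exact h₁ h
    · exact h₃ h

theorem comap_mem_ass [IsNoetherianRing R] (M : Type u) [AddCommGroup M] [Module R M]
    (P : Ideal S) (hP : P ∈ associatedPrimes S (N ⊗[R] M)) :
    P.comap (algebraMap R S) ∈ associatedPrimes R M := by
  obtain ⟨hp, t, ht⟩ := hP
  set p := P.comap (algebraMap R S)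
  have : p.IsPrime := Ideal.IsPrime.comap _
  by_contra hpM
  obtain ⟨M₀, hM₀, ht₀⟩ : ∃ M₀ : Submodule R M, M₀.FG ∧ t ∈ LinearMap.range (M₀.subtype.lTensor N) := by
    clear ht
    induction t with
    | zero => exact ⟨⊥, Submodule.fg_bot, zero_mem _⟩
    | tmul n m => exact ⟨R ∙ m, Submodule.fg_span_singleton m, ⟨n ⊗ₜ ⟨m, Submodule.mem_span_singleton_self m⟩, rfl⟩⟩
    | add a b ha hb =>
      obtain ⟨A, hA, a, rfl⟩ := ha
      obtain ⟨B, hB, b, rfl⟩ := hb
      refine ⟨A ⊔ B, hA.sup hB, ⟨(Submodule.inclusion le_sup_left).lTensor N a + (Submodule.inclusion le_sup_right).lTensor N b, ?_⟩⟩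
      rw [map_add, ← LinearMap.comp_apply, ← LinearMap.comp_apply, ← LinearMap.lTensor_comp, ← LinearMap.lTensor_comp]
      rfl
  obtain ⟨t₀, rfl⟩ := ht₀
  have : Module.Finite R M₀ := Module.Finite.iff_fg.mpr hM₀
  have : IsNoetherian R M₀ := inferInstance
  let G : ℕ →o Submodule R M₀ :=
    ⟨fun n => ⨅ x : (p ^ n : Ideal R), LinearMap.ker ((x : R) • LinearMap.id),
      fun a b hab => le_iInf fun x => iInf_le_of_le ⟨x.1, Ideal.pow_le_pow_right hab x.2⟩ le_rfl⟩
  have hG : ∀ n m, m ∈ G n ↔ ∀ x ∈ p ^ n, x • m = 0 := fun n m => by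
    show m ∈ (⨅ x : (p ^ n : Ideal R), LinearMap.ker ((x : R) • LinearMap.id)) ↔ _
    simp only [Submodule.mem_iInf, LinearMap.mem_ker, LinearMap.smul_apply, LinearMap.id_apply, Subtype.forall]
  obtain ⟨n, hn⟩ := monotone_stabilizes_iff_noetherian.mpr inferInstance G
  set Γ := G n
  -- some `a ∈ p` is a nonzerodivisor on `M₀/Γ`
  obtain ⟨a, hap, ha⟩ : ∃ a ∈ p, ∀ z : M₀ ⧸ Γ, a • z = 0 → z = 0 := by
    by_contra hcon
    push Not at hcon
    have hsub : (p : Set R) ⊆ ⋃ q ∈ associatedPrimes R (M₀ ⧸ Γ), (q : Set R) := by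
      rw [biUnion_associatedPrimes_eq_zero_divisors]
      exact fun a ha => by obtain ⟨z, hz1, hz2⟩ := hcon a ha; exact ⟨z, hz2, hz1⟩
    obtain ⟨q, hq, hpq⟩ := (Ideal.subset_union_prime_finite (associatedPrimes.finite R (M₀ ⧸ Γ)) ⊥ ⊥
      fun q hq _ _ => hq.isPrime).mp hsub
    obtain ⟨hqp, z, hz⟩ := isAssociatedPrime_iff.mp hq
    obtain ⟨z, rfl⟩ := Submodule.mkQ_surjective _ z
    have hz0 : z ∉ Γ := fun hmem => hqp.ne_top (by
      rw [hz, Submodule.mkQ_apply, (Submodule.Quotient.mk_eq_zero _).mpr hmem]; simp)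
    refine hz0 ((hn (n + 1) (Nat.le_succ n)).symm ▸ (hG (n + 1) z).mpr fun x hx => ?_)
    rw [pow_succ] at hx
    refine Submodule.mul_induction_on hx (fun u hu v hv => ?_) fun u v hu hv => by rw [add_smul, hu, hv, add_zero]
    have hvz : v • z ∈ Γ := by
      have := hz.le (hpq hv)
      rwa [Submodule.mem_colon_singleton, Submodule.mem_bot, Submodule.mkQ_apply, ← Submodule.Quotient.mk_smul,
        Submodule.Quotient.mk_eq_zero] at this
    rw [mul_smul]
    exact (hG n _).mp hvz u hu
  -- some `s ∉ p` is nilpotent on `Γ`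
  obtain ⟨s, hs, k, hk⟩ : ∃ s, s ∉ p ∧ ∃ k : ℕ, ∀ z : Γ, s ^ k • z = 0 := by
    have hann : ¬ Module.annihilator R Γ ≤ p := fun hle => by
      obtain ⟨q, hq, hqp⟩ := Ideal.exists_minimalPrimes_le hle
      have hqass := Module.associatedPrimes.minimalPrimes_annihilator_subset_associatedPrimes R Γ hq
      have hpq : p ≤ q := fun x hx => hq.1.1.mem_of_pow_mem n (hq.1.2 (Module.mem_annihilator.mpr fun z =>
        Subtype.ext ((hG n z.1).mp z.2 _ (Ideal.pow_mem_pow hx n))))
      exact hpM (le_antisymm hqp hpq ▸ associatedPrimes.subset_of_injective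
        (f := M₀.subtype ∘ₗ Γ.subtype) (M₀.injective_subtype.comp Γ.injective_subtype) hqass)
    obtain ⟨s, hs, hsp⟩ := SetLike.not_le_iff_exists.mp hann
    exact ⟨s, hsp, 1, fun z => by rw [pow_one]; exact Module.mem_annihilator.mp hs z⟩
  obtain ⟨m, hm⟩ := ht.le (show algebraMap R S a ∈ P from hap)
  rw [Submodule.mem_colon_singleton, Submodule.mem_bot, ← map_pow, algebraMap_smul, ← map_smul] at hm
  have hm0 : a ^ m • t₀ = 0 :=
    Module.Flat.lTensor_preserves_injective_linearMap (M := N) M₀.subtype M₀.injective_subtype (hm.trans (map_zero _).symm)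
  have himg : Γ.mkQ.lTensor N t₀ = 0 := by
    have hinj : Function.Injective ((a ^ m) • (LinearMap.id : (M₀ ⧸ Γ) →ₗ[R] (M₀ ⧸ Γ))) := by
      rw [← LinearMap.ker_eq_bot, eq_bot_iff]
      clear hm hm0
      induction m with
      | zero => intro z hz; simpa using hz
      | succ m ih =>
        intro z hz
        rw [LinearMap.mem_ker, LinearMap.smul_apply, LinearMap.id_apply, pow_succ', mul_smul] at hz
        exact ih (LinearMap.mem_ker.mpr (ha _ hz))
    apply Module.Flat.lTensor_preserves_injective_linearMap (M := N) _ hinj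
    rw [map_zero, LinearMap.lTensor_smul, LinearMap.smul_apply, LinearMap.lTensor_id, LinearMap.id_apply,
      ← map_smul, hm0, map_zero]
  obtain ⟨w, rfl⟩ := (lTensor_exact N (LinearMap.exact_subtype_mkQ Γ) Γ.mkQ_surjective t₀).mp himg
  have hsw : s ^ k • w = 0 := by
    clear himg hm hm0 ht
    induction w with
    | zero => rw [smul_zero]
    | add a b ha hb => rw [smul_add, ha, hb, add_zero]
    | tmul x z => rw [← TensorProduct.tmul_smul, hk, TensorProduct.tmul_zero]
  refine hs (Ideal.IsPrime.mem_of_pow_mem ‹p.IsPrime› k ?_)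
  refine ht.ge (Ideal.le_radical ?_)
  rw [Submodule.mem_colon_singleton, Submodule.mem_bot, algebraMap_smul, ← map_smul, ← map_smul, hsw, map_zero, map_zero]

open TensorProduct in
/-- Let `R → S` be a ring map, `M` an `R`-module and `N` an `S`-module flat over `R`. Then a prime of
`S` is associated to `N ⊗_R M` if and only if it is associated to `N/𝔭N` for some prime `𝔭` of `R`
associated to `M`. -/
theorem result {R S M N : Type u} [CommRing R] [IsNoetherianRing R] [CommRing S]
    [Algebra R S] [AddCommGroup M] [Module R M] [AddCommGroup N] [Module S N] [Module R N]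
    [IsScalarTower R S N] [Module.Flat R N] :
    associatedPrimes S (N ⊗[R] M) =
      ⋃ p ∈ associatedPrimes R M, associatedPrimes S (N ⧸ p.map (algebraMap R S) • (⊤ : Submodule S N)) := by
  refine Set.Subset.antisymm (fun P hP => ?_) (Set.iUnion₂_subset fun p hp P hP => ?_)
  · refine Set.mem_iUnion₂.mpr ⟨P.comap (algebraMap R S), comap_mem_ass M P hP, ?_⟩
    obtain ⟨e⟩ := nonempty_quot_equiv R S N (P.comap (algebraMap R S))
    rw [LinearEquiv.AssociatedPrimes.eq e]
    obtain ⟨hp, t, ht⟩ := hP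
    -- descend to a finitely generated submodule
    obtain ⟨M₀, hM₀, t₀, rfl⟩ : ∃ M₀ : Submodule R M, M₀.FG ∧ t ∈ LinearMap.range (M₀.subtype.lTensor N) := by
      clear ht
      induction t with
      | zero => exact ⟨⊥, Submodule.fg_bot, zero_mem _⟩
      | tmul n m => exact ⟨R ∙ m, Submodule.fg_span_singleton m, ⟨n ⊗ₜ ⟨m, Submodule.mem_span_singleton_self m⟩, rfl⟩⟩
      | add a b ha hb =>
        obtain ⟨A, hA, a, rfl⟩ := ha
        obtain ⟨B, hB, b, rfl⟩ := hb
        refine ⟨A ⊔ B, hA.sup hB, ⟨(Submodule.inclusion le_sup_left).lTensor N a + (Submodule.inclusion le_sup_right).lTensor N b, ?_⟩⟩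
        rw [map_add, ← LinearMap.comp_apply, ← LinearMap.comp_apply, ← LinearMap.lTensor_comp, ← LinearMap.lTensor_comp]
        rfl
    have : Module.Finite R M₀ := Module.Finite.iff_fg.mpr hM₀
    refine mem_ass_of_finite M₀ P ⟨hp, t₀, ?_⟩
    rw [ht]
    congr 1
    ext s
    rw [Submodule.mem_colon_singleton, Submodule.mem_colon_singleton, Submodule.mem_bot, Submodule.mem_bot]
    show s • (TensorProduct.AlgebraTensorModule.lTensor S N M₀.subtype) t₀ = 0 ↔ _
    rw [← map_smul, map_eq_zero_iff _ (inj_lT M₀.subtype M₀.injective_subtype)]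
  · obtain ⟨hpp, m, hm⟩ := isAssociatedPrime_iff.mp hp
    obtain ⟨e⟩ := nonempty_quot_equiv R S N p
    rw [LinearEquiv.AssociatedPrimes.eq e] at hP
    let f : (R ⧸ p) →ₗ[R] M := Submodule.liftQ p (LinearMap.toSpanSingleton R M m) fun r hr => by
      rw [LinearMap.mem_ker, LinearMap.toSpanSingleton_apply]
      have := hm.le hr
      rwa [Submodule.mem_colon_singleton, Submodule.mem_bot] at this
    have hf : Function.Injective f := by
      rw [← LinearMap.ker_eq_bot, Submodule.ker_liftQ_eq_bot]
      intro r hr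
      refine hm.ge ?_
      rw [Submodule.mem_colon_singleton, Submodule.mem_bot]
      exact hr
    exact associatedPrimes.subset_of_injective (inj_lT f hf) hP

end Groth.Agent.S2069
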