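import Groth.Statements.S14726
import Mathlib
import Groth.Agent.Lib.NormalSmooth.Basic
import Groth.Agent.Lib.NagataFP.Basic
import Groth.Agent.Lib.NagataFP.SmoothVal
-- import your own Groth.Agent.* helpers here

set_option autoImplicit false
universe u
open ValPrufer

open Polynomial

attribute [-instance] instAlgebraAtPrimeFractionRing

namespace Groth.Agent.S14726

/-- Let V be a valuation ring with maximal ideal m, A an integral domain that is a smooth V-algebra, and
p a prime ideal of A minimal among the primes containing mA (a generic point of the special fibre of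
Spec A over V). Then A_p is a valuation ring, V → A_p is an injective local homomorphism, and every
nonzero element of A_p is a unit of A_p times the image of an element of V, so that V → A_p induces
a bijection on value groups. (The published statement takes A faithfully flat and a semilocalisation
of a smooth V-algebra at finitely many primes; the local ring A_p is then a local ring of the smooth
algebra itself at such a prime, and faithful flatness follows from the existence of p, so this row
states the smooth case, which carries the whole content.) -/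
theorem result
    (V : Type u) [CommRing V] [IsDomain V] [ValuationRing V]
    (A : Type u) [CommRing A] [IsDomain A] [Algebra V A] [Algebra.Smooth V A]
    (p : Ideal A) [p.IsPrime]
    (hp : p ∈ ((IsLocalRing.maximalIdeal V).map (algebraMap V A)).minimalPrimes) :
    ValuationRing (Localization.AtPrime p) ∧
      Function.Injective (algebraMap V (Localization.AtPrime p)) ∧
      IsLocalHom (algebraMap V (Localization.AtPrime p)) ∧
      ∀ x : Localization.AtPrime p, x ≠ 0 →
        ∃ (v : V) (w : (Localization.AtPrime p)ˣ), x = algebraMap V (Localization.AtPrime p) v * w := by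
  classical
  haveI hOdom : IsDomain (Localization.AtPrime p) :=
    IsLocalization.isDomain_localization p.primeCompl_le_nonZeroDivisors
  haveI : IsIntegrallyClosed (Localization.AtPrime p) :=
    (GrothLib.NormalSmooth.normal_of_smooth_domain V p).2
  obtain ⟨f, hfp, n, algT, towT, hse⟩ :=
    Algebra.IsSmoothAt.exists_isStandardEtale_mvPolynomial (R := V) (p := p)
  obtain ⟨P⟩ := hse.nonempty_standardEtalePresentation
  let T := MvPolynomial (Fin n) V
  let A' := Localization.Away f
  have hfu : IsUnit (algebraMap A (Localization.AtPrime p) f) := IsLocalization.map_units (Localization.AtPrime p) (⟨f, hfp⟩ : p.primeCompl)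
  let ι : A' →+* (Localization.AtPrime p) := IsLocalization.Away.lift f hfu
  have hι : ∀ a, ι (algebraMap A A' a) = algebraMap A (Localization.AtPrime p) a := fun a =>
    IsLocalization.Away.lift_eq f hfu a
  have hinjAO : Function.Injective (algebraMap A (Localization.AtPrime p)) :=
    IsLocalization.injective (Localization.AtPrime p) p.primeCompl_le_nonZeroDivisors
  have hVA : Function.Injective (algebraMap V A) := by
    rw [injective_iff_map_eq_zero]
    intro r hr
    have h1 : r • (1 : A) = 0 := by rw [Algebra.smul_def, hr, zero_mul]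
    exact (smul_eq_zero.1 h1).resolve_right one_ne_zero
  have hVO : Function.Injective (algebraMap V (Localization.AtPrime p)) := by
    rw [IsScalarTower.algebraMap_eq V A (Localization.AtPrime p)]
    exact hinjAO.comp hVA
  have hmp : ∀ c ∈ IsLocalRing.maximalIdeal V, algebraMap V A c ∈ p :=
    fun c hc => hp.1.2 (Ideal.mem_map_of_mem _ hc)
  have hloc : IsLocalHom (algebraMap V (Localization.AtPrime p)) := by
    constructor
    intro c hc
    by_contra hcu
    rw [IsScalarTower.algebraMap_apply V A (Localization.AtPrime p)] at hc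
    exact (IsLocalization.AtPrime.isUnit_to_map_iff (Localization.AtPrime p) p _).1 hc (hmp c hcu)
  let τ : T →+* (Localization.AtPrime p) := ι.comp (algebraMap T A')
  have hτC : ∀ c, τ (MvPolynomial.C c) = algebraMap V (Localization.AtPrime p) c := fun c => by
    change ι (algebraMap T A' (MvPolynomial.C c)) = _
    rw [← MvPolynomial.algebraMap_eq, ← IsScalarTower.algebraMap_apply V T A',
      IsScalarTower.algebraMap_apply V A A', hι, ← IsScalarTower.algebraMap_apply V A (Localization.AtPrime p)]
  -- the prime below `p` in `T` is the extension of the maximal ideal of `V`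
  let q : Ideal T := RingHom.ker (MvPolynomial.map (IsLocalRing.residue V))
  haveI : q.IsPrime := RingHom.ker_isPrime _
  let p' : Ideal A' := (IsLocalRing.maximalIdeal (Localization.AtPrime p)).comap ι
  haveI : p'.IsPrime := Ideal.IsPrime.comap ι
  haveI : Algebra.Etale T A' := inferInstance
  haveI : Module.Flat T A' := Algebra.Smooth.flat T A'
  haveI : Algebra.HasGoingDown T A' := Algebra.HasGoingDown.of_flat
  have hqmem : ∀ h : T, h ∈ q ↔ ∀ s, h.coeff s ∈ IsLocalRing.maximalIdeal V := fun h => by
    rw [RingHom.mem_ker, MvPolynomial.ext_iff]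
    exact forall_congr' fun s => by
      rw [MvPolynomial.coeff_map]
      exact IsLocalRing.residue_eq_zero_iff _
  have hqp' : q ≤ p'.under T := by
    intro h hh
    rw [h.as_sum]
    refine Ideal.sum_mem _ fun s _ => ?_
    rw [← mul_one (h.coeff s), ← MvPolynomial.C_mul_monomial]
    refine Ideal.mul_mem_right _ _ ?_
    change τ (MvPolynomial.C _) ∈ IsLocalRing.maximalIdeal (Localization.AtPrime p)
    rw [hτC]
    intro hu
    exact (hqmem h).1 hh s (hloc.map_nonunit _ hu)
  haveI : p'.LiesOver (p'.under T) := ⟨rfl⟩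
  obtain ⟨Pr, hPr, _, hPrq⟩ := Ideal.exists_ideal_le_liesOver_of_le (S := A') p' hqp'
  have hqeq : q = p'.under T := by
    have hmem : ∀ a, algebraMap A A' a ∈ p' ↔ a ∈ p := fun a => by
      change ι _ ∈ IsLocalRing.maximalIdeal (Localization.AtPrime p) ↔ _
      rw [hι, IsLocalization.AtPrime.to_map_mem_maximal_iff (Localization.AtPrime p) p]
    have hle : Pr.comap (algebraMap A A') ≤ p := fun a ha => (hmem a).1 (hPr ha)
    have hge : p ≤ Pr.comap (algebraMap A A') := hp.2
      ⟨Ideal.IsPrime.comap _, Ideal.map_le_iff_le_comap.2 fun c hc => by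
        change algebraMap A A' (algebraMap V A c) ∈ Pr
        rw [← IsScalarTower.algebraMap_apply V A A', IsScalarTower.algebraMap_apply V T A',
          MvPolynomial.algebraMap_eq]
        have hcq : (MvPolynomial.C c : T) ∈ q := by
          rw [RingHom.mem_ker, MvPolynomial.map_C, (IsLocalRing.residue_eq_zero_iff c).2 hc,
            map_zero]
        rw [hPrq.over] at hcq
        exact hcq⟩ hle
    have hPp : Pr = p' := le_antisymm hPr fun a' ha' => by
      obtain ⟨k, a, ha⟩ := IsLocalization.Away.surj f a'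
      have hap : a ∈ p := (hmem a).1 (ha ▸ p'.mul_mem_right _ ha')
      have haP : algebraMap A A' a ∈ Pr := hge hap
      rw [← ha] at haP
      exact (‹Pr.IsPrime›.mem_or_mem haP).resolve_right fun hf =>
        hfp (hle (‹Pr.IsPrime›.mem_of_pow_mem k hf))
    rw [hPrq.over, hPp]
  -- every nonzero element of `T` is a unit of `(Localization.AtPrime p)` times a scalar
  have hcont : ∀ h : T, h ≠ 0 →
      ∃ c : V, c ≠ 0 ∧ ∃ h' : T, h = MvPolynomial.C c * h' ∧ h' ∉ q := by
    intro h hh
    obtain ⟨s, hs, hd⟩ := GrothLib.NagataFP.exists_dvd_all h.support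
      (Finset.nonempty_iff_ne_empty.2 (mt MvPolynomial.support_eq_empty.1 hh)) fun s => h.coeff s
    have hdd : ∀ m, ∃ d, h.coeff m = h.coeff s * d := fun m => by
      by_cases hm : m ∈ h.support
      · exact hd m hm
      · exact ⟨0, by rw [MvPolynomial.notMem_support_iff.1 hm, mul_zero]⟩
    choose d hd' using hdd
    refine ⟨h.coeff s, MvPolynomial.mem_support_iff.1 hs,
      ∑ m ∈ h.support, MvPolynomial.monomial m (d m), ?_, fun hmem => ?_⟩
    · rw [Finset.mul_sum]
      simp only [MvPolynomial.C_mul_monomial, ← hd']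
      exact h.as_sum
    · have h1 := (hqmem _).1 hmem s
      have hds : d s = 1 :=
        mul_left_cancel₀ (MvPolynomial.mem_support_iff.1 hs) (by rw [mul_one]; exact (hd' s).symm)
      rw [MvPolynomial.coeff_sum] at h1
      simp only [MvPolynomial.coeff_monomial, Finset.sum_ite_eq', if_pos hs, hds] at h1
      exact (IsLocalRing.maximalIdeal.isMaximal V).ne_top ((Ideal.eq_top_iff_one _).2 h1)
  have hτu : ∀ h, h ∉ q → IsUnit (τ h) := fun h hh => by
    by_contra hu
    exact hh (hqeq ▸ hu)
  have hkey : ∀ h : T, h ≠ 0 → ∃ c : V, c ≠ 0 ∧ ∃ w : (Localization.AtPrime p), IsUnit w ∧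
      τ h = algebraMap V (Localization.AtPrime p) c * w := fun h hh => by
    obtain ⟨c, hc, h', rfl, hh'⟩ := hcont h hh
    exact ⟨c, hc, τ h', hτu h' hh', by rw [map_mul, hτC]⟩
  have hτinj : Function.Injective τ := (injective_iff_map_eq_zero τ).2 fun h h0 => by
    by_contra hh
    obtain ⟨c, hc, w, hw, he⟩ := hkey h hh
    rw [h0] at he
    exact hc ((map_eq_zero_iff _ hVO).1 ((mul_eq_zero.1 he.symm).resolve_right hw.ne_zero))
  -- an algebraically closed field with a valuation dominating `(Localization.AtPrime p)`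
  let Ω := AlgebraicClosure (FractionRing (Localization.AtPrime p))
  let j : (Localization.AtPrime p) →+* Ω := algebraMap (Localization.AtPrime p) Ω
  have hj : Function.Injective j := by
    change Function.Injective (algebraMap (Localization.AtPrime p) Ω)
    rw [IsScalarTower.algebraMap_eq (Localization.AtPrime p) (FractionRing (Localization.AtPrime p)) Ω]
    exact (algebraMap (FractionRing (Localization.AtPrime p)) Ω).injective.comp (IsFractionRing.injective (Localization.AtPrime p) _)
  obtain ⟨U, hU, hUloc⟩ := IsLocalRing.exists_factor_valuationRing j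
  have hvle : ∀ o : (Localization.AtPrime p), U.valuation (j o) ≤ 1 := fun o => (U.valuation_le_one_iff _).2 (hU o)
  have hvu : ∀ o : (Localization.AtPrime p), IsUnit o ↔ U.valuation (j o) = 1 := fun o =>
    ⟨fun ho => (U.valuation_eq_one_iff _).1 (ho.map (j.codRestrict U.toSubring hU)),
      fun ho => hUloc.map_nonunit o ((U.valuation_eq_one_iff _).2 ho)⟩
  letI : Algebra T Ω := (j.comp τ).toAlgebra
  haveI : FaithfulSMul T Ω :=
    (faithfulSMul_iff_algebraMap_injective T Ω).2 (hj.comp hτinj)
  letI : Algebra (FractionRing T) Ω := FractionRing.liftAlgebra T Ω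
  haveI : IsScalarTower T (FractionRing T) Ω := FractionRing.isScalarTower_liftAlgebra T Ω
  let φ : A' →ₐ[T] Ω := { toRingHom := j.comp ι, commutes' := fun t => rfl }
  let θ : Ω := φ P.x
  have hθev : ∀ r : T[X], aeval θ r = j (ι (aeval P.x r)) := fun r => aeval_algHom_apply φ P.x r
  have hFθ : aeval θ P.f = 0 := by rw [hθev, P.hasMap.1, map_zero, map_zero]
  have hF'θ : U.valuation (aeval θ (derivative P.f)) = 1 := by
    rw [hθev]
    exact (hvu _).1 (P.hasMap.isUnit_derivative_f.map ι)
  have hG : U.valuation (aeval θ P.g) = 1 := by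
    rw [hθev]
    exact (hvu _).1 (P.hasMap.2.map ι)
  -- elements of `(Localization.AtPrime p)` as quotients of polynomial values at `θ`
  have hfrac : ∀ o : (Localization.AtPrime p), ∃ r s : T[X], U.valuation (aeval θ s) = 1 ∧
      j o * aeval θ s = aeval θ r := by
    intro o
    obtain ⟨⟨a, b⟩, hab⟩ := IsLocalization.surj p.primeCompl o
    obtain ⟨ra, ka, hra⟩ := P.exists_mul_aeval_x_g_pow_eq_aeval_x (algebraMap A A' a)
    obtain ⟨rb, kb, hrb⟩ := P.exists_mul_aeval_x_g_pow_eq_aeval_x (algebraMap A A' (b : A))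
    have ea : j (algebraMap A (Localization.AtPrime p) a) * aeval θ P.g ^ ka = aeval θ ra := by
      rw [hθev, hθev, ← hra, map_mul, map_mul, map_pow, map_pow, hι]
    have eb : j (algebraMap A (Localization.AtPrime p) b) * aeval θ P.g ^ kb = aeval θ rb := by
      rw [hθev, hθev, ← hrb, map_mul, map_mul, map_pow, map_pow, hι]
    refine ⟨ra * P.g ^ kb, rb * P.g ^ ka, ?_, ?_⟩
    · rw [map_mul, map_pow, map_mul, map_pow, hG, one_pow, mul_one, ← eb, map_mul, map_pow, hG,
        one_pow, mul_one]
      exact (hvu _).1 (IsLocalization.map_units (Localization.AtPrime p) b)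
    · rw [map_mul, map_pow, map_mul, map_pow, ← ea, ← eb, ← hab, map_mul]
      ring
  have hθK : IsIntegral (FractionRing T) θ :=
    ⟨_, P.monic_f.map _, by rw [eval₂_map, ← IsScalarTower.algebraMap_eq]; exact hFθ⟩
  have halg : ∀ z ∈ IntermediateField.adjoin (FractionRing T) {θ}, IsAlgebraic T z := fun z hz => by
    haveI := IntermediateField.adjoin.finiteDimensional hθK
    exact (IsFractionRing.isAlgebraic_iff T (FractionRing T) Ω).2
      (((IsIntegral.of_finite (FractionRing T)
        (⟨z, hz⟩ : IntermediateField.adjoin (FractionRing T) {θ})).map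
          (IntermediateField.adjoin (FractionRing T) {θ}).val).isAlgebraic)
  have hmemθ : ∀ r : T[X], aeval θ r ∈ IntermediateField.adjoin (FractionRing T) {θ} := fun r => by
    rw [← aeval_map_algebraMap (FractionRing T) θ r]
    exact (IntermediateField.mem_adjoin_simple_iff _ _).2 ⟨r.map (algebraMap T (FractionRing T)), 1, by rw [map_one, div_one]⟩
  have hmem : ∀ o : (Localization.AtPrime p), j o ∈ IntermediateField.adjoin (FractionRing T) {θ} := fun o => by
    obtain ⟨r, s, hs, he⟩ := hfrac o
    have hs0 : aeval θ s ≠ 0 := fun h0 => by rw [h0, map_zero] at hs; exact zero_ne_one hs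
    rw [eq_div_iff hs0 |>.2 he]
    exact div_mem (hmemθ r) (hmemθ s)
  -- `(Localization.AtPrime p)` is a valuation ring
  have hVR : ValuationRing (Localization.AtPrime p) := by
    rw [ValuationRing.iff_isInteger_or_isInteger (Localization.AtPrime p) (FractionRing (Localization.AtPrime p))]
    intro z
    obtain ⟨a, b, hb, rfl⟩ := IsFractionRing.div_surjective (Localization.AtPrime p) z
    set z := algebraMap (Localization.AtPrime p) (FractionRing (Localization.AtPrime p)) a / algebraMap (Localization.AtPrime p) (FractionRing (Localization.AtPrime p)) b with hz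
    have hzmem : algebraMap (FractionRing (Localization.AtPrime p)) Ω z ∈
        IntermediateField.adjoin (FractionRing T) {θ} := by
      rw [hz, map_div₀, ← IsScalarTower.algebraMap_apply, ← IsScalarTower.algebraMap_apply]
      exact div_mem (hmem a) (hmem b)
    obtain ⟨P₀, hP₀, hP₀z⟩ := halg _ hzmem
    -- remove the content
    have hcoef : ∀ i : ℕ, ∃ (c : V) (h' : T), P₀.coeff i = MvPolynomial.C c * h' ∧
        (P₀.coeff i ≠ 0 → h' ∉ q) := fun i => by
      by_cases h0 : P₀.coeff i = 0
      · exact ⟨0, 0, by rw [h0, mul_zero], fun h => absurd h0 h⟩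
      · obtain ⟨c, -, h', he, hh'⟩ := hcont _ h0
        exact ⟨c, h', he, fun _ => hh'⟩
    choose c h' hch hh' using hcoef
    obtain ⟨i₀, hi₀, hdiv⟩ := GrothLib.NagataFP.exists_dvd_all P₀.support
      (support_nonempty.2 hP₀) c
    have hdd : ∀ i, ∃ d, i ∈ P₀.support → c i = c i₀ * d := fun i => by
      by_cases hi : i ∈ P₀.support
      · obtain ⟨d, hd⟩ := hdiv i hi
        exact ⟨d, fun _ => hd⟩
      · exact ⟨0, fun h => absurd h hi⟩
    choose d hd using hdd
    let P₁ : T[X] := ∑ i ∈ P₀.support, monomial i (MvPolynomial.C (d i) * h' i)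
    have hP₁ : P₀ = C (MvPolynomial.C (c i₀)) * P₁ := by
      conv_lhs => rw [P₀.as_sum_support]
      rw [Finset.mul_sum]
      refine Finset.sum_congr rfl fun i hi => ?_
      rw [C_mul_monomial, ← mul_assoc, ← map_mul, ← hd i hi, ← hch]
    have hc0 : c i₀ ≠ 0 := fun h0 => hP₀ (by rw [hP₁, h0, map_zero, map_zero, zero_mul])
    have hP₁z : aeval (algebraMap (FractionRing (Localization.AtPrime p)) Ω z) P₁ = 0 := by
      rw [hP₁, map_mul, aeval_C] at hP₀z
      refine (mul_eq_zero.1 hP₀z).resolve_left fun h0 => ?_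
      change j (τ (MvPolynomial.C (c i₀))) = 0 at h0
      rw [hτC] at h0
      exact hc0 ((map_eq_zero_iff _ hVO).1 ((map_eq_zero_iff _ hj).1 h0))
    have hFz : aeval z (P₁.map τ) = 0 := by
      apply (algebraMap (FractionRing (Localization.AtPrime p)) Ω).injective
      rw [map_zero, ← aeval_algebraMap_apply, aeval_def, eval₂_map]
      exact hP₁z
    refine GrothLib.SmoothVal.isInteger_or_of_root z _ (P₁.map τ) le_rfl hFz ⟨i₀, ?_⟩
    rw [coeff_map]
    have hco : P₁.coeff i₀ = h' i₀ := by
      simp only [P₁, finsetSum_coeff, coeff_monomial, Finset.sum_ite_eq', if_pos hi₀]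
      have : d i₀ = 1 := mul_left_cancel₀ hc0 (by rw [mul_one]; exact (hd i₀ hi₀).symm)
      rw [this, map_one, one_mul]
    rw [hco]
    exact hτu _ (hh' i₀ (mem_support_iff.1 hi₀))
  refine ⟨hVR, hVO, hloc, fun x hx => ?_⟩
  -- elements with the same value differ by a unit
  have hassoc : ∀ a b : (Localization.AtPrime p), U.valuation (j a) = U.valuation (j b) →
      ∃ w : (Localization.AtPrime p)ˣ, a = b * w := by
    intro a b hab
    rcases eq_or_ne b 0 with rfl | hb
    · refine ⟨1, ?_⟩
      rw [map_zero, map_zero, Valuation.zero_iff, map_eq_zero_iff _ hj] at hab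
      rw [hab, zero_mul]
    have hb' : U.valuation (j b) ≠ 0 :=
      U.valuation.ne_zero_iff.2 ((map_ne_zero_iff _ hj).2 hb)
    rcases ValuationRing.dvd_total b a with ⟨c, hc⟩ | ⟨c, hc⟩
    · rw [hc, map_mul, map_mul, mul_eq_left₀ hb'] at hab
      exact ⟨((hvu c).2 hab).unit, hc⟩
    · rw [hc, map_mul, map_mul] at hab hb'
      have hc1 := mul_eq_left₀ (left_ne_zero_of_mul hb') |>.1 hab.symm
      refine ⟨((hvu c).2 hc1).unit⁻¹, ?_⟩
      rw [hc, mul_assoc, IsUnit.mul_val_inv, mul_one]
  obtain ⟨r, s, hs, hrs⟩ := hfrac x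
  have hγ : U.valuation (aeval θ r) = U.valuation (j x) := by
    rw [← hrs, map_mul, hs, mul_one]
  have hr0 : aeval θ r ≠ 0 := by
    rw [← U.valuation.ne_zero_iff, hγ, U.valuation.ne_zero_iff]
    exact (map_ne_zero_iff _ hj).2 hx
  obtain ⟨P₀, hP₀, hP₀r⟩ := halg _ (hmemθ r)
  have hpair : ∃ lo hi : ℕ, lo < hi ∧ P₀.coeff lo ≠ 0 ∧ P₀.coeff hi ≠ 0 ∧
      U.valuation (algebraMap T Ω (P₀.coeff lo)) * U.valuation (aeval θ r) ^ lo =
        U.valuation (algebraMap T Ω (P₀.coeff hi)) * U.valuation (aeval θ r) ^ hi := by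
    obtain ⟨i, hi, hmax⟩ := Finset.exists_max_image P₀.support
      (fun i => U.valuation (algebraMap T Ω (P₀.coeff i) * aeval θ r ^ i))
      (support_nonempty.2 hP₀)
    by_contra hno
    have h0 := hP₀r
    rw [aeval_def, eval₂_eq_sum, sum_def] at h0
    have hlt : ∀ k ∈ P₀.support \ {i}, U.valuation (algebraMap T Ω (P₀.coeff k) * aeval θ r ^ k)
        < U.valuation (algebraMap T Ω (P₀.coeff i) * aeval θ r ^ i) := by
      intro k hk
      simp only [Finset.mem_sdiff, Finset.mem_singleton] at hk
      refine lt_of_le_of_ne (hmax k hk.1) fun he => hno ?_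
      simp only [map_mul, map_pow] at he
      rcases lt_or_gt_of_ne hk.2 with h | h
      · exact ⟨k, i, h, mem_support_iff.1 hk.1, mem_support_iff.1 hi, he⟩
      · exact ⟨i, k, h, mem_support_iff.1 hi, mem_support_iff.1 hk.1, he.symm⟩
    have := U.valuation.map_sum_eq_of_lt hi hlt
    rw [h0, map_zero, eq_comm, Valuation.zero_iff, mul_eq_zero] at this
    rcases this with h | h
    · exact mem_support_iff.1 hi ((map_eq_zero_iff _ (FaithfulSMul.algebraMap_injective T Ω)).1 h)
    · exact hr0 (eq_zero_of_pow_eq_zero h)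
  obtain ⟨lo, hi, hlt, hlo0, hhi0, hpow⟩ := hpair
  have hrel : U.valuation (j (ι (aeval P.x r) ^ (hi - lo) * τ (P₀.coeff hi))) =
      U.valuation (j (τ (P₀.coeff lo))) := by
    rw [map_mul, map_pow, ← hθev, map_mul, map_pow]
    have hne : U.valuation (aeval θ r) ^ lo ≠ 0 := pow_ne_zero _ (U.valuation.ne_zero_iff.2 hr0)
    apply mul_right_cancel₀ hne
    refine Eq.trans ?_ hpow.symm
    rw [mul_comm (_ ^ (hi - lo)), mul_assoc, ← pow_add, Nat.sub_add_cancel hlt.le]
    rfl
  obtain ⟨w, hw⟩ := hassoc _ _ hrel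
  obtain ⟨r', s', hs', hrs'⟩ := hfrac (w : (Localization.AtPrime p))
  have hr' : U.valuation (aeval θ r') = 1 := by
    rw [← hrs', map_mul, hs', mul_one]
    exact (hvu _).1 w.isUnit
  have hrel' : aeval θ r ^ (hi - lo) * algebraMap T Ω (P₀.coeff hi) * aeval θ s' =
      algebraMap T Ω (P₀.coeff lo) * aeval θ r' := by
    rw [← hrs', hθev r, ← mul_assoc]
    change j _ ^ _ * j (τ _) * _ = j (τ _) * _ * _
    rw [← map_pow, ← map_mul, hw, map_mul]
  obtain ⟨κ, hκ⟩ := GrothLib.SmoothVal.exists_val_eq (K := FractionRing T) U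
    (fun t => hU (τ t)) P.f P.monic_f θ hFθ hF'θ r hr0 (hi - lo) (by omega)
    (P₀.coeff lo) (P₀.coeff hi)
    ((map_ne_zero_iff _ (FaithfulSMul.algebraMap_injective T Ω)).2 hlo0)
    ((map_ne_zero_iff _ (FaithfulSMul.algebraMap_injective T Ω)).2 hhi0) r' s' hr' hs' hrel'
  obtain ⟨t₁, t₂, ht₂, rfl⟩ := IsFractionRing.div_surjective T κ
  rw [map_div₀, map_div₀, ← IsScalarTower.algebraMap_apply, ← IsScalarTower.algebraMap_apply,
    hγ] at hκ
  have ht₂0 : t₂ ≠ 0 := nonZeroDivisors.ne_zero ht₂
  have ht₁0 : t₁ ≠ 0 := fun h0 => by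
    rw [h0, map_zero, map_zero, zero_div, eq_comm, Valuation.zero_iff, map_eq_zero_iff _ hj] at hκ
    exact hx hκ
  obtain ⟨c₁, hc₁, w₁, hw₁, e₁⟩ := hkey t₁ ht₁0
  obtain ⟨c₂, hc₂, w₂, hw₂, e₂⟩ := hkey t₂ ht₂0
  change U.valuation (j (τ t₁)) / U.valuation (j (τ t₂)) = _ at hκ
  have hc₂' : U.valuation (j (algebraMap V (Localization.AtPrime p) c₂)) ≠ 0 :=
    U.valuation.ne_zero_iff.2 ((map_ne_zero_iff _ hj).2 ((map_ne_zero_iff _ hVO).2 hc₂))
  rw [e₁, e₂, map_mul, map_mul, map_mul, map_mul, (hvu w₁).1 hw₁, (hvu w₂).1 hw₂, mul_one,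
    mul_one, div_eq_iff hc₂'] at hκ
  rcases ValuationRing.dvd_total c₂ c₁ with ⟨e, he⟩ | ⟨e, he⟩
  · rw [he, map_mul, map_mul, map_mul, mul_comm, mul_left_inj' hc₂'] at hκ
    obtain ⟨w', hw'⟩ := hassoc x (algebraMap V (Localization.AtPrime p) e) hκ.symm
    exact ⟨e, w', hw'⟩
  · have hc₁' : U.valuation (j (algebraMap V (Localization.AtPrime p) c₁)) ≠ 0 :=
      U.valuation.ne_zero_iff.2 ((map_ne_zero_iff _ hj).2 ((map_ne_zero_iff _ hVO).2 hc₁))
    rw [he, map_mul, map_mul, map_mul, mul_left_comm, eq_comm, mul_eq_left₀ hc₁'] at hκ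
    have hx1 : IsUnit x := by
      rw [hvu]
      refine le_antisymm (hvle x) ?_
      calc (1 : U.ValueGroup) = U.valuation (j x) * U.valuation (j (algebraMap V (Localization.AtPrime p) e)) := hκ.symm
        _ ≤ U.valuation (j x) := mul_le_of_le_one_right zero_le (hvle _)
    exact ⟨1, hx1.unit, by rw [map_one, one_mul, IsUnit.unit_spec]⟩

end Groth.Agent.S14726
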