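import Groth.Statements.S1963
import Groth.Agent.Lib.WeakDim.ValuationExt

set_option autoImplicit false
universe u
open EtAlg

namespace Groth.Agent.S1963

/-- Let A be a valuation ring, B an etale A-algebra and m a prime of B lying over the maximal ideal of
A. Then the localization B_m is a valuation ring, the map A -> B_m is injective and local, and the
extension is weakly unramified: every nonzero element of B_m is a unit multiple of the image of an
element of A. -/
theorem result (A B : Type u) [CommRing A] [IsDomain A] [ValuationRing A]
    [CommRing B] [Algebra A B] [Algebra.Etale A B] (m : Ideal B) [m.IsPrime]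
    (hm : m.comap (algebraMap A B) = IsLocalRing.maximalIdeal A) :
    IsDomain (Localization.AtPrime m) ∧ (∀ _ : IsDomain (Localization.AtPrime m), ValuationRing (Localization.AtPrime m)) ∧
    Function.Injective (algebraMap A (Localization.AtPrime m)) ∧ IsLocalHom (algebraMap A (Localization.AtPrime m)) ∧
    ∀ b : Localization.AtPrime m, b ≠ 0 → ∃ (a : A) (u : (Localization.AtPrime m)ˣ),
      b = u * algebraMap A (Localization.AtPrime m) a := by
  let M := Localization.AtPrime m
  haveI : Algebra.WeaklyEtale B M := by
    haveI : Module.Flat B M := IsLocalization.flat M m.primeCompl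
    refine ⟨inferInstance, RingHom.Flat.of_bijective ⟨?_, fun x => ⟨x ⊗ₜ 1, by simp⟩⟩⟩
    have h := (GrothLib.WeakDim.isEpi_of_isLocalization m.primeCompl M).injective_lift_mul
    intro x y hxy
    refine h ?_
    have h2 : ∀ z, TensorProduct.lift (LinearMap.mul B M) z = Algebra.TensorProduct.lmul' B z := fun z => by
      induction z with
      | zero => simp
      | tmul a b => simp
      | add a b ha hb => simp only [map_add, ha, hb]
    rw [h2, h2]
    exact hxy
  haveI : Algebra.WeaklyEtale A M := Algebra.WeaklyEtale.trans A B M
  haveI : IsLocalHom (algebraMap A M) := ⟨fun x hx => by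
    by_contra hu
    rw [IsScalarTower.algebraMap_apply A B M, IsLocalization.AtPrime.isUnit_to_map_iff M m] at hx
    exact hx (show x ∈ m.comap (algebraMap A B) by rw [hm]; exact hu)⟩
  obtain ⟨⟨hd, hv⟩, hinj, hval⟩ := GrothLib.WeakDim.weaklyEtale_valuationRing A M
  exact ⟨hd, fun _ => hv, hinj, inferInstance, hval⟩

end Groth.Agent.S1963
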