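import Groth.Statements.S1996
import Groth.Agent.Lib.WeakEtale.Basic
-- import your own Groth.Agent.* helpers here

set_option autoImplicit false
universe u
open EtAlg

namespace Groth.Agent.S1996

/-- Let A -> B -> C be ring maps with B -> C faithfully flat. Weak etaleness of A -> C then implies weak
etaleness of A -> B. -/
theorem result (A B C : Type u) [CommRing A] [CommRing B] [CommRing C] [Algebra A B]
    [Algebra B C] [Algebra A C] [IsScalarTower A B C] [Module.FaithfullyFlat B C] [Algebra.WeaklyEtale A C] :
    Algebra.WeaklyEtale A B := by
  let i : B →ₐ[A] C := IsScalarTower.toAlgHom A B C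
  haveI : Module.Flat A B := GrothLib.Flatness.flat_of_faithfullyFlat (R := A) (S := B) (M := C)
  refine ⟨inferInstance, ?_⟩
  have hi : i.toRingHom.Flat := RingHom.flat_algebraMap_iff.mpr inferInstance
  have hm : (Algebra.TensorProduct.map i i).toRingHom.Flat := RingHom.Flat.tensorProductMap hi hi
  have hc : (algebraMap B C).comp (Algebra.TensorProduct.lmul' A (S := B)).toRingHom =
      (Algebra.TensorProduct.lmul' A (S := C)).toRingHom.comp (Algebra.TensorProduct.map i i).toRingHom := by
    refine RingHom.ext fun z => ?_
    induction z with
    | zero => simp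
    | tmul x y => simp [i]
    | add x y hx hy => simp only [map_add, hx, hy]
  refine GrothLib.WeakEtale.ringFlat_of_comp _ (algebraMap B C)
    (RingHom.faithfullyFlat_algebraMap_iff.mpr inferInstance) ?_
  rw [hc]
  exact RingHom.Flat.comp hm (Algebra.WeaklyEtale.flat_lmul' A C)

end Groth.Agent.S1996
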