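import Groth.Statements.S4810
import Groth.Agent.S4809
import Groth.Agent.Lib.NormalExt.Basic
import Groth.Agent.Lib.Weight.GeomPoints
import Mathlib.AlgebraicGeometry.Normalization
import Mathlib.RingTheory.Localization.Integral

set_option autoImplicit false
universe u
open CategoryTheory AlgebraicGeometry
open Lim8

namespace Groth.Agent.S4810

open AlgebraicGeometry

theorem exists_of_integralElem_open {X : Scheme.{u}} [IsIntegral X]
    (hN : ∀ x : X, IsIntegrallyClosed (X.presheaf.stalk x)) (U : X.Opens) (hη : genericPoint X ∈ U)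
    {A : Type u} [CommRing A] (φ : A →+* Γ(X, U)) (y : X.functionField)
    (hy : ((X.presheaf.germ U _ hη).hom.comp φ).IsIntegralElem y) :
    ∃ b : Γ(X, U), X.presheaf.germ U _ hη b = y := by
  have hinj : ∀ (O : X.Opens) (h : genericPoint X ∈ O), Function.Injective (X.presheaf.germ O _ h) :=
    fun O h => germ_injective_of_isIntegral X _ h
  have hloc : ∀ x : U, ∃ (O : X.Opens) (_ : O ≤ U) (h : genericPoint X ∈ O) (b : Γ(X, O)),
      (x : X) ∈ O ∧ X.presheaf.germ O _ h b = y := by
    intro x
    obtain ⟨O, hO, hxO, hOU⟩ := exists_isAffineOpen_mem_and_subset x.2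
    have hηO : genericPoint X ∈ O :=
      ((genericPoint_spec X).mem_open_set_iff O.isOpen).mpr ⟨x, trivial, hxO⟩
    haveI : Nonempty O := ⟨⟨_, hxO⟩⟩
    haveI := GrothLib.NormalExt.isIntegrallyClosed_Γ hN O hO
    haveI := functionField_isFractionRing_of_isAffineOpen X O hO
    have hint : IsIntegral Γ(X, O) y := by
      obtain ⟨p, hp, hp0⟩ := hy
      refine ⟨p.map ((X.presheaf.map (homOfLE hOU).op).hom.comp φ), hp.map _, ?_⟩
      rw [Polynomial.eval₂_map]
      convert hp0 using 2
      refine RingHom.ext fun a => ?_
      exact TopCat.Presheaf.germ_res_apply X.presheaf (homOfLE hOU) _ hηO (φ a)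
    obtain ⟨b, hb⟩ := IsIntegrallyClosed.isIntegral_iff.mp hint
    exact ⟨O, hOU, hηO, b, hxO, hb⟩
  choose O hle hO b hx hb using hloc
  have hcomp : ∀ i j, X.presheaf.map (homOfLE (inf_le_left : O i ⊓ O j ≤ O i)).op (b i) =
      X.presheaf.map (homOfLE (inf_le_right : O i ⊓ O j ≤ O j)).op (b j) := by
    intro i j
    refine hinj (O i ⊓ O j) ⟨hO i, hO j⟩ ?_
    rw [TopCat.Presheaf.germ_res_apply, TopCat.Presheaf.germ_res_apply, hb, hb]
  obtain ⟨s, hs, -⟩ := TopCat.Sheaf.existsUnique_gluing' X.sheaf O U (fun i => homOfLE (hle i))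
    (fun z hz => TopologicalSpace.Opens.mem_iSup.2 ⟨⟨z, hz⟩, hx _⟩) b hcomp
  refine ⟨s, ?_⟩
  rw [← hb ⟨_, hη⟩, ← hs ⟨_, hη⟩]
  exact (TopCat.Presheaf.germ_res_apply X.presheaf (homOfLE (hle ⟨_, hη⟩)) _ (hO _) s).symm

variable {X Y : Scheme.{u}} [IsIntegral X] [IsIntegral Y] (f : X ⟶ Y) [QuasiCompact f] [QuasiSeparated f]

theorem toNormalization_generic : f.toNormalization (genericPoint X) = genericPoint f.normalization := by
  refine ((genericPoint_spec X).image f.toNormalization.continuous).eq ?_
  have h : closure (f.toNormalization '' (⊤ : Set X)) = (⊤ : Set f.normalization) := by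
    rw [Set.top_eq_univ, Set.image_univ]
    exact f.toNormalization.denseRange.closure_range
  rw [Set.top_eq_univ] at h
  rw [h]
  exact genericPoint_spec _

theorem isFractionRing_at (W : f.normalization.Opens) (hW : IsAffineOpen W) [Nonempty W]
    (y : f.normalization) (hy : y = genericPoint f.normalization) (hyW : y ∈ W) :
    letI := TopCat.Presheaf.algebra_section_stalk f.normalization.presheaf (⟨y, hyW⟩ : W)
    IsFractionRing Γ(f.normalization, W) (f.normalization.presheaf.stalk y) ∧
      IsField (f.normalization.presheaf.stalk y) := by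
  subst hy
  exact ⟨functionField_isFractionRing_of_isAffineOpen f.normalization W hW,
    Field.toIsField f.normalization.functionField⟩

/-- The chart map to the function field of `X`. -/
noncomputable def θ (W : f.normalization.Opens) (hW : f.toNormalization (genericPoint X) ∈ W) :
    Γ(f.normalization, W) →+* X.functionField :=
  (f.normalization.presheaf.germ W _ hW ≫ f.toNormalization.stalkMap (genericPoint X)).hom

theorem exists_of_integralElem (hN : ∀ x : X, IsIntegrallyClosed (X.presheaf.stalk x))
    {V : Y.Opens} (hV : IsAffineOpen V) (hη : genericPoint X ∈ f ⁻¹ᵁ V)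
    (hW : f.toNormalization (genericPoint X) ∈ f.fromNormalization ⁻¹ᵁ V) :
    (∀ y : X.functionField, (θ f _ hW).IsIntegralElem y → ∃ a, θ f _ hW a = y) := by
  intro y hy
  let W := f.fromNormalization ⁻¹ᵁ V
  letI := (f.app V).hom.toAlgebra
  let eN := (f.normalizationObjIso hV).commRingCatIsoToRingEquiv
  have hUW : f ⁻¹ᵁ V ≤ f.toNormalization ⁻¹ᵁ W :=
    le_of_eq (by simp only [W, ← Scheme.Hom.comp_preimage, f.toNormalization_fromNormalization])
  have hθ : ∀ a, θ f _ hW a = X.presheaf.germ (f ⁻¹ᵁ V) _ hη (eN a).1 := by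
    intro a
    have h : (eN a).1 = f.toNormalization.appLE W (f ⁻¹ᵁ V) hUW a :=
      congrArg (fun p => p.hom a) (f.normalizationObjIso_hom_val hV)
    rw [h]
    show f.toNormalization.stalkMap _ (f.normalization.presheaf.germ W _ hW a) = _
    rw [Scheme.Hom.germ_stalkMap_apply]
    exact (TopCat.Presheaf.germ_res_apply X.presheaf (homOfLE hUW) _ hη _).symm
  -- integral over the sections of the base
  have hcomp : (θ f _ hW).comp (f.fromNormalization.app V).hom =
      (X.presheaf.germ (f ⁻¹ᵁ V) _ hη).hom.comp (f.app V).hom := by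
    refine RingHom.ext fun r => ?_
    show θ f _ hW (f.fromNormalization.app V r) = _
    rw [hθ, f.fromNormalization_app hV]
    refine congrArg (X.presheaf.germ (f ⁻¹ᵁ V) _ hη) ?_
    show ((f.normalizationObjIso hV).hom ((f.normalizationObjIso hV).inv
      (algebraMap Γ(Y, V) (integralClosure Γ(Y, V) Γ(X, f ⁻¹ᵁ V)) r))).1 = _
    rw [← ConcreteCategory.comp_apply, Iso.inv_hom_id]
    rfl
  have hy' : ((X.presheaf.germ (f ⁻¹ᵁ V) _ hη).hom.comp (f.app V).hom).IsIntegralElem y := by
    rw [← hcomp]
    letI : Algebra Γ(Y, V) Γ(f.normalization, W) := (f.fromNormalization.app V).hom.toAlgebra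
    letI : Algebra Γ(f.normalization, W) X.functionField := (θ f _ hW).toAlgebra
    letI : Algebra Γ(Y, V) X.functionField := ((θ f _ hW).comp (f.fromNormalization.app V).hom).toAlgebra
    haveI : IsScalarTower Γ(Y, V) Γ(f.normalization, W) X.functionField :=
      IsScalarTower.of_algebraMap_eq fun _ => rfl
    haveI : Algebra.IsIntegral Γ(Y, V) Γ(f.normalization, W) :=
      ⟨f.fromNormalization.isIntegral_app V hV⟩
    exact isIntegral_trans (R := Γ(Y, V)) (A := Γ(f.normalization, W)) y hy
  obtain ⟨b, hb⟩ := exists_of_integralElem_open hN (f ⁻¹ᵁ V) hη (f.app V).hom y hy'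
  have hbint : IsIntegral Γ(Y, V) b := by
    obtain ⟨p, hp, hp0⟩ := hy'
    refine ⟨p, hp, germ_injective_of_isIntegral X _ hη ?_⟩
    rw [map_zero, ← hp0, ← hb]
    exact Polynomial.hom_eval₂ p _ (X.presheaf.germ (f ⁻¹ᵁ V) _ hη).hom b
  refine ⟨eN.symm ⟨b, hbint⟩, ?_⟩
  rw [hθ, eN.apply_symm_apply]
  exact hb

theorem finite_stalkMap_generic {X Y : Scheme.{u}} (g : X ⟶ Y) [LocallyQuasiFinite g]
    [LocallyOfFiniteType g] (x : X) (hx : IsField (X.presheaf.stalk x))
    (hy : IsField (Y.presheaf.stalk (g x))) : (g.stalkMap x).hom.Finite := by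
  have h := GrothLib.Weight.finite_residueFieldMap g x
  letI := hy.toField
  letI := hx.toField
  have hbij : Function.Bijective (X.residue x).hom :=
    ⟨(X.residue x).hom.injective, X.residue_surjective x⟩
  have h2 : ((X.residue x).hom.comp (g.stalkMap x).hom).Finite := by
    have := congrArg CommRingCat.Hom.hom (Scheme.residue_residueFieldMap g x)
    simp only [CommRingCat.hom_comp] at this
    rw [← this]
    exact h.comp (RingHom.Finite.of_surjective _ (Y.residue_surjective _))
  have h3 : (g.stalkMap x).hom = (RingEquiv.ofBijective _ hbij).symm.toRingHom.comp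
      ((X.residue x).hom.comp (g.stalkMap x).hom) :=
    RingHom.ext fun a => ((RingEquiv.ofBijective _ hbij).symm_apply_apply _).symm
  rw [h3]
  exact (RingEquiv.ofBijective _ hbij).symm.finite.comp h2

/-- Let Y be an integral scheme, X an integral normal scheme (every local ring integrally closed) and f
: X ⟶ Y a dominant locally quasi-finite morphism (locally of finite type with discrete fibres). Let
Y' be the relative normalization of Y in X (here the normalization of Y in the function field of X)
and f' : X ⟶ Y' the canonical morphism, so that f is f' followed by the canonical morphism Y' ⟶ Y.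
Then f' is a local isomorphism, and f' is an open immersion if and only if f is separated. (The
published statement assumes f only locally quasi-finite; this row takes f moreover quasi-compact and
quasi-separated, the setting in which the relative normalization is built chart by chart from
integral closures.) -/
theorem result {X Y : Scheme.{u}} [IsIntegral X] [IsIntegral Y]
    (hN : ∀ x : X, IsIntegrallyClosed (X.presheaf.stalk x)) (f : X ⟶ Y) [IsDominant f]
    [LocallyQuasiFinite f] [LocallyOfFiniteType f] [QuasiCompact f] [QuasiSeparated f] :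
    IsLocalIso f.toNormalization ∧ (IsOpenImmersion f.toNormalization ↔ IsSeparated f) := by
  let g := f.toNormalization
  haveI : LocallyQuasiFinite (g ≫ f.fromNormalization) := by
    rw [f.toNormalization_fromNormalization]; infer_instance
  haveI : LocallyOfFiniteType (g ≫ f.fromNormalization) := by
    rw [f.toNormalization_fromNormalization]; infer_instance
  haveI : LocallyQuasiFinite g := LocallyQuasiFinite.of_comp g f.fromNormalization
  haveI : LocallyOfFiniteType g := locallyOfFiniteType_of_comp g f.fromNormalization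
  have hgen := toNormalization_generic f
  have hdata : ∀ (V : Y.Opens) (hV : IsAffineOpen V) (z : f.normalization) (hz : f.fromNormalization z ∈ V),
      genericPoint X ∈ f ⁻¹ᵁ V ∧ g (genericPoint X) ∈ f.fromNormalization ⁻¹ᵁ V := by
    intro V hV z hz
    have h : g (genericPoint X) ∈ f.fromNormalization ⁻¹ᵁ V := by
      rw [hgen]
      exact ((genericPoint_spec f.normalization).mem_open_set_iff (f.fromNormalization ⁻¹ᵁ V).isOpen).mpr
        ⟨z, trivial, hz⟩
    exact ⟨by rwa [← f.toNormalization_fromNormalization, Scheme.Hom.comp_preimage], h⟩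
  have hnorm : ∀ z : f.normalization, IsIntegrallyClosed (f.normalization.presheaf.stalk z) := by
    intro z
    obtain ⟨V, hV, hzV, -⟩ := exists_isAffineOpen_mem_and_subset (U := (⊤ : Y.Opens))
      (x := f.fromNormalization z) trivial
    obtain ⟨hη, hgW⟩ := hdata V hV z hzV
    let W := f.fromNormalization ⁻¹ᵁ V
    have hW : IsAffineOpen W := hV.preimage _
    haveI : Nonempty W := ⟨⟨z, hzV⟩⟩
    letI := TopCat.Presheaf.algebra_section_stalk f.normalization.presheaf (⟨_, hgW⟩ : W)
    obtain ⟨hfr, hfield⟩ := isFractionRing_at f W hW _ hgen hgW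
    haveI := hfr
    haveI : IsIntegrallyClosed Γ(f.normalization, W) := by
      refine (isIntegrallyClosed_iff (f.normalization.presheaf.stalk (g (genericPoint X)))).mpr fun {w} hw => ?_
      obtain ⟨p, hp, hp0⟩ := hw
      obtain ⟨a, ha⟩ := exists_of_integralElem f hN hV hη hgW (g.stalkMap _ w) ⟨p, hp, by
        refine (Polynomial.hom_eval₂ p (algebraMap Γ(f.normalization, W)
          (f.normalization.presheaf.stalk (g (genericPoint X)))) (g.stalkMap (genericPoint X)).hom w).symm.trans ?_
        rw [hp0, map_zero]⟩
      letI := hfield.toField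
      exact ⟨a, (g.stalkMap _).hom.injective ha⟩
    letI := TopCat.Presheaf.algebra_section_stalk f.normalization.presheaf (⟨z, hzV⟩ : W)
    haveI := hW.isLocalization_stalk ⟨z, hzV⟩
    haveI : IsDomain Γ(f.normalization, W) := inferInstance
    exact isIntegrallyClosed_of_isLocalization (f.normalization.presheaf.stalk z)
      (hW.primeIdealOf ⟨z, hzV⟩).asIdeal.primeCompl (Ideal.primeCompl_le_nonZeroDivisors _)
  have hbir : IsIso (g.stalkMap (genericPoint X)) := by
    obtain ⟨V, hV, hzV, -⟩ := exists_isAffineOpen_mem_and_subset (U := (⊤ : Y.Opens))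
      (x := f.fromNormalization (g (genericPoint X))) trivial
    obtain ⟨hη, hgW⟩ := hdata V hV _ hzV
    let W := f.fromNormalization ⁻¹ᵁ V
    haveI : Nonempty W := ⟨⟨_, hzV⟩⟩
    letI := TopCat.Presheaf.algebra_section_stalk f.normalization.presheaf (⟨_, hgW⟩ : W)
    obtain ⟨hfr, hfield⟩ := isFractionRing_at f W (hV.preimage _) _ hgen hgW
    haveI := hfr
    letI := hfield.toField
    refine (ConcreteCategory.isIso_iff_bijective _).2 ⟨(g.stalkMap _).hom.injective, fun x => ?_⟩
    let F := f.normalization.presheaf.stalk (g (genericPoint X))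
    letI : Algebra F X.functionField := (g.stalkMap (genericPoint X)).hom.toAlgebra
    letI : Algebra Γ(f.normalization, W) X.functionField := (θ f W hgW).toAlgebra
    haveI : IsScalarTower Γ(f.normalization, W) F X.functionField := IsScalarTower.of_algebraMap_eq fun _ => rfl
    haveI : Module.Finite F X.functionField :=
      finite_stalkMap_generic g (genericPoint X) (Field.toIsField X.functionField) hfield
    have hal : IsAlgebraic Γ(f.normalization, W) x :=
      (IsFractionRing.isAlgebraic_iff Γ(f.normalization, W) F X.functionField).2 (Algebra.IsAlgebraic.isAlgebraic x)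
    obtain ⟨c, hc, hcx⟩ := hal.exists_integral_multiple
    obtain ⟨a, ha⟩ := exists_of_integralElem f hN hV hη hgW _ hcx
    refine ⟨algebraMap Γ(f.normalization, W) F a / algebraMap Γ(f.normalization, W) F c, ?_⟩
    have hc0 : algebraMap Γ(f.normalization, W) F c ≠ 0 :=
      (map_ne_zero_iff _ (IsFractionRing.injective Γ(f.normalization, W) F)).2 hc
    show algebraMap F X.functionField _ = x
    rw [map_div₀, ← IsScalarTower.algebraMap_apply, ← IsScalarTower.algebraMap_apply, div_eq_iff, mul_comm,
      ← Algebra.smul_def]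
    · exact ha
    · rw [IsScalarTower.algebraMap_apply _ F]
      exact (map_ne_zero_iff _ (algebraMap F X.functionField).injective).2 hc0
  obtain ⟨h1, h2⟩ := Groth.Agent.S4809.result hnorm g hgen hbir
  refine ⟨h1, fun h => ?_, fun h => h2 ?_⟩
  · haveI : IsOpenImmersion g := h
    have : IsSeparated (g ≫ f.fromNormalization) := inferInstance
    rwa [f.toNormalization_fromNormalization] at this
  · haveI : IsSeparated (g ≫ f.fromNormalization) := by rwa [f.toNormalization_fromNormalization]
    exact IsSeparated.of_comp g f.fromNormalization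

end Groth.Agent.S4810
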