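import Groth.Statements.S13929
import Groth.Agent.Lib.WronskFib10.Basic
import Mathlib.FieldTheory.Finiteness
import Mathlib.Algebra.Polynomial.RingDivision

set_option autoImplicit false
universe u
open W4c1limliniiii

namespace Groth.Agent.S13929

open Polynomial in
open Polynomial GrothLib.WronskFib10 in
theorem dvd_wronskian {k : Type u} [Field k] {V : Submodule k k[X]} {F G : k[X]} (hV : Submodule.span k {F, G} = V)
    {a : k} {e : ℕ} (h : ∃ s ∈ V, s ≠ 0 ∧ e ≤ rootMultiplicity a s) :
    (X - C a) ^ (e - 1) ∣ wronskian F G := by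
  obtain ⟨s, hs, hs0, hse⟩ := h
  have hd : (X - C a) ^ e ∣ s := (le_rootMultiplicity_iff hs0).1 hse
  have h1 : (X - C a) ^ (e - 1) ∣ s := dvd_trans (pow_dvd_pow _ (Nat.sub_le e 1)) hd
  have h2 : (X - C a) ^ (e - 1) ∣ derivative s := pow_sub_one_dvd_derivative_of_pow_dvd hd
  have h3 : ∀ t, (X - C a) ^ (e - 1) ∣ wronskian s t := fun t => dvd_sub (h1.mul_right _) (h2.mul_right _)
  obtain ⟨α, β, rfl⟩ := Submodule.mem_span_pair.1 (hV.symm ▸ hs)
  by_cases hα : α = 0
  · have hβ : β ≠ 0 := fun hβ => hs0 (by simp [hα, hβ])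
    have h4 := h3 F
    simp only [hα, zero_smul, zero_add, smul_eq_C_mul, wronskian, derivative_mul, derivative_C, zero_mul] at h4
    have : wronskian F G = C (-β⁻¹) * (C β * G * derivative F - C β * derivative G * F) := by
      have hc : C β⁻¹ * C β = (1 : k[X]) := by rw [← map_mul, inv_mul_cancel₀ hβ, map_one]
      simp only [wronskian, map_neg]
      linear_combination (G * derivative F - derivative G * F) * hc
    rw [this]
    exact h4.mul_left _
  · have h4 := h3 G
    have hc : C α⁻¹ * C α = (1 : k[X]) := by rw [← map_mul, inv_mul_cancel₀ hα, map_one]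
    have : wronskian F G = C α⁻¹ * wronskian (α • F + β • G) G := by
      simp only [wronskian, smul_eq_C_mul, derivative_add, derivative_mul, derivative_C]
      linear_combination (derivative F * G - F * derivative G) * hc
    rw [this]
    exact h4.mul_left _

open Polynomial in

/-- Over an algebraically closed field of characteristic p with p = 0 or d < p, fix n distinct points of
the affine line and admissible ramification indices (2 ≤ e_i ≤ d, e_i prime to p, ∑ (e_i − 1) = 2d −
2). Then there are only finitely many separable self-maps of the projective line of degree d, up to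
automorphisms of the target, with ramification index exactly e_i at the i-th point: the set of
base-point-free separable pencils of polynomials of degree at most d with this ramification is
finite. (This is the case of a fully specified ramification divisor; the points are arbitrary
distinct points, not only general ones.) -/
theorem result (k : Type u) [Field k] [IsAlgClosed k]
    (p : ℕ) [CharP k p] (d n : ℕ) (P : Fin n → k) (hP : Function.Injective P)
    (e : Fin n → ℕ) (he : W4c1limliniiii.Admissible p d e) (hp : p = 0 ∨ d < p) :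
    (W4c1limliniiii.ramMaps d P e).Finite := by
  classical
  obtain ⟨hbd, hsum⟩ := he
  obtain ⟨m, rfl⟩ : ∃ m, d = m + 1 := by
    refine ⟨d - 1, ?_⟩
    have : n * 2 ≤ ∑ i, e i := by
      simpa using Finset.card_nsmul_le_sum (Finset.univ : Finset (Fin n)) e 2 (fun i _ => (hbd i).1)
    omega
  have hk : ∀ j : ℕ, 0 < j → j ≤ m + 1 → (j : k) ≠ 0 := by
    intro j h1 h2 h
    rw [CharP.cast_eq_zero_iff k p] at h
    rcases hp with rfl | hp
    · simp at h; omega
    · have := Nat.le_of_dvd h1 h; omega
  let W0 : k[X] := ∏ i, (X - C (P i)) ^ (e i - 1)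
  have hW0 : W0.Monic := monic_prod_of_monic _ _ fun i _ => (monic_X_sub_C _).pow _
  have hdeg : W0.natDegree = 2 * m := by
    rw [natDegree_prod_of_monic _ _ fun i _ => (monic_X_sub_C _).pow _]
    simp only [natDegree_pow, natDegree_X_sub_C, mul_one]
    have h1 : ∑ i, (e i - 1) + n = ∑ i, e i := by
      have : ∑ i, (e i - 1) + ∑ _i : Fin n, 1 = ∑ i, e i := by
        rw [← Finset.sum_add_distrib]
        exact Finset.sum_congr rfl fun i _ => Nat.sub_add_cancel ((hbd i).1.trans' one_le_two)
      simpa using this
    omega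
  refine ((GrothLib.WronskFib10.finite_solutions hk W0 hW0 hdeg).image fun c =>
    Submodule.span k {GrothLib.WronskFib10.fPoly c, GrothLib.WronskFib10.gPoly c}).subset ?_
  rintro V ⟨⟨hVle, hV2, ⟨s, hsV, hsd⟩, -⟩, -, hram⟩
  have hle : ∀ q ∈ V, q.natDegree ≤ m + 1 := fun q hq => natDegree_le_of_degree_le (mem_degreeLE.1 (hVle hq))
  haveI hVf : Module.Finite k V := Module.finite_of_finrank_eq_succ hV2
  have hs0 : s ≠ 0 := fun h => by rw [h, natDegree_zero] at hsd; omega
  obtain ⟨u, huV, hu⟩ : ∃ u ∈ V, u ∉ Submodule.span k {s} := by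
    by_contra h
    push_neg at h
    have := Submodule.finrank_mono (show V ≤ Submodule.span k {s} from h)
    rw [hV2, finrank_span_singleton hs0] at this
    omega
  have hls : s.coeff (m + 1) ≠ 0 := by
    rw [← hsd, coeff_natDegree]; exact leadingCoeff_ne_zero.2 hs0
  let g := u - (u.coeff (m + 1) / s.coeff (m + 1)) • s
  have hgV : g ∈ V := V.sub_mem huV (V.smul_mem _ hsV)
  have hg0 : g ≠ 0 := fun h => hu (by
    rw [sub_eq_zero.1 h]; exact Submodule.smul_mem _ _ (Submodule.mem_span_singleton_self s))
  have hgtop : g.coeff (m + 1) = 0 := by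
    simp only [g, coeff_sub, coeff_smul, smul_eq_mul, div_mul_cancel₀ _ hls, sub_self]
  let F1 := (s.coeff (m + 1))⁻¹ • s
  let G := g.leadingCoeff⁻¹ • g
  have hF1V : F1 ∈ V := V.smul_mem _ hsV
  have hGV : G ∈ V := V.smul_mem _ hgV
  have hF1top : F1.coeff (m + 1) = 1 := by simp [F1, coeff_smul, hls]
  let a := g.natDegree
  have hG : G.coeff a = 1 := by
    simp only [G, coeff_smul, smul_eq_mul, a, coeff_natDegree]
    exact inv_mul_cancel₀ (leadingCoeff_ne_zero.2 hg0)
  have hGhi : ∀ l, a < l → G.coeff l = 0 := fun l hl => by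
    simp [G, coeff_smul, coeff_eq_zero_of_natDegree_lt hl]
  have hF1hi : ∀ l, m + 1 < l → F1.coeff l = 0 := fun l hl => by
    rw [coeff_eq_zero_of_natDegree_lt (lt_of_le_of_lt (hle F1 hF1V) hl)]
  have ha : a < m + 1 := by
    rcases lt_or_eq_of_le (hle g hgV) with h | h
    · exact h
    · exact absurd hgtop (by rw [← h, coeff_natDegree]; exact leadingCoeff_ne_zero.2 hg0)
  let F := F1 - F1.coeff a • G
  have hFV : F ∈ V := V.sub_mem hF1V (V.smul_mem _ hGV)
  have hFtop : F.coeff (m + 1) = 1 := by
    simp only [F, coeff_sub, coeff_smul, hGhi _ ha, smul_zero, sub_zero, hF1top]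
  have hFhi : ∀ l, m + 1 < l → F.coeff l = 0 := fun l hl => by
    simp only [F, coeff_sub, coeff_smul, hGhi _ (ha.trans hl), smul_zero, sub_zero, hF1hi l hl]
  have hFa : F.coeff a = 0 := by simp [F, coeff_smul, hG]
  have hspan : Submodule.span k {F, G} = V := by
    have hi : LinearIndependent k ![F, G] := by
      rw [LinearIndependent.pair_iff]
      intro x y h
      have h1 := congrArg (fun q => coeff q (m + 1)) h
      simp only [coeff_add, coeff_smul, hFtop, hGhi _ ha, smul_eq_mul, mul_one, mul_zero, add_zero, coeff_zero] at h1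
      have h2 := congrArg (fun q => coeff q a) h
      simp only [coeff_add, coeff_smul, hFa, hG, smul_eq_mul, mul_one, mul_zero, zero_add, coeff_zero] at h2
      exact ⟨h1, h2⟩
    refine Submodule.eq_of_le_of_finrank_eq (Submodule.span_le.2 (by rintro _ (rfl | rfl); exacts [hFV, hGV])) ?_
    have := finrank_span_eq_card hi
    rw [Matrix.range_cons, Matrix.range_cons, Matrix.range_empty, Set.union_empty, Set.singleton_union,
      Fintype.card_fin] at this
    rw [this, hV2]
  have htop := GrothLib.WronskFib10.coeff_wronskian_top F G (m + 1) a hFhi hGhi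
  rw [hFtop, hG, mul_one, mul_one, show m + 1 + a = (m + a) + 1 by omega, coeff_X_mul] at htop
  have hne : ((a : k) - (m + 1 : ℕ)) ≠ 0 := GrothLib.WronskFib10.sub_ne_zero_of_cast hk (by omega) le_rfl (by omega)
  have hW : wronskian F G ≠ 0 := fun h => hne (by rw [← htop, h, coeff_zero])
  have hdvd : W0 ∣ wronskian F G := by
    refine Finset.prod_dvd_of_coprime (fun i _ j _ hij => ?_) fun i _ => dvd_wronskian hspan (hram i).1
    exact (isCoprime_X_sub_C_of_isUnit_sub (sub_ne_zero.2 (hP.ne hij)).isUnit).pow
  have hdW : (wronskian F G).natDegree = m + a := by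
    refine le_antisymm ?_ (le_natDegree_of_ne_zero (by rw [htop]; exact hne))
    have h1 := natDegree_wronskian_lt_add hW
    have hF' : F.natDegree ≤ m + 1 := hle F hFV
    have hG' : G.natDegree ≤ a := natDegree_le_iff_coeff_eq_zero.2 hGhi
    omega
  have hle0 := natDegree_le_of_dvd hdvd hW
  clear_value a
  obtain rfl : a = m := by omega
  obtain ⟨q, hq⟩ := hdvd
  have hq0 : q ≠ 0 := fun h => hW (by rw [hq, h, mul_zero])
  have hqd : q.natDegree = 0 := by
    have := natDegree_mul hW0.ne_zero hq0
    rw [← hq, hdW, hdeg] at this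
    omega
  have hq1 : q = C (-1) := by
    rw [eq_C_of_natDegree_eq_zero hqd]
    congr 1
    have h1 := htop
    rw [hq, eq_C_of_natDegree_eq_zero hqd, coeff_mul_C, show a + a = W0.natDegree by omega, coeff_natDegree,
      hW0.leadingCoeff, one_mul] at h1
    rw [h1]; push_cast; ring
  let c : Fin 2 × Fin a → k := fun x => if x.1 = 0 then F.coeff x.2 else G.coeff x.2
  have hFc : GrothLib.WronskFib10.fPoly c = F := by
    ext l
    rw [GrothLib.WronskFib10.coeff_fPoly]
    rcases lt_trichotomy l a with h | h | h
    · rw [dif_pos h, if_neg (by omega), zero_add]; simp [c]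
    · subst h; rw [dif_neg (lt_irrefl _), if_neg (by omega), zero_add, hFa]
    · rw [dif_neg (by omega), add_zero]
      split
      case isTrue h' => rw [h', hFtop]
      case isFalse h' => rw [hFhi l (by omega)]
  have hGc : GrothLib.WronskFib10.gPoly c = G := by
    ext l
    rw [GrothLib.WronskFib10.coeff_gPoly]
    rcases lt_trichotomy l a with h | h | h
    · rw [dif_pos h, if_neg (by omega), zero_add]; simp [c]
    · subst h; rw [dif_neg (lt_irrefl _), if_pos rfl, add_zero, hG]
    · rw [dif_neg (by omega), if_neg (by omega), add_zero, hGhi l h]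
  refine ⟨c, ?_, ?_⟩
  · show wronskian _ _ = -W0
    rw [hFc, hGc, hq, hq1, map_neg, map_one, mul_neg, mul_one]
  · show Submodule.span k _ = V
    rw [hFc, hGc, hspan]

end Groth.Agent.S13929
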