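import Groth.Statements.S8446
import Groth.Agent.Lib.RankCell14.Cover
import Groth.Agent.Lib.NoTorus14.Basic
import Groth.Agent.Lib.GITQuot.Orbit
import Groth.Agent.Lib.CentMT14.Descend

set_option autoImplicit false
universe u
open CategoryTheory MonoidalCategory CartesianMonoidalCategory MonObj GrpObj AlgebraicGeometry CategoryTheory.Limits
open Red

namespace Groth.Agent.S8446

/-- Let G be a reductive S-group, i : T ⟶ G a maximal torus, α a character of T non-trivial on every
geometric fibre, and p₊, p₋ : 𝔾_a ⟶ G monomorphisms of groups normalised by T with multipliers α and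
α⁻¹ such that 𝔾_a ×_S T ×_S 𝔾_a ⟶ G, (y, t, x) ↦ p₋(y) i(t) p₊(x), is an open immersion (a rank-one
system: G has semisimple rank 1 and p₊, p₋ trivialise the root groups of α and -α). Then on no
geometric fibre of S do the images of p₊ and p₋ commute: for every s there are points x, y of 𝔾_a
with values in some scheme over the geometric point at s such that p₊(x) p₋(y) ≠ p₋(y) p₊(x). -/
theorem result (S : Scheme.{u}) (G T : Over S) [GrpObj G] [GrpObj T] (i : T ⟶ G) [IsMonHom i] [Mono i] (hG : Red.IsReductive G) (hTm : Red.IsMaximalTorus i)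
    (α : T ⟶ Red.Gm S) [IsMonHom α] (hα : ∀ s : S, (Over.pullback (Red.geomPt s)).map α ≠ 1)
    (pp pm : Red.Ga S ⟶ G) [IsMonHom pp] [Mono pp] [IsMonHom pm] [Mono pm]
    (hpp : ∀ (X : Over S) (t : X ⟶ T) (x : X ⟶ Red.Ga S), ∃ x' : X ⟶ Red.Ga S,
      x' ≫ pp = (t ≫ i) * (x ≫ pp) * (t ≫ i)⁻¹ ∧ Red.gaFn x' = Red.gmFn (t ≫ α) * Red.gaFn x)
    (hpm : ∀ (X : Over S) (t : X ⟶ T) (y : X ⟶ Red.Ga S), ∃ y' : X ⟶ Red.Ga S,
      y' ≫ pm = (t ≫ i) * (y ≫ pm) * (t ≫ i)⁻¹ ∧ Red.gaFn y' * Red.gmFn (t ≫ α) = Red.gaFn y)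
    (hΩ : IsOpenImmersion (((pm ⊗ₘ i) ⊗ₘ pp) ≫ (μ[G] ▷ G) ≫ μ[G]).left) (s : S) :
    ∃ (X : Over (Spec (CommRingCat.of (AlgebraicClosure (S.residueField s)))))
      (x y : X ⟶ Red.bc (Red.geomPt s) (Red.Ga S)),
      (x ≫ (Over.pullback (Red.geomPt s)).map pp) * (y ≫ (Over.pullback (Red.geomPt s)).map pm) ≠
        (y ≫ (Over.pullback (Red.geomPt s)).map pm) * (x ≫ (Over.pullback (Red.geomPt s)).map pp) := by
  by_contra hne
  simp only [not_exists, not_not] at hne
  haveI : IsOpenImmersion (GrothLib.RankCell14.cell i pp pm).left := hΩ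
  haveI : Smooth G.hom := hG.2.1
  haveI hconn : ConnectedSpace (Red.geomFibre s G).left := (hG.2.2 s).2.2.1
  let p := Red.geomPt s
  let E := fun (X : Over (Spec (CommRingCat.of (AlgebraicClosure (S.residueField s))))) (A : Over S) (_ : GrpObj A) =>
    GrothLib.DiagGrp.bcPointMulEquiv p A X
  have hmap : ∀ (A : Over S) (_ : GrpObj A) (u : A ⟶ G) (X : Over (Spec (CommRingCat.of (AlgebraicClosure (S.residueField s)))))
      (a : (Over.map p).obj X ⟶ A), GrothLib.DiagGrp.bcPointMulEquiv p G X (a ≫ u) =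
        GrothLib.DiagGrp.bcPointMulEquiv p A X a ≫ (Over.pullback p).map u := fun A _ u X a =>
    GrothLib.DiagGrp.bcPoint_comp_right p a u
  -- the root groups commute on schemes above the geometric point
  have hcomm : ∀ (Y : Over S) (σ : Y.left ⟶ Spec (CommRingCat.of (AlgebraicClosure (S.residueField s))))
      (hσ : σ ≫ p = Y.hom) (a b : Y ⟶ Red.Ga S), (a ≫ pp) * (b ≫ pm) = (b ≫ pm) * (a ≫ pp) := by
    intro Y σ hσ a b
    let k : (Over.map p).obj (Over.mk σ) ≅ Y := Over.isoMk (Iso.refl _) (by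
      change 𝟙 _ ≫ Y.hom = σ ≫ p
      rw [Category.id_comp, hσ])
    rw [← cancel_epi k.hom, MonObj.comp_mul, MonObj.comp_mul, ← Category.assoc, ← Category.assoc]
    apply (GrothLib.DiagGrp.bcPointMulEquiv p G (Over.mk σ)).injective
    rw [map_mul, map_mul, hmap _ inferInstance, hmap _ inferInstance]
    exact hne _ _ _
  -- every geometric point lies in the cell
  have hcell : ∀ (g : Over.mk p ⟶ G) z, g.left.base z ∈ Set.range (GrothLib.RankCell14.cell i pp pm).left.base := by
    intro g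
    obtain ⟨ω, hω, hgω⟩ := GrothLib.RankCell14.exists_cell_quot i pp pm s hconn g
    obtain ⟨y', t', x', hω'⟩ := GrothLib.RankCell14.exists_coords i pp pm ω hω
    obtain ⟨y, t, x, hgω'⟩ := GrothLib.RankCell14.exists_coords i pp pm (g * ω) hgω
    obtain ⟨x'', hx'', -⟩ := hpp _ t' (x * x'⁻¹)
    obtain ⟨y'', hy'', -⟩ := hpm _ (t * t'⁻¹) y'⁻¹
    have hg : g = ((y * y'') ≫ pm) * ((t * t'⁻¹) ≫ i) * (x'' ≫ pp) := by
      have hc := hcomm _ (𝟙 _) (Category.id_comp _) x'' y'⁻¹
      rw [MonObj.mul_comp y y'', hy'']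
      calc g = (g * ω) * ω⁻¹ := (mul_inv_cancel_right _ _).symm
        _ = (y ≫ pm) * (t ≫ i) * ((t' ≫ i)⁻¹ * (x'' ≫ pp)) * (y'⁻¹ ≫ pm) := by
          rw [hgω', hω', hx'', MonObj.mul_comp x, GrpObj.inv_comp, GrpObj.inv_comp]; group
        _ = (y ≫ pm) * (t ≫ i) * (t' ≫ i)⁻¹ * ((x'' ≫ pp) * (y'⁻¹ ≫ pm)) := by group
        _ = _ := by rw [hc, MonObj.mul_comp t t'⁻¹, GrpObj.inv_comp t']; group
    exact GrothLib.RankCell14.mem_range_cell i pp pm hg
  -- the cell is the whole geometric fibre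
  let U := (pullback.fst G.hom p).base ⁻¹' Set.range (GrothLib.RankCell14.cell i pp pm).left.base
  have hall : ∀ w : (Red.geomFibre s G).left, w ∈ U := by
    intro w
    by_contra hw
    have hC : IsLocallyClosed Uᶜ := (((GrothLib.RankCell14.cell i pp pm).left.isOpenEmbedding.isOpen_range.preimage
      (pullback.fst G.hom p).continuous).isClosed_compl).isLocallyClosed
    haveI : JacobsonSpace (Red.geomFibre s G).left := LocallyOfFiniteType.jacobsonSpace (pullback.snd G.hom p)
    obtain ⟨w', hw', hwc⟩ := nonempty_inter_closedPoints ⟨w, hw⟩ hC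
    apply hw'
    let q := pointOfClosedPoint (pullback.snd G.hom p) w' hwc
    let g : Over.mk p ⟶ G := Over.homMk (q ≫ pullback.fst _ _) (by
      rw [Category.assoc, pullback.condition, pointOfClosedPoint_comp_assoc]; rfl)
    have h := hcell g (IsLocalRing.closedPoint (AlgebraicClosure (S.residueField s)))
    change (q ≫ pullback.fst G.hom p).base (IsLocalRing.closedPoint (AlgebraicClosure (S.residueField s))) ∈ _ at h
    rw [Scheme.Hom.comp_apply, pointOfClosedPoint_apply] at h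
    exact h
  have hco : ∀ (X : Over (Spec (CommRingCat.of (AlgebraicClosure (S.residueField s))))) (g : X ⟶ Red.geomFibre s G),
      ∃ (y : (Over.map p).obj X ⟶ Red.Ga S) (t : (Over.map p).obj X ⟶ T) (x : (Over.map p).obj X ⟶ Red.Ga S),
        (GrothLib.DiagGrp.bcPointMulEquiv p G X).symm g = (y ≫ pm) * (t ≫ i) * (x ≫ pp) := by
    intro X g
    refine GrothLib.RankCell14.exists_coords i pp pm _ fun z => ?_
    have e : ((GrothLib.DiagGrp.bcPointMulEquiv p G X).symm g).left = g.left ≫ pullback.fst G.hom p := by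
      exact GrothLib.CentMT14.symm_left p G g
    rw [e, Scheme.Hom.comp_apply]
    exact hall (g.left.base z)
  -- the retraction
  obtain ⟨y₀, t₀, x₀, h0⟩ := hco _ (𝟙 _)
  let r : Red.geomFibre s G ⟶ Red.bc p (Red.Ga S) := GrothLib.DiagGrp.bcPointMulEquiv p (Red.Ga S) _ x₀
  let uP := (Over.pullback p).map pp
  have hr : uP ≫ r = 𝟙 _ := by
    let a : (Over.map p).obj (Red.bc p (Red.Ga S)) ⟶ Red.Ga S :=
      (GrothLib.DiagGrp.bcPointMulEquiv p (Red.Ga S) (Red.bc p (Red.Ga S))).symm (𝟙 _)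
    have h1 : (Over.map p).map uP ≫ (GrothLib.DiagGrp.bcPointMulEquiv p G _).symm (𝟙 (Red.geomFibre s G)) = a ≫ pp := by
      apply (GrothLib.DiagGrp.bcPointMulEquiv p G _).injective
      exact ((GrothLib.DiagGrp.bcPoint_comp p uP _).trans ((congrArg (uP ≫ ·)
          ((GrothLib.DiagGrp.bcPointMulEquiv p G (Red.geomFibre s G)).apply_symm_apply (𝟙 _))).trans
          (Category.comp_id _))).trans
        ((GrothLib.DiagGrp.bcPoint_comp_right p a pp).trans ((congrArg (· ≫ uP)
          ((GrothLib.DiagGrp.bcPointMulEquiv p (Red.Ga S) (Red.bc p (Red.Ga S))).apply_symm_apply (𝟙 _))).trans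
          (Category.id_comp _))).symm
    rw [h0, MonObj.comp_mul, MonObj.comp_mul, ← Category.assoc, ← Category.assoc, ← Category.assoc] at h1
    have h2 : _ = ((1 : (Over.map p).obj (Red.bc p (Red.Ga S)) ⟶ Red.Ga S) ≫ pm) *
        ((1 : (Over.map p).obj (Red.bc p (Red.Ga S)) ⟶ T) ≫ i) * (a ≫ pp) := h1.trans (by simp [MonObj.one_comp])
    have h3 := (GrothLib.RankCell14.cell_inj i pp pm h2).2.2
    refine (GrothLib.DiagGrp.bcPoint_comp p uP x₀).symm.trans ?_
    rw [h3]
    exact (GrothLib.DiagGrp.bcPointMulEquiv p (Red.Ga S) _).apply_symm_apply _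
  haveI : IsAffineHom G.hom := hG.1
  haveI : IsSeparated (Red.geomFibre s G).hom := inferInstanceAs (IsSeparated (pullback.snd G.hom p))
  haveI : IsAffineHom (Red.geomFibre s G).hom := inferInstanceAs (IsAffineHom (pullback.snd G.hom p))
  haveI : IsClosedImmersion uP.left := by
    haveI : IsSeparated (r.left ≫ (Red.bc p (Red.Ga S)).hom) := by rw [Over.w r]; infer_instance
    haveI : IsSeparated r.left := IsSeparated.of_comp r.left (Red.bc p (Red.Ga S)).hom
    haveI : IsClosedImmersion (uP.left ≫ r.left) := by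
      rw [← Over.comp_left, hr]; exact inferInstanceAs (IsClosedImmersion (𝟙 _))
    exact IsClosedImmersion.of_comp uP.left r.left
  haveI : ConnectedSpace ↥(Red.bc p (Red.Ga S)).left := by
    have hsurj : Function.Surjective r.left.base := fun z => ⟨uP.left.base z, by
      rw [← Scheme.Hom.comp_apply, ← Over.comp_left, hr]; rfl⟩
    exact Function.Surjective.connectedSpace hsurj r.left.continuous
  have hsm : Smooth (Red.bc p (Red.Ga S)).hom := by
    haveI := GrothLib.NoTorus14.smooth_Ga S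
    exact inferInstanceAs (Smooth (pullback.snd (Red.Ga S).hom p))
  have hnorm : AlgGrp.IsNormalHom uP := by
    intro X g n
    obtain ⟨y, t, x, hg⟩ := hco X g
    obtain ⟨x', hx', -⟩ := hpp _ t (x * (GrothLib.DiagGrp.bcPointMulEquiv p (Red.Ga S) X).symm n * x⁻¹)
    refine ⟨GrothLib.DiagGrp.bcPointMulEquiv p (Red.Ga S) X x', ?_⟩
    have hc := hcomm ((Over.map p).obj X) X.hom rfl x' y
    have e : (GrothLib.DiagGrp.bcPointMulEquiv p G X).symm g *
        ((GrothLib.DiagGrp.bcPointMulEquiv p (Red.Ga S) X).symm n ≫ pp) *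
        ((GrothLib.DiagGrp.bcPointMulEquiv p G X).symm g)⁻¹ = x' ≫ pp := by
      calc _ = (y ≫ pm) * ((t ≫ i) * ((x * (GrothLib.DiagGrp.bcPointMulEquiv p (Red.Ga S) X).symm n * x⁻¹) ≫ pp) *
            (t ≫ i)⁻¹) * (y ≫ pm)⁻¹ := by
            rw [hg, MonObj.mul_comp (x * _), MonObj.mul_comp x, GrpObj.inv_comp]; group
        _ = _ := by rw [← hx', ← hc, mul_inv_cancel_right]
    have e' := congrArg (GrothLib.DiagGrp.bcPointMulEquiv p G X) e
    rw [map_mul, map_mul, map_inv, MulEquiv.apply_symm_apply, hmap _ inferInstance, hmap _ inferInstance,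
      MulEquiv.apply_symm_apply] at e'
    exact e'
  have hnt : Red.HasNoSubtorus (AlgebraicClosure (S.residueField s)) (Red.bc p (Red.Ga S)) := by
    intro T' _ j _ _ hT'
    refine GrothLib.NoTorus14.isTrivialGrp_of_mono hT' j fun ℓ hℓ Y x hx => ?_
    obtain ⟨a, rfl⟩ := (GrothLib.DiagGrp.bcPointMulEquiv p (Red.Ga S) Y).surjective x
    rw [← map_pow] at hx
    have ha : a ^ ℓ = 1 := (GrothLib.DiagGrp.bcPointMulEquiv p (Red.Ga S) Y).injective (hx.trans (map_one _).symm)
    have hn : ∀ n : ℕ, Red.gaFn (a ^ n) = (n : Γ(((Over.map p).obj Y).left, ⊤)) * Red.gaFn a := by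
      intro n
      induction n with
      | zero => rw [pow_zero, GrothLib.RedPts.gaFn_one, Nat.cast_zero, zero_mul]
      | succ n ih => rw [pow_succ, GrothLib.RedPts.gaFn_mul, ih, Nat.cast_succ, add_mul, _root_.one_mul]
    have hu : IsUnit ((ℓ : Γ(((Over.map p).obj Y).left, ⊤))) := by
      let φ := ((Scheme.ΓSpecIso (CommRingCat.of (AlgebraicClosure (S.residueField s)))).inv ≫ Y.hom.appTop).hom
      rw [← map_natCast φ ℓ]
      exact (IsUnit.mk0 _ hℓ).map φ
    have h1 := hn ℓ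
    rw [ha, GrothLib.RedPts.gaFn_one, eq_comm, hu.mul_right_eq_zero] at h1
    rw [show a = 1 from GrothLib.RedPts.gaFn_injective (h1.trans GrothLib.RedPts.gaFn_one.symm), map_one]
  have htriv := (hG.2.2 s).2.2.2 (Red.bc p (Red.Ga S)) uP inferInstance hsm inferInstance hnorm hnt
  haveI : IsIso (Red.bc p (Red.Ga S)).hom := htriv
  let X₁ : Over (Spec (CommRingCat.of (AlgebraicClosure (S.residueField s)))) := Over.mk (𝟙 _)
  have heq : ∀ a b : (Over.map p).obj X₁ ⟶ Red.Ga S, a = b := fun a b =>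
    (GrothLib.DiagGrp.bcPointMulEquiv p (Red.Ga S) X₁).injective (Over.OverMorphism.ext
      ((cancel_mono (Red.bc p (Red.Ga S)).hom).mp ((Over.w _).trans (Over.w _).symm)))
  have h := congrArg Red.gaFn (heq (GrothLib.RedPts.gaPt 1) (GrothLib.RedPts.gaPt 0))
  rw [GrothLib.RedPts.gaFn_gaPt, GrothLib.RedPts.gaFn_gaPt] at h
  exact one_ne_zero (α := AlgebraicClosure (S.residueField s))
    (by simpa using congrArg (Scheme.ΓSpecIso (CommRingCat.of (AlgebraicClosure (S.residueField s)))).hom h)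

end Groth.Agent.S8446
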