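import Groth.Statements.S2351
import Groth.Agent.Lib.NormFib.Normal

set_option autoImplicit false
universe u
open CategoryTheory CategoryTheory.Limits AlgebraicGeometry
open EGA2

namespace Groth.Agent.S2351

/-- Let X be an integral scheme and X' → X its normalization (integral closure of X in its function
field). Then X' is integral with integrally closed local rings, the morphism X' → X is surjective,
maps the generic point to the generic point and induces a bijection between the residue fields of
the generic points. (The quasi-compactness/quasi-separatedness binders on Spec K(X) → X always hold;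
they are only needed to form Mathlib's relative normalization.) -/
theorem result (X : Scheme.{u}) [IsIntegral X]
    [QuasiCompact (X.fromSpecStalk (genericPoint X))] [QuasiSeparated (X.fromSpecStalk (genericPoint X))] :
    ∃ (_ : IsIntegral (Curv2.normalization X)), Pi1.IsNormalScheme (Curv2.normalization X) ∧ Surjective (Curv2.normalizationι X) ∧
      ∃ hgen : (Curv2.normalizationι X).base (genericPoint (Curv2.normalization X)) = genericPoint X,
        Function.Bijective ((Curv2.normalizationι X).residueFieldMap (genericPoint (Curv2.normalization X))).hom := by
  let j : Spec (X.presheaf.stalk (genericPoint X)) ⟶ Curv2.normalization X :=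
    (X.fromSpecStalk (genericPoint X)).toNormalization
  let c : ↥(Spec (X.presheaf.stalk (genericPoint X))) :=
    IsLocalRing.closedPoint (X.presheaf.stalk (genericPoint X))
  haveI hI : IsIntegral (Curv2.normalization X) := inferInstance
  haveI : IsDominant j := inferInstanceAs (IsDominant (X.fromSpecStalk (genericPoint X)).toNormalization)
  have hj : j ≫ Curv2.normalizationι X = X.fromSpecStalk (genericPoint X) :=
    Scheme.Hom.toNormalization_fromNormalization _
  have hjc : (j ≫ Curv2.normalizationι X) c = genericPoint X := by
    rw [hj]; exact Scheme.fromSpecStalk_closedPoint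
  have hgp : j c = genericPoint (Curv2.normalization X) := by
    refine IsGenericPoint.eq (α := Curv2.normalization X) ?_ (genericPoint_spec (Curv2.normalization X))
    have hr : Set.range j = {j c} := Set.eq_singleton_iff_unique_mem.mpr
      ⟨⟨c, rfl⟩, fun y ⟨z, hz⟩ => by
        rw [← hz, Subsingleton.elim (α := PrimeSpectrum X.functionField) z c]⟩
    show closure {j c} = (⊤ : Set (Curv2.normalization X))
    rw [← hr, j.denseRange.closure_range]
    rfl
  have hgen : (Curv2.normalizationι X) (genericPoint (Curv2.normalization X)) = genericPoint X := by
    rw [← hgp]; exact hjc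
  refine ⟨hI, GrothLib.NormFib.isNormalScheme_normalization, ⟨?_⟩, hgen, ?_⟩
  · intro y
    have hcl : IsClosed (Set.range (Curv2.normalizationι X)) :=
      (Curv2.normalizationι X).isClosedMap.isClosed_range
    have h1 : closure {genericPoint X} ⊆ Set.range (Curv2.normalizationι X) :=
      hcl.closure_subset_iff.2 (Set.singleton_subset_iff.2 ⟨_, hgen⟩)
    rw [(genericPoint_spec X)] at h1
    exact h1 (Set.mem_univ y)
  · haveI : IsPreimmersion (j ≫ Curv2.normalizationι X) := by rw [hj]; infer_instance
    have key : Function.Surjective ((j ≫ Curv2.normalizationι X).residueFieldMap c).hom := by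
      intro w
      obtain ⟨s, rfl⟩ := Scheme.residue_surjective (Spec (X.presheaf.stalk (genericPoint X))) c w
      obtain ⟨r, rfl⟩ := (j ≫ Curv2.normalizationι X).stalkMap_surjective c s
      exact ⟨X.residue _ r, ConcreteCategory.congr_hom
        (Scheme.residue_residueFieldMap (j ≫ Curv2.normalizationι X) c) r⟩
    rw [Scheme.residueFieldMap_comp] at key
    have hbj : Function.Bijective (j.residueFieldMap c).hom := by
      refine ⟨RingHom.injective _, fun w => ?_⟩
      obtain ⟨r, hr⟩ := key w
      exact ⟨_, hr⟩
    have hs : ∀ z, j c = z → Function.Bijective ((Curv2.normalizationι X).residueFieldMap z).hom := by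
      rintro z rfl
      refine ⟨RingHom.injective _, fun w => ?_⟩
      obtain ⟨r, hr⟩ := key ((j.residueFieldMap c).hom w)
      exact ⟨r, hbj.1 hr⟩
    exact hs _ hgp

end Groth.Agent.S2351
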