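import Groth.Statements.S4455
import Groth.Agent.Lib.Japanese.Curve
import Groth.Agent.Lib.NormalExt.Basic

set_option autoImplicit false
universe u
open CategoryTheory CategoryTheory.Limits AlgebraicGeometry
open EGA2

namespace Groth.Agent.S4455

/-- An integral algebraic curve X over a field k is complete (proper over k) if and only if its
normalization X', with the composite structure morphism X' ⟶ X ⟶ Spec k, is proper over k. (The
quasi-compactness and quasi-separatedness binders on the morphism from the generic point always
hold; they are needed only to form the normalization.) -/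
theorem result (k : Type u) [Field k] (X : Scheme.{u})
    [X.Over (Spec (CommRingCat.of k))] [LocallyOfFiniteType (X ↘ (Spec (CommRingCat.of k)))]
    [QuasiCompact (X ↘ (Spec (CommRingCat.of k)))] [IsSeparated (X ↘ (Spec (CommRingCat.of k)))] [IsIntegral X]
    (hX : ∀ x : X, IsClosed ({x} : Set X) → ringKrullDim (X.presheaf.stalk x) = 1)
    [QuasiCompact (X.fromSpecStalk (genericPoint X))] [QuasiSeparated (X.fromSpecStalk (genericPoint X))] :
    IsProper (X ↘ (Spec (CommRingCat.of k))) ↔ IsProper (Curv2.normalizationι X ≫ (X ↘ (Spec (CommRingCat.of k)))) := by
  have hfin : IsFinite (Curv2.normalizationι X) :=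
    GrothLib.Japanese.isFinite_fromNormalization k (X ↘ Spec (CommRingCat.of k)) (RingHom.id X.functionField)
      (RingHom.Finite.id _) (X.fromSpecStalk (genericPoint X)) (by rw [CommRingCat.ofHom_id, Spec.map_id]; exact (Category.id_comp _).symm)
  haveI := hfin
  constructor
  · intro h
    infer_instance
  · intro h
    let ν := Curv2.normalizationι X
    haveI : Surjective ν := by
      haveI : IsDominant ν := by
        haveI hd : IsDominant ((X.fromSpecStalk (genericPoint X)).toNormalization ≫ ν) := by
          have e : (X.fromSpecStalk (genericPoint X)).toNormalization ≫ ν = X.fromSpecStalk (genericPoint X) :=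
            Scheme.Hom.toNormalization_fromNormalization _
          rw [e]
          exact GrothLib.NormalExt.isDominant_fromSpecStalk_genericPoint
        exact IsDominant.of_comp (X.fromSpecStalk (genericPoint X)).toNormalization ν
      exact ⟨Set.range_eq_univ.mp (by rw [← ν.isClosedMap.isClosed_range.closure_eq]; exact ν.denseRange.closure_range)⟩
    haveI := h.toUniversallyClosed
    haveI : UniversallyClosed (X ↘ Spec (CommRingCat.of k)) :=
      UniversallyClosed.of_comp_surjective ν _
    exact {}

end Groth.Agent.S4455
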