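import Groth.Statements.S5385
import Groth.Agent.Lib.CMFree.FiniteFlat
import Mathlib.RingTheory.KrullDimension.Regular
import Mathlib.RingTheory.Regular.Flat
import Mathlib.RingTheory.Ideal.AssociatedPrime.Finiteness
import Mathlib.RingTheory.Jacobson.Ring
import Mathlib.AlgebraicGeometry.Morphisms.FiniteType
import Mathlib.Topology.JacobsonSpace

set_option autoImplicit false
universe u
open CategoryTheory CategoryTheory.Limits MonoidalCategory CartesianMonoidalCategory MonObj GrpObj AlgebraicGeometry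
open SGA3

namespace Groth.Agent.S5385

open RingTheory.Sequence in
/-- A weakly regular sequence generating a proper ideal, maximal in the sense that modulo it every
element is a unit or a zero divisor. -/
lemma exists_max_regular (B : Type u) [CommRing B] [IsNoetherianRing B] [Nontrivial B] :
    ∃ rs : List B, IsWeaklyRegular B rs ∧ Ideal.ofList rs ≠ ⊤ ∧
      ∀ r : B ⧸ Ideal.ofList rs, IsUnit r ∨ r ∉ nonZeroDivisors (B ⧸ Ideal.ofList rs) := by
  let s : Set (Ideal B) := {I | ∃ rs : List B, IsWeaklyRegular B rs ∧ Ideal.ofList rs ≠ ⊤ ∧ Ideal.ofList rs = I}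
  have hs : s.Nonempty := ⟨⊥, [], IsWeaklyRegular.nil B B, by simp [Ideal.ofList_nil], Ideal.ofList_nil⟩
  obtain ⟨I, ⟨rs, h1, h2, rfl⟩, hmax⟩ := set_has_maximal_iff_noetherian.mpr inferInstance s hs
  refine ⟨rs, h1, h2, fun r => ?_⟩
  by_contra hr
  push_neg at hr
  obtain ⟨hu, hnz⟩ := hr
  obtain ⟨b, rfl⟩ := Ideal.Quotient.mk_surjective r
  have hreg : IsWeaklyRegular B (rs ++ [b]) := by
    rw [isWeaklyRegular_append_iff]
    refine ⟨h1, (isWeaklyRegular_singleton_iff _ b).mpr ?_⟩
    intro z w hzw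
    obtain ⟨z, rfl⟩ := Submodule.Quotient.mk_surjective _ z
    obtain ⟨w, rfl⟩ := Submodule.Quotient.mk_surjective _ w
    have hI : (Ideal.ofList rs • ⊤ : Submodule B B) = Ideal.ofList rs := by
      rw [smul_eq_mul, Ideal.mul_top]
    simp only [← Submodule.Quotient.mk_smul, Submodule.Quotient.eq] at hzw ⊢
    rw [hI] at hzw ⊢
    rw [smul_eq_mul, smul_eq_mul, ← mul_sub, ← Ideal.Quotient.eq_zero_iff_mem, map_mul] at hzw
    exact Ideal.Quotient.eq_zero_iff_mem.mp ((mul_right_mem_nonZeroDivisors_eq_zero_iff hnz).mp (by rwa [mul_comm] at hzw))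
  have hb : b ∉ Ideal.ofList rs := by
    intro hb
    haveI := Ideal.Quotient.nontrivial_iff.mpr h2
    rw [Ideal.Quotient.eq_zero_iff_mem.mpr hb] at hnz
    exact zero_notMem_nonZeroDivisors hnz
  have hlt : Ideal.ofList rs < Ideal.ofList (rs ++ [b]) := by
    rw [Ideal.ofList_append, Ideal.ofList_singleton]
    refine lt_of_le_of_ne le_sup_left fun e => hb ?_
    rw [e]
    exact le_sup_right (a := Ideal.ofList rs) (Ideal.mem_span_singleton_self b)
  have htop : Ideal.ofList (rs ++ [b]) ≠ ⊤ := by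
    intro e
    apply hu
    rw [Ideal.ofList_append, Ideal.ofList_singleton, Ideal.eq_top_iff_one, Submodule.mem_sup] at e
    obtain ⟨i, hi, j, hj, hij⟩ := e
    obtain ⟨c, rfl⟩ := Ideal.mem_span_singleton'.mp hj
    refine IsUnit.of_mul_eq_one (Ideal.Quotient.mk _ c) ?_
    rw [mul_comm, ← map_mul, ← map_one (Ideal.Quotient.mk (Ideal.ofList rs)), ← hij, map_add,
      Ideal.Quotient.eq_zero_iff_mem.mpr hi, zero_add]
  exact hmax _ ⟨_, hreg, htop, rfl⟩ hlt

/-- If every element of a noetherian Jacobson ring quotient is a unit or a zero divisor, its primes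
are maximal. -/
lemma isMaximal_of_le {B : Type u} [CommRing B] [IsNoetherianRing B] [IsJacobsonRing B] (I : Ideal B)
    (h : ∀ r : B ⧸ I, IsUnit r ∨ r ∉ nonZeroDivisors (B ⧸ I)) :
    ∀ P : Ideal B, P.IsPrime → I ≤ P → P.IsMaximal := by
  classical
  have hC : ∀ Q : Ideal (B ⧸ I), Q.IsPrime → Q.IsMaximal := by
    intro Q hQ
    have hfin : {M : Ideal (B ⧸ I) | M.IsMaximal}.Finite := by
      refine ((associatedPrimes.finite (B ⧸ I) (B ⧸ I))).subset fun M hM => ?_
      have hsub : (M : Set (B ⧸ I)) ⊆ ⋃ P ∈ associatedPrimes (B ⧸ I) (B ⧸ I), (P : Set (B ⧸ I)) := by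
        intro r hr
        rw [biUnion_associatedPrimes_eq_compl_nonZeroDivisors]
        exact (h r).resolve_left fun hu => hM.ne_top (Ideal.eq_top_of_isUnit_mem _ hr hu)
      have hfinA := associatedPrimes.finite (B ⧸ I) (B ⧸ I)
      have := (M.subset_union_prime_finite hfinA (f := id) ⊥ ⊥ (fun P hP _ _ => hP.1)).mp hsub
      obtain ⟨P, hP, hle⟩ := this
      rwa [hM.eq_of_le hP.1.ne_top hle]
    have hj : Ideal.jacobson Q = Q := IsJacobsonRing.out' Q hQ.isRadical
    have hle : (hfin.toFinset.filter fun M => Q ≤ M).inf id ≤ Q := by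
      refine le_trans ?_ hj.le
      exact le_sInf fun M hM => Finset.inf_le (f := id) (Finset.mem_filter.mpr ⟨hfin.mem_toFinset.mpr hM.2, hM.1⟩)
    obtain ⟨M, hM, hMQ⟩ := hQ.inf_le'.mp hle
    obtain ⟨hM1, hM2⟩ := Finset.mem_filter.mp hM
    have hM' : M.IsMaximal := hfin.mem_toFinset.mp hM1
    exact le_antisymm hMQ hM2 ▸ hM'
  intro P hP hle
  have hker : RingHom.ker (Ideal.Quotient.mk I) ≤ P := by rwa [Ideal.mk_ker]
  haveI := hC _ (Ideal.map_isPrime_of_surjective Ideal.Quotient.mk_surjective hker)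
  have := Ideal.comap_isMaximal_of_surjective (K := P.map (Ideal.Quotient.mk I)) _ Ideal.Quotient.mk_surjective
  rwa [Ideal.comap_map_of_surjective' _ Ideal.Quotient.mk_surjective, sup_eq_left.mpr hker] at this

/-- Let A be an artinian ring and X a nonempty scheme locally of finite type over A. Then X has a closed
point whose local ring is Cohen–Macaulay. -/
theorem result (A : Type u) [CommRing A] [IsArtinianRing A] (X : Scheme.{u})
    (f : X ⟶ Spec (CommRingCat.of A)) [LocallyOfFiniteType f] [Nonempty X] :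
    ∃ x : X, IsClosed ({x} : Set X) ∧ LocCoh.IsCohenMacaulayLocalRing (X.presheaf.stalk x) := by
  obtain ⟨y⟩ := (inferInstance : Nonempty X)
  obtain ⟨_, ⟨U, hU, rfl⟩, hyU, -⟩ :=
    X.isBasis_affineOpens.exists_subset_of_mem_open (Set.mem_univ y) isOpen_univ
  let φ : CommRingCat.of A ⟶ Γ(X, U) := (Scheme.ΓSpecIso (CommRingCat.of A)).inv ≫ f.appLE ⊤ U le_top
  have hφ : φ.hom.FiniteType := by
    rw [CommRingCat.hom_comp]
    exact (f.finiteType_appLE (isAffineOpen_top _) hU le_top).comp
      (RingHom.FiniteType.of_surjective _ (ConcreteCategory.bijective_of_isIso (Scheme.ΓSpecIso (CommRingCat.of A)).inv).2)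
  letI := φ.hom.toAlgebra
  haveI : Algebra.FiniteType A Γ(X, U) := hφ
  haveI : IsNoetherianRing Γ(X, U) := Algebra.FiniteType.isNoetherianRing A _
  haveI : IsJacobsonRing Γ(X, U) := isJacobsonRing_of_finiteType (A := A)
  haveI : Nonempty U := ⟨⟨y, hyU⟩⟩
  haveI : Nontrivial Γ(X, U) := inferInstance
  obtain ⟨rs, hrs, hI, hmax⟩ := exists_max_regular Γ(X, U)
  obtain ⟨m, hm, hle⟩ := Ideal.exists_le_maximal _ hI
  have hmaxC := isMaximal_of_le (Ideal.ofList rs) hmax
  let p : PrimeSpectrum Γ(X, U) := ⟨m, hm.isPrime⟩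
  let x : X := hU.fromSpec p
  have hxU : x ∈ U := by rw [← SetLike.mem_coe, ← hU.range_fromSpec]; exact Set.mem_range_self p
  refine ⟨x, ?_, ?_⟩
  · haveI : JacobsonSpace X := LocallyOfFiniteType.jacobsonSpace f
    have hp : p ∈ closedPoints (PrimeSpectrum Γ(X, U)) := (PrimeSpectrum.isClosed_singleton_iff_isMaximal p).mpr hm
    have := hU.fromSpec.isOpenEmbedding.preimage_closedPoints
    exact (Set.ext_iff.mp this p).mpr hp
  · letI := X.presheaf.algebra_section_stalk ⟨x, hxU⟩
    haveI hloc : IsLocalization.AtPrime (X.presheaf.stalk x) m := hU.isLocalization_stalk' p hxU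
    haveI : IsNoetherianRing (X.presheaf.stalk x) :=
      IsLocalization.isNoetherianRing m.primeCompl _ inferInstance
    let rs' := rs.map (algebraMap Γ(X, U) (X.presheaf.stalk x))
    have hmem : ∀ r ∈ rs, r ∈ m := fun r hr => hle (Ideal.subset_span hr)
    have hreg : RingTheory.Sequence.IsRegular (X.presheaf.stalk x) rs' :=
      hrs.isRegular_of_isLocalization_of_mem (X.presheaf.stalk x) m hmem
    refine GrothLib.CMFree.isCohenMacaulayLocalRing_of_weaklyRegular _ rs' hreg.1 ?_ ?_
    · intro r hr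
      obtain ⟨r, hr', rfl⟩ := List.mem_map.mp hr
      exact (IsLocalization.AtPrime.to_map_mem_maximal_iff _ m r).mpr (hmem r hr')
    · rw [← ringKrullDim_add_length_eq_ringKrullDim_of_isRegular rs' hreg]
      have : Ring.KrullDimLE 0 (X.presheaf.stalk x ⧸ Ideal.ofList rs') := by
        refine Ring.KrullDimLE.mk₀ fun Q hQ => ?_
        have hQ' : (Q.comap (Ideal.Quotient.mk (Ideal.ofList rs'))).IsPrime := hQ.comap _
        set Q' := Q.comap (Ideal.Quotient.mk (Ideal.ofList rs'))
        have hle' : Ideal.ofList rs' ≤ Q' := fun z hz => by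
          change Ideal.Quotient.mk _ z ∈ Q
          rw [Ideal.Quotient.eq_zero_iff_mem.mpr hz]
          exact Q.zero_mem
        have h2 : Ideal.ofList rs ≤ Q'.comap (algebraMap Γ(X, U) (X.presheaf.stalk x)) := by
          rw [← Ideal.map_le_iff_le_comap, Ideal.map_ofList]
          exact hle'
        have h3 : (Q'.comap (algebraMap Γ(X, U) (X.presheaf.stalk x))).IsMaximal :=
          hmaxC _ (hQ'.comap _) h2
        have h4 : Q'.comap (algebraMap Γ(X, U) (X.presheaf.stalk x)) ≤ m := by
          rw [← IsLocalization.AtPrime.under_maximalIdeal (X.presheaf.stalk x) m]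
          exact Ideal.comap_mono (IsLocalRing.le_maximalIdeal hQ'.ne_top)
        have h5 : Q' = IsLocalRing.maximalIdeal (X.presheaf.stalk x) := by
          have e : Ideal.under Γ(X, U) Q' = m := h3.eq_of_le hm.ne_top h4
          rw [← IsLocalization.map_comap m.primeCompl _ Q', e,
            IsLocalization.AtPrime.map_eq_maximalIdeal m]
        have h6 : Q'.IsMaximal := h5 ▸ IsLocalRing.maximalIdeal.isMaximal _
        have := Ideal.map_comap_of_surjective (Ideal.Quotient.mk (Ideal.ofList rs')) Ideal.Quotient.mk_surjective Q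
        rw [← this]
        refine (Ideal.map_eq_top_or_isMaximal_of_surjective _ Ideal.Quotient.mk_surjective h6).resolve_left ?_
        rw [this]; exact hQ.ne_top
      have h0 : ringKrullDim (X.presheaf.stalk x ⧸ Ideal.ofList rs') ≤ 0 := by
        exact_mod_cast Ring.krullDimLE_iff.mp this
      calc _ ≤ (0 : WithBot ℕ∞) + (rs'.length : WithBot ℕ∞) := add_le_add h0 le_rfl
        _ = _ := zero_add _

end Groth.Agent.S5385
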