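import Groth.Statements.S3029
import Groth.Agent.S5385
import Groth.Agent.S9808
import Groth.Agent.S9768
import Groth.Agent.Lib.HB26.Spread
import Groth.Prelude

set_option autoImplicit false
universe u
open CategoryTheory MonoidalCategory CartesianMonoidalCategory MonObj GrpObj AlgebraicGeometry TensorProduct
open SGA3

namespace Groth.Agent.S3029

/-- Translation carries one point to any other. -/
theorem exists_translation {S : Scheme.{u}} (P : Over S) [GrpObj P] (y z : 𝟙_ (Over S) ⟶ P) :
    ∃ α : P ≅ P, y ≫ α.hom = z := by
  refine ⟨(GrpObj.mulRight (A := P) y).symm ≪≫ (GrpObj.mulRight (A := P) z), ?_⟩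
  dsimp only [Iso.trans_hom, Iso.symm_hom]
  rw [← Category.assoc, ← Iso.eq_comp_inv]
  simp [CartesianMonoidalCategory.comp_lift_assoc]

/-- Let G be a group scheme locally of finite type over a field k and x a point of G. Then the local
ring of G at x is Cohen–Macaulay. (This is the case of a base field; the published statement treats
flat groups over a local Artinian ring.) -/
theorem result (k : Type u) [Field k] (G : Over (Spec (CommRingCat.of k))) [GrpObj G]
    [LocallyOfFiniteType G.hom] (x : G.left) :
    LocCoh.IsCohenMacaulayLocalRing (G.left.presheaf.stalk x) := by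
  let K := AlgebraicClosure k
  let b : Spec (CommRingCat.of K) ⟶ Spec (CommRingCat.of k) := Spec.map (CommRingCat.ofHom (algebraMap k K))
  let P : Over (Spec (CommRingCat.of K)) := Red.bc b G
  letI : GrpObj P := Red.grpObj_bc b G
  haveI : LocallyOfFiniteType P.hom := inferInstanceAs (LocallyOfFiniteType (Limits.pullback.snd G.hom b))
  haveI : IsLocallyNoetherian P.left := LocallyOfFiniteType.isLocallyNoetherian P.hom
  haveI : IsLocallyNoetherian G.left := LocallyOfFiniteType.isLocallyNoetherian G.hom
  haveI : Nonempty P.left := ⟨(η[P] : 𝟙_ (Over (Spec (CommRingCat.of K))) ⟶ P).left.base (IsLocalRing.closedPoint K)⟩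
  obtain ⟨z, hz, hzcm⟩ := Groth.Agent.S5385.result K P.left P.hom
  have hall : ∀ y : P.left, LocCoh.IsCohenMacaulayLocalRing (P.left.presheaf.stalk y) := by
    refine (Groth.Agent.S9808.result P.left).2 fun y hy => ?_
    let z' : 𝟙_ (Over (Spec (CommRingCat.of K))) ⟶ P :=
      Over.homMk _ ((pointEquivClosedPoint P.hom).symm ⟨z, hz⟩).2
    let y' : 𝟙_ (Over (Spec (CommRingCat.of K))) ⟶ P :=
      Over.homMk _ ((pointEquivClosedPoint P.hom).symm ⟨y, hy⟩).2
    obtain ⟨α, hα⟩ := exists_translation P y' z'
    have hα' : α.hom.left y = z := by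
      simpa [y', z', pointEquivClosedPoint] using congr(($hα).left (IsLocalRing.closedPoint K))
    haveI : IsIso α.hom.left := inferInstanceAs (IsIso ((Over.forget _).map α.hom))
    haveI : LocCoh.IsCohenMacaulayLocalRing (P.left.presheaf.stalk (α.hom.left y)) := by rw [hα']; exact hzcm
    exact GrothLib.HB26.isCohenMacaulayLocalRing_of_ringEquiv (asIso (α.hom.left.stalkMap y)).commRingCatIsoToRingEquiv
  haveI : Flat b := by
    rw [HasRingHomProperty.Spec_iff (P := @Flat)]
    exact RingHom.flat_algebraMap_iff.2 inferInstance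
  haveI : Surjective b := ⟨fun p => ⟨IsLocalRing.closedPoint K, Subsingleton.elim (α := PrimeSpectrum k) _ _⟩⟩
  obtain ⟨x', rfl⟩ := (Limits.pullback.fst G.hom b).surjective x
  exact (Groth.Agent.S9768.result (Limits.pullback.fst G.hom b) (X := P.left) hall x').2

end Groth.Agent.S3029
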