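import Groth.Statements.S15136
import Groth.Agent.Lib.CohFlat0.Main

set_option autoImplicit false
universe u
open CategoryTheory CategoryTheory.Limits AlgebraicGeometry Opposite
open Models

namespace Groth.Agent.S15136

/-- Let R be a discrete valuation ring with residue field k and let X be a scheme proper and flat over
Spec R, with closed fibre X_s = X ×_R Spec k, the closed subscheme cut out by the ideal sheaf 𝔪_R ·
O_X. Then X is cohomologically flat over R in dimension 0, in the sense that the restriction map
H^0(X, O_X) → H^0(X_s, O_{X_s}) is surjective (equivalently H^0(X, O_X) ⊗_R k ≅ H^0(X_s, O_{X_s})),
precisely when H^1(X, O_X) has no R-torsion. (The published statement is for a proper relative curve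
over R, normal with smooth geometrically connected generic fibre and with the fraction field of R of
characteristic zero, and phrases cohomological flatness as the formation of the direct image of O_X
commuting with every base change; the argument uses only properness and flatness, and for X proper
and flat over R that condition amounts to surjectivity onto the sections of the closed fibre, which
is the form taken here.) -/
theorem result (R : Type u) [CommRing R] [IsDomain R]
    [IsDiscreteValuationRing R] (X : Scheme.{u}) [X.Over (Spec (CommRingCat.of R))]
    [IsProper (X ↘ Spec (CommRingCat.of R))] [Flat (X ↘ Spec (CommRingCat.of R))] :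
    Function.Surjective (Sheaf.H.map ((SheafOfModules.toSheaf X.ringCatSheaf).map
      (ClSub.toSubscheme (Models.specialFibreIdeal R (Over.mk (X ↘ Spec (CommRingCat.of R)))))) 0) ↔
      NoZeroSMulDivisors R (Coh.HH X (Coh.structureModule X) 1) := by
  exact GrothLib.CohFlat0.surjective_iff (X := X) R

end Groth.Agent.S15136
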