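import Groth.Statements.S15137
import Groth.Agent.Lib.RatSing29.NormalModel
import Groth.Agent.Lib.RatSing29.StalkR1
import Groth.Agent.Lib.RatSing29.AcyclicPush
import Groth.Agent.Lib.RatSing29.SeqH1
import Groth.Agent.Lib.Euler.Rank
import Groth.Agent.Lib.CotTangent.Components

set_option autoImplicit false
universe u
open CategoryTheory CategoryTheory.Limits AlgebraicGeometry Opposite
open Models

namespace Groth.Agent.S15137

/-- Let R be a discrete valuation ring whose fraction field K has characteristic zero, let C be a proper
K-curve, smooth of relative dimension 1 and geometrically connected over K, and let X be a model of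
C over R (flat and of finite type over R with generic fibre C) which is proper over R and normal, so
that X is a proper relative curve over R; assume X has rational singularities: the local ring of X
at every closed point defines a rational singularity (every proper morphism onto its spectrum from
an integral normal scheme which is an isomorphism over a nonempty open has H^1 of the structure
sheaf zero). Let ρ : X' → X be a proper morphism over R from an integral normal scheme X' which is
an isomorphism over some nonempty open of X (a proper birational morphism). Then the first higher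
direct image R^1ρ_*O_{X'} (of abelian sheaves) vanishes, the map H^1(X, O_X) → H^1(X, ρ_*O_{X'})
induced by the canonical map O_X → ρ_*O_{X'} is bijective, and consequently the R-modules H^1(X,
O_X) and H^1(X', O_{X'}) are isomorphic (the published statement asserts that the canonical pullback
map is an isomorphism; this row records the existence of an R-linear isomorphism only). -/
theorem result (R : Type u) [CommRing R]
    [IsDomain R] [IsDiscreteValuationRing R] [CharZero (FractionRing R)]
    (X C : Scheme.{u}) [X.Over (Spec (CommRingCat.of R))]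
    (f : C ⟶ Spec (CommRingCat.of (FractionRing R)))
    [SmoothOfRelativeDimension 1 f] [IsProper f] [GeometricallyConnected f]
    (hX : Models.IsModel R X (X ↘ Spec (CommRingCat.of R)) C f)
    [IsProper (X ↘ Spec (CommRingCat.of R))] (hn : Pi1.IsNormalScheme X)
    (hrat : ∀ x : X, IsClosed ({x} : Set X) → Curv2.IsRationalSing (X.presheaf.stalk x))
    (X' : Scheme.{u}) [X'.Over (Spec (CommRingCat.of R))] (ρ : X' ⟶ X) [IsProper ρ]
    (hρ : ρ ≫ (X ↘ Spec (CommRingCat.of R)) = X' ↘ Spec (CommRingCat.of R))
    [IsIntegral X'] (hn' : Pi1.IsNormalScheme X')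
    (hbir : ∃ U : X.Opens, (U : Set X).Nonempty ∧ IsIso (ρ ∣_ U)) :
    IsZero ((Coh.RpushAb ρ 1).obj (Coh.toAb (Coh.structureModule X'))) ∧
      Function.Bijective (Sheaf.H.map ((SheafOfModules.toSheaf X.ringCatSheaf).map (ClSub.unitToPush ρ)) 1) ∧
      Nonempty (Coh.HH X (Coh.structureModule X) 1 ≃ₗ[R] Coh.HH X' (Coh.structureModule X') 1) := by
  obtain ⟨hflat, -, -, g, hg⟩ := hX
  let XO : Over (Spec (CommRingCat.of R)) := Over.mk (X ↘ Spec (CommRingCat.of R))
  haveI : Flat XO.hom := hflat
  haveI : IsProper XO.hom := ‹IsProper (X ↘ Spec (CommRingCat.of R))›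
  haveI : Smooth f := SmoothOfRelativeDimension.smooth (n := 1) f
  haveI : ConnectedSpace (Spec (CommRingCat.of (FractionRing R))) := inferInstance
  haveI : UniversallyOpen f := inferInstance
  haveI : ConnectedSpace C := GeometricallyConnected.connectedSpace f f.isOpenMap
  haveI : IsIntegral C := GrothLib.Euler.isIntegral_of_smooth_connected (FractionRing R) f
  have hC : topologicalKrullDim C = 1 := GrothLib.CotTangent.topologicalKrullDim_integral_of_smoothOfRelativeDimension f 1
  haveI : IsIntegral X := GrothLib.RatSing29.isIntegral_of_normalModel (X := XO) hg hn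
  haveI : IsLocallyNoetherian X := LocallyOfFiniteType.isLocallyNoetherian (X ↘ Spec (CommRingCat.of R))
  haveI : CompactSpace X := QuasiCompact.compactSpace_of_compactSpace (X ↘ Spec (CommRingCat.of R))
  haveI : IsNoetherian X := {}
  have hdim : topologicalKrullDim X ≤ 2 := GrothLib.RatSing29.dim_le_two_of_normalModel (X := XO) hg hn hC.le
  have hgen : ¬ IsClosed ({genericPoint X} : Set X) := by
    haveI : IsIntegral XO.left := ‹IsIntegral X›
    exact GrothLib.RatSing29.not_isClosed_genericPoint (X := XO) hg
  have hz := fun p hp => GrothLib.RatSing29.isZero_RpushAb_structure ρ hn' hbir hdim hrat hgen p hp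
  obtain ⟨V, hV, hiso⟩ := hbir
  have happ := GrothLib.RatSing29.isIso_app_of_birational ρ (fun z => (hn z).2) V hV hiso
  haveI : IsIso ((Scheme.Modules.toPresheaf X).map (ClSub.unitToPush ρ)) := by
    haveI : ∀ O, IsIso (((Scheme.Modules.toPresheaf X).map (ClSub.unitToPush ρ)).app O) := fun O => by
      haveI := happ O.unop
      rw [ConcreteCategory.isIso_iff_bijective]
      exact ConcreteCategory.bijective_of_isIso (ρ.app O.unop)
    exact NatIso.isIso_of_isIso_app _
  haveI : IsIso (ClSub.unitToPush ρ) := isIso_of_reflects_iso _ (Scheme.Modules.toPresheaf X)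
  let η : Coh.structureModule X ≅ (Scheme.Modules.pushforward ρ).obj (Coh.structureModule X') := asIso (ClSub.unitToPush ρ)
  obtain ⟨e₁, he₁⟩ := GrothLib.FormalFn.exists_hh_equiv (A := R) η 1
  have hac : GrothLib.Cohom.AcyclicOn ρ.base X.affineOpens (Coh.toAb (Coh.structureModule X')) := fun W hW n =>
    GrothLib.RatSing29.subsingleton_ext_preimage_affine ρ hn' ⟨V, hV, hiso⟩ hdim hrat hgen (n + 1) (Nat.le_add_left 1 n) hW
  obtain ⟨e₂⟩ := GrothLib.RatSing29.nonempty_push_linearEquiv (A := R) ρ hρ.symm (Coh.structureModule X') hac 1
  refine ⟨hz 1 le_rfl, ?_, ⟨e₁.trans e₂.symm⟩⟩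
  have he : ⇑(Sheaf.H.map ((SheafOfModules.toSheaf X.ringCatSheaf).map (ClSub.unitToPush ρ)) 1) = ⇑e₁ :=
    funext fun x => (he₁ x).symm
  rw [he]
  exact e₁.bijective

end Groth.Agent.S15137
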