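import Groth.Statements.S2105
import Mathlib
-- import your own Groth.Agent.* helpers here

set_option autoImplicit false
universe u
open CAlg

namespace Groth.Agent.S2105

/-- Appending to an `H_1`-regular sequence `f` a sequence `g` whose image modulo the ideal `(f)` is
`H_1`-regular yields an `H_1`-regular sequence. -/
theorem result {A : Type u} [CommRing A] {n m : ℕ} (f : Fin n → A)
    (g : Fin m → A) (hf : CAlgX.IsH1Regular f)
    (hg : CAlgX.IsH1Regular (fun j => Ideal.Quotient.mk (Ideal.span (Set.range f)) (g j))) :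
    CAlgX.IsH1Regular (Fin.append f g) := by
  classical
  intro a ha
  set K : Submodule A (Fin (n + m) → A) := Submodule.span A
    {v | ∃ i j : Fin (n + m), v = Pi.single i (Fin.append f g j) - Pi.single j (Fin.append f g i)}
    with hK
  rw [Fin.sum_univ_add] at ha
  simp only [Fin.append_left, Fin.append_right] at ha
  -- the two blocks as linear maps
  let ιL : (Fin n → A) →ₗ[A] (Fin (n + m) → A) :=
    { toFun := fun b => Fin.append b 0
      map_add' := fun b b' => funext fun k => Fin.addCases (by simp) (by simp) k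
      map_smul' := fun r b => funext fun k => Fin.addCases (by simp) (by simp) k }
  have hsingle : ∀ (i : Fin n) (r : A), ιL (Pi.single i r) = Pi.single (Fin.castAdd m i) r := by
    intro i r
    refine funext fun k => Fin.addCases (fun l => ?_) (fun l => ?_) k
    · simp [ιL, Pi.single_apply, Fin.castAdd_inj]
    · simp [ιL, Pi.single_apply, Fin.ext_iff]
      omega
  have hfK : ∀ b, ∑ i, b i * f i = 0 → ιL b ∈ K := by
    intro b hb
    have h : ιL b ∈ Submodule.map ιL (Submodule.span A
        {v : Fin n → A | ∃ i j : Fin n, v = Pi.single i (f j) - Pi.single j (f i)}) :=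
      Submodule.mem_map_of_mem (hf b hb)
    rw [Submodule.map_span] at h
    refine Submodule.span_le.mpr ?_ h
    rintro _ ⟨_, ⟨i, j, rfl⟩, rfl⟩
    exact Submodule.subset_span ⟨Fin.castAdd m i, Fin.castAdd m j, by
      simp [map_sub, hsingle]⟩
  -- the tail is a combination of trivial relations modulo `(f)`
  set I := Ideal.span (Set.range f) with hI
  have hrel : ∑ j, Ideal.Quotient.mk I (a (Fin.natAdd n j)) * Ideal.Quotient.mk I (g j) = 0 := by
    simp only [← map_mul, ← map_sum]
    rw [Ideal.Quotient.eq_zero_iff_mem, eq_neg_of_add_eq_zero_right ha]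
    exact neg_mem (sum_mem fun i _ => Ideal.mul_mem_left _ _ (Ideal.subset_span ⟨i, rfl⟩))
  have key : ∀ v ∈ Submodule.span (A ⧸ I) {v : Fin m → A ⧸ I |
      ∃ i j : Fin m, v = Pi.single i (Ideal.Quotient.mk I (g j)) - Pi.single j (Ideal.Quotient.mk I (g i))},
      ∃ w ∈ K, ∀ j, Ideal.Quotient.mk I (w (Fin.natAdd n j)) = v j := by
    intro v hv
    induction hv using Submodule.span_induction with
    | mem v hv =>
      obtain ⟨i, j, rfl⟩ := hv
      refine ⟨_, Submodule.subset_span ⟨Fin.natAdd n i, Fin.natAdd n j, rfl⟩, fun k => ?_⟩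
      simp [Pi.single_apply, Fin.natAdd_inj, apply_ite (Ideal.Quotient.mk I)]
    | zero => exact ⟨0, zero_mem K, fun j => map_zero _⟩
    | add v w _ _ hv hw =>
      obtain ⟨b, hb, hb'⟩ := hv
      obtain ⟨d, hd, hd'⟩ := hw
      exact ⟨b + d, add_mem hb hd, fun j => by simp [hb', hd']⟩
    | smul r v _ hv =>
      obtain ⟨b, hb, hb'⟩ := hv
      obtain ⟨r, rfl⟩ := Ideal.Quotient.mk_surjective r
      exact ⟨r • b, K.smul_mem r hb, fun j => by simp [hb']⟩
  obtain ⟨w, hwK, hw⟩ := key _ (hg _ hrel)
  have hmem : ∀ j, (a - w) (Fin.natAdd n j) ∈ I := fun j => by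
    rw [← Ideal.Quotient.eq_zero_iff_mem, Pi.sub_apply, map_sub, hw, sub_self]
  choose t ht using fun j => (Ideal.mem_span_range_iff_exists_fun).mp (hmem j)
  -- correct by mixed trivial relations
  let z : Fin (n + m) → A := ∑ j, ∑ i, t j i •
    (Pi.single (Fin.natAdd n j) (f i) - Pi.single (Fin.castAdd m i) (g j))
  have hzK : z ∈ K := sum_mem fun j _ => sum_mem fun i _ => K.smul_mem _ (Submodule.subset_span
    ⟨Fin.natAdd n j, Fin.castAdd m i, by simp⟩)
  have htail : ∀ j, (a - w - z) (Fin.natAdd n j) = 0 := fun j => by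
    rw [Pi.sub_apply, sub_eq_zero, ← ht j]
    simp [z, Finset.sum_apply, Pi.single_apply, Fin.natAdd_inj, Fin.ext_iff, mul_sub]
    have hne : ∀ i : Fin n, ¬ (n + (j : ℕ) = (i : ℕ)) := fun i => by omega
    simp [Fin.val_inj, hne]
  have hKrel : ∀ v ∈ K, ∑ k, v k * Fin.append f g k = 0 := by
    intro v hv
    induction hv using Submodule.span_induction with
    | mem v hv =>
      obtain ⟨i, j, rfl⟩ := hv
      simp only [Pi.sub_apply, sub_mul, Finset.sum_sub_distrib, Pi.single_apply, ite_mul, zero_mul,
        Finset.sum_ite_eq', Finset.mem_univ, if_true, mul_comm (Fin.append f g j), sub_self]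
    | zero => simp
    | add v w _ _ hv hw => simp [add_mul, Finset.sum_add_distrib, hv, hw]
    | smul r v _ hv => simp [mul_assoc, ← Finset.mul_sum, hv]
  have hv0 : ∑ k, (a - w - z) k * Fin.append f g k = 0 := by
    simp only [Pi.sub_apply, sub_mul, Finset.sum_sub_distrib, hKrel w hwK, hKrel z hzK, sub_zero]
    rw [Fin.sum_univ_add]
    simpa using ha
  rw [Fin.sum_univ_add] at hv0
  simp only [htail, zero_mul, Finset.sum_const_zero, add_zero, Fin.append_left] at hv0
  have hlast : a - w - z ∈ K := by
    have h := hfK _ hv0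
    have heq : ιL (fun i => (a - w - z) (Fin.castAdd m i)) = a - w - z := by
      refine funext fun k => Fin.addCases (fun l => ?_) (fun l => ?_) k
      · simp [ιL]
      · simp only [ιL, LinearMap.coe_mk, AddHom.coe_mk, Fin.append_right]
        exact (htail l).symm
    rwa [heq] at h
  have := add_mem (add_mem hlast hzK) hwK
  rwa [sub_add_cancel, sub_add_cancel] at this

end Groth.Agent.S2105
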