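import Groth.Agent.Lib.OmegaUniv.Stalk
import Groth.Agent.Lib.OX.PullbackTensor
import Groth.Agent.Lib.OX.Exact
import Groth.Agent.Lib.CurveMult.OmegaGen
import Groth.Agent.Lib.CotTangent.Scheme
import Groth.Agent.Lib.GenericSmooth.Basic
import Mathlib

set_option autoImplicit false
universe u
open CategoryTheory CategoryTheory.Limits AlgebraicGeometry TopologicalSpace
set_option backward.isDefEq.respectTransparency false

namespace Groth.Agent.S13458

open scoped TensorProduct

/-- differentials pull back injectively along a map which is formally etale at the generic point -/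
lemma injective_mapBaseChange (R A B L : Type u) [CommRing R] [CommRing A] [CommRing B] [CommRing L]
    [Algebra R A] [Algebra R B] [Algebra R L] [Algebra A B] [Algebra A L] [Algebra B L]
    [IsScalarTower R A B] [IsScalarTower R A L] [IsScalarTower R B L] [IsScalarTower A B L]
    [Algebra.FormallySmooth R A] [Algebra.FormallyEtale A L] (hinj : Function.Injective (algebraMap B L)) :
    Function.Injective (KaehlerDifferential.mapBaseChange R A B) := by
  let Φ : L ⊗[A] Ω[A⁄R] ≃ₗ[L] Ω[L⁄R] := KaehlerDifferential.tensorKaehlerEquivOfFormallyEtale R A L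
  let ι : B ⊗[A] Ω[A⁄R] →ₗ[A] L ⊗[A] Ω[A⁄R] := LinearMap.rTensor _ (IsScalarTower.toAlgHom A B L).toLinearMap
  have hι : Function.Injective ι := Module.Flat.rTensor_preserves_injective_linearMap _ hinj
  have key : ∀ z, KaehlerDifferential.map R R B L (KaehlerDifferential.mapBaseChange R A B z) =
      KaehlerDifferential.mapBaseChange R A L (ι z) := by
    intro z
    induction z using TensorProduct.induction_on with
    | zero => simp
    | tmul b w =>
      rw [KaehlerDifferential.mapBaseChange_tmul]
      show _ = KaehlerDifferential.mapBaseChange R A L (algebraMap B L b ⊗ₜ[A] w)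
      rw [KaehlerDifferential.mapBaseChange_tmul, map_smul, algebraMap_smul]
      congr 1
      refine LinearMap.congr_fun (show ((KaehlerDifferential.map R R B L).restrictScalars A).comp
        (KaehlerDifferential.map R R A B) = KaehlerDifferential.map R R A L from ?_) w
      refine Derivation.liftKaehlerDifferential_unique _ _ (Derivation.ext fun a => ?_)
      show KaehlerDifferential.map R R B L (KaehlerDifferential.map R R A B (KaehlerDifferential.D R A a)) =
        KaehlerDifferential.map R R A L (KaehlerDifferential.D R A a)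
      rw [KaehlerDifferential.map_D, KaehlerDifferential.map_D, KaehlerDifferential.map_D,
        ← IsScalarTower.algebraMap_apply]
    | add a b ha hb => simp only [map_add, ha, hb]
  intro a b hab
  apply hι
  apply Φ.injective
  have := (key a).symm.trans ((congrArg _ hab).trans (key b))
  exact this

/-- the stalk map of the compatible map is the comparison of differentials -/
lemma injective_stalk {X Y S : Scheme.{u}} (φ : X ⟶ Y) (pY : Y ⟶ S)
    (ΩY : Y.Modules) (dY : OmegaSh.Der pY ΩY) (hY : OmegaSh.IsUniversal dY)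
    (ΩX : X.Modules) (dX : OmegaSh.Der (φ ≫ pY) ΩX) (hX : OmegaSh.IsUniversal dX)
    (c : (Scheme.Modules.pullback φ).obj ΩY ⟶ ΩX) (hc : OmegaSh.IsDiffCompat φ dY dX c) (x : X)
    (hmap : letI := (φ.stalkMap x).hom.toAlgebra
      letI : Algebra (S.presheaf.stalk (pY (φ x))) (X.presheaf.stalk x) := ((φ ≫ pY).stalkMap x).hom.toAlgebra
      letI := (pY.stalkMap (φ x)).hom.toAlgebra
      haveI : IsScalarTower (S.presheaf.stalk (pY (φ x))) (Y.presheaf.stalk (φ x)) (X.presheaf.stalk x) :=
        IsScalarTower.of_algebraMap_eq' (congrArg CommRingCat.Hom.hom (Scheme.Hom.stalkMap_comp φ pY x))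
      Function.Injective (KaehlerDifferential.mapBaseChange (S.presheaf.stalk (pY (φ x)))
        (Y.presheaf.stalk (φ x)) (X.presheaf.stalk x))) :
    Function.Injective ((GrothLib.OX.stalk x).map c).hom := by
  let k0 := S.presheaf.stalk (pY (φ x))
  let A := Y.presheaf.stalk (φ x)
  let B := X.presheaf.stalk x
  letI : Algebra A B := (φ.stalkMap x).hom.toAlgebra
  letI : Algebra k0 B := ((φ ≫ pY).stalkMap x).hom.toAlgebra
  letI : Algebra k0 A := (pY.stalkMap (φ x)).hom.toAlgebra
  haveI : IsScalarTower k0 A B :=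
    IsScalarTower.of_algebraMap_eq' (congrArg CommRingCat.Hom.hom (Scheme.Hom.stalkMap_comp φ pY x))
  let eY : GrothLib.OmegaUniv.St (φ x) ΩY ≃ₗ[A] Ω[A⁄k0] := GrothLib.OmegaUniv.stalkEquiv (φ x) hY
  let eX0 := GrothLib.OmegaUniv.stalkEquiv (f := φ ≫ pY) (d := dX) x hX
  let eX : GrothLib.OmegaUniv.St x ΩX ≃ₗ[B] Ω[B⁄k0] :=
    eX0.trans (LinearEquiv.refl B (GrothLib.OmegaUniv.Kah (φ ≫ pY) x))
  let e : (GrothLib.OX.stalk x).obj ((Scheme.Modules.pullback φ).obj ΩY) ≃ₗ[B] B ⊗[A] GrothLib.OmegaUniv.St (φ x) ΩY :=
    ((GrothLib.OX.pullStalkIso φ x).app ΩY).toLinearEquiv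
  let E : (GrothLib.OX.stalk x).obj ((Scheme.Modules.pullback φ).obj ΩY) ≃ₗ[B] B ⊗[A] Ω[A⁄k0] :=
    e.trans (TensorProduct.AlgebraTensorModule.congr (LinearEquiv.refl B B) eY)
  let T : (GrothLib.OX.stalk x).obj ((Scheme.Modules.pullback φ).obj ΩY) →ₗ[B] Ω[B⁄k0] :=
    eX.toLinearMap.comp ((GrothLib.OX.stalk x).map c).hom
  let T' : (GrothLib.OX.stalk x).obj ((Scheme.Modules.pullback φ).obj ΩY) →ₗ[B] Ω[B⁄k0] :=
    (KaehlerDifferential.mapBaseChange k0 A B).comp E.toLinearMap
  have hT : T.comp e.symm.toLinearMap = T'.comp e.symm.toLinearMap := by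
    refine TensorProduct.AlgebraTensorModule.ext fun b n => ?_
    have hb : (b ⊗ₜ[A] n : B ⊗[A] GrothLib.OmegaUniv.St (φ x) ΩY) = b • (1 ⊗ₜ[A] n) := by
      rw [TensorProduct.smul_tmul', smul_eq_mul, mul_one]
    rw [hb, map_smul, map_smul]
    congr 1
    let F1 : GrothLib.OmegaUniv.St (φ x) ΩY →ₗ[A] Ω[B⁄k0] :=
      ((T.comp e.symm.toLinearMap).restrictScalars A).comp (TensorProduct.mk A B _ 1)
    let F2 : GrothLib.OmegaUniv.St (φ x) ΩY →ₗ[A] Ω[B⁄k0] :=
      ((T'.comp e.symm.toLinearMap).restrictScalars A).comp (TensorProduct.mk A B _ 1)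
    refine LinearMap.congr_fun (show F1 = F2 from LinearMap.eqLocus_eq_top.1
      (GrothLib.OmegaUniv.eq_top_of_dg_mem (φ x) hY (LinearMap.eqLocus F1 F2) fun U hU s => ?_)) n
    show T (e.symm (1 ⊗ₜ GrothLib.OmegaUniv.dg dY U hU s)) = T' (e.symm (1 ⊗ₜ GrothLib.OmegaUniv.dg dY U hU s))
    have hg : e.symm (1 ⊗ₜ[A] GrothLib.OmegaUniv.dg dY U hU s) =
        GrothLib.OX.germ (DCoh.toP.obj ((Scheme.Modules.pullback φ).obj ΩY)) (φ ⁻¹ᵁ U) hU
          (GrothLib.OX.pullSec φ ΩY U (dY.app U s)) := by
      rw [LinearEquiv.symm_apply_eq]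
      exact (GrothLib.OX.pullStalkIso_germ φ x ΩY U hU (dY.app U s)).symm
    have hs : X.presheaf.germ (φ ⁻¹ᵁ U) x hU (φ.app U s) = algebraMap A B (Y.presheaf.germ U (φ x) hU s) := by
      show _ = (φ.stalkMap x).hom (Y.presheaf.germ U (φ x) hU s)
      rw [← CommRingCat.comp_apply, ← CommRingCat.comp_apply, φ.germ_stalkMap]
    have h1 : T (e.symm (1 ⊗ₜ[A] GrothLib.OmegaUniv.dg dY U hU s)) =
        KaehlerDifferential.D k0 B (algebraMap A B (Y.presheaf.germ U (φ x) hU s)) := by
      rw [hg, ← hs]
      show eX (((GrothLib.OX.stalk x).map c).hom _) = _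
      have h := GrothLib.OX.stalkPre_map_germ (DCoh.toP.map c) (φ ⁻¹ᵁ U) hU (GrothLib.OX.pullSec φ ΩY U (dY.app U s))
      refine (congrArg eX h).trans ?_
      refine Eq.trans ?_ (GrothLib.OmegaUniv.stalkEquiv_dg x hX (φ ⁻¹ᵁ U) hU (φ.app U s))
      exact congrArg (fun t => eX (GrothLib.OX.germ (DCoh.toP.obj ΩX) (φ ⁻¹ᵁ U) hU t)) (hc U s)
    rw [h1]
    show _ = KaehlerDifferential.mapBaseChange k0 A B
      (TensorProduct.AlgebraTensorModule.congr (LinearEquiv.refl B B) eY
        (e (e.symm (1 ⊗ₜ[A] GrothLib.OmegaUniv.dg dY U hU s))))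
    rw [e.apply_symm_apply, TensorProduct.AlgebraTensorModule.congr_tmul, LinearEquiv.refl_apply,
      KaehlerDifferential.mapBaseChange_tmul, one_smul]
    rw [show eY (GrothLib.OmegaUniv.dg dY U hU s) = KaehlerDifferential.D k0 A (Y.presheaf.germ U (φ x) hU s) from
      GrothLib.OmegaUniv.stalkEquiv_dg (φ x) hY U hU s, KaehlerDifferential.map_D]
  have hTT : T = T' := LinearMap.ext fun z => by
    simpa using LinearMap.congr_fun hT (e z)
  have hT'inj : Function.Injective T' := hmap.comp E.injective
  rw [← hTT] at hT'inj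
  exact Function.Injective.of_comp hT'inj


/-- Let k be a field, X and Y integral schemes each smooth over Spec k and of the same dimension, and φ
: X → Y a morphism over k which is dominant and separable: the residue field of X at its generic
point is a separable algebraic extension of the residue field of Y at the image point (the function
field of Y, as φ is dominant). Let Ω_Y and Ω_X be sheaves of differentials of Y and of X over k,
given as universal derivations, and c : φ^*Ω_Y → Ω_X the compatible map (it sends the pullback of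
d_Y s to d_X(φ^♯ s)). Then c is a monomorphism of O_X-modules, so the relative cotangent sequence of
φ is exact on the left as well. (The injectivity is what is stated here; the identification of the
cokernel with Ω_{X/Y} is the general cotangent sequence.) -/
theorem result (k : Type u) [Field k] {X Y : Scheme.{u}}
    (pX : X ⟶ Spec (CommRingCat.of k)) (pY : Y ⟶ Spec (CommRingCat.of k)) (φ : X ⟶ Y) (w : φ ≫ pY = pX)
    [IsIntegral X] [IsIntegral Y] [Smooth pX] [Smooth pY]
    (hdim : topologicalKrullDim X = topologicalKrullDim Y) (hdom : DenseRange φ.base)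
    (hsep : letI := (φ.residueFieldMap (genericPoint X)).hom.toAlgebra
      Algebra.IsSeparable (Y.residueField (φ.base (genericPoint X))) (X.residueField (genericPoint X)))
    (ΩY : Y.Modules) (dY : OmegaSh.Der pY ΩY) (hY : OmegaSh.IsUniversal dY)
    (ΩX : X.Modules) (dX : OmegaSh.Der pX ΩX) (hX : OmegaSh.IsUniversal dX)
    (c : (Scheme.Modules.pullback φ).obj ΩY ⟶ ΩX) (hc : OmegaSh.IsDiffCompat φ dY dX c) :
    Mono c := by
  subst w
  haveI : IsLocallyNoetherian Y := LocallyOfFiniteType.isLocallyNoetherian pY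
  haveI := GrothLib.CotTangent.locallyOfFiniteType_of_over (φ ≫ pY) pY φ rfl
  rw [GrothLib.OX.mono_iff]
  intro x
  rw [ModuleCat.mono_iff_injective]
  refine injective_stalk φ pY ΩY dY hY ΩX dX hX c hc x ?_
  let η := genericPoint X
  let k0 := (Spec (CommRingCat.of k)).presheaf.stalk (pY (φ x))
  let A := Y.presheaf.stalk (φ x)
  let B := X.presheaf.stalk x
  letI : Algebra A B := (φ.stalkMap x).hom.toAlgebra
  letI : Algebra k0 B := ((φ ≫ pY).stalkMap x).hom.toAlgebra
  letI : Algebra k0 A := (pY.stalkMap (φ x)).hom.toAlgebra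
  haveI : IsScalarTower k0 A B :=
    IsScalarTower.of_algebraMap_eq' (congrArg CommRingCat.Hom.hom (Scheme.Hom.stalkMap_comp φ pY x))
  have hsp : η ⤳ x := (genericPoint_spec X).specializes trivial
  let sB : B ⟶ X.functionField := X.presheaf.stalkSpecializes hsp
  let L : Type u := X.functionField
  letI : Algebra B L := sB.hom.toAlgebra
  letI : Algebra A L := (sB.hom.comp (φ.stalkMap x).hom).toAlgebra
  letI : Algebra k0 L := (sB.hom.comp ((φ ≫ pY).stalkMap x).hom).toAlgebra
  haveI : IsScalarTower A B L := IsScalarTower.of_algebraMap_eq' rfl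
  haveI : IsScalarTower k0 B L := IsScalarTower.of_algebraMap_eq' rfl
  haveI : IsScalarTower k0 A L := IsScalarTower.of_algebraMap_eq fun a => by
    show sB.hom (algebraMap k0 B a) = sB.hom (algebraMap A B (algebraMap k0 A a))
    rw [← IsScalarTower.algebraMap_apply]
  haveI : Algebra.FormallySmooth k0 A := by
    have h : φ x ∈ pY.smoothLocus := by rw [pY.smoothLocus_eq_top]; trivial
    exact Scheme.Hom.mem_smoothLocus.1 h
  haveI : Algebra.FormallyEtale A L := by
    have hgen := GrothLib.GenericSmooth.map_genericPoint_of_denseRange φ hdom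
    have hspY : genericPoint Y ⤳ φ x := (genericPoint_spec Y).specializes trivial
    let σ : Y.functionField ⟶ Y.presheaf.stalk (φ η) := Y.presheaf.stalkSpecializes (specializes_of_eq hgen)
    haveI : IsIso σ := by
      refine ⟨Y.presheaf.stalkSpecializes (specializes_of_eq hgen.symm), ?_, ?_⟩ <;>
        simp [σ, TopCat.Presheaf.stalkSpecializes_comp, TopCat.Presheaf.stalkSpecializes_refl]
    have hσ : Function.Bijective σ.hom := ConcreteCategory.bijective_of_isIso σ
    have hfld : IsField (Y.presheaf.stalk (φ η)) :=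
      MulEquiv.isField (Field.toIsField Y.functionField) (asIso σ).commRingCatIsoToRingEquiv.symm.toMulEquiv
    have hη : (φ.stalkMap η).hom.FormallyEtale := by
      letI := hfld.toField
      haveI hess : (φ.stalkMap η).hom.EssFiniteType := LocallyOfFiniteType.stalkMap φ η
      algebraize [(φ.stalkMap η).hom]
      haveI : Algebra.EssFiniteType (Y.presheaf.stalk (φ η)) X.functionField := hess
      haveI : Algebra.IsSeparable (Y.presheaf.stalk (φ η)) X.functionField := by
        have hrY : Function.Bijective (Y.residue (φ η)).hom := ⟨(Y.residue (φ η)).hom.injective, Y.residue_surjective _⟩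
        have hrX : Function.Bijective (X.residue η).hom :=
          ⟨RingHom.injective (R := X.functionField) (X.residue η).hom, X.residue_surjective _⟩
        letI := (φ.residueFieldMap η).hom.toAlgebra
        haveI : Algebra.IsSeparable (Y.residueField (φ η)) (X.residueField η) := hsep
        refine Algebra.IsSeparable.of_equiv_equiv (RingEquiv.ofBijective _ hrY).symm (RingEquiv.ofBijective _ hrX).symm
          (RingHom.ext fun a => ?_)
        obtain ⟨a, rfl⟩ := hrY.2 a
        show algebraMap _ X.functionField ((RingEquiv.ofBijective _ hrY).symm ((RingEquiv.ofBijective _ hrY) a)) =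
          (RingEquiv.ofBijective _ hrX).symm ((φ.residueFieldMap η).hom ((Y.residue (φ η)).hom a))
        rw [RingEquiv.symm_apply_apply, RingEquiv.eq_symm_apply]
        show (X.residue η).hom ((φ.stalkMap η).hom a) = _
        exact (congrArg (fun t => t.hom a) (AlgebraicGeometry.Scheme.residue_residueFieldMap φ η)).symm
      exact Algebra.FormallyEtale.of_isSeparable (Y.presheaf.stalk (φ η)) X.functionField
    have hloc : (Y.presheaf.stalkSpecializes hspY).hom.FormallyEtale := by
      haveI : IsFractionRing (Y.presheaf.stalk (φ x)) Y.functionField := inferInstance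
      exact RingHom.formallyEtale_algebraMap.2 (Algebra.FormallyEtale.of_isLocalization
        (R := Y.presheaf.stalk (φ x)) (Rₘ := Y.functionField) (nonZeroDivisors _))
    have hiso : σ.hom.FormallyEtale := by
      algebraize [σ.hom]
      exact Algebra.FormallyEtale.of_equiv (AlgEquiv.ofBijective (Algebra.ofId Y.functionField (Y.presheaf.stalk (φ η))) hσ)
    have hall := (hloc.comp hiso).comp hη
    have heq : ((φ.stalkMap η).hom.comp (σ.hom.comp (Y.presheaf.stalkSpecializes hspY).hom)) = algebraMap A L := by
      show ((Y.presheaf.stalkSpecializes hspY ≫ σ) ≫ φ.stalkMap η).hom = (φ.stalkMap x ≫ sB).hom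
      congr 1
      simp only [σ, TopCat.Presheaf.stalkSpecializes_comp]
      exact Scheme.Hom.stalkSpecializes_stalkMap φ η x hsp
    rw [heq] at hall
    exact RingHom.formallyEtale_algebraMap.1 hall
  exact injective_mapBaseChange k0 A B L (IsFractionRing.injective B X.functionField)

end Groth.Agent.S13458
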