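import Groth.Statements.S14833
import Groth.Agent.S13458
import Groth.Agent.Lib.IdealModSec.Basic
import Groth.Agent.Lib.Chev28.SmoothDense
-- import your own Groth.Agent.* helpers here

set_option autoImplicit false
universe u
open CategoryTheory CategoryTheory.Limits AlgebraicGeometry
open OmegaSh

namespace Groth.Agent.S14833

open scoped TensorProduct in
/-- Differentials pull back injectively along a map which is formally smooth at the generic point. -/
lemma injective_mapBaseChange (R A B L : Type u) [CommRing R] [CommRing A] [CommRing B] [CommRing L]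
    [Algebra R A] [Algebra R B] [Algebra R L] [Algebra A B] [Algebra A L] [Algebra B L]
    [IsScalarTower R A B] [IsScalarTower R A L] [IsScalarTower R B L] [IsScalarTower A B L]
    [Algebra.FormallySmooth R A] [Algebra.FormallySmooth A L] (hinj : Function.Injective (algebraMap B L)) :
    Function.Injective (KaehlerDifferential.mapBaseChange R A B) := by
  have hΦ : Function.Injective (KaehlerDifferential.mapBaseChange R A L) := by
    haveI : Subsingleton (Algebra.H1Cotangent A L) := Algebra.FormallySmooth.subsingleton_h1Cotangent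
    refine (injective_iff_map_eq_zero _).2 fun z hz => ?_
    obtain ⟨w, rfl⟩ := (Algebra.H1Cotangent.exact_δ_mapBaseChange R A L z).1 hz
    rw [Subsingleton.elim w 0, map_zero]
  let ι : B ⊗[A] Ω[A⁄R] →ₗ[A] L ⊗[A] Ω[A⁄R] := LinearMap.rTensor _ (IsScalarTower.toAlgHom A B L).toLinearMap
  have hι : Function.Injective ι := Module.Flat.rTensor_preserves_injective_linearMap _ hinj
  have key : ∀ z, KaehlerDifferential.map R R B L (KaehlerDifferential.mapBaseChange R A B z) =
      KaehlerDifferential.mapBaseChange R A L (ι z) := by
    intro z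
    induction z using TensorProduct.induction_on with
    | zero => simp
    | tmul b w =>
      rw [KaehlerDifferential.mapBaseChange_tmul]
      show _ = KaehlerDifferential.mapBaseChange R A L (algebraMap B L b ⊗ₜ[A] w)
      rw [KaehlerDifferential.mapBaseChange_tmul, map_smul, algebraMap_smul]
      congr 1
      refine LinearMap.congr_fun (show ((KaehlerDifferential.map R R B L).restrictScalars A).comp
        (KaehlerDifferential.map R R A B) = KaehlerDifferential.map R R A L from ?_) w
      refine Derivation.liftKaehlerDifferential_unique _ _ (Derivation.ext fun a => ?_)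
      show KaehlerDifferential.map R R B L (KaehlerDifferential.map R R A B (KaehlerDifferential.D R A a)) =
        KaehlerDifferential.map R R A L (KaehlerDifferential.D R A a)
      rw [KaehlerDifferential.map_D, KaehlerDifferential.map_D, KaehlerDifferential.map_D,
        ← IsScalarTower.algebraMap_apply]
    | add a b ha hb => simp only [map_add, ha, hb]
  exact fun a b hab => hι (hΦ ((key a).symm.trans ((congrArg _ hab).trans (key b))))

open scoped TensorProduct in
/-- A map between integral schemes which is smooth at the generic point has injective pullback of differentials. -/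
theorem mono_of_smooth_genericPoint {S X Y : Scheme.{u}} (φ : X ⟶ Y) (pY : Y ⟶ S) [IsIntegral X] [IsIntegral Y]
    [Smooth pY] [LocallyOfFinitePresentation φ] (hgen : φ (genericPoint X) = genericPoint Y)
    (hfs : genericPoint X ∈ φ.smoothLocus)
    (ΩY : Y.Modules) (dY : OmegaSh.Der pY ΩY) (hY : OmegaSh.IsUniversal dY)
    (ΩX : X.Modules) (dX : OmegaSh.Der (φ ≫ pY) ΩX) (hX : OmegaSh.IsUniversal dX)
    (c : (Scheme.Modules.pullback φ).obj ΩY ⟶ ΩX) (hc : OmegaSh.IsDiffCompat φ dY dX c) : Mono c := by
  rw [GrothLib.OX.mono_iff]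
  intro x
  rw [ModuleCat.mono_iff_injective]
  refine Groth.Agent.S13458.injective_stalk φ pY ΩY dY hY ΩX dX hX c hc x ?_
  let η := genericPoint X
  let k0 := S.presheaf.stalk (pY (φ x))
  let A := Y.presheaf.stalk (φ x)
  let B := X.presheaf.stalk x
  letI : Algebra A B := (φ.stalkMap x).hom.toAlgebra
  letI : Algebra k0 B := ((φ ≫ pY).stalkMap x).hom.toAlgebra
  letI : Algebra k0 A := (pY.stalkMap (φ x)).hom.toAlgebra
  haveI : IsScalarTower k0 A B :=
    IsScalarTower.of_algebraMap_eq' (congrArg CommRingCat.Hom.hom (Scheme.Hom.stalkMap_comp φ pY x))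
  have hsp : η ⤳ x := (genericPoint_spec X).specializes trivial
  let sB : B ⟶ X.functionField := X.presheaf.stalkSpecializes hsp
  let L : Type u := X.functionField
  letI : Algebra B L := sB.hom.toAlgebra
  letI : Algebra A L := (sB.hom.comp (φ.stalkMap x).hom).toAlgebra
  letI : Algebra k0 L := (sB.hom.comp ((φ ≫ pY).stalkMap x).hom).toAlgebra
  haveI : IsScalarTower A B L := IsScalarTower.of_algebraMap_eq' rfl
  haveI : IsScalarTower k0 B L := IsScalarTower.of_algebraMap_eq' rfl
  haveI : IsScalarTower k0 A L := IsScalarTower.of_algebraMap_eq fun a => by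
    show sB.hom (algebraMap k0 B a) = sB.hom (algebraMap A B (algebraMap k0 A a))
    rw [← IsScalarTower.algebraMap_apply]
  haveI : Algebra.FormallySmooth k0 A := Scheme.Hom.mem_smoothLocus.1 (pY.smoothLocus_eq_top.ge trivial)
  haveI : Algebra.FormallySmooth A L := by
    have hspY : genericPoint Y ⤳ φ x := (genericPoint_spec Y).specializes trivial
    let σ : Y.functionField ⟶ Y.presheaf.stalk (φ η) := Y.presheaf.stalkSpecializes (specializes_of_eq hgen)
    haveI : IsIso σ := by
      refine ⟨Y.presheaf.stalkSpecializes (specializes_of_eq hgen.symm), ?_, ?_⟩ <;>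
        simp [σ, TopCat.Presheaf.stalkSpecializes_comp, TopCat.Presheaf.stalkSpecializes_refl]
    have hσ : Function.Bijective σ.hom := ConcreteCategory.bijective_of_isIso σ
    have hη : (φ.stalkMap η).hom.FormallySmooth := Scheme.Hom.mem_smoothLocus.1 hfs
    have hloc : (Y.presheaf.stalkSpecializes hspY).hom.FormallySmooth := by
      haveI : IsFractionRing (Y.presheaf.stalk (φ x)) Y.functionField := inferInstance
      exact RingHom.formallySmooth_algebraMap.2 (Algebra.FormallySmooth.of_isLocalization
        (R := Y.presheaf.stalk (φ x)) (Rₘ := Y.functionField) (nonZeroDivisors _))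
    have hiso : σ.hom.FormallySmooth := RingHom.FormallySmooth.of_bijective hσ
    have hall := (hloc.comp hiso).comp hη
    have heq : ((φ.stalkMap η).hom.comp (σ.hom.comp (Y.presheaf.stalkSpecializes hspY).hom)) = algebraMap A L := by
      show ((Y.presheaf.stalkSpecializes hspY ≫ σ) ≫ φ.stalkMap η).hom = (φ.stalkMap x ≫ sB).hom
      congr 1
      simp only [σ, TopCat.Presheaf.stalkSpecializes_comp]
      exact Scheme.Hom.stalkSpecializes_stalkMap φ η x hsp
    rw [heq] at hall
    exact RingHom.formallySmooth_algebraMap.1 hall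
  exact injective_mapBaseChange k0 A B L (IsFractionRing.injective B X.functionField)

theorem mono_of_smooth_genericPoint' {S X Y : Scheme.{u}} (φ : X ⟶ Y) (pY : Y ⟶ S) (pX : X ⟶ S) (w : φ ≫ pY = pX)
    [IsIntegral X] [IsIntegral Y] [Smooth pY] [LocallyOfFinitePresentation φ]
    (hgen : φ (genericPoint X) = genericPoint Y) (hfs : genericPoint X ∈ φ.smoothLocus)
    (ΩY : Y.Modules) (dY : OmegaSh.Der pY ΩY) (hY : OmegaSh.IsUniversal dY)
    (ΩX : X.Modules) (dX : OmegaSh.Der pX ΩX) (hX : OmegaSh.IsUniversal dX)
    (c : (Scheme.Modules.pullback φ).obj ΩY ⟶ ΩX) (hc : OmegaSh.IsDiffCompat φ dY dX c) : Mono c := by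
  subst w
  exact mono_of_smooth_genericPoint φ pY hgen hfs ΩY dY hY ΩX dX hX c hc

/-- Let k be a field and f : X → Z a surjective k-morphism between integral proper k-schemes, where X is
geometrically normal (its base change to an algebraic closure of k has integrally closed local
domains), Z is smooth over k, and the generic fibre of f is geometrically reduced over the function
field of Z (equivalently K(Z) ⊆ K(X) is separable). Let d_Z : O_Z → Ω_Z and d_X : O_X → Ω_X be
universal k-derivations (sheaves of Kähler differentials over k) and c : f^*Ω_Z → Ω_X the O_X-linear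
map compatible with them. Then for every open subscheme U ⊆ X which is smooth over k, the
restriction of c to U is a monomorphism of O_U-modules; in particular c is injective on the smooth
locus of X. -/
theorem result (k : Type u) [Field k]
    (X Z : Scheme.{u}) [X.Over (Spec (CommRingCat.of k))] [Z.Over (Spec (CommRingCat.of k))]
    [IsProper (X ↘ Spec (CommRingCat.of k))] [IsProper (Z ↘ Spec (CommRingCat.of k))] [IsIntegral X] [IsIntegral Z]
    [Smooth (Z ↘ Spec (CommRingCat.of k))]
    (hgn : ∀ (K : Type u) [Field K] [Algebra k K] [IsAlgClosure k K],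
      Pi1.IsNormalScheme (pullback (X ↘ Spec (CommRingCat.of k)) (Spec.map (CommRingCat.ofHom (algebraMap k K)))))
    (f : X ⟶ Z) [Surjective f] (hf : f ≫ (Z ↘ Spec (CommRingCat.of k)) = X ↘ Spec (CommRingCat.of k))
    (hsep : GeometricallyReduced (pullback.snd f (Z.fromSpecResidueField (genericPoint ↥Z))))
    (ΩZ : Z.Modules) (dZ : OmegaSh.Der (Z ↘ Spec (CommRingCat.of k)) ΩZ) (hdZ : OmegaSh.IsUniversal dZ)
    (ΩX : X.Modules) (dX : OmegaSh.Der (X ↘ Spec (CommRingCat.of k)) ΩX) (hdX : OmegaSh.IsUniversal dX)
    (c : (Scheme.Modules.pullback f).obj ΩZ ⟶ ΩX) (hc : OmegaSh.IsDiffCompat f dZ dX c)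
    (U : X.Opens) (hU : Smooth (U.ι ≫ (X ↘ Spec (CommRingCat.of k)))) :
    Mono ((Scheme.Modules.restrictFunctor U.ι).map c) := by
  have hgen : f (genericPoint X) = genericPoint Z := by
    apply IsGenericPoint.eq _ (genericPoint_spec Z)
    rw [isGenericPoint_def, ← Set.image_singleton, ← closure_image_closure f.continuous, genericPoint_closure,
      Set.image_univ]
    exact f.surjective.denseRange.closure_range
  haveI : IsLocallyNoetherian Z := LocallyOfFiniteType.isLocallyNoetherian (Z ↘ Spec (CommRingCat.of k))
  haveI := GrothLib.CotTangent.locallyOfFiniteType_of_over (X ↘ Spec (CommRingCat.of k))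
    (Z ↘ Spec (CommRingCat.of k)) f hf
  haveI : IsDominant f := ⟨f.surjective.denseRange⟩
  have hsep' : ∀ z, z = genericPoint Z → GeometricallyReduced (f.fiberToSpecResidueField z) := by
    rintro z rfl; exact hsep
  have hmem : genericPoint X ∈ f.smoothLocus := by
    have := GrothLib.Chev28.dense_smoothLocus_of_geomReduced f (hsep' _ hgen)
    obtain ⟨w, hw⟩ := this.nonempty
    exact (genericPoint_specializes w).mem_open f.smoothLocus.2 hw
  suffices Mono c by
    haveI := this
    refine ⟨fun {Q} a b hab => Scheme.Modules.hom_ext _ _ fun W => ?_⟩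
    ext m
    have h := ConcreteCategory.congr_hom (congrArg (fun φ => Scheme.Modules.Hom.app φ W) hab) m
    rw [← sub_eq_zero]
    obtain ⟨k', hk'⟩ := (GrothLib.IdealModSec.app_kernel c (U.ι ''ᵁ W)).2 (a.app W m - b.app W m) (by
      exact ((((Scheme.Modules.restrictFunctor U.ι).map c).app W).hom.map_sub (a.app W m) (b.app W m)).trans
        (sub_eq_zero.2 h))
    rw [kernel.ι_of_mono c] at hk'
    exact hk'.symm
  exact mono_of_smooth_genericPoint' f (Z ↘ Spec (CommRingCat.of k)) (X ↘ Spec (CommRingCat.of k)) hf hgen hmem
    ΩZ dZ hdZ ΩX dX hdX c hc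

end Groth.Agent.S14833
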