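import Groth.Statements.S12083
import Mathlib
import Groth.Agent.Lib.RelFP19.Basic
-- import your own Groth.Agent.* helpers here

set_option autoImplicit false
universe u
open CAlg

namespace Groth.Agent.S12083

/-- Let `R → A` be a finite type ring map with a surjective presentation `α : R[x_1, …, x_n] → A` and
`M` an `A`-module finitely presented relative to `R` (finitely presented as an `R[x_1, …,
x_n]`-module through `α`). For a ring map `R → R'` let `A' = R' ⊗_R A` (a pushout square) and `γ :
R'[z_1, …, z_k] → A'` any surjective presentation. Then `A' ⊗_A M = R' ⊗_R M` is finitely presented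
relative to `R'`, i.e. finitely presented as an `R'[z_1, …, z_k]`-module through `γ`. -/
theorem result {R A R' A' : Type u} [CommRing R] [CommRing A] [CommRing R'] [CommRing A']
    [Algebra R A] [Algebra R R'] [Algebra A A'] [Algebra R' A'] [Algebra R A'] [IsScalarTower R A A'] [IsScalarTower R R' A']
    [Algebra.IsPushout R A R' A'] [Algebra.FiniteType R A] (M : Type u) [AddCommGroup M] [Module A M] {n k : ℕ}
    (α : MvPolynomial (Fin n) R →ₐ[R] A) (hα : Function.Surjective α)
    (hM : @Module.FinitePresentation (MvPolynomial (Fin n) R) M _ _ (Module.compHom M α.toRingHom))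
    (γ : MvPolynomial (Fin k) R' →ₐ[R'] A') (hγ : Function.Surjective γ) :
    @Module.FinitePresentation (MvPolynomial (Fin k) R') (TensorProduct A A' M) _ _
      (Module.compHom (TensorProduct A A' M) γ.toRingHom) := by
  classical
  letI : Algebra (MvPolynomial (Fin n) R) (MvPolynomial (Fin n) R') := (MvPolynomial.map (algebraMap R R')).toAlgebra
  let φ : MvPolynomial (Fin n) R' →ₐ[R'] A' := MvPolynomial.aeval fun i => algebraMap A A' (α (MvPolynomial.X i))
  have hcomp : ∀ t, φ (MvPolynomial.map (algebraMap R R') t) = algebraMap A A' (α t) := by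
    intro t
    have h : (φ.restrictScalars R).comp (MvPolynomial.mapAlgHom (R := R) (S₁ := R) (S₂ := R') (Algebra.ofId R R')) =
        (IsScalarTower.toAlgHom R A A').comp α := MvPolynomial.algHom_ext fun i => by simp [φ]
    exact DFunLike.congr_fun h t
  let e := Algebra.IsPushout.equiv R A R' A'
  have he : ∀ a r, e (a ⊗ₜ[R] r) = algebraMap A A' a * algebraMap R' A' r := fun a r => by
    rw [Algebra.IsPushout.equiv_tmul]
  have hφ : Function.Surjective φ := by
    intro z
    obtain ⟨w, rfl⟩ := e.surjective z
    induction w using TensorProduct.induction_on with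
    | zero => exact ⟨0, by simp⟩
    | tmul a r =>
      obtain ⟨t, rfl⟩ := hα a
      refine ⟨MvPolynomial.map (algebraMap R R') t * MvPolynomial.C r, ?_⟩
      rw [map_mul, hcomp, he]
      simp [φ]
    | add a b ha hb =>
      obtain ⟨a', ha'⟩ := ha
      obtain ⟨b', hb'⟩ := hb
      exact ⟨a' + b', by rw [map_add, map_add, ha', hb']⟩
  set I : Ideal (MvPolynomial (Fin n) R') := (RingHom.ker α.toRingHom).map (MvPolynomial.map (algebraMap R R')) with hI
  have hker : RingHom.ker φ.toRingHom ≤ I := by
    let gq : MvPolynomial (Fin n) R →ₐ[R] MvPolynomial (Fin n) R' ⧸ I :=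
      (Ideal.Quotient.mkₐ R I).comp (MvPolynomial.mapAlgHom (R := R) (S₁ := R) (S₂ := R') (Algebra.ofId R R'))
    have hg : ∀ t ∈ RingHom.ker α.toRingHom, gq t = 0 := fun t ht =>
      Ideal.Quotient.eq_zero_iff_mem.2 (Ideal.mem_map_of_mem _ ht)
    let gA : A →ₐ[R] MvPolynomial (Fin n) R' ⧸ I :=
      (Ideal.Quotient.liftₐ (RingHom.ker α.toRingHom) gq hg).comp
        (Ideal.quotientKerAlgEquivOfSurjective hα).symm.toAlgHom
    have hgA : ∀ t, gA (α t) = gq t := by
      intro t
      show Ideal.Quotient.liftₐ (RingHom.ker α.toRingHom) gq hg ((Ideal.quotientKerAlgEquivOfSurjective hα).symm (α t)) = _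
      rw [show (Ideal.quotientKerAlgEquivOfSurjective hα).symm (α t) = Ideal.Quotient.mk _ t from
        (AlgEquiv.symm_apply_eq _).2 rfl]
      rfl
    let gR : R' →ₐ[R] MvPolynomial (Fin n) R' ⧸ I := IsScalarTower.toAlgHom R R' _
    let ψ : TensorProduct R A R' →ₐ[R] MvPolynomial (Fin n) R' ⧸ I :=
      Algebra.TensorProduct.lift gA gR fun x y => Commute.all _ _
    have hψ : ∀ p, ψ (e.symm (φ p)) = Ideal.Quotient.mk I p := by
      intro p
      induction p using MvPolynomial.induction_on with
      | C r =>
        have h : e.symm (φ (MvPolynomial.C r)) = 1 ⊗ₜ[R] r := by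
          rw [AlgEquiv.symm_apply_eq, he, map_one, one_mul]
          simp [φ]
        rw [h, Algebra.TensorProduct.lift_tmul, map_one, one_mul]
        rfl
      | add a b ha hb => simp only [map_add, ha, hb]
      | mul_X a i ha =>
        rw [map_mul, map_mul, map_mul, ha, map_mul]
        congr 1
        have h : e.symm (φ (MvPolynomial.X i)) = α (MvPolynomial.X i) ⊗ₜ[R] 1 := by
          rw [AlgEquiv.symm_apply_eq, he, map_one, mul_one]
          simp [φ]
        rw [h, Algebra.TensorProduct.lift_tmul, map_one, mul_one, hgA]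
        simp [gq]
    intro p hp
    rw [← Ideal.Quotient.eq_zero_iff_mem, ← hψ p, show φ p = 0 from hp, map_zero, map_zero]
  have key := GrothLib.RelFP19.fpVia_tensor (A' := A') α.toRingHom hα φ.toRingHom hφ hcomp ⊥ Submodule.fg_bot bot_le
    (hker.trans le_sup_left) hM
  exact (GrothLib.CAlgMisc.fpVia_iff_of_surjective φ hφ γ hγ).1 key

end Groth.Agent.S12083
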