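import Groth.Statements.S6993
import Groth.Agent.Lib.FlatFP.Syzygy
import Mathlib
-- import your own Groth.Agent.* helpers here

set_option autoImplicit false
universe u
open CAlg

namespace Groth.Agent.S6993

theorem transfer {R B P : Type u} [CommRing R] [CommRing B] [CommRing P] [Algebra R P] [Algebra R B]
    [Algebra.FinitePresentation R P] (M : Type u) [AddCommGroup M] [Module B M] {k : ℕ}
    (α : P →ₐ[R] B) (hα : Function.Surjective α)
    (β : MvPolynomial (Fin k) R →ₐ[R] B) (hβ : Function.Surjective β)
    (h : @Module.FinitePresentation P M _ _ (Module.compHom M α.toRingHom)) :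
    @Module.FinitePresentation (MvPolynomial (Fin k) R) M _ _ (Module.compHom M β.toRingHom) := by
  classical
  obtain ⟨N, g, hg, -⟩ := (inferInstance : Algebra.FinitePresentation R P).out
  choose p hp using fun j => hα (β (MvPolynomial.X j))
  choose q hq using fun i => hβ (α (g (MvPolynomial.X i)))
  let γ : MvPolynomial (Fin N ⊕ Fin k) R →ₐ[R] B :=
    MvPolynomial.aeval (Sum.elim (fun i => α (g (MvPolynomial.X i))) fun j => β (MvPolynomial.X j))
  let πn : MvPolynomial (Fin N ⊕ Fin k) R →ₐ[R] P :=
    MvPolynomial.aeval (Sum.elim (fun i => g (MvPolynomial.X i)) p)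
  let πk : MvPolynomial (Fin N ⊕ Fin k) R →ₐ[R] MvPolynomial (Fin k) R :=
    MvPolynomial.aeval (Sum.elim q MvPolynomial.X)
  have hn : α.comp πn = γ := MvPolynomial.algHom_ext (by rintro (i | j) <;> simp [γ, πn, hp])
  have hk : β.comp πk = γ := MvPolynomial.algHom_ext (by rintro (i | j) <;> simp [γ, πk, hq])
  have hns : Function.Surjective πn := fun x => by
    obtain ⟨y, rfl⟩ := hg x
    exact ⟨MvPolynomial.rename Sum.inl y,
      DFunLike.congr_fun (show πn.comp (MvPolynomial.rename Sum.inl) = g from
        MvPolynomial.algHom_ext (by intro i; simp [πn])) y⟩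
  have hks : Function.Surjective πk := fun x => ⟨MvPolynomial.rename Sum.inr x,
    DFunLike.congr_fun (show πk.comp (MvPolynomial.rename Sum.inr) = AlgHom.id R _ from
      MvPolynomial.algHom_ext (by intro i; simp [πk])) x⟩
  letI : Module P M := Module.compHom M α.toRingHom
  letI : Module (MvPolynomial (Fin k) R) M := Module.compHom M β.toRingHom
  letI : Module (MvPolynomial (Fin N ⊕ Fin k) R) M := Module.compHom M γ.toRingHom
  haveI hfp : Module.FinitePresentation (MvPolynomial (Fin N ⊕ Fin k) R) M := by
    letI : Algebra (MvPolynomial (Fin N ⊕ Fin k) R) P := πn.toRingHom.toAlgebra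
    haveI : IsScalarTower (MvPolynomial (Fin N ⊕ Fin k) R) P M :=
      IsScalarTower.of_algebraMap_smul fun x m => by
        show α (πn x) • m = γ x • m
        rw [← hn]; rfl
    haveI : Module.FinitePresentation P M := h
    haveI : Module.FinitePresentation (MvPolynomial (Fin N ⊕ Fin k) R) P :=
      Module.finitePresentation_of_surjective
        (Algebra.linearMap (MvPolynomial (Fin N ⊕ Fin k) R) P) hns
        (Algebra.FinitePresentation.ker_fG_of_surjective πn hns)
    exact Module.FinitePresentation.trans (MvPolynomial (Fin N ⊕ Fin k) R) M P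
  letI : Algebra (MvPolynomial (Fin N ⊕ Fin k) R) (MvPolynomial (Fin k) R) := πk.toRingHom.toAlgebra
  haveI : IsScalarTower (MvPolynomial (Fin N ⊕ Fin k) R) (MvPolynomial (Fin k) R) M :=
    IsScalarTower.of_algebraMap_smul fun x m => by
      show β (πk x) • m = γ x • m
      rw [← hk]; rfl
  exact GrothLib.FlatFP.finitePresentation_of_surjective_algebraMap hks

/-- Let R → A → B be finite type homomorphisms of commutative rings with A of finite presentation over
R, M a B-module, and α : A[x_1, ..., x_n] → B, β : R[y_1, ..., y_k] → B surjective algebra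
homomorphisms over A and R respectively. If M is finitely presented as an A[x_1, ..., x_n]-module
through α (finitely presented relative to A), then M is finitely presented as an R[y_1, ...,
y_k]-module through β (finitely presented relative to R). -/
theorem result {R A B : Type u} [CommRing R] [CommRing A]
    [CommRing B] [Algebra R A] [Algebra A B] [Algebra R B] [IsScalarTower R A B] [Algebra.FinitePresentation R A]
    [Algebra.FiniteType A B] (M : Type u) [AddCommGroup M] [Module B M] {n k : ℕ}
    (α : MvPolynomial (Fin n) A →ₐ[A] B) (hα : Function.Surjective α)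
    (β : MvPolynomial (Fin k) R →ₐ[R] B) (hβ : Function.Surjective β)
    (hM : @Module.FinitePresentation (MvPolynomial (Fin n) A) M _ _ (Module.compHom M α.toRingHom)) :
    @Module.FinitePresentation (MvPolynomial (Fin k) R) M _ _ (Module.compHom M β.toRingHom) := by
  classical
  refine transfer (P := MvPolynomial (Fin n) A) M (α.restrictScalars R) hα β hβ ?_
  exact hM

end Groth.Agent.S6993
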