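import Groth.Statements.S7007
import Mathlib
import Groth.Agent.Lib.RelFP19.Basic
-- import your own Groth.Agent.* helpers here

set_option autoImplicit false
universe u
open CAlg

namespace Groth.Agent.S7007

/-- Let R → A be a finite type homomorphism of commutative rings with a surjective R-algebra
homomorphism α : R[x_1, ..., x_n] → A, M an A-module, f_1, ..., f_r elements of A generating the
unit ideal, and for each i a surjective R-algebra homomorphism γ_i : R[z_1, ..., z_(k_i)] → A_(f_i).
Then M is finitely presented as an R[x_1, ..., x_n]-module through α if and only if, for every i,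
the localization M_(f_i) is finitely presented as an R[z_1, ..., z_(k_i)]-module through γ_i. -/
theorem result {R A : Type u} [CommRing R] [CommRing A] [Algebra R A]
    {n : ℕ} (α : MvPolynomial (Fin n) R →ₐ[R] A) (hα : Function.Surjective α) (M : Type u) [AddCommGroup M]
    [Module A M] {r : ℕ} (f : Fin r → A) (hf : Ideal.span (Set.range f) = ⊤) (k : Fin r → ℕ)
    (γ : ∀ i, MvPolynomial (Fin (k i)) R →ₐ[R] Localization.Away (f i)) (hγ : ∀ i, Function.Surjective (γ i)) :
    @Module.FinitePresentation (MvPolynomial (Fin n) R) (M) _ _ (Module.compHom (M) α.toRingHom) ↔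
      ∀ i, @Module.FinitePresentation (MvPolynomial (Fin (k i)) R) (LocalizedModule (Submonoid.powers (f i)) M) _ _ (Module.compHom (LocalizedModule (Submonoid.powers (f i)) M) (γ i).toRingHom) := by
  classical
  haveI : Algebra.FiniteType R A := Algebra.FiniteType.of_surjective α hα
  constructor
  · intro hM i
    obtain ⟨N, φ, hφ, hcomp, hfp⟩ := GrothLib.RelFP19.exists_fpVia_tensor_of_finitePresentation
      (A' := Localization.Away (f i)) α.toRingHom hα hM
    haveI : Algebra.FinitePresentation R (MvPolynomial (Fin N) (MvPolynomial (Fin n) R)) :=
      Algebra.FinitePresentation.trans R (MvPolynomial (Fin n) R) _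
    let φ' : MvPolynomial (Fin N) (MvPolynomial (Fin n) R) →ₐ[R] Localization.Away (f i) :=
      { φ with
        commutes' := fun r => by
          show φ (MvPolynomial.C (MvPolynomial.C r)) = _
          rw [hcomp, show α.toRingHom (MvPolynomial.C r) = algebraMap R A r from α.commutes r,
            ← IsScalarTower.algebraMap_apply] }
    refine (GrothLib.RelFP19.fpVia_iff_of_finitePresentation φ' hφ (γ i) (hγ i)).1 ?_
    exact GrothLib.RelFP19.fpVia_of_equiv φ (LocalizedModule.equivTensorProduct (Submonoid.powers (f i)) M).symm hfp
  · intro hloc
    let T := MvPolynomial (Fin n) R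
    letI : Module T M := Module.compHom M α.toRingHom
    choose F hF using fun i => hα (f i)
    let s : Set T := Set.range F ∪ (RingHom.ker α.toRingHom : Set T)
    have hs : Ideal.span s = ⊤ := by
      have h1 : (Ideal.span s).map α.toRingHom = ⊤ := by
        rw [eq_top_iff, ← hf, Ideal.span_le]
        rintro _ ⟨i, rfl⟩
        rw [← hF i]
        exact Ideal.mem_map_of_mem _ (Ideal.subset_span (Or.inl ⟨i, rfl⟩))
      have h2 := congrArg (Ideal.comap α.toRingHom) h1
      rw [Ideal.comap_map_of_surjective α.toRingHom hα, Ideal.comap_top, ← RingHom.ker_eq_comap_bot,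
        sup_eq_left.2 (show RingHom.ker α.toRingHom ≤ Ideal.span s from fun x hx => Ideal.subset_span (Or.inr hx))] at h2
      exact h2
    let aw : ∀ g : s, Localization.Away (g : T) →+* Localization.Away (α (g : T)) := fun g =>
      Localization.awayMap α.toRingHom g
    have hawC : ∀ (g : s) (t : T), aw g (algebraMap T (Localization.Away (g : T)) t) =
        algebraMap A (Localization.Away (α (g : T))) (α t) := fun g t => by
      show IsLocalization.Away.map (Localization.Away (g : T)) (Localization.Away (α.toRingHom g)) α.toRingHom g _ = _
      exact IsLocalization.map_eq _ t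
    letI instM : ∀ g : s, Module (Localization.Away (g : T)) (LocalizedModule (Submonoid.powers (α (g : T))) M) :=
      fun g => Module.compHom _ (aw g)
    letI instT : ∀ g : s, Module T (LocalizedModule (Submonoid.powers (α (g : T))) M) :=
      fun g => Module.compHom _ α.toRingHom
    haveI instTower : ∀ g : s, IsScalarTower T (Localization.Away (g : T)) (LocalizedModule (Submonoid.powers (α (g : T))) M) :=
      fun g => IsScalarTower.of_algebraMap_smul fun t z => by
        show aw g (algebraMap T (Localization.Away (g : T)) t) • z = α t • z
        rw [hawC, algebraMap_smul]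
    let mk : ∀ g : s, M →ₗ[T] LocalizedModule (Submonoid.powers (α (g : T))) M := fun g =>
      { toFun := LocalizedModule.mkLinearMap (Submonoid.powers (α (g : T))) M
        map_add' := fun a b => map_add _ a b
        map_smul' := fun t m => LinearMap.map_smul (LocalizedModule.mkLinearMap (Submonoid.powers (α (g : T))) M) (α t) m }
    have hpow : ∀ (g : s) (c : Submonoid.powers (g : T)), α (c : T) ∈ Submonoid.powers (α (g : T)) := by
      rintro g ⟨_, l, rfl⟩
      exact ⟨l, by simp⟩
    haveI instLoc : ∀ g : s, IsLocalizedModule (Submonoid.powers (g : T)) (mk g) := fun g => by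
      refine { map_units := fun c => ?_, surj := fun z => ?_, exists_of_eq := fun {a b} hab => ?_ }
      · have h := (Module.End.isUnit_iff _).1 (IsLocalizedModule.map_units
          (LocalizedModule.mkLinearMap (Submonoid.powers (α (g : T))) M) ⟨α (c : T), hpow g c⟩)
        rw [Module.End.isUnit_iff]
        exact h
      · obtain ⟨⟨m, ⟨_, l, rfl⟩⟩, hml⟩ := IsLocalizedModule.surj (Submonoid.powers (α (g : T)))
          (LocalizedModule.mkLinearMap (Submonoid.powers (α (g : T))) M) z
        refine ⟨(m, ⟨(g : T) ^ l, l, rfl⟩), ?_⟩
        show α ((g : T) ^ l) • z = _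
        rw [map_pow]
        exact hml
      · obtain ⟨⟨_, l, rfl⟩, hl⟩ := IsLocalizedModule.exists_of_eq (S := Submonoid.powers (α (g : T)))
          (f := LocalizedModule.mkLinearMap (Submonoid.powers (α (g : T))) M) hab
        refine ⟨⟨(g : T) ^ l, l, rfl⟩, ?_⟩
        show α ((g : T) ^ l) • a = α ((g : T) ^ l) • b
        rw [map_pow]
        exact hl
    refine Module.FinitePresentation.of_localizationSpan' s hs (Rₚ := fun g : s => Localization.Away (g : T)) mk
      fun g => ?_
    have key : ∀ (a : A) (i : Fin r) (G : T), α G = a → f i = a →
        GrothLib.CAlgMisc.FPVia (Localization.awayMap α.toRingHom G) (LocalizedModule (Submonoid.powers (α G)) M) := by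
      intro a i G hG hia
      haveI : Algebra.FinitePresentation T (Localization.Away G) := IsLocalization.Away.finitePresentation G
      haveI : Algebra.FinitePresentation R (Localization.Away G) := Algebra.FinitePresentation.trans R T _
      let ψ : Localization.Away G →ₐ[R] Localization.Away (α G) :=
        { Localization.awayMap α.toRingHom G with
          commutes' := fun c => by
            show Localization.awayMap α.toRingHom G (algebraMap R (Localization.Away G) c) = _
            rw [IsScalarTower.algebraMap_apply R T (Localization.Away G)]
            refine (IsLocalization.map_eq _ _).trans ?_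
            rw [show α.toRingHom (algebraMap R T c) = algebraMap R A c from α.commutes c]
            exact (IsScalarTower.algebraMap_apply R A _ c).symm }
      have hψ : Function.Surjective ψ := by
        intro z
        obtain ⟨x, ⟨_, l, rfl⟩, rfl⟩ := IsLocalization.exists_mk'_eq (Submonoid.powers (α G)) z
        obtain ⟨t, rfl⟩ := hα x
        refine ⟨IsLocalization.mk' (Localization.Away G) t (⟨G ^ l, ⟨l, rfl⟩⟩ : Submonoid.powers G), ?_⟩
        show Localization.awayMap α.toRingHom G _ = _
        refine (IsLocalization.map_mk' _ t _).trans ?_
        congr 1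
        exact Subtype.ext (map_pow α G l)
      obtain ⟨γ', hγ', hfp'⟩ : ∃ γ' : MvPolynomial (Fin (k i)) R →ₐ[R] Localization.Away (α G),
          Function.Surjective γ' ∧
          GrothLib.CAlgMisc.FPVia γ'.toRingHom (LocalizedModule (Submonoid.powers (α G)) M) := by
        subst hia
        rw [hG]
        exact ⟨γ i, hγ i, hloc i⟩
      exact (GrothLib.RelFP19.fpVia_iff_of_finitePresentation ψ hψ γ' hγ').2 hfp'
    obtain ⟨g, hg⟩ := g
    rcases hg with ⟨i, rfl⟩ | hg
    · exact key (f i) i (F i) (hF i) rfl
    · haveI : Subsingleton (LocalizedModule (Submonoid.powers (α g)) M) := by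
        refine LocalizedModule.subsingleton_iff.2 fun m => ⟨α g, ⟨1, by simp⟩, ?_⟩
        rw [show α g = 0 from hg, zero_smul]
      exact Module.finitePresentation_of_projective _ _

end Groth.Agent.S7007
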