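import Groth.Statements.S2032
import Mathlib.RingTheory.Smooth.StandardSmooth
import Mathlib.RingTheory.Finiteness.Nakayama
import Mathlib.RingTheory.Localization.Away.Basic

set_option autoImplicit false
universe u
open Smoothing

namespace Groth.Agent.S2032

/-- For a finitely presented `R`-algebra `A` and `a ∈ A`, if `a` is elementary standard then `A_a` is
standard smooth over `R`. (Part (f), the converse for large powers of `a`, is not stated: as
published it fails, for example for the nodal cubic `A = {g ∈ ℚ[u] : g(0) = g(1)}` and `a =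
u(u-1)`.) -/
theorem result {R A : Type u} [CommRing R] [CommRing A]
    [Algebra R A] [Algebra.FinitePresentation R A] (a : A)
    (ha : Smoothing.IsElementaryStandard R A a) : Algebra.IsStandardSmooth R (Localization.Away a) := by
  obtain ⟨P, ⟨a₁, ha₁⟩, hkill⟩ := ha
  obtain ⟨a₁', rfl⟩ := P.surj a₁
  let v : Fin P.c → MvPolynomial (Fin P.n) R := P.rel ∘ Fin.castLE P.hcm
  let J : Ideal (MvPolynomial (Fin P.n) R) := Ideal.span (Set.range v)
  let I : Ideal (MvPolynomial (Fin P.n) R) := Ideal.span (Set.range P.rel)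
  let Δ := jacobianMinor P.rel (Fin.castLE P.hcm) (Fin.castLE P.hcn)
  let a' := a₁' * Δ
  have haa : P.hom a' = a := by rw [ha₁, map_mul]
  have hJI : J ≤ I := Ideal.span_mono (Set.range_comp_subset_range _ _)
  have himg : P.rel '' {j' : Fin P.m | (j' : ℕ) < P.c} ⊆ Set.range v := by
    rintro _ ⟨j, hj, rfl⟩
    exact ⟨⟨j, hj⟩, rfl⟩
  have hII : Ideal.span {a'} * I ≤ J ⊔ I ^ 2 := by
    rw [Ideal.span_mul_span', Ideal.span_le]
    rintro _ ⟨x, hx, _, ⟨j, rfl⟩, rfl⟩
    rw [Set.mem_singleton_iff.1 hx]
    show a' * P.rel j ∈ _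
    by_cases hj : (j : ℕ) < P.c
    · exact Ideal.mem_sup_left (Ideal.mul_mem_left _ _ (Ideal.subset_span (himg ⟨j, hj, rfl⟩)))
    · exact sup_le_sup_right (Ideal.span_mono himg) _ (hkill a' haa j (not_lt.1 hj))
  -- the quotient by the leading relations, localised at `a`
  let B := MvPolynomial (Fin P.n) R ⧸ J
  let mk : MvPolynomial (Fin P.n) R →+* B := Ideal.Quotient.mk J
  let Ba := Localization.Away (mk a')
  let gB : B →+* Ba := algebraMap B Ba
  let K : Ideal Ba := (I.map mk).map gB
  have hu : IsUnit (gB (mk a')) := IsLocalization.Away.algebraMap_isUnit (mk a')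
  have hK : K ≤ K • K := by
    have h := Ideal.map_mono (f := gB) (Ideal.map_mono (f := mk) hII)
    rw [Ideal.map_mul, Ideal.map_mul, Ideal.map_span, Ideal.map_span, Set.image_singleton,
      Set.image_singleton, Ideal.map_sup, Ideal.map_quotient_self, bot_sup_eq, Ideal.map_pow,
      Ideal.map_pow, Ideal.span_singleton_eq_top.2 hu, Ideal.top_mul, pow_two] at h
    exact h
  have hfg : K.FG := Ideal.FG.map (Ideal.FG.map (Submodule.fg_span (Set.finite_range P.rel)) mk) gB
  obtain ⟨r, hr1, hr2⟩ := Submodule.exists_sub_one_mem_and_smul_eq_zero_of_fg_of_le_smul K K hfg hK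
  let T := Localization.Away r
  -- the map to `A_a`
  let g₀ : MvPolynomial (Fin P.n) R →ₐ[R] Localization.Away a :=
    (IsScalarTower.toAlgHom R A (Localization.Away a)).comp P.hom
  have hI0 : ∀ x ∈ I, g₀ x = 0 := fun x hx => by
    have : P.hom x = 0 := by
      rw [show I = RingHom.ker P.hom.toRingHom from P.ker_eq.symm] at hx
      exact hx
    simp [g₀, this]
  let gq : B →ₐ[R] Localization.Away a := Ideal.Quotient.liftₐ J g₀ fun x hx => hI0 x (hJI hx)
  have hgq : ∀ x, gq (mk x) = g₀ x := fun x => rfl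
  have hga : IsUnit (gq (mk a')) := by
    rw [hgq]
    simp only [g₀, AlgHom.comp_apply, haa, IsScalarTower.coe_toAlgHom']
    exact IsLocalization.Away.algebraMap_isUnit a
  let g₁ : Ba →+* Localization.Away a := IsLocalization.Away.lift (mk a') hga (g := gq.toRingHom)
  have hg₁ : ∀ b, g₁ (gB b) = gq b := fun b => IsLocalization.Away.lift_eq (mk a') hga b
  have hgK : ∀ y ∈ K, g₁ y = 0 := by
    have h : K ≤ RingHom.ker g₁ := by
      rw [Ideal.map_le_iff_le_comap, Ideal.map_le_iff_le_comap]
      intro x hx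
      simp only [Ideal.mem_comap, RingHom.mem_ker, hg₁, hgq, hI0 x hx]
    exact fun y hy => h hy
  have hgr : IsUnit (g₁ r) := by
    have h := hgK _ hr1
    rw [map_sub, map_one, sub_eq_zero] at h
    rw [h]; exact isUnit_one
  let g₂ : T →+* Localization.Away a := IsLocalization.Away.lift r hgr
  have hg₂ : ∀ y, g₂ (algebraMap Ba T y) = g₁ y := fun y => IsLocalization.Away.lift_eq r hgr y
  let ψ : T →ₐ[R] Localization.Away a :=
    { g₂ with
      commutes' := fun c => by
        show g₂ _ = _
        rw [IsScalarTower.algebraMap_apply R Ba T, hg₂, IsScalarTower.algebraMap_apply R B Ba]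
        exact (hg₁ _).trans (gq.commutes c) }
  have hsurj : Function.Surjective g₂ := by
    intro z
    obtain ⟨n, x, hx⟩ := IsLocalization.Away.surj a z
    obtain ⟨x', rfl⟩ := P.surj x
    obtain ⟨w, hw⟩ := (hu.pow n).map (algebraMap Ba T)
    refine ⟨(↑w⁻¹ : T) * algebraMap Ba T (gB (mk x')), ?_⟩
    have hwa : g₂ (w : T) = algebraMap A (Localization.Away a) a ^ n := by
      rw [hw, hg₂, map_pow, hg₁, hgq]
      simp only [g₀, AlgHom.comp_apply, haa, IsScalarTower.coe_toAlgHom']
    have hzu : IsUnit (algebraMap A (Localization.Away a) a ^ n) :=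
      (IsLocalization.Away.algebraMap_isUnit a).pow n
    refine hzu.mul_left_cancel ?_
    rw [← hwa, ← map_mul, Units.mul_inv_cancel_left, hg₂, hg₁, hgq, mul_comm, hwa, hx]
    rfl
  have hinj : Function.Injective g₂ := by
    rw [injective_iff_map_eq_zero]
    intro z hz
    obtain ⟨n, y, hy⟩ := IsLocalization.Away.surj r z
    have hy0 : g₁ y = 0 := by rw [← hg₂, ← hy, map_mul, hz, zero_mul]
    have hyK : y ∈ K := by
      obtain ⟨l, b, hb⟩ := IsLocalization.Away.surj (mk a') y
      obtain ⟨b', rfl⟩ := Ideal.Quotient.mk_surjective b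
      have hb0 : g₀ b' = 0 := by
        rw [← hgq, ← hg₁]
        change g₁ (algebraMap B Ba (mk b')) = 0
        rw [show algebraMap B Ba (mk b') = y * algebraMap B Ba (mk a') ^ l from hb.symm, map_mul,
          hy0, zero_mul]
      simp only [g₀, AlgHom.comp_apply, IsScalarTower.coe_toAlgHom'] at hb0
      obtain ⟨⟨_, q, rfl⟩, hq⟩ := (IsLocalization.map_eq_zero_iff (Submonoid.powers a) _ _).1 hb0
      have hmem : a' ^ q * b' ∈ I := by
        rw [show I = RingHom.ker P.hom.toRingHom from P.ker_eq.symm]
        show P.hom (a' ^ q * b') = 0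
        rw [map_mul, map_pow, haa]; exact hq
      have h2 : gB (mk (a' ^ q * b')) ∈ K := Ideal.mem_map_of_mem _ (Ideal.mem_map_of_mem _ hmem)
      have e : gB (mk (a' ^ q * b')) = y * gB (mk a') ^ (q + l) := by
        calc gB (mk (a' ^ q * b')) = gB (mk (a' ^ q) * mk b') := congrArg gB (map_mul mk (a' ^ q) b')
          _ = gB (mk (a' ^ q)) * gB (mk b') := map_mul gB (mk (a' ^ q)) (mk b')
          _ = gB (mk a') ^ q * (y * gB (mk a') ^ l) := by
            exact congrArg₂ (· * ·)
              ((congrArg gB (map_pow mk a' q)).trans (map_pow gB (mk a') q)) hb.symm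
          _ = y * gB (mk a') ^ (q + l) := by rw [pow_add]; ring
      rw [e] at h2
      obtain ⟨w, hw⟩ := hu.pow (q + l)
      have h3 := K.mul_mem_left (↑w⁻¹ : Ba) h2
      rwa [← hw, mul_comm y, Units.inv_mul_cancel_left] at h3
    have hry : algebraMap Ba T r * algebraMap Ba T y = 0 := by
      rw [← map_mul, show r * y = r • y from rfl, hr2 y hyK, map_zero]
    rw [(IsLocalization.Away.algebraMap_isUnit r).mul_right_eq_zero] at hry
    rw [hry] at hy
    exact ((IsLocalization.Away.algebraMap_isUnit r).pow n).mul_left_eq_zero.1 hy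
  -- submersive presentation of `B_a`
  let N : Algebra.PreSubmersivePresentation R B (Fin P.n) (Fin P.c) :=
    Algebra.PreSubmersivePresentation.naive (v := v) (Fin.castLE P.hcn) (Fin.castLE_injective _)
  have hNΔ : N.jacobian = mk Δ := by
    rw [Algebra.PreSubmersivePresentation.jacobian_eq_jacobiMatrix_det]
    have : N.jacobiMatrix = (Matrix.of fun j k : Fin P.c =>
        MvPolynomial.pderiv (Fin.castLE P.hcn k) (P.rel (Fin.castLE P.hcm j))).transpose := by
      refine Matrix.ext fun i j => ?_
      exact Algebra.PreSubmersivePresentation.jacobiMatrix_naive (v := v) _ _ _ _ i j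
    rw [this, Matrix.det_transpose]
    rfl
  let L := Algebra.PreSubmersivePresentation.localizationAway Ba (mk a')
  have hjac : IsUnit (L.comp N).jacobian := by
    rw [Algebra.PreSubmersivePresentation.comp_jacobian_eq_jacobian_smul_jacobian, Algebra.smul_def,
      hNΔ, IsUnit.mul_iff, Algebra.PreSubmersivePresentation.localizationAway_jacobian]
    have h : IsUnit (gB (mk a₁') * gB (mk Δ)) := by rw [← map_mul, ← map_mul]; exact hu
    exact ⟨isUnit_of_mul_isUnit_right h, hu⟩
  let Sp : Algebra.SubmersivePresentation R Ba (Unit ⊕ Fin P.n) (Unit ⊕ Fin P.c) :=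
    { toPreSubmersivePresentation := L.comp N
      jacobian_isUnit := hjac }
  exact (((Algebra.SubmersivePresentation.localizationAway T r).comp Sp).ofAlgEquiv
    (AlgEquiv.ofBijective ψ ⟨hinj, hsurj⟩)).isStandardSmooth

end Groth.Agent.S2032
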