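import Groth.Statements.S9437
import Groth.Agent.Lib.FFDescent.Serre
-- import your own Groth.Agent.* helpers here

set_option autoImplicit false
universe u
open CAlg

namespace Groth.Agent.S9437

/-- Serre's condition (S_k) descends along faithfully flat ring maps: if S is faithfully flat over R,
Noetherian and (S_k), then R is Noetherian and (S_k). -/
theorem result (k : ℕ) (R : Type u) [CommRing R] (S : Type u) [CommRing S]
    [Algebra R S] [Module.FaithfullyFlat R S] [IsNoetherianRing S] (hS : LocCoh.HasSk k S S) :
    IsNoetherianRing R ∧ LocCoh.HasSk k R R := by
  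
  have : IsNoetherianRing R := GrothLib.Hensel.isNoetherianRing_of_faithfullyFlat R S
  exact ⟨this, GrothLib.FFDescent.hasSk_descends hS⟩

end Groth.Agent.S9437
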