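import Groth.Statements.S0050
import Groth.Agent.Lib.Ample.VanishCriterion
import Groth.Agent.Lib.Ample.Frame

set_option autoImplicit false
universe u
open Coherent

namespace Groth.Agent.S0050

open AlgebraicGeometry CategoryTheory in
/-- Let X be a quasi-compact scheme and L an invertible O_X-module. If for every quasi-coherent sheaf of
ideals I ⊆ O_X there is some n ≥ 1 with H¹(X, I ⊗ L^{⊗n}) = 0, then L is ample, in the sense that X
is covered by affine opens of the form X_s for sections s of positive tensor powers of L. (In the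
Lean statement the exponent is written n + 1 with n a natural number.) -/
theorem result (X : Scheme.{u}) [CompactSpace X] (L : X.Modules)
    (hL : PicF.IsInvertible L)
    (h : ∀ (I : X.Modules) (i : I ⟶ Coh.structureModule X), Mono i → Coh.IsQCoh I →
      ∃ n : ℕ, Subsingleton (Coh.HH X (CohB1.tensorMod I (CohB1.tensorPow L (n + 1))) 1)) :
    CohB1.IsAmple L := by
    obtain ⟨c, ⟨e⟩⟩ := GrothLib.Ample.exists_cocycle hL
    rw [c.isAmple_iff e]
    refine ⟨inferInstance, c.isAmp_of_subsingleton_H1 fun T => ?_⟩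
    haveI : Mono (ClSub.idealModι (Scheme.IdealSheafData.vanishingIdeal T)) :=
      inferInstanceAs (Mono (CategoryTheory.Limits.kernel.ι (ClSub.toSubscheme (Scheme.IdealSheafData.vanishingIdeal T))))
    obtain ⟨n, hn⟩ := h _ (ClSub.idealModι (Scheme.IdealSheafData.vanishingIdeal T)) inferInstance
      (GrothLib.Ample.vMod_quasicoherent T)
    obtain ⟨d⟩ := c.nonempty_tensorPow_iso e (n + 1)
    obtain ⟨q⟩ := c.nonempty_tensor_modTwist (GrothLib.Ample.vMod T) (n + 1)
    let i : CohB1.tensorMod (GrothLib.Ample.vMod T) (CohB1.tensorPow L (n + 1)) ≅ c.modTwist (GrothLib.Ample.vMod T) (n + 1) :=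
      ((DCoh.tensorBi (X := X)).obj (GrothLib.Ample.vMod T)).mapIso d ≪≫ q
    letI : X.Over (Spec (CommRingCat.of Γ(X, ⊤))) := ⟨X.toSpecΓ⟩
    exact ⟨n, (GrothLib.Euler.hhEquiv (A := Γ(X, ⊤)) i 1).toEquiv.symm.subsingleton⟩

end Groth.Agent.S0050
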