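import Groth.Statements.S9371
import Groth.Agent.Lib.ConStalk4.Functorial
-- import your own Groth.Agent.* helpers here

set_option autoImplicit false
universe u
open OmegaSh

namespace Groth.Agent.S9371

open AlgebraicGeometry CategoryTheory in
/-- For a commutative square with i : Z → X, i' : Z' → X' quasi-compact immersions, g : X → X' and gZ :
Z → Z', there is a unique map of O_Z-modules gZ^* C_{Z'/X'} → C_{Z/X} compatible with g♯ on sections
of the defining ideals. (The published statement allows arbitrary immersions; this row assumes i and
i' quasi-compact.) -/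
theorem result {Z X Z' X' : Scheme.{u}} (i : Z ⟶ X) (i' : Z' ⟶ X') [IsImmersion i] [IsImmersion i']
    [QuasiCompact i] [QuasiCompact i'] (g : X ⟶ X') (gZ : Z ⟶ Z') (hsq : gZ ≫ i' = i ≫ g) :
    ∃! φ : (Scheme.Modules.pullback gZ).obj (Omega.conormal i') ⟶ Omega.conormal i,
      OmegaSh.IsConormalMap i i' g gZ φ := by
  exact GrothLib.ConStalk4.existsUnique hsq

end Groth.Agent.S9371
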