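import Groth.Statements.S8836
import Groth.Agent.Lib.RigClosed.Basic
import Mathlib.LinearAlgebra.TensorProduct.Quotient

set_option autoImplicit false
universe u
open AdicRing

namespace Groth.Agent.S8836

/-- Let A be a Noetherian ring complete for the adic topology of an ideal I, and B a Noetherian
A-algebra complete for the IB-adic topology, flat over A, with B/IB of finite type over A (a flat
adic morphism, topologically of finite type, of adic Noetherian topological rings). Let p be a prime
of A which is rig-closed (I ⊄ p and p maximal among the primes not containing I). The following are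
equivalent: (1) the maximal ideal of the local ring A/p lies in the image of Spec(B/√(IB)) →
Spec(A/√I), stated as: some prime Q of B containing IB lies over a maximal ideal of A containing p;
(2) there is a rig-closed prime q of B (IB ⊄ q, q maximal among the primes not containing IB) whose
inverse image in A is p. (The published statement adds that, when these hold, A/p ⊆ B/q is a finite
extension of rings and the residue field of the local ring B/q is finite over A/√I; this is not
restated here.) -/
theorem result (A : Type u) [CommRing A] [IsNoetherianRing A] (I : Ideal A) [IsAdicComplete I A] (B : Type u) [CommRing B] [Algebra A B] [IsNoetherianRing B] [IsAdicComplete (I.map (algebraMap A B)) B] (hft : Algebra.FiniteType A (B ⧸ (I.map (algebraMap A B)))) [Module.Flat A B] (p : PrimeSpectrum A) (hp : (¬ I ≤ p.asIdeal ∧ ∀ y : PrimeSpectrum A, p ≤ y → ¬ I ≤ y.asIdeal → y = p)) : (∃ Q : PrimeSpectrum B, (I.map (algebraMap A B)) ≤ Q.asIdeal ∧ p.asIdeal ≤ (PrimeSpectrum.comap (algebraMap A B) Q).asIdeal ∧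 (PrimeSpectrum.comap (algebraMap A B) Q).asIdeal.IsMaximal) ↔ (∃ q : PrimeSpectrum B, (¬ (I.map (algebraMap A B)) ≤ q.asIdeal ∧ ∀ y : PrimeSpectrum B, q ≤ y → ¬ (I.map (algebraMap A B)) ≤ y.asIdeal → y = q) ∧ PrimeSpectrum.comap (algebraMap A B) q = p) := by
  obtain ⟨hloc, hprimes, hJ, -⟩ := GrothLib.RigClosed.quotient_of_rigClosed p hp
  constructor
  · rintro ⟨Q, -, hpQ, -⟩
    obtain ⟨a, haI, hap⟩ := SetLike.not_le_iff_exists.1 hp.1
    set J := p.asIdeal.map (algebraMap A B) with hJdef
    have hJQ : J ≤ Q.asIdeal := Ideal.map_le_iff_le_comap.2 hpQ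
    -- `a` is not nilpotent on `B/pB`
    have hnot : ∀ n, algebraMap A B a ^ n ∉ J := by
      intro n hn
      have hreg : IsSMulRegular (A ⧸ p.asIdeal) (a ^ n) := by
        intro x y hxy
        simp only [Algebra.smul_def, Ideal.Quotient.algebraMap_eq] at hxy
        refine mul_left_cancel₀ ?_ hxy
        rw [Ne, Ideal.Quotient.eq_zero_iff_mem]
        exact fun h => hap (p.isPrime.mem_of_pow_mem n h)
      have h2 : IsSMulRegular (B ⧸ (p.asIdeal • ⊤ : Submodule A B)) (a ^ n) :=
        ((TensorProduct.tensorQuotEquivQuotSMul (R := A) B p.asIdeal).isSMulRegular_congr _).1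
          (hreg.lTensor B)
      have h1 : (Submodule.Quotient.mk (1 : B) : B ⧸ (p.asIdeal • ⊤ : Submodule A B)) = 0 := by
        refine h2 ?_
        show a ^ n • _ = a ^ n • _
        rw [smul_zero, ← Submodule.Quotient.mk_smul, Submodule.Quotient.mk_eq_zero,
          Ideal.smul_top_eq_map, Submodule.restrictScalars_mem, Algebra.smul_def, mul_one, map_pow]
        exact hn
      rw [Submodule.Quotient.mk_eq_zero, Ideal.smul_top_eq_map, Submodule.restrictScalars_mem] at h1
      exact Q.isPrime.ne_top ((Ideal.eq_top_iff_one _).2 (hJQ h1))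
    obtain ⟨P, hP, hJP, hdisj⟩ := Ideal.exists_le_prime_disjoint J
      (Submonoid.powers (algebraMap A B a)) (Set.disjoint_left.2 (by
        rintro x hx ⟨n, rfl⟩
        exact hnot n hx))
    have haP : ¬ I.map (algebraMap A B) ≤ P := fun h =>
      Set.disjoint_left.1 hdisj (h (Ideal.mem_map_of_mem _ haI)) ⟨1, pow_one _⟩
    -- a maximal such prime
    obtain ⟨q, ⟨hPq, hIq⟩, hmax⟩ := wellFounded_gt.has_min
      ({q : PrimeSpectrum B | P ≤ q.asIdeal ∧ ¬ I.map (algebraMap A B) ≤ q.asIdeal}.image
        PrimeSpectrum.asIdeal) ⟨P, ⟨P, hP⟩, ⟨le_rfl, haP⟩, rfl⟩ |> fun ⟨m, ⟨q, hq, hqm⟩, h⟩ =>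
          (⟨q, hq, fun y hy => hqm ▸ h _ ⟨y, hy, rfl⟩⟩ :
            ∃ q : PrimeSpectrum B, (P ≤ q.asIdeal ∧ ¬ I.map (algebraMap A B) ≤ q.asIdeal) ∧
              ∀ y : PrimeSpectrum B, P ≤ y.asIdeal ∧ ¬ I.map (algebraMap A B) ≤ y.asIdeal →
                ¬ y.asIdeal > q.asIdeal)
    have hq : ∀ y : PrimeSpectrum B, q ≤ y → ¬ I.map (algebraMap A B) ≤ y.asIdeal → y = q := by
      intro y hy hIy
      refine le_antisymm ?_ hy
      by_contra hne
      exact hmax y ⟨hPq.trans hy, hIy⟩ (lt_of_le_not_ge hy hne)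
    refine ⟨q, ⟨hIq, hq⟩, (hp.2 _ ?_ fun h => hIq (Ideal.map_le_iff_le_comap.2 h))⟩
    exact (Ideal.map_le_iff_le_comap.1 (hJP.trans hPq) : p.asIdeal ≤ _)
  · rintro ⟨q, hq, rfl⟩
    obtain ⟨m, hm, hqm⟩ := q.asIdeal.exists_le_maximal q.isPrime.ne_top
    have hIm : I.map (algebraMap A B) ≤ m :=
      (IsAdicComplete.le_jacobson_bot _).trans (sInf_le ⟨bot_le, hm⟩)
    refine ⟨⟨m, hm.isPrime⟩, hIm, Ideal.comap_mono hqm, ?_⟩
    set p := (PrimeSpectrum.comap (algebraMap A B) q).asIdeal with hpdef
    set n := m.comap (algebraMap A B)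
    have hpn : p ≤ n := Ideal.comap_mono hqm
    have hnp : n.IsPrime := Ideal.comap_isPrime _ _
    let n' := n.map (Ideal.Quotient.mk p)
    have hn' : n'.IsPrime := Ideal.map_isPrime_of_surjective Ideal.Quotient.mk_surjective
      (by rwa [Ideal.mk_ker])
    have hcom : n'.comap (Ideal.Quotient.mk p) = n := by
      rw [Ideal.comap_map_of_surjective' _ Ideal.Quotient.mk_surjective, Ideal.mk_ker,
        sup_eq_left.2 hpn]
    have hn0 : n' ≠ ⊥ := fun hb => hp.1 (by
      have : n = p := by rw [← hcom, hb, ← RingHom.ker_eq_comap_bot, Ideal.mk_ker]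
      rw [← this, ← Ideal.map_le_iff_le_comap]
      exact hIm)
    show n.IsMaximal
    rw [← hcom]
    have := (hprimes n' hn' hn0).1
    exact Ideal.comap_isMaximal_of_surjective _ Ideal.Quotient.mk_surjective

end Groth.Agent.S8836
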