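import Groth.Statements.S1170
import Groth.Agent.Lib.SymHilb26.CurveCase

set_option autoImplicit false
open CategoryTheory CategoryTheory.Limits AlgebraicGeometry
universe u
open HilbD

namespace Groth.Agent.S1170

/-- Let X be a smooth proper curve over a field k which stays irreducible after every extension of the
base field. Then for every d the degree-d Hilbert functor of points of X over k is represented by a
scheme which is proper and smooth over k. The published statement has projective in place of proper
(the two agree for curves over a field) and also asserts that the representing scheme is irreducible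
of dimension d, which is not asserted here. -/
theorem result (k : Type u) [Field k] (X : Scheme.{u}) (f : X ⟶ Spec (CommRingCat.of k))
    (hX : Curve.IsSmoothProperCurve k X f) [GeometricallyIrreducible f] (d : ℕ) :
    ∃ (H : Over (Spec (CommRingCat.of k))) (Z : HilbD.Obj f d H), HilbD.IsUniversal f d H Z ∧ IsProper H.hom ∧ Smooth H.hom := by
  obtain ⟨hprop, hsm, hint, hdim⟩ := hX
  haveI := hprop
  haveI := hsm
  haveI := hint
  haveI : SmoothOfRelativeDimension 1 f :=
    GrothLib.DimCut.smoothOfRelativeDimension f 1 (by exact_mod_cast hdim)
  haveI : IsLocallyNoetherian X := LocallyOfFiniteType.isLocallyNoetherian f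
  haveI : X.IsSeparated := ⟨by
    rw [← terminal.comp_from f]
    infer_instance⟩
  have hAF : SymProd.IsAF f := GrothLib.SymHilb26.isAF_of_dim_le_one f hdim.le
  obtain ⟨Y, q, g, hq⟩ := GrothLib.SymHilb26.exists_symProd hAF d
  obtain ⟨Z, hZ⟩ := GrothLib.SymHilb26.exists_universal hAF hq
  obtain ⟨h₁, h₂⟩ := GrothLib.SymHilb26.isProper_smooth hAF hq
  exact ⟨Over.mk g, Z, hZ, h₁, h₂⟩

end Groth.Agent.S1170
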