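import Groth.Statements.S6487
import Groth.Agent.Lib.CurveTwist26.Main

set_option autoImplicit false
universe u
open CategoryTheory CategoryTheory.Limits AlgebraicGeometry
open PicF

namespace Groth.Agent.S6487

/-- Let k be a separably closed field, X a smooth projective curve over k, K/k a field extension and L
an invertible sheaf on X_K. Then there is an invertible sheaf L_0 on X with dim_K H^0(X_K, L ⊗
L_0|_{X_K}) = 1 and H^1(X_K, L ⊗ L_0|_{X_K}) = 0. The base change X_K is given as any pullback
square over Spec K → Spec k with its K-structure; L_0|_{X_K} is the pullback module and ⊗ is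
CohB1.tensorMod; proper replaces projective (equivalent for curves over a field). -/
theorem result (k : Type u) [Field k] [IsSepClosed k] (X : Scheme.{u}) [X.Over (Spec (CommRingCat.of k))] (hX : Curve.IsSmoothProperCurve k X (X ↘ Spec (CommRingCat.of k))) (K : Type u) [Field K] [Algebra k K] (XK : Scheme.{u}) [XK.Over (Spec (CommRingCat.of K))] (g : XK ⟶ X) (hpb : IsPullback g (XK ↘ Spec (CommRingCat.of K)) (X ↘ Spec (CommRingCat.of k)) (Spec.map (CommRingCat.ofHom (algebraMap k K)))) (L : XK.Modules) (hL : PicF.IsInvertible L) : ∃ L₀ : X.Modules, PicF.IsInvertible L₀ ∧ Module.finrank K (Coh.HH XK (CohB1.tensorMod L ((Scheme.Modules.pullback g).obj L₀)) 0) = 1 ∧ Subsingleton (Coh.HH XK (CohB1.tensorMod L ((Scheme.Modules.pullback g).obj L₀)) 1) := by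
  obtain ⟨hp, hs, hi, hd⟩ := hX
  haveI : IsProper (XK ↘ Spec (CommRingCat.of K)) := MorphismProperty.of_isPullback hpb hp
  exact GrothLib.CurveTwist26.exists_one hpb hd hL

end Groth.Agent.S6487
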