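import Groth.Statements.S1039
import Groth.Agent.Lib.OX.AffineLocal

set_option autoImplicit false
universe u
open CategoryTheory CategoryTheory.Limits AlgebraicGeometry
attribute [local instance] HasDerivedCategory.standard
open Perf

namespace Groth.Agent.S1039

/-- Let X be a Noetherian scheme, E ∈ D(O_X) with quasi-coherent cohomology sheaves and m ∈ ℤ. Then
m-pseudo-coherence of E is equivalent to: Hⁱ(E) is coherent for every i ≥ m and vanishes for i
large. -/
theorem result (X : Scheme.{u}) [IsNoetherian X] (E : DCoh.D X) (hE : DCoh.IsQCohD E) (m : ℤ) :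
    DCoh.IsPseudoCoherentD m E ↔ (∀ i : ℤ, m ≤ i → Coh.IsCoh (DCoh.HD E i)) ∧ ∃ b : ℤ, E.IsLE b := by
  constructor
  · intro h
    refine ⟨fun i hi => GrothLib.OX.isCoh_of_affines fun U hU =>
      ((GrothLib.OX.isPseudoCoherentD_fromSpec_iff hE hU m).1 (GrothLib.OX.isPseudoCoherentD_resD h _)).2 i hi, ?_⟩
    choose b hb using fun U : X.affineOpens =>
      ((GrothLib.OX.isPseudoCoherentD_fromSpec_iff hE U.2 m).1 (GrothLib.OX.isPseudoCoherentD_resD h _)).1
    have hcov : ∀ x : X, ∃ U : X.affineOpens, x ∈ U.1 := fun x => by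
      obtain ⟨U, hU, hx, -⟩ := exists_isAffineOpen_mem_and_subset (x := x) (U := ⊤) trivial
      exact ⟨⟨U, hU⟩, hx⟩
    obtain ⟨s, hs⟩ := isCompact_univ.elim_finite_subcover (fun U : X.affineOpens => (U.1 : Set X))
      (fun U => U.1.2) (fun x _ => Set.mem_iUnion.2 (hcov x))
    obtain ⟨B, hB⟩ := (s.image b).bddAbove
    refine ⟨B, GrothLib.OX.isLE_of_affines fun x => ?_⟩
    obtain ⟨U, hU, hx⟩ := Set.mem_iUnion₂.1 (hs (Set.mem_univ x))
    refine ⟨_, U.2.fromSpec, inferInstance, GrothLib.OX.mem_range_fromSpec U.2 hx, ?_⟩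
    have := hb U
    exact (DerivedCategory.TStructure.t).isLE_of_le _ (b U) B (hB (Finset.mem_coe.2 (Finset.mem_image_of_mem b hU)))
  · rintro ⟨hc, b, hb⟩
    refine GrothLib.OX.isPseudoCoherentD_of_local fun x => ?_
    obtain ⟨U, hU, hx, -⟩ := exists_isAffineOpen_mem_and_subset (x := x) (U := ⊤) trivial
    refine ⟨_, hU.fromSpec, inferInstance, GrothLib.OX.mem_range_fromSpec hU hx,
      (GrothLib.OX.isPseudoCoherentD_fromSpec_iff hE hU m).2
        ⟨⟨b, GrothLib.DerTrunc.isLE_mapDerivedCategory _ E b⟩,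
          fun i hi => GrothLib.Cohom.isCoh_restrict _ (hc i hi) _⟩⟩

end Groth.Agent.S1039
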