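import Groth.Statements.S15941
import Mathlib.RingTheory.IntegralClosure.IntegrallyClosed
-- import your own Groth.Agent.* helpers here

set_option autoImplicit false
universe u
open HTop

namespace Groth.Agent.S15941

/-- An integrally closed integral domain is a seminormal ring, that is, whenever x^3 = y^2 there is
exactly one element a with x = a^2 and y = a^3. (The published statement is for a normal Noetherian
scheme and reduces at once to this affine integral case; the Noetherian hypothesis plays no role.) -/
theorem result (A : Type u) [CommRing A] [IsDomain A]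
    [IsIntegrallyClosed A] : HTop.IsSeminormalRing A := fun x y h => by
  rcases eq_or_ne x 0 with rfl | hx
  · have hy : y = 0 := (pow_eq_zero_iff two_ne_zero).1 (by rw [← h]; ring)
    exact ⟨0, ⟨by ring, by subst hy; ring⟩, fun a ha => (pow_eq_zero_iff two_ne_zero).1 ha.1.symm⟩
  · obtain ⟨a, ha⟩ : ∃ a : A, a * x = y := by
      let K := FractionRing A
      have hx' : algebraMap A K x ≠ 0 := by simpa using hx
      have : IsIntegral A (algebraMap A K y / algebraMap A K x) := by
        refine IsIntegral.of_pow two_pos ?_
        have : (algebraMap A K y / algebraMap A K x) ^ 2 = algebraMap A K x := by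
          rw [div_pow, div_eq_iff (pow_ne_zero 2 hx'), ← map_pow, ← map_pow, ← map_mul, ← h]
          congr 1; ring
        rw [this]
        exact isIntegral_algebraMap
      obtain ⟨a, ha⟩ := IsIntegrallyClosed.isIntegral_iff.1 this
      exact ⟨a, IsFractionRing.injective A K (by rw [map_mul, ha, div_mul_cancel₀ _ hx'])⟩
    subst ha
    have hxa : x = a ^ 2 := mul_left_cancel₀ (pow_ne_zero 2 hx) (by
      calc x ^ 2 * x = x ^ 3 := by ring
        _ = (a * x) ^ 2 := h
        _ = x ^ 2 * a ^ 2 := by ring)
    refine ⟨a, ⟨hxa, by rw [hxa]; ring⟩, fun b hb => ?_⟩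
    refine mul_right_cancel₀ hx ?_
    rw [hb.2]; rw [hb.1]; ring

end Groth.Agent.S15941
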