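import Groth.Statements.S7374
import Groth.Agent.Lib.CurveResol29.Disjoint
-- import your own Groth.Agent.* helpers here

set_option autoImplicit false
universe u
open CategoryTheory CategoryTheory.Limits AlgebraicGeometry
open Resolve

namespace Groth.Agent.S7374

/-- Let X be a Noetherian scheme and Y_1, …, Y_n ⊂ X integral closed subschemes of dimension one (ideal
sheaves I_i), pairwise distinct, each with finite normalization morphism. Then there is a finite
sequence of blowings up in closed points g : X' → X such that the strict transforms Y'_i ⊂ X' —
integral closed subschemes (ideals I'_i) mapped by g into Y_i, isomorphically over a nonempty open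
of Y_i — are pairwise disjoint and have regular local rings. (The quasi-compactness and
quasi-separatedness binders always hold. The published statement does not say the Y_i are distinct;
for Y_1 = Y_2 the strict transforms coincide and cannot be disjoint, so distinctness is assumed
here, as the proof's use of the intersection multiplicities m_p(Y_i ∩ Y_j) requires.) -/
theorem result (X : Scheme.{u}) [IsNoetherian X] {n : ℕ}
    (I : Fin n → X.IdealSheafData) [∀ i, IsIntegral (I i).subscheme] (hdim : ∀ i, topologicalKrullDim ↥(I i).subscheme = 1)
    [∀ i, QuasiCompact ((I i).subscheme.fromSpecStalk (genericPoint ↥(I i).subscheme))]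
    [∀ i, QuasiSeparated ((I i).subscheme.fromSpecStalk (genericPoint ↥(I i).subscheme))]
    (hfin : ∀ i, IsFinite (Curv2.normalizationι (I i).subscheme)) (hdist : Function.Injective I) :
    ∃ (X' : Scheme.{u}) (g : X' ⟶ X), Resolve.IsPtBlowupSeq g ∧
      ∃ (I' : Fin n → X'.IdealSheafData) (g' : ∀ i, (I' i).subscheme ⟶ (I i).subscheme),
        (∀ i, IsIntegral (I' i).subscheme ∧ g' i ≫ (I i).subschemeι = (I' i).subschemeι ≫ g ∧
          (∃ V : (I i).subscheme.Opens, (V : Set ↥(I i).subscheme).Nonempty ∧ IsIso (g' i ∣_ V)) ∧
          ∀ y : ↥(I' i).subscheme, IsRegularLocalRing ((I' i).subscheme.presheaf.stalk y)) ∧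
        ∀ i j, i ≠ j → Disjoint ((I' i).support : Set X') ((I' j).support : Set X') := by
  exact GrothLib.CurveResol29.exists_strictTransforms_disjoint I hdim hfin hdist

end Groth.Agent.S7374
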