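import Groth.Statements.S18646
import Groth.Agent.Lib.Segre.Basic
import Mathlib.RingTheory.RingHom.FiniteType

set_option autoImplicit false
universe u
open scoped TensorProduct
open GrSegre

namespace Groth.Agent.S18646

/-- Let R and S be graded rings defined over a field k. Then their Segre product T = R # S is a
Noetherian ring (hence again a graded ring defined over k). Here a graded ring defined over k is a
commutative k-algebra of finite type, graded in nonnegative degrees by k-subspaces with degree-zero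
part k·1; the Segre product T = R # S = ⊕_n R_n ⊗_k S_n (graded by T_n = R_n ⊗_k S_n) is presented
abstractly as a graded k-algebra T with an injective k-algebra homomorphism ψ : T → R ⊗_k S carrying
T_n onto the k-span of the elementary tensors a ⊗ b with a ∈ R_n, b ∈ S_n, for every n. -/
theorem result (k : Type u) [Field k] (R : Type u) [CommRing R] [Algebra k R] (𝒜 : ℤ → Submodule k R) [GradedAlgebra 𝒜] (hposR : ∀ n : ℤ, n < 0 → 𝒜 n = ⊥) (h0R : 𝒜 0 = Submodule.span k {(1 : R)}) [Algebra.FiniteType k R] (S : Type u) [CommRing S] [Algebra k S] (ℬ : ℤ → Submodule k S) [GradedAlgebra ℬ] (hposS : ∀ n : ℤ, n < 0 → ℬ n = ⊥) (h0S : ℬ 0 = Submodule.span k {(1 : S)}) [Algebra.FiniteType k S] (T : Type u) [CommRing T] [Algebra k T] (𝒯 : ℤ → Submodule k T) [GradedAlgebra 𝒯] (ψ : T →ₐ[k] TensorProduct k R S) (hψ : Function.Injective ψ) (hdegT : ∀ n : ℤ, (𝒯 n).map ψ.toLinearMap = Submodule.span k {x : TensorProduct k R S | ∃ a ∈ 𝒜 n, ∃ b ∈ ℬ n, x = a ⊗ₜ[k] b}) : IsNoetherianRing T := by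
  haveI : Algebra.FiniteType R (TensorProduct k R S) := inferInstance
  haveI : Algebra.FiniteType k (TensorProduct k R S) := Algebra.FiniteType.trans (S := R) ‹_› ‹_›
  haveI : IsNoetherianRing (TensorProduct k R S) := Algebra.FiniteType.isNoetherianRing k _
  exact GrothLib.Segre.isNoetherian_segre 𝒜 ℬ 𝒯 ψ hψ hdegT (RingHom.id _) (RingHom.Finite.id _)
    ψ.toRingHom (fun a => rfl) fun b => by
      obtain ⟨t, ht⟩ := (GrothLib.Segre.range_eq_segre 𝒜 ℬ 𝒯 ψ hdegT).ge
        (GrothLib.Segre.diag_mem_segre 𝒜 ℬ b)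
      exact ⟨t, ht⟩

end Groth.Agent.S18646
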