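import Groth.Statements.S14694
import Mathlib.AlgebraicGeometry.Morphisms.FlatRank
import Mathlib.RingTheory.AdjoinRoot
-- import your own Groth.Agent.* helpers here

set_option autoImplicit false
universe u
open CategoryTheory AlgebraicGeometry
open SekSuwa

namespace Groth.Agent.S14694

/-- For any commutative ring R, λ ∈ R and N ≥ 1 such that λ is a non-zero-divisor and λ^N divides (1 +
λX)^N − 1 in R[X] with quotient P_{λ,N}, the R-group scheme G_{λ,N}, defined as the closed subscheme
of the affine R-group G^(λ) = Spec R[T, 1/(1+λT)] cut out by P_{λ,N}(T), is finite locally free of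
degree N over Spec R (its coordinate ring is R[T]/(P_{λ,N}(T)) with P_{λ,N} monic of degree N). (The
published text states this over a discrete valuation ring with N = p^n: G_{λ,n} is a commutative
finite flat group scheme of rank p^n.) -/
theorem result (R : Type u) [CommRing R] (lam : R) (N : ℕ) (hN : 0 < N) (h : SekSuwa.DivCond lam N) :
    Mor2.IsFinLocFreeOfDeg N (SekSuwa.GK R lam N h).hom := by
  classical
  set P := SekSuwa.psiPoly lam N h
  have hspec := SekSuwa.psiPoly_spec h
  have hlN : lam ^ N ∈ nonZeroDivisors R := h.pow_nzd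
  have hc : ∀ n, lam ^ N * P.coeff n = ((1 + Polynomial.C lam * Polynomial.X) ^ N - 1 : Polynomial R).coeff n :=
    fun n => by rw [← hspec, Polynomial.coeff_C_mul]
  have hdeg1 : (1 + Polynomial.C lam * Polynomial.X : Polynomial R).natDegree ≤ 1 := by
    rw [add_comm, ← Polynomial.C_1]
    exact Polynomial.natDegree_linear_le
  have hdeg : P.natDegree ≤ N := by
    refine Polynomial.natDegree_le_iff_coeff_eq_zero.mpr fun n hn => ?_
    refine (mem_nonZeroDivisors_iff.mp hlN).1 _ ?_
    rw [hc, Polynomial.coeff_sub, Polynomial.coeff_one, if_neg (by omega : ¬ n = 0), sub_zero]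
    exact Polynomial.coeff_eq_zero_of_natDegree_lt
      ((Polynomial.natDegree_pow_le.trans (Nat.mul_le_mul_left N hdeg1)).trans_lt (by omega))
  have hlead : P.coeff N = 1 := by
    have h1 : lam ^ N * P.coeff N = lam ^ N := by
      rw [hc, Polynomial.coeff_sub, Polynomial.coeff_one, if_neg (by omega : ¬ N = 0), sub_zero]
      have := Polynomial.coeff_pow_of_natDegree_le (m := N) hdeg1
      rw [mul_one] at this
      rw [this]
      simp [Polynomial.coeff_one]
    rw [← sub_eq_zero]
    refine (mem_nonZeroDivisors_iff.mp hlN).1 _ ?_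
    rw [mul_sub, h1, mul_one, sub_self]
  have hmonic : P.Monic := Polynomial.monic_of_natDegree_le_of_coeff_eq_one N hdeg hlead
  set B := AdjoinRoot P
  set x : B := AdjoinRoot.root P
  have hx : Polynomial.aeval x P = 0 := by
    rw [AdjoinRoot.aeval_eq, AdjoinRoot.mk_self]
  have hu : (1 + lam • x) ^ N = 1 := by
    have h1 := SekSuwa.aeval_psiPoly h x
    rw [hx, mul_zero] at h1
    rw [Algebra.smul_def]
    exact (sub_eq_zero.mp h1.symm)
  have hinv : (1 + lam • x) * (1 + lam • x) ^ (N - 1) = 1 := by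
    rw [← pow_succ', Nat.sub_add_cancel hN, hu]
  let f : SekSuwa.AK R lam N h →ₐ[R] B := Ideal.Quotient.liftₐ _ (SekSuwa.A.lift R lam x _ hinv) (by
    intro a ha
    obtain ⟨d, rfl⟩ := Ideal.mem_span_singleton'.mp ha
    rw [map_mul, SekSuwa.kerGen, ← Polynomial.aeval_algHom_apply, SekSuwa.A.lift_t, hx, mul_zero])
  let g : B →ₐ[R] SekSuwa.AK R lam N h := AdjoinRoot.liftAlgHom P (Algebra.ofId R _) SekSuwa.AK.t SekSuwa.AK.aeval_t
  have hft : f SekSuwa.AK.t = x := SekSuwa.A.lift_t x _ hinv
  have hgx : g x = SekSuwa.AK.t := AdjoinRoot.lift_root SekSuwa.AK.aeval_t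
  have hgf : g.comp f = AlgHom.id R _ := by
    refine SekSuwa.AK.algHom_ext ?_ ?_
    · rw [AlgHom.comp_apply, hft, hgx]; rfl
    · have h0 : (SekSuwa.AK.inv : SekSuwa.AK R lam N h) * (1 + lam • SekSuwa.AK.t) = 1 := by
        have h3 := congrArg (SekSuwa.AK.mkHom R lam N h) (SekSuwa.A.inv_mul_u (R := R) (lam := lam))
        rw [map_mul, map_one, SekSuwa.AK.mkHom_u] at h3
        exact h3
      have h1 : f SekSuwa.AK.inv = (1 + lam • x) ^ (N - 1) := SekSuwa.A.lift_inv x _ hinv
      rw [AlgHom.comp_apply, h1, map_pow, map_add, map_one, map_smul, hgx]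
      refine (left_inv_eq_right_inv (a := (1 + lam • SekSuwa.AK.t : SekSuwa.AK R lam N h)) h0 ?_).symm
      rw [← pow_succ', Nat.sub_add_cancel hN, SekSuwa.AK.u_pow]
  have hfg : f.comp g = AlgHom.id R _ := AdjoinRoot.algHom_ext (by rw [AlgHom.comp_apply, hgx, hft]; rfl)
  let e : SekSuwa.AK R lam N h ≃ₐ[R] B := AlgEquiv.ofAlgHom f g hfg hgf
  have hfree : Module.Free R B := Module.Free.of_basis (AdjoinRoot.powerBasis' hmonic).basis
  have hfin : Module.Finite R B := Module.Finite.of_basis (AdjoinRoot.powerBasis' hmonic).basis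
  have : Module.Free R (SekSuwa.AK R lam N h) := Module.Free.of_equiv e.symm.toLinearEquiv
  have : Module.Finite R (SekSuwa.AK R lam N h) := Module.Finite.equiv e.symm.toLinearEquiv
  have hfp : Algebra.FinitePresentation R (SekSuwa.AK R lam N h) :=
    have : Algebra.FinitePresentation R B :=
      Algebra.FinitePresentation.quotient (Submodule.fg_span_singleton P)
    Algebra.FinitePresentation.equiv e.symm
  change Mor2.IsFinLocFreeOfDeg N (Spec.map (CommRingCat.ofHom (algebraMap R (SekSuwa.AK R lam N h))))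
  refine ⟨⟨?_, ?_, ?_⟩, fun y => ?_⟩
  · rw [IsFinite.SpecMap_iff]
    exact RingHom.finite_algebraMap.mpr inferInstance
  · rw [HasRingHomProperty.Spec_iff (P := @Flat)]
    exact RingHom.flat_algebraMap_iff.mpr inferInstance
  · rw [HasRingHomProperty.Spec_iff (P := @LocallyOfFinitePresentation)]
    exact RingHom.finitePresentation_algebraMap.mpr hfp
  · rw [Scheme.Hom.finrank_SpecMap_algebraMap]
    have : Nontrivial R := PrimeSpectrum.nonempty_iff_nontrivial.mp ⟨y⟩
    rw [Module.rankAtStalk_eq_finrank_of_free]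
    change Module.finrank R (SekSuwa.AK R lam N h) = N
    rw [e.toLinearEquiv.finrank_eq,
      (AdjoinRoot.powerBasis' hmonic).finrank, AdjoinRoot.powerBasis'_dim]
    exact le_antisymm hdeg (Polynomial.le_natDegree_of_ne_zero (by rw [hlead]; exact one_ne_zero))

end Groth.Agent.S14694
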