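import Groth.Statements.S14693

-- import your own Groth.Agent.* helpers here

set_option autoImplicit false
universe u
open CategoryTheory AlgebraicGeometry
open SekSuwa

namespace Groth.Agent.S14693

open MonoidalCategory CartesianMonoidalCategory MonObj

/-- For any commutative ring R, λ ∈ R and N such that λ is a non-zero-divisor and λ^N divides (1 + λX)^N
− 1 in R[X] with quotient P_{λ,N}, the closed subgroup scheme G_{λ,N} = Spec R[T]/(P_{λ,N}(T)) of
the affine R-group G^(λ) = Spec R[T, 1/(1+λT)] (group law s + t + λst) is the kernel of the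
homomorphism ψ_{λ,N} : G^(λ) → G^(λ^N), T ↦ P_{λ,N}(T): the square with sides the inclusion G_{λ,N}
→ G^(λ), ψ_{λ,N}, the unit section of G^(λ^N) and G_{λ,N} → Spec R is cartesian. (The published
text, over a discrete valuation ring and with N = p^n, introduces G_{λ,n} as the kernel of the
isogeny ψ_{λ,n}; this row is that assertion for every N, including the degenerate N = 0 where ψ is
trivial and G_{λ,0} = G^(λ).) -/
theorem result (R : Type u) [CommRing R] (lam : R) (N : ℕ) (h : SekSuwa.DivCond lam N) :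
    AlgGrp.IsKernel (SekSuwa.incl R lam N h) (SekSuwa.psi R lam N h) := by
  have hw : SekSuwa.incl R lam N h ≫ SekSuwa.psi R lam N h = toUnit _ ≫ η[SekSuwa.G R (lam ^ N)] := by
    rw [SekSuwa.incl_psi, Hom.one_def]
  have hci : IsClosedImmersion (SekSuwa.incl R lam N h).left := by
    rw [SekSuwa.incl, SekSuwa.specHom_left]
    exact IsClosedImmersion.spec_of_surjective _ Ideal.Quotient.mk_surjective
  have hmono : Mono (SekSuwa.incl R lam N h) :=
    (Over.forget _).mono_of_mono_map (inferInstanceAs (Mono (SekSuwa.incl R lam N h).left))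
  have hex : ∀ {T : Over (Spec (CommRingCat.of R))} (g : T ⟶ SekSuwa.G R lam),
      g ≫ SekSuwa.psi R lam N h = toUnit T ≫ η[SekSuwa.G R (lam ^ N)] →
      ∃ l : T ⟶ SekSuwa.GK R lam N h, l ≫ SekSuwa.incl R lam N h = g := by
    intro T g hg
    let e := T.left.toSpecΓ
    obtain ⟨ψg, hψ⟩ : ∃ ψg : CommRingCat.of (SekSuwa.A R lam) ⟶ Γ(T.left, ⊤),
        e ≫ Spec.map ψg = g.left :=
      ⟨(ΓSpec.adjunction.homEquiv _ _).symm g.left |>.unop,
        (ΓSpec.adjunction.homEquiv_unit ..).symm.trans ((ΓSpec.adjunction.homEquiv _ _).apply_symm_apply g.left)⟩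
    obtain ⟨ψT, hT⟩ : ∃ ψT : CommRingCat.of R ⟶ Γ(T.left, ⊤), e ≫ Spec.map ψT = T.hom :=
      ⟨(ΓSpec.adjunction.homEquiv _ _).symm T.hom |>.unop,
        (ΓSpec.adjunction.homEquiv_unit ..).symm.trans ((ΓSpec.adjunction.homEquiv _ _).apply_symm_apply T.hom)⟩
    have hu : (toUnit T).left = T.hom := (Category.comp_id _).symm.trans (Over.w (toUnit T))
    have h1 : CommRingCat.ofHom (SekSuwa.psiHom R lam N h : SekSuwa.A R (lam ^ N) →+* SekSuwa.A R lam) ≫ ψg =
        CommRingCat.ofHom (Bialgebra.counitAlgHom R (SekSuwa.A R (lam ^ N)) : SekSuwa.A R (lam ^ N) →+* R) ≫ ψT := by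
      have h0 : g.left ≫ (SekSuwa.psi R lam N h).left =
          (toUnit T).left ≫ η[SekSuwa.G R (lam ^ N)].left := congrArg CommaMorphism.left hg
      rw [hu, one_spec_asOver_spec_left] at h0
      have this : e ≫ Spec.map (CommRingCat.ofHom
            (SekSuwa.psiHom R lam N h : SekSuwa.A R (lam ^ N) →+* SekSuwa.A R lam) ≫ ψg) =
          e ≫ Spec.map (CommRingCat.ofHom
            (Bialgebra.counitAlgHom R (SekSuwa.A R (lam ^ N)) : SekSuwa.A R (lam ^ N) →+* R) ≫ ψT) := by
        rw [Spec.map_comp, Spec.map_comp, ← Category.assoc, ← Category.assoc, hψ, hT]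
        exact h0
      have h2 := (ΓSpec.adjunction.homEquiv T.left _).injective (a₁ := (CommRingCat.ofHom _ ≫ ψg).op)
        (a₂ := (CommRingCat.ofHom _ ≫ ψT).op) ((ΓSpec.adjunction.homEquiv_unit ..).trans
          (this.trans (ΓSpec.adjunction.homEquiv_unit ..).symm))
      exact Quiver.Hom.op_inj h2
    have hk : ∀ z ∈ SekSuwa.kerIdeal lam N h, ψg.hom z = 0 := by
      intro z hz
      obtain ⟨c, rfl⟩ := Ideal.mem_span_singleton'.mp hz
      have h3 := congrArg (fun φ => φ.hom SekSuwa.A.t) h1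
      simp only [CommRingCat.hom_comp, CommRingCat.hom_ofHom, RingHom.coe_comp, Function.comp_apply] at h3
      rw [show (SekSuwa.psiHom R lam N h : SekSuwa.A R (lam ^ N) →+* SekSuwa.A R lam) SekSuwa.A.t =
        SekSuwa.kerGen lam N h from SekSuwa.psiHom_t R lam N h] at h3
      rw [map_mul, h3]
      rw [show (Bialgebra.counitAlgHom R (SekSuwa.A R (lam ^ N)) : SekSuwa.A R (lam ^ N) →+* R) SekSuwa.A.t = 0
        from SekSuwa.A.counit_t, map_zero, mul_zero]
    let χ : CommRingCat.of (SekSuwa.AK R lam N h) ⟶ Γ(T.left, ⊤) :=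
      CommRingCat.ofHom (Ideal.Quotient.lift (SekSuwa.kerIdeal lam N h) ψg.hom hk)
    have hl : (e ≫ Spec.map χ) ≫ (SekSuwa.incl R lam N h).left = g.left :=
      (Category.assoc _ _ _).trans ((congrArg (e ≫ ·)
        ((Spec.map_comp (CommRingCat.ofHom
          (SekSuwa.AK.mkHom R lam N h : SekSuwa.A R lam →+* SekSuwa.AK R lam N h)) χ).symm.trans
          (congrArg Spec.map (CommRingCat.hom_ext (RingHom.ext fun z => rfl))))).trans hψ)
    refine ⟨Over.homMk (e ≫ Spec.map χ) ?_, Over.OverMorphism.ext hl⟩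
    exact ((congrArg ((e ≫ Spec.map χ) ≫ ·) (Over.w (SekSuwa.incl R lam N h))).symm.trans
      ((Category.assoc _ _ _).symm.trans (congrArg (· ≫ (SekSuwa.G R lam).hom) hl))).trans (Over.w g)
  refine ⟨⟨hw⟩, ⟨Limits.PullbackCone.IsLimit.mk _
    (fun s => (hex s.fst (by rw [s.condition, toUnit_unique s.snd (toUnit _)])).choose)
    (fun s => (hex s.fst (by rw [s.condition, toUnit_unique s.snd (toUnit _)])).choose_spec)
    (fun s => toUnit_unique _ _) fun s m hm _ => ?_⟩⟩
  rw [← cancel_mono (SekSuwa.incl R lam N h), hm,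
    (hex s.fst (by rw [s.condition, toUnit_unique s.snd (toUnit _)])).choose_spec]

end Groth.Agent.S14693
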