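import Groth.Statements.S12065
import Groth.Agent.Lib.Chev24.Tori
import Groth.Agent.Lib.Chev24.SemiAb
import Groth.Agent.Lib.Flag27.Preimage
import Groth.Agent.Lib.Flag27.MaxToriConj
import Groth.Agent.Lib.Induce27.Finite
import Groth.Agent.Lib.Induce27.FiniteIndexFG
import Groth.Agent.Lib.Rigidity.SemiAbelian
import Groth.Agent.Lib.SecLocus.NormCent
import Groth.Agent.Lib.SecLocus.MonoGroup
import Groth.Agent.S5248
-- import your own Groth.Agent.* helpers here

set_option autoImplicit false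
set_option linter.style.haveILetI false
set_option backward.isDefEq.respectTransparency false
universe u
open CategoryTheory MonoidalCategory CartesianMonoidalCategory MonObj GrpObj AlgebraicGeometry
open SGA3x

namespace Groth.Agent.S12065

/-- A right translate of a closed immersion is a closed immersion. -/
theorem isClosedImmersion_mulRight {k : Type u} [Field k] {A B : Over (Spec (CommRingCat.of k))} [GrpObj B]
    (f : A ⟶ B) [IsClosedImmersion f.left] (b : 𝟙_ (Over (Spec (CommRingCat.of k))) ⟶ B) :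
    IsClosedImmersion (f * (toUnit A ≫ b)).left := by
  let e : B ≅ B :=
    { hom := 𝟙 B * (toUnit B ≫ b)
      inv := 𝟙 B * (toUnit B ≫ b)⁻¹
      hom_inv_id := by
        simp only [MonObj.comp_mul, GrpObj.comp_inv, Category.comp_id, ← Category.assoc]
        rw [toUnit_unique ((𝟙 B * (toUnit B ≫ b)) ≫ toUnit B) (toUnit B), mul_inv_cancel_right]
      inv_hom_id := by
        simp only [MonObj.comp_mul, GrpObj.comp_inv, Category.comp_id, ← Category.assoc]
        rw [toUnit_unique ((𝟙 B * (toUnit B ≫ b)⁻¹) ≫ toUnit B) (toUnit B), inv_mul_cancel_right] }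
  have h : f * (toUnit A ≫ b) = f ≫ e.hom := by
    simp only [e, MonObj.comp_mul, Category.comp_id, ← Category.assoc, toUnit_unique (f ≫ toUnit B) (toUnit A)]
  haveI : IsIso e.hom.left := inferInstanceAs (IsIso ((Over.forget _).mapIso e).hom)
  rw [h, Over.comp_left]
  infer_instance

/-- Descent along a faithfully flat quasi-compact morphism with the same kernel pair. -/
theorem exists_desc_mono {S : Scheme.{u}} {A B Q H : Over S} (c : A ⟶ B) [Flat c.left] [Surjective c.left]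
    [QuasiCompact c.left] (l : A ⟶ Q) (b : B ⟶ H) (q : Q ⟶ H) [Mono q] (h : c ≫ b = l ≫ q) :
    ∃ d : B ⟶ Q, d ≫ q = b := by
  let d₀ : B.left ⟶ Q.left := EffectiveEpi.desc c.left l.left fun {Z} g₁ g₂ hg => by
    let T : Over S := Over.mk (g₁ ≫ A.hom)
    have h2 : g₂ ≫ A.hom = g₁ ≫ A.hom := by rw [← Over.w c, ← reassoc_of% hg]
    let a₁ : T ⟶ A := Over.homMk g₁ rfl
    let a₂ : T ⟶ A := Over.homMk g₂ h2
    have : a₁ ≫ l = a₂ ≫ l := by
      rw [← cancel_mono q, Category.assoc, Category.assoc, ← h, ← Category.assoc, ← Category.assoc,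
        show a₁ ≫ c = a₂ ≫ c from Over.OverMorphism.ext hg]
    exact congrArg (fun t => t.left) this
  have hd : c.left ≫ d₀ = l.left := EffectiveEpi.fac _ _ _
  refine ⟨Over.homMk d₀ ?_, ?_⟩
  · rw [← cancel_epi c.left, reassoc_of% hd, Over.w l]
    exact (Over.w c).symm
  · haveI := GrothLib.QuotTorus14.epi_of_flat_surjective c
    rw [← cancel_epi c, ← Category.assoc, h]
    congr 1
    exact Over.OverMorphism.ext hd

/-- The connected normalizer of a torus centralizes it. -/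
theorem central_of_normalizes {k : Type u} [Field k] [IsAlgClosed k] {G X T : Over (Spec (CommRingCat.of k))} [GrpObj G] [GrpObj X]
    [GrpObj T] [Smooth X.hom] [ConnectedSpace X.left] [QuasiCompact X.hom] (hT : Red.IsTorus T)
    (f : X ⟶ G) [IsMonHom f] (t : T ⟶ G) [IsMonHom t] [Mono t]
    (hn : ∃ h' : X ⊗ T ⟶ T, (fst X T ≫ f) * (snd X T ≫ t) * (fst X T ≫ f)⁻¹ = h' ≫ t) :
    (fst X T ≫ f) * (snd X T ≫ t) = (snd X T ≫ t) * (fst X T ≫ f) := by
  obtain ⟨h', hh⟩ := hn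
  obtain ⟨hTa, hTl⟩ := GrothLib.OneMotFaith14.isAffine_of_isTorus hT
  haveI := hTa; haveI := hTl
  obtain ⟨hTs, hTc⟩ := GrothLib.Rigidity.smooth_connected_of_isTorus T hT
  haveI := hTs; haveI := hTc
  haveI : IsAffineHom T.hom := isAffineHom_of_isAffine _
  haveI := GrothLib.Neutral.geometricallyConnected_of_point X.hom η[X].left (Over.w η[X])
  haveI := GrothLib.Rigidity.geometricallyIntegral_of_smooth X
  haveI := GrothLib.Neutral.geometricallyConnected_of_point T.hom η[T].left (Over.w η[T])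
  haveI := GrothLib.Rigidity.geometricallyIntegral_of_smooth T
  have hu : h' * (snd X T)⁻¹ = 1 := by
    refine GrothLib.Rigidity.torus_rigid hT _ (1 : 𝟙_ _ ⟶ X) (1 : 𝟙_ _ ⟶ T) ?_ ?_ <;>
      apply (cancel_mono t).1 <;>
      simp only [Category.assoc, MonObj.mul_comp, GrpObj.inv_comp, MonObj.one_comp, ← hh, MonObj.comp_mul,
        GrpObj.comp_inv, lift_fst_assoc, lift_snd_assoc, Category.id_comp, MonObj.comp_one,
        inv_one, _root_.mul_one, _root_.one_mul, mul_inv_cancel]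
  rw [mul_inv_eq_one] at hu
  rw [hu] at hh
  exact mul_inv_eq_iff_eq_mul.1 hh

/-- Let G and H be smooth connected algebraic groups (not necessarily affine) over an algebraically
closed field k and v : G → H a surjective homomorphism. Let T be a maximal torus of G and C its
centralizer, and let T′ = v(T), C′ = v(C) be their images: subgroup schemes t′ : T′ → H, c′ : C′ → H
together with flat surjective homomorphisms T → T′ and C → C′ over v. Then C′ is the centralizer of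
T′ in H. -/
theorem result (k : Type u) [Field k] [IsAlgClosed k]
    (G H : Over (Spec (CommRingCat.of k))) [GrpObj G] [GrpObj H]
    [Smooth G.hom] [QuasiCompact G.hom] [ConnectedSpace ↥G.left]
    [Smooth H.hom] [QuasiCompact H.hom] [ConnectedSpace ↥H.left]
    (v : G ⟶ H) [IsMonHom v] [Surjective v.left]
    (T : Over (Spec (CommRingCat.of k))) [GrpObj T] (i : T ⟶ G) (hT : Red.IsMaximalTorus i)
    (C : Over (Spec (CommRingCat.of k))) [GrpObj C] (c : C ⟶ G) (hC : Red.IsCentralizerOf i c)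
    (T' : Over (Spec (CommRingCat.of k))) [GrpObj T'] (t' : T' ⟶ H) [IsMonHom t'] [Mono t']
    (wT : T ⟶ T') [IsMonHom wT] [Flat wT.left] [Surjective wT.left] (hwT : wT ≫ t' = i ≫ v)
    (C' : Over (Spec (CommRingCat.of k))) [GrpObj C'] (c' : C' ⟶ H) [IsMonHom c'] [Mono c']
    (wC : C ⟶ C') [IsMonHom wC] [Flat wC.left] [Surjective wC.left] (hwC : wC ≫ c' = c ≫ v) :
    Red.IsCentralizerOf t' c' := by
  haveI : IsSeparated G.hom := GrothLib.GrpSchField.isSeparated G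
  haveI : IsSeparated H.hom := GrothLib.GrpSchField.isSeparated H
  haveI : IsReduced H.left := GrothLib.RedSmooth.isReduced_of_smooth H.hom
  obtain ⟨him, himono, hTt, -⟩ := id hT
  obtain ⟨hcm, hcmono, hciff⟩ := id hC
  haveI := him; haveI := himono; haveI := hcm; haveI := hcmono
  obtain ⟨hic, hTa, hTs, hTc⟩ := GrothLib.Chev24.torus_facts' hTt i
  haveI := hic; haveI := hTa; haveI := hTs; haveI := hTc
  haveI : IsAffineHom T.hom := isAffineHom_of_isAffine _
  haveI := GrothLib.Neutral.geometricallyConnected_of_point T.hom η[T].left (Over.w η[T])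
  haveI := GrothLib.Rigidity.geometricallyIntegral_of_smooth T
  obtain ⟨C₀, _, c₀, hc₀, hc₀c, -⟩ := GrothLib.SecLocus.exists_centralizer i
  haveI := hc₀c; haveI := hc₀.2.1
  obtain ⟨α, hα⟩ := (hc₀.2.2 C c).2 ((hciff C c).1 ⟨𝟙 C, Category.id_comp c⟩)
  obtain ⟨β, hβ⟩ := (hciff C₀ c₀).2 ((hc₀.2.2 C₀ c₀).1 ⟨𝟙 C₀, Category.id_comp c₀⟩)
  haveI : IsIso α := ⟨β, by rw [← cancel_mono c, Category.assoc, hβ, hα, Category.id_comp],
    by rw [← cancel_mono c₀, Category.assoc, hα, hβ, Category.id_comp]⟩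
  haveI : IsIso α.left := inferInstanceAs (IsIso ((Over.forget _).map α))
  haveI : IsClosedImmersion c.left := by rw [← hα, Over.comp_left]; infer_instance
  haveI : LocallyOfFiniteType C.hom := by rw [← Over.w c]; infer_instance
  haveI : QuasiCompact C.hom := by rw [← Over.w c]; infer_instance
  haveI : QuasiCompact (c ≫ v).left := by
    haveI : QuasiCompact ((c ≫ v).left ≫ H.hom) := by rw [Over.w]; infer_instance
    exact QuasiCompact.of_comp _ H.hom
  haveI : QuasiCompact (i ≫ v).left := by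
    haveI : QuasiCompact ((i ≫ v).left ≫ H.hom) := by rw [Over.w]; infer_instance
    exact QuasiCompact.of_comp _ H.hom
  -- the image of `C`
  obtain ⟨C'', _, pC, iC, hpCm, hiCm, hpiC, hpCs, hpCf, hpCl, hiCmono, hC''l, -⟩ :=
    GrothLib.Neutral.exists_factor_field (c ≫ v)
  haveI := hpCm; haveI := hiCm; haveI := hpCs; haveI := hpCf; haveI := hpCl; haveI := hiCmono; haveI := hC''l
  haveI := (GrothLib.Neutral.isClosedImmersion_factor (c ≫ v) hpiC).1
  haveI := GrothLib.QuotTorus14.epi_of_flat_surjective wC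
  haveI := GrothLib.QuotTorus14.epi_of_flat_surjective pC
  obtain ⟨eC, heC⟩ : ∃ e : C'' ⟶ C', e ≫ c' = iC := by
    haveI := (GrothLib.Neutral.isClosedImmersion_factor (c ≫ v) hpiC).2
    exact exists_desc_mono pC wC iC c' (hpiC.trans hwC.symm)
  -- the image of `T`
  obtain ⟨T'', _, pT, iT, hpTm, hiTm, hpiT, hpTs, hpTf, hpTl, hiTmono, hT''l, -⟩ :=
    GrothLib.Neutral.exists_factor_field (i ≫ v)
  haveI := hpTm; haveI := hiTm; haveI := hpTs; haveI := hpTf; haveI := hpTl; haveI := hiTmono; haveI := hT''l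
  haveI := (GrothLib.Neutral.isClosedImmersion_factor (i ≫ v) hpiT).1
  haveI : Smooth T''.hom := GrothLib.FppfSource.fppfSourceDescends_smooth pT.left T''.hom hpTf hpTl hpTs
    (by rw [Over.w pT]; infer_instance)
  haveI : ConnectedSpace T''.left := pT.left.surjective.connectedSpace pT.left.continuous
  haveI : IsAffine T''.left := GrothLib.Chevalley.isAffine_of_surjective_hom pT
  have hT'' : Red.IsTorus T'' := GrothLib.Chev24.isTorus_of_torus_surjective hTt pT
  obtain ⟨eT, heT⟩ : ∃ e : T'' ⟶ T', e ≫ t' = iT := by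
    haveI := (GrothLib.Neutral.isClosedImmersion_factor (i ≫ v) hpiT).2
    exact exists_desc_mono pT wT iT t' (hpiT.trans hwT.symm)
  obtain ⟨eT', heT'⟩ : ∃ e : T' ⟶ T'', e ≫ iT = t' := by
    haveI : QuasiCompact (wT.left ≫ t'.left) := by rw [← Over.comp_left, hwT]; infer_instance
    haveI : QuasiCompact wT.left := QuasiCompact.of_comp wT.left t'.left
    exact exists_desc_mono wT pT t' iT (hwT.trans hpiT.symm)
  haveI := GrothLib.Neutral.geometricallyConnected_of_point T''.hom η[T''].left (Over.w η[T''])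
  haveI := GrothLib.Rigidity.geometricallyIntegral_of_smooth T''
  obtain ⟨Z, _, z, hz, hzc, -⟩ := GrothLib.SecLocus.exists_centralizer iT
  obtain ⟨hzs, hzconn⟩ := GrothLib.Chev24.smooth_connected_centralizer iT hT'' z hz
  obtain ⟨hzm, hzmono, hziff⟩ := id hz
  haveI := hzc; haveI := hzs; haveI := hzm; haveI := hzmono
  haveI := hzconn
  haveI : IsReduced Z.left := GrothLib.RedSmooth.isReduced_of_smooth Z.hom
  haveI : IrreducibleSpace Z.left := GrothLib.Rigidity.irreducibleSpace_of_connected Z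
  -- `C''` centralizes the image of the torus
  have hcom : (fst C'' T'' ≫ iC) * (snd C'' T'' ≫ iT) = (snd C'' T'' ≫ iT) * (fst C'' T'' ≫ iC) := by
    haveI : Epi (pC ⊗ₘ pT) := GrothLib.Chevalley.epi_of_cover _
      (GrothLib.Chevalley.cover_tensor ⟨hpCf, hpCs, hpCl⟩ ⟨hpTf, hpTs, hpTl⟩)
    refine (cancel_epi (pC ⊗ₘ pT)).1 ?_
    simp only [MonObj.comp_mul, tensorHom_fst_assoc, tensorHom_snd_assoc, Category.assoc, hpiC, hpiT]
    have h1 := congrArg (· ≫ v) ((hciff _ (fst C T ≫ c)).1 ⟨fst C T, rfl⟩ (C ⊗ T) (𝟙 _) (snd C T))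
    simpa only [MonObj.mul_comp, Category.assoc, Category.id_comp] using h1
  obtain ⟨u, hu⟩ : ∃ u : C'' ⟶ Z, u ≫ z = iC := (hziff _ iC).2 fun X x h => by
    simpa only [MonObj.comp_mul, lift_fst_assoc, lift_snd_assoc] using congrArg (lift x h ≫ ·) hcom
  haveI : IsClosedImmersion u.left := by
    haveI : IsClosedImmersion (u.left ≫ z.left) := by rw [← Over.comp_left, hu]; infer_instance
    exact IsClosedImmersion.of_comp u.left z.left
  -- points
  obtain ⟨N, _, iN, hiN, hiNc, hNs, hNc, hNa, hNn, hmax⟩ := GrothLib.Chev24.exists_affPart (G := G)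
  haveI := hiN; haveI := hiNc; haveI := hNs; haveI := hNc; haveI := hNa
  haveI : Mono iN := Over.mono_of_mono_left iN
  haveI : IsAffineHom N.hom := isAffineHom_of_isAffine _
  obtain ⟨Q, _, q, hq, hQs, hQq, hqf, hqs, -, hker⟩ := GrothLib.Chev24.exists_quot iN hNn
  haveI := hq; haveI := hQs; haveI := hQq; haveI := hqf; haveI := hqs
  haveI := GrothLib.Chev24.isProper_quotient iN hmax q hker
  obtain ⟨M, _, jM, hjM, hjMc, hM, -, hMmax, -⟩ := GrothLib.AntMax16.exists_ant G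
  haveI := hjM; haveI := hjMc
  obtain ⟨hlM, hqM⟩ := GrothLib.AntMax16.props_of_mono jM
  haveI := hlM; haveI := hqM
  haveI hψs : Surjective ((iN ⊗ₘ jM) ≫ μ[G]).left :=
    (GrothLib.AntMax16.ant_generates iN q hker jM hM (fun K' _ _ _ b _ _ hb => hMmax K' b hb)).1
  haveI : LocallyOfFiniteType (N ⊗ M).hom :=
    inferInstanceAs (LocallyOfFiniteType (Limits.pullback.fst N.hom M.hom ≫ N.hom))
  obtain ⟨t, ht⟩ := GrothLib.Chev24.factor_affine iN hmax hNn T i
  haveI : IsMonHom (t ≫ iN) := by rw [ht]; infer_instance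
  haveI : IsMonHom t := GrothLib.CentMT14.isMonHom_of_comp t iN
  haveI : Mono (t ≫ iN) := by rw [ht]; infer_instance
  haveI : Mono t := mono_of_mono t iN
  obtain ⟨-, -, -, htmax₀⟩ := GrothLib.Chev24.isMaxTorus_of_isMaximalTorus hT
  have htmax : ∀ (R : Over (Spec (CommRingCat.of k))) [GrpObj R] (r : R ⟶ N) [IsMonHom r] [Mono r] (f : T ⟶ R),
      Red.IsTorus R → f ≫ r = t → IsIso f := fun R _ r _ _ f hR hf =>
    htmax₀ R (r ≫ iN) f hR (by rw [reassoc_of% hf, ht])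
  obtain ⟨NN, _, nn, hnn, hnnc, hnns⟩ := Groth.Agent.S5248.result T N
    (GrothLib.QuotTorus14.isMultTypeFT_of_charts (GrothLib.DiagGrp.hasChartsFpqc_of_isTorus hTt))
    (inferInstance : Smooth N.hom) (isAffineHom_of_isAffine _) t
  obtain ⟨hnnm, hnnmono, hnniff⟩ := id hnn
  haveI := hnnm; haveI := hnnmono; haveI := hnnc; haveI := hnns
  haveI : IsAffine NN.left := isAffine_of_isAffineHom nn.left
  obtain ⟨N₀, _, j₁, hj₁, hj₁o, hN₀c, -⟩ := GrothLib.Induce27.exists_neutral NN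
  haveI := hj₁; haveI := hj₁o; haveI := hN₀c
  haveI := GrothLib.Induce27.isClosedImmersion_of_open j₁
  haveI : IsAffine N₀.left := isAffine_of_isAffineHom j₁.left
  haveI : Smooth N₀.hom := by rw [← Over.w j₁]; infer_instance
  haveI : IsAffineHom N₀.hom := isAffineHom_of_isAffine _
  have hcent := central_of_normalizes hTt (j₁ ≫ nn) t (by
    simpa only [Category.assoc, Category.id_comp] using
      ((hnniff _ (fst N₀ T ≫ j₁ ≫ nn)).1 ⟨fst N₀ T ≫ j₁, Category.assoc _ _ _⟩ _ (𝟙 _) (snd N₀ T)).1)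
  let s₀ := GrothLib.Induce27.ptsSubgroup j₁
  haveI := GrothLib.Induce27.finite_cosets j₁
  haveI := Fintype.ofFinite ((VecGrp.pt k k ⟶ NN) ⧸ s₀)
  let ι₀ : 𝟙_ (Over (Spec (CommRingCat.of k))) ≅ VecGrp.pt k k := Over.isoMk (Iso.refl _) (by
    show 𝟙 _ ≫ Spec.map (CommRingCat.ofHom (algebraMap k k)) = 𝟙 _
    simp [Algebra.algebraMap_self])
  let κ : ((VecGrp.pt k k ⟶ NN) ⧸ s₀) → (𝟙_ (Over (Spec (CommRingCat.of k))) ⟶ H) :=
    fun r => ((ι₀.hom ≫ r.out)⁻¹ : 𝟙_ (Over (Spec (CommRingCat.of k))) ⟶ NN) ≫ nn ≫ iN ≫ v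
  have key : ∀ w : 𝟙_ (Over (Spec (CommRingCat.of k))) ⟶ Z, ∃ (y : 𝟙_ (Over (Spec (CommRingCat.of k))) ⟶ C'')
      (r : (VecGrp.pt k k ⟶ NN) ⧸ s₀), w ≫ z = (y ≫ iC) * κ r := by
    intro w
    haveI : LocallyOfFiniteType ((iN ⊗ₘ jM) ≫ μ[G] ≫ v).left := by
      haveI : LocallyOfFiniteType (((iN ⊗ₘ jM) ≫ μ[G] ≫ v).left ≫ H.hom) := by rw [Over.w]; infer_instance
      exact locallyOfFiniteType_of_comp _ H.hom
    haveI : Surjective ((iN ⊗ₘ jM) ≫ μ[G] ≫ v).left :=
      inferInstanceAs (Surjective (((iN ⊗ₘ jM) ≫ μ[G]).left ≫ v.left))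
    obtain ⟨ab, -, hab⟩ := GrothLib.Flag27.exists_cl_lift ((iN ⊗ₘ jM) ≫ μ[G] ≫ v) (E := Set.univ)
      isClosed_univ.isLocallyClosed (w := w ≫ z) (by rw [Set.image_univ]; exact Scheme.Hom.surjective _ _)
    let a := ab ≫ fst N M
    let b := ab ≫ snd N M
    have hab' : w ≫ z = (a ≫ iN ≫ v) * (b ≫ jM ≫ v) := by
      rw [← hab, ← Category.assoc (iN ⊗ₘ jM), ← lift_fst_comp_snd_comp, ← Hom.mul_def, MonObj.mul_comp,
        MonObj.comp_mul]
      simp only [a, b, Category.assoc]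
    have hb : ∀ {X : Over (Spec (CommRingCat.of k))} (g : X ⟶ G),
        (toUnit X ≫ b ≫ jM) * g = g * (toUnit X ≫ b ≫ jM) := fun g => by
      simpa only [Category.assoc] using hM.central jM (toUnit _ ≫ b) g
    -- `a` carries `T` into the preimage `P` of `T''`
    obtain ⟨P, _, iP, hiP, hiPc, hPs, hPpts⟩ := GrothLib.Flag27.exists_preimage (iN ≫ v) iT
    haveI := hiP; haveI := hiPc; haveI := hPs
    haveI : Mono iP := Over.mono_of_mono_left iP
    haveI : IsAffine P.left := isAffine_of_isAffineHom iP.left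
    obtain ⟨P₀, _, j₀, hj₀, hj₀o, hP₀c, hP₀fac⟩ := GrothLib.Induce27.exists_neutral P
    haveI := hj₀; haveI := hj₀o; haveI := hP₀c
    haveI := GrothLib.Induce27.isClosedImmersion_of_open j₀
    haveI : IsAffine P₀.left := isAffine_of_isAffineHom j₀.left
    haveI : Smooth P₀.hom := by rw [← Over.w j₀]; infer_instance
    haveI : Mono j₀ := Over.mono_of_mono_left j₀
    have lift₀ : ∀ (r : T ⟶ N) [IsMonHom r], (∀ x : 𝟙_ (Over (Spec (CommRingCat.of k))) ⟶ T,
        ∃ y, y ≫ iT = (x ≫ r) ≫ iN ≫ v) → ∃ r₀ : T ⟶ P₀, IsMonHom r₀ ∧ r₀ ≫ j₀ ≫ iP = r := by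
      intro r _ hr
      haveI : IsReduced T.left := GrothLib.RedSmooth.isReduced_of_smooth T.hom
      obtain ⟨p, hp⟩ := GrothLib.Flag27.exists_lift_of_pts r iP fun x => (hPpts (x ≫ r)).2 (hr x)
      haveI : IsMonHom (p ≫ iP) := by rw [hp]; infer_instance
      haveI : IsMonHom p := GrothLib.CentMT14.isMonHom_of_comp p iP
      obtain ⟨r₀, hr₀, hr₀j⟩ := hP₀fac T p
      exact ⟨r₀, hr₀, by rw [reassoc_of% hr₀j, hp]⟩
    obtain ⟨t₀, ht₀m, ht₀⟩ := lift₀ t fun x => ⟨x ≫ pT, by simp only [Category.assoc, hpiT, reassoc_of% ht]⟩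
    haveI := ht₀m
    haveI := GrothLib.Flag27.isMonHom_conjBy a t
    haveI : Mono (AGF.conjBy a t) := by
      haveI := GrothLib.Flag27.isIso_conjBy_id (G := N) a
      rw [GrothLib.Flag27.conjBy_eq_comp]; exact mono_comp _ _
    obtain ⟨t₁, ht₁m, ht₁⟩ := lift₀ (AGF.conjBy a t) fun x => ⟨x ≫ pT, by
      have h1 := (hziff _ (w ≫ z)).1 ⟨w, rfl⟩ _ (𝟙 _) (x ≫ pT)
      simp only [Category.id_comp, Category.assoc, hpiT, hab'] at h1
      have hbv : (b ≫ jM ≫ v) * (x ≫ i ≫ v) = (x ≫ i ≫ v) * (b ≫ jM ≫ v) := by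
        have h2 := congrArg (· ≫ v) (hb (x ≫ i))
        simpa only [MonObj.mul_comp, Category.assoc, toUnit_unique (toUnit _) (𝟙 _), Category.id_comp] using h2
      rw [GrothLib.Flag27.comp_conjBy']
      simp only [AGF.conjBy, toUnit_unique (toUnit _) (𝟙 _), Category.id_comp, MonObj.mul_comp, GrpObj.inv_comp,
        Category.assoc, hpiT, reassoc_of% ht]
      rw [_root_.mul_assoc, hbv, ← _root_.mul_assoc, ← _root_.mul_assoc (x ≫ i ≫ v)] at h1
      rw [mul_right_cancel h1, mul_inv_cancel_right]⟩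
    haveI := ht₁m
    haveI : Mono (t₀ ≫ j₀ ≫ iP) := by rw [ht₀]; infer_instance
    haveI : Mono t₀ := mono_of_mono t₀ (j₀ ≫ iP)
    haveI : Mono (t₁ ≫ j₀ ≫ iP) := by rw [ht₁]; infer_instance
    haveI : Mono t₁ := mono_of_mono t₁ (j₀ ≫ iP)
    have H₀ : AGF.IsMaxTorus t₀ := ⟨inferInstance, inferInstance, hTt, fun R _ r _ _ f hR hf =>
      htmax R (r ≫ j₀ ≫ iP) f hR (by rw [reassoc_of% hf, ht₀])⟩
    have H₁ : AGF.IsMaxTorus t₁ := ⟨inferInstance, inferInstance, hTt, fun R _ r _ _ f hR hf => by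
      haveI := GrothLib.Flag27.isMonHom_conjBy a⁻¹ (r ≫ j₀ ≫ iP)
      haveI : Mono (AGF.conjBy a⁻¹ (r ≫ j₀ ≫ iP)) := by
        haveI := GrothLib.Flag27.isIso_conjBy_id (G := N) a⁻¹
        rw [GrothLib.Flag27.conjBy_eq_comp]; exact mono_comp _ _
      refine htmax R (AGF.conjBy a⁻¹ (r ≫ j₀ ≫ iP)) f hR ?_
      rw [GrothLib.Flag27.comp_conjBy', reassoc_of% hf, ht₁, GrothLib.Flag27.conjBy_conjBy, inv_mul_cancel,
        GrothLib.Flag27.conjBy_one]⟩
    obtain ⟨m, f, hf⟩ := GrothLib.Flag27.exists_conj_maxTori_connected H₀ H₁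
    let m' := m ≫ j₀ ≫ iP
    let n := a⁻¹ * m'
    have hfn : f.hom ≫ t = AGF.conjBy n t := by
      have h1 : f.hom ≫ AGF.conjBy a t = AGF.conjBy m' t := by
        have h0 := congrArg (· ≫ (j₀ ≫ iP)) hf
        simp only [Category.assoc, ht₁] at h0
        rw [h0, GrothLib.Flag27.conjBy_map, ht₀]
      have h2 := congrArg (AGF.conjBy a⁻¹) h1
      rwa [← GrothLib.Flag27.comp_conjBy', GrothLib.Flag27.conjBy_conjBy, GrothLib.Flag27.conjBy_conjBy,
        inv_mul_cancel, GrothLib.Flag27.conjBy_one] at h2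
    obtain ⟨n₁, hn₁⟩ : ∃ n₁, n₁ ≫ nn = n := (hnniff _ n).2 fun X x h => by
      have e1 : ∀ g : X ⟶ T, (x ≫ n) * (g ≫ t) * (x ≫ n)⁻¹ = (g ≫ f.hom) ≫ t := fun g => by
        rw [Category.assoc, hfn, GrothLib.Flag27.comp_conjBy']
        simp only [AGF.conjBy, show x = toUnit X from toUnit_unique _ _]
      refine ⟨⟨h ≫ f.hom, e1 h⟩, ⟨h ≫ f.inv, ?_⟩⟩
      have e2 := e1 (h ≫ f.inv)
      rw [Category.assoc h f.inv f.hom, f.inv_hom_id, Category.comp_id] at e2
      rw [← e2]; group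
    let r := (QuotientGroup.mk (ι₀.inv ≫ n₁) : (VecGrp.pt k k ⟶ NN) ⧸ s₀)
    obtain ⟨s', hs'₀⟩ : r.out⁻¹ * (ι₀.inv ≫ n₁) ∈ s₀ := QuotientGroup.eq.1 r.out_eq
    let s : 𝟙_ (Over (Spec (CommRingCat.of k))) ⟶ N₀ := ι₀.hom ≫ s'
    have hs : s ≫ j₁ = (ι₀.hom ≫ r.out)⁻¹ * n₁ := by
      simp only [s, Category.assoc, hs'₀, MonObj.comp_mul, GrpObj.comp_inv, Iso.hom_inv_id_assoc]
    obtain ⟨x₀, hx₀⟩ := (hPpts m').1 ⟨m ≫ j₀, Category.assoc _ _ _⟩
    obtain ⟨x, hx⟩ : ∃ x : 𝟙_ (Over (Spec (CommRingCat.of k))) ⟶ T, x ≫ pT = x₀ :=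
      GrothLib.IsogProps19.ptMap_surjective pT x₀
    obtain ⟨y, hy⟩ : ∃ y, y ≫ c = (x ≫ i) * (s⁻¹ ≫ j₁ ≫ nn ≫ iN) * (b ≫ jM) := by
      refine (hciff _ _).2 fun X' x' h => ?_
      simp only [MonObj.comp_mul]
      have hs' := congrArg (fun e => lift (x' ≫ s⁻¹) h ≫ e ≫ iN) hcent
      simp only [MonObj.mul_comp, MonObj.comp_mul, Category.assoc, lift_fst_assoc, lift_snd_assoc, ht] at hs'
      have hx' : ((x' ≫ x) ≫ i) * (h ≫ i) = (h ≫ i) * ((x' ≫ x) ≫ i) := by
        rw [← MonObj.mul_comp, ← MonObj.mul_comp, GrothLib.Chev24.torus_comm hTt]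
      have hb' : (x' ≫ b ≫ jM) * (h ≫ i) = (h ≫ i) * (x' ≫ b ≫ jM) := by
        rw [show x' = toUnit X' from toUnit_unique _ _]; exact hb _
      rw [_root_.mul_assoc, hb', ← _root_.mul_assoc, _root_.mul_assoc (x' ≫ x ≫ i), hs', ← _root_.mul_assoc,
        ← Category.assoc x' x i, hx']
      simp only [_root_.mul_assoc]
    have hbc : ∀ g : 𝟙_ (Over (Spec (CommRingCat.of k))) ⟶ G, (b ≫ jM) * g = g * (b ≫ jM) := fun g => by
      simpa only [toUnit_unique (toUnit _) (𝟙 _), Category.id_comp] using hb g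
    refine ⟨y ≫ pC, r, ?_⟩
    have hn₁' : n₁ = (ι₀.hom ≫ r.out) * (s ≫ j₁) := by rw [hs, mul_inv_cancel_left]
    have ha : a = m' * n⁻¹ := by simp only [n, _root_.mul_inv_rev, _root_.inv_inv, mul_inv_cancel_left]
    have ha' : a ≫ iN ≫ v = (x ≫ i ≫ v) * ((s⁻¹ ≫ j₁ ≫ nn ≫ iN ≫ v) * κ r) := by
      rw [ha, MonObj.mul_comp, ← hx₀, ← hx, Category.assoc, hpiT, ← hn₁, hn₁']
      simp only [κ, MonObj.mul_comp, GrpObj.inv_comp, Category.assoc, _root_.mul_inv_rev]
    rw [hab', ha', show (y ≫ pC) ≫ iC = (y ≫ c) ≫ v by rw [Category.assoc, hpiC, Category.assoc], hy]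
    simp only [κ, MonObj.mul_comp, Category.assoc, _root_.mul_assoc]
    congr 2
    have h2 := congrArg (· ≫ v) (hbc ((ι₀.hom ≫ r.out)⁻¹ ≫ nn ≫ iN))
    simpa only [MonObj.mul_comp, Category.assoc] using h2.symm
  -- finitely many translates cover `Z`
  let ρ : ((VecGrp.pt k k ⟶ NN) ⧸ s₀) → Set Z.left := fun r =>
    z.left.base ⁻¹' Set.range ((iC * (toUnit C'' ≫ κ r)).left.base)
  have hρ : ∀ r, IsClosed (ρ r) := fun r => by
    haveI := isClosedImmersion_mulRight iC (κ r)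
    exact (iC * (toUnit C'' ≫ κ r)).left.isClosedEmbedding.isClosed_range.preimage z.left.continuous
  have hcov : (Set.univ : Set Z.left) ⊆ ⋃ r, ρ r := by
    haveI : JacobsonSpace Z.left := LocallyOfFiniteType.jacobsonSpace Z.hom
    rw [← closure_closedPoints]
    refine closure_minimal (fun p hp => ?_) (isClosed_iUnion_of_finite hρ)
    obtain ⟨w, rfl⟩ := GrothLib.Flag27.exists_cl hp
    obtain ⟨y, r, hy⟩ := key w
    refine Set.mem_iUnion.2 ⟨r, GrothLib.Flag27.cl y, ?_⟩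
    rw [← GrothLib.Flag27.cl_comp, ← GrothLib.Flag27.cl_comp, hy, MonObj.comp_mul, ← Category.assoc y,
      toUnit_unique (y ≫ toUnit _) (𝟙 _), Category.id_comp]
  obtain ⟨r, hr⟩ : ∃ r, Set.univ ⊆ ρ r := by
    classical
    obtain ⟨t', ht', hs'⟩ := isIrreducible_iff_sUnion_isClosed.1 (IrreducibleSpace.isIrreducible_univ Z.left)
      (Finset.univ.image ρ) (by simpa using fun r => hρ r) (by simpa [Set.sUnion_range] using hcov)
    obtain ⟨r, -, rfl⟩ := Finset.mem_image.1 ht'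
    exact ⟨r, hs'⟩
  obtain ⟨g, hg⟩ : ∃ g : Z ⟶ C'', g ≫ (iC * (toUnit C'' ≫ κ r)) = z := by
    haveI := isClosedImmersion_mulRight iC (κ r)
    obtain ⟨g₀, hg₀⟩ := GrothLib.AlgSp.exists_lift_of_range_subset z.left (iC * (toUnit C'' ≫ κ r)).left
      (by rintro _ ⟨p, rfl⟩; exact hr (Set.mem_univ p))
    exact ⟨Over.homMk g₀ (by rw [← Over.w (iC * (toUnit C'' ≫ κ r)), reassoc_of% hg₀, Over.w]), Over.OverMorphism.ext hg₀⟩
  have hg' : z = (g ≫ iC) * (toUnit Z ≫ κ r) := by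
    rw [← hg, MonObj.comp_mul, ← Category.assoc g, toUnit_unique (g ≫ toUnit _) (toUnit _)]
  -- the translation lies in `C''`
  have h1 : toUnit Z ≫ κ r = toUnit Z ≫ (((1 : 𝟙_ _ ⟶ Z) ≫ g)⁻¹ ≫ iC) := by
    have := congrArg ((toUnit Z ≫ (1 : 𝟙_ _ ⟶ Z)) ≫ ·) hg'
    simp only [MonObj.comp_mul, MonObj.comp_one, MonObj.one_comp, ← Category.assoc,
      toUnit_unique ((toUnit Z ≫ (1 : 𝟙_ _ ⟶ Z)) ≫ toUnit _) (toUnit _), toUnit_unique ((1 : Z ⟶ Z) ≫ toUnit _) (toUnit _)] at this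
    rw [GrpObj.inv_comp, GrpObj.comp_inv]
    simp only [← Category.assoc, MonObj.comp_one]
    exact (inv_eq_of_mul_eq_one_right this.symm).symm
  obtain ⟨g', hg''⟩ : ∃ g' : Z ⟶ C'', g' ≫ iC = z := ⟨g * (toUnit Z ≫ ((1 : 𝟙_ _ ⟶ Z) ≫ g)⁻¹), by
    rw [MonObj.mul_comp, Category.assoc (toUnit Z), ← h1, ← hg']⟩
  refine ⟨inferInstance, inferInstance, fun X x => ⟨?_, fun hx => ?_⟩⟩
  · rintro ⟨y, rfl⟩ X' x' h
    obtain ⟨eC', heC'⟩ : ∃ e : C' ⟶ C'', e ≫ iC = c' := by
      haveI : QuasiCompact (wC.left ≫ c'.left) := by rw [← Over.comp_left, hwC]; infer_instance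
      haveI : QuasiCompact wC.left := QuasiCompact.of_comp wC.left c'.left
      exact exists_desc_mono wC pC c' iC (hwC.trans hpiC.symm)
    have := congrArg (lift (x' ≫ y ≫ eC') (h ≫ eT') ≫ ·) hcom
    simpa only [MonObj.comp_mul, lift_fst_assoc, lift_snd_assoc, Category.assoc, heC', heT'] using this
  · obtain ⟨y, hy⟩ := (hziff X x).2 fun X' x' h => by
      have := hx X' x' (h ≫ eT)
      rwa [Category.assoc, heT] at this
    exact ⟨y ≫ g' ≫ eC, by rw [Category.assoc, Category.assoc, heC, hg'', hy]⟩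

end Groth.Agent.S12065
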