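import Groth.Statements.S12072
import Groth.Agent.S12065
import Groth.Agent.S3927
import Groth.Agent.Lib.Flag27.MaxTorusIso
-- import your own Groth.Agent.* helpers here

set_option autoImplicit false
set_option linter.style.haveILetI false
set_option backward.isDefEq.respectTransparency false
universe u
open CategoryTheory MonoidalCategory CartesianMonoidalCategory MonObj GrpObj AlgebraicGeometry
open SGA3x

namespace Groth.Agent.S12072

variable {k : Type u} [Field k] [IsAlgClosed k]

/-- The image of a normal affine subgroup in a quotient. -/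
theorem exists_image_normal' {G : Over (Spec (CommRingCat.of k))} [GrpObj G] [Smooth G.hom] [QuasiCompact G.hom] {Q : Over (Spec (CommRingCat.of k))} [GrpObj Q] [LocallyOfFiniteType Q.hom]
    [QuasiCompact Q.hom] (q : G ⟶ Q) [IsMonHom q] [Surjective q.left] [Flat q.left]
    {N : Over (Spec (CommRingCat.of k))} [GrpObj N] (i : N ⟶ G) [IsMonHom i] [IsClosedImmersion i.left]
    [Smooth N.hom] [ConnectedSpace N.left] [IsAffine N.left] (hN : AlgGrp.IsNormalHom i) :
    ∃ (I : Over (Spec (CommRingCat.of k))) (_ : GrpObj I) (jI : I ⟶ Q) (p : N ⟶ I), IsMonHom jI ∧ IsMonHom p ∧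
      IsClosedImmersion jI.left ∧ Smooth I.hom ∧ ConnectedSpace I.left ∧ IsAffine I.left ∧
      AlgGrp.IsNormalHom jI ∧ p ≫ jI = i ≫ q ∧ Surjective p.left := by
  haveI : IsSeparated G.hom := GrothLib.GrpSchField.isSeparated G
  haveI : IsSeparated Q.hom := GrothLib.GrpSchField.isSeparated Q
  haveI : QuasiCompact N.hom := by rw [← Over.w i]; infer_instance
  haveI : QuasiCompact (i ≫ q).left := by
    haveI : QuasiCompact ((i ≫ q).left ≫ Q.hom) := by rw [Over.w]; infer_instance
    exact QuasiCompact.of_comp _ Q.hom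
  obtain ⟨I, _, p, jI, hp, hjI, hpj, hps, hpf, hplfp, hm, hIlft, -⟩ := GrothLib.Neutral.exists_factor_field (i ≫ q)
  haveI := hp; haveI := hjI; haveI := hm; haveI := hps; haveI := hpf; haveI := hplfp; haveI := hIlft
  haveI := (GrothLib.Neutral.isClosedImmersion_factor (i ≫ q) hpj).1
  haveI : Smooth I.hom := GrothLib.FppfSource.fppfSourceDescends_smooth p.left I.hom hpf hplfp hps
    (by rw [Over.w p]; infer_instance)
  haveI : ConnectedSpace I.left := p.left.surjective.connectedSpace p.left.continuous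
  haveI : IsAffine I.left := GrothLib.Chevalley.isAffine_of_surjective_hom p
  haveI : QuasiCompact I.hom := by rw [← Over.w jI]; infer_instance
  refine ⟨I, inferInstance, jI, p, hjI, hp, inferInstance, inferInstance, inferInstance, inferInstance, ?_, hpj, hps⟩
  let c : Q ⊗ I ⟶ Q := fst Q I * (snd Q I ≫ jI) * (fst Q I)⁻¹
  obtain ⟨n', hn'⟩ := hN (G ⊗ N) (fst G N) (snd G N)
  have hfac : (q ⊗ₘ p) ≫ c = (n' ≫ p) ≫ jI := by
    rw [Category.assoc, hpj, ← Category.assoc n' i q, ← hn']
    simp only [c, MonObj.comp_mul, MonObj.mul_comp, GrpObj.comp_inv, GrpObj.inv_comp, tensorHom_fst, tensorHom_fst_assoc,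
      tensorHom_snd_assoc, Category.assoc, hpj]
  haveI : LocallyOfFinitePresentation q.left := by
    haveI : IsLocallyNoetherian Q.left := LocallyOfFiniteType.isLocallyNoetherian Q.hom
    haveI : LocallyOfFiniteType (q.left ≫ Q.hom) := by rw [Over.w q]; infer_instance
    haveI := locallyOfFiniteType_of_comp q.left Q.hom
    infer_instance
  have hcov : GrothLib.Chevalley.IsCover (q ⊗ₘ p) := GrothLib.Chevalley.cover_tensor ⟨‹_›, ‹_›, ‹_›⟩ ⟨hpf, hps, hplfp⟩
  haveI := hcov.2.1
  haveI : IsReduced Q.left := by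
    haveI : Smooth Q.hom := GrothLib.FppfSource.fppfSourceDescends_smooth q.left Q.hom ‹_› ‹_› ‹_›
      (by rw [Over.w q]; infer_instance)
    exact GrothLib.Rigidity.isReduced_of_smooth Q.hom
  haveI : IsReduced I.left := GrothLib.Rigidity.isReduced_of_smooth I.hom
  haveI : IsReduced (Q ⊗ I).left := GrothLib.GrpSchField.isReduced_pullback Q.hom I.hom
  obtain ⟨l, hl⟩ := GrothLib.RedSub.exists_lift c.left jI.left (by
    rintro _ ⟨x, rfl⟩
    obtain ⟨y, rfl⟩ := (q ⊗ₘ p).left.surjective x
    refine ⟨(n' ≫ p).left y, ?_⟩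
    rw [← Scheme.Hom.comp_apply, ← Over.comp_left, ← hfac]
    rfl)
  let c' : Q ⊗ I ⟶ I := Over.homMk l (by rw [← Over.w jI, reassoc_of% hl]; exact Over.w c)
  have hc' : c' ≫ jI = c := Over.OverMorphism.ext hl
  intro T g x
  refine ⟨lift g x ≫ c', ?_⟩
  rw [Category.assoc, hc']
  simp only [c, MonObj.comp_mul, GrpObj.comp_inv, lift_fst, lift_snd_assoc]

/-- The image of a homomorphism from a connected smooth group, with a maximal torus mapped to a maximal torus. -/
theorem isMaximalTorus_image {G H : Over (Spec (CommRingCat.of k))} [GrpObj G] [GrpObj H]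
    [Smooth G.hom] [QuasiCompact G.hom] [ConnectedSpace ↥G.left]
    [Smooth H.hom] [QuasiCompact H.hom] [ConnectedSpace ↥H.left]
    (v : G ⟶ H) [IsMonHom v] [Surjective v.left]
    {T : Over (Spec (CommRingCat.of k))} [GrpObj T] (i : T ⟶ G) (hT : Red.IsMaximalTorus i) :
    ∃ (T' : Over (Spec (CommRingCat.of k))) (_ : GrpObj T') (t' : T' ⟶ H) (w : T ⟶ T'),
      Red.IsMaximalTorus t' ∧ IsMonHom w ∧ Flat w.left ∧ Surjective w.left ∧ w ≫ t' = i ≫ v := by
  haveI : IsSeparated G.hom := GrothLib.GrpSchField.isSeparated G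
  haveI : IsSeparated H.hom := GrothLib.GrpSchField.isSeparated H
  haveI : IsReduced H.left := GrothLib.RedSmooth.isReduced_of_smooth H.hom
  obtain ⟨him, himono, hTt, -⟩ := id hT
  haveI := him; haveI := himono
  obtain ⟨hic, hTa, hTs, hTc⟩ := GrothLib.Chev24.torus_facts' hTt i
  haveI := hic; haveI := hTa; haveI := hTs; haveI := hTc
  haveI : IsAffineHom T.hom := isAffineHom_of_isAffine _
  haveI : QuasiCompact v.left := by
    haveI : QuasiCompact (v.left ≫ H.hom) := by rw [Over.w]; infer_instance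
    exact QuasiCompact.of_comp _ H.hom
  haveI : Flat v.left := GrothLib.GrpSchField.flat_hom v
  obtain ⟨N, _, iN, hiN, hiNc, hNs, hNc, hNa, hNn, hmax⟩ := GrothLib.Chev24.exists_affPart (G := G)
  haveI := hiN; haveI := hiNc; haveI := hNs; haveI := hNc; haveI := hNa
  haveI : Mono iN := Over.mono_of_mono_left iN
  obtain ⟨A, _, qG, hqG, hAs, hAq, hqGf, hqGs, -, hAker⟩ := GrothLib.Chev24.exists_quot iN hNn
  haveI := hqG; haveI := hAs; haveI := hAq; haveI := hqGf; haveI := hqGs
  haveI := GrothLib.Chev24.isProper_quotient iN hmax qG hAker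
  obtain ⟨I, _, jI, p, hjI, hp, hjIc, hIs, hIc, hIa, hIn, hpI, hps⟩ := exists_image_normal' v iN hNn
  haveI := hjI; haveI := hp; haveI := hjIc; haveI := hIs; haveI := hIc; haveI := hIa
  haveI : Mono jI := Over.mono_of_mono_left jI
  obtain ⟨Q, _, qH, hqH, hQs, hQq, hqHf, hqHs, -, hQker⟩ := GrothLib.Chev24.exists_quot jI hIn
  haveI := hqH; haveI := hQs; haveI := hQq; haveI := hqHf; haveI := hqHs
  haveI : IsSeparated Q.hom := GrothLib.GrpSchField.isSeparated Q
  haveI : IsProper Q.hom := by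
    haveI : LocallyOfFinitePresentation qG.left := GrothLib.AlbTors16.lfp_of_surj qG
    obtain ⟨d, hd⟩ := GrothLib.QuotTorus14.exists_desc qG (v ≫ qH) fun C _ pp a a' h => by
      have h0 : (a⁻¹ * a') ≫ qG = toUnit _ ≫ η[A] := by
        rw [MonObj.mul_comp, GrpObj.inv_comp, h, inv_mul_cancel, Hom.one_def]
      obtain ⟨n, hn, -⟩ := hAker.exists_lift (a⁻¹ * a') (toUnit _) h0
      have h1 : (a⁻¹ * a') ≫ v ≫ qH = 1 := by
        rw [← hn, Category.assoc, ← reassoc_of% hpI, GrothLib.GrpSchField.comp_eq_one hQker, MonObj.comp_one,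
          MonObj.comp_one]
      rwa [MonObj.mul_comp, GrpObj.inv_comp, inv_mul_eq_one] at h1
    haveI : Surjective d.left := by
      haveI : Surjective (qG.left ≫ d.left) := by rw [← Over.comp_left, hd, Over.comp_left]; infer_instance
      exact Surjective.of_comp qG.left d.left
    haveI : UniversallyClosed (d.left ≫ Q.hom) := by rw [Over.w d]; infer_instance
    haveI : UniversallyClosed Q.hom := UniversallyClosed.of_comp_surjective d.left Q.hom
    exact { }
  -- every connected affine subgroup of `H` lies in `I`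
  have hfac : ∀ (R : Over (Spec (CommRingCat.of k))) [GrpObj R] (r : R ⟶ H) [IsMonHom r] [Smooth R.hom]
      [ConnectedSpace R.left] [IsAffine R.left], ∃ u : R ⟶ I, u ≫ jI = r := fun R _ r _ _ _ _ => by
    haveI : IsReduced R.left := GrothLib.Rigidity.isReduced_of_smooth R.hom
    exact GrothLib.GrpSchField.exists_lift_of_comp_eq_one hQker r
      (GrothLib.AlbTors16.hom_eq_one_affine_proper (r ≫ qH))
  obtain ⟨t, ht⟩ := GrothLib.Chev24.factor_affine iN hmax hNn T i
  haveI : IsMonHom (t ≫ iN) := by rw [ht]; infer_instance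
  haveI : IsMonHom t := GrothLib.CentMT14.isMonHom_of_comp t iN
  haveI : Mono (t ≫ iN) := by rw [ht]; infer_instance
  haveI : Mono t := mono_of_mono t iN
  obtain ⟨-, -, -, hTmax⟩ := GrothLib.Chev24.isMaxTorus_of_isMaximalTorus hT
  have htmax : AGF.IsMaxTorus t := ⟨inferInstance, inferInstance, hTt, fun R _ r _ _ f hR hf =>
    hTmax R (r ≫ iN) f hR (by rw [reassoc_of% hf, ht])⟩
  haveI : IsAffineHom N.hom := isAffineHom_of_isAffine _
  haveI : IsSeparated I.hom := GrothLib.GrpSchField.isSeparated I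
  haveI : QuasiCompact (t ≫ p).left := by
    haveI : QuasiCompact ((t ≫ p).left ≫ I.hom) := by rw [Over.w]; infer_instance
    exact QuasiCompact.of_comp _ I.hom
  haveI : Surjective p.left := hps
  obtain ⟨T', _, w, t'', hwm, ht''m, hwt, hws, hwf, hwl, ht''mono, hT'l, -⟩ :=
    GrothLib.Neutral.exists_factor_field (t ≫ p)
  haveI := hwm; haveI := ht''m; haveI := hws; haveI := hwf; haveI := hwl; haveI := ht''mono; haveI := hT'l
  haveI hcl := (GrothLib.Neutral.isClosedImmersion_factor (t ≫ p) hwt).1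
  haveI : Smooth T'.hom := GrothLib.FppfSource.fppfSourceDescends_smooth w.left T'.hom hwf hwl hws
    (by rw [Over.w w]; infer_instance)
  haveI : IsReduced T'.left := GrothLib.Rigidity.isReduced_of_smooth T'.hom
  obtain ⟨-, -, hT't, hT'max⟩ := Groth.Agent.S3927.result k N I p T t htmax T' t'' hcl w hwt
  refine ⟨T', inferInstance, t'' ≫ jI, w, GrothLib.Flag27.isMaximalTorus_of_isMaxTorus
    ⟨inferInstance, mono_comp t'' jI, hT't, fun R _ r _ _ f hR hf => ?_⟩, hwm, hwf, hws,
    by rw [reassoc_of% hwt, hpI, reassoc_of% ht]⟩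
  obtain ⟨hrc, hRa, hRs, hRc⟩ := GrothLib.Chev24.torus_facts' hR r
  haveI := hrc; haveI := hRa; haveI := hRs; haveI := hRc
  obtain ⟨u, hu⟩ := hfac R r
  haveI : IsMonHom (u ≫ jI) := by rw [hu]; infer_instance
  haveI : IsMonHom u := GrothLib.CentMT14.isMonHom_of_comp u jI
  haveI : Mono (u ≫ jI) := by rw [hu]; infer_instance
  haveI : Mono u := mono_of_mono u jI
  exact hT'max R u f hR ((cancel_mono jI).1 (by rw [Category.assoc, hu, hf]))

/-- A connected smooth group over an algebraically closed field has a maximal torus. -/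
theorem exists_maximalTorus (G : Over (Spec (CommRingCat.of k))) [GrpObj G]
    [Smooth G.hom] [QuasiCompact G.hom] [ConnectedSpace ↥G.left] :
    ∃ (T : Over (Spec (CommRingCat.of k))) (_ : GrpObj T) (i : T ⟶ G), Red.IsMaximalTorus i := by
  haveI : IsSeparated G.hom := GrothLib.GrpSchField.isSeparated G
  obtain ⟨N, _, iN, hiN, hiNc, hNs, hNc, hNa, hNn, hmax⟩ := GrothLib.Chev24.exists_affPart (G := G)
  haveI := hiN; haveI := hiNc; haveI := hNs; haveI := hNc; haveI := hNa
  haveI : Mono iN := Over.mono_of_mono_left iN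
  obtain ⟨B, _, iB, hB, -⟩ := GrothLib.Flag27.exists_borel (G := N)
  obtain ⟨hi, hic, hBsm, hBc, hBs, -⟩ := id hB
  haveI := hi; haveI := hic; haveI := hBsm; haveI := hBc
  haveI : IsAffine B.left := isAffine_of_isAffineHom iB.left
  obtain ⟨D, _, U, _, p, s, u, r, hp, hs, hu, hsp, hDt, hDa, hDs, -, huc, hup, -, hru, hUu, hUs, -⟩ :=
    GrothLib.Flag27.hasSplit_of_solvable (GrothLib.Flag27.isSolvable_points hBs)
  haveI := hp; haveI := hs; haveI := hu; haveI := huc; haveI := hUs
  obtain ⟨hm, hmono, -, hDmax⟩ := GrothLib.Flag27.isMaxTorus_section hB p s u r hsp hup hru hUu hDt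
  haveI := hm; haveI := hmono
  refine ⟨D, inferInstance, (s ≫ iB) ≫ iN, GrothLib.Flag27.isMaximalTorus_of_isMaxTorus
    ⟨inferInstance, mono_comp _ iN, hDt, fun R _ r _ _ f hR hf => ?_⟩⟩
  obtain ⟨hrc, hRa, hRs, hRc⟩ := GrothLib.Chev24.torus_facts' hR r
  haveI := hrc; haveI := hRa; haveI := hRs; haveI := hRc
  obtain ⟨u₁, hu₁⟩ := GrothLib.Chev24.factor_affine iN hmax hNn R r
  haveI : IsMonHom (u₁ ≫ iN) := by rw [hu₁]; infer_instance
  haveI : IsMonHom u₁ := GrothLib.CentMT14.isMonHom_of_comp u₁ iN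
  haveI : Mono (u₁ ≫ iN) := by rw [hu₁]; infer_instance
  haveI : Mono u₁ := mono_of_mono u₁ iN
  exact hDmax R u₁ f hR ((cancel_mono iN).1 (by rw [Category.assoc, hu₁, hf]))

/-- Let G and H be smooth connected algebraic groups (not necessarily affine) over an algebraically
closed field k and v : G → H a surjective homomorphism. Then the Cartan subgroups of H are the
images of the Cartan subgroups of G: if C is a Cartan subgroup of G and c′ : C′ → H a subgroup
scheme with a flat surjective homomorphism C → C′ over v (so C′ = v(C)), then C′ is a Cartan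
subgroup of H; and every Cartan subgroup C′ of H arises in this way from some Cartan subgroup C of
G. -/
theorem result (k : Type u) [Field k] [IsAlgClosed k]
    (G H : Over (Spec (CommRingCat.of k))) [GrpObj G] [GrpObj H]
    [Smooth G.hom] [QuasiCompact G.hom] [ConnectedSpace ↥G.left]
    [Smooth H.hom] [QuasiCompact H.hom] [ConnectedSpace ↥H.left]
    (v : G ⟶ H) [IsMonHom v] [Surjective v.left] :
    (∀ (C : Over (Spec (CommRingCat.of k))) [GrpObj C] (c : C ⟶ G), SGA3x.IsCartanOver k c →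
      ∀ (C' : Over (Spec (CommRingCat.of k))) [GrpObj C'] (c' : C' ⟶ H) [IsMonHom c'] [Mono c'] (w : C ⟶ C') [IsMonHom w]
        [Flat w.left] [Surjective w.left], w ≫ c' = c ≫ v → SGA3x.IsCartanOver k c') ∧
    (∀ (C' : Over (Spec (CommRingCat.of k))) [GrpObj C'] (c' : C' ⟶ H), SGA3x.IsCartanOver k c' →
      ∃ (C : Over (Spec (CommRingCat.of k))) (_ : GrpObj C) (c : C ⟶ G) (w : C ⟶ C'), SGA3x.IsCartanOver k c ∧ IsMonHom w ∧
        Flat w.left ∧ Surjective w.left ∧ w ≫ c' = c ≫ v) := by
  haveI : IsSeparated G.hom := GrothLib.GrpSchField.isSeparated G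
  haveI : IsSeparated H.hom := GrothLib.GrpSchField.isSeparated H
  refine ⟨?_, ?_⟩
  · intro C _ c hC C' _ c' _ _ w _ _ _ hw
    obtain ⟨hcm, hcmono, T, _, i, hi, hcc⟩ := hC
    obtain ⟨T', _, t', wT, ht', hwm, hwf, hws, hwt⟩ := isMaximalTorus_image v i hi
    haveI := ht'.1; haveI := ht'.2.1; haveI := hwm; haveI := hwf; haveI := hws
    exact ⟨inferInstance, inferInstance, T', inferInstance, t', ht',
      Groth.Agent.S12065.result k G H v T i hi C c hcc T' t' wT hwt C' c' w hw⟩
  · intro C' _ c' hC'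
    obtain ⟨hcm', hcmono', T₂, _, t₂, ht₂, hcc'⟩ := hC'
    haveI := hcm'; haveI := hcmono'
    obtain ⟨T, _, i, hi⟩ := exists_maximalTorus G
    obtain ⟨T', _, t', wT, ht', hwm, hwf, hws, hwt⟩ := isMaximalTorus_image v i hi
    obtain ⟨h, φ, hφ⟩ := GrothLib.Chev24.exists_conj_maxTori' t' t₂ ht' ht₂
    haveI := ht'.1; haveI := ht'.2.1; haveI := hwm; haveI := hwf; haveI := hws; haveI := hi.1; haveI := hi.2.1
    haveI := ht₂.1; haveI := ht₂.2.1
    haveI : LocallyOfFiniteType v.left := by
      haveI : LocallyOfFiniteType (v.left ≫ H.hom) := by rw [Over.w]; infer_instance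
      exact locallyOfFiniteType_of_comp _ H.hom
    obtain ⟨g, -, hg⟩ := GrothLib.Flag27.exists_cl_lift v (E := Set.univ) isClosed_univ.isLocallyClosed (w := h)
      (by rw [Set.image_univ]; exact v.left.surjective _)
    let i₂ := AGF.conjBy g i
    haveI := GrothLib.Flag27.isMonHom_conjBy g i
    haveI : Mono i₂ := by
      haveI := GrothLib.Flag27.isIso_conjBy_id (G := G) g
      show Mono (AGF.conjBy g i)
      rw [GrothLib.Flag27.conjBy_eq_comp]; exact mono_comp _ _
    have hmax := GrothLib.Chev24.isMaxTorus_of_isMaximalTorus hi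
    have hi₂ : Red.IsMaximalTorus i₂ := GrothLib.Flag27.isMaximalTorus_of_isMaxTorus
      ⟨inferInstance, inferInstance, hmax.2.2.1, fun R _ r _ _ f hR hf => by
        haveI := GrothLib.Flag27.isMonHom_conjBy g⁻¹ r
        haveI : Mono (AGF.conjBy g⁻¹ r) := by
          haveI := GrothLib.Flag27.isIso_conjBy_id (G := G) g⁻¹
          rw [GrothLib.Flag27.conjBy_eq_comp]; exact mono_comp _ _
        refine hmax.2.2.2 R (AGF.conjBy g⁻¹ r) f hR ?_
        rw [GrothLib.Flag27.comp_conjBy', hf, GrothLib.Flag27.conjBy_conjBy, inv_mul_cancel,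
          GrothLib.Flag27.conjBy_one]⟩
    obtain ⟨hTa, hTl⟩ := GrothLib.OneMotFaith14.isAffine_of_isTorus hmax.2.2.1
    haveI := hTa; haveI := hTl
    haveI : Smooth T.hom := (GrothLib.Rigidity.smooth_connected_of_isTorus T hmax.2.2.1).1
    haveI : ConnectedSpace T.left := (GrothLib.Rigidity.smooth_connected_of_isTorus T hmax.2.2.1).2
    haveI := GrothLib.Neutral.geometricallyConnected_of_point T.hom η[T].left (Over.w η[T])
    haveI := GrothLib.Rigidity.geometricallyIntegral_of_smooth T
    obtain ⟨C, _, c, hc, hcc, -⟩ := GrothLib.SecLocus.exists_centralizer i₂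
    haveI := hc.1; haveI := hc.2.1; haveI := hcc
    haveI : LocallyOfFiniteType C.hom := by rw [← Over.w c]; infer_instance
    haveI : QuasiCompact C.hom := by rw [← Over.w c]; infer_instance
    obtain ⟨C'', _, pC, iC, hpm, him, hpi, hps, hpf, hpl, himono, -, -⟩ :=
      GrothLib.Neutral.exists_factor_field (c ≫ v)
    haveI := hpm; haveI := him; haveI := hps; haveI := hpf; haveI := hpl; haveI := himono
    haveI : IsIso φ.hom.left := inferInstanceAs (IsIso ((Over.forget _).mapIso φ).hom)
    have hw₂ : (wT ≫ φ.hom) ≫ t₂ = i₂ ≫ v := by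
      rw [Category.assoc, ← hφ]
      simp only [i₂, AGF.conjBy, MonObj.comp_mul, GrpObj.comp_inv, MonObj.mul_comp, GrpObj.inv_comp,
        Category.assoc, hg, hwt, toUnit_unique (wT ≫ toUnit _) (toUnit _)]
      try simp only [← Category.assoc, toUnit_unique (wT ≫ toUnit _) (toUnit _)]
    haveI : IsMonHom ((wT ≫ φ.hom) ≫ t₂) := by rw [hw₂]; infer_instance
    haveI : IsMonHom (wT ≫ φ.hom) := GrothLib.CentMT14.isMonHom_of_comp _ t₂
    haveI : Flat (wT ≫ φ.hom).left := by rw [Over.comp_left]; infer_instance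
    haveI : Surjective (wT ≫ φ.hom).left := by rw [Over.comp_left]; infer_instance
    have hZ := Groth.Agent.S12065.result k G H v T i₂ hi₂ C c hc T₂ t₂ (wT ≫ φ.hom) hw₂ C'' iC pC hpi
    obtain ⟨e, he⟩ := (hcc'.2.2 C'' iC).2 ((hZ.2.2 C'' iC).1 ⟨𝟙 C'', Category.id_comp iC⟩)
    obtain ⟨e', he'⟩ := (hZ.2.2 C' c').2 ((hcc'.2.2 C' c').1 ⟨𝟙 C', Category.id_comp c'⟩)
    haveI : IsIso e := ⟨e', by rw [← cancel_mono iC, Category.assoc, he', he, Category.id_comp],
      by rw [← cancel_mono c', Category.assoc, he, he', Category.id_comp]⟩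
    haveI : IsIso e.left := inferInstanceAs (IsIso ((Over.forget _).map e))
    haveI : IsMonHom (e ≫ c') := by rw [he]; infer_instance
    haveI : IsMonHom e := GrothLib.CentMT14.isMonHom_of_comp e c'
    exact ⟨C, inferInstance, c, pC ≫ e, ⟨inferInstance, inferInstance, T, inferInstance, i₂, hi₂, hc⟩, inferInstance,
      by rw [Over.comp_left]; infer_instance, by rw [Over.comp_left]; infer_instance,
      by rw [Category.assoc, he, hpi]⟩

end Groth.Agent.S12072
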