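import Groth.Statements.S12500
-- import your own Groth.Agent.* helpers here
import Groth.Agent.Lib.SplitTors24.Bridge
import Groth.Agent.Lib.TorusPrim24.Main
import Groth.Agent.Lib.IsogGaGm24.Basic
import Groth.Agent.S7646
import Groth.Agent.S7976
import Mathlib.AlgebraicGeometry.Group.Abelian

set_option autoImplicit false
universe u
open CategoryTheory AlgebraicGeometry
open Neron

namespace Groth.Agent.S12500

/-- Let k be an algebraically closed field and G a k-group scheme whose underlying scheme is integral,
separated and of finite type over k and has dimension one. Then either G is isomorphic to G_a as a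
k-group scheme, or G is isomorphic to G_m as a k-group scheme, or G is proper over k and its group
law is commutative. (The published third alternative says G is an elliptic curve, i.e. a smooth
proper curve of genus one whose group-variety law is the elliptic-curve addition with origin the
identity; this row records properness and the commutativity that the printed proof establishes.) -/
theorem result (k : Type u) [Field k] [IsAlgClosed k]
    (G : Over (Spec (CommRingCat.of k))) [GrpObj G] [IsIntegral G.left]
    [IsSeparated G.hom] [LocallyOfFiniteType G.hom] [QuasiCompact G.hom]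
    (hdim : topologicalKrullDim ↥G.left = 1) :
    Nonempty (Grp.mk G ≅ Grp.mk (Red.Ga (Spec (CommRingCat.of k)))) ∨
      Nonempty (Grp.mk G ≅ Grp.mk (Red.Gm (Spec (CommRingCat.of k)))) ∨
      (IsProper G.hom ∧ IsCommMonObj G) := by
  classical
  haveI : GeometricallyReduced G.hom := GrothLib.UnitProd.geometricallyReduced_of_isReduced G.hom
  haveI : Smooth G.hom := by
    haveI : GrpObj (Over.mk G.hom) := inferInstanceAs (GrpObj G)
    exact smooth_of_grpObj G.hom
  by_cases hp : IsProper G.hom
  · haveI := GrothLib.Neutral.geometricallyConnected_of_point G.hom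
      (MonObj.one : MonoidalCategory.tensorUnit (Over (Spec (CommRingCat.of k))) ⟶ G).left (Over.w _)
    haveI := GrothLib.Rigidity.geometricallyIntegral_of_smooth G
    exact Or.inr (Or.inr ⟨hp, isCommMonObj_of_isProper_of_geometricallyIntegral G⟩)
  letI : G.left.Over (Spec (CommRingCat.of k)) := ⟨G.hom⟩
  haveI : IsSeparated (G.left ↘ Spec (CommRingCat.of k)) := ‹IsSeparated G.hom›
  haveI : LocallyOfFiniteType (G.left ↘ Spec (CommRingCat.of k)) := ‹LocallyOfFiniteType G.hom›
  haveI : IsNoetherian G.left :=
    { toIsLocallyNoetherian := LocallyOfFiniteType.isLocallyNoetherian G.hom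
      toCompactSpace := QuasiCompact.compactSpace_of_compactSpace G.hom }
  haveI : IsAffine G.left := Groth.Agent.S7646.result k G.left hdim.le fun C hC _ hprop => hp (by
    have hC' : C = Set.univ := by
      rw [irreducibleComponents_eq_singleton] at hC
      exact hC
    let ι' := (G.left.irreducibleComponentIdeal C hC).radical.subschemeι
    haveI : Surjective ι' := ⟨Set.range_eq_univ.1 (by
      change Set.range (G.left.irreducibleComponentIdeal C hC).radical.subschemeι = Set.univ
      rw [Scheme.IdealSheafData.range_subschemeι, Scheme.IdealSheafData.support_radical]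
      refine Set.eq_univ_of_univ_subset ?_
      rw [← hC']
      exact fun _ hz => hz)⟩
    haveI : IsIso ι' := isIso_of_isClosedImmersion_of_surjective ι'
    have h : IsProper (ι' ≫ G.hom) := hprop
    rwa [MorphismProperty.cancel_left_of_respectsIso @IsProper] at h)
  obtain ⟨A, _, _, ⟨e⟩⟩ := GrothLib.MultHopf14.exists_hopf G (isAffineHom_of_isAffine _)
  haveI := GrothLib.TorusPrim24.isDomain_of_iso e
  let iA : GrothLib.MultHopf14.specGrp (R := k) A ≅ G := (Grp.forget _).mapIso e
  haveI : IsIso iA.hom.left := inferInstanceAs (IsIso ((Over.forget _).map iA.hom))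
  haveI : Algebra.FiniteType k A := by
    have : LocallyOfFiniteType (GrothLib.MultHopf14.specGrp (R := k) A).hom := by
      rw [← Over.w iA.hom]; infer_instance
    exact RingHom.finiteType_algebraMap.1 ((HasRingHomProperty.Spec_iff (P := @LocallyOfFiniteType)).1 this)
  have hdimA : ringKrullDim A = 1 := by
    rw [← PrimeSpectrum.topologicalKrullDim_eq_ringKrullDim]
    exact (IsHomeomorph.topologicalKrullDim_eq _ iA.hom.left.homeomorph.isHomeomorph).trans hdim
  rcases Groth.Agent.S7976.result k A
      (fun x hx => IsIdempotentElem.iff_eq_zero_or_one.1 hx) hdimA with ⟨⟨w⟩⟩ | ⟨⟨w⟩⟩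
  · obtain ⟨e₂⟩ := GrothLib.MultHopf14.grpIso_of_bialgEquiv w
    obtain ⟨e₃⟩ := GrothLib.SplitTors24.iso_Gm (k := k)
    exact Or.inr (Or.inl ⟨e.symm ≪≫ e₂.symm ≪≫ e₃⟩)
  · obtain ⟨e₂⟩ := GrothLib.MultHopf14.grpIso_of_bialgEquiv w
    obtain ⟨e₃⟩ := GrothLib.SplitTors24.iso_Ga (k := k)
    exact Or.inl ⟨e.symm ≪≫ e₂.symm ≪≫ e₃⟩

end Groth.Agent.S12500
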