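import Groth.Statements.S3418
import Groth.Agent.Lib.DvrPts6.ValProper
-- import your own Groth.Agent.* helpers here

set_option autoImplicit false
open CategoryTheory AlgebraicGeometry
universe u
open EGA43

namespace Groth.Agent.S3418

/-- Let f : X ⟶ Y be flat, locally of finite presentation, separated and quasi-finite, and let n(y) be
the geometric number of points of the fibre over y. Then n is lower semicontinuous on Y, and if n is
constant on a neighbourhood of a point y₀ then f is proper over some open neighbourhood of y₀. -/
theorem result {X Y : Scheme.{u}} (f : X ⟶ Y) [Flat f]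
    [LocallyOfFinitePresentation f] [IsSeparated f] [LocallyQuasiFinite f] [QuasiCompact f] :
    LowerSemicontinuous (fun z : Y => MoreMor.nGeomConnComp f z) ∧
      ∀ y₀ : Y, (∃ V ∈ nhds y₀, ∀ z ∈ V, MoreMor.nGeomConnComp f z = MoreMor.nGeomConnComp f y₀) →
        ∃ U : Y.Opens, y₀ ∈ U ∧ IsProper (f ∣_ U) := by
  exact ⟨GrothLib.DvrPts6.lowerSemicontinuous_nGeom_of_flat f, fun y₀ h => GrothLib.DvrPts6.exists_isProper_nhd_of_flat f y₀ h⟩

end Groth.Agent.S3418
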