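import Groth.Statements.S2595
import Groth.Agent.Lib.Chev28.DimFormula
import Groth.Agent.Lib.CMMor6.Chart

set_option autoImplicit false
open CategoryTheory AlgebraicGeometry
universe u
open EGA43

namespace Groth.Agent.S2595

/-- Let Y be locally Noetherian, f : X ⟶ Y locally of finite type and x a point of X. If O_{Y,f x} ⟶
O_{X,x} is flat and the local ring at x of the fibre through x is Cohen–Macaulay, then f is
equidimensional at x. -/
theorem result {X Y : Scheme.{u}} [IsLocallyNoetherian Y] (f : X ⟶ Y)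
    [LocallyOfFiniteType f] (x : X) (hflat : (f.stalkMap x).hom.Flat)
    (hCM : LocCoh.IsCohenMacaulayLocalRing ((f.fiber (f.base x)).presheaf.stalk (f.asFiber x))) :
    EGA43.IsEquidimAt f x := by
  haveI := LocallyOfFiniteType.isLocallyNoetherian f
  haveI : LocallyOfFinitePresentation f := inferInstance
  obtain ⟨r, U, g, hxU, hg, _, _, hd⟩ := GrothLib.CMMor6.exists_chart f x ⟨hflat, hCM⟩
  haveI : Flat (𝔸(ULift.{u} (Fin r); Y) ↘ Y) :=
    Flat.of_stalkMap _ fun p => (GrothLib.CMMor6.isCMAt_affineSpace r p).1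
  haveI : Flat (U.ι ≫ f) := by rw [← hg]; infer_instance
  refine GrothLib.Chev28.isEquidimAt_of_components f x r (hd x hxU).le fun ξ hξ hmax => ?_
  have hξU : ξ ∈ U := hξ.mem_open U.2 hxU
  obtain ⟨m, hm, hm'⟩ := GrothLib.Equidim6.resTrdeg_eq_fibreDimAt_of_maximal f ξ hmax
  refine ⟨fun y' hy' => ?_, by rw [hm, show m = r by exact_mod_cast hm'.symm.trans (hd ξ hξU)]⟩
  obtain ⟨v, hv, hv'⟩ := Flat.generalizingMap (U.ι ≫ f) (show y' ⤳ (U.ι ≫ f) ⟨ξ, hξU⟩ from hy')
  have h1 : v.1 = ξ := hmax v.1 (hv.map U.ι.continuous)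
  rw [← hv']
  exact congrArg f h1

end Groth.Agent.S2595
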