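import Groth.Statements.S4939
import Groth.Agent.Lib.Chev28.DimFormula

set_option autoImplicit false
open CategoryTheory AlgebraicGeometry
universe u v w
open EGA43

namespace Groth.Agent.S4939

/-- Suppose Y is a locally Noetherian scheme and f : X ⟶ Y is locally of finite type; take a point x of
X whose image y = f x is geometrically unibranch on Y. Then these three conditions are equivalent:
a) f is equidimensional at x; b) O_{X,x} is an equidimensional local ring, and f is open at every
generic point of an irreducible component of the fibre X_y that contains x; c) O_{X,x} is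
equidimensional, and f is universally open at every such generic point of an irreducible component
of X_y passing through x. (Not formalized here is the additional claim that, when these hold,
restricting f to any reduced irreducible component of X through x gives a morphism equidimensional
at x and universally open at the points of the components of its fibre through x.) -/
theorem result {X Y : Scheme.{u}} [IsLocallyNoetherian Y] (f : X ⟶ Y)
    [LocallyOfFiniteType f] (x : X) (hy : CAlg2.IsGeomUnibranch (Y.presheaf.stalk (f.base x))) :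
    List.TFAE [EGA43.IsEquidimAt f x,
      EGA4.IsEquidim (X.presheaf.stalk x) ∧ (∀ z : ↥(f.fiber (f.base x)), f.asFiber x ∈ closure {z} →
        (∀ z' : ↥(f.fiber (f.base x)), z ∈ closure {z'} → z' = z) → EGA43.IsOpenAt f.base ((f.fiberι (f.base x)).base z)),
      EGA4.IsEquidim (X.presheaf.stalk x) ∧ (∀ z : ↥(f.fiber (f.base x)), f.asFiber x ∈ closure {z} →
        (∀ z' : ↥(f.fiber (f.base x)), z ∈ closure {z'} → z' = z) → EGA43.IsUnivOpenAt f ((f.fiberι (f.base x)).base z))] := by
  haveI := LocallyOfFiniteType.isLocallyNoetherian f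
  have hfib : ∀ z : ↥(f.fiber (f.base x)), f ((f.fiberι (f.base x)).base z) = f x :=
    fun z => (f.range_fiberι (f x)).le ⟨z, rfl⟩
  tfae_have 1 → 3 := by
    intro h
    refine ⟨GrothLib.Chev28.isEquidim_stalk_of_isEquidimAt f x hy h, fun z hz _ => ?_⟩
    refine GrothLib.Chev28.isUnivOpenAt_of_isEquidimAt f _ ((hfib z).symm ▸ hy)
      (GrothLib.Chev28.isEquidimAt_of_specializes h ?_ (hfib z))
    exact ((specializes_iff_mem_closure.mpr hz).map (f.fiberι (f x)).continuous).trans
      (specializes_of_eq (f.fiberι_asFiber x))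
  tfae_have 3 → 2 := fun h => ⟨h.1, fun z hz hzmax =>
    GrothLib.Chev28.isOpenAt_of_isUnivOpenAt (h.2 z hz hzmax)⟩
  tfae_have 2 → 1 := by
    rintro ⟨heq, hopen⟩
    obtain ⟨x₀, he, hs, hmax, hd⟩ := GrothLib.Equidim6.exists_fibre_maximal f x
    have hmax' : ∀ z, f z = f x₀ → z ⤳ x₀ → z = x₀ := fun z hz => hmax z (hz.trans he)
    obtain ⟨n, -, hn⟩ := GrothLib.Equidim6.fibreDimAt_eq_resTrdeg f x₀ hmax'
    obtain ⟨z₀, hz₀⟩ := (f.range_fiberι (f x)).ge he
    have ho : EGA43.IsOpenAt f.base x₀ := by
      refine hz₀ ▸ hopen z₀ ?_ fun z' hz' => ?_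
      · refine specializes_iff_mem_closure.mp ((f.fiberι (f x)).isEmbedding.isInducing.specializes_iff.mp ?_)
        rw [f.fiberι_asFiber]
        exact hz₀.symm ▸ hs
      · refine (f.fiberι (f x)).isEmbedding.injective ((hmax _ (hfib z') ?_).trans hz₀.symm)
        exact hz₀ ▸ (specializes_iff_mem_closure.mpr hz').map (f.fiberι (f x)).continuous
    have hgood := GrothLib.Chev28.hasGoodComponent_of_mem_closure f x₀ hmax'
      fun y' hy' => GrothLib.Chev28.mem_closure_of_isOpenAt ho hy'
    obtain ⟨η, hηx, hη⟩ := GrothLib.Chev28.exists_maximal_generization (f x₀)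
    obtain ⟨ξ₀, hξ₀, hfξ₀, hξ₀max, hx₀, m, hm, hdim⟩ := hgood.extract hηx hη
    have hmn : m = n := by
      exact_mod_cast (hdim.symm.trans (((GrothLib.Chev28.component_dims f hξ₀ hm hx₀).2.2 hmax').trans hn) :)
    rw [hmn] at hm
    have hdn : FlatMor.fibreDimAt f x ≤ n := (hd.trans hn).le
    obtain ⟨c, hc, -⟩ := GrothLib.Chev28.exists_nat_dim_stalk (f x)
    obtain ⟨D, hD, -⟩ := GrothLib.Chev28.exists_nat_dim_stalk x
    have heq' := (GrothLib.Chev28.isEquidim_stalk_iff x).mp heq
    obtain ⟨s, hsdeg, -⟩ := GrothLib.Altitude.exists_trdeg_eq_dim_closure f x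
    have hlow := GrothLib.Chev28.dim_locQuot_ge f (hξ₀.trans hs) (hfξ₀.symm ▸ hη) hy n hm hdn s D c hsdeg
      ((heq' ξ₀ _ hξ₀max).trans hD) hc
    refine GrothLib.Chev28.isEquidimAt_of_components f x n hdn fun ξ hξ hξmax => ?_
    obtain ⟨t, s', a, b, ht, hs', ha, hb, hle, -⟩ := GrothLib.Altitude.dim_locQuot_add_trdeg f hξ
    have haD : a = D := by exact_mod_cast (ha.symm.trans ((heq' ξ hξ hξmax).trans hD) :)
    have hss : s' = s := by exact_mod_cast (hs'.symm.trans hsdeg :)
    obtain ⟨hbc, hbc'⟩ := GrothLib.Chev28.dim_locQuot_le_stalk (hξ.map f.continuous) b c hb hc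
    have htn : t ≤ n := by
      obtain ⟨h1, h2, -⟩ := GrothLib.Chev28.component_dims f hξ ht ⟨hξ.mem_closure, rfl⟩
      exact_mod_cast ((h1.trans h2).trans hdn :)
    exact ⟨hbc' (by omega), ht.trans (by rw [show t = n by omega])⟩
  tfae_finish

end Groth.Agent.S4939
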