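import Groth.Statements.S0031
import Groth.Agent.Lib.Cohom.UniformVanish

set_option autoImplicit false
universe u
open Coherent

namespace Groth.Agent.S0031

open AlgebraicGeometry CategoryTheory in
/-- If f : X → S is quasi-compact and quasi-separated and S is quasi-compact, there is an integer n with
R^p f_* F = 0 for all p ≥ n and all quasi-coherent F (higher direct images of the underlying abelian
sheaves). -/
theorem result {X S : Scheme.{u}} (f : X ⟶ S) [QuasiCompact f]
    [QuasiSeparated f] [CompactSpace S] :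
    ∃ n : ℕ, ∀ (M : X.Modules), Coh.IsQCoh M → ∀ p : ℕ, n ≤ p →
      Limits.IsZero ((Coh.RpushAb f p).obj (Coh.toAb M)) := by
  obtain ⟨s, hs, hS⟩ := isCompact_iff_finite_and_eq_biUnion_affineOpens.mp
    (show IsCompact ((⊤ : S.Opens) : Set S) from by simpa using CompactSpace.isCompact_univ)
  choose d hd using fun V : S.affineOpens ↦ GrothLib.Cohom.exists_vanishFrom_preimage f V.2
  obtain ⟨n, hn⟩ := (hs.image d).bddAbove
  refine ⟨n, fun M hM p hp ↦ GrothLib.Cohom.isZero_RpushAb_of_basis f (Coh.toAb M) p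
    (B := {W | IsAffineOpen W ∧ ∃ V ∈ s, W ≤ V.1}) ?_ ?_⟩
  · rw [TopologicalSpace.Opens.isBasis_iff_nbhd]
    intro U x hx
    obtain ⟨V, hVs, hxV⟩ : ∃ V ∈ s, x ∈ V.1 := by
      have : x ∈ ((⊤ : S.Opens) : Set S) := trivial
      rw [hS] at this
      simpa using this
    obtain ⟨W, hW, hxW, hWU⟩ := TopologicalSpace.Opens.isBasis_iff_nbhd.1 S.isBasis_affineOpens
      (show x ∈ U ⊓ V.1 from ⟨hx, hxV⟩)
    exact ⟨W, ⟨hW, V, hVs, hWU.trans inf_le_right⟩, hxW, hWU.trans inf_le_left⟩
  · rintro W ⟨hW, V, hVs, hWV⟩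
    exact @hd V W hW hWV M hM p ((hn ⟨V, hVs, rfl⟩).trans hp)

end Groth.Agent.S0031
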