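import Groth.Statements.S3788
-- import your own Groth.Agent.* helpers here
import Groth.Agent.Lib.ModelK.Basic
import Groth.Agent.Lib.ModelK.PBT

set_option autoImplicit false
universe v u
open CategoryTheory CategoryTheory.Limits AlgebraicGeometry
attribute [local instance] HasDerivedCategory.standard
open KRR

namespace Groth.Agent.S3788

/-- The relation satisfied by the tautological class: let X be a connected Noetherian scheme, E finite
locally free of rank r + 1, and (π : P ⟶ X, O(1), q) its projective bundle P(E) (universal property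
for invertible quotients of pull-backs of E), P connected Noetherian. With models of K(X), K(P), g =
π^K, e = [E] and ℓ = [O(1)]: Σ_{i=0}^{r+1} (-1)^i π^K(λ^i e) ℓ^{r+1-i} = 0 in K(P). -/
theorem result (X P : Scheme.{u}) [IsNoetherian X] [ConnectedSpace ↥X] [IsNoetherian P] [ConnectedSpace ↥P]
    (r : ℕ) (E : X.Modules) (hE : FlatMod.IsFinLocFreeOfRank (r + 1) E)
    (π : P ⟶ X) (O1 : P.Modules) (q : (Scheme.Modules.pullback π).obj E ⟶ O1) (hPB : KRR.IsProjBundle π E O1 q)
    (KX : Type v) [CommRing KX] [LambdaRing.LambdaOps KX] (PX : LambdaRing.PosStructure KX) (φX : SGA6.Kvb X →+ KX) (hKX : KRR.IsModel X KX PX φX)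
    (KP : Type v) [CommRing KP] [LambdaRing.LambdaOps KP] (PP : LambdaRing.PosStructure KP) (φP : SGA6.Kvb P →+ KP) (hKP : KRR.IsModel P KP PP φP)
    (g : KX →+ KP) (hg : KRR.IsPull π φX φP g) :
    ∑ i ∈ Finset.range (r + 2), (-1 : KP) ^ i * g (LambdaRing.LambdaOps.lam i (φX (KRR.cl X E))) * φP (KRR.cl P O1) ^ (r + 1 - i) = 0 := by
  haveI := hPB.epi
  have hO : FlatMod.IsFinLocFree O1 := GrothLib.FinCov.isFinLocFree_of_rank hPB.invertible
  have hE' : FlatMod.IsFinLocFree E := GrothLib.FinCov.isFinLocFree_of_rank hE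
  have hpE := GrothLib.OX.isFinLocFree_pullback π hE'
  have hF : FlatMod.IsFinLocFree (kernel q) := GrothLib.OX.isFinLocFree_kernel q hpE hO
  obtain ⟨rF, hrF⟩ := GrothLib.ModelK.exists_rank_connected hF
  set ℓ := φP (KRR.cl P O1) with hℓ
  set f := φP (KRR.cl P (kernel q)) with hf
  have hadd : KRR.cl P ((Scheme.Modules.pullback π).obj E) = KRR.cl P (kernel q) + KRR.cl P O1 :=
    GrothLib.K0Sub.clSub_add (P := KRR.vbP P) (GrothLib.K0Sub.shortExact_kernel q) hF hpE hO
  have hge : g (φX (KRR.cl X E)) = f + ℓ := by rw [hg E hE', hadd, map_add]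
  have hgl : ∀ i, g (LambdaRing.LambdaOps.lam i (φX (KRR.cl X E))) = LambdaRing.LambdaOps.lam i (f + ℓ) :=
    fun i => by
      rw [← hge]
      exact GrothLib.ModelK.isLambdaHom_pull hKP hKX hg i _
  have haugf : PP.aug f = r := by
    have h : PP.aug (g (φX (KRR.cl X E))) = (r + 1 : ℕ) := by
      rw [GrothLib.ModelK.aug_pull hKP hKX hg, hKX.aug_cl _ E hE]
    rw [hge, map_add, hKP.aug_cl 1 _ hPB.invertible] at h
    push_cast at h
    linarith
  have hrr : rF = r := by
    have := hKP.aug_cl rF _ hrF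
    rw [← hf, haugf] at this
    exact_mod_cast this.symm
  have hf0 : LambdaRing.LambdaOps.lam (r + 1) f = 0 := by
    rcases Nat.eq_zero_or_pos r with h0 | h0
    · have hz : IsZero (kernel q) := GrothLib.ModelK.isZero_of_rank_zero' (by rw [← h0, ← hrr]; exact hrF)
      have hfz : f = 0 := by rw [hf, show KRR.cl P (kernel q) = 0 from GrothLib.K0Sub.clSub_isZero hz, map_zero]
      have h2 := LambdaRing.LambdaOps.lam_one (0 : KP)
      rw [h0, hfz, h2]
    · refine PP.lam_eq_zero f ((hKP.mem_pos_iff f).2 ⟨rF, kernel q, by omega, hrF, rfl⟩) (r + 1) ?_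
      rw [haugf]; omega
  have hline : PP.IsLine ℓ := GrothLib.ModelK.isLine_cl hKP hPB.invertible
  have hl2 : ∀ j, 2 ≤ j → LambdaRing.LambdaOps.lam j ℓ = 0 := fun j hj =>
    PP.lam_eq_zero ℓ hline.1 j (by rw [hline.2]; omega)
  have hsum : ∀ i, LambdaRing.LambdaOps.lam (i + 1) (f + ℓ) =
      LambdaRing.LambdaOps.lam (i + 1) f + ℓ * LambdaRing.LambdaOps.lam i f := fun i => by
    rw [LambdaRing.LambdaOps.lam_add, Finset.sum_range_succ, Finset.sum_range_succ, Finset.sum_eq_zero]
    · rw [show i + 1 - i = 1 by omega, LambdaRing.LambdaOps.lam_one, Nat.sub_self, LambdaRing.LambdaOps.lam_zero]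
      ring
    · intro j hj
      rw [hl2 _ (by have := Finset.mem_range.1 hj; omega), mul_zero]
  have key : ∀ n, ∑ i ∈ Finset.range (n + 1),
      (-1 : KP) ^ i * LambdaRing.LambdaOps.lam i (f + ℓ) * ℓ ^ (n - i) =
        (-1 : KP) ^ n * LambdaRing.LambdaOps.lam n f := by
    intro n
    induction n with
    | zero => simp [LambdaRing.LambdaOps.lam_zero]
    | succ n ih =>
      rw [Finset.sum_range_succ, hsum, Finset.sum_congr rfl fun i hi => by
        rw [show n + 1 - i = (n - i) + 1 from by have := Finset.mem_range.1 hi; omega, pow_succ, ← mul_assoc],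
        ← Finset.sum_mul, ih, Nat.sub_self]
      ring
  rw [Finset.sum_congr rfl fun i _ => by rw [hgl i], key (r + 1), hf0, mul_zero]


end Groth.Agent.S3788
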