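import Groth.Statements.S0420
import Groth.Agent.Lib.GeomComp6.Global
-- import your own Groth.Agent.* helpers here

set_option autoImplicit false
universe u
open FlatMor

namespace Groth.Agent.S0420

open AlgebraicGeometry CategoryTheory Limits in
/-- For a morphism of finite type to an irreducible scheme whose generic fibre is geometrically
connected, all fibres over some nonempty open of the target are geometrically connected. -/
theorem result {X Y : Scheme.{u}} (f : X ⟶ Y) [IrreducibleSpace ↑Y] [LocallyOfFiniteType f] [QuasiCompact f]
    (h : GeometricallyConnected (f.fiberToSpecResidueField (genericPoint ↑Y))) :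
    ∃ V : Y.Opens, (V : Set ↑Y).Nonempty ∧ GeometricallyConnected (f ∣_ V) := by
  obtain ⟨V, hV, hconst⟩ := GrothLib.GeomComp6.exists_geomCount_constant f
  refine ⟨V, hV, (GrothLib.GeomComp6.geometricallyConnected_iff_count _).mpr fun s => ?_⟩
  refine ((congrArg Prod.snd (GrothLib.GeomComp6.count_morphismRestrict f V s)).trans
    (congrArg Prod.snd (hconst (V.ι s) s.2))).trans ?_
  exact GrothLib.GeomComp6.card_connectedComponents_eq_one_iff.mpr
    (h.geometrically_connectedSpace _ _ _ (IsPullback.of_hasPullback _ _))

end Groth.Agent.S0420
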