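import Groth.Statements.S12660
-- import your own Groth.Agent.* helpers here
import Groth.Agent.Lib.PBDeg17.Chern

set_option autoImplicit false
universe u
open CategoryTheory CategoryTheory.Limits AlgebraicGeometry
open Cyc

namespace Groth.Agent.S12660

/-- Chern class caps commute with flat pullback: for f : X → Y flat of relative dimension c, E finite
locally free of rank r on Y and α a k-cycle on Y, f^*(c_j(E) ∩ α) = c_j(f^*E) ∩ f^*α in
CH_{k+c-j}(X). Flat pullbacks of cycles are taken coefficientwise (Cyc.pullFun); the caps of f^*E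
are taken through the base-changed bundle P' = X ×_Y P (a cartesian square) with O_{P'}(1) the
pullback of O_P(1) and the induced dimension function on P'. (The published statement writes the
same letter for the rank of E and the relative dimension of f; the two are independent here, as in
its proof.) Setting: (X, δ) with Cyc.IsSetup stands for a scheme locally of finite type over the
base (S, δ) (X locally Noetherian with universally catenary local rings, δ a dimension function); (p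
: P → X, O_P(1), q) is the projective bundle of E given by its universal property
(KRR.IsProjBundle), p is proper and δP is the induced dimension function (Cyc.DeltaCompat); a tuple
γ with Cyc.IsChernCap represents (c_0(E) ∩ α, …, c_r(E) ∩ α) through the defining relation Σ_i
(-1)^i c_1(O_P(1))^i ∩ p^*(γ_{r-i}) ∼_rat 0 on P, and classes are compared up to rational
equivalence of representing cycles. -/
theorem result (X Y : Scheme.{u}) (δX : X → ℤ) (δY : Y → ℤ) (hX : Cyc.IsSetup X δX) (hY : Cyc.IsSetup Y δY) (f : X ⟶ Y) [Flat f] [LocallyOfFiniteType f] (c : ℕ) (hc : Cyc.HasRelDim f c) (hf : Cyc.DeltaCompat f δX δY) (r : ℕ) (E : Y.Modules) (hPE : FlatMod.IsFinLocFreeOfRank r E) (P : Scheme.{u}) (π : P ⟶ Y) (O1 : P.Modules) (q : (Scheme.Modules.pullback π).obj E ⟶ O1) (hP : KRR.IsProjBundle π E O1 q) [IsProper π] (δP : P → ℤ) (hPs : Cyc.IsSetup P δP) (hπ : Cyc.DeltaCompat π δP δY) (P' : Scheme.{u}) (π' : P' ⟶ X) (f' : P' ⟶ P) (hsq : IsPullback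 f' π' π f) (δP' : P' → ℤ) (hPs' : Cyc.IsSetup P' δP') (hπ' : Cyc.DeltaCompat π' δP' δX) (k : ℤ) (α : AlgebraicCycle Y ℤ) (hα : α ∈ Cyc.Zk Y δY k) (αX : AlgebraicCycle X ℤ) (hαX : ⇑αX = Cyc.pullFun f δX δY c ⇑α) (γ : Fin (r + 1) → AlgebraicCycle Y ℤ) (hγ : Cyc.IsChernCap π δY δP O1 r k α γ) (γ' : Fin (r + 1) → AlgebraicCycle X ℤ) (hγ' : Cyc.IsChernCap π' δX δP' ((Scheme.Modules.pullback f').obj O1) r (k + c) αX γ') (β : Fin (r + 1) → AlgebraicCycle X ℤ) (hβ : ∀ j, ⇑(β j) = Cyc.pullFun f δX δY c ⇑(γ j)) (j : Fin (r + 1)) : Cyc.RatEquiv δX (k + c - ((j : ℕ) : ℤ)) (β j) (γ' j) := by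
  rcases Nat.eq_zero_or_pos r with rfl | hr
  · obtain rfl : j = 0 := Subsingleton.elim (α := Fin 1) _ _
    haveI := hX.1
    have e : β 0 = γ' 0 := by
      refine DFunLike.coe_injective ?_
      rw [hβ, hγ'.1, hαX, hγ.1]
    rw [e]
    exact GrothLib.C1.ratEquiv_of_RZ hX.2.2 (GrothLib.C1.RZ.zero hX.2.2 _) fun x => by simp
  obtain ⟨m, rfl⟩ : ∃ m, r = m + 1 := ⟨r - 1, by omega⟩
  haveI := hX.1
  haveI := hY.1
  haveI := hPs.1
  haveI := hPs'.1
  haveI : Flat f' := MorphismProperty.of_isPullback (P := @Flat) hsq.flip inferInstance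
  haveI : LocallyOfFiniteType f' := MorphismProperty.of_isPullback (P := @LocallyOfFiniteType) hsq.flip inferInstance
  haveI : IsProper π' := MorphismProperty.of_isPullback (P := @IsProper) hsq inferInstance
  have S := GrothLib.PBDeg.setting_univ hY hPE hP hPs hπ
  haveI := S.charts.flat
  have S' : GrothLib.PBDeg.Setting π' ((Scheme.Modules.pullback f').obj O1) m δX δP' :=
    ⟨S.charts.baseChange S.inv hsq (Iso.refl _), hX.2.2, hPs'.2.2, hπ', GrothLib.C1.isInvertible_pullback f' S.inv⟩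
  haveI := S'.charts.flat
  have hf' : Cyc.DeltaCompat f' δP' δP :=
    GrothLib.C1.deltaCompat_of_comp f' π (π' ≫ f) hsq.w hπ (GrothLib.PBDeg.deltaCompat_comp' π' f hπ' hf)
  have hs : ∀ x, GrothLib.CycFlat.MaxFib f' x → δP' x = δP (f' x) + (c : ℤ) :=
    GrothLib.CycFlat.shift_of_hasRelDim f' (GrothLib.CycFlat.hasRelDim_of_isPullback hsq.flip hc) hf'
  have hsf : ∀ x, GrothLib.CycFlat.MaxFib f x → δX x = δY (f x) + (c : ℤ) :=
    GrothLib.CycFlat.shift_of_hasRelDim f hc hf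
  have hsp' : ∀ x, GrothLib.CycFlat.MaxFib π' x → δP' x = δX (π' x) + (m : ℤ) :=
    fun x hx => S'.charts.shift S'.inv S'.dimP S'.compat x hx
  have hsp : ∀ x, GrothLib.CycFlat.MaxFib π x → δP x = δY (π x) + (m : ℤ) :=
    fun x hx => S.charts.shift S.inv S.dimP S.compat x hx
  obtain ⟨w, hw⟩ := GrothLib.C1.exists_sec S.inv
  refine S'.rel_unique (fun j => β j - γ' j) (fun j x hx => ?_) ?_
    (t := fun _ => GrothLib.C1.pullChoice f' S.inv w) (fun _ ξ => GrothLib.C1.pullFib_ne_zero f' S.inv (hw _)) ?_ j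
  · show (β j - γ' j) x = 0
    rw [Function.locallyFinsuppWithin.coe_sub, Pi.sub_apply, hγ'.2.1 j x hx, sub_zero, hβ, GrothLib.CycFlat.pullFun_apply]
    split_ifs with h
    · rw [hγ.2.1 j _ (fun h' => hx (by rw [h, h']; ring)), zero_mul]
    · rfl
  · show Cyc.RatEquivZero δX (k + c) (β 0 - γ' 0)
    have e : β 0 = γ' 0 := by
      refine DFunLike.coe_injective ?_
      rw [hβ, hγ'.1, hαX, hγ.1]
    rw [e, sub_self]
    exact GrothLib.C1.RZ.to_ratEquivZero hX.2.2 (GrothLib.C1.RZ.zero hX.2.2 _)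
  have ht' : ∀ (n : ℕ) ξ, GrothLib.C1.pullChoice f' S.inv w ξ ≠ 0 := fun _ ξ =>
    GrothLib.C1.pullFib_ne_zero f' S.inv (hw _)
  have h1 := S.rel_rz hγ (t := fun _ => w) fun _ => hw
  have h2 := GrothLib.CycDiv.ratEquivZero_pullFun f' hPs'.2.2 hPs.2.2 hs _
    (GrothLib.C1.toCycle _ (GrothLib.PBDeg.lf_sum _ fun i =>
      (GrothLib.PBDeg.lf_c1Pow S.dimP S.inv (t := fun _ => w) (fun _ => hw) (S.lf_pull (γ (Fin.rev i))) i).mono
        fun y hy => right_ne_zero_of_mul hy))
    (GrothLib.C1.RZ.to_ratEquivZero hPs.2.2 h1)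
    (GrothLib.C1.toCycle _ (GrothLib.C1.lf_pullFun f' hPs'.2.2 hs (GrothLib.C1.LF.of_cycle
      (GrothLib.C1.toCycle _ (GrothLib.PBDeg.lf_sum _ fun i =>
      (GrothLib.PBDeg.lf_c1Pow S.dimP S.inv (t := fun _ => w) (fun _ => hw) (S.lf_pull (γ (Fin.rev i))) i).mono
        fun y hy => right_ne_zero_of_mul hy))))) rfl
  have h3 := GrothLib.C1.RZ.of_ratEquivZero hPs'.2.2 h2
  rw [show k - 1 + (c : ℤ) = k + c - 1 by ring] at h3
  refine ((h3.congr ?_).sub hPs'.2.2 (S'.rel_rz hγ' (t := fun _ => GrothLib.C1.pullChoice f' S.inv w) ht')).congr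
    fun y => S'.relFun_sub ht' β γ' y
  intro y
  have key : ∀ i : Fin (m + 1 + 1), Cyc.c1PowFun δP' ((Scheme.Modules.pullback f').obj O1)
      (fun _ => GrothLib.C1.pullChoice f' S.inv w) i (Cyc.pullFun π' δP' δX m ⇑(β (Fin.rev i))) =
      Cyc.pullFun f' δP' δP c (Cyc.c1PowFun δP O1 (fun _ => w) i (Cyc.pullFun π δP δY m ⇑(γ (Fin.rev i)))) := fun i => by
    rw [GrothLib.PBDeg.pullFun_c1Pow f' S.inv hPs.2.2 hPs'.2.2 hs (fun _ => hw) (S.lf_pull (γ (Fin.rev i))) i, hβ,
      ← GrothLib.CycFlat.pullFun_comp π' f hPs'.2.2 hX.2.2 hsf hsp' ⇑(γ (Fin.rev i)),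
      ← GrothLib.CycFlat.pullFun_comp f' π hPs'.2.2 hPs.2.2 hsp hs ⇑(γ (Fin.rev i)),
      GrothLib.CycFlat.pullFun_congr hsq.w, add_comm (c : ℤ) (m : ℤ)]
  show GrothLib.PBDeg.relFun π' ((Scheme.Modules.pullback f').obj O1) δX δP' m _ β y =
    Cyc.pullFun f' δP' δP c (fun z => GrothLib.PBDeg.relFun π O1 δY δP m (fun _ => w) γ z) y
  unfold GrothLib.PBDeg.relFun
  simp only [key, GrothLib.CycFlat.pullFun_apply]
  split_ifs
  · rw [Finset.sum_mul]
    exact Finset.sum_congr rfl fun i _ => by ring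
  · simp

end Groth.Agent.S12660
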