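import Groth.Statements.S14792
import Groth.Agent.Lib.SubtrLim.Submersive
import Groth.Agent.Lib.SubtrLim.Descend
import Groth.Agent.Lib.LimDescend.FgSub
import Groth.Agent.Lib.LimDescend.Property

set_option autoImplicit false
set_option backward.isDefEq.respectTransparency false
universe u
open CategoryTheory CategoryTheory.Limits AlgebraicGeometry
open Subtr

namespace Groth.Agent.S14792

/-- (i) ⇔ (iii): let A be a commutative ring and f : X ⟶ Spec A a morphism of finite presentation. Then
every base change of f has the lifting property for ordered pairs of points if and only if there are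
a finitely generated subring A₀ ⊆ A, a scheme X₀ and a universally submersive morphism f₀ : X₀ ⟶
Spec A₀ of finite presentation such that f is the base change of f₀ along Spec A ⟶ Spec A₀. -/
theorem result (A : Type u) [CommRing A]
    {X : Scheme.{u}} (f : X ⟶ Spec (CommRingCat.of A))
    [LocallyOfFinitePresentation f] [QuasiCompact f] [QuasiSeparated f] :
    Subtr.UnivSSubtrusive f ↔
      ∃ (A₀ : Subalgebra ℤ A) (_ : A₀.FG) (X₀ : Scheme.{u}) (f₀ : X₀ ⟶ Spec (CommRingCat.of A₀))
        (q : X ⟶ X₀), IsPullback q f f₀ (Spec.map (CommRingCat.ofHom A₀.val.toRingHom)) ∧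
        LocallyOfFinitePresentation f₀ ∧ QuasiCompact f₀ ∧ QuasiSeparated f₀ ∧
        SGA1.UnivSubmersive f₀ := by
  constructor
  · intro hf
    let D := GrothLib.LimDescend.fgDiagram A
    let c := GrothLib.LimDescend.fgCone A
    have hc := GrothLib.LimDescend.isLimitFgCone A
    obtain ⟨i₁, ⟨M⟩⟩ := GrothLib.LimDescend.exists_model D c hc f
    have hY : IsPullback (c.π.app i₁) (𝟙 c.pt) (𝟙 (D.obj i₁)) (c.π.app i₁) := IsPullback.of_id_fst.flip
    haveI : CompactSpace (D.obj i₁) := inferInstance
    haveI := GrothLib.LimDescend.compactSpace_model D c M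
    obtain ⟨k, hk⟩ := GrothLib.SubtrLim.exists_valPair D hc M.hom (𝟙 _) hY M.isPullback
      (GrothLib.SubtrLim.univSSubtrusive_iff_valPair.mp hf)
    let fk := (GrothLib.LimDesc.mapNat D i₁ (𝟙 (D.obj i₁)) (M.hom ≫ 𝟙 _) M.hom rfl).app k
    let gk := pullback.snd (𝟙 (D.obj i₁)) (D.map k.hom)
    obtain ⟨rX, rY, hr, -, hrg, -⟩ := GrothLib.LimSmooth.exists_isPullback_stage D M.hom (𝟙 _) hY M.isPullback
      (IsPullback.of_hasPullback (𝟙 (D.obj i₁)) (D.map k.hom))
      (GrothLib.LimDesc.isPullback_mapNat D i₁ (𝟙 (D.obj i₁)) (M.hom ≫ 𝟙 _) M.hom rfl k)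
    have hfk := GrothLib.LimDesc.isPullback_mapNat D i₁ (𝟙 (D.obj i₁)) (M.hom ≫ 𝟙 _) M.hom rfl k
    haveI : IsIso gk := inferInstance
    haveI : LocallyOfFinitePresentation fk := MorphismProperty.of_isPullback hfk M.lfp
    haveI : QuasiCompact fk := MorphismProperty.of_isPullback hfk M.qc
    haveI : QuasiSeparated fk := MorphismProperty.of_isPullback hfk M.qs
    have hfu : Subtr.UnivSSubtrusive fk := GrothLib.SubtrLim.univSSubtrusive_iff_valPair.mpr hk
    have hgu : Subtr.UnivSSubtrusive (fk ≫ gk) :=
      (MorphismProperty.cancel_right_of_respectsIso (P := MorphismProperty.universally _) fk gk).mpr hfu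
    refine ⟨k.left.unop.1, k.left.unop.2, _, fk ≫ gk, rX, ?_,
      (MorphismProperty.cancel_right_of_respectsIso @LocallyOfFinitePresentation fk gk).mpr inferInstance,
      (MorphismProperty.cancel_right_of_respectsIso @QuasiCompact fk gk).mpr inferInstance,
      (MorphismProperty.cancel_right_of_respectsIso @QuasiSeparated fk gk).mpr inferInstance, ?_⟩
    · have h2 : IsPullback rY (𝟙 c.pt) gk (c.π.app k.left) :=
        @IsPullback.of_vert_isIso _ _ _ _ _ _ rY (𝟙 c.pt) gk (c.π.app k.left) (IsIso.id _) ‹IsIso gk›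
          ⟨(hrg.trans (Category.id_comp _)).trans (Category.id_comp _).symm⟩
      have h3 := hr.paste_vert h2
      rw [show f ≫ 𝟙 c.pt = f from Category.comp_id _] at h3
      exact h3
    · haveI : QuasiCompact (fk ≫ gk) :=
        (MorphismProperty.cancel_right_of_respectsIso @QuasiCompact fk gk).mpr inferInstance
      exact GrothLib.SubtrLim.univSubmersive_of_univSSubtrusive hgu
  · rintro ⟨A₀, hA₀, X₀, f₀, q, hpb, _, _, _, hu⟩
    haveI : Algebra.FiniteType ℤ A₀ := (Subalgebra.fg_iff_finiteType _).mp hA₀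
    haveI : IsNoetherianRing A₀ := Algebra.FiniteType.isNoetherianRing ℤ _
    have h0 : Subtr.UnivSSubtrusive f₀ := GrothLib.SubtrLim.univSSubtrusive_iff_valPair.mpr
      (GrothLib.SubtrLim.valPair_of_dvrPair (GrothLib.SubtrLim.dvrPair_of_univSubmersive hu))
    exact MorphismProperty.of_isPullback (P := MorphismProperty.universally _) hpb h0

end Groth.Agent.S14792
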