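import Groth.Statements.S0611
-- import your own Groth.Agent.* helpers here
import Groth.Agent.Lib.KoszulH1
import Mathlib.LinearAlgebra.Matrix.NonsingularInverse
import Mathlib.RingTheory.LocalRing.ResidueField.Basic


set_option autoImplicit false
universe u
open RRAlg

namespace Groth.Agent.S0611

/-- In a Noetherian local ring, any minimal generating set of an ideal generated by a regular sequence
is again a regular sequence: if a₁, …, aₙ is a regular sequence and b₁, …, bₙ are n elements
generating the same ideal, then b₁, …, bₙ is a regular sequence. (A regular sequence of length n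
generating an ideal I is a minimal generating set of I, so "minimal" amounts to "of length n".) -/
theorem result {A : Type u} [CommRing A] [IsLocalRing A] [IsNoetherianRing A]
    {n : ℕ} (a b : Fin n → A) (ha : RingTheory.Sequence.IsRegular A (List.ofFn a))
    (hab : Ideal.span (Set.range a) = Ideal.span (Set.range b)) :
    RingTheory.Sequence.IsRegular A (List.ofFn b) := by
  open GrothLib.KoszulH1 in
  have hI : Ideal.span (Set.range a) ≠ ⊤ := by
    intro h
    exact ha.top_ne_smul (by rw [GrothLib.KoszulH1.ofList_ofFn, h, Submodule.top_smul])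
  have hle : Ideal.span (Set.range a) ≤ IsLocalRing.maximalIdeal A := IsLocalRing.le_maximalIdeal hI
  choose V hV using fun i => Ideal.mem_span_range_iff_exists_fun.mp
    (show a i ∈ Ideal.span (Set.range b) by rw [← hab]; exact Ideal.subset_span ⟨i, rfl⟩)
  choose U hU using fun i => Ideal.mem_span_range_iff_exists_fun.mp
    (show b i ∈ Ideal.span (Set.range a) by rw [hab]; exact Ideal.subset_span ⟨i, rfl⟩)
  let Vm : Matrix (Fin n) (Fin n) A := Matrix.of V
  let Um : Matrix (Fin n) (Fin n) A := Matrix.of U
  have hVa : Vm.mulVec b = a := funext fun i => hV i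
  have hUb : Um.mulVec a = b := funext fun i => hU i
  have hunit : IsUnit (Vm * Um).det := by
    have hent : ∀ i j, ((Vm * Um) - 1) i j ∈ IsLocalRing.maximalIdeal A := by
      intro i j
      have hz : ((Vm * Um) - 1).mulVec a = 0 := by
        rw [Matrix.sub_mulVec, ← Matrix.mulVec_mulVec, hUb, hVa, Matrix.one_mulVec, sub_self]
      have hrel : ((Vm * Um) - 1) i ∈ GrothLib.KoszulH1.triv a A := by
        refine GrothLib.KoszulH1.mem_triv_of_isWeaklyRegular a ha.toIsWeaklyRegular _ ?_
        have := congrFun hz i
        rw [Pi.zero_apply] at this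
        rw [← this, Matrix.mulVec, dotProduct]
        exact Finset.sum_congr rfl fun l _ => mul_comm _ _
      have hsub : GrothLib.KoszulH1.triv a A ≤ Submodule.pi Set.univ fun _ => IsLocalRing.maximalIdeal A := by
        refine Submodule.span_le.mpr ?_
        rintro _ ⟨p, q, x, rfl⟩ l -
        simp only [Pi.sub_apply, Pi.smul_apply, smul_eq_mul]
        exact sub_mem (Ideal.mul_mem_right _ _ (hle (Ideal.subset_span ⟨q, rfl⟩)))
          (Ideal.mul_mem_right _ _ (hle (Ideal.subset_span ⟨p, rfl⟩)))
      exact hsub hrel j trivial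
    have hmap : (Vm * Um).map (IsLocalRing.residue A) = 1 := by
      ext i j
      have h2 := (IsLocalRing.residue_eq_zero_iff _).mpr (hent i j)
      rw [Matrix.sub_apply, map_sub, sub_eq_zero] at h2
      rw [Matrix.map_apply, h2]
      simp [Matrix.one_apply, apply_ite (IsLocalRing.residue A)]
    have h1 : IsLocalRing.residue A (Vm * Um).det = 1 := by
      rw [RingHom.map_det, RingHom.mapMatrix_apply, hmap, Matrix.det_one]
    by_contra hnu
    rw [(IsLocalRing.residue_eq_zero_iff _).mpr ((IsLocalRing.mem_maximalIdeal _).mpr hnu)] at h1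
    exact zero_ne_one h1
  rw [Matrix.det_mul] at hunit
  have hUu : IsUnit Um.det := isUnit_of_mul_isUnit_right hunit
  let W := Um⁻¹
  have hWb : W.mulVec b = a := by
    rw [← hUb, Matrix.mulVec_mulVec, Matrix.nonsing_inv_mul _ hUu, Matrix.one_mulVec]
  refine ⟨GrothLib.KoszulH1.isWeaklyRegular_of_separates b (fun j => GrothLib.KoszulH1.separates_of_mem_jacobson ?_) ?_, ?_⟩
  · rw [IsLocalRing.jacobson_eq_maximalIdeal ⊥ bot_ne_top]
    exact hle (by rw [hab]; exact Ideal.subset_span ⟨j, rfl⟩)
  · intro m hm
    let Φ : (Fin n → A) →ₗ[A] (Fin n → A) := Matrix.mulVecLin W.transpose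
    have hrel : Um.transpose.mulVec m ∈ GrothLib.KoszulH1.triv a A := by
      refine GrothLib.KoszulH1.mem_triv_of_isWeaklyRegular a ha.toIsWeaklyRegular _ ?_
      show dotProduct a (Um.transpose.mulVec m) = 0
      rw [Matrix.dotProduct_mulVec, Matrix.vecMul_transpose, hUb]
      exact hm
    have hmap : (GrothLib.KoszulH1.triv a A).map Φ ≤ GrothLib.KoszulH1.triv b A := by
      rw [Submodule.map_span_le]
      rintro _ ⟨i, j, x, rfl⟩
      have key : Φ (a j • (Pi.single i x : Fin n → A) - a i • (Pi.single j x : Fin n → A)) =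
          ∑ k, ∑ l, (W j l * W i k) • (b l • (Pi.single k x : Fin n → A) - b k • (Pi.single l x : Fin n → A)) := by
        funext c
        simp only [Φ, map_sub, map_smul, Matrix.mulVecLin_apply, Matrix.mulVec_single, Pi.sub_apply, Pi.smul_apply,
          Finset.sum_apply, Pi.single_apply, smul_eq_mul, smul_sub, mul_ite, mul_zero, Finset.sum_sub_distrib,
          Matrix.transpose_apply, Matrix.col_apply, op_smul_eq_mul]
        rw [← hWb]
        simp only [Matrix.mulVec, dotProduct, Finset.sum_mul]
        rw [Finset.sum_comm (f := fun k l => if c = k then W j l * W i k * (b l * x) else 0)]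
        simp only [Finset.sum_ite_eq, Finset.mem_univ, if_true]
        congr 1 <;> refine Finset.sum_congr rfl fun l _ => ?_ <;> ring
      rw [key]
      exact Submodule.sum_mem _ fun k _ => Submodule.sum_mem _ fun l _ =>
        Submodule.smul_mem _ _ (Submodule.subset_span ⟨k, l, x, rfl⟩)
    have hmm := hmap ⟨_, hrel, rfl⟩
    convert hmm using 1
    simp only [Φ, Matrix.mulVecLin_apply, Matrix.mulVec_mulVec]
    rw [← Matrix.transpose_mul, Matrix.mul_nonsing_inv _ hUu, Matrix.transpose_one, Matrix.one_mulVec]
  · rw [GrothLib.KoszulH1.ofList_ofFn, ← hab, ← GrothLib.KoszulH1.ofList_ofFn]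
    exact ha.top_ne_smul


end Groth.Agent.S0611
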