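import Groth.Statements.S18318
import Groth.Agent.Lib.Torsor21.RationalSection
import Groth.Agent.Lib.GrpSchField.Criteria
import Groth.Agent.Lib.RedSmooth.Basic
import Mathlib.LinearAlgebra.Eigenspace.Zero
import Mathlib.Topology.Separation.Connected

set_option autoImplicit false
set_option backward.isDefEq.respectTransparency false
set_option backward.isDefEq.respectTransparency.types false
universe u
open CategoryTheory AlgebraicGeometry MonoidalCategory CartesianMonoidalCategory TensorProduct
open NonAbH1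

namespace Groth.Agent.S18318

open CategoryTheory.Limits MonoidalCategory CartesianMonoidalCategory TensorProduct MonObj in
theorem exists_algebra {K : Type u} [Field K] (X : Over (Spec (CommRingCat.of K))) [IsFinite X.hom] :
    ∃ (B : Type u) (_ : CommRing B) (_ : Algebra K B) (_ : Module.Finite K B)
      (e : Spec (CommRingCat.of B) ≅ X.left), e.hom ≫ X.hom = Spec.map (CommRingCat.ofHom (algebraMap K B)) := by
  haveI : IsAffine X.left := isAffine_of_isAffineHom X.hom
  let φ : CommRingCat.of K ⟶ Γ(X.left, ⊤) := Spec.preimage (X.left.isoSpec.inv ≫ X.hom)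
  letI := φ.hom.toAlgebra
  have hφ : X.left.isoSpec.inv ≫ X.hom = Spec.map (CommRingCat.ofHom (algebraMap K Γ(X.left, ⊤))) :=
    (Spec.map_preimage _).symm
  refine ⟨Γ(X.left, ⊤), inferInstance, inferInstance, ?_, X.left.isoSpec.symm, hφ⟩
  haveI : IsFinite (Spec.map (CommRingCat.ofHom (algebraMap K Γ(X.left, ⊤)))) := hφ ▸ inferInstance
  exact RingHom.finite_algebraMap.1 ((IsFinite.SpecMap_iff _).1 inferInstance)

theorem eq_algebraMap_add_nilpotent {Ω A : Type u} [Field Ω] [CommRing A] [Algebra Ω A] (ε : A →ₐ[Ω] Ω)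
    (h : ∀ (P : Ideal A), P.IsPrime → RingHom.ker ε ≤ P) (x : A) : IsNilpotent (x - algebraMap Ω A (ε x)) := by
  rw [← mem_nilradical, nilradical_eq_sInf, Ideal.mem_sInf]
  exact fun {P} hP => h P hP (by rw [RingHom.mem_ker, map_sub, AlgHom.commutes]; exact sub_self _)

open CategoryTheory.Limits MonoidalCategory CartesianMonoidalCategory TensorProduct MonObj in
/-- The base change of a finite connected group to a field extension is local with residue field the extension. -/
theorem exists_augmentation {K : Type u} [Field K] (G : Over (Spec (CommRingCat.of K))) [GrpObj G]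
    [ConnectedSpace G.left] {C : Type u} [CommRing C] [Algebra K C] [Module.Finite K C]
    (e : Spec (CommRingCat.of C) ≅ G.left) (he : e.hom ≫ G.hom = Spec.map (CommRingCat.ofHom (algebraMap K C)))
    (Ω : Type u) [Field Ω] [Algebra K Ω] :
    ∃ ε : Ω ⊗[K] C →ₐ[Ω] Ω, ∀ P : Ideal (Ω ⊗[K] C), P.IsPrime → RingHom.ker ε ≤ P := by
  haveI : ConnectedSpace (Spec (CommRingCat.of C)) := e.inv.homeomorph.surjective.connectedSpace e.inv.continuous
  haveI : IsArtinianRing C := IsArtinianRing.of_finite K C
  haveI : DiscreteTopology (PrimeSpectrum C) := inferInstance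
  haveI : Subsingleton (PrimeSpectrum C) := @PreconnectedSpace.trivial_of_discrete (PrimeSpectrum C) _ (inferInstanceAs (PreconnectedSpace (Spec (CommRingCat.of C)))) _
  let u : Spec (CommRingCat.of K) ⟶ G.left := (1 : Over.mk (𝟙 _) ⟶ G).left
  have hu : u ≫ G.hom = 𝟙 _ := Over.w (1 : Over.mk (𝟙 _) ⟶ G)
  let q := Spec.preimage (u ≫ e.inv)
  have hq : CommRingCat.ofHom (algebraMap K C) ≫ q = 𝟙 _ := by
    apply Spec.map_injective
    rw [Spec.map_comp, Spec.map_preimage, Spec.map_id, ← he, Category.assoc, Iso.inv_hom_id_assoc]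
    exact hu
  let ε₀ : C →ₐ[K] K := { q.hom with commutes' := fun r => congr(($hq).hom r) }
  let ε : Ω ⊗[K] C →ₐ[Ω] Ω := Algebra.TensorProduct.lift (AlgHom.id Ω Ω)
    ((Algebra.ofId K Ω).comp ε₀) (fun x y => Commute.all _ _)
  refine ⟨ε, fun P hP => ?_⟩
  have hC : ∀ c : C, ε₀ c = 0 → (1 : Ω) ⊗ₜ[K] c ∈ P := fun c hc => by
    let inc : C →ₐ[K] Ω ⊗[K] C := Algebra.TensorProduct.includeRight
    have hs := Subsingleton.elim (α := PrimeSpectrum C) ⟨P.comap inc, inferInstance⟩
      ⟨RingHom.ker ε₀, RingHom.ker_isPrime ε₀.toRingHom⟩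
    show c ∈ P.comap inc
    rw [show P.comap inc = RingHom.ker ε₀ from congrArg PrimeSpectrum.asIdeal hs]
    exact hc
  intro x hx
  have key : ∀ x : Ω ⊗[K] C, x - algebraMap Ω _ (ε x) ∈ P := by
    intro x
    induction x with
    | zero => simp
    | add x y hx hy =>
      rw [map_add, map_add, add_sub_add_comm]
      exact P.add_mem hx hy
    | tmul l c =>
      have h1 := hC (c - algebraMap K C (ε₀ c)) (by rw [map_sub, AlgHom.commutes]; exact sub_self _)
      have e1 : l ⊗ₜ[K] c - algebraMap Ω _ (ε (l ⊗ₜ[K] c)) =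
          (l ⊗ₜ[K] (1 : C)) * ((1 : Ω) ⊗ₜ[K] (c - algebraMap K C (ε₀ c))) := by
        rw [Algebra.TensorProduct.tmul_mul_tmul, _root_.mul_one, _root_.one_mul, TensorProduct.tmul_sub,
          Algebra.algebraMap_eq_smul_one (R := K) (A := C), TensorProduct.tmul_smul]
        simp only [ε, Algebra.TensorProduct.lift_tmul, AlgHom.comp_apply, Algebra.TensorProduct.algebraMap_apply]
        simp [Algebra.smul_def, mul_comm]
      rw [e1]
      exact P.mul_mem_left _ h1
  have := key x
  rwa [show ε x = 0 from hx, map_zero, sub_zero] at this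

theorem finrank_pow_eq_zero {Ω A : Type u} [Field Ω] [CommRing A] [Algebra Ω A] [Module.Finite Ω A] {x : A}
    (hx : IsNilpotent x) : x ^ Module.finrank Ω A = 0 := by
  have h : IsNilpotent (Algebra.lmul Ω A x) := hx.map _
  have hc := LinearMap.aeval_self_charpoly (Algebra.lmul Ω A x)
  rw [IsNilpotent.charpoly_eq_X_pow_finrank h] at hc
  simp only [map_pow, Polynomial.aeval_X] at hc
  rw [← map_pow] at hc
  simpa using LinearMap.congr_fun hc 1

/-- Let K be a field of exponential characteristic p and G a finite connected K-group scheme. Then there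
is an integer n ≥ 0 such that every G-torsor X over Spec K for the fppf topology (simply transitive
action, a section over the members of some fppf covering) becomes trivial over the purely
inseparable extension K^{1/p^n} of K: equivalently, X admits a K-morphism from Spec K regarded as a
K-scheme through the n-th iterate x ↦ x^(p^n) of the Frobenius endomorphism of K. The source
moreover bounds n by p^n ≤ (#G)!; only the existence of a uniform n is stated here. In particular (p
= 1, characteristic zero) every such torsor is trivial. -/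
theorem result (K : Type u) [Field K]
    (p : ℕ) [ExpChar K p] (G : Over (Spec (CommRingCat.of K))) [GrpObj G] [IsFinite G.hom] [ConnectedSpace G.left] :
    ∃ n : ℕ, ∀ (X : Over (Spec (CommRingCat.of K))) (a : AlgGrp.Action G X), NonAbH1.IsTorsorFor Scheme.fppfPrecoverage a →
      NonAbH1.HasSectionOver X (Spec.map (CommRingCat.ofHom (iterateFrobenius K p n))) := by
  obtain ⟨C, _, _, _, eC, heC⟩ := exists_algebra G
  refine ⟨Module.finrank K C, fun X a ha => ?_⟩
  haveI := GrothLib.Torsor21.isFinite_hom ha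
  haveI := GrothLib.Torsor21.surjective_hom (GrothLib.Torsor21.isTorsorFor_fpqc ha)
  obtain ⟨B, _, _, _, eB, heB⟩ := exists_algebra X
  let Ω := AlgebraicClosure K
  let τ : Spec (CommRingCat.of Ω) ⟶ Spec (CommRingCat.of K) := Spec.map (CommRingCat.ofHom (algebraMap K Ω))
  obtain ⟨x0, -⟩ := X.hom.surjective (IsLocalRing.closedPoint K)
  haveI : Nontrivial B := PrimeSpectrum.nonempty_iff_nontrivial.1 ⟨eB.inv x0⟩
  obtain ⟨m, hm⟩ := Ideal.exists_maximal B
  letI := Ideal.Quotient.field m
  let pt : B →ₐ[K] Ω := (IsAlgClosed.lift : (B ⧸ m) →ₐ[K] Ω).comp (Ideal.Quotient.mkₐ K m)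
  let T : Over (Spec (CommRingCat.of K)) := Over.mk τ
  let t : T ⟶ X := Over.homMk (Spec.map (CommRingCat.ofHom pt.toRingHom) ≫ eB.hom) (by
    rw [Category.assoc, heB, ← Spec.map_comp, ← CommRingCat.ofHom_comp]
    exact congrArg (fun f => Spec.map (CommRingCat.ofHom f)) pt.comp_algebraMap)
  let sh : G ⊗ T ⟶ X ⊗ T := lift ((G ◁ t) ≫ a.act) (snd G T)
  haveI : IsIso sh := GrothLib.Torsor21.isIso_triv ha.1 t
  haveI : IsIso sh.left := inferInstanceAs (IsIso ((Over.forget _).map sh))
  -- identify both base changes with spectra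
  have ident : ∀ (Y : Over (Spec (CommRingCat.of K))) (D : Type u) [CommRing D] [Algebra K D]
      (e : Spec (CommRingCat.of D) ≅ Y.left), e.hom ≫ Y.hom = Spec.map (CommRingCat.ofHom (algebraMap K D)) →
      ∃ j : Spec (CommRingCat.of (Ω ⊗[K] D)) ≅ Limits.pullback Y.hom τ,
        j.hom ≫ Limits.pullback.snd Y.hom τ =
          Spec.map (CommRingCat.ofHom (algebraMap Ω (Ω ⊗[K] D))) := by
    intro Y D _ _ e he
    have h1 : IsPullback (Spec.map (CommRingCat.ofHom (Algebra.TensorProduct.includeRight : D →ₐ[K] Ω ⊗[K] D).toRingHom) ≫ e.hom)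
        (Spec.map (CommRingCat.ofHom (Algebra.TensorProduct.includeLeftRingHom : Ω →+* Ω ⊗[K] D))) Y.hom τ := by
      refine IsPullback.of_iso (isPullback_SpecMap_of_isPushout _ _ _ _
        ((CommRingCat.isPushout_tensorProduct K Ω D).flip)) (Iso.refl _) e (Iso.refl _) (Iso.refl _)
        ?_ ?_ ?_ ?_
      · simp
      · simp
      · simpa using he.symm
      · simp [τ]
    exact ⟨h1.isoPullback, h1.isoPullback_hom_snd⟩
  obtain ⟨jC, hjC⟩ := ident G C eC heC
  obtain ⟨jB, hjB⟩ := ident X B eB heB
  let E : Spec (CommRingCat.of (Ω ⊗[K] B)) ⟶ Spec (CommRingCat.of (Ω ⊗[K] C)) := jB.hom ≫ inv sh.left ≫ jC.inv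
  haveI : IsIso E := inferInstance
  haveI : IsIso (Spec.preimage E) := ⟨Spec.preimage (inv E),
    Spec.map_injective (by rw [Spec.map_comp, Spec.map_preimage, Spec.map_preimage, Spec.map_id, IsIso.inv_hom_id]),
    Spec.map_injective (by rw [Spec.map_comp, Spec.map_preimage, Spec.map_preimage, Spec.map_id, IsIso.hom_inv_id])⟩
  let θ : CommRingCat.of (Ω ⊗[K] C) ≅ CommRingCat.of (Ω ⊗[K] B) := asIso (Spec.preimage E)
  have hθ : ∀ l : Ω, θ.hom (algebraMap Ω _ l) = algebraMap Ω _ l := by
    have : CommRingCat.ofHom (algebraMap Ω (Ω ⊗[K] C)) ≫ θ.hom = CommRingCat.ofHom (algebraMap Ω (Ω ⊗[K] B)) := by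
      apply Spec.map_injective
      rw [Spec.map_comp, show Spec.map θ.hom = E from Spec.map_preimage E, ← hjB, ← hjC]
      simp only [E, Category.assoc, Iso.inv_hom_id_assoc]
      congr 1
      rw [IsIso.inv_comp_eq]
      exact (congrArg CommaMorphism.left (lift_snd ((G ◁ t) ≫ a.act) (snd G T))).symm
    exact fun l => congr(($this).hom l)
  obtain ⟨ε, hε⟩ := exists_augmentation G eC heC Ω
  set N := Module.finrank K C with hN
  have hfr : Module.finrank Ω (Ω ⊗[K] C) = N := Module.finrank_baseChange
  haveI : ExpChar Ω p := expChar_of_injective_algebraMap (algebraMap K Ω).injective p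
  haveI : ExpChar (Ω ⊗[K] C) p := by
    haveI : Nontrivial (Ω ⊗[K] C) := ⟨⟨0, 1, fun h => by simpa using congrArg ε h⟩⟩
    exact expChar_of_injective_algebraMap (algebraMap Ω (Ω ⊗[K] C)).injective p
  have hkey : ∀ z : Ω ⊗[K] C, ∃ l : Ω, z ^ p ^ N = algebraMap Ω _ l := by
    intro z
    refine ⟨ε z ^ p ^ N, ?_⟩
    have hnil := eq_algebraMap_add_nilpotent ε hε z
    suffices (z - algebraMap Ω _ (ε z)) ^ p ^ N = 0 by
      rwa [sub_pow_expChar_pow, sub_eq_zero, ← map_pow] at this
    obtain hp1 | hp2 := (expChar_is_prime_or_one K p).symm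
    · haveI : CharZero K := by subst hp1; exact charZero_of_expChar_one' K
      haveI : Smooth G.hom := GrothLib.GrpSchField.smooth_of_charZero G
      haveI : AlgebraicGeometry.IsReduced G.left := GrothLib.RedSmooth.isReduced_of_smooth G.hom
      haveI : AlgebraicGeometry.IsReduced (Spec (CommRingCat.of C)) := isReduced_of_isOpenImmersion eC.hom
      haveI : _root_.IsReduced C := (affine_isReduced_iff (CommRingCat.of C)).mp inferInstance
      haveI : ConnectedSpace (Spec (CommRingCat.of C)) := eC.inv.homeomorph.surjective.connectedSpace eC.inv.continuous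
      haveI : IsArtinianRing C := IsArtinianRing.of_finite K C
      haveI : Subsingleton (PrimeSpectrum C) := @PreconnectedSpace.trivial_of_discrete (PrimeSpectrum C) _ (inferInstanceAs (PreconnectedSpace (Spec (CommRingCat.of C)))) _
      -- a reduced local artinian ring with residue field K
      obtain ⟨ε', hε'⟩ := exists_augmentation G eC heC K
      have hsurj : ∀ c : C, c ∈ Set.range (algebraMap K C) := by
        intro c
        obtain ⟨d, hd⟩ := eq_algebraMap_add_nilpotent ε' hε' ((1 : K) ⊗ₜ[K] c)
        refine ⟨ε' ((1 : K) ⊗ₜ[K] c), ?_⟩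
        have h2 := congrArg (Algebra.TensorProduct.lid K C) hd
        rw [map_pow, map_sub, map_zero, AlgEquiv.commutes, Algebra.TensorProduct.lid_tmul, one_smul] at h2
        exact (sub_eq_zero.1 (IsNilpotent.eq_zero ⟨d, h2⟩)).symm
      have hz : ∃ l, z = algebraMap Ω _ l := by
        induction z with
        | zero => exact ⟨0, (map_zero _).symm⟩
        | add x y hx hy =>
          obtain ⟨l, rfl⟩ := hx (eq_algebraMap_add_nilpotent ε hε x)
          obtain ⟨l', rfl⟩ := hy (eq_algebraMap_add_nilpotent ε hε y)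
          exact ⟨l + l', (map_add _ _ _).symm⟩
        | tmul l c =>
          obtain ⟨k, rfl⟩ := hsurj c
          exact ⟨k • l, by
            rw [Algebra.algebraMap_eq_smul_one (R := K) (A := C), ← TensorProduct.smul_tmul,
              Algebra.TensorProduct.algebraMap_apply]
            rfl⟩
      obtain ⟨l, rfl⟩ := hz
      rw [AlgHom.commutes]
      simp [zero_pow (expChar_pow_pos K p N).ne']
    · exact pow_eq_zero_of_le ((Nat.lt_pow_self hp2.one_lt).le) (hfr ▸ finrank_pow_eq_zero hnil)
  let ιB : B →ₐ[K] Ω ⊗[K] B := Algebra.TensorProduct.includeRight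
  have hB : ∀ b : B, b ^ p ^ N ∈ Set.range (algebraMap K B) := by
    intro b
    obtain ⟨l, hl⟩ := hkey (θ.inv (ιB b))
    have h1 : ιB (b ^ p ^ N) = algebraMap Ω _ l := by
      rw [map_pow, ← hθ l, ← hl, map_pow]
      exact congrArg (· ^ p ^ N) (congr($(θ.inv_hom_id).hom (ιB b))).symm
    by_contra hb
    have hli : LinearIndependent K ![(1 : B), b ^ p ^ N] := by
      refine (LinearIndependent.pair_iff' one_ne_zero).2 fun r hr => hb ⟨r, ?_⟩
      rw [Algebra.algebraMap_eq_smul_one, hr]
    obtain ⟨f, hf1, hfb⟩ : ∃ f : B →ₗ[K] K, f 1 = 0 ∧ f (b ^ p ^ N) = 1 := by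
      obtain ⟨f, hfr, hfl⟩ := Submodule.exists_le_ker_of_notMem (p := Submodule.span K {(1 : B)}) (v := b ^ p ^ N)
        (fun h => by
          obtain ⟨r, hr⟩ := Submodule.mem_span_singleton.1 h
          exact hb ⟨r, by rw [Algebra.algebraMap_eq_smul_one, hr]⟩)
      refine ⟨(f (b ^ p ^ N))⁻¹ • f, ?_, by simp [hfr]⟩
      simp [LinearMap.mem_ker.1 (hfl (Submodule.mem_span_singleton_self _))]
    have h2 := congrArg (LinearMap.baseChange Ω f) h1
    rw [Algebra.TensorProduct.algebraMap_apply] at h2
    simp only [ιB, Algebra.TensorProduct.includeRight_apply, LinearMap.baseChange_tmul, hf1, hfb,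
      TensorProduct.tmul_zero] at h2
    simpa using congrArg (TensorProduct.rid K Ω) h2
  haveI : ExpChar B p := expChar_of_injective_algebraMap (algebraMap K B).injective p
  let r : B →+* (algebraMap K B).range := (iterateFrobenius B p N).codRestrict _ fun b => by
    rw [iterateFrobenius_def]
    exact hB b
  let eK : K ≃+* (algebraMap K B).range := RingEquiv.ofBijective (algebraMap K B).rangeRestrict
    ⟨fun x y h => (algebraMap K B).injective (congrArg Subtype.val h), (algebraMap K B).rangeRestrict_surjective⟩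
  let ψ : B →+* K := eK.symm.toRingHom.comp r
  have hψ : ψ.comp (algebraMap K B) = iterateFrobenius K p N := RingHom.ext fun k => by
    apply eK.injective
    show eK (eK.symm (r (algebraMap K B k))) = _
    rw [RingEquiv.apply_symm_apply]
    apply Subtype.ext
    show iterateFrobenius B p N (algebraMap K B k) = algebraMap K B (iterateFrobenius K p N k)
    simp [iterateFrobenius_def]
  refine ⟨Spec.map (CommRingCat.ofHom ψ) ≫ eB.hom, ?_⟩
  rw [Category.assoc, heB, ← Spec.map_comp, ← CommRingCat.ofHom_comp, hψ]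

end Groth.Agent.S18318
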