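import Groth.Statements.S19144
-- import your own Groth.Agent.* helpers here
import Groth.Agent.Lib.HomScheme.Const
import Groth.Agent.Lib.AlgSp.FppfDescent
import Mathlib

set_option autoImplicit false
open CategoryTheory MonoidalCategory CartesianMonoidalCategory MonObj GrpObj AlgebraicGeometry
universe u
open TwC

namespace Groth.Agent.S19144

/-- A quasi-isotrivial twisted constant S-scheme X (etale-locally on S isomorphic to a constant scheme)
is separated and etale over S, and its structure morphism satisfies the valuative criterion of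
properness (every valuative square has exactly one lift; X ⟶ S need not be quasi-compact). -/
theorem result {S : Scheme.{u}} (X : Over S)
    (hX : TwC.IsTwConst TwC.Topology.etale X) :
    IsSeparated X.hom ∧ Etale X.hom ∧ ValuativeCriterion X.hom := by
  open CategoryTheory.Limits in
  choose V f hf hs I e using hX
  have hiso : ∀ s, pullback.snd X.hom (f s) = (e s).some.hom.left ≫ (TwC.const (V s) (I s)).hom := fun s =>
    (Over.w (e s).some.hom).symm
  have hsep : ∀ s, IsSeparated (pullback.snd X.hom (f s)) := fun s => by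
    rw [hiso s]
    exact (MorphismProperty.cancel_left_of_respectsIso @IsSeparated _ _).mpr (GrothLib.HomScheme.isSeparated_const _ _)
  have het : ∀ s, Etale (pullback.snd X.hom (f s)) := fun s => by
    rw [hiso s]
    exact (MorphismProperty.cancel_left_of_respectsIso @Etale _ _).mpr (GrothLib.HomScheme.etale_const _ _)
  let c : (∐ V) ⟶ S := Limits.Sigma.desc f
  haveI hcet : Etale c := by
    rw [IsZariskiLocalAtSource.iff_of_openCover (P := @Etale) (sigmaOpenCover V)]
    intro s
    rw [show (sigmaOpenCover V).f s ≫ c = f s from Sigma.ι_desc _ _]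
    exact hf s
  haveI : Surjective c := ⟨fun s => by
    obtain ⟨v, hv⟩ := hs s
    exact ⟨Sigma.ι V s v, by rw [← Scheme.Hom.comp_apply, Sigma.ι_desc]; exact hv⟩⟩
  have hloc : ∀ (P : MorphismProperty Scheme.{u}) [IsZariskiLocalAtTarget P],
      (∀ s, P (pullback.snd X.hom (f s))) → P (pullback.snd X.hom c) := by
    intro P _ hP
    refine IsZariskiLocalAtTarget.of_openCover (P := P) (sigmaOpenCover V) fun s => ?_
    have h1 : pullback.snd (pullback.snd X.hom c) ((sigmaOpenCover V).f s) =
        (pullbackLeftPullbackSndIso X.hom c ((sigmaOpenCover V).f s)).hom ≫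
          pullback.snd X.hom ((sigmaOpenCover V).f s ≫ c) := (pullbackLeftPullbackSndIso_hom_snd _ _ _).symm
    change P (pullback.snd (pullback.snd X.hom c) ((sigmaOpenCover V).f s))
    rw [h1, P.cancel_left_of_respectsIso]
    have hcong : ∀ g g' : V s ⟶ S, g = g' → P (pullback.snd X.hom g) → P (pullback.snd X.hom g') := by
      rintro _ _ rfl h; exact h
    exact hcong _ _ (Sigma.ι_desc f s).symm (hP s)
  haveI hS1 : IsSeparated X.hom := GrothLib.AlgSp.fppfDescends_isSeparated X.hom c (pullback.fst X.hom c)
    (pullback.snd X.hom c) (IsPullback.of_hasPullback X.hom c) inferInstance inferInstance inferInstance (hloc @IsSeparated hsep)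
  haveI hE1 : Etale X.hom := GrothLib.AlgSp.fppfDescends_etale X.hom c (pullback.fst X.hom c)
    (pullback.snd X.hom c) (IsPullback.of_hasPullback X.hom c) inferInstance inferInstance inferInstance (hloc @Etale het)
  refine ⟨hS1, hE1, ValuativeCriterion.iff.mpr ⟨?_, IsSeparated.valuativeCriterion X.hom⟩⟩
  have hex : ∀ s, ValuativeCriterion.Existence (pullback.snd X.hom (f s)) := by
    intro s
    rw [hiso s, ValuativeCriterion.Existence.eq,
      MorphismProperty.cancel_left_of_respectsIso (topologically @SpecializingMap).universally,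
      ← ValuativeCriterion.Existence.eq]
    intro sq
    obtain ⟨i, z, hz⟩ := (sigmaOpenCover (fun _ : I s => V s)).exists_eq (sq.i₁ (IsLocalRing.closedPoint sq.K))
    let inc : V s ⟶ (TwC.const (V s) (I s)).left := Sigma.ι (fun _ : I s => V s) i
    have hι : inc ≫ (TwC.const (V s) (I s)).hom = 𝟙 _ := Sigma.ι_desc _ _
    haveI : IsOpenImmersion inc := inferInstanceAs (IsOpenImmersion ((sigmaOpenCover (fun _ : I s => V s)).f i))
    let l := IsOpenImmersion.lift inc sq.i₁ (by
      rintro _ ⟨o, rfl⟩
      exact ⟨z, hz.trans (congrArg _ (Subsingleton.elim (α := PrimeSpectrum sq.K) _ _))⟩)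
    have hl : l ≫ inc = sq.i₁ := IsOpenImmersion.lift_fac _ _ _
    refine ⟨⟨⟨sq.i₂ ≫ inc, ?_, by rw [Category.assoc, hι, Category.comp_id]⟩⟩⟩
    rw [← Category.assoc, ← sq.commSq.w, ← hl]
    simp only [Category.assoc, reassoc_of% hι]
  rw [ValuativeCriterion.Existence.eq]
  intro X' T i₁ i₂ f' hpb x' t h
  obtain ⟨v, hv⟩ := hs (i₂ t)
  haveI := hf (i₂ t)
  let π := pullback.fst i₂ (f (i₂ t))
  obtain ⟨t₀, ht₀, -⟩ := Scheme.Pullback.exists_preimage_pullback (f := i₂) (g := f (i₂ t)) t v hv.symm
  obtain ⟨t₁, ht₁, ht₁'⟩ := (Flat.generalizingMap π) (show f' x' ⤳ π t₀ from ht₀.symm ▸ h)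
  obtain ⟨x₁, hx₁, hx₁'⟩ := Scheme.Pullback.exists_preimage_pullback (f := f') (g := π) x' t₁ ht₁'.symm
  have hbig : IsPullback (pullback.fst f' π ≫ i₁) (pullback.snd f' π) X.hom (π ≫ i₂) :=
    (IsPullback.of_hasPullback f' π).paste_horiz hpb.flip
  have hsm : SpecializingMap (pullback.snd f' π) := by
    have hP : (topologically @SpecializingMap).universally (pullback.snd X.hom (f (i₂ t))) := by
      rw [← ValuativeCriterion.Existence.eq]; exact hex _
    let m : pullback f' π ⟶ pullback X.hom (f (i₂ t)) := pullback.lift (pullback.fst f' π ≫ i₁)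
      (pullback.snd f' π ≫ pullback.snd i₂ (f (i₂ t))) (by rw [hbig.w, Category.assoc, pullback.condition])
    refine hP m (pullback.snd i₂ (f (i₂ t))) (pullback.snd f' π) (IsPullback.flip ?_)
    refine IsPullback.of_right ?_ (pullback.lift_snd _ _ _) (IsPullback.of_hasPullback X.hom (f (i₂ t)))
    rw [pullback.lift_fst, ← pullback.condition]
    exact hbig
  obtain ⟨x₂, hx₂, hx₂'⟩ := hsm (show pullback.snd f' π x₁ ⤳ t₀ from hx₁'.symm ▸ ht₁)
  exact ⟨pullback.fst f' π x₂, hx₁ ▸ hx₂.map (pullback.fst f' π).continuous, by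
    rw [← Scheme.Hom.comp_apply, pullback.condition, Scheme.Hom.comp_apply, hx₂', ht₀]⟩

end Groth.Agent.S19144
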