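import Groth.Statements.S15305
import Groth.Agent.Lib.TowerDiag0.Sheaf
import Groth.Agent.Lib.QCoh.Coherent
import Groth.Agent.Lib.ModDesc.Basic
import Mathlib.CategoryTheory.Limits.Constructions.EventuallyConstant
-- import your own Groth.Agent.* helpers here

set_option autoImplicit false
universe u
open Coh

namespace Groth.Agent.S15305

open CategoryTheory CategoryTheory.Limits AlgebraicGeometry Opposite
open GrothLib

noncomputable section

variable {X : Scheme.{u}} (F : ℕᵒᵖ ⥤ X.Modules) {G : X.Modules} (φ : G ⟶ limit F)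

/-- The tower of images of `G`. -/
def coimTower : ℕᵒᵖ ⥤ X.Modules where
  obj n := cokernel (kernel.ι (φ ≫ limit.π F n))
  map {m n} h := cokernel.desc _ (cokernel.π (kernel.ι (φ ≫ limit.π F n))) (by
    have e : kernel.ι (φ ≫ limit.π F m) ≫ (φ ≫ limit.π F n) = 0 := by
      rw [← limit.w F h, ← Category.assoc φ, ← Category.assoc, kernel.condition, zero_comp]
    rw [← kernel.lift_ι (φ ≫ limit.π F n) _ e, Category.assoc, cokernel.condition, comp_zero])
  map_id m := coequalizer.hom_ext (by simp)
  map_comp f g := coequalizer.hom_ext (by simp)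

def coimCone : Cone (coimTower F φ) where
  pt := G
  π :=
    { app := fun n => cokernel.π (kernel.ι (φ ≫ limit.π F n))
      naturality := fun m n h => by simp [coimTower] }

def coimHom : coimTower F φ ⟶ F where
  app n := cokernel.desc _ (φ ≫ limit.π F n) (kernel.condition _)
  naturality m n h := coequalizer.hom_ext (by simp [coimTower])

theorem lift_comp : limit.lift (coimTower F φ) (coimCone F φ) ≫ limMap (coimHom F φ) = φ :=
  limit.hom_ext fun n => by
    rw [Category.assoc, limMap_π, limit.lift_π_assoc]
    exact cokernel.π_desc _ _ _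

instance (n : ℕᵒᵖ) : Mono ((coimHom F φ).app n) :=
  inferInstanceAs (Mono (Abelian.factorThruCoimage (φ ≫ limit.π F n)))

theorem mono_limMap_coim : Mono (limMap (coimHom F φ)) :=
  ⟨fun a b e => limit.hom_ext fun n => (cancel_mono ((coimHom F φ).app n)).1 (by
    simp only [Category.assoc, ← limMap_π, reassoc_of% e])⟩

theorem isIso_limMap_coim [Epi φ] : IsIso (limMap (coimHom F φ)) := by
  haveI := mono_limMap_coim F φ
  haveI : Epi (limit.lift (coimTower F φ) (coimCone F φ) ≫ limMap (coimHom F φ)) := by
    rw [lift_comp]; exact ‹Epi φ›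
  haveI := epi_of_epi (limit.lift (coimTower F φ) (coimCone F φ)) (limMap (coimHom F φ))
  exact isIso_of_mono_of_epi _

theorem epi_lift_coim [Epi φ] : Epi (limit.lift (coimTower F φ) (coimCone F φ)) := by
  haveI := isIso_limMap_coim F φ
  have e : limit.lift (coimTower F φ) (coimCone F φ) = φ ≫ inv (limMap (coimHom F φ)) :=
    (IsIso.eq_comp_inv _).2 (lift_comp F φ)
  rw [e]; exact @epi_comp _ _ _ _ _ φ ‹Epi φ› _ inferInstance

theorem isQuasicoherent_limit_of_epi (k : Type u) [Field k] [X.Over (Spec (CommRingCat.of k))]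
    [LocallyOfFiniteType (X ↘ Spec (CommRingCat.of k))] [CompactSpace X]
    (hF : ∀ n, (F.obj (op n)).IsQuasicoherent) (hG : G.IsQuasicoherent)
    (hGc : ∀ U : X.affineOpens, ∃ s : Set Γ(G, (U : X.Opens)), s.Countable ∧
      Submodule.span Γ(X, (U : X.Opens)) s = ⊤) [Epi φ] : (limit F).IsQuasicoherent := by
  have hQ : ∀ n : ℕ, ((coimTower F φ).obj (op n)).IsQuasicoherent := fun n => by
    haveI := hF n
    haveI := hG
    haveI := QCoh.isQuasicoherent_kernel (φ ≫ limit.π F (op n))
    exact QCoh.isQuasicoherent_cokernel _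
  obtain ⟨N, hN⟩ := GrothLib.TowerDiag0.exists_isIso (coimTower F φ) (coimCone F φ) k hQ hG hGc
    (fun n => inferInstanceAs (Epi (cokernel.π _))) (epi_lift_coim F φ)
  have hc : (coimTower F φ).IsEventuallyConstantTo (op N) := by
    rintro ⟨m⟩ f
    obtain ⟨d, rfl⟩ := Nat.exists_eq_add_of_le (leOfHom f.unop)
    induction d with
    | zero =>
      have : f = 𝟙 _ := Subsingleton.elim _ _
      rw [this, CategoryTheory.Functor.map_id]; infer_instance
    | succ d ih =>
      have : f = (homOfLE (Nat.le_succ (N + d))).op ≫ (homOfLE (Nat.le_add_right N d)).op :=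
        Subsingleton.elim _ _
      rw [this, Functor.map_comp]
      haveI := hN (N + d) (Nat.le_add_right N d)
      haveI := ih (homOfLE (Nat.le_add_right N d)).op
      exact IsIso.comp_isIso
  haveI := hc.isIso_π_of_isLimit (limit.isLimit (coimTower F φ))
  haveI := isIso_limMap_coim F φ
  haveI := hQ N
  exact QCoh.isQuasicoherent_of_iso (M := (coimTower F φ).obj (op N))
    ((asIso ((limit.cone (coimTower F φ)).π.app (op N))).symm ≪≫ asIso (limMap (coimHom F φ)))

end


/-- Let X be a finite-type scheme over a field k, and let (F_n) be a tower of quasi-coherent O_X-modules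
whose limit lim F_n receives an epimorphism from a countably quasi-coherent module G
(quasi-coherent, with countably generated sections over every affine open), resp. from a coherent G.
Then lim F_n is itself countably quasi-coherent, resp. coherent. -/
theorem result (k : Type u) [Field k] (X : Scheme.{u})
    [X.Over (Spec (CommRingCat.of k))] [LocallyOfFiniteType (X ↘ Spec (CommRingCat.of k))] [CompactSpace X]
    (F : ℕᵒᵖ ⥤ X.Modules) (hF : ∀ n : ℕ, Coh.IsQCoh (F.obj (op n)))
    (G : X.Modules) (hG : Coh.IsQCoh G)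
    (hGc : (∀ U : X.affineOpens, ∃ s : Set (G.val.obj (op (U : X.Opens))),
        s.Countable ∧ Submodule.span (X.ringCatSheaf.obj.obj (op (U : X.Opens))) s = ⊤))
    (φ : G ⟶ limit F) [Epi φ] :
    Coh.IsQCoh (limit F) ∧
      (∀ U : X.affineOpens, ∃ s : Set ((limit F).val.obj (op (U : X.Opens))),
        s.Countable ∧ Submodule.span (X.ringCatSheaf.obj.obj (op (U : X.Opens))) s = ⊤) ∧
      (Coh.IsCoh G → Coh.IsCoh (limit F)) := by
  haveI : G.IsQuasicoherent := hG
  have hL : (limit F).IsQuasicoherent := isQuasicoherent_limit_of_epi F φ k hF hG hGc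
  have hsur : ∀ U : X.affineOpens, Function.Surjective (φ.app (U : X.Opens)) := fun U =>
    ModDesc.app_surjective_of_epi φ U.2
  refine ⟨hL, fun U => ?_, fun hC => ⟨hL, ?_⟩⟩
  · obtain ⟨s, hs, hspan⟩ := hGc U
    refine ⟨QCoh.appLinear φ (U : X.Opens) '' s, hs.image _, ?_⟩
    refine Submodule.eq_top_iff'.2 fun y => ?_
    obtain ⟨x, rfl⟩ := hsur U y
    have hx : x ∈ Submodule.span _ s := hspan ▸ Submodule.mem_top
    induction hx using Submodule.span_induction with
    | mem x hx => exact Submodule.subset_span ⟨x, hx, rfl⟩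
    | zero => rw [map_zero]; exact Submodule.zero_mem _
    | add a b _ _ ha hb => rw [map_add]; exact Submodule.add_mem _ ha hb
    | smul r a _ ha =>
      erw [Scheme.Modules.Hom.app_smul φ r a]
      exact Submodule.smul_mem _ r ha
  · haveI : IsLocallyNoetherian X := LocallyOfFiniteType.isLocallyNoetherian (X ↘ Spec (CommRingCat.of k))
    refine (QCoh.isFiniteType_iff_moduleFinite (limit F)).2 fun U hU => ?_
    haveI := QCoh.moduleFinite_of_isFiniteType G hC.2 hU
    exact Module.Finite.of_surjective (QCoh.appLinear φ U) (hsur ⟨U, hU⟩)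

end Groth.Agent.S15305
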