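import Groth.Statements.S8974
-- import your own Groth.Agent.* helpers here

set_option autoImplicit false
universe u
open Synt

namespace Groth.Agent.S8974

/-- Let R be a ring, n, d ≥ 1 and g_1, …, g_n ∈ R[y_1, …, y_n] of total degree at most d. Then there is
a ring map φ : A = ℤ[a_{i,E}] → R (E running over exponent vectors with |E| ≤ d) such that applying
φ to the coefficients of the universal polynomial f_i = Σ_E a_{i,E} x^E gives g_i for each i. (The
published statement is for a locally quasi-finite syntomic morphism of schemes and asserts, locally,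
a cartesian square with the universal family; this row is its affine core: the coefficient map.) -/
theorem result (R : Type u) [CommRing R] (n d : ℕ) (hn : 1 ≤ n) (hd : 1 ≤ d) (g : Fin n → MvPolynomial (Fin n) R) (hg : ∀ i, (g i).totalDegree ≤ d) : ∃ φ : Synt.UnivBase n d →+* R, ∀ i, MvPolynomial.map φ (Synt.univPoly n d i) = g i := by
  classical
  refine ⟨MvPolynomial.eval₂Hom (Int.castRingHom R) fun p => MvPolynomial.coeff p.2.exponent (g p.1), fun i => ?_⟩
  rw [Synt.univPoly, map_sum]
  simp only [MvPolynomial.map_monomial, MvPolynomial.eval₂Hom_X']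
  refine MvPolynomial.ext _ _ fun m => ?_
  rw [MvPolynomial.coeff_sum]
  simp only [MvPolynomial.coeff_monomial]
  have hexp : ∀ (E : Synt.UnivIdx n d) (j : Fin n), E.exponent j = (E.1 j : ℕ) := fun E j => rfl
  by_cases hm : ∑ j, m j ≤ d
  · have hb : ∀ j, m j < d + 1 := fun j => Nat.lt_succ_of_le
      ((Finset.single_le_sum (f := fun j => m j) (fun _ _ => Nat.zero_le _) (Finset.mem_univ j)).trans hm)
    let E₀ : Synt.UnivIdx n d := ⟨fun j => ⟨m j, hb j⟩, hm⟩
    have hE₀ : E₀.exponent = m := Finsupp.ext fun j => hexp E₀ j
    rw [Finset.sum_eq_single E₀]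
    · rw [if_pos hE₀, hE₀]
    · intro E _ hne
      refine if_neg fun h => hne (Subtype.ext (funext fun j => Fin.ext ?_))
      show (E.1 j : ℕ) = m j
      rw [← hexp, h]
    · simp
  · have h0 : MvPolynomial.coeff m (g i) = 0 := by
      refine MvPolynomial.coeff_eq_zero_of_totalDegree_lt ?_
      refine lt_of_le_of_lt (hg i) (lt_of_lt_of_le (not_le.mp hm) (le_of_eq ?_))
      refine (Finset.sum_subset (Finset.subset_univ _) fun j _ hj => ?_).symm
      exact Finsupp.notMem_support_iff.mp hj
    rw [h0]
    refine Finset.sum_eq_zero fun E _ => if_neg fun h => hm ?_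
    subst h
    simpa only [hexp] using E.2

end Groth.Agent.S8974
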