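import Groth.Statements.S1124
import Groth.Agent.Lib.QuasiFlat.Immersion

set_option autoImplicit false
open CategoryTheory CategoryTheory.Limits AlgebraicGeometry Opposite
universe u
open Desc

namespace Groth.Agent.S1124

/-- If the base change of a morphism of schemes along a quasi-compact, flat, surjective morphism is a
quasi-compact immersion, then the morphism itself is a quasi-compact immersion. (Stated for a single
quasi-compact flat surjective base change; together with Zariski-locality on the target this is fpqc
descent for quasi-compact immersions.) -/
theorem result :
    MorphismProperty.DescendsAlong (@IsImmersion ⊓ @QuasiCompact : MorphismProperty Scheme.{u})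
      (@Surjective ⊓ @Flat ⊓ @QuasiCompact : MorphismProperty Scheme.{u}) := by
  exact GrothLib.QuasiFlat.descendsAlong_qc_immersion

end Groth.Agent.S1124
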