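import Groth.Statements.S8976
import Groth.Agent.Lib.FppfPh.Main
import Groth.Agent.Lib.SubtrLim.Criterion
import Groth.Agent.Lib.SubtrLim.Cover
import Groth.Agent.Lib.HTop.Ph
import Groth.Agent.S14779
import Groth.Agent.S14769
-- import your own Groth.Agent.* helpers here

set_option autoImplicit false
set_option linter.all false
set_option backward.isDefEq.respectTransparency false
universe w u
open HTop

namespace Groth.Agent.S8976

open CategoryTheory CategoryTheory.Limits AlgebraicGeometry in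
/-- For a family of morphisms of schemes with fixed target all of whose members are locally of finite
presentation, being a ph covering is equivalent to being a V covering. -/
theorem result {X : Scheme.{u}} (E : PreZeroHypercover.{w} X) (hE : ∀ i, LocallyOfFinitePresentation (E.f i)) : HTop.IsPhCover E ↔ HTop.IsVCover E := by
  constructor
  · rintro ⟨-, h⟩ U
    obtain ⟨F, hF, hr⟩ := h U
    exact ⟨F, GrothLib.HTop.isStandardV_of_isStandardPh F hF, hr⟩
  intro hV
  refine ⟨fun i => by haveI := hE i; infer_instance, fun U => ?_⟩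
  obtain ⟨F, hF, hr⟩ := hV U
  haveI : IsAffine _ := U.2
  haveI := hF.finite_index
  choose i h hh using hr
  let Pre : ∀ j, (E.X (i j)).Opens := fun j => E.f (i j) ⁻¹ᵁ (U : X.Opens)
  have hsub : ∀ j, Set.range (h j) ⊆ (Pre j : Set (E.X (i j))) := by
    rintro j _ ⟨z, rfl⟩
    show (h j ≫ E.f (i j)) z ∈ (U : X.Opens)
    rw [hh]
    exact (F.f j z).2
  haveI : ∀ j, CompactSpace (F.X j) := fun j => by haveI := hF.isAffine_obj j; infer_instance
  have hcov : ∀ j, ∃ (S : Set (E.X (i j)).Opens), S.Finite ∧ (∀ W ∈ S, IsAffineOpen W ∧ W ≤ Pre j) ∧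
      Set.range (h j) ⊆ ⋃ W ∈ S, (W : Set (E.X (i j))) := by
    intro j
    obtain ⟨t, ht⟩ := (isCompact_range (h j).continuous).elim_finite_subcover
      (fun W : {W : (E.X (i j)).Opens // IsAffineOpen W ∧ W ≤ Pre j} => (W.1 : Set (E.X (i j))))
      (fun W => W.1.2) fun z hz => by
        obtain ⟨W, hW, hzW, hWP⟩ := exists_isAffineOpen_mem_and_subset (U := Pre j) (hsub j hz)
        exact Set.mem_iUnion.2 ⟨⟨W, hW, hWP⟩, hzW⟩
    refine ⟨_, t.finite_toSet.image Subtype.val, ?_, fun z hz => ?_⟩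
    · rintro _ ⟨W, -, rfl⟩; exact W.2
    · obtain ⟨W, hW, hzW⟩ := Set.mem_iUnion₂.1 (ht hz)
      exact Set.mem_iUnion₂.2 ⟨W.1, ⟨W, hW, rfl⟩, hzW⟩
  choose S hSf hSW hSc using hcov
  haveI := fun j => (hSf j).to_subtype
  let K := Σ j, S j
  let Y : K → Scheme.{u} := fun k => ((k.2 : (E.X (i k.1)).Opens) : Scheme.{u})
  haveI : ∀ k, IsAffine (Y k) := fun k => (hSW k.1 _ k.2.2).1
  let g : ∀ k, Y k ⟶ ((U : X.Opens) : Scheme.{u}) := fun k =>
    (E.f (i k.1)).resLE (U : X.Opens) k.2.1 (hSW k.1 _ k.2.2).2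
  let f' : ∐ Y ⟶ ((U : X.Opens) : Scheme.{u}) := Sigma.desc g
  haveI : LocallyOfFinitePresentation f' := by
    refine IsZariskiLocalAtSource.sigmaDesc (P := @LocallyOfFinitePresentation) fun k => ?_
    haveI := hE (i k.1)
    haveI : LocallyOfFinitePresentation (g k ≫ (U : X.Opens).ι) := by
      show LocallyOfFinitePresentation ((E.f (i k.1)).resLE (U : X.Opens) k.2.1 _ ≫ _)
      rw [Scheme.Hom.resLE_comp_ι]; infer_instance
    exact MorphismProperty.of_postcomp (W := @LocallyOfFinitePresentation) (W' := @IsOpenImmersion)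
      (g k) (U : X.Opens).ι inferInstance ‹_›
  have hsub' : Subtr.UnivSSubtrusive f' := by
    rw [Groth.Agent.S14769.result]
    intro V _ _ _ a
    obtain ⟨W, i1, i2, φ, hφ, j, l, hl⟩ := hF.lift (CommRingCat.of V) a
    let m : Spec W ⟶ E.X (i j) := l ≫ h j
    obtain ⟨O, hO, hmO⟩ := Set.mem_iUnion₂.1 (hSc j ⟨l (GrothLib.HTop.closed W), (Scheme.Hom.comp_apply l (h j) _).symm⟩)
    obtain ⟨m', hm'⟩ := GrothLib.HTop.exists_lift_of_closed_mem m O.ι (by rw [Scheme.Opens.range_ι]; exact hmO)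
    haveI := hφ.2
    refine ⟨W, inferInstance, i1, i2, m' ≫ Sigma.ι Y ⟨j, O, hO⟩, Spec.map φ,
      GrothLib.SubtrLim.surjective_of_gen_closed _ (GrothLib.HTop.specMap_gen hφ.1) (GrothLib.HTop.specMap_closed φ), ?_⟩
    rw [Category.assoc, Sigma.ι_desc, ← cancel_mono (U : X.Opens).ι]
    show (m' ≫ (E.f (i j)).resLE (U : X.Opens) O _) ≫ _ = _
    rw [Category.assoc, Scheme.Hom.resLE_comp_ι, reassoc_of% hm', show m = l ≫ h j from rfl, Category.assoc, hh,
      ← Category.assoc, hl]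
  haveI : QuasiCompact f' := inferInstance
  haveI : QuasiSeparated f' := inferInstance
  obtain ⟨X', Y', a, p, q, hapq, hp1, hp2, hp3, -, -, hq1, hq2, hq3⟩ :=
    Groth.Agent.S14779.result f' (Or.inl inferInstance) hsub'
  have hqph := GrothLib.HTop.isPhCover_singleton.{0} q
  have hpph : HTop.IsPhCover (PreZeroHypercover.singleton.{0} p) :=
    GrothLib.FppfPh.isPhCover_of_fppf _ (fun _ => hp1) (fun _ => hp3)
      fun t => ⟨PUnit.unit, hp2.surj t⟩
  have hph := GrothLib.HTop.isPhCover_bind _ hqph (fun _ => PreZeroHypercover.singleton.{0} p) (fun _ => hpph)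
  obtain ⟨G, hG, hGr⟩ := GrothLib.HTop.phGood_of_isPhCover hph (𝟙 ((U : X.Opens) : Scheme.{u}))
  let k : ∀ k, Y k ⟶ E.X (i k.1) := fun k => (k.2 : (E.X (i k.1)).Opens).ι
  -- refine by the affine pieces
  obtain ⟨G', hG', hG'r⟩ : ∃ G' : PreZeroHypercover.{0} ((U : X.Opens) : Scheme.{u}), HTop.IsStandardPh G' ∧
      ∀ m, ∃ (n : K) (u : G'.X m ⟶ Y n), u ≫ g n = G'.f m := by
    let E' : PreZeroHypercover.{u} ((U : X.Opens) : Scheme.{u}) := ⟨K, Y, g⟩
    have hgood : GrothLib.HTop.PhGood E' (𝟙 _) := by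
      refine GrothLib.HTop.PhGood.of_standardPh _ G hG fun j => ?_
      obtain ⟨ij, u, hu⟩ := hGr j
      haveI := hG.isAffine_obj j
      let v : G.X j ⟶ ∐ Y := u ≫ a
      have hv : v ≫ f' = G.f j := by
        rw [Category.assoc, hapq]
        exact hu.trans (Category.comp_id _)
      rw [Category.comp_id]
      refine GrothLib.HTop.PhGood.of_locally _ fun z => ?_
      obtain ⟨n, y, hy⟩ := GrothLib.Constr.exists_sigma_eq Y (v z)
      obtain ⟨O, hO, hzO, hOle⟩ := exists_isAffineOpen_mem_and_subset (x := z)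
        (U := v ⁻¹ᵁ (Sigma.ι Y n).opensRange) ⟨y, hy⟩
      refine ⟨O, hzO, hO, ?_⟩
      haveI : IsAffine (O : Scheme.{u}) := hO
      have hl : Set.range (O.ι ≫ v) ⊆ Set.range (Sigma.ι Y n) := by
        rintro _ ⟨z', rfl⟩
        rw [Scheme.Hom.comp_apply]
        exact hOle z'.2
      let l : (O : Scheme.{u}) ⟶ Y n := IsOpenImmersion.lift (Sigma.ι Y n) (O.ι ≫ v) hl
      obtain ⟨T, hT, hTr⟩ := GrothLib.HTop.phGood_of_isPhCover
        (GrothLib.HTop.isPhCover_singleton.{0} (𝟙 (O : Scheme.{u}))) (𝟙 _)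
      refine ⟨T, hT, fun t => ?_⟩
      obtain ⟨i0, w, hw⟩ := hTr t
      refine ⟨n, w ≫ l, ?_⟩
      have e : l ≫ g n = O.ι ≫ G.f j := by
        rw [← hv, ← Category.assoc, ← IsOpenImmersion.lift_fac (Sigma.ι Y n) (O.ι ≫ v) hl, Category.assoc]
        exact congrArg (l ≫ ·) (Sigma.ι_desc g n).symm
      have hw' : w = T.f t := by
        have := hw.trans (Category.comp_id _)
        exact (Category.comp_id w).symm.trans this
      show (w ≫ l) ≫ g n = T.f t ≫ O.ι ≫ G.f j
      rw [Category.assoc, e, hw']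
    obtain ⟨G', hG', hr'⟩ := hgood
    exact ⟨G', hG', fun m => by obtain ⟨n, u, hu⟩ := hr' m; exact ⟨n, u, hu.trans (Category.comp_id _)⟩⟩
  refine ⟨G', hG', fun m => ?_⟩
  obtain ⟨n, u, hu⟩ := hG'r m
  refine ⟨i n.1, u ≫ k n, ?_⟩
  rw [← hu, Category.assoc, Category.assoc]
  exact congrArg (u ≫ ·) (Scheme.Hom.resLE_comp_ι (E.f (i n.1)) (hSW n.1 _ n.2.2).2).symm

end Groth.Agent.S8976
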