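import Groth.Statements.S7292
import Groth.Agent.Lib.HTop.VSheaf
import Groth.Agent.S7291
import Groth.Agent.S8976
import Groth.Agent.S9183
import Mathlib.Tactic.TFAE
-- import your own Groth.Agent.* helpers here

set_option autoImplicit false
set_option linter.all false
set_option backward.isDefEq.respectTransparency false
open CategoryTheory CategoryTheory.Limits AlgebraicGeometry Opposite
universe w u
open HTop

namespace Groth.Agent.S7292

/-- Let f be a morphism of affine schemes from X to Y. The following are equivalent: (1) the one-member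
family given by f is a standard V covering; (2) X (with f) is the limit, as a scheme over Y, of a
cofiltered system of affine schemes X_i over Y such that each one-member family X_i over Y is a ph
covering; (3) the same with each X_i over Y an h covering. -/
theorem result {X Y : Scheme.{u}} [IsAffine X] [IsAffine Y] (f : X ⟶ Y) :
    List.TFAE
      [HTop.IsStandardV (PreZeroHypercover.singleton.{w} f),
       ∃ (I : Type u) (_ : SmallCategory I) (_ : IsCofiltered I) (D : I ⥤ Over Y) (c : Cone D)
          (_ : IsLimit ((Over.forget Y).mapCone c)) (_ : c.pt ≅ Over.mk f),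
          (∀ i, IsAffine (D.obj i).left) ∧ ∀ i, HTop.IsPhCover (PreZeroHypercover.singleton.{w} (D.obj i).hom),
       ∃ (I : Type u) (_ : SmallCategory I) (_ : IsCofiltered I) (D : I ⥤ Over Y) (c : Cone D)
          (_ : IsLimit ((Over.forget Y).mapCone c)) (_ : c.pt ≅ Over.mk f),
          (∀ i, IsAffine (D.obj i).left) ∧ ∀ i, HTop.IsHCover (PreZeroHypercover.singleton.{w} (D.obj i).hom)] := by
  tfae_have 1 → 3 := fun h => by
    let φ : Γ(Y, ⊤) ⟶ Γ(X, ⊤) := f.appTop
    letI := φ.hom.toAlgebra
    obtain ⟨J, _, _, D, c, hc, hfp, ⟨e⟩⟩ := Groth.Agent.S9183.result Γ(Y, ⊤) Γ(X, ⊤)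
    let D' : Jᵒᵖ ⥤ Over Y :=
      { obj := fun i => Over.mk (Spec.map (D.obj i.unop).hom ≫ Y.isoSpec.inv)
        map := fun {i j} a => Over.homMk (Spec.map (D.map a.unop).right) (by
          show Spec.map (D.map a.unop).right ≫ Spec.map (D.obj j.unop).hom ≫ _ = Spec.map (D.obj i.unop).hom ≫ _
          rw [← Category.assoc, ← Spec.map_comp, Under.w])
        map_id := fun i => by ext1; simp
        map_comp := fun a b => by ext1; simp }
    let c' : Cone D' :=
      { pt := Over.mk (Spec.map c.pt.hom ≫ Y.isoSpec.inv)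
        π :=
          { app := fun i => Over.homMk (Spec.map (c.ι.app i.unop).right) (by
              show Spec.map (c.ι.app i.unop).right ≫ Spec.map (D.obj i.unop).hom ≫ _ = _
              rw [← Category.assoc, ← Spec.map_comp, Under.w]
              rfl)
            naturality := fun i j a => by
              ext1
              show 𝟙 _ ≫ Spec.map (c.ι.app j.unop).right = Spec.map (c.ι.app i.unop).right ≫ Spec.map (D.map a.unop).right
              rw [Category.id_comp, ← Spec.map_comp, ← Under.comp_right, c.w] } }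
    have hc' : IsLimit ((Over.forget Y).mapCone c') :=
      isLimitOfPreserves Scheme.Spec (isColimitOfPreserves (Under.forget _) hc).op
    let er : (c.pt).right ≅ Γ(X, ⊤) := (Under.forget _).mapIso e
    let e' : c'.pt ≅ Over.mk f := Over.isoMk (Scheme.Spec.mapIso er.op.symm ≪≫ X.isoSpec.symm) (by
      show (Spec.map er.inv ≫ X.isoSpec.inv) ≫ f = Spec.map c.pt.hom ≫ Y.isoSpec.inv
      rw [Category.assoc, ← Scheme.isoSpec_inv_naturality, ← Category.assoc, ← Spec.map_comp]
      congr 2
      exact Under.w e.inv)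
    haveI : ∀ i, IsAffine (D'.obj i).left := fun i => inferInstanceAs (IsAffine (Spec _))
    have hV : HTop.IsStandardV (PreZeroHypercover.singleton.{w} c'.pt.hom) := by
      refine ⟨inferInstance, inferInstanceAs (Finite PUnit), fun _ => inferInstanceAs (IsAffine (Spec _)), ?_⟩
      intro V _ _ g
      obtain ⟨W, i1, i2, ψ, hψ, j, l, hl⟩ := h.lift V g
      let l' : Spec W ⟶ X := l
      have hl' : l' ≫ f = Spec.map ψ ≫ g := hl
      refine ⟨W, i1, i2, ψ, hψ, PUnit.unit, l' ≫ e'.inv.left, ?_⟩
      show (l' ≫ e'.inv.left) ≫ c'.pt.hom = _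
      rw [Category.assoc, Over.w]
      exact hl'
    refine ⟨Jᵒᵖ, inferInstance, inferInstance, D', c', hc', e', inferInstance, fun i => ?_⟩
    have hS := (Groth.Agent.S7291.result.{w} D' c' hc').1 hV i
    refine ⟨fun _ => ?_, GrothLib.HTop.isVCover_of_isStandardV hS⟩
    show LocallyOfFinitePresentation (Spec.map (D.obj i.unop).hom ≫ Y.isoSpec.inv)
    haveI := (HasRingHomProperty.Spec_iff (P := @LocallyOfFinitePresentation)).2 (hfp i.unop)
    infer_instance
  tfae_have 3 → 2 := fun ⟨J, i1, i2, D, c, hc, e, hA, hH⟩ =>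
    ⟨J, i1, i2, D, c, hc, e, hA, fun i => (Groth.Agent.S8976.result _ (hH i).1).2 (hH i).2⟩
  tfae_have 2 → 1 := fun ⟨J, i1, i2, D, c, hc, e, hA, hH⟩ => by
    haveI := hA
    have hS : ∀ i, HTop.IsStandardV (PreZeroHypercover.singleton.{w} (D.obj i).hom) := fun i => by
      refine ⟨inferInstance, inferInstanceAs (Finite PUnit), fun _ => hA i,
        GrothLib.HTop.hasValLift_of_isVCover fun U => ?_⟩
      obtain ⟨G, hG, hr⟩ := (hH i).2 U
      exact ⟨G, GrothLib.HTop.isStandardV_of_isStandardPh G hG, hr⟩
    have hV := (Groth.Agent.S7291.result.{w} D c hc).2 hS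
    refine ⟨inferInstance, inferInstanceAs (Finite PUnit), fun _ => ‹IsAffine X›, ?_⟩
    intro V _ _ g
    obtain ⟨W, j1, j2, ψ, hψ, j, l, hl⟩ := hV.lift V g
    let l' : Spec W ⟶ c.pt.left := l
    have hl' : l' ≫ c.pt.hom = Spec.map ψ ≫ g := hl
    refine ⟨W, j1, j2, ψ, hψ, PUnit.unit, l' ≫ e.hom.left, ?_⟩
    show (l' ≫ e.hom.left) ≫ f = _
    rw [Category.assoc, show e.hom.left ≫ f = c.pt.hom from Over.w e.hom]
    exact hl'
  tfae_finish

end Groth.Agent.S7292
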