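import Groth.Statements.S10901
import Groth.Agent.Lib.WDivAff.Main
-- import your own Groth.Agent.* helpers here

set_option autoImplicit false
universe u
open CategoryTheory CategoryTheory.Limits AlgebraicGeometry TopologicalSpace
open WDiv

namespace Groth.Agent.S10901

/-- Let X be an integral Noetherian separated scheme which is regular in codimension 1 (the local ring
at every point of coheight 1 is a discrete valuation ring), and p : A^m_X → X the affine m-space
over X. Then pulling back along p is surjective on divisor classes: for every Weil divisor D' on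
A^m_X (an integer-valued function on its points with finite support inside the points of coheight 1)
there are a Weil divisor D on X and a nonzero rational function g on A^m_X such that D'(y) = D(p(y))
+ ord_y(g) at every point y of A^m_X of coheight 1. -/
theorem result (m : ℕ) (X : Scheme.{u}) [IsIntegral X]
    [IsNoetherian X] [X.IsSeparated] [IsLocallyNoetherian 𝔸(ULift.{u} (Fin m); X)]
    (hR1 : ∀ x : ↥X, Order.coheight x = 1 → IsDiscreteValuationRing ↑(X.presheaf.stalk x))
    (D' : ↥(𝔸(ULift.{u} (Fin m); X)) → ℤ) (hD' : ∀ y, Order.coheight y ≠ 1 → D' y = 0) (hfin : {y | D' y ≠ 0}.Finite) :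
    ∃ (D : ↥X → ℤ) (g : ↑(𝔸(ULift.{u} (Fin m); X)).functionField), (∀ x, Order.coheight x ≠ 1 → D x = 0) ∧
      {x | D x ≠ 0}.Finite ∧ g ≠ 0 ∧
        ∀ y : ↥(𝔸(ULift.{u} (Fin m); X)), Order.coheight y = 1 → D' y = D ((𝔸(ULift.{u} (Fin m); X) ↘ X) y) + Scheme.ord g y := by
  classical
  haveI := GrothLib.PicAff26.isIntegral_affineSpace (ULift.{u} (Fin m)) (Y := X)
  let W := 𝔸(ULift.{u} (Fin m); X)
  let π : W ⟶ X := W ↘ X
  obtain ⟨B, hB, hηB, -⟩ := exists_isAffineOpen_mem_and_subset (Opens.mem_top (genericPoint X))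
  haveI : Nonempty (GrothLib.PicAff26.tOpen (ULift.{u} (Fin m)) B) :=
    ⟨⟨genericPoint W, show π (genericPoint W) ∈ B from (GrothLib.WDivAff.map_genericPoint (n := ULift.{u} (Fin m)) (X := X)).symm ▸ hηB⟩⟩
  haveI : CompactSpace W := QuasiCompact.compactSpace_of_compactSpace π
  let S := (hfin.subset (fun y (hy : D' y ≠ 0 ∧ π y = genericPoint X) => hy.1)).toFinset
  have hS : ∀ y, y ∈ S ↔ D' y ≠ 0 ∧ π y = genericPoint X := fun y => Set.Finite.mem_toFinset _
  have hc : ∀ y : W, ∃ c : W.functionField, c ≠ 0 ∧ (y ∈ S → Scheme.ord c y = 1 ∧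
      ∀ z : W, Order.coheight z = 1 → π z = genericPoint X → z ≠ y → Scheme.ord c z = 0) := by
    intro y
    by_cases hy : y ∈ S
    · obtain ⟨hy0, hgen⟩ := (hS y).1 hy
      obtain ⟨c, hc0, hc1, hc2⟩ := GrothLib.WDivAff.exists_horiz_fun hB
        (show y ∈ GrothLib.PicAff26.tOpen _ B from show π y ∈ B from hgen.symm ▸ hηB)
        (by_contra fun h => hy0 (hD' y h)) hgen
      exact ⟨c, hc0, fun _ => ⟨hc1, hc2⟩⟩
    · exact ⟨1, one_ne_zero, fun h => absurd h hy⟩
  choose c hc0 hc using hc
  let g : W.functionField := ∏ y ∈ S, c y ^ D' y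
  have hg : g ≠ 0 := Finset.prod_ne_zero_iff.2 fun y _ => zpow_ne_zero _ (hc0 y)
  have hord : ∀ z : W, Order.coheight z = 1 → π z = genericPoint X → Scheme.ord g z = D' z := by
    intro z hz1 hzgen
    rw [GrothLib.WDivAff.ord_prod' S _ (fun y _ => zpow_ne_zero _ (hc0 y)) z,
      Finset.sum_eq_single z]
    · by_cases hzS : z ∈ S
      · rw [GrothLib.WDivAff.ord_zpow' (hc0 z), (hc z hzS).1, mul_one]
      · rw [by_contra fun h => hzS ((hS z).2 ⟨h, hzgen⟩)]
        rw [zpow_zero, GrothLib.WDivAff.ord_one']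
    · intro y hy hne
      rw [GrothLib.WDivAff.ord_zpow' (hc0 y), (hc y hy).2 z hz1 hzgen hne.symm, mul_zero]
    · intro hzS
      rw [by_contra fun h => hzS ((hS z).2 ⟨h, hzgen⟩)]
      rw [zpow_zero, GrothLib.WDivAff.ord_one']
  let D : X → ℤ := fun x => if hx : Order.coheight x = 1 then
    D' (GrothLib.WDivAff.exists_vert hR1 (n := ULift.{u} (Fin m)) hx).choose -
      Scheme.ord g (GrothLib.WDivAff.exists_vert hR1 (n := ULift.{u} (Fin m)) hx).choose else 0
  refine ⟨D, g, fun x hx => dif_neg hx, ?_, hg, fun y hy1 => ?_⟩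
  · refine ((hfin.union (GrothLib.WDivAff.finite_ord_support (W := W) hg)).image fun y => π y).subset fun x hx => ?_
    have hx1 : Order.coheight x = 1 := by_contra fun h => hx (dif_neg h)
    obtain ⟨h1, h2⟩ := (GrothLib.WDivAff.exists_vert hR1 (n := ULift.{u} (Fin m)) hx1).choose_spec
    refine ⟨_, ?_, h2⟩
    by_contra h3
    obtain ⟨h4, h5⟩ := not_or.1 h3
    refine hx ?_
    show D x = 0
    simp only [D, dif_pos hx1]
    rw [not_not.1 h4, not_not.1 fun h => h5 ⟨h1, h⟩, sub_zero]
  · by_cases hgen : π y = genericPoint X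
    · rw [show D (π y) = 0 from dif_neg (by rw [hgen, GrothLib.WDivAff.coheight_genericPoint]; exact zero_ne_one),
        zero_add, hord y hy1 hgen]
    · obtain ⟨B', hB', hy, -⟩ := exists_isAffineOpen_mem_and_subset (Opens.mem_top (π y))
      have hx1 := (GrothLib.WDivAff.vert hy1 hgen hB' hy).1
      obtain ⟨h1, h2⟩ := (GrothLib.WDivAff.exists_vert hR1 (n := ULift.{u} (Fin m)) hx1).choose_spec
      have e := GrothLib.WDivAff.vert_unique hy1 h1 h2.symm hgen
      show D' y = D (π y) + Scheme.ord g y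
      rw [show D (π y) = _ from dif_pos hx1, ← e]
      ring

end Groth.Agent.S10901
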