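import Groth.Statements.S18590
import Mathlib.RingTheory.WittVector.Teichmuller

set_option autoImplicit false
universe u
open CAlg

namespace Groth.Agent.S18590

open Polynomial WittVector in
/-- `[r] * x` has `n`-th coefficient `r^(p^n) x_n`. -/
theorem teichmuller_mul_coeff (p : ℕ) [Fact p.Prime] {R : Type u} [CommRing R] (r : R)
    (x : WittVector p R) (n : ℕ) :
    (WittVector.teichmuller p r * x).coeff n = r ^ (p ^ n) * x.coeff n := by
  let X₀ : WittVector p (MvPolynomial (Option ℕ) ℤ) := WittVector.mk p (fun n => MvPolynomial.X (some n))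
  let r₀ : MvPolynomial (Option ℕ) ℤ := MvPolynomial.X none
  have key : WittVector.teichmuller p r₀ * X₀ =
      WittVector.mk p (fun n => r₀ ^ (p ^ n) * X₀.coeff n) := by
    apply WittVector.map_injective (MvPolynomial.map (Int.castRingHom ℚ))
      (MvPolynomial.map_injective _ Int.cast_injective)
    haveI : Invertible (p : MvPolynomial (Option ℕ) ℚ) := by
      have : IsUnit (p : MvPolynomial (Option ℕ) ℚ) := by
        rw [← map_natCast (MvPolynomial.C : ℚ →+* MvPolynomial (Option ℕ) ℚ) p]
        exact (isUnit_iff_ne_zero.mpr (Nat.cast_ne_zero.mpr (Fact.out : p.Prime).ne_zero)).map _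
      exact this.invertible
    apply (WittVector.ghostMap.bijective_of_invertible p (MvPolynomial (Option ℕ) ℚ)).1
    funext m
    simp only [WittVector.ghostMap_apply, map_mul, WittVector.map_teichmuller,
      WittVector.ghostComponent_teichmuller]
    rw [WittVector.ghostComponent_apply, WittVector.ghostComponent_apply,
      wittPolynomial_eq_sum_C_mul_X_pow]
    simp only [map_sum, map_mul, map_pow, MvPolynomial.aeval_X, WittVector.map_coeff,
      WittVector.coeff_mk, MvPolynomial.aeval_C]
    rw [Finset.mul_sum]
    refine Finset.sum_congr rfl fun i hi => ?_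
    have hi' : i ≤ m := Nat.lt_succ_iff.mp (Finset.mem_range.mp hi)
    rw [mul_pow, ← pow_mul, ← pow_add, Nat.add_sub_cancel' hi']
    ring
  let f : MvPolynomial (Option ℕ) ℤ →+* R := MvPolynomial.eval₂Hom (Int.castRingHom R) (fun o => Option.elim o r x.coeff)
  have hx : WittVector.map f X₀ = x := by
    ext m
    simp [X₀, f, WittVector.map_coeff]
  have h := congrArg (fun w => (WittVector.map f w).coeff n) key
  simp only [map_mul, WittVector.map_teichmuller, hx, WittVector.map_coeff, WittVector.coeff_mk,
    map_pow] at h
  simpa [X₀, r₀, f] using h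

open Polynomial in
/-- The graded subring of `K[T]` attached to the multiplicative family `M`. -/
def filtSubring {A K : Type u} [CommRing A] [CommRing K] [Algebra A K] (M : ℕ → Submodule A K)
    (hmul : ∀ (i j : ℕ) (a b : K), a ∈ M i → b ∈ M j → a * b ∈ M (i + j)) : Subring K[X] where
  carrier := {f | (∃ a : A, f.coeff 0 - algebraMap A K a ∈ M 0) ∧ ∀ i, 1 ≤ i → f.coeff i ∈ M i}
  one_mem' := by
    refine ⟨⟨1, by simp⟩, fun i hi => ?_⟩
    rw [Polynomial.coeff_one, if_neg (by omega)]
    exact zero_mem _
  zero_mem' := ⟨⟨0, by simp⟩, fun i _ => by simp⟩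
  add_mem' := by
    rintro f g ⟨⟨a, ha⟩, hf⟩ ⟨⟨b, hb⟩, hg⟩
    refine ⟨⟨a + b, ?_⟩, fun i hi => ?_⟩
    · rw [Polynomial.coeff_add, map_add, add_sub_add_comm]
      exact add_mem ha hb
    · rw [Polynomial.coeff_add]
      exact add_mem (hf i hi) (hg i hi)
  neg_mem' := by
    rintro f ⟨⟨a, ha⟩, hf⟩
    refine ⟨⟨-a, ?_⟩, fun i hi => ?_⟩
    · rw [Polynomial.coeff_neg, map_neg, neg_sub_neg, ← neg_sub]
      exact neg_mem ha
    · rw [Polynomial.coeff_neg]
      exact neg_mem (hf i hi)
  mul_mem' := by
    rintro f g ⟨⟨a, ha⟩, hf⟩ ⟨⟨b, hb⟩, hg⟩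
    refine ⟨⟨a * b, ?_⟩, fun i hi => ?_⟩
    · rw [Polynomial.mul_coeff_zero, map_mul]
      have : f.coeff 0 * g.coeff 0 - algebraMap A K a * algebraMap A K b
          = (f.coeff 0 - algebraMap A K a) * (g.coeff 0 - algebraMap A K b)
            + (a • (g.coeff 0 - algebraMap A K b) + b • (f.coeff 0 - algebraMap A K a)) := by
        simp only [Algebra.smul_def]; ring
      rw [this]
      exact add_mem (hmul 0 0 _ _ ha hb) (add_mem (Submodule.smul_mem _ _ hb) (Submodule.smul_mem _ _ ha))
    · rw [Polynomial.coeff_mul]
      refine sum_mem ?_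
      rintro ⟨j, k⟩ hjk
      have hjk' : j + k = i := by simpa using hjk
      dsimp only
      rcases Nat.eq_zero_or_pos j with rfl | hj
      · have hk : k = i := by omega
        subst hk
        have : f.coeff 0 * g.coeff k = (f.coeff 0 - algebraMap A K a) * g.coeff k + a • g.coeff k := by
          simp only [Algebra.smul_def]; ring
        rw [this]
        refine add_mem ?_ (Submodule.smul_mem _ _ (hg k hi))
        simpa using hmul 0 k _ _ ha (hg k hi)
      · rcases Nat.eq_zero_or_pos k with rfl | hk
        · have : f.coeff j * g.coeff 0 = f.coeff j * (g.coeff 0 - algebraMap A K b) + b • f.coeff j := by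
            simp only [Algebra.smul_def]; ring
          rw [this, ← hjk']
          simp only [Nat.add_zero]
          refine add_mem ?_ (Submodule.smul_mem _ _ (hf j hj))
          simpa using hmul j 0 _ _ (hf j hj) hb
        · rw [← hjk']
          exact hmul j k _ _ (hf j hj) (hg k hk)

/-- Let p be a prime, A a commutative ring, K a commutative A-algebra of characteristic p and M_0, M_1,
M_2, … A-submodules of K with M_i · M_j ⊆ M_(i+j) for all i, j. Then the subset of the ring W(K) of
p-typical Witt vectors consisting of the vectors whose n-th coordinate lies in M_(p^n) for every n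
is closed under addition and under multiplication by the image of W(A) under W of the structure map;
in other words it is a W(A)-submodule of W(K). (The published statement is the case of an integral
normal noetherian scheme X of characteristic p with function field K, an affine open subset U with
coordinate ring A, and M_k the module of sections over U of the divisorial sheaf of k·D for a real
Weil divisor D on X; these form such a multiplicative family, and the subset is then the module of
sections over U of the Witt divisorial sheaf of D inside W(K). Only the two stated properties of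
that family enter.) -/
theorem result
    (p : ℕ) [Fact p.Prime] (A K : Type u) [CommRing A] [CommRing K] [Algebra A K] [CharP K p]
    (M : ℕ → Submodule A K)
    (hmul : ∀ (i j : ℕ) (a b : K), a ∈ M i → b ∈ M j → a * b ∈ M (i + j)) :
    (∀ φ ψ : WittVector p K, (∀ n : ℕ, φ.coeff n ∈ M (p ^ n)) → (∀ n : ℕ, ψ.coeff n ∈ M (p ^ n)) →
        ∀ n : ℕ, (φ + ψ).coeff n ∈ M (p ^ n)) ∧
      (∀ (x : WittVector p A) (φ : WittVector p K), (∀ n : ℕ, φ.coeff n ∈ M (p ^ n)) →
        ∀ n : ℕ, (WittVector.map (algebraMap A K) x * φ).coeff n ∈ M (p ^ n)) := by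
  classical
  have hp : ∀ n : ℕ, 1 ≤ p ^ n := fun n => Nat.one_le_pow _ _ (Fact.out : p.Prime).pos
  let S := filtSubring M hmul
  have hmon : ∀ (n : ℕ) (a : K), a ∈ M (p ^ n) →
      (Polynomial.X : Polynomial K) ^ (p ^ n) * Polynomial.C a ∈ S := by
    intro n a ha
    have h0 : (0 : ℕ) ≠ p ^ n := by have := hp n; omega
    refine ⟨⟨0, ?_⟩, fun i _ => ?_⟩
    · rw [mul_comm, Polynomial.coeff_C_mul_X_pow, if_neg h0]; simp
    · rw [mul_comm, Polynomial.coeff_C_mul_X_pow]
      split_ifs with h
      · rw [h]; exact ha
      · exact zero_mem _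
  let lift : ∀ φ : WittVector p K, (∀ n, φ.coeff n ∈ M (p ^ n)) → WittVector p S := fun φ h =>
    WittVector.mk p (fun n => ⟨_, hmon n _ (h n)⟩)
  have hlift : ∀ φ h, WittVector.map S.subtype (lift φ h) =
      WittVector.teichmuller p Polynomial.X * WittVector.map Polynomial.C φ := by
    intro φ h
    ext n
    simp [lift, WittVector.map_coeff, teichmuller_mul_coeff]
  have hout : ∀ (w : WittVector p S) (χ : WittVector p K), WittVector.map S.subtype w =
      WittVector.teichmuller p Polynomial.X * WittVector.map Polynomial.C χ →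
      ∀ n, χ.coeff n ∈ M (p ^ n) := by
    intro w χ h n
    have h1 := congrArg (fun v => WittVector.coeff v n) h
    simp only [WittVector.map_coeff, teichmuller_mul_coeff, Subring.subtype_apply] at h1
    have h2 := (w.coeff n).2.2 (p ^ n) (hp n)
    rw [h1, mul_comm, Polynomial.coeff_C_mul_X_pow, if_pos rfl] at h2
    exact h2
  refine ⟨fun φ ψ hφ hψ => hout (lift φ hφ + lift ψ hψ) (φ + ψ) ?_, fun x φ hφ => ?_⟩
  · rw [map_add, map_add, hlift φ hφ, hlift ψ hψ, mul_add]
  · let g : A →+* S := (Polynomial.C.comp (algebraMap A K)).codRestrict S (fun a => by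
      refine ⟨⟨a, by simp⟩, fun i hi => ?_⟩
      simp [Polynomial.coeff_C, show i ≠ 0 by omega])
    refine hout (WittVector.map g x * lift φ hφ) (WittVector.map (algebraMap A K) x * φ) ?_
    have hg : WittVector.map S.subtype (WittVector.map g x) =
        WittVector.map Polynomial.C (WittVector.map (algebraMap A K) x) := by
      ext n
      simp [WittVector.map_coeff, g]
    rw [map_mul, map_mul, hlift φ hφ, hg]
    ring

end Groth.Agent.S18590
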