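import Groth.Statements.S0376
import Groth.Agent.Lib.Cohen.Structure
import Groth.Agent.Lib.J2.Complete
import Groth.Agent.Lib.DualCx22.EssFT
import Groth.Agent.S11185

set_option autoImplicit false
universe u v
open CategoryTheory
attribute [local instance] HasDerivedCategory.standard
open Dual

namespace Groth.Agent.S0376

/-- A complete Noetherian local ring has a dualizing complex. -/
theorem result (A : Type u) [CommRing A] [IsLocalRing A] [IsNoetherianRing A] [IsAdicComplete (IsLocalRing.maximalIdeal A) A] : ∃ ω : Dual.D A, Dual.IsDualizing A ω := by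
  have hreg : ∀ (R : Type u) [CommRing R] [IsRegularLocalRing R], ∃ ω : Dual.D R, Dual.IsDualizing R ω := by
    intro R _ _
    haveI : IsRegularRing R := GrothLib.Serre.isRegularRing_of_isRegularLocalRing R
    exact ⟨_, Groth.Agent.S11185.result R (fun p => inferInstance) ringKrullDim_lt_top⟩
  obtain ⟨Λ, hr, n, f, hΛ, hf⟩ := GrothLib.Cohen.exists_surjective_mvPowerSeries A (IsNoetherian.noetherian _)
  refine GrothLib.DualCx22.exists_dualizing_of_surjective f hf ?_
  rcases hΛ with hk | hC
  · letI : Field Λ := hk.toField
    haveI := GrothLib.RegLoc.PS.isRegularLocalRing (k := Λ) (d := n)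
    exact hreg _
  · obtain ⟨_, _, -, p, -, hm⟩ := hC
    haveI := GrothLib.J2.isRegularLocalRing_powerSeries (p : Λ) (fun h => by
      rw [h, Ideal.span_singleton_zero] at hm
      exact IsDiscreteValuationRing.not_a_field Λ hm) hm n
    exact hreg _

end Groth.Agent.S0376
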