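import Groth.Statements.S9276
import Groth.Agent.Lib.GRingFT.EtaleStages
import Groth.Agent.Lib.Hensel.HullExtra
import Groth.Agent.Lib.Hensel.Noetherian
import Groth.Agent.Lib.Hensel.PairHull
import Groth.Agent.Lib.Hensel.Branches

set_option autoImplicit false
universe u
open CAlg

namespace Groth.Agent.S9276

/-- Let A be a G-ring, I an ideal of A and B the henselization of the pair (A, I). Then B is a G-ring. -/
theorem result (A : Type u) [CommRing A] (hA : CAlg.IsGRing A) (I : Ideal A)
    (B : Type u) [CommRing B] [Algebra A B] (hB : Hens2.IsPairHenselization A I B) :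
    CAlg.IsGRing B := by
  haveI := hA.1
  haveI := GrothLib.Hensel.IsPairHenselization.isNoetherianRing hB
  obtain ⟨e⟩ := GrothLib.Hensel.IsPairHenselization.nonempty_hull_algEquiv hB
  haveI : Algebra.FormallyEtale A (GrothLib.Hensel.Hull A (A ⧸ I)) := GrothLib.Hensel.Hull.formallyEtale A (A ⧸ I)
  haveI : Algebra.FormallyEtale A B := Algebra.FormallyEtale.of_equiv e
  exact GrothLib.GRingFT.isGRing_of_etaleStages ((GrothLib.Hensel.Hull.etaleStages A (A ⧸ I)).of_algEquiv e) hA

end Groth.Agent.S9276
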