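import Groth.Statements.S9309
import Groth.Agent.Lib.GRingFT.EtaleStages
import Groth.Agent.Lib.Excellent.Dedekind
import Groth.Agent.Lib.Excellent.Localization
import Groth.Agent.Lib.Hensel.Noetherian
import Groth.Agent.Lib.Hensel.Branches

set_option autoImplicit false
universe u
open CAlg

namespace Groth.Agent.S9309


section Approx

open IsLocalRing

variable (A : Type u) [CommRing A]

noncomputable local instance instUAlg : Algebra (ULift.{u} ℤ) A :=
  ((algebraMap ℤ A).comp ULift.ringEquiv.toRingHom).toAlgebra

theorem isGRing_uliftInt : CAlg.IsGRing (ULift.{u} ℤ) := by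
  haveI : IsDomain (ULift.{u} ℤ) := MulEquiv.isDomain ℤ (ULift.ringEquiv : ULift.{u} ℤ ≃+* ℤ).toMulEquiv
  haveI : IsPrincipalIdealRing (ULift.{u} ℤ) :=
    IsPrincipalIdealRing.of_surjective (ULift.ringEquiv.{0, u} (R := ℤ)).symm.toRingHom
      (ULift.ringEquiv.{0, u} (R := ℤ)).symm.surjective
  haveI : CharZero (ULift.{u} ℤ) :=
    charZero_of_injective_ringHom (f := (ULift.ringEquiv.{0, u} (R := ℤ)).symm.toRingHom)
      (ULift.ringEquiv.{0, u} (R := ℤ)).symm.injective
  exact GrothLib.Excellent.isGRing_dedekind _

variable [IsLocalRing A]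

noncomputable abbrev Base (s : Finset A) := Algebra.adjoin (ULift.{u} ℤ) (s : Set A)

noncomputable abbrev BP (s : Finset A) : Ideal (Base A s) := (maximalIdeal A).comap (Base A s).val.toRingHom

noncomputable abbrev Loc (s : Finset A) := Localization.AtPrime (BP A s)

theorem isGRing_base (s : Finset A) : CAlg.IsGRing (Base A s) := by
  haveI : Algebra.FiniteType (ULift.{u} ℤ) (Base A s) :=
    (Subalgebra.fg_iff_finiteType _).mp (Subalgebra.fg_adjoin_finset s)
  exact GrothLib.GRingFT.isGRing_of_finiteType isGRing_uliftInt _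

theorem isGRing_loc (s : Finset A) : CAlg.IsGRing (Loc A s) :=
  GrothLib.Excellent.isGRing_localization (BP A s).primeCompl (isGRing_base A s)

instance (s : Finset A) : IsNoetherianRing (Loc A s) := (isGRing_loc A s).1

noncomputable def toA (s : Finset A) : Loc A s →+* A :=
  IsLocalization.lift (M := (BP A s).primeCompl) (g := (Base A s).val.toRingHom)
    fun x => notMem_maximalIdeal.mp x.2

theorem toA_algebraMap (s : Finset A) (x : Base A s) : toA A s (algebraMap (Base A s) (Loc A s) x) = x :=
  IsLocalization.lift_eq _ _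

theorem toA_injective (s : Finset A) : Function.Injective (toA A s) :=
  (injective_iff_map_eq_zero _).mpr fun z hz => by
    obtain ⟨⟨b, c⟩, hbc⟩ := IsLocalization.surj (BP A s).primeCompl z
    have h := congrArg (toA A s) hbc
    rw [map_mul, hz, zero_mul, toA_algebraMap] at h
    have hb : b = 0 := Subtype.ext h.symm
    rw [hb, map_zero] at hbc
    exact (IsLocalization.map_units (Loc A s) c).mul_left_eq_zero.mp hbc

instance (s : Finset A) : IsLocalHom (toA A s) := by
  refine ⟨fun z hz => ?_⟩
  obtain ⟨⟨b, c⟩, hbc⟩ := IsLocalization.surj (BP A s).primeCompl z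
  have h := congrArg (toA A s) hbc
  rw [map_mul, toA_algebraMap, toA_algebraMap] at h
  have hb : b ∉ BP A s := fun hb => by
    have hu : IsUnit (b : A) := h ▸ hz.mul (notMem_maximalIdeal.mp c.2)
    exact (mem_maximalIdeal _).mp hb hu
  have h1 : IsUnit (z * algebraMap (Base A s) (Loc A s) c) :=
    hbc ▸ IsLocalization.map_units (Loc A s) (⟨b, hb⟩ : (BP A s).primeCompl)
  exact isUnit_of_mul_isUnit_left h1

theorem base_mono {s t : Finset A} (h : s ≤ t) : Base A s ≤ Base A t :=
  Algebra.adjoin_mono (Finset.coe_subset.mpr h)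

noncomputable def locMap {s t : Finset A} (h : s ≤ t) : Loc A s →+* Loc A t :=
  IsLocalization.lift (M := (BP A s).primeCompl)
    (g := (algebraMap (Base A t) (Loc A t)).comp (Subalgebra.inclusion (base_mono A h)).toRingHom)
    fun x => IsLocalization.map_units (Loc A t)
      (⟨Subalgebra.inclusion (base_mono A h) x.1, fun hx => x.2 hx⟩ : (BP A t).primeCompl)

theorem toA_locMap {s t : Finset A} (h : s ≤ t) : (toA A t).comp (locMap A h) = toA A s := by
  refine IsLocalization.ringHom_ext (BP A s).primeCompl (RingHom.ext fun x => ?_)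
  simp only [RingHom.comp_apply, locMap, IsLocalization.lift_eq, toA_algebraMap]
  rfl

theorem isLocalHom_locMap {s t : Finset A} (h : s ≤ t) : IsLocalHom (locMap A h) :=
  ⟨fun x hx => isUnit_of_map_unit (toA A s) x (by rw [← toA_locMap A h]; exact hx.map (toA A t))⟩

noncomputable abbrev G (s : Finset A) := GrothLib.Hensel.Hens (Loc A s)


theorem isGRing_G (s : Finset A) : CAlg.IsGRing (G A s) := by
  haveI : IsNoetherianRing (G A s) :=
    (GrothLib.Hensel.IsHenselization.isNoetherianRing_iff (R := Loc A s) (S := G A s)).mp inferInstance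
  haveI := GrothLib.Hensel.IsHenselization.formallyEtale (R := Loc A s) (S := G A s)
  exact GrothLib.GRingFT.isGRing_of_etaleStages
    (GrothLib.Hensel.IsHenselization.etaleStages (A := Loc A s) (S := G A s)) (isGRing_loc A s)

/-- A map out of a henselization is local if its restriction is. -/
theorem isLocalHom_of_comp {s : Finset A} {T : Type u} [CommRing T] [IsLocalRing T] (g : G A s →+* T)
    (h : IsLocalHom (g.comp (algebraMap (Loc A s) (G A s)))) : IsLocalHom g := by
  refine ((local_hom_TFAE g).out 0 2 rfl rfl).mpr ?_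
  rw [← GrothLib.Hensel.IsHenselization.map_maximalIdeal (R := Loc A s) (S := G A s), Ideal.map_map]
  exact ((local_hom_TFAE _).out 0 2 rfl rfl).mp h

theorem exists_transition {s t : Finset A} (h : s ≤ t) :
    ∃! f : G A s →+* G A t, f.comp (algebraMap (Loc A s) (G A s)) =
      (algebraMap (Loc A t) (G A t)).comp (locMap A h) :=
  haveI := isLocalHom_locMap A h
  _root_.Hensel.IsHenselization.universal (R := Loc A s) (S := G A s) (G A t) _ inferInstance

noncomputable def trans (s t : Finset A) (h : s ≤ t) : G A s →+* G A t :=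
  (exists_transition A h).choose

theorem trans_comp {s t : Finset A} (h : s ≤ t) : (trans A s t h).comp (algebraMap (Loc A s) (G A s)) =
      (algebraMap (Loc A t) (G A t)).comp (locMap A h) :=
  (exists_transition A h).choose_spec.1

theorem isLocalHom_trans {s t : Finset A} (h : s ≤ t) : IsLocalHom (trans A s t h) := by
  haveI := isLocalHom_locMap A h
  refine isLocalHom_of_comp A _ ?_
  rw [trans_comp]
  infer_instance

instance directed : DirectedSystem (G A) (fun i j h => trans A i j h) where
  map_self s x := by
    have h2 : trans A s s le_rfl = RingHom.id _ := ((exists_transition A (le_refl s)).choose_spec.2 _ ?_).symm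
    · rw [h2]; rfl
    · rw [show locMap A (le_refl s) = RingHom.id _ from RingHom.ext fun z =>
        toA_injective A s (RingHom.congr_fun (toA_locMap A (le_refl s)) z)]
      rfl
  map_map k j i hij hjk x := by
    have h2 : (trans A j k hjk).comp (trans A i j hij) = trans A i k (hij.trans hjk) :=
      (exists_transition A (hij.trans hjk)).choose_spec.2 _ (by
        beta_reduce
        rw [RingHom.comp_assoc, trans_comp, ← RingHom.comp_assoc, trans_comp, RingHom.comp_assoc]
        congr 1
        refine RingHom.ext fun z => toA_injective A k ?_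
        simp only [RingHom.comp_apply]
        exact ((RingHom.congr_fun (toA_locMap A hjk) (locMap A hij z)).trans
          (RingHom.congr_fun (toA_locMap A hij) z)).trans
          (RingHom.congr_fun (toA_locMap A (hij.trans hjk)) z).symm)
    exact RingHom.congr_fun h2 x

variable [HenselianLocalRing A]

theorem exists_toLimit (s : Finset A) :
    ∃! g : G A s →+* A, g.comp (algebraMap (Loc A s) (G A s)) = toA A s :=
  _root_.Hensel.IsHenselization.universal (R := Loc A s) (S := G A s) A _ inferInstance

noncomputable def toLimit (s : Finset A) : G A s →+* A := (exists_toLimit A s).choose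

theorem toLimit_comp (s : Finset A) : (toLimit A s).comp (algebraMap (Loc A s) (G A s)) = toA A s :=
  (exists_toLimit A s).choose_spec.1

theorem isLocalHom_toLimit (s : Finset A) : IsLocalHom (toLimit A s) :=
  isLocalHom_of_comp A _ (by rw [toLimit_comp]; infer_instance)

theorem toLimit_trans {s t : Finset A} (h : s ≤ t) (x : G A s) :
    toLimit A t (trans A s t h x) = toLimit A s x :=
  RingHom.congr_fun ((exists_toLimit A s).choose_spec.2 ((toLimit A t).comp (trans A s t h)) (by
    beta_reduce
    rw [RingHom.comp_assoc, trans_comp, ← RingHom.comp_assoc, toLimit_comp, toA_locMap])) x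

theorem exists_kill {s : Finset A} {x : G A s} (hx : toLimit A s x = 0) :
    ∃ (t : Finset A) (h : s ≤ t), trans A s t h x = 0 := by
  classical
  obtain ⟨N, _, _, _, φ, hφ⟩ :=
    GrothLib.Hensel.IsHenselization.etaleStages (A := Loc A s) (S := G A s) {x}
  obtain ⟨n, hn⟩ := hφ x (Finset.mem_singleton_self x)
  obtain ⟨T, hT⟩ := (inferInstance : Algebra.FiniteType (Loc A s) N).out
  let γ : N →+* A := (toLimit A s).comp φ.toRingHom
  let t := s ∪ T.image γ
  have hst : s ≤ t := Finset.subset_union_left
  letI : Algebra (Loc A s) (Loc A t) := (locMap A hst).toAlgebra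
  letI : Algebra (Loc A s) (G A t) := ((algebraMap (Loc A t) (G A t)).comp (locMap A hst)).toAlgebra
  have hγ : ∀ z : N, γ z ∈ Set.range (toA A t) := by
    intro z
    have hz : z ∈ Algebra.adjoin (Loc A s) (T : Set N) := hT ▸ Algebra.mem_top
    induction hz using Algebra.adjoin_induction with
    | mem w hw =>
      have hm : γ w ∈ Base A t :=
        Algebra.subset_adjoin (Finset.mem_coe.mpr (Finset.mem_union_right _ (Finset.mem_image_of_mem _ hw)))
      exact ⟨algebraMap (Base A t) (Loc A t) ⟨_, hm⟩, toA_algebraMap A t _⟩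
    | algebraMap r =>
      refine ⟨locMap A hst r, ?_⟩
      rw [← RingHom.comp_apply, toA_locMap, ← toLimit_comp]
      exact congrArg (toLimit A s) (φ.commutes r).symm
    | add a b _ _ ha hb =>
      obtain ⟨a', ha'⟩ := ha
      obtain ⟨b', hb'⟩ := hb
      exact ⟨a' + b', by rw [map_add, map_add, ha', hb']⟩
    | mul a b _ _ ha hb =>
      obtain ⟨a', ha'⟩ := ha
      obtain ⟨b', hb'⟩ := hb
      exact ⟨a' * b', by rw [map_mul, map_mul, ha', hb']⟩
  choose ρ hρ using hγ
  let ρh : N →+* Loc A t :=
    { toFun := ρ
      map_one' := toA_injective A t (by rw [hρ, map_one, map_one])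
      map_mul' := fun a b => toA_injective A t (by rw [map_mul (toA A t), hρ, hρ, hρ, map_mul])
      map_zero' := toA_injective A t (by rw [hρ, map_zero, map_zero])
      map_add' := fun a b => toA_injective A t (by rw [map_add (toA A t), hρ, hρ, hρ, map_add]) }
  have hρr : ∀ r, ρ (algebraMap (Loc A s) N r) = locMap A hst r := fun r => toA_injective A t (by
    rw [hρ, ← RingHom.comp_apply (toA A t), toA_locMap, ← toLimit_comp]
    exact congrArg (toLimit A s) (φ.commutes r))
  let g₁ : N →ₐ[Loc A s] G A t :=
    { (trans A s t hst).comp φ.toRingHom with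
      commutes' := fun r => (congrArg (trans A s t hst) (φ.commutes r)).trans
        (RingHom.congr_fun (trans_comp A hst) r) }
  let g₂ : N →ₐ[Loc A s] G A t :=
    { (algebraMap (Loc A t) (G A t)).comp ρh with
      commutes' := fun r => congrArg (algebraMap (Loc A t) (G A t)) (hρr r) }
  haveI : IsNoetherianRing (G A t) := (isGRing_G A t).1
  have hg : g₁ = g₂ := by
    refine Algebra.FormallyUnramified.ext_of_iInf (I := maximalIdeal (G A t))
      (Ideal.iInf_pow_eq_bot_of_isLocalRing _ (maximalIdeal.isMaximal _).ne_top) fun z => ?_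
    rw [Ideal.Quotient.eq]
    haveI := isLocalHom_toLimit A t
    refine (mem_maximalIdeal _).mpr fun hu => ?_
    have h0 : toLimit A t (g₁ z - g₂ z) = 0 := by
      show toLimit A t (trans A s t hst (φ z) - algebraMap (Loc A t) (G A t) (ρ z)) = 0
      rw [map_sub, toLimit_trans, ← RingHom.comp_apply (toLimit A t), toLimit_comp, hρ]
      exact sub_self _
    exact not_isUnit_zero (h0 ▸ hu.map (toLimit A t))
  refine ⟨t, hst, ?_⟩
  have h1 : trans A s t hst x = algebraMap (Loc A t) (G A t) (ρ n) := by
    rw [← hn]; exact AlgHom.congr_fun hg n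
  have h2 : ρ n = 0 := toA_injective A t (by
    rw [hρ, map_zero]
    show toLimit A s (φ n) = 0
    rw [show φ n = x from hn, hx])
  rw [h1, h2, map_zero]

end Approx


/-- Every henselian local ring A is the colimit of a directed system of henselian local G-rings whose
transition maps are local homomorphisms; that is, there is such a system whose direct limit is
isomorphic to A. -/
theorem result (A : Type u) [CommRing A]
    [HenselianLocalRing A] :
    ∃ (ι : Type u) (_ : Preorder ι) (_ : IsDirectedOrder ι) (_ : Nonempty ι) (G : ι → Type u)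
      (_ : ∀ i, CommRing (G i)) (f : ∀ i j : ι, i ≤ j → (G i →+* G j))
      (_ : DirectedSystem G (fun i j h => f i j h)),
      (∀ i, HenselianLocalRing (G i) ∧ CAlg.IsGRing (G i)) ∧
      (∀ (i j : ι) (h : i ≤ j), IsLocalHom (f i j h)) ∧
      Nonempty (A ≃+* DirectLimit G f) := by
  classical
  letI := instUAlg A
  refine ⟨Finset A, inferInstance, inferInstance, inferInstance, G A, inferInstance, trans A, directed A,
    fun i => ⟨inferInstance, isGRing_G A i⟩, fun i j h => isLocalHom_trans A h, ?_⟩
  let F : DirectLimit (G A) (trans A) →+* A :=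
    DirectLimit.Ring.lift (G A) (trans A) A (toLimit A) fun i j hij x => toLimit_trans A hij x
  refine ⟨(RingEquiv.ofBijective F ⟨(injective_iff_map_eq_zero F).mpr fun z hz => ?_, fun a => ?_⟩).symm⟩
  · obtain ⟨s, x, rfl⟩ := DirectLimit.exists_eq_mk _ z
    obtain ⟨t, h, ht⟩ := exists_kill A (show toLimit A s x = 0 from hz)
    calc _ = DirectLimit.Ring.of (G A) (trans A) s x := rfl
      _ = DirectLimit.Ring.of (G A) (trans A) t (trans A s t h x) := (DirectLimit.Ring.of_f h x).symm
      _ = 0 := by rw [ht, map_zero]
  · refine ⟨DirectLimit.Ring.of (G A) (trans A) {a}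
      (algebraMap (Loc A {a}) (G A {a}) (algebraMap (Base A {a}) (Loc A {a})
        ⟨a, Algebra.subset_adjoin (by simp)⟩)), ?_⟩
    show toLimit A {a} _ = a
    rw [← RingHom.comp_apply (toLimit A {a}), toLimit_comp, toA_algebraMap]

end Groth.Agent.S9309
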