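import Groth.Statements.S0005
import Groth.Agent.Lib.FEt21.Spread
import Groth.Agent.Lib.FEt21.PunctSections
import Groth.Agent.S0247
import Groth.Agent.Lib.RegLoc.Normal
import Groth.Agent.Lib.CMFree.Regular

set_option autoImplicit false
universe u
open FEt

namespace Groth.Agent.S0005

open CategoryTheory AlgebraicGeometry in
/-- Purity for finite étale covers, global form: let X be a Noetherian scheme all of whose local rings
are regular and U ⊆ X an open subscheme such that every point of X outside U has local ring of Krull
dimension at least 2. Then restriction of finite étale covers from X to U is an equivalence of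
categories. -/
theorem result (X : Scheme.{u}) [IsNoetherian X]
    (hreg : ∀ x : X, IsRegularLocalRing (X.presheaf.stalk x)) (U : X.Opens)
    (hU : ∀ x : X, x ∉ U → (2 : WithBot ℕ∞) ≤ ringKrullDim (X.presheaf.stalk x)) :
    (FEt.restrict U.ι).IsEquivalence := by
  have hd : GrothLib.Depth.DepthTwoOutside U := fun x hx => by
    haveI := hreg x
    haveI := GrothLib.CMFree.isDomain_of_isRegularLocalRing (X.presheaf.stalk x)
    haveI := GrothLib.RegLoc.isIntegrallyClosed_of_isRegularLocalRing (X.presheaf.stalk x)
    exact GrothLib.FEt21.two_le_depth_of_normal _ (hU x hx)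
  obtain ⟨_, _⟩ := GrothLib.FEt21.fullyFaithful_of_depthTwo hd
  haveI : (FEt.restrict U.ι).EssSurj := GrothLib.FEt21.essSurj_of_purity U fun x hx => by
    haveI := hreg x
    exact Groth.Agent.S0247.result _ (hU x hx)
  exact {}

end Groth.Agent.S0005
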