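import Groth.Statements.S0008
import Groth.Agent.Lib.Cohom.CechQCoh

set_option autoImplicit false
universe u
open Coherent

namespace Groth.Agent.S0008

open AlgebraicGeometry in
/-- For a ring A, an A-module M and elements f_1, …, f_n generating the unit ideal, the Čech cohomology
of the associated module on Spec A with respect to the covering by the basic opens D(f_i) vanishes
in every positive degree. -/
theorem result (A : Type u) [CommRing A] (M : ModuleCat.{u} A)
    (n : ℕ) (f : ULift.{u} (Fin n) → A) (hf : Ideal.span (Set.range f) = ⊤) (p : ℕ) (hp : 0 < p) :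
    CategoryTheory.Limits.IsZero (CohB1.cechH (fun i => PrimeSpectrum.basicOpen (f i)) (tilde (R := CommRingCat.of A) M) p) := by
  open AlgebraicGeometry CategoryTheory in
  have hU : ∀ (q : ℕ) (a : Fin (q + 1) → ULift.{u} (Fin n)),
      IsAffineOpen (X := Spec (CommRingCat.of A)) (⨅ k, PrimeSpectrum.basicOpen (f (a k))) := by
    intro q a
    exact IsAffineOpen.iInf fun k ↦ IsAffineOpen.Spec_basicOpen (R := CommRingCat.of A) (f (a k))
  obtain ⟨e⟩ := GrothLib.Cohom.nonempty_cechH_equiv
    (fun i => PrimeSpectrum.basicOpen (f i)) (tilde (R := CommRingCat.of A) M) hU p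
  obtain ⟨q, rfl⟩ := Nat.exists_eq_succ_of_ne_zero (by omega : p ≠ 0)
  erw [PrimeSpectrum.iSup_basicOpen_eq_top_iff.2 hf] at e
  have := GrothLib.Cohom.subsingleton_ext_freeFun_of_isAffineOpen
    (AlgebraicGeometry.isAffineOpen_top (AlgebraicGeometry.Spec (CommRingCat.of A)))
    (tilde (R := CommRingCat.of A) M) q
  exact @AddCommGrpCat.isZero_of_subsingleton _ (@Equiv.subsingleton _ _ e.toEquiv this)

end Groth.Agent.S0008
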