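import Groth.Statements.S0011
import Groth.Agent.Lib.Cohom.Compare
import Groth.Agent.Lib.Cohom.Serre
import Groth.Agent.Lib.QCoh.Qcqs
import Groth.Agent.Lib.QCoh.LocGenCases

set_option autoImplicit false
universe u
open Coherent

namespace Groth.Agent.S0011

open AlgebraicGeometry CategoryTheory in
/-- On a quasi-compact scheme in which affine opens have affine intersections, every quasi-coherent
module admits a monomorphism into a quasi-coherent module whose cohomology vanishes in all positive
degrees. (Part (2), universality of the delta-functor, is not stated.) -/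
theorem result (X : Scheme.{u}) [CompactSpace X]
    (hd : ∀ V W : X.Opens, IsAffineOpen V → IsAffineOpen W → IsAffineOpen (V ⊓ W))
    (M : X.Modules) [Coh.IsQCoh M] :
    ∃ (M' : X.Modules) (i : M ⟶ M'), Mono i ∧ Coh.IsQCoh M' ∧
      ∀ p : ℕ, 0 < p → Subsingleton (Coh.HH X M' p) := by
  classical
  haveI : M.IsQuasicoherent := ‹Coh.IsQCoh M›
  have aff : ∀ W : X.Opens, IsAffineOpen W → IsAffineHom W.ι := fun W hW =>
    ⟨fun V hV => (W.ι.isAffineOpen_iff_of_isOpenImmersion).1 (by
      rw [Scheme.Hom.image_preimage_eq_opensRange_inf, Scheme.Opens.opensRange_ι]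
      exact hd W V hW hV)⟩
  obtain ⟨ι, _, W, hW, -, hcov⟩ := GrothLib.QCoh.exists_finite_affine_cover (U := (⊤ : X.Opens))
    (by simpa using isCompact_univ)
  suffices key : ∀ S : Finset ι, ∃ (M' : X.Modules) (i : M ⟶ M'), M'.IsQuasicoherent ∧
      (∀ p : ℕ, 0 < p → Subsingleton (Coh.HH X M' p)) ∧
      ∀ (T : X.Opens) (m : Γ(M, T)), i.app T m = 0 →
        ∀ k ∈ S, M.presheaf.map (homOfLE ((W k).ι.image_preimage_le T)).op m = 0 by
    obtain ⟨M', i, hq, hac, hinj⟩ := key Finset.univ
    refine ⟨M', i, ?_, hq, hac⟩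
    refine (Scheme.Modules.toPresheaf X).mono_of_mono_map ?_
    haveI : ∀ T, Mono (((Scheme.Modules.toPresheaf X).map i).app T) := fun T => by
      refine (AddCommGrpCat.mono_iff_injective _).2 ((injective_iff_map_eq_zero _).2 fun m hm => ?_)
      refine TopCat.Sheaf.eq_of_locally_eq' ⟨M.presheaf, M.isSheaf⟩
        (fun k => (W k).ι ''ᵁ ((W k).ι ⁻¹ᵁ T.unop)) T.unop
        (fun k => homOfLE ((W k).ι.image_preimage_le T.unop)) ?_ m 0 fun k =>
          (hinj T.unop m hm k (Finset.mem_univ k)).trans (map_zero _).symm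
      intro x hx
      obtain ⟨k, hk⟩ := TopologicalSpace.Opens.mem_iSup.1 (hcov (TopologicalSpace.Opens.mem_top x))
      refine TopologicalSpace.Opens.mem_iSup.2 ⟨k, ?_⟩
      rw [Scheme.Hom.image_preimage_eq_opensRange_inf, Scheme.Opens.opensRange_ι]
      exact ⟨hk, hx⟩
    exact NatTrans.mono_of_mono_app _
  intro S
  induction S using Finset.induction with
  | empty =>
    refine ⟨Limits.kernel (𝟙 M), 0, GrothLib.QCoh.isQuasicoherent_kernel _, fun p _ => ?_, by simp⟩
    exact CategoryTheory.Sheaf.subsingleton_H_of_isZero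
      ((GrothLib.QCoh.toAbFun X).map_isZero (Limits.isZero_kernel_of_mono _)) p
  | @insert k S _ ih =>
    obtain ⟨M', i, hq, hac, hinj⟩ := ih
    haveI := hq
    haveI := aff _ (hW k)
    haveI : IsAffine (W k).toScheme := hW k
    haveI : (M.restrict (W k).ι).IsQuasicoherent := inferInstance
    let P := (Scheme.Modules.pushforward (W k).ι).obj (M.restrict (W k).ι)
    haveI hP : P.IsQuasicoherent := GrothLib.QCoh.isQuasicoherent_pushforward _ _
    let η : M ⟶ P := (Scheme.Modules.restrictAdjunction (W k).ι).unit.app M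
    have hPac : ∀ p : ℕ, 0 < p → Subsingleton (Coh.HH X P p) := by
      intro p hp
      obtain ⟨p, rfl⟩ := Nat.exists_eq_add_of_le' hp
      obtain ⟨e⟩ := GrothLib.Cohom.nonempty_HH_equiv_pushforward (W k).ι (M.restrict (W k).ι) (p + 1)
      haveI h1 := GrothLib.Cohom.subsingleton_HH_of_isAffine (M.restrict (W k).ι) (p + 1) (Nat.succ_pos p)
      exact @Equiv.subsingleton _ _ e.symm.toEquiv h1
    refine ⟨M' ⊞ P, Limits.biprod.lift i η, GrothLib.Cohom.isQuasicoherent_biprod M' P, fun p hp => ?_, ?_⟩
    · have hS := GrothLib.QCoh.toAbFun_map_shortExact _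
        (ShortComplex.Splitting.ofHasBinaryBiproduct M' P).shortExact
      have h1 := hac p hp
      have h3 := hPac p hp
      refine subsingleton_of_forall_eq 0 fun x => ?_
      obtain ⟨y, hy⟩ := Abelian.Ext.covariant_sequence_exact₂ _ hS x
        (@Subsingleton.elim _ h3 _ _)
      rw [← hy]
      exact (congrArg (fun z => Abelian.Ext.comp z _ _) (@Subsingleton.elim _ h1 y 0)).trans
        (Abelian.Ext.zero_comp _ _ _ _ _)
    · intro T m hm l hl
      rcases Finset.mem_insert.1 hl with rfl | hl
      · have h := congrArg ((Limits.biprod.snd : M' ⊞ P ⟶ P).app T) hm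
        rw [map_zero] at h
        have e : (Limits.biprod.lift i η ≫ Limits.biprod.snd).app T m = 0 := h
        rw [Limits.biprod.lift_snd] at e
        exact e
      · refine hinj T m ?_ l hl
        have h := congrArg ((Limits.biprod.fst : M' ⊞ P ⟶ M').app T) hm
        rw [map_zero] at h
        have e : (Limits.biprod.lift i η ≫ Limits.biprod.fst).app T m = 0 := h
        rw [Limits.biprod.lift_fst] at e
        exact e

end Groth.Agent.S0011
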