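import Groth.Statements.S0014
import Groth.Agent.Lib.FTIdeals9.Basic

set_option autoImplicit false
universe u
open Coherent

namespace Groth.Agent.S0014

open AlgebraicGeometry CategoryTheory in
/-- If X is quasi-compact and quasi-separated and H^1 vanishes for every quasi-coherent submodule of
finite type of the structure sheaf, then X is affine. -/
theorem result (X : Scheme.{u}) [CompactSpace X]
    [QuasiSeparatedSpace X]
    (h : ∀ (I : X.Modules) (i : I ⟶ Coh.structureModule X), Mono i →
      Coh.IsQCoh I → CohB1.IsFT I → Subsingleton (Coh.HH X I 1)) : IsAffine X := by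
  exact GrothLib.Cohom.isAffine_of_subH1Zero fun I i hi hI ↦ by
    haveI := hI
    haveI := hi
    exact GrothLib.FTIdeals9.subsingleton_ext_of_ft fun Q j hj hQ hQft ↦
      GrothLib.Cohom.subsingleton_ext_top_of_HH (h Q (CategoryTheory.CategoryStruct.comp j i)
        (by haveI := hj; exact CategoryTheory.mono_comp j i) hQ hQft)

end Groth.Agent.S0014
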