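import Groth.Statements.S0015
import Mathlib.AlgebraicGeometry.Morphisms.QuasiSeparated

set_option autoImplicit false
universe u
open Coherent

namespace Groth.Agent.S0015

open AlgebraicGeometry in
/-- Let X be quasi-compact and quasi-separated and P a property of opens of X. If P holds for affine
opens, and P(U ∪ V) follows from P(U), P(V), P(U ∩ V) whenever U is quasi-compact open and V affine
open, then P holds for every quasi-compact open, in particular for X. -/
theorem result (X : Scheme.{u}) [CompactSpace X] [QuasiSeparatedSpace X]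
    (P : X.Opens → Prop) (h₁ : ∀ U : X.Opens, IsAffineOpen U → P U)
    (h₂ : ∀ U V : X.Opens, IsCompact (U : Set X) → IsAffineOpen V → P U → P V → P (U ⊓ V) →
      P (U ⊔ V))
    (U : X.Opens) (hU : IsCompact (U : Set X)) : P U := by
  have bot : P ⊥ := h₁ ⊥ (isAffineOpen_bot X)
  have inV : ∀ V : X.Opens, IsAffineOpen V → ∀ (n : ℕ) (s : Finset Γ(X, V)), s.card ≤ n →
      P (s.sup fun g => X.basicOpen g) := by
    intro V hV n
    induction n with
    | zero =>
      intro s hs
      rw [Finset.card_eq_zero.1 (Nat.le_zero.1 hs), Finset.sup_empty]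
      exact bot
    | succ n ih =>
      intro s hs
      classical
      rcases s.eq_empty_or_nonempty with rfl | ⟨a, ha⟩
      · rw [Finset.sup_empty]; exact bot
      rw [← Finset.insert_erase ha, Finset.sup_insert, sup_comm]
      have hc : (s.erase a).card ≤ n := by
        rw [Finset.card_erase_of_mem ha]; omega
      refine h₂ _ _ ?_ (hV.basicOpen a) (ih _ hc) (h₁ _ (hV.basicOpen a)) ?_
      · rw [Finset.sup_eq_iSup]
        simp only [TopologicalSpace.Opens.coe_iSup]
        exact (s.erase a).finite_toSet.isCompact_biUnion fun g _ => (hV.basicOpen g).isCompact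
      · rw [Finset.sup_inf_distrib_right]
        have e : (s.erase a).sup (fun g => X.basicOpen g ⊓ X.basicOpen a) =
            ((s.erase a).image (· * a)).sup fun g => X.basicOpen g := by
          rw [Finset.sup_image]
          exact Finset.sup_congr rfl fun g _ => (X.basicOpen_mul g a).symm
        rw [e]
        exact ih _ (Finset.card_image_le.trans hc)
  have small : ∀ V : X.Opens, IsAffineOpen V → ∀ W : X.Opens, IsCompact (W : Set X) → W ≤ V →
      P W := by
    intro V hV W hW hWV
    choose g hgW hxg using fun x : W => hV.exists_basicOpen_le x (hWV x.2)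
    obtain ⟨t, ht⟩ := hW.elim_finite_subcover (fun x : W => (X.basicOpen (g x) : Set X))
      (fun x => (X.basicOpen (g x)).isOpen) fun x hx => Set.mem_iUnion.2 ⟨⟨x, hx⟩, hxg _⟩
    classical
    have e : W = (t.image g).sup fun g => X.basicOpen g := by
      rw [Finset.sup_image]
      refine le_antisymm (fun x hx => ?_) (Finset.sup_le fun x _ => hgW x)
      obtain ⟨i, hi, hxi⟩ := Set.mem_iUnion₂.1 (ht hx)
      exact Finset.le_sup (f := (fun g => X.basicOpen g) ∘ g) hi hxi
    rw [e]
    exact inV V hV _ _ le_rfl
  refine compact_open_induction_on U hU bot fun S hS V hPS => ?_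
  exact h₂ S V hS V.2 hPS (h₁ _ V.2) (small V V.2 _
    (QuasiSeparatedSpace.inter_isCompact _ _ S.isOpen hS V.1.isOpen V.2.isCompact) inf_le_right)

end Groth.Agent.S0015
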