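import Groth.Statements.S0017
import Groth.Agent.Lib.AffBC.Basic

set_option autoImplicit false
universe u
open Coherent

namespace Groth.Agent.S0017

open AlgebraicGeometry CategoryTheory in
/-- Let f : X → S be an affine morphism, M a quasi-coherent O_X-module, and X' = S' ×_S X the base
change along g : S' → S, with projections g' : X' → X and f' : X' → S'. Then the pullback g^*(f_* M)
is isomorphic to f'_*(g'^* M). Only the existence of an isomorphism is asserted, not that the base
change map is one; the published statement also records that the higher direct images of M vanish,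
which is not asserted here. -/
theorem result {X S X' S' : Scheme.{u}} (f : X ⟶ S) (g : S' ⟶ S)
    (g' : X' ⟶ X) (f' : X' ⟶ S') (h : IsPullback g' f' f g) [IsAffineHom f]
    (M : X.Modules) [Coh.IsQCoh M] :
    Nonempty ((Scheme.Modules.pullback g).obj ((Coh.push f).obj M) ≅
      (Coh.push f').obj ((Scheme.Modules.pullback g').obj M)) := by
  have : M.IsQuasicoherent := ‹Coh.IsQCoh M›
  have := GrothLib.AffBC.isIso_bcMap h M
  exact ⟨asIso (GrothLib.AffBC.bcMap h M)⟩

end Groth.Agent.S0017
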