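import Groth.Statements.S0022
import Groth.Agent.Lib.Cohom.Vanishing
import Mathlib.AlgebraicGeometry.ProjectiveSpectrum.Proper

set_option autoImplicit false
universe u
open Coherent

namespace Groth.Agent.S0022

open AlgebraicGeometry in
/-- For any ring R, any quasi-coherent module F on projective space ℙ^n_R and any i > n, H^i(ℙ^n_R, F) =
0. (The published statement is for coherent modules over a Noetherian ring; it is stated here for
quasi-coherent modules over any ring.) -/
theorem result (n : ℕ) (R : Type u) [CommRing R]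
    (M : (CohB1.ProjSpace n R).Modules) [Coh.IsQCoh M] (i : ℕ) (hi : n < i) :
    Subsingleton (Coh.HH (CohB1.ProjSpace n R) M i) := by
  let U : Fin (n + 1) → (CohB1.ProjSpace n R).Opens := fun j ↦
    Proj.basicOpen (CohB1.polyGrading n R) (MvPolynomial.X j)
  have hmem : ∀ j, (MvPolynomial.X j : MvPolynomial (Fin (n + 1)) R) ∈ CohB1.polyGrading n R 1 :=
    fun j ↦ MvPolynomial.isHomogeneous_X R j
  have hU : ∀ j, IsAffineOpen (U j) := fun j ↦ Proj.isAffineOpen_basicOpen _ _ (hmem j) one_pos
  have hcov : ⨆ j, U j = ⊤ := by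
    refine Proj.iSup_basicOpen_eq_top' _ _ (fun j ↦ ⟨1, hmem j⟩) (eq_top_iff.2 ?_)
    intro p _
    induction p using MvPolynomial.induction_on with
    | C a =>
      exact Subalgebra.algebraMap_mem _
        (⟨MvPolynomial.C a, MvPolynomial.isHomogeneous_C (Fin (n + 1)) a⟩ : CohB1.polyGrading n R 0)
    | add p q hp hq => exact add_mem (hp trivial) (hq trivial)
    | mul_X p j hp => exact mul_mem (hp trivial) (Algebra.subset_adjoin ⟨j, rfl⟩)
  have : (CohB1.ProjSpace n R).IsSeparated :=
    inferInstanceAs (Scheme.IsSeparated (Proj (CohB1.polyGrading n R)))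
  have h := GrothLib.Cohom.vanishFrom_iSup M IsAffineOpen (fun _ h ↦ h) (fun _ _ ↦ IsAffineOpen.inf)
    (n + 1) U hU
  rw [hcov] at h
  exact h.subsingleton_HH hi

end Groth.Agent.S0022
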