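import Groth.Statements.S0023
import Groth.Agent.Lib.ProjCohom.Corollaries

set_option autoImplicit false
universe u
open Coherent

namespace Groth.Agent.S0023

open AlgebraicGeometry in
/-- Special case of the twist d = 0 in positive degree: H^q(P^n_R, O) = 0 for all q > 0 and any ring R.
(The full statement computes all H^q(P^n_R, O(d)); only the untwisted part is stated here.) -/
theorem result (n : ℕ) (R : Type u) [CommRing R]
    (q : ℕ) (hq : 0 < q) :
    Subsingleton (Coh.HH (CohB1.ProjSpace n R) (Coh.structureModule (CohB1.ProjSpace n R)) q) := by
  exact GrothLib.ProjCohom.subsingleton_HH_structure hq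

end Groth.Agent.S0023
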