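import Groth.Statements.S0026
import Groth.Agent.Lib.QCoh.Devissage

set_option autoImplicit false
universe u
open Coherent

namespace Groth.Agent.S0026

open AlgebraicGeometry CategoryTheory CategoryTheory.Limits in
/-- On a Noetherian scheme X, every coherent module M admits a finite chain 0 = F_0 → F_1 → … → F_m ≅ M
of monomorphisms between coherent modules such that each quotient F_{j+1}/F_j is isomorphic to the
direct image of a nonzero quasi-coherent ideal sheaf of some integral closed subscheme Z_j → X.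
(Filtration written as a chain of monomorphisms up to isomorphism.) -/
theorem result (X : Scheme.{u}) [IsNoetherian X]
    (M : X.Modules) (hM : Coh.IsCoh M) :
    ∃ (m : ℕ) (F : ℕ → X.Modules) (φ : (j : ℕ) → (F j ⟶ F (j + 1))),
      IsZero (F 0) ∧ Nonempty (F m ≅ M) ∧ (∀ j ≤ m, Coh.IsCoh (F j)) ∧ ∀ j < m, Mono (φ j) ∧
        ∃ (Z : Scheme.{u}) (i : Z ⟶ X), IsClosedImmersion i ∧ IsIntegral Z ∧
          ∃ (I : Z.Modules) (ι : I ⟶ Coh.structureModule Z), Mono ι ∧ Coh.IsQCoh I ∧ ¬ IsZero I ∧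
            Nonempty (cokernel (φ j) ≅ (Coh.push i).obj I) := by
  obtain ⟨m, F, φ, h0, he, hF, -, hstep⟩ := GrothLib.QCoh.exists_filtration M hM
  refine ⟨m, F, φ, h0, he, fun j _ ↦ hF j, fun j hj ↦ ?_⟩
  obtain ⟨Z, i, hi, hZ, N, ι, hι, hN, hN0, h, w, hS⟩ := hstep j hj
  exact ⟨hS.mono_f, Z, i, hi, hZ, N, ι, hι, hN.1, hN0,
    ⟨(Limits.cokernelIsCokernel (φ j)).coconePointUniqueUpToIso hS.gIsCokernel⟩⟩

end Groth.Agent.S0026
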