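import Groth.Statements.S0034
import Groth.Agent.Lib.FlatTensorCoh.BaseChange
import Groth.Agent.Lib.OX.LocFreeTensor

set_option autoImplicit false
universe u
open Coherent

namespace Groth.Agent.S0034

open AlgebraicGeometry CategoryTheory TensorProduct in
/-- Flat base change over an affine base. Let A → B be flat, X quasi-compact and quasi-separated over
Spec A, X' a scheme over Spec B with g' : X' → X exhibiting X' = X ×_A Spec B, and F a
quasi-coherent O_X-module. Then H^i(X, F) ⊗_A B ≅ H^i(X', g'^* F) as B-modules. The published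
statement asserts that the natural map is an isomorphism; only the existence of a B-linear
isomorphism is asserted here. -/
theorem result (A B : Type u) [CommRing A] [CommRing B] [Algebra A B]
    [Module.Flat A B] (X X' : Scheme.{u}) [X.Over (Spec (CommRingCat.of A))]
    [X'.Over (Spec (CommRingCat.of B))] [CompactSpace X] [QuasiSeparatedSpace X] (g' : X' ⟶ X)
    (h : IsPullback g' (X' ↘ Spec (CommRingCat.of B)) (X ↘ Spec (CommRingCat.of A))
      (Spec.map (CommRingCat.ofHom (algebraMap A B))))
    (M : X.Modules) [Coh.IsQCoh M] (i : ℕ) :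
    Nonempty (TensorProduct A B (Coh.HH X M i) ≃ₗ[B] Coh.HH X' ((Scheme.Modules.pullback g').obj M) i) := by
  haveI : M.IsQuasicoherent := ‹Coh.IsQCoh M›
  let f := X ↘ Spec (CommRingCat.of A)
  let f' := X' ↘ Spec (CommRingCat.of B)
  let G := (Scheme.Modules.pullback g').obj M
  obtain ⟨e⟩ := GrothLib.FlatTensorCoh.exists_linearEquiv f f' g' h M (ModuleCat.of B B) i
  let η₁ : GrothLib.BCCoh.PM f' (ModuleCat.of B B) ≅ Coh.structureModule X' :=
    (Scheme.Modules.pullback f').mapIso (AlgebraicGeometry.tildeSelf (R := CommRingCat.of B)) ≪≫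
      GrothLib.OX.pullUnitIso f'
  let η : (GrothLib.BCCoh.TF f' G).obj (ModuleCat.of B B) ≅ G :=
    ((DCoh.tensorBi (X := X')).mapIso η₁).app G ≪≫ GrothLib.OX.tensorUnitLeftIso G
  obtain ⟨e', -⟩ := GrothLib.FormalFn.exists_hh_equiv (A := B) η i
  exact ⟨LinearEquiv.trans e e'⟩

end Groth.Agent.S0034
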