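import Groth.Statements.S0035
import Groth.Agent.Lib.FlatTensorCoh.BaseChange
import Groth.Agent.Lib.FlatTensorCoh.Projective
import Groth.Agent.Lib.OX.LocFreeTensor

set_option autoImplicit false
universe u
open Coherent

namespace Groth.Agent.S0035

open AlgebraicGeometry CategoryTheory TensorProduct in
/-- Let B be a finite projective (= finite locally free) A-algebra, X any scheme over Spec A, X' = X ×_A
Spec B with projection g', and F quasi-coherent on X. Then H^i(X, F) ⊗_A B ≅ H^i(X', g'^* F). No
quasi-compactness or separation hypothesis on X is needed. -/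
theorem result (A B : Type u) [CommRing A] [CommRing B] [Algebra A B]
    [Module.Finite A B] [Module.Projective A B] (X X' : Scheme.{u})
    [X.Over (Spec (CommRingCat.of A))] [X'.Over (Spec (CommRingCat.of B))] (g' : X' ⟶ X)
    (h : IsPullback g' (X' ↘ Spec (CommRingCat.of B)) (X ↘ Spec (CommRingCat.of A))
      (Spec.map (CommRingCat.ofHom (algebraMap A B))))
    (M : X.Modules) [Coh.IsQCoh M] (i : ℕ) :
    Nonempty (TensorProduct A B (Coh.HH X M i) ≃ₗ[B] Coh.HH X' ((Scheme.Modules.pullback g').obj M) i) := by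
  have : M.IsQuasicoherent := ‹Coh.IsQCoh M›
  let f := X ↘ Spec (CommRingCat.of A)
  let f' := X' ↘ Spec (CommRingCat.of B)
  let G := (Scheme.Modules.pullback g').obj M
  let d := GrothLib.FlatTensorCoh.datBC f f' g' h M (ModuleCat.of B B)
  obtain ⟨e⟩ := GrothLib.FlatTensorCoh.exists_linearEquiv_of_good f f' g' h M (ModuleCat.of B B)
    (GrothLib.FlatTensorCoh.good_of_projective d
      (fun hU => GrothLib.FlatTensorCoh.good_affine_bc f f' g' h M (ModuleCat.of B B) hU) _) i
  let η₁ : GrothLib.BCCoh.PM f' (ModuleCat.of B B) ≅ Coh.structureModule X' :=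
    (Scheme.Modules.pullback f').mapIso (AlgebraicGeometry.tildeSelf (R := CommRingCat.of B)) ≪≫
      GrothLib.OX.pullUnitIso f'
  let η : (GrothLib.BCCoh.TF f' G).obj (ModuleCat.of B B) ≅ G :=
    ((DCoh.tensorBi (X := X')).mapIso η₁).app G ≪≫ GrothLib.OX.tensorUnitLeftIso G
  obtain ⟨e', -⟩ := GrothLib.FormalFn.exists_hh_equiv (A := B) η i
  exact ⟨LinearEquiv.trans e e'⟩

end Groth.Agent.S0035
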