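import Groth.Statements.S0036
import Groth.Agent.Lib.Cohom.RpushModules

set_option autoImplicit false
universe u
open Coherent

namespace Groth.Agent.S0036

open AlgebraicGeometry CategoryTheory in
/-- Let S be locally Noetherian, f : X → S proper and F a coherent O_X-module. Then R^i f_* F is a
coherent O_S-module for all i. (Carries the not-yet-in-Mathlib fact that X.Modules has injective
resolutions as an instance argument.) -/
theorem result {X S : Scheme.{u}} (f : X ⟶ S) [IsProper f]
    [IsLocallyNoetherian S] [HasInjectiveResolutions X.Modules] (M : X.Modules) (hM : Coh.IsCoh M)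
    (i : ℕ) : Coh.IsCoh ((Coh.Rpush f i).obj M) := by
  exact GrothLib.Cohom.isCoh_Rpush f M hM i

end Groth.Agent.S0036
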