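import Groth.Statements.S0039
import Groth.Agent.Lib.FormalExist7.MorAlg

set_option autoImplicit false
universe u
open Coherent

namespace Groth.Agent.S0039

open AlgebraicGeometry CategoryTheory CategoryTheory.Limits in
/-- Let A be Noetherian and complete for an ideal I, X proper over A and Y separated of finite type over
A. Write X_n, Y_n for the base changes to A/I^(n+1). Then every system of morphisms g_n : X_n → Y_n
over A/I^(n+1), compatible with the transition maps, is induced by a morphism X → Y over A. (The
published statement also asserts uniqueness, but only existence is stated here.) -/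
theorem result (A : Type u) [CommRing A] [IsNoetherianRing A]
    (I : Ideal A) [IsAdicComplete I A] {X Y : Scheme.{u}} (f : X ⟶ Spec (CommRingCat.of A))
    (h : Y ⟶ Spec (CommRingCat.of A)) [IsProper f] [IsSeparated h] [LocallyOfFiniteType h]
    [QuasiCompact h] (g : (n : ℕ) → (CohB1.thick f I n ⟶ CohB1.thick h I n))
    (hg₁ : ∀ n, g n ≫ CohB1.thickToBase h I n = CohB1.thickToBase f I n)
    (hg₂ : ∀ n, CohB1.thickTrans f I n ≫ g (n + 1) = g n ≫ CohB1.thickTrans h I n) :
    ∃ φ : X ⟶ Y, φ ≫ h = f ∧ ∀ n, CohB1.thickι f I n ≫ φ = g n ≫ CohB1.thickι h I n := GrothLib.FormalExist7.exists_hom_of_thick I f h g hg₁ hg₂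

end Groth.Agent.S0039
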