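import Groth.Statements.S0043
import Groth.Agent.Lib.QAffAcyclic9.Basic
import Groth.Agent.Lib.AssPts.Flat

set_option autoImplicit false
universe u
open Coherent

namespace Groth.Agent.S0043

open AlgebraicGeometry in
/-- If X is quasi-affine and H^p(X, O_X) = 0 for all p > 0, then X is affine. -/
theorem result (X : Scheme.{u}) [X.IsQuasiAffine]
    (h : ∀ p : ℕ, 0 < p → Subsingleton (Coh.HH X (Coh.structureModule X) p)) : IsAffine X := by
  classical
  letI hover : X.Over (Spec (CommRingCat.of Γ(X, ⊤))) := ⟨X.toSpecΓ⟩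
  have hb : Function.Bijective (Coh.toGlobal X.toSpecΓ) := by
    have e : ∀ a, Coh.toGlobal X.toSpecΓ a = a := fun a => by
      show (CategoryTheory.CategoryStruct.comp (Scheme.ΓSpecIso Γ(X, ⊤)).inv X.toSpecΓ.appTop) a = a
      rw [Scheme.toSpecΓ_appTop, CategoryTheory.Iso.inv_hom_id]
      rfl
    exact ⟨fun a b hab => (e a).symm.trans (hab.trans (e b)), fun b => ⟨b, e b⟩⟩
  have key : ∀ x : X, ∃ r : Γ(X, ⊤), IsAffineOpen (X.basicOpen r) ∧ x ∈ X.basicOpen r := by
    intro x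
    obtain ⟨_, ⟨r, hr, rfl⟩, hx, -⟩ := TopologicalSpace.Opens.isBasis_iff_nbhd.1
      (Scheme.IsQuasiAffine.isBasis_basicOpen X) (TopologicalSpace.Opens.mem_top x)
    exact ⟨r, hr, hx⟩
  choose r hr hxr using key
  obtain ⟨t, ht⟩ := isCompact_univ.elim_finite_subcover (fun x : X => (X.basicOpen (r x) : Set X))
    (fun x => (X.basicOpen (r x)).2) fun x _ => Set.mem_iUnion.2 ⟨x, hxr x⟩
  have hcov : (⨆ k : {x // x ∈ t}, X.basicOpen (r k.1)) = ⊤ := eq_top_iff.2 fun x _ => by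
    obtain ⟨y, hy, hxy⟩ := Set.mem_iUnion₂.1 (ht (Set.mem_univ x))
    exact TopologicalSpace.Opens.mem_iSup.2 ⟨⟨y, hy⟩, hxy⟩
  haveI : Flat X.toSpecΓ := inferInstance
  have hspan := GrothLib.QAffAcyclic9.span_eq_top (A := Γ(X, ⊤)) hb
    (fun x => GrothLib.AssPts.isFlatOverAt_structure X.toSpecΓ x) h
    (fun k : {x // x ∈ t} => r k.1) (fun k => X.basicOpen (r k.1)) (fun k => hr k.1)
    (fun k => by
      have e : GrothLib.BCCoh.psi X.toSpecΓ (X.basicOpen (r k.1)) (r k.1) =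
          X.presheaf.map (CategoryTheory.homOfLE (le_top (a := X.basicOpen (r k.1)))).op (r k.1) := by
        show X.presheaf.map _ ((CategoryTheory.CategoryStruct.comp (Scheme.ΓSpecIso Γ(X, ⊤)).inv X.toSpecΓ.appTop) (r k.1)) = _
        rw [Scheme.toSpecΓ_appTop, CategoryTheory.Iso.inv_hom_id]
        rfl
      show IsUnit (GrothLib.BCCoh.psi X.toSpecΓ (X.basicOpen (r k.1)) (r k.1))
      rw [e]
      exact RingedSpace.isUnit_res_basicOpen _ (r k.1)) hcov
  exact isAffine_of_isAffineOpen_basicOpen _ hspan (by rintro _ ⟨k, rfl⟩; exact hr k.1)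

end Groth.Agent.S0043
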