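import Groth.Statements.S0045
import Groth.Agent.Lib.QCoh.Devissage
import Mathlib.CategoryTheory.Subobject.Basic

set_option autoImplicit false
universe u
open Coherent

namespace Groth.Agent.S0045

open AlgebraicGeometry CategoryTheory in
/-- On a Noetherian scheme, any increasing sequence of quasi-coherent submodules of a coherent module is
eventually constant. -/
theorem result (X : Scheme.{u}) [IsNoetherian X] (M : X.Modules)
    (hM : Coh.IsCoh M) (F : ℕ →o Subobject M) (hF : ∀ n, Coh.IsQCoh ((F n : Subobject M) : X.Modules)) :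
    ∃ n : ℕ, ∀ m : ℕ, n ≤ m → F m = F n := by
  obtain ⟨n, hn⟩ := GrothLib.QCoh.exists_stable M hM (fun k ↦ ((F k : Subobject M) : X.Modules)) hF
    (fun k ↦ (F k).arrow) (fun k ↦ Subobject.ofLE _ _ (F.monotone k.le_succ))
    (fun k ↦ Subobject.ofLE_arrow _)
  refine ⟨n, fun m hm ↦ ?_⟩
  induction m, hm using Nat.le_induction with
  | base => rfl
  | succ m hm ih =>
    have := hn m hm
    refine Eq.trans ?_ ih
    refine le_antisymm (Subobject.le_of_comm
      (inv (Subobject.ofLE _ _ (F.monotone m.le_succ))) ?_) (F.monotone m.le_succ)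
    rw [IsIso.inv_comp_eq, Subobject.ofLE_arrow]

end Groth.Agent.S0045
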