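import Groth.Statements.S0047
import Groth.Agent.Lib.Euler.Vanish
import Groth.Agent.Lib.QCoh.Support

set_option autoImplicit false
universe u
open Coherent CategoryTheory Opposite

namespace Groth.Agent.S0047

open AlgebraicGeometry in
/-- On a locally Noetherian scheme, a coherent module whose support consists of closed points (i.e. has
dimension ≤ 0) satisfies H^i(X, F) = 0 for all i > 0. (Global generation is not stated.) -/
theorem result (X : Scheme.{u}) [IsLocallyNoetherian X]
    (M : X.Modules) (hM : Coh.IsCoh M) (h0 : ∀ x ∈ CohB1.support M, IsClosed ({x} : Set X))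
    (i : ℕ) (hi : 0 < i) : Subsingleton (Coh.HH X M i) := by
  have hS : IsClosed (CohB1.support M) := GrothLib.QCoh.isClosed_support M hM.2
  have hfin : ∀ U : X.Opens, IsAffineOpen U → (CohB1.support M ∩ (U : Set X)).Finite := by
    intro U hU
    haveI : IsAffine (U : Scheme.{u}) := hU
    haveI : IsNoetherian (U : Scheme.{u}) := { }
    have hf := GrothLib.Euler.finite_of_closed_points (X := (U : Scheme.{u}))
      (Z := U.ι ⁻¹' CohB1.support M) (hS.preimage U.ι.continuous) (fun x hx => by
        have := (h0 _ hx).preimage U.ι.continuous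
        rwa [← Set.image_singleton, Set.preimage_image_eq _ U.ι.isOpenEmbedding.injective] at this)
    refine (hf.image U.ι).subset fun x hx => ?_
    exact ⟨⟨x, hx.2⟩, hx.1, rfl⟩
  have hfl : TopCat.Sheaf.IsFlasque (X := X.carrier) (Coh.toAb M) := by
    refine ⟨fun {U V} i => (AddCommGrpCat.epi_iff_surjective _).2 fun s => ?_⟩
    obtain ⟨U⟩ := U
    obtain ⟨V⟩ := V
    have hVU : V ≤ U := i.unop.le
    have hTc : IsClosed (CohB1.support M ∩ (V : Set X)) := by
      refine ⟨isOpen_iff_forall_mem_open.2 fun x hx => ?_⟩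
      obtain ⟨W, hW, hxW, -⟩ := exists_isAffineOpen_mem_and_subset (x := x) (U := (⊤ : X.Opens)) trivial
      have hc : IsClosed (CohB1.support M ∩ (V : Set X) ∩ (W : Set X)) := by
        rw [← Set.biUnion_of_singleton (CohB1.support M ∩ (V : Set X) ∩ (W : Set X))]
        exact (((hfin W hW).subset fun y hy => ⟨hy.1.1, hy.2⟩)).isClosed_biUnion fun y hy => h0 y hy.1.1
      exact ⟨(W : Set X) ∩ (CohB1.support M ∩ (V : Set X) ∩ (W : Set X))ᶜ,
        fun y hy hy' => hy.2 ⟨hy', hy.1⟩, W.isOpen.inter hc.isOpen_compl, hxW, fun h => hx h.1⟩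
    let W : X.Opens := U ⊓ ⟨(CohB1.support M ∩ (V : Set X))ᶜ, hTc.isOpen_compl⟩
    let op' : ULift.{u} Bool → X.Opens := fun b => if b.down then V else W
    let sf : ∀ b : ULift.{u} Bool, Γ(M, op' b) := fun
      | ⟨true⟩ => s
      | ⟨false⟩ => 0
    have hzero : ∀ (T : X.Opens) (hT : T ≤ V), T ≤ W →
        M.presheaf.map (homOfLE hT).op (show Γ(M, V) from s) = 0 := by
      intro T hT hTW
      refine GrothLib.QCoh.section_eq_zero_of_germ M _ fun x hx => ?_
      have : Subsingleton (M.presheaf.stalk x) :=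
        GrothLib.QCoh.stalk_subsingleton_of_notMem fun h => (hTW hx).2 ⟨h, hT hx⟩
      exact Subsingleton.elim _ _
    have hcompat : TopCat.Presheaf.IsCompatible M.presheaf op' sf := by
      rintro ⟨_ | _⟩ ⟨_ | _⟩
      · rfl
      · exact (map_zero _).trans (hzero _ inf_le_right inf_le_left).symm
      · exact (hzero _ inf_le_left inf_le_right).trans (map_zero _).symm
      · rfl
    obtain ⟨t, ht, -⟩ := TopCat.Sheaf.existsUnique_gluing' ⟨M.presheaf, M.isSheaf⟩ op' U
      (fun b => homOfLE (match b with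
        | ⟨true⟩ => hVU
        | ⟨false⟩ => inf_le_left))
      (fun x hx => TopologicalSpace.Opens.mem_iSup.2 (by
        by_cases hxV : x ∈ V
        · exact ⟨⟨true⟩, hxV⟩
        · exact ⟨⟨false⟩, hx, fun h => hxV h.2⟩)) sf hcompat
    exact ⟨t, ht ⟨true⟩⟩
  obtain ⟨m, rfl⟩ := Nat.exists_eq_succ_of_ne_zero (by omega : i ≠ 0)
  exact GrothLib.SheafCoh.flasque_H_subsingleton (X := X.carrier) (Coh.toAb M) m

end Groth.Agent.S0047
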