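import Groth.Statements.S0048
import Groth.Agent.Lib.QCoh.Killed
import Groth.Agent.Lib.QCoh.SupportExact
import Groth.Agent.Lib.Cohom.RpushModules

set_option autoImplicit false
universe u
open Coherent

namespace Groth.Agent.S0048

open AlgebraicGeometry in
/-- Let U ⊆ X be open and T ⊆ U a subset closed in X. If F is a coherent (quasi-coherent of finite type,
i.e. `Coh.IsCoh`) module on U with support contained in T, then its direct image along U ↪ X is
again coherent in the same sense. (The published statement is for coherent modules in the usual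
sense; here both hypothesis and conclusion use the notion `Coh.IsCoh`.) -/
theorem result (X : Scheme.{u}) (U : X.Opens) (T : Set X)
    (hT : IsClosed T) (hTU : T ⊆ (U : Set X)) (F : (↑U : Scheme.{u}).Modules) (hF : Coh.IsCoh F)
    (hs : ∀ x : ↥U, x ∈ CohB1.support F → (x : X) ∈ T) : Coh.IsCoh ((Coh.push U.ι).obj F) := by
  let O : X.Opens := ⟨Tᶜ, hT.isOpen_compl⟩
  let P := (Scheme.Modules.pushforward U.ι).obj F
  have hO : ∀ B : X.Opens, B ≤ O → Subsingleton Γ(P, B) := fun B hB ↦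
    subsingleton_of_forall_eq 0 fun s ↦ GrothLib.QCoh.section_eq_zero_of_germ F (U := U.ι ⁻¹ᵁ B) s
      fun y hy ↦ (GrothLib.QCoh.notMem_support_iff F y).1 (fun h ↦ hB hy (hs y h)) _ hy s
  have hUO : U ⊔ O = ⊤ := eq_top_iff.2 fun x _ ↦ (em (x ∈ T)).imp (fun h ↦ hTU h) id
  have hq : P.IsQuasicoherent := by
    refine GrothLib.QCoh.isQuasicoherent_of_restrict P
      (fun b : ULift.{u} Bool ↦ cond b.down U O) ?_ ?_
    · refine TopologicalSpace.IsOpenCover.mk (eq_top_iff.2 (hUO.ge.trans (sup_le ?_ ?_)))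
      · exact le_iSup (fun b : ULift.{u} Bool ↦ cond b.down U O) ⟨true⟩
      · exact le_iSup (fun b : ULift.{u} Bool ↦ cond b.down U O) ⟨false⟩
    · rintro ⟨_ | _⟩
      · refine (GrothLib.QCoh.isQuasicoherent_iff_smulLift_smulSep _).2 fun B _ g ↦
          ⟨fun s ↦ ⟨0, 0, ?_⟩, fun t _ ↦ ⟨0, ?_⟩⟩
        · exact @Subsingleton.elim _ (hO _ (O.ι_image_le _)) _ _
        · exact @Subsingleton.elim _ (hO _ (O.ι_image_le _)) _ _
      · have := hF.1
        exact GrothLib.QCoh.isQuasicoherent_of_iso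
          (M := F) ((Scheme.Modules.restrictFunctorAdjCounitIso U.ι).app F).symm
  refine ⟨hq, ?_⟩
  let ι := {B : X.affineOpens // B.1 ≤ U ∨ B.1 ≤ O}
  refine GrothLib.QCoh.isFiniteType_of_moduleFinite P (fun B : ι ↦ B.1.1) ?_ (fun B ↦ B.1.2) ?_
  · refine TopologicalSpace.IsOpenCover.mk (eq_top_iff.2 fun x _ ↦ ?_)
    obtain ⟨W, hxW, hW⟩ : ∃ W : X.Opens, x ∈ W ∧ (W = U ∨ W = O) := by
      rcases (hUO.ge (trivial : x ∈ (⊤ : X.Opens))) with h | h
      · exact ⟨U, h, Or.inl rfl⟩
      · exact ⟨O, h, Or.inr rfl⟩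
    obtain ⟨_, ⟨B, hB, rfl⟩, hxB, hBW⟩ :=
      X.isBasis_affineOpens.exists_subset_of_mem_open hxW W.isOpen
    exact TopologicalSpace.Opens.mem_iSup.2
      ⟨⟨⟨B, hB⟩, by rcases hW with rfl | rfl; exacts [Or.inl hBW, Or.inr hBW]⟩, hxB⟩
  · rintro ⟨⟨B, hB⟩, h | h⟩
    · have := hF.1
      have hB' : IsAffineOpen (U.ι ⁻¹ᵁ B) :=
        hB.preimage_of_isOpenImmersion U.ι (by rw [Scheme.Opens.opensRange_ι]; exact h)
      obtain ⟨S, hS⟩ := (GrothLib.QCoh.moduleFinite_of_isFiniteType F hF.2 hB').fg_top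
      have : CategoryTheory.IsIso (U.ι.app B) := U.ι.isIso_app B (by rw [Scheme.Opens.opensRange_ι]; exact h)
      suffices h' : ∀ m : Γ(P, B), m ∈ Submodule.span Γ(X, B)
          ((id (α := Finset Γ(P, B)) S : Finset Γ(P, B)) : Set Γ(P, B)) from
        ⟨⟨_, eq_top_iff.2 fun m _ ↦ h' m⟩⟩
      intro m
      have hm : m ∈ Submodule.span Γ(U, U.ι ⁻¹ᵁ B) (S : Set Γ(F, U.ι ⁻¹ᵁ B)) := by rw [hS]; trivial
      induction hm using Submodule.span_induction with
      | mem x hx => exact Submodule.subset_span hx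
      | zero => exact Submodule.zero_mem _
      | add x y _ _ hx hy => exact Submodule.add_mem _ hx hy
      | smul a x _ hx =>
        obtain ⟨r, rfl⟩ := ((CategoryTheory.ConcreteCategory.isIso_iff_bijective (U.ι.app B)).1 this).2 a
        exact Submodule.smul_mem _ r hx
    · have := hO B h
      exact Module.Finite.of_finite

end Groth.Agent.S0048
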