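import Groth.Statements.S0049
import Groth.Agent.Lib.QCoh.Devissage

set_option autoImplicit false
universe u
open Coherent

namespace Groth.Agent.S0049

open AlgebraicGeometry CategoryTheory in
/-- On a Noetherian scheme, if the support of a coherent module F is the union of closed sets Z and Z',
there is a short exact sequence 0 → G' → F → G → 0 of coherent modules with G' supported in Z' and G
supported in Z. -/
theorem result (X : Scheme.{u}) [IsNoetherian X] (M : X.Modules) (hM : Coh.IsCoh M)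
    (Z Z' : Set X) (hZ : IsClosed Z) (hZ' : IsClosed Z') (h : CohB1.support M = Z ∪ Z') :
    ∃ S : ShortComplex X.Modules, S.ShortExact ∧ Nonempty (S.X₂ ≅ M) ∧ Coh.IsCoh S.X₁ ∧ Coh.IsCoh S.X₃ ∧
      CohB1.support S.X₁ ⊆ Z' ∧ CohB1.support S.X₃ ⊆ Z := by
  have := hM.1
  let P := GrothLib.QCoh.supported M Z'
  have hP : Coh.IsCoh P.obj := GrothLib.QCoh.supported_isCoh M hM hZ'
  have : Mono P.ι := GrothLib.QCoh.mono_of_app_injective _ P.ι_app_injective
  have hS : (ShortComplex.mk P.ι (Limits.cokernel.π P.ι) (Limits.cokernel.condition _)).ShortExact :=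
    ShortComplex.ShortExact.mk' (ShortComplex.exact_cokernel _) inferInstance inferInstance
  refine ⟨_, hS, ⟨Iso.refl M⟩, hP, GrothLib.QCoh.isCoh_cokernel _ hP hM, fun x hx ↦ ?_, fun x hx ↦ ?_⟩
  · by_contra hxZ
    refine absurd hx ((GrothLib.QCoh.notMem_support_iff _ x).2 fun V hV z ↦ ?_)
    apply GrothLib.QCoh.stalkLin_injective P.ι x
    rw [map_zero, GrothLib.QCoh.stalkLin_germ]
    exact P.ι_app_mem z x hV hxZ
  · by_contra hxZ
    refine GrothLib.QCoh.notMem_support_cokernel_of_surjective P.ι ?_ hx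
    intro e
    obtain ⟨V, hV, s, rfl⟩ := TopCat.Presheaf.exists_germ_eq M.presheaf e
    let V' : X.Opens := V ⊓ ⟨Zᶜ, hZ.isOpen_compl⟩
    have hxV' : x ∈ V' := ⟨hV, hxZ⟩
    have hmem : M.presheaf.map (homOfLE inf_le_left).op s ∈ P.sec V' := fun y hy hy' ↦ by
      have hy0 : y ∉ CohB1.support M := fun hyM ↦ (h.le hyM).elim hy.2 hy'
      exact (GrothLib.QCoh.notMem_support_iff M y).1 hy0 V' hy _
    refine ⟨P.obj.presheaf.germ V' x hxV' (P.lift _ hmem), ?_⟩
    rw [GrothLib.QCoh.stalkLin_germ, GrothLib.QCoh.SubData.ι_app_lift]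
    exact GrothLib.QCoh.germ_map M (homOfLE inf_le_left) hxV' s

end Groth.Agent.S0049
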