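import Groth.Statements.S0066
import Groth.Agent.Lib.EtBasicB.LocalRings
-- import your own Groth.Agent.* helpers here

set_option autoImplicit false
open CategoryTheory CategoryTheory.Limits AlgebraicGeometry Opposite
universe u
open EtBase

namespace Groth.Agent.S0066

/-- For an étale morphism f : X → Y with Y locally Noetherian and a point x of X, the local ring O_{X,x}
is a normal domain (a domain which is integrally closed in its fraction field) if and only if
O_{Y,f(x)} is. -/
theorem result {X Y : Scheme.{u}} (f : X ⟶ Y) [AlgebraicGeometry.Etale f]
    [IsLocallyNoetherian Y] (x : X) :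
    (IsDomain (X.presheaf.stalk x) ∧ IsIntegrallyClosed (X.presheaf.stalk x)) ↔
      (IsDomain (Y.presheaf.stalk (f.base x)) ∧ IsIntegrallyClosed (Y.presheaf.stalk (f.base x))) := GrothLib.EtBasicB.isNormal_stalk_iff f x

end Groth.Agent.S0066
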