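import Groth.Statements.S0068
import Groth.Agent.Lib.EtSite.Immersion
-- import your own Groth.Agent.* helpers here

set_option autoImplicit false
open CategoryTheory CategoryTheory.Limits AlgebraicGeometry Opposite
universe u
open EtBase

namespace Groth.Agent.S0068

/-- Part (2), second half — an abelian étale sheaf is a pushforward from a closed subscheme exactly when
its sections vanish over every étale scheme mapping into the open complement. -/
theorem result {Z X : Scheme.{u}} (i : Z ⟶ X) [IsClosedImmersion i] [EtCoh.BCCont i]
    (F : EtCoh.Ab X) :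
    (EtCoh.push i).essImage F ↔
      ∀ U : X.Etale, Disjoint (Set.range U.hom.base) (Set.range i.base) → IsZero (F.obj.obj (op U)) := by
  constructor
  · rintro ⟨G, ⟨e⟩⟩ U hU
    have : IsEmpty ((EtCoh.bc i).obj U).left := ⟨fun p => by
      let p : ↥(pullback U.hom i) := p
      refine Set.disjoint_left.1 hU ⟨pullback.fst U.hom i p, rfl⟩ ⟨pullback.snd U.hom i p, ?_⟩
      rw [← Scheme.Hom.comp_apply, ← pullback.condition]
      rfl⟩
    have : Subsingleton (((EtCoh.push i).obj G).obj.obj (op U)) :=
      GrothLib.EtSite.subsingleton_sect_of_isEmpty G ((EtCoh.bc i).obj U)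
    exact IsZero.of_iso (AddCommGrpCat.isZero_of_subsingleton (((EtCoh.push i).obj G).obj.obj (op U)))
      (((sheafToPresheaf _ _).mapIso e).app (op U)).symm
  · intro hF
    have := GrothLib.EtSite.isIso_unit_of_vanish i F fun U hU =>
      AddCommGrpCat.subsingleton_of_isZero (hF U hU)
    exact ⟨_, ⟨(asIso ((EtCoh.pullPushAdj i).unit.app F)).symm⟩⟩

end Groth.Agent.S0068
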