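import Groth.Statements.S0069
import Groth.Agent.Lib.EtSite.Immersion
-- import your own Groth.Agent.* helpers here

set_option autoImplicit false
open CategoryTheory CategoryTheory.Limits AlgebraicGeometry Opposite
universe u
open EtBase

namespace Groth.Agent.S0069

/-- Abelian case, first half — the pushforward along a closed immersion has zero stalk at geometric
points outside the closed subscheme. -/
theorem result {Z X : Scheme.{u}} (i : Z ⟶ X) [IsClosedImmersion i] [EtCoh.BCCont i]
    (G : EtCoh.Ab Z) {Ω : Type u} [Field Ω] [IsSepClosed Ω] (ξ : Spec (CommRingCat.of Ω) ⟶ X)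
    (hξ : Disjoint (Set.range ξ.base) (Set.range i.base)) :
    IsZero ((EtCoh.stalk ξ).obj ((EtCoh.push i).obj G)) := GrothLib.EtSite.stalk_push_isZero i G ξ
    (Set.disjoint_left.1 hξ ⟨default, rfl⟩)

end Groth.Agent.S0069
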