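import Groth.Statements.S0071
import Groth.Agent.Lib.EtSite.PushExact
-- import your own Groth.Agent.* helpers here

set_option autoImplicit false
open CategoryTheory CategoryTheory.Limits AlgebraicGeometry Opposite
universe u
open EtBase

namespace Groth.Agent.S0071

/-- Part (2) — higher direct images of an abelian étale sheaf along a finite morphism vanish in positive
degrees. -/
theorem result {X Y : Scheme.{u}} (f : X ⟶ Y) [IsFinite f] [EtCoh.BCCont f]
    (F : EtCoh.Ab X) (q : ℕ) (hq : 1 ≤ q) : IsZero ((EtCoh.Rpush f q).obj F) := GrothLib.EtSite.isZero_Rpush_of_integral f F q hq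

end Groth.Agent.S0071
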