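import Groth.Statements.S0072
import Groth.Agent.Lib.EtSite.PushStalk
-- import your own Groth.Agent.* helpers here

set_option autoImplicit false
open CategoryTheory CategoryTheory.Limits AlgebraicGeometry Opposite
universe u
open EtBase

namespace Groth.Agent.S0072

/-- Let f : X → Y be a finite morphism of schemes, F an abelian sheaf on X_ét, and η : Spec Ω → Y a
geometric point with Ω algebraically closed. Then the stalk (f_*F)_η is isomorphic to the direct sum
of the stalks F_ξ over the geometric points ξ : Spec Ω → X lying over η (those with f ∘ ξ = η). Only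
the existence of an isomorphism is asserted; the published statement gives a canonical
identification. -/
theorem result {X Y : Scheme.{u}} (f : X ⟶ Y) [IsFinite f] [EtCoh.BCCont f]
    (F : EtCoh.Ab X) {Ω : Type u} [Field Ω] [IsAlgClosed Ω] (η : Spec (CommRingCat.of Ω) ⟶ Y) :
    Nonempty ((EtCoh.stalk η).obj ((EtCoh.push f).obj F) ≅
      ∐ fun ξ : {ξ : Spec (CommRingCat.of Ω) ⟶ X // ξ ≫ f = η} => (EtCoh.stalk ξ.1).obj F) := by
  classical
  have := GrothLib.EtSite.finite_points_over f η
  let a : (EtCoh.stalk η).obj ((EtCoh.push f).obj F) ⟶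
      ∏ᶜ fun ξ : {ξ : Spec (CommRingCat.of Ω) ⟶ X // ξ ≫ f = η} => (EtCoh.stalk ξ.1).obj F :=
    Pi.lift fun ξ => GrothLib.EtSite.ev f ξ.1 ξ.2 F
  have ha : Function.Bijective a := by
    refine (Function.Bijective.of_comp_iff' (Concrete.productEquiv _).bijective a).1 ?_
    convert GrothLib.EtSite.ev_bijective f F (η := η) using 1
    ext p ξ
    simp [a, ← ConcreteCategory.comp_apply]
  have : IsIso a := (ConcreteCategory.isIso_iff_bijective a).2 ha
  exact ⟨asIso a ≪≫ (biproduct.isoProduct _).symm ≪≫ biproduct.isoCoproduct _⟩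

end Groth.Agent.S0072
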