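import Groth.Statements.S0078
import Groth.Agent.Lib.EtSemilin.Frobenius
-- import your own Groth.Agent.* helpers here

set_option autoImplicit false
universe u
open EtBase

namespace Groth.Agent.S0078

/-- Second half — for such an F the fixed vectors F v = v form a finite set of size at most p ^ dim V
(an F_p-space of dimension at most dim V). -/
theorem result {k V : Type u} [Field k] [IsAlgClosed k] (p : ℕ) [Fact p.Prime] [CharP k p]
    [AddCommGroup V] [Module k V] [FiniteDimensional k V] (F : V →+ V)
    (hF : ∀ (c : k) (v : V), F (c • v) = c ^ p • F v) :
    Set.Finite {v : V | F v = v} ∧ Nat.card {v : V | F v = v} ≤ p ^ Module.finrank k V := GrothLib.Semilin.finite_fixed p F hF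

end Groth.Agent.S0078
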