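import Groth.Statements.S0093
import Groth.Agent.Lib.AICAcyc18.Basic
-- import your own Groth.Agent.* helpers here

set_option autoImplicit false
set_option backward.isDefEq.respectTransparency false
set_option backward.isDefEq.respectTransparency.types false
open CategoryTheory CategoryTheory.Limits AlgebraicGeometry Opposite
universe u
open EtBase

namespace Groth.Agent.S0093

theorem isSepClosed_functionField (T : CommRingCat.{u}) (L : Type u) [IsDomain T] [Field L] [Algebra T L]
    [IsFractionRing T L] [IsSepClosed L] : IsSepClosed (Spec T).functionField :=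
  GrothLib.AICAcyc18.isSepClosed_of_ringEquiv
    (IsLocalization.algEquiv (nonZeroDivisors T) L (Spec T).functionField).toRingEquiv

theorem isIntegrallyClosed_stalk (T : Type u) [CommRing T] [IsDomain T] [IsIntegrallyClosed T]
    (y : Spec (CommRingCat.of T)) : IsIntegrallyClosed ((Spec (CommRingCat.of T)).presheaf.stalk y) := by
  haveI : IsDomain ((Spec.structureSheaf T).presheaf.stalk y) :=
    IsLocalization.isDomain_of_le_nonZeroDivisors ((Spec.structureSheaf T).presheaf.stalk y) y.asIdeal.primeCompl_le_nonZeroDivisors
  exact isIntegrallyClosed_of_isLocalization (R := T) ((Spec.structureSheaf T).presheaf.stalk y)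
    y.asIdeal.primeCompl y.asIdeal.primeCompl_le_nonZeroDivisors

/-- Part (1) — every affine scheme admits an integral surjective morphism from a scheme all of whose
closed subschemes have vanishing positive-degree étale cohomology with finite constant coefficients. -/
theorem result (X : Scheme.{u}) [IsAffine X] :
    ∃ (X' : Scheme.{u}) (π : X' ⟶ X) (_ : IsIntegralHom π) (_ : Surjective π),
      ∀ (Z' : Scheme.{u}) (i : Z' ⟶ X') (_ : IsClosedImmersion i)
        (M : Type) (_ : AddCommGroup M) (_ : Finite M) (q : ℕ), 1 ≤ q →
        Subsingleton (EtCoh.H Z' (EtCoh.const Z' M) q) := by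
  let A : Type u := Γ(X, ⊤)
  let R : Type u := MvPolynomial A (ULift.{u} ℤ)
  let ρ : R →+* A := MvPolynomial.eval₂Hom ((Int.castRingHom A).comp ULift.ringEquiv.toRingHom) id
  have hρ : Function.Surjective ρ := fun a => ⟨MvPolynomial.X a, MvPolynomial.eval₂Hom_X' _ _ _⟩
  haveI : IsDomain (ULift.{u} ℤ) := MulEquiv.isDomain ℤ ULift.ringEquiv.toMulEquiv
  haveI : IsDomain R := inferInstanceAs (IsDomain (MvPolynomial A (ULift.{u} ℤ)))
  let L := AlgebraicClosure (FractionRing R)
  haveI : Algebra.IsAlgebraic R L :=
    (IsFractionRing.comap_isAlgebraic_iff (A := R) (K := FractionRing R) (C := L)).2 inferInstance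
  have hinj : Function.Injective (algebraMap R L) := by
    rw [IsScalarTower.algebraMap_eq R (FractionRing R) L, RingHom.coe_comp]
    exact (algebraMap (FractionRing R) L).injective.comp (IsFractionRing.injective R (FractionRing R))
  let S := integralClosure R L
  haveI : IsFractionRing S L :=
    integralClosure.isFractionRing_of_algebraic (fun x hx => (map_eq_zero_iff _ hinj).1 hx)
  haveI : IsIntegrallyClosed S := (isIntegrallyClosed_iff L).2 fun {x} hx =>
    ⟨⟨x, isIntegral_trans x hx⟩, rfl⟩
  let q : Spec (.of S) ⟶ Spec (.of R) := Spec.map (CommRingCat.ofHom (algebraMap R S))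
  haveI : IsIntegralHom q := (IsIntegralHom.SpecMap_iff).2 (algebraMap_isIntegral_iff.2 inferInstance)
  haveI : Surjective q := ⟨fun P => by
    have hk : RingHom.ker (algebraMap R S) = ⊥ := (RingHom.injective_iff_ker_eq_bot _).1
      (fun a b h => hinj (congrArg Subtype.val h))
    obtain ⟨Q, hQ, hQP⟩ := Ideal.exists_ideal_over_prime_of_isIntegral_of_isDomain (S := S) P.asIdeal
      (hk ▸ bot_le)
    exact ⟨⟨Q, hQ⟩, PrimeSpectrum.ext hQP⟩⟩
  let c : X ⟶ Spec (.of R) := X.isoSpec.hom ≫ Spec.map (CommRingCat.ofHom ρ)
  haveI : IsClosedImmersion (Spec.map (CommRingCat.ofHom ρ)) := IsClosedImmersion.spec_of_surjective _ hρ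
  haveI : IsClosedImmersion (pullback.snd c q) := MorphismProperty.pullback_snd c q inferInstance
  haveI : IsIntegral (Spec (CommRingCat.of S)) := inferInstance
  haveI : IsSepClosed (Spec (CommRingCat.of S)).functionField := @isSepClosed_functionField (CommRingCat.of S) L (inferInstanceAs (IsDomain S)) _ _ (show IsFractionRing S L from inferInstance) _
  have hN := isIntegrallyClosed_stalk S
  refine ⟨pullback c q, pullback.fst c q, MorphismProperty.pullback_fst c q inferInstance,
    MorphismProperty.pullback_fst c q inferInstance, fun Z' i _ M _ _ n hn => ?_⟩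
  obtain ⟨m, rfl⟩ : ∃ m, n = m + 1 := ⟨n - 1, by omega⟩
  exact GrothLib.AICAcyc18.subsingleton_H (i ≫ pullback.snd c q) M hN m

end Groth.Agent.S0093
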