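import Groth.Statements.S0095
import Groth.Agent.Lib.EtSite.ConnFibres
import Groth.Agent.Lib.BaseChange.Irred
-- import your own Groth.Agent.* helpers here

set_option autoImplicit false
open CategoryTheory CategoryTheory.Limits AlgebraicGeometry Opposite
universe u
open EtBase

namespace Groth.Agent.S0095

/-- For a scheme over a separably closed field k and a field extension K of k, global sections of an
abelian étale sheaf do not change under base change to K (the source proves this for sheaves of
sets; the abelian case is stated). -/
theorem result {k K : Type u} [Field k] [IsSepClosed k] [Field K] [Algebra k K]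
    {S : Scheme.{u}} (a : S ⟶ Spec (CommRingCat.of k))
    [EtCoh.BCCont (pullback.fst a (Spec.map (CommRingCat.ofHom (algebraMap k K))))]
    (F : EtCoh.Ab S) :
    Function.Bijective (((EtCoh.pullPushAdj
      (pullback.fst a (Spec.map (CommRingCat.ofHom (algebraMap k K))))).unit.app F).hom.app
        (op (EtCoh.top S))) := by
  haveI := GrothLib.BaseChange.geometricallyIrreducible_spec_of_isSepClosed k K
  let m := Spec.map (CommRingCat.ofHom (algebraMap k K))
  haveI : GeometricallyIrreducible (pullback.fst a m) := inferInstance
  refine GrothLib.ConnFibres.bijective_unit_top (pullback.fst a m) (fun S' g => ?_) (fun Ω _ _ s => ?_) F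
  · haveI : Surjective m := ⟨fun _ => ⟨default, Subsingleton.elim (α := Spec (CommRingCat.of k)) _ _⟩⟩
    haveI : Flat m := inferInstance
    haveI : QuasiCompact m := inferInstance
    haveI : Flat (pullback.fst a m) := MorphismProperty.pullback_fst a m ‹_›
    haveI : QuasiCompact (pullback.fst a m) := MorphismProperty.pullback_fst a m ‹_›
    haveI : Surjective (pullback.fst a m) := MorphismProperty.pullback_fst a m ‹_›
    haveI : QuasiCompact (pullback.snd (pullback.fst a m) g) := MorphismProperty.pullback_snd (pullback.fst a m) g ‹_›
    haveI : Flat (pullback.snd (pullback.fst a m) g) := MorphismProperty.pullback_snd (pullback.fst a m) g ‹_›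
    haveI : Surjective (pullback.snd (pullback.fst a m) g) := MorphismProperty.pullback_snd (pullback.fst a m) g ‹_›
    exact Flat.isQuotientMap_of_surjective _
  · haveI := GeometricallyIrreducible.geometrically_irreducibleSpace (f := pullback.fst a m) _ _ _
      (IsPullback.of_hasPullback (pullback.fst a m) s)
    infer_instance

end Groth.Agent.S0095
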