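import Groth.Statements.S0096
import Groth.Agent.Lib.EtLocal.Decomp
-- import your own Groth.Agent.* helpers here

set_option autoImplicit false
open CategoryTheory CategoryTheory.Limits AlgebraicGeometry Opposite
universe u
open EtBase

namespace Groth.Agent.S0096

/-- A finite unramified morphism becomes, after base change to a suitable étale neighbourhood of any
point of the base, a finite disjoint union of closed immersions. -/
theorem result {X S : Scheme.{u}} (f : X ⟶ S) [IsFinite f] [FormallyUnramified f] (s : S) :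
    ∃ (U : Scheme.{u}) (g : U ⟶ S) (_ : AlgebraicGeometry.Etale g) (u : U) (_ : g.base u = s)
      (n : ℕ) (V : Fin n → Scheme.{u}) (c : ∀ j, V j ⟶ U) (_ : ∀ j, IsClosedImmersion (c j))
      (e : (∐ V) ≅ pullback f g), ∀ j, Sigma.ι V j ≫ e.hom ≫ pullback.snd f g = c j := by
  haveI : Finite (f ⁻¹' {s} : Set X) := (f.finite_preimage_singleton s).to_subtype
  obtain ⟨m, ⟨φ⟩⟩ := Finite.exists_equiv_fin (f ⁻¹' {s} : Set X)
  let x : Fin m → X := fun i => (φ.symm i).1
  have hinj : Function.Injective x := Subtype.val_injective.comp φ.symm.injective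
  obtain ⟨U₀, g₀, u₀, hg₀, hgu, ⟨P₀⟩⟩ :=
    GrothLib.EtLocal.exists_parts_of_formallyUnramified f s x hinj (fun i => (φ.symm i).2)
  haveI := hg₀
  obtain ⟨U₁, u₁, P, W, hu₁, -, htop, hW, hdisj, hout⟩ := P₀.exists_decomposition
  haveI := P.fin
  have hWc : IsClosed (W : Set ↥(pullback f (U₁.ι ≫ g₀))) := by
    have : (W : Set ↥(pullback f (U₁.ι ≫ g₀))) = (⋃ k, (P.V k : Set ↥(pullback f (U₁.ι ≫ g₀))))ᶜ := by
      ext w
      refine ⟨fun hw h => ?_, fun h => ?_⟩
      · obtain ⟨k, hk⟩ := Set.mem_iUnion.1 h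
        exact Set.disjoint_left.1 (TopologicalSpace.Opens.coe_disjoint.2 (hW k)) hw hk
      · rcases TopologicalSpace.Opens.mem_sup.1 (htop.ge (trivial : w ∈ (⊤ : TopologicalSpace.Opens _))) with hw | hw
        · exact hw
        · obtain ⟨k, hk⟩ := TopologicalSpace.Opens.mem_iSup.1 hw
          exact absurd (Set.mem_iUnion.2 ⟨k, hk⟩) h
    rw [this]
    exact (isOpen_iUnion fun k => (P.V k).2).isClosed_compl
  let b := pullback.snd f (U₁.ι ≫ g₀)
  haveI : IsFinite b := MorphismProperty.pullback_snd _ _ inferInstance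
  let U₂ : U₁.toScheme.Opens := ⟨(b.base '' (W : Set _))ᶜ, (b.isClosedMap _ hWc).isOpen_compl⟩
  have hu₂ : u₁ ∈ U₂ := by
    rintro ⟨w, hw, hwu⟩
    have hfs : f.base ((pullback.fst f (U₁.ι ≫ g₀)).base w) = s := by
      rw [← Scheme.Hom.comp_apply, pullback.condition, Scheme.Hom.comp_apply]
      show (U₁.ι ≫ g₀).base (b.base w) = s
      rw [hwu, ← hgu, ← hu₁]
      rfl
    exact hout w (φ ⟨_, hfs⟩) hw hwu (by simp [x])
  let P₂ := P.shrink U₂ ⟨u₁, hu₂⟩ rfl (P.closed_restrict U₂)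
  haveI := P₂.fin
  obtain ⟨n, ⟨ψ⟩⟩ := Finite.exists_equiv_fin P₂.K
  let g := U₂.ι ≫ U₁.ι ≫ g₀
  obtain ⟨hc⟩ := nonempty_isColimit_cofanMk_of (fun j : Fin n => (P₂.V (ψ.symm j)).ι) (by
    refine eq_top_iff.2 fun w _ => TopologicalSpace.Opens.mem_iSup.2 ?_
    let r := GrothLib.EtLocal.restrictMap f (U₁.ι ≫ g₀) U₂
    rcases TopologicalSpace.Opens.mem_sup.1 (htop.ge (trivial : r.base w ∈ (⊤ : TopologicalSpace.Opens _))) with hw | hw
    · exfalso
      refine ((pullback.snd f g).base w).2 ⟨r.base w, hw, ?_⟩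
      exact congrArg (fun k => k.base w) (GrothLib.EtLocal.restrictMap_snd f (U₁.ι ≫ g₀) U₂)
    · obtain ⟨k, hk⟩ := TopologicalSpace.Opens.mem_iSup.1 hw
      refine ⟨ψ k, ⟨w, ?_⟩, rfl⟩
      show w ∈ P₂.V (ψ.symm (ψ k))
      rw [ψ.symm_apply_apply]
      exact hk) (fun i j hij => by
    show Disjoint (P₂.V (ψ.symm i)).ι.opensRange (P₂.V (ψ.symm j)).ι.opensRange
    rw [Scheme.Opens.opensRange_ι, Scheme.Opens.opensRange_ι, disjoint_iff_inf_le]
    rintro w ⟨hwi, hwj⟩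
    exact (Set.disjoint_left.1 (TopologicalSpace.Opens.coe_disjoint.2
      (hdisj _ _ (ψ.symm.injective.ne hij))) hwi hwj).elim)
  refine ⟨U₂.toScheme, g, inferInstanceAs (AlgebraicGeometry.Etale (U₂.ι ≫ U₁.ι ≫ g₀)), ⟨u₁, hu₂⟩, ?_, n,
    fun j => (P₂.V (ψ.symm j)).toScheme, fun j => (P₂.V (ψ.symm j)).ι ≫ pullback.snd f g,
    fun j => P₂.closed _, (coproductIsCoproduct _).coconePointUniqueUpToIso hc, fun j => ?_⟩
  · show g₀.base (U₁.ι.base u₁) = s
    rw [← hgu]
    exact congrArg g₀.base hu₁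
  · refine (Category.assoc _ _ _).symm.trans ?_
    exact congrArg (fun k => k ≫ pullback.snd f g) ((coproductIsCoproduct _).comp_coconePointUniqueUpToIso_hom hc ⟨j⟩)

end Groth.Agent.S0096
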