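import Groth.Statements.S0102
import Groth.Agent.Lib.EtSite.Points
import Mathlib.AlgebraicGeometry.Morphisms.UniversallyOpen

set_option autoImplicit false
open CategoryTheory CategoryTheory.Limits AlgebraicGeometry Opposite
universe u
open EtBase

namespace Groth.Agent.S0102

/-- A section of an abelian étale sheaf over an étale scheme U vanishes on pullback to an étale V → U
exactly when V maps into a certain largest open subset of U. -/
theorem result {S : Scheme.{u}} (F : EtCoh.Ab S) (U : S.Etale) (σ : EtCoh.sect F U) :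
    ∃ W : U.left.Opens, ∀ (V : S.Etale) (φ : V ⟶ U),
      F.obj.map φ.op σ = 0 ↔ Set.range φ.left.base ⊆ (W : Set U.left) := by
  classical
  let ι := {p : Σ V : S.Etale, V ⟶ U // F.obj.map p.2.op σ = 0}
  refine ⟨⟨⋃ p : ι, Set.range p.1.2.left.base, isOpen_iUnion fun p => (Scheme.Hom.isOpenMap p.1.2.left).isOpen_range⟩,
    fun V φ => ⟨fun h => Set.subset_iUnion_of_subset ⟨⟨V, φ⟩, h⟩ subset_rfl, fun h => ?_⟩⟩
  refine GrothLib.EtSite.section_eq_zero_of_germs F V _ fun Ω _ _ ξ t => ?_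
  obtain ⟨⟨⟨V', φ'⟩, hσ⟩, v', hv'⟩ := Set.mem_iUnion.1 (h ⟨t.left.base (default : Spec (CommRingCat.of Ω)), rfl⟩)
  obtain ⟨l, hl, -⟩ := Scheme.exists_fac_of_etale_of_isSepClosed φ'.left (t.left ≫ φ.left) v'
    (hv'.trans rfl)
  have hl' : l ≫ V'.hom = ξ := by
    have h1 : φ'.left ≫ U.hom = V'.hom := MorphismProperty.Over.w φ'
    have h2 : φ.left ≫ U.hom = V.hom := MorphismProperty.Over.w φ
    calc l ≫ V'.hom = l ≫ φ'.left ≫ U.hom := congrArg (l ≫ ·) h1.symm
      _ = (t.left ≫ φ.left) ≫ U.hom := by rw [← Category.assoc, hl]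
      _ = t.left ≫ V.hom := (Category.assoc _ _ _).trans (congrArg (t.left ≫ ·) h2)
      _ = ξ := Over.w t
  have key : (Scheme.pointSmallEtale ξ).fiber.map φ' (GrothLib.EtSite.fib ξ l hl') =
      (Scheme.pointSmallEtale ξ).fiber.map φ t := Over.OverMorphism.ext hl
  rw [GrothLib.EtSite.germ_map, ← key, ← GrothLib.EtSite.germ_map, hσ, map_zero]

end Groth.Agent.S0102
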