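import Groth.Statements.S0113
import Groth.Agent.Lib.FppfSource.Scheme
-- import your own Groth.Agent.* helpers here

set_option autoImplicit false
universe u
open EtBase

namespace Groth.Agent.S0113

/-- Finite type can be tested after a faithfully flat, finitely presented extension: given ring maps R →
A → B with B faithfully flat and of finite presentation over A, if B is of finite type over R then A
is of finite type over R. -/
theorem result {R A B : Type u} [CommRing R] [CommRing A] [CommRing B] [Algebra R A] [Algebra A B]
    [Algebra R B] [IsScalarTower R A B] [Algebra.FiniteType R B]
    [Module.FaithfullyFlat A B] [Algebra.FinitePresentation A B] : Algebra.FiniteType R A := GrothLib.FppfSource.finiteType (A := R) (B := A) (C := B)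

end Groth.Agent.S0113
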