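import Groth.Statements.S0118
import Groth.Agent.Lib.EtaleThick26.Glue
-- import your own Groth.Agent.* helpers here

set_option autoImplicit false
open CategoryTheory CategoryTheory.Limits AlgebraicGeometry Opposite
universe u
open EtBase

namespace Groth.Agent.S0118

/-- Base change to a closed subscheme with the same underlying space is an equivalence between the
categories of étale schemes over the two. -/
theorem result {S S₀ : Scheme.{u}} (i : S₀ ⟶ S) [IsClosedImmersion i] [Surjective i] :
    (EtCoh.bc i).IsEquivalence := by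
  haveI : (EtCoh.bc i).Full := ⟨fun {U V} g => by
    let pU : ((EtCoh.bc i).obj U).left ⟶ U.left := pullback.fst U.hom i
    let pV : ((EtCoh.bc i).obj V).left ⟶ V.left := pullback.fst V.hom i
    haveI : IsClosedImmersion pU := MorphismProperty.pullback_fst (P := @IsClosedImmersion) _ _ ‹_›
    haveI : Surjective pU := MorphismProperty.pullback_fst (P := @Surjective) _ _ ‹_›
    haveI : Etale V.hom := V.prop
    have w : pU ≫ U.hom = (g.left ≫ pV) ≫ V.hom := by
      refine pullback.condition.trans ?_
      refine Eq.trans ?_ (Category.assoc _ _ _).symm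
      refine Eq.trans ?_ (congrArg (g.left ≫ ·) pullback.condition.symm)
      exact (congrArg (· ≫ i) (MorphismProperty.Over.w g).symm).trans (Category.assoc _ _ _)
    obtain ⟨l, ⟨hl, hl'⟩, -⟩ := GrothLib.EtaleThick.existsUnique_lift pU V.hom (g.left ≫ pV) U.hom w
    refine ⟨MorphismProperty.Over.homMk l hl', MorphismProperty.Over.Hom.ext (pullback.hom_ext ?_ ?_)⟩
    · exact (EtCoh.isPullback_bc_map i (MorphismProperty.Over.homMk l hl')).w.trans hl
    · exact (MorphismProperty.Over.w ((EtCoh.bc i).map (MorphismProperty.Over.homMk l hl'))).trans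
        (MorphismProperty.Over.w g).symm⟩
  haveI : (EtCoh.bc i).Faithful := ⟨fun {U V} a b h => by
    let pU : ((EtCoh.bc i).obj U).left ⟶ U.left := pullback.fst U.hom i
    haveI : IsClosedImmersion pU := MorphismProperty.pullback_fst (P := @IsClosedImmersion) _ _ ‹_›
    haveI : Surjective pU := MorphismProperty.pullback_fst (P := @Surjective) _ _ ‹_›
    haveI : Etale V.hom := V.prop
    apply MorphismProperty.Over.Hom.ext
    refine GrothLib.EtaleThick.hom_ext pU V.hom ?_
      ((MorphismProperty.Over.w a).trans (MorphismProperty.Over.w b).symm)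
    refine (EtCoh.isPullback_bc_map i a).w.symm.trans ?_
    refine Eq.trans ?_ (EtCoh.isPullback_bc_map i b).w
    rw [h]⟩
  haveI : (EtCoh.bc i).EssSurj := ⟨fun W => by
    haveI : Etale W.hom := W.prop
    obtain ⟨Y', q', j, hq', hpb⟩ := GrothLib.EtaleThick.exists_lift i W.hom
    exact ⟨Scheme.Etale.mk q', ⟨MorphismProperty.Over.isoMk hpb.isoPullback.symm
      hpb.isoPullback_inv_snd⟩⟩⟩
  exact { }

end Groth.Agent.S0118
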