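import Groth.Statements.S0130
import Groth.Agent.Lib.Constructible.Strata
-- import your own Groth.Agent.* helpers here

set_option autoImplicit false
universe u
open CategoryTheory CategoryTheory.Limits AlgebraicGeometry Opposite
open EtPBC

namespace Groth.Agent.S0130

/-- Abelian case: X quasi-compact and quasi-separated, T_i -> X immersions with constructible images
covering X, and F pulled back to each T_i constructible; then F is constructible. -/
theorem result (X : Scheme.{u}) [CompactSpace X] [QuasiSeparatedSpace X]
    (F : EtCoh.Ab X) {ι : Type u} (T : ι → Scheme.{u}) (g : ∀ i, T i ⟶ X) [∀ i, IsImmersion (g i)]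
    [∀ i, EtCoh.BCCont (g i)]
    (hc : ∀ i, Topology.IsConstructible (Set.range (g i)))
    (hcov : (⋃ i, Set.range (g i)) = Set.univ)
    (h : ∀ i, EtPBC.IsConstructible ((EtCoh.pull (g i)).obj F)) :
    EtPBC.IsConstructible F := GrothLib.Constructible.isConstructible_of_strata F T g hc hcov h

end Groth.Agent.S0130
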