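import Groth.Statements.S0137
import Groth.Agent.Lib.ConstrCpt.ShriekQF
import Groth.Agent.Lib.ConstrCpt.PointBound
-- import your own Groth.Agent.* helpers here

set_option autoImplicit false
universe u
open CategoryTheory CategoryTheory.Limits AlgebraicGeometry Opposite
open EtPBC

namespace Groth.Agent.S0137

/-- Abelian case: if f : X -> Y is finite and of finite presentation and F is a constructible abelian
sheaf on X_et then f_* F is constructible on Y_et. -/
theorem result {X Y : Scheme.{u}} (f : X ⟶ Y) [IsFinite f]
    [LocallyOfFinitePresentation f] [EtCoh.BCCont f] (F : EtCoh.Ab X) (hF : EtPBC.IsConstructible F) :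
    EtPBC.IsConstructible ((EtCoh.push f).obj F) := by
  haveI : LocallyQuasiFinite f := inferInstance
  haveI := GrothLib.EtShriek.isIso_ι_of_isProper f
  refine GrothLib.Constructible.isConstructible_openPart_separated.isConstructible_of_iso
    (asIso ((GrothLib.EtShriek.ι f).app F)) ?_
  choose W hW hxW _ using fun y : Y => exists_isAffineOpen_mem_and_subset (U := ⊤) (x := y) trivial
  refine GrothLib.Constructible.isConstructible_of_cover _ W
    (top_le_iff.1 fun y _ => TopologicalSpace.Opens.mem_iSup.2 ⟨y, hxW y⟩) fun y => ?_
  haveI : IsAffine (W y : Scheme.{u}) := hW y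
  let c := (W y).ι
  let q := pullback.snd f c
  haveI : IsFinite q := MorphismProperty.pullback_snd _ _ ‹_›
  haveI : LocallyOfFinitePresentation q := MorphismProperty.pullback_snd _ _ ‹_›
  haveI : LocallyQuasiFinite q := inferInstance
  haveI := GrothLib.EtShriek.isIso_bcSh_lqf f c q (pullback.fst f c) (IsPullback.of_hasPullback f c) F
  refine GrothLib.Constructible.isConstructible_openPart_separated.isConstructible_of_iso
    (asIso (GrothLib.EtShriek.bcSh f c q (pullback.fst f c) (IsPullback.of_hasPullback f c) F)).symm ?_
  obtain ⟨n, hn⟩ := GrothLib.ConstrCpt.exists_bound_pts q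
  exact GrothLib.ConstrCpt.isConstructible_Sh_of_bddPts n q hn _
    (GrothLib.Constructible.isConstructible_pull _ _ hF)

end Groth.Agent.S0137
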