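import Groth.Statements.S0138
import Groth.Agent.Lib.ConstrCpt.Killed
-- import your own Groth.Agent.* helpers here

set_option autoImplicit false
universe u
open CategoryTheory CategoryTheory.Limits AlgebraicGeometry Opposite
open EtPBC

namespace Groth.Agent.S0138

/-- For Lambda = Z/n: on a quasi-compact quasi-separated X, a constructible abelian sheaf killed by n >
0 (that is, a constructible sheaf of Z/n-modules) is isomorphic to the cokernel of a map between
finite direct sums of sheaves j_{U!} Z/n with U affine and etale over X. (The source also proves the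
converse; we state the presentation direction.) -/
theorem result (X : Scheme.{u}) [CompactSpace X] [QuasiSeparatedSpace X]
    (n : ℕ) (hn : 0 < n) (F : EtCoh.Ab X) (hF : EtPBC.IsConstructible F) (hFn : EtCoh.KilledBy n F) :
    ∃ (a b : ℕ) (V : Fin a → X.Etale) (U : Fin b → X.Etale) (_ : ∀ j, IsAffine (V j).left)
      (_ : ∀ i, IsAffine (U i).left)
      (φ : (⨁ fun j => EtPBC.extZeroConst (V j) (ZMod n)) ⟶ ⨁ fun i => EtPBC.extZeroConst (U i) (ZMod n)),
      Nonempty (F ≅ cokernel φ) := GrothLib.ConstrCpt.exists_killed_presentation hn hF hFn

end Groth.Agent.S0138
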