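import Groth.Statements.S0145
import Groth.Agent.Lib.ConstrCpt.Supported
-- import your own Groth.Agent.* helpers here

set_option autoImplicit false
universe u
open CategoryTheory CategoryTheory.Limits AlgebraicGeometry Opposite
open EtPBC

namespace Groth.Agent.S0145

/-- (1): X Noetherian, E a subset of X stable under specialization, F a torsion abelian sheaf on X_et
supported inside E. Then F is a filtered colimit of constructible abelian sheaves each supported
inside some closed subset contained in E. -/
theorem result (X : Scheme.{u}) [IsNoetherian X]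
    (E : Set X) (hE : StableUnderSpecialization E)
    (F : EtCoh.Ab X) (hF : EtCoh.IsTorsion F) (hsupp : EtPBC.supp F ⊆ E) :
    ∃ (J : Type (u + 1)) (_ : SmallCategory J) (_ : IsFiltered J) (D : J ⥤ EtCoh.Ab X)
      (c : Cocone D) (_ : IsColimit c), Nonempty (c.pt ≅ F) ∧
      ∀ j, EtPBC.IsConstructible (D.obj j) ∧
        ∃ Z : Set X, IsClosed Z ∧ Z ⊆ E ∧ EtPBC.supp (D.obj j) ⊆ Z := GrothLib.ConstrCpt.exists_colimit_in_stable hE hF hsupp

end Groth.Agent.S0145
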