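import Groth.Statements.S0149
import Groth.Agent.Lib.EtLimit.CdLimit
-- import your own Groth.Agent.* helpers here

set_option autoImplicit false
universe u
open CategoryTheory CategoryTheory.Limits AlgebraicGeometry Opposite
open EtPBC

namespace Groth.Agent.S0149

/-- If X = lim X_i is a cofiltered limit of quasi-compact quasi-separated schemes with affine transition
morphisms and cd(X_i) <= d for all i, then cd(X) <= d. -/
theorem result {I : Type u} [SmallCategory I] [IsCofiltered I] (D : I ⥤ Scheme.{u})
    [∀ {i j : I} (a : i ⟶ j), IsAffineHom (D.map a)]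
    [∀ i, CompactSpace (D.obj i)] [∀ i, QuasiSeparatedSpace (D.obj i)]
    (c : Cone D) (hc : IsLimit c) (d : ℕ) (h : ∀ i, EtCoh.CohDimLE (D.obj i) d) :
    EtCoh.CohDimLE c.pt d := GrothLib.EtLimit.cdLE_limit D (fun _ _ a => inferInstance) (fun _ => inferInstance) (fun _ => inferInstance) c hc d h

end Groth.Agent.S0149
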