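import Groth.Statements.S0151
import Groth.Agent.Lib.FieldExtCd18.AllPrimes
-- import your own Groth.Agent.* helpers here

set_option autoImplicit false
universe u
open CategoryTheory CategoryTheory.Limits AlgebraicGeometry Opposite
open EtPBC

namespace Groth.Agent.S0151

/-- (2): if cd(K) is finite and X is of finite type over K then cd(X) is finite. -/
theorem result (K : Type u) [Field K] (X : Scheme.{u})
    (a : X ⟶ Spec (CommRingCat.of K)) [LocallyOfFiniteType a] [QuasiCompact a]
    (e : ℕ) (hK : EtCoh.CohDimLE (Spec (CommRingCat.of K)) e) :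
    ∃ d : ℕ, EtCoh.CohDimLE X d := by
  haveI : IsNoetherian X := by
    haveI : IsLocallyNoetherian X := LocallyOfFiniteType.isLocallyNoetherian a
    haveI : CompactSpace X := QuasiCompact.compactSpace_of_compactSpace a
    exact {}
  obtain ⟨n, hn⟩ := GrothLib.FieldExtCd18.exists_tr_bound a
  refine ⟨2 * n + e, fun F hF q hq => ?_⟩
  refine GrothLib.FieldExtCd18.subsingleton_H_of_primes X q (fun p hp G hG => ?_) F hF
  haveI : Fact p.Prime := ⟨hp⟩
  have hz := GrothLib.FieldExtCd18.killVan_finiteType a p e n hn
    (fun G' hG' r hr => hK G' (GrothLib.GalCd.isTorsion_of_killed hp.ne_zero hG') r hr) G hG q hq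
  exact ⟨fun x y => (hz x).trans (hz y).symm⟩

end Groth.Agent.S0151
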