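import Groth.Statements.S0153
import Groth.Agent.Lib.PropH0.Restrict
-- import your own Groth.Agent.* helpers here

set_option autoImplicit false
universe u
open CategoryTheory CategoryTheory.Limits AlgebraicGeometry Opposite
open EtPBC

namespace Groth.Agent.S0153

/-- Let X be a spectral space and Z ⊆ X closed such that Z ∩ closure{x} is connected (nonempty) for
every x. Then for every sheaf of sets F on X restriction Gamma(X, F) -> Gamma(Z, F|_Z) is bijective;
written as the global-sections component of the unit F -> i_* i^* F for the inclusion i : Z -> X. -/
theorem result (X : TopCat.{u}) [SpectralSpace X]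
    (Z : Set X) (hZ : IsClosed Z)
    (hconn : ∀ x : X, IsConnected (Z ∩ closure {x}))
    (F : TopCat.Sheaf (Type u) X) :
    Function.Bijective
      (((TopCat.Sheaf.pullbackPushforwardAdjunction (Type u)
        (TopCat.ofHom ⟨(Subtype.val : Z → X), continuous_subtype_val⟩)).unit.app F).hom.app (op ⊤)) := GrothLib.PropH0.bijective_restrict X Z hZ hconn F

end Groth.Agent.S0153
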