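import Groth.Statements.S0155
import Groth.Agent.Lib.PropH0.PropBC
import Groth.Agent.Lib.PropH0.TopStalk
-- import your own Groth.Agent.* helpers here

set_option autoImplicit false
universe u
open CategoryTheory CategoryTheory.Limits AlgebraicGeometry Opposite
open EtPBC

namespace Groth.Agent.S0155

/-- Let f : X ⟶ Y be a proper morphism of schemes, ȳ : Spec Ω ⟶ Y a geometric point (Ω a separably
closed field) and F an abelian sheaf on the small étale site of X. Then the stalk (f_* F)_ȳ is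
isomorphic to the group of global sections Γ(X_ȳ, F|X_ȳ) of the pullback of F to the geometric fibre
X_ȳ = X ×_Y Spec Ω. The published statement is stronger: it asserts that the canonical map is
bijective (for sheaves of sets as well); only the existence of an isomorphism of abelian groups is
asserted here. -/
theorem result {X Y : Scheme.{u}} (f : X ⟶ Y) [IsProper f] [EtCoh.BCCont f]
    {Ω : Type u} [Field Ω] [IsSepClosed Ω] (ξ : Spec (CommRingCat.of Ω) ⟶ Y)
    [EtCoh.BCCont (pullback.fst f ξ)] (F : EtCoh.Ab X) :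
    Nonempty ((EtCoh.stalk ξ).obj ((EtCoh.push f).obj F) ≅
      ((EtCoh.pull (pullback.fst f ξ)).obj F).obj.obj (op (EtCoh.top (pullback f ξ)))) := by
  haveI := GrothLib.PropH0.isIso_baseChange0_of_proper f ξ (pullback.snd f ξ) (pullback.fst f ξ)
    (IsPullback.of_hasPullback f ξ) F
  let G := (EtCoh.pull ξ).obj ((EtCoh.push f).obj F)
  let H := (EtCoh.pull (pullback.fst f ξ)).obj F
  let e₁ : G.obj.obj (op (EtCoh.top (Spec (CommRingCat.of Ω)))) ≅
      (EtCoh.stalk (𝟙 _)).obj G :=
    haveI : IsIso (GrothLib.EtSite.germ (𝟙 (Spec (CommRingCat.of Ω))) G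
        (GrothLib.EtSite.fib (U := EtCoh.top _) (𝟙 _) (𝟙 _) (Category.id_comp _))) :=
      (ConcreteCategory.isIso_iff_bijective _).2 (GrothLib.PropH0.germ_top_bijective G)
    asIso (GrothLib.EtSite.germ (𝟙 (Spec (CommRingCat.of Ω))) G
      (GrothLib.EtSite.fib (U := EtCoh.top _) (𝟙 _) (𝟙 _) (Category.id_comp _)))
  let e₂ : (EtCoh.stalk (𝟙 _)).obj G ≅ (EtCoh.stalk ξ).obj ((EtCoh.push f).obj F) :=
    (GrothLib.EtSite.pullStalkIso (𝟙 _) ξ).app ((EtCoh.push f).obj F) ≪≫ eqToIso (by rw [Category.id_comp])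
  let e₃ : G.obj.obj (op (EtCoh.top (Spec (CommRingCat.of Ω)))) ≅
      ((EtCoh.push (pullback.snd f ξ)).obj H).obj.obj (op (EtCoh.top (Spec (CommRingCat.of Ω)))) :=
    (((sheafToPresheaf _ _).mapIso (asIso (EtCoh.baseChange0 f ξ (pullback.snd f ξ) (pullback.fst f ξ)
      (IsPullback.of_hasPullback f ξ).w F))).app (op (EtCoh.top (Spec (CommRingCat.of Ω)))))
  exact ⟨e₂.symm ≪≫ e₁.symm ≪≫ e₃ ≪≫
    GrothLib.PropH0.pushTopIso (pullback.snd f ξ) H⟩

end Groth.Agent.S0155
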