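import Groth.Statements.S0167
import Groth.Agent.Lib.PropH0.EtH0
-- import your own Groth.Agent.* helpers here

set_option autoImplicit false
universe u
open CategoryTheory CategoryTheory.Limits AlgebraicGeometry Opposite
open EtPBC

namespace Groth.Agent.S0167

/-- A a henselian local ring, f : X -> Spec A proper, X_0 the closed fibre with i : X_0 -> X. For any
abelian sheaf F on X_et, Gamma(X, F) -> Gamma(X_0, i^* F) (the global-sections component of the unit
F -> i_* i^* F) is bijective. The source allows sheaves of sets. -/
theorem result (A : Type u) [CommRing A] [HenselianLocalRing A]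
    (X : Scheme.{u}) (f : X ⟶ Spec (CommRingCat.of A)) [IsProper f]
    [EtCoh.BCCont (pullback.fst f (Spec.map (CommRingCat.ofHom (Ideal.Quotient.mk (IsLocalRing.maximalIdeal A)))))]
    (F : EtCoh.Ab X) :
    Function.Bijective
      (((EtCoh.pullPushAdj (pullback.fst f
        (Spec.map (CommRingCat.ofHom (Ideal.Quotient.mk (IsLocalRing.maximalIdeal A)))))).unit.app F).hom.app
        (op (EtCoh.top X))) := by
  haveI : IsClosedImmersion (Spec.map (CommRingCat.ofHom (Ideal.Quotient.mk (IsLocalRing.maximalIdeal A)))) :=
    IsClosedImmersion.spec_of_surjective _ Ideal.Quotient.mk_surjective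
  haveI := (GrothLib.PropH0.compactSpace_of_proper f).1
  haveI := (GrothLib.PropH0.compactSpace_of_proper f).2
  haveI : HenselianRing A (IsLocalRing.maximalIdeal A) := inferInstance
  exact GrothLib.PropH0.unit_top_bijective _
    (GrothLib.PropH0.connOnIntegral_of_proper _ (IsLocalRing.maximalIdeal A) f (GrothLib.PropH0.range_fst_eq_Z0 f _)) F

end Groth.Agent.S0167
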