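import Groth.Statements.S0169
import Groth.Agent.Lib.Constructible.FiniteStrata
-- import your own Groth.Agent.* helpers here

set_option autoImplicit false
universe u
open CategoryTheory CategoryTheory.Limits AlgebraicGeometry Opposite
open EtPBC

namespace Groth.Agent.S0169

/-- For j : U -> X an etale morphism of quasi-compact quasi-separated schemes there are finitely many
immersions T_i -> X with pairwise disjoint constructible images covering X such that U x_X T_i ->
T_i is finite (etale) for each i. -/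
theorem result {U X : Scheme.{u}} [CompactSpace U] [QuasiSeparatedSpace U]
    [CompactSpace X] [QuasiSeparatedSpace X] (j : U ⟶ X) [Etale j] :
    ∃ (n : ℕ) (T : Fin n → Scheme.{u}) (g : ∀ i, T i ⟶ X),
      (∀ i, IsImmersion (g i)) ∧ (∀ i, Topology.IsConstructible (Set.range (g i))) ∧
      Pairwise (fun i i' => Disjoint (Set.range (g i)) (Set.range (g i'))) ∧
      (⋃ i, Set.range (g i)) = Set.univ ∧ ∀ i, IsFinite (pullback.snd j (g i)) := by
  classical
  obtain ⟨m, A, hA, hAaff⟩ : ∃ (m : ℕ) (A : Fin m → U.Opens), ⨆ i, A i = ⊤ ∧ ∀ i, IsAffineOpen (A i) := by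
    have hcov : (Set.univ : Set U) ⊆ ⋃ V : U.affineOpens, (V.1 : Set U) := fun x _ => by
      obtain ⟨V, hV, hx, -⟩ := exists_isAffineOpen_mem_and_subset (U := (⊤ : U.Opens)) (x := x) trivial
      exact Set.mem_iUnion.2 ⟨⟨V, hV⟩, hx⟩
    obtain ⟨t, ht⟩ := isCompact_univ.elim_finite_subcover _ (fun V : U.affineOpens => V.1.2) hcov
    refine ⟨t.card, fun i => (t.equivFin.symm i).1.1, eq_top_iff.2 fun x _ => ?_, fun i => (t.equivFin.symm i).1.2⟩
    obtain ⟨V, hV, hx⟩ := Set.mem_iUnion₂.1 (ht (Set.mem_univ x))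
    exact TopologicalSpace.Opens.mem_iSup.2 ⟨t.equivFin ⟨V, hV⟩, (congrArg (fun z : t => x ∈ z.1.1) (t.equivFin.symm_apply_apply ⟨V, hV⟩)).mpr hx⟩
  let W : Fin m ⊕ Fin m × Fin m → U.Opens := Sum.elim A (fun p => A p.1 ⊓ A p.2)
  have hWle : ∀ c, ∃ a, W c ≤ A a := fun c => match c with
    | .inl a => ⟨a, le_rfl⟩
    | .inr p => ⟨p.1, inf_le_left⟩
  haveI hsep : ∀ c, IsSeparated ((W c).ι ≫ j) := fun c => by
    obtain ⟨a, ha⟩ := hWle c
    haveI : IsAffine (A a : Scheme.{u}) := hAaff a
    haveI : IsSeparated (((A a).ι ≫ j) ≫ terminal.from X) := by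
      rw [Subsingleton.elim (((A a).ι ≫ j) ≫ terminal.from X) (terminal.from _)]
      infer_instance
    haveI : IsSeparated ((A a).ι ≫ j) := IsSeparated.of_comp _ (terminal.from X)
    rw [← U.homOfLE_ι ha, Category.assoc]
    infer_instance
  haveI hqc : ∀ c, QuasiCompact ((W c).ι ≫ j) := fun c => by
    have hc : IsCompact (W c : Set U) := match c with
      | .inl a => (hAaff a).isCompact
      | .inr p => QuasiSeparatedSpace.inter_isCompact _ _ (A p.1).2 (hAaff p.1).isCompact (A p.2).2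
          (hAaff p.2).isCompact
    haveI : CompactSpace (W c : Scheme.{u}) := isCompact_iff_compactSpace.1 hc
    infer_instance
  obtain ⟨n, T, g, -, himm, hcons, hdisj, hcov, hfin⟩ :=
    GrothLib.Constructible.exists_strata_finite (fun c => (W c : Scheme.{u})) (fun c => (W c).ι ≫ j)
  refine ⟨n, T, g, himm, hcons, hdisj, hcov, fun i => ?_⟩
  let p := pullback.fst j (g i)
  have key : ∀ c, IsFinite ((p ⁻¹ᵁ W c).ι ≫ pullback.snd j (g i)) := fun c => by
    have sq := (isPullback_morphismRestrict p (W c)).paste_vert (IsPullback.of_hasPullback j (g i))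
    haveI := hfin i c
    have : (p ⁻¹ᵁ W c).ι ≫ pullback.snd j (g i) =
        sq.isoPullback.hom ≫ pullback.snd ((W c).ι ≫ j) (g i) := sq.isoPullback_hom_snd.symm
    rw [this]
    infer_instance
  haveI : ∀ a, IsFinite ((p ⁻¹ᵁ A a).ι ≫ pullback.snd j (g i)) := fun a => key (.inl a)
  refine GrothLib.Constructible.isFinite_of_cover _ (fun a => p ⁻¹ᵁ A a) ?_ fun a b => key (.inr (a, b))
  rw [← Scheme.Hom.preimage_iSup, hA]
  rfl

end Groth.Agent.S0169
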