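import Groth.Statements.S0170
import Groth.Agent.Lib.QFDecomp18.Basic
-- import your own Groth.Agent.* helpers here

set_option autoImplicit false
universe u
open CategoryTheory CategoryTheory.Limits AlgebraicGeometry Opposite
open EtPBC

namespace Groth.Agent.S0170

/-- For f : Y -> X quasi-finite and of finite presentation with X and Y affine, one can find an affine
X' mapping onto X such that the base change Y' = X' x_X Y contains a closed subscheme Z' with the
same underlying space (a thickening) for which the composite Z' -> Y' -> X' is finite etale. -/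
theorem result {Y X : Scheme.{u}} [IsAffine X] [IsAffine Y] (f : Y ⟶ X)
    [LocallyQuasiFinite f] [LocallyOfFinitePresentation f] :
    ∃ (X' : Scheme.{u}) (_ : IsAffine X') (a : X' ⟶ X) (_ : Surjective a) (Z' : Scheme.{u})
      (c : Z' ⟶ pullback a f) (_ : IsClosedImmersion c) (_ : Surjective c),
      IsFinite (c ≫ pullback.fst a f) ∧ Etale (c ≫ pullback.fst a f) := by
  let A : Type u := Γ(X, ⊤)
  let B₀ : Type u := Γ(Y, ⊤)
  letI : Algebra A B₀ := f.appTop.hom.toAlgebra
  haveI : Algebra.FinitePresentation A B₀ :=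
    (HasRingHomProperty.appTop (P := @LocallyOfFinitePresentation) f inferInstance :)
  haveI : Algebra.QuasiFinite A B₀ := (HasRingHomProperty.appTop (P := @LocallyQuasiFinite) f inferInstance :)
  let K : PrimeSpectrum A → Type u := fun x => AlgebraicClosure x.asIdeal.ResidueField
  let R : Type u := ∀ x, K x
  letI : Algebra A R := Pi.algebra _ _
  let B : Type u := TensorProduct A R B₀
  obtain ⟨T, hT, e, he, Ψ, hsurj, hker⟩ := GrothLib.QFDecomp18.exists_split (R := R) (B := B)
    (GrothLib.QFDecomp18.exists_mul_mul_eq K)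
    (fun p _ => GrothLib.QFDecomp18.isAlgClosed_quotient K p)
    (fun p _ => GrothLib.QFDecomp18.isMaximal_of_isPrime K p)
  let T' : Type u := ∀ t, R ⧸ Ideal.span {e t}
  haveI : ∀ t, Algebra.Etale R (R ⧸ Ideal.span {e t}) := fun t => by
    haveI : IsLocalization.Away (1 - e t) (R ⧸ Ideal.span {e t}) :=
      IsLocalization.away_of_isIdempotentElem (he t).one_sub (Ideal.mk_ker.trans (by rw [sub_sub_cancel]))
        Ideal.Quotient.mk_surjective
    exact Algebra.Etale.of_isLocalizationAway (1 - e t)
  haveI : ∀ t, Module.Finite R (R ⧸ Ideal.span {e t}) := fun t => inferInstance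
  let φA : X ≅ Spec (CommRingCat.of A) := X.isoSpec
  let φB : Y ≅ Spec (CommRingCat.of B₀) := Y.isoSpec
  let sB : Spec (CommRingCat.of B₀) ⟶ Spec (CommRingCat.of A) := Spec.map (CommRingCat.ofHom (algebraMap A B₀))
  have hf : φB.hom ≫ sB = f ≫ φA.hom := Scheme.isoSpec_hom_naturality f
  let sR : Spec (CommRingCat.of R) ⟶ Spec (CommRingCat.of A) := Spec.map (CommRingCat.ofHom (algebraMap A R))
  let a : Spec (CommRingCat.of R) ⟶ X := sR ≫ φA.inv
  haveI : Surjective sR := ⟨fun x => by
    let π : R →+* K x := Pi.evalRingHom K x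
    refine ⟨⟨RingHom.ker π, RingHom.ker_isPrime π⟩, PrimeSpectrum.ext (Ideal.ext fun z => ?_)⟩
    change algebraMap A (K x) z = 0 ↔ z ∈ x.asIdeal
    rw [IsScalarTower.algebraMap_apply A x.asIdeal.ResidueField (K x), map_eq_zero_iff _ (RingHom.injective _)]
    exact Ideal.algebraMap_residueField_eq_zero⟩
  haveI : Surjective a := inferInstance
  let m : pullback a f ⟶ pullback sR sB :=
    pullback.map a f sR sB (𝟙 _) φB.hom φA.hom (by simp [a]) hf.symm
  haveI : IsIso m := pullback.map_isIso ..
  let sΨ : Spec (CommRingCat.of T') ⟶ Spec (CommRingCat.of B) := Spec.map (CommRingCat.ofHom Ψ.toRingHom)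
  haveI : IsClosedImmersion sΨ := IsClosedImmersion.spec_of_surjective _ hsurj
  haveI : Surjective sΨ := ⟨fun x => by
    have h : x ∈ PrimeSpectrum.zeroLocus (RingHom.ker Ψ.toRingHom : Set B) := fun z hz =>
      (nilradical_le_prime x.asIdeal) (hker hz)
    rw [← range_comap_of_surjective _ _ hsurj] at h
    exact h⟩
  let c : Spec (CommRingCat.of T') ⟶ pullback a f := sΨ ≫ (pullbackSpecIso A R B₀).inv ≫ inv m
  refine ⟨Spec (CommRingCat.of R), inferInstance, a, inferInstance, Spec (CommRingCat.of T'), c, inferInstance,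
    inferInstance, ?_⟩
  have hc : c ≫ pullback.fst a f = Spec.map (CommRingCat.ofHom (algebraMap R T')) := by
    have hm : inv m ≫ pullback.fst a f = pullback.fst sR sB := by
      rw [IsIso.inv_comp_eq]
      exact ((pullback.lift_fst _ _ _).trans (Category.comp_id _)).symm
    simp only [c, Category.assoc, hm]
    rw [pullbackSpecIso_inv_fst, ← Spec.map_comp]
    congr 1
    exact CommRingCat.hom_ext (RingHom.ext fun r => Ψ.commutes r)
  rw [hc]
  exact ⟨(IsFinite.SpecMap_iff _).2 (RingHom.finite_algebraMap.2 inferInstance),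
    (HasRingHomProperty.Spec_iff (P := @Etale)).2 (RingHom.etale_algebraMap.2 inferInstance)⟩

end Groth.Agent.S0170
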