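import Groth.Statements.S0171
import Groth.Agent.Lib.GalCd.PtSupp
import Groth.Agent.Lib.AzMod.SepSplit
-- import your own Groth.Agent.* helpers here

set_option autoImplicit false
universe u
open CategoryTheory CategoryTheory.Limits AlgebraicGeometry Opposite
open EtPBC

namespace Groth.Agent.S0171

/-- K separably closed, X of finite type over K, F an abelian sheaf on X_et whose support consists of
closed points. Then H^q(X, F) = 0 for q > 0. (The source also shows F is globally generated; not
stated here.) -/
theorem result {K : Type u} [Field K] [IsSepClosed K] (X : Scheme.{u})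
    (a : X ⟶ Spec (CommRingCat.of K)) [LocallyOfFiniteType a] [QuasiCompact a]
    (F : EtCoh.Ab X) (hF : ∀ x ∈ EtPBC.supp F, IsClosed ({x} : Set X)) (q : ℕ) (hq : 0 < q) :
    Subsingleton (EtCoh.H X F q) := by
  haveI : IsLocallyNoetherian X := LocallyOfFiniteType.isLocallyNoetherian a
  haveI : CompactSpace X := QuasiCompact.compactSpace_of_compactSpace a
  haveI : IsNoetherian X := {}
  haveI : JacobsonSpace X := LocallyOfFiniteType.jacobsonSpace a
  refine subsingleton_of_forall_eq 0 (GrothLib.GalCd.H_eq_zero_of_supp_closedPts (fun x hx => ?_) F ?_ q hq)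
  · haveI : IsFinite (X.fromSpecResidueField x ≫ a) := by
      rw [isClosed_singleton_iff_isClosedImmersion] at hx
      rw [isFinite_iff_locallyOfFiniteType_of_jacobsonSpace]
      infer_instance
    let φ := Spec.preimage (X.fromSpecResidueField x ≫ a)
    have hφ : φ.hom.IsIntegral := by
      rw [← IsIntegralHom.SpecMap_iff, Spec.map_preimage]
      infer_instance
    letI : Algebra K (X.residueField x) := φ.hom.toAlgebra
    haveI : Algebra.IsIntegral K (X.residueField x) := ⟨hφ⟩
    haveI : Algebra.IsAlgebraic K (X.residueField x) := Algebra.IsIntegral.isAlgebraic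
    exact GrothLib.AzMod.isSepClosed_of_isAlgebraic K (X.residueField x)
  · intro Ω _ _ ξ hξ
    by_contra h
    exact hξ (hF _ ⟨Ω, inferInstance, inferInstance, ξ, Set.range_unique, h⟩)

end Groth.Agent.S0171
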