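import Groth.Statements.S0175
import Groth.Agent.Lib.EtDer.Injective
import Groth.Agent.Lib.EtSite.Immersion
import Groth.Agent.Lib.ExtZero.Open
-- import your own Groth.Agent.* helpers here

set_option autoImplicit false
universe u
open CategoryTheory CategoryTheory.Limits AlgebraicGeometry Opposite
open EtPBC

namespace Groth.Agent.S0175

/-- Let i : Z → X be a closed immersion of schemes with open complement j : U → X, and I an injective
abelian sheaf on X_ét. Then the subsheaf H_Z(I) of sections supported on Z (the kernel of I → j_*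
j^* I), viewed on Z_ét via i^*, is an injective abelian sheaf on Z_ét. -/
theorem result {Z X U : Scheme.{u}} (i : Z ⟶ X) [IsClosedImmersion i]
    (j : U ⟶ X) [IsOpenImmersion j] (hZU : Set.range j = (Set.range i)ᶜ)
    [EtCoh.BCCont i] [EtCoh.BCCont j] (I : EtCoh.Ab X) [Injective I] :
    Injective ((EtCoh.pull i).obj (kernel ((EtCoh.pullPushAdj j).unit.app I))) := by
  haveI := GrothLib.EtSite.pull_preservesFiniteLimits j
  haveI : (EtCoh.pull j).Additive := (EtCoh.pullPushAdj j).left_adjoint_additive
  let η := (EtCoh.pullPushAdj j).unit.app I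
  let K := kernel η
  have hK : IsZero ((EtCoh.pull j).obj K) := by
    haveI : Mono ((EtCoh.pull j).map η) :=
      (SplitMono.mk ((EtCoh.pullPushAdj j).counit.app _) ((EtCoh.pullPushAdj j).left_triangle_components I)).mono
    haveI : (EtCoh.pull j).PreservesMonomorphisms := preservesMonomorphisms_of_preservesLimitsOfShape _
    have e : (EtCoh.pull j).map (kernel.ι η) = 0 := by
      rw [← cancel_mono ((EtCoh.pull j).map η), ← Functor.map_comp, kernel.condition, Functor.map_zero, zero_comp]
    exact IsZero.of_mono_eq_zero _ e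
  have hvan : ∀ V : X.Etale, Disjoint (Set.range V.hom.base) (Set.range i.base) →
      Subsingleton (EtCoh.sect K V) := by
    intro V hV
    have key : ∀ s : EtCoh.sect K V, s = 0 := fun s => by
      refine GrothLib.EtSite.section_eq_zero_of_germs K V s fun Ω _ _ ξ t => ?_
      have hmem : ξ.base default ∈ Set.range j.base := by
        rw [hZU]
        refine fun hz => Set.disjoint_left.1 hV ⟨t.left.base (default : Spec (CommRingCat.of Ω)), ?_⟩ hz
        exact congrArg (fun k : Spec (CommRingCat.of Ω) ⟶ X => k.base default) (Over.w t)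
      obtain ⟨u', rfl⟩ := GrothLib.ExtZero.exists_lift_of_mem j ξ hmem
      have hs : IsZero ((EtCoh.stalk (u' ≫ j)).obj K) :=
        (Functor.map_isZero (EtCoh.stalk u') hK).of_iso ((GrothLib.EtSite.pullStalkIso u' j).app K).symm
      exact (AddCommGrpCat.subsingleton_of_isZero hs).elim _ _
    exact ⟨fun s t => (key s).trans (key t).symm⟩
  haveI := GrothLib.EtSite.isIso_unit_of_vanish i K hvan
  haveI : IsIso (EtCoh.pullPushAdj i).counit :=
    haveI : ∀ G, IsIso ((EtCoh.pullPushAdj i).counit.app G) := fun G => GrothLib.EtSite.isIso_counit i G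
    NatIso.isIso_of_isIso_app _
  let hff := (EtCoh.pullPushAdj i).fullyFaithfulROfIsIsoCounit
  haveI : (EtCoh.push i).PreservesMonomorphisms :=
    haveI := (EtCoh.pullPushAdj i).rightAdjoint_preservesLimits (G := _)
    preservesMonomorphisms_of_preservesLimitsOfShape _
  let u := (EtCoh.pullPushAdj i).unit.app K
  refine ⟨fun {A B} φ m _ => ?_⟩
  let ψ : (EtCoh.push i).obj B ⟶ I :=
    Injective.factorThru ((EtCoh.push i).map φ ≫ inv u ≫ kernel.ι η) ((EtCoh.push i).map m)
  have hψ : (EtCoh.push i).map m ≫ ψ = (EtCoh.push i).map φ ≫ inv u ≫ kernel.ι η := Injective.comp_factorThru _ _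
  have hdisj : IsZero ((EtCoh.pull j).obj ((EtCoh.push i).obj B)) := by
    refine GrothLib.EtSite.isZero_of_stalks _ fun Ω _ _ u' => ?_
    refine IsZero.of_iso (GrothLib.EtSite.stalk_push_isZero i B (u' ≫ j) ?_)
      ((GrothLib.EtSite.pullStalkIso u' j).app _)
    intro hz
    have : (u' ≫ j).base default ∈ Set.range j.base := ⟨u'.base default, rfl⟩
    rw [hZU] at this
    exact this hz
  have hzero : ψ ≫ η = 0 :=
    ((EtCoh.pullPushAdj j).homEquiv _ _).symm.injective (hdisj.eq_of_src _ _)
  let χ : (EtCoh.push i).obj B ⟶ K := kernel.lift η ψ hzero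
  refine ⟨hff.preimage (χ ≫ u), hff.map_injective ?_⟩
  have hχ : (EtCoh.push i).map m ≫ χ = (EtCoh.push i).map φ ≫ inv u := by
    apply equalizer.hom_ext
    rw [Category.assoc, Category.assoc]
    exact (congrArg ((EtCoh.push i).map m ≫ ·) (kernel.lift_ι η ψ hzero)).trans hψ
  rw [Functor.map_comp, hff.map_preimage, ← Category.assoc, hχ, Category.assoc, IsIso.inv_hom_id]
  exact Category.comp_id _

end Groth.Agent.S0175
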