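import Groth.Statements.S0176
import Groth.Agent.Lib.IndEt.WeaklyEtaleCover
-- import your own Groth.Agent.* helpers here

set_option autoImplicit false
universe u
open CategoryTheory CategoryTheory.Limits AlgebraicGeometry Opposite
open EtPBC

namespace Groth.Agent.S0176

/-- For a weakly etale ring map A -> B (Mathlib's Algebra.WeaklyEtale) one can enlarge B along a
faithfully flat ind-etale extension B' so that B' is already ind-etale over A; here ind-etale means:
a filtered colimit of etale algebras. -/
theorem result (A B : Type u) [CommRing A] [CommRing B] [Algebra A B]
    [Algebra.WeaklyEtale A B] :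
    ∃ (B' : Type u) (_ : CommRing B') (_ : Algebra B B') (_ : Algebra A B') (_ : IsScalarTower A B B'),
      Module.FaithfullyFlat B B' ∧ EtPBC.IsIndEtale B B' ∧ EtPBC.IsIndEtale A B' := by
  exact GrothLib.IndEt.exists_indEtale_cover A B

end Groth.Agent.S0176
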