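import Groth.Statements.S0182
import Groth.Agent.Lib.Constructible.Supp
import Groth.Agent.Lib.Constructible.Serre
import Groth.Agent.Lib.EtSite.Pull
-- import your own Groth.Agent.* helpers here

set_option autoImplicit false
universe u
open CategoryTheory CategoryTheory.Limits AlgebraicGeometry Opposite
open EtPBC

namespace Groth.Agent.S0182

/-- (1), surjectivity case, for abelian sheaves: X quasi-compact and quasi-separated, F -> G a map of
constructible abelian sheaves on X_et; the set of points x of X such that F -> G is surjective on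
stalks at (every) geometric point over x is constructible. The source states this for constructible
sheaves of sets; an abelian constructible sheaf is one, with the same stalks. -/
theorem result (X : Scheme.{u}) [CompactSpace X] [QuasiSeparatedSpace X]
    {F G : EtCoh.Ab X} (φ : F ⟶ G) (hF : EtPBC.IsConstructible F) (hG : EtPBC.IsConstructible G) :
    Topology.IsConstructible {x : X | ∀ (Ω : Type u) [Field Ω] [IsSepClosed Ω]
      (ξ : Spec (CommRingCat.of Ω) ⟶ X), Set.range ξ = {x} →
        Function.Surjective ((EtCoh.stalk ξ).map φ)} := by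
  have hQ := (GrothLib.Constructible.isConstructible_kernel_cokernel φ hF hG).2
  have key : ∀ (Ω : Type u) [Field Ω] [IsSepClosed Ω] (ξ : Spec (CommRingCat.of Ω) ⟶ X),
      Function.Surjective ((EtCoh.stalk ξ).map φ) ↔ IsZero ((EtCoh.stalk ξ).obj (cokernel φ)) := by
    intro Ω _ _ ξ
    rw [← AddCommGrpCat.epi_iff_surjective]
    haveI : PreservesFiniteColimits (EtCoh.stalk ξ) := GrothLib.EtSite.preservesFiniteColimits_stalk ξ
    haveI : (EtCoh.stalk ξ).PreservesZeroMorphisms := inferInstance
    refine ⟨fun h => IsZero.of_iso ?_ (PreservesCokernel.iso (EtCoh.stalk ξ) φ), fun h => ?_⟩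
    · exact isZero_cokernel_of_epi ((EtCoh.stalk ξ).map φ)
    · exact Preadditive.epi_of_isZero_cokernel _ (IsZero.of_iso h (PreservesCokernel.iso (EtCoh.stalk ξ) φ).symm)
  have hset : {x : X | ∀ (Ω : Type u) [Field Ω] [IsSepClosed Ω]
      (ξ : Spec (CommRingCat.of Ω) ⟶ X), Set.range ξ = {x} →
        Function.Surjective ((EtCoh.stalk ξ).map φ)} = (EtPBC.supp (cokernel φ))ᶜ := by
    ext x
    simp only [Set.mem_setOf_eq, Set.mem_compl_iff, EtPBC.supp, not_exists, not_and, not_not]
    exact ⟨fun h Ω _ _ ξ hξ => (key Ω ξ).1 (h Ω ξ hξ), fun h Ω i j ξ hξ => (key Ω ξ).2 (h Ω i j ξ hξ)⟩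
  rw [hset]
  exact (GrothLib.Constructible.isLocallyConstructible_supp _ hQ).isConstructible.compl

end Groth.Agent.S0182
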