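import Groth.Statements.S0191
import Groth.Agent.Lib.CSA.Basic
import Mathlib.LinearAlgebra.TensorProduct.RightExactness

set_option autoImplicit false
universe u v w
open scoped TensorProduct
open Curves

namespace Groth.Agent.S0191

/-- If K is a skew field with center k, every two-sided ideal of A ⊗ K is generated by the elements a ⊗
1 it contains. -/
theorem result (k : Type u) [Field k] (A : Type v) [Ring A] [Algebra k A]
    (K : Type w) [DivisionRing K] [Algebra k K] [Algebra.IsCentral k K]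
    (I : TwoSidedIdeal (A ⊗[k] K)) :
    I = TwoSidedIdeal.span ((fun a : A => a ⊗ₜ[k] (1 : K)) '' {a : A | a ⊗ₜ[k] (1 : K) ∈ I}) := by
  refine le_antisymm ?_ (TwoSidedIdeal.span_le.mpr (by rintro _ ⟨a, ha, rfl⟩; exact ha))
  set S := (fun a : A => a ⊗ₜ[k] (1 : K)) '' {a : A | a ⊗ₜ[k] (1 : K) ∈ I} with hS
  set J := (GrothLib.CSA.leftPart I).asIdeal with hJ
  let q : A →ₐ[k] A ⧸ J := Ideal.Quotient.mkₐ k J
  have hqs : Function.Surjective q := Ideal.Quotient.mkₐ_surjective k J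
  let f : A ⊗[k] K →ₐ[k] (A ⧸ J) ⊗[k] K := Algebra.TensorProduct.map q (AlgHom.id k K)
  have hfs : Function.Surjective f := fun y => by
    induction y with
    | zero => exact ⟨0, map_zero f⟩
    | tmul a c =>
        obtain ⟨b, rfl⟩ := hqs a
        exact ⟨b ⊗ₜ c, by simp [f]⟩
    | add y z hy hz =>
        obtain ⟨y, rfl⟩ := hy
        obtain ⟨z, rfl⟩ := hz
        exact ⟨y + z, map_add f y z⟩
  have hker : ∀ x, f x = 0 → x ∈ TwoSidedIdeal.span S := fun x hx => by
    have hex : Function.Exact (LinearMap.ker q.toLinearMap).subtype q.toLinearMap :=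
      LinearMap.exact_subtype_ker_map _
    have hfx : q.toLinearMap.rTensor K x = 0 := by
      rw [← hx]
      refine LinearMap.congr_fun (TensorProduct.ext' fun a c => ?_ : q.toLinearMap.rTensor K = f.toLinearMap) x
      simp [f]
    obtain ⟨y, rfl⟩ := (rTensor_exact K hex hqs x).mp hfx
    clear hx hfx
    induction y with
    | zero => simp
    | tmul a c =>
        have ha : (a : A) ⊗ₜ[k] (1 : K) ∈ TwoSidedIdeal.span S := by
          refine TwoSidedIdeal.subset_span ⟨a, ?_, rfl⟩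
          have : q a = 0 := a.2
          exact GrothLib.CSA.mem_leftPart.mp
            (TwoSidedIdeal.mem_asIdeal.mp (Ideal.Quotient.eq_zero_iff_mem.mp this))
        have := TwoSidedIdeal.mul_mem_right _ _ ((1 : A) ⊗ₜ[k] c) ha
        simpa using this
    | add y z hy hz =>
        rw [map_add]
        exact TwoSidedIdeal.add_mem _ hy hz
  intro x hx
  refine hker x ?_
  by_contra hx0
  let I' : TwoSidedIdeal ((A ⧸ J) ⊗[k] K) := TwoSidedIdeal.mk' (f '' (I : Set (A ⊗[k] K)))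
    ⟨0, I.zero_mem, map_zero f⟩
    (by rintro _ _ ⟨a, ha, rfl⟩ ⟨b, hb, rfl⟩; exact ⟨a + b, I.add_mem ha hb, map_add f a b⟩)
    (by rintro _ ⟨a, ha, rfl⟩; exact ⟨-a, I.neg_mem ha, map_neg f a⟩)
    (by
      rintro y _ ⟨a, ha, rfl⟩
      obtain ⟨c, rfl⟩ := hfs y
      exact ⟨c * a, I.mul_mem_left _ _ ha, map_mul f c a⟩)
    (by
      rintro _ y ⟨a, ha, rfl⟩
      obtain ⟨c, rfl⟩ := hfs y
      exact ⟨a * c, I.mul_mem_right _ _ ha, map_mul f a c⟩)
  have hI' : I' ≠ ⊥ := fun h => hx0 <| by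
    have : f x ∈ I' := by rw [TwoSidedIdeal.mem_mk']; exact ⟨x, hx, rfl⟩
    rwa [h, TwoSidedIdeal.mem_bot] at this
  obtain ⟨b, hb, hb0⟩ := GrothLib.CSA.exists_tmul_one_mem I' hI'
  obtain ⟨a, rfl⟩ := hqs b
  rw [TwoSidedIdeal.mem_mk'] at hb
  obtain ⟨y, hy, hyb⟩ := hb
  have hle : TwoSidedIdeal.span S ≤ I := TwoSidedIdeal.span_le.mpr (by
    rintro _ ⟨c, hc, rfl⟩; exact hc)
  have hd : y - a ⊗ₜ[k] (1 : K) ∈ I := hle (hker _ (by simp [hyb, f]))
  have ha : a ⊗ₜ[k] (1 : K) ∈ I := by simpa using I.sub_mem hy hd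
  apply hb0
  rw [show q a = 0 from Ideal.Quotient.eq_zero_iff_mem.mpr
    (TwoSidedIdeal.mem_asIdeal.mpr (GrothLib.CSA.mem_leftPart.mpr ha)), TensorProduct.zero_tmul]

end Groth.Agent.S0191
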