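import Groth.Statements.S0202
import Groth.Agent.Lib.AicH2.Main

set_option autoImplicit false
set_option linter.all false
universe u
open CategoryTheory CategoryTheory.Limits AlgebraicGeometry
open Curves

namespace Groth.Agent.S0202

/-- Over the spectrum of an absolutely integrally closed ring, constant sheaves with finite value group
have no higher étale cohomology. Absolutely integrally closed is taken as: every monic of positive
degree has a root. -/
theorem result (R : Type u) [CommRing R] (hR : Curves.IsAIC R)
    (M : Type) [AddCommGroup M] [Finite M] (i : ℕ) (hi : 0 < i) :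
    Subsingleton (EtCoh.H (Spec (CommRingCat.of R)) (EtCoh.const (Spec (CommRingCat.of R)) M) i) := by
  obtain ⟨n, rfl⟩ : ∃ n, i = n + 1 := ⟨i - 1, by omega⟩
  exact GrothLib.AicH2.subsingleton_H (GrothLib.AicH2.isAIC_of_surjective hR
    (Scheme.ΓSpecIso (CommRingCat.of R)).inv.hom
    (ConcreteCategory.bijective_of_isIso (Scheme.ΓSpecIso (CommRingCat.of R)).inv).2) M n

end Groth.Agent.S0202
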