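import Groth.Statements.S0205
import Groth.Agent.Lib.CdP18.SepClosed
-- import your own Groth.Agent.* helpers here

set_option autoImplicit false
universe u
open CategoryTheory CategoryTheory.Limits AlgebraicGeometry Opposite
open Curves

namespace Groth.Agent.S0205

/-- In characteristic p, p-power torsion abelian étale sheaves (every section is étale-locally killed by
a power of p) on a separated finite type scheme of dimension at most one over an algebraically
closed field have no cohomology above degree one. -/
theorem result (k : Type u) [Field k] [IsAlgClosed k] (p : ℕ) [Fact p.Prime] [CharP k p]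
    (X : Scheme.{u}) (f : X ⟶ Spec (CommRingCat.of k)) [IsSeparated f] [LocallyOfFiniteType f] [QuasiCompact f]
    (hdim : topologicalKrullDim X ≤ 1) (F : EtCoh.Ab X)
    (hF : ∀ (U : X.Etale) (s : EtCoh.sect F U) (x : U.left), ∃ (V : X.Etale) (g : V ⟶ U),
      (∃ v : V.left, g.left.base v = x) ∧ ∃ n : ℕ, (p ^ n) • (F.obj.map g.op s) = 0)
    (q : ℕ) (hq : 1 < q) :
    Subsingleton (EtCoh.H X F q) := GrothLib.CdP18.cohDimLEAt_sepClosed p X f 1 hdim F hF q hq

end Groth.Agent.S0205
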