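import Groth.Statements.S0207
import Groth.Agent.Lib.EtQc13.ASConst
import Groth.Agent.Lib.EtQc13.ZarComp
import Groth.Agent.Lib.Spectral25.Vanish

set_option autoImplicit false
set_option linter.all false
set_option backward.isDefEq.respectTransparency false
set_option backward.isDefEq.respectTransparency.types false
universe u
open CategoryTheory CategoryTheory.Abelian CategoryTheory.Limits AlgebraicGeometry
open Curves

namespace Groth.Agent.S0207

/-- On a quasi-compact quasi-separated scheme of dimension d on which the prime p is zero, étale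
cohomology with Z/p coefficients vanishes from degree d+2 on. -/
theorem result (p : ℕ) [Fact p.Prime] (S : Scheme.{u}) [CompactSpace S] [QuasiSeparatedSpace S]
    (hp : (p : Γ(S, ⊤)) = 0) (d : ℕ) (hd : topologicalKrullDim S = d) (q : ℕ) (hq : 2 + d ≤ q) :
    Subsingleton (EtCoh.H S (EtCoh.const S (ZMod p)) q) := by
  haveI : SpectralSpace S := {}
  haveI hsp : SpectralSpace (GrothLib.EtQc13.upTop S) :=
    { toCompactSpace := Homeomorph.ulift.symm.compactSpace
      toT0Space := Homeomorph.ulift.symm.t0Space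
      toQuasiSober := Homeomorph.ulift.isClosedEmbedding.quasiSober
      toQuasiSeparatedSpace := (QuasiSeparatedSpace.of_isOpenEmbedding
        (f := Homeomorph.ulift) Homeomorph.ulift.isOpenEmbedding)
      toPrespectralSpace := PrespectralSpace.of_isClosedEmbedding _ Homeomorph.ulift.isClosedEmbedding }
  have hd' : topologicalKrullDim (GrothLib.EtQc13.upTop S) ≤ d := by
    rw [← hd]
    exact le_of_eq (IsHomeomorph.topologicalKrullDim_eq _ Homeomorph.ulift.isHomeomorph)
  have hGa : ∀ r, d < r → Subsingleton (EtCoh.H S (EtCoh.Ga S) r) := fun r hr => by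
    obtain ⟨e⟩ := GrothLib.EtQc13.nonempty_H_resUp S (EtCoh.Ga S) (GrothLib.EtQc13.acyclic_Ga S) r
    haveI := GrothLib.Spectral25.subsingleton_H_of_krullDim_le
      ((GrothLib.EtQc13.resUp S).obj (EtCoh.Ga S)) d hd' r hr
    exact e.toEquiv.subsingleton
  obtain ⟨r, rfl⟩ : ∃ r, q = r + 1 := ⟨q - 1, by omega⟩
  refine ⟨fun a b => ?_⟩
  suffices hx : ∀ x : EtCoh.H S (EtCoh.const S (ZMod p)) (r + 1), x = 0 from (hx a).trans (hx b).symm
  intro x
  obtain ⟨e⟩ := GrothLib.EtQc13.exists_iso_const S p hp
  let a := W4c5etcohweilstudent.artinSchreierEndo S p (Fact.out : p.Prime) hp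
  let T := ShortComplex.mk (kernel.ι a) a (kernel.condition a)
  haveI : Epi a := Groth.Agent.S18415.result p Fact.out hp
  have hT : T.ShortExact := { exact := T.exact_of_f_is_kernel (kernelIsKernel a) }
  let y : EtCoh.H S (kernel a) (r + 1) := Ext.comp x (Ext.mk₀ e.hom) (add_zero (r + 1))
  haveI := hGa (r + 1) (by omega)
  haveI := hGa r (by omega)
  obtain ⟨w, hw⟩ := Ext.covariant_sequence_exact₁ _ hT y
    (Subsingleton.elim (α := EtCoh.H S (EtCoh.Ga S) (r + 1)) _ _) rfl
  have hy : y = 0 := by
    rw [← hw, Subsingleton.elim (α := EtCoh.H S (EtCoh.Ga S) r) w 0, Ext.zero_comp]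
  rw [← Ext.comp_mk₀_id x, ← e.hom_inv_id, ← Ext.mk₀_comp_mk₀, ← Ext.comp_assoc_of_third_deg_zero]
  change Ext.comp y _ _ = 0
  rw [hy, Ext.zero_comp]

end Groth.Agent.S0207
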