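import Groth.Statements.S0215
import Groth.Agent.Lib.UnitsFG.Scheme

set_option autoImplicit false
universe u
open CategoryTheory CategoryTheory.Limits AlgebraicGeometry TopologicalSpace
open Curves

namespace Groth.Agent.S0215

/-- For a connected reduced scheme locally of finite type over a field k with finitely many irreducible
components, in which every global function integral over k is a constant, the group of invertible
global functions modulo nonzero constants is finitely generated. -/
theorem result (k : Type u) [Field k] (X : Scheme.{u}) (f : X ⟶ Spec (CommRingCat.of k))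
    [LocallyOfFiniteType f] [IsReduced X] [ConnectedSpace X] (hirr : (irreducibleComponents (X : Type u)).Finite)
    (hint : ∀ x : Γ(X, ⊤), (f.appTop.hom.comp (Scheme.ΓSpecIso (CommRingCat.of k)).inv.hom).IsIntegralElem x →
      x ∈ Set.range (f.appTop.hom.comp (Scheme.ΓSpecIso (CommRingCat.of k)).inv.hom)) :
    Group.FG ((Γ(X, ⊤))ˣ ⧸ (Units.map ((f.appTop.hom.comp (Scheme.ΓSpecIso (CommRingCat.of k)).inv.hom : k →+* Γ(X, ⊤)) : k →* Γ(X, ⊤))).range) := by
  exact GrothLib.UnitsFG.fg_units_quotient k X f hirr hint

end Groth.Agent.S0215
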