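import Groth.Statements.S0217
import Groth.Agent.Lib.FinAffGlue2.Main

set_option autoImplicit false
set_option linter.all false
universe u
open CategoryTheory CategoryTheory.Limits AlgebraicGeometry TopologicalSpace
open Curves

namespace Groth.Agent.S0217

/-- On a separated scheme whose quasi-compact opens have finitely many irreducible components, any
finite set of points with Noetherian local rings of dimension at most one lies in a common affine
open. -/
theorem result (X : Scheme.{u}) [X.IsSeparated]
    (hirr : ∀ U : X.Opens, IsCompact (U : Set X) → (irreducibleComponents (U : Set X)).Finite)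
    (s : Finset X) (hs : ∀ x ∈ s, IsNoetherianRing (X.presheaf.stalk x) ∧ ringKrullDim (X.presheaf.stalk x) ≤ 1) :
    ∃ U : X.Opens, IsAffineOpen U ∧ ∀ x ∈ s, x ∈ U :=
  GrothLib.FinAffGlue2.exists_affine_of_dim_le_one X hirr s hs

end Groth.Agent.S0217
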