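import Groth.Statements.S0218
import Mathlib

set_option autoImplicit false
universe u
open Curves

namespace Groth.Agent.S0218

open Polynomial

theorem GrothTmp.alg2 (k : Type u) [Field k] [IsAlgClosed k] (A : Type u) [CommRing A] [Algebra k A]
    (h : Nat.card (Subalgebra k A) = 2) :
    Nonempty (A ≃ₐ[k] (k × k)) ∨ Nonempty (A ≃ₐ[k] DualNumber k) := by
  classical
  obtain ⟨S₁, S₂, hne, huniv⟩ := Nat.card_eq_two_iff.1 h
  have hcases : ∀ S : Subalgebra k A, S = S₁ ∨ S = S₂ := fun S => by
    have : S ∈ ({S₁, S₂} : Set (Subalgebra k A)) := huniv ▸ Set.mem_univ S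
    exact this
  have hbt : (⊥ : Subalgebra k A) ≠ ⊤ := fun e => hne (by
    have := fun S : Subalgebra k A => le_antisymm (e ▸ le_top : S ≤ (⊥ : Subalgebra k A)) bot_le
    rw [this S₁, this S₂])
  have htwo : ∀ S : Subalgebra k A, S = ⊥ ∨ S = ⊤ := fun S => by
    rcases hcases S with rfl | rfl <;> rcases hcases ⊥ with hb | hb <;> rcases hcases ⊤ with ht | ht <;>
      simp_all
  have gen : ∀ b : A, b ∉ (⊥ : Subalgebra k A) → Algebra.adjoin k {b} = ⊤ := fun b hb =>
    (htwo _).resolve_left fun e => hb (e ▸ Algebra.self_mem_adjoin_singleton k b)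
  obtain ⟨a, -, ha⟩ := SetLike.exists_of_lt (lt_top_iff_ne_top.2 hbt)
  have hsurj : Function.Surjective (aeval a : k[X] →ₐ[k] A) := fun x => by
    have : x ∈ Algebra.adjoin k {a} := by rw [gen a ha]; trivial
    rwa [Algebra.adjoin_singleton_eq_range_aeval] at this
  have halg : IsIntegral k a := by
    by_contra hni
    have htr : Transcendental k a := fun hal => hni hal.isIntegral
    have hinj : Function.Injective (aeval a : k[X] →ₐ[k] A) := transcendental_iff_injective.1 htr
    have hsq : a ^ 2 ∉ (⊥ : Subalgebra k A) := fun hm => by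
      obtain ⟨c, hc⟩ := Algebra.mem_bot.1 hm
      have : (X ^ 2 : k[X]) = C c := hinj (by simp [hc])
      simpa using congrArg natDegree this
    have : a ∈ Algebra.adjoin k {a ^ 2} := by rw [gen _ hsq]; trivial
    rw [Algebra.adjoin_singleton_eq_range_aeval] at this
    obtain ⟨q, hq⟩ := this
    have : expand k 2 q = X := hinj (by rw [expand_aeval, aeval_X]; exact hq)
    have := congrArg natDegree this
    rw [natDegree_expand, natDegree_X] at this
    omega
  have : Nontrivial A := nontrivial_of_ne _ _ (fun e : (0 : A) = 1 =>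
    ha (by rw [← mul_one a, ← e, mul_zero]; exact zero_mem _))
  have hdeg : 2 ≤ (minpoly k a).natDegree := (minpoly.two_le_natDegree_iff halg).2 (fun hm => ha (Algebra.mem_bot.2 hm))
  obtain ⟨r, hr⟩ := IsAlgClosed.exists_root (minpoly k a) (fun e => by
    have := natDegree_eq_zero_iff_degree_le_zero.2 e.le; omega)
  obtain ⟨q, hq⟩ := dvd_iff_isRoot.2 hr
  have hq0 : q ≠ 0 := fun e => minpoly.ne_zero halg (by rw [hq, e, mul_zero])
  have hqdeg : 1 ≤ q.natDegree := by
    have := congrArg natDegree hq
    rw [natDegree_mul (X_sub_C_ne_zero r) hq0, natDegree_X_sub_C] at this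
    omega
  obtain ⟨s, hs⟩ := IsAlgClosed.exists_root q (fun e => by
    have := natDegree_eq_zero_iff_degree_le_zero.2 e.le; omega)
  obtain ⟨q', hq'⟩ := dvd_iff_isRoot.2 hs
  have main : ∀ (C : Type u) [CommRing C] [Nontrivial C] [Algebra k C] (t : C),
      (t - algebraMap k C r) * (t - algebraMap k C s) = 0 →
      (∀ z : C, ∃ u v : k, z = algebraMap k C u + v • t) →
      (∀ u v : k, algebraMap k C u + v • t = 0 → u = 0 ∧ v = 0) → Nonempty (A ≃ₐ[k] C) := by
    intro C _ _ _ t ht hspan hind
    let ψ : A →ₐ[k] C := (Ideal.Quotient.liftₐ (RingHom.ker (aeval a : k[X] →ₐ[k] A)) (aeval t) (fun p hp => by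
        obtain ⟨w, rfl⟩ := minpoly.dvd k a (RingHom.mem_ker.1 hp)
        rw [hq, hq']
        simp only [map_mul, map_sub, aeval_X, aeval_C]
        rw [← mul_assoc (t - algebraMap k C r), ht, zero_mul, zero_mul])).comp
      (Ideal.quotientKerAlgEquivOfSurjective hsurj).symm.toAlgHom
    have hψa : ψ a = t := by
      have : (Ideal.quotientKerAlgEquivOfSurjective hsurj).symm a =
          Ideal.Quotient.mk (RingHom.ker (aeval a : k[X] →ₐ[k] A)) X := by
        rw [AlgEquiv.symm_apply_eq]
        simp
      simp only [ψ, AlgHom.comp_apply, AlgEquiv.toAlgHom_eq_coe, AlgEquiv.coe_algHom, AlgHom.coe_coe]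
      rw [this]
      simp
    let b : A := (a - algebraMap k A r) * (a - algebraMap k A s)
    have hψb : ψ b = 0 := by simp only [b, map_mul, map_sub, AlgHom.commutes, hψa, ht]
    have hb : b = 0 := by
      by_cases hb : b ∈ (⊥ : Subalgebra k A)
      · obtain ⟨c, hc⟩ := Algebra.mem_bot.1 hb
        rw [← hc, AlgHom.commutes] at hψb
        rw [← hc, (map_eq_zero (algebraMap k C)).1 hψb, map_zero]
      · exfalso
        have : a ∈ Algebra.adjoin k {b} := by rw [gen _ hb]; trivial
        rw [Algebra.adjoin_singleton_eq_range_aeval] at this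
        obtain ⟨p, hp⟩ := this
        have := congrArg ψ hp
        rw [AlgHom.toRingHom_eq_coe, RingHom.coe_coe, ← aeval_algHom_apply, hψb, hψa] at this
        rw [← coeff_zero_eq_aeval_zero'] at this
        exact (neg_ne_zero.2 one_ne_zero) (hind (p.coeff 0) (-1) (by rw [← this]; simp)).2
    have hAspan : ∀ x : A, ∃ u v : k, x = algebraMap k A u + v • a := by
      intro x
      obtain ⟨p, rfl⟩ := hsurj x
      induction p using Polynomial.induction_on' with
      | add p p' hp hp' =>
        obtain ⟨u, v, e⟩ := hp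
        obtain ⟨u', v', e'⟩ := hp'
        exact ⟨u + u', v + v', by rw [map_add, e, e', map_add, add_smul]; abel⟩
      | monomial n c =>
        induction n with
        | zero => exact ⟨c, 0, by simp⟩
        | succ n ih =>
          obtain ⟨u, v, e⟩ := ih
          refine ⟨-(v * (r * s)), u + v * (r + s), ?_⟩
          rw [aeval_monomial] at e ⊢
          rw [pow_succ, ← mul_assoc, e]
          simp only [Algebra.smul_def, map_neg, map_add, map_mul] at hb ⊢
          simp only [b] at hb
          linear_combination (algebraMap k A v) * hb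
    exact ⟨AlgEquiv.ofBijective ψ ⟨(injective_iff_map_eq_zero ψ).2 fun x hx => by
      obtain ⟨u, v, rfl⟩ := hAspan x
      rw [map_add, AlgHom.commutes, map_smul, hψa] at hx
      obtain ⟨rfl, rfl⟩ := hind u v hx
      simp, fun z => by
      obtain ⟨u, v, rfl⟩ := hspan z
      exact ⟨algebraMap k A u + v • a, by rw [map_add, AlgHom.commutes, map_smul, hψa]⟩⟩⟩
  by_cases hrs : r = s
  · right
    subst hrs
    refine main (DualNumber k) (algebraMap k _ r + DualNumber.eps) (by simp) (fun z => ?_) (fun u v huv => ?_)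
    · exact ⟨z.fst - z.snd * r, z.snd, by ext <;> simp [TrivSqZeroExt.algebraMap_eq_inl]⟩
    · have h1 := congrArg TrivSqZeroExt.snd huv
      have h2 := congrArg TrivSqZeroExt.fst huv
      simp [TrivSqZeroExt.algebraMap_eq_inl] at h1 h2
      subst h1
      simpa using h2
  · left
    refine main (k × k) (r, s) (by simp) (fun z => ?_) (fun u v huv => ?_)
    · have : r - s ≠ 0 := sub_ne_zero.2 hrs
      refine ⟨z.1 - (z.1 - z.2) / (r - s) * r, (z.1 - z.2) / (r - s), Prod.ext ?_ ?_⟩ <;> simp <;> field_simp <;> ring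
    · have h1 := congrArg Prod.fst huv
      have h2 := congrArg Prod.snd huv
      simp at h1 h2
      have : v * (r - s) = 0 := by linear_combination h1 - h2
      have hv : v = 0 := (mul_eq_zero.1 this).resolve_right (sub_ne_zero.2 hrs)
      subst hv
      simpa using h1


/-- Over an algebraically closed field k, a commutative k-algebra with exactly two k-subalgebras is
isomorphic to k × k or to the dual numbers over k. -/
theorem result (k : Type u) [Field k] [IsAlgClosed k] (A : Type u) [CommRing A] [Algebra k A]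
    (h : Nat.card (Subalgebra k A) = 2) :
    Nonempty (A ≃ₐ[k] (k × k)) ∨ Nonempty (A ≃ₐ[k] DualNumber k) := by
  exact GrothTmp.alg2 k A h

end Groth.Agent.S0218
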