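import Groth.Statements.S0226
import Mathlib.RingTheory.PrincipalIdealDomainOfPrime
import Mathlib.RingTheory.Ideal.MinimalPrime.Noetherian
import Mathlib.RingTheory.Nakayama

set_option autoImplicit false
universe u
open Curves

namespace Groth.Agent.S0226

/-- In a regular local ring of dimension two, an ideal inside the maximal ideal with reduced quotient is
zero, the maximal ideal, or principal. -/
theorem result (A : Type u) [CommRing A] [IsRegularLocalRing A] (hdim : ringKrullDim A = 2)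
    (I : Ideal A) (hI : I ≤ IsLocalRing.maximalIdeal A) [IsReduced (A ⧸ I)] :
    I = ⊥ ∨ I = IsLocalRing.maximalIdeal A ∨ ∃ f ∈ IsLocalRing.maximalIdeal A, f ≠ 0 ∧ I = Ideal.span {f} := by
  classical
  set m := IsLocalRing.maximalIdeal A with hm
  by_cases hIm : I = m
  · exact Or.inr (Or.inl hIm)
  have hrad : I.radical = I := Ideal.IsRadical.radical ((Ideal.isRadical_iff_quotient_reduced I).mpr ‹_›)
  have hfin := Ideal.finite_minimalPrimes_of_isNoetherianRing A I
  have hle : ∀ P ∈ I.minimalPrimes, ¬ m ≤ P := by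
    intro P hP hmP
    apply hIm
    refine le_antisymm hI ?_
    rw [← hrad, ← Ideal.sInf_minimalPrimes]
    refine le_sInf fun Q hQ => ?_
    exact hmP.trans (hP.2 hQ.1 ((IsLocalRing.le_maximalIdeal hQ.1.1.ne_top).trans hmP))
  have hsq : ¬ m ≤ m ^ 2 := by
    intro h
    have h0 : m = ⊥ := Submodule.eq_bot_of_le_smul_of_le_jacobson_bot m m
      (IsNoetherian.noetherian m) (by simpa [sq] using h)
      (IsLocalRing.jacobson_eq_maximalIdeal ⊥ bot_ne_top).symm.le
    have h2 := IsRegularLocalRing.spanFinrank_maximalIdeal (R := A)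
    rw [hdim, ← hm, h0, Submodule.spanFinrank_bot] at h2
    exact absurd h2 (by decide)
  obtain ⟨x, hxm, hx⟩ : ∃ x ∈ m, x ∉ m ^ 2 ∧ ∀ P ∈ I.minimalPrimes, x ∉ P := by
    by_contra hcon
    push Not at hcon
    have hsub : (m : Set A) ⊆ ⋃ P ∈ (↑(insert (m ^ 2) hfin.toFinset) : Set (Ideal A)), (P : Set A) := by
      intro x hx
      simp only [Finset.coe_insert, Set.Finite.coe_toFinset, Set.mem_iUnion, Set.mem_insert_iff,
        exists_prop]
      by_cases h : x ∈ m ^ 2
      · exact ⟨_, Or.inl rfl, h⟩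
      · obtain ⟨P, hP, hxP⟩ := hcon x hx h
        exact ⟨P, Or.inr hP, hxP⟩
    obtain ⟨P, hP, hmP⟩ := (Ideal.subset_union_prime (f := fun P => P) (m ^ 2) (m ^ 2)
      (fun P hP hne _ => (hfin.mem_toFinset.mp ((Finset.mem_insert.mp hP).resolve_left hne)).1.1)).mp hsub
    rcases Finset.mem_insert.mp hP with rfl | hP
    · exact hsq hmP
    · exact hle P (hfin.mem_toFinset.mp hP) hmP
  obtain ⟨hx2, hxP⟩ := hx
  have hcolon : ∀ b, x * b ∈ I → b ∈ I := by
    intro b hb
    rw [← hrad, ← Ideal.sInf_minimalPrimes, Submodule.mem_sInf]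
    intro P hP
    exact (hP.1.1.mem_or_mem (hP.1.2 hb)).resolve_left (hxP P hP)
  obtain ⟨y, hy⟩ : ∃ y, m = Ideal.span {x, y} := by
    have hr := IsRegularLocalRing.spanFinrank_maximalIdeal (R := A)
    rw [hdim] at hr
    have hr2 : m.spanFinrank = 2 := by exact_mod_cast hr
    obtain ⟨s, hscard, hs⟩ := Submodule.FG.exists_span_set_encard_eq_spanFinrank
      (IsNoetherian.noetherian m)
    rw [hr2, Nat.cast_ofNat, Set.encard_eq_two] at hscard
    obtain ⟨a, b, -, rfl⟩ := hscard
    replace hs : Ideal.span {a, b} = m := hs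
    obtain ⟨u, v, huv⟩ := Ideal.mem_span_pair.mp (hs ▸ hxm)
    have ha : a ∈ m := hs ▸ Ideal.subset_span (by simp)
    have hb : b ∈ m := hs ▸ Ideal.subset_span (by simp)
    by_cases hu : IsUnit u
    · refine ⟨b, le_antisymm (hs.symm.le.trans (Ideal.span_le.mpr ?_))
        (Ideal.span_le.mpr (by simp [Set.insert_subset_iff, hxm, hb]))⟩
      obtain ⟨u, rfl⟩ := hu
      simp only [Set.insert_subset_iff, Set.singleton_subset_iff, SetLike.mem_coe]
      refine ⟨Ideal.mem_span_pair.mpr ⟨(↑u⁻¹ : A), -((↑u⁻¹ : A) * v), ?_⟩, Ideal.subset_span (by simp)⟩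
      linear_combination (-(↑u⁻¹ : A)) * huv + a * u.inv_mul
    · by_cases hv : IsUnit v
      · refine ⟨a, le_antisymm (hs.symm.le.trans (Ideal.span_le.mpr ?_))
          (Ideal.span_le.mpr (by simp [Set.insert_subset_iff, hxm, ha]))⟩
        obtain ⟨v, rfl⟩ := hv
        simp only [Set.insert_subset_iff, Set.singleton_subset_iff, SetLike.mem_coe]
        refine ⟨Ideal.subset_span (by simp), Ideal.mem_span_pair.mpr ⟨(↑v⁻¹ : A), -((↑v⁻¹ : A) * u), ?_⟩⟩
        linear_combination (-(↑v⁻¹ : A)) * huv + b * v.inv_mul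
      · refine absurd ?_ hx2
        rw [← huv, sq]
        exact add_mem (Ideal.mul_mem_mul ((IsLocalRing.mem_maximalIdeal u).mpr hu) ha)
          (Ideal.mul_mem_mul ((IsLocalRing.mem_maximalIdeal v).mpr hv) hb)
  let R := A ⧸ Ideal.span ({x} : Set A)
  let q : A →+* R := Ideal.Quotient.mk _
  have hqsurj : Function.Surjective q := Ideal.Quotient.mk_surjective
  have hpir : IsPrincipalIdealRing R := by
    refine IsPrincipalIdealRing.of_prime fun P hP => ?_
    by_cases hyP : q y ∈ P
    · refine ⟨q y, le_antisymm ?_ (by simpa [Submodule.span_le] using hyP)⟩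
      intro r hr
      obtain ⟨r, rfl⟩ := hqsurj r
      have hrm : r ∈ m := IsLocalRing.le_maximalIdeal (Ideal.comap_ne_top q hP.ne_top) hr
      rw [hy, Ideal.mem_span_pair] at hrm
      obtain ⟨c, d, rfl⟩ := hrm
      have hx0 : q x = 0 := Ideal.Quotient.eq_zero_iff_mem.mpr (Ideal.subset_span rfl)
      rw [map_add, map_mul, map_mul, hx0, mul_zero, zero_add]
      exact Submodule.smul_mem _ _ (Submodule.mem_span_singleton_self _)
    · suffices P = ⊥ from ⟨0, by simp [this]⟩
      refine Submodule.eq_bot_of_le_smul_of_le_jacobson_bot (Ideal.span {q y}) P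
        (IsNoetherian.noetherian P) ?_ ?_
      · intro r hr
        obtain ⟨r, rfl⟩ := hqsurj r
        have hrm : r ∈ m := IsLocalRing.le_maximalIdeal (Ideal.comap_ne_top q hP.ne_top) hr
        rw [hy, Ideal.mem_span_pair] at hrm
        obtain ⟨c, d, rfl⟩ := hrm
        have hx0 : q x = 0 := Ideal.Quotient.eq_zero_iff_mem.mpr (Ideal.subset_span rfl)
        rw [map_add, map_mul, map_mul, hx0, mul_zero, zero_add] at hr ⊢
        rw [smul_eq_mul, mul_comm (q d) (q y)]
        exact Ideal.mul_mem_mul (Ideal.subset_span rfl) ((hP.mem_or_mem hr).resolve_right hyP)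
      · rw [Ideal.span_singleton_le_iff_mem, Ideal.mem_jacobson_bot]
        intro r
        obtain ⟨r, rfl⟩ := hqsurj r
        rw [← map_mul, ← map_one q, ← map_add]
        refine RingHom.isUnit_map q ?_
        have hym : y ∈ m := hy ▸ Ideal.subset_span (by simp)
        by_contra hnu
        have h1 := sub_mem ((IsLocalRing.mem_maximalIdeal _).mpr hnu) (Ideal.mul_mem_right r _ hym)
        rw [add_sub_cancel_left] at h1
        exact IsLocalRing.maximalIdeal.isMaximal A |>.ne_top ((Ideal.eq_top_iff_one _).mpr h1)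
  obtain ⟨p', hp'⟩ := hpir.principal (I.map q)
  have hp'I : p' ∈ I.map q := hp' ▸ Submodule.mem_span_singleton_self p'
  obtain ⟨p, hpI, rfl⟩ := (Ideal.mem_map_iff_of_surjective q hqsurj).mp hp'I
  have hIp : I ≤ Ideal.span {p} := by
    refine Submodule.le_of_le_smul_of_le_jacobson_bot (I := m) (IsNoetherian.noetherian I)
      (IsLocalRing.jacobson_eq_maximalIdeal ⊥ bot_ne_top).symm.le ?_
    intro b hb
    have hbq : q b ∈ I.map q := Ideal.mem_map_of_mem q hb
    rw [hp', Submodule.mem_span_singleton] at hbq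
    obtain ⟨c, hc⟩ := hbq
    obtain ⟨c, rfl⟩ := hqsurj c
    rw [smul_eq_mul, ← map_mul, eq_comm] at hc
    obtain ⟨d, hd⟩ := Ideal.mem_span_singleton.mp (Ideal.Quotient.eq.mp hc)
    have hdI : d ∈ I := hcolon d (hd ▸ sub_mem hb (Ideal.mul_mem_left _ c hpI))
    refine Submodule.mem_sup.mpr ⟨c * p, Ideal.mem_span_singleton.mpr (dvd_mul_left _ _), x * d,
      Submodule.smul_mem_smul hxm hdI, ?_⟩
    linear_combination -hd
  have hIeq : I = Ideal.span {p} :=
    le_antisymm hIp ((Ideal.span_singleton_le_iff_mem _).mpr hpI)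
  by_cases hp0 : p = 0
  · exact Or.inl (by rw [hIeq, hp0]; simp)
  · exact Or.inr (Or.inr ⟨p, hI hpI, hp0, hIeq⟩)

end Groth.Agent.S0226
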