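import Groth.Statements.S0227
import Groth.Agent.Lib.CdBr2.Curve

set_option autoImplicit false
set_option linter.all false
universe u
open CategoryTheory CategoryTheory.Limits AlgebraicGeometry
open Curves

namespace Groth.Agent.S0227

/-- On a smooth curve over an algebraically closed field the étale cohomology of G_m vanishes from
degree two on. -/
theorem result (k : Type u) [Field k] [IsAlgClosed k] (X : Scheme.{u}) (f : X ⟶ Spec (CommRingCat.of k))
    [Smooth f] [IsSeparated f] [LocallyOfFiniteType f] [QuasiCompact f] [IsIntegral X]
    (hdim : topologicalKrullDim X = 1) (q : ℕ) (hq : 2 ≤ q) :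
    Subsingleton (EtCoh.H X (EtCoh.Gm X) q) := by
  haveI : CompactSpace X := QuasiCompact.compactSpace_of_compactSpace f
  haveI : IsLocallyNoetherian X := LocallyOfFiniteType.isLocallyNoetherian f
  haveI : AlgebraicGeometry.IsNoetherian X := {}
  have h := GrothLib.CdBr2.HGm_eq_zero_of_max (X := X) hdim.le
    (fun x hx => GrothLib.GalCd.isSepClosed_residueField_of_closed f x hx)
    (fun x p _ =>
      letI : Algebra k (X.residueField x.1) := (Spec.preimage (X.fromSpecResidueField x.1 ≫ f)).hom.toAlgebra
      GrothLib.CdBr2.normSurj_of_trdeg_le_one k (X.residueField x.1)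
        (GrothLib.GalCd.trdeg_residueField_le f hdim.le x.1) p) q hq
  exact ⟨fun a b => (h a).trans (h b).symm⟩

end Groth.Agent.S0227
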