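import Groth.Statements.S0231
import Groth.Agent.Lib.CdBr2.Curve

set_option autoImplicit false
set_option linter.all false
universe u
open CategoryTheory CategoryTheory.Limits AlgebraicGeometry
open Curves

namespace Groth.Agent.S0231

/-- For a smooth curve X over an algebraically closed field and j as in the previous row, the étale
cohomology of j_* G_m on X vanishes in positive degrees. -/
theorem result (k : Type u) [Field k] [IsAlgClosed k] (X : Scheme.{u}) (f : X ⟶ Spec (CommRingCat.of k))
    [Smooth f] [IsSeparated f] [LocallyOfFiniteType f] [QuasiCompact f] [IsIntegral X]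
    (hdim : topologicalKrullDim X = 1)
    [EtCoh.BCCont (X.fromSpecStalk (genericPoint X))] (p : ℕ) (hp : 1 ≤ p) :
    Subsingleton (EtCoh.H X ((EtCoh.push (X.fromSpecStalk (genericPoint X))).obj
      (EtCoh.Gm (Spec (X.presheaf.stalk (genericPoint X))))) p) := by
  haveI : CompactSpace X := QuasiCompact.compactSpace_of_compactSpace f
  haveI : IsLocallyNoetherian X := LocallyOfFiniteType.isLocallyNoetherian f
  haveI : AlgebraicGeometry.IsNoetherian X := {}
  have hN : ∀ r : ℕ, r.Prime → GrothLib.GalCd.NormSurj r X.functionField := fun r _ =>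
    GrothLib.CdBr2.normSurj_functionField f hdim.le r
  let j : Spec (CommRingCat.of X.functionField) ⟶ X := X.fromSpecStalk (genericPoint X)
  haveI := GrothLib.EtDer.pullFL j
  exact ⟨fun a b => (Groth.Agent.S14451.result j (EtCoh.Gm _)
    (fun r hr => GrothLib.CdBr2.isZero_Rpush_Gm (k := X.functionField) j hN r hr) p).1
      ((GrothLib.CdBr2.H_Gm_eq_zero hN p hp _).trans (GrothLib.CdBr2.H_Gm_eq_zero hN p hp _).symm)⟩

end Groth.Agent.S0231
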