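import Groth.Prelude
import Groth.Agent.Lib.SemiTriv10.Main

set_option autoImplicit false
universe u
open CategoryTheory CategoryTheory.Limits AlgebraicGeometry
namespace Variety
end Variety
open Variety

namespace Groth.Agent.S7671

/-- Let A → B be faithfully flat and X a quasi-compact and quasi-separated scheme over A such that
H^0(X, O_X) is a semi-local ring. Then Pic(X) → Pic(X_B) is injective: an invertible module on X
which becomes trivial on X_B is trivial. -/
theorem result (A B : Type u) [CommRing A]
    [CommRing B] [Algebra A B] [Module.FaithfullyFlat A B]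
    (X : Scheme.{u}) (f : X ⟶ Spec (CommRingCat.of A)) [CompactSpace X] [QuasiSeparatedSpace X]
    (hsl : Finite (MaximalSpectrum Γ(X, ⊤))) (L : X.Modules) (hL : PicF.IsInvertible L)
    (htriv : Nonempty ((Scheme.Modules.pullback
        (pullback.fst f (Spec.map (CommRingCat.ofHom (algebraMap A B))))).obj L ≅
      Coh.structureModule (pullback f (Spec.map (CommRingCat.ofHom (algebraMap A B)))))) :
    Nonempty (L ≅ Coh.structureModule X) := by
  let α : CommRingCat.of A ⟶ Γ(X, ⊤) := (Scheme.ΓSpecIso _).inv ≫ f.appTop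
  have hf : X.toSpecΓ ≫ Spec.map α = f := by
    simp only [α, Spec.map_comp]
    rw [← Category.assoc, ← Scheme.toSpecΓ_naturality, Category.assoc]
    refine (congrArg (f ≫ ·) ?_).trans (Category.comp_id f)
    exact (Scheme.isoSpec_Spec_inv (CommRingCat.of A)) ▸ (Spec (CommRingCat.of A)).isoSpec.hom_inv_id
  let ρ := Spec.map (CommRingCat.ofHom (algebraMap A B))
  haveI : Flat ρ := GrothLib.SemiTriv10.flat_specMap A B
  haveI : Surjective ρ := GrothLib.SemiTriv10.surjective_specMap A B
  let g := pullback.fst (Spec.map α) ρ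
  haveI : Flat g := MorphismProperty.pullback_fst _ _ inferInstance
  haveI : Surjective g := MorphismProperty.pullback_fst _ _ inferInstance
  haveI : QuasiCompact g := MorphismProperty.pullback_fst _ _ inferInstance
  haveI : QuasiCompact X.toSpecΓ := (quasiCompact_iff_compactSpace _).2 inferInstance
  haveI : QuasiSeparated X.toSpecΓ := (quasiSeparated_iff_quasiSeparatedSpace _).2 inferInstance
  let e : pullback X.toSpecΓ g ≅ pullback f ρ :=
    pullbackRightPullbackFstIso (Spec.map α) ρ X.toSpecΓ ≪≫ pullback.congrHom hf rfl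
  have he : e.inv ≫ pullback.fst X.toSpecΓ g = pullback.fst f ρ := by
    simp [e, g, pullback.map]
    exact pullback.lift_fst _ _ _
  obtain ⟨ψ⟩ := htriv
  have htriv' : Nonempty ((Scheme.Modules.pullback (pullback.fst X.toSpecΓ g)).obj L ≅
      Coh.structureModule (pullback X.toSpecΓ g)) := by
    have h : pullback.fst X.toSpecΓ g = e.hom ≫ pullback.fst f ρ := by rw [← he, e.hom_inv_id_assoc]
    obtain ⟨v⟩ := GrothLib.Ample.nonempty_pullback_structureModule e.hom
    rw [h]
    exact ⟨((Scheme.Modules.pullbackComp e.hom (pullback.fst f ρ)).app L).symm ≪≫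
      (Scheme.Modules.pullback e.hom).mapIso ψ ≪≫ v⟩
  have hb := GrothLib.SemiTriv10.bijective_toSpecΓ_app X
  have hM := GrothLib.FlatBC.isInvertible_pushforward X.toSpecΓ hb g L hL htriv'
  haveI := GrothLib.FlatBC.isIso_counit X.toSpecΓ hb g L hL htriv'
  obtain ⟨φ⟩ := GrothLib.SemiTriv10.trivial_of_semilocal hsl hM
  obtain ⟨v⟩ := GrothLib.Ample.nonempty_pullback_structureModule X.toSpecΓ
  exact ⟨(asIso ((Scheme.Modules.pullbackPushforwardAdjunction X.toSpecΓ).counit.app L)).symm ≪≫
    (Scheme.Modules.pullback X.toSpecΓ).mapIso φ ≪≫ v⟩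

end Groth.Agent.S7671
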