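import Groth.Statements.S0232
import Groth.Agent.S7671


set_option autoImplicit false
set_option linter.all false
set_option backward.isDefEq.respectTransparency false
universe u
open CategoryTheory CategoryTheory.Limits AlgebraicGeometry
open Curves

namespace Groth.Agent.S0232

theorem cl_eq_iff {Y : Scheme.{u}} {L M : Y.Modules} : PicF.cl L = PicF.cl M ↔ Nonempty (L ≅ M) := by
  refine ⟨fun h => ?_, fun h => Quot.sound h⟩
  have hr : Equivalence fun L L' : Y.Modules => Nonempty (L ≅ L') :=
    ⟨fun _ => ⟨Iso.refl _⟩, fun ⟨e⟩ => ⟨e.symm⟩, fun ⟨e⟩ ⟨e'⟩ => ⟨e ≪≫ e'⟩⟩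
  exact hr.eqvGen_iff.mp (Quot.eqvGen_exact h)


/-- For a quasi-compact quasi-separated scheme X over a field k with finite-dimensional H^0(X, O_X), an
invertible module on X that becomes trivial after base change to a field extension k' is already
trivial (injectivity of Pic(X) → Pic(X_{k'}), stated on classes without a group structure). The base
change is given as any pullback square. -/
theorem result (k : Type u) [Field k] (X : Scheme.{u}) [X.Over (Spec (CommRingCat.of k))]
    [CompactSpace X] [QuasiSeparatedSpace X]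
    (hfin : Module.Finite k (Coh.HH X (Coh.structureModule X) 0))
    (k' : Type u) [Field k'] [Algebra k k'] (X' : Scheme.{u}) (g : X' ⟶ X) (q : X' ⟶ Spec (CommRingCat.of k'))
    (hpb : IsPullback g q (X ↘ Spec (CommRingCat.of k)) (Spec.map (CommRingCat.ofHom (algebraMap k k'))))
    (L : X.Modules) (hL : PicF.IsInvertible L) (htriv : PicF.IsTrivialCl (PicF.pullCl g (PicF.cl L))) :
    PicF.IsTrivialCl (PicF.cl L) := by
  let f := X ↘ Spec (CommRingCat.of k)
  letI : Algebra k Γ(X, ⊤) := (Coh.toGlobal f).toAlgebra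
  let e₀ : Coh.HH X (Coh.structureModule X) 0 ≃+ Γ(X, ⊤) :=
    Sheaf.H.equiv₀ (Coh.toAb (Coh.structureModule X)) (T := (⊤ : X.Opens)) isTerminalTop
  haveI : Module.Finite k Γ(X, ⊤) := by
    haveI := hfin
    refine Module.Finite.equiv (e₀.toLinearEquiv fun a x => ?_)
    let r := Coh.toGlobal f a
    refine ((Sheaf.H.equiv₀_naturality isTerminalTop (Coh.smulAb (Coh.structureModule X) r) x).symm.trans
      ((Coh.smulAb_app _ _ (Opposite.op ⊤) _).trans ?_))
    have e2 : Coh.resTop X (Opposite.op ⊤) r = r := by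
      show (X.ringCatSheaf.obj.map (𝟙 _)).hom _ = _
      rw [CategoryTheory.Functor.map_id]; rfl
    rw [e2]
    rfl
  haveI : IsArtinianRing Γ(X, ⊤) := IsArtinianRing.of_finite k _
  haveI : Module.FaithfullyFlat k k' := inferInstance
  show PicF.cl L = PicF.cl (Coh.structureModule X)
  rw [cl_eq_iff]
  have htriv' : Nonempty ((Scheme.Modules.pullback g).obj L ≅ Coh.structureModule X') :=
    cl_eq_iff.1 htriv
  obtain ⟨ψ⟩ := htriv'
  obtain ⟨v⟩ := GrothLib.Ample.nonempty_pullback_structureModule hpb.isoPullback.inv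
  refine Groth.Agent.S7671.result k k' X f inferInstance L hL ?_
  rw [← hpb.isoPullback_inv_fst]
  exact ⟨((Scheme.Modules.pullbackComp hpb.isoPullback.inv g).app L).symm ≪≫
    (Scheme.Modules.pullback hpb.isoPullback.inv).mapIso ψ ≪≫ v⟩

end Groth.Agent.S0232
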