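import Groth.Statements.S0245
import Groth.Agent.Lib.FEt21.NormalComp

set_option autoImplicit false
universe u
open Pi1

namespace Groth.Agent.S0245

open AlgebraicGeometry CategoryTheory CategoryTheory.Limits in
/-- For a normal integral scheme X, restricting finite étale covers of X along the canonical morphism
from the spectrum of the local ring at the generic point (the spectrum of the function field) is a
full and faithful functor. -/
theorem result {X : Scheme.{u}} [IsIntegral X] (hX : Pi1.IsNormalScheme X) :
    (FEt.restrict (X.fromSpecStalk (genericPoint X))).Full ∧
    (FEt.restrict (X.fromSpecStalk (genericPoint X))).Faithful := by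
  have hη : genericPoint X ∈ Set.range (X.fromSpecStalk (genericPoint X)) := by
    rw [Scheme.range_fromSpecStalk]; exact specializes_rfl
  refine GrothLib.FEt21.fullyFaithful_of_clopen _
    (GrothLib.FEt21.clopenInj_of_denseRange _ ?_)
    (GrothLib.FEt21.clopenSurj_of_generic _ hX hη)
  exact Dense.mono (Set.singleton_subset_iff.2 hη) (dense_iff_closure_eq.2 (genericPoint_spec X))

end Groth.Agent.S0245
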