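import Groth.Statements.S0246
import Groth.Agent.Lib.FEt21.NormalComp

set_option autoImplicit false
universe u
open Pi1

namespace Groth.Agent.S0246

open AlgebraicGeometry CategoryTheory CategoryTheory.Limits in
/-- If Y is finite etale over a normal integral scheme X and Y is connected, then Y is an integral
scheme all of whose local rings are integrally closed domains. -/
theorem result {X : Scheme.{u}} [IsIntegral X] (hX : Pi1.IsNormalScheme X) (Y : FEt.Cat X)
    [ConnectedSpace Y.left] : IsIntegral Y.left ∧ Pi1.IsNormalScheme Y.left := by
  haveI : IsFinite Y.hom := Y.prop.1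
  haveI : Etale Y.hom := Y.prop.2
  haveI : IsIntegral ((Functor.fromPUnit X).obj Y.right) := ‹IsIntegral X›
  have hN := GrothLib.FEt21.isNormalScheme_of_etale hX Y.hom
  haveI : IsReduced Y.left := by
    haveI : ∀ y : Y.left, _root_.IsReduced (Y.left.presheaf.stalk y) := fun y =>
      @isReduced_of_noZeroDivisors _ _ ((hN y).1.to_noZeroDivisors)
    exact isReduced_of_isReduced_stalk _
  have y₀ : Y.left := Classical.arbitrary _
  have hc := GrothLib.FEt21.isClopen_component (fun z => (hN z).1)
    (GrothLib.FEt21.finite_components Y.hom) (irreducibleComponent_mem_irreducibleComponents y₀)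
  haveI : IrreducibleSpace Y.left := by
    haveI : PreconnectedSpace ((𝟭 Scheme).obj Y.left : Scheme) :=
      ‹ConnectedSpace Y.left›.toPreconnectedSpace
    rcases isClopen_iff.1 hc with h | h
    · exact absurd (mem_irreducibleComponent (x := y₀)) (by rw [h]; simp)
    · have h2 := isIrreducible_irreducibleComponent (x := y₀)
      rw [h] at h2
      exact { isPreirreducible_univ := h2.2, toNonempty := ⟨y₀⟩ }
  exact ⟨isIntegral_of_irreducibleSpace_of_isReduced _, hN⟩

end Groth.Agent.S0246
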