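import Groth.Statements.S0249
import Mathlib.RingTheory.Ideal.KrullsHeightTheorem

set_option autoImplicit false
universe u
open Pi1

namespace Groth.Agent.S0249

open AlgebraicGeometry CategoryTheory CategoryTheory.Limits in
open Ideal in
theorem step {A : Type*} [CommRing A] [IsNoetherianRing A] (f : A) (Q : Ideal A) [Q.IsPrime] (hf : f ∈ Q)
    (hQ : 1 < Q.height) : ∃ Q' : Ideal A, Q'.IsPrime ∧ f ∈ Q' ∧ Q' < Q ∧ 1 ≤ Q'.height := by
  obtain ⟨Q₁, hQ₁, hlt, hh⟩ : ∃ Q₁ : Ideal A, Q₁.IsPrime ∧ Q₁ < Q ∧ ¬ Q₁.height < 1 := by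
    by_contra h
    push Not at h
    exact hQ.not_ge ((Ideal.height_le_iff (n := 1)).2 fun q hq hlt => h q hq hlt)
  obtain ⟨P, hP, hPlt⟩ : ∃ P : Ideal A, P.IsPrime ∧ P < Q₁ := by
    by_contra h
    push Not at h
    refine hh (lt_of_le_of_lt ((Ideal.height_le_iff (n := 0)).2 fun q hq hlt' => absurd hlt' (h q hq)) ?_)
    exact_mod_cast zero_lt_one
  have hpos : ∀ R : Ideal A, R.IsPrime → P < R → 1 ≤ R.height := fun R hR hPR =>
    le_trans le_add_self (Ideal.height_add_one_le_of_lt_of_isPrime hPR)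
  by_cases hfP : f ∈ P
  · exact ⟨Q₁, hQ₁, hPlt.le hfP, hlt, hpos Q₁ hQ₁ hPlt⟩
  obtain ⟨Q', hQ', hle⟩ := Ideal.exists_minimalPrimes_le (I := P ⊔ span {f}) (J := Q)
    (sup_le (hPlt.trans hlt).le ((span_singleton_le_iff_mem _).2 hf))
  have hQ'p := hQ'.1.1
  have hfQ' : f ∈ Q' := (span_singleton_le_iff_mem _).1 (le_sup_right.trans hQ'.1.2)
  have hPQ' : P < Q' := lt_of_le_of_ne (le_sup_left.trans hQ'.1.2) fun he => hfP (he ▸ hfQ')
  refine ⟨Q', hQ'p, hfQ', lt_of_le_of_ne hle ?_, hpos Q' hQ'p hPQ'⟩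
  rintro rfl
  have h1 := Ideal.map_height_le_one_of_mem_minimalPrimes hQ'
  let π := Ideal.Quotient.mk P
  have hprime : ∀ R : Ideal A, R.IsPrime → P ≤ R → (R.map π).IsPrime := fun R hR hPR =>
    map_isPrime_of_surjective Quotient.mk_surjective (mk_ker.trans_le hPR)
  have hstrict : ∀ R R' : Ideal A, P ≤ R → R < R' → R.map π < R'.map π := fun R R' hPR hRR' => by
    refine lt_of_le_of_ne (map_mono hRR'.le) fun he => hRR'.ne ?_
    have := congrArg (Ideal.comap π) he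
    rwa [comap_map_of_surjective _ Quotient.mk_surjective, comap_map_of_surjective _ Quotient.mk_surjective,
      ← RingHom.ker_eq_comap_bot, mk_ker, sup_eq_left.2 hPR, sup_eq_left.2 (hPR.trans hRR'.le)] at this
  have := hprime P hP le_rfl
  have := hprime Q₁ hQ₁ hPlt.le
  have := hprime Q' hQ'p hPQ'.le
  have h2 := Ideal.height_add_one_le_of_lt_of_isPrime (hstrict P Q₁ le_rfl hPlt)
  have h3 := Ideal.height_add_one_le_of_lt_of_isPrime (hstrict Q₁ Q' hPlt.le hlt)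
  have h4 : (2 : ℕ∞) ≤ 1 := calc
    (2 : ℕ∞) = 0 + 1 + 1 := rfl
    _ ≤ (P.map π).height + 1 + 1 := by gcongr; exact bot_le
    _ ≤ (Q₁.map π).height + 1 := by gcongr
    _ ≤ (Q'.map π).height := h3
    _ ≤ 1 := h1
  exact absurd h4 (by norm_num)

/-- Let A be a Noetherian local ring of dimension at least 1 and f an element of its maximal ideal. Then
some prime ideal of height exactly 1 contains f. -/
theorem result (A : Type u) [CommRing A] [IsNoetherianRing A] [IsLocalRing A]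
    (h : (1 : WithBot ℕ∞) ≤ ringKrullDim A) (f : A) (hf : f ∈ IsLocalRing.maximalIdeal A) :
    ∃ p : Ideal A, p.IsPrime ∧ f ∈ p ∧ p.height = 1 := by
  have hm1 : 1 ≤ (IsLocalRing.maximalIdeal A).height := by
    rw [← IsLocalRing.maximalIdeal_height_eq_ringKrullDim] at h; exact_mod_cast h
  obtain ⟨n, ⟨Q, hQp, hQf, hQ1, rfl⟩, hmin⟩ := wellFounded_lt.has_min
    {n : ℕ∞ | ∃ Q : Ideal A, Q.IsPrime ∧ f ∈ Q ∧ 1 ≤ Q.height ∧ Q.height = n}
    ⟨_, IsLocalRing.maximalIdeal A, inferInstance, hf, hm1, rfl⟩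
  refine ⟨Q, hQp, hQf, le_antisymm ?_ hQ1⟩
  by_contra hgt
  obtain ⟨Q', hQ'p, hfQ', hlt, hh'⟩ := step f Q hQf (lt_of_not_ge hgt)
  exact hmin _ ⟨Q', hQ'p, hfQ', hh', rfl⟩ (Ideal.height_strict_mono_of_isPrime_of_isPrime hlt)

end Groth.Agent.S0249
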