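import Groth.Statements.S0252
import Groth.Agent.Lib.FEt21.Colimits
import Mathlib.AlgebraicGeometry.Morphisms.UniversallyOpen
import Groth.Agent.Lib.NoethTop.Components

set_option autoImplicit false
universe u
open Pi1

namespace Groth.Agent.S0252

open AlgebraicGeometry CategoryTheory CategoryTheory.Limits in
/-- A clopen subset, as a finite étale cover. -/
noncomputable def clopenCover {Y : Scheme.{u}} (D : Set Y) (hD : IsClopen D) : FEt.Cat Y :=
  MorphismProperty.Over.mk ⊤ (Scheme.Opens.ι (⟨D, hD.isOpen⟩ : Y.Opens)) (GrothLib.FEt21.prop_ι _ hD.isClosed)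

open AlgebraicGeometry CategoryTheory CategoryTheory.Limits in
theorem range_clopenCover {Y : Scheme.{u}} (D : Set Y) (hD : IsClopen D) :
    Set.range (clopenCover D hD).hom = D := Scheme.Opens.range_ι (⟨D, hD.isOpen⟩ : Y.Opens)

open AlgebraicGeometry CategoryTheory CategoryTheory.Limits in
theorem isClopen_range {Y : Scheme.{u}} (A : FEt.Cat Y) : IsClopen (Set.range A.hom) :=
  haveI : IsFinite A.hom := A.prop.1
  haveI : Etale A.hom := A.prop.2
  ⟨A.hom.isClosedMap.isClosed_range, (Scheme.Hom.isOpenMap A.hom).isOpen_range⟩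

open AlgebraicGeometry CategoryTheory CategoryTheory.Limits in
theorem range_restrict {X Y : Scheme.{u}} (f : X ⟶ Y) (A : FEt.Cat Y) :
    Set.range ((FEt.restrict f).obj A).hom = f ⁻¹' Set.range A.hom :=
  Scheme.Pullback.range_snd _ _

open AlgebraicGeometry CategoryTheory CategoryTheory.Limits in
theorem exists_clopen_eq {X Y : Scheme.{u}} (f : X ⟶ Y) [(FEt.restrict f).EssSurj]
    (C : Set X) (hC : IsClopen C) : ∃ D : Set Y, IsClopen D ∧ f ⁻¹' D = C := by
  let e := (FEt.restrict f).objObjPreimageIso (clopenCover C hC)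
  let A := (FEt.restrict f).objPreimage (clopenCover C hC)
  refine ⟨Set.range A.hom, isClopen_range A, ?_⟩
  rw [← range_restrict f A, ← range_clopenCover C hC]
  have w1 : e.hom.left ≫ (clopenCover C hC).hom = ((FEt.restrict f).obj A).hom := Over.w e.hom.hom
  have w2 : e.inv.left ≫ ((FEt.restrict f).obj A).hom = (clopenCover C hC).hom := Over.w e.inv.hom
  refine subset_antisymm ?_ ?_
  · rintro _ ⟨z, rfl⟩
    rw [← w1]
    exact ⟨e.hom.left z, rfl⟩
  · rintro _ ⟨z, rfl⟩
    rw [← w2]
    exact ⟨e.inv.left z, rfl⟩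

open AlgebraicGeometry CategoryTheory CategoryTheory.Limits in
theorem eq_empty_of_preimage {X Y : Scheme.{u}} (f : X ⟶ Y) [(FEt.restrict f).Full]
    [(FEt.restrict f).Faithful] (D : Set Y) (hD : IsClopen D) (h : f ⁻¹' D = ∅) : D = ∅ := by
  let A := clopenCover D hD
  haveI : IsEmpty ((FEt.restrict f).obj A).left := ⟨fun z => by
    have : ((FEt.restrict f).obj A).hom z ∈ f ⁻¹' Set.range A.hom := range_restrict f A ▸ ⟨z, rfl⟩
    rw [range_clopenCover, h] at this
    exact this⟩
  haveI : IsEmpty (GrothLib.FEt21.emptyCover Y).left := inferInstanceAs (IsEmpty (∅ : Scheme.{u}))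
  let E := GrothLib.FEt21.emptyCover X
  haveI : IsEmpty E.left := inferInstanceAs (IsEmpty (∅ : Scheme.{u}))
  haveI : IsEmpty ((𝟭 Scheme).obj (GrothLib.FEt21.emptyCover Y).left : Scheme.{u}) := inferInstanceAs (IsEmpty (∅ : Scheme.{u}))
  haveI : IsEmpty ((FEt.restrict f).obj (GrothLib.FEt21.emptyCover Y)).left :=
    (Function.isEmpty (fun z => (pullback.fst (GrothLib.FEt21.emptyCover Y).hom f) z) : _)
  let u := GrothLib.FEt21.emptyCoverIsInitial.to A
  let v := (FEt.restrict f).map u
  haveI : IsIso v.left := inferInstance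
  haveI : IsIso v := by
    haveI : IsIso ((MorphismProperty.Over.forget _ _ _).map v) := by
      haveI : IsIso ((Over.forget _).map ((MorphismProperty.Over.forget _ _ _).map v)) := ‹IsIso v.left›
      exact isIso_of_reflects_iso _ (Over.forget X)
    exact isIso_of_reflects_iso v (MorphismProperty.Over.forget _ _ _)
  haveI : IsIso u := isIso_of_reflects_iso u (FEt.restrict f)
  rw [← range_clopenCover D hD]
  refine Set.range_eq_empty_iff.mpr ⟨fun z => ?_⟩
  exact IsEmpty.false ((inv u).left z : (GrothLib.FEt21.emptyCover Y).left)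

theorem totallySeparated_components {Z : Type u} [TopologicalSpace Z] [CompactSpace Z]
    [PrespectralSpace Z] [QuasiSeparatedSpace Z] : T2Space (ConnectedComponents Z) := by
  refine ⟨fun a b hab => ?_⟩
  obtain ⟨x, rfl⟩ := ConnectedComponents.surjective_coe a
  obtain ⟨y, rfl⟩ := ConnectedComponents.surjective_coe b
  have hy : y ∉ connectedComponent x := fun h => hab (ConnectedComponents.coe_eq_coe'.mpr h).symm
  rw [GrothLib.Components.connectedComponent_eq, Set.mem_sInter] at hy
  push Not at hy
  obtain ⟨C, ⟨hC, hxC⟩, hyC⟩ := hy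
  have key : ∀ D : Set Z, IsClopen D → IsOpen (ConnectedComponents.mk '' D) := fun D hD => by
    rw [← ConnectedComponents.isQuotientMap_coe.isOpen_preimage,
      connectedComponents_preimage_image, hD.biUnion_connectedComponent_eq]
    exact hD.isOpen
  refine ⟨_, _, key C hC, key _ hC.compl, ⟨x, hxC, rfl⟩, ⟨y, hyC, rfl⟩, ?_⟩
  rw [Set.disjoint_left]
  rintro _ ⟨p, hp, rfl⟩ ⟨q, hq, e⟩
  exact hq (hC.connectedComponent_subset hp (ConnectedComponents.coe_eq_coe'.mp e))

open AlgebraicGeometry CategoryTheory CategoryTheory.Limits in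
/-- Let f be a morphism between quasi-compact quasi-separated schemes such that base change of finite
etale covers along f is an equivalence. Then the induced map on connected components is a
homeomorphism. -/
theorem result {X Y : Scheme.{u}} [CompactSpace X] [QuasiSeparatedSpace X] [CompactSpace Y] [QuasiSeparatedSpace Y]
    (f : X ⟶ Y) (h : (FEt.restrict f).IsEquivalence) :
    IsHomeomorph f.continuous.connectedComponentsMap := by
  haveI := h
  haveI : T2Space (ConnectedComponents Y) := totallySeparated_components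
  refine isHomeomorph_iff_continuous_bijective.mpr ⟨f.continuous.connectedComponentsMap_continuous, ?_, ?_⟩
  · intro a b hab
    obtain ⟨x, rfl⟩ := ConnectedComponents.surjective_coe a
    obtain ⟨y, rfl⟩ := ConnectedComponents.surjective_coe b
    refine ConnectedComponents.coe_eq_coe'.mpr ?_
    rw [GrothLib.Components.connectedComponent_eq]
    rintro C ⟨hC, hyC⟩
    obtain ⟨D, hD, rfl⟩ := exists_clopen_eq f C hC
    have e : (ConnectedComponents.mk (f x)) = ConnectedComponents.mk (f y) := hab
    exact hD.connectedComponent_subset hyC (ConnectedComponents.coe_eq_coe'.mp e)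
  · intro b
    obtain ⟨y, rfl⟩ := ConnectedComponents.surjective_coe b
    by_contra hb
    obtain ⟨D, hD, hyD, hdis⟩ := GrothLib.Components.exists_clopen_disjoint
      (isCompact_range f.continuous) (x := y) fun z hz => by
        by_contra! hall
        obtain ⟨x, rfl⟩ := hz
        refine hb ⟨ConnectedComponents.mk x, ?_⟩
        show ConnectedComponents.mk (f x) = ConnectedComponents.mk y
        refine ConnectedComponents.coe_eq_coe'.mpr ?_
        rw [GrothLib.Components.connectedComponent_eq]
        exact fun Z hZ => hall Z hZ.1 hZ.2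
    have hempty : f ⁻¹' D = ∅ :=
      Set.eq_empty_of_forall_notMem fun x hx => Set.disjoint_left.mp hdis hx ⟨x, rfl⟩
    exact (Set.eq_empty_iff_forall_notMem.mp (eq_empty_of_preimage f D hD hempty)) y hyD

end Groth.Agent.S0252
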