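import Groth.Statements.S0253
import Mathlib.FieldTheory.IsSepClosed
import Mathlib.FieldTheory.IsAlgClosed.Basic
import Mathlib.RingTheory.LocalRing.ResidueField.Ideal
import Mathlib.RingTheory.Localization.Integral
import Mathlib.RingTheory.IntegralClosure.IntegrallyClosed
import Mathlib.Tactic.LinearCombination

set_option autoImplicit false
universe u
open Pi1

namespace Groth.Agent.S0253

open AlgebraicGeometry CategoryTheory CategoryTheory.Limits in
example : True := trivial

open Polynomial in
/-- A monic polynomial over an integrally closed domain with separably closed fraction field has a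
root modulo any nonzero prime ideal. -/
theorem exists_root_mod {A : Type u} [CommRing A] [IsDomain A] [IsIntegrallyClosed A]
    [IsSepClosed (FractionRing A)] (p : Ideal A) [p.IsPrime] (hp : p ≠ ⊥) (g : A[X]) (hg : g.Monic)
    (hdeg : g.natDegree ≠ 0) : ∃ a : A, g.eval a ∈ p := by
  classical
  by_cases h0 : g.eval 0 ∈ p
  · exact ⟨0, h0⟩
  obtain ⟨b, hbp, hb⟩ := (Submodule.ne_bot_iff p).1 hp
  by_cases h1 : g.natDegree = 1
  · refine ⟨-g.coeff 0, ?_⟩
    rw [hg.eq_X_add_C h1]
    simp
  let K := FractionRing A
  let E := AlgebraicClosure K
  let φ : A →+* E := (algebraMap K E).comp (algebraMap A K)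
  have hφ : Function.Injective φ := (algebraMap K E).injective.comp (IsFractionRing.injective A K)
  haveI : Infinite A := by
    by_contra hfin
    rw [not_infinite_iff_finite] at hfin
    letI := (Finite.isField_of_domain A).toField
    exact hp (p.eq_bot_or_top.resolve_right Ideal.IsPrime.ne_top')
  -- bad values of the perturbation
  let gE := g.map φ
  let H := gE - X * derivative gE
  have hH : H ≠ 0 := by
    intro hH
    have : H.eval 0 = φ (g.eval 0) := by simp [H, gE, ← Polynomial.coeff_zero_eq_eval_zero]
    rw [hH, eval_zero] at this
    exact h0 (by rw [hφ (this.symm.trans (map_zero φ).symm)]; exact p.zero_mem)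
  let bad : Finset E := H.roots.toFinset.image fun r => -(derivative gE).eval r
  have hinj : Function.Injective fun a : A => φ (a * b) := fun a a' h =>
    mul_right_cancel₀ hb (hφ h)
  obtain ⟨_, ⟨⟨c, rfl⟩, hc⟩⟩ := (Set.infinite_range_of_injective hinj).exists_notMem_finset bad
  let g' := g + C (c * b) * X
  have hlt : (C (c * b) * X).degree < g.degree := by
    refine (degree_C_mul_X_le _).trans_lt ?_
    rw [degree_eq_natDegree hg.ne_zero]
    exact Nat.one_lt_cast.2 (by omega)
  have hg' : g'.Monic := hg.add_of_left hlt
  have hdeg' : g'.degree = g.degree := degree_add_eq_left_of_degree_lt hlt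
  have hsep : (g'.map (algebraMap A K)).Separable := by
    rw [Polynomial.Separable, ← Polynomial.isCoprime_map (algebraMap K E), Polynomial.map_map,
      ← Polynomial.derivative_map]
    refine (Polynomial.isCoprime_iff_aeval_ne_zero_of_isAlgClosed _ E _ _).2 fun r => ?_
    simp only [Polynomial.coe_aeval_eq_eval]
    by_contra hr
    push_neg at hr
    apply hc
    refine Finset.mem_image.2 ⟨r, ?_, ?_⟩
    · rw [Multiset.mem_toFinset, mem_roots hH, IsRoot]
      have e1 : (gE + C (φ (c * b)) * X).eval r = 0 := by
        have := hr.1; rwa [show g'.map φ = gE + C (φ (c * b)) * X by simp [g', gE]] at this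
      have e2 : (derivative gE).eval r + φ (c * b) = 0 := by
        have := hr.2; rw [Polynomial.map_map] at this
        rw [show g'.map φ = gE + C (φ (c * b)) * X by simp [g', gE]] at this
        simpa using this
      simp only [eval_add, eval_mul, eval_C, eval_X] at e1
      simp only [H, eval_sub, eval_mul, eval_X]
      linear_combination e1 - r * e2
    · have := hr.2; rw [Polynomial.map_map] at this
      rw [show g'.map φ = gE + C (φ (c * b)) * X by simp [g', gE]] at this
      simp only [derivative_add, derivative_C_mul, derivative_X, mul_one, eval_add, eval_C] at this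
      exact (eq_neg_of_add_eq_zero_right this).symm
  obtain ⟨x, hx⟩ := IsSepClosed.exists_root _ (by
    rw [degree_map_eq_of_injective (IsFractionRing.injective A K), hdeg', degree_eq_natDegree hg.ne_zero]
    exact_mod_cast hdeg) hsep
  obtain ⟨a, rfl⟩ := IsIntegrallyClosed.isIntegral_iff.1
    (show IsIntegral A x from ⟨g', hg', by rw [← eval_map]; exact hx⟩)
  refine ⟨a, ?_⟩
  have hA : g'.eval a = 0 := by
    apply IsFractionRing.injective A K
    rw [map_zero, ← eval₂_at_apply, ← eval_map]
    exact hx
  simp only [g', eval_add, eval_mul, eval_C, eval_X] at hA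
  rw [eq_neg_of_add_eq_zero_left hA]
  exact p.neg_mem (p.mul_mem_right _ (p.mul_mem_left _ hbp))

/-- Let A be an integrally closed domain whose fraction field is separably closed. Then the residue
field at any nonzero prime ideal of A is algebraically closed. -/
theorem result (A : Type u) [CommRing A] [IsDomain A] [IsIntegrallyClosed A] [IsSepClosed (FractionRing A)]
    (p : Ideal A) [p.IsPrime] (hp : p ≠ ⊥) : IsAlgClosed p.ResidueField := by
  haveI : IsFractionRing (Localization.AtPrime p) (FractionRing A) :=
    IsFractionRing.isFractionRing_of_isDomain_of_isLocalization p.primeCompl _ _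
  haveI : IsDomain (Localization.AtPrime p) := IsLocalization.isDomain_localization p.primeCompl_le_nonZeroDivisors
  haveI : IsIntegrallyClosed (Localization.AtPrime p) :=
    isIntegrallyClosed_of_isLocalization _ p.primeCompl p.primeCompl_le_nonZeroDivisors
  haveI : IsSepClosed (FractionRing (Localization.AtPrime p)) :=
    IsSepClosed.of_exists_root _ fun f hfm hfirr hfs => by
      let e := (FractionRing.algEquiv (Localization.AtPrime p) (FractionRing A)).toRingEquiv
      obtain ⟨x, hx⟩ := IsSepClosed.exists_root (k := FractionRing A) (f.map e.toRingHom)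
        (by rw [Polynomial.degree_map]; exact (Polynomial.degree_pos_of_irreducible hfirr).ne')
        (Polynomial.Separable.map hfs)
      refine ⟨e.symm x, e.injective ?_⟩
      rw [map_zero, ← hx, Polynomial.eval_map]
      conv_rhs => rw [← e.apply_symm_apply x]
      exact (Polynomial.eval₂_at_apply e.toRingHom _).symm
  refine IsAlgClosed.of_exists_root _ fun q hqm hqi => ?_
  obtain ⟨g, hg, hgdeg, hgm⟩ := Polynomial.lifts_and_degree_eq_and_monic
    ((Polynomial.mem_lifts q).2 (Polynomial.map_surjective (IsLocalRing.residue (Localization.AtPrime p))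
      IsLocalRing.residue_surjective q)) hqm
  have hne : IsLocalRing.maximalIdeal (Localization.AtPrime p) ≠ ⊥ := by
    intro h
    apply hp
    rw [← Localization.AtPrime.comap_maximalIdeal (I := p), h]
    show Ideal.comap (algebraMap A (Localization.AtPrime p)) ⊥ = ⊥
    rw [← RingHom.ker_eq_comap_bot, RingHom.ker_eq_bot_iff_eq_zero]
    exact fun a ha => (IsLocalization.injective _ p.primeCompl_le_nonZeroDivisors) (ha.trans (map_zero _).symm)
  obtain ⟨a, ha⟩ := exists_root_mod (IsLocalRing.maximalIdeal (Localization.AtPrime p)) hne g hgm (by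
    have := Polynomial.degree_pos_of_irreducible hqi
    rw [← hgdeg] at this
    exact (Polynomial.natDegree_pos_iff_degree_pos.2 this).ne')
  refine ⟨IsLocalRing.residue _ a, ?_⟩
  show q.eval _ = 0
  rw [← hg, Polynomial.eval_map_apply]
  exact (IsLocalRing.residue_eq_zero_iff _).2 ha

end Groth.Agent.S0253
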