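import Groth.Statements.S0254
import Mathlib.FieldTheory.IsSepClosed
import Mathlib.RingTheory.Henselian
import Mathlib.RingTheory.Polynomial.GaussLemma
import Groth.Agent.S0253

set_option autoImplicit false
universe u
open Pi1

namespace Groth.Agent.S0254

open AlgebraicGeometry CategoryTheory CategoryTheory.Limits in
example : True := trivial

open Polynomial in
/-- Simple roots modulo the maximal ideal lift. -/
theorem exists_root_lift {A : Type u} [CommRing A] [IsDomain A] [IsLocalRing A] [IsIntegrallyClosed A]
    [IsSepClosed (FractionRing A)] : ∀ (n : ℕ) (f : A[X]), f.Monic → f.natDegree = n → ∀ a₀ : A,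
    f.eval a₀ ∈ IsLocalRing.maximalIdeal A → IsUnit (f.derivative.eval a₀) →
    ∃ a, f.IsRoot a ∧ a - a₀ ∈ IsLocalRing.maximalIdeal A := by
  intro n
  induction n using Nat.strong_induction_on with
  | _ n ih =>
    intro f hf hn a₀ h1 h2
    let K := FractionRing A
    have hne : f.natDegree ≠ 0 := by
      intro h
      rw [hf.natDegree_eq_zero.1 h, eval_one] at h1
      exact (IsLocalRing.maximalIdeal.isMaximal A).ne_top ((Ideal.eq_top_iff_one _).2 h1)
    by_cases hirr : Irreducible (f.map (algebraMap A K))
    · have hsep : (f.map (algebraMap A K)).Separable := by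
        refine (separable_iff_derivative_ne_zero hirr).2 fun h => ?_
        rw [derivative_map, Polynomial.map_eq_zero_iff (IsFractionRing.injective A K)] at h
        rw [h, eval_zero] at h2
        exact not_isUnit_zero h2
      have h1deg : (f.map (algebraMap A K)).degree = 1 :=
        IsSepClosed.degree_eq_one_of_irreducible K hirr hsep
      rw [hf.degree_map] at h1deg
      replace h1deg : f.natDegree = 1 := natDegree_eq_of_degree_eq_some h1deg
      refine ⟨-f.coeff 0, ?_, ?_⟩
      · show f.eval _ = 0
        rw [hf.eq_X_add_C h1deg]; simp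
      · rw [show -f.coeff 0 - a₀ = -(f.eval a₀) by rw [hf.eq_X_add_C h1deg]; simp; ring]
        exact neg_mem h1
    · have hf1 : f ≠ 1 := fun h => hne (by rw [h, natDegree_one])
      have hirrA : ¬ Irreducible f := fun h =>
        hirr ((Monic.irreducible_iff_irreducible_map_fraction_map hf).1 h)
      rw [hf.irreducible_iff_natDegree] at hirrA
      simp only [hf1, ne_eq, not_false_eq_true, true_and, not_forall] at hirrA
      obtain ⟨g, h, hg, hh, hgh, hdeg⟩ := hirrA
      push_neg at hdeg
      have hlt : g.natDegree < n ∧ h.natDegree < n := by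
        rw [← hn, ← hgh, hg.natDegree_mul hh]
        omega
      have hd : f.derivative.eval a₀ = g.derivative.eval a₀ * h.eval a₀ + g.eval a₀ * h.derivative.eval a₀ := by
        rw [← hgh, derivative_mul, eval_add, eval_mul, eval_mul]
      rw [← hgh, eval_mul] at h1
      rcases (IsLocalRing.maximalIdeal.isMaximal A).isPrime.mem_or_mem h1 with hm | hm
      · have hu : IsUnit (g.derivative.eval a₀) := by
          by_contra hu
          apply (IsLocalRing.mem_maximalIdeal _).1 _ h2
          rw [hd]
          exact add_mem (Ideal.mul_mem_right _ _ ((IsLocalRing.mem_maximalIdeal _).2 hu))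
            (Ideal.mul_mem_right _ _ hm)
        obtain ⟨a, ha, ha'⟩ := ih _ hlt.1 g hg rfl a₀ hm hu
        exact ⟨a, by show f.eval a = 0; rw [← hgh, eval_mul, ha.eq_zero, zero_mul], ha'⟩
      · have hu : IsUnit (h.derivative.eval a₀) := by
          by_contra hu
          apply (IsLocalRing.mem_maximalIdeal _).1 _ h2
          rw [hd]
          exact add_mem (Ideal.mul_mem_left _ _ hm)
            (Ideal.mul_mem_left _ _ ((IsLocalRing.mem_maximalIdeal _).2 hu))
        obtain ⟨a, ha, ha'⟩ := ih _ hlt.2 h hh rfl a₀ hm hu
        exact ⟨a, by show f.eval a = 0; rw [← hgh, eval_mul, ha.eq_zero, mul_zero], ha'⟩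

/-- An integrally closed local domain whose fraction field is separably closed is henselian with
separably closed residue field (i.e. strictly henselian). -/
theorem result (A : Type u) [CommRing A] [IsDomain A] [IsLocalRing A] [IsIntegrallyClosed A]
    [IsSepClosed (FractionRing A)] :
    HenselianLocalRing A ∧ IsSepClosed (IsLocalRing.ResidueField A) := by
  refine ⟨{ is_henselian := fun f hf a₀ h1 h2 => exists_root_lift _ f hf rfl a₀ h1 h2 }, ?_⟩
  refine IsSepClosed.of_exists_root _ fun q hqm hqi hqs => ?_
  by_cases hm : IsLocalRing.maximalIdeal A = ⊥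
  · have hb : Function.Bijective (IsLocalRing.residue A) :=
      ⟨(RingHom.injective_iff_ker_eq_bot _).2 (by rw [IsLocalRing.ker_residue, hm]),
        IsLocalRing.residue_surjective⟩
    let e := RingEquiv.ofBijective _ hb
    obtain ⟨x, hx⟩ := IsSepClosed.exists_root (k := FractionRing A)
      (q.map ((algebraMap A (FractionRing A)).comp e.symm.toRingHom))
      (by rw [Polynomial.degree_map]; exact (Polynomial.degree_pos_of_irreducible hqi).ne') hqs.map
    obtain ⟨a, rfl⟩ := IsIntegrallyClosed.isIntegral_iff.1 (show IsIntegral A x from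
      ⟨q.map e.symm.toRingHom, hqm.map _, by rw [Polynomial.eval₂_map, ← Polynomial.eval_map]; exact hx⟩)
    refine ⟨e a, e.symm.injective ?_⟩
    apply IsFractionRing.injective A (FractionRing A)
    rw [map_zero, map_zero, ← hx, Polynomial.eval_map, ← Polynomial.hom_eval₂]
    congr 1
    conv_rhs => rw [← e.symm_apply_apply a]
    exact (Polynomial.eval₂_at_apply e.symm.toRingHom (e a)).symm
  · obtain ⟨g, hg, hgdeg, hgm⟩ := Polynomial.lifts_and_degree_eq_and_monic
      ((Polynomial.mem_lifts q).2 (Polynomial.map_surjective (IsLocalRing.residue A)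
        IsLocalRing.residue_surjective q)) hqm
    obtain ⟨a, ha⟩ := S0253.exists_root_mod (IsLocalRing.maximalIdeal A) hm g hgm (by
      have := Polynomial.degree_pos_of_irreducible hqi
      rw [← hgdeg] at this
      exact (Polynomial.natDegree_pos_iff_degree_pos.2 this).ne')
    refine ⟨IsLocalRing.residue _ a, ?_⟩
    rw [← hg, Polynomial.eval_map_apply]
    exact (IsLocalRing.residue_eq_zero_iff _).2 ha

end Groth.Agent.S0254
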