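import Groth.Statements.S0255
import Groth.Agent.Lib.FEt21.BranchLocus
import Groth.Agent.Lib.LocProp.Stalk
-- import your own Groth.Agent.* helpers here

set_option autoImplicit false
universe u
open Pi1

namespace Groth.Agent.S0255

open AlgebraicGeometry in
theorem stalk_dim_eq_height {X : Scheme.{u}} {W : X.Opens} (hW : IsAffineOpen W) (x : X) (hx : x ∈ W) :
    ringKrullDim (X.presheaf.stalk x) = ((hW.primeIdealOf ⟨x, hx⟩).asIdeal.height : WithBot ℕ∞) := by
  letI : Algebra Γ(X, W) (X.presheaf.stalk x) := (X.presheaf.germ W x hx).hom.toAlgebra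
  haveI : IsLocalization.AtPrime (X.presheaf.stalk x) (hW.primeIdealOf ⟨x, hx⟩).asIdeal :=
    hW.isLocalization_stalk ⟨x, hx⟩
  exact IsLocalization.AtPrime.ringKrullDim_eq_height (hW.primeIdealOf ⟨x, hx⟩).asIdeal
    (X.presheaf.stalk x)


open AlgebraicGeometry CategoryTheory CategoryTheory.Limits in
set_option backward.isDefEq.respectTransparency false in
/-- Let f be a morphism locally of finite type between locally Noetherian schemes and x a point with
image y, such that the local ring at x is a normal domain, the local ring at y is regular of the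
same dimension, this dimension is at least 1, f is quasi-finite at x, and f is unramified at every
point of dimension one specializing to x. Then f is etale on an open neighbourhood of x. -/
theorem result {X Y : Scheme.{u}} (f : X ⟶ Y) [LocallyOfFiniteType f] [IsLocallyNoetherian X]
    [IsLocallyNoetherian Y] (x : X)
    (hx : IsDomain (X.presheaf.stalk x) ∧ IsIntegrallyClosed (X.presheaf.stalk x))
    (hy : IsRegularLocalRing (Y.presheaf.stalk (f.base x)))
    (hq : f.QuasiFiniteAt x)
    (hdim : ringKrullDim (X.presheaf.stalk x) = ringKrullDim (Y.presheaf.stalk (f.base x)))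
    (hdim1 : (1 : WithBot ℕ∞) ≤ ringKrullDim (X.presheaf.stalk x))
    (hunr : ∀ x' : X, x' ⤳ x → ringKrullDim (X.presheaf.stalk x') = 1 →
      (f.stalkMap x').hom.FormallyUnramified) :
    ∃ U : X.Opens, x ∈ U ∧ Etale (U.ι ≫ f) := by
  obtain ⟨_, ⟨U, hU, rfl⟩, hxU, -⟩ :=
    Y.isBasis_affineOpens.exists_subset_of_mem_open (Set.mem_univ (f x)) isOpen_univ
  obtain ⟨_, ⟨V, hV, rfl⟩, hxV, hVU⟩ :=
    X.isBasis_affineOpens.exists_subset_of_mem_open hxU (U.2.preimage f.continuous)
  have hft := f.finiteType_appLE hU hV hVU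
  have hqf := hq.quasiFiniteAt hV hU hVU hxV
  haveI : IsNoetherianRing Γ(Y, U) := IsLocallyNoetherian.component_noetherian ⟨U, hU⟩
  algebraize [(f.appLE U V hVU).hom]
  let p := (hU.primeIdealOf ⟨f x, hVU hxV⟩).asIdeal
  let q := (hV.primeIdealOf ⟨x, hxV⟩).asIdeal
  have hlo : ∀ (z : X) (hz : z ∈ V), (hV.primeIdealOf ⟨z, hz⟩).asIdeal.LiesOver
      (hU.primeIdealOf ⟨f z, hVU hz⟩).asIdeal := fun z hz =>
    ⟨congr($(IsAffineOpen.comap_primeIdealOf_appLE U hU V hV hVU hz).1).symm⟩
  haveI : q.LiesOver p := hlo x hxV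
  haveI : Algebra.QuasiFiniteAt Γ(Y, U) q := hqf
  letI : Algebra Γ(X, V) (X.presheaf.stalk x) := (X.presheaf.germ V x hxV).hom.toAlgebra
  letI : Algebra Γ(Y, U) (Y.presheaf.stalk (f x)) := (Y.presheaf.germ U (f x) (hVU hxV)).hom.toAlgebra
  haveI : IsLocalization.AtPrime (X.presheaf.stalk x) q := hV.isLocalization_stalk ⟨x, hxV⟩
  haveI : IsLocalization.AtPrime (Y.presheaf.stalk (f x)) p := hU.isLocalization_stalk ⟨f x, hVU hxV⟩
  let eX := (IsLocalization.algEquiv q.primeCompl (X.presheaf.stalk x) (Localization.AtPrime q)).toRingEquiv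
  let eY := (IsLocalization.algEquiv p.primeCompl (Y.presheaf.stalk (f x)) (Localization.AtPrime p)).toRingEquiv
  haveI : IsDomain (X.presheaf.stalk x) := hx.1
  haveI : IsIntegrallyClosed (X.presheaf.stalk x) := hx.2
  haveI : IsRegularLocalRing (Y.presheaf.stalk (f x)) := hy
  haveI : IsDomain (Localization.AtPrime q) := eX.symm.injective.isDomain
  haveI : IsIntegrallyClosed (Localization.AtPrime q) := IsIntegrallyClosed.of_equiv eX
  haveI : IsRegularLocalRing (Localization.AtPrime p) := IsRegularLocalRing.of_ringEquiv eY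
  have hd : q.height = p.height := by
    have h1 : (q.height : WithBot ℕ∞) = p.height := by
      rw [← stalk_dim_eq_height hV x hxV, ← stalk_dim_eq_height hU (f x) (hVU hxV)]
      exact hdim
    exact WithBot.coe_inj.1 h1
  have hone : 1 ≤ q.height := by
    rw [stalk_dim_eq_height hV x hxV] at hdim1
    exact WithBot.coe_le_coe.1 hdim1
  have het : Algebra.IsEtaleAt Γ(Y, U) q := by
    refine GrothLib.FEt21.isEtaleAt_of_branch p q hd hone fun Q hQ hQq hQ1 => ?_
    let z : X := hV.fromSpec ⟨Q, hQ⟩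
    have hzV : z ∈ V := by
      have : z ∈ Set.range hV.fromSpec := ⟨_, rfl⟩
      rwa [hV.range_fromSpec] at this
    have hzQ : hV.primeIdealOf ⟨z, hzV⟩ = ⟨Q, hQ⟩ := hV.fromSpec.isOpenEmbedding.injective
      (by rw [hV.fromSpec_primeIdealOf])
    have hspec : z ⤳ x := by
      have h1 : (⟨Q, hQ⟩ : PrimeSpectrum Γ(X, V)) ⤳ hV.primeIdealOf ⟨x, hxV⟩ :=
        (PrimeSpectrum.le_iff_specializes _ _).1 hQq
      have h2 := h1.map hV.fromSpec.continuous
      rwa [hV.fromSpec_primeIdealOf] at h2
    have hz1 : ringKrullDim (X.presheaf.stalk z) = 1 := by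
      rw [stalk_dim_eq_height hV z hzV, hzQ, hQ1]
      rfl
    have H := hunr z hspec hz1
    let p' := (hU.primeIdealOf ⟨f z, hVU hzV⟩).asIdeal
    let q' := (hV.primeIdealOf ⟨z, hzV⟩).asIdeal
    haveI : q'.LiesOver p' := hlo z hzV
    letI := Localization.AtPrime.algebraOfLiesOver p' q'
    have h1 : Algebra.FormallyUnramified (Localization.AtPrime p') (Localization.AtPrime q') := by
      rw [← RingHom.formallyUnramified_algebraMap]
      exact (RingHom.FormallyUnramified.respectsIso.arrow_mk_iso_iff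
        (IsAffineOpen.arrowStalkMapIso f U hU V hV hVU hzV)).mp H
    have h2 : Algebra.IsUnramifiedAt Γ(Y, U) q' :=
      Algebra.FormallyUnramified.comp _ (Localization.AtPrime p') _
    show (⟨Q, hQ⟩ : PrimeSpectrum Γ(X, V)) ∈ Algebra.unramifiedLocus Γ(Y, U) Γ(X, V)
    rw [← hzQ]
    exact h2
  letI := Localization.AtPrime.algebraOfLiesOver p q
  haveI : Algebra.FinitePresentation Γ(Y, U) Γ(X, V) := Algebra.FinitePresentation.of_finiteType.mp inferInstance
  obtain ⟨hflat, hur⟩ := (GrothLib.LocProp.isEtaleAt_iff p q).mp het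
  refine (GrothLib.LocProp.etale_nhd_iff f x).mpr ⟨?_, ?_⟩
  · exact (RingHom.Flat.respectsIso.arrow_mk_iso_iff
      (IsAffineOpen.arrowStalkMapIso f U hU V hV hVU hxV)).mpr (RingHom.flat_algebraMap_iff.mpr hflat)
  · exact (RingHom.FormallyUnramified.respectsIso.arrow_mk_iso_iff
      (IsAffineOpen.arrowStalkMapIso f U hU V hV hVU hxV)).mpr
      (RingHom.formallyUnramified_algebraMap.mpr (Algebra.FormallyUnramified.of_restrictScalars Γ(Y, U) _ _))

end Groth.Agent.S0255
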