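import Groth.Statements.S0260
import Groth.Agent.LocFAdic21.Descent
import Groth.Agent.LocFAdic21.ComplFF
import Groth.Agent.LocFAdic21.PowKill
import Groth.Agent.Lib.Hensel.Properties
-- import your own Groth.Agent.* helpers here

set_option autoImplicit false
universe u
open Pi1

namespace Groth.Agent.S0260

open AlgebraicGeometry CategoryTheory CategoryTheory.Limits in
/-- Let A be a henselian Noetherian local ring of depth at least 3 and f an element of the maximal
ideal. Then restricting finite etale covers from the punctured spectrum of A to the punctured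
spectrum of A/fA is fully faithful. -/
theorem result (A : Type u) [CommRing A] [IsNoetherianRing A] [HenselianLocalRing A] (hA : (3 : ℕ∞) ≤ LocCoh.depth A A)
    (f : A) (hf : f ∈ IsLocalRing.maximalIdeal A) :
    (FEt.restrict (pullback.fst (FEt.puncturedSpec A).ι
      (Spec.map (CommRingCat.ofHom (Ideal.Quotient.mk (Ideal.span {f})))))).Full ∧
    (FEt.restrict (pullback.fst (FEt.puncturedSpec A).ι
      (Spec.map (CommRingCat.ofHom (Ideal.Quotient.mk (Ideal.span {f})))))).Faithful := by
  haveI : HenselianRing A (IsLocalRing.maximalIdeal A) := inferInstance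
  haveI : HenselianRing A (Ideal.span {f}) :=
    GrothLib.Hensel.henselianRing_of_le ((Ideal.span_singleton_le_iff_mem _).2 hf)
  obtain ⟨hfull, hfaith⟩ := GrothLib.LocFAdic21.fullyFaithful_completion hf
    (GrothLib.LocFAdic21.kill_of_three_le_depth hA f 1 (by norm_num))
    (GrothLib.LocFAdic21.kill_of_three_le_depth hA f 2 le_rfl)
  exact GrothLib.LocFAdic21.fullyFaithful_of_completion A f hf hfull hfaith

end Groth.Agent.S0260
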