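import Groth.Statements.S0263
import Groth.Agent.Lib.FEt21.DepthTwo

set_option autoImplicit false
universe u
open Pi1

namespace Groth.Agent.S0263

section
open AlgebraicGeometry CategoryTheory
theorem finite_etale_appTop {A : Type u} [CommRing A] {W : Scheme.{u}} (g : W ⟶ Spec (CommRingCat.of A))
    [IsFinite g] [Etale g] : g.appTop.hom.Finite ∧ g.appTop.hom.Etale := by
  haveI : IsAffine W := isAffine_of_isAffineHom g
  exact ⟨g.finite_app ⊤ (isAffineOpen_top _), (HasRingHomProperty.iff_of_isAffine (P := @Etale)).1 inferInstance⟩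
end

open AlgebraicGeometry CategoryTheory CategoryTheory.Limits in
/-- Let A be a Noetherian local ring of depth at least 2 and V a finite étale cover of the punctured
spectrum of A which is isomorphic to the restriction of some finite étale cover of Spec A. Then the
ring of global sections Γ(V, O_V) is finite and étale over A, via the ring map A → Γ(V, O_V) induced
by the composite V → Spec A. (Only this implication of the published statement is asserted here; its
converse is not.) -/
theorem result (A : Type u) [CommRing A] [IsNoetherianRing A] [IsLocalRing A] (hA : (2 : ℕ∞) ≤ LocCoh.depth A A)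
    (V : FEt.Cat (FEt.puncturedSpec A : Scheme.{u}))
    (hV : ∃ Y : FEt.Cat (Spec (CommRingCat.of A)),
      Nonempty ((FEt.restrict (FEt.puncturedSpec A).ι).obj Y ≅ V)) :
    ((Scheme.ΓSpecIso (CommRingCat.of A)).inv ≫ (V.hom ≫ (FEt.puncturedSpec A).ι).appTop).hom.Finite ∧
    ((Scheme.ΓSpecIso (CommRingCat.of A)).inv ≫ (V.hom ≫ (FEt.puncturedSpec A).ι).appTop).hom.Etale := by
  obtain ⟨Y, ⟨e⟩⟩ := hV
  let U := FEt.puncturedSpec A
  haveI : IsLocallyNoetherian (Spec (CommRingCat.of A)) := inferInstance
  let g : Y.left ⟶ Spec (CommRingCat.of A) := Y.hom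
  haveI : IsFinite g := Y.prop.1
  haveI : Etale g := Y.prop.2
  have hbij := GrothLib.FEt21.app_bijective_of_isPullback (g := g) (IsPullback.of_hasPullback Y.hom U.ι)
    (GrothLib.FEt21.app_ι_bijective_of_depthTwo (X := Spec (CommRingCat.of A))
      (GrothLib.FEt21.depthTwoOutside_puncturedSpec A hA))
    (isAffineOpen_top (Spec (CommRingCat.of A)))
  haveI h1 : IsIso (pullback.fst Y.hom U.ι).appTop := (ConcreteCategory.isIso_iff_bijective _).2 hbij
  let el : V.left ≅ pullback Y.hom U.ι := ((MorphismProperty.Comma.forget _ _ _ ⊤ ⊤ ⋙ Over.forget _).mapIso e.symm)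
  have hel : el.hom ≫ pullback.snd Y.hom U.ι = V.hom := Over.w e.inv.hom
  have hcomp : V.hom ≫ U.ι = el.hom ≫ pullback.fst Y.hom U.ι ≫ Y.hom := by
    rw [← hel, Category.assoc, ← pullback.condition]
  haveI : IsFinite Y.hom := Y.prop.1
  haveI : Etale Y.hom := Y.prop.2
  haveI : IsAffine (Spec (CommRingCat.of A)) := inferInstance
  obtain ⟨hfin, het⟩ := finite_etale_appTop (A := A) (W := Y.left) Y.hom
  rw [hcomp, Scheme.Hom.comp_appTop, Scheme.Hom.comp_appTop, CommRingCat.hom_comp, CommRingCat.hom_comp,
    CommRingCat.hom_comp]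
  have b1 := ConcreteCategory.bijective_of_isIso (Scheme.ΓSpecIso (CommRingCat.of A)).inv
  have b2 := ConcreteCategory.bijective_of_isIso (pullback.fst Y.hom U.ι).appTop
  haveI : IsIso el.hom := inferInstance
  haveI : IsIso el.hom.appTop := (Scheme.Γ.mapIso el.op).isIso_hom
  have b3 := ConcreteCategory.bijective_of_isIso el.hom.appTop
  refine ⟨RingHom.Finite.comp (RingHom.Finite.comp (RingHom.Finite.of_surjective _ b3.2)
    (RingHom.Finite.comp (RingHom.Finite.of_surjective _ b2.2) hfin)) (RingHom.Finite.of_surjective _ b1.2), ?_⟩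
  exact RingHom.Etale.stableUnderComposition _ _ (RingHom.Etale.of_bijective b1)
    (RingHom.Etale.stableUnderComposition _ _ (RingHom.Etale.stableUnderComposition _ _ het
      (RingHom.Etale.of_bijective b2)) (RingHom.Etale.of_bijective b3))

end Groth.Agent.S0263
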