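import Groth.Statements.S0265
import Groth.Agent.SectDescent21.Main

set_option autoImplicit false
universe u
open Pi1

namespace Groth.Agent.S0265

open AlgebraicGeometry CategoryTheory CategoryTheory.Limits in
/-- (Exactness of the homotopy sequence of etale fundamental groups at the middle term, in functor
form.) Let f : X -> S be flat, proper and of finite presentation with connected reduced geometric
fibres, S connected. If Y is a connected finite etale cover of X which admits a section over some
geometric fibre of f, then Y is isomorphic to the pullback along f of a finite etale cover of S. -/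
theorem result {X S : Scheme.{u}} (f : X ⟶ S) [IsProper f] [Flat f] [LocallyOfFinitePresentation f]
    [ConnectedSpace S]
    (hfib : ∀ (Ω : Type u) [Field Ω] [IsAlgClosed Ω] (s : Spec (CommRingCat.of Ω) ⟶ S),
      ConnectedSpace ↥(pullback f s) ∧ IsReduced (pullback f s))
    (Y : FEt.Cat X) [ConnectedSpace Y.left] (Ω : Type u) [Field Ω] [IsAlgClosed Ω]
    (s : Spec (CommRingCat.of Ω) ⟶ S) (σ : pullback f s ⟶ Y.left)
    (hσ : σ ≫ Y.hom = pullback.fst f s) :
    (FEt.restrict f).essImage Y := by
  exact Groth.Agent.SectDescent21.mem_essImage f hfib Y Ω s σ hσ

end Groth.Agent.S0265
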