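import Groth.Statements.S0267
import Groth.Agent.Lib.GalCat21.Exact

set_option autoImplicit false
universe u v
open Pi1

namespace Groth.Agent.S0267

open CategoryTheory CategoryTheory.Limits in
/-- For an exact functor H between Galois categories, H is fully faithful exactly when it carries
connected objects to connected objects (both are equivalent to surjectivity of the induced map on
fundamental groups). -/
theorem result {C : Type u} [Category.{v} C]
    [GaloisCategory C] {D : Type u} [Category.{v} D] [GaloisCategory D]
    (H : C ⥤ D) [PreservesFiniteLimits H] [PreservesFiniteColimits H] :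
    (H.Full ∧ H.Faithful) ↔
      ∀ X : C, PreGaloisCategory.IsConnected X → PreGaloisCategory.IsConnected (H.obj X) := by
  let F' := CategoryTheory.PreGaloisCategory.GaloisCategory.getFiberFunctor D
  haveI := GrothLib.GalCat21.fiberFunctor_comp H F'
  constructor
  · rintro ⟨hfull, -⟩ X hX
    haveI := hX
    haveI : Nonempty (F'.obj (H.obj X)) := PreGaloisCategory.nonempty_fiber_of_isConnected (H ⋙ F') X
    haveI : MulAction.IsPretransitive (Aut F') (F'.obj (H.obj X)) :=
      ⟨fun a a' => GrothLib.GalCat21.transitive_of_full H F' X a a'⟩
    exact GrothLib.GalCat21.isConnected_of_transitive F' _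
  · intro h
    refine (GrothLib.GalCat21.surjective_iff H F').1 (GrothLib.GalCat21.surjective_of_transitive H F' fun X hX a a' => ?_)
    haveI := h X hX
    exact MulAction.exists_smul_eq (Aut F') (show F'.obj (H.obj X) from a) a'

end Groth.Agent.S0267
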