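import Groth.Statements.S0268
import Groth.Agent.Lib.FEt21.Clopen
import Mathlib.AlgebraicGeometry.Morphisms.QuasiFinite

set_option autoImplicit false
universe u
open Pi1

namespace Groth.Agent.S0268

open AlgebraicGeometry CategoryTheory CategoryTheory.Limits in
/-- Functor form of the surjectivity of pi_1(X) -> pi_1(Spec k): Let X be quasi-compact and
quasi-separated over a field k with X_{kbar} connected. Then the functor pulling back finite etale
k-schemes to X is full and faithful. -/
theorem result (k : Type u) [Field k] {X : Scheme.{u}} (f : X ⟶ Spec (CommRingCat.of k)) [CompactSpace X]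
    [QuasiSeparatedSpace X]
    [ConnectedSpace ↥(pullback f (Spec.map (CommRingCat.ofHom (algebraMap k (AlgebraicClosure k)))))] :
    (FEt.restrict f).Full ∧ (FEt.restrict f).Faithful := by
  let ξ : Spec (CommRingCat.of (AlgebraicClosure k)) ⟶ Spec (CommRingCat.of k) :=
    Spec.map (CommRingCat.ofHom (algebraMap k (AlgebraicClosure k)))
  have hc : ConnectedSpace ↥(pullback f ξ) := inferInstance
  haveI : Surjective f := ⟨fun y => by
    obtain ⟨p⟩ := hc.toNonempty
    exact ⟨pullback.fst f ξ p, Subsingleton.elim _ _⟩⟩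
  refine GrothLib.FEt21.fullyFaithful_of_clopen f (GrothLib.FEt21.clopenInj_of_surjective f) fun A => ?_
  haveI : IsFinite A.hom := A.prop.1
  haveI : IsLocallyArtinian ((Functor.fromPUnit (Spec (CommRingCat.of k))).obj A.right) :=
    inferInstanceAs (IsLocallyArtinian (Spec (CommRingCat.of k)))
  haveI : IsLocallyArtinian A.left := IsLocallyArtinian.of_locallyQuasiFinite A.hom
  haveI : IsLocallyArtinian ((𝟭 Scheme).obj A.left) := IsLocallyArtinian.of_locallyQuasiFinite A.hom
  refine GrothLib.FEt21.clopenSurj_of_connFibres f A (fun z => ?_) (fun _ _ => isClosed_discrete _)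
  let W : A.left.Opens := ⟨{z}, isOpen_discrete _⟩
  obtain ⟨t⟩ := GrothLib.FEt21.nonempty_fiber ξ
    (GrothLib.FEt21.mkOf A W.ι (GrothLib.FEt21.prop_ι W (isClosed_discrete _))) ⟨z, rfl⟩
  have key : ∀ s, s = ξ → PreconnectedSpace ↥(pullback f s) := fun s h => by subst h; infer_instance
  exact ⟨_, _, t.1 ≫ W.ι, (t.1 default).2, key _ ((Category.assoc _ _ _).trans t.2)⟩

end Groth.Agent.S0268
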