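import Groth.Statements.S0269
import Groth.Agent.Lib.FEtLimit21.AlgClosure

set_option autoImplicit false
universe u
open Pi1

namespace Groth.Agent.S0269

open AlgebraicGeometry CategoryTheory CategoryTheory.Limits in
open AlgebraicGeometry CategoryTheory CategoryTheory.Limits GrothLib.FEtLimit21 in
theorem key (k : Type u) [Field k] {X : Scheme.{u}} (f : X ⟶ Spec (CommRingCat.of k)) [CompactSpace X]
    [QuasiSeparatedSpace X]
    (V : FEt.Cat (pullback f (Spec.map (CommRingCat.ofHom (algebraMap k (AlgebraicClosure k)))))) :
    ∃ (U : FEt.Cat X) (ι : V ⟶ (FEt.restrict (pullback.fst f (Spec.map (CommRingCat.ofHom (algebraMap k (AlgebraicClosure k)))))).obj U),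
      IsOpenImmersion ι.left ∧ IsClosedImmersion ι.left := by
  obtain ⟨L, hL, VL, ⟨e⟩⟩ := exists_cover_algClosure f V
  let q := pullback.fst f (stageMap (sepK k) L)
  let U : FEt.Cat X := MorphismProperty.Over.mk ⊤ (VL.hom ≫ q)
    (FEt.prop.comp_mem _ _ VL.prop (prop_stage_fst f L))
  let m : pullback VL.hom (toSepStage f L) ⟶
      pullback (VL.hom ≫ q) (pullback.fst f (Spec.map (CommRingCat.ofHom (algebraMap k (AlgebraicClosure k))))) :=
    pullback.lift (pullback.fst _ _) (pullback.snd _ _) (by
      rw [← Category.assoc, pullback.condition, Category.assoc, toSepStage_fst])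
  haveI hm : Mono m := ⟨fun a b h => pullback.hom_ext
    (by have h' := congrArg (· ≫ pullback.fst _ _) h; simp only [Category.assoc] at h'; erw [pullback.lift_fst] at h'; exact h')
    (by have h' := congrArg (· ≫ pullback.snd _ _) h; simp only [Category.assoc] at h'; erw [pullback.lift_snd] at h'; exact h')⟩
  let μ : (FEt.restrict (toSepStage f L)).obj VL ⟶
      (FEt.restrict (pullback.fst f (Spec.map (CommRingCat.ofHom (algebraMap k (AlgebraicClosure k)))))).obj U :=
    MorphismProperty.Over.homMk m (pullback.lift_snd _ _ _)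
  let ι := e.inv ≫ μ
  have h1 := GrothLib.FEt21.prop_left ι
  haveI : IsFinite ι.left := h1.1
  haveI : Etale ι.left := h1.2
  haveI : IsIso e.inv.left :=
    ((MorphismProperty.Over.forget _ _ _ ⋙ CategoryTheory.Over.forget _).mapIso e.symm).isIso_hom
  haveI : Mono ι.left := by
    show Mono (e.inv.left ≫ m)
    exact @mono_comp _ _ _ _ _ e.inv.left inferInstance m hm
  haveI : IsOpenImmersion ι.left := IsOpenImmersion.of_flat_of_mono ι.left
  exact ⟨U, ι, inferInstance, IsClosedImmersion.of_isPreimmersion _ ι.left.isClosedMap.isClosed_range⟩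

open AlgebraicGeometry CategoryTheory CategoryTheory.Limits in
/-- Functor form of the injectivity of pi_1(X_{kbar}) -> pi_1(X): Let X be quasi-compact and
quasi-separated over a field k with X_{kbar} connected. Every finite etale cover of X_{kbar} admits
an open and closed immersion, over X_{kbar}, into the base change of some finite etale cover of X. -/
theorem result (k : Type u) [Field k] {X : Scheme.{u}} (f : X ⟶ Spec (CommRingCat.of k)) [CompactSpace X]
    [QuasiSeparatedSpace X]
    [ConnectedSpace ↥(pullback f (Spec.map (CommRingCat.ofHom (algebraMap k (AlgebraicClosure k)))))]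
    (V : FEt.Cat (pullback f (Spec.map (CommRingCat.ofHom (algebraMap k (AlgebraicClosure k)))))) :
    ∃ (U : FEt.Cat X) (ι : V ⟶ (FEt.restrict (pullback.fst f (Spec.map (CommRingCat.ofHom (algebraMap k (AlgebraicClosure k)))))).obj U),
      IsOpenImmersion ι.left ∧ IsClosedImmersion ι.left := by
  exact key k f V

end Groth.Agent.S0269
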