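import Groth.Statements.S0270
import Groth.Agent.Lib.FEtLimit21.AlgClosure
import Groth.Agent.Lib.FEt21.Galois

set_option autoImplicit false
universe u
open Pi1

namespace Groth.Agent.S0270

open AlgebraicGeometry CategoryTheory CategoryTheory.Limits in
open AlgebraicGeometry CategoryTheory CategoryTheory.Limits GrothLib.FEtLimit21 in
theorem key (k : Type u) [Field k] {X : Scheme.{u}} (f : X ⟶ Spec (CommRingCat.of k)) [CompactSpace X]
    [QuasiSeparatedSpace X]
    (U : FEt.Cat X) (hU : Pi1.IsSplit ((FEt.restrict (pullback.fst f (Spec.map (CommRingCat.ofHom (algebraMap k (AlgebraicClosure k)))))).obj U)) :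
    ∃ (V : FEt.Cat (Spec (CommRingCat.of k))) (e : (FEt.restrict f).obj V ⟶ U), Surjective e.left := by
  obtain ⟨ι, hι, j, hj⟩ := hU
  let p := pullback.fst f (Spec.map (CommRingCat.ofHom (algebraMap k (AlgebraicClosure k))))
  let j' : pullback U.hom p ≅ ∐ (fun _ : ι => pullback f _) := j
  let s := fun i : ι => Sigma.ι (fun _ : ι => pullback f _) i ≫ j'.inv ≫ pullback.fst U.hom p
  have hs : ∀ i, s i ≫ U.hom = p := fun i => by
    have h0 : Sigma.ι (fun _ : ι => pullback f _) i ≫ j'.inv ≫ pullback.snd U.hom p = 𝟙 _ := hj i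
    have h1 := congrArg (· ≫ p) h0
    simp only [Category.assoc, Category.id_comp] at h1
    simp only [s, Category.assoc]
    exact (congrArg (fun g => Sigma.ι (fun _ : ι => pullback f _) i ≫ j'.inv ≫ g) pullback.condition).trans h1
  choose L hL sL hsL hsL' using fun i => exists_section_algClosure f U (s i) (hs i)
  have hprop : ∀ i, FEt.prop (stageMap (sepK k) (L i)) := fun i => by
    haveI := hL i
    haveI : Algebra.IsSeparable k (sepK k) := separableClosure.isSeparable _ _
    haveI : Algebra.IsSeparable k (L i) := Algebra.isSeparable_tower_bot_of_isSeparable k (L i) (sepK k)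
    haveI : Algebra.FormallyEtale k (L i) := Algebra.FormallyEtale.of_isSeparable k (L i)
    haveI : Algebra.Etale k (L i) := ⟨inferInstance, Algebra.FinitePresentation.of_finiteType.1 inferInstance⟩
    exact ⟨(IsFinite.SpecMap_iff _).2 (RingHom.finite_algebraMap.2 inferInstance),
      (HasRingHomProperty.Spec_iff (P := @Etale)).2 (RingHom.etale_algebraMap.2 inferInstance)⟩
  let Vi : ι → FEt.Cat (Spec (CommRingCat.of k)) := fun i =>
    MorphismProperty.Over.mk ⊤ (stageMap (sepK k) (L i)) (hprop i)
  haveI := GrothLib.FEt21.hasFiniteColimits (X := Spec (CommRingCat.of k))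
  haveI := GrothLib.FEt21.hasFiniteColimits (X := X)
  haveI := GrothLib.FEt21.restrict_preservesFiniteColimits f
  let ei : ∀ i, (FEt.restrict f).obj (Vi i) ⟶ U := fun i =>
    MorphismProperty.Over.homMk ((pullbackSymmetry (stageMap (sepK k) (L i)) f).hom ≫ sL i) (by
      exact (Category.assoc _ _ _).trans ((congrArg (_ ≫ ·) (hsL i)).trans
        (pullbackSymmetry_hom_comp_fst _ _)))
  let e : (FEt.restrict f).obj (∐ Vi) ⟶ U := (PreservesCoproduct.iso (FEt.restrict f) Vi).hom ≫ Sigma.desc ei
  have hei : ∀ i, (FEt.restrict f).map (Sigma.ι Vi i) ≫ e = ei i := fun i => by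
    have h := ι_comp_sigmaComparison (FEt.restrict f) Vi i
    rw [← PreservesCoproduct.inv_hom] at h
    rw [← h]
    simp only [e, Category.assoc, Iso.inv_hom_id_assoc, Sigma.ι_desc]
  refine ⟨∐ Vi, e, ⟨fun u => ?_⟩⟩
  haveI : Surjective (Spec.map (CommRingCat.ofHom (algebraMap k (AlgebraicClosure k)))) :=
    ⟨fun z => ⟨default, @Subsingleton.elim (PrimeSpectrum k) _ _ z⟩⟩
  haveI : Surjective p := inferInstance
  obtain ⟨z, hz⟩ := p.surjective (U.hom u)
  obtain ⟨w, hw, -⟩ := Scheme.Pullback.exists_preimage_pullback (f := U.hom) (g := p) u z hz.symm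
  obtain ⟨i, y, hy⟩ : ∃ (i : ι) (y : _), Sigma.ι (fun _ : ι => pullback f _) i y = j'.hom w :=
    let ⟨⟨a, y⟩, hy⟩ := (sigmaMk (fun _ : ι => pullback f _)).surjective (j'.hom w)
    ⟨a, y, (sigmaMk_mk (fun _ : ι => pullback f _) a y).symm.trans hy⟩
  refine ⟨(((FEt.restrict f).map (Sigma.ι Vi i)).left)
    ((pullbackSymmetry (stageMap (sepK k) (L i)) f).inv (toSepStage f (L i) y)), ?_⟩
  have h1 := congrArg (fun g : (FEt.restrict f).obj (Vi i) ⟶ U => g.left
    ((pullbackSymmetry (stageMap (sepK k) (L i)) f).inv (toSepStage f (L i) y))) (hei i)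
  refine h1.trans ?_
  show ((pullbackSymmetry (stageMap (sepK k) (L i)) f).hom ≫ sL i)
    ((pullbackSymmetry (stageMap (sepK k) (L i)) f).inv (toSepStage f (L i) y)) = u
  rw [← Scheme.Hom.comp_apply, Iso.inv_hom_id_assoc, ← Scheme.Hom.comp_apply, hsL' i, ← hw]
  show (Sigma.ι _ i ≫ j'.inv ≫ pullback.fst U.hom p) y = _
  rw [Scheme.Hom.comp_apply, Scheme.Hom.comp_apply, hy, ← Scheme.Hom.comp_apply j'.hom, Iso.hom_inv_id]
  rfl

open AlgebraicGeometry CategoryTheory CategoryTheory.Limits in
/-- (Exactness of the homotopy sequence of etale fundamental groups at pi_1(X), in functor form.) Let X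
be quasi-compact and quasi-separated over a field k with X_{kbar} connected, kbar an algebraic
closure of k. If a finite etale cover U of X becomes completely split (a disjoint union of copies of
X_{kbar}) after base change to kbar, then there are a finite etale k-scheme V and an X-morphism from
V x_k X to U which is surjective. -/
theorem result (k : Type u) [Field k] {X : Scheme.{u}} (f : X ⟶ Spec (CommRingCat.of k)) [CompactSpace X]
    [QuasiSeparatedSpace X]
    [ConnectedSpace ↥(pullback f (Spec.map (CommRingCat.ofHom (algebraMap k (AlgebraicClosure k)))))]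
    (U : FEt.Cat X) (hU : Pi1.IsSplit ((FEt.restrict (pullback.fst f (Spec.map (CommRingCat.ofHom (algebraMap k (AlgebraicClosure k)))))).obj U)) :
    ∃ (V : FEt.Cat (Spec (CommRingCat.of k))) (e : (FEt.restrict f).obj V ⟶ U), Surjective e.left := by
  exact key k f U hU

end Groth.Agent.S0270
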