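import Groth.Statements.S0271
import Mathlib
import Groth.Agent.Lib.InertiaEtale4.Core
import Groth.Agent.Lib.InertiaEtale4.Sep

set_option autoImplicit false
universe u
open Pi1

namespace Groth.Agent.S0271

open AlgebraicGeometry CategoryTheory CategoryTheory.Limits in
/-- Let a finite group G act on a ring R, let q be a prime of R with inertia subgroup I (elements acting
trivially modulo q). Then the ring of I-invariants is etale over the ring of G-invariants at the
prime below q: some principal localization of the I-invariants at an element outside that prime is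
an etale algebra over the G-invariants. -/
theorem result (G R : Type u) [Group G] [Finite G] [CommRing R] [MulSemiringAction G R]
    (q : Ideal R) [q.IsPrime] :
    ∃ g : FixedPoints.subring R (q.inertia G),
      g ∉ q.comap (FixedPoints.subring R (q.inertia G)).subtype ∧
      Algebra.Etale (FixedPoints.subring R G) (Localization.Away g) := by
  haveI : SMulCommClass G (FixedPoints.subring R G) R := ⟨fun g a x => by
    change g • ((a : R) * x) = (a : R) * g • x
    rw [smul_mul', show g • (a : R) = a from a.2 g]⟩
  haveI : Algebra.IsInvariant (FixedPoints.subring R G) R G := ⟨fun x hx => ⟨⟨x, hx⟩, rfl⟩⟩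
  obtain ⟨e, he, hsep⟩ := InertiaEtale4.exists_separating (FixedPoints.subring R G) (G := G) q
  let j : FixedPoints.subring R (q.inertia G) →ₐ[FixedPoints.subring R G] R :=
    { (FixedPoints.subring R (q.inertia G)).subtype with commutes' := fun _ => rfl }
  obtain ⟨b, hb, hEt⟩ := InertiaEtale4.exists_etale_away (fun _ _ h => Subtype.ext h) j
    (fun _ _ h => Subtype.ext h) (q.inertia G)
    (fun r => ⟨by rintro ⟨b, rfl⟩ h hh; exact b.2 ⟨h, hh⟩, fun hr => ⟨⟨r, fun h => hr h h.2⟩, rfl⟩⟩)
    q ⟨e, fun i => he i i.2⟩ hsep
  exact ⟨b, hb, hEt⟩

end Groth.Agent.S0271
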