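import Groth.Statements.S0273
import Groth.Agent.SmDepth21.Coord
import Groth.Agent.PunctPure21.Extend
import Groth.Agent.Lib.ExtDesc2.Basic
-- import your own Groth.Agent.* helpers here

set_option autoImplicit false
universe u
open Pi1

namespace Groth.Agent.S0273

open AlgebraicGeometry CategoryTheory CategoryTheory.Limits in
/-- Purity at the points outside the open. -/
theorem purityHolds_stalk {X S : Scheme.{u}} (f : X ⟶ S) [Smooth f] [IsNoetherian S] (U : X.Opens)
    (h4 : ∀ s : S, f.base ⁻¹' {s} ⊆ closure ((U : Set X) ∩ f.base ⁻¹' {s})) (x : X) (hx : x ∉ U)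
    (hd : (2 : ℕ∞) ≤ LocCoh.depth (S.presheaf.stalk (f x)) (S.presheaf.stalk (f x))) :
    FEt.PurityHolds (X.presheaf.stalk x) := by
  obtain ⟨_, ⟨W, hW, rfl⟩, hxW, -⟩ := S.isBasis_affineOpens.exists_subset_of_mem_open
    (Set.mem_univ (f x)) isOpen_univ
  obtain ⟨_, ⟨V, hV, rfl⟩, hxV, hVW⟩ := X.isBasis_affineOpens.exists_subset_of_mem_open
    (show x ∈ (f ⁻¹ᵁ W : Set X) from hxW) (f ⁻¹ᵁ W).2
  let φ := (f.appLE W V hVW).hom
  letI : Algebra Γ(S, W) Γ(X, V) := φ.toAlgebra
  haveI : Algebra.Smooth Γ(S, W) Γ(X, V) :=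
    RingHom.smooth_algebraMap.1 (HasRingHomProperty.appLE @Smooth f inferInstance ⟨W, hW⟩ ⟨V, hV⟩ hVW)
  haveI : IsNoetherianRing Γ(S, W) := IsLocallyNoetherian.component_noetherian ⟨W, hW⟩
  haveI : IsNoetherianRing Γ(X, V) := Algebra.FiniteType.isNoetherianRing Γ(S, W) Γ(X, V)
  let pt := hV.primeIdealOf ⟨x, hxV⟩
  let q := pt.asIdeal
  letI := X.presheaf.algebra_section_stalk ⟨x, hxV⟩
  letI := S.presheaf.algebra_section_stalk (⟨f x, hVW hxV⟩ : W)
  haveI : IsLocalization.AtPrime (X.presheaf.stalk x) q := hV.isLocalization_stalk ⟨x, hxV⟩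
  haveI := hW.isLocalization_stalk ⟨f x, hVW hxV⟩
  have hp : q.under Γ(S, W) = (hW.primeIdealOf ⟨f x, hVW hxV⟩).asIdeal :=
    congrArg PrimeSpectrum.asIdeal (IsAffineOpen.comap_primeIdealOf_appLE W hW V hV hVW hxV)
  let σ : X.presheaf.stalk x ≃+* Localization.AtPrime q :=
    (IsLocalization.algEquiv q.primeCompl (X.presheaf.stalk x) (Localization.AtPrime q)).toRingEquiv
  refine GrothLib.CIPure21.purityHolds_congr σ (GrothLib.SmDepth21.purityHolds_of_smooth Γ(S, W) Γ(X, V) q ?_ ?_)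
  · have : ∀ (I J : Ideal Γ(S, W)) [I.IsPrime] [J.IsPrime], I = J →
        (2 : ℕ∞) ≤ LocCoh.depth (Localization.AtPrime J) (Localization.AtPrime J) →
        (2 : ℕ∞) ≤ LocCoh.depth (Localization.AtPrime I) (Localization.AtPrime I) := by
      intro I J _ _ h h'
      subst h
      exact h'
    refine this _ _ hp ?_
    refine hd.trans_eq (GrothLib.HartogsQC.depth_eq_of_ringEquiv ?_)
    exact (IsLocalization.algEquiv (hW.primeIdealOf ⟨f x, hVW hxV⟩).asIdeal.primeCompl
      (S.presheaf.stalk (f x)) (Localization.AtPrime _)).toRingEquiv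
  · by_contra hne
    push Not at hne
    let I := (q.under Γ(S, W)).map (algebraMap Γ(S, W) Γ(X, V))
    let M := {m : Ideal Γ(X, V) | m ∈ I.minimalPrimes ∧ m ≠ q}
    have hfin : M.Finite := (I.finite_minimalPrimes_of_isNoetherianRing).subset fun m hm => hm.1
    let Z : Set (PrimeSpectrum Γ(X, V)) := ⋃ m ∈ M, PrimeSpectrum.zeroLocus (m : Set Γ(X, V))
    have hZ : IsClosed Z := hfin.isClosed_biUnion fun m _ => PrimeSpectrum.isClosed_zeroLocus _
    let O : Set X := hV.fromSpec '' Zᶜ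
    have hO : IsOpen O := hV.fromSpec.isOpenEmbedding.isOpenMap _ hZ.isOpen_compl
    have hxO : x ∈ O := by
      refine ⟨pt, fun hmem => ?_, hV.fromSpec_primeIdealOf ⟨x, hxV⟩⟩
      obtain ⟨m, hm, hmq⟩ := Set.mem_iUnion₂.1 hmem
      exact hne m hm.1.1.1 (lt_of_le_of_ne hmq hm.2) hm.1.1.2
    obtain ⟨u, ⟨z, hz, rfl⟩, huU, hus⟩ := mem_closure_iff.1 (h4 (f x) rfl) O hO hxO
    have hzV : hV.fromSpec z ∈ V := hV.range_fromSpec.subset ⟨z, rfl⟩
    have hz' : hV.primeIdealOf ⟨hV.fromSpec z, hzV⟩ = z :=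
      hV.fromSpec.isOpenEmbedding.injective (hV.fromSpec_primeIdealOf _)
    have hzp : z.asIdeal.comap φ = q.under Γ(S, W) := by
      rw [hp, ← hz']
      refine (congrArg PrimeSpectrum.asIdeal (IsAffineOpen.comap_primeIdealOf_appLE W hW V hV hVW hzV)).trans ?_
      have : f (hV.fromSpec z) = f x := hus
      congr 2
      exact Subtype.ext this
    obtain ⟨m, hm, hmz⟩ := Ideal.exists_minimalPrimes_le (I := I) (J := z.asIdeal)
      (Ideal.map_le_iff_le_comap.2 hzp.ge)
    have hmq : m = q := by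
      by_contra hmq
      exact hz (Set.mem_iUnion₂.2 ⟨m, ⟨hm, hmq⟩, hmz⟩)
    have hsp : pt ⤳ z := (PrimeSpectrum.le_iff_specializes pt z).1 (show q ≤ z.asIdeal from hmq ▸ hmz)
    have := hsp.map hV.fromSpec.continuous
    rw [hV.fromSpec_primeIdealOf] at this
    exact hx (this.mem_open U.2 huU)

open AlgebraicGeometry CategoryTheory CategoryTheory.Limits in
/-- Let f : X -> S be smooth with S Noetherian and U an open of X such that U contains the whole fibre
over every point of S whose local ring has depth at most 1, and U is dense in every fibre. Then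
restricting finite etale covers from X to U is an equivalence of categories. -/
theorem result {X S : Scheme.{u}} (f : X ⟶ S) [Smooth f] [IsNoetherian S] (U : X.Opens)
    (h3 : ∀ s : S, LocCoh.depth (S.presheaf.stalk s) (S.presheaf.stalk s) ≤ 1 → f.base ⁻¹' {s} ⊆ (U : Set X))
    (h4 : ∀ s : S, f.base ⁻¹' {s} ⊆ closure ((U : Set X) ∩ f.base ⁻¹' {s})) :
    (FEt.restrict U.ι).IsEquivalence := by
  haveI : IsLocallyNoetherian X := LocallyOfFiniteType.isLocallyNoetherian f
  have hd : ∀ x : X, x ∉ U → (2 : ℕ∞) ≤ LocCoh.depth (S.presheaf.stalk (f x)) (S.presheaf.stalk (f x)) := by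
    intro x hx
    by_contra hlt
    refine hx (h3 (f x) ?_ rfl)
    exact Order.le_of_lt_succ (lt_of_not_ge hlt)
  have hU : GrothLib.Depth.DepthTwoOutside U := fun x hx =>
    (hd x hx).trans (GrothLib.ExtDesc2.depth_le_of_flat f x)
  haveI : (FEt.restrict U.ι).Full := (GrothLib.FEt21.fullyFaithful_of_depthTwo hU).1
  haveI : (FEt.restrict U.ι).Faithful := (GrothLib.FEt21.fullyFaithful_of_depthTwo hU).2
  haveI : (FEt.restrict U.ι).EssSurj := GrothLib.PunctPure21.essSurj_of_purity_depthTwo hU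
    fun x hx => purityHolds_stalk f U h4 x hx (hd x hx)
  exact {}

end Groth.Agent.S0273
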