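import Groth.Statements.S0281
import Groth.Agent.EtaleAffine21.Dominate
-- import your own Groth.Agent.* helpers here

set_option autoImplicit false
universe u
open scoped TensorProduct
open Pi1

namespace Groth.Agent.S0281

/-- Let k be a field of characteristic p > 0, I an ideal of the polynomial ring P in n variables over k,
and B a finite etale algebra over P/I. Then there are a finite etale P-algebra C and a surjective
P/I-algebra map from (P/I) ⊗_P C onto B (so Spec B is an open and closed subscheme of Spec C
restricted to V(I)). -/
theorem result (k : Type u) [Field k] (p : ℕ)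
    [Fact p.Prime] [CharP k p] (n : ℕ) (I : Ideal (MvPolynomial (Fin n) k)) (B : Type u) [CommRing B]
    [Algebra (MvPolynomial (Fin n) k ⧸ I) B] [Module.Finite (MvPolynomial (Fin n) k ⧸ I) B]
    [Algebra.Etale (MvPolynomial (Fin n) k ⧸ I) B] :
    ∃ (C : Type u) (_ : CommRing C) (_ : Algebra (MvPolynomial (Fin n) k) C),
      Module.Finite (MvPolynomial (Fin n) k) C ∧ Algebra.Etale (MvPolynomial (Fin n) k) C ∧
      ∃ ψ : (MvPolynomial (Fin n) k ⧸ I) ⊗[MvPolynomial (Fin n) k] C →ₐ[MvPolynomial (Fin n) k ⧸ I] B,
        Function.Surjective ψ := by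
  exact EtaleAffine21.finite_etale_over_closed_dominated k p n I B

end Groth.Agent.S0281
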