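import Groth.Statements.S0286
import Groth.Agent.Lib.FEt21.UHEquiv
import Mathlib.FieldTheory.PerfectClosure
import Mathlib.FieldTheory.PurelyInseparable.Basic

set_option autoImplicit false
set_option backward.isDefEq.respectTransparency false
universe u
open Pi1

namespace Groth.Agent.S0286

open AlgebraicGeometry CategoryTheory CategoryTheory.Limits in
/-- For a scheme X over a field k of characteristic p (p a prime), pulling back finite étale covers
along the projection X ×_{Spec k} Spec(k^perf) → X, where k^perf is the perfect closure of k, is an
equivalence of categories. -/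
theorem result (k : Type u) [Field k] (p : ℕ) [Fact p.Prime] [CharP k p] {X : Scheme.{u}}
    (f : X ⟶ Spec (CommRingCat.of k)) :
    (FEt.restrict (pullback.fst f
      (Spec.map (CommRingCat.ofHom (PerfectClosure.of k p))))).IsEquivalence := by
  letI : Algebra k (PerfectClosure k p) := (PerfectClosure.of k p).toAlgebra
  have hpow : ∀ x : PerfectClosure k p, ∃ n : ℕ, x ^ p ^ n ∈ (algebraMap k (PerfectClosure k p)).range := fun x => by
    obtain ⟨⟨n, a⟩, rfl⟩ := PerfectClosure.mk_surjective k p x
    refine ⟨n, a, ?_⟩
    have := PerfectClosure.iterate_frobenius_mk k p n a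
    rw [iterate_frobenius] at this
    exact this.symm
  haveI : ExpChar k p := ExpChar.prime Fact.out
  haveI : IsPurelyInseparable k (PerfectClosure k p) := (isPurelyInseparable_iff_pow_mem k p).2 hpow
  haveI : Algebra.IsIntegral k (PerfectClosure k p) := IsPurelyInseparable.isIntegral
  let g := Spec.map (CommRingCat.ofHom (PerfectClosure.of k p))
  haveI : IsIntegralHom g := IsIntegralHom.SpecMap_iff.2 (fun x => Algebra.IsIntegral.isIntegral x)
  haveI : Surjective g := ⟨fun y => ⟨IsLocalRing.closedPoint _, Subsingleton.elim _ _⟩⟩
  haveI : UniversallyInjective g := by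
    refine ((tfae_universallyInjective g).out 0 1).2 fun K instK g₁ g₂ hg => ?_
    obtain ⟨a, rfl⟩ := Spec.map_surjective g₁
    obtain ⟨b, rfl⟩ := Spec.map_surjective g₂
    simp only [g, ← Spec.map_comp] at hg
    have h := Spec.map_injective hg
    congr 1
    letI := instK
    exact CommRingCat.hom_ext (IsPurelyInseparable.injective_comp_algebraMap (F := k) (E := PerfectClosure k p) (L := K)
      (congrArg CommRingCat.Hom.hom h))
  haveI : IsIntegralHom (pullback.fst f g) := MorphismProperty.pullback_fst (P := @IsIntegralHom) _ _ ‹IsIntegralHom g›
  haveI : UniversallyInjective (pullback.fst f g) := MorphismProperty.pullback_fst (P := @UniversallyInjective) _ _ ‹UniversallyInjective g›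
  haveI : Surjective (pullback.fst f g) := MorphismProperty.pullback_fst (P := @Surjective) _ _ ‹Surjective g›
  exact GrothLib.FEt21.isEquivalence_of_uh _

end Groth.Agent.S0286
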