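import Groth.Statements.S0288
import Groth.Agent.Lib.FEt21.NormalUnramified
import Groth.Agent.Lib.FEt21.Affine

set_option autoImplicit false
set_option linter.style.haveILetI false
universe u
open Pi1

namespace Groth.Agent.S0288

open AlgebraicGeometry CategoryTheory CategoryTheory.Limits in
theorem etale_of_dominant {X Y : Scheme.{u}} [IsIntegral X] [IsIntegral Y] (hX : Pi1.IsNormalScheme X) (g : Y ⟶ X)
    [IsFinite g] [FormallyUnramified g] [IsDominant g] : Etale g := by
  have hcov : ∀ x : X, ∃ U : X.affineOpens, x ∈ U.1 := fun x => by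
    obtain ⟨_, ⟨U, hU, rfl⟩, hxU, -⟩ :=
      X.isBasis_affineOpens.exists_subset_of_mem_open (Set.mem_univ x) isOpen_univ
    exact ⟨⟨U, hU⟩, hxU⟩
  choose U hxU using hcov
  refine (IsZariskiLocalAtTarget.iff_of_iSup_eq_top (P := @Etale) (fun x : X => (U x).1)
    (top_le_iff.1 fun x _ => TopologicalSpace.Opens.mem_iSup.2 ⟨x, hxU x⟩)).2 fun x => ?_
  have hxW := hxU x
  revert hxW
  show x ∈ (U x).1 → Etale (g ∣_ (U x).1)
  obtain ⟨W, hW⟩ := U x
  intro hxW
  have hne : Nonempty (W : Scheme.{u}) := ⟨⟨x, hxW⟩⟩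
  haveI := hne
  haveI : IsAffine (W : Scheme.{u}) := hW
  letI := (g.app W).hom.toAlgebra
  haveI : Module.Finite Γ(X, W) Γ(Y, g ⁻¹ᵁ W) := GrothLib.FEt21.finite_app_algebra g hW
  obtain ⟨y, hy⟩ := g.denseRange.exists_mem_open W.2 ⟨_, hxW⟩
  haveI : Nonempty (g ⁻¹ᵁ W : Y.Opens) := ⟨⟨y, hy⟩⟩
  haveI : IsDomain Γ(X, W) := inferInstance
  haveI : IsDomain Γ(Y, g ⁻¹ᵁ W) := inferInstance
  haveI : IsIntegrallyClosed Γ(X, W) := by
    refine IsIntegrallyClosed.of_localization_maximal fun p _ hp => ?_
    let z : X := hW.fromSpec ⟨p, hp.isPrime⟩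
    have hz : z ∈ W := hW.range_fromSpec.subset ⟨_, rfl⟩
    letI : Algebra Γ(X, W) (X.presheaf.stalk z) := (X.presheaf.germ W z hz).hom.toAlgebra
    haveI : IsLocalization.AtPrime (X.presheaf.stalk z) (hW.primeIdealOf ⟨z, hz⟩).asIdeal :=
      hW.isLocalization_stalk ⟨z, hz⟩
    have he : (hW.primeIdealOf ⟨z, hz⟩).asIdeal = p := congrArg PrimeSpectrum.asIdeal
      (hW.fromSpec.isOpenEmbedding.injective (by rw [hW.fromSpec_primeIdealOf]) :
        hW.primeIdealOf ⟨z, hz⟩ = ⟨p, hp.isPrime⟩)
    haveI : IsLocalization.AtPrime (X.presheaf.stalk z) p := by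
      simpa only [he] using (inferInstance : IsLocalization.AtPrime (X.presheaf.stalk z) (hW.primeIdealOf ⟨z, hz⟩).asIdeal)
    obtain ⟨_, _⟩ := hX z
    exact IsIntegrallyClosed.of_equiv
      (IsLocalization.algEquiv p.primeCompl (X.presheaf.stalk z) (Localization.AtPrime p)).toRingEquiv
  haveI : Algebra.FormallyUnramified Γ(X, W) Γ(Y, g ⁻¹ᵁ W) := by
    have h : (g.app W).hom.FormallyUnramified := by
      rw [Scheme.Hom.app_eq_appLE]
      exact HasRingHomProperty.appLE @FormallyUnramified g inferInstance ⟨W, hW⟩ ⟨_, hW.preimage g⟩ le_rfl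
    exact h
  have hinj : Function.Injective (algebraMap Γ(X, W) Γ(Y, g ⁻¹ᵁ W)) := by
    rw [injective_iff_map_eq_zero]
    intro a ha
    rw [← basicOpen_eq_bot_iff]
    by_contra hb
    obtain ⟨b, hb'⟩ := (TopologicalSpace.Opens.ne_bot_iff_nonempty _).1 hb
    obtain ⟨y', hy'⟩ := g.denseRange.exists_mem_open (X.basicOpen a).2 ⟨b, hb'⟩
    have h2 : g ⁻¹ᵁ X.basicOpen a = ⊥ := by
      rw [Scheme.preimage_basicOpen, show g.app W a = 0 from ha, Scheme.basicOpen_zero]
    exact (h2.le hy' : y' ∈ (⊥ : Y.Opens))
  haveI := GrothLib.FEt21.etale_of_unramified_of_normal hinj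
  have hsq := GrothLib.FEt21.isPullback_app g hW
  have he : Etale (Spec.map (g.app W)) :=
    (HasRingHomProperty.Spec_iff (P := @Etale)).2 (RingHom.etale_algebraMap.2 inferInstance)
  refine (MorphismProperty.arrow_mk_iso_iff @Etale ?_).1 he
  exact Arrow.isoMk (hW.preimage g).isoSpec.symm hW.isoSpec.symm (by
    rw [← cancel_mono W.ι]
    simp [IsAffineOpen.isoSpec_inv_ι, hsq.w])


open AlgebraicGeometry CategoryTheory CategoryTheory.Limits in
/-- Let X be a normal integral scheme with function field K, L a finite field extension of K and Y -> X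
the normalization of X in Spec L. If Y -> X is unramified (formally unramified and locally of finite
type), then it is etale, and finite. -/
theorem result {X : Scheme.{u}} [IsIntegral X] (hX : Pi1.IsNormalScheme X) (L : Type u) [Field L]
    [Algebra X.functionField L] [FiniteDimensional X.functionField L]
    [QuasiCompact (Spec.map (CommRingCat.ofHom (algebraMap X.functionField L)) ≫ X.fromSpecStalk (genericPoint X))]
    [QuasiSeparated (Spec.map (CommRingCat.ofHom (algebraMap X.functionField L)) ≫ X.fromSpecStalk (genericPoint X))]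
    [FormallyUnramified (Spec.map (CommRingCat.ofHom (algebraMap X.functionField L)) ≫ X.fromSpecStalk (genericPoint X)).fromNormalization]
    [LocallyOfFiniteType (Spec.map (CommRingCat.ofHom (algebraMap X.functionField L)) ≫ X.fromSpecStalk (genericPoint X)).fromNormalization] :
    Etale (Spec.map (CommRingCat.ofHom (algebraMap X.functionField L)) ≫ X.fromSpecStalk (genericPoint X)).fromNormalization ∧
    IsFinite (Spec.map (CommRingCat.ofHom (algebraMap X.functionField L)) ≫ X.fromSpecStalk (genericPoint X)).fromNormalization := by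
  set h := Spec.map (CommRingCat.ofHom (algebraMap X.functionField L)) ≫ X.fromSpecStalk (genericPoint X)
  haveI : IsFinite h.fromNormalization :=
    (IsFinite.iff_isIntegralHom_and_locallyOfFiniteType _).2 ⟨inferInstance, inferInstance⟩
  haveI : IsDominant h.fromNormalization := by
    refine ⟨dense_iff_closure_eq.2 (top_le_iff.1 ?_)⟩
    have hgen : genericPoint X ∈ Set.range h.fromNormalization := by
      refine ⟨h.toNormalization (IsLocalRing.closedPoint L), ?_⟩
      rw [← Scheme.Hom.comp_apply, Scheme.Hom.toNormalization_fromNormalization]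
      show X.fromSpecStalk (genericPoint X) (Spec.map (CommRingCat.ofHom (algebraMap X.functionField L))
        (IsLocalRing.closedPoint L)) = _
      haveI : Subsingleton (Spec X.functionField) := inferInstanceAs (Subsingleton (PrimeSpectrum X.functionField))
      rw [Subsingleton.elim (Spec.map (CommRingCat.ofHom (algebraMap X.functionField L))
        (IsLocalRing.closedPoint L)) (IsLocalRing.closedPoint _)]
      exact Scheme.fromSpecStalk_closedPoint
    calc (⊤ : Set X) ≤ closure {genericPoint X} := fun z _ =>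
          (genericPoint_specializes z).mem_closure
      _ ≤ _ := closure_mono (Set.singleton_subset_iff.2 hgen)
  exact ⟨etale_of_dominant hX _, inferInstance⟩

end Groth.Agent.S0288
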