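import Groth.Statements.S0291
import Groth.Agent.Lib.FEt21.DepthTwo

set_option autoImplicit false
universe u
open Pi1

namespace Groth.Agent.S0291

open AlgebraicGeometry CategoryTheory CategoryTheory.Limits in
/-- Let A be a Noetherian local ring and B a finite A-algebra such that the local rings of Spec B at all
closed points have depth at least 2. Then restriction from global sections of Spec B to sections
over the preimage of the punctured spectrum of A is an isomorphism. -/
theorem result (A B : Type u) [CommRing A] [IsNoetherianRing A] [IsLocalRing A] [CommRing B] [Algebra A B]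
    [Module.Finite A B]
    (h : ∀ (m : Ideal B) (_ : m.IsMaximal), (2 : ℕ∞) ≤ LocCoh.depth (Localization.AtPrime m) (Localization.AtPrime m)) :
    IsIso ((Spec (CommRingCat.of B)).presheaf.map (homOfLE (le_top :
      Spec.map (CommRingCat.ofHom (algebraMap A B)) ⁻¹ᵁ FEt.puncturedSpec A ≤ ⊤)).op) := by
  haveI : IsNoetherianRing B := IsNoetherianRing.of_finite A B
  haveI : IsLocallyNoetherian (Spec (CommRingCat.of B)) := inferInstance
  exact (ConcreteCategory.isIso_iff_bijective _).2 (GrothLib.Depth.res_bijective_of_eq
    (GrothLib.FEt21.depthTwoOutside_preimage_puncturedSpec A B h) le_top (by rw [top_inf_eq]))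

end Groth.Agent.S0291
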