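import Groth.Statements.S0292
import Groth.Agent.SmDepth21.S2Ext
-- import your own Groth.Agent.* helpers here

set_option autoImplicit false
universe u
open Pi1

namespace Groth.Agent.S0292

set_option backward.isDefEq.respectTransparency false in
set_option maxHeartbeats 1000000 in
open AlgebraicGeometry CategoryTheory CategoryTheory.Limits in
/-- Let X be a locally Noetherian scheme, U ⊆ X an open subscheme such that at every point x outside U
the local ring 𝒪_{X,x} has depth at least 2, and V → U a finite étale cover. Then there exist a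
scheme Y and a finite morphism π : Y → X whose restriction π⁻¹(U) → U is isomorphic to V over U, and
such that at every point y of Y with π(y) outside U the local ring 𝒪_{Y,y} has depth at least 2.
(Existence only; uniqueness is not asserted here.) -/
theorem result {X : Scheme.{u}} [IsLocallyNoetherian X] (U : X.Opens)
    (hU : ∀ x : X, x ∉ U → (2 : ℕ∞) ≤ LocCoh.depth (X.presheaf.stalk x) (X.presheaf.stalk x)) (V : FEt.Cat (U : Scheme.{u})) :
    ∃ (Y : Scheme.{u}) (π : Y ⟶ X) (e : pullback π U.ι ≅ V.left), IsFinite π ∧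
      e.hom ≫ V.hom = pullback.snd π U.ι ∧
      ∀ y : Y, π.base y ∉ U → (2 : ℕ∞) ≤ LocCoh.depth (Y.presheaf.stalk y) (Y.presheaf.stalk y) := by
  haveI : IsFinite V.hom := V.prop.1
  haveI : Etale V.hom := V.prop.2
  let v : V.left ⟶ X := V.hom ≫ U.ι
  let A := RelSpec.QCAlg.directImage v
  obtain ⟨c, hc, hcA⟩ := RLpsi8.exists_toSpecDirectImage v
  haveI := RLpsi8.isIso_gammaMap A
  have hcle : ∀ W : X.Opens, v ⁻¹ᵁ W ≤ c ⁻¹ᵁ (A.π ⁻¹ᵁ W) := fun W => by
    rw [← Scheme.Hom.comp_preimage, hc]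
  have hc' : ∀ W : X.Opens, IsIso (c.appLE (A.π ⁻¹ᵁ W) (v ⁻¹ᵁ W) (hcle W)) := fun W => by
    rw [← GrothLib.AffAlg8.algHom_app A.π v c hc W, ← hcA]
    infer_instance
  have happ : ∀ W : X.Opens, A.π.app W ≫ c.appLE (A.π ⁻¹ᵁ W) (v ⁻¹ᵁ W) (hcle W) = v.app W := fun W => by
    rw [Scheme.Hom.app_eq_appLE, Scheme.Hom.appLE_comp_appLE, Scheme.Hom.app_eq_appLE]
    exact GrothLib.FEt21.appLE_eq_of_eq hc _ _ _ _
  have hfin : ∀ W : X.Opens, IsAffineOpen W → (A.π.app W).hom.Finite := fun W hW => by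
    haveI := hc' W
    rw [show A.π.app W = v.app W ≫ inv (c.appLE (A.π ⁻¹ᵁ W) (v ⁻¹ᵁ W) (hcle W)) from
      (IsIso.eq_comp_inv _).2 (happ W)]
    exact RingHom.finite_respectsIso.1 _
      (asIso (inv (c.appLE (A.π ⁻¹ᵁ W) (v ⁻¹ᵁ W) (hcle W)))).commRingCatIsoToRingEquiv
      (GrothLib.SmDepth21.sections_data hU V W hW).1
  haveI : IsFinite A.π := ⟨fun W hW' => hfin W hW'⟩
  let c' : V.left ⟶ pullback A.π U.ι := pullback.lift c V.hom hc
  have hc'' : c' ≫ pullback.fst A.π U.ι = c := pullback.lift_fst _ _ _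
  haveI : IsAffineHom (c' ≫ pullback.snd A.π U.ι) := by
    rw [pullback.lift_snd]; infer_instance
  haveI : IsIso c' := by
    refine GrothLib.PunctPure21.isIso_of_isIso_appLE c' (pullback.snd A.π U.ι) V.hom (pullback.lift_snd _ _ _)
      fun W => ?_
    let T := U.ι ''ᵁ W.1
    haveI := hc' T
    have hP : pullback.snd A.π U.ι ⁻¹ᵁ W.1 = pullback.fst A.π U.ι ⁻¹ᵁ (A.π ⁻¹ᵁ T) := by
      rw [← Scheme.Hom.comp_preimage, pullback.condition, Scheme.Hom.comp_preimage, U.ι.preimage_image_eq]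
    have hQ : V.hom ⁻¹ᵁ W.1 = v ⁻¹ᵁ T := by
      rw [Scheme.Hom.comp_preimage, U.ι.preimage_image_eq]
    let α := (pullback.fst A.π U.ι).appLE (A.π ⁻¹ᵁ T) (pullback.snd A.π U.ι ⁻¹ᵁ W.1) hP.le
    haveI : IsIso α := by
      have hle : A.π ⁻¹ᵁ T ≤ (pullback.fst A.π U.ι).opensRange := by
        intro y hy
        show y ∈ Set.range (pullback.fst A.π U.ι)
        rw [Scheme.Pullback.range_fst, Set.mem_preimage, Scheme.Opens.range_ι]
        exact U.ι_image_le W.1 hy
      haveI := Scheme.Hom.isIso_app (pullback.fst A.π U.ι) _ hle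
      have : α = (pullback.fst A.π U.ι).app (A.π ⁻¹ᵁ T) ≫
          (pullback A.π U.ι).presheaf.map (eqToHom hP).op := rfl
      rw [this]; infer_instance
    let β := V.left.presheaf.map (eqToHom hQ).op
    have hcomp : α ≫ c'.appLE (pullback.snd A.π U.ι ⁻¹ᵁ W.1) (V.hom ⁻¹ᵁ W.1)
        (by rw [← Scheme.Hom.comp_preimage, pullback.lift_snd]) =
        c.appLE (A.π ⁻¹ᵁ T) (v ⁻¹ᵁ T) (hcle T) ≫ β := by
      rw [Scheme.Hom.appLE_comp_appLE, Scheme.Hom.appLE_map]
      simp_rw [hc'']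
    haveI : IsIso (α ≫ c'.appLE (pullback.snd A.π U.ι ⁻¹ᵁ W.1) (V.hom ⁻¹ᵁ W.1)
        (by rw [← Scheme.Hom.comp_preimage, pullback.lift_snd])) := by rw [hcomp]; infer_instance
    exact IsIso.of_isIso_comp_left α _
  refine ⟨A.spec, A.π, (asIso c').symm, inferInstance,
    (IsIso.inv_comp_eq c').2 (pullback.lift_snd _ _ _).symm, fun y hy => ?_⟩
  obtain ⟨_, ⟨W, hW, rfl⟩, hxW, -⟩ := X.isBasis_affineOpens.exists_subset_of_mem_open
    (Set.mem_univ (A.π y)) isOpen_univ
  obtain ⟨-, a, b, hmem, hinj, hdiv⟩ := GrothLib.SmDepth21.sections_data hU V W hW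
  haveI := hc' W
  let e := c.appLE (A.π ⁻¹ᵁ W) (v ⁻¹ᵁ W) (hcle W)
  have hebij : Function.Bijective e := ConcreteCategory.bijective_of_isIso e
  have he : ∀ z, e (A.π.app W z) = (V.hom ≫ U.ι).app W z := fun z => by
    rw [← ConcreteCategory.comp_apply, happ]
    rfl
  let R := Γ(A.spec, A.π ⁻¹ᵁ W)
  have hπW : IsAffineOpen (A.π ⁻¹ᵁ W) := hW.preimage A.π
  let p := (hπW.primeIdealOf ⟨y, hxW⟩).asIdeal
  have hp : ∀ z ∈ (hW.primeIdealOf ⟨A.π y, hxW⟩).asIdeal, A.π.app W z ∈ p := fun z hz => by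
    rw [← IsAffineOpen.comap_primeIdealOf_appLE W hW (A.π ⁻¹ᵁ W) hπW le_rfl hxW] at hz
    rw [Scheme.Hom.app_eq_appLE]
    exact hz
  obtain ⟨hap, hbp⟩ := hmem ⟨A.π y, hxW⟩ hy
  have hreg : RingTheory.Sequence.IsWeaklyRegular R [(A.π.app W a : R), A.π.app W b] := by
    rw [RingTheory.Sequence.isWeaklyRegular_cons_iff, RingTheory.Sequence.isWeaklyRegular_cons_iff]
    refine ⟨fun r r' h => ?_, ?_, RingTheory.Sequence.IsWeaklyRegular.nil _ _⟩
    · refine hebij.1 (sub_eq_zero.1 (hinj _ ?_))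
      rw [mul_sub, sub_eq_zero, ← he]
      exact (map_mul e.hom _ _).symm.trans ((congrArg e.hom h).trans (map_mul e.hom _ _))
    · intro q q' h
      obtain ⟨r, rfl⟩ := Submodule.Quotient.mk_surjective _ q
      obtain ⟨r', rfl⟩ := Submodule.Quotient.mk_surjective _ q'
      simp only [← Submodule.Quotient.mk_smul, Submodule.Quotient.eq,
        Submodule.mem_smul_pointwise_iff_exists] at h ⊢
      obtain ⟨s, -, hs⟩ := h
      obtain ⟨t, ht⟩ := hdiv (e (r - r')) (e s) (by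
        rw [← he, ← he]
        refine (map_mul e.hom _ _).symm.trans ((congrArg e.hom ?_).trans (map_mul e.hom _ _))
        rw [mul_sub]
        exact hs.symm)
      obtain ⟨t, rfl⟩ := hebij.2 t
      refine ⟨t, trivial, hebij.1 ?_⟩
      show e (A.π.app W a * t) = e (r - r')
      rw [map_mul, he]
      exact ht.symm
  letI := A.spec.presheaf.algebra_section_stalk (⟨y, hxW⟩ : A.π ⁻¹ᵁ W)
  haveI : IsLocalization.AtPrime (A.spec.presheaf.stalk y) p := hπW.isLocalization_stalk ⟨y, hxW⟩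
  have hreg' := hreg.of_isLocalizedModule (A.spec.presheaf.stalk y) p.primeCompl
    (Algebra.linearMap R (A.spec.presheaf.stalk y))
  unfold LocCoh.depth LocCoh.idealDepth
  split_ifs
  · exact le_top
  · refine le_iSup₂_of_le _ ⟨hreg', fun r hr => ?_⟩ (by simp)
    obtain ⟨z, hz, rfl⟩ := List.mem_map.1 hr
    refine (IsLocalization.AtPrime.to_map_mem_maximal_iff (A.spec.presheaf.stalk y) p z).2 ?_
    rcases List.mem_cons.1 hz with rfl | hz
    · exact hp _ hap
    · rw [List.mem_singleton] at hz; exact hz ▸ hp _ hbp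

end Groth.Agent.S0292
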