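import Groth.Statements.S0297
import Groth.Agent.Lib.FEt21.Galois
import Groth.Agent.Lib.GalCat21.Basic
import Mathlib.CategoryTheory.Galois.Prorepresentability

set_option autoImplicit false
universe u
open Pi1

namespace Groth.Agent.S0297

open AlgebraicGeometry CategoryTheory CategoryTheory.Limits in
/-- For a connected scheme X and geometric points ξ : Spec Ω → X and ξ' : Spec Ω' → X (Ω, Ω'
algebraically closed fields), every morphism of functors from the fibre functor at ξ to the fibre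
functor at ξ' on finite étale covers of X is an isomorphism. -/
theorem result {X : Scheme.{u}} [ConnectedSpace X] {Ω Ω' : Type u} [Field Ω]
    [IsAlgClosed Ω] [Field Ω'] [IsAlgClosed Ω'] (ξ : Spec (CommRingCat.of Ω) ⟶ X)
    (ξ' : Spec (CommRingCat.of Ω') ⟶ X) (φ : FEt.fiber ξ ⟶ FEt.fiber ξ') : IsIso φ := by
  haveI := GrothLib.FEt21.preGalois (X := X)
  haveI := GrothLib.FEt21.fiberFunctor ξ
  haveI := GrothLib.FEt21.fiberFunctor ξ'
  haveI : GaloisCategory (FEt.Cat X) := { hasFiberFunctor := ⟨GrothLib.FEt21.fibFin ξ, ⟨inferInstance⟩⟩ }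
  let ψ : GrothLib.FEt21.fibFin ξ ⟶ GrothLib.FEt21.fibFin ξ' :=
    { app := fun Y => FintypeCat.homMk (φ.app Y)
      naturality := fun Y Y' f => by ext s; exact congr($(φ.naturality f) s) }
  obtain ⟨e⟩ := GrothLib.GalCat21.nonempty_iso_fiberFunctor (F := GrothLib.FEt21.fibFin ξ)
    (GrothLib.FEt21.fibFin ξ') fun Y hY =>
      (PreGaloisCategory.initial_iff_fiber_empty (GrothLib.FEt21.fibFin ξ') Y).2 hY
  haveI : IsIso (ψ ≫ e.hom) := PreGaloisCategory.FibreFunctor.end_isIso (GrothLib.FEt21.fibFin ξ) _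
  haveI : IsIso ψ := IsIso.of_isIso_comp_right ψ e.hom
  haveI : ∀ Y, IsIso (ψ.app Y) := fun Y => inferInstanceAs (IsIso (((evaluation _ _).obj Y).map ψ))
  haveI : ∀ Y, IsIso (φ.app Y) := fun Y =>
    (isIso_iff_bijective _).2 (ConcreteCategory.bijective_of_isIso (ψ.app Y))
  exact NatIso.isIso_of_isIso_app φ

end Groth.Agent.S0297
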