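import Groth.Statements.S0304
import Groth.Agent.Lib.InjMod.Essential

set_option autoImplicit false
universe u v
open InjHull

namespace Groth.Agent.S0304

/-- Let R be a commutative ring and E an indecomposable injective R-module. Then any two nonzero
submodules of E have nonzero intersection, and the set of elements r ∈ R such that r·x = 0 for some
nonzero x ∈ E is a prime ideal of R. -/
theorem result (R : Type u) [CommRing R] (E : Type u) [AddCommGroup E] [Module R E] (hE : InjHull.IsIndecomposable R E) (hinj : Module.Injective R E) : (∀ N N' : Submodule R E, N ≠ ⊥ → N' ≠ ⊥ → N ⊓ N' ≠ ⊥) ∧ ∃ p : Ideal R, p.IsPrime ∧ (p : Set R) = {r : R | ∃ x : E, x ≠ 0 ∧ r • x = 0} := by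
  have hu : ∀ N N' : Submodule R E, N ≠ ⊥ → N' ≠ ⊥ → N ⊓ N' ≠ ⊥ :=
    fun N N' hN hN' => GrothLib.InjMod.indecomposable_uniform hE hinj hN hN'
  refine ⟨hu, ?_⟩
  have := hE.1
  let p : Ideal R :=
    { carrier := {r : R | ∃ x : E, x ≠ 0 ∧ r • x = 0}
      zero_mem' := by obtain ⟨x, hx⟩ := exists_ne (0 : E); exact ⟨x, hx, zero_smul R x⟩
      smul_mem' := fun c r ⟨x, hx, hr⟩ => ⟨x, hx, by rw [smul_eq_mul, mul_smul, hr, smul_zero]⟩
      add_mem' := by
        rintro a b ⟨x, hx, ha⟩ ⟨y, hy, hb⟩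
        obtain ⟨z, ⟨hz1, hz2⟩, hz⟩ := Submodule.exists_mem_ne_zero_of_ne_bot
          (hu (Submodule.span R {x}) (Submodule.span R {y}) (by simpa using hx) (by simpa using hy))
        obtain ⟨c, rfl⟩ := Submodule.mem_span_singleton.1 hz1
        obtain ⟨d, hd⟩ := Submodule.mem_span_singleton.1 hz2
        refine ⟨c • x, hz, ?_⟩
        rw [add_smul, smul_comm a c x, ha, smul_zero, zero_add, ← hd, smul_comm b d y, hb, smul_zero] }
  refine ⟨p, ⟨fun h => ?_, fun {a b} hab => ?_⟩, rfl⟩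
  · have h1 : (1 : R) ∈ p := by rw [h]; trivial
    obtain ⟨x, hx, h1⟩ := h1
    exact hx (by simpa using h1)
  · obtain ⟨x, hx, hr⟩ := hab
    by_cases hb : b • x = 0
    · exact Or.inr ⟨x, hx, hb⟩
    · exact Or.inl ⟨b • x, hb, by rwa [← mul_smul]⟩

end Groth.Agent.S0304
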