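import Groth.Statements.S0311
import Groth.Agent.Lib.InjMod.Noetherian

set_option autoImplicit false
universe u v
open Matlis

namespace Groth.Agent.S0311

/-- Over a Noetherian local ring, every element of an injective hull E of the residue field is killed by
some power of the maximal ideal (E is the union of the E[m^n]). (The source also identifies E[m^n]
with an injective hull of the residue field over R/m^n; not stated here.) -/
theorem result (R : Type u) [CommRing R] [IsLocalRing R] [IsNoetherianRing R] (E : Type u) [AddCommGroup E] [Module R E] (f : IsLocalRing.ResidueField R →ₗ[R] E) (hf : InjHull.IsInjectiveHull f) : LocCoh.IsPowerTorsion (IsLocalRing.maximalIdeal R) E := by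
  have hinj := GrothLib.InjMod.injective_iSup_torsionBySet_pow hf.isInjective (IsLocalRing.maximalIdeal R)
  obtain ⟨C, hC⟩ := GrothLib.InjMod.exists_isCompl _ hinj
  have hrange : LinearMap.range f ≤
      ⨆ n : ℕ, Submodule.torsionBySet R E ((IsLocalRing.maximalIdeal R ^ n : Ideal R) : Set R) := by
    rintro _ ⟨x, rfl⟩
    rw [GrothLib.InjMod.mem_iSup_torsionBySet_pow]
    refine ⟨1, fun a ha => ?_⟩
    rw [pow_one] at ha
    rw [← map_smul, Algebra.smul_def, IsLocalRing.ResidueField.algebraMap_eq,
      IsLocalRing.residue_eq_zero_iff _ |>.2 ha, zero_mul, map_zero]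
  have hC0 : C = ⊥ := by
    by_contra hC0
    exact hf.essential C hC0 (le_bot_iff.1 (le_trans (inf_le_inf_left C hrange) hC.symm.inf_eq_bot.le))
  have htop := hC.sup_eq_top
  rw [hC0, sup_bot_eq] at htop
  intro x
  exact (GrothLib.InjMod.mem_iSup_torsionBySet_pow _ x).1 (htop ▸ Submodule.mem_top)

end Groth.Agent.S0311
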