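import Groth.Statements.S0312
import Groth.Agent.Lib.InjMod.Matlis
import Groth.Agent.Lib.LenTensor.Basic
import Mathlib.RingTheory.Flat.FaithfullyFlat.Algebra
import Mathlib.LinearAlgebra.TensorProduct.Pi

set_option autoImplicit false
universe u v
open Matlis

namespace Groth.Agent.S0312

/-- For a flat local homomorphism A → B of Noetherian local rings with m_A B equal to the maximal ideal
of B, tensoring an injective hull of the residue field of A with B gives an injective hull of the
residue field of B. -/
theorem result (A : Type u) [CommRing A] [IsLocalRing A] [IsNoetherianRing A] (B : Type u) [CommRing B] [IsLocalRing B] [IsNoetherianRing B] [Algebra A B] [IsLocalHom (algebraMap A B)] [Module.Flat A B] (hm : (IsLocalRing.maximalIdeal A).map (algebraMap A B) = IsLocalRing.maximalIdeal B) (E : Type u) [AddCommGroup E] [Module A E] (f : IsLocalRing.ResidueField A →ₗ[A] E) (hf : InjHull.IsInjectiveHull f) : ∃ g : IsLocalRing.ResidueField B →ₗ[B] TensorProduct A B E, InjHull.IsInjectiveHull g := by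
    classical
    let 𝔪 := IsLocalRing.maximalIdeal A
    let 𝔫 := IsLocalRing.maximalIdeal B
    haveI : Module.FaithfullyFlat A B := Module.FaithfullyFlat.of_flat_of_isLocalHom
    let T := TensorProduct A B E
    obtain ⟨EB, _, _, h, hh⟩ := GrothLib.InjMod.exists_injective_hull (R := B) (IsLocalRing.ResidueField B)
    have hpow : ∀ N : ℕ, (𝔪 ^ N).map (algebraMap A B) = 𝔫 ^ N := fun N => by rw [Ideal.map_pow, hm]
    have hEtor := GrothLib.Matlis.isPowerTorsion_of_hull (m := IsLocalRing.maximalIdeal A) hf
    have hkillT : ∀ (N : ℕ) (b : B) (e : E), (∀ a ∈ 𝔪 ^ N, a • e = 0) →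
        ∀ c ∈ 𝔫 ^ N, c • (b ⊗ₜ[A] e) = 0 := by
      intro N b e he c hc
      rw [← hpow] at hc
      have hle : (𝔪 ^ N).map (algebraMap A B) ≤ (Submodule.span B {b ⊗ₜ[A] e}).annihilator := by
        rw [Ideal.map_le_iff_le_comap]
        intro a ha
        rw [Ideal.mem_comap, Submodule.mem_annihilator_span_singleton, algebraMap_smul,
          ← TensorProduct.tmul_smul, he a ha, TensorProduct.tmul_zero]
      exact (Submodule.mem_annihilator_span_singleton _ c).1 (hle hc)
    have hTtor : LocCoh.IsPowerTorsion 𝔫 T := fun z => by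
      induction z using TensorProduct.induction_on with
      | zero => exact ⟨0, fun c _ => smul_zero c⟩
      | tmul b e =>
        obtain ⟨N, hN⟩ := hEtor e
        exact ⟨N, hkillT N b e hN⟩
      | add z w hz hw =>
        obtain ⟨N, hN⟩ := hz
        obtain ⟨N', hN'⟩ := hw
        exact ⟨max N N', fun c hc => by
          rw [smul_add, hN c (Ideal.pow_le_pow_right (le_max_left _ _) hc),
            hN' c (Ideal.pow_le_pow_right (le_max_right _ _) hc), add_zero]⟩
    have hlenB : Module.length B (B ⧸ (𝔪.map (algebraMap A B) • (⊤ : Submodule B B))) = 1 := by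
      haveI : IsSimpleModule B (B ⧸ 𝔫) :=
        isSimpleModule_iff_isCoatom.2 (Ideal.isMaximal_def.1 (IsLocalRing.maximalIdeal.isMaximal B))
      rw [hm, smul_eq_mul, Ideal.mul_top]
      exact Module.length_eq_one B (B ⧸ 𝔫)
    have hflA : ∀ N, IsFiniteLength A (A ⧸ 𝔪 ^ N) := fun N => by
      have hkill : ∀ a ∈ 𝔪 ^ N, ∀ z : A ⧸ 𝔪 ^ N, a • z = 0 := fun a ha z => by
        obtain ⟨z, rfl⟩ := Submodule.Quotient.mk_surjective _ z
        rw [← Submodule.Quotient.mk_smul, Submodule.Quotient.mk_eq_zero]
        exact Ideal.mul_mem_right z _ ha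
      haveI : IsArtinian A (A ⧸ 𝔪 ^ N) :=
        (GrothLib.LC.finite_iff_isArtinian_of_pow_smul 𝔪 hkill).1 inferInstance
      exact isFiniteLength_iff_isNoetherian_isArtinian.2 ⟨inferInstance, inferInstance⟩
    -- the `𝔫^N` torsion of `T`
    have key : ∀ N, Module.length B (LocCoh.torsionBy (𝔫 ^ N) T) = Module.length A (A ⧸ 𝔪 ^ N) := by
      intro N
      obtain ⟨r, a, ha⟩ := Submodule.fg_iff_exists_fin_generating_family.1 (IsNoetherian.noetherian (𝔪 ^ N))
      let K := LocCoh.torsionBy (𝔪 ^ N) E
      let Φ : E →ₗ[A] (Fin r → E) := LinearMap.pi fun j => a j • LinearMap.id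
      have hex : Function.Exact K.subtype Φ := fun e => by
        constructor
        · intro he
          refine ⟨⟨e, (Submodule.mem_torsionBySet_iff _ _).2 fun c => ?_⟩, rfl⟩
          have hc : (c : A) ∈ Submodule.span A (Set.range a) := by rw [ha]; exact c.2
          obtain ⟨μ, hμ⟩ := (Submodule.mem_span_range_iff_exists_fun A).1 hc
          rw [← hμ, Finset.sum_smul]
          exact Finset.sum_eq_zero fun j _ => by
            rw [smul_assoc, show a j • e = 0 from congrFun he j, smul_zero]
        · rintro ⟨e, rfl⟩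
          funext j
          exact (Submodule.mem_torsionBySet_iff _ _).1 e.2 ⟨a j, ha ▸ Submodule.subset_span ⟨j, rfl⟩⟩
      let ι := TensorProduct.AlgebraTensorModule.lTensor B B K.subtype
      have hι : Function.Injective ι := Module.Flat.lTensor_preserves_injective_linearMap _ K.injective_subtype
      have hrange : LinearMap.range ι = LocCoh.torsionBy (𝔫 ^ N) T := by
        refine le_antisymm ?_ fun z hz => ?_
        · rintro _ ⟨z, rfl⟩
          refine (Submodule.mem_torsionBySet_iff _ _).2 fun c => ?_
          induction z using TensorProduct.induction_on with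
          | zero => rw [map_zero, smul_zero]
          | tmul b e =>
            exact hkillT N b e.1 (fun a ha => (Submodule.mem_torsionBySet_iff _ _).1 e.2 ⟨a, ha⟩) c c.2
          | add z w hz hw => rw [map_add, smul_add, hz, hw, add_zero]
        · refine (Module.Flat.lTensor_exact B hex z).1 ?_
          refine (TensorProduct.piRight A A B (fun _ : Fin r => E)).injective ?_
          rw [map_zero]
          funext j
          have hj : ∀ w : T, TensorProduct.piRight A A B (fun _ : Fin r => E) (LinearMap.lTensor B Φ w) j = a j • w := by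
            intro w
            induction w using TensorProduct.induction_on with
            | zero => simp
            | tmul b e => simp [Φ, TensorProduct.tmul_smul]
            | add w w' hw hw' => rw [map_add, map_add, Pi.add_apply, hw, hw', smul_add]
          rw [hj, ← algebraMap_smul B (a j) z]
          exact (Submodule.mem_torsionBySet_iff _ _).1 hz ⟨_, hpow N ▸ Ideal.mem_map_of_mem _ (ha ▸ Submodule.subset_span ⟨j, rfl⟩)⟩
      rw [← hrange, ← (LinearEquiv.ofInjective ι hι).length_eq, GrothLib.LenTensor.length_tensor (A := A) (B := B) B K,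
        hlenB, mul_one, ← (GrothLib.Matlis.homQuotEquiv (𝔪 ^ N) E).length_eq,
        GrothLib.Matlis.length_linearMap hf (hflA N)]
    have keyB : ∀ N, Module.length B (LocCoh.torsionBy (𝔫 ^ N) EB) = Module.length A (A ⧸ 𝔪 ^ N) := by
      intro N
      have hq : Module.length B (B ⧸ 𝔫 ^ N) = Module.length A (A ⧸ 𝔪 ^ N) := by
        have h1 := GrothLib.LenTensor.L_quotient (A := A) (B := B) B (𝔪 ^ N)
        rw [hpow, smul_eq_mul, Ideal.mul_top] at h1
        exact h1.symm.trans ((GrothLib.LenTensor.length_tensor (A := A) (B := B) B (A ⧸ 𝔪 ^ N)).trans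
          (by rw [hlenB, mul_one]))
      rw [← (GrothLib.Matlis.homQuotEquiv (𝔫 ^ N) EB).length_eq,
        GrothLib.Matlis.length_linearMap hh (Module.length_ne_top_iff.1 (hq ▸ Module.length_ne_top_iff.2 (hflA N))), hq]
    -- socle
    have hsoc : IsSimpleModule B (LocCoh.torsionBy 𝔫 T) := by
      have h1 := key 1
      rw [pow_one, pow_one] at h1
      haveI : IsSimpleModule A (A ⧸ 𝔪) :=
        isSimpleModule_iff_isCoatom.2 (Ideal.isMaximal_def.1 (IsLocalRing.maximalIdeal.isMaximal A))
      rw [Module.length_eq_one A (A ⧸ 𝔪)] at h1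
      exact Module.length_eq_one_iff.1 h1
    haveI := IsSimpleModule.nontrivial B (LocCoh.torsionBy 𝔫 T)
    obtain ⟨⟨x, hx⟩, hx0⟩ := exists_ne (0 : LocCoh.torsionBy 𝔫 T)
    obtain ⟨φ, hφ⟩ := GrothLib.Matlis.exists_apply_ne_zero hh (x := x) fun h => hx0 (Subtype.ext h)
    have hφinj : Function.Injective φ := GrothLib.Matlis.injective_of_socle hTtor φ fun y hy h0 => by
      haveI := hsoc
      have hi := (LinearMap.injective_or_eq_zero (φ ∘ₗ (LocCoh.torsionBy 𝔫 T).subtype)).resolve_right
        fun h => hφ (LinearMap.congr_fun h (⟨x, hx⟩ : LocCoh.torsionBy 𝔫 T))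
      exact congrArg Subtype.val (hi (a₁ := ⟨y, hy⟩) (a₂ := 0) (by rw [map_zero]; exact h0))
    have hφsurj : Function.Surjective φ := fun y => by
      obtain ⟨N, hN⟩ := GrothLib.Matlis.isPowerTorsion_of_hull (m := IsLocalRing.maximalIdeal B) hh y
      let φN : LocCoh.torsionBy (𝔫 ^ N) T →ₗ[B] LocCoh.torsionBy (𝔫 ^ N) EB :=
        LinearMap.codRestrict _ (φ ∘ₗ Submodule.subtype _) fun z =>
          (Submodule.mem_torsionBySet_iff _ _).2 fun c => by
            show (c : B) • φ z.1 = 0
            rw [← map_smul, (Submodule.mem_torsionBySet_iff _ _).1 z.2 c, map_zero]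
      obtain ⟨z, hz⟩ := GrothLib.Matlis.surjective_of_length_eq φN
        (fun p q hpq => Subtype.ext (hφinj (congrArg Subtype.val hpq))) ((key N).trans (keyB N).symm)
        (by rw [key]; exact Module.length_ne_top_iff.2 (hflA N))
        ⟨y, (Submodule.mem_torsionBySet_iff _ _).2 fun c => hN c c.2⟩
      exact ⟨z.1, congrArg Subtype.val hz⟩
    let e := LinearEquiv.ofBijective φ ⟨hφinj, hφsurj⟩
    refine ⟨e.symm.toLinearMap ∘ₗ h, ?_⟩
    exact ⟨GrothLib.InjMod.isEssentialInj_comp hh.toIsEssentialInj (GrothLib.InjMod.isEssentialInj_equiv e.symm),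
      GrothLib.InjMod.injective_of_linearEquiv e hh.isInjective⟩

end Groth.Agent.S0312
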