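import Groth.Statements.S0319
import Groth.Agent.Lib.Depth.Basic

set_option autoImplicit false
universe u v
open CategoryTheory
open LocCoh

namespace Groth.Agent.S0319

/-- Part (1): =(2): for a finite module M over a Noetherian ring and an ideal I with IM ≠ M, the I-depth
of M is the least i with Ext^i(R/I, M) nonzero. (Close to Mathlib's Rees criterion; kept at low
weight to pin our depth to Mathlib's Ext.) -/
theorem result (R : Type u) [CommRing R] [IsNoetherianRing R] (I : Ideal R) (M : Type u) [AddCommGroup M] [Module R M] [Module.Finite R M] (hIM : I • (⊤ : Submodule R M) ≠ ⊤) (n : ℕ) : LocCoh.idealDepth I M = n ↔ ((∀ i : ℕ, i < n → Subsingleton (Abelian.Ext (ModuleCat.of R (R ⧸ I)) (ModuleCat.of R M) i)) ∧ Nontrivial (Abelian.Ext (ModuleCat.of R (R ⧸ I)) (ModuleCat.of R M) n)) := by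
  rw [GrothLib.Depth.idealDepth_ne_top_iff_aux _
    (fun m => GrothLib.Depth.le_idealDepth_iff_ext I (M := M) m) n, not_subsingleton_iff_nontrivial]

end Groth.Agent.S0319
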