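import Groth.Statements.S0325
import Groth.Agent.Lib.LC.Vanish

set_option autoImplicit false
universe u v
open LocCoh

namespace Groth.Agent.S0325

/-- For a Noetherian ring R of Krull dimension at most d and an ideal I of R, the local cohomology
groups H^i_I(M) vanish for every R-module M and every i > d. -/
theorem result (R : Type u) [CommRing R] [IsNoetherianRing R] (I : Ideal R) (d : ℕ) (hd : ringKrullDim R ≤ d) : LocCoh.CdLE R I d := by
  intro M _ _ i hi
  exact GrothLib.LC.subsingleton_of_supportDim_lt i R I M
    ((Module.supportDim_le_ringKrullDim R M).trans_lt (hd.trans_lt (by exact_mod_cast hi)))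

end Groth.Agent.S0325
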