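import Groth.Statements.S0328
import Groth.Agent.Lib.LC.TopNonzero
import Groth.Agent.Lib.LC.BaseChange
import Mathlib.RingTheory.Ideal.Quotient.Operations

set_option autoImplicit false
universe u v
open LocCoh

namespace Groth.Agent.S0328

/-- In a Noetherian local ring, if a prime p and a proper ideal I together have radical the maximal
ideal and dim R/p = d ≥ 1, then local cohomology with support in I does not vanish in all degrees ≥
d. -/
theorem result (R : Type u) [CommRing R] [IsLocalRing R] [IsNoetherianRing R] (I : Ideal R) (hI : I ≠ ⊤) (p : Ideal R) [p.IsPrime] (hpI : (p ⊔ I).radical = IsLocalRing.maximalIdeal R) (d : ℕ) (hd : ringKrullDim (R ⧸ p) = d) (hd1 : 1 ≤ d) : ¬ LocCoh.CdLE R I (d - 1) := by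
  intro hcd
  haveI : Nontrivial (R ⧸ p) := Ideal.Quotient.nontrivial_iff.2 ‹p.IsPrime›.ne_top
  haveI : IsLocalRing (R ⧸ p) := .of_surjective' (Ideal.Quotient.mk p) Ideal.Quotient.mk_surjective
  have h1 : Subsingleton ((localCohomology I d).obj (ModuleCat.of R (R ⧸ p))) :=
    hcd (R ⧸ p) d (by omega)
  have h2 := (GrothLib.LC.subsingleton_map_iff (R' := R ⧸ p) I d (R ⧸ p)).2 h1
  have hrad : (I.map (algebraMap R (R ⧸ p))).radical = (IsLocalRing.maximalIdeal (R ⧸ p)).radical := by
    rw [(IsLocalRing.maximalIdeal.isMaximal (R ⧸ p)).isPrime.radical]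
    refine le_antisymm ?_ fun y hy => ?_
    · rw [(IsLocalRing.maximalIdeal.isMaximal (R ⧸ p)).isPrime.radical_le_iff]
      refine Ideal.map_le_iff_le_comap.2 fun y hy hu => ?_
      haveI : IsLocalHom (Ideal.Quotient.mk p) :=
        IsLocalHom.of_surjective _ Ideal.Quotient.mk_surjective
      exact IsLocalRing.le_maximalIdeal hI hy (isUnit_of_map_unit (Ideal.Quotient.mk p) y hu)
    · obtain ⟨z, rfl⟩ := Ideal.Quotient.mk_surjective y
      have hz : z ∈ IsLocalRing.maximalIdeal R := fun hu => hy (hu.map _)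
      rw [← hpI] at hz
      obtain ⟨k, hk⟩ := hz
      obtain ⟨a, ha, b, hb, hab⟩ := Submodule.mem_sup.1 hk
      refine ⟨k, ?_⟩
      rw [← map_pow, ← hab, map_add, Ideal.Quotient.eq_zero_iff_mem.2 ha, zero_add]
      exact Ideal.mem_map_of_mem _ hb
  have h3 : Subsingleton ((localCohomology (IsLocalRing.maximalIdeal (R ⧸ p)) d).obj
      (ModuleCat.of (R ⧸ p) (R ⧸ p))) :=
    ((localCohomology.isoOfSameRadical hrad d).app (ModuleCat.of (R ⧸ p) (R ⧸ p))).toLinearEquiv.toEquiv.symm.subsingleton
  exact not_nontrivial_iff_subsingleton.2 h3 (GrothLib.LC.not_finite_and_nontrivial_H_maximal d (R ⧸ p)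
    (by rw [Module.supportDim_self_eq_ringKrullDim]; exact hd)).1

end Groth.Agent.S0328
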