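import Groth.Statements.S0329
import Groth.Agent.Lib.Faltings.Finite

set_option autoImplicit false
universe u v
open LocCoh

namespace Groth.Agent.S0329

/-- Part (1): ⇔(2) with T = V(I) (Faltings): for a finite module M over a Noetherian ring, the local
cohomology modules H^i_I(M) for i ≤ n are all finitely generated exactly when some ideal J with I
contained in the radical of J kills all of them. -/
theorem result (R : Type u) [CommRing R] [IsNoetherianRing R] (I : Ideal R) (M : Type u) [AddCommGroup M] [Module R M] [Module.Finite R M] (n : ℕ) : (∀ i : ℕ, i ≤ n → Module.Finite R (LocCoh.H I i M)) ↔ ∃ J : Ideal R, I ≤ J.radical ∧ ∀ i : ℕ, i ≤ n → ∀ a ∈ J, ∀ x : LocCoh.H I i M, a • x = 0 := by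
  constructor
  · intro h
    refine ⟨⨅ i ∈ Finset.range (n + 1), Module.annihilator R (LocCoh.H I i M), fun x hx => ?_, fun i hi a ha z => ?_⟩
    · have hk : ∀ i ∈ Finset.range (n + 1), ∃ k, x ^ k ∈ Module.annihilator R (LocCoh.H I i M) := fun i hi => by
        haveI := h i (Nat.lt_succ_iff.1 (Finset.mem_range.1 hi))
        obtain ⟨k, hk⟩ := GrothLib.Faltings.killed_of_finite (M := M) (i := i) hx
        exact ⟨k, Module.mem_annihilator.2 hk⟩
      choose! e he using hk
      refine ⟨(Finset.range (n + 1)).sup e, ?_⟩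
      simp only [Submodule.mem_iInf]
      intro i hi
      obtain ⟨c, hc⟩ := Nat.exists_eq_add_of_le (Finset.le_sup (f := e) hi)
      rw [hc, pow_add]
      exact Ideal.mul_mem_right _ _ (he i hi)
    · simp only [Submodule.mem_iInf] at ha
      exact Module.mem_annihilator.1 (ha i (Finset.mem_range.2 (by omega))) z
  · rintro ⟨J, hIJ, hJ⟩ i hi
    refine GrothLib.Faltings.finite_of_killed i M fun j hj x hx => ?_
    obtain ⟨k, hk⟩ := hIJ hx
    exact ⟨k, hJ j (hj.trans hi) _ hk⟩

end Groth.Agent.S0329
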