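import Groth.Statements.S0331
import Groth.Agent.Lib.Faltings.Finite

set_option autoImplicit false
universe u v
open LocCoh

namespace Groth.Agent.S0331

/-- Over a Noetherian ring, if H^i_I(R) is finitely generated for i ≤ n, then so is H^i_I(M) for i ≤ n
for every finite module M that becomes finite projective after inverting any single element of I. -/
theorem result (R : Type u) [CommRing R] [IsNoetherianRing R] (I : Ideal R) (n : ℕ) (hR : ∀ i : ℕ, i ≤ n → Module.Finite R (LocCoh.H I i R)) (M : Type u) [AddCommGroup M] [Module R M] [Module.Finite R M] (hM : ∀ f ∈ I, Module.Projective (Localization.Away f) (LocalizedModule (Submonoid.powers f) M)) (i : ℕ) (hi : i ≤ n) : Module.Finite R (LocCoh.H I i M) := by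
  refine GrothLib.Faltings.finite_of_killed i M fun j hj f hf => ?_
  obtain ⟨r, π, hπ⟩ := Module.Finite.exists_fin' R M
  haveI : Module.Projective (Localization (Submonoid.powers f)) (LocalizedModule (Submonoid.powers f) M) := hM f hf
  obtain ⟨s, g, hs, hfg⟩ := GrothLib.Faltings.exists_factor (Submonoid.powers f) π hπ
  obtain ⟨N, rfl⟩ := hs
  haveI := hR j (hj.trans hi)
  obtain ⟨k, hk⟩ := GrothLib.Faltings.killed_pi (r := r) (GrothLib.Faltings.killed_of_finite (M := R) (i := j) hf)
  refine ⟨k + N, fun z => ?_⟩
  rw [pow_add, mul_smul, ← GrothLib.Faltings.map_smul_id j (f ^ N) z,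
    show f ^ N • CategoryTheory.CategoryStruct.id (ModuleCat.of R M) =
      CategoryTheory.CategoryStruct.comp (ModuleCat.ofHom g) (ModuleCat.ofHom π) from ModuleCat.hom_ext hfg.symm,
    GrothLib.LC.map_comp_apply, ← map_smul]
  exact (congrArg _ (hk _)).trans (map_zero _)

end Groth.Agent.S0331
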