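import Groth.Statements.S0333
import Groth.Agent.Lib.LC.RightExact
import Mathlib.RingTheory.LocalRing.ResidueField.Ideal
import Mathlib.RingTheory.Nakayama
import Mathlib.LinearAlgebra.Dual.Lemmas
import Mathlib.RingTheory.LocalRing.Module

set_option autoImplicit false
universe u v
open LocCoh

namespace Groth.Agent.S0333

open GrothLib.LC CategoryTheory in
theorem sub_quot_prime {R : Type u} [CommRing R] [IsNoetherianRing R] (I : Ideal R) (d : ℕ)
    (hd : ringKrullDim R = d) (M : Type u) [AddCommGroup M] [Module R M] [Module.Finite R M]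
    (p : Ideal R) [p.IsPrime] (hpM : (⟨p, inferInstance⟩ : PrimeSpectrum R) ∈ Module.support R M)
    (hvan : Subsingleton (LocCoh.H I d M)) : Subsingleton (LocCoh.H I d (R ⧸ p)) := by
  classical
  -- a nonzero map `M → R ⧸ p`
  let A := Localization.AtPrime p
  let Mp := LocalizedModule p.primeCompl M
  haveI : Module.Finite A Mp :=
    Module.Finite.of_isLocalizedModule p.primeCompl (LocalizedModule.mkLinearMap p.primeCompl M)
  haveI : Nontrivial Mp := Module.mem_support_iff.1 hpM
  let k := p.ResidueField
  let V := TensorProduct A k Mp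
  haveI : Nontrivial V := by
    by_contra hV
    rw [not_nontrivial_iff_subsingleton] at hV
    refine absurd ((IsLocalRing.map_tensorProduct_mk_eq_top (N := (⊥ : Submodule A Mp))).1 ?_) bot_ne_top
    exact Subsingleton.elim _ _
  obtain ⟨v, hv⟩ := exists_ne (0 : V)
  obtain ⟨φ, hφ⟩ := Module.Projective.exists_dual_eq_one k hv
  let g : M →ₗ[R] p.ResidueField := (φ.restrictScalars R) ∘ₗ
    ((TensorProduct.mk A k Mp 1).restrictScalars R) ∘ₗ
    LocalizedModule.mkLinearMap p.primeCompl M
  have hg : g ≠ 0 := by
    intro h0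
    have h1 : ∀ w : Mp, φ (TensorProduct.tmul A (1 : k) w) = 0 := by
      intro w
      obtain ⟨⟨m, s⟩, hs⟩ := IsLocalizedModule.surj p.primeCompl
        (LocalizedModule.mkLinearMap p.primeCompl M) w
      have h2 : φ (TensorProduct.tmul A (1 : k) (LocalizedModule.mkLinearMap p.primeCompl M m)) = 0 :=
        LinearMap.congr_fun h0 m
      rw [← hs, Submonoid.smul_def, TensorProduct.tmul_smul, LinearMap.map_smul_of_tower,
        Algebra.smul_def, mul_eq_zero] at h2
      exact h2.resolve_left fun h => s.2 (Ideal.algebraMap_residueField_eq_zero.1 h)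
    have h3 : ∀ z : V, φ z = 0 := by
      intro z
      induction z using TensorProduct.induction_on with
      | zero => exact map_zero _
      | tmul c w =>
        rw [show TensorProduct.tmul A c w = c • TensorProduct.tmul A (1 : k) w by
          rw [TensorProduct.smul_tmul', smul_eq_mul, mul_one], map_smul, h1, smul_zero]
      | add x y hx hy => rw [map_add, hx, hy, add_zero]
    rw [h3] at hφ
    exact zero_ne_one hφ
  obtain ⟨T, hT⟩ := (Module.Finite.fg_top : (⊤ : Submodule R M).FG)
  obtain ⟨c, hc⟩ := IsLocalization.exist_integer_multiples (nonZeroDivisors (R ⧸ p)) T (fun m => g m)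
  let j : (R ⧸ p) →ₗ[R] p.ResidueField := (IsScalarTower.toAlgHom R (R ⧸ p) p.ResidueField).toLinearMap
  have hj : Function.Injective j := IsFractionRing.injective (R ⧸ p) p.ResidueField
  have hrange : ∀ m, ((c : R ⧸ p) • g m) ∈ LinearMap.range j := by
    intro m
    have hm : m ∈ Submodule.span R (T : Set M) := hT ▸ Submodule.mem_top
    induction hm using Submodule.span_induction with
    | mem y hy =>
      obtain ⟨z, hz⟩ := hc y hy
      exact ⟨z, hz⟩
    | zero => rw [map_zero, smul_zero]; exact zero_mem _
    | add y y' _ _ h h' => rw [map_add, smul_add]; exact add_mem h h'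
    | smul r y _ h => rw [map_smul, smul_comm]; exact Submodule.smul_mem _ r h
  let f : M →ₗ[R] (R ⧸ p) := (LinearEquiv.ofInjective j hj).symm.toLinearMap ∘ₗ
    LinearMap.codRestrict (LinearMap.range j) ((c : R ⧸ p) • g) hrange
  have hf : f ≠ 0 := by
    intro h0
    refine hg (LinearMap.ext fun m => ?_)
    have h1 := congrArg (LinearEquiv.ofInjective j hj) (LinearMap.congr_fun h0 m)
    simp only [f, LinearMap.comp_apply, LinearEquiv.coe_coe, LinearEquiv.apply_symm_apply,
      LinearMap.zero_apply, map_zero] at h1
    have h2 : (c : R ⧸ p) • g m = 0 := congrArg Subtype.val h1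
    rw [Algebra.smul_def, mul_eq_zero] at h2
    exact h2.resolve_left fun h => nonZeroDivisors.ne_zero c.2 (hj (h.trans (map_zero j).symm))
  -- the image
  have hcd := cdLE_dim I d hd.le
  have hS : (CategoryTheory.ShortComplex.mk (X₁ := ModuleCat.of R (LinearMap.ker f))
      (X₂ := ModuleCat.of R M) (X₃ := ModuleCat.of R (LinearMap.range f))
      (ModuleCat.ofHom (LinearMap.ker f).subtype) (ModuleCat.ofHom f.rangeRestrict)
      (ModuleCat.hom_ext (LinearMap.ext fun x => Subtype.ext x.2))).ShortExact :=
    { exact := (CategoryTheory.ShortComplex.moduleCat_exact_iff _).2 fun x hx =>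
        ⟨⟨x, congrArg Subtype.val hx⟩, rfl⟩
      mono_f := (ModuleCat.mono_iff_injective _).2 (LinearMap.ker f).injective_subtype
      epi_g := (ModuleCat.epi_iff_surjective _).2 f.surjective_rangeRestrict }
  have h1 : Subsingleton ((localCohomology I d).obj (ModuleCat.of R (LinearMap.range f))) :=
    haveI : Subsingleton ((localCohomology I d).obj (ModuleCat.of R M)) := hvan
    Function.Surjective.subsingleton (f := (localCohomology I d).map _) (map_g_surjective I d hcd hS)
  obtain ⟨m, hm⟩ : ∃ m, f m ≠ 0 := by
    by_contra hc'; push Not at hc'; exact hf (LinearMap.ext hc')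
  obtain ⟨a, ha⟩ := Ideal.Quotient.mk_surjective (f m)
  have h3 : Module.supportDim R ((R ⧸ p) ⧸ LinearMap.range f) < (d : WithBot ℕ∞) := by
    refine supportDim_lt_of_forall_length_lt d fun l => ?_
    have hp' : p ≤ (l.head).1.asIdeal ∧ a ∈ (l.head).1.asIdeal := by
      obtain ⟨z, hz⟩ := Module.mem_support_iff'.1 l.head.2
      obtain ⟨z, rfl⟩ := Submodule.Quotient.mk_surjective _ z
      obtain ⟨z, rfl⟩ := Ideal.Quotient.mk_surjective z
      constructor
      · intro r hr
        by_contra hr'
        refine hz r hr' ?_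
        rw [← Submodule.Quotient.mk_smul, Algebra.smul_def, Ideal.Quotient.algebraMap_eq,
          Ideal.Quotient.eq_zero_iff_mem.2 hr, zero_mul, Submodule.Quotient.mk_zero]
      · by_contra hr'
        refine hz a hr' ?_
        rw [← Submodule.Quotient.mk_smul, Submodule.Quotient.mk_eq_zero]
        refine ⟨z • m, ?_⟩
        rw [map_smul, ← ha, Algebra.smul_def, Algebra.smul_def, Ideal.Quotient.algebraMap_eq,
          ← map_mul, ← map_mul, mul_comm]
    have hlt : p < l.head.1.asIdeal := lt_of_le_of_ne hp'.1 fun he => hm (by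
      rw [← ha, Ideal.Quotient.eq_zero_iff_mem]; exact he ▸ hp'.2)
    let l' : LTSeries (PrimeSpectrum R) := l.map (fun x => x.1) fun _ _ h => h
    have h4 := Order.LTSeries.length_le_krullDim
      (l'.cons ⟨p, inferInstance⟩ (show (⟨p, inferInstance⟩ : PrimeSpectrum R) < l'.head from hlt))
    rw [← ringKrullDim, hd, Nat.cast_le, RelSeries.cons_length] at h4
    have : l'.length = l.length := rfl
    omega
  exact subsingleton₂ I (subQuot_shortExact (M := ModuleCat.of R (R ⧸ p)) (LinearMap.range f)) d h1
    (subsingleton_of_supportDim_lt d R I _ h3)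

/-- Over a Noetherian ring of dimension d, if H^d_I(M) = 0 for one finite module M whose support
contains every minimal prime p with dim R/p = d, then H^i_I vanishes in degrees ≥ d on all modules. -/
theorem result (R : Type u) [CommRing R] [IsNoetherianRing R] (I : Ideal R) (d : ℕ) (hd : ringKrullDim R = d) (M : Type u) [AddCommGroup M] [Module R M] [Module.Finite R M] (hsupp : ∀ p ∈ minimalPrimes R, ringKrullDim (R ⧸ p) = d → ∀ hp : p.IsPrime, (⟨p, hp⟩ : PrimeSpectrum R) ∈ Module.support R M) (hvan : Subsingleton (LocCoh.H I d M)) (N : Type u) [AddCommGroup N] [Module R N] (i : ℕ) (hi : d ≤ i) : Subsingleton (LocCoh.H I i N) := by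
  open GrothLib.LC in
  rcases hi.lt_or_eq with h' | h'
  · exact cdLE_dim I d hd.le N i h'
  subst h'
  refine GrothLib.LC.subsingleton_of_ring I d (GrothLib.LC.cdLE_dim I d hd.le) ?_ N
  suffices ∀ (Q : Type u) [AddCommGroup Q] [Module R Q] (_ : Module.Finite R Q),
      Subsingleton (LocCoh.H I d Q) from this R inferInstance
  intro Q _ _ hQ
  induction hQ using IsNoetherianRing.induction_on_isQuotientEquivQuotientPrime R with
  | subsingleton P =>
    refine subsingleton_of_forall_eq 0 fun x => ?_
    have h0 : CategoryTheory.CategoryStruct.id (ModuleCat.of R P) = 0 :=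
      ModuleCat.hom_ext (LinearMap.ext fun _ => Subsingleton.elim _ _)
    rw [← GrothLib.LC.map_id_apply I d x, h0, GrothLib.LC.map_zero_apply]
  | quotient P q e =>
    have hs : Subsingleton (LocCoh.H I d (R ⧸ q.1)) := by
      by_cases hq : q.asIdeal ∈ minimalPrimes R ∧ ringKrullDim (R ⧸ q.asIdeal) = d
      · exact sub_quot_prime I d hd M q.asIdeal (hsupp _ hq.1 hq.2 q.2) hvan
      · refine GrothLib.LC.subsingleton_of_supportDim_lt d R I _ ?_
        rw [Module.supportDim_quotient_eq_ringKrullDim]
        refine lt_of_le_of_ne ((ringKrullDim_le_of_surjective _ Ideal.Quotient.mk_surjective).trans hd.le) fun he => ?_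
        refine hq ⟨?_, he⟩
        obtain ⟨r, hr, hrq⟩ := Ideal.exists_minimalPrimes_le (bot_le : (⊥ : Ideal R) ≤ q.asIdeal)
        rcases eq_or_lt_of_le hrq with he' | hlt
        · exact he' ▸ hr
        exfalso
        rw [ringKrullDim_quotient] at he
        have hlen : ∀ l : LTSeries (PrimeSpectrum.zeroLocus (R := R) (q.asIdeal : Set R)), l.length < d := by
          intro l
          let l' : LTSeries (PrimeSpectrum R) := l.map (fun x => x.1) fun _ _ h => h
          have h4 := Order.LTSeries.length_le_krullDim (l'.cons ⟨r, hr.1.1⟩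
            (show (⟨r, hr.1.1⟩ : PrimeSpectrum R) < l'.head from
              lt_of_lt_of_le (show (⟨r, hr.1.1⟩ : PrimeSpectrum R) < q from hlt) l.head.2))
          rw [← ringKrullDim, hd, Nat.cast_le, RelSeries.cons_length] at h4
          have : l'.length = l.length := rfl
          omega
        haveI : Nonempty (PrimeSpectrum.zeroLocus (R := R) (q.asIdeal : Set R)) := ⟨⟨q, fun x hx => hx⟩⟩
        rw [Order.krullDim_eq_iSup_length] at he
        have he' : (⨆ l : LTSeries (PrimeSpectrum.zeroLocus (R := R) (q.asIdeal : Set R)), (l.length : ℕ∞)) = (d : ℕ∞) :=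
          WithBot.coe_injective he
        have h5 : (⨆ l : LTSeries (PrimeSpectrum.zeroLocus (R := R) (q.asIdeal : Set R)), (l.length : ℕ∞)) ≤ ((d - 1 : ℕ) : ℕ∞) :=
          iSup_le fun l => by exact_mod_cast (by have := hlen l; omega : l.length ≤ d - 1)
        rw [he', Nat.cast_le] at h5
        have := hlen (RelSeries.singleton _ ⟨q, fun x hx => hx⟩)
        simp at this
        omega
    exact ((localCohomology I d).mapIso e.toModuleIso).toLinearEquiv.toEquiv.subsingleton
  | exact N₁ N₂ N₃ f g hf hg hfg h₁ h₃ =>
    have hS : (CategoryTheory.ShortComplex.mk (X₁ := ModuleCat.of R N₁) (X₂ := ModuleCat.of R N₂)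
        (X₃ := ModuleCat.of R N₃) (ModuleCat.ofHom f) (ModuleCat.ofHom g)
        (ModuleCat.hom_ext hfg.linearMap_comp_eq_zero)).ShortExact :=
      { exact := (CategoryTheory.ShortComplex.moduleCat_exact_iff _).2 fun x hx => (hfg x).1 hx
        mono_f := (ModuleCat.mono_iff_injective _).2 hf
        epi_g := (ModuleCat.epi_iff_surjective _).2 hg }
    exact GrothLib.LC.subsingleton₂ I hS d h₁ h₃

end Groth.Agent.S0333
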