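import Groth.Statements.S0334
import Groth.Agent.Lib.LC.RightExact

set_option autoImplicit false
universe u v
open LocCoh

namespace Groth.Agent.S0334

/-- Over a Noetherian local ring of dimension d, multiplication by an element lying in no minimal prime
p with dim R/p = d is surjective on H^d_I(M) for every finite module M and every ideal I. -/
theorem result (R : Type u) [CommRing R] [IsLocalRing R] [IsNoetherianRing R] (I : Ideal R) (d : ℕ) (hd : ringKrullDim R = d) (f : R) (hf : ∀ p ∈ minimalPrimes R, ringKrullDim (R ⧸ p) = d → f ∉ p) (M : Type u) [AddCommGroup M] [Module R M] [Module.Finite R M] : Function.Surjective (fun x : LocCoh.H I d M => f • x) := by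
  classical
  let μ : M →ₗ[R] M := f • LinearMap.id
  have hcd := GrothLib.LC.cdLE_dim I d hd.le
  have hQ : Module.supportDim R (M ⧸ LinearMap.range μ) < (d : WithBot ℕ∞) := by
    refine GrothLib.LC.supportDim_lt_of_forall_length_lt d fun l => ?_
    by_contra hl
    rw [not_lt] at hl
    have hf0 : f ∈ (l.head).1.asIdeal := by
      by_contra hf0
      obtain ⟨z, hz⟩ := Module.mem_support_iff'.1 l.head.2
      refine hz f hf0 ?_
      obtain ⟨z, rfl⟩ := Submodule.Quotient.mk_surjective _ z
      rw [← Submodule.Quotient.mk_smul, Submodule.Quotient.mk_eq_zero]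
      exact ⟨z, rfl⟩
    let q := l.head.1
    let l' : LTSeries (PrimeSpectrum R) := l.map (fun x => x.1) fun _ _ h => h
    have hmin : q.asIdeal ∈ minimalPrimes R := by
      obtain ⟨r, hr, hrq⟩ := Ideal.exists_minimalPrimes_le (bot_le : (⊥ : Ideal R) ≤ q.asIdeal)
      rcases eq_or_lt_of_le hrq with he | hlt
      · exact he ▸ hr
      exfalso
      have h1 := Order.LTSeries.length_le_krullDim
        (l'.cons ⟨r, hr.1.1⟩ (show (⟨r, hr.1.1⟩ : PrimeSpectrum R) < l'.head from hlt))
      rw [← ringKrullDim, hd] at h1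
      rw [Nat.cast_le] at h1
      rw [RelSeries.cons_length] at h1
      have h3 : l'.length = l.length := rfl
      omega
    have hdimq : ringKrullDim (R ⧸ q.asIdeal) = d := by
      refine le_antisymm ((ringKrullDim_le_of_surjective _ Ideal.Quotient.mk_surjective).trans hd.le) ?_
      rw [ringKrullDim_quotient]
      have hmem : ∀ x : Module.support R (M ⧸ LinearMap.range μ), l.head ≤ x →
          x.1 ∈ PrimeSpectrum.zeroLocus (q.asIdeal : Set R) := fun x hx => hx
      let l'' : LTSeries (PrimeSpectrum.zeroLocus (q.asIdeal : Set R)) :=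
        { length := l.length
          toFun := fun i => ⟨(l i).1, hmem (l i) (l.head_le i)⟩
          step := fun i => l.step i }
      exact le_trans (by exact_mod_cast hl) (Order.LTSeries.length_le_krullDim l'')
    exact hf q.asIdeal hmin hdimq hf0
  let S₁ := CategoryTheory.ShortComplex.mk (X₁ := ModuleCat.of R (LinearMap.ker μ)) (X₂ := ModuleCat.of R M)
    (X₃ := ModuleCat.of R (LinearMap.range μ)) (ModuleCat.ofHom (LinearMap.ker μ).subtype)
    (ModuleCat.ofHom μ.rangeRestrict) (ModuleCat.hom_ext (LinearMap.ext fun x => Subtype.ext x.2))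
  have hS₁ : S₁.ShortExact :=
    { exact := (CategoryTheory.ShortComplex.moduleCat_exact_iff _).2 fun x hx =>
        ⟨⟨x, congrArg Subtype.val hx⟩, rfl⟩
      mono_f := (ModuleCat.mono_iff_injective _).2 (LinearMap.ker μ).injective_subtype
      epi_g := (ModuleCat.epi_iff_surjective _).2 μ.surjective_rangeRestrict }
  have hS₂ := GrothLib.LC.subQuot_shortExact (M := ModuleCat.of R M) (LinearMap.range μ)
  intro y
  obtain ⟨z, rfl⟩ := GrothLib.LC.exists_of_map_g_eq_zero I hS₂ d (x := y)
    (@Subsingleton.elim _ (GrothLib.LC.subsingleton_of_supportDim_lt d R I _ hQ) _ _)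
  obtain ⟨w, rfl⟩ := GrothLib.LC.map_g_surjective I d hcd hS₁ z
  refine ⟨w, ?_⟩
  refine Eq.trans ?_ (GrothLib.LC.map_comp_apply I d _ _ w)
  refine ((GrothLib.LC.map_smul_apply I d f (CategoryTheory.CategoryStruct.id (ModuleCat.of R M)) w).trans
    (congrArg (fun t => f • t) (GrothLib.LC.map_id_apply I d w))).symm.trans ?_
  rfl

end Groth.Agent.S0334
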