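import Groth.Statements.S16368
import Mathlib

set_option autoImplicit false
universe u v
open TensorProduct
open FrobAlg

namespace Groth.Agent.S16368

/-- Let R be a local ring of prime characteristic p and M a finitely presented R-module. Write R' for R
regarded as an R-algebra through its Frobenius a ↦ a^p, so that R' ⊗_R M is the pull-back of M along
the absolute Frobenius of Spec R, an R'-module. If this pull-back is isomorphic to M — there is a
bijective map e : R' ⊗_R M → M, additive and semilinear for the identification R' = R — then M is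
free. -/
theorem result
    (p : ℕ) [Fact p.Prime] (R : Type u) [CommRing R] [IsLocalRing R] [CharP R p]
    (M : Type v) [AddCommGroup M] [Module R M] [Module.FinitePresentation R M]
    (e : (FrobAlg.Twist p R ⊗[R] M) →ₛₗ[((FrobAlg.toTwist p R).symm : FrobAlg.Twist p R →+* R)] M)
    (he : Function.Bijective e) :
    Module.Free R M := by
  classical
  have hex : ∃ n : ℕ, ∃ π : (Fin n → R) →ₗ[R] M, Function.Surjective π :=
    Module.Finite.exists_fin' R M
  obtain ⟨n, ⟨π, hπ⟩, hmin⟩ : ∃ n : ℕ, (∃ π : (Fin n → R) →ₗ[R] M, Function.Surjective π) ∧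
      ∀ k < n, ¬ ∃ π : (Fin k → R) →ₗ[R] M, Function.Surjective π :=
    ⟨_, Nat.find_spec hex, fun k hk => Nat.find_min hex hk⟩
  set m := IsLocalRing.maximalIdeal R
  let σ : FrobAlg.Twist p R →+* R := ((FrobAlg.toTwist p R).symm : FrobAlg.Twist p R →+* R)
  let K := LinearMap.ker π
  have hK : K = LinearMap.ker π := rfl
  -- minimality
  have hKm : ∀ v ∈ K, ∀ i, v i ∈ m := by
    intro v hv i
    by_contra hu
    have hu' : IsUnit (v i) := by simpa [m, IsLocalRing.mem_maximalIdeal] using hu
    obtain ⟨u, huu⟩ := hu'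
    let ι : {j : Fin n // j ≠ i} ≃ Fin (Fintype.card {j : Fin n // j ≠ i}) := Fintype.equivFin _
    have hcard : Fintype.card {j : Fin n // j ≠ i} < n := by
      have := Fintype.card_subtype_lt (p := fun j : Fin n => j ≠ i) (x := i) (by simp)
      simpa using this
    refine hmin _ hcard
      ⟨∑ j, (LinearMap.proj (ι j)).smulRight (π (Pi.single (j : Fin n) 1)), fun y => ?_⟩
    obtain ⟨x, rfl⟩ := hπ y
    set z := x - ((↑u⁻¹ : R) * x i) • v with hz
    have hzi : z i = 0 := by simp [hz, ← huu, mul_right_comm _ (x i)]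
    have hzy : π z = π x := by
      have : π v = 0 := hv
      simp [hz, this]
    refine ⟨fun k => z (ι.symm k), ?_⟩
    have hz2 : π z = ∑ j, z j • π (Pi.single j 1) := by
      conv_lhs => rw [pi_eq_sum_univ' z, map_sum]
      simp only [map_smul]
    rw [← hzy, hz2]
    simp only [LinearMap.coe_sum, Finset.sum_apply, LinearMap.smulRight_apply, LinearMap.coe_proj,
      Function.eval, Equiv.symm_apply_apply]
    rw [← Finset.sum_subtype (Finset.univ.erase i) (by simp) (fun j => z j • π (Pi.single j 1)),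
      Finset.sum_erase _ (by simp [hzi])]
  -- the ideal of coordinates
  obtain ⟨s, hs⟩ := (Module.FinitePresentation.fg_ker π hπ : K.FG)
  let I : Ideal R := Ideal.span ↑(s.biUnion fun v => Finset.univ.image v : Finset R)
  have hI : ∀ v ∈ K, ∀ i, v i ∈ I := by
    intro v hv i
    replace hv : v ∈ Submodule.span R (s : Set (Fin n → R)) := by rw [hs]; exact hv
    induction hv using Submodule.span_induction with
    | mem x hx => exact Ideal.subset_span (Finset.mem_biUnion.2 ⟨x, hx, Finset.mem_image_of_mem _ (Finset.mem_univ i)⟩)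
    | zero => exact I.zero_mem
    | add x y _ _ hx hy => exact I.add_mem hx hy
    | smul a x _ hx => exact I.mul_mem_left a hx
  let J : Ideal R := Ideal.span {b | ∃ a ∈ I, b = a ^ p}
  let ψ : (Fin n → R) →ₗ[R] M :=
    { toFun := fun v => e (∑ j, (FrobAlg.toTwist p R (v j)) ⊗ₜ[R] π (Pi.single j 1))
      map_add' := fun v w => by
        rw [← map_add, ← Finset.sum_add_distrib]
        simp [TensorProduct.add_tmul]
      map_smul' := fun c v => by
        rw [RingHom.id_apply]
        have : (∑ j, (FrobAlg.toTwist p R ((c • v) j)) ⊗ₜ[R] π (Pi.single j 1)) =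
            (FrobAlg.toTwist p R c) • ∑ j, (FrobAlg.toTwist p R (v j)) ⊗ₜ[R] π (Pi.single j 1) := by
          rw [Finset.smul_sum]
          simp [TensorProduct.smul_tmul']
        rw [this, LinearMap.map_smulₛₗ]
        simp }
  have hψ : Function.Surjective ψ := by
    intro y
    obtain ⟨z, rfl⟩ := he.2 y
    suffices ∃ v : Fin n → R, z = ∑ j, (FrobAlg.toTwist p R (v j)) ⊗ₜ[R] π (Pi.single j 1) by
      obtain ⟨v, rfl⟩ := this; exact ⟨v, rfl⟩
    induction z with
    | zero => exact ⟨0, by simp⟩
    | tmul t x =>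
      obtain ⟨a, rfl⟩ := hπ x
      refine ⟨fun j => (FrobAlg.toTwist p R).symm (a j • t), ?_⟩
      conv_lhs => rw [pi_eq_sum_univ' a, map_sum, TensorProduct.tmul_sum]
      exact Finset.sum_congr rfl fun j _ => by
        rw [RingEquiv.apply_symm_apply, map_smul, TensorProduct.tmul_smul, TensorProduct.smul_tmul']
    | add x y hx hy =>
      obtain ⟨v, rfl⟩ := hx
      obtain ⟨w, rfl⟩ := hy
      exact ⟨v + w, by rw [← Finset.sum_add_distrib]; simp [TensorProduct.add_tmul]⟩
  have hker : ∀ v, ψ v = 0 → ∀ i, v i ∈ J := by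
    intro v hv i
    have h0 : ∑ j, (FrobAlg.toTwist p R (v j)) ⊗ₜ[R] π (Pi.single j 1) = 0 := he.1 (hv.trans (map_zero e).symm)
    have h1 : ∑ j, π (Pi.single j 1) ⊗ₜ[R] (FrobAlg.toTwist p R (v j)) = 0 := by
      simpa using congrArg (TensorProduct.comm R (FrobAlg.Twist p R) M) h0
    have hspan : Submodule.span R (Set.range fun j : Fin n => π (Pi.single j 1)) = ⊤ := by
      rw [eq_top_iff]
      rintro y -
      obtain ⟨a, rfl⟩ := hπ y
      rw [pi_eq_sum_univ' a, map_sum]
      exact Submodule.sum_mem _ fun j _ => by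
        rw [map_smul]; exact Submodule.smul_mem _ _ (Submodule.subset_span ⟨j, rfl⟩)
    obtain ⟨k, a, y, hy, ha⟩ := TensorProduct.vanishesTrivially_of_sum_tmul_eq_zero R hspan h1
    have haK : ∀ l, (fun j => a j l) ∈ K := fun l => by
      rw [hK, LinearMap.mem_ker, pi_eq_sum_univ' (fun j => a j l), map_sum]
      simpa using ha l
    have hvi : v i = ∑ l, a i l ^ p * (FrobAlg.toTwist p R).symm (y l) := by
      apply (FrobAlg.toTwist p R).injective
      rw [show FrobAlg.toTwist p R (v i) = _ from hy i, map_sum]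
      refine Finset.sum_congr rfl fun l _ => ?_
      rw [map_mul, RingEquiv.apply_symm_apply, Algebra.smul_def, FrobAlg.algebraMap_twist]
    rw [hvi]
    exact J.sum_mem fun l _ => J.mul_mem_right _ (Ideal.subset_span ⟨_, hI _ (haK l) i, rfl⟩)
  obtain ⟨g, hg⟩ := Module.projective_lifting_property π ψ hπ
  obtain ⟨h, hh⟩ := Module.projective_lifting_property ψ π hψ
  have hg' : ∀ x, π (g x) = ψ x := fun x => LinearMap.congr_fun hg x
  have hh' : ∀ x, ψ (h x) = π x := fun x => LinearMap.congr_fun hh x
  have hIm : I ≤ m := Ideal.span_le.2 fun b hb => by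
    obtain ⟨v, hv, hb⟩ := Finset.mem_biUnion.1 hb
    obtain ⟨i, -, rfl⟩ := Finset.mem_image.1 hb
    exact hKm v ((hs.le (Submodule.subset_span hv))) i
  have hJ : J ≤ m * I := by
    refine Ideal.span_le.2 ?_
    rintro b ⟨a, ha, rfl⟩
    have h2 : 2 ≤ p := (Fact.out : p.Prime).two_le
    rw [show a ^ p = a ^ (p - 1) * a by rw [← pow_succ]; congr 1; omega]
    exact Ideal.mul_mem_mul (Ideal.pow_mem_of_mem m (hIm ha) _ (by omega)) ha
  have hlin : ∀ (f : (Fin n → R) →ₗ[R] (Fin n → R)) (x : Fin n → R) (i : Fin n),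
      f x i = ∑ j, x j * f (Pi.single j 1) i := fun f x i => by
    conv_lhs => rw [pi_eq_sum_univ' x, map_sum]
    simp
  have hstep : I ≤ m • I := Ideal.span_le.2 fun b hb => by
    rw [smul_eq_mul]
    obtain ⟨v, hv, hb⟩ := Finset.mem_biUnion.1 hb
    obtain ⟨i, -, rfl⟩ := Finset.mem_image.1 hb
    have hvK : v ∈ K := hs.le (Submodule.subset_span hv)
    have h1 : ∀ i, h v i ∈ J := hker _ (by rw [hh', LinearMap.mem_ker.1 hvK])
    have h2 : g (h v) i ∈ m * I := by
      rw [hlin g (h v) i]
      exact Ideal.sum_mem _ fun j _ => Ideal.mul_mem_right _ _ (hJ (h1 j))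
    have h3 : (g.comp h - LinearMap.id : (Fin n → R) →ₗ[R] (Fin n → R)) v i ∈ m * I := by
      rw [hlin _ v i]
      refine Ideal.sum_mem _ fun j _ => ?_
      rw [mul_comm (v j)]
      refine Ideal.mul_mem_mul (hKm _ ?_ i) (hI v hvK j)
      rw [hK, LinearMap.mem_ker]
      simp [hg', hh']
    have := Ideal.sub_mem _ h2 h3
    simpa using this
  have hI0 : I = ⊥ := Submodule.eq_bot_of_le_smul_of_le_jacobson_bot m I ⟨_, rfl⟩ hstep
    (IsLocalRing.maximalIdeal_le_jacobson _)
  have hinj : Function.Injective π := by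
    rw [injective_iff_map_eq_zero]
    intro v hv
    funext i
    simpa [hI0] using hI v hv i
  exact Module.Free.of_equiv (LinearEquiv.ofBijective π ⟨hinj, hπ⟩)

end Groth.Agent.S16368
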