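import Groth.Statements.S0337
import Groth.Agent.S16368

set_option autoImplicit false
universe u v
open CategoryTheory
open LocCoh

namespace Groth.Agent.S0337

/-- Over a Noetherian local ring of prime characteristic p, a finite module isomorphic to its own base
change along Frobenius is free. -/
theorem result (p : ℕ) [Fact p.Prime] (R : Type u) [CommRing R] [IsLocalRing R] [IsNoetherianRing R] [CharP R p] (M : Type u) [AddCommGroup M] [Module R M] [Module.Finite R M] (h : Nonempty ((ModuleCat.extendScalars (frobenius R p)).obj (ModuleCat.of R M) ≅ ModuleCat.of R M)) : Module.Free R M := by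
    obtain ⟨h⟩ := h
    let T := (ModuleCat.restrictScalars (frobenius R p)).obj (ModuleCat.of R R)
    let i₁ : FrobAlg.Twist p R →ₗ[R] T :=
      { toFun := fun x => ((FrobAlg.toTwist p R).symm x : R)
        map_add' := fun a b => map_add _ a b
        map_smul' := fun c x => by
          show (FrobAlg.toTwist p R).symm (c • x) = frobenius R p c * (FrobAlg.toTwist p R).symm x
          rw [Algebra.smul_def]
          rfl }
    let ι : TensorProduct R (FrobAlg.Twist p R) M →ₗ[R] TensorProduct R T M := TensorProduct.map i₁ LinearMap.id
    have hι : Function.Bijective ι :=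
      (TensorProduct.congr (LinearEquiv.ofBijective i₁ (FrobAlg.toTwist p R).symm.bijective) (LinearEquiv.refl R M)).bijective
    let Z := (ModuleCat.extendScalars (frobenius R p)).obj (ModuleCat.of R M)
    let κ : TensorProduct R (FrobAlg.Twist p R) M → Z := fun z => ι z
    have κ_add : ∀ x y, κ (x + y) = κ x + κ y := fun x y => map_add ι x y
    have hs : ∀ (c : FrobAlg.Twist p R) z, κ (c • z) = ((FrobAlg.toTwist p R).symm c) • κ z := by
      intro c z
      induction z with
      | zero =>
        rw [smul_zero, show κ 0 = 0 from map_zero ι, smul_zero]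
      | add x y hx hy => rw [smul_add, κ_add, κ_add, smul_add, hx, hy]
      | tmul t x => exact (ModuleCat.ExtendScalars.smul_tmul (f := frobenius R p) (M := ModuleCat.of R M) _ _ _).symm
    let e : TensorProduct R (FrobAlg.Twist p R) M →ₛₗ[((FrobAlg.toTwist p R).symm : FrobAlg.Twist p R →+* R)] M :=
      { toFun := fun z => h.hom (κ z)
        map_add' := fun a b => by rw [κ_add]; exact map_add h.hom.hom (κ a) (κ b)
        map_smul' := fun c z => (congrArg h.hom.hom (hs c z)).trans (map_smul h.hom.hom ((FrobAlg.toTwist p R).symm c) (κ z)) }
    haveI : Module.FinitePresentation R M := Module.finitePresentation_of_finite R M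
    exact Groth.Agent.S16368.result p R M e (h.toLinearEquiv.bijective.comp hι)

end Groth.Agent.S0337
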