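import Groth.Statements.S0338
import Groth.Agent.Lib.Kunz.Stable

set_option autoImplicit false
universe u v
open CategoryTheory
open LocCoh

namespace Groth.Agent.S0338

/-- Over a regular local ring of prime characteristic p, let M be a module killed elementwise by powers
of the maximal ideal and isomorphic to its own base change along Frobenius; then M is isomorphic to
a (possibly infinite) sum of copies of E, where E is an injective hull of the residue field. -/
theorem result (p : ℕ) [Fact p.Prime] (R : Type u) [CommRing R] [IsRegularLocalRing R] [CharP R p] (E : Type u) [AddCommGroup E] [Module R E] (f : IsLocalRing.ResidueField R →ₗ[R] E) (hf : InjHull.IsInjectiveHull f) (M : Type u) [AddCommGroup M] [Module R M] (hM : LocCoh.IsPowerTorsion (IsLocalRing.maximalIdeal R) M) (h : Nonempty ((ModuleCat.extendScalars (frobenius R p)).obj (ModuleCat.of R M) ≅ ModuleCat.of R M)) : ∃ ι : Type u, Nonempty (M ≃ₗ[R] (ι →₀ E)) := by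
  obtain ⟨h⟩ := h
  exact GrothLib.Kunz.exists_equiv_finsupp_of_stable p R E f hf M hM h

end Groth.Agent.S0338
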