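import Groth.Statements.S0349
import Groth.Agent.Lib.GrpSchField.Open

set_option autoImplicit false
universe u v
open CategoryTheory MonoidalCategory CartesianMonoidalCategory MonObj GrpObj AlgebraicGeometry
open GrpSch

namespace Groth.Agent.S0349

/-- An irreducible group scheme over a field is quasi-compact. -/
theorem result (K : Type u) [Field K] (G : Over (Spec (CommRingCat.of K))) [GrpObj G] [IrreducibleSpace G.left] : CompactSpace G.left := by
  obtain ⟨_, ⟨U, hU, rfl⟩, hx, -⟩ := G.left.isBasis_affineOpens.exists_subset_of_mem_open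
    (a := η[G].left (IsLocalRing.closedPoint K)) (Set.mem_univ _) isOpen_univ
  have hd : Dense (U : Set G.left) := U.2.dense ⟨_, hx⟩
  refine ⟨?_⟩
  have h : (Set.univ : Set G.left) = μ[G].left '' ((fst G G).left ⁻¹' (U : Set G.left) ∩
      (snd G G).left ⁻¹' (U : Set G.left)) := by
    refine (Set.eq_univ_of_forall fun x => ?_).symm
    obtain ⟨q, h₁, h₂, h₃⟩ := GrothLib.GrpSchField.exists_mul_mem_of_dense G U.2 hd hd x
    exact ⟨q, ⟨h₁, h₂⟩, h₃⟩
  rw [h]
  exact (GrothLib.GrpSchField.isCompact_pairs G hU.isCompact).image μ[G].left.continuous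

end Groth.Agent.S0349
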