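import Groth.Statements.S0352
import Groth.Agent.Lib.GrpSchField.Open

set_option autoImplicit false
universe u v
open CategoryTheory MonoidalCategory CartesianMonoidalCategory MonObj GrpObj AlgebraicGeometry
open GrpSch

namespace Groth.Agent.S0352

/-- If the image of a homomorphism of group schemes over a field is open, it is also closed. -/
theorem result (K : Type u) [Field K] (H G : Over (Spec (CommRingCat.of K))) [GrpObj H] [GrpObj G] (ψ : H ⟶ G) [IsMonHom ψ] (h : IsOpen (Set.range ψ.left)) : IsClosed (Set.range ψ.left) := by
  exact GrothLib.GrpSchField.isClosed_range_of_isLocallyClosed ψ h.isLocallyClosed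

end Groth.Agent.S0352
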