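import Groth.Statements.S0357
import Groth.Agent.Lib.Lichtenbaum22.Nonvanish

set_option autoImplicit false
universe u v
open CategoryTheory AlgebraicGeometry
open Dual

namespace Groth.Agent.S0357

/-- (1)⇔(3): let X be nonempty, separated and of finite type over a field, of dimension d. Then H^d(X,
F) vanishes for every coherent F exactly when no irreducible closed subscheme of X of dimension d is
proper over the field. ((3) is phrased with irreducible closed subschemes of dimension d, which are
the same as irreducible components of dimension d.) -/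
theorem result (k : Type u) [Field k] (X : Scheme.{u}) (f : X ⟶ Spec (CommRingCat.of k)) [IsSeparated f] [LocallyOfFiniteType f] [QuasiCompact f] [Nonempty X] (d : ℕ) (hd : topologicalKrullDim X = d) : (∀ M : X.Modules, Coh.IsCoh M → Subsingleton (Coh.HH X M d)) ↔ ∀ (Z : Scheme.{u}) (i : Z ⟶ X) [IsClosedImmersion i] [IrreducibleSpace Z], topologicalKrullDim Z = d → ¬ IsProper (i ≫ f) := by
  refine ⟨fun h Z i _ _ hZd hZp => ?_, fun h M hM => ?_⟩
  · haveI : IsLocallyNoetherian X := LocallyOfFiniteType.isLocallyNoetherian f
    letI : Z.Over (Spec (CommRingCat.of k)) := ⟨i ≫ f⟩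
    haveI : IsProper (Z ↘ Spec (CommRingCat.of k)) := hZp
    obtain ⟨G, hG, hnt⟩ := GrothLib.Lichtenbaum22.exists_nontrivial_HH_top (k := k) Z d hZd
    haveI := hG.1
    obtain ⟨e⟩ := GrothLib.Cohom.nonempty_HH_equiv_pushforward i G d
    haveI := h _ ⟨GrothLib.QCoh.isQuasicoherent_pushforward i G, GrothLib.QCoh.isFiniteType_pushforward i G hG.2⟩
    exact not_subsingleton (Coh.HH Z G d) e.toEquiv.subsingleton
  · haveI := hM.1
    exact GrothLib.Lichtenbaum22.subsingleton_HH_of_no_proper X f d hd.le (fun Z i _ _ => h Z i) M

end Groth.Agent.S0357
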