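import Groth.Statements.S0358
import Groth.Agent.Lib.Depth.CM
import Groth.Agent.Lib.Depth.Basic
import Groth.Agent.Lib.DimCut.StalkFibre
import Groth.Agent.Lib.Flatness.Fibre

set_option autoImplicit false
universe u v
open LocCoh

namespace Groth.Agent.S0358

/-- For a flat local homomorphism R → S of Noetherian local rings whose closed fibre S/m_R S is
Cohen–Macaulay, and a proper ideal I of S, the I-depth of S is at least dim(S/m_R S) − dim(S/(m_R S
+ I)); stated additively. -/
theorem result (R : Type u) [CommRing R] [IsLocalRing R] [IsNoetherianRing R] (S : Type u) [CommRing S] [IsLocalRing S] [IsNoetherianRing S] [Algebra R S] [IsLocalHom (algebraMap R S)] [Module.Flat R S] (hCM : LocCoh.IsCohenMacaulayLocalRing (S ⧸ (IsLocalRing.maximalIdeal R).map (algebraMap R S))) (I : Ideal S) (hI : I ≠ ⊤) : ringKrullDim (S ⧸ (IsLocalRing.maximalIdeal R).map (algebraMap R S)) ≤ ringKrullDim (S ⧸ ((IsLocalRing.maximalIdeal R).map (algebraMap R S) ⊔ I)) + ((LocCoh.idealDepth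 I S : ℕ∞) : WithBot ℕ∞) := by
  set J := (IsLocalRing.maximalIdeal R).map (algebraMap R S) with hJ
  have hJm : J ≤ IsLocalRing.maximalIdeal S := GrothLib.Flatness.map_maximalIdeal_le
  haveI := hCM
  let Ib : Ideal (S ⧸ J) := I.map (Ideal.Quotient.mk J)
  have hIb : Ib ≠ ⊤ := fun h => by
    have h2 : J ⊔ I = ⊤ := by
      have := congrArg (Ideal.comap (Ideal.Quotient.mk J)) h
      rwa [Ideal.comap_map_quotientMk, Ideal.comap_top] at this
    exact (IsLocalRing.maximalIdeal.isMaximal S).ne_top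
      (top_le_iff.1 (h2.ge.trans (sup_le hJm (IsLocalRing.le_maximalIdeal hI))))
  obtain ⟨t, ht⟩ := ENat.ne_top_iff_exists.1 (GrothLib.Depth.idealDepth_ne_top (M := S ⧸ J) hIb)
  have hdim := GrothLib.Depth.supportDim_eq_add_idealDepth t hIb (S ⧸ J)
    LocCoh.IsCohenMacaulayLocalRing.supportDim_eq_depth ht.symm
  rw [Module.supportDim_self_eq_ringKrullDim, smul_eq_mul, Ideal.mul_top,
    Module.supportDim_quotient_eq_ringKrullDim,
    ringKrullDim_eq_of_ringEquiv (DoubleQuot.quotQuotEquivQuotSup J I)] at hdim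
  rw [hdim]
  refine add_le_add le_rfl (WithBot.coe_le_coe.2 ?_)
  have hIb' : Ib • (⊤ : Submodule (S ⧸ J) (S ⧸ J)) ≠ ⊤ := by rwa [smul_eq_mul, Ideal.mul_top]
  obtain ⟨rs, hlen, hmem, hreg⟩ := (GrothLib.Depth.le_idealDepth_iff_exists Ib hIb' t).1 ht.le
  have hlift : ∀ r ∈ rs, ∃ s ∈ I, Ideal.Quotient.mk J s = r := fun r hr =>
    (Ideal.mem_map_iff_of_surjective _ Ideal.Quotient.mk_surjective).1 (hmem r hr)
  choose g hgI hg using hlift
  let ss : List S := rs.attach.map fun r => g r.1 r.2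
  have hss : ss.map (algebraMap S (S ⧸ J)) = rs := by
    show (rs.attach.map fun r => g r.1 r.2).map (algebraMap S (S ⧸ J)) = rs
    rw [List.map_map, List.map_congr_left (fun r _ => hg r.1 r.2), List.attach_map_subtype_val]
  have h1 : RingTheory.Sequence.IsWeaklyRegular (S ⧸ J) ss := by
    rw [← RingTheory.Sequence.isWeaklyRegular_map_algebraMap_iff (S ⧸ J) (S ⧸ J) ss, hss]
    exact hreg
  have h2 : RingTheory.Sequence.IsWeaklyRegular (S ⧸ (J • ⊤ : Submodule S S)) ss :=
    ((Submodule.quotEquivOfEq (J • ⊤ : Submodule S S) J (Ideal.mul_top J)).isWeaklyRegular_congr ss).2 h1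
  have h3 := GrothLib.DimCut.isWeaklyRegular_of_fibre (A := R) ss S h2
  have hI' : I • (⊤ : Submodule S S) ≠ ⊤ := by rwa [smul_eq_mul, Ideal.mul_top]
  refine (GrothLib.Depth.le_idealDepth_iff_exists I hI' t).2 ⟨ss, by simp [ss, hlen], ?_, h3⟩
  intro s hs
  obtain ⟨r, -, rfl⟩ := List.mem_map.1 hs
  exact hgI r.1 r.2

end Groth.Agent.S0358
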