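import Groth.Statements.S0359
import Groth.Agent.Lib.Depth.Semicont

set_option autoImplicit false
universe u v
open LocCoh

namespace Groth.Agent.S0359

/-- For a finite module M over a Noetherian ring and a prime p with depth(M_p) = e finite, there is a
basic open neighbourhood of p in V(p) on which the depth of the localizations of M is at least e,
and it exceeds e at all but finitely many of those primes. -/
theorem result (R : Type u) [CommRing R] [IsNoetherianRing R] (M : Type u) [AddCommGroup M] [Module R M] [Module.Finite R M] (p : Ideal R) [p.IsPrime] (e : ℕ) (he : LocCoh.depth (Localization.AtPrime p) (LocalizedModule p.primeCompl M) = e) : ∃ f : R, f ∉ p ∧ (∀ (q : Ideal R) [q.IsPrime], p ≤ q → f ∉ q → (e : ℕ∞) ≤ LocCoh.depth (Localization.AtPrime q) (LocalizedModule q.primeCompl M)) ∧ {q : PrimeSpectrum R | p ≤ q.asIdeal ∧ f ∉ q.asIdeal ∧ LocCoh.depth (Localization.AtPrime q.asIdeal) (LocalizedModule q.asIdeal.primeCompl M) = e}.Finite := by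
  have he' : LocCoh.idealDepth (p.map (algebraMap R (Localization.AtPrime p))) (LocalizedModule p.primeCompl M) = e := by
    rw [Localization.AtPrime.map_eq_maximalIdeal]; exact he
  obtain ⟨f, hf, S, hS, h⟩ := GrothLib.Depth.exists_open_semicontinuous p p le_rfl e M he'
  refine ⟨f, hf, fun q _ hpq hfq => ((h q hpq hfq).1).trans ?_, ?_⟩
  · refine GrothLib.Depth.idealDepth_mono (A := Localization.AtPrime q) ?_
    rw [← Localization.AtPrime.map_eq_maximalIdeal]
    exact Ideal.map_mono hpq
  · refine (hS.preimage (fun a _ b _ h => PrimeSpectrum.ext h)).subset ?_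
    rintro q ⟨h1, h2, h3⟩
    exact (h q.asIdeal h1 h2).2 h3

end Groth.Agent.S0359
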