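import Groth.Statements.S0361
import Groth.Agent.Lib.TorKoszul.Chase

set_option autoImplicit false
universe u v
open CategoryTheory
open LocCoh

namespace Groth.Agent.S0361

/-- For an ideal I of a Noetherian ring generated by at most t elements there are N, c ≥ 0 such that for
every module M and every n ≥ N the map Tor_{t+1}(M, R/I^n) → Tor_{t+1}(M, R/I^{n−c}) is zero. -/
theorem result (R : Type u) [CommRing R] [IsNoetherianRing R] (I : Ideal R) (t : ℕ) (s : Finset R) (hs : I = Ideal.span (s : Set R)) (ht : s.card ≤ t) : ∃ N c : ℕ, ∀ (M : Type u) [AddCommGroup M] [Module R M], ∀ n : ℕ, N ≤ n → (((Tor (ModuleCat.{u} R) (t + 1)).obj (ModuleCat.of R M)).map (ModuleCat.ofHom (Submodule.mapQ (I ^ n) (I ^ (n - c)) LinearMap.id (Ideal.pow_le_pow_right (Nat.sub_le n c))))) = 0 := by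
    classical
    open GrothLib.ExtTorMap GrothLib.FlatFP in
    rcases Nat.eq_zero_or_pos s.card with h0 | hpos
    · refine ⟨1, 0, fun M _ _ n hn => ?_⟩
      have hI : I ^ n = ⊥ := by
        rw [hs, Finset.card_eq_zero.1 h0, Finset.coe_empty, Ideal.span_empty,
          ← Ideal.zero_eq_bot, zero_pow (by omega), Ideal.zero_eq_bot]
      haveI : Module.Projective R (R ⧸ I ^ n) :=
        Module.Projective.of_equiv (Submodule.quotEquivOfEqBot _ hI).symm
      haveI : Projective (ModuleCat.of R (R ⧸ I ^ n)) := (IsProjective.iff_projective _).1 inferInstance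
      exact (isZero_Tor_succ_of_projective (ModuleCat.{u} R) (ModuleCat.of R M) (ModuleCat.of R (R ⧸ I ^ n)) t).eq_of_src _ _
    · obtain ⟨g, hg⟩ : ∃ g, s.card = g + 1 := ⟨s.card - 1, by omega⟩
      let v : Fin (g + 1) → R := fun j => (s.equivFinOfCardEq hg).symm j
      have hI : I = Ideal.span (Set.range v) := by
        rw [hs]
        refine congrArg Ideal.span (Set.ext fun x => ⟨fun hx => ⟨s.equivFinOfCardEq hg ⟨x, hx⟩, ?_⟩, ?_⟩)
        · simp [v]
        · rintro ⟨j, rfl⟩; exact ((s.equivFinOfCardEq hg).symm j).2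
      obtain ⟨N, c, h⟩ := GrothLib.TorKoszul.exists_incl_torZero v I hI
      refine ⟨N, c, fun M _ _ n hn => ?_⟩
      obtain ⟨e, rfl⟩ : ∃ e, t = e + 1 := ⟨t - 1, by omega⟩
      have hsrc := GrothLib.ExtTorMap.cover_shortExact (I ^ n).mkQ (Submodule.mkQ_surjective _)
      have hk : ∀ m : ℕ, ∀ x, x ∈ LinearMap.ker (I ^ m).mkQ ↔ x ∈ I ^ m := fun m x => by rw [Submodule.ker_mkQ]
      let β' : LinearMap.ker (I ^ n).mkQ →ₗ[R] LinearMap.ker (I ^ (n - c)).mkQ :=
        Submodule.inclusion (fun x hx => (hk _ x).2 (Ideal.pow_le_pow_right (Nat.sub_le n c) ((hk n x).1 hx)))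
      have h1 : GrothLib.ExtTorMap.TorZero (ModuleCat.ofHom β') (e + 1) := by
        refine GrothLib.TorBal.torZero_iff_of_iso
          (LinearEquiv.ofEq _ _ (Submodule.ker_mkQ (I ^ n)).symm).toModuleIso
          (LinearEquiv.ofEq _ _ (Submodule.ker_mkQ (I ^ (n - c))).symm).toModuleIso
          (ModuleCat.ofHom (Submodule.inclusion (Ideal.pow_le_pow_right (Nat.sub_le n c) : I ^ n ≤ I ^ (n - c)))) _
          (ModuleCat.hom_ext (LinearMap.ext fun x => rfl)) _ (h n hn (e + 1) (by omega))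
      exact GrothLib.TorBal.tor_map_eq_zero _ (e + 1) ((GrothLib.ExtTorMap.shift_iff (I ^ n).mkQ
        (Submodule.mkQ_surjective _) (I ^ (n - c)).mkQ (Submodule.mkQ_surjective _)
        (Submodule.mapQ (I ^ n) (I ^ (n - c)) LinearMap.id (Ideal.pow_le_pow_right (Nat.sub_le n c)))
        LinearMap.id rfl β' (fun _ => rfl) e).2.2 h1)

end Groth.Agent.S0361
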