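import Groth.Statements.S0362
import Groth.Agent.Lib.DualRing.FinLenEquiv
-- import your own Groth.Agent.* helpers here

set_option autoImplicit false
universe u v
open CategoryTheory
open Dual

namespace Groth.Agent.S0362

/-- Over a Noetherian local ring A, an additive A-linear equivalence from the category of finite length
A-modules to itself is naturally isomorphic to the identity. -/
theorem result (A : Type u) [CommRing A] [IsLocalRing A] [IsNoetherianRing A] (F : Dual.FinLen A ≌ Dual.FinLen A) [F.functor.Additive] [F.functor.Linear A] : Nonempty (F.functor ≅ 𝟭 (Dual.FinLen A)) := by
  exact GrothLib.FinLenEquiv.nonempty_iso_id F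


end Groth.Agent.S0362
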