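import Groth.Statements.S0365
import Groth.Agent.Lib.DualRing.Local
-- import your own Groth.Agent.* helpers here

set_option autoImplicit false
universe u v
open CategoryTheory
attribute [local instance] HasDerivedCategory.standard
open Dual

namespace Groth.Agent.S0365

/-- For a Noetherian local ring with normalized dualizing complex ω, the depth of the ring is the least
δ ≥ 0 with H^{-δ}(ω) nonzero. -/
theorem result (A : Type u) [CommRing A] [IsLocalRing A] [IsNoetherianRing A] (ω : Dual.D A) (hω : Dual.IsDualizing A ω) (hn : Dual.IsNormalized A ω) (n : ℕ) : LocCoh.depth A A = n ↔ ((∀ δ : ℕ, δ < n → Subsingleton (Dual.HD A ω (-(δ : ℤ)))) ∧ Nontrivial (Dual.HD A ω (-(n : ℤ)))) := by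
  haveI : Nontrivial A := inferInstance
  have e := fun i => (GrothLib.DualRing.exists_hom_ring_equiv ω i).some.toEquiv
  rw [GrothLib.DualRing.depth_eq_iff hω hn A n]
  exact and_congr (forall_congr' fun δ => imp_congr_right fun _ => (e _).subsingleton_congr) (e _).nontrivial_congr

end Groth.Agent.S0365
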