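import Groth.Statements.S0368
import Groth.Agent.Lib.DualRing.Local
-- import your own Groth.Agent.* helpers here

set_option autoImplicit false
universe u v
open CategoryTheory
attribute [local instance] HasDerivedCategory.standard
open Dual

namespace Groth.Agent.S0368

/-- (1)⇔(3): for a Noetherian local ring with normalized dualizing complex ω, a nonzero finite module M
with support of dimension d is Cohen–Macaulay exactly when Hom(M, ω[−i]) vanishes in D(A) for every
i ≠ d. -/
theorem result (A : Type u) [CommRing A] [IsLocalRing A] [IsNoetherianRing A] (ω : Dual.D A) (hω : Dual.IsDualizing A ω) (hn : Dual.IsNormalized A ω) (M : Type u) [AddCommGroup M] [Module A M] [Module.Finite A M] [Nontrivial M] (d : ℕ) (hd : Module.supportDim A M = d) : LocCoh.IsCohenMacaulayModule A M ↔ ∀ i : ℤ, i ≠ d → Subsingleton (Dual.inD A M ⟶ ω⟦(-i)⟧) := by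
  obtain ⟨k, hk⟩ := ENat.ne_top_iff_exists.1
    (GrothLib.Depth.idealDepth_ne_top (M := M) (IsLocalRing.maximalIdeal.isMaximal A).ne_top)
  obtain ⟨h1, h2⟩ := GrothLib.DualRing.depth_criterion hω hn k M hk.symm
  unfold LocCoh.IsCohenMacaulayModule
  rw [hd, show LocCoh.depth A M = _ from hk.symm]
  constructor
  · intro h i hi
    obtain rfl : d = k := Nat.cast_inj.1 (WithBot.coe_inj.1 h)
    by_cases h0 : i < 0
    · exact GrothLib.DualRing.subsingleton_EH_pos hω hn M (i := -i) (by omega)
    by_cases hdi : (d : ℤ) < i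
    · exact GrothLib.DualRing.subsingleton_EH_lt hω hn M d hd (i := -i) (by omega)
    obtain ⟨δ, rfl⟩ := Int.eq_ofNat_of_zero_le (not_lt.1 h0)
    exact h1 δ (by omega)
  · intro h
    by_cases hkd : k = d
    · rw [hkd]
      rfl
    · exact absurd (h (k : ℤ) (by omega)) (not_subsingleton_iff_nontrivial.2 h2)

end Groth.Agent.S0368
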