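import Groth.Statements.S0369
import Groth.Agent.Lib.DualRing.Bottom
import Groth.Agent.Lib.DualRing.Locus
-- import your own Groth.Agent.* helpers here

set_option autoImplicit false
universe u v
open CategoryTheory
attribute [local instance] HasDerivedCategory.standard
open Dual

namespace Groth.Agent.S0369

/-- For a Noetherian local ring of dimension d with normalized dualizing complex ω, the module ω_A =
H^{−d}(ω) has support equal to the union of those irreducible components of Spec A whose dimension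
is d, and satisfies Serre's condition (S_2). -/
theorem result (A : Type u) [CommRing A] [IsLocalRing A] [IsNoetherianRing A] (ω : Dual.D A) (hω : Dual.IsDualizing A ω) (hn : Dual.IsNormalized A ω) (d : ℕ) (hd : ringKrullDim A = d) : Module.support A (Dual.HD A ω (-(d : ℤ))) = {p : PrimeSpectrum A | ∃ q ∈ minimalPrimes A, q ≤ p.asIdeal ∧ ringKrullDim (A ⧸ q) = d} ∧ LocCoh.HasSk 2 A (Dual.HD A ω (-(d : ℤ))) := by

  haveI := hω.finite_cohomology (-(d : ℤ))
  have hdA : Module.supportDim A A = d := by rw [Module.supportDim_self_eq_ringKrullDim, hd]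
  have e : ∀ i, GrothLib.DualRing.EH ω (Dual.inD A A) i ≃ₗ[A] Dual.HD A ω i := fun i =>
    (GrothLib.DualRing.exists_hom_ring_equiv ω i).some
  have hv : ∀ i : ℤ, i < -(d : ℤ) → Subsingleton (Dual.HD A ω i) := fun i hi => by
    haveI := GrothLib.DualRing.subsingleton_EH_lt hω hn A d hdA hi
    exact (e i).symm.toEquiv.subsingleton
  have hmem : ∀ p : PrimeSpectrum A, p ∈ Module.support A (Dual.HD A ω (-(d : ℤ))) ↔
      GrothLib.DualRing.len p.asIdeal (GrothLib.DualRing.EH ω (Dual.inD A A) (-(d : ℤ))) ≠ 0 := fun p => by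
    rw [GrothLib.DualRing.len_congr (e _)]
    exact Module.mem_support_iff.trans (GrothLib.DualRing.nontrivial_localized_iff p.asIdeal _)
  have hdeg : ∀ (q : Ideal A) [q.IsPrime], (-GrothLib.DualRing.deg hω q).toNat ≤ d := fun q _ => by
    have h := ringKrullDim_quotient_le (R := A) q
    rw [GrothLib.DualRing.ringKrullDim_quotient_eq hω hn q, hd] at h
    exact_mod_cast h
  refine ⟨Set.ext fun p => ⟨fun hp => ?_, fun ⟨q, hq, hle, hdim⟩ => ?_⟩, fun p _ => ?_⟩
  · obtain ⟨r, _, hrp, -, h1, -⟩ := GrothLib.DualRing.exists_quotient_bounds hω A ((hmem p).1 hp)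
    obtain ⟨q, hq, hle⟩ := Ideal.exists_minimalPrimes_le (bot_le : (⊥ : Ideal A) ≤ r)
    haveI := hq.isPrime
    refine ⟨q, hq, hle.trans hrp, ?_⟩
    have h2 : GrothLib.DualRing.deg hω q ≤ GrothLib.DualRing.deg hω r := by
      rcases hle.eq_or_lt with h | h
      · subst h
        exact le_rfl
      · exact (GrothLib.DualRing.deg_lt hω h).le
    have h3 := hdeg q
    have h4 : (-GrothLib.DualRing.deg hω q).toNat = d := by omega
    rw [GrothLib.DualRing.ringKrullDim_quotient_eq hω hn q, h4]
  · haveI := hq.isPrime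
    rw [GrothLib.DualRing.ringKrullDim_quotient_eq hω hn q] at hdim
    have h4 : (-GrothLib.DualRing.deg hω q).toNat = d := by exact_mod_cast hdim
    have h5 : GrothLib.DualRing.deg hω q = -(d : ℤ) := by
      have := GrothLib.DualRing.deg_nonpos hω hn q
      omega
    have hfin : GrothLib.DualRing.len q A ≠ ⊤ := GrothLib.DualRing.len_ne_top_of_minimal (q := q) (⊥ : Ideal A)
      (fun s hs _ hsp => le_antisymm hsp (hq.2 ⟨hs, bot_le⟩ hsp)) A
      (fun a ha x => by rw [(Submodule.mem_bot A).1 ha, zero_smul])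
    have h0 : GrothLib.DualRing.len q A ≠ 0 := fun h => by
      obtain ⟨s, hs, hs1⟩ := GrothLib.DualRing.len_eq_zero_iff.1 h (1 : A)
      rw [smul_eq_mul, mul_one] at hs1
      exact hs (hs1 ▸ q.zero_mem)
    have hne := GrothLib.DualRing.len_EH_ne_zero (ω := ω) A ((GrothLib.DualRing.mu_ne_zero_iff hω q _).2 rfl)
      (Or.inl (GrothLib.DualRing.mu_ne_deg hω q (by omega))) hfin h0
    rw [h5] at hne
    exact Module.mem_support_mono (show (⟨q, inferInstance⟩ : PrimeSpectrum A) ≤ p from hle) ((hmem ⟨q, inferInstance⟩).2 hne)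
  · obtain ⟨ω', hω', he⟩ := GrothLib.DualRing.exists_localized hω ⟨p, inferInstance⟩
    have hv' : ∀ i : ℤ, i < -(d : ℤ) → Subsingleton (Dual.HD (Localization.AtPrime p) ω' i) := fun i hi => by
      haveI := hv i hi
      exact (he i).some.toEquiv.subsingleton
    have h := GrothLib.DualRing.min_two_supportDim_le_depth hω' (-(d : ℤ)) hv'
    let E : Dual.HD (Localization.AtPrime p) ω' (-(d : ℤ)) ≃ₗ[Localization.AtPrime p]
        LocalizedModule p.primeCompl (Dual.HD A ω (-(d : ℤ))) :=
      (he _).some ≪≫ₗ (LocalizedModule.isBaseChange p.primeCompl (Dual.HD A ω (-(d : ℤ)))).equiv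
    haveI := hω'.finite_cohomology (-(d : ℤ))
    haveI : Module.Finite (Localization.AtPrime p) (LocalizedModule p.primeCompl (Dual.HD A ω (-(d : ℤ)))) :=
      Module.Finite.equiv E
    rw [Module.supportDim_eq_of_equiv E, show LocCoh.depth (Localization.AtPrime p) (Dual.HD (Localization.AtPrime p) ω' (-(d : ℤ))) =
      LocCoh.depth (Localization.AtPrime p) (LocalizedModule p.primeCompl (Dual.HD A ω (-(d : ℤ)))) from
        GrothLib.Depth.idealDepth_eq_of_equiv _ E] at h
    exact h


end Groth.Agent.S0369
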