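import Groth.Statements.S0370
import Groth.Agent.Lib.DualRing.Module
-- import your own Groth.Agent.* helpers here

set_option autoImplicit false
universe u v
open CategoryTheory
attribute [local instance] HasDerivedCategory.standard
open Dual

namespace Groth.Agent.S0370

/-- A Noetherian ring admitting a finite module which, placed in degree 0, is a dualizing complex, is
Cohen–Macaulay. -/
theorem result (A : Type u) [CommRing A] [IsNoetherianRing A] (W : Type u) [AddCommGroup W] [Module A W] [Module.Finite A W] (h : Dual.IsDualizing A (Dual.inD A W)) : LocCoh.IsCohenMacaulayRing A := by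
  refine { ‹IsNoetherianRing A› with isCohenMacaulayLocalRing_localization := fun q hq => ?_ }
  have hc : ∀ i : ℤ, i ≠ 0 → Subsingleton (GrothLib.DualRing.EH (Dual.inD A W) (Dual.inD A A) i) := fun i hi => by
    haveI := GrothLib.DR.subsingleton_HD_inD (A := A) W i hi
    exact (GrothLib.DualRing.exists_hom_ring_equiv (Dual.inD A W) i).some.toEquiv.subsingleton
  have hass : ∀ r ∈ associatedPrimes A A, ∀ _ : r.IsPrime, GrothLib.DualRing.deg h r = 0 := fun r hr _ =>
    GrothLib.DualRing.deg_associatedPrime h A hc hr
  have h0 : ∀ x : PrimeSpectrum A, 0 ≤ GrothLib.DualRing.degS h x := fun x => by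
    obtain ⟨r₀, hr₀, hle⟩ := Ideal.exists_minimalPrimes_le (show Module.annihilator A A ≤ x.asIdeal from
      fun a ha => by
        have h1 : a • (1 : A) = 0 := Module.mem_annihilator.1 ha 1
        rw [smul_eq_mul, mul_one] at h1
        subst h1
        exact x.asIdeal.zero_mem)
    haveI := hr₀.isPrime
    have h1 : GrothLib.DualRing.deg h r₀ = 0 :=
      hass r₀ (Module.associatedPrimes.minimalPrimes_annihilator_subset_associatedPrimes A A hr₀) inferInstance
    rcases eq_or_lt_of_le hle with e | hlt
    · subst e
      exact h1.ge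
    · have h2 := GrothLib.DualRing.deg_lt h hlt
      rw [h1] at h2
      exact h2.le
  obtain ⟨rs, hlen, hmem, hrs⟩ := GrothLib.DualRing.exists_isWeaklyRegular h q (GrothLib.DualRing.deg h q).toNat A 0 hc
    (by have : 0 ≤ GrothLib.DualRing.deg h q := h0 ⟨q, hq⟩; omega)
  let B := Localization.AtPrime q
  have hd : Module.supportDim B B = ((LocCoh.depth B B : ℕ∞) : WithBot ℕ∞) := by
    refine le_antisymm ?_ (GrothLib.Depth.depth_le_supportDim B B)
    rw [Module.supportDim_self_eq_ringKrullDim, IsLocalization.AtPrime.ringKrullDim_eq_height q B]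
    refine WithBot.coe_le_coe.2 ((GrothLib.DualRing.height_le h h0).trans ?_)
    refine (GrothLib.Depth.le_idealDepth_iff_exists (IsLocalRing.maximalIdeal B)
      (GrothLib.Depth.smul_top_ne_top (IsLocalRing.maximalIdeal.isMaximal B).ne_top) _).2
      ⟨rs.map (algebraMap A B), by simp [hlen], fun y hy => ?_, hrs.of_isLocalization B q.primeCompl⟩
    obtain ⟨a, ha, rfl⟩ := List.mem_map.1 hy
    exact (IsLocalization.AtPrime.to_map_mem_maximal_iff B q a).2 (hmem a ha)
  exact { (inferInstance : IsNoetherianRing B), (inferInstance : IsLocalRing B) with supportDim_eq_depth := hd }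

end Groth.Agent.S0370
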