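import Groth.Statements.S1762
import Groth.Agent.Lib.DualRing.Local
-- import your own Groth.Agent.* helpers here

set_option autoImplicit false
universe u
open CategoryTheory
attribute [local instance] HasDerivedCategory.standard
open Dual

namespace Groth.Agent.S1762

/-- Let A be a Noetherian ring with a dualizing complex ω and p a minimal prime of A. Then there is
exactly one integer i for which H^i(ω) localized at p is nonzero. -/
theorem result (A : Type u) [CommRing A] [IsNoetherianRing A] (ω : Dual.D A) (hω : Dual.IsDualizing A ω) (p : Ideal A) (hp : p ∈ minimalPrimes A) : ∃! i : ℤ, Nontrivial (LocalizedModule (Ideal.primeCompl p (hp := hp.1.1)) (Dual.HD A ω i)) := by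
  haveI : p.IsPrime := hp.1.1
  have hfin : GrothLib.DualRing.len p A ≠ ⊤ := GrothLib.DualRing.len_ne_top_of_minimal (q := p) (⊥ : Ideal A)
    (fun s hs _ hsp => le_antisymm hsp (hp.2 ⟨hs, bot_le⟩ hsp)) A
    (fun a ha x => by rw [(Submodule.mem_bot A).1 ha, zero_smul])
  have h0 : GrothLib.DualRing.len p A ≠ 0 := fun h => by
    obtain ⟨s, hs, hs1⟩ := GrothLib.DualRing.len_eq_zero_iff.1 h (1 : A)
    rw [smul_eq_mul, mul_one] at hs1
    exact hs (hs1 ▸ p.zero_mem)
  have key : ∀ i, Nontrivial (LocalizedModule p.primeCompl (Dual.HD A ω i)) ↔ i = GrothLib.DualRing.deg hω p := fun i => by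
    rw [GrothLib.DualRing.nontrivial_localized_iff, ← GrothLib.DualRing.len_congr (GrothLib.DualRing.exists_hom_ring_equiv ω i).some]
    refine ⟨fun h => not_not.1 fun hne => h (GrothLib.DualRing.len_EH_eq_zero A (GrothLib.DualRing.mu_ne_deg hω p hne) hfin), fun h => ?_⟩
    subst h
    exact GrothLib.DualRing.len_EH_ne_zero A ((GrothLib.DualRing.mu_ne_zero_iff hω p _).2 rfl)
      (Or.inl (GrothLib.DualRing.mu_ne_deg hω p (by omega))) hfin h0
  exact ⟨GrothLib.DualRing.deg hω p, (key _).2 rfl, fun i hi => (key i).1 hi⟩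

end Groth.Agent.S1762
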