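import Groth.Statements.S0372
import Groth.Agent.Lib.DualRing.Locus
import Groth.Agent.S1762
-- import your own Groth.Agent.* helpers here

set_option autoImplicit false
universe u v
open CategoryTheory
attribute [local instance] HasDerivedCategory.standard
open Dual

namespace Groth.Agent.S0372

/-- If a Noetherian ring has a dualizing complex then the set of primes at which the localization is
Cohen–Macaulay is open and dense in the prime spectrum. -/
theorem result (A : Type u) [CommRing A] [IsNoetherianRing A] (ω : Dual.D A) (hω : Dual.IsDualizing A ω) : IsOpen {p : PrimeSpectrum A | LocCoh.IsCohenMacaulayLocalRing (Localization.AtPrime p.asIdeal)} ∧ Dense {p : PrimeSpectrum A | LocCoh.IsCohenMacaulayLocalRing (Localization.AtPrime p.asIdeal)} := by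
  refine ⟨GrothLib.DualRing.isOpen_CMLocus hω, dense_iff_inter_open.2 fun U hU ⟨x, hx⟩ => ?_⟩
  obtain ⟨q, hq, hle⟩ := Ideal.exists_minimalPrimes_le (bot_le : (⊥ : Ideal A) ≤ x.asIdeal)
  haveI := hq.isPrime
  refine ⟨⟨q, inferInstance⟩, hU.stableUnderGeneralization ((PrimeSpectrum.le_iff_specializes _ x).1 hle) hx, ?_⟩
  show LocCoh.IsCohenMacaulayLocalRing (Localization.AtPrime q)
  rw [GrothLib.DualRing.isCM_iff_support hω ⟨q, inferInstance⟩]
  intro i j hi hj
  obtain ⟨i₀, -, huniq⟩ := Groth.Agent.S1762.result A ω hω q hq
  exact (huniq i (Module.mem_support_iff.1 hi)).trans (huniq j (Module.mem_support_iff.1 hj)).symm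


end Groth.Agent.S0372
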