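import Groth.Statements.S0375
import Groth.Agent.Lib.LocalDual.FiniteLength
-- import your own Groth.Agent.* helpers here

set_option autoImplicit false
universe u v
open CategoryTheory
attribute [local instance] HasDerivedCategory.standard
open Dual

namespace Groth.Agent.S0375

/-- Over a Noetherian local ring of dimension 0, a normalized dualizing complex is isomorphic in D(A) to
an injective hull of the residue field placed in degree 0. -/
theorem result (A : Type u) [CommRing A] [IsLocalRing A] [IsNoetherianRing A] (h0 : ringKrullDim A = 0) (ω : Dual.D A) (hω : Dual.IsDualizing A ω) (hn : Dual.IsNormalized A ω) (E : Type u) [AddCommGroup E] [Module A E] (f : IsLocalRing.ResidueField A →ₗ[A] E) (hf : InjHull.IsInjectiveHull f) : Nonempty (ω ≅ Dual.inD A E) := by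
  obtain ⟨r⟩ := GrothLib.DualCx22.nonempty_injRep hω
  haveI : Ring.KrullDimLE 0 A := Ring.krullDimLE_iff.2 (le_of_eq h0)
  haveI : IsArtinianRing A := isArtinianRing_iff_isNoetherianRing_krullDimLE_zero.2 ⟨inferInstance, inferInstance⟩
  obtain ⟨k, hk⟩ := GrothLib.LocalDual.exists_pow_kills_of_isFiniteLength
    ((isFiniteLength_iff_isNoetherian_isArtinian (R := A) (M := A)).2 ⟨inferInstance, inferInstance⟩)
  have hbot : ∀ a ∈ IsLocalRing.maximalIdeal A ^ k, a = 0 := fun a ha => (mul_one a).symm.trans (hk a ha 1)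
  haveI : ∀ i, IsIso ((GrothLib.LocalDual.gammaIncl (IsLocalRing.maximalIdeal A) r.I).f i) := fun i =>
    (ConcreteCategory.isIso_iff_bijective _).2 ⟨Subtype.val_injective, fun x => ⟨⟨x, k, fun a ha => by
      rw [hbot a ha, zero_smul]⟩, rfl⟩⟩
  haveI := HomologicalComplex.Hom.isIso_of_components (GrothLib.LocalDual.gammaIncl (IsLocalRing.maximalIdeal A) r.I)
  exact ⟨r.iso.symm ≪≫ DerivedCategory.Q.mapIso (asIso (GrothLib.LocalDual.gammaIncl (IsLocalRing.maximalIdeal A) r.I)).symm ≪≫
    (GrothLib.LocalDual.nonempty_gam_iso_hull hω hn r hf).some⟩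

end Groth.Agent.S0375
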