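import Groth.Statements.S0380
import Groth.Agent.Lib.LC.Cd
import Groth.Agent.Lib.LC.FlatBC

set_option autoImplicit false
universe u v
open LocCoh

namespace Groth.Agent.S0380

/-- Local cohomology with support in I vanishes above degree d on all modules exactly when, for every
prime p, local cohomology over A_p with support in I A_p vanishes above degree d on all A_p-modules. -/
theorem result (R : Type u) [CommRing R] [IsNoetherianRing R] (I : Ideal R) (d : ℕ) : LocCoh.CdLE R I d ↔ ∀ (p : Ideal R) [p.IsPrime], LocCoh.CdLE (Localization.AtPrime p) (I.map (algebraMap R (Localization.AtPrime p))) d := by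
  constructor
  · intro h p _ M' _ _ i hi
    haveI : IsNoetherianRing (Localization.AtPrime p) :=
      IsLocalization.isNoetherianRing p.primeCompl _ inferInstance
    letI : Module R M' := Module.compHom M' (algebraMap R (Localization.AtPrime p))
    haveI : IsScalarTower R (Localization.AtPrime p) M' :=
      ⟨fun a b m => by rw [Algebra.smul_def, mul_smul]; rfl⟩
    exact (GrothLib.LC.subsingleton_map_iff I i M').2 (h M' i hi)
  · intro h M _ _ i hi
    apply Module.subsingleton_of_localization_maximal (R := R)
      (fun p => LocalizedModule p.primeCompl (LocCoh.H I i M))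
      (fun p => LocalizedModule.mkLinearMap p.primeCompl _)
    intro p hp
    haveI : IsNoetherianRing (Localization.AtPrime p) :=
      IsLocalization.isNoetherianRing p.primeCompl _ inferInstance
    obtain ⟨φ⟩ := GrothLib.LC.nonempty_baseChange_equiv (R' := Localization.AtPrime p) I i M
    have hs := h p (TensorProduct R (Localization.AtPrime p) M) i hi
    exact ((LocalizedModule.equivTensorProduct p.primeCompl (LocCoh.H I i M)) ≪≫ₗ φ).toEquiv.subsingleton

end Groth.Agent.S0380
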