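import Groth.Statements.S0382
-- import your own Groth.Agent.* helpers here
import Groth.Agent.Lib.AbMul.Etale
import Groth.Agent.S7785
import Groth.Agent.S7795
import Mathlib

set_option autoImplicit false
universe u v
open CategoryTheory MonoidalCategory CartesianMonoidalCategory MonObj GrpObj AlgebraicGeometry
open GrpSch

namespace Groth.Agent.S0382

/-- On an abelian variety of positive dimension over a field K (a proper, geometrically integral group
scheme over K), multiplication by an integer d is étale exactly when d is nonzero in K.
Multiplication by d is written as the d-th power of the identity morphism in the group Hom(A, A),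
whose multiplication is pointwise, induced by the group structure of A. -/
theorem result (K : Type u) [Field K] (A : Over (Spec (CommRingCat.of K))) [GrpObj A] [IsProper A.hom] [GeometricallyIntegral A.hom] (hA : 0 < topologicalKrullDim A.left) (d : ℤ) : Etale ((𝟙 A ^ d).left) ↔ ((d : K) ≠ 0) := by
  have : Smooth A.hom := Groth.Agent.S7795.result A
  have : GeometricallyReduced A.hom := inferInstance
  have : GeometricallyConnected A.hom := GrothLib.Rigidity.geometricallyConnected_of_geometricallyIrreducible A.hom
  have : IsCommMonObj A := Groth.Agent.S7785.result A
  refine ⟨fun h hd => ?_, fun hd => (GrothLib.AbMul.isFinite_etale_surjective_pow A d hd).2.1⟩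
  have := GrothLib.AbMul.formallyUnramified_hom (G := A) d hd
  have := GrothLib.EtBasicB.locallyQuasiFinite_of_unramified A.hom
  have : IsFinite A.hom := IsFinite.of_isProper_of_locallyQuasiFinite A.hom
  have : IsLocallyArtinian A.left := IsLocallyArtinian.of_locallyQuasiFinite A.hom
  have : DiscreteTopology A.left := IsLocallyArtinian.discreteTopology
  exact hA.not_ge (topologicalKrullDim_zero_of_discreteTopology A.left)

end Groth.Agent.S0382
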