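import Groth.Statements.S0395
import Groth.Agent.Lib.Flatness.InjMod

set_option autoImplicit false
universe u
open FlatMor

namespace Groth.Agent.S0395

open TensorProduct nonZeroDivisors in
/-- For a flat local homomorphism R → S of Noetherian local rings and an element f of S that is regular
on the fibre ring S/mS, the quotient of S by f is again R-flat and f is regular on S. -/
theorem result {R S : Type u} [CommRing R] [CommRing S] [IsLocalRing R] [IsLocalRing S] [IsNoetherianRing R] [IsNoetherianRing S] [Algebra R S] [IsLocalHom (algebraMap R S)] [Module.Flat R S]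
    (f : S) (hf : Ideal.Quotient.mk ((IsLocalRing.maximalIdeal R).map (algebraMap R S)) f ∈ nonZeroDivisors (S ⧸ ((IsLocalRing.maximalIdeal R).map (algebraMap R S)))) :
    Module.Flat R (S ⧸ Ideal.span {f}) ∧ f ∈ nonZeroDivisors S := by
  let u : S →ₗ[R] S := (LinearMap.mulLeft S f).restrictScalars R
  have hu : Function.Injective (u.lTensor (IsLocalRing.ResidueField R)) := by
    rw [injective_iff_map_eq_zero]
    intro x hx
    obtain ⟨s, rfl⟩ := TensorProduct.mk_surjective R S (IsLocalRing.ResidueField R)
      IsLocalRing.residue_surjective x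
    have h1 : f * s ∈ IsLocalRing.maximalIdeal R • (⊤ : Submodule R S) := by
      rw [← GrothLib.Flatness.one_tmul_eq_zero_iff]
      exact hx
    rw [Ideal.smul_top_eq_map] at h1
    refine (GrothLib.Flatness.one_tmul_eq_zero_iff _ _).mpr ?_
    rw [Ideal.smul_top_eq_map]
    refine Ideal.Quotient.eq_zero_iff_mem.mp (hf.1 _ ?_)
    rw [← map_mul]
    exact Ideal.Quotient.eq_zero_iff_mem.mpr h1
  obtain ⟨hinj, hflat, -⟩ := GrothLib.Flatness.flat_coker_of_forall_mem u fun J x hx =>
    GrothLib.Flatness.mem_smul_top_of_map_mem (S := S) u hu J x hx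
  refine ⟨?_, ?_⟩
  · haveI := hflat
    refine Module.Flat.of_linearEquiv (Submodule.quotEquivOfEq
      ((Ideal.span {f}).restrictScalars R) (LinearMap.range u) ?_ : (S ⧸ Ideal.span {f}) ≃ₗ[R] _)
    ext x
    simp only [Submodule.restrictScalars_mem, Ideal.mem_span_singleton', LinearMap.mem_range]
    exact ⟨fun ⟨a, ha⟩ => ⟨a, (mul_comm f a).trans ha⟩, fun ⟨a, ha⟩ => ⟨a, (mul_comm a f).trans ha⟩⟩
  · exact mem_nonZeroDivisors_iff.mpr ⟨fun x hx => hinj (hx.trans (map_zero u).symm),
      fun x hx => hinj ((mul_comm f x).trans (hx.trans (map_zero u).symm))⟩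

end Groth.Agent.S0395
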