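import Groth.Statements.S0396
import Groth.Agent.Lib.Flatness.Criterion
import Mathlib.RingTheory.Localization.AtPrime.Basic
import Mathlib.RingTheory.Localization.BaseChange
import Mathlib.RingTheory.Localization.Finiteness
import Mathlib.RingTheory.Localization.Submodule
import Mathlib.RingTheory.Noetherian.Basic

set_option autoImplicit false
universe u
open FlatMor TensorProduct

namespace Groth.Agent.S0396

open TensorProduct in
/-- For a map of Noetherian rings R → S, an ideal I of R and a finite S-module M such that M/IⁿM is flat
over R/Iⁿ for every n ≥ 1, the localization of M at any prime of S containing IS is flat over R. -/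
theorem result {R S M : Type u} [CommRing R] [CommRing S] [IsNoetherianRing R] [IsNoetherianRing S] [Algebra R S]
    [AddCommGroup M] [Module R M] [Module S M] [IsScalarTower R S M] [Module.Finite S M] (I : Ideal R)
    (h : ∀ n : ℕ, 0 < n → Module.Flat (R ⧸ I ^ n) ((R ⧸ I ^ n) ⊗[R] M))
    (q : Ideal S) [q.IsPrime] (hq : I.map (algebraMap R S) ≤ q) :
    Module.Flat R (LocalizedModule q.primeCompl M) := by
  let Sq := Localization.AtPrime q
  haveI : Module.Finite Sq (LocalizedModule q.primeCompl M) :=
    Module.Finite.of_isLocalizedModule q.primeCompl (LocalizedModule.mkLinearMap q.primeCompl M)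
  haveI : IsNoetherianRing Sq := IsLocalization.isNoetherianRing q.primeCompl Sq inferInstance
  refine GrothLib.Flatness.flat_of_forall_pow (S := Sq) I ?_ fun n A B _ _ _ _ f hA hB hf => ?_
  · refine le_trans ?_ (IsLocalRing.maximalIdeal_le_jacobson _)
    rw [IsScalarTower.algebraMap_eq R S Sq, ← Ideal.map_map,
      ← Localization.AtPrime.map_eq_maximalIdeal]
    exact Ideal.map_mono hq
  · have h0 : Function.Injective (f.lTensor M) := by
      refine GrothLib.Flatness.lTensor_injective_of_flat_quotient (I ^ (n + 1)) (h _ n.succ_pos) ?_ ?_ f hf
      · exact fun x a => @hA x ⟨a, Ideal.pow_le_pow_right n.le_succ a.2⟩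
      · exact fun x a => @hB x ⟨a, Ideal.pow_le_pow_right n.le_succ a.2⟩
    have h1 := IsLocalizedModule.map_injective q.primeCompl
      (TensorProduct.AlgebraTensorModule.rTensor R A (LocalizedModule.mkLinearMap q.primeCompl M))
      (TensorProduct.AlgebraTensorModule.rTensor R B (LocalizedModule.mkLinearMap q.primeCompl M))
      (TensorProduct.AlgebraTensorModule.lTensor S M f) h0
    rw [IsLocalizedModule.map_lTensor] at h1
    exact h1

end Groth.Agent.S0396
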