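import Groth.Statements.S0397
import Groth.Agent.Lib.Flatness.Artinian

set_option autoImplicit false
universe u
open FlatMor TensorProduct

namespace Groth.Agent.S0397

/-- Over a local ring whose maximal ideal is nilpotent, every flat module (not necessarily finitely
generated) is free. -/
theorem result {R M : Type u} [CommRing R] [IsLocalRing R] (hR : IsNilpotent (IsLocalRing.maximalIdeal R))
    [AddCommGroup M] [Module R M] [Module.Flat R M] : Module.Free R M := by
  obtain ⟨ι, v, b, hb, hspan⟩ := GrothLib.Flatness.exists_basisLift (M := M) hR
  refine Module.Free.of_basis (Module.Basis.mk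
    (Module.IsLocalRing.linearIndependent_of_flat v ?_) hspan.ge)
  have : TensorProduct.mk R (IsLocalRing.ResidueField R) M 1 ∘ v = b := funext hb
  rw [this]
  exact b.linearIndependent

end Groth.Agent.S0397
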