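import Groth.Statements.S0398
import Groth.Agent.Lib.Flatness.Artinian

set_option autoImplicit false
universe u
open FlatMor TensorProduct

namespace Groth.Agent.S0398

open TensorProduct in
/-- For an injective ring map R → S with R Artinian and an R-module M, if S ⊗ M is flat over S then M is
flat over R. -/
theorem result {R S M : Type u} [CommRing R] [CommRing S] [IsArtinianRing R] [Algebra R S] (hinj : Function.Injective (algebraMap R S))
    [AddCommGroup M] [Module R M] [Module.Flat S (S ⊗[R] M)] : Module.Flat R M := by
  refine Module.flat_of_localized_maximal _ fun P hP => ?_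
  let RP := Localization.AtPrime P
  let SP := Localization (Algebra.algebraMapSubmonoid S P.primeCompl)
  letI : Algebra RP SP :=
    (IsLocalization.map (T := Algebra.algebraMapSubmonoid S P.primeCompl) SP (algebraMap R S)
      (Submonoid.le_comap_map _) : RP →+* SP).toAlgebra
  haveI : IsScalarTower R RP SP := IsScalarTower.of_algebraMap_eq' (by
    rw [RingHom.algebraMap_toAlgebra, IsLocalization.map_comp]
    rfl)
  have hSP : Function.Injective (algebraMap RP SP) := by
    rw [RingHom.algebraMap_toAlgebra]
    haveI : IsLocalization (Submonoid.map (algebraMap R S) P.primeCompl) SP :=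
      (Localization.isLocalization : IsLocalization (Algebra.algebraMapSubmonoid S P.primeCompl) SP)
    exact IsLocalization.map_injective_of_injective P.primeCompl RP SP hinj
  let MP := LocalizedModule P.primeCompl M
  let e : MP ≃ₗ[RP] RP ⊗[R] M := LocalizedModule.equivTensorProduct P.primeCompl M
  haveI : Module.Flat SP (SP ⊗[RP] MP) := by
    haveI h1 : Module.Flat SP (SP ⊗[S] (S ⊗[R] M)) := Module.Flat.baseChange S SP (S ⊗[R] M)
    exact Module.Flat.of_linearEquiv
      ((TensorProduct.AlgebraTensorModule.congr (LinearEquiv.refl SP SP) e) ≪≫ₗ
        TensorProduct.AlgebraTensorModule.cancelBaseChange R RP SP SP M ≪≫ₗ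
        (TensorProduct.AlgebraTensorModule.cancelBaseChange R S SP SP M).symm)
  haveI : IsArtinianRing RP := inferInstance
  haveI : Module.Free RP MP := GrothLib.Flatness.free_of_baseChange_flat (S := SP)
    (IsArtinianRing.isNilpotent_jacobson_bot (R := RP) |>.imp fun n h => by
      rw [← IsLocalRing.jacobson_eq_maximalIdeal (⊥ : Ideal RP) bot_ne_top]; exact h) hSP
  exact Module.Flat.trans R RP MP

end Groth.Agent.S0398
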