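import Groth.Statements.S0399
import Groth.Agent.Lib.Flatness.Criterion
import Mathlib.RingTheory.Flat.Localization

set_option autoImplicit false
universe u
open FlatMor TensorProduct

namespace Groth.Agent.S0399

open TensorProduct in
/-- For a ring A, a module M and an element f that is a nonzerodivisor on A and on M, if M_f is flat
over A_f and M/fM is flat over A/fA then M is flat over A (the source's companion statement for
faithful flatness is not stated). -/
theorem result {A M : Type u} [CommRing A] [AddCommGroup M] [Module A M] (f : A) (hA : f ∈ nonZeroDivisors A) (hM : IsSMulRegular M f)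
    [Module.Flat (Localization.Away f) (LocalizedModule (Submonoid.powers f) M)]
    [Module.Flat (A ⧸ Ideal.span {f}) ((A ⧸ Ideal.span {f}) ⊗[A] M)] : Module.Flat A M := by
  let I : Ideal A := Ideal.span {f}
  have h1 : Function.Injective (I.subtype.lTensor M) := by
    have key : ∀ x : M ⊗[A] ↥I, ∃ m : M, x = m ⊗ₜ (⟨f, Ideal.mem_span_singleton_self f⟩ : ↥I) := by
      intro x
      induction x using TensorProduct.induction_on with
      | zero => exact ⟨0, by simp⟩
      | add a b ha hb =>
        obtain ⟨m, rfl⟩ := ha
        obtain ⟨n, rfl⟩ := hb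
        exact ⟨m + n, (TensorProduct.add_tmul _ _ _).symm⟩
      | tmul m a =>
        obtain ⟨c, hc⟩ := Ideal.mem_span_singleton'.mp a.2
        refine ⟨c • m, ?_⟩
        rw [TensorProduct.smul_tmul]
        congr 1
        exact Subtype.ext hc.symm
    rw [injective_iff_map_eq_zero]
    intro x hx
    obtain ⟨m, rfl⟩ := key x
    have h0 : f • m = 0 := by
      have := congrArg (TensorProduct.rid A M) hx
      simpa using this
    rw [hM (a₁ := m) (a₂ := 0) (by simpa using h0), TensorProduct.zero_tmul]
  rw [Module.Flat.iff_lTensor_injective']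
  intro J
  rw [injective_iff_map_eq_zero]
  intro x hx
  have hreg : IsSMulRegular (M ⊗[A] ↥J) f := by
    let g : ↥J →ₗ[A] ↥J := f • LinearMap.id
    have hg : Function.Injective g := fun a b hab => Subtype.ext
      (mem_nonZeroDivisors_iff.mp hA |>.1 |> fun h => sub_eq_zero.mp (h ((a : A) - (b : A)) (by
        rw [mul_sub, sub_eq_zero]
        exact congrArg (fun z : ↥J => (z : A)) hab)))
    have hinj : Function.Injective (g.lTensor M) := by
      refine GrothLib.Flatness.Good.lTensor_injective g hg
        (GrothLib.Flatness.good_of_isTorsionBySet I h1 inferInstance _ fun y a => ?_)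
      obtain ⟨y, rfl⟩ := Submodule.mkQ_surjective _ y
      obtain ⟨c, hc⟩ := Ideal.mem_span_singleton'.mp a.2
      rw [← map_smul]
      refine (Submodule.Quotient.mk_eq_zero _).mpr ⟨c • y, ?_⟩
      show f • c • y = (a : A) • y
      rw [smul_smul, mul_comm, hc]
    intro a b hab
    apply hinj
    have hgl : g.lTensor M = f • LinearMap.id := by
      simp [g, LinearMap.lTensor_smul]
    rw [hgl]
    exact hab
  let F := TensorProduct.AlgebraTensorModule.rTensor A (↥J)
    (LocalizedModule.mkLinearMap (Submonoid.powers f) M)
  have hMf : Module.Flat A (LocalizedModule (Submonoid.powers f) M) :=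
    Module.Flat.trans A (Localization.Away f) _
  have h0 : F x = 0 := by
    apply Module.Flat.lTensor_preserves_injective_linearMap
      (M := LocalizedModule (Submonoid.powers f) M) J.subtype J.injective_subtype
    rw [map_zero]
    show J.subtype.lTensor _ ((LocalizedModule.mkLinearMap (Submonoid.powers f) M).rTensor ↥J x) = 0
    rw [← LinearMap.comp_apply, LinearMap.lTensor_comp_rTensor, ← LinearMap.rTensor_comp_lTensor,
      LinearMap.comp_apply, hx, map_zero]
  obtain ⟨⟨_, n, rfl⟩, hn⟩ := (IsLocalizedModule.eq_zero_iff (Submonoid.powers f) F).mp h0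
  exact (hreg.pow n) (hn.trans (smul_zero _).symm)

end Groth.Agent.S0399
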