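import Groth.Statements.S0401
import Mathlib

set_option autoImplicit false
universe u
open FlatMor

namespace Groth.Agent.S0401

/-- For a finite type ring map R → S quasi-finite at a prime q lying over p, the dimension of S_q is at
most the dimension of R_p. -/
theorem result {R S : Type u} [CommRing R] [CommRing S] [Algebra R S] [Algebra.FiniteType R S] (q : Ideal S) [q.IsPrime] [Algebra.QuasiFiniteAt R q] :
    ringKrullDim (Localization.AtPrime q) ≤ ringKrullDim (Localization.AtPrime (q.under R)) := by
  let p := q.under R
  let _ : Algebra (Localization.AtPrime p) (Localization.AtPrime q) :=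
    (Localization.localRingHom p q (algebraMap R S) rfl).toAlgebra
  have : IsScalarTower R (Localization.AtPrime p) (Localization.AtPrime q) := .of_algebraMap_eq fun x =>
    (IsScalarTower.algebraMap_apply R S (Localization.AtPrime q) x).trans
      (Localization.localRingHom_to_map p q (algebraMap R S) rfl x).symm
  have : Algebra.QuasiFinite (Localization.AtPrime p) (Localization.AtPrime q) :=
    Algebra.QuasiFinite.of_restrictScalars R _ _
  refine Order.krullDim_le_of_strictMono
    (fun P => PrimeSpectrum.comap (algebraMap (Localization.AtPrime p) (Localization.AtPrime q)) P)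
    fun P Q hPQ => lt_of_le_of_ne (Ideal.comap_mono hPQ.le) fun he => hPQ.ne (PrimeSpectrum.ext ?_)
  exact Algebra.QuasiFinite.eq_of_le_of_under_eq (R := Localization.AtPrime p) P.asIdeal Q.asIdeal hPQ.le
    (congrArg PrimeSpectrum.asIdeal he)

end Groth.Agent.S0401
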