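import Groth.Statements.S0406
import Groth.Agent.Lib.RG6.Open
-- import your own Groth.Agent.* helpers here

set_option autoImplicit false
universe u
open FlatMor

namespace Groth.Agent.S0406

/-- Raynaud–Gruson, algebra case: a flat finite type algebra over a domain is finitely presented. -/
theorem result {R S : Type u} [CommRing R] [IsDomain R] [CommRing S] [Algebra R S] [Algebra.FiniteType R S] [Module.Flat R S] :
    Algebra.FinitePresentation R S := by
    exact GrothLib.RG6.fp_algebra_of_flat GrothLib.RG6.finite_weakAss_domain

end Groth.Agent.S0406
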