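import Groth.Statements.S0407
import Groth.Agent.Lib.RG6.InjMod.All

set_option autoImplicit false
set_option linter.style.haveILetI false
set_option maxHeartbeats 1000000
universe u
open FlatMor

attribute [local instance] MvPolynomial.algebraMvPolynomial

namespace Groth.Agent.S0407

open TensorProduct IsLocalRing GrothLib.RG6.InjMod

theorem main {A B M N : Type u} [CommRing A] [CommRing B] [IsLocalRing A] [IsLocalRing B] [Algebra A B]
    [IsLocalHom (algebraMap A B)] [Algebra.EssFiniteType A B] [AddCommGroup M] [Module A M] [Module.Flat A M]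
    [AddCommGroup N] [Module A N] [Module B N] [IsScalarTower A B N] [Module.Finite B N]
    (u : N →ₗ[A] M) (h : Function.Injective (u.lTensor (ResidueField A))) :
    (∀ (X : Type u) [AddCommGroup X] [Module A X], Good u X) ∧ Module.FinitePresentation B N := by
  classical
  let S₀ := Algebra.EssFiniteType.subalgebra A B
  obtain ⟨n, π, hπ⟩ := Algebra.FiniteType.iff_quotient_mvPolynomial''.1 (inferInstance : Algebra.FiniteType A S₀)
  let P := Poly n A
  let f : P →ₐ[A] B := S₀.val.comp π
  letI : Algebra P B := f.toRingHom.toAlgebra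
  haveI : IsScalarTower A P B := IsScalarTower.of_algebraMap_eq fun c => (f.commutes c).symm
  letI : Module P N := Module.compHom N f.toRingHom
  haveI : IsScalarTower P B N := IsScalarTower.of_compHom _ _ _
  haveI : IsScalarTower A P N := IsScalarTower.of_algebraMap_smul fun c y => by
    show f (algebraMap A P c) • y = c • y
    rw [f.commutes, algebraMap_smul]
  have hden : ∀ b : B, ∃ t c : P, IsUnit (f t) ∧ f t * b = f c := fun b => by
    obtain ⟨⟨c, t⟩, h⟩ := IsLocalization.surj (Algebra.EssFiniteType.submonoid A B) b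
    obtain ⟨c', hc⟩ := hπ c
    obtain ⟨t', ht⟩ := hπ (t : S₀)
    refine ⟨t', c', ?_, ?_⟩
    · show IsUnit ((π t' : S₀) : B)
      rw [ht]
      exact t.2
    · show ((π t' : S₀) : B) * b = ((π c' : S₀) : B)
      rw [ht, hc, mul_comm]
      exact h
  let q : Ideal P := (maximalIdeal B).comap f.toRingHom
  have hunit : ∀ t : P, t ∉ q → IsUnit (f t) := fun t ht => notMem_maximalIdeal.1 ht
  have hone : (1 : P) ∉ q := Ideal.IsPrime.one_notMem inferInstance
  have hmul : ∀ {t t' : P}, t ∉ q → t' ∉ q → t * t' ∉ q := fun ht ht' h =>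
    ((inferInstance : q.IsPrime).mem_or_mem h).elim ht ht'
  obtain ⟨k, gen, hgen⟩ := Module.Finite.exists_fin (R := B) (M := N)
  let ψ : (Fin k → P) →ₗ[P] N := Fintype.linearCombination P gen
  -- clearing denominators
  have hclear : ∀ y : Fin k → B, ∃ t : P, t ∉ q ∧ ∃ c : Fin k → P, ∀ i, f t * y i = f (c i) := fun y => by
    choose t c ht hc using fun i => hden (y i)
    refine ⟨∏ i, t i, fun h => ?_, fun i => (∏ j ∈ Finset.univ.erase i, t j) * c i, fun i => ?_⟩
    · obtain ⟨i, -, hi⟩ := Ideal.IsPrime.prod_mem_iff.1 h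
      exact (mem_maximalIdeal _).1 hi (ht i)
    · rw [← Finset.prod_erase_mul _ t (Finset.mem_univ i), map_mul, map_mul, mul_assoc, hc]
  let hB : (Fin k → B) →ₗ[B] N := Fintype.linearCombination B gen
  have hBsurj : Function.Surjective hB := fun x => by
    obtain ⟨c, hc⟩ := (Submodule.mem_span_range_iff_exists_fun B).1 (hgen ▸ Submodule.mem_top : x ∈ Submodule.span B (Set.range gen))
    exact ⟨c, hc⟩
  have hψB : ∀ c : Fin k → P, ψ c = hB (fun i => f (c i)) := fun c => by
    simp only [ψ, hB, Fintype.linearCombination_apply]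
    rfl
  have hψsurj : ∀ x : N, ∃ t : P, t ∉ q ∧ ∃ c, ψ c = t • x := fun x => by
    obtain ⟨y, rfl⟩ := hBsurj x
    obtain ⟨t, ht, c, hc⟩ := hclear y
    refine ⟨t, ht, c, ?_⟩
    rw [hψB]
    show _ = f t • hB y
    rw [← map_smul]
    congr 1
    funext i
    exact (hc i).symm
  -- finitely many relations giving the closed fibre
  let Pκ := Poly n (ResidueField A)
  let Ψ : (Fin k → P) →ₗ[P] (Fin k → Pκ) := LinearMap.compLeft (Algebra.linearMap P Pκ) (Fin k)
  have hPκ : Function.Surjective (algebraMap P Pκ) := MvPolynomial.map_surjective _ residue_surjective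
  have hfg : (Submodule.span Pκ (Ψ '' (LinearMap.ker ψ : Set (Fin k → P)))).FG := IsNoetherian.noetherian _
  obtain ⟨F, hF, hFspan⟩ := (Submodule.fg_span_iff_fg_span_finset_subset _).1 hfg
  choose lift hlift hlift' using fun z : F => hF z.2
  let K1 : Submodule P (Fin k → P) := Submodule.span P (Set.range lift)
  have hK1 : K1 ≤ LinearMap.ker ψ := Submodule.span_le.2 (by rintro _ ⟨z, rfl⟩; exact hlift z)
  have hKm : ∀ y ∈ LinearMap.ker ψ, ∃ y1 ∈ K1, Ψ (y - y1) = 0 := fun y hy => by
    have h1 : Ψ y ∈ Submodule.span Pκ (F : Set (Fin k → Pκ)) := hFspan ▸ Submodule.subset_span ⟨y, hy, rfl⟩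
    rw [← Submodule.restrictScalars_mem P, Submodule.restrictScalars_span P Pκ hPκ] at h1
    have h2 : Submodule.span P (F : Set (Fin k → Pκ)) ≤ K1.map Ψ := Submodule.span_le.2 fun z hz =>
      ⟨lift ⟨z, hz⟩, Submodule.subset_span ⟨⟨z, hz⟩, rfl⟩, hlift' ⟨z, hz⟩⟩
    obtain ⟨y1, hy1, hy1'⟩ := h2 h1
    exact ⟨y1, hy1, by rw [map_sub, hy1', sub_self]⟩
  let N1 := (Fin k → P) ⧸ K1
  haveI : Module.FinitePresentation P N1 :=
    Module.finitePresentation_of_surjective K1.mkQ K1.mkQ_surjective
      (by rw [Submodule.ker_mkQ]; exact Submodule.fg_span (Set.finite_range _))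
  let g : N1 →ₗ[P] N := K1.liftQ ψ hK1
  have hu : ∀ t : q.primeCompl, IsUnit (algebraMap P (Module.End P N) t) := fun t => by
    rw [Module.End.isUnit_iff]
    obtain ⟨w, hw⟩ := hunit t t.2
    refine ⟨fun a b hab => smul_left_cancel w (x := a) (y := b) ?_, fun y => ⟨w⁻¹ • y, ?_⟩⟩
    · rw [Units.smul_def, Units.smul_def, hw]
      exact hab
    · show f t • w⁻¹ • y = y
      rw [show f t = (w : B) from hw.symm, Units.smul_def, smul_smul, Units.mul_inv, one_smul]
  let G : Nq N1 q →ₗ[P] N := IsLocalizedModule.lift q.primeCompl (LocalizedModule.mkLinearMap q.primeCompl N1) g hu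
  have hGmk : ∀ x, G (LocalizedModule.mkLinearMap q.primeCompl N1 x) = g x := fun x =>
    IsLocalizedModule.lift_apply q.primeCompl (LocalizedModule.mkLinearMap q.primeCompl N1) g hu x
  have hGsurj : Function.Surjective G := fun x => by
    obtain ⟨t, ht, c, hc⟩ := hψsurj x
    refine ⟨IsLocalizedModule.mk' (LocalizedModule.mkLinearMap q.primeCompl N1) (K1.mkQ c) (⟨t, ht⟩ : q.primeCompl), ?_⟩
    apply ((Module.End.isUnit_iff _).1 (hu ⟨t, ht⟩)).1
    show t • G _ = t • x
    rw [← map_smul, show t • IsLocalizedModule.mk' (LocalizedModule.mkLinearMap q.primeCompl N1) (K1.mkQ c) (⟨t, ht⟩ : q.primeCompl) =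
      LocalizedModule.mkLinearMap q.primeCompl N1 (K1.mkQ c) from IsLocalizedModule.mk'_cancel' _ _ (⟨t, ht⟩ : q.primeCompl), hGmk, ← hc]
    rfl
  let GA : Nq N1 q →ₗ[A] N := G.restrictScalars A
  let v : Nq N1 q →ₗ[A] M := u ∘ₗ GA
  -- the closed fibre
  have hker : ∀ w : Nq N1 q, GA w = 0 → w ∈ maximalIdeal A • (⊤ : Submodule A (Nq N1 q)) := fun w hw => by
    obtain ⟨⟨x, t⟩, hxt⟩ := IsLocalizedModule.surj q.primeCompl (LocalizedModule.mkLinearMap q.primeCompl N1) w
    obtain ⟨c, rfl⟩ := K1.mkQ_surjective x
    have hc : c ∈ LinearMap.ker ψ := by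
      rw [LinearMap.mem_ker]
      calc ψ c = G (LocalizedModule.mkLinearMap q.primeCompl N1 (K1.mkQ c)) :=
          ((hGmk (K1.mkQ c)).trans (Submodule.liftQ_apply K1 ψ c)).symm
        _ = (t : P) • G w := by rw [← map_smul]; exact congrArg G hxt.symm
        _ = 0 := by rw [show G w = 0 from hw, smul_zero]
    obtain ⟨y1, hy1, hy⟩ := hKm c hc
    let L : Submodule A (Nq N1 q) := maximalIdeal A • ⊤
    have hsmul : ∀ (p : P) (z : Nq N1 q), z ∈ L → p • z ∈ L := fun p z hz => by
      refine Submodule.smul_induction_on hz (fun a ha z _ => ?_) fun a b ha hb => ?_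
      · rw [smul_comm]
        exact Submodule.smul_mem_smul ha trivial
      · rw [smul_add]
        exact add_mem ha hb
    have h1 : LocalizedModule.mkLinearMap q.primeCompl N1 (K1.mkQ c) ∈ L := by
      have h0 : K1.mkQ c = K1.mkQ (c - y1) := by
        rw [map_sub, Submodule.mkQ_apply K1 y1, (Submodule.Quotient.mk_eq_zero K1).2 hy1, sub_zero]
      rw [h0, pi_eq_sum_univ' (c - y1), map_sum, map_sum]
      refine Submodule.sum_mem _ fun i _ => ?_
      rw [map_smul, map_smul]
      have h2 : (c - y1) i ∈ (maximalIdeal A).map (MvPolynomial.C (σ := Fin n)) := by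
        rw [MvPolynomial.mem_map_C_iff]
        intro d
        have h3 : MvPolynomial.coeff d (MvPolynomial.map (algebraMap A (ResidueField A)) ((c - y1) i)) = 0 := by
          rw [show MvPolynomial.map (algebraMap A (ResidueField A)) ((c - y1) i) = 0 from congrFun hy i]; simp
        rw [MvPolynomial.coeff_map] at h3
        exact (residue_eq_zero_iff _).1 h3
      generalize LocalizedModule.mkLinearMap q.primeCompl N1 (K1.mkQ _) = z
      generalize (c - y1) i = p at h2 ⊢
      induction h2 using Submodule.span_induction with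
      | mem p hp =>
        obtain ⟨a, ha, rfl⟩ := hp
        rw [show MvPolynomial.C a = algebraMap A P a from rfl, algebraMap_smul]
        exact Submodule.smul_mem_smul ha trivial
      | zero => rw [zero_smul]; exact zero_mem _
      | add a b _ _ ha hb => rw [add_smul]; exact add_mem ha hb
      | smul r a _ ha => rw [smul_eq_mul, mul_smul]; exact hsmul r _ ha
    obtain ⟨e, he⟩ := (IsLocalizedModule.map_units (LocalizedModule.mkLinearMap q.primeCompl N1) t).exists_left_inv
    have h4 : (t : P) • w ∈ L := by
      rw [show (t : P) • w = _ from hxt]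
      exact h1
    have h5 : w = IsLocalizedModule.mk' (LocalizedModule.mkLinearMap q.primeCompl N1) (K1.mkQ c) t :=
      (IsLocalizedModule.mk'_eq_iff.2 hxt.symm).symm
    have h6 : e ((t : P) • w) ∈ L := by
      refine Submodule.smul_induction_on (p := fun z => e z ∈ L) h4 (fun a ha z _ => ?_) fun a b ha hb => ?_
      · rw [LinearMap.map_smul_of_tower]
        exact Submodule.smul_mem_smul ha trivial
      · rw [map_add]
        exact add_mem ha hb
    rwa [show e ((t : P) • w) = w from LinearMap.congr_fun he w] at h6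
  have hm : Good v (maximalIdeal A).ResidueField := by
    refine (good_field_iff (u := v) (ResidueField A) (maximalIdeal A) ?_).2 ?_
    · ext a
      exact residue_eq_zero_iff a
    intro a b hab
    have h1 : GA.lTensor (ResidueField A) (a - b) = 0 := h (by
      rw [map_zero, map_sub, map_sub]
      exact sub_eq_zero.2 (by simpa only [v, LinearMap.lTensor_comp, LinearMap.comp_apply] using hab))
    obtain ⟨z, hz⟩ := ((lTensor_exact (ResidueField A) (LinearMap.exact_subtype_ker_map GA) hGsurj) (a - b)).1 h1
    rw [← sub_eq_zero, ← hz]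
    clear hz h1
    induction z using TensorProduct.induction_on with
    | zero => simp
    | add a b ha hb => rw [map_add, ha, hb, add_zero]
    | tmul c w =>
      rw [LinearMap.lTensor_tmul]
      show c ⊗ₜ[A] (w : Nq N1 q) = 0
      refine Submodule.smul_induction_on (p := fun z => c ⊗ₜ[A] z = (0 : ResidueField A ⊗[A] Nq N1 q)) (hker w.1 w.2)
        (fun a ha z _ => ?_) fun a b ha hb => ?_
      · rw [← TensorProduct.smul_tmul, Algebra.smul_def, show algebraMap A (ResidueField A) a = 0 from
          (residue_eq_zero_iff a).2 ha, zero_mul, TensorProduct.zero_tmul]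
      · rw [TensorProduct.tmul_add, ha, hb, add_zero]
  have hq : q.comap (algebraMap A P) = maximalIdeal A := by
    show ((maximalIdeal B).comap f.toRingHom).comap (algebraMap A P) = _
    rw [Ideal.comap_comap]
    have hh : f.toRingHom.comp (algebraMap A P) = algebraMap A B := RingHom.ext fun c => f.commutes c
    rw [hh]
    exact ((IsLocalRing.local_hom_TFAE (algebraMap A B)).out 0 4).1 ‹_›
  have hall : ∀ (X : Type u) [AddCommGroup X] [Module A X], Good v X := good_all N1 q v hq hm
  have hGinj : Function.Injective GA := fun a b hab => by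
    have h1 : v.lTensor A (1 ⊗ₜ[A] a) = v.lTensor A (1 ⊗ₜ[A] b) := by
      simp only [v, LinearMap.lTensor_tmul, LinearMap.comp_apply, hab]
    have h2 := congrArg (TensorProduct.lid A _) (hall A h1)
    simpa using h2
  let E : Nq N1 q ≃ₗ[A] N := LinearEquiv.ofBijective GA ⟨hGinj, hGsurj⟩
  refine ⟨fun X _ _ a b hab => ?_, ?_⟩
  · obtain ⟨a', rfl⟩ := (LinearEquiv.lTensor X E).surjective a
    obtain ⟨b', rfl⟩ := (LinearEquiv.lTensor X E).surjective b
    refine congrArg (LinearEquiv.lTensor X E) (hall X ?_)
    simp only [v, LinearMap.lTensor_comp, LinearMap.comp_apply]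
    exact hab
  · refine Module.finitePresentation_of_surjective hB hBsurj ?_
    refine ⟨(Finset.univ : Finset F).image fun z => fun i => f (lift z i), le_antisymm ?_ fun y hy => ?_⟩
    · refine Submodule.span_le.2 fun y hy => ?_
      obtain ⟨z, -, rfl⟩ := Finset.mem_image.1 hy
      show hB _ = 0
      rw [← hψB]
      exact hlift z
    · obtain ⟨t, ht, c, hc⟩ := hclear y
      have h1 : ψ c = 0 := by
        rw [hψB, show (fun i => f (c i)) = f t • y from funext fun i => (hc i).symm, map_smul,
          show hB y = 0 from hy, smul_zero]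
      have h2 : LocalizedModule.mkLinearMap q.primeCompl N1 (K1.mkQ c) = 0 :=
        hGinj (by rw [map_zero]; exact (hGmk _).trans h1)
      obtain ⟨t', ht'⟩ := (IsLocalizedModule.eq_zero_iff q.primeCompl _).1 h2
      have h3 : (t' : P) • c ∈ K1 := by
        rw [← Submodule.Quotient.mk_eq_zero K1, Submodule.Quotient.mk_smul]
        exact ht'
      let J := Submodule.span B
        ((((Finset.univ : Finset F).image fun z => fun i => f (lift z i)) : Finset (Fin k → B)) : Set (Fin k → B))
      have h4 : ∀ x ∈ K1, (fun i => f (x i)) ∈ J := fun x hx => by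
        induction hx using Submodule.span_induction with
        | mem x hx =>
          obtain ⟨z, rfl⟩ := hx
          exact Submodule.subset_span (Finset.mem_image.2 ⟨z, Finset.mem_univ _, rfl⟩)
        | zero => simp only [Pi.zero_apply, map_zero]; exact zero_mem J
        | add a b _ _ ha hb => simp only [Pi.add_apply, map_add]; exact add_mem ha hb
        | smul r a _ ha =>
          have : (fun i => f ((r • a) i)) = f r • fun i => f (a i) := by funext i; simp
          rw [this]
          exact J.smul_mem _ ha
      have h5 : (f (t' : P) * f t) • y ∈ J := by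
        have : (f (t' : P) * f t) • y = fun i => f (((t' : P) • c) i) := by
          funext i
          show (f (t' : P) * f t) * y i = f ((t' : P) * c i)
          rw [mul_assoc, hc, map_mul]
        rw [this]
        exact h4 _ h3
      exact (Submodule.smul_mem_iff_of_isUnit J ((hunit _ t'.2).mul (hunit t ht))).1 h5

open TensorProduct in
/-- For a local homomorphism A → B essentially of finite type, a flat A-module M, a finite B-module N
and an A-linear map u from N to M that is injective modulo the maximal ideal of A: u is universally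
injective over A, N is finitely presented over B and N is flat over A (no Noetherian hypothesis). -/
theorem result {A B M N : Type u} [CommRing A] [CommRing B] [IsLocalRing A] [IsLocalRing B] [Algebra A B] [IsLocalHom (algebraMap A B)] [Algebra.EssFiniteType A B]
    [AddCommGroup M] [Module A M] [Module.Flat A M]
    [AddCommGroup N] [Module A N] [Module B N] [IsScalarTower A B N] [Module.Finite B N]
    (u : N →ₗ[A] M) (h : Function.Injective (LinearMap.lTensor (IsLocalRing.ResidueField A) u)) :
    (∀ (Q : Type u) [AddCommGroup Q] [Module A Q], Function.Injective (LinearMap.rTensor Q u)) ∧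
      Module.FinitePresentation B N ∧ Module.Flat A N := by
  obtain ⟨h1, h2⟩ := main (B := B) u h
  exact ⟨fun Q _ _ => (u.lTensor_inj_iff_rTensor_inj Q).1 (h1 Q), h2, flat_of_good (u := u) h1⟩

end Groth.Agent.S0407
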