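import Groth.Statements.S0408
import Groth.Agent.Lib.Weight.FiniteIsolated
-- import your own Groth.Agent.* helpers here

set_option autoImplicit false
universe u
open FlatMor

namespace Groth.Agent.S0408

open AlgebraicGeometry CategoryTheory Limits in
/-- Étale localization of a quasi-finite point (one-point case): for f separated and locally of finite
type and x isolated in its fibre, after base change along an étale morphism g with a point u over
f(x) having the same residue field, the base change splits off an open and closed piece V, finite
over the base, whose fibre over u is a single point v lying over x with the same residue field as x,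
and no other point over u lies over x. -/
theorem result {X S : Scheme.{u}} (f : X ⟶ S) [LocallyOfFiniteType f] [IsSeparated f] (x : X) (hx : f.QuasiFiniteAt x) :
    ∃ (U : Scheme.{u}) (g : U ⟶ S) (u : U), Etale g ∧ g u = f x ∧ Function.Surjective (g.residueFieldMap u) ∧
      ∃ (V : (pullback f g).Opens) (v : ↑(pullback f g)), IsClopen (V : Set ↑(pullback f g)) ∧
        IsFinite (V.ι ≫ pullback.snd f g) ∧ v ∈ V ∧ pullback.fst f g v = x ∧ pullback.snd f g v = u ∧
        Function.Surjective ((pullback.fst f g).residueFieldMap v) ∧
        (∀ w : ↑(pullback f g), pullback.snd f g w = u → (w ∈ V ∨ pullback.fst f g w = x) → w = v) := by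
    obtain ⟨U, g, u, ⟨hge, hgu, hgb⟩, V, v, hvV, hfin, hvu, huniq, hvx, hvb⟩ := GrothLib.Weight.exists_finite_part f x hx
    haveI := hfin
    haveI : IsFinite V.ι := IsFinite.of_comp _ (pullback.snd f g)
    have hclosed : IsClosed (V : Set ↑(pullback f g)) := by simpa using V.ι.isClosedMap.isClosed_range
    refine ⟨U, g, u, hge, hgu, hgb.2, V, v, ⟨hclosed, V.2⟩, hfin, hvV, hvx, hvu, hvb.2, fun w hw h => ?_⟩
    rcases h with hwV | hwx
    · exact huniq w hwV hw
    · obtain ⟨v', -, -, hall⟩ := GrothLib.Weight.existsUnique_point_over f g u hgb x hgu.symm
      exact (hall w hwx hw).trans (hall v hvx hvu).symm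

end Groth.Agent.S0408
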