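import Groth.Statements.S1378
import Groth.Agent.Lib.AicCover.Cover
import Groth.Agent.Lib.SpreadOut.Basic
-- import your own Groth.Agent.* helpers here

set_option autoImplicit false
universe u
open FlatMor

namespace Groth.Agent.S1378

open AlgebraicGeometry CategoryTheory Limits in
/-- Let S' → S be flat, locally of finite presentation and surjective (an fppf cover by one morphism).
Then there is a surjective integral morphism T → S which factors through S' Zariski locally on T. -/
theorem result {S' S : Scheme.{u}} (g : S' ⟶ S) [Flat g] [LocallyOfFinitePresentation g] [Surjective g] :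
    ∃ (T : Scheme.{u}) (π : T ⟶ S), Surjective π ∧ IsIntegralHom π ∧
      ∀ t : ↑T, ∃ (V : T.Opens) (r : ↑V ⟶ S'), t ∈ V ∧ r ≫ g = V.ι ≫ π := by
    classical
    refine ⟨GrothLib.AicCover.cover S, GrothLib.AicCover.π S, inferInstance, inferInstance, fun t => ?_⟩
    obtain ⟨U, hU, htU, -⟩ :=
      exists_isAffineOpen_mem_and_subset (x := GrothLib.AicCover.π S t) (U := ⊤) trivial
    obtain ⟨y, hy⟩ : t ∈ (GrothLib.AicCover.chart S ⟨U, hU⟩).opensRange := by
      rw [← GrothLib.AicCover.π_preimage S ⟨U, hU⟩]; exact htU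
    obtain ⟨x', hx'⟩ := g.surjective (GrothLib.AicCover.π S t)
    obtain ⟨W, hW, hxW, hWU⟩ := exists_isAffineOpen_mem_and_subset (x := x') (U := g ⁻¹ᵁ U)
      (show g x' ∈ U from hx' ▸ htU)
    subst hy
    let p : PrimeSpectrum (integralClosure Γ(S, U) (GrothLib.AicCover.Prd S U)) := y
    letI : Algebra Γ(S, U) Γ(S', W) := (g.appLE U W hWU).hom.toAlgebra
    have : Module.Flat Γ(S, U) Γ(S', W) := Flat.flat_appLE g hU hW hWU
    have hfp : (g.appLE U W hWU).hom.FinitePresentation :=
      LocallyOfFinitePresentation.finitePresentation_appLE g hU hW hWU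
    have : Algebra.FiniteType Γ(S, U) Γ(S', W) := by
      have : Algebra.FinitePresentation Γ(S, U) Γ(S', W) := hfp
      infer_instance
    -- the strictly local ring
    let L : CommRingCat.{u} :=
      (Spec.structureSheaf (integralClosure Γ(S, U) (GrothLib.AicCover.Prd S U))).presheaf.stalk p
    letI : Algebra (integralClosure Γ(S, U) (GrothLib.AicCover.Prd S U)) L :=
      StructureSheaf.stalkAlgebra _ p
    have : IsLocalization.AtPrime L p.asIdeal := StructureSheaf.IsLocalization.to_stalk _ p
    letI : Algebra Γ(S, U) L := ((algebraMap (integralClosure Γ(S, U) (GrothLib.AicCover.Prd S U)) L).comp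
      (algebraMap Γ(S, U) (integralClosure Γ(S, U) (GrothLib.AicCover.Prd S U)))).toAlgebra
    have : IsDomain L := GrothLib.AicCover.isDomain_of_hasSplitting p.asIdeal
      (GrothLib.AicCover.hasSplitting_integralClosure S U)
    have : IsLocalRing L := IsLocalization.AtPrime.isLocalRing L p.asIdeal
    have hroots : GrothLib.AicCover.HasMonicRoots L :=
      GrothLib.AicCover.hasMonicRoots_of_isLocalization p.asIdeal
        (GrothLib.AicCover.hasMonicRoots_integralClosure S U)
    -- a point of the closed fibre
    let P : Ideal Γ(S, U) := p.asIdeal.comap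
      (algebraMap Γ(S, U) (integralClosure Γ(S, U) (GrothLib.AicCover.Prd S U)))
    let q := hW.primeIdealOf ⟨x', hxW⟩
    have hq : q.asIdeal.comap (algebraMap Γ(S, U) Γ(S', W)) = P := by
      have h1 : q.asIdeal.comap (algebraMap Γ(S, U) Γ(S', W)) =
          (hU.primeIdealOf ⟨g x', hWU hxW⟩).asIdeal :=
        congrArg PrimeSpectrum.asIdeal (IsAffineOpen.comap_primeIdealOf_appLE U hU W hW hWU hxW)
      refine h1.trans (congrArg PrimeSpectrum.asIdeal (?_ : _ = (⟨P, inferInstance⟩ : PrimeSpectrum Γ(S, U))))
      apply hU.fromSpec.isOpenEmbedding.injective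
      refine (hU.fromSpec_primeIdealOf _).trans (hx'.trans ?_)
      show (GrothLib.AicCover.chart S ⟨U, hU⟩ ≫ GrothLib.AicCover.π S) y = _
      rw [GrothLib.AicCover.chart_π]
      rfl
    have hne : (IsLocalRing.maximalIdeal L).map
        (algebraMap L (TensorProduct Γ(S, U) L Γ(S', W))) ≠ ⊤ := by
      have hPL : P ≤ RingHom.ker ((IsLocalRing.residue L).comp (algebraMap Γ(S, U) L)) := by
        intro a ha
        rw [RingHom.mem_ker, RingHom.comp_apply, IsLocalRing.residue_eq_zero_iff]
        exact (IsLocalization.AtPrime.to_map_mem_maximal_iff L p.asIdeal _).2 ha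
      have hPu : P.primeCompl ≤ (IsUnit.submonoid (IsLocalRing.ResidueField L)).comap
          ((IsLocalRing.residue L).comp (algebraMap Γ(S, U) L)) := fun a ha =>
        ((IsLocalization.AtPrime.isUnit_to_map_iff L p.asIdeal _).2 ha).map (IsLocalRing.residue L)
      letI : Algebra P.ResidueField (IsLocalRing.ResidueField L) :=
        (Ideal.ResidueField.lift P _ hPL hPu).toAlgebra
      letI : Algebra P.ResidueField q.asIdeal.ResidueField :=
        (Ideal.ResidueField.map P q.asIdeal (algebraMap Γ(S, U) Γ(S', W)) hq.symm).toAlgebra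
      obtain ⟨K, _, α, β, hαβ, hαm⟩ : ∃ (K : Type u) (_ : Field K) (α : L →+* K)
          (β : Γ(S', W) →+* K),
          (∀ a, α (algebraMap Γ(S, U) L a) = β (algebraMap Γ(S, U) Γ(S', W) a)) ∧
            ∀ z ∈ IsLocalRing.maximalIdeal L, α z = 0 := by
        have : Nontrivial (TensorProduct P.ResidueField (IsLocalRing.ResidueField L)
            q.asIdeal.ResidueField) := inferInstance
        obtain ⟨M, hM⟩ := Ideal.exists_maximal (TensorProduct P.ResidueField
          (IsLocalRing.ResidueField L) q.asIdeal.ResidueField)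
        refine ⟨_, Ideal.Quotient.field M,
          (Ideal.Quotient.mk M).comp (Algebra.TensorProduct.includeLeftRingHom.comp (IsLocalRing.residue L)),
          (Ideal.Quotient.mk M).comp (Algebra.TensorProduct.includeRight.toRingHom.comp
            (algebraMap Γ(S', W) q.asIdeal.ResidueField)), fun a => ?_, fun z hz => ?_⟩
        · have e1 : IsLocalRing.residue L (algebraMap Γ(S, U) L a) =
              algebraMap P.ResidueField _ (algebraMap Γ(S, U) P.ResidueField a) := by
            show _ = Ideal.ResidueField.lift P _ hPL hPu (algebraMap _ _ a)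
            rw [Ideal.ResidueField.lift_algebraMap]
            rfl
          have e2 : algebraMap Γ(S', W) q.asIdeal.ResidueField (algebraMap Γ(S, U) Γ(S', W) a) =
              algebraMap P.ResidueField _ (algebraMap Γ(S, U) P.ResidueField a) :=
            (Ideal.ResidueField.map_algebraMap _ _ _ hq.symm a).symm
          simp only [RingHom.comp_apply, AlgHom.toRingHom_eq_coe, RingHom.coe_coe, e1, e2,
            Algebra.TensorProduct.includeLeftRingHom_apply, Algebra.TensorProduct.includeRight_apply]
          congr 1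
          rw [← Algebra.TensorProduct.algebraMap_apply, Algebra.TensorProduct.algebraMap_apply']
        · simp [(IsLocalRing.residue_eq_zero_iff z).2 hz]
      letI : Algebra Γ(S, U) K := (α.comp (algebraMap Γ(S, U) L)).toAlgebra
      let Φ : TensorProduct Γ(S, U) L Γ(S', W) →ₐ[Γ(S, U)] K := Algebra.TensorProduct.lift
        ({ α with commutes' := fun _ => rfl } : L →ₐ[Γ(S, U)] K)
        ({ β with commutes' := fun a => (hαβ a).symm } : Γ(S', W) →ₐ[Γ(S, U)] K)
        (fun _ _ => .all _ _)
      intro htop
      have h1 : (1 : TensorProduct Γ(S, U) L Γ(S', W)) ∈ RingHom.ker Φ.toRingHom := by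
        have : (IsLocalRing.maximalIdeal L).map (algebraMap L (TensorProduct Γ(S, U) L Γ(S', W))) ≤
            RingHom.ker Φ.toRingHom := by
          rw [Ideal.map_le_iff_le_comap]
          intro z hz
          show Φ (z ⊗ₜ[Γ(S, U)] (1 : Γ(S', W))) = 0
          simp [Φ, hαm z hz]
        exact this (htop ▸ Submodule.mem_top)
      rw [RingHom.mem_ker, map_one] at h1
      exact one_ne_zero h1
    obtain ⟨σ⟩ := GrothLib.AicCover.exists_algHom_of_flat (B := TensorProduct Γ(S, U) L Γ(S', W))
      hroots hne
    let φ : Γ(S', W) →+* L := σ.toRingHom.comp Algebra.TensorProduct.includeRight.toRingHom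
    have hφ : ∀ a, φ (algebraMap Γ(S, U) Γ(S', W) a) = algebraMap Γ(S, U) L a := by
      intro a
      show σ (Algebra.TensorProduct.includeRight (algebraMap Γ(S, U) Γ(S', W) a)) = _
      rw [AlgHom.commutes, Algebra.TensorProduct.algebraMap_apply]
      exact σ.commutes _
    let φRX : Γ(S, U) ⟶ Γ(Spec (.of (integralClosure Γ(S, U) (GrothLib.AicCover.Prd S U))), ⊤) :=
      (GrothLib.AicCover.diagramMap S).app (.op U) ≫ (Scheme.ΓSpecIso _).inv
    obtain ⟨V', hyV', i, φ', -, -, hφ'⟩ :=
      GrothLib.SpreadOut.exists_lift_of_finitePresentation (g.appLE U W hWU) hfp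
        (X := Spec (.of (integralClosure Γ(S, U) (GrothLib.AicCover.Prd S U))))
        (U := ⊤) (x := y) trivial φRX (CommRingCat.ofHom φ) (by
          ext a
          exact hφ a)
    let c := GrothLib.AicCover.chart S ⟨U, hU⟩
    refine ⟨c ''ᵁ V', (c.isoImage V').inv ≫ V'.toSpecΓ ≫ Spec.map φ' ≫ hW.fromSpec,
      ⟨y, hyV', rfl⟩, ?_⟩
    rw [Category.assoc, Iso.inv_comp_eq, Scheme.Hom.isoImage_hom_ι_assoc, Category.assoc,
      Category.assoc, GrothLib.AicCover.chart_π,
      ← IsAffineOpen.SpecMap_appLE_fromSpec g hU hW hWU, ← Spec.map_comp_assoc, ← hφ',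
      Spec.map_comp_assoc, Scheme.Opens.toSpecΓ_SpecMap_presheaf_map_assoc, Spec.map_comp_assoc]
    simp [φRX]
    congr 1
    exact toSpecΓ_SpecMap_ΓSpecIso_inv_assoc _ _

end Groth.Agent.S1378
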