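import Groth.Statements.S0416
import Groth.Agent.Lib.Frob.Basic
import Mathlib.AlgebraicGeometry.Morphisms.Affine

set_option autoImplicit false
universe u
open FlatMor

namespace Groth.Agent.S0416

open AlgebraicGeometry CategoryTheory Limits in
/-- When a composite of two morphisms is a universal homeomorphism and so is either factor, the
remaining factor is a universal homeomorphism as well. -/
theorem result {X Y Z : Scheme.{u}} (g : X ⟶ Y) (h : Y ⟶ Z) :
    (FlatMor.IsUnivHomeo (g ≫ h) → FlatMor.IsUnivHomeo g → FlatMor.IsUnivHomeo h) ∧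
    (FlatMor.IsUnivHomeo (g ≫ h) → FlatMor.IsUnivHomeo h → FlatMor.IsUnivHomeo g) := by
  refine ⟨fun hgh hg => ?_, fun hgh hh => ?_⟩
  · intro Y' Z' i₁ i₂ h' hsq
    have hp := (IsPullback.of_hasPullback i₁ g).flip
    have h1 := hg _ _ _ hp.flip
    have h2 := hgh _ _ _ ((IsPullback.of_hasPullback i₁ g).paste_horiz hsq)
    refine isHomeomorph_iff_continuous_isClosedMap_bijective.mpr
      ⟨h'.continuous, fun s hs => ?_, ⟨fun a b hab => ?_, fun z => ?_⟩⟩
    · have := h2.isClosedMap _ (hs.preimage h1.continuous)
      rw [Scheme.Hom.comp_base, TopCat.coe_comp, Set.image_comp,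
        Set.image_preimage_eq _ h1.surjective] at this
      exact this
    · obtain ⟨a, rfl⟩ := h1.surjective a
      obtain ⟨b, rfl⟩ := h1.surjective b
      exact congrArg _ (h2.injective (by simpa using hab))
    · obtain ⟨x, hx⟩ := h2.surjective z
      exact ⟨_, (by simpa using hx)⟩
  · have hh' := GrothLib.Frob.isHomeomorph_of h hh
    haveI : IsAffineHom h := isAffineHom_of_isInducing h hh'.isInducing
      (by rw [hh'.surjective.range_eq]; exact isClosed_univ)
    exact GrothLib.Frob.isUnivHomeo_of_comp_right g h hgh hh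

end Groth.Agent.S0416
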