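import Groth.Statements.S0422
import Groth.Agent.Lib.FibreFlat.Global
-- import your own Groth.Agent.* helpers here

set_option autoImplicit false
universe u
open FlatMor

namespace Groth.Agent.S0422

open TensorProduct in
/-- Fibrewise criterion of flatness modulo a locally nilpotent ideal: let R → S be of finite type, S' an
S-algebra which is of finite presentation over R, I an ideal of R all of whose elements are
nilpotent, and M a finitely presented S'-module which is flat over R and such that M/IM is flat over
S/IS. Then M is flat over S. (The published statement also asserts flatness over R of suitable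
localizations of S; that part is not stated here.) -/
theorem result {R S S' M : Type u} [CommRing R] [CommRing S] [CommRing S'] [Algebra R S] [Algebra S S'] [Algebra R S'] [IsScalarTower R S S']
    [Algebra.FiniteType R S] [Algebra.FinitePresentation R S'] (I : Ideal R) (hI : ∀ a ∈ I, IsNilpotent a)
    [AddCommGroup M] [Module S' M] [Module S M] [Module R M] [IsScalarTower S S' M] [IsScalarTower R S M]
    [Module.FinitePresentation S' M] [Module.Flat R M]
    (h : Module.Flat (S ⧸ I.map (algebraMap R S)) ((S ⧸ I.map (algebraMap R S)) ⊗[S] M)) : Module.Flat S M := by
    refine GrothLib.FibreFlat.flat_of_fibres (R := R) (S' := S') fun p _ => ?_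
    let J := I.map (algebraMap R S)
    let Q := S ⊗[R] p.ResidueField
    have hJ : ∀ a ∈ J, algebraMap S Q a = 0 := by
      intro a ha
      induction ha using Submodule.span_induction with
      | mem a ha =>
        obtain ⟨i, hi, rfl⟩ := ha
        have h0 : algebraMap R p.ResidueField i = 0 :=
          (Ideal.algebraMap_residueField_eq_zero).mpr (Ideal.IsPrime.mem_of_pow_mem inferInstance _
            (((hI i hi).choose_spec).symm ▸ zero_mem p))
        rw [← IsScalarTower.algebraMap_apply R S Q, IsScalarTower.algebraMap_apply R S Q]
        show (algebraMap R S i) ⊗ₜ[R] (1 : p.ResidueField) = 0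
        rw [Algebra.algebraMap_eq_smul_one, TensorProduct.smul_tmul, ← Algebra.algebraMap_eq_smul_one,
          h0, TensorProduct.tmul_zero]
      | zero => exact map_zero _
      | add a b _ _ ha hb => rw [map_add, ha, hb, add_zero]
      | smul c a _ ha => rw [smul_eq_mul, map_mul, ha, mul_zero]
    letI : Algebra (S ⧸ J) Q := (Ideal.Quotient.lift J (algebraMap S Q) hJ).toAlgebra
    haveI : IsScalarTower S (S ⧸ J) Q := IsScalarTower.of_algebraMap_eq fun x => rfl
    haveI := h
    exact Module.Flat.of_linearEquiv
      (TensorProduct.AlgebraTensorModule.cancelBaseChange S (S ⧸ J) Q Q M).symm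

end Groth.Agent.S0422
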