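import Groth.Statements.S0425
import Groth.Agent.Lib.WeakEtale.Basic
-- import your own Groth.Agent.* helpers here

set_option autoImplicit false
universe u
open FlatMor

namespace Groth.Agent.S0425

open AlgebraicGeometry CategoryTheory Limits in
/-- A weakly étale universal homeomorphism is an isomorphism. -/
theorem result {X Y : Scheme.{u}} (f : X ⟶ Y) [WeaklyEtale f] (h : FlatMor.IsUnivHomeo f) : IsIso f := by
  have hh : IsHomeomorph f :=
    MorphismProperty.universally_le (topologically fun f => IsHomeomorph f) _ h
  haveI : Surjective f := ⟨hh.surjective⟩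
  haveI : QuasiCompact f := ⟨fun U _ hc => hh.homeomorph.isCompact_preimage.mpr hc⟩
  haveI : UniversallyInjective f := ⟨fun X' Y' f' g' g'' hsq => (h f' g' g'' hsq).injective⟩
  exact GrothLib.WeakEtale.isIso_of_weaklyEtale f

end Groth.Agent.S0425
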