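import Groth.Statements.S0429
import Groth.Agent.Lib.RG6.Open
-- import your own Groth.Agent.* helpers here

set_option autoImplicit false
universe u
open FlatMor

namespace Groth.Agent.S0429

open AlgebraicGeometry CategoryTheory Limits in
/-- A flat morphism locally of finite type to an integral scheme is locally of finite presentation. -/
theorem result {X S : Scheme.{u}} (f : X ⟶ S) [IsIntegral S] [Flat f] [LocallyOfFiniteType f] : LocallyOfFinitePresentation f := by
    refine ⟨fun {U} hU {V} hV e => ?_⟩
    have hflat : (f.appLE U V e).hom.Flat := Scheme.Hom.flat_appLE f hU hV e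
    have hft : (f.appLE U V e).hom.FiniteType := Scheme.Hom.finiteType_appLE f hU hV e
    algebraize [(f.appLE U V e).hom]
    have hR : (FlatCA.weakAss Γ(S, U) Γ(S, U)).Finite := by
      rcases subsingleton_or_nontrivial Γ(S, U) with h | h
      · refine Set.finite_empty.subset ?_
        rintro p ⟨x, hx⟩
        exact hx.1.1.ne_top ((Ideal.eq_top_iff_one p).2 (Subsingleton.elim (0 : Γ(S, U)) 1 ▸ zero_mem p))
      · haveI : Nonempty U := by
          by_contra hne
          rw [not_nonempty_iff] at hne
          have hUb : U = ⊥ := by
            ext x
            exact ⟨fun hx => (hne.false ⟨x, hx⟩).elim, fun hx => hx.elim⟩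
          subst hUb
          exact not_subsingleton Γ(S, (⊥ : S.Opens)) inferInstance
        exact GrothLib.RG6.finite_weakAss_domain
    exact GrothLib.RG6.fp_algebra_of_flat hR

end Groth.Agent.S0429
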