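import Groth.Statements.S0432
import Groth.Agent.Lib.Pushout6.Exists
-- import your own Groth.Agent.* helpers here

set_option autoImplicit false
universe u
open FlatMor

namespace Groth.Agent.S0432

open AlgebraicGeometry CategoryTheory Limits in
/-- The pushout of two closed immersions Z → X and Z → Y exists in schemes, both maps into it are closed
immersions and the square is cartesian. -/
theorem result {X Y Z : Scheme.{u}} (i : Z ⟶ X) (j : Z ⟶ Y) [IsClosedImmersion i] [IsClosedImmersion j] :
    ∃ (P : Scheme.{u}) (a : X ⟶ P) (b : Y ⟶ P), IsPushout i j a b ∧ IsPullback i j a b ∧ IsClosedImmersion a ∧ IsClosedImmersion b := by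
  have hC := GrothLib.Pushout6.covered_of_integral i j fun y => by
    by_cases h : ∃ z, j z = y
    · obtain ⟨z, rfl⟩ := h
      obtain ⟨_, ⟨U, hU, rfl⟩, hzU, -⟩ :=
        X.isBasis_affineOpens.exists_subset_of_mem_open (Set.mem_univ (i z)) isOpen_univ
      exact ⟨U, hU, fun z' hz' => by
        show i z' ∈ U
        rw [j.isClosedEmbedding.injective hz']
        exact hzU⟩
    · exact ⟨⊥, isAffineOpen_bot X, fun z hz => absurd ⟨z, hz⟩ h⟩
  exact ⟨_, _, _, GrothLib.Pushout6.isPushout hC, GrothLib.Pushout6.isPullback hC,
    GrothLib.Pushout6.isClosedImmersion_inl hC, GrothLib.Pushout6.isClosedImmersion_inr hC⟩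

end Groth.Agent.S0432
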