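import Groth.Statements.S0433
import Groth.Agent.Lib.Misc6.AffinePushout
-- import your own Groth.Agent.* helpers here

set_option autoImplicit false
universe u
open FlatMor

namespace Groth.Agent.S0433

open AlgebraicGeometry CategoryTheory Limits in
/-- For a surjective ring map A' → A and any ring map B → A, the spectra of A, A', B and of the fibre
product ring B ×_A A' form a pushout square of schemes. -/
theorem result {A A' B : Type u} [CommRing A] [CommRing A'] [CommRing B] (p : A' →+* A) (hp : Function.Surjective p) (q : B →+* A) :
    IsPushout (Spec.map (CommRingCat.ofHom p)) (Spec.map (CommRingCat.ofHom q))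
      (Spec.map (pullback.snd (CommRingCat.ofHom q) (CommRingCat.ofHom p)))
      (Spec.map (pullback.fst (CommRingCat.ofHom q) (CommRingCat.ofHom p))) := by
  refine GrothLib.Misc6.isPushout_spec ?_
  let f := CommRingCat.ofHom q
  let g := CommRingCat.ofHom p
  have hl := IsPullback.of_hasPullback f g
  have hT := hl.map (forget CommRingCat)
  refine ⟨congrArg CommRingCat.Hom.hom hl.w, fun x h1 h2 => ?_, fun b a hba => ?_, hp⟩
  · exact Limits.Types.ext_of_isPullback hT
      (y₁ := ((0 : ↑(Limits.pullback f g)) : (forget CommRingCat).obj (Limits.pullback f g)))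
      (h1.trans (map_zero (Limits.pullback.fst f g).hom).symm) (h2.trans (map_zero (Limits.pullback.snd f g).hom).symm)
  · exact ((Limits.Types.isPullback_iff _ _ _ _).mp hT).2.2 b a hba

end Groth.Agent.S0433
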