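import Groth.Statements.S0436
import Groth.Agent.Lib.RedSpec6.DVR
-- import your own Groth.Agent.* helpers here

set_option autoImplicit false
universe u
open FlatMor

namespace Groth.Agent.S0436

open AlgebraicGeometry CategoryTheory Limits in
/-- For a proper flat morphism to the spectrum of a discrete valuation ring whose special fibre is
reduced, both the total space and the generic fibre are reduced. (The published statement is
stronger: instead of flatness it only needs every irreducible component of the total space to
dominate the base.) -/
theorem result {R : Type u} [CommRing R] [IsDomain R] [IsDiscreteValuationRing R] {X : Scheme.{u}}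
    (f : X ⟶ Spec (CommRingCat.of R)) [IsProper f] [Flat f]
    (hred : IsReduced (f.fiber (IsLocalRing.closedPoint R))) :
    IsReduced X ∧ IsReduced (f.fiber (⟨⊥, Ideal.isPrime_bot⟩ : PrimeSpectrum R)) := by
    exact GrothLib.RedSpec6.isReduced_and_generic f hred

end Groth.Agent.S0436
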