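import Groth.Statements.S0443
import Mathlib.RingTheory.Ideal.GoingUp
import Mathlib.AlgebraicGeometry.Morphisms.Finite
-- import your own Groth.Agent.* helpers here

set_option autoImplicit false
universe u
open FlatMor

namespace Groth.Agent.S0443

open AlgebraicGeometry CategoryTheory Limits in
/-- For a finite morphism π : X → Y and a point x of X that is the only point of its fibre, the induced
homomorphism of local rings O_{Y,π(x)} → O_{X,x} is finite. (The published lemma has further parts,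
not stated here.) -/
theorem result {X Y : Scheme.{u}} (π : X ⟶ Y) [IsFinite π] (x : X) (hx : ∀ x' : ↑X, π x' = π x → x' = x) :
    (π.stalkMap x).hom.Finite := by
  obtain ⟨_, ⟨(U : Y.Opens), hU, rfl⟩, hxU, -⟩ :=
    Y.isBasis_affineOpens.exists_subset_of_mem_open (Set.mem_univ (π x)) isOpen_univ
  set W := π ⁻¹ᵁ U
  have hW : IsAffineOpen W := hU.preimage π
  have hfin : (π.appLE U W le_rfl).hom.Finite := by
    rw [← Scheme.Hom.app_eq_appLE]; exact π.finite_app U hU
  refine (RingHom.finite_respectsIso.arrow_mk_iso_iff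
    (IsAffineOpen.arrowStalkMapIso π U hU W hW le_rfl hxU)).mpr ?_
  set φ := π.appLE U W le_rfl
  set q := hW.primeIdealOf ⟨x, hxU⟩
  set p := hU.primeIdealOf ⟨π x, hxU⟩
  have hpq : q.asIdeal.comap φ.hom = p.asIdeal :=
    congr($(IsAffineOpen.comap_primeIdealOf_appLE U hU W hW le_rfl hxU).1)
  have huniq : ∀ Q : Ideal Γ(X, W), ∀ hQ : Q.IsPrime, Q.comap φ.hom = p.asIdeal → Q = q.asIdeal := by
    intro Q hQ hQp
    let Q' : PrimeSpectrum Γ(X, W) := ⟨Q, hQ⟩
    have h1 : π (hW.fromSpec Q') = π x := by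
      rw [← Scheme.Hom.comp_apply, ← hU.SpecMap_appLE_fromSpec π hW le_rfl, Scheme.Hom.comp_apply,
        show Spec.map φ Q' = p from PrimeSpectrum.ext hQp]
      exact hU.fromSpec_primeIdealOf ⟨π x, hxU⟩
    have h2 : hW.fromSpec Q' = hW.fromSpec q := by
      rw [hx _ h1, hW.fromSpec_primeIdealOf]
    exact congrArg PrimeSpectrum.asIdeal (hW.fromSpec.isOpenEmbedding.injective h2)
  letI := φ.hom.toAlgebra
  haveI : Module.Finite Γ(Y, U) Γ(X, W) := hfin
  haveI : Algebra.IsIntegral Γ(Y, U) Γ(X, W) := inferInstance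
  have key : ∀ s ∈ q.asIdeal.primeCompl, ∃ b : Γ(X, W), ∃ t ∈ p.asIdeal.primeCompl,
      s * b = φ.hom t := by
    intro s hs
    by_contra! hne
    obtain ⟨Q, hQ, hsQ, hdisj⟩ := Ideal.exists_le_prime_disjoint (Ideal.span {s})
      (p.asIdeal.primeCompl.map φ.hom) (Set.disjoint_left.mpr fun z hz hz' => by
        obtain ⟨b, rfl⟩ := Ideal.mem_span_singleton'.mp hz
        obtain ⟨t, ht, heq⟩ := hz'
        exact hne b t ht (by rw [mul_comm]; exact heq.symm))
    obtain ⟨Q', hQQ', hQ', hQ'p⟩ := Ideal.exists_ideal_over_prime_of_isIntegral p.asIdeal Q (by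
      intro a ha
      by_contra hna
      exact Set.disjoint_left.mp hdisj ha ⟨a, hna, rfl⟩)
    exact hs (huniq Q' hQ' hQ'p ▸ hQQ' (hsQ (Ideal.subset_span rfl)))
  let loc := Localization.localRingHom p.asIdeal q.asIdeal φ.hom hpq.symm
  show loc.Finite
  letI := loc.toAlgebra
  obtain ⟨t, ht⟩ := Module.Finite.fg_top (R := Γ(Y, U)) (M := Γ(X, W))
  classical
  refine ⟨⟨t.image (algebraMap _ (Localization.AtPrime q.asIdeal)), eq_top_iff.mpr fun z _ => ?_⟩⟩
  obtain ⟨⟨a, s, hs⟩, rfl⟩ : ∃ as : Γ(X, W) × q.asIdeal.primeCompl,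
      IsLocalization.mk' (Localization.AtPrime q.asIdeal) as.1 as.2 = z := by
    obtain ⟨a, s, rfl⟩ := IsLocalization.exists_mk'_eq q.asIdeal.primeCompl z
    exact ⟨⟨a, s⟩, rfl⟩
  obtain ⟨b, u, hu, hsu⟩ := key s hs
  have hmem : ∀ c : Γ(X, W), algebraMap _ (Localization.AtPrime q.asIdeal) c ∈
      Submodule.span (Localization.AtPrime p.asIdeal)
        (↑(t.image (algebraMap _ (Localization.AtPrime q.asIdeal))) : Set _) := by
    intro c
    have hc : c ∈ Submodule.span Γ(Y, U) (t : Set Γ(X, W)) := ht ▸ Submodule.mem_top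
    induction hc using Submodule.span_induction with
    | mem c hc => exact Submodule.subset_span (Finset.mem_coe.mpr (Finset.mem_image_of_mem _ hc))
    | zero => simp
    | add _ _ _ _ h1 h2 => rw [map_add]; exact add_mem h1 h2
    | smul r c _ h1 =>
      rw [Algebra.smul_def, map_mul, RingHom.algebraMap_toAlgebra φ.hom, show algebraMap _ (Localization.AtPrime q.asIdeal) (φ.hom r) =
        loc (algebraMap _ _ r) from (Localization.localRingHom_to_map _ _ _ _ r).symm]
      exact Submodule.smul_mem _ (algebraMap _ _ r) h1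
  have hz : IsLocalization.mk' (Localization.AtPrime q.asIdeal) a ⟨s, hs⟩ =
      loc (IsLocalization.mk' _ 1 (⟨u, hu⟩ : p.asIdeal.primeCompl)) * algebraMap _ _ (a * b) := by
    rw [Localization.localRingHom_mk', map_one, IsLocalization.mk'_eq_iff_eq_mul,
      mul_assoc, ← map_mul, show a * b * s = a * φ.hom u by rw [← hsu]; ring, map_mul,
      mul_left_comm, IsLocalization.mk'_spec, map_one, mul_one]
  rw [hz]
  exact Submodule.smul_mem _ _ (hmem _)

end Groth.Agent.S0443
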