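import Groth.Statements.S0445
import Mathlib.AlgebraicGeometry.Morphisms.FormallyUnramified
import Mathlib.AlgebraicGeometry.ResidueField
-- import your own Groth.Agent.* helpers here

set_option autoImplicit false
universe u
open FlatMor CategoryTheory CategoryTheory.Limits AlgebraicGeometry

namespace Groth.Agent.S0445

open AlgebraicGeometry CategoryTheory Limits in
/-- Two morphisms over S into an S-scheme unramified over S which agree at a point and induce the same
map on residue fields there agree on an open neighbourhood of that point. -/
theorem result {X Y S : Scheme.{u}} (p : Y ⟶ S) [FormallyUnramified p] [LocallyOfFiniteType p] (f g : X ⟶ Y) (hfg : f ≫ p = g ≫ p)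
    (x : X) (h1 : f x = g x) (h2 : f.residueFieldMap x = (Y.residueFieldCongr h1).hom ≫ g.residueFieldMap x) :
    ∃ U : X.Opens, x ∈ U ∧ U.ι ≫ f = U.ι ≫ g := by
  haveI : IsOpenImmersion (pullback.diagonal p) := inferInstance
  refine ⟨(pullback.lift f g hfg) ⁻¹ᵁ (pullback.diagonal p).opensRange, ?_, ?_⟩
  · have key : X.fromSpecResidueField x ≫ f = X.fromSpecResidueField x ≫ g := by
      rw [← Scheme.Hom.SpecMap_residueFieldMap_fromSpecResidueField, ← Scheme.Hom.SpecMap_residueFieldMap_fromSpecResidueField, h2,
        Spec.map_comp, Category.assoc, Scheme.residueFieldCongr_fromSpecResidueField]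
    have e : X.fromSpecResidueField x ≫ pullback.lift f g hfg = (X.fromSpecResidueField x ≫ f) ≫ pullback.diagonal p := by
      apply pullback.hom_ext
      · rw [Category.assoc, Category.assoc, pullback.diagonal_fst, pullback.lift_fst, Category.assoc]; simp
      · rw [Category.assoc, Category.assoc, pullback.diagonal_snd, pullback.lift_snd]; simp [key]
    show pullback.lift f g hfg x ∈ Set.range (pullback.diagonal p)
    have hx : x ∈ Set.range (X.fromSpecResidueField x) := by rw [Scheme.range_fromSpecResidueField]; rfl
    obtain ⟨t, ht⟩ := hx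
    refine ⟨(X.fromSpecResidueField x ≫ f) t, ?_⟩
    rw [← Scheme.Hom.comp_apply, ← e, Scheme.Hom.comp_apply, ht]
  · set U := (pullback.lift f g hfg) ⁻¹ᵁ (pullback.diagonal p).opensRange
    have hr : Set.range (U.ι ≫ pullback.lift f g hfg) ⊆ Set.range (pullback.diagonal p) := by
      rintro _ ⟨z, rfl⟩
      rw [Scheme.Hom.comp_apply]
      exact z.2
    have := IsOpenImmersion.lift_fac (pullback.diagonal p) (U.ι ≫ pullback.lift f g hfg) hr
    have h1' := congr($this ≫ pullback.fst p p)
    have h2' := congr($this ≫ pullback.snd p p)
    simp only [Category.assoc, pullback.diagonal_fst, pullback.diagonal_snd, pullback.lift_fst, pullback.lift_snd, Category.comp_id] at h1' h2'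
    exact h1'.symm.trans h2'

end Groth.Agent.S0445
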