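import Groth.Statements.S0446
import Groth.Agent.Lib.RGProj13.SchemeChart
-- import your own Groth.Agent.* helpers here

set_option autoImplicit false
universe u
open FlatMor

namespace Groth.Agent.S0446

open AlgebraicGeometry CategoryTheory Limits in
/-- For a morphism locally of finite presentation which is flat at a point x, there are affine étale
neighbourhoods (X', x') of (X, x) and (S', s') of (S, f x) with trivial residue field extensions and
a compatible morphism X' → S' such that the ring of global sections of X' is a projective module
over that of S'. -/
theorem result {X S : Scheme.{u}} (f : X ⟶ S) [LocallyOfFinitePresentation f] (x : X) (hx : (f.stalkMap x).hom.Flat) :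
    ∃ (X' S' : Scheme.{u}) (g : X' ⟶ X) (e : S' ⟶ S) (f' : X' ⟶ S') (x' : X'),
      IsAffine X' ∧ IsAffine S' ∧ Etale g ∧ Etale e ∧ g ≫ f = f' ≫ e ∧ g x' = x ∧ e (f' x') = f x ∧
      Function.Surjective (g.residueFieldMap x') ∧ Function.Surjective (e.residueFieldMap (f' x')) ∧
      @Module.Projective Γ(S', ⊤) _ Γ(X', ⊤) _ (f'.appTop).hom.toAlgebra.toModule := by
  exact GrothLib.RGProj13.exists_projective_chart f x hx

end Groth.Agent.S0446
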