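import Groth.Statements.S0448
import Groth.Agent.Lib.Flatness.InjMod
import Mathlib.LinearAlgebra.TensorProduct.Prod

set_option autoImplicit false
universe u
open FlatMor TensorProduct

namespace Groth.Agent.S0448

theorem flat_prod {R A B : Type u} [CommRing R] [AddCommGroup A] [Module R A] [Module.Flat R A]
    [AddCommGroup B] [Module R B] [Module.Flat R B] : Module.Flat R (A × B) := by
  rw [Module.Flat.iff_rTensor_preserves_injective_linearMap]
  intro P Q _ _ _ _ f hf
  intro x y hxy
  apply (TensorProduct.prodRight R R P A B).injective
  have key : ∀ z : P ⊗[R] (A × B), TensorProduct.prodRight R R Q A B (f.rTensor (A × B) z) =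
      Prod.map (f.rTensor A) (f.rTensor B) (TensorProduct.prodRight R R P A B z) := fun z => by
    induction z using TensorProduct.induction_on with
    | zero => ext <;> simp
    | add a b ha hb => simp only [map_add, ha, hb]; ext <;> simp
    | tmul p ab => obtain ⟨a, b⟩ := ab; simp
  exact (Module.Flat.rTensor_preserves_injective_linearMap f hf).prodMap
    (Module.Flat.rTensor_preserves_injective_linearMap f hf) (by rw [← key, ← key, hxy])


open TensorProduct in
/-- Over a local ring, a linear map from a projective module to a flat module which is injective modulo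
the maximal ideal is universally injective (injective after tensoring with any module). -/
theorem result {R M N : Type u} [CommRing R] [IsLocalRing R] [AddCommGroup M] [Module R M] [Module.Projective R M]
    [AddCommGroup N] [Module R N] [Module.Flat R N] (u : M →ₗ[R] N)
    (h : Function.Injective (LinearMap.lTensor (IsLocalRing.ResidueField R) u)) :
    ∀ (Q : Type u) [AddCommGroup Q] [Module R Q], Function.Injective (LinearMap.rTensor Q u) := by
  classical
  obtain ⟨s, hs⟩ := Module.projective_lifting_property
    (Finsupp.linearCombination R (id : M → M)) LinearMap.id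
    (fun m => ⟨Finsupp.single m 1, by simp⟩)
  let p := Finsupp.linearCombination R (id : M → M)
  let N' := N × (M →₀ R)
  let u' : (M →₀ R) →ₗ[R] N' := (u ∘ₗ p).prod (LinearMap.id - s ∘ₗ p)
  have hps : ∀ m, p (s m) = m := fun m => LinearMap.congr_fun hs m
  have hu' : Function.Injective (u'.lTensor (IsLocalRing.ResidueField R)) := by
    rw [injective_iff_map_eq_zero]
    intro x hx
    have h1 := congrArg ((LinearMap.fst R N (M →₀ R)).lTensor (IsLocalRing.ResidueField R)) hx
    have h2 := congrArg ((LinearMap.snd R N (M →₀ R)).lTensor (IsLocalRing.ResidueField R)) hx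
    rw [← LinearMap.lTensor_comp_apply, map_zero] at h1 h2
    rw [LinearMap.fst_prod, LinearMap.lTensor_comp_apply] at h1
    have h3 : p.lTensor (IsLocalRing.ResidueField R) x = 0 := h (h1.trans (map_zero _).symm)
    rw [LinearMap.snd_prod, LinearMap.lTensor_sub, LinearMap.sub_apply, LinearMap.lTensor_id_apply,
      LinearMap.lTensor_comp_apply, h3, map_zero, sub_zero] at h2
    exact h2
  let v : M → N' := fun m => u' (Finsupp.single m 1)
  have hcomb : ∀ x, Finsupp.linearCombination R v x = u' x := fun x => by
    induction x using Finsupp.induction_linear with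
    | zero => simp
    | add a b ha hb => simp only [map_add, ha, hb]
    | single m c =>
      rw [Finsupp.linearCombination_single, ← map_smul, Finsupp.smul_single, smul_eq_mul, mul_one]
  have hv : LinearIndependent (IsLocalRing.ResidueField R)
      (TensorProduct.mk R (IsLocalRing.ResidueField R) N' 1 ∘ v) := by
    let hb := (Finsupp.basisSingleOne (R := R) (ι := M)).baseChange (IsLocalRing.ResidueField R)
    have := hb.linearIndependent.map' (u'.baseChange (IsLocalRing.ResidueField R))
      (LinearMap.ker_eq_bot.mpr hu')
    have e : ⇑(TensorProduct.mk R (IsLocalRing.ResidueField R) N' 1) ∘ v =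
        ⇑(u'.baseChange (IsLocalRing.ResidueField R)) ∘ ⇑hb := by
      ext m <;> simp [v, hb]
    rw [e]
    exact this
  haveI : Module.Flat R N' := flat_prod
  have huniv := (GrothLib.Flatness.flat_coker_of_forall_mem u' fun J x hx => by
    have hmem := GrothLib.Flatness.mem_smul_top_of_linearIndependent v hv J x (by rwa [hcomb])
    rw [← x.sum_single]
    refine Submodule.sum_mem _ fun m _ => ?_
    rw [← mul_one (x m), ← smul_eq_mul, ← Finsupp.smul_single]
    exact Submodule.smul_mem_smul (hmem m) trivial).2.2
  intro Q _ _
  rw [← LinearMap.lTensor_inj_iff_rTensor_inj]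
  intro a b hab
  have hus : u' ∘ₗ s = LinearMap.inl R N (M →₀ R) ∘ₗ u := by
    refine LinearMap.ext fun m => Prod.ext ?_ ?_
    · show u (p (s m)) = u m
      rw [hps]
    · show s m - s (p (s m)) = 0
      rw [hps, sub_self]
  have h4 := congrArg ((LinearMap.inl R N (M →₀ R)).lTensor Q) hab
  rw [← LinearMap.lTensor_comp_apply, ← LinearMap.lTensor_comp_apply, ← hus,
    LinearMap.lTensor_comp_apply, LinearMap.lTensor_comp_apply] at h4
  have h5 := congrArg (p.lTensor Q) (huniv Q h4)
  rwa [← LinearMap.lTensor_comp_apply, ← LinearMap.lTensor_comp_apply, hs,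
    LinearMap.lTensor_id_apply, LinearMap.lTensor_id_apply] at h5

end Groth.Agent.S0448
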