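import Groth.Statements.S0456
import Groth.Agent.Lib.SheafCoh.TopPush
-- import your own Groth.Agent.* helpers here

set_option autoImplicit false
universe u
open CategoryTheory
open CohTop

namespace Groth.Agent.S0456

open CategoryTheory.Limits in
/-- For a continuous map f and a flasque abelian sheaf F on the source, R^(q+1) f_* F = 0. -/
theorem result {X Y : TopCat.{u}} (f : X ⟶ Y) (F : CohTop.Ab X)
    [TopCat.Sheaf.IsFlasque F] (q : ℕ) : IsZero ((CohTop.Rpush f (q + 1)).obj F) := GrothLib.SheafCoh.flasque_Rpush_isZero f F q

end Groth.Agent.S0456
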