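import Groth.Statements.S0460
import Groth.Agent.Lib.SheafCoh.Acyclic
-- import your own Groth.Agent.* helpers here

set_option autoImplicit false
universe u
open CategoryTheory
open CohTop

namespace Groth.Agent.S0460

open TopologicalSpace in
/-- Given an abelian sheaf F, an open U and a class ξ in H^(n+1)(U, F), there is an open covering of U
on each member of which ξ restricts to zero. -/
theorem result {X : TopCat.{u}} (F : CohTop.Ab X) (U : Opens X) (n : ℕ)
    (ξ : CohTop.HU F (n + 1) U) :
    ∃ (ι : Type u) (V : ι → Opens X) (hV : ∀ i, V i ≤ U), iSup V = U ∧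
      ∀ i, CohTop.res F (n + 1) (hV i) ξ = 0 := by
  obtain ⟨S, hS, h⟩ :=
    GrothLib.SheafCoh.exists_cover_res_eq_zero (J := Opens.grothendieckTopology X) F U n ξ
  have hx : ∀ x : (U : Set X), ∃ (W : TopologicalSpace.Opens X) (f : W ⟶ U), S f ∧ x.1 ∈ W :=
    fun x => hS x.1 x.2
  choose W f hf hm using hx
  refine ⟨(U : Set X), W, fun x => leOfHom (f x), ?_, fun x => h (f x) (hf x)⟩
  refine le_antisymm (iSup_le fun x => leOfHom (f x)) fun x hxU => ?_
  exact TopologicalSpace.Opens.mem_iSup.2 ⟨⟨x, hxU⟩, hm _⟩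

end Groth.Agent.S0460
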