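import Groth.Statements.S0461
import Groth.Agent.Lib.SheafCoh.TopPush
-- import your own Groth.Agent.* helpers here

set_option autoImplicit false
universe u
open CategoryTheory
open CohTop

namespace Groth.Agent.S0461

open TopologicalSpace in
/-- For a continuous map f : X → Y and an abelian sheaf F on X, R^i f_* F is isomorphic to the
sheafification of the presheaf V ↦ H^i(f⁻¹(V), F) (with the restriction maps of cohomology). We
assert the existence of an isomorphism of sheaves. -/
theorem result {X Y : TopCat.{u}} (f : X ⟶ Y) (F : CohTop.Ab X) (i : ℕ) :
    Nonempty ((CohTop.Rpush f i).obj F ≅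
      (presheafToSheaf (Opens.grothendieckTopology Y) AddCommGrpCat.{u}).obj
        ((Opens.map f).op ⋙ Sheaf.cohomologyPresheaf.{u} F i)) := ⟨GrothLib.SheafCoh.topRpushIso f F i⟩

end Groth.Agent.S0461
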