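import Groth.Statements.S0480
import Groth.Agent.Lib.HoCat.KInjective
import Mathlib.Algebra.Homology.Double

set_option autoImplicit false
universe v u
open CategoryTheory
open CohDer

namespace Groth.Agent.S0480

open CategoryTheory.Limits in
/-- In an abelian category, if the product of a family of K-injective cochain complexes exists (it is
then the termwise product), it is again K-injective. -/
theorem result {A : Type u} [Category.{v} A] [Abelian A] {T : Type v} (I : T → CochainComplex A ℤ)
    [HasProduct I] (h : ∀ t, (I t).IsKInjective) : (∏ᶜ I).IsKInjective := by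
  have hev : ∀ n, PreservesLimit (Discrete.functor I)
      (HomologicalComplex.eval A (ComplexShape.up ℤ) n) := fun n => by
    let r := fun Y : A => HomologicalComplex.evalCompCoyonedaCorepresentable (ComplexShape.up ℤ) Y n
    refine preservesLimit_of_preserves_limit_cone (productIsProduct I)
      ((isLimitMapConeFanMkEquiv _ _ _).symm (Fan.IsLimit.mk _
        (fun s => (r s.pt).homEquiv (Pi.lift fun t => (r s.pt).homEquiv.symm (s.proj t)))
        (fun s t => ?_) (fun s m hm => ?_)))
    · exact ((r s.pt).homEquiv_comp (Pi.π I t) _).symm.trans
        ((congrArg _ (Pi.lift_π _ t)).trans ((r s.pt).homEquiv.apply_symm_apply _))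
    · refine (r s.pt).homEquiv.symm.injective ?_
      erw [Equiv.symm_apply_apply]
      refine Pi.hom_ext _ _ fun t => (r s.pt).homEquiv.injective ?_
      rw [Pi.lift_π]
      erw [(r s.pt).homEquiv_comp (Pi.π I t), Equiv.apply_symm_apply, Equiv.apply_symm_apply]
      exact hm t
  exact GrothLib.HoCat.isKInjective_pi I h

end Groth.Agent.S0480
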