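import Groth.Statements.S0481
import Groth.Agent.Lib.HoCat.KInjective

set_option autoImplicit false
universe v u
open CategoryTheory
open CohDer

namespace Groth.Agent.S0481

open CategoryTheory.Limits in
/-- Let u : A ⥤ B be right adjoint to an exact additive functor w : B ⥤ A between abelian categories.
Then u applied termwise sends K-injective complexes to K-injective complexes. -/
theorem result {A : Type u} [Category.{v} A] [Abelian A]
    {B : Type u} [Category.{v} B] [Abelian B] (u : A ⥤ B) (w : B ⥤ A) (adj : w ⊣ u)
    [u.Additive] [w.Additive] [PreservesFiniteLimits w] [PreservesFiniteColimits w]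
    (I : CochainComplex A ℤ) (h : I.IsKInjective) :
    CochainComplex.IsKInjective ((u.mapHomologicalComplex (ComplexShape.up ℤ)).obj I) := by
  exact GrothLib.HoCat.isKInjective_map_of_rightAdjoint u w adj I h

end Groth.Agent.S0481
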