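import Groth.Statements.S0482
import Groth.Agent.Lib.SheafCoh.Push
import Groth.Agent.Lib.SheafCoh.Terminal
-- import your own Groth.Agent.* helpers here

set_option autoImplicit false
universe u
open CategoryTheory
open CohSite

namespace Groth.Agent.S0482

/-- For a sheaf of abelian groups F on a small site and an object U, H^n(U, F) (Ext out of the free
abelian sheaf on U) is isomorphic to the cohomology of the restriction of F to the site of objects
over U (existence of a group isomorphism). -/
theorem result {C : Type u} [SmallCategory C] (J : GrothendieckTopology C)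
    (F : Sheaf J AddCommGrpCat.{u}) (U : C) (n : ℕ) :
    Nonempty (CohSite.HU F n U ≃+ Sheaf.H.{u} (F.over U) n) := by
  obtain ⟨e⟩ := GrothLib.SheafCoh.nonempty_HU_push_addEquiv (J := J) (J.over U) (Over.forget U)
    (fun I hI => @GrothLib.SheafCoh.injective_over _ _ U J I hI) F (Over.mk (𝟙 U)) n
  exact ⟨e.symm.trans (GrothLib.SheafCoh.HEquivHU (F.over U) n Over.mkIdTerminal).symm⟩

end Groth.Agent.S0482
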