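import Groth.Statements.S0488
import Groth.Agent.Lib.SheafCoh.OverLan
import Groth.Agent.Lib.HoCat.KInjective
import Mathlib.Topology.Sheaves.Over
-- import your own Groth.Agent.* helpers here

set_option autoImplicit false
universe u
open CohTop
open CategoryTheory

namespace Groth.Agent.S0488

open TopologicalSpace in
/-- For an open U of X, restriction to U sends K-injective complexes of abelian sheaves on X to
K-injective complexes on U. -/
theorem result {X : TopCat.{u}} (U : Opens X) (I : CochainComplex (CohTop.Ab X) ℤ)
    (h : I.IsKInjective) :
    CochainComplex.IsKInjective (((CohTop.restrFunctor U).mapHomologicalComplex (ComplexShape.up ℤ)).obj I) := by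
  let J := Opens.grothendieckTopology X
  let G := (CategoryTheory.Over.forget U).sheafPushforwardContinuous AddCommGrpCat.{u} (J.over U) J
  let L := (CategoryTheory.Over.forget U).sheafPullback AddCommGrpCat.{u} (J.over U) J
  let adj : L ⊣ G := (CategoryTheory.Over.forget U).sheafAdjunctionContinuous AddCommGrpCat.{u} (J.over U) J
  have := GrothLib.SheafCoh.preservesFiniteLimits_sheafPullback_forget U J
  let e := U.sheafEquivOver (A := AddCommGrpCat.{u})
  let adj' : e.inverse ⋙ L ⊣ CohTop.restrFunctor U :=
    (e.symm.toAdjunction.comp adj).ofNatIsoRight (U.overPullbackSheafEquivOver (A := AddCommGrpCat.{u}))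
  have hl : Limits.PreservesFiniteLimits (e.inverse ⋙ L) := inferInstance
  have : Limits.PreservesColimitsOfSize.{0, 0} (e.inverse ⋙ L) := adj'.leftAdjoint_preservesColimits
  have : Limits.PreservesFiniteColimits (e.inverse ⋙ L) := Limits.PreservesColimitsOfSize.preservesFiniteColimits _
  have : (e.inverse ⋙ L).Additive := adj'.left_adjoint_additive
  exact GrothLib.HoCat.isKInjective_map_of_rightAdjoint (CohTop.restrFunctor U) (e.inverse ⋙ L) adj' I h

end Groth.Agent.S0488
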