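import Groth.Statements.S0489
import Mathlib

set_option autoImplicit false
universe v u
open CategoryTheory
open CohDer

namespace Groth.Agent.S0489

open CategoryTheory Limits Opposite in
open CochainComplex.HomComplex in
/-- Adjusting a null-homotopy along a degreewise split epimorphism. -/
theorem adjust {A : Type u} [Category.{v} A] [Abelian A] {K P Q : CochainComplex A ℤ}
    [Q.IsKInjective] (hK : K.Acyclic) (t : P ⟶ Q) (ht : ∀ m, IsSplitEpi (t.f m)) (f : K ⟶ P)
    (h : Cochain K P (-1)) (hh : δ (-1) 0 h = Cochain.ofHom f)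
    (k : Cochain K Q (-1)) (hk : δ (-1) 0 k = Cochain.ofHom (f ≫ t)) :
    ∃ h' : Cochain K P (-1), δ (-1) 0 h' = Cochain.ofHom f ∧
      h'.comp (Cochain.ofHom t) (add_zero _) = k := by
  obtain ⟨β, hβ⟩ := CochainComplex.IsKInjective.eq_δ_of_cocycle
    (Cocycle.mk (h.comp (Cochain.ofHom t) (add_zero _) - k) 0 (by omega)
      (by rw [δ_sub, δ_comp_ofHom, hh, hk, Cochain.ofHom_comp, sub_self])) hK (-2) (by omega)
  let β' : Cochain K P (-2) :=
    Cochain.mk fun p q hpq => β.v p q hpq ≫ (haveI := ht q; section_ (t.f q))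
  have hβ' : β'.comp (Cochain.ofHom t) (add_zero _) = β := by
    ext p q hpq
    haveI := ht q
    simp [β']
  refine ⟨h - δ (-2) (-1) β', ?_, ?_⟩
  · rw [δ_sub, δ_δ, sub_zero, hh]
  · rw [Cochain.sub_comp, ← δ_comp_ofHom, hβ', hβ, Cocycle.mk_coe, sub_sub_cancel]

open CategoryTheory.Limits Opposite in
/-- Let … → I_3 → I_2 → I_1 be an inverse system of K-injective cochain complexes in an abelian category
with sequential limits, such that each transition map is a split epimorphism in each degree. Then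
the (termwise) limit complex is K-injective. -/
theorem result {A : Type u} [Category.{v} A] [Abelian A] [HasLimitsOfShape ℕᵒᵖ A]
    (I : ℕᵒᵖ ⥤ CochainComplex A ℤ) (h1 : ∀ n : ℕ, (I.obj (op n)).IsKInjective)
    (h2 : ∀ (n : ℕ) (m : ℤ), IsSplitEpi ((I.map (homOfLE (Nat.le_succ n)).op).f m)) :
    (limit I).IsKInjective := by
  classical
  refine ⟨fun {K} f hK => ?_⟩
  let π : ∀ n : ℕ, limit I ⟶ I.obj (op n) := fun n => limit.π I (op n)
  let t : ∀ n : ℕ, I.obj (op (n + 1)) ⟶ I.obj (op n) := fun n =>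
    I.map (homOfLE (Nat.le_succ n)).op
  have ex0 : ∀ n, ∃ h : CochainComplex.HomComplex.Cochain K (I.obj (op n)) (-1),
      CochainComplex.HomComplex.δ (-1) 0 h =
        CochainComplex.HomComplex.Cochain.ofHom (f ≫ π n) := fun n => by
    haveI := h1 n
    obtain ⟨ho⟩ := CochainComplex.IsKInjective.nonempty_homotopy_zero (f ≫ π n) hK
    obtain ⟨z, hz⟩ := CochainComplex.HomComplex.Cochain.equivHomotopy _ _ ho
    exact ⟨z, by simpa [CochainComplex.HomComplex.Cochain.ofHom_zero] using hz.symm⟩
  let Hn := fun n => { h : CochainComplex.HomComplex.Cochain K (I.obj (op n)) (-1) //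
    CochainComplex.HomComplex.δ (-1) 0 h =
      CochainComplex.HomComplex.Cochain.ofHom (f ≫ π n) }
  have hπ : ∀ n, π (n + 1) ≫ t n = π n := fun n => limit.w I _
  have step : ∀ n (k : Hn n), ∃ k' : Hn (n + 1),
      k'.1.comp (CochainComplex.HomComplex.Cochain.ofHom (t n)) (add_zero _) = k.1 := by
    intro n k
    obtain ⟨h, hh⟩ := ex0 (n + 1)
    haveI := h1 n
    obtain ⟨h', h₁, h₂⟩ := adjust hK (t n) (h2 n) (f ≫ π (n + 1)) h hh k.1
      (by rw [Category.assoc, hπ]; exact k.2)
    exact ⟨⟨h', h₁⟩, h₂⟩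
  choose next hnext using step
  let H : ∀ n, Hn n := fun n => Nat.rec ⟨_, (ex0 0).choose_spec⟩ (fun m k => next m k) n
  have hH : ∀ n, (H (n + 1)).1.comp (CochainComplex.HomComplex.Cochain.ofHom (t n)) (add_zero _) =
      (H n).1 := fun n => hnext n (H n)
  let ev : ℤ → _ := fun q => HomologicalComplex.eval A (ComplexShape.up ℤ) q
  have hlim : ∀ q : ℤ, IsLimit ((ev q).mapCone (limit.cone I)) := fun q =>
    isLimitOfPreserves _ (limit.isLimit I)
  have hv : ∀ (p q : ℤ) (hpq : p + -1 = q) (n : ℕ),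
      (H (n + 1)).1.v p q hpq ≫ (t n).f q = (H n).1.v p q hpq := fun p q hpq n => by
    rw [← hH n]; simp
  let c : ∀ (p q : ℤ) (hpq : p + -1 = q), Cone (I ⋙ ev q) := fun p q hpq =>
    { pt := K.X p
      π := NatTrans.ofOpSequence (fun n => (H n).1.v p q hpq) (fun n => by
        simpa [ev, t] using! (hv p q hpq n).symm) }
  let g : CochainComplex.HomComplex.Cochain K (limit I) (-1) :=
    CochainComplex.HomComplex.Cochain.mk fun p q hpq => (hlim q).lift (c p q hpq)
  have hg : ∀ n, g.comp (CochainComplex.HomComplex.Cochain.ofHom (π n)) (add_zero _) = (H n).1 := by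
    intro n
    ext p q hpq
    simp only [g, CochainComplex.HomComplex.Cochain.comp_zero_cochain_v,
      CochainComplex.HomComplex.Cochain.ofHom_v, CochainComplex.HomComplex.Cochain.mk_v]
    exact (hlim q).fac (c p q hpq) (op n)
  refine ⟨(CochainComplex.HomComplex.Cochain.equivHomotopy f 0).symm ⟨g, ?_⟩⟩
  rw [CochainComplex.HomComplex.Cochain.ofHom_zero, add_zero]
  apply CochainComplex.HomComplex.Cochain.ext₀
  intro p
  refine (hlim p).hom_ext fun j => ?_
  obtain ⟨n⟩ := j
  have := congrArg (fun z => CochainComplex.HomComplex.Cochain.v z p p (add_zero p))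
    ((congrArg (CochainComplex.HomComplex.δ (-1) 0) (hg n)).trans (H n).2)
  simp only [CochainComplex.HomComplex.δ_comp_ofHom,
    CochainComplex.HomComplex.Cochain.comp_zero_cochain_v,
    CochainComplex.HomComplex.Cochain.ofHom_v, HomologicalComplex.comp_f] at this
  simpa [ev, π] using! this.symm

end Groth.Agent.S0489
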