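import Groth.Statements.S0491
import Groth.Agent.Lib.SheafCoh.ModUnit
-- import your own Groth.Agent.* helpers here

set_option autoImplicit false
universe u
open CategoryTheory
open CohSite

namespace Groth.Agent.S0491

/-- For a sheaf of rings O on a small site and an O-module M, the Ext groups Ext^n_O(O, M) in the
category of O-modules (= H^n(C, M) computed with O-module injective resolutions) are isomorphic to
H^n of the underlying abelian sheaf of M (existence of a group isomorphism). The Ext instance on
O-modules is taken as a hypothesis. -/
theorem result {C : Type u} [SmallCategory C] (J : GrothendieckTopology C)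
    (R : Sheaf J RingCat.{u}) [HasExt.{u} (SheafOfModules.{u} R)] (M : SheafOfModules.{u} R) (n : ℕ) :
    Nonempty (Abelian.Ext (SheafOfModules.unit R) M n ≃+ Sheaf.H.{u} ((SheafOfModules.toSheaf R).obj M) n) := GrothLib.SheafCoh.nonempty_ext_unit_addEquiv R M n

end Groth.Agent.S0491
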