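import Groth.Statements.S0492
import Groth.Agent.Lib.SheafCoh.WeaklyContractible
import Mathlib.CategoryTheory.Abelian.GrothendieckAxioms.Basic
import Mathlib.Algebra.Category.Grp.AB
import Mathlib.CategoryTheory.Limits.Preserves.Limits
-- import your own Groth.Agent.* helpers here

set_option autoImplicit false
universe u
open CategoryTheory
open CohSite

namespace Groth.Agent.S0492

open CategoryTheory.Limits in
/-- Part (4), for sheaves of abelian groups: let B be a set of weakly contractible objects of a small
site such that every object admits a covering family by members of B. Then products in the category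
of abelian sheaves are exact (Grothendieck's AB4*). -/
theorem result {C : Type u} [SmallCategory C] (J : GrothendieckTopology C)
    (B : Set C) (hB : ∀ U ∈ B, CohSite.IsWeaklyContractible J U)
    (hcov : ∀ V : C, ∃ (ι : Type u) (U : ι → C) (f : ∀ i, U i ⟶ V), (∀ i, U i ∈ B) ∧ Sieve.ofArrows U f ∈ J V) :
    AB4Star (Sheaf J AddCommGrpCat.{u}) := by
  refine ⟨fun α => ⟨?_⟩⟩
  let L : (Discrete α ⥤ Sheaf J AddCommGrpCat.{u}) ⥤ Sheaf J AddCommGrpCat.{u} := lim
  haveI : L.IsRightAdjoint := ⟨_, ⟨constLimAdj⟩⟩
  haveI : PreservesLimitsOfSize.{0, 0} L := (Adjunction.ofIsRightAdjoint L).rightAdjoint_preservesLimits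
  haveI : L.Additive := Functor.additive_of_preserves_binary_products L
  haveI : L.PreservesEpimorphisms := ⟨fun {P Q} φ hφ => by
    rw [← Sheaf.isLocallySurjective_iff_epi']
    refine ⟨fun {V} z => ?_⟩
    obtain ⟨ι, U, f, hU, hJ⟩ := hcov V
    have hsurj : ∀ i, Function.Surjective ((L.map φ).hom.app (Opposite.op (U i))) := fun i => by
      let G := GrothLib.SheafCoh.sectFunctor J (U i)
      haveI : ∀ a, Epi ((Functor.whiskerRight φ G).app a) := fun a => by
        haveI : Epi (φ.app a) := inferInstance
        exact (AddCommGrpCat.epi_iff_surjective _).2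
          (GrothLib.SheafCoh.sections_surjective_of_weaklyContractible (hB _ (hU i)) (φ.app a))
      haveI : Epi (Functor.whiskerRight φ G) := NatTrans.epi_of_epi_app _
      haveI : Epi ((lim (J := Discrete α) (C := AddCommGrpCat.{u})).map (Functor.whiskerRight φ G)) :=
        inferInstance
      have hn : G.map (L.map φ) ≫ (preservesLimitNatIso G).hom.app Q =
          (preservesLimitNatIso G).hom.app P ≫ lim.map (Functor.whiskerRight φ G) :=
        (preservesLimitNatIso G).hom.naturality φ
      have : G.map (L.map φ) = (preservesLimitNatIso G).hom.app P ≫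
          lim.map (Functor.whiskerRight φ G) ≫ (preservesLimitNatIso G).inv.app Q := by
        rw [← reassoc_of% hn, Iso.hom_inv_id_app]
        exact (Category.comp_id _).symm
      haveI : Epi (G.map (L.map φ)) := by
        rw [this]
        infer_instance
      exact (AddCommGrpCat.epi_iff_surjective _).1 ‹Epi (G.map (L.map φ))›
    refine J.superset_covering ?_ hJ
    rintro W g ⟨T, a, b, hb, rfl⟩
    obtain ⟨i⟩ := hb
    obtain ⟨s, hs⟩ := hsurj i ((L.obj Q).obj.map (f i).op z)
    refine ⟨(L.obj P).obj.map a.op s, ?_⟩
    rw [NatTrans.naturality_apply, op_comp, Functor.map_comp_apply]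
    exact congrArg ((L.obj Q).obj.map a.op) hs⟩
  haveI := Functor.preservesHomology_of_preservesEpis_and_kernels L
  exact Functor.preservesFiniteColimits_of_preservesHomology L

end Groth.Agent.S0492
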