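import Groth.Statements.S0495
import Groth.Agent.Lib.Hensel.Local
import Mathlib.RingTheory.KrullDimension.Zero
-- import your own Groth.Agent.* helpers here

set_option autoImplicit false
universe u
open Hensel

namespace Groth.Agent.S0495

/-- A local ring whose Krull dimension is zero is henselian. -/
theorem result (R : Type u) [CommRing R] [IsLocalRing R]
    (h : ringKrullDim R = 0) : HenselianLocalRing R := by
  refine GrothLib.Hensel.henselianLocalRing_of_henselianRing
    (GrothLib.Hensel.henselianRing_of_isNilpotent _ fun x hx => ?_)
  have : Ring.KrullDimLE 0 R := Ring.krullDimLE_iff.mpr h.le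
  rw [← Ring.KrullDimLE.nilradical_eq_maximalIdeal, mem_nilradical] at hx
  exact hx
end Groth.Agent.S0495
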