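import Groth.Statements.S0498
import Groth.Agent.Lib.Hensel.LocalFactor
-- import your own Groth.Agent.* helpers here

set_option autoImplicit false
universe u
open Hensel

namespace Groth.Agent.S0498

/-- Over a henselian local ring, a simple root in the residue field of the reduction of an arbitrary
polynomial (monic or not) lifts to a root in the ring. -/
theorem result (R : Type u) [CommRing R] [HenselianLocalRing R]
    (f : Polynomial R) (a₀ : IsLocalRing.ResidueField R)
    (h₁ : Polynomial.eval₂ (IsLocalRing.residue R) a₀ f = 0)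
    (h₂ : Polynomial.eval₂ (IsLocalRing.residue R) a₀ (Polynomial.derivative f) ≠ 0) :
    ∃ a : R, Polynomial.IsRoot f a ∧ IsLocalRing.residue R a = a₀ := by
  set fk := Polynomial.map (IsLocalRing.residue R) f
  have h1 : Polynomial.IsRoot fk a₀ := by rw [Polynomial.IsRoot, Polynomial.eval_map]; exact h₁
  obtain ⟨q, hq⟩ := Polynomial.dvd_iff_isRoot.mpr h1
  have hq0 : q.eval a₀ ≠ 0 := by
    intro hz
    apply h₂
    rw [← Polynomial.eval_map, ← Polynomial.derivative_map]
    show Polynomial.eval a₀ (Polynomial.derivative fk) = 0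
    rw [hq]; simp [hz]
  have hc : IsCoprime (Polynomial.X - Polynomial.C a₀) q :=
    (Polynomial.irreducible_X_sub_C a₀).coprime_iff_not_dvd.mpr
      (by rw [Polynomial.dvd_iff_isRoot]; exact hq0)
  obtain ⟨g, k, hfg, hg, hgm, -⟩ := GrothLib.Hensel.exists_factor_lift_local f _ q
    (Polynomial.monic_X_sub_C a₀) hc hq
  have hdeg : g.natDegree = 1 := by
    have := congrArg Polynomial.natDegree hgm
    rwa [hg.natDegree_map, Polynomial.natDegree_X_sub_C] at this
  have hgX := hg.eq_X_add_C hdeg
  refine ⟨-g.coeff 0, ?_, ?_⟩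
  · rw [hfg, hgX]; simp [Polynomial.IsRoot]
  · have := congrArg (fun p => Polynomial.coeff p 0) hgm
    simp only [Polynomial.coeff_map, Polynomial.coeff_sub, Polynomial.coeff_X_zero,
      Polynomial.coeff_C_zero, zero_sub] at this
    rw [map_neg, this, neg_neg]
end Groth.Agent.S0498
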