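import Groth.Statements.S0502
import Groth.Agent.Lib.Hensel.LocalCriteria
-- import your own Groth.Agent.* helpers here

set_option autoImplicit false
universe u
open Hensel

namespace Groth.Agent.S0502

/-- A local ring `R` is henselian as soon as every étale `R`-algebra having a prime over the maximal
ideal with trivial residue field extension admits an `R`-algebra retraction to `R`. -/
theorem result (R : Type u) [CommRing R] [IsLocalRing R]
    (h : ∀ (S : Type u) [CommRing S] [Algebra R S] [Algebra.Etale R S] (q : Ideal S) [q.IsPrime],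
      q.LiesOver (IsLocalRing.maximalIdeal R) → Function.Surjective (algebraMap R q.ResidueField) →
      Nonempty (S →ₐ[R] R)) :
    HenselianLocalRing R := by
  refine GrothLib.Hensel.henselianLocalRing_of_retraction fun f hf a₀ h₁ h₂ => ?_
  let φ := (GrothLib.Hensel.pointPair f hf a₀).lift _ (GrothLib.Hensel.pointPair_hasMap f hf a₀ h₁ h₂)
  have hp : (RingHom.ker φ.toRingHom).IsPrime := RingHom.ker_isPrime _
  refine h _ (RingHom.ker φ.toRingHom) ⟨?_⟩ ?_
  · ext r
    rw [Ideal.under_def, Ideal.mem_comap]
    show _ ↔ φ (algebraMap R _ r) = 0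
    rw [φ.commutes, IsLocalRing.ResidueField.algebraMap_eq, IsLocalRing.residue_eq_zero_iff]
  · let ψ := Ideal.ResidueField.liftₐ (RingHom.ker φ.toRingHom) φ le_rfl
      (by intro x hx; exact isUnit_iff_ne_zero.mpr hx)
    intro y
    obtain ⟨r, hr⟩ := IsLocalRing.residue_surjective (ψ y)
    refine ⟨r, ψ.toRingHom.injective ?_⟩
    show ψ (algebraMap R _ r) = ψ y
    rw [ψ.commutes, IsLocalRing.ResidueField.algebraMap_eq, hr]
end Groth.Agent.S0502
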