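import Groth.Statements.S0516
import Groth.Agent.Lib.Hensel.LocalSplit
import Mathlib.FieldTheory.IsSepClosed
import Mathlib.RingTheory.Unramified.LocalRing
import Mathlib.RingTheory.Idempotents
import Mathlib.RingTheory.Nakayama
-- import your own Groth.Agent.* helpers here

set_option autoImplicit false
universe u
open Hensel

namespace Groth.Agent.S0516

/-- An unramified algebra `S` (formally unramified of finite type) over a strictly henselian local ring
`R` is isomorphic over `R` to a product of finitely many quotient rings of `R` and an `R`-algebra in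
which the maximal ideal of `R` generates the unit ideal. -/
theorem result (R : Type u) [CommRing R]
    [HenselianLocalRing R] [IsSepClosed (IsLocalRing.ResidueField R)] (S : Type u) [CommRing S] [Algebra R S]
    [Algebra.Unramified R S] :
    ∃ (ι : Type u) (_ : Fintype ι) (A : ι → Type u) (_ : ∀ i, CommRing (A i))
      (_ : ∀ i, Algebra R (A i)) (B : Type u) (_ : CommRing B) (_ : Algebra R B),
      (∀ i, Function.Surjective (algebraMap R (A i))) ∧
      Ideal.map (algebraMap R B) (IsLocalRing.maximalIdeal R) = ⊤ ∧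
      Nonempty (S ≃ₐ[R] ((∀ i, A i) × B)) := by
  classical
  obtain ⟨e, he, hfin, hnq⟩ := GrothLib.Hensel.exists_idem_finite_quasiFinite (R := R) (S := S)
  let F := S ⧸ Ideal.span ({1 - e} : Set S)
  let B := S ⧸ Ideal.span ({e} : Set S)
  have hFu : Algebra.FormallyUnramified R F :=
    Algebra.FormallyUnramified.of_surjective (Ideal.Quotient.mkₐ R _) Ideal.Quotient.mk_surjective
  have hBu : Algebra.FormallyUnramified R B :=
    Algebra.FormallyUnramified.of_surjective (Ideal.Quotient.mkₐ R _) Ideal.Quotient.mk_surjective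
  have hB : Ideal.map (algebraMap R B) (IsLocalRing.maximalIdeal R) = ⊤ := by
    by_contra hne
    obtain ⟨M, hM, hle⟩ := Ideal.exists_le_maximal _ hne
    have := hM.isPrime
    have : M.LiesOver (IsLocalRing.maximalIdeal R) :=
      ⟨(IsLocalRing.maximalIdeal.isMaximal R).eq_of_le (Ideal.comap_ne_top _ hM.ne_top)
        (Ideal.map_le_iff_le_comap.mp hle)⟩
    exact hnq M inferInstance inferInstance
  obtain ⟨_, ε, hε, -, -, hloc⟩ :=
    GrothLib.Hensel.exists_completeOrthogonalIdempotents_isLocalRing (R := R) (S := F)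
  have hsurj : ∀ i, Function.Surjective (algebraMap R (F ⧸ Ideal.span {1 - ε i})) := fun i ↦ by
    have := hloc i
    let T := F ⧸ Ideal.span {1 - ε i}
    have : Algebra.FormallyUnramified R T :=
      Algebra.FormallyUnramified.of_surjective (Ideal.Quotient.mkₐ R _) Ideal.Quotient.mk_surjective
    have : Module.Finite R T :=
      Module.Finite.of_surjective (Ideal.Quotient.mkₐ R _).toLinearMap Ideal.Quotient.mk_surjective
    have : IsLocalHom (algebraMap R T) := by
      refine ((IsLocalRing.local_hom_TFAE (algebraMap R T)).out 4 0 rfl rfl).mp ?_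
      exact ((GrothLib.Hensel.isMaximal_iff_liesOver (IsLocalRing.maximalIdeal T)).mp inferInstance).over.symm
    have hres := IsSepClosed.algebraMap_surjective (IsLocalRing.ResidueField R) (IsLocalRing.ResidueField T)
    refine LinearMap.surjective_of_surjective_comp_mkQ (Algebra.linearMap R T)
      (IsLocalRing.maximalIdeal R) (IsLocalRing.maximalIdeal_le_jacobson ⊥) fun y ↦ ?_
    obtain ⟨y, rfl⟩ := Submodule.Quotient.mk_surjective _ y
    obtain ⟨r, hr⟩ := hres (IsLocalRing.residue T y)
    obtain ⟨r, rfl⟩ := IsLocalRing.residue_surjective r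
    refine ⟨r, (Submodule.Quotient.eq _).mpr ?_⟩
    rw [Ideal.smul_top_eq_map, Algebra.FormallyUnramified.map_maximalIdeal]
    exact Ideal.Quotient.eq.mp hr
  let e1 : S ≃ₐ[R] F × B :=
    AlgEquiv.prodQuotientOfIsIdempotentElem R he.one_sub he (by simp) he.one_sub_mul_self
  let e2 : F ≃ₐ[R] ∀ i, F ⧸ Ideal.span {1 - ε i} :=
    AlgEquiv.ofBijective (AlgHom.pi fun i ↦ Ideal.Quotient.mkₐ R (Ideal.span {1 - ε i})) hε.bijective_pi
  exact ⟨MaximalSpectrum F, inferInstance, fun i ↦ F ⧸ Ideal.span {1 - ε i}, inferInstance, inferInstance,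
    B, inferInstance, inferInstance, hsurj, hB, ⟨e1.trans (AlgEquiv.prodCongr e2 AlgEquiv.refl)⟩⟩
end Groth.Agent.S0516
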