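import Groth.Statements.S0517
import Groth.Agent.Lib.Hensel.EssEtale
-- import your own Groth.Agent.* helpers here

set_option autoImplicit false
universe u
open Hensel

namespace Groth.Agent.S0517

/-- Given strictly henselian local rings `R` and `S`, a local ring map `φ` between them, and a square
system of `n` polynomial equations in `n` unknowns over `R` whose quotient algebra is étale over
`R`, applying `φ` coordinatewise matches the solutions of the system in `Rⁿ` bijectively with the
solutions of the transported system in `Sⁿ`. -/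
theorem result (R : Type u) [CommRing R]
    [HenselianLocalRing R] [IsSepClosed (IsLocalRing.ResidueField R)] (S : Type u) [CommRing S]
    [HenselianLocalRing S] [IsSepClosed (IsLocalRing.ResidueField S)] (φ : R →+* S) [IsLocalHom φ] (n : ℕ)
    (P : Fin n → MvPolynomial (Fin n) R)
    [Algebra.Etale R (MvPolynomial (Fin n) R ⧸ Ideal.span (Set.range P))] :
    Set.BijOn (fun r : Fin n → R => φ ∘ r)
      {r : Fin n → R | ∀ i, MvPolynomial.eval r (P i) = 0}
      {s : Fin n → S | ∀ i, MvPolynomial.eval s (MvPolynomial.map φ (P i)) = 0} := by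
  classical
  let _ : Algebra R S := φ.toAlgebra
  let E := MvPolynomial (Fin n) R ⧸ Ideal.span (Set.range P)
  let _ : Algebra (IsLocalRing.ResidueField R) (IsLocalRing.ResidueField S) :=
    (IsLocalRing.ResidueField.map φ).toAlgebra
  have : IsScalarTower R (IsLocalRing.ResidueField R) (IsLocalRing.ResidueField S) :=
    .of_algebraMap_eq fun r ↦ (IsLocalRing.ResidueField.map_residue φ r).symm
  have hev : ∀ (s : Fin n → S) (f : MvPolynomial (Fin n) R),
      MvPolynomial.aeval s f = MvPolynomial.eval s (MvPolynomial.map φ f) := fun s f ↦ by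
    rw [MvPolynomial.eval_map, MvPolynomial.aeval_def]; rfl
  refine ⟨fun r hr i ↦ ?_, fun r hr r' hr' h ↦ ?_, fun s hs ↦ ?_⟩
  · show MvPolynomial.eval (φ ∘ r) (MvPolynomial.map φ (P i)) = 0
    rw [MvPolynomial.eval_map, ← MvPolynomial.eval₂_comp, hr i, map_zero]
  · let hom : ∀ r : Fin n → R, (∀ i, MvPolynomial.eval r (P i) = 0) → (E →ₐ[R] R) := fun r hr ↦
      Ideal.Quotient.liftₐ _ (MvPolynomial.aeval r) (by
        show Ideal.span (Set.range P) ≤ RingHom.ker _
        rw [Ideal.span_le]
        rintro _ ⟨i, rfl⟩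
        exact hr i)
    suffices h' : hom r hr = hom r' hr' by
      funext i
      have := AlgHom.congr_fun h' (Ideal.Quotient.mk _ (MvPolynomial.X i))
      exact (MvPolynomial.aeval_X r i).symm.trans (this.trans (MvPolynomial.aeval_X r' i))
    refine GrothLib.Hensel.algHom_eq_of_sub_mem (I := IsLocalRing.maximalIdeal R)
      (IsLocalRing.maximalIdeal_le_jacobson ⊥) fun x ↦ ?_
    obtain ⟨x, rfl⟩ := Ideal.Quotient.mk_surjective x
    show MvPolynomial.aeval r x - MvPolynomial.aeval r' x ∈ _
    rw [← IsLocalRing.residue_eq_zero_iff, map_sub, sub_eq_zero]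
    apply (IsLocalRing.ResidueField.map φ).injective
    rw [IsLocalRing.ResidueField.map_residue, IsLocalRing.ResidueField.map_residue]
    congr 1
    rw [MvPolynomial.aeval_eq_eval, MvPolynomial.aeval_eq_eval, MvPolynomial.eval₂_comp,
      MvPolynomial.eval₂_comp, show φ ∘ r = φ ∘ r' from h]
  · let σ : E →ₐ[R] S := Ideal.Quotient.liftₐ _ (MvPolynomial.aeval s) (by
      show Ideal.span (Set.range P) ≤ RingHom.ker _
      rw [Ideal.span_le]
      rintro _ ⟨i, rfl⟩
      exact (hev s (P i)).trans (hs i))
    obtain ⟨σ₀, hσ₀⟩ := GrothLib.Hensel.exists_point_factor_of_isSepClosed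
      (K := IsLocalRing.ResidueField R) ((IsScalarTower.toAlgHom R S (IsLocalRing.ResidueField S)).comp σ)
    obtain ⟨τ, hτ, -⟩ := GrothLib.Hensel.existsUnique_lift_residue (S := R) σ₀.toRingHom σ₀.comp_algebraMap
    have hroot : ∀ i, MvPolynomial.eval (fun j ↦ τ (Ideal.Quotient.mk _ (MvPolynomial.X j))) (P i) = 0 := fun i ↦ by
      have h1 : τ.comp (Ideal.Quotient.mkₐ R _) =
          MvPolynomial.aeval fun j ↦ τ (Ideal.Quotient.mk _ (MvPolynomial.X j)) :=
        MvPolynomial.algHom_ext fun j ↦ (MvPolynomial.aeval_X (fun j ↦ τ (Ideal.Quotient.mk _ (MvPolynomial.X j))) j).symm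
      rw [← MvPolynomial.aeval_eq_eval, ← h1, AlgHom.comp_apply, Ideal.Quotient.mkₐ_eq_mk,
        Ideal.Quotient.eq_zero_iff_mem.mpr (Ideal.subset_span (Set.mem_range_self i)), map_zero]
    refine ⟨_, hroot, ?_⟩
    let τS : E →ₐ[R] S := (Algebra.ofId R S).comp τ
    suffices h : τS = σ by
      funext j
      have := AlgHom.congr_fun h (Ideal.Quotient.mk _ (MvPolynomial.X j))
      exact this.trans (MvPolynomial.aeval_X s j)
    refine GrothLib.Hensel.algHom_eq_of_sub_mem (I := IsLocalRing.maximalIdeal S)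
      (IsLocalRing.maximalIdeal_le_jacobson ⊥) fun x ↦ ?_
    rw [← IsLocalRing.residue_eq_zero_iff, map_sub, sub_eq_zero]
    show IsLocalRing.residue S (φ (τ x)) = _
    rw [← IsLocalRing.ResidueField.map_residue, hτ]
    exact hσ₀ x
end Groth.Agent.S0517
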