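import Groth.Statements.S0533
import Groth.Agent.Lib.Hensel.Properties
import Groth.Agent.Lib.Hensel.MultivarRoot
import Mathlib.RingTheory.TensorProduct.Quotient
-- import your own Groth.Agent.* helpers here

set_option autoImplicit false
universe u
open Hensel

namespace Groth.Agent.S0533

/-- If `A` is Henselian at `I`, base change to `A/I` gives a bijection between `A`-algebra maps of two
finite étale `A`-algebras and `A/I`-algebra maps of their reductions. -/
theorem result (A : Type u) [CommRing A] (I : Ideal A) [HenselianRing A I]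
    (B₁ B₂ : Type u) [CommRing B₁] [CommRing B₂] [Algebra A B₁] [Algebra A B₂]
    [Module.Finite A B₁] [Algebra.Etale A B₁] [Module.Finite A B₂] [Algebra.Etale A B₂] :
    Function.Bijective (fun φ : B₁ →ₐ[A] B₂ =>
      Algebra.TensorProduct.map (AlgHom.id (A ⧸ I) (A ⧸ I)) φ) := by
  have : HenselianRing B₂ (I.map (algebraMap A B₂)) :=
    GrothLib.Hensel.henselianRing_of_isIntegral I B₂
  let ρ : B₂ →ₐ[A] TensorProduct A (A ⧸ I) B₂ := Algebra.TensorProduct.includeRight
  let ε : (B₂ ⧸ I.map (algebraMap A B₂)) ≃ₐ[A] TensorProduct A (A ⧸ I) B₂ :=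
    (Algebra.TensorProduct.quotIdealMapEquivQuotTensor B₂ I).restrictScalars A
  have hε : ∀ b, ε (Ideal.Quotient.mk _ b) = ρ b := fun b ↦
    Algebra.TensorProduct.quotIdealMapEquivQuotTensor_mk B₂ I b
  have hmap : ∀ φ : B₁ →ₐ[A] B₂,
      ((Algebra.TensorProduct.map (AlgHom.id (A ⧸ I) (A ⧸ I)) φ).restrictScalars A).comp
        Algebra.TensorProduct.includeRight = ρ.comp φ := fun φ ↦ AlgHom.ext fun b ↦ by simp [ρ]
  refine ⟨fun φ ψ h ↦ ?_, fun χ ↦ ?_⟩
  · have h1 : ρ.comp φ = ρ.comp ψ := by rw [← hmap, ← hmap]; simp only at h; rw [h]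
    refine GrothLib.Hensel.algHom_eq_of_sub_mem (HenselianRing.jac (I := I.map (algebraMap A B₂)))
      fun x ↦ ?_
    rw [← Ideal.Quotient.eq]
    apply ε.injective
    rw [hε, hε]
    exact AlgHom.congr_fun h1 x
  · obtain ⟨φ, hφ⟩ := GrothLib.Hensel.exists_algHom_lift (R := A)
      (I := I.map (algebraMap A B₂))
      (ε.symm.toAlgHom.comp ((χ.restrictScalars A).comp Algebra.TensorProduct.includeRight))
    refine ⟨φ, Algebra.TensorProduct.ext (by ext) (AlgHom.ext fun b ↦ ?_)⟩
    have h1 := congrArg ε (AlgHom.congr_fun hφ b)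
    simp only [AlgHom.comp_apply, Ideal.Quotient.mkₐ_eq_mk, hε, AlgEquiv.coe_toAlgHom,
      AlgEquiv.apply_symm_apply, AlgHom.coe_restrictScalars'] at h1
    simpa [ρ] using h1
end Groth.Agent.S0533
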