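import Groth.Statements.S0520
import Groth.Agent.Lib.Hensel.Pair
-- import your own Groth.Agent.* helpers here

set_option autoImplicit false
universe u
open Hensel

namespace Groth.Agent.S0520

/-- A ring `A` is Henselian at an ideal `I` in Mathlib's sense (simple roots lift) exactly when `I` lies
in the Jacobson radical and every factorization of the reduction of a monic polynomial into two
comaximal monic factors over `A/I` lifts to a factorization into monic polynomials over `A`. -/
theorem result (A : Type u) [CommRing A] (I : Ideal A) :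
    HenselianRing A I ↔ (I ≤ Ideal.jacobson ⊥ ∧
      ∀ f : Polynomial A, f.Monic → ∀ g₀ h₀ : Polynomial (A ⧸ I), g₀.Monic → h₀.Monic →
        IsCoprime g₀ h₀ → Polynomial.map (Ideal.Quotient.mk I) f = g₀ * h₀ →
        ∃ g h : Polynomial A, g.Monic ∧ h.Monic ∧ f = g * h ∧
          Polynomial.map (Ideal.Quotient.mk I) g = g₀ ∧ Polynomial.map (Ideal.Quotient.mk I) h = h₀) := by
  constructor
  · intro _
    refine ⟨HenselianRing.jac, fun f hf g₀ h₀ hg hh hc he => ?_⟩
    obtain ⟨g, h, hg', hh', -, hfe, hgm, hhm⟩ :=
      GrothLib.Hensel.exists_factor_lift f hf g₀ h₀ hg hh hc he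
    exact ⟨g, h, hg', hh', hfe, hgm, hhm⟩
  · rintro ⟨hI, H⟩
    refine GrothLib.Hensel.henselianRing_of_rootCond hI fun n hn p hp hpI => ?_
    have hpm : Polynomial.map (Ideal.Quotient.mk I) p = 0 := by
      ext i; simpa using Ideal.Quotient.eq_zero_iff_mem.mpr (hpI i)
    nontriviality A
    rcases subsingleton_or_nontrivial (A ⧸ I) with hs | hs
    · rw [Ideal.Quotient.subsingleton_iff] at hs
      rw [hs, top_le_iff, Ideal.jacobson_eq_top_iff] at hI
      exact absurd hI bot_ne_top
    obtain ⟨g, h, hg, hh, he, hgm, hhm⟩ := H _ (GrothLib.Hensel.monic_rootPoly hp)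
      (Polynomial.X - 1) (Polynomial.X ^ n) (Polynomial.monic_X_sub_C 1) (Polynomial.monic_X_pow n)
      (IsCoprime.pow_right ⟨-1, 1, by ring⟩) (by simp [hpm]; ring)
    have hdeg : g.natDegree = 1 := by
      have := congrArg Polynomial.natDegree hgm
      rw [hg.natDegree_map, ← map_one (Polynomial.C : (A ⧸ I) →+* Polynomial (A ⧸ I)),
        Polynomial.natDegree_X_sub_C] at this
      exact this
    have hgX : g = Polynomial.X + Polynomial.C (g.coeff 0) := by
      exact hg.eq_X_add_C hdeg
    refine ⟨-g.coeff 0, ?_, ?_⟩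
    · rw [← Ideal.Quotient.eq_zero_iff_mem]
      have := congrArg (fun q => Polynomial.coeff q 0) hgm
      simp [Polynomial.coeff_one] at this
      simp [this]
    · rw [he, hgX]; simp [Polynomial.IsRoot]
end Groth.Agent.S0520
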