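import Groth.Statements.S0524
import Groth.Agent.Lib.Hensel.Pair
-- import your own Groth.Agent.* helpers here

set_option autoImplicit false
universe u
open Hensel

namespace Groth.Agent.S0524

/-- (1) iff (5) with the uniqueness complement: `A` is Henselian at `I` exactly when `I` lies in the
Jacobson radical and, for every `n ≥ 1` and every polynomial `p` of degree at most `n` with all
coefficients in `I`, the polynomial `Tⁿ(T-1) + p` has exactly one root congruent to `1` modulo `I`. -/
theorem result (A : Type u) [CommRing A] (I : Ideal A) :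
    HenselianRing A I ↔ (I ≤ Ideal.jacobson ⊥ ∧
      ∀ (n : ℕ), 0 < n → ∀ p : Polynomial A, p.natDegree ≤ n → (∀ i, p.coeff i ∈ I) →
        ∃! α : A, α - 1 ∈ I ∧
          Polynomial.IsRoot (Polynomial.X ^ n * (Polynomial.X - 1) + p) α) := by
  constructor
  · intro _
    refine ⟨HenselianRing.jac, fun n hn p hp hpI => ?_⟩
    obtain ⟨α, hα, hr⟩ := GrothLib.Hensel.rootCond_of_henselianRing I n hn p hp hpI
    refine ⟨α, ⟨hα, hr⟩, fun β hβ => ?_⟩
    obtain ⟨hβ1, hβ⟩ := hβ
    set f : Polynomial A := Polynomial.X ^ n * (Polynomial.X - 1) + p with hf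
    obtain ⟨c, hc⟩ := Polynomial.exists_mul_sq_add_linear_part_eq_eval_add f α (β - α)
    rw [add_sub_cancel, hβ.eq_zero, hr.eq_zero] at hc
    have hu : IsUnit (c * (β - α) + (Polynomial.derivative f).eval α) := by
      refine GrothLib.Hensel.isUnit_of_isUnit_mk (I := I) HenselianRing.jac ?_
      have h1 : Ideal.Quotient.mk I α = 1 := by
        rw [← map_one (Ideal.Quotient.mk I), Ideal.Quotient.eq]; exact hα
      have h2 : Ideal.Quotient.mk I β = 1 := by
        rw [← map_one (Ideal.Quotient.mk I), Ideal.Quotient.eq]; exact hβ1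
      have hpm : Polynomial.map (Ideal.Quotient.mk I) p = 0 := by
        ext i; simpa using Ideal.Quotient.eq_zero_iff_mem.mpr (hpI i)
      rw [map_add, map_mul, map_sub, h1, h2, ← Polynomial.eval₂_hom, ← Polynomial.eval_map,
        ← Polynomial.derivative_map, hf, Polynomial.map_add, hpm, h1]
      simp
    exact sub_eq_zero.mp (hu.mul_right_eq_zero.mp (by linear_combination hc))
  · rintro ⟨hI, H⟩
    refine GrothLib.Hensel.henselianRing_of_rootCond hI fun n hn p hp hpI => ?_
    exact (H n hn p hp hpI).exists
end Groth.Agent.S0524
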