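import Groth.Statements.S0529
import Groth.Agent.Lib.Hensel.Pair
import Mathlib.Algebra.Group.Pi.Units
-- import your own Groth.Agent.* helpers here

set_option autoImplicit false
universe u
open Hensel

namespace Groth.Agent.S0529

/-- A product of rings, with the product ideal, is Henselian exactly when every factor is Henselian at
its ideal. -/
theorem result (J : Type u) (A : J → Type u) [∀ j, CommRing (A j)]
    (I : ∀ j, Ideal (A j)) :
    HenselianRing (∀ j, A j) (⨅ j, Ideal.comap (Pi.evalRingHom A j) (I j)) ↔
      ∀ j, HenselianRing (A j) (I j) := by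
  have hmem : ∀ (x : ∀ j, A j),
      x ∈ (⨅ j, Ideal.comap (Pi.evalRingHom A j) (I j)) ↔ ∀ j, x j ∈ I j := by
    intro x; simp [Ideal.mem_iInf]
  classical
  constructor
  · intro h j
    have hjac : I j ≤ Ideal.jacobson ⊥ :=
      GrothLib.Hensel.le_jacobson_of_forall_isUnit_one_add fun a ha => by
        have hu := GrothLib.Hensel.isUnit_one_add_of_mem h.jac (a := Pi.single j a) ((hmem _).mpr fun k => by
          by_cases hk : k = j
          · subst hk; simpa using ha
          · simp [Pi.single_eq_of_ne hk])
        simpa using hu.map (Pi.evalRingHom A j)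
    refine ⟨hjac, fun f hf a₀ h₁ h₂ => ?_⟩
    refine GrothLib.Hensel.exists_root_of_exists_lift f hf a₀ h₁ h₂ fun σ => ?_
    refine GrothLib.Hensel.exists_lift_of_etale hjac (fun n hn p hp hpI => ?_) σ
    let p' : Polynomial (∀ k, A k) := ∑ i ∈ Finset.range (n + 1),
      Polynomial.monomial i (Pi.single j (p.coeff i))
    obtain ⟨α, hα, hroot⟩ := GrothLib.Hensel.rootCond_of_henselianRing
      (⨅ k, Ideal.comap (Pi.evalRingHom A k) (I k)) n hn p'
      (Polynomial.natDegree_sum_le_of_forall_le _ _ fun i hi =>
        (Polynomial.natDegree_monomial_le _).trans (Nat.lt_succ_iff.mp (Finset.mem_range.mp hi)))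
      (fun i => by
        simp only [p', Polynomial.finsetSum_coeff, Polynomial.coeff_monomial]
        refine Ideal.sum_mem _ fun l _ => ?_
        split_ifs with hl
        · exact (hmem _).mpr fun k => by
            by_cases hk : k = j
            · subst hk; simpa using hpI _
            · simp [Pi.single_eq_of_ne hk]
        · exact Ideal.zero_mem _)
    have hpmap : p'.map (Pi.evalRingHom A j) = p := by
      simp only [p', Polynomial.map_sum, Polynomial.map_monomial, Pi.evalRingHom_apply,
        Pi.single_eq_same]
      exact (p.as_sum_range' (n + 1) (Nat.lt_succ_of_le hp)).symm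
    refine ⟨α j, by simpa using (hmem _).mp hα j, ?_⟩
    have := congrArg (Pi.evalRingHom A j) hroot
    rw [← Polynomial.eval₂_hom, ← Polynomial.eval_map, map_zero, Polynomial.map_add, hpmap] at this
    simpa [Polynomial.IsRoot] using this
  · intro h
    have hjac : (⨅ j, Ideal.comap (Pi.evalRingHom A j) (I j)) ≤ Ideal.jacobson ⊥ :=
      GrothLib.Hensel.le_jacobson_of_forall_isUnit_one_add fun a ha =>
        Pi.isUnit_iff.mpr fun j => GrothLib.Hensel.isUnit_one_add_of_mem (h j).jac ((hmem a).mp ha j)
    refine ⟨hjac, fun f hf a₀ h₁ h₂ => ?_⟩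
    have hev : ∀ (g : Polynomial (∀ k, A k)) (x : ∀ k, A k) j,
        (g.map (Pi.evalRingHom A j)).eval (x j) = g.eval x j := by
      intro g x j
      rw [Polynomial.eval_map]
      exact Polynomial.eval₂_hom (Pi.evalRingHom A j) x
    have key : ∀ j, ∃ a, (f.map (Pi.evalRingHom A j)).IsRoot a ∧ a - a₀ j ∈ I j := fun j => by
      refine (h j).is_henselian _ (hf.map _) (a₀ j) (by rw [hev]; exact (hmem _).mp h₁ j) ?_
      have hu := (GrothLib.Hensel.isUnit_of_isUnit_mk hjac h₂).map (Pi.evalRingHom A j)
      rw [Polynomial.derivative_map, hev]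
      exact hu.map (Ideal.Quotient.mk (I j))
    choose a ha ha' using key
    exact ⟨a, funext fun j => by rw [← hev]; exact ha j, (hmem _).mpr ha'⟩
end Groth.Agent.S0529
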