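import Groth.Statements.S0532
import Groth.Agent.Lib.Hensel.FiniteEtaleLift
-- import your own Groth.Agent.* helpers here

set_option autoImplicit false
universe u
open Hensel

namespace Groth.Agent.S0532

/-- If `A` is Henselian at `I`, every finite étale `A/I`-algebra is the base change of a finite étale
`A`-algebra. -/
theorem result (A : Type u) [CommRing A] (I : Ideal A) [HenselianRing A I]
    (C : Type u) [CommRing C] [Algebra (A ⧸ I) C] [Module.Finite (A ⧸ I) C] [Algebra.Etale (A ⧸ I) C] :
    ∃ (B : Type u) (_ : CommRing B) (_ : Algebra A B), Module.Finite A B ∧ Algebra.Etale A B ∧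
      Nonempty (TensorProduct A (A ⧸ I) B ≃ₐ[A ⧸ I] C) := by
  exact GrothLib.Hensel.exists_finite_etale_lift I C
end Groth.Agent.S0532
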