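import Groth.Statements.S0535
import Mathlib.RingTheory.Nakayama
import Mathlib.LinearAlgebra.TensorProduct.Quotient
import Mathlib.RingTheory.Henselian
import Mathlib.RingTheory.FiniteType
-- import your own Groth.Agent.* helpers here

set_option autoImplicit false
universe u
open Hensel

namespace Groth.Agent.S0535

/-- If `R` is Henselian at `I` and two finitely generated projective `R`-modules become isomorphic after
base change to `R/I`, then they are isomorphic. -/
theorem result (R : Type u) [CommRing R] (I : Ideal R)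
    [HenselianRing R I] (P₁ P₂ : Type u) [AddCommGroup P₁] [Module R P₁] [AddCommGroup P₂]
    [Module R P₂] [Module.Finite R P₁] [Module.Projective R P₁] [Module.Finite R P₂]
    [Module.Projective R P₂]
    (e : TensorProduct R (R ⧸ I) P₁ ≃ₗ[R ⧸ I] TensorProduct R (R ⧸ I) P₂) :
    Nonempty (P₁ ≃ₗ[R] P₂) := by
  classical
  let q₁ : P₁ →ₗ[R] TensorProduct R (R ⧸ I) P₁ := TensorProduct.mk R (R ⧸ I) P₁ 1
  let q₂ : P₂ →ₗ[R] TensorProduct R (R ⧸ I) P₂ := TensorProduct.mk R (R ⧸ I) P₂ 1
  have hq₁ : Function.Surjective q₁ := TensorProduct.mk_surjective R P₁ (R ⧸ I) Ideal.Quotient.mk_surjective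
  have hq₂ : Function.Surjective q₂ := TensorProduct.mk_surjective R P₂ (R ⧸ I) Ideal.Quotient.mk_surjective
  obtain ⟨f, hf⟩ := Module.projective_lifting_property q₂ ((e.toLinearMap.restrictScalars R).comp q₁) hq₂
  obtain ⟨g, hg⟩ := Module.projective_lifting_property q₁ ((e.symm.toLinearMap.restrictScalars R).comp q₂) hq₁
  have hf' : ∀ x, q₂ (f x) = e (q₁ x) := LinearMap.congr_fun hf
  have hg' : ∀ x, q₁ (g x) = e.symm (q₂ x) := LinearMap.congr_fun hg
  have hker : ∀ {P : Type u} [AddCommGroup P] [Module R P] (x : P),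
      TensorProduct.mk R (R ⧸ I) P 1 x = 0 → x ∈ (I • ⊤ : Submodule R P) := fun x hx ↦ by
    have := congrArg (TensorProduct.quotTensorEquivQuotSMul _ I) hx
    rw [map_zero, TensorProduct.mk_apply, ← map_one (Ideal.Quotient.mk I),
      TensorProduct.quotTensorEquivQuotSMul_mk_tmul, one_smul] at this
    exact (Submodule.Quotient.mk_eq_zero _).mp this
  have hfs : Function.Surjective (f.comp g) := by
    refine LinearMap.surjective_of_surjective_comp_mkQ _ I HenselianRing.jac fun y ↦ ?_
    obtain ⟨y, rfl⟩ := Submodule.Quotient.mk_surjective _ y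
    refine ⟨y, (Submodule.Quotient.eq _).mpr (hker _ ?_)⟩
    show q₂ (f (g y) - y) = 0
    rw [map_sub, hf', hg', e.apply_symm_apply, sub_self]
  have hgs : Function.Surjective (g.comp f) := by
    refine LinearMap.surjective_of_surjective_comp_mkQ _ I HenselianRing.jac fun y ↦ ?_
    obtain ⟨y, rfl⟩ := Submodule.Quotient.mk_surjective _ y
    refine ⟨y, (Submodule.Quotient.eq _).mpr (hker _ ?_)⟩
    show q₁ (g (f y) - y) = 0
    rw [map_sub, hg', hf', e.symm_apply_apply, sub_self]
  have hgi := OrzechProperty.injective_of_surjective_endomorphism _ hgs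
  exact ⟨LinearEquiv.ofBijective f ⟨fun a b h ↦ hgi (congrArg g h), fun y ↦ by
    obtain ⟨x, hx⟩ := hfs y
    exact ⟨g x, hx⟩⟩⟩
end Groth.Agent.S0535
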