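import Groth.Statements.S0543
import Groth.Agent.Lib.AdicExtra.Completion
-- import your own Groth.Agent.* helpers here

set_option autoImplicit false
universe u
open CAlg

namespace Groth.Agent.S0543

/-- The completion of a Noetherian ring with respect to any ideal is Noetherian. -/
theorem result (R : Type u) [CommRing R] [IsNoetherianRing R]
    (I : Ideal R) : IsNoetherianRing (AdicCompletion I R) := by
  exact GrothLib.AdicExtra.isNoetherianRing_adicCompletion I

end Groth.Agent.S0543
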