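import Groth.Statements.S0546
import Groth.Agent.Lib.AdicExtra.Complete
-- import your own Groth.Agent.* helpers here

set_option autoImplicit false
universe u
open CAlg

namespace Groth.Agent.S0546

/-- If `I ≤ J` are ideals with `I` finitely generated and `M` is `J`-adically complete, then `M` is
`I`-adically complete. -/
theorem result (A : Type u) [CommRing A] (I J : Ideal A) (hIJ : I ≤ J)
    (hI : I.FG) (M : Type u) [AddCommGroup M] [Module A M] [IsAdicComplete J M] :
    IsAdicComplete I M := by
  exact GrothLib.AdicExtra.isAdicComplete_of_le hIJ hI

end Groth.Agent.S0546
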