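import Groth.Statements.S0548
import Groth.Agent.Lib.AdicExtra.Completion
-- import your own Groth.Agent.* helpers here

set_option autoImplicit false
universe u
open CAlg

namespace Groth.Agent.S0548

/-- A Noetherian local ring is regular exactly when its completion at the maximal ideal is a regular
local ring. -/
theorem result (A : Type u) [CommRing A] [IsLocalRing A]
    [IsNoetherianRing A] :
    IsRegularLocalRing A ↔ IsRegularLocalRing (AdicCompletion (IsLocalRing.maximalIdeal A) A) := by
  exact GrothLib.AdicExtra.isRegularLocalRing_adicCompletion_iff

end Groth.Agent.S0548
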