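import Groth.Statements.S0551
import Groth.Agent.S0542
import Groth.Agent.Lib.FlatComplete.Basic
-- import your own Groth.Agent.* helpers here

set_option autoImplicit false
universe u
open CAlg

namespace Groth.Agent.S0551

/-- Let `R` be a ring, `I` a finitely generated ideal with `R/I` Noetherian, and `M` an `R`-module such
that `M/IM` is flat over `R/I` and the multiplication map `I ⊗ M → M` is injective (the vanishing of
the first Tor of `M` against `R/I`). Then the `I`-adic completion of `M` is flat over the `I`-adic
completion of `R`. (The published statement also records that the completed ring is Noetherian; that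
is stated separately.) -/
theorem result (R : Type u) [CommRing R] (I : Ideal R) (hI : I.FG)
    [IsNoetherianRing (R ⧸ I)] (M : Type u) [AddCommGroup M] [Module R M]
    [Module.Flat (R ⧸ I) (M ⧸ (I • ⊤ : Submodule R M))]
    (hT : Function.Injective (TensorProduct.lift ((LinearMap.lsmul R M).comp (Submodule.subtype I)))) :
    Module.Flat (AdicCompletion I R) (AdicCompletion I M) := by
  set A := AdicCompletion I R
  haveI : IsNoetherianRing A := Groth.Agent.S0542.result R I hI
  haveI := AdicCompletion.isAdicComplete (M := M) hI
  haveI hc : IsAdicComplete (I.map (algebraMap R A)) (AdicCompletion I M) :=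
    (IsAdicComplete.map_algebraMap_iff I (S := A) (M := AdicCompletion I M)).2 inferInstance
  have h1 : Function.Injective (I.subtype.lTensor M) := by
    intro a b hab
    apply (TensorProduct.comm R M I).injective
    apply hT
    have key : ∀ z, TensorProduct.lift ((LinearMap.lsmul R M).comp (Submodule.subtype I)) (TensorProduct.comm R M I z) =
        TensorProduct.rid R M (I.subtype.lTensor M z) := fun z => by
      induction z using TensorProduct.induction_on with
      | zero => simp
      | tmul m i => simp
      | add a b ha hb => simp [map_add, ha, hb]
    rw [key, key, hab]
  have h2 : Module.Flat (R ⧸ I) (TensorProduct R (R ⧸ I) M) :=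
    Module.Flat.of_linearEquiv
      ((TensorProduct.quotTensorEquivQuotSMul M I).extendScalarsOfSurjective Ideal.Quotient.mk_surjective)
  exact GrothLib.FlatComplete.flat_of_levelTriv (I.map (algebraMap R A)) fun n =>
    GrothLib.FlatComplete.levelTriv_completion hI n (GrothLib.FlatComplete.flat_level I h1 h2 n)

end Groth.Agent.S0551
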