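import Groth.Statements.S0554
import Groth.Agent.Lib.Altitude.Basic
-- import your own Groth.Agent.* helpers here

set_option autoImplicit false
universe u
open CAlg

namespace Groth.Agent.S0554

/-- Let `R ⊆ S` be a finite type extension of domains with `R` Noetherian, `q` a prime of `S` over the
prime `p` of `R`. Then the height of `q` plus the transcendence degree of `S/q` over `R/p` (that of
the residue field extension) is at most the height of `p` plus the transcendence degree of `S` over
`R`. -/
theorem result (R : Type u) [CommRing R] [IsDomain R]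
    [IsNoetherianRing R] (S : Type u) [CommRing S] [IsDomain S] [Algebra R S]
    [FaithfulSMul R S] [Algebra.FiniteType R S] (p : Ideal R) [p.IsPrime] (q : Ideal S) [q.IsPrime]
    [q.LiesOver p] :
    (q.height : Cardinal.{u}) + Algebra.trdeg (R ⧸ p) (S ⧸ q) ≤
      (p.height : Cardinal.{u}) + Algebra.trdeg R S := by
  obtain ⟨t, s, ht, hs, hle, -⟩ := GrothLib.Altitude.height_add_trdeg R S p q
  rw [ht, hs]
  haveI : IsNoetherianRing S := Algebra.FiniteType.isNoetherianRing R S
  obtain ⟨a, ha⟩ := ENat.ne_top_iff_exists.1 (Ideal.height_ne_top (I := q) Ideal.IsPrime.ne_top')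
  obtain ⟨b, hb⟩ := ENat.ne_top_iff_exists.1 (Ideal.height_ne_top (I := p) Ideal.IsPrime.ne_top')
  rw [← ha, ← hb] at hle ⊢
  norm_cast at hle
  simp
  exact_mod_cast hle

end Groth.Agent.S0554
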