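import Groth.Statements.S0555
-- import your own Groth.Agent.* helpers here
import Groth.Agent.Lib.Altitude.Scheme

set_option autoImplicit false
universe u
open CAlg

namespace Groth.Agent.S0555

/-- In the situation of the dimension formula, if the Noetherian base ring is universally catenary then
equality holds. -/
theorem result (R : Type u) [CommRing R] [IsDomain R]
    (hR : CAlg.IsUniversallyCatenary R) (S : Type u) [CommRing S] [IsDomain S] [Algebra R S]
    [FaithfulSMul R S] [Algebra.FiniteType R S] (p : Ideal R) [p.IsPrime] (q : Ideal S) [q.IsPrime]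
    [q.LiesOver p] :
    (q.height : Cardinal.{u}) + Algebra.trdeg (R ⧸ p) (S ⧸ q) =
      (p.height : Cardinal.{u}) + Algebra.trdeg R S := by
  haveI : IsNoetherianRing R := hR.1
  obtain ⟨t, s, ht, hs, -, heq⟩ := GrothLib.Altitude.height_add_trdeg R S p q
  haveI : IsLocalization (⊥ : Submonoid R) R := IsLocalization.self bot_le
  have h := heq ⊥ R bot_le hR
  rw [ht, hs]
  haveI : IsNoetherianRing S := Algebra.FiniteType.isNoetherianRing R S
  obtain ⟨a, ha⟩ := ENat.ne_top_iff_exists.1 (Ideal.height_ne_top (I := q) Ideal.IsPrime.ne_top')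
  obtain ⟨b, hb⟩ := ENat.ne_top_iff_exists.1 (Ideal.height_ne_top (I := p) Ideal.IsPrime.ne_top')
  rw [← ha, ← hb] at h ⊢
  norm_cast at h
  simp
  exact_mod_cast h

end Groth.Agent.S0555
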