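import Groth.Statements.S0562
import Groth.Agent.Lib.Serre.Regular
-- import your own Groth.Agent.* helpers here

set_option autoImplicit false
universe u
open CategoryTheory
open CAlg

namespace Groth.Agent.S0562

/-- If the residue field of a Noetherian local ring `R` has finite projective dimension as an
`R`-module, then `R` is a regular local ring. -/
theorem result (R : Type u) [CommRing R]
    [IsLocalRing R] [IsNoetherianRing R] (n : ℕ)
    (h : HasProjectiveDimensionLT (ModuleCat.of R (IsLocalRing.ResidueField R)) n) :
    IsRegularLocalRing R := by
  exact GrothLib.Serre.isRegularLocalRing_of_pdLE R (n := n) (have := h; CategoryTheory.hasProjectiveDimensionLT_of_ge _ n (n + 1) n.le_succ)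

end Groth.Agent.S0562
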