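import Groth.Statements.S0572
import Mathlib.RingTheory.Ideal.AssociatedPrime.Finiteness
import Mathlib.RingTheory.Spectrum.Prime.Topology
import Mathlib.RingTheory.LocalProperties.IntegrallyClosed
-- import your own Groth.Agent.* helpers here

set_option autoImplicit false
universe u
open CAlg

namespace Groth.Agent.S0572

/-- Let `R` be a Noetherian domain such that `R_f` is integrally closed for some nonzero `f`. Then the
set of primes `p` with `R_p` integrally closed is open in `Spec R`. -/
theorem result (R : Type u) [CommRing R] [IsDomain R] [IsNoetherianRing R] (f : R)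
    (hf : f ≠ 0) (hn : IsIntegrallyClosed (Localization.Away f)) :
    IsOpen {p : PrimeSpectrum R | IsIntegrallyClosed (Localization.AtPrime p.asIdeal)} := by
  classical
  let K := FractionRing R
  let N := R ⧸ Ideal.span {f}
  let bad : Set (Ideal R) :=
    {P ∈ associatedPrimes R N | ∀ hP : P.IsPrime, ¬ IsIntegrallyClosed (Localization.AtPrime P)}
  have hbad : bad.Finite := (associatedPrimes.finite R N).subset fun P hP => hP.1
  suffices H : ∀ q : PrimeSpectrum R, IsIntegrallyClosed (Localization.AtPrime q.asIdeal) ↔
      ∀ P ∈ bad, ¬ P ≤ q.asIdeal by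
    have hset : {q : PrimeSpectrum R | IsIntegrallyClosed (Localization.AtPrime q.asIdeal)} =
        (⋃ P ∈ bad, PrimeSpectrum.zeroLocus (P : Set R))ᶜ := by
      ext q
      simp only [Set.mem_setOf_eq, H q, Set.mem_compl_iff, Set.mem_iUnion, PrimeSpectrum.mem_zeroLocus,
        SetLike.coe_subset_coe, not_exists]
    rw [hset, isOpen_compl_iff]
    exact hbad.isClosed_biUnion fun P _ => PrimeSpectrum.isClosed_zeroLocus _
  intro q
  constructor
  · rintro hq P ⟨hP, hPn⟩ hle
    haveI := hP.isPrime
    haveI := hq
    refine hPn inferInstance ?_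
    let Rq := Localization.AtPrime q.asIdeal
    have hu : ∀ y : q.asIdeal.primeCompl, IsUnit (algebraMap R (Localization.AtPrime P) y) := fun y =>
      IsLocalization.map_units (Localization.AtPrime P) (⟨y.1, fun h => y.2 (hle h)⟩ : P.primeCompl)
    letI : Algebra Rq (Localization.AtPrime P) := (IsLocalization.lift hu).toAlgebra
    haveI : IsScalarTower R Rq (Localization.AtPrime P) :=
      IsScalarTower.of_algebraMap_eq fun r => (IsLocalization.lift_eq hu r).symm
    haveI : IsDomain Rq := IsLocalization.isDomain_localization q.asIdeal.primeCompl_le_nonZeroDivisors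
    haveI : IsLocalization (P.primeCompl.map (algebraMap R Rq)) (Localization.AtPrime P) :=
      IsLocalization.isLocalization_of_submonoid_le Rq (Localization.AtPrime P) q.asIdeal.primeCompl P.primeCompl
        (fun y hy h => hy (hle h))
    exact isIntegrallyClosed_of_isLocalization _ (P.primeCompl.map (algebraMap R Rq)) (map_le_nonZeroDivisors_of_injective _
      (IsLocalization.injective Rq q.asIdeal.primeCompl_le_nonZeroDivisors) P.primeCompl_le_nonZeroDivisors)
  · intro hgood
    let Rq := Localization.AtPrime q.asIdeal
    haveI : IsDomain Rq := IsLocalization.isDomain_localization q.asIdeal.primeCompl_le_nonZeroDivisors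
    have hu : ∀ y : q.asIdeal.primeCompl, IsUnit (algebraMap R K y) := fun y =>
      IsLocalization.map_units K (⟨y.1, q.asIdeal.primeCompl_le_nonZeroDivisors y.2⟩ : nonZeroDivisors R)
    letI : Algebra Rq K := (IsLocalization.lift hu).toAlgebra
    haveI : IsScalarTower R Rq K := IsScalarTower.of_algebraMap_eq fun r => (IsLocalization.lift_eq hu r).symm
    haveI : IsFractionRing Rq K :=
      IsFractionRing.isFractionRing_of_isDomain_of_isLocalization q.asIdeal.primeCompl Rq K
    have hf0 : algebraMap R K f ≠ 0 := fun h => hf (IsFractionRing.injective R K (h.trans (map_zero _).symm))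
    have hmemq : ∀ y : K, y ∈ Set.range (algebraMap Rq K) ↔ ∃ t ∉ q.asIdeal, ∃ r, algebraMap R K t * y = algebraMap R K r := by
      intro y
      constructor
      · rintro ⟨z, rfl⟩
        obtain ⟨⟨r, t⟩, h⟩ := IsLocalization.surj q.asIdeal.primeCompl z
        exact ⟨t, t.2, r, by rw [IsScalarTower.algebraMap_apply R Rq K, ← map_mul, mul_comm, h, ← IsScalarTower.algebraMap_apply]⟩
      · rintro ⟨t, ht, r, h⟩
        refine ⟨IsLocalization.mk' Rq r (⟨t, ht⟩ : q.asIdeal.primeCompl), ?_⟩
        have h2 := congrArg (algebraMap Rq K) (IsLocalization.mk'_spec Rq r (⟨t, ht⟩ : q.asIdeal.primeCompl))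
        rw [map_mul, ← IsScalarTower.algebraMap_apply, ← IsScalarTower.algebraMap_apply, ← h, mul_comm] at h2
        exact mul_left_cancel₀ (hu ⟨t, ht⟩).ne_zero h2
    have step : ∀ y : K, IsIntegral Rq y → algebraMap R K f * y ∈ Set.range (algebraMap Rq K) →
        y ∈ Set.range (algebraMap Rq K) := by
      intro y hy hfy
      obtain ⟨s, hs, r, hr⟩ := (hmemq _).1 hfy
      by_contra hyq
      let c : N := Ideal.Quotient.mk _ r
      have hcol : (⊥ : Submodule R N).colon {c} ≤ q.asIdeal := by
        intro t ht
        by_contra htq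
        rw [Submodule.mem_colon_singleton, Submodule.mem_bot, Algebra.smul_def, Ideal.Quotient.algebraMap_eq,
          ← map_mul, Ideal.Quotient.eq_zero_iff_mem, Ideal.mem_span_singleton] at ht
        obtain ⟨d, hd⟩ := ht
        refine hyq ((hmemq y).2 ⟨t * s, fun h => (q.2.mem_or_mem h).elim htq hs, d, mul_left_cancel₀ hf0 ?_⟩)
        calc algebraMap R K f * (algebraMap R K (t * s) * y)
            = algebraMap R K t * (algebraMap R K s * (algebraMap R K f * y)) := by rw [map_mul]; ring
          _ = algebraMap R K f * algebraMap R K d := by rw [hr, ← map_mul, hd, map_mul]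
      obtain ⟨P, hP, hPq⟩ := Ideal.exists_minimalPrimes_le hcol
      haveI := hP.isPrime
      obtain ⟨c', hc'⟩ := Submodule.exists_eq_colon_of_mem_minimalPrimes hP
      have hPass : P ∈ associatedPrimes R N := AssociatedPrimes.mem_iff.2 (isAssociatedPrime_iff.2 ⟨hP.isPrime, c', hc'⟩)
      have hPn : IsIntegrallyClosed (Localization.AtPrime P) := by
        by_contra hn'
        exact hgood P ⟨hPass, fun _ => hn'⟩ hPq
      haveI := hPn
      let RP := Localization.AtPrime P
      haveI : IsDomain RP := IsLocalization.isDomain_localization P.primeCompl_le_nonZeroDivisors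
      have huP : ∀ y : P.primeCompl, IsUnit (algebraMap R K y) := fun y =>
        IsLocalization.map_units K (⟨y.1, P.primeCompl_le_nonZeroDivisors y.2⟩ : nonZeroDivisors R)
      letI : Algebra RP K := (IsLocalization.lift huP).toAlgebra
      haveI : IsScalarTower R RP K := IsScalarTower.of_algebraMap_eq fun r => (IsLocalization.lift_eq huP r).symm
      haveI : IsFractionRing RP K := IsFractionRing.isFractionRing_of_isDomain_of_isLocalization P.primeCompl RP K
      have hle' : ∀ t : q.asIdeal.primeCompl, IsUnit (algebraMap R RP t) := fun t =>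
        IsLocalization.map_units RP (⟨t.1, fun h => t.2 (hPq h)⟩ : P.primeCompl)
      letI : Algebra Rq RP := (IsLocalization.lift hle').toAlgebra
      haveI : IsScalarTower R Rq RP := IsScalarTower.of_algebraMap_eq fun r => (IsLocalization.lift_eq hle' r).symm
      haveI : IsScalarTower Rq RP K := IsScalarTower.of_algebraMap_eq' (IsLocalization.ringHom_ext q.asIdeal.primeCompl
        (RingHom.ext fun r => by simp only [RingHom.comp_apply, ← IsScalarTower.algebraMap_apply]))
      obtain ⟨z, hz⟩ := IsIntegrallyClosed.isIntegral_iff.1 (IsIntegral.tower_top (A := RP) hy)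
      obtain ⟨⟨d, t⟩, hd⟩ := IsLocalization.surj P.primeCompl z
      refine t.2 (hP.1.2 ?_)
      rw [Submodule.mem_colon_singleton, Submodule.mem_bot, Algebra.smul_def, Ideal.Quotient.algebraMap_eq,
        ← map_mul, Ideal.Quotient.eq_zero_iff_mem, Ideal.mem_span_singleton]
      refine ⟨s * d, IsFractionRing.injective R K ?_⟩
      have h2 := congrArg (algebraMap RP K) hd
      rw [map_mul, hz, ← IsScalarTower.algebraMap_apply, ← IsScalarTower.algebraMap_apply] at h2
      rw [map_mul, map_mul, map_mul, ← hr, ← h2]
      ring
    refine (isIntegrallyClosed_iff K).2 fun {x} hx => ?_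
    have hxn : ∃ n : ℕ, algebraMap R K (f ^ n) * x ∈ Set.range (algebraMap Rq K) := by
      obtain ⟨t, ht⟩ := IsIntegral.exists_multiple_integral_of_isLocalization (R := R) q.asIdeal.primeCompl x hx
      haveI : IsDomain (Localization.Away f) :=
        IsLocalization.isDomain_localization (powers_le_nonZeroDivisors_of_noZeroDivisors hf)
      have huf : ∀ y : Submonoid.powers f, IsUnit (algebraMap R K y) := by
        rintro ⟨_, n, rfl⟩
        rw [map_pow]
        exact (isUnit_iff_ne_zero.2 hf0).pow n
      letI : Algebra (Localization.Away f) K := (IsLocalization.lift huf).toAlgebra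
      haveI : IsScalarTower R (Localization.Away f) K :=
        IsScalarTower.of_algebraMap_eq fun r => (IsLocalization.lift_eq huf r).symm
      haveI : IsFractionRing (Localization.Away f) K :=
        IsFractionRing.isFractionRing_of_isDomain_of_isLocalization (Submonoid.powers f) _ K
      obtain ⟨z, hz⟩ := IsIntegrallyClosed.isIntegral_iff.1 (IsIntegral.tower_top (A := Localization.Away f) ht)
      obtain ⟨⟨d, ⟨_, n, rfl⟩⟩, hd⟩ := IsLocalization.surj (Submonoid.powers f) z
      refine ⟨n, (hmemq _).2 ⟨t, t.2, d, ?_⟩⟩
      have h2 := congrArg (algebraMap (Localization.Away f) K) hd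
      rw [map_mul, hz, ← IsScalarTower.algebraMap_apply, ← IsScalarTower.algebraMap_apply, Submonoid.smul_def,
        Algebra.smul_def] at h2
      rw [← h2]
      ring
    obtain ⟨n, hn'⟩ := hxn
    induction n generalizing x with
    | zero => rwa [pow_zero, map_one, one_mul] at hn'
    | succ n ih =>
      refine step x hx (ih (IsIntegral.mul ?_ hx) ?_)
      · rw [IsScalarTower.algebraMap_apply R Rq K]; exact isIntegral_algebraMap
      · rw [← mul_assoc, ← map_mul, ← pow_succ]; exact hn'

end Groth.Agent.S0572
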