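import Groth.Statements.S0577
import Groth.Agent.Lib.N2.FiniteType
import Mathlib.Algebra.CharP.Algebra
import Mathlib.Algebra.CharP.Lemmas
-- import your own Groth.Agent.* helpers here

set_option autoImplicit false
universe u
open CAlg

namespace Groth.Agent.S0577
open TensorProduct

/-- Let `A` be a Noetherian local domain of prime characteristic `p` which is a Nagata ring. If `a ∈ A`
has a `p`-th root in the completion of `A`, then it has a `p`-th root in `A`. -/
theorem result (A : Type u) [CommRing A] [IsDomain A]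
    [IsLocalRing A] (hA : CAlg.IsNagata A) (p : ℕ) [Fact p.Prime] [CharP A p] (a : A)
    (h : ∃ α : AdicCompletion (IsLocalRing.maximalIdeal A) A,
      α ^ p = algebraMap A (AdicCompletion (IsLocalRing.maximalIdeal A) A) a) :
    ∃ b : A, b ^ p = a := by
  classical
  haveI := hA.1
  obtain ⟨α, hα⟩ := h
  have hp : p.Prime := Fact.out
  let K := FractionRing A
  obtain ⟨β, hβ⟩ := IsAlgClosed.exists_pow_nat_eq (algebraMap A (AlgebraicClosure K) a) hp.pos
  let T := Algebra.adjoin A ({β} : Set (AlgebraicClosure K))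
  have hβi : IsIntegral A β :=
    ⟨Polynomial.X ^ p - Polynomial.C a, Polynomial.monic_X_pow_sub_C a hp.pos.ne', by
      rw [← Polynomial.aeval_def, map_sub, map_pow, Polynomial.aeval_X, Polynomial.aeval_C, hβ, sub_self]⟩
  haveI : Module.Finite A T :=
    ⟨(Submodule.fg_top _).2 (fg_adjoin_of_finite (Set.finite_singleton β) fun z hz => by
      rw [Set.mem_singleton_iff] at hz; exact hz ▸ hβi)⟩
  let b : T := ⟨β, Algebra.self_mem_adjoin_singleton A β⟩
  have hAT : Function.Injective (algebraMap A T) := fun u v huv => by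
    have h1 : algebraMap A (AlgebraicClosure K) u = algebraMap A (AlgebraicClosure K) v := congrArg Subtype.val huv
    rw [IsScalarTower.algebraMap_apply A K (AlgebraicClosure K), IsScalarTower.algebraMap_apply A K (AlgebraicClosure K)] at h1
    exact IsFractionRing.injective A K ((algebraMap K (AlgebraicClosure K)).injective h1)
  let Â := AdicCompletion (IsLocalRing.maximalIdeal A) A
  haveI := GrothLib.N2.faithfullyFlat_completion (A := A)
  haveI := GrothLib.N2.isReduced_completion_tensor hA T
  have hTB : Function.Injective fun t : T => (1 : Â) ⊗ₜ[A] t :=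
    Module.FaithfullyFlat.tensorProduct_mk_injective (A := A) (B := Â) T
  haveI : CharP T p := charP_of_injective_ringHom (f := algebraMap A T) hAT p
  haveI : CharP (Â ⊗[A] T) p := charP_of_injective_ringHom
    (f := (Algebra.TensorProduct.includeRight : T →ₐ[A] Â ⊗[A] T).toRingHom) hTB p
  haveI : ExpChar (Â ⊗[A] T) p := ExpChar.prime hp
  have h1 : α ⊗ₜ[A] (1 : T) = (1 : Â) ⊗ₜ[A] b := by
    rw [← sub_eq_zero]
    refine IsReduced.eq_zero _ ⟨p, ?_⟩
    rw [sub_pow_expChar, Algebra.TensorProduct.tmul_pow, Algebra.TensorProduct.tmul_pow, one_pow, one_pow, hα,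
      show b ^ p = algebraMap A T a from Subtype.ext hβ, Algebra.algebraMap_eq_smul_one (A := T),
      Algebra.algebraMap_eq_smul_one, smul_tmul, sub_self]
  let N : Submodule A T := Submodule.span A {(1 : T)}
  have h2 : (1 : Â) ⊗ₜ[A] (N.mkQ b) = 0 := by
    have h3 := congrArg (LinearMap.lTensor Â N.mkQ) h1
    rw [LinearMap.lTensor_tmul, LinearMap.lTensor_tmul, Submodule.mkQ_apply, Submodule.mkQ_apply,
      (Submodule.Quotient.mk_eq_zero N).2 (Submodule.mem_span_singleton_self 1), tmul_zero] at h3
    exact h3.symm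
  have h3 : N.mkQ b = 0 := Module.FaithfullyFlat.tensorProduct_mk_injective (A := A) (B := Â) (T ⧸ N)
    (h2.trans (tmul_zero _ _).symm)
  rw [Submodule.mkQ_apply, Submodule.Quotient.mk_eq_zero, Submodule.mem_span_singleton] at h3
  obtain ⟨c, hc⟩ := h3
  refine ⟨c, hAT ?_⟩
  rw [map_pow, Algebra.algebraMap_eq_smul_one c, hc]
  exact Subtype.ext hβ

end Groth.Agent.S0577
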