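import Groth.Statements.S0584
import Groth.Agent.Lib.ML.Devissage

set_option autoImplicit false
universe u
open scoped Classical
open CAlg

namespace Groth.Agent.S0584

/-- Projectivity of a module is equivalent to the conjunction of three conditions — flatness, the
Mittag-Leffler property, and being an internal direct sum of countably generated submodules. -/
theorem result (R : Type u) [CommRing R] (M : Type u)
    [AddCommGroup M] [Module R M] :
    Module.Projective R M ↔ (Module.Flat R M ∧ CAlg.IsMittagLeffler R M ∧
      ∃ (ι : Type u) (N : ι → Submodule R M), DirectSum.IsInternal N ∧
        ∀ i, CAlg.IsCountablyGenerated R (N i)) := by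
  exact GrothLib.ML.projective_iff_flat_ml

end Groth.Agent.S0584
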