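import Groth.Statements.S0589
import Groth.Agent.Lib.ML.Countable
import Groth.Agent.S0497
import Mathlib

set_option autoImplicit false
universe u
open scoped Classical
open CAlg

namespace Groth.Agent.S0589

open Polynomial

variable {R : Type u} [CommRing R] [HenselianLocalRing R]

/-- The Fitting decomposition of an endomorphism of a finite module over a henselian local ring. -/
theorem exists_fitting {Q : Type u} [AddCommGroup Q] [Module R Q] [Module.Finite R Q] (h : Q →ₗ[R] Q) :
    ∃ E v : Q →ₗ[R] Q, (∀ q, h (v q) = E q) ∧ (∀ q, v (h q) = E q) ∧ (∀ q, E (v q) = v q) ∧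
      ∀ y, h y = y → v y = y := by
  obtain ⟨P, hP, hPh⟩ := LinearMap.exists_monic_and_aeval_eq_zero R h
  have hPm : P.map (IsLocalRing.residue R) ≠ 0 := (hP.map _).ne_zero
  obtain ⟨h₀, hh₀, hX⟩ := Polynomial.exists_eq_pow_rootMultiplicity_mul_and_not_dvd _ hPm 0
  rw [map_zero, sub_zero] at hh₀ hX
  have hc : IsCoprime (X ^ (P.map (IsLocalRing.residue R)).rootMultiplicity 0) h₀ :=
    ((Polynomial.irreducible_X.coprime_iff_not_dvd).2 hX).pow_left
  obtain ⟨g, h', hgh, -, hgmap, hh'map⟩ := Groth.Agent.S0497.result R P _ h₀ (monic_X_pow _) hc hh₀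
  obtain ⟨u₀, v₀, huv⟩ := hc
  obtain ⟨u', rfl⟩ := Polynomial.map_surjective _ IsLocalRing.residue_surjective u₀
  obtain ⟨v', rfl⟩ := Polynomial.map_surjective _ IsLocalRing.residue_surjective v₀
  rw [← hgmap, ← hh'map, ← Polynomial.map_mul, ← Polynomial.map_mul, ← Polynomial.map_add,
    ← Polynomial.map_one (IsLocalRing.residue R)] at huv
  -- `u g + v h'` is a unit modulo `P`
  have hw : IsUnit (AdjoinRoot.mk P (u' * g + v' * h')) := by
    have := hP.finite_adjoinRoot
    have hmem : AdjoinRoot.mk P (u' * g + v' * h' - 1) ∈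
        ((IsLocalRing.maximalIdeal R).map (C : R →+* R[X])).map (AdjoinRoot.mk P) := by
      refine Ideal.mem_map_of_mem _ (Ideal.mem_map_C_iff.2 fun n => ?_)
      rw [← IsLocalRing.residue_eq_zero_iff, ← Polynomial.coeff_map, Polynomial.map_sub, huv, sub_self, coeff_zero]
    have hle : ((IsLocalRing.maximalIdeal R).map (C : R →+* R[X])).map (AdjoinRoot.mk P) ≤
        Ideal.jacobson (⊥ : Ideal (AdjoinRoot P)) := by
      rw [Ideal.map_map]
      refine le_sInf fun M hM => Ideal.map_le_iff_le_comap.2 ?_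
      have : M.IsMaximal := hM.2
      have hmax : (M.under R).IsMaximal := Ideal.isMaximal_comap_of_isIntegral_of_isMaximal M
      exact (IsLocalRing.eq_maximalIdeal hmax).ge
    have := Ideal.mem_jacobson_bot.1 (hle hmem) 1
    rwa [mul_one, map_sub, map_one, sub_add_cancel] at this
  obtain ⟨w, hw⟩ := hw
  -- the constant term of `h'` is a unit
  have hc0 : IsUnit (h'.coeff 0) := by
    refine IsLocalRing.notMem_maximalIdeal.1 fun hm => hX ?_
    rw [Polynomial.X_dvd_iff, ← hh'map, coeff_map, IsLocalRing.residue_eq_zero_iff]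
    exact hm
  obtain ⟨c0, hc0⟩ := hc0
  obtain ⟨e, he⟩ := AdjoinRoot.mk_surjective ((↑w⁻¹ : AdjoinRoot P) * AdjoinRoot.mk P (u' * g))
  obtain ⟨f, hf⟩ : ∃ f : R[X], f = -(C (↑c0⁻¹ : R) * h'.divX) * e := ⟨_, rfl⟩
  have hGH : AdjoinRoot.mk P g * AdjoinRoot.mk P h' = 0 := by rw [← map_mul, ← hgh, AdjoinRoot.mk_self]
  have h1e : 1 - AdjoinRoot.mk P e = (↑w⁻¹ : AdjoinRoot P) * AdjoinRoot.mk P (v' * h') := by
    rw [he, sub_eq_iff_eq_add, ← mul_add, ← map_add, add_comm, ← hw, Units.inv_mul]
  have hHe : AdjoinRoot.mk P h' * AdjoinRoot.mk P e = 0 := by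
    rw [he, map_mul]; linear_combination ((↑w⁻¹ : AdjoinRoot P) * AdjoinRoot.mk P u') * hGH
  have hXf : AdjoinRoot.mk P (X * f) = AdjoinRoot.mk P e := by
    have hd : AdjoinRoot.mk P (X * h'.divX) = AdjoinRoot.mk P h' - AdjoinRoot.mk P (C (h'.coeff 0)) := by
      rw [eq_sub_iff_add_eq, ← map_add, Polynomial.X_mul_divX_add]
    have hcc : AdjoinRoot.mk P (C (↑c0⁻¹ : R)) * AdjoinRoot.mk P (C (h'.coeff 0)) = 1 := by
      rw [← map_mul, ← map_mul, ← hc0, Units.inv_mul, map_one, map_one]
    rw [map_mul] at hd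
    rw [hf]
    simp only [map_mul, map_neg]
    linear_combination (-(AdjoinRoot.mk P (C (↑c0⁻¹ : R))) * AdjoinRoot.mk P e) * hd +
      (-(AdjoinRoot.mk P (C (↑c0⁻¹ : R)))) * hHe + AdjoinRoot.mk P e * hcc
  have hef : AdjoinRoot.mk P (e * f) = AdjoinRoot.mk P f := by
    have hee : AdjoinRoot.mk P e * AdjoinRoot.mk P e = AdjoinRoot.mk P e := by
      have : AdjoinRoot.mk P e * (1 - AdjoinRoot.mk P e) = 0 := by
        rw [h1e, map_mul]
        linear_combination ((↑w⁻¹ : AdjoinRoot P) * AdjoinRoot.mk P v') * hHe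
      linear_combination -this
    rw [hf]
    simp only [map_mul, map_neg]
    linear_combination (-(AdjoinRoot.mk P (C (↑c0⁻¹ : R)) * AdjoinRoot.mk P h'.divX)) * hee
  have hge : AdjoinRoot.mk P (g * e) = AdjoinRoot.mk P g := by
    have : AdjoinRoot.mk P g * (1 - AdjoinRoot.mk P e) = 0 := by
      rw [h1e, map_mul]; linear_combination ((↑w⁻¹ : AdjoinRoot P) * AdjoinRoot.mk P v') * hGH
    rw [map_mul]; linear_combination -this
  have key : ∀ p q : R[X], AdjoinRoot.mk P p = AdjoinRoot.mk P q → aeval h p = aeval h q := fun p q hpq => by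
    obtain ⟨r, hr⟩ := AdjoinRoot.mk_eq_mk.1 hpq
    rw [← sub_eq_zero, ← map_sub, hr, map_mul, hPh, zero_mul]
  have key' : ∀ p q : R[X], ∀ z, (aeval h p) ((aeval h q) z) = (aeval h (p * q)) z := fun p q z => by
    rw [map_mul]; rfl
  refine ⟨aeval h e, aeval h f, fun q => ?_, fun q => ?_, fun q => ?_, fun y hy => ?_⟩
  · have := key' X f q
    rw [aeval_X, key _ _ hXf] at this
    exact this
  · have := key' f X q
    rw [aeval_X, mul_comm f X, key _ _ hXf] at this
    exact this
  · rw [key', key _ _ hef]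
  · have hpow : ∀ p : R[X], (aeval h p) y = p.eval 1 • y := by
      intro p
      induction p using Polynomial.induction_on' with
      | add p q hp hq => rw [map_add, LinearMap.add_apply, hp, hq, eval_add, add_smul]
      | monomial n a =>
        rw [aeval_monomial, eval_monomial, one_pow, mul_one]
        show algebraMap R (Module.End R Q) a ((h ^ n) y) = _
        rw [Module.algebraMap_end_apply]
        congr 1
        induction n with
        | zero => rfl
        | succ n ih => rw [pow_succ, Module.End.mul_apply, hy, ih]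
    have hu : IsUnit (g.eval 1) := by
      refine IsLocalRing.notMem_maximalIdeal.1 fun hm => ?_
      rw [← IsLocalRing.residue_eq_zero_iff, ← Polynomial.eval₂_at_apply, map_one, ← eval_map, hgmap, eval_pow,
        eval_X, one_pow] at hm
      exact one_ne_zero hm
    have he1 : (aeval h e) y = y := by
      have h2 := LinearMap.congr_fun (key _ _ hge) y
      rw [hpow, hpow, eval_mul, mul_smul] at h2
      rw [hpow]
      exact hu.smul_left_cancel.1 h2
    have := key' f X y
    rw [aeval_X, hy, mul_comm f X, key _ _ hXf, he1] at this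
    exact this

variable {M : Type u} [AddCommGroup M] [Module R M]

/-- An element outside the range of an idempotent is caught by an orthogonal finitely presented summand. -/
theorem exists_orth (hML : CAlg.IsMittagLeffler R M) (hc : CAlg.IsCountablyGenerated R M)
    (E : M →ₗ[R] M) (hE : ∀ m, E (E m) = E m) (x : M) :
    ∃ π : M →ₗ[R] M, (∀ m, π (π m) = π m) ∧ (∀ m, π (E m) = 0) ∧ (∀ m, E (π m) = 0) ∧
      π (x - E x) = x - E x ∧ Module.FinitePresentation R (LinearMap.range π) := by
  obtain ⟨Q, iQ, iQm, iQf, b₀, c₀, hbc⟩ := GrothLib.ML.exists_endo_factor hML hc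
    (LinearMap.toSpanSingleton R M (x - E x))
  have hbc' : c₀ (b₀ (x - E x)) = x - E x := by
    simpa using LinearMap.congr_fun hbc 1
  obtain ⟨b, hb⟩ : ∃ b : M →ₗ[R] Q, ∀ m, b m = b₀ (m - E m) :=
    ⟨b₀ ∘ₗ (LinearMap.id - E), fun m => rfl⟩
  obtain ⟨c, hc⟩ : ∃ c : Q →ₗ[R] M, ∀ q, c q = c₀ q - E (c₀ q) :=
    ⟨(LinearMap.id - E) ∘ₗ c₀, fun m => rfl⟩
  have hEx : E (x - E x) = 0 := by rw [map_sub, hE, sub_self]
  have hy : c (b (x - E x)) = x - E x := by rw [hb, hc, hEx, sub_zero, hbc', hEx, sub_zero]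
  obtain ⟨e, v, hhv, hvh, hev, hfix⟩ := exists_fitting (b ∘ₗ c)
  simp only [LinearMap.comp_apply] at hhv hvh hfix
  have hπ : ∀ m, c (v (b (c (v (b m))))) = c (v (b m)) := fun m => by
    rw [hvh, hev]
  refine ⟨c ∘ₗ v ∘ₗ b, hπ, fun m => ?_, fun m => ?_, ?_, ?_⟩
  · simp only [LinearMap.comp_apply, hb, hE, sub_self, map_zero]
  · simp only [LinearMap.comp_apply, hc, map_sub, hE, sub_self]
  · simp only [LinearMap.comp_apply]
    rw [hfix (b (x - E x)) (by rw [hy]), hy]
  · obtain ⟨p, hp⟩ : ∃ p : Q →ₗ[R] LinearMap.range (c ∘ₗ v ∘ₗ b), ∀ q, (p q : M) = c (v (b (c q))) :=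
      ⟨(c ∘ₗ v ∘ₗ b).rangeRestrict ∘ₗ c, fun q => rfl⟩
    obtain ⟨i, hi⟩ : ∃ i : LinearMap.range (c ∘ₗ v ∘ₗ b) →ₗ[R] Q, ∀ z, i z = v (b z) :=
      ⟨v ∘ₗ b ∘ₗ Submodule.subtype _, fun z => rfl⟩
    have hpi : ∀ z, p (i z) = z := fun z => by
      obtain ⟨_, m, rfl⟩ := z
      refine Subtype.ext ?_
      simp only [hp, hi, LinearMap.comp_apply]
      rw [hπ, hπ]
    refine Module.finitePresentation_of_surjective p (fun z => ⟨i z, hpi z⟩) ?_
    have hker : LinearMap.ker p = LinearMap.range (LinearMap.id - i ∘ₗ p) := by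
      refine le_antisymm (fun q hq => ⟨q, by simp [LinearMap.mem_ker.1 hq]⟩) ?_
      rintro _ ⟨q, rfl⟩
      simp [hpi]
    rw [hker, ← Submodule.map_top]
    exact (Module.Finite.fg_top (R := R) (M := Q)).map _

/-- Over a henselian local ring, a countably generated Mittag-Leffler module is an internal direct sum
of finitely presented submodules. -/
theorem result (R : Type u) [CommRing R]
    [HenselianLocalRing R] (M : Type u) [AddCommGroup M] [Module R M] (hc : CAlg.IsCountablyGenerated R M)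
    (hML : CAlg.IsMittagLeffler R M) :
    ∃ (ι : Type u) (N : ι → Submodule R M), DirectSum.IsInternal N ∧
      ∀ i, Module.FinitePresentation R (N i) := by
  classical
  have hcg := hc
  obtain ⟨s, hs, hspan⟩ := hc
  obtain ⟨x, hx⟩ : ∃ x : ℕ → M, s ⊆ Set.range x := by
    rcases s.eq_empty_or_nonempty with rfl | hne
    · exact ⟨fun _ => 0, Set.empty_subset _⟩
    · obtain ⟨x, rfl⟩ := hs.exists_eq_range hne
      exact ⟨x, subset_rfl⟩
  choose π hπid hπE hEπ hπx hπfp using fun (E : {E : M →ₗ[R] M // ∀ m, E (E m) = E m}) (n : ℕ) =>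
    exists_orth hML hcg E.1 E.2 (x n)
  let E : ℕ → {E : M →ₗ[R] M // ∀ m, E (E m) = E m} := fun n => Nat.rec ⟨0, fun _ => rfl⟩
    (fun n E => ⟨E.1 + π E n, fun m => by
      simp only [LinearMap.add_apply, map_add, E.2, hπE, hEπ, hπid, zero_add, add_zero]⟩) n
  have hEsucc : ∀ n m, (E (n + 1)).1 m = (E n).1 m + π (E n) n m := fun n m => rfl
  have habs : ∀ j i, j ≤ i → ∀ m, (E i).1 ((E j).1 m) = (E j).1 m ∧ (E j).1 ((E i).1 m) = (E j).1 m := by
    intro j i hji
    induction i, hji using Nat.le_induction with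
    | base => exact fun m => ⟨(E j).2 m, (E j).2 m⟩
    | succ i hji ih =>
      intro m
      refine ⟨?_, ?_⟩
      · rw [hEsucc, (ih m).1, ← (ih m).1, hπE, add_zero]
      · rw [hEsucc, map_add, (ih m).2, ← (ih (π (E i) i m)).2, hEπ, map_zero, add_zero]
  have hπle : ∀ i j, i < j → ∀ m, (E j).1 (π (E i) i m) = π (E i) i m ∧ π (E i) i ((E j).1 m) = π (E i) i m := by
    intro i j hij m
    have h1 : ∀ m, π (E i) i m = (E (i + 1)).1 m - (E i).1 m := fun m => by rw [hEsucc]; abel
    refine ⟨?_, ?_⟩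
    · rw [h1, map_sub, (habs _ _ hij m).1, (habs _ _ hij.le m).1]
    · rw [h1, h1, (habs _ _ hij m).2, (habs _ _ hij.le m).2]
  have horth : ∀ i j, i ≠ j → ∀ m, π (E i) i (π (E j) j m) = 0 := by
    intro i j hij m
    rcases Nat.lt_or_gt_of_ne hij with h | h
    · rw [← (hπle i j h (π (E j) j m)).2, hEπ, map_zero]
    · rw [← (hπle j i h m).1, hπE]
  letI : DecidableEq (ULift.{u} ℕ) := fun a b => Classical.propDecidable (a = b)
  have hmap : ∀ d : DirectSum (ULift.{u} ℕ) fun i : ULift.{u} ℕ => LinearMap.range (π (E i.down) i.down),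
      DirectSum.coeAddMonoidHom (fun i : ULift.{u} ℕ => LinearMap.range (π (E i.down) i.down)) d =
        DirectSum.coeLinearMap (fun i : ULift.{u} ℕ => LinearMap.range (π (E i.down) i.down)) d := by
    intro d
    induction d using DirectSum.induction_on with
    | zero => rw [map_zero, map_zero]
    | of i z => rw [DirectSum.coeLinearMap_of]; exact DirectSum.coeAddMonoidHom_of (fun i : ULift.{u} ℕ => LinearMap.range (π (E i.down) i.down)) i z
    | add a b ha hb => rw [map_add, map_add, ha, hb]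
  refine ⟨ULift.{u} ℕ, fun i : ULift.{u} ℕ => LinearMap.range (π (E i.down) i.down), ⟨?_, ?_⟩, fun i => hπfp _ _⟩
  · intro d d' hdd'
    have hcomp : ∀ (d : DirectSum (ULift.{u} ℕ) fun i : ULift.{u} ℕ => LinearMap.range (π (E i.down) i.down)) (i : ULift.{u} ℕ),
        (d i : M) = π (E i.down) i.down
          (DirectSum.coeLinearMap (fun i : ULift.{u} ℕ => LinearMap.range (π (E i.down) i.down)) d) := by
      intro d i
      induction d using DirectSum.induction_on with
      | zero => simp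
      | add a b ha hb => rw [DirectSum.add_apply, Submodule.coe_add, ha, hb, map_add, map_add]
      | of j z =>
        obtain ⟨_, m, rfl⟩ := z
        rw [DirectSum.coeLinearMap_of]
        rcases eq_or_ne j i with rfl | hji
        · rw [DirectSum.of_eq_same]; exact (hπid _ _ m).symm
        · rw [DirectSum.of_eq_of_ne _ _ _ hji.symm]
          exact (horth _ _ (fun h => hji.symm (ULift.ext _ _ h)) m).symm
    refine DFinsupp.ext fun i => Subtype.ext ?_
    rw [hcomp d i, hcomp d' i]
    exact congrArg _ ((hmap d).symm.trans (hdd'.trans (hmap d')))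
  · have hr : ∀ n m, (E n).1 m ∈ ⨆ i : ULift.{u} ℕ, LinearMap.range (π (E i.down) i.down) := by
      intro n
      induction n with
      | zero => intro m; exact zero_mem _
      | succ n ih =>
        intro m
        rw [hEsucc]
        exact add_mem (ih m) (Submodule.mem_iSup_of_mem ⟨n⟩ ⟨m, rfl⟩)
    have htop : (⨆ i : ULift.{u} ℕ, LinearMap.range (π (E i.down) i.down)) = ⊤ := by
      rw [eq_top_iff, ← hspan, Submodule.span_le]
      intro y hy
      obtain ⟨n, rfl⟩ := hx hy
      have : (E (n + 1)).1 (x n) = x n := by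
        have h := hπx (E n) n
        rw [map_sub, hπE, sub_zero] at h
        rw [hEsucc, h, add_sub_cancel]
      exact this ▸ hr (n + 1) (x n)
    intro y
    have hy : y ∈ LinearMap.range (DirectSum.coeLinearMap fun i : ULift.{u} ℕ => LinearMap.range (π (E i.down) i.down)) := by
      rw [DirectSum.range_coeLinearMap, htop]; trivial
    obtain ⟨d, hd⟩ := hy
    exact ⟨d, (hmap d).trans hd⟩

end Groth.Agent.S0589
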