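import Groth.Statements.S0602
import Groth.Agent.Lib.Hensel.FibreLocal
import Groth.Agent.Lib.FFDescent.Serre
-- import your own Groth.Agent.* helpers here

set_option autoImplicit false
universe u
open CAlg

namespace Groth.Agent.S0602

/-- A Noetherian ring is reduced exactly when it satisfies the conditions R₀ and S₁. -/
theorem result (R : Type u) [CommRing R] [IsNoetherianRing R] :
    IsReduced R ↔ (LocCoh.HasRk 0 R ∧ LocCoh.HasSk 1 R R) := by
  open IsLocalRing in
  rw [GrothLib.Hensel.hasSk_self_iff]
  constructor
  · intro hred
    refine ⟨fun p _ hp ↦ ?_, fun p _ ↦ ?_⟩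
    · have : IsReduced (Localization.AtPrime p) := inferInstance
      have : Ring.KrullDimLE 0 (Localization.AtPrime p) := by
        rw [Ring.krullDimLE_iff, IsLocalization.AtPrime.ringKrullDim_eq_height p]
        exact_mod_cast hp
      let := (Ring.KrullDimLE.isField_of_isReduced (R := Localization.AtPrime p)).toField
      infer_instance
    · by_cases hd : LocCoh.depth (Localization.AtPrime p) (Localization.AtPrime p) = 0
      · have : IsNoetherianRing (Localization.AtPrime p) :=
          IsLocalization.isNoetherianRing p.primeCompl _ inferInstance
        have hass := (GrothLib.Hensel.maximalIdeal_mem_associatedPrimes_iff _).mpr hd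
        have hf : maximalIdeal (Localization.AtPrime p) = ⊥ := by
          obtain ⟨hprime, x, hx⟩ := hass
          by_cases hxm : x ∈ maximalIdeal (Localization.AtPrime p)
          · exfalso
            have h2 := hxm
            rw [hx] at h2
            obtain ⟨n, hn⟩ := h2
            have hn' : x ^ n * x = 0 := by simpa [Submodule.mem_colon_singleton] using hn
            have hx0 : x = 0 := IsNilpotent.eq_zero ⟨n + 1, by rw [pow_succ, hn']⟩
            exact hprime.ne_top ((Ideal.eq_top_iff_one _).mpr (by
              rw [hx]; exact Ideal.le_radical (by simp [Submodule.mem_colon_singleton, hx0])))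
          · have hu := IsLocalRing.notMem_maximalIdeal.mp hxm
            refine le_bot_iff.mp fun y hy ↦ ?_
            rw [hx] at hy
            obtain ⟨n, hn⟩ := hy
            have hn' : y ^ n * x = 0 := by simpa [Submodule.mem_colon_singleton] using hn
            exact IsNilpotent.eq_zero ⟨n, hu.mul_left_eq_zero.mp hn'⟩
        rw [ringKrullDim_eq_zero_of_isField (IsLocalRing.isField_iff_maximalIdeal_eq.mpr hf)]
        simp
      · refine le_trans (min_le_left _ _) ?_
        exact_mod_cast Order.one_le_iff_pos.mpr (pos_iff_ne_zero.mpr hd)
  · rintro ⟨hR, hS⟩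
    constructor
    intro x hx
    by_contra hx0
    obtain ⟨p, hp, hle⟩ := exists_le_isAssociatedPrime_of_isNoetherianRing R x hx0
    have hpp : p.IsPrime := hp.isPrime
    have hd := (GrothLib.Hensel.mem_associatedPrimes_iff_depth_eq_zero p).mp hp
    have h1 := hS p
    rw [hd] at h1
    have hdim : ringKrullDim (Localization.AtPrime p) = 0 := by
      refine le_antisymm ?_ ringKrullDim_nonneg_of_nontrivial
      rcases min_le_iff.mp h1 with h2 | h2
      · exact absurd h2 (by simp)
      · simpa using h2
    have hht : p.height = 0 := by
      rw [IsLocalization.AtPrime.ringKrullDim_eq_height p] at hdim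
      exact_mod_cast hdim
    have hreg := hR p (by simp [hht])
    have : IsNoetherianRing (Localization.AtPrime p) :=
      IsLocalization.isNoetherianRing p.primeCompl _ inferInstance
    have hfin := (IsRegularLocalRing.iff_finrank_cotangentSpace (Localization.AtPrime p)).mp hreg
    rw [hdim] at hfin
    have hF : IsField (Localization.AtPrime p) :=
      IsLocalRing.finrank_cotangentSpace_eq_zero_iff.mp (by exact_mod_cast hfin)
    let := hF.toField
    have h0 : algebraMap R (Localization.AtPrime p) x = 0 := (hx.map _).eq_zero
    obtain ⟨m, hm⟩ := (IsLocalization.map_eq_zero_iff p.primeCompl _ x).mp h0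
    exact m.2 (hle (Submodule.mem_colon_singleton.mpr (by simpa using hm)))

end Groth.Agent.S0602
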