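import Groth.Statements.S0604
import Mathlib
import Groth.Agent.Lib.AusBuch.Basic
-- import your own Groth.Agent.* helpers here

set_option autoImplicit false
universe u
open CategoryTheory
open CAlg

namespace Groth.Agent.S0604

/-- Over a Noetherian local ring `R`, a nonzero finitely generated module `M` of finite projective
dimension satisfies depth R = pd M + depth M. -/
theorem result (R : Type u) [CommRing R] [IsLocalRing R] [IsNoetherianRing R]
    (M : Type u) [AddCommGroup M] [Module R M] [Module.Finite R M] [Nontrivial M] (e : ℕ)
    (he : projectiveDimension (ModuleCat.of R M) = e) :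
    LocCoh.depth R R = e + LocCoh.depth R M := by
  have hle : HasProjectiveDimensionLE (ModuleCat.of R M) e := (projectiveDimension_le_iff _ _).mp he.le
  have hnlt : ¬ HasProjectiveDimensionLT (ModuleCat.of R M) e := (projectiveDimension_ge_iff _ e).mp he.ge
  obtain ⟨d, hd, hde⟩ := GrothLib.AusBuch.exists_isDepth_of_pd R e M hle hnlt
  obtain ⟨d', hd', hd''⟩ := GrothLib.AusBuch.isDepth_exists R (M := M)
  obtain ⟨r, hr, hr'⟩ := GrothLib.AusBuch.isDepth_exists R (M := R)
  rw [hr, hd', hd.unique R hd'' |>.symm, hr'.unique R hde]
  push_cast
  rw [add_comm]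

end Groth.Agent.S0604
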