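import Groth.Statements.S0608
-- import your own Groth.Agent.* helpers here
import Groth.Agent.Lib.LinearType
import Mathlib.Algebra.MvPolynomial.Eval


set_option autoImplicit false
universe u
open RRAlg

namespace Groth.Agent.S0608

/-- Let a_1, …, a_n be a weakly regular sequence in a commutative ring A (each a_i is a non-zero-divisor
modulo (a_1, …, a_(i−1)); the a_i are allowed to generate the unit ideal). Then the kernel of the
A-algebra map A[X_1, …, X_n] → A[T] sending X_i to a_i·T, whose image is the Rees algebra of the
ideal (a_1, …, a_n), is the ideal generated by the elements a_i X_j − a_j X_i. (The published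
statement assumes a regular sequence; only weak regularity is assumed here.) -/
theorem result {A : Type u} [CommRing A] {n : ℕ} (a : Fin n → A)
    (ha : RingTheory.Sequence.IsWeaklyRegular A (List.ofFn a)) :
    RingHom.ker (MvPolynomial.aeval (R := A)
      (fun i : Fin n => Polynomial.C (a i) * (Polynomial.X : Polynomial A))) =
      Ideal.span {q : MvPolynomial (Fin n) A | ∃ i j : Fin n,
        q = MvPolynomial.C (a i) * MvPolynomial.X j - MvPolynomial.C (a j) * MvPolynomial.X i} := by
  classical
  refine le_antisymm (fun F hF => ?_) (Ideal.span_le.mpr ?_)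
  · rw [RingHom.mem_ker] at hF
    rw [← MvPolynomial.sum_homogeneousComponent F]
    refine Ideal.sum_mem _ fun d _ => GrothLib.LinearType.mem_rel a ha d _
      (MvPolynomial.homogeneousComponent_isHomogeneous d F) ?_
    have key : ∀ (e : ℕ) (G : MvPolynomial (Fin n) A), G.IsHomogeneous e →
        MvPolynomial.aeval (fun i : Fin n => Polynomial.C (a i) * (Polynomial.X : Polynomial A)) G =
          Polynomial.C (MvPolynomial.aeval a G) * Polynomial.X ^ e := by
      intro e G hG
      refine GrothLib.LinearType.induction_homogeneous (p := fun G =>
        MvPolynomial.aeval (fun i : Fin n => Polynomial.C (a i) * (Polynomial.X : Polynomial A)) G =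
          Polynomial.C (MvPolynomial.aeval a G) * Polynomial.X ^ e) (by simp) ?_ ?_ hG
      · intro x y hx hy
        simp only [map_add, hx, hy, add_mul]
      · intro s hs c
        rw [MvPolynomial.aeval_monomial, MvPolynomial.aeval_monomial, Polynomial.algebraMap_eq, ← hs,
          Finsupp.degree_eq_sum, ← Finset.prod_pow_eq_pow_sum, Finsupp.prod_fintype _ _ (fun _ => pow_zero _),
          Finsupp.prod_fintype _ _ (fun _ => pow_zero _)]
        simp only [map_mul, map_prod, map_pow, mul_pow, Finset.prod_mul_distrib, Algebra.algebraMap_self,
          RingHom.id_apply]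
        ring
    have hF' := congrArg (fun p : Polynomial A => p.coeff d) hF
    rw [← MvPolynomial.sum_homogeneousComponent F, map_sum] at hF'
    simp only [Polynomial.finset_sum_coeff, Polynomial.coeff_zero,
      key _ _ (MvPolynomial.homogeneousComponent_isHomogeneous _ F), Polynomial.coeff_C_mul_X_pow] at hF'
    rw [Finset.sum_ite_eq] at hF'
    split_ifs at hF' with hd
    exact hF'
  · rintro _ ⟨i, j, rfl⟩
    simp [RingHom.mem_ker]
    try ring


end Groth.Agent.S0608
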