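import Groth.Statements.S0610
import Groth.Agent.Lib.CurveRR.FiniteField

set_option autoImplicit false
universe u
open AlgebraicGeometry CategoryTheory
open Zeta

namespace Groth.Agent.S0610

/-- Weil conjectures for curves, in elementary form (rationality of the zeta function with numerator of
degree 2g, the functional equation and the Riemann hypothesis, packaged as a point-count formula):
let k be a finite field with q elements and C a smooth, proper, geometrically irreducible curve over
k of genus g, the genus being pinned down by #H¹(C, O_C) = q^g (equivalent to dim_k H¹(C, O_C) = g).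
Then there are complex numbers α_1, …, α_{2g}, each an algebraic integer with |α_i|² = q, and a
permutation σ of the indices with α_{σ(i)} · α_i = q for all i, such that for every finite extension
k' of k the number of k'-points of C equals q^{[k':k]} + 1 − Σ_i α_i^{[k':k]}. -/
theorem result {k : Type u} [Field k] [Finite k] {C : Scheme.{u}}
    (f : C ⟶ Spec (CommRingCat.of k)) (hC : Curve.IsSmoothProperCurve k C f)
    [GeometricallyIrreducible f] (g : ℕ)
    (hg : Nat.card (Coh.HH C (Coh.structureModule C) 1) = Nat.card k ^ g) :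
    ∃ α : Fin (2 * g) → ℂ, (∀ i, IsIntegral ℤ (α i)) ∧ (∀ i, ‖α i‖ ^ 2 = Nat.card k) ∧
      (∃ σ : Equiv.Perm (Fin (2 * g)), ∀ i, α (σ i) * α i = Nat.card k) ∧
      ∀ (k' : Type u) [Field k'] [Algebra k k'] [Finite k'],
        (SgaExt.pointCount f k' : ℂ) =
          (Nat.card k : ℂ) ^ Module.finrank k k' + 1 - ∑ i, α i ^ Module.finrank k k' := by
  letI : C.Over (Spec (CommRingCat.of k)) := ⟨f⟩
  obtain ⟨hP, hS, hI, hd⟩ := hC
  haveI : IsProper (C ↘ Spec (CommRingCat.of k)) := hP
  haveI : GeometricallyIrreducible (C ↘ Spec (CommRingCat.of k)) := ‹_›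
  haveI := hI
  haveI := GrothLib.CurveRR.regCurve_of_smooth (X := C) f hd
  have h0 := GrothLib.CurveRR.finrank_H0_eq_one_of_geometricallyIrreducible (k := k) (X := C)
  haveI := GrothLib.Euler.finiteDimensional_HH k
    (GrothLib.Euler.isCoh_of_isInvertible (GrothLib.Euler.isInvertible_structure (X := C))) 1
  have hgen : _root_.FunFld.genus k C.functionField = g := by
    rw [← GrothLib.CurveRR.genus_eq k h0]
    refine Nat.pow_right_injective (Finite.one_lt_card (α := k)) ?_
    show Nat.card k ^ Curv2.genus k C = Nat.card k ^ g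
    rw [← hg, Curv2.genus]
    exact (Module.natCard_eq_pow_finrank (K := k)).symm
  subst hgen
  have hK := GrothLib.CurveRR.isFunctionField k h0
  obtain ⟨α, hint, hα, hrev⟩ := GrothLib.FunFld.exists_reciprocal_roots hK
  refine ⟨α, hint, GrothLib.FunFld.RH.norm_sq_reciprocal_root hK α hα hrev,
    ⟨Fin.revPerm, fun i => by rw [Fin.revPerm_apply, mul_comm]; exact hrev i⟩, fun k' _ _ _ => ?_⟩
  haveI : Module.Finite k k' := Module.Finite.of_finite
  have hpc : SgaExt.pointCount f k' = GrothLib.FunFld.RH.pointSum k C.functionField (Module.finrank k k') :=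
    GrothLib.CurveRR.pointCount_eq_pointSum k k'
  rw [hpc, GrothLib.FunFld.RH.pointSum_eq hK.1 α hα Module.finrank_pos]
  ring

end Groth.Agent.S0610
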