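import Groth.Statements.S0615
-- import your own Groth.Agent.* helpers here
import Groth.Agent.Lib.LinearType
import Mathlib.Algebra.MvPolynomial.Eval


set_option autoImplicit false
universe u
open RRAlg

namespace Groth.Agent.S0615

/-- Let A be a commutative ring and a_0, a_1, …, a_n a weakly regular sequence in A (for each i, a_i is
a non-zero-divisor on A/(a_0, …, a_{i−1}); the sequence is indexed here by Fin (n+1)). Then the
kernel of the A-algebra homomorphism A[T_1, …, T_n] → A[1/a_0] sending T_i to a_i/a_0 is the ideal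
generated by the elements a_0 T_i − a_i for 1 ≤ i ≤ n (a presentation of the affine blow-up algebra
A[a_1/a_0, …, a_n/a_0]). -/
theorem result {A : Type u} [CommRing A] {n : ℕ}
    (a : Fin (n + 1) → A) (ha : RingTheory.Sequence.IsWeaklyRegular A (List.ofFn a)) :
    RingHom.ker (MvPolynomial.aeval (R := A) (S₁ := Localization.Away (a 0))
      (fun i : Fin n => IsLocalization.mk' (Localization.Away (a 0)) (a i.succ)
        (⟨a 0, Submonoid.mem_powers (a 0)⟩ : Submonoid.powers (a 0)))) =
      Ideal.span (Set.range fun i : Fin n =>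
        MvPolynomial.C (a 0) * MvPolynomial.X i - MvPolynomial.C (a i.succ)) := by
  classical
  set φ := MvPolynomial.aeval (R := A) (S₁ := Localization.Away (a 0))
      (fun i : Fin n => IsLocalization.mk' (Localization.Away (a 0)) (a i.succ)
        (⟨a 0, Submonoid.mem_powers (a 0)⟩ : Submonoid.powers (a 0))) with hφ
  set u := fun i : Fin n => IsLocalization.mk' (Localization.Away (a 0)) (a i.succ)
        (⟨a 0, Submonoid.mem_powers (a 0)⟩ : Submonoid.powers (a 0)) with hu
  set alg := algebraMap A (Localization.Away (a 0))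
  have hmul : ∀ i, alg (a 0) * u i = alg (a i.succ) := fun i =>
    IsLocalization.mk'_spec' (Localization.Away (a 0)) (a i.succ) (⟨a 0, Submonoid.mem_powers (a 0)⟩ : Submonoid.powers (a 0))
  refine le_antisymm (fun F hF => ?_) (Ideal.span_le.mpr ?_)
  · rw [RingHom.mem_ker] at hF
    set d := F.totalDegree
    set J := Ideal.span (Set.range fun i : Fin n =>
      MvPolynomial.C (a 0) * MvPolynomial.X i - MvPolynomial.C (a i.succ)) with hJ
    let G : MvPolynomial (Fin (n + 1)) A := ∑ s ∈ F.support,
      MvPolynomial.X 0 ^ (d - s.degree) * MvPolynomial.rename Fin.succ (MvPolynomial.monomial s (F.coeff s))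
    have hdeg : ∀ s ∈ F.support, s.degree ≤ d := fun s hs => by
      simpa [Finsupp.degree_apply, Finsupp.sum] using MvPolynomial.le_totalDegree hs
    have hG : G.IsHomogeneous d := by
      refine MvPolynomial.IsHomogeneous.sum _ _ _ fun s hs => ?_
      have h1 : (MvPolynomial.rename Fin.succ (MvPolynomial.monomial s (F.coeff s)) :
          MvPolynomial (Fin (n + 1)) A).IsHomogeneous s.degree :=
        (MvPolynomial.isHomogeneous_monomial _ rfl).rename_isHomogeneous
      have h2 := ((MvPolynomial.isHomogeneous_X A (0 : Fin (n + 1))).pow (d - s.degree)).mul h1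
      rwa [one_mul, Nat.sub_add_cancel (hdeg s hs)] at h2
    have hGa : alg (MvPolynomial.aeval a G) = alg (a 0) ^ d * φ F := by
      conv_rhs => rw [F.as_sum]
      rw [map_sum, map_sum, map_sum, Finset.mul_sum]
      refine Finset.sum_congr rfl fun s hs => ?_
      rw [map_mul, map_pow, MvPolynomial.aeval_X, MvPolynomial.aeval_rename, map_mul, map_pow, hφ,
        MvPolynomial.aeval_monomial, MvPolynomial.aeval_monomial, Algebra.algebraMap_self, RingHom.id_apply,
        Finsupp.prod_fintype _ _ (fun _ => pow_zero _), Finsupp.prod_fintype _ _ (fun _ => pow_zero _),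
        map_mul, map_prod]
      conv_rhs => rw [← Nat.sub_add_cancel (hdeg s hs), pow_add, Finsupp.degree_eq_sum s, ← Finset.prod_pow_eq_pow_sum]
      simp only [Function.comp_apply, map_pow, ← hmul, mul_pow, Finset.prod_mul_distrib]
      rw [Finsupp.degree_eq_sum s]
      simp only [alg]
      ring
    have hG0 : MvPolynomial.aeval a G = 0 := by
      rw [hF, mul_zero] at hGa
      obtain ⟨⟨_, N, rfl⟩, hN⟩ := (IsLocalization.map_eq_zero_iff (Submonoid.powers (a 0)) (Localization.Away (a 0)) _).mp hGa
      have hreg : IsSMulRegular A (a 0) := by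
        rw [List.ofFn_succ, RingTheory.Sequence.isWeaklyRegular_cons_iff] at ha
        exact ha.1
      exact (hreg.pow N) (by simpa using hN)
    let ψ : MvPolynomial (Fin (n + 1)) A →ₐ[A] MvPolynomial (Fin n) A :=
      MvPolynomial.aeval (Fin.cons 1 MvPolynomial.X)
    have hψG : ψ G = F := by
      conv_rhs => rw [F.as_sum]
      rw [map_sum]
      refine Finset.sum_congr rfl fun s _ => ?_
      rw [map_mul, map_pow]
      simp only [ψ, MvPolynomial.aeval_X, Fin.cons_zero, one_pow, one_mul, MvPolynomial.aeval_rename]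
      exact MvPolynomial.aeval_X_left_apply _
    rw [← hψG]
    have hrel := GrothLib.LinearType.mem_rel a ha d G hG hG0
    have hle : GrothLib.LinearType.rel a ≤ J.comap ψ := by
      refine Ideal.span_le.mpr ?_
      rintro _ ⟨i, j, rfl⟩
      show ψ _ ∈ J
      have hgen : ∀ l : Fin n, MvPolynomial.C (a 0) * MvPolynomial.X l - MvPolynomial.C (a l.succ) ∈ J :=
        fun l => Ideal.subset_span ⟨l, rfl⟩
      have hmod : ∀ l : Fin (n + 1), ψ (MvPolynomial.C (a l)) - MvPolynomial.C (a 0) * ψ (MvPolynomial.X l) ∈ J := by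
        intro l
        cases l using Fin.cases with
        | zero => simp [ψ]
        | succ l => simpa [ψ, neg_sub] using J.neg_mem (hgen l)
      have e : ψ (MvPolynomial.C (a i) * MvPolynomial.X j - MvPolynomial.C (a j) * MvPolynomial.X i) =
          (ψ (MvPolynomial.C (a i)) - MvPolynomial.C (a 0) * ψ (MvPolynomial.X i)) * ψ (MvPolynomial.X j) -
          (ψ (MvPolynomial.C (a j)) - MvPolynomial.C (a 0) * ψ (MvPolynomial.X j)) * ψ (MvPolynomial.X i) := by
        rw [map_sub, map_mul, map_mul]; ring
      rw [e]
      exact sub_mem (Ideal.mul_mem_right _ _ (hmod i)) (Ideal.mul_mem_right _ _ (hmod j))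
    exact hle hrel
  · rintro _ ⟨i, rfl⟩
    rw [SetLike.mem_coe, RingHom.mem_ker]
    simp only [hφ, map_sub, map_mul, MvPolynomial.aeval_C, MvPolynomial.aeval_X]
    rw [hmul, sub_self]


end Groth.Agent.S0615
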