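import Groth.Statements.S0619
import Groth.Agent.Lib.CurveRR.FiniteField

set_option autoImplicit false
universe u
open AlgebraicGeometry CategoryTheory
open Zeta

namespace Groth.Agent.S0619

/-- For a geometrically connected smooth proper curve of genus g over a finite field k with q elements
and a finite extension k' of degree n, |#C(k') − (qⁿ + 1)| ≤ 2g·q^(n/2). -/
theorem result {k : Type u} [Field k] [Finite k] {C : Scheme.{u}}
    (f : C ⟶ Spec (CommRingCat.of k)) (hC : Curve.IsSmoothProperCurve k C f)
    [GeometricallyIrreducible f] (g : ℕ)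
    (hg : Nat.card (Coh.HH C (Coh.structureModule C) 1) = Nat.card k ^ g)
    (k' : Type u) [Field k'] [Algebra k k'] [Finite k'] :
    |(SgaExt.pointCount f k' : ℝ) - ((Nat.card k : ℝ) ^ Module.finrank k k' + 1)| ≤
      2 * g * (Nat.card k : ℝ) ^ ((Module.finrank k k' : ℝ) / 2) := by
  letI : C.Over (Spec (CommRingCat.of k)) := ⟨f⟩
  obtain ⟨hP, hS, hI, hd⟩ := hC
  haveI : IsProper (C ↘ Spec (CommRingCat.of k)) := hP
  haveI : GeometricallyIrreducible (C ↘ Spec (CommRingCat.of k)) := ‹_›
  haveI := hI
  haveI := GrothLib.CurveRR.regCurve_of_smooth (X := C) f hd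
  have h0 := GrothLib.CurveRR.finrank_H0_eq_one_of_geometricallyIrreducible (k := k) (X := C)
  haveI := GrothLib.Euler.finiteDimensional_HH k
    (GrothLib.Euler.isCoh_of_isInvertible (GrothLib.Euler.isInvertible_structure (X := C))) 1
  have hgen : _root_.FunFld.genus k C.functionField = g := by
    rw [← GrothLib.CurveRR.genus_eq k h0]
    refine Nat.pow_right_injective (Finite.one_lt_card (α := k)) ?_
    show Nat.card k ^ Curv2.genus k C = Nat.card k ^ g
    rw [← hg, Curv2.genus]
    exact (Module.natCard_eq_pow_finrank (K := k)).symm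
  haveI : Module.Finite k k' := Module.Finite.of_finite
  have h := GrothLib.FunFld.RH.abs_pointSum_sub_le (GrothLib.CurveRR.isFunctionField k h0)
    (m := Module.finrank k k') Module.finrank_pos
  have hpc : SgaExt.pointCount f k' = GrothLib.FunFld.RH.pointSum k C.functionField (Module.finrank k k') :=
    GrothLib.CurveRR.pointCount_eq_pointSum k k'
  rw [hpc, ← hgen]
  refine h.trans (le_of_eq ?_)
  rw [Real.sqrt_eq_rpow, ← Real.rpow_natCast (Nat.card k : ℝ), ← Real.rpow_mul (Nat.cast_nonneg _)]
  ring_nf

end Groth.Agent.S0619
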