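import Groth.Statements.S0620
import Groth.Agent.Lib.EtLimit.StalkRpushHens
-- import your own Groth.Agent.* helpers here

set_option autoImplicit false
open CategoryTheory CategoryTheory.Limits AlgebraicGeometry Opposite
universe u
open EtCore

namespace Groth.Agent.S0620

/-- First statement (abelian sheaf, one degree at a time): for f quasi-compact and quasi-separated, F an
abelian sheaf on the small etale site of X, s a point of S and R a strict henselization of the local
ring of S at s, the stalk of R^n f_* F at the geometric point Spec of the residue field of R -> S is
isomorphic to the degree-n etale cohomology of X x_S Spec R with coefficients in the pullback of F.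
The source identifies the two sides canonically and for every geometric point over s; here the
geometric point is the one attached to R and only the existence of an isomorphism is stated. The
statements for complexes are not included. -/
theorem result {X S : Scheme.{u}} (f : X ⟶ S) [QuasiCompact f] [QuasiSeparated f]
    (F : EtCoh.Ab X) (s : S) (R : Type u) [CommRing R] [IsLocalRing R] [Algebra (S.presheaf.stalk s) R]
    [IsLocalHom (algebraMap (S.presheaf.stalk s) R)] [Hensel.IsStrictHenselization (S.presheaf.stalk s) R]
    [IsSepClosed (IsLocalRing.ResidueField R)] (n : ℕ) :
    Nonempty ((EtCoh.stalk (Hens2.geomPt S s R)).obj ((EtCoh.Rpush f n).obj F) ≅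
      AddCommGrpCat.of (EtCoh.H (pullback f (Hens2.specOf S s R))
        ((EtCoh.pull (pullback.fst f (Hens2.specOf S s R))).obj F) n)) := by
  obtain ⟨e⟩ := GrothLib.EtLimit.nonempty_stalk_Rpush_hens f s R n
  exact ⟨e.app F⟩

end Groth.Agent.S0620
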