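import Groth.Statements.S0622
import Groth.Agent.Lib.EtSite.Pull

set_option autoImplicit false
open CategoryTheory CategoryTheory.Limits AlgebraicGeometry Opposite
universe u
open EtCore

namespace Groth.Agent.S0622

/-- Exactness of a three-term complex of abelian etale sheaves can be tested on stalks at all geometric
points; likewise a morphism of abelian etale sheaves is a monomorphism, respectively an epimorphism,
exactly when every geometric stalk map is injective, respectively surjective. -/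
theorem result {X : Scheme.{u}} (S : ShortComplex (EtCoh.Ab X)) {F G : EtCoh.Ab X} (a : F ⟶ G) :
    (S.Exact ↔ ∀ (Ω : Type u) [Field Ω] [IsSepClosed Ω] (ξ : Spec (CommRingCat.of Ω) ⟶ X),
      (S.map (EtCoh.stalk ξ)).Exact) ∧
    (Mono a ↔ ∀ (Ω : Type u) [Field Ω] [IsSepClosed Ω] (ξ : Spec (CommRingCat.of Ω) ⟶ X),
      Function.Injective ((EtCoh.stalk ξ).map a)) ∧
    (Epi a ↔ ∀ (Ω : Type u) [Field Ω] [IsSepClosed Ω] (ξ : Spec (CommRingCat.of Ω) ⟶ X),
      Function.Surjective ((EtCoh.stalk ξ).map a)) := by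
  refine ⟨⟨fun h Ω _ _ ξ => h.map _, GrothLib.EtSite.shortComplex_exact_of_stalks S⟩,
    ⟨fun h Ω _ _ ξ => ?_, GrothLib.EtSite.mono_of_stalks a⟩,
    ⟨fun h Ω _ _ ξ => ?_, GrothLib.EtSite.epi_of_stalks a⟩⟩
  · rw [← AddCommGrpCat.mono_iff_injective]
    exact inferInstanceAs (Mono ((EtCoh.stalk ξ).map a))
  · rw [← AddCommGrpCat.epi_iff_surjective]
    exact inferInstanceAs (Epi ((EtCoh.stalk ξ).map a))

end Groth.Agent.S0622
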