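import Groth.Statements.S0626
import Groth.Agent.Lib.EtDer.NormalConst
-- import your own Groth.Agent.* helpers here

set_option autoImplicit false
open CategoryTheory CategoryTheory.Limits AlgebraicGeometry Opposite
universe u
open EtCore

namespace Groth.Agent.S0626

/-- Let X be an integral normal scheme (all local rings integrally closed) with generic point η, let g :
Spec O_{X,η} → X be the canonical morphism, and let M be an abelian group. Then the adjunction unit
from the constant étale sheaf with value M on X to g_* of its pullback is an isomorphism. (Since the
pullback of a constant sheaf is constant, this says that g_* of the constant sheaf M on the spectrum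
of the function field is the constant sheaf M on X.) -/
theorem result (X : Scheme.{u}) [IsIntegral X]
    (hN : ∀ x : X, IsIntegrallyClosed (X.presheaf.stalk x)) (M : Type) [AddCommGroup M] :
    IsIso ((EtCoh.pullPushAdj (X.fromSpecStalk (genericPoint X))).unit.app (EtCoh.const X M)) := by
  haveI : Finite (Spec (X.presheaf.stalk (genericPoint X))) :=
    inferInstanceAs (Finite (PrimeSpectrum X.functionField))
  haveI : QuasiCompact (𝟙 _ ≫ X.fromSpecStalk (genericPoint X)) := GrothLib.EtDer.quasiCompact_of_finite _
  exact GrothLib.EtDer.isIso_unit_const _ _ (𝟙 _)
    (GrothLib.EtDer.isNormalScheme_of_isIntegral hN) fun p hp =>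
    GrothLib.EtDer.mem_range_of_minimal _
      ⟨IsLocalRing.closedPoint _, Scheme.fromSpecStalk_closedPoint⟩ p hp

end Groth.Agent.S0626
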