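import Groth.Statements.S0627
import Groth.Agent.Lib.EtDer.NormalConst
-- import your own Groth.Agent.* helpers here

set_option autoImplicit false
open CategoryTheory CategoryTheory.Limits AlgebraicGeometry Opposite
universe u
open EtCore

namespace Groth.Agent.S0627

/-- Let X be an integral normal scheme (every local ring integrally closed), U a nonempty open subscheme
with inclusion j : U → X, and M an abelian group. Then the adjunction unit from the constant étale
sheaf with value M on X to j_* of its pullback to U is an isomorphism. -/
theorem result (X : Scheme.{u}) [IsIntegral X]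
    (hN : ∀ x : X, IsIntegrallyClosed (X.presheaf.stalk x)) (U : X.Opens) (hU : (U : Set X).Nonempty)
    (M : Type) [AddCommGroup M] :
    IsIso ((EtCoh.pullPushAdj U.ι).unit.app (EtCoh.const X M)) := by
  have hη : genericPoint X ∈ U := ((genericPoint_spec X).mem_open_set_iff U.2).2 (by simpa using hU)
  haveI : Finite (Spec (U.toScheme.presheaf.stalk ⟨genericPoint X, hη⟩)) := by
    haveI := (X.presheaf.stalk (genericPoint X))
    haveI hF : IsField (X.presheaf.stalk (genericPoint X)) := Field.toIsField X.functionField
    haveI : IsField (U.toScheme.presheaf.stalk ⟨genericPoint X, hη⟩) :=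
      MulEquiv.isField hF (U.stalkIso ⟨genericPoint X, hη⟩).commRingCatIsoToRingEquiv.toMulEquiv
    letI := this.toField
    exact inferInstanceAs (Finite (PrimeSpectrum (U.toScheme.presheaf.stalk ⟨genericPoint X, hη⟩)))
  haveI : QuasiCompact (U.toScheme.fromSpecStalk ⟨genericPoint X, hη⟩ ≫ U.ι) :=
    GrothLib.EtDer.quasiCompact_of_finite _
  exact GrothLib.EtDer.isIso_unit_const _ U.ι (U.toScheme.fromSpecStalk ⟨genericPoint X, hη⟩)
    (GrothLib.EtDer.isNormalScheme_of_isIntegral hN) fun p hp =>
    GrothLib.EtDer.mem_range_of_minimal _
      ⟨IsLocalRing.closedPoint _, congrArg U.ι.base Scheme.fromSpecStalk_closedPoint⟩ p hp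

end Groth.Agent.S0627
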