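import Groth.Statements.S0628
import Groth.Agent.Lib.EtDer.SepPoint
import Groth.Agent.S0626
-- import your own Groth.Agent.* helpers here

set_option autoImplicit false
open CategoryTheory CategoryTheory.Limits AlgebraicGeometry Opposite
universe u
open EtCore

namespace Groth.Agent.S0628

/-- Let f : X -> Y be a morphism of schemes with X integral and normal and with separably closed
function field. Then the higher direct images R^q f_* of a constant sheaf vanish for q > 0. -/
theorem result {X Y : Scheme.{u}} (f : X ⟶ Y) [IsIntegral X]
    (hN : ∀ x : X, IsIntegrallyClosed (X.presheaf.stalk x)) [IsSepClosed X.functionField]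
    (M : Type) [AddCommGroup M] (q : ℕ) (hq : 1 ≤ q) :
    IsZero ((EtCoh.Rpush f q).obj (EtCoh.const X M)) := by
  let g : Spec (CommRingCat.of X.functionField) ⟶ X := X.fromSpecStalk (genericPoint X)
  haveI : IsIso ((EtCoh.pullPushAdj g).unit.app (EtCoh.const X M)) := Groth.Agent.S0626.result X hN M
  exact (GrothLib.EtDer.isZero_Rpush_push_sepClosed g f _ q hq).of_iso
    ((EtCoh.Rpush f q).mapIso (asIso ((EtCoh.pullPushAdj g).unit.app (EtCoh.const X M))))

end Groth.Agent.S0628
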