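import Groth.Statements.S0632
import Groth.Agent.Lib.EtSite.Immersion
-- import your own Groth.Agent.* helpers here

set_option autoImplicit false
open CategoryTheory CategoryTheory.Limits AlgebraicGeometry Opposite
universe u
open EtCore

namespace Groth.Agent.S0632

/-- Let X -> Y be a closed immersion and U_i -> X (i in ι) a jointly surjective family of etale
morphisms. Then one can find a jointly surjective family of etale Y-schemes V_j each of which either
has empty preimage over X or, after base change to X, maps into one of the U_i over X. -/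
theorem result {X Y : Scheme.{u}} (f : X ⟶ Y) [IsClosedImmersion f]
    {ι : Type u} (U : ι → X.Etale) (hU : EtCoh.Covers U) :
    ∃ (κ : Type u) (V : κ → Y.Etale), EtCoh.Covers V ∧
      ∀ j, IsEmpty ↥(pullback (V j).hom f) ∨
        ∃ (i : ι) (h : pullback (V j).hom f ⟶ (U i).left), h ≫ (U i).hom = pullback.snd (V j).hom f := by
  have key : ∀ y : Y, ∃ (V : Y.Etale), (∃ v : V.left, V.hom.base v = y) ∧
      (IsEmpty ↥(pullback V.hom f) ∨
        ∃ (i : ι) (h : pullback V.hom f ⟶ (U i).left), h ≫ (U i).hom = pullback.snd V.hom f) := by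
    intro y
    by_cases hy : y ∈ Set.range f.base
    · obtain ⟨x, rfl⟩ := hy
      obtain ⟨i, u, hu⟩ := hU x
      obtain ⟨V, k, v, -, hv⟩ := GrothLib.EtSite.exists_bc_nhd f (U i) u
      let v : ↥(pullback V.hom f) := v
      have hk : k.left ≫ (U i).hom = pullback.snd V.hom f := Over.w k.hom
      refine ⟨V, ⟨pullback.fst V.hom f v, ?_⟩, Or.inr ⟨i, k.left, hk⟩⟩
      have hk' : pullback.snd V.hom f v = x := by
        rw [← hu, ← hv, ← Scheme.Hom.comp_apply]
        exact (congrArg (fun a : pullback V.hom f ⟶ X => a.base v) hk).symm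
      rw [← hk', ← Scheme.Hom.comp_apply, ← Scheme.Hom.comp_apply]
      exact congrArg (fun a : pullback V.hom f ⟶ Y => a.base v) pullback.condition
    · let O : Y.Opens := ⟨(Set.range f.base)ᶜ, f.isClosedEmbedding.isClosed_range.isOpen_compl⟩
      refine ⟨Scheme.Etale.mk O.ι, ⟨(⟨y, hy⟩ : O.toScheme), rfl⟩, Or.inl ⟨fun p => ?_⟩⟩
      refine (pullback.fst O.ι f p).2 ⟨pullback.snd O.ι f p, ?_⟩
      rw [← Scheme.Hom.comp_apply, ← pullback.condition]
      rfl
  choose V hV hV' using key
  exact ⟨Y, V, fun y => ⟨y, hV y⟩, hV'⟩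

end Groth.Agent.S0632
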