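import Groth.Statements.S0634
import Groth.Agent.Lib.EtSite.GermUnit
import Mathlib.AlgebraicGeometry.Morphisms.UniversallyOpen
-- import your own Groth.Agent.* helpers here

set_option autoImplicit false
open CategoryTheory CategoryTheory.Limits AlgebraicGeometry Opposite
universe u
open EtCore

namespace Groth.Agent.S0634

/-- For an abelian sheaf F on the small etale site of S and two global sections s, t there is an open W
of S such that a morphism f : T -> S has image inside W if and only if the pullbacks of s and t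
along f (images under the adjunction unit, as sections of the pullback sheaf over T) coincide. -/
theorem result {S : Scheme.{u}} (F : EtCoh.Ab S) (s t : EtCoh.sect F (EtCoh.top S)) :
    ∃ W : S.Opens, ∀ (T : Scheme.{u}) (f : T ⟶ S),
      Set.range f.base ⊆ (W : Set S) ↔
        ((EtCoh.pullPushAdj f).unit.app F).hom.app (op (EtCoh.top S)) s =
          ((EtCoh.pullPushAdj f).unit.app F).hom.app (op (EtCoh.top S)) t := by
  let R : Set (Σ V : S.Etale, V ⟶ EtCoh.top S) :=
    {p | F.obj.map p.2.op s = F.obj.map p.2.op t}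
  let W : S.Opens := ⟨⋃ p ∈ R, Set.range p.1.hom.base,
    isOpen_biUnion fun p _ => by
      have : Etale p.1.hom := p.1.prop
      exact p.1.hom.isOpenMap.isOpen_range⟩
  have hroot : ∀ {Ω : Type u} [Field Ω] [IsSepClosed Ω] (ξ : Spec (CommRingCat.of Ω) ⟶ S)
      (a b : (Scheme.pointSmallEtale ξ).fiber.obj (EtCoh.top S)), a = b := fun ξ a b =>
    Over.OverMorphism.ext (((Category.comp_id _).symm.trans (Over.w a)).trans
      ((Category.comp_id _).symm.trans (Over.w b)).symm)
  refine ⟨W, fun T f => ⟨fun hW => ?_, fun he => ?_⟩⟩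
  · refine GrothLib.EtSite.unit_app_eq_of_germs f F _ s t fun Ω _ _ ξ t₀ => ?_
    have hξ := hW ⟨ξ.base default, rfl⟩
    obtain ⟨p, hp, v, hv⟩ := Set.mem_iUnion₂.1 hξ
    obtain ⟨tv, -⟩ := GrothLib.EtSite.exists_fib (ξ ≫ f) v (hv.trans (Scheme.Hom.comp_apply _ _ _).symm)
    rw [hroot _ t₀ ((Scheme.pointSmallEtale (ξ ≫ f)).fiber.map p.2 tv),
      ← GrothLib.EtSite.germ_map, ← GrothLib.EtSite.germ_map]
    exact congrArg _ hp
  · rintro _ ⟨x, rfl⟩
    let ξ := GrothLib.EtSite.gpt x
    let t₀ : (Scheme.pointSmallEtale (ξ ≫ f)).fiber.obj (EtCoh.top S) :=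
      GrothLib.EtSite.fib (ξ ≫ f) (U := EtCoh.top S) (ξ ≫ f) (Category.comp_id _)
    have h' : GrothLib.EtSite.germ (ξ ≫ f) F t₀ s = GrothLib.EtSite.germ (ξ ≫ f) F t₀ t :=
      GrothLib.EtSite.germ_eq_of_unit_app_eq ξ f F _ s t he t₀
    obtain ⟨V, g, v, hv, hg⟩ := (GrothLib.EtSite.germ_eq_iff (ξ ≫ f) F t₀ s t).1 h'
    refine Set.mem_iUnion₂.2 ⟨⟨V, g⟩, hg, v.left.base (default : Spec (CommRingCat.of _)), ?_⟩
    have hw : v.left ≫ V.hom = ξ ≫ f := Over.w v
    exact (congrArg (fun k => k.base (default : Spec (CommRingCat.of _))) hw).trans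
      ((Scheme.Hom.comp_apply _ _ _).trans (congrArg f.base (GrothLib.EtSite.gpt_default x)))

end Groth.Agent.S0634
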