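import Groth.Statements.S0639
import Groth.Agent.Lib.CurveH2Surj18.Basic
-- import your own Groth.Agent.* helpers here

set_option autoImplicit false
open CategoryTheory CategoryTheory.Limits AlgebraicGeometry Opposite
universe u
open EtCore

namespace Groth.Agent.S0639

/-- Let k be an algebraically closed field, X separated of finite type over k of dimension at most 1, F
a torsion abelian sheaf on the small etale site of X and U an open subscheme. Then the pullback map
from H^2(X, F) to H^2(U, F|_U) is surjective. (Exactness of pullback of abelian sheaves, which
always holds, is carried as an instance hypothesis.) -/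
theorem result (k : Type u) [Field k] [IsAlgClosed k] (X : Scheme.{u})
    (f : X ⟶ Spec (CommRingCat.of k)) [IsSeparated f] [LocallyOfFiniteType f] [QuasiCompact f]
    (hdim : topologicalKrullDim X ≤ 1) (F : EtCoh.Ab X) (hF : EtCoh.IsTorsion F) (U : X.Opens)
    [PreservesFiniteLimits (EtCoh.pull U.ι)] :
    Function.Surjective (EtCore.Hpull U.ι F 2) := by
  haveI : CompactSpace X := QuasiCompact.compactSpace_of_compactSpace f
  haveI : IsLocallyNoetherian X := LocallyOfFiniteType.isLocallyNoetherian f
  haveI : AlgebraicGeometry.IsNoetherian X := {}
  haveI : JacobsonSpace X := LocallyOfFiniteType.jacobsonSpace f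
  exact GrothLib.CurveH2Surj18.surjective_Hpull_two
    (fun x hx => GrothLib.GalCd.isSepClosed_residueField_of_closed f x hx) hdim
    (fun x p _ =>
      letI : Algebra k (X.residueField x.1) := (Spec.preimage (X.fromSpecResidueField x.1 ≫ f)).hom.toAlgebra
      GrothLib.CdBr2.normSurj_of_trdeg_le_one k (X.residueField x.1)
        (GrothLib.GalCd.trdeg_residueField_le f hdim x.1) p) F hF U

end Groth.Agent.S0639
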