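import Groth.Statements.S0643
import Mathlib.RingTheory.AdjoinRoot
import Mathlib.Algebra.Ring.GeomSum

set_option autoImplicit false
universe u
open EtCore

namespace Groth.Agent.S0643

open Polynomial in
/-- Let A be a ring, assumed nonzero here (the published statement does not say so; over the zero ring
no polynomial has positive degree in Lean's sense), and a, b elements generating the unit ideal such
that some positive power of a is congruent to 1 modulo b. Then there is a monic polynomial P of
positive degree over A such that in B = A[y]/(P) the element a - b y is a unit. -/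
theorem result (A : Type u) [CommRing A] [Nontrivial A] (a b : A) (hab : IsCoprime a b)
    (hroot : ∃ n : ℕ, 0 < n ∧ a ^ n - 1 ∈ Ideal.span ({b} : Set A)) :
    ∃ P : A[X], P.Monic ∧ 0 < P.natDegree ∧
      IsUnit (algebraMap A (AdjoinRoot P) a - algebraMap A (AdjoinRoot P) b * AdjoinRoot.root P) := by
  obtain ⟨n, hn, ht⟩ := hroot
  obtain ⟨t, ht⟩ := Ideal.mem_span_singleton'.1 ht
  obtain ⟨u, v, huv⟩ := hab
  -- write `-t` as a form of degree `n - 1` in `a` and `b`
  let c : ℕ → A := fun i => -t * ((n - 1).choose i : A) * u ^ i * v ^ (n - 1 - i)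
  have hc : b * ∑ i ∈ Finset.range n, c i * b ^ (n - 1 - i) * a ^ i = 1 - a ^ n := by
    have h := add_pow (u * a) (v * b) (n - 1)
    rw [huv, one_pow, show n - 1 + 1 = n by omega] at h
    have e : ∑ i ∈ Finset.range n, c i * b ^ (n - 1 - i) * a ^ i = -t := by
      rw [← mul_one (-t)]
      nth_rewrite 1 [h]
      rw [Finset.mul_sum]
      exact Finset.sum_congr rfl fun i _ => by simp only [c]; ring
    rw [e]
    linear_combination -ht
  let P : A[X] := X ^ n + ∑ i ∈ Finset.range n, C (c i) * X ^ i
  have hdeg : (∑ i ∈ Finset.range n, C (c i) * X ^ i : A[X]).degree < (n : WithBot ℕ) := by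
    refine (degree_sum_le _ _).trans_lt ((Finset.sup_lt_iff (WithBot.bot_lt_coe n)).2 fun i hi => ?_)
    exact (degree_C_mul_X_pow_le _ _).trans_lt (WithBot.coe_lt_coe.2 (Finset.mem_range.1 hi))
  refine ⟨P, monic_X_pow_add hdeg, ?_, ?_⟩
  · have h : P.degree = n := by
      rw [degree_add_eq_left_of_degree_lt (by rwa [degree_X_pow]), degree_X_pow]
    rwa [natDegree_eq_of_degree_eq_some h]
  let φ := algebraMap A (AdjoinRoot P)
  let r := AdjoinRoot.root P
  have hr : r ^ n + ∑ i ∈ Finset.range n, φ (c i) * r ^ i = 0 := by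
    have h := AdjoinRoot.eval₂_root P
    simp only [P, eval₂_add, eval₂_X_pow, eval₂_finsetSum, eval₂_mul, eval₂_C] at h
    exact h
  have hbr : (φ b * r) ^ n + φ b * ∑ i ∈ Finset.range n, φ (c i) * φ b ^ (n - 1 - i) * (φ b * r) ^ i = 0 := by
    have e : φ b * ∑ i ∈ Finset.range n, φ (c i) * φ b ^ (n - 1 - i) * (φ b * r) ^ i =
        φ b ^ n * ∑ i ∈ Finset.range n, φ (c i) * r ^ i := by
      rw [Finset.mul_sum, Finset.mul_sum]
      refine Finset.sum_congr rfl fun i hi => ?_
      have hp : φ b * φ b ^ (n - 1 - i) * φ b ^ i = φ b ^ n := by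
        rw [← pow_succ', ← pow_add]
        congr 1
        have := Finset.mem_range.1 hi
        omega
      rw [mul_pow]
      linear_combination φ (c i) * r ^ i * hp
    rw [e, mul_pow, ← mul_add, hr, mul_zero]
  have ha : φ a ^ n + φ b * ∑ i ∈ Finset.range n, φ (c i) * φ b ^ (n - 1 - i) * φ a ^ i = 1 := by
    have h := congrArg φ hc
    simp only [map_mul, map_sum, map_sub, map_one, map_pow] at h
    rw [h]
    ring
  refine isUnit_of_dvd_one ?_
  have hdiv : ∀ i : ℕ, φ a - φ b * r ∣ φ a ^ i - (φ b * r) ^ i := fun i => sub_dvd_pow_sub_pow _ _ i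
  have h1 : (1 : AdjoinRoot P) = (φ a ^ n - (φ b * r) ^ n) + φ b *
      ∑ i ∈ Finset.range n, φ (c i) * φ b ^ (n - 1 - i) * (φ a ^ i - (φ b * r) ^ i) := by
    simp only [mul_sub, Finset.sum_sub_distrib]
    linear_combination hbr - ha
  change φ a - φ b * r ∣ 1
  rw [h1]
  exact dvd_add (hdiv n) (dvd_mul_of_dvd_right
    (Finset.dvd_sum fun i _ => dvd_mul_of_dvd_right (hdiv i) _) _)

end Groth.Agent.S0643
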