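import Groth.Statements.S0652
import Groth.Agent.Lib.ExtZero.Open
-- import your own Groth.Agent.* helpers here

set_option autoImplicit false
open CategoryTheory CategoryTheory.Limits AlgebraicGeometry Opposite
universe u
open EtCore

namespace Groth.Agent.S0652

/-- For an open immersion j : U -> X and an abelian sheaf F on the small etale site of U, an abelian
sheaf G on X is isomorphic to j_! F as soon as G restricts to a sheaf isomorphic to F on U and has
vanishing stalks at every geometric point of X not in U. (Continuity of the composition functor of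
etale sites, which always holds, is carried as an instance hypothesis.) -/
theorem result {U X : Scheme.{u}} (j : U ⟶ X) [IsOpenImmersion j]
    [AlgebraicGeometry.Etale j] [EtShriek.JCont j] (F : EtCoh.Ab U) (G : EtCoh.Ab X)
    (hres : Nonempty ((EtShriek.restrAlong j).obj G ≅ F))
    (hzero : ∀ (Ω : Type u) [Field Ω] [IsSepClosed Ω] (ξ : Spec (CommRingCat.of Ω) ⟶ X),
      Set.range ξ.base ⊆ (Set.range j.base)ᶜ → IsZero ((EtCoh.stalk ξ).obj G)) :
    Nonempty (G ≅ (EtShriek.extZero j).obj F) := 
  GrothLib.ExtZero.nonempty_iso_extZero j F G hres.some fun Ω _ _ ξ hξ =>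
    hzero Ω ξ (GrothLib.ExtZero.range_subset_compl ξ hξ)

end Groth.Agent.S0652
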