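import Groth.Statements.S0657
import Groth.Agent.Lib.PFilt18.Main
-- import your own Groth.Agent.* helpers here

set_option autoImplicit false
open CategoryTheory CategoryTheory.Limits AlgebraicGeometry Opposite
universe u
open EtCore

namespace Groth.Agent.S0657

/-- Let S be a connected scheme, ℓ a prime and F a finite locally constant abelian sheaf on the small
etale site of S killed by ℓ. Then there are a finite etale morphism f : T -> S whose geometric
fibres all have the same cardinality d prime to ℓ, and a finite filtration of f^{-1} F by subsheaves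
whose successive quotients are isomorphic to the constant sheaf Z/ℓ. The filtration is given as a
chain G_0 -> G_1 -> ... -> G_n of monomorphisms with G_0 = 0, G_n isomorphic to f^{-1} F and
cokernels constant. -/
theorem result (S : Scheme.{u}) [ConnectedSpace S] (ℓ : ℕ) [Fact ℓ.Prime]
    (F : EtCoh.Ab S) (hF : EtCoh.IsFiniteLocallyConstant F) (hℓ : EtCoh.KilledBy ℓ F) :
    ∃ (T : Scheme.{u}) (f : T ⟶ S) (_ : IsFinite f) (_ : AlgebraicGeometry.Etale f) (d : ℕ), ℓ.Coprime d ∧
      (∀ (Ω : Type u) [Field Ω] [IsAlgClosed Ω] (η : Spec (CommRingCat.of Ω) ⟶ S),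
        Nat.card {t : Spec (CommRingCat.of Ω) ⟶ T // t ≫ f = η} = d) ∧
      ∃ (n : ℕ) (G : ℕ → EtCoh.Ab T) (φ : ∀ i, G i ⟶ G (i + 1)),
        IsZero (G 0) ∧ Nonempty (G n ≅ (EtCoh.pull f).obj F) ∧
        ∀ i, i < n → Mono (φ i) ∧ Nonempty (cokernel (φ i) ≅ EtCoh.const T (ZMod ℓ)) := by
  obtain ⟨Q, d, hd, hcard, h⟩ := GrothLib.PFilt18.exists_prime_to_ell_filtration S ℓ F hF hℓ
  exact ⟨Q.left, Q.hom, Q.prop.1, Q.prop.2, d, hd, hcard, h⟩

end Groth.Agent.S0657
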