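import Groth.Statements.S0659
import Groth.Agent.Lib.EtDer.MV
-- import your own Groth.Agent.* helpers here

set_option autoImplicit false
open CategoryTheory CategoryTheory.Limits AlgebraicGeometry Opposite
universe u
open EtCore

namespace Groth.Agent.S0659

/-- Let X = U ∪ V be a union of two open subschemes and F an abelian sheaf on the small etale site of X.
Writing r_U, r_V for the pullback maps H^n(X, F) -> H^n(U, F|_U), H^n(V, F|_V) and d for the
difference of the two further pullbacks to H^n(U ∩ V, F|_{U ∩ V}), there are connecting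
homomorphisms δ_n : H^n(U ∩ V) -> H^{n+1}(X) making the Mayer-Vietoris sequence exact: (r_U, r_V) is
injective in degree 0 and has kernel the image of δ in positive degrees, d has kernel the image of
(r_U, r_V), and δ has kernel the image of d. (Functoriality in F is not stated.) (Exactness of
pullback of abelian sheaves, which always holds, is carried as an instance hypothesis.) -/
theorem result (X : Scheme.{u}) (U V : X.Opens) (hUV : U ⊔ V = ⊤) (F : EtCoh.Ab X)
    [PreservesFiniteLimits (EtCoh.pull U.ι)] [PreservesFiniteLimits (EtCoh.pull V.ι)]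
    [PreservesFiniteLimits (EtCoh.pull (X.homOfLE (inf_le_left : U ⊓ V ≤ U)))]
    [PreservesFiniteLimits (EtCoh.pull (X.homOfLE (inf_le_right : U ⊓ V ≤ V)))] :
    ∃ δ : ∀ n : ℕ, EtCoh.H ↑(U ⊓ V) ((EtCoh.pull (U ⊓ V).ι).obj F) n →+ EtCoh.H X F (n + 1),
      (AddMonoidHom.prod (EtCore.Hpull U.ι F 0) (EtCore.Hpull V.ι F 0)).ker = ⊥ ∧
      (∀ n : ℕ, (AddMonoidHom.prod (EtCore.Hpull U.ι F (n + 1)) (EtCore.Hpull V.ι F (n + 1))).ker = (δ n).range) ∧
      (∀ n : ℕ, (((EtCore.HpullVia (X.homOfLE (inf_le_left : U ⊓ V ≤ U)) U.ι (U ⊓ V).ι (X.homOfLE_ι inf_le_left) F n)).comp (AddMonoidHom.fst _ _) - ((EtCore.HpullVia (X.homOfLE (inf_le_right : U ⊓ V ≤ V)) V.ι (U ⊓ V).ι (X.homOfLE_ι inf_le_right) F n)).comp (AddMonoidHom.snd _ _)).ker =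
        (AddMonoidHom.prod (EtCore.Hpull U.ι F n) (EtCore.Hpull V.ι F n)).range) ∧
      (∀ n : ℕ, (δ n).ker = (((EtCore.HpullVia (X.homOfLE (inf_le_left : U ⊓ V ≤ U)) U.ι (U ⊓ V).ι (X.homOfLE_ι inf_le_left) F n)).comp (AddMonoidHom.fst _ _) - ((EtCore.HpullVia (X.homOfLE (inf_le_right : U ⊓ V ≤ V)) V.ι (U ⊓ V).ι (X.homOfLE_ι inf_le_right) F n)).comp (AddMonoidHom.snd _ _)).range) := by
  exact GrothLib.EtDer.MV.exists_delta U V F hUV

end Groth.Agent.S0659
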