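import Groth.Statements.S0665
import Groth.Agent.Lib.CechInj.Basic
-- import your own Groth.Agent.* helpers here

set_option autoImplicit false
open CategoryTheory CategoryTheory.Limits Opposite
universe w v u
open EtCore

namespace Groth.Agent.S0665

/-- Let C be a category whose Hom-sets are small relative to the coefficient universe, U an object, (U_i
-> U) a family of morphisms with target U such that the relevant fibre products exist (finite
products in the over category), and I an injective object of the category of abelian presheaves on
C. Then the Cech cohomology of I with respect to the family vanishes in every positive degree. -/
theorem result {C : Type u} [Category.{v} C] [LocallySmall.{w} C] {U : C} [HasFiniteProducts (Over U)]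
    {ι : Type w} (Uf : ι → Over U) (I : Cᵒᵖ ⥤ AddCommGrpCat.{w}) [Injective I] (p : ℕ) :
    IsZero (EtCech.cechH Uf I (p + 1)) := GrothLib.CechInj.isZero_cechH (P := I) p

end Groth.Agent.S0665
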