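import Groth.Statements.S0670
import Groth.Agent.Lib.EtDer.ResZar
-- import your own Groth.Agent.* helpers here

set_option autoImplicit false
open CategoryTheory CategoryTheory.Limits AlgebraicGeometry Opposite
universe u
open EtCore

namespace Groth.Agent.S0670

/-- Suppose S is a scheme in which every local ring is strictly henselian. For any abelian sheaf F on
the small étale site of S and any degree i, the étale cohomology H^i(S, F) is isomorphic to the
Zariski cohomology in degree i of the restriction of F to the site of opens of S. (Continuity of the
functor from opens of S to étale S-schemes is carried as an instance binder; only some isomorphism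
is claimed to exist, whereas the published statement gives a canonical one.) -/
theorem result (S : Scheme.{u})
    (hS : ∀ s : S, EtCoh.IsStrictlyHenselianLocalRing (S.presheaf.stalk s)) [EtZar.ZarCont S]
    (F : EtCoh.Ab S) (i : ℕ) :
    Nonempty (EtCoh.H S F i ≃+ EtZar.H ((EtZar.resZar S).obj F) i) := by
  exact GrothLib.EtDer.nonempty_H_resZar_equiv hS F i

end Groth.Agent.S0670
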