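import Groth.Statements.S0676
import Groth.Agent.Lib.IndEt.Retract
import Groth.Agent.Lib.Hensel.FiniteEtaleLift

set_option autoImplicit false
open CategoryTheory CategoryTheory.Limits AlgebraicGeometry Opposite Topology
universe u
open ProEtW

namespace Groth.Agent.S0676

/-- If every faithfully flat etale A-algebra has an A-algebra retraction, then the same holds for the
quotient ring A/I for every ideal I. -/
theorem result (A : Type u) [CommRing A]
    (h : ProEtW.HasEtaleRetractions A) (I : Ideal A) :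
    ProEtW.HasEtaleRetractions (A ⧸ I) := by
  intro C _ _ _ _
  letI : Algebra A C := ((algebraMap (A ⧸ I) C).comp (Ideal.Quotient.mk I)).toAlgebra
  haveI : IsScalarTower A (A ⧸ I) C := IsScalarTower.of_algebraMap_eq fun _ => rfl
  obtain ⟨T, _, _, f, _, hf, hker⟩ := GrothLib.Hensel.exists_etale_lift I C
  have hI : PrimeSpectrum.zeroLocus (I : Set A) ⊆ Set.range (PrimeSpectrum.comap (algebraMap A T)) := by
    intro z hz
    obtain ⟨z', rfl⟩ : z ∈ Set.range (PrimeSpectrum.comap (Ideal.Quotient.mk I)) := by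
      rw [range_comap_of_surjective _ _ Ideal.Quotient.mk_surjective, Ideal.mk_ker]
      exact hz
    obtain ⟨w, rfl⟩ := PrimeSpectrum.comap_surjective_of_faithfullyFlat (A := A ⧸ I) (B := C) z'
    refine ⟨PrimeSpectrum.comap f.toRingHom w, ?_⟩
    rw [← PrimeSpectrum.comap_comp_apply, ← PrimeSpectrum.comap_comp_apply]
    exact congrArg (fun φ => PrimeSpectrum.comap φ w) (f.comp_algebraMap)
  obtain ⟨g, hg, -, ⟨ψ⟩⟩ := GrothLib.IndEt.exists_retraction_mod h T I hI
  let χ : T →ₐ[A] A ⧸ I :=
    (Ideal.Quotient.factorₐ A (Ideal.span_le.2 (Set.singleton_subset_iff.2 hg))).comp ψ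
  have hχ : ∀ t ∈ RingHom.ker f, χ t = 0 := fun t ht => by
    have : RingHom.ker f ≤ RingHom.ker χ := by
      rw [hker, Ideal.map_le_iff_le_comap]
      intro a ha
      show χ (algebraMap A T a) = 0
      rw [AlgHom.commutes]
      exact Ideal.Quotient.eq_zero_iff_mem.2 ha
    exact this ht
  let ρ : C →ₐ[A] A ⧸ I := (Ideal.Quotient.liftₐ (RingHom.ker f) χ hχ).comp
    (Ideal.quotientKerAlgEquivOfSurjective hf).symm.toAlgHom
  refine ⟨{ ρ.toRingHom with commutes' := fun r => ?_ }⟩
  obtain ⟨a, rfl⟩ := Ideal.Quotient.mk_surjective r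
  exact ρ.commutes a

end Groth.Agent.S0676
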