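import Groth.Statements.S0688
import Groth.Agent.Lib.EtShriek.StalkH0c
-- import your own Groth.Agent.* helpers here

set_option autoImplicit false
open CategoryTheory CategoryTheory.Limits AlgebraicGeometry Opposite
universe u
open EtShriek

namespace Groth.Agent.S0688

/-- Let f : X → Y be separated and locally of finite type, F an abelian sheaf on X_ét and ȳ : Spec k → Y
a geometric point (k algebraically closed), with fibre X_ȳ = X ×_Y Spec k. Then the stalk (f_! F)_ȳ
of the direct image with proper support is isomorphic to H⁰_c(X_ȳ, F|X_ȳ), the group of sections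
with proper support over the geometric fibre. (Only the existence of an isomorphism of groups is
asserted; the published isomorphism is a specific canonical one.) -/
theorem result {X Y : Scheme.{u}} (f : X ⟶ Y) [IsSeparated f] [LocallyOfFiniteType f]
    (F : EtCoh.Ab X) {Ω : Type u} [Field Ω] [IsAlgClosed Ω] (η : Spec (CommRingCat.of Ω) ⟶ Y)
    [EtCoh.BCCont (pullback.fst f η)] :
    Nonempty ((EtCoh.stalk η).obj ((EtShriek.lowerShriek f).obj F) ≅
      AddCommGrpCat.of (EtShriek.H0c (pullback.snd f η) ((EtCoh.pull (pullback.fst f η)).obj F))) := GrothLib.EtShriek.nonempty_stalk_iso_H0c f F η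

end Groth.Agent.S0688
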