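import Groth.Statements.S0697
import Groth.Agent.Lib.WLocal.Profinite

set_option autoImplicit false
open CategoryTheory CategoryTheory.Limits AlgebraicGeometry Opposite Topology
universe u
open ProEtW

namespace Groth.Agent.S0697

/-- Let A be a ring, X = Spec A, T a profinite space and g : T -> pi_0(X) continuous. Then there is an
ind-Zariski A-algebra B, with Y = Spec B, and a homeomorphism e : pi_0(Y) -> T over pi_0(X) such
that Y -> X x T, y |-> (image of y, e [y]) is a topological embedding with image the fibre product
of X and T over pi_0(X); that is, the square Y -> pi_0(Y) = T, Y -> X is cartesian in topological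
spaces. -/
theorem result (A : Type u) [CommRing A] (T : Type u)
    [TopologicalSpace T] [CompactSpace T] [T2Space T] [TotallyDisconnectedSpace T]
    (g : C(T, _root_.ConnectedComponents (PrimeSpectrum A))) :
    ∃ (B : Type u) (_ : CommRing B) (_ : Algebra A B) (e : _root_.ConnectedComponents (PrimeSpectrum B) ≃ₜ T),
      EtPBC.IsIndZariski A B ∧
      (∀ y : PrimeSpectrum B,
        g (e (_root_.ConnectedComponents.mk y)) = _root_.ConnectedComponents.mk (PrimeSpectrum.comap (algebraMap A B) y)) ∧
      Topology.IsEmbedding (fun y : PrimeSpectrum B =>
        (PrimeSpectrum.comap (algebraMap A B) y, e (_root_.ConnectedComponents.mk y))) ∧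
      Set.range (fun y : PrimeSpectrum B =>
        (PrimeSpectrum.comap (algebraMap A B) y, e (_root_.ConnectedComponents.mk y))) =
        {p : PrimeSpectrum A × T | _root_.ConnectedComponents.mk p.1 = g p.2} := by
  obtain ⟨B, _, _, h, hB, hh⟩ := GrothLib.WLocal.exists_indZariski_pullback A T g
  obtain ⟨e₀, he₀⟩ := GrothLib.WLocal.exists_homeomorph g
  let c : _root_.ConnectedComponents (PrimeSpectrum B) ≃ₜ _root_.ConnectedComponents (GrothLib.WLocal.Pullback g) :=
    { toFun := h.continuous.connectedComponentsMap
      invFun := h.symm.continuous.connectedComponentsMap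
      left_inv := fun a => by
        obtain ⟨y, rfl⟩ := _root_.ConnectedComponents.surjective_coe a
        show _root_.ConnectedComponents.mk (h.symm (h y)) = _
        rw [h.symm_apply_apply]
      right_inv := fun a => by
        obtain ⟨y, rfl⟩ := _root_.ConnectedComponents.surjective_coe a
        show _root_.ConnectedComponents.mk (h (h.symm y)) = _
        rw [h.apply_symm_apply]
      continuous_toFun := h.continuous.connectedComponentsMap_continuous
      continuous_invFun := h.symm.continuous.connectedComponentsMap_continuous }
  have hy : ∀ y, (c.trans e₀) (_root_.ConnectedComponents.mk y) = (h y).1.2 := fun y => he₀ (h y)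
  have hfun : (fun y : PrimeSpectrum B =>
      (PrimeSpectrum.comap (algebraMap A B) y, (c.trans e₀) (_root_.ConnectedComponents.mk y))) =
      Subtype.val ∘ h := funext fun y => Prod.ext (hh y).symm (hy y)
  refine ⟨B, inferInstance, inferInstance, c.trans e₀, hB, fun y => ?_, ?_, ?_⟩
  · rw [hy, ← (h y).2, hh]
  · rw [hfun]; exact Topology.IsEmbedding.subtypeVal.comp h.isEmbedding
  · rw [hfun, Set.range_comp, h.range_coe, Set.image_univ, Subtype.range_coe_subtype]

end Groth.Agent.S0697
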