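import Groth.Statements.S0698
import Groth.Agent.Lib.WLocal.Profinite

set_option autoImplicit false
open CategoryTheory CategoryTheory.Limits AlgebraicGeometry Opposite Topology
universe u
open ProEtW

namespace Groth.Agent.S0698

/-- Let A be a ring, X = Spec A and T a closed subset of pi_0(X). Then A has an ind-Zariski quotient
ring B (the map A -> B is surjective) whose spectrum maps homeomorphically onto the preimage of T in
X. -/
theorem result (A : Type u) [CommRing A]
    (T : Set (_root_.ConnectedComponents (PrimeSpectrum A))) (hT : IsClosed T) :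
    ∃ (B : Type u) (_ : CommRing B) (_ : Algebra A B),
      EtPBC.IsIndZariski A B ∧ Function.Surjective (algebraMap A B) ∧
      Topology.IsEmbedding (PrimeSpectrum.comap (algebraMap A B)) ∧
      Set.range (PrimeSpectrum.comap (algebraMap A B)) = _root_.ConnectedComponents.mk ⁻¹' T := by
  let Y : Set (PrimeSpectrum A) := _root_.ConnectedComponents.mk ⁻¹' T
  refine ⟨Localization (GrothLib.IndEt.idemSubmonoid Y), inferInstance, inferInstance,
    (GrothLib.IndEt.isIndLoc_of_isLocalization (GrothLib.IndEt.idemSubmonoid Y)).isIndZariski,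
    GrothLib.IndEt.algebraMap_surjective_of_isIdempotentElem (GrothLib.IndEt.idemSubmonoid Y) fun _ hs => hs.1,
    GrothLib.IndEt.isEmbedding_comap_idemSubmonoid Y,
    GrothLib.IndEt.range_comap_idemSubmonoid fun p hp => ?_⟩
  obtain ⟨s, hs, hTs, hps⟩ := GrothLib.WLocal.exists_isClopen_of_isClosed hT hp
  obtain ⟨e, he, rfl⟩ := PrimeSpectrum.isClopen_iff.1 hs
  exact ⟨e, he, fun y hy => hTs hy, not_not.1 hps⟩

end Groth.Agent.S0698
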