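import Groth.Statements.S0702
import Groth.Agent.Lib.WLocal.DimZero

set_option autoImplicit false
open CategoryTheory CategoryTheory.Limits AlgebraicGeometry Opposite Topology
universe u
open ProEtW

namespace Groth.Agent.S0702

/-- Let Spec A be profinite and A -> B induce algebraic extensions of residue fields at all primes. Then
Spec B is profinite. -/
theorem result (A B : Type u) [CommRing A] [CommRing B]
    [Algebra A B] [T2Space (PrimeSpectrum A)] [TotallyDisconnectedSpace (PrimeSpectrum A)]
    (h : ProEtW.AlgebraicResidueExtensions A B) :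
    ProEtW.IsProfinite (PrimeSpectrum B) := by
  refine GrothLib.WLocal.isProfinite fun q => ?_
  haveI : (q.asIdeal.comap (algebraMap A B)).IsMaximal :=
    GrothLib.WLocal.isMaximal_of_t2 (PrimeSpectrum.comap (algebraMap A B) q)
  haveI := h q.asIdeal
  letI := Ideal.Quotient.field (q.asIdeal.comap (algebraMap A B))
  haveI : Algebra.IsIntegral (A ⧸ q.asIdeal.comap (algebraMap A B)) (B ⧸ q.asIdeal) :=
    Algebra.isAlgebraic_iff_isIntegral.1 ‹_›
  exact Ideal.Quotient.maximal_of_isField _ (isField_of_isIntegral_of_isField' (Field.toIsField (A ⧸ q.asIdeal.comap (algebraMap A B))))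

end Groth.Agent.S0702
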