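import Groth.Statements.S0703
import Groth.Agent.Lib.WLocal.Pullback

set_option autoImplicit false
open Topology
universe u
open ProEtW

namespace Groth.Agent.S0703

/-- Let X be a spectral space, T a profinite space and g : T -> pi_0(X) continuous; let Y be the fibre
product of X and T over pi_0(X) (pairs (x, t) with [x] = g t, subspace topology). Then Y is spectral
and the projection Y -> T induces a homeomorphism pi_0(Y) = T. -/
theorem result (X T : Type u) [TopologicalSpace X] [SpectralSpace X]
    [TopologicalSpace T] [CompactSpace T] [T2Space T] [TotallyDisconnectedSpace T]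
    (g : C(T, _root_.ConnectedComponents X)) :
    SpectralSpace {p : X × T // _root_.ConnectedComponents.mk p.1 = g p.2} ∧
      ∃ e : _root_.ConnectedComponents {p : X × T // _root_.ConnectedComponents.mk p.1 = g p.2} ≃ₜ T,
        ∀ y : {p : X × T // _root_.ConnectedComponents.mk p.1 = g p.2}, e (_root_.ConnectedComponents.mk y) = y.1.2 := by
  exact ⟨GrothLib.WLocal.spectralSpace_pullback g, GrothLib.WLocal.exists_homeomorph g⟩

end Groth.Agent.S0703
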