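import Groth.Statements.S0705
import Groth.Agent.Lib.WLocal.Along

set_option autoImplicit false
open CategoryTheory CategoryTheory.Limits AlgebraicGeometry Opposite Topology
universe u
open ProEtW

namespace Groth.Agent.S0705

/-- Let I be an ideal of A such that V(I) is a profinite space. Then some ind-Zariski A-algebra B has
w-local spectrum whose closed points are exactly V(IB), with A/I -> B/IB bijective. -/
theorem result (A : Type u) [CommRing A] (I : Ideal A)
    (hI : ProEtW.IsProfinite (PrimeSpectrum.zeroLocus (R := A) I)) :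
    ∃ (B : Type u) (_ : CommRing B) (_ : Algebra A B),
      EtPBC.IsIndZariski A B ∧ ProEtW.IsWLocal (PrimeSpectrum B) ∧
      ProEtW.closedPoints (PrimeSpectrum B) = PrimeSpectrum.zeroLocus (I.map (algebraMap A B)) ∧
      Function.Bijective (Ideal.quotientMap (I.map (algebraMap A B)) (algebraMap A B)
        Ideal.le_comap_map) := by
  refine GrothLib.WLocal.exists_along A I fun p hp => ?_
  obtain ⟨q, hq, hle⟩ := Ideal.exists_le_maximal p.asIdeal p.isPrime.ne_top
  haveI := hI.2.1
  have hsp : (⟨p, hp⟩ : PrimeSpectrum.zeroLocus (R := A) I) ⤳ ⟨⟨q, hq.isPrime⟩, hp.trans hle⟩ :=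
    (subtype_specializes_iff _ _).2 ((PrimeSpectrum.le_iff_specializes p ⟨q, hq.isPrime⟩).1 hle)
  have h := congrArg (fun x => (Subtype.val x).asIdeal) hsp.eq
  exact (show p.asIdeal = q from h) ▸ hq

end Groth.Agent.S0705
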