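import Groth.Statements.S0706


set_option autoImplicit false
open CategoryTheory CategoryTheory.Limits AlgebraicGeometry Opposite Topology
universe u
open ProEtW

namespace Groth.Agent.S0706

/-- Let f be an element and I an ideal of A, and Z the intersection of D(f) and V(I) in Spec A. There is
a multiplicative subset S of A for which the image of Spec(S^{-1}A) in Spec A consists precisely of
the points having a specialization in Z. -/
theorem result (A : Type u) [CommRing A] (f : A) (I : Ideal A) :
    ∃ S : Submonoid A,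
      Set.range (PrimeSpectrum.comap (algebraMap A (Localization S))) =
        {x | ∃ z : PrimeSpectrum A,
          z ∈ (PrimeSpectrum.basicOpen f : Set (PrimeSpectrum A)) ∩ PrimeSpectrum.zeroLocus I ∧ x ⤳ z} := by
  let S : Submonoid A :=
    { carrier := {a | ∀ z : PrimeSpectrum A, f ∉ z.asIdeal → I ≤ z.asIdeal → a ∉ z.asIdeal}
      one_mem' := fun z _ _ h => z.isPrime.ne_top ((Ideal.eq_top_iff_one _).2 h)
      mul_mem' := fun ha hb z hf hI h =>
        (z.isPrime.mem_or_mem h).elim (ha z hf hI) (hb z hf hI) }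
  refine ⟨S, ?_⟩
  rw [PrimeSpectrum.localization_comap_range (Localization S) S]
  ext x
  constructor
  · intro hx
    have hdis : Disjoint ((I ⊔ x.asIdeal : Ideal A) : Set A) (Submonoid.powers f : Set A) := by
      rw [Set.disjoint_left]
      rintro a ha ⟨n, rfl⟩
      obtain ⟨i, hi, j, hj, hij⟩ := Submodule.mem_sup.1 ha
      refine Set.disjoint_left.1 hx (show j ∈ S from fun z hzf hzI hjz => hzf ?_) hj
      refine z.isPrime.mem_of_pow_mem n ?_
      show (fun k : ℕ => f ^ k) n ∈ z.asIdeal
      rw [← hij]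
      exact z.asIdeal.add_mem (hzI hi) hjz
    obtain ⟨p, hp, hle, hpf⟩ := Ideal.exists_le_prime_disjoint (I ⊔ x.asIdeal) (Submonoid.powers f) hdis
    refine ⟨⟨p, hp⟩, ⟨?_, ?_⟩, (PrimeSpectrum.le_iff_specializes _ _).1 (le_sup_right.trans hle)⟩
    · exact fun h => Set.disjoint_left.1 hpf h ⟨1, pow_one f⟩
    · exact le_sup_left.trans hle
  · rintro ⟨z, ⟨hzf, hzI⟩, hxz⟩
    exact Set.disjoint_left.2 fun a ha hax =>
      ha z hzf hzI ((PrimeSpectrum.le_iff_specializes _ _).2 hxz hax)

end Groth.Agent.S0706
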