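import Groth.Statements.S0707
import Groth.Agent.Lib.IndEt.Retract
import Groth.Agent.Lib.IndEt.Flat

set_option autoImplicit false
open CategoryTheory CategoryTheory.Limits AlgebraicGeometry Opposite Topology
universe u
open ProEtW

namespace Groth.Agent.S0707

/-- Let A be w-contractible, E a finite set of elements of A with zero set Z in Spec A, and B a
localization of A at a multiplicative subset S such that the image of Spec B → Spec A is precisely
the set of points of Spec A specializing to some point of Z. Then B is w-contractible. -/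
theorem result (A B : Type u) [CommRing A] [CommRing B]
    [Algebra A B] (S : Submonoid A) [IsLocalization S B] (E : Finset A)
    (hB : Set.range (PrimeSpectrum.comap (algebraMap A B)) =
      {x | ∃ z : PrimeSpectrum A, z ∈ PrimeSpectrum.zeroLocus (R := A) E ∧ x ⤳ z})
    (hA : EtPBC.IsWContractible A) : EtPBC.IsWContractible B := by
  classical
  intro C _ _ hff hwe
  letI : Algebra A C := ((algebraMap B C).comp (algebraMap A B)).toAlgebra
  haveI : IsScalarTower A B C := IsScalarTower.of_algebraMap_eq fun _ => rfl
  haveI : Algebra.WeaklyEtale A B :=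
    GrothLib.IndEt.weaklyEtale (GrothLib.IndEt.isIndEtale_of_isLocalization S)
  haveI : Algebra.WeaklyEtale A C := Algebra.WeaklyEtale.trans A B C
  have key : ∀ E' : Finset A, ∃ (W : Type u) (_ : CommRing W) (_ : Algebra A W),
      Algebra.WeaklyEtale A W ∧
      (∀ p : PrimeSpectrum A, (∃ e ∈ E', e ∉ p.asIdeal) →
        p ∈ Set.range (PrimeSpectrum.comap (algebraMap A W))) ∧
      ∀ ρ : W →ₗ[A] A, ρ 1 ∈ Ideal.span (E' : Set A) := by
    intro E'
    induction E' using Finset.induction_on with
    | empty =>
      refine ⟨A ⧸ (⊤ : Ideal A), inferInstance, inferInstance, ?_, ?_, ?_⟩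
      · haveI : IsLocalization.Away (0 : A) (A ⧸ (⊤ : Ideal A)) :=
          IsLocalization.away_of_isIdempotentElem (IsIdempotentElem.zero)
            (by simp [Ideal.Quotient.algebraMap_eq]) Ideal.Quotient.mk_surjective
        exact GrothLib.IndEt.weaklyEtale
          (GrothLib.IndEt.isIndEtale_of_isLocalization (Submonoid.powers (0 : A)))
      · simp
      · intro ρ
        rw [Subsingleton.elim (1 : A ⧸ (⊤ : Ideal A)) 0, map_zero]
        exact zero_mem _
    | insert e E' he ih =>
      obtain ⟨W, _, _, hW, hcov, hspan⟩ := ih
      haveI := hW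
      haveI : Algebra.Etale A (Localization.Away e) := Algebra.Etale.of_isLocalizationAway e
      refine ⟨Localization.Away e × W, inferInstance, inferInstance,
        GrothLib.IndEt.weaklyEtale_prod _ _, ?_, ?_⟩
      · rintro p ⟨a, ha, hap⟩
        rcases Finset.mem_insert.1 ha with rfl | ha
        · obtain ⟨q, rfl⟩ : p ∈ Set.range (PrimeSpectrum.comap (algebraMap A (Localization.Away a))) := by
            rw [PrimeSpectrum.localization_away_comap_range (Localization.Away a) a]
            exact hap
          exact ⟨PrimeSpectrum.comap (RingHom.fst _ _) q, by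
            rw [← PrimeSpectrum.comap_comp_apply]; rfl⟩
        · obtain ⟨q, rfl⟩ := hcov p ⟨a, ha, hap⟩
          exact ⟨PrimeSpectrum.comap (RingHom.snd _ _) q, by
            rw [← PrimeSpectrum.comap_comp_apply]; rfl⟩
      · intro ρ
        obtain ⟨w, hw⟩ : ∃ w, algebraMap A (Localization.Away e) e * w = 1 :=
          (IsLocalization.Away.algebraMap_isUnit (S := Localization.Away e) e).exists_right_inv
        have h1 : (1 : Localization.Away e × W) =
            e • LinearMap.inl A _ W w + LinearMap.inr A (Localization.Away e) W 1 := by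
          ext <;> simp [Algebra.smul_def, hw]
        rw [h1, map_add, map_smul, Finset.coe_insert]
        exact add_mem (Ideal.mul_mem_right _ _ (Ideal.subset_span (Set.mem_insert _ _)))
          (Ideal.span_mono (Set.subset_insert _ _) (hspan (ρ.comp (LinearMap.inr A _ W))))
  obtain ⟨W, _, _, hW, hcov, hspan⟩ := key E
  haveI := hW
  haveI : Algebra.WeaklyEtale A (C × W) := GrothLib.IndEt.weaklyEtale_prod C W
  haveI : Module.FaithfullyFlat A (C × W) := by
    refine Module.FaithfullyFlat.of_comap_surjective fun p => ?_
    by_cases hp : p ∈ Set.range (PrimeSpectrum.comap (algebraMap A B))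
    · obtain ⟨q, rfl⟩ := hp
      obtain ⟨w, rfl⟩ := PrimeSpectrum.comap_surjective_of_faithfullyFlat (A := B) (B := C) q
      exact ⟨PrimeSpectrum.comap (RingHom.fst _ _) w, by
        rw [← PrimeSpectrum.comap_comp_apply, ← PrimeSpectrum.comap_comp_apply]; rfl⟩
    · obtain ⟨q, rfl⟩ := hcov p (by
        by_contra hne
        push Not at hne
        exact hp (hB ▸ ⟨p, fun a ha => hne a ha, specializes_rfl⟩))
      exact ⟨PrimeSpectrum.comap (RingHom.snd _ _) q, by
        rw [← PrimeSpectrum.comap_comp_apply]; rfl⟩
  obtain ⟨r⟩ := hA (C × W) inferInstance inferInstance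
  let g := r (1, 0)
  have hg : 1 - g ∈ Ideal.span (E : Set A) := by
    have : 1 - g = (r.toLinearMap.comp (LinearMap.inr A C W)) 1 := by
      show 1 - g = r (0, 1)
      rw [← map_one r, ← map_sub]
      congr 1
      ext <;> simp
    rw [this]
    exact hspan _
  have hu : IsUnit (algebraMap A B g) := by
    by_contra hu
    obtain ⟨M, hM, hgM⟩ := exists_max_ideal_of_mem_nonunits hu
    have : PrimeSpectrum.comap (algebraMap A B) ⟨M, hM.isPrime⟩ ∈
        Set.range (PrimeSpectrum.comap (algebraMap A B)) := ⟨_, rfl⟩
    rw [hB] at this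
    obtain ⟨z, hz, hxz⟩ := this
    have hgz : g ∈ z.asIdeal := (PrimeSpectrum.le_iff_specializes _ _).2 hxz hgM
    exact z.isPrime.ne_top ((Ideal.eq_top_iff_one _).2
      (by simpa using z.asIdeal.add_mem (Ideal.span_le.2 hz hg) hgz))
  have hgg : g * g = g := by simp [g, ← map_mul]
  have hg1 : algebraMap A B g = 1 := by
    apply hu.mul_left_cancel
    rw [← map_mul, hgg, mul_one]
  let ψ : C →+* B :=
    { toFun := fun c => algebraMap A B (r (c, 0))
      map_one' := hg1
      map_mul' := fun a b => by rw [← map_mul, ← map_mul]; simp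
      map_zero' := by rw [Prod.mk_zero_zero, map_zero, map_zero]
      map_add' := fun a b => by rw [← map_add, ← map_add]; simp }
  have hψ : ψ.comp (algebraMap B C) = RingHom.id B := by
    refine IsLocalization.ringHom_ext S (RingHom.ext fun a => ?_)
    show algebraMap A B (r (algebraMap B C (algebraMap A B a), 0)) = algebraMap A B a
    rw [← IsScalarTower.algebraMap_apply A B C,
      show ((algebraMap A C a, 0) : C × W) = algebraMap A (C × W) a * (1, 0) by ext <;> simp,
      map_mul, AlgHom.commutes, Algebra.algebraMap_self, RingHom.id_apply, map_mul]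
    exact (congrArg _ hg1).trans (mul_one _)
  exact ⟨{ ψ with commutes' := fun b => RingHom.congr_fun hψ b }⟩

end Groth.Agent.S0707
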