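import Groth.Statements.S0708
import Groth.Agent.Lib.IndEt.Retract

set_option autoImplicit false
open CategoryTheory CategoryTheory.Limits AlgebraicGeometry Opposite Topology
universe u
open ProEtW

namespace Groth.Agent.S0708

/-- Let A be a ring all of whose faithfully flat etale algebras have retractions, I an ideal with zero
set Z, and B a localization of A at a multiplicative subset such that the image of Spec B → Spec A
is precisely the set of points of Spec A specializing to some point of Z. Then every faithfully flat
etale B-algebra has a retraction. -/
theorem result (A B : Type u) [CommRing A] [CommRing B]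
    [Algebra A B] (S : Submonoid A) [IsLocalization S B] (I : Ideal A)
    (hB : Set.range (PrimeSpectrum.comap (algebraMap A B)) =
      {x | ∃ z : PrimeSpectrum A, z ∈ PrimeSpectrum.zeroLocus (R := A) I ∧ x ⤳ z})
    (hA : ProEtW.HasEtaleRetractions A) : ProEtW.HasEtaleRetractions B := by
  exact GrothLib.IndEt.hasEtaleRetractions_localization S I hB hA

end Groth.Agent.S0708
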