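import Groth.Statements.S0723
import Groth.Agent.Lib.ProEtS.UIDense

set_option autoImplicit false
open CategoryTheory CategoryTheory.Limits AlgebraicGeometry Opposite
universe u
open ProEtS

namespace Groth.Agent.S0723

/-- Let i : Z -> X be integral, universally injective and surjective. Then i_{proet,*} on abelian
pro-etale sheaves is an equivalence of categories (with quasi-inverse i^{-1}; continuity of base
change assumed as a binder). -/
theorem result {Z X : Scheme.{u}} (i : Z ⟶ X)
    [IsIntegralHom i] [UniversallyInjective i] [Surjective i] [ProEtS.PCont i] :
    (ProEtS.pushP i).IsEquivalence := by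
  exact GrothLib.ProEtS.isEquivalence_pushP i

end Groth.Agent.S0723
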