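import Groth.Statements.S0724
import Groth.Agent.Lib.ProEtS.CoprodH

set_option autoImplicit false
set_option linter.style.haveILetI false
open CategoryTheory CategoryTheory.Limits AlgebraicGeometry Opposite
universe u
open ProEtS

namespace Groth.Agent.S0724

/-- Applied to abelian sheaves (complexes in degree 0) and read on cohomology groups: for X
quasi-compact and quasi-separated and every n, the functor F |-> H^n(X_proet, F) commutes with
direct sums indexed by any small type. -/
theorem result (X : Scheme.{u}) [CompactSpace ↥X]
    [QuasiSeparatedSpace ↥X] (n : ℕ) (ι : Type u) :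
    PreservesColimitsOfShape (Discrete ι) (ProEtS.HPF X n) := by
  refine ⟨fun {K} => ?_⟩
  let f : ι → ProEtS.AbP X := fun i => K.obj ⟨i⟩
  haveI : (ProEtS.HPF X n).Additive := by
    unfold ProEtS.HPF
    infer_instance
  haveI : PreservesColimit (Discrete.functor (K.obj ∘ Discrete.mk)) (ProEtS.HPF X n) :=
    GrothLib.CoprodH20.preservesColimit_of_fin f (ProEtS.HPF X n)
      fun x => GrothLib.ProEtS.finSupp_H n f x
  exact preservesColimit_of_iso_diagram (ProEtS.HPF X n) Discrete.natIsoFunctor.symm

end Groth.Agent.S0724
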