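import Groth.Statements.S0725
import Groth.Agent.Lib.ProEtS.Product

set_option autoImplicit false
open CategoryTheory CategoryTheory.Limits AlgebraicGeometry Opposite
universe u
open ProEtS

namespace Groth.Agent.S0725

/-- If a set-valued presheaf F on X_proet turns finite disjoint unions into products (it preserves
finite products of the opposite category), then on every affine weakly contractible object W its
sections already agree with those of its sheafification: F(W) -> F^#(W) is bijective. -/
theorem result {X : Scheme.{u}} (F : X.ProEtᵒᵖ ⥤ Type (u + 1))
    [PreservesFiniteProducts F] (W : X.ProEt) [IsAffine W.left] (hW : ProEtS.IsWC W) :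
    Function.Bijective ((toSheafify (Scheme.ProEt.topology X) F).app (op W)) := by
  exact GrothLib.ProEtS.bijective_app_of_clopenRefined
    (G := (presheafToSheaf (Scheme.ProEt.topology X) (Type (u + 1))).obj F)
    (toSheafify (Scheme.ProEt.topology X) F) (GrothLib.ProEtS.piProp_of_preservesFiniteProducts F W)
    (GrothLib.ProEtS.wContractible_tfae.2.1 (GrothLib.ProEtS.wContractible_tfae.1.2 hW))

end Groth.Agent.S0725
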