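import Groth.Statements.S0726
import Groth.Agent.Lib.ProEtS.Recollement

set_option autoImplicit false
set_option linter.style.haveILetI false
open CategoryTheory CategoryTheory.Limits AlgebraicGeometry Opposite
universe u
open ProEtS

namespace Groth.Agent.S0726

/-- Let i : Z -> X be a closed immersion and j : U -> X an open immersion with image the complement of
i(Z), j quasi-compact. For every abelian sheaf F on X_proet the sequence 0 -> j_! j^{-1} F -> F ->
i_* i^{-1} F -> 0 (counit of j_! -| j^{-1}, unit of i^{-1} -| i_*) is short exact (continuity of the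
site functors assumed as binders). -/
theorem result {X Z U : Scheme.{u}} (i : Z ⟶ X) [IsClosedImmersion i]
    (j : U ⟶ X) [IsOpenImmersion j] [QuasiCompact j]
    (hc : Set.range j.base = (Set.range i.base)ᶜ) [ProEtS.JPCont j] [ProEtS.PCont i]
    (F : ProEtS.AbP X) :
    ∃ h : (ProEtS.extZeroPAdj j).counit.app F ≫ (ProEtS.pullPushAdjP i).unit.app F = 0,
      (ShortComplex.mk _ _ h).ShortExact := by
  haveI := GrothLib.ProEtS.pCont j
  have hd : Disjoint (Set.range j.base) (Set.range i.base) := hc ▸ disjoint_compl_left
  set f := (ProEtS.extZeroPAdj j).counit.app F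
  set g := (ProEtS.pullPushAdjP i).unit.app F
  have h : f ≫ g = 0 := by
    refine GrothLib.ProEtS.hom_ext_of_class i j hc _ _ fun T hT => ?_
    ext x
    rcases hT with hT | hT
    · exact @Subsingleton.elim _ (GrothLib.ProEtS.subsingleton_pushP_overU i j hd _ T hT) _ _
    · obtain rfl : x = 0 := @Subsingleton.elim _
        (GrothLib.ProEtS.subsingleton_extZeroP_zLoc i j hd _ T hT) _ _
      exact (map_zero _).trans (map_zero _).symm
  haveI : Mono f := GrothLib.ProEtS.mono_of_class i j hc f fun T hT => by
    rcases hT with hT | hT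
    · exact (GrothLib.ProEtS.bijective_counit_overU j F T hT).1
    · exact fun a b _ => @Subsingleton.elim _
        (GrothLib.ProEtS.subsingleton_extZeroP_zLoc i j hd _ T hT) a b
  haveI : Epi g := GrothLib.ProEtS.epi_of_class i j hc g fun T hT => by
    rcases hT with hT | hT
    · exact fun b => ⟨0, @Subsingleton.elim _ (GrothLib.ProEtS.subsingleton_pushP_overU i j hd _ T hT) _ _⟩
    · exact (GrothLib.ProEtS.bijective_unit_zLoc i F hT).2
  refine ⟨h, { exact := ?_, mono_f := (inferInstance : Mono f), epi_g := (inferInstance : Epi g) }⟩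
  rw [ShortComplex.exact_iff_epi_kernel_lift]
  refine GrothLib.ProEtS.epi_of_class i j hc _ fun T hT k => ?_
  have hι : Function.Injective ((kernel.ι g).hom.app (op T)) := by
    haveI : Mono ((sheafToPresheaf _ AddCommGrpCat.{u + 1} ⋙ (evaluation _ _).obj (op T)).map (kernel.ι g)) :=
      inferInstance
    exact (AddCommGrpCat.mono_iff_injective _).1 this
  have hg : g.hom.app (op T) ((kernel.ι g).hom.app (op T) k) = 0 :=
    ConcreteCategory.congr_hom (congrArg (fun φ => φ.hom.app (op T)) (kernel.condition g)) k
  rcases hT with hT | hT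
  · obtain ⟨a, ha⟩ := (GrothLib.ProEtS.bijective_counit_overU j F T hT).2 ((kernel.ι g).hom.app (op T) k)
    refine ⟨a, hι ?_⟩
    refine Eq.trans ?_ ha
    exact ConcreteCategory.congr_hom (congrArg (fun φ => φ.hom.app (op T)) (kernel.lift_ι g f h)) a
  · refine ⟨0, hι ?_⟩
    have h0 : (kernel.ι g).hom.app (op T) k = 0 :=
      (GrothLib.ProEtS.bijective_unit_zLoc i F hT).1 (hg.trans (map_zero _).symm)
    rw [h0, map_zero, map_zero]

end Groth.Agent.S0726
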