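import Groth.Statements.S0728
import Groth.Agent.Lib.EtBasicB.Excision
-- import your own Groth.Agent.* helpers here

set_option autoImplicit false
open CategoryTheory CategoryTheory.Limits AlgebraicGeometry Opposite
universe u
open EtShriek

namespace Groth.Agent.S0728

/-- In the case where the inverse image of Z is Z' (so that the bijection is restriction): let phi : U'
-> U be a morphism of the small etale site of X and Z a closed subset of U such that phi restricted
to the inverse image Z' of Z is a bijection onto Z inducing isomorphisms of residue fields (so Z' ->
U is a closed immersion with image Z, for the reduced structures). Then restriction along phi is a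
bijection from the sections of F over U supported in Z to the sections of F over U' supported in Z'. -/
theorem result {X : Scheme.{u}} (F : EtCoh.Ab X) {U U' : X.Etale}
    (φ : U' ⟶ U) (Z : Set ↥U.left) (hZ : IsClosed Z)
    (hbij : Set.BijOn φ.left.base (φ.left.base ⁻¹' Z) Z)
    (hres : ∀ x ∈ φ.left.base ⁻¹' Z, Function.Bijective (φ.left.residueFieldMap x)) :
    Set.BijOn (F.obj.map φ.op) {s | EtShriek.sectSupp F U s ⊆ Z}
      {s' | EtShriek.sectSupp F U' s' ⊆ φ.left.base ⁻¹' Z} := GrothLib.EtBasicB.restrict_bijOn F φ Z hZ hbij hres

end Groth.Agent.S0728
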