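import Groth.Statements.S0731
import Groth.Agent.Lib.ProEtS.Recollement
import Mathlib.AlgebraicGeometry.IdealSheaf.Functorial

set_option autoImplicit false
set_option linter.style.haveILetI false
open CategoryTheory CategoryTheory.Limits AlgebraicGeometry Opposite
universe u
open ProEtS

namespace Groth.Agent.S0731

/-- For a quasi-compact open immersion j : U -> X the functor j_! on abelian pro-etale sheaves commutes
with (small) limits (continuity of the site functor of j assumed as a binder). -/
theorem result {U X : Scheme.{u}} (j : U ⟶ X)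
    [IsOpenImmersion j] [QuasiCompact j] [ProEtS.JPCont j] (J : Type u) [SmallCategory J] :
    PreservesLimitsOfShape J (ProEtS.extZeroP j) := by
  haveI := GrothLib.ProEtS.pCont j
  let C : TopologicalSpace.Closeds X := ⟨(Set.range j.base)ᶜ, j.isOpenEmbedding.isOpen_range.isClosed_compl⟩
  let i := (Scheme.IdealSheafData.vanishingIdeal C).subschemeι
  have hi : Set.range i.base = (Set.range j.base)ᶜ := by
    show Set.range (Scheme.IdealSheafData.vanishingIdeal C).subschemeι = _
    rw [Scheme.IdealSheafData.range_subschemeι, Scheme.IdealSheafData.coe_support_vanishingIdeal]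
    rfl
  have hc : Set.range j.base = (Set.range i.base)ᶜ := by rw [hi, compl_compl]
  have hd : Disjoint (Set.range j.base) (Set.range i.base) := hc ▸ disjoint_compl_left
  haveI : HasLimitsOfShape J (ProEtS.AbP U) := inferInstance
  haveI : HasLimitsOfShape J (ProEtS.AbP X) := inferInstance
  haveI := (ProEtS.extZeroPAdj j).rightAdjoint_preservesLimits
  haveI : IsIso (ProEtS.extZeroPAdj j).unit :=
    haveI : ∀ G, IsIso ((ProEtS.extZeroPAdj j).unit.app G) := fun G =>
      (GrothLib.ProEtS.fullyFaithful_unit_counit j G G).1
    NatIso.isIso_of_isIso_app _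
  haveI : PreservesLimitsOfShape J (ProEtS.extZeroP j ⋙ ProEtS.restrP j) :=
    preservesLimitsOfShape_of_natIso (asIso (ProEtS.extZeroPAdj j).unit)
  haveI : PreservesLimitsOfShape J (ProEtS.restrP j) := inferInstance
  refine ⟨fun {D} => ?_⟩
  haveI : IsIso ((ProEtS.restrP j).map (limit.post D (ProEtS.extZeroP j))) := by
    have h := limit.post_post D (ProEtS.extZeroP j) (ProEtS.restrP j)
    exact IsIso.of_isIso_fac_right h
  haveI : IsIso (limit.post D (ProEtS.extZeroP j)) := by
    refine GrothLib.ProEtS.isIso_of_class i j hc _ fun T hT => ?_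
    rcases hT with hT | hT
    · exact GrothLib.ProEtS.bijective_of_isIso_restr j _ T hT
    · let ev := sheafToPresheaf (Scheme.ProEt.topology X) AddCommGrpCat.{u + 1} ⋙ (evaluation _ _).obj (op T)
      have hs := GrothLib.ProEtS.subsingleton_extZeroP_zLoc i j hd
      refine ⟨fun a b _ => @Subsingleton.elim _ (hs _ T hT) a b, fun b => ⟨0, ?_⟩⟩
      refine Concrete.isLimit_ext _ (isLimitOfPreserves ev (limit.isLimit (D ⋙ ProEtS.extZeroP j))) _ _
        fun k => ?_
      exact @Subsingleton.elim _ (hs _ T hT) _ _
  exact preservesLimit_of_isIso_post (ProEtS.extZeroP j) D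

end Groth.Agent.S0731
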