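import Groth.Statements.S0732
import Groth.Agent.Lib.ProEtS.ExtZero

set_option autoImplicit false
open CategoryTheory CategoryTheory.Limits AlgebraicGeometry Opposite
universe u
open ProEtS

namespace Groth.Agent.S0732

/-- Let j : U -> X be weakly etale and i : Z -> X a closed immersion with U x_X Z empty. Let V be an
affine object of X_proet in which each point has some specialization lying over Z. Then j_! F (V) =
0 for every abelian sheaf F on U_proet (continuity of the site functor of j assumed as a binder). -/
theorem result {U X Z : Scheme.{u}} (j : U ⟶ X) [WeaklyEtale j] (i : Z ⟶ X)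
    [IsClosedImmersion i] (hUZ : Disjoint (Set.range j.base) (Set.range i.base)) [ProEtS.JPCont j]
    (V : X.ProEt) [IsAffine V.left]
    (hV : ∀ v : ↥V.left, ∃ z : ↥V.left, V.hom.base z ∈ Set.range i.base ∧ v ⤳ z)
    (F : ProEtS.AbP U) :
    Subsingleton (ProEtS.sectP ((ProEtS.extZeroP j).obj F) V) := by
  exact GrothLib.ProEtS.subsingleton_extZeroP j i hUZ V hV F

end Groth.Agent.S0732
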