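import Groth.Statements.S0740
import Groth.Agent.Lib.ProEtS.HenselCover

set_option autoImplicit false
set_option linter.style.haveILetI false
open CategoryTheory CategoryTheory.Limits AlgebraicGeometry Opposite
universe u
open ProEtS

namespace Groth.Agent.S0740

/-- For a closed immersion i : Z -> X the functor i^{-1} on abelian pro-etale sheaves commutes with
(small) limits (continuity of base change assumed as a binder). -/
theorem result {Z X : Scheme.{u}} (i : Z ⟶ X) [IsClosedImmersion i]
    [ProEtS.PCont i] (J : Type u) [SmallCategory J] :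
    PreservesLimitsOfShape J (ProEtS.pullP i) := by
  haveI : HasLimitsOfShape J (ProEtS.AbP Z) := inferInstance
  haveI : HasLimitsOfShape J (ProEtS.AbP X) := inferInstance
  refine ⟨fun {D} => ?_⟩
  haveI : IsIso (limit.post D (ProEtS.pullP i)) := by
    refine GrothLib.ProEtS.isIso_of_zLoc i _ fun T hT => ?_
    let W := (ProEtS.bcP i).obj T
    let η := fun (K : ProEtS.AbP X) => ((ProEtS.pullPushAdjP i).unit.app K).hom.app (op T)
    have hη : ∀ K, Function.Bijective (η K) := fun K => GrothLib.ProEtS.bijective_unit_zLoc i K hT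
    have hnat : ∀ {K L : ProEtS.AbP X} (a : K ⟶ L) (y : K.obj.obj (op T)),
        ((ProEtS.pullP i).map a).hom.app (op W) (η K y) = η L (a.hom.app (op T) y) := fun a y =>
      (ConcreteCategory.congr_hom (congrArg (fun φ => φ.hom.app (op T))
        ((ProEtS.pullPushAdjP i).unit.naturality a)) y).symm
    let evZ := sheafToPresheaf (Scheme.ProEt.topology Z) AddCommGrpCat.{u + 1} ⋙ (evaluation _ _).obj (op W)
    let evX := sheafToPresheaf (Scheme.ProEt.topology X) AddCommGrpCat.{u + 1} ⋙ (evaluation _ _).obj (op T)
    have key : ∀ k y, (limit.π (D ⋙ ProEtS.pullP i) k).hom.app (op W)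
        ((limit.post D (ProEtS.pullP i)).hom.app (op W) (η _ y)) =
          η (D.obj k) ((limit.π D k).hom.app (op T) y) := fun k y =>
      (ConcreteCategory.congr_hom (congrArg (fun φ => φ.hom.app (op W))
        (limit.post_π D (ProEtS.pullP i) k)) (η _ y)).trans (hnat (limit.π D k) y)
    constructor
    · intro a b hab
      obtain ⟨a, rfl⟩ := (hη _).2 a
      obtain ⟨b, rfl⟩ := (hη _).2 b
      refine congrArg _ (Concrete.isLimit_ext _ (isLimitOfPreserves evX (limit.isLimit D)) _ _ fun k => ?_)
      exact (hη (D.obj k)).1 ((key k a).symm.trans ((congrArg _ hab).trans (key k b)))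
    · intro x
      choose y hy using fun k => (hη (D.obj k)).2 ((limit.π (D ⋙ ProEtS.pullP i) k).hom.app (op W) x)
      have hc := (Types.isLimit_iff _).1 ⟨isLimitOfPreserves (evX ⋙ forget AddCommGrpCat.{u + 1}) (limit.isLimit D)⟩
      obtain ⟨z, hz, -⟩ := hc y (fun {k l} g => by
        refine (hη (D.obj l)).1 ?_
        refine (hnat (D.map g) (y k)).symm.trans ?_
        rw [hy l, hy k]
        exact ConcreteCategory.congr_hom (congrArg (fun φ => φ.hom.app (op W))
          (limit.w (D ⋙ ProEtS.pullP i) g)) x)
      refine ⟨η _ z, Concrete.isLimit_ext _ (isLimitOfPreserves evZ (limit.isLimit (D ⋙ ProEtS.pullP i))) _ _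
        fun k => ?_⟩
      exact (key k z).trans ((congrArg _ (hz k)).trans (hy k))
  exact preservesLimit_of_isIso_post (ProEtS.pullP i) D

end Groth.Agent.S0740
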