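import Groth.Statements.S0744
import Groth.Agent.Lib.BigEt.AbProper
-- import your own Groth.Agent.* helpers here

set_option autoImplicit false
open CategoryTheory CategoryTheory.Limits AlgebraicGeometry Opposite
universe u
open EtFppf

namespace Groth.Agent.S0744

/-- For a proper morphism f : X -> Y and an abelian sheaf F on X_et, the sheaves a_Y^{-1} (f_{small,*}
F) and f_{big,fppf,*} (a_X^{-1} F) on the big fppf site of Y are isomorphic (existence; continuity
of the comparison functors assumed as binders). -/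
theorem result {X Y : Scheme.{u}} (f : X ⟶ Y) [IsProper f] [EtFppf.ACont X]
    [EtFppf.ACont Y] (F : EtCoh.Ab X) :
    Nonempty ((EtFppf.aPull Y).obj ((EtCoh.push f).obj F) ≅
      (EtFppf.pushBig f).obj ((EtFppf.aPull X).obj F)) := by
  open GrothLib.BigEt in
  obtain ⟨ψ, hψ⟩ := exists_isIso_pushCompAb f (EtFppf.J Y) (EtFppf.J X) fppf_le_fpqc etale_le_fppf F
  open GrothLib.BigEt in
  exact ⟨(secsAbIso (EtFppf.J Y) fppf_le_fpqc etale_le_fppf).app ((EtCoh.push f).obj F) ≪≫
    ((fullyFaithfulSheafToPresheaf _ _).preimageIso (X := (secsAbSheafFunctor (EtFppf.J Y) fppf_le_fpqc).obj ((EtCoh.push f).obj F))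
      (Y := pushSecsAb f (EtFppf.J Y) (EtFppf.J X) fppf_le_fpqc F) (@asIso _ _ _ _ ψ hψ)) ≪≫
    (EtFppf.pushBig f).mapIso ((secsAbIso (EtFppf.J X) fppf_le_fpqc etale_le_fppf).app F).symm⟩

end Groth.Agent.S0744
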