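import Groth.Statements.S0748
import Groth.Agent.Lib.BigEt.Fppf.Descent
-- import your own Groth.Agent.* helpers here

set_option autoImplicit false
open CategoryTheory CategoryTheory.Limits AlgebraicGeometry Opposite
universe u
open EtFppf

namespace Groth.Agent.S0748

/-- For an abelian sheaf F on X_et and every q, H^q(X_et, F) and H^q_fppf(X, a^{-1} F) are isomorphic
(continuity binder assumed). -/
theorem result (X : Scheme.{u}) [EtFppf.ACont X] (F : EtCoh.Ab X) (q : ℕ) :
    Nonempty (EtCoh.H X F q ≃+ EtFppf.HF X ((EtFppf.aPull X).obj F) q) := by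
  exact GrothLib.BigEt.Fppf.nonempty_H_aPull F q

end Groth.Agent.S0748
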