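import Groth.Statements.S0750
import Groth.Agent.Lib.WLocal.FiniteExt

set_option autoImplicit false
open CategoryTheory CategoryTheory.Limits AlgebraicGeometry Opposite Topology
universe u
open ProEtW
open scoped TensorProduct

namespace Groth.Agent.S0750

/-- Let A -> B be quasi-finite and of finite presentation. Suppose all residue fields of A (at every
prime) are separably closed, and Spec A is a Hausdorff, extremally disconnected space. Then Spec B
is also extremally disconnected. -/
theorem result (A B : Type u) [CommRing A]
    [CommRing B] [Algebra A B] [Algebra.QuasiFinite A B] [Algebra.FinitePresentation A B]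
    (hres : ∀ p : PrimeSpectrum A, IsSepClosed p.asIdeal.ResidueField)
    [T2Space (PrimeSpectrum A)] [ExtremallyDisconnected (PrimeSpectrum A)] :
    ExtremallyDisconnected (PrimeSpectrum B) := by
  have hR : ∀ p : PrimeSpectrum A, p.asIdeal.IsMaximal := GrothLib.WLocal.isMaximal_of_t2
  let R := A ⧸ nilradical A
  haveI : IsReduced R := (Ideal.isRadical_iff_quotient_reduced _).1 (Ideal.radical_isRadical _)
  let f : A →+* R := Ideal.Quotient.mk (nilradical A)
  have hf : Function.Surjective f := Ideal.Quotient.mk_surjective
  have hker : RingHom.ker f = nilradical A := Ideal.mk_ker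
  have hembA := PrimeSpectrum.isClosedEmbedding_comap_of_surjective R f hf
  have hsurjA : Function.Surjective (PrimeSpectrum.comap f) := fun p => by
    have hp : p ∈ Set.range (PrimeSpectrum.comap f) := by
      rw [range_comap_of_surjective _ _ hf, hker]
      exact nilradical_le_prime p.asIdeal
    exact hp
  haveI : ExtremallyDisconnected (PrimeSpectrum R) := extremallyDisconnected_of_homeo
    (hembA.isEmbedding.toHomeomorphOfSurjective hsurjA).symm
  have hR' : ∀ p : PrimeSpectrum R, p.asIdeal.IsMaximal := GrothLib.WLocal.quotient_isMaximal fun p _ => hR p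
  have hsep : ∀ p : PrimeSpectrum R, IsSepClosed p.asIdeal.ResidueField := fun p => by
    haveI := hR' p
    haveI := hres (PrimeSpectrum.comap f p)
    exact GrothLib.WLocal.isSepClosed_of_ringEquiv (RingEquiv.ofBijective
      (Ideal.ResidueField.map (PrimeSpectrum.comap f p).asIdeal p.asIdeal f rfl)
      ⟨RingHom.injective _, fun y => by
        obtain ⟨r, rfl⟩ := p.asIdeal.algebraMap_residueField_surjective y
        obtain ⟨a, rfl⟩ := hf r
        exact ⟨algebraMap A _ a, Ideal.ResidueField.map_algebraMap _ _ _ _ _⟩⟩)
  let S := TensorProduct A R B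
  have hint : ∀ q : PrimeSpectrum S, Algebra.IsIntegral R (S ⧸ q.asIdeal) := fun q => by
    let p := PrimeSpectrum.comap (algebraMap R S) q
    haveI := hR' p
    let P : Ideal R := p.asIdeal
    haveI : P.IsMaximal := hR' p
    haveI : Algebra.QuasiFinite R S := inferInstance
    haveI : Module.Finite P.ResidueField (P.Fiber S) := inferInstance
    haveI : Module.Finite R P.ResidueField := inferInstance
    haveI : Module.Finite R (P.Fiber S) := Module.Finite.trans P.ResidueField _
    let e : (R ⧸ P) ≃ₐ[R] P.ResidueField :=
      AlgEquiv.ofBijective (IsScalarTower.toAlgHom R (R ⧸ P) P.ResidueField)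
        P.bijective_algebraMap_quotient_residueField
    let φ : R ⧸ P →ₐ[R] S ⧸ q.asIdeal :=
      Ideal.Quotient.liftₐ P (Algebra.ofId R _) fun a ha => by
        show algebraMap R (S ⧸ q.asIdeal) a = 0
        rw [IsScalarTower.algebraMap_apply R S (S ⧸ q.asIdeal), Ideal.Quotient.algebraMap_eq,
          Ideal.Quotient.eq_zero_iff_mem]
        exact ha
    let g : P.Fiber S →ₐ[R] S ⧸ q.asIdeal :=
      Algebra.TensorProduct.lift (φ.comp e.symm.toAlgHom) (Ideal.Quotient.mkₐ R q.asIdeal)
        fun a b => by
          obtain ⟨x, hx⟩ := Ideal.Quotient.mk_surjective ((φ.comp e.symm.toAlgHom) a)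
          show _ * _ = _ * _
          rw [← hx]
          show Ideal.Quotient.mk q.asIdeal x * Ideal.Quotient.mk q.asIdeal b = Ideal.Quotient.mk q.asIdeal b * Ideal.Quotient.mk q.asIdeal x
          rw [← map_mul, ← map_mul, mul_comm]
    haveI : Module.Finite R (S ⧸ q.asIdeal) := Module.Finite.of_surjective g.toLinearMap fun y => by
      obtain ⟨y, rfl⟩ := Ideal.Quotient.mk_surjective y
      exact ⟨(1 : P.ResidueField) ⊗ₜ[R] y, by simp [g]⟩
    exact Algebra.IsIntegral.of_finite R _
  haveI := GrothLib.WLocal.extremallyDisconnected_of_finitePresentation R S hR' hsep hint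
  let r : B →+* S := (Algebra.TensorProduct.includeRight : B →ₐ[A] S).toRingHom
  have hr : Function.Surjective r := fun z => by
    induction z using TensorProduct.induction_on with
    | zero => exact ⟨0, map_zero r⟩
    | tmul x b =>
      obtain ⟨a, rfl⟩ := hf x
      refine ⟨a • b, ?_⟩
      show (1 : R) ⊗ₜ[A] (a • b) = _
      rw [TensorProduct.tmul_smul, TensorProduct.smul_tmul']
      congr 1
      exact (Algebra.algebraMap_eq_smul_one a).symm
    | add x y hx hy =>
      obtain ⟨u, rfl⟩ := hx
      obtain ⟨v, rfl⟩ := hy
      exact ⟨u + v, map_add r u v⟩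
  have hsurjB : Function.Surjective (PrimeSpectrum.comap r) := fun q => by
    obtain ⟨p, hp⟩ := hsurjA (PrimeSpectrum.comap (algebraMap A B) q)
    obtain ⟨Q, -, hQ⟩ := GrothLib.WLocal.exists_prime_tensor (A := A) (B := B) (C := R) q p hp.symm
    exact ⟨Q, hQ⟩
  exact extremallyDisconnected_of_homeo
    ((PrimeSpectrum.isClosedEmbedding_comap_of_surjective S r hr).isEmbedding.toHomeomorphOfSurjective hsurjB)

end Groth.Agent.S0750
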