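import Groth.Statements.S0751
import Groth.Agent.Lib.ProEtS.PullSets

set_option autoImplicit false
open CategoryTheory CategoryTheory.Limits AlgebraicGeometry Opposite
universe u
open ProEtS

namespace Groth.Agent.S0751

/-- For a closed immersion i : Z -> X of affine schemes, the inverse image functor on pro-etale sheaves
of sets (valued one universe up) has a left adjoint i_! (continuity of base change assumed as a
binder). -/
theorem result {Z X : Scheme.{u}} [IsAffine Z] [IsAffine X]
    (i : Z ⟶ X) [IsClosedImmersion i] [ProEtS.PCont i] :
    ((ProEtS.bcP i).sheafPullback (Type (u + 1)) (Scheme.ProEt.topology X)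
      (Scheme.ProEt.topology Z)).IsRightAdjoint := by
  exact GrothLib.ProEtS.isRightAdjoint_pullT i

end Groth.Agent.S0751
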