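import Groth.Statements.S0758
import Groth.Agent.Lib.ProEtS.EpsMod
import Groth.Agent.Lib.ProEtS.TrivLocal

set_option autoImplicit false
set_option linter.style.haveILetI false
set_option backward.isDefEq.respectTransparency.types false
open CategoryTheory CategoryTheory.Limits AlgebraicGeometry Opposite
open scoped TensorProduct
universe u
open EtModW

namespace Groth.Agent.S0758

/-- For a ring L (in the value universe) the functor eps^{-1} sends locally constant sheaves of
L-modules of finite presentation on X_et to such sheaves on X_proet, and every locally constant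
sheaf of L-modules of finite presentation on X_proet is isomorphic to eps^{-1} of one on X_et (so
eps^{-1}, which is fully faithful, is an equivalence between these categories; continuity of the
comparison functor assumed as a binder). -/
theorem result (X : Scheme.{u}) [ProEtS.EpsCont X]
    (Λ : Type (u + 1)) [CommRing Λ] :
    (∀ F : EtModW.Mod Λ X, EtModW.IsFPLocConst Λ F →
      EtModW.IsFPLocConstP Λ ((EtModW.epsPullMod Λ X).obj F)) ∧
    ∀ G : EtModW.ModP Λ X, EtModW.IsFPLocConstP Λ G →
      ∃ F : EtModW.Mod Λ X, EtModW.IsFPLocConst Λ F ∧ Nonempty ((EtModW.epsPullMod Λ X).obj F ≅ G) := by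
  refine ⟨fun F hF => ?_, fun G hG => ?_⟩
  · obtain ⟨ι, U, hU, hUi⟩ := hF
    refine ⟨ι, fun i => (ProEtS.eps X).obj (U i), GrothLib.ProEtS.coversP_eps U hU, fun i => ?_⟩
    obtain ⟨M, _, _, hM, ⟨e⟩⟩ := hUi i
    obtain ⟨m, hm⟩ := GrothLib.TrivMod.exists_isTriv_of_iso (U i) e
    exact ⟨M, inferInstance, inferInstance, hM,
      by exact GrothLib.TrivMod.nonempty_iso_of_isTriv.{u + 1, u, u + 1} _ (GrothLib.ProEtS.isTriv_eps F hm)⟩
  · choose V v hv M i₁ i₂ hM m hm using GrothLib.ProEtS.exists_etale_triv hG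
    let F := ((ProEtS.eps X).sheafPushforwardContinuous (ModuleCat.{u + 1} Λ)
      X.smallEtaleTopology (Scheme.ProEt.topology X)).obj G
    haveI := GrothLib.ProEtS.hasSheafCompose_moduleCat Λ X
    refine ⟨F, ⟨X, V, fun x => ⟨x, v x, hv x⟩, fun x => ⟨M x, i₁ x, i₂ x, hM x,
      by exact GrothLib.TrivMod.nonempty_iso_of_isTriv.{u + 1, u, u + 1} _ (GrothLib.ProEtS.isTriv_epsPush (hm x))⟩⟩, ?_⟩
    let φ := (GrothLib.ProEtS.epsAdjMod Λ X).counit.app G
    suffices IsIso φ from ⟨asIso φ⟩
    refine GrothLib.TrivMod.isIso_of_isTriv φ fun W => ?_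
    have hcov := (Scheme.ProEt.topology X).pullback_stable
      (MorphismProperty.Over.homMk W.hom : W ⟶ ProEtS.topP X)
      (GrothLib.ProEtS.coversP_eps V fun x => ⟨x, v x, hv x⟩)
    refine ⟨_, hcov, fun W' g hg => ?_⟩
    obtain ⟨_, a, _, ⟨x⟩, -⟩ := hg
    have hη : ∀ z, φ.hom.app (op ((ProEtS.eps X).obj (V x))) (GrothLib.ProEtS.eta F (V x) z) = z := fun z =>
      ConcreteCategory.congr_hom (congrArg (fun ψ : F ⟶ F => ψ.hom.app (op (V x)))
        ((GrothLib.ProEtS.epsAdjMod Λ X).right_triangle_components G)) z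
    refine ⟨_, a, M x, i₁ x, i₂ x, _, GrothLib.ProEtS.isTriv_eps F (GrothLib.ProEtS.isTriv_epsPush (hm x)), ?_⟩
    have hcomp : ((φ.hom.app (op ((ProEtS.eps X).obj (V x)))).hom.comp
        ((GrothLib.ProEtS.eta F (V x)).comp (m x))) = m x := LinearMap.ext fun z => hη (m x z)
    refine Eq.mpr ?_ (hm x)
    exact congrArg (GrothLib.TrivMod.IsTriv (Scheme.ProEt.topology X) G ((ProEtS.eps X).obj (V x))) hcomp

end Groth.Agent.S0758
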