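import Groth.Statements.S0764
import Groth.Agent.Lib.ProEtDC7.Apps


set_option autoImplicit false
open CategoryTheory CategoryTheory.Limits AlgebraicGeometry Opposite
universe u
open ProEtDC

namespace Groth.Agent.S0764

/-- For a Noetherian ring L (value universe), an ideal I and an inverse system (F_n) of derived complete
sheaves of L-modules indexed by the natural numbers, the limit sheaf lim F_n is derived complete. -/
theorem result (X : Scheme.{u}) (Λ : Type (u + 1)) [CommRing Λ]
    [IsNoetherianRing Λ] (I : Ideal Λ) (D : ℕᵒᵖ ⥤ EtModW.ModP Λ X)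
    (hD : ∀ n : ℕ, ProEtDC.IsDCSheaf Λ I (D.obj (op n))) :
    ProEtDC.IsDCSheaf Λ I (limit D) := by
  exact GrothLib.ProEtDC7.isDCSheaf_limit D hD

end Groth.Agent.S0764
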