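import Groth.Statements.S0765
import Groth.Agent.Lib.ProEtDC7.Cohomology


set_option autoImplicit false
open CategoryTheory CategoryTheory.Limits AlgebraicGeometry Opposite
universe u
attribute [local instance] HasDerivedCategory.standard
open ProEtDC

namespace Groth.Agent.S0765

/-- For a Noetherian ring L (value universe) and an ideal I, an object K of the derived category of
sheaves of L-modules on X_proet is derived complete if and only if every cohomology sheaf H^p(K) is
derived complete. -/
theorem result (X : Scheme.{u}) (Λ : Type (u + 1)) [CommRing Λ]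
    [IsNoetherianRing Λ] (I : Ideal Λ) (K : ProEtDC.DP Λ X) :
    ProEtDC.IsDC Λ I K ↔ ∀ p : ℤ, ProEtDC.IsDCSheaf Λ I (ProEtDC.HDP K p) := by
  exact ⟨GrothLib.ProEtDC7.cohomology_of_isDC K, GrothLib.ProEtDC7.isDC_of_cohomology K⟩

end Groth.Agent.S0765
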