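import Groth.Statements.S0769
import Groth.Agent.Lib.RpushCoprod13.Bdd
import Groth.Agent.Lib.FMK22.Hyper
-- import your own Groth.Agent.* helpers here

set_option autoImplicit false
open CategoryTheory CategoryTheory.Limits AlgebraicGeometry Opposite
universe u
attribute [local instance] HasDerivedCategory.standard
open EtRest

namespace Groth.Agent.S0769

/-- Let f : X -> Y be separated of finite type with X, Y quasi-compact quasi-separated and c a
compactification. For a family K_i of objects of D(X_et) with torsion cohomology sheaves, all
vanishing below a common degree a, Rf_! (computed through c) preserves the direct sum of the K_i.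
(The left exactness of j_! and the existence of the unbounded derived direct image along the
compactification are assumed as hypotheses.) -/
theorem result {X Y : Scheme.{u}} [CompactSpace ↥X] [QuasiSeparatedSpace ↥X] [CompactSpace ↥Y] [QuasiSeparatedSpace ↥Y]
    (f : X ⟶ Y) [IsSeparated f] [LocallyOfFiniteType f] [QuasiCompact f] (c : DEt.Compactification f)
    [PreservesFiniteLimits (EtShriek.extZero c.j)] [DCoh.HasRpushEt c.Xbar c.fbar]
    {ι : Type u} (K : ι → DCoh.DEt X) (a : ℤ) (hb : ∀ i, ∀ n : ℤ, n < a → IsZero (DCoh.HDEt (K i) n))
    (ht : ∀ i, ∀ n : ℤ, EtCoh.IsTorsion (DCoh.HDEt (K i) n)) :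
    PreservesColimit (Discrete.functor K) (DEt.Rshriek c) := by
  haveI := c.isProper
  haveI : QuasiCompact c.fbar := inferInstance
  haveI : QuasiSeparated c.fbar := inferInstance
  let ι' := ULift.{u + 1} ι
  let K' : ι' → DCoh.DEt X := fun i => K i.down
  haveI : PreservesColimitsOfShape (Discrete ι') (EtShriek.extZero c.j) :=
    haveI : PreservesColimitsOfSize.{u + 1, u + 1} (EtShriek.extZero c.j) :=
      (EtShriek.extZeroAdj c.j).leftAdjoint_preservesColimits
    PreservesColimitsOfSize.preservesColimitsOfShape
  haveI : PreservesFiniteColimits (EtShriek.extZero c.j) :=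
    haveI : PreservesColimitsOfSize.{0, 0} (EtShriek.extZero c.j) :=
      (EtShriek.extZeroAdj c.j).leftAdjoint_preservesColimits
    PreservesColimitsOfSize.preservesFiniteColimits _
  haveI := GrothLib.RpushCoprod13.preservesColimitsOfShape_mapDerivedCategory (EtShriek.extZero c.j) ι'
  haveI := GrothLib.RpushCoprod13.preservesColimit_RpushEt_of_bdd c.fbar (fun i => (DEt.extZeroD c.j).obj (K' i)) a
    (fun i n hn => by
      haveI : (K' i).IsGE a := (DerivedCategory.isGE_iff _ a).2 fun m hm => hb _ m hm
      haveI := GrothLib.DerTrunc.isGE_mapDerivedCategory (EtShriek.extZero c.j) (K' i) a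
      exact DerivedCategory.isZero_of_isGE ((DEt.extZeroD c.j).obj (K' i)) a n hn)
  haveI : PreservesColimit (Discrete.functor K' ⋙ DEt.extZeroD c.j) (DCoh.RpushEt c.Xbar c.fbar) :=
    preservesColimit_of_iso_diagram (K₁ := Discrete.functor fun i => (DEt.extZeroD c.j).obj (K' i)) _
      (Discrete.natIso fun _ => Iso.refl _)
  have h' : PreservesColimit (Discrete.functor K') (DEt.Rshriek c) := comp_preservesColimit _ _
  let e : Discrete ι ≌ Discrete ι' := Discrete.equivalence Equiv.ulift.symm
  haveI : PreservesColimit (e.functor ⋙ Discrete.functor K') (DEt.Rshriek c) :=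
    ⟨fun {co} hco => ⟨by
      let co' := (Functor.Final.extendCocone (F := e.functor)).obj co
      have h1 : IsColimit co' := (Functor.Final.isColimitExtendCoconeEquiv e.functor co).symm hco
      have h2 := isColimitOfPreserves (DEt.Rshriek c) h1
      exact IsColimit.ofIsoColimit ((Functor.Final.isColimitWhiskerEquiv e.functor _).symm h2)
        (Cocone.ext (Iso.refl _) fun j => by simp [co']; exact Category.comp_id _)⟩⟩
  exact preservesColimit_of_iso_diagram (K₁ := e.functor ⋙ Discrete.functor K') _
    (Discrete.natIso fun _ => Iso.refl _)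

end Groth.Agent.S0769
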