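import Groth.Statements.S0781
import Mathlib.AlgebraicGeometry.Morphisms.Etale
open CategoryTheory.Limits

set_option autoImplicit false
open CategoryTheory CategoryTheory.Limits AlgebraicGeometry Opposite
universe u
open Desc

namespace Groth.Agent.S0781

/-- If p : X → S is a surjective morphism of schemes, then for schemes U₁, U₂ étale over S, two
S-morphisms U₁ → U₂ whose base changes to X agree, as morphisms of canonical descent data relative
to p, are equal; that is, the canonical-descent-datum functor is faithful on schemes étale over S.
(Descent data are taken in functor-of-points form, equivalent by the Yoneda lemma to an isomorphism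
over X ×_S X satisfying the cocycle condition.) -/
theorem result {X S : Scheme.{u}} (p : X ⟶ S) [Surjective p] (U₁ U₂ : Over S)
    [Etale U₁.hom] [Etale U₂.hom] : Function.Injective ((Desc.toDD p).map : (U₁ ⟶ U₂) → _) := by
  intro a b hab
  ext : 1
  have e : (((Desc.toDD p).map a).hom).left ≫ pullback.snd p U₂.hom =
      (((Desc.toDD p).map b).hom).left ≫ pullback.snd p U₂.hom := by rw [hab]
  simp only [Desc.toDD, Desc.canonicalDD, Over.homMk_left, pullback.lift_snd] at e
  -- the equalizer of `a` and `b` is an open subscheme containing all points
  let l : U₁.left ⟶ pullback U₂.hom U₂.hom := pullback.lift a.left b.left (by rw [Over.w a, Over.w b])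
  let j := pullback.fst l (pullback.diagonal U₂.hom)
  let t : pullback p U₁.hom ⟶ pullback l (pullback.diagonal U₂.hom) :=
    pullback.lift (pullback.snd p U₁.hom) (pullback.snd p U₁.hom ≫ a.left) (by
      apply pullback.hom_ext
      · rw [Category.assoc, Category.assoc, pullback.lift_fst, pullback.diagonal_fst, Category.comp_id]
      · rw [Category.assoc, Category.assoc, pullback.lift_snd, pullback.diagonal_snd, Category.comp_id, e])
  have ht : t ≫ j = pullback.snd p U₁.hom := pullback.lift_fst _ _ _
  have hj : Surjective j := ⟨fun x ↦ by
    obtain ⟨y, hy⟩ := (pullback.snd p U₁.hom).surjective x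
    exact ⟨t y, by rw [← Scheme.Hom.comp_apply, ht, hy]⟩⟩
  have : IsIso j := isIso_of_isOpenImmersion_of_opensRange_eq_top j
    (TopologicalSpace.Opens.ext (Set.range_eq_univ.2 hj.1))
  have e1 : j ≫ a.left = pullback.snd l (pullback.diagonal U₂.hom) := by
    have := congr($(pullback.condition (f := l) (g := pullback.diagonal U₂.hom)) ≫ pullback.fst _ _)
    rwa [Category.assoc, Category.assoc, pullback.lift_fst, pullback.diagonal_fst, Category.comp_id] at this
  have e2 : j ≫ b.left = pullback.snd l (pullback.diagonal U₂.hom) := by
    have := congr($(pullback.condition (f := l) (g := pullback.diagonal U₂.hom)) ≫ pullback.snd _ _)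
    rwa [Category.assoc, Category.assoc, pullback.lift_snd, pullback.diagonal_snd, Category.comp_id] at this
  exact (cancel_epi j).1 (e1.trans e2.symm)

end Groth.Agent.S0781
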