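import Groth.Statements.S0782
import Mathlib.AlgebraicGeometry.Morphisms.FlatMono
import Mathlib.AlgebraicGeometry.Morphisms.Etale
import Mathlib.AlgebraicGeometry.Morphisms.UniversallyInjective

set_option autoImplicit false
open CategoryTheory CategoryTheory.Limits AlgebraicGeometry Opposite
universe u
open Desc

namespace Groth.Agent.S0782

/-- Let p : X ⟶ S be a morphism such that for every scheme U étale over S the projection X ×_S U ⟶ U is
a quotient map of topological spaces (submersive; U = S is allowed). Then for U₁, U₂ étale over S,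
every morphism between their canonical descent data relative to p comes from an S-morphism U₁ ⟶ U₂:
the canonical-descent-datum functor is full on schemes étale over S (injectivity of this assignment
is a companion statement). (Descent data are taken in functor-of-points form, equivalent by the
Yoneda lemma to the usual form of an isomorphism over X ×_S X satisfying the cocycle condition.) -/
theorem result {X S : Scheme.{u}} (p : X ⟶ S)
    (hp : ∀ U : Over S, Etale U.hom → Topology.IsQuotientMap (pullback.snd p U.hom).base) (U₁ U₂ : Over S)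
    [Etale U₁.hom] [Etale U₂.hom] : Function.Surjective ((Desc.toDD p).map : (U₁ ⟶ U₂) → _) := by
  intro b
  let sg : Over S := Over.mk (pullback.fst U₁.hom U₂.hom ≫ U₁.hom)
  haveI : Etale (pullback.fst U₁.hom U₂.hom) := inferInstance
  haveI : Etale sg.hom := inferInstanceAs (Etale (pullback.fst U₁.hom U₂.hom ≫ U₁.hom))
  let π := pullback.snd p sg.hom
  have hq := hp sg inferInstance
  let s1 := pullback.snd p U₁.hom
  let bl : pullback p U₁.hom ⟶ pullback p U₂.hom := b.hom.left
  let φ : pullback p U₁.hom ⟶ U₂.left := bl ≫ pullback.snd p U₂.hom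
  have hb : bl ≫ pullback.fst p U₂.hom = pullback.fst p U₁.hom := Over.w b.hom
  have hφS : s1 ≫ U₁.hom = φ ≫ U₂.hom := by
    simp only [s1, φ, Category.assoc]
    rw [← pullback.condition (f := p) (g := U₁.hom), ← pullback.condition (f := p) (g := U₂.hom), ← Category.assoc, hb]
  let ψ : pullback p U₁.hom ⟶ sg.left := pullback.lift s1 φ hφS
  have hψ1 : ψ ≫ pullback.fst U₁.hom U₂.hom = s1 := pullback.lift_fst _ _ _
  have hψ2 : ψ ≫ pullback.snd U₁.hom U₂.hom = φ := pullback.lift_snd _ _ _
  have hψS : pullback.fst p U₁.hom ≫ p = ψ ≫ sg.hom := by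
    show _ = ψ ≫ pullback.fst U₁.hom U₂.hom ≫ U₁.hom
    rw [← Category.assoc, hψ1, pullback.condition]
  let γ : pullback p U₁.hom ⟶ pullback p sg.hom := pullback.lift (pullback.fst p U₁.hom) ψ hψS
  let r : pullback p sg.hom ⟶ pullback p U₁.hom :=
    pullback.lift (pullback.fst p sg.hom) (π ≫ pullback.fst U₁.hom U₂.hom) (by
      rw [Category.assoc]; exact pullback.condition)
  have hγ1 : γ ≫ pullback.fst p sg.hom = pullback.fst p U₁.hom := pullback.lift_fst _ _ _
  have hγ2 : γ ≫ π = ψ := pullback.lift_snd _ _ _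
  have hγr : γ ≫ r = 𝟙 _ := by
    apply pullback.hom_ext
    · simp only [r, Category.assoc, pullback.lift_fst, Category.id_comp]; exact hγ1
    · simp only [r, Category.assoc, pullback.lift_snd, Category.id_comp]
      rw [← Category.assoc, hγ2, hψ1]
  haveI : Etale (pullback.fst p sg.hom) := inferInstance
  haveI : Etale (pullback.fst p U₁.hom) := inferInstance
  haveI : IsOpenImmersion γ := by
    haveI : Mono γ := mono_of_mono_fac hγr
    haveI : Etale (γ ≫ pullback.fst p sg.hom) := by rw [hγ1]; infer_instance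
    haveI : Etale γ := Etale.of_comp γ (pullback.fst p sg.hom)
    exact IsOpenImmersion.of_flat_of_mono γ
  -- the image of `γ` is saturated
  have hsat : ∀ w₀ w₁, π w₀ = π w₁ → w₀ ∈ Set.range γ → w₁ ∈ Set.range γ := by
    intro w₀ w₁ hw hw₀
    obtain ⟨t, ht₀, ht₁⟩ := Scheme.Pullback.exists_preimage_pullback (f := π) (g := π) w₀ w₁ hw
    let T := Spec ((pullback π π).residueField t)
    let j : T ⟶ pullback π π := (pullback π π).fromSpecResidueField t
    let W₀ : T ⟶ pullback p sg.hom := j ≫ pullback.fst π π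
    let W₁ : T ⟶ pullback p sg.hom := j ≫ pullback.snd π π
    have hW : W₀ ≫ π = W₁ ≫ π := by simp only [W₀, W₁, Category.assoc, pullback.condition]
    have hr : Set.range W₀ ⊆ Set.range γ := by
      rintro _ ⟨z, rfl⟩
      have : j z = t := Scheme.fromSpecResidueField_apply _ z
      show pullback.fst π π (j z) ∈ Set.range γ
      rw [this, ht₀]; exact hw₀
    let v : T ⟶ pullback p U₁.hom := IsOpenImmersion.lift γ W₀ hr
    have hv : v ≫ γ = W₀ := IsOpenImmersion.lift_fac _ _ _
    let x₀ : T ⟶ X := v ≫ pullback.fst p U₁.hom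
    let x₁ : T ⟶ X := W₁ ≫ pullback.fst p sg.hom
    have hx : x₀ ≫ p = x₁ ≫ p := by
      simp only [x₀, x₁, Category.assoc]
      rw [hψS, pullback.condition, ← Category.assoc W₁, show W₁ ≫ pullback.snd p sg.hom = W₀ ≫ π from hW.symm,
        ← hv, ← hγ2]
      simp only [Category.assoc]
    let v' : Desc.Lifts ((Desc.toDD p).obj U₁).obj x₀ := ⟨v, rfl⟩
    let v₁ : T ⟶ pullback p U₁.hom := (((Desc.toDD p).obj U₁).φ x₀ x₁ hx v').1
    have h1 : v₁ ≫ pullback.fst p U₁.hom = x₁ := pullback.lift_fst _ _ _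
    have h2 : v₁ ≫ s1 = v ≫ s1 := pullback.lift_snd _ _ _
    have hc := b.comm x₀ x₁ hx v' (b.push v') rfl
    have h3 : v₁ ≫ φ = v ≫ φ := by
      show v₁ ≫ bl ≫ pullback.snd p U₂.hom = _
      rw [← Category.assoc]
      exact ((congrArg (fun m => m ≫ pullback.snd p U₂.hom) hc).symm.trans (pullback.lift_snd _ _ _)).trans
        (Category.assoc _ _ _)
    have h4 : v₁ ≫ γ = W₁ := by
      apply pullback.hom_ext
      · rw [Category.assoc, hγ1, h1]
      · show (v₁ ≫ γ) ≫ π = W₁ ≫ π
        rw [← hW, ← hv, Category.assoc, Category.assoc, hγ2]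
        apply pullback.hom_ext
        · rw [Category.assoc, Category.assoc, hψ1, h2]
        · rw [Category.assoc, Category.assoc, hψ2, h3]
    obtain ⟨z⟩ : Nonempty T := inferInstance
    refine ⟨v₁ z, ?_⟩
    rw [← Scheme.Hom.comp_apply, h4]
    show pullback.snd π π (j z) = w₁
    rw [show j z = t from Scheme.fromSpecResidueField_apply _ z, ht₁]
  have hpre : π ⁻¹' (π '' Set.range γ) = Set.range γ := by
    refine Set.Subset.antisymm ?_ (Set.subset_preimage_image _ _)
    rintro w₁ ⟨w₀, hw₀, hw⟩
    exact hsat w₀ w₁ hw hw₀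
  let W : sg.left.Opens := ⟨π '' Set.range γ, hq.isOpen_preimage.1 (hpre.symm ▸ γ.isOpenEmbedding.isOpen_range)⟩
  have hψr : Set.range ψ ⊆ Set.range W.ι := by
    rw [Scheme.Opens.range_ι]
    rintro _ ⟨z, rfl⟩
    exact ⟨γ z, ⟨z, rfl⟩, by rw [← Scheme.Hom.comp_apply, hγ2]⟩
  let ψ' : pullback p U₁.hom ⟶ (W : Scheme.{u}) := IsOpenImmersion.lift W.ι ψ hψr
  have hψ' : ψ' ≫ W.ι = ψ := IsOpenImmersion.lift_fac _ _ _
  let h : (W : Scheme.{u}) ⟶ U₁.left := W.ι ≫ pullback.fst U₁.hom U₂.hom
  haveI : Etale h := inferInstance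
  have hψh : ψ' ≫ h = s1 := by rw [← Category.assoc, hψ', hψ1]
  haveI : Surjective h := ⟨fun u => by
    obtain ⟨z, hz⟩ := (hp U₁ inferInstance).surjective u
    exact ⟨ψ' z, by rw [← Scheme.Hom.comp_apply, hψh]; exact hz⟩⟩
  haveI : Surjective p := ⟨fun s => by
    obtain ⟨z, hz⟩ := (hp (Over.mk (𝟙 S)) (inferInstanceAs (Etale (𝟙 S)))).surjective s
    refine ⟨pullback.fst p (𝟙 S) z, ?_⟩
    rw [← Scheme.Hom.comp_apply, pullback.condition, Scheme.Hom.comp_apply]
    exact hz⟩
  haveI : Surjective (pullback.diagonal h) := ⟨fun t => by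
    let T := Spec ((pullback h h).residueField t)
    let j : T ⟶ pullback h h := (pullback h h).fromSpecResidueField t
    let a : T ⟶ (W : Scheme.{u}) := j ≫ pullback.fst h h
    let a' : T ⟶ (W : Scheme.{u}) := j ≫ pullback.snd h h
    let e : T ⟶ S := (a ≫ W.ι) ≫ sg.hom
    obtain ⟨z⟩ : Nonempty T := inferInstance
    obtain ⟨q, hqz⟩ := (pullback.snd p e).surjective z
    let T' := Spec ((pullback p e).residueField q)
    let k : T' ⟶ pullback p e := (pullback p e).fromSpecResidueField q
    let x : T' ⟶ X := k ≫ pullback.fst p e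
    let y : T' ⟶ T := k ≫ pullback.snd p e
    have hxy : x ≫ p = y ≫ e := by simp only [x, y, Category.assoc, pullback.condition]
    have hea : (a' ≫ W.ι) ≫ sg.hom = e := by
      show (a' ≫ W.ι) ≫ pullback.fst U₁.hom U₂.hom ≫ U₁.hom = (a ≫ W.ι) ≫ pullback.fst U₁.hom U₂.hom ≫ U₁.hom
      have : a' ≫ h = a ≫ h := by simp only [a, a', Category.assoc, pullback.condition]
      rw [← Category.assoc (a' ≫ W.ι), Category.assoc a', show W.ι ≫ pullback.fst U₁.hom U₂.hom = h from rfl, this]
      simp only [h, Category.assoc]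
    let A : T' ⟶ pullback p sg.hom := pullback.lift x (y ≫ a ≫ W.ι) (by
      rw [hxy]; simp only [e, Category.assoc])
    let A' : T' ⟶ pullback p sg.hom := pullback.lift x (y ≫ a' ≫ W.ι) (by
      rw [hxy, ← hea]; simp only [Category.assoc])
    have hA : A ≫ π = y ≫ a ≫ W.ι := pullback.lift_snd _ _ _
    have hA' : A' ≫ π = y ≫ a' ≫ W.ι := pullback.lift_snd _ _ _
    have key : ∀ (B : T' ⟶ pullback p sg.hom) (c : T' ⟶ (W : Scheme.{u})), B ≫ π = c ≫ W.ι →
        ∃ v, v ≫ γ = B := fun B c hB => by
      refine ⟨IsOpenImmersion.lift γ B ?_, IsOpenImmersion.lift_fac _ _ _⟩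
      rintro _ ⟨z', rfl⟩
      rw [← hpre]
      show π (B z') ∈ (W : Set sg.left)
      rw [← Scheme.Hom.comp_apply, hB, Scheme.Hom.comp_apply]
      exact (c z').2
    obtain ⟨va, hva⟩ := key A (y ≫ a) (hA.trans (Category.assoc _ _ _).symm)
    obtain ⟨vb, hvb⟩ := key A' (y ≫ a') (hA'.trans (Category.assoc _ _ _).symm)
    have hr : A ≫ r = A' ≫ r := by
      apply pullback.hom_ext
      · have e1 : r ≫ pullback.fst p U₁.hom = pullback.fst p sg.hom := pullback.lift_fst _ _ _
        rw [Category.assoc, Category.assoc, e1]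
        exact (pullback.lift_fst _ _ _).trans (pullback.lift_fst _ _ _).symm
      · simp only [r, Category.assoc, pullback.lift_snd]
        rw [← Category.assoc, ← Category.assoc A', hA, hA']
        simp only [a, a', Category.assoc]
        exact congrArg (fun m => y ≫ j ≫ m) pullback.condition
    have hAA : A = A' := by
      rw [← hva, ← hvb]
      rw [← hva, ← hvb, Category.assoc, Category.assoc, hγr, Category.comp_id, Category.comp_id] at hr
      rw [hr]
    have haa : y ≫ a = y ≫ a' := by
      refine (cancel_mono W.ι).1 (((Category.assoc _ _ _).trans hA.symm).trans ?_)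
      rw [hAA]
      exact hA'.trans (Category.assoc _ _ _).symm
    obtain ⟨z'⟩ : Nonempty T' := inferInstance
    refine ⟨(y ≫ a) z', ?_⟩
    have hd : (y ≫ a) ≫ pullback.diagonal h = y ≫ j := by
      apply pullback.hom_ext
      · simp [a]
      · simp only [Category.assoc, pullback.diagonal_snd, Category.comp_id, haa]
        rfl
    rw [← Scheme.Hom.comp_apply, hd, Scheme.Hom.comp_apply]
    exact Scheme.fromSpecResidueField_apply _ _⟩
  haveI : IsIso (pullback.diagonal h) := isIso_of_isOpenImmersion_of_opensRange_eq_top _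
    (TopologicalSpace.Opens.ext (Set.range_eq_univ.2 (pullback.diagonal h).surjective))
  haveI : Mono h := (pullback.isIso_diagonal_iff h).1 inferInstance
  haveI : IsOpenImmersion h := IsOpenImmersion.of_flat_of_mono h
  haveI : IsIso h := isIso_of_isOpenImmersion_of_opensRange_eq_top _
    (TopologicalSpace.Opens.ext (Set.range_eq_univ.2 h.surjective))
  let g : U₁.left ⟶ U₂.left := inv h ≫ W.ι ≫ pullback.snd U₁.hom U₂.hom
  have hg : g ≫ U₂.hom = U₁.hom := by
    simp only [g, Category.assoc]
    rw [IsIso.inv_comp_eq, ← pullback.condition]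
    simp only [h, Category.assoc]
  refine ⟨Over.homMk g hg, ?_⟩
  refine Desc.SchDD.hom_ext (Over.OverMorphism.ext (pullback.hom_ext ?_ ?_))
  · exact (Over.w ((Desc.toDD p).map (Over.homMk g hg)).hom).trans hb.symm
  · refine Eq.trans (pullback.lift_snd _ _ _) ?_
    show s1 ≫ g = φ
    rw [← hψh, ← hψ2, ← hψ']
    simp [g]

end Groth.Agent.S0782
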