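import Groth.Statements.S0784
import Groth.Agent.Lib.MultLocal.IdemLift
import Groth.Agent.Lib.EtBasicB.OverField
import Mathlib.AlgebraicGeometry.ZariskisMainTheorem
-- import your own Groth.Agent.* helpers here

set_option autoImplicit false
open CategoryTheory CategoryTheory.Limits AlgebraicGeometry Opposite
universe u
open Desc

namespace Groth.Agent.S0784

/-- Let (A, I) be a henselian pair and g : U ⟶ Spec A quasi-compact, separated and etale such that the
base change of U to Spec(A/I) is finite over Spec(A/I). Then U is the disjoint union of an open and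
closed subscheme finite over Spec A and an open and closed subscheme with no points lying over V(I). -/
theorem result (A : Type u) [CommRing A] (I : Ideal A) [HenselianRing A I]
    {U : Scheme.{u}} (g : U ⟶ Spec (CommRingCat.of A)) [QuasiCompact g] [IsSeparated g] [Etale g]
    (hfin : IsFinite (pullback.snd g (Spec.map (CommRingCat.ofHom (Ideal.Quotient.mk I))))) :
    ∃ W : U.Opens, IsClosed (W : Set U) ∧ IsFinite (W.ι ≫ g) ∧
      ∀ u : U, u ∉ W → ¬ I ≤ (g.base u : PrimeSpectrum A).asIdeal := by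
  haveI : LocallyQuasiFinite g := GrothLib.EtBasicB.locallyQuasiFinite_of_unramified g
  let N := g.normalization
  let n : N ⟶ Spec (CommRingCat.of A) := g.fromNormalization
  haveI : IsAffine N := isAffine_of_isAffineHom n
  obtain ⟨φ, hφ⟩ := Spec.map_surjective (N.isoSpec.inv ≫ n)
  let κ : U ⟶ Spec Γ(N, ⊤) := g.toNormalization ≫ N.isoSpec.hom
  have hκ : κ ≫ Spec.map φ = g := by
    simp only [κ, Category.assoc, hφ, Iso.hom_inv_id_assoc]
    exact g.toNormalization_fromNormalization
  haveI : IsOpenImmersion κ := inferInstance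
  haveI : IsIntegralHom (Spec.map φ) := by rw [hφ]; infer_instance
  let T : Type u := Γ(N, ⊤)
  letI : Algebra A T := φ.hom.toAlgebra
  haveI : Algebra.IsIntegral A T := algebraMap_isIntegral_iff.1 ((IsIntegralHom.SpecMap_iff (φ := φ)).1 inferInstance)
  let J : Ideal T := I.map (algebraMap A T)
  have hJ : J ≤ Ideal.jacobson ⊥ := GrothLib.Hensel.map_le_jacobson_of_isIntegral (HenselianRing.jac (I := I))
  have hle : ∀ p : PrimeSpectrum T, J ≤ p.asIdeal ↔ I ≤ (Spec.map φ p : PrimeSpectrum A).asIdeal :=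
    fun p => Ideal.map_le_iff_le_comap
  -- the trace of `U` on the closed fibre is closed
  let q := Spec.map (CommRingCat.ofHom (Ideal.Quotient.mk I))
  haveI : IsClosedImmersion q := IsClosedImmersion.spec_of_surjective _ Ideal.Quotient.mk_surjective
  haveI := hfin
  haveI : IsFinite (pullback.fst g q ≫ κ) := by
    haveI : IsFinite ((pullback.fst g q ≫ κ) ≫ Spec.map φ) := by
      rw [Category.assoc, hκ, pullback.condition]; infer_instance
    exact IsFinite.of_comp _ (Spec.map φ)
  have hrange : Set.range (pullback.fst g q ≫ κ) = Set.range κ ∩ {p | J ≤ (p : PrimeSpectrum T).asIdeal} := by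
    rw [Scheme.Hom.comp_base, TopCat.coe_comp, Set.range_comp, Scheme.Pullback.range_fst]
    have hq : Set.range q = {p : PrimeSpectrum A | I ≤ p.asIdeal} := by
      rw [show Set.range q = PrimeSpectrum.zeroLocus (I : Set A) from
        (range_comap_of_surjective _ (Ideal.Quotient.mk I) Ideal.Quotient.mk_surjective).trans (by rw [Ideal.mk_ker])]
      rfl
    rw [hq]
    ext p
    constructor
    · rintro ⟨u, hu, rfl⟩
      refine ⟨⟨u, rfl⟩, (hle _).2 ?_⟩
      rw [← Scheme.Hom.comp_apply, hκ]
      exact hu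
    · rintro ⟨⟨u, rfl⟩, hu⟩
      refine ⟨u, ?_, rfl⟩
      have := (hle _).1 hu
      rw [← Scheme.Hom.comp_apply, hκ] at this
      exact this
  have hcl : IsClosed (Set.range κ ∩ {p | J ≤ (p : PrimeSpectrum T).asIdeal}) := by
    rw [← hrange]
    exact (pullback.fst g q ≫ κ).isClosedMap.isClosed_range
  let π : T →+* T ⧸ J := Ideal.Quotient.mk J
  have hπmem : ∀ p : PrimeSpectrum (T ⧸ J), J ≤ (PrimeSpectrum.comap π p).asIdeal := fun p x hx => by
    show π x ∈ p.asIdeal
    rw [show π x = 0 from Ideal.Quotient.eq_zero_iff_mem.2 hx]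
    exact zero_mem _
  have hclopen : IsClopen (PrimeSpectrum.comap π ⁻¹' (Set.range κ : Set (PrimeSpectrum T))) := by
    refine ⟨?_, κ.isOpenEmbedding.isOpen_range.preimage (PrimeSpectrum.continuous_comap π)⟩
    convert hcl.preimage (PrimeSpectrum.continuous_comap π) using 1
    ext p
    exact ⟨fun h => ⟨h, hπmem p⟩, fun h => h.1⟩
  obtain ⟨e₀, he₀, he₀'⟩ := PrimeSpectrum.exists_idempotent_basicOpen_eq_of_isClopen hclopen
  obtain ⟨e, he, hee⟩ := (GrothLib.MultLocal.IdemBij.of_henselian (R := A) (I := I) (π := π)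
    Ideal.Quotient.mk_surjective Ideal.mk_ker).lift he₀
  have hmem : ∀ p : PrimeSpectrum T, J ≤ p.asIdeal → (p ∈ PrimeSpectrum.basicOpen e ↔ p ∈ (Set.range κ : Set (PrimeSpectrum T))) := by
    intro p hp
    obtain ⟨p', rfl⟩ : p ∈ Set.range (PrimeSpectrum.comap π) := by
      rw [range_comap_of_surjective _ π Ideal.Quotient.mk_surjective, Ideal.mk_ker]
      exact hp
    show e ∉ (PrimeSpectrum.comap π p').asIdeal ↔ p' ∈ PrimeSpectrum.comap π ⁻¹' (Set.range κ : Set (PrimeSpectrum T))
    rw [he₀', PrimeSpectrum.basicOpen_eq_zeroLocus_compl, ← hee]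
    simp [PrimeSpectrum.mem_zeroLocus]
  have hC : (PrimeSpectrum.basicOpen e : Set (PrimeSpectrum T)) ⊆ Set.range κ := by
    intro p hp
    obtain ⟨m, hm, hpm⟩ := Ideal.exists_le_maximal p.asIdeal p.isPrime.ne_top
    let m' : PrimeSpectrum T := ⟨m, hm.isPrime⟩
    have hJm : J ≤ m := hJ.trans (sInf_le ⟨bot_le, hm⟩)
    have hem : e ∉ m := fun h => by
      have h1 : (1 - e) ∈ p.asIdeal := (p.isPrime.mem_or_mem (show e * (1 - e) ∈ p.asIdeal by
        rw [mul_sub, mul_one, he.eq, sub_self]; exact zero_mem _)).resolve_left hp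
      refine hm.ne_top (m.eq_top_iff_one.2 ?_)
      rw [show (1 : T) = e + (1 - e) by ring]
      exact add_mem h (hpm h1)
    exact ((PrimeSpectrum.le_iff_specializes p m').1 hpm).mem_open κ.isOpenEmbedding.isOpen_range ((hmem m' hJm).1 hem)
  let W : U.Opens := κ ⁻¹ᵁ (PrimeSpectrum.basicOpen e : (Spec Γ(N, ⊤)).Opens)
  have hCclosed : IsClosed (PrimeSpectrum.basicOpen e : Set (PrimeSpectrum T)) := by
    rw [PrimeSpectrum.basicOpen_eq_zeroLocus_of_isIdempotentElem e he]
    exact PrimeSpectrum.isClosed_zeroLocus _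
  refine ⟨W, hCclosed.preimage κ.continuous, ?_, fun u hu hI => hu ?_⟩
  · haveI : IsClosedImmersion (W.ι ≫ κ) := by
      refine IsClosedImmersion.of_isPreimmersion _ ?_
      rw [Scheme.Hom.comp_base, TopCat.coe_comp, Set.range_comp, Scheme.Opens.range_ι]
      show IsClosed (κ '' (κ ⁻¹' (PrimeSpectrum.basicOpen e : Set (PrimeSpectrum T))))
      exact (Set.image_preimage_eq_of_subset hC).symm ▸ hCclosed
    refine (IsFinite.iff_isIntegralHom_and_locallyOfFiniteType _).2 ⟨?_, inferInstance⟩
    rw [← hκ, ← Category.assoc]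
    infer_instance
  · refine (hmem _ ((hle _).2 ?_)).2 ⟨u, rfl⟩
    rw [← Scheme.Hom.comp_apply, hκ]
    exact hI

end Groth.Agent.S0784
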