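import Groth.Statements.S0786
import Groth.Agent.Lib.QCoh.ClosedImmersion
import Groth.Agent.Lib.QCoh.Coherent

set_option autoImplicit false
universe u
open Coherent

namespace Groth.Agent.S0786

open CategoryTheory AlgebraicGeometry in
/-- Let i : Z → X be a closed immersion with X locally Noetherian, and let F be a coherent O_X-module
annihilated by the kernel ideal sheaf of i. Then F is isomorphic to i_* G for some coherent
O_Z-module G. (Together with full faithfulness of i_* on quasi-coherent modules this is the
equivalence of the source.) -/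
theorem result {Z X : Scheme.{u}} (i : Z ⟶ X)
    [IsClosedImmersion i] [IsLocallyNoetherian X] (F : X.Modules) (hF : Coh.IsCoh F)
    (hk : ClSub.KilledByIdeal i.ker F) :
    ∃ G : Z.Modules, Coh.IsCoh G ∧ Nonempty ((Scheme.Modules.pushforward i).obj G ≅ F) := by
  have := hF.1
  have := GrothLib.QCoh.isIso_unit_of_killed i F hk
  let e : (Scheme.Modules.pushforward i).obj ((Scheme.Modules.pullback i).obj F) ≅ F :=
    (asIso ((Scheme.Modules.pullbackPushforwardAdjunction i).unit.app F)).symm
  have hq : ((Scheme.Modules.pushforward i).obj ((Scheme.Modules.pullback i).obj F)).IsQuasicoherent :=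
    (SheafOfModules.isQuasicoherent X.ringCatSheaf).prop_of_iso e.symm hF.1
  refine ⟨_, GrothLib.QCoh.isCoh_of_pushforward i _ ⟨hq, ?_⟩, ⟨e⟩⟩
  exact (GrothLib.QCoh.isFiniteType_iff_moduleFinite _).2 fun U hU ↦ by
    have := GrothLib.QCoh.moduleFinite_of_isFiniteType F hF.2 hU
    exact Module.Finite.of_surjective (GrothLib.QCoh.appLinear e.inv U) fun m ↦
      ⟨e.hom.app U m, by
        change e.inv.app U (e.hom.app U m) = m
        rw [← ConcreteCategory.comp_apply, ← Scheme.Modules.Hom.comp_app, e.hom_inv_id]
        rfl⟩

end Groth.Agent.S0786
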