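import Groth.Statements.S0791
import Groth.Agent.Lib.ProperOver.Basic

set_option autoImplicit false
universe u
open Coherent

namespace Groth.Agent.S0791

open CategoryTheory AlgebraicGeometry in
/-- Let f : X → S be locally of finite type. A finite union of closed subsets of X that are proper over
S is again proper over S. -/
theorem result {X S : Scheme.{u}} (f : X ⟶ S) [LocallyOfFiniteType f]
    (ι : Type) [Finite ι] (Z : ι → Set X) (hZ : ∀ i, ClSub.IsProperOver f (Z i)) :
    ClSub.IsProperOver f (Set.iUnion Z) := GrothLib.ProperOver.isProperOver_iUnion f Z hZ

end Groth.Agent.S0791
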