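import Groth.Statements.S0792
import Groth.Agent.Lib.ProperOver.Basic
import Groth.Agent.Lib.QCoh.SchSupport
import Groth.Agent.Lib.QCoh.SupportExact

set_option autoImplicit false
universe u
open Coherent

namespace Groth.Agent.S0792

open CategoryTheory AlgebraicGeometry in
/-- Let f : X → S be locally of finite type and F a quasi-coherent O_X-module of finite type. The
support of F is proper over S if and only if there are a closed subscheme i : Z → X with Z proper
over S and a quasi-coherent O_Z-module G of finite type with i_* G isomorphic to F. (The published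
statement also gives a further equivalent condition, that the scheme-theoretic support of F is
proper over S; it is not used here.) -/
theorem result {X S : Scheme.{u}} (f : X ⟶ S) [LocallyOfFiniteType f]
    (F : X.Modules) (hq : Coh.IsQCoh F) (hft : CohB1.IsFT F) :
    ClSub.IsProperOver f (CohB1.support F) ↔
      ∃ (Z : Scheme.{u}) (i : Z ⟶ X), IsClosedImmersion i ∧ IsProper (i ≫ f) ∧
        ∃ G : Z.Modules, Coh.IsQCoh G ∧ CohB1.IsFT G ∧
          Nonempty ((Scheme.Modules.pushforward i).obj G ≅ F) := by
  have := hq
  constructor
  · intro h
    let J := GrothLib.QCoh.annIdeal F hft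
    have hr : Set.range J.subschemeι = CohB1.support F := by
      rw [Scheme.IdealSheafData.range_subschemeι]; exact GrothLib.QCoh.coe_support_annIdeal F hft
    have := GrothLib.QCoh.isIso_unit_annIdeal F hft
    let e := (asIso ((Scheme.Modules.pullbackPushforwardAdjunction J.subschemeι).unit.app F)).symm
    have hG := GrothLib.QCoh.isCoh_of_pushforward J.subschemeι _
      (GrothLib.QCoh.isCoh_of_iso e.symm ⟨hq, hft⟩)
    exact ⟨_, J.subschemeι, inferInstance,
      GrothLib.ProperOver.isProper_of_isProperOver f J.subschemeι (hr ▸ h), _, hG.1, hG.2, ⟨e⟩⟩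
  · rintro ⟨Z, i, hi, hp, G, hGq, hGf, ⟨e⟩⟩
    refine GrothLib.ProperOver.isProperOver_of_closedImmersion f i
      (GrothLib.QCoh.isClosed_support F hft) ?_
    rw [← GrothLib.QCoh.support_eq_of_iso e]
    exact GrothLib.QCoh.support_pushforward_subset_range i G

end Groth.Agent.S0792
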