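import Groth.Statements.S0796
import Groth.Agent.Lib.ProperOver.Basic
import Groth.Agent.Lib.QCoh.SupportExact

set_option autoImplicit false
universe u
open Coherent

namespace Groth.Agent.S0796

open CategoryTheory AlgebraicGeometry in
/-- Part (2), through the usual criterion for Serre subcategories. Let S be locally Noetherian and f : X
→ S locally of finite type. For a short exact sequence 0 → F₁ → F₂ → F₃ → 0 of coherent O_X-modules,
the support of F₂ is proper over S if and only if the supports of F₁ and F₃ are. -/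
theorem result {X S : Scheme.{u}} (f : X ⟶ S) [LocallyOfFiniteType f]
    [IsLocallyNoetherian S] (E : ShortComplex X.Modules) (hE : E.ShortExact)
    (h₁ : Coh.IsCoh E.X₁) (h₂ : Coh.IsCoh E.X₂) (h₃ : Coh.IsCoh E.X₃) :
    ClSub.IsProperOver f (CohB1.support E.X₂) ↔
      ClSub.IsProperOver f (CohB1.support E.X₁) ∧ ClSub.IsProperOver f (CohB1.support E.X₃) := by
  have := hE.mono_f
  have := hE.epi_g
  have c₁ := GrothLib.QCoh.isClosed_support_of_isCoh h₁
  have c₂ := GrothLib.QCoh.isClosed_support_of_isCoh h₂
  have c₃ := GrothLib.QCoh.isClosed_support_of_isCoh h₃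
  refine ⟨fun h ↦ ⟨GrothLib.ProperOver.IsProperOver.subset f h c₁ (GrothLib.QCoh.support_subset_of_mono E.f),
    GrothLib.ProperOver.IsProperOver.subset f h c₃ (GrothLib.QCoh.support_subset_of_epi E.g)⟩, fun ⟨a, b⟩ ↦ ?_⟩
  have hu := GrothLib.ProperOver.isProperOver_iUnion f
    (fun b : Bool ↦ cond b (CohB1.support E.X₁) (CohB1.support E.X₃))
    (fun i ↦ by cases i <;> assumption)
  refine GrothLib.ProperOver.IsProperOver.subset f hu c₂ ((GrothLib.QCoh.support_subset_union hE).trans (le_of_eq ?_))
  rw [Set.union_eq_iUnion]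

end Groth.Agent.S0796
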