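import Groth.Statements.S0798
import Groth.Agent.Lib.FormalFun.FullFaithful

set_option autoImplicit false
universe u
open Formal

namespace Groth.Agent.S0798

open CategoryTheory AlgebraicGeometry Opposite in
/-- Grothendieck's existence Theorem with proper supports, full faithfulness half. Let A be a Noetherian
ring complete with respect to an ideal I, and X a scheme separated and of finite type over Spec A.
For coherent O_X-modules M and N whose supports are proper over Spec A, every morphism between the
inverse systems (M/I^(n+1)M)_{n ≥ 0} and (N/I^(n+1)N)_{n ≥ 0} is induced by exactly one morphism M ⟶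
N. -/
theorem result (A : Type u) [CommRing A] [IsNoetherianRing A]
    (I : Ideal A) [IsAdicComplete I A] (X : Scheme.{u}) [X.Over (Spec (CommRingCat.of A))]
    [IsSeparated (X ↘ Spec (CommRingCat.of A))] [LocallyOfFiniteType (X ↘ Spec (CommRingCat.of A))]
    [QuasiCompact (X ↘ Spec (CommRingCat.of A))] (M N : X.Modules) (hM : Coh.IsCoh M) (hN : Coh.IsCoh N)
    (hMs : ClSub.IsProperOver (X ↘ Spec (CommRingCat.of A)) (CohB1.support M))
    (hNs : ClSub.IsProperOver (X ↘ Spec (CommRingCat.of A)) (CohB1.support N))
    (ψ : Formal.completion I M ⟶ Formal.completion I N) :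
    ∃! φ : M ⟶ N, ∀ n : ℕ, Formal.modPowπ I (n + 1) M ≫ ψ.app (op n) = φ ≫ Formal.modPowπ I (n + 1) N := by
  refine GrothLib.FormalFun.existsUnique_hom_of_isProperOver I M N hM hN ?_ ψ
  exact GrothLib.ProperOver.IsProperOver.subset _ hMs
    ((GrothLib.QCoh.isClosed_support_of_isCoh hM).inter (GrothLib.QCoh.isClosed_support_of_isCoh hN))
    Set.inter_subset_left

end Groth.Agent.S0798
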