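import Groth.Statements.S0800
import Groth.Agent.Lib.ColimCoh.Top
import Groth.Agent.Lib.ColimCoh.RpushColim

set_option autoImplicit false
universe u
open Coherent

namespace Groth.Agent.S0800

open CategoryTheory CategoryTheory.Limits AlgebraicGeometry in
/-- Let f : X → S be quasi-compact and quasi-separated. Then for every p the higher direct image functor
R^p f_* on abelian sheaves (on the underlying spaces) preserves filtered colimits. -/
theorem result {X S : Scheme.{u}} (f : X ⟶ S) [QuasiCompact f]
    [QuasiSeparated f] (p : ℕ) (J : Type u) [SmallCategory J] [IsFiltered J] :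
    PreservesColimitsOfShape J (Coh.RpushAb f p) := by
  refine ⟨fun {K} => GrothLib.ColimCoh.preservesColimit_Rpush (Opens.grothendieckTopology S)
    (TopologicalSpace.Opens.map f.base) p K fun V => ?_⟩
  choose W hW hxW hWV using fun y : V =>
    (TopologicalSpace.Opens.isBasis_iff_nbhd.1 S.isBasis_affineOpens) y.2
  let g : ∀ y : V, W y ⟶ V := fun y => homOfLE (hWV y)
  refine ⟨↥V, W, g, fun y hy => ⟨W ⟨y, hy⟩, g ⟨y, hy⟩, Sieve.ofArrows_mk W g ⟨y, hy⟩, hxW ⟨y, hy⟩⟩,
    fun y => ?_⟩
  exact GrothLib.ColimCoh.preservesColimit_cohomology_of_isQuasiSeparated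
    (f.isQuasiSeparated_preimage (hW y).isQuasiSeparated)
    (QuasiCompact.isCompact_preimage (W y).1 (W y).2 (hW y).isCompact) K p

end Groth.Agent.S0800
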