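import Groth.Statements.S0804
import Groth.Agent.Lib.FSecDual7.Reduce

set_option autoImplicit false
universe u
open CategoryTheory
attribute [local instance] HasDerivedCategory.standard
open Formal2

namespace Groth.Agent.S0804

open AlgebraicGeometry in
/-- For the coherent module on U attached to a finite A-module M (every coherent module on U has this
form). Let I ⊆ 𝔞 be ideals of a Noetherian ring A which is complete for the I-adic topology and
admits a dualizing complex, and let d bound the cohomological dimension of I. Assume: for every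
associated prime 𝔭 of M lying in U = Spec A ∖ V(𝔞) and outside V(I), such that V(𝔭) ∩ V(I) is not
contained in V(𝔞), and every prime 𝔮 ⊇ 𝔭 + 𝔞, the dimension of (A/𝔭)_𝔮 exceeds d + 1. Then the
canonical map from the colimit of the sections of M~ over the opens V ⊆ U containing U ∩ V(I) to the
limit of the sections of (M/I^nM)~ over U is bijective (elementwise formulation; degree-0 cohomology
standing for sections). -/
theorem result (A : Type u) [CommRing A] [IsNoetherianRing A]
    (I 𝔞 : Ideal A) (hI : I ≤ 𝔞) [IsAdicComplete I A] (hω : ∃ ω : Dual.D A, Dual.IsDualizing A ω)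
    (d : ℕ) (hd : LocCoh.CdLE A I d) (M : Type u) [AddCommGroup M] [Module A M] [Module.Finite A M]
    (h₂ : ∀ p ∈ associatedPrimes A M, ¬ 𝔞 ≤ p → ¬ I ≤ p →
      (∃ r : Ideal A, r.IsPrime ∧ p ≤ r ∧ I ≤ r ∧ ¬ 𝔞 ≤ r) →
        ∀ (q : Ideal A) [q.IsPrime], p ≤ q → 𝔞 ≤ q → ((d + 1 : ℕ) : WithBot ℕ∞) < Formal2.dimBetween A p q) :
    Formal2.FormalCohColimBijective A I M 0 (LocCoh.puncturedOpen A 𝔞) := by
  exact GrothLib.ColimSec7.bijective_of_inj_surj (GrothLib.ColimSec7.inj_of_finite I _)
    (GrothLib.FSecDual7.surj_of_dim 𝔞 hI hω d hd h₂)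

end Groth.Agent.S0804
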