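import Groth.Statements.S0805
import Groth.Agent.Lib.FSecDual7.Depth2

set_option autoImplicit false
universe u
open CategoryTheory
attribute [local instance] HasDerivedCategory.standard
open Formal2

namespace Groth.Agent.S0805

open AlgebraicGeometry in
/-- Let I ⊆ 𝔞 be ideals of a Noetherian ring A which is complete for the I-adic topology and admits a
dualizing complex, let d bound the cohomological dimension of I, let U = Spec A ∖ V(𝔞), and let M be
a finite A-module. Assume the following dimension condition on the associated primes of M: for every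
associated prime 𝔭 of M lying in U, not containing I, and such that V(𝔭) ∩ V(I) ⊄ V(𝔞), and for
every prime 𝔮 ⊇ 𝔭 containing 𝔞, one has dim (A/𝔭)_𝔮 > d + 1. Assume moreover that M_𝔭 has depth at
least 2 for every prime 𝔭 in U such that V(𝔭) ∩ V(I) ⊆ V(𝔞). Then, for the coherent module M~ on U
attached to M, the canonical map from the sections of M~ over U to the limit of the sections of
(M/I^nM)~ over U is bijective. -/
theorem result (A : Type u) [CommRing A] [IsNoetherianRing A]
    (I 𝔞 : Ideal A) (hI : I ≤ 𝔞) [IsAdicComplete I A] (hω : ∃ ω : Dual.D A, Dual.IsDualizing A ω)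
    (d : ℕ) (hd : LocCoh.CdLE A I d) (M : Type u) [AddCommGroup M] [Module A M] [Module.Finite A M]
    (h₂ : ∀ p ∈ associatedPrimes A M, ¬ 𝔞 ≤ p → ¬ I ≤ p →
      (∃ r : Ideal A, r.IsPrime ∧ p ≤ r ∧ I ≤ r ∧ ¬ 𝔞 ≤ r) →
        ∀ (q : Ideal A) [q.IsPrime], p ≤ q → 𝔞 ≤ q → ((d + 1 : ℕ) : WithBot ℕ∞) < Formal2.dimBetween A p q)
    (h₃ : ∀ (p : Ideal A) [p.IsPrime], ¬ 𝔞 ≤ p →
      (∀ (r : Ideal A), r.IsPrime → p ≤ r → I ≤ r → 𝔞 ≤ r) →
        (2 : ℕ∞) ≤ LocCoh.depth (Localization.AtPrime p) (LocalizedModule p.primeCompl M)) :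
    Formal2.FormalCohBijective A I M 0 (LocCoh.puncturedOpen A 𝔞) := by
  exact GrothLib.FSecDual7.bijective_of_dim_depth I 𝔞 hI hω d hd h₂ h₃

end Groth.Agent.S0805
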