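import Groth.Statements.S0810
import Groth.Agent.Lib.SGA2Para.CI
import Groth.Agent.Lib.ParaPair.Local

set_option autoImplicit false
set_option linter.all false
universe u
open Formal2

namespace Groth.Agent.S0810

open CategoryTheory AlgebraicGeometry in
/-- Let A be a Noetherian local ring which is a complete intersection (its completion is a regular local
ring modulo a regular sequence) of dimension at least 4. Then every invertible module on the
punctured spectrum of A is trivial. -/
theorem result (A : Type u) [CommRing A] [IsNoetherianRing A]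
    [IsLocalRing A] (hci : Pi1.IsCompleteIntersection A) (hdim : (4 : WithBot ℕ∞) ≤ ringKrullDim A) :
    Formal2.PicTrivial (↑(FEt.puncturedSpec A) : Scheme.{u}) := by
  obtain ⟨B, _, _, rs, hm, hrs, ⟨e⟩⟩ := hci
  let Ah := AdicCompletion (IsLocalRing.maximalIdeal A) A
  haveI : Module.Flat A Ah := AdicCompletion.flat_of_isNoetherian _
  have hmap : (IsLocalRing.maximalIdeal A).map (algebraMap A Ah) = IsLocalRing.maximalIdeal Ah :=
    AdicCompletion.maximalIdeal_eq_map.symm
  haveI : IsLocalHom (algebraMap A Ah) :=
    ((IsLocalRing.local_hom_TFAE (algebraMap A Ah)).out 0 2 rfl rfl).2 hmap.le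
  have hA : ParaF.IsParafactorialLocalRing A := by
    refine Groth.Agent.S2865.result A Ah (by
      rw [hmap]
      exact ringKrullDim_eq_zero_of_isField
        ((Ideal.Quotient.maximal_ideal_iff_isField_quotient _).1 inferInstance)) ?_
    refine GrothLib.SGA2Para.isParafactorial_of_ci rs.length B rs rfl hm hrs.toIsWeaklyRegular Ah
      (e.symm.toRingHom.comp (Ideal.Quotient.mk _)) (e.symm.surjective.comp Ideal.Quotient.mk_surjective)
      ?_ (hdim.trans (le_of_eq GrothLib.AdicExtra.ringKrullDim_adicCompletion.symm))
    rw [← RingHom.comap_ker, (RingHom.injective_iff_ker_eq_bot e.symm.toRingHom).1 e.symm.injective,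
      ← RingHom.ker_eq_comap_bot, Ideal.mk_ker]
  exact ((GrothLib.ParaPair.isParafactorialLocalRing_iff A).1 hA).2

end Groth.Agent.S0810
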