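import Groth.Statements.S0811
import Groth.Agent.Lib.LocalPic7.Main

set_option autoImplicit false
universe u
open Formal2

namespace Groth.Agent.S0811

open CategoryTheory AlgebraicGeometry in
/-- Let (A, 𝔪) be a Noetherian local ring and f ∈ 𝔪 a nonzerodivisor such that A is f-adically complete,
the local cohomology modules H^i_𝔪(A/fA) for i = 1, 2 are finitely generated over A, and H^3_𝔪(A/fA)
vanishes. Let U be the punctured spectrum of A and U₀ = U ∩ Spec(A/fA). Then every invertible
O_{U₀}-module is isomorphic to the pullback of an invertible module defined on some open U' ⊆ U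
containing U₀. -/
theorem result (A : Type u) [CommRing A] [IsNoetherianRing A]
    [IsLocalRing A] (f : A) (hf : f ∈ IsLocalRing.maximalIdeal A) [IsAdicComplete (Ideal.span {f}) A]
    (hnzd : f ∈ nonZeroDivisors A)
    (h₁ : Module.Finite A (LocCoh.H (IsLocalRing.maximalIdeal A) 1 (A ⧸ Ideal.span {f})))
    (h₂ : Module.Finite A (LocCoh.H (IsLocalRing.maximalIdeal A) 2 (A ⧸ Ideal.span {f})))
    (h₃ : Subsingleton (LocCoh.H (IsLocalRing.maximalIdeal A) 3 (A ⧸ Ideal.span {f})))
    (L₀ : (↑(Formal2.specQuotMap A f ⁻¹ᵁ FEt.puncturedSpec A) : Scheme.{u}).Modules)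
    (hL₀ : PicF.IsInvertible L₀) :
    ∃ (U' : (Spec (CommRingCat.of A)).Opens) (_ : U' ≤ FEt.puncturedSpec A)
      (h : Formal2.specQuotMap A f ⁻¹ᵁ FEt.puncturedSpec A ≤ Formal2.specQuotMap A f ⁻¹ᵁ U')
      (L : (↑U' : Scheme.{u}).Modules), PicF.IsInvertible L ∧
        Nonempty ((Scheme.Modules.pullback ((Formal2.specQuotMap A f).resLE U' _ h)).obj L ≅ L₀) := by
  exact GrothLib.LocalPic7.exists_extension_neighbourhood f hnzd h₁ h₂ h₃ (FEt.puncturedSpec A) GrothLib.SGA2Para.puncturedOpen_eq L₀ hL₀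

end Groth.Agent.S0811
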