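import Groth.Statements.S0813
import Groth.Agent.S11951
import Groth.Agent.Lib.FEt21.PunctSections
import Groth.Agent.Lib.N2.Completion
import Groth.Agent.Lib.FinCov.FrameFree

set_option autoImplicit false
universe u
open Formal2

namespace Groth.Agent.S0813

open CategoryTheory AlgebraicGeometry in
/-- Let (A, 𝔪) be a Noetherian local ring of depth at least 2, A^ its 𝔪-adic completion, U the punctured
spectrum of A and U^ its preimage in Spec A^ (the punctured spectrum of A^). Then an invertible
O_U-module whose pullback to U^ is trivial is trivial. -/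
theorem result (A : Type u) [CommRing A] [IsNoetherianRing A]
    [IsLocalRing A] (hdepth : (2 : ℕ∞) ≤ LocCoh.depth A A) :
    Formal2.PicPullbackInjective
      (Spec.map (CommRingCat.ofHom (algebraMap A (AdicCompletion (IsLocalRing.maximalIdeal A) A))) ∣_
        FEt.puncturedSpec A) := by
  let g := Spec.map (CommRingCat.ofHom (algebraMap A (AdicCompletion (IsLocalRing.maximalIdeal A) A)))
  let U := FEt.puncturedSpec A
  haveI : CompactSpace (U : Scheme.{u}) := isCompact_iff_compactSpace.1 (TopologicalSpace.NoetherianSpace.isCompact _)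
  haveI : QuasiCompact U.ι := inferInstance
  haveI hff : Module.FaithfullyFlat A (AdicCompletion (IsLocalRing.maximalIdeal A) A) :=
    haveI := AdicCompletion.flat_of_isNoetherian (R := A) (IsLocalRing.maximalIdeal A)
    Module.FaithfullyFlat.of_flat_of_isLocalHom
  haveI : Flat g := (HasRingHomProperty.Spec_iff (P := @Flat)).2
    (RingHom.flat_algebraMap_iff.2 inferInstance)
  haveI : Surjective g := ⟨fun p => PrimeSpectrum.comap_surjective_of_faithfullyFlat (A := A) p⟩
  have hg : Formal2.PicPullbackInjective g := fun L hL _ => by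
    obtain ⟨V, e, hV, he⟩ := GrothLib.InvExt.exists_gen_nhd hL (IsLocalRing.closedPoint A)
    obtain rfl : V = ⊤ := (IsLocalRing.closedPoint_mem_iff _).1 hV
    haveI : IsIso (GrothLib.FinCov.homOfSection (X := Spec (CommRingCat.of A)) e) :=
      Scheme.Modules.Hom.isIso_iff_isIso_app.2 fun W => by
        refine (ConcreteCategory.isIso_iff_bijective _).2 ?_
        have h1 : ∀ c : Γ(Spec (CommRingCat.of A), W), (GrothLib.FinCov.homOfSection e).app W c =
            c • GrothLib.InvExt.mres L (le_top : W ≤ ⊤) e := fun c => by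
          refine Eq.trans ?_ (congrArg (c • ·) (GrothLib.FinCov.homOfSection_one e W))
          refine Eq.trans ?_ (Scheme.Modules.Hom.app_smul (GrothLib.FinCov.homOfSection e) c _)
          exact congrArg ((GrothLib.FinCov.homOfSection e).app W) (mul_one c).symm
        have h2 := he W le_top
        rw [← funext h1] at h2
        exact h2
    exact ⟨(asIso (GrothLib.FinCov.homOfSection (X := Spec (CommRingCat.of A)) e)).symm⟩
  have key := Groth.Agent.S11951.result U.ι
    (GrothLib.FEt21.app_ι_bijective_of_depthTwo (GrothLib.FEt21.depthTwoOutside_puncturedSpec A hdepth)) g hg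
  intro L hL ⟨φ⟩
  refine key L hL ?_
  let i : Limits.pullback U.ι g ≅ ((g ⁻¹ᵁ U : (Spec _).Opens) : Scheme.{u}) :=
    Limits.pullbackSymmetry _ _ ≪≫ pullbackRestrictIsoRestrict g U
  have hi : i.hom ≫ g ∣_ U = Limits.pullback.fst U.ι g := by
    simp [i, morphismRestrict]
  obtain ⟨v⟩ := GrothLib.Ample.nonempty_pullback_structureModule i.hom
  exact ⟨(Scheme.Modules.pullbackCongr hi.symm).app L ≪≫ ((Scheme.Modules.pullbackComp i.hom (g ∣_ U)).app L).symm ≪≫
    (Scheme.Modules.pullback i.hom).mapIso φ ≪≫ v⟩

end Groth.Agent.S0813
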