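import Groth.Statements.S0814
import Groth.Agent.Lib.FSecDual7.Connected

set_option autoImplicit false
universe u
open CategoryTheory
attribute [local instance] HasDerivedCategory.standard
open Formal2

namespace Groth.Agent.S0814

open AlgebraicGeometry in
/-- Let I ⊆ 𝔞 be ideals of a Noetherian ring A which is complete for the I-adic topology and admits a
dualizing complex, and let d bound the cohomological dimension of I. Assume that for every minimal
prime 𝔭 of A not containing I and every prime 𝔮 ⊇ 𝔭 + 𝔞 the dimension of (A/𝔭)_𝔮 exceeds d + 1, and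
that every nonempty open subset of Spec A containing V(I) ∖ V(𝔞) is connected. Then V(I) ∖ V(𝔞) is
empty or connected. -/
theorem result (A : Type u) [CommRing A] [IsNoetherianRing A]
    (I 𝔞 : Ideal A) (hI : I ≤ 𝔞) [IsAdicComplete I A] (hω : ∃ ω : Dual.D A, Dual.IsDualizing A ω)
    (d : ℕ) (hd : LocCoh.CdLE A I d)
    (h₂ : ∀ p ∈ minimalPrimes A, ¬ I ≤ p →
      ∀ (q : Ideal A) [q.IsPrime], p ≤ q → 𝔞 ≤ q → ((d + 1 : ℕ) : WithBot ℕ∞) < Formal2.dimBetween A p q)
    (h₃ : ∀ V : Set (PrimeSpectrum A), IsOpen V → V.Nonempty →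
      PrimeSpectrum.zeroLocus (I : Set A) \ PrimeSpectrum.zeroLocus (𝔞 : Set A) ⊆ V → _root_.IsConnected V) :
    _root_.IsPreconnected (PrimeSpectrum.zeroLocus (I : Set A) \ PrimeSpectrum.zeroLocus (𝔞 : Set A)) := by
  exact GrothLib.FSecDual7.preconnected_of_dim I 𝔞 hI hω d hd h₂ h₃

end Groth.Agent.S0814
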