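import Groth.Statements.S0820
import Groth.Agent.Lib.QCoh.Devissage
import Groth.Agent.Lib.QCoh.ClosedImmersion
import Groth.Prelude.Def_RedSub

set_option autoImplicit false
universe u
open Coherent

namespace Groth.Agent.S0820

open CategoryTheory AlgebraicGeometry in
/-- Let f : Y → X be finite and surjective with X locally Noetherian, and let i : Z → X be a closed
immersion from an integral scheme, ξ the image of the generic point of Z. Then some coherent
O_Y-module F has f_* F supported exactly on i(Z), with the stalk of f_* F at ξ killed by every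
element of 𝔪_{X,ξ}, the maximal ideal of O_{X,ξ}. -/
theorem result {Y X : Scheme.{u}} (f : Y ⟶ X) [IsFinite f]
    [Surjective f] [IsLocallyNoetherian X] (Z : Scheme.{u}) (i : Z ⟶ X) [IsClosedImmersion i] [IsIntegral Z] :
    ∃ F : Y.Modules, Coh.IsCoh F ∧ CohB1.support ((Coh.push f).obj F) = Set.range ⇑i ∧
      ∀ a ∈ IsLocalRing.maximalIdeal (X.presheaf.stalk (i (genericPoint Z))),
        ∀ m : ↑(((Coh.push f).obj F).presheaf.stalk (i (genericPoint Z))), a • m = 0 := by
  obtain ⟨y, hy⟩ := f.surjective (i (genericPoint Z))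
  have : IsLocallyNoetherian Y := LocallyOfFiniteType.isLocallyNoetherian f
  let T : TopologicalSpace.Closeds Y := ⟨closure {y}, isClosed_closure⟩
  let j := (Scheme.IdealSheafData.vanishingIdeal T).subschemeι
  have hrange : Set.range j = (T : Set Y) := GrothLib.RedSub.range_subschemeι_vanishingIdeal T
  have := GrothLib.RedSub.isReduced_subscheme_vanishingIdeal T
  let W := (Scheme.IdealSheafData.vanishingIdeal T).subscheme
  obtain ⟨w, hw⟩ : y ∈ Set.range j := hrange.symm ▸ subset_closure rfl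
  have hF : Coh.IsCoh (GrothLib.QCoh.pushUnit j) := GrothLib.QCoh.pushUnit_isCoh j
  have := hF.1
  let G := (Coh.push f).obj (GrothLib.QCoh.pushUnit j)
  have hG : Coh.IsCoh G := ⟨GrothLib.QCoh.isQuasicoherent_pushforward f _,
    GrothLib.QCoh.isFiniteType_pushforward f _ hF.2⟩
  have := hG.1
  have hZr : IsClosed (Set.range i) := i.isClosedEmbedding.isClosed_range
  have hcl : Set.range i = closure {i (genericPoint Z)} :=
    (GrothLib.QCoh.closure_singleton_eq_range i).symm
  have hk : ClSub.KilledByIdeal i.ker G := fun U a ha m ↦ by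
    rw [Scheme.Hom.ker_apply, RingHom.mem_ker] at ha
    have h0 : j.app (f ⁻¹ᵁ U.1) (f.app U.1 a) = 0 := by
      apply (basicOpen_eq_bot_iff _).1
      refine le_antisymm (fun v hv ↦ ?_) bot_le
      erw [← Scheme.preimage_basicOpen, ← Scheme.preimage_basicOpen] at hv
      obtain ⟨z, hz⟩ : f (j v) ∈ Set.range i := by
        refine (f.continuous.closure_preimage_subset (Set.range i)).trans
          (Set.preimage_mono hZr.closure_subset) (closure_mono ?_ (?_ : j v ∈ closure {y}))
        · exact Set.singleton_subset_iff.2 ⟨genericPoint Z, hy.symm⟩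
        · exact hrange.le ⟨v, rfl⟩
      have hzU : z ∈ i ⁻¹ᵁ X.basicOpen a := by
        show i z ∈ X.basicOpen a
        rw [hz]; exact hv
      rw [Scheme.preimage_basicOpen, ha, Scheme.basicOpen_zero] at hzU
      exact hzU
    change (j.app (f ⁻¹ᵁ U.1)).hom ((f.app U.1).hom a) •
      (show Γ(Coh.structureModule W, j ⁻¹ᵁ f ⁻¹ᵁ U.1) from m) = 0
    rw [show (j.app (f ⁻¹ᵁ U.1)).hom ((f.app U.1).hom a) = 0 from h0, zero_smul]
  have hs : i (genericPoint Z) ∈ CohB1.support G := by
    intro hsub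
    have htop : i (genericPoint Z) ∈ (⊤ : X.Opens) := trivial
    obtain ⟨V, hV, e, _, he⟩ := TopCat.Presheaf.germ_eq G.presheaf (i (genericPoint Z))
      htop htop (1 : Γ(W, j ⁻¹ᵁ f ⁻¹ᵁ ⊤)) 0 (hsub.elim _ _)
    rw [map_zero] at he
    have hmem : w ∈ j ⁻¹ᵁ f ⁻¹ᵁ V := by
      show f (j w) ∈ V
      rw [hw, hy]; exact hV
    have : Nonempty (j ⁻¹ᵁ f ⁻¹ᵁ V : W.Opens) := ⟨⟨w, hmem⟩⟩
    refine one_ne_zero (α := Γ(W, j ⁻¹ᵁ f ⁻¹ᵁ V)) ?_
    exact ((map_one (W.presheaf.map (homOfLE (fun v hv ↦ e.le hv : j ⁻¹ᵁ f ⁻¹ᵁ V ≤ j ⁻¹ᵁ f ⁻¹ᵁ ⊤)).op).hom).symm).trans he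
  refine ⟨_, hF, le_antisymm (GrothLib.QCoh.support_subset_range i G hk) ?_, fun a ha m ↦ ?_⟩
  · rw [hcl]
    exact (GrothLib.QCoh.isClosed_support G hG.2).closure_subset_iff.2 (Set.singleton_subset_iff.2 hs)
  · refine GrothLib.QCoh.smul_eq_zero_of_killed i G hk (genericPoint Z) a ?_ m
    by_contra hne
    exact (IsLocalRing.mem_maximalIdeal _).1 ha ((isUnit_map_iff (i.stalkMap (genericPoint Z)).hom a).1
      (IsUnit.mk0 (G₀ := Z.functionField) _ hne))


end Groth.Agent.S0820
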