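import Groth.Statements.S0822
import Groth.Agent.Lib.GenT7.LocFreeFinite

set_option autoImplicit false
universe u
open Formal2

namespace Groth.Agent.S0822

open CategoryTheory AlgebraicGeometry Opposite in
/-- In the form of its final sentence (A complete). Let A be a Noetherian ring, 𝔞 an ideal, f ∈ 𝔞 a
nonzerodivisor with A f-adically complete, and suppose H^1_𝔞(A/fA) and H^2_𝔞(A/fA) are finite
A-modules. Let U = Spec A ∖ V(𝔞) and let (F_n) be a coherent formal module on U for the ideal (f)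
(indices shifted by one) with each F_n finite locally free over O_U/f^nO_U. Then (F_n) is isomorphic
to the system (F/f^nF) of a coherent O_U-module F. -/
theorem result (A : Type u) [CommRing A] [IsNoetherianRing A]
    (𝔞 : Ideal A) (f : A) (hf : f ∈ 𝔞) (hnzd : f ∈ nonZeroDivisors A) [IsAdicComplete (Ideal.span {f}) A]
    (h₁ : Module.Finite A (LocCoh.H 𝔞 1 (A ⧸ Ideal.span {f})))
    (h₂ : Module.Finite A (LocCoh.H 𝔞 2 (A ⧸ Ideal.span {f})))
    (G : ℕᵒᵖ ⥤ (↑(LocCoh.puncturedOpen A 𝔞) : Scheme.{u}).Modules) (hG : Formal.IsCohFormal (Ideal.span {f}) G)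
    (hfree : ∀ n : ℕ, Formal2.IsFinLocFreeMod (Ideal.span {f}) (n + 1) (G.obj (op n))) :
    ∃ F : (↑(LocCoh.puncturedOpen A 𝔞) : Scheme.{u}).Modules, Coh.IsCoh F ∧
      Nonempty (Formal.completion (Ideal.span {f}) F ≅ G) := by
  have ht : IsSMulRegular A f := fun a b hab =>
    sub_eq_zero.1 ((mem_nonZeroDivisors_iff_left.1 hnzd) (a - b) (by
      rw [mul_sub, sub_eq_zero]; exact hab))
  have hk : ∀ a ∈ Ideal.span ({f} : Set A), Formal.smulMod A (GrothLib.GenT7.gob G 0) a = 0 :=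
    fun a ha => hG.2.1 0 a (by rwa [pow_one])
  obtain ⟨h0, h1⟩ := GrothLib.GenT7.finite_hh_of_locFree (A := A) 𝔞 (Ideal.span {f}) (GrothLib.GenT7.gob G 0) (hG.1 0) hk (hfree 0) h₁ h₂
  exact GrothLib.GenT7.exists_module_completion (I := 𝔞) f G hG
    (GrothLib.GenT7.reg_of_locFree f (GrothLib.GenT7.toStalk_regular 𝔞 f ht) G hG hfree) h0 h1

end Groth.Agent.S0822
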