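import Groth.Statements.S0823
import Groth.Agent.Lib.FFun7.Pro
import Groth.Agent.Lib.AdicLim.Tower
-- import your own Groth.Agent.* helpers here

set_option autoImplicit false
universe u
open Formal2

namespace Groth.Agent.S0823

open CategoryTheory AlgebraicGeometry in
/-- The short exact sequences in positive degrees (the degree-0 statement H^0(X, F)^ ≅ lim H^0(X,
F/I^nF) and the vanishing of the R^1 lim term for proper X are not restated). Let A be a Noetherian
ring, I an ideal, X a Noetherian scheme over Spec A and F a coherent O_X-module such that every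
H^p(X, F) is a finite A-module. Then for every p there is a short exact sequence 0 → R^1 lim_n
H^p(X, F/I^nF) → H^(p+1)(X, F)^ → lim_n H^(p+1)(X, F/I^nF) → 0 of abelian groups, where ^ is I-adic
completion; the second map is the one induced by the maps H^(p+1)(X, F) → H^(p+1)(X, F/I^(n+1)F),
and the first map is only asserted to exist. -/
theorem result (A : Type u) [CommRing A] [IsNoetherianRing A] (I : Ideal A)
    (X : Scheme.{u}) [X.Over (Spec (CommRingCat.of A))] [IsNoetherian X] (F : X.Modules) (hF : Coh.IsCoh F)
    (hfin : ∀ p : ℕ, Module.Finite A (Coh.HH X F p)) (p : ℕ) :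
    ∃ (α : Formal2.limOne (fun n => Formal.HHmodPow I F p n) (fun n => Formal.HHmodPowTrans I F p n) →+
        AdicCompletion I (Coh.HH X F (p + 1)))
      (β : AdicCompletion I (Coh.HH X F (p + 1)) →+ Formal.HHlim I F (p + 1)),
      Function.Injective α ∧ Function.Surjective β ∧ α.range = β.ker ∧
      ∀ (x : AdicCompletion I (Coh.HH X F (p + 1))) (n : ℕ) (h : Coh.HH X F (p + 1)),
        AdicCompletion.eval I (Coh.HH X F (p + 1)) (n + 1) x = Submodule.Quotient.mk h →
          (β x : ∀ n, Formal.HHmodPow I F (p + 1) n) n = Formal.toHHmodPow I F (p + 1) n h := by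
  classical
  open GrothLib.FFun7 GrothLib.FormalFun GrothLib.Cohom in
  exact by
    have hsm := fun q => small (A := A) hF I hfin q
    let t := fun n => Formal.HHmodPowTrans I F p n
    have htow : ∀ a n (v : Formal.HHmodPow I F p n), v ∈ GrothLib.AdicLim.towerImage t a n →
        ∃ z : Coh.HH X (Formal.modPow I (n + 1 + a) F) p,
          hhMap A (Formal2.modPowLE I (Nat.le_add_right (n + 1) a) F) p z = v := by
      intro a
      induction a with
      | zero =>
        intro n v _
        refine ⟨v, ?_⟩
        have : Formal2.modPowLE I (Nat.le_add_right (n + 1) 0) F = 𝟙 _ := by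
          have := epi_modPowπ I (n + 1) F
          rw [← cancel_epi (Formal.modPowπ I (n + 1) F), Category.comp_id]
          exact Formal2.modPowπ_modPowLE I _ F
        rw [this, hhMap_id]
      | succ a ih =>
        rintro n v ⟨w, hw, rfl⟩
        obtain ⟨z, hz⟩ := ih (n + 1) w hw
        subst hz
        refine ⟨hhMap A (Formal2.modPowLE I (show n + 1 + 1 + a ≥ n + 1 + (a + 1) by omega) F) p z, ?_⟩
        rw [hhMap_comp, modPowLE_comp]
        show _ = hhMap A (Formal.modPowTrans I (n + 1) F) p (hhMap A _ p z)
        rw [hhMap_comp, ← modPowLE_succ, modPowLE_comp]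
    have hsurj : Function.Surjective (Formal2.towerDiff _ t) := by
      refine GrothLib.AdicLim.towerDiff_surjective t (fun n => (Formal.toHHmodPow I F p n).range)
        (fun n => ?_) fun n => ?_
      · obtain ⟨m, hm, hm'⟩ := (hsm p).2 (n + 1)
        refine ⟨m - (n + 1), fun v hv => ?_⟩
        obtain ⟨z, hz⟩ := htow _ n v hv
        obtain ⟨x, hx⟩ := hm' (hhMap A (Formal2.modPowLE I (show m ≤ n + 1 + (m - (n + 1)) by omega) F) p z)
        rw [hhMap_comp, modPowLE_comp, hz] at hx
        exact ⟨x, hx⟩
      · rintro _ ⟨x, rfl⟩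
        exact ⟨Formal.toHHmodPow I F p (n + 1) x, ⟨x, rfl⟩, (Formal.toHHlim I F p x).2 n⟩
    have : Subsingleton (Formal2.limOne (fun n => Formal.HHmodPow I F p n) (fun n => Formal.HHmodPowTrans I F p n)) := by
      refine ⟨fun a b => ?_⟩
      obtain ⟨a, rfl⟩ := QuotientAddGroup.mk_surjective a
      obtain ⟨b, rfl⟩ := QuotientAddGroup.mk_surjective b
      exact QuotientAddGroup.eq.2 (hsurj _)
    let P := p + 1
    have hker : ∀ n, (I ^ n • ⊤ : Submodule A (Coh.HH X F P)) ≤
        LinearMap.ker (hhMap A (Formal.modPowπ I n F) P) :=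
      fun n x hx => hhMap_π_eq_zero_of_mem I n P hx
    let β₀ : ∀ n, AdicCompletion I (Coh.HH X F P) →ₗ[A] Coh.HH X (Formal.modPow I (n + 1) F) P :=
      fun n => (Submodule.liftQ _ _ (hker (n + 1))).comp (AdicCompletion.eval I (Coh.HH X F P) (n + 1))
    have hβ : ∀ (a : AdicCompletion.AdicCauchySequence I (Coh.HH X F P)) n,
        β₀ n (AdicCompletion.mk I _ a) = hhMap A (Formal.modPowπ I (n + 1) F) P (a (n + 1)) := fun a n => rfl
    have hcompat : ∀ x n, Formal.HHmodPowTrans I F P n (β₀ (n + 1) x) = β₀ n x := by
      intro x n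
      induction x using AdicCompletion.induction_on with
      | _ a =>
        rw [hβ, hβ]
        show hhMap A (Formal.modPowTrans I (n + 1) F) P (hhMap A _ P _) = _
        rw [hhMap_comp, Formal.modPowπ_trans, ← sub_eq_zero, ← map_sub]
        exact hhMap_π_eq_zero_of_mem I (n + 1) P (SModEq.sub_mem.1 ((a.2 (Nat.le_succ (n + 1))).symm))
    let β : AdicCompletion I (Coh.HH X F P) →+ Formal.HHlim I F P :=
      { toFun := fun x => ⟨fun n => β₀ n x, hcompat x⟩
        map_zero' := Subtype.ext (funext fun n => map_zero _)
        map_add' := fun x y => Subtype.ext (funext fun n => map_add _ x y) }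
    have hinj : Function.Injective β := by
      refine (injective_iff_map_eq_zero β).2 fun x hx => ?_
      induction x using AdicCompletion.induction_on with
      | _ a =>
        refine AdicCompletion.ext fun n => ?_
        obtain ⟨m, hm⟩ := (hsm P).1 n
        have h1 : hhMap A (Formal.modPowπ I (max n m + 1) F) P (a (max n m + 1)) = 0 :=
          (hβ a _).symm.trans (congrFun (congrArg Subtype.val hx) (max n m))
        have h2 : a (max n m + 1) ∈ (I ^ n • ⊤ : Submodule A (Coh.HH X F P)) := hm _ (by
          rw [← hhMap_π_LE I (show m ≤ max n m + 1 by omega), h1, map_zero])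
        rw [AdicCompletion.mk_apply_coe, Submodule.mkQ_apply, AdicCompletion.val_zero,
          ← AdicCompletion.AdicCauchySequence.mk_eq_mk (show n ≤ max n m + 1 by omega)]
        simpa using h2
    have hsurjβ : Function.Surjective β := by
      rintro ⟨z, hz⟩
      obtain ⟨v, hvz, hv⟩ := exists_extend_family (A := A) z hz
      choose k hk using (hsm P).1
      let K : ℕ → ℕ := fun n => (Finset.range (n + 1)).sup k + n
      have hlift : ∀ n, ∃ h, hhMap A (Formal.modPowπ I n F) P h = v n := fun n => by
        obtain ⟨m, hm, hm'⟩ := (hsm P).2 n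
        obtain ⟨h, hh⟩ := hm' (v m)
        exact ⟨h, hh.trans (hv n m hm)⟩
      choose h hh using hlift
      have hK : ∀ n, k n ≤ K n := fun n =>
        (Finset.le_sup (f := k) (Finset.self_mem_range_succ n)).trans (Nat.le_add_right _ _)
      have hKmono : ∀ n, K n ≤ K (n + 1) := fun n =>
        Nat.add_le_add (Finset.sup_mono (Finset.range_subset_range.2 (by omega))) (Nat.le_succ n)
      let a : AdicCompletion.AdicCauchySequence I (Coh.HH X F P) :=
        AdicCompletion.AdicCauchySequence.mk I _ (fun n => h (K n)) fun n => SModEq.sub_mem.2 (hk n _ (by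
          rw [← hhMap_π_LE I (hK n), map_sub, hh, ← hhMap_π_LE I (hKmono n) P (h (K (n + 1))), hh,
            hv _ _ (hKmono n), sub_self, map_zero]))
      refine ⟨AdicCompletion.mk I _ a, Subtype.ext (funext fun n => ?_)⟩
      show β₀ n (AdicCompletion.mk I _ a) = z n
      rw [hβ, ← hvz n]
      show hhMap A _ P (h (K (n + 1))) = _
      rw [← hhMap_π_LE I (show n + 1 ≤ K (n + 1) from Nat.le_add_left _ _), hh, hv]
    refine ⟨0, β, fun a b _ => Subsingleton.elim a b, hsurjβ, ?_, fun x n h hx => ?_⟩
    · rw [AddMonoidHom.range_zero, ((AddMonoidHom.ker_eq_bot_iff β).2 hinj)]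
    · show Submodule.liftQ _ _ (hker (n + 1)) (AdicCompletion.eval I _ (n + 1) x) = _
      rw [hx]
      rfl

end Groth.Agent.S0823
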