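import Groth.Statements.S0828
import Groth.Agent.Lib.HB26.MCM
import Groth.Agent.Lib.Depth.CM
import Groth.Agent.Lib.CMFree.Regular
import Groth.Agent.Lib.Ref1.Frame
import Groth.Agent.Lib.Euler.Rank
import Groth.Agent.Lib.WeakAss.Basic
import Mathlib.AlgebraicGeometry.Stalk

set_option autoImplicit false
universe u
open Coherent

namespace Groth.Agent.S0828

open CategoryTheory AlgebraicGeometry in
/-- Let X be a regular scheme (locally Noetherian with regular local rings) and F a coherent O_X-module.
Then F has support all of X and Cohen–Macaulay stalks if and only if F is finite locally free of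
positive rank near every point. -/
theorem result (X : Scheme.{u}) [IsLocallyNoetherian X]
    (hreg : ∀ x : X, IsRegularLocalRing (X.presheaf.stalk x)) (F : X.Modules) (hF : Coh.IsCoh F) :
    (CohB1.support F = Set.univ ∧
        ∀ x : X, LocCoh.IsCohenMacaulayModule (X.presheaf.stalk x) ↑(F.presheaf.stalk x)) ↔
      ∀ x : X, ∃ (U : X.Opens) (n : ℕ), x ∈ U ∧ 0 < n ∧
        Nonempty (F.restrict U.ι ≅ FlatMod.freeMod (↑U) n) := by
  classical
  haveI := hF.1
  have hrel := GrothLib.HomSh.hasRel_of_isCoh hF
  have hdimR : ∀ x : X, ∃ d : ℕ, ringKrullDim (X.presheaf.stalk x) = d := fun x => by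
    haveI := hreg x
    exact ⟨_, (IsRegularLocalRing.spanFinrank_maximalIdeal (R := X.presheaf.stalk x)).symm⟩
  constructor
  · rintro ⟨hsupp, hCM⟩
    have hfree : ∀ x : X, Module.Free (X.presheaf.stalk x) (F.presheaf.stalk x) := by
      intro x
      haveI := hreg x
      haveI := GrothLib.CMFree.isDomain_of_isRegularLocalRing (X.presheaf.stalk x)
      haveI : Module.Finite (X.presheaf.stalk x) (F.presheaf.stalk x) := GrothLib.Euler.stalk_finite hF x
      obtain ⟨d, hd⟩ := hdimR x
      have hann : Module.annihilator (X.presheaf.stalk x) (F.presheaf.stalk x) = ⊥ := by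
        rw [eq_bot_iff]
        intro a ha
        rw [Ideal.mem_bot]
        by_contra ha0
        obtain ⟨U₀, hxU₀, a₀, ha₀⟩ := TopCat.Presheaf.exists_germ_eq X.presheaf a
        obtain ⟨U, hU, hxU, hle⟩ := TopologicalSpace.Opens.isBasis_iff_nbhd.1 X.isBasis_affineOpens hxU₀
        let b : Γ(X, U) := X.presheaf.map (homOfLE hle).op a₀
        have hb : X.presheaf.germ U x hxU b = a := by
          rw [← ha₀]; exact TopCat.Presheaf.germ_res_apply _ _ _ _ _
        let g := X.fromSpecStalk x
        let y : X := g ⟨⊥, Ideal.isPrime_bot⟩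
        have hyx : ∀ (W : X.Opens), x ∈ W → y ∈ W := fun W hW =>
          ((X.range_fromSpecStalk (x := x)).le ⟨_, rfl⟩).mem_open W.isOpen hW
        have hyb : y ∈ X.basicOpen b := by
          show (⟨⊥, Ideal.isPrime_bot⟩ : PrimeSpectrum (X.presheaf.stalk x)) ∈ g ⁻¹ᵁ X.basicOpen b
          rw [Scheme.preimage_basicOpen]
          have e : g.app U b = (Spec (X.presheaf.stalk x)).presheaf.map (homOfLE le_top).op
              ((Scheme.ΓSpecIso (X.presheaf.stalk x)).inv a) := by
            show (X.fromSpecStalk x).app U b = _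
            rw [Scheme.fromSpecStalk_app hxU, ← hb]
            rfl
          rw [e, Scheme.basicOpen_res, basicOpen_eq_of_affine]
          refine ⟨hyx U hxU, ?_⟩
          show a ∉ (⊥ : Ideal (X.presheaf.stalk x))
          simpa using ha0
        have hsub : ¬ Subsingleton (F.presheaf.stalk y) := hsupp.ge (Set.mem_univ y)
        apply hsub
        have hyU : y ∈ U := hyx U hxU
        have hu : IsUnit (X.presheaf.germ U y hyU b) := (X.mem_basicOpen b y hyU).1 hyb
        refine subsingleton_of_forall_eq 0 fun v => ?_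
        obtain ⟨c, z, hc, hz⟩ := GrothLib.WeakAss.exists_smul_eq_germ hU hyU v
        have hbz : F.presheaf.germ U x hxU (b • z) = 0 := by
          rw [GrothLib.WeakAss.germ_smul, hb]
          exact Module.mem_annihilator.1 ha _
        obtain ⟨W, hxW, i₁, i₂, heq⟩ := TopCat.Presheaf.germ_eq F.presheaf x hxU hxU _ 0 (hbz.trans (map_zero _).symm)
        rw [map_zero] at heq
        have h1 : F.presheaf.germ U y hyU (b • z) = 0 := by
          rw [← TopCat.Presheaf.germ_res_apply F.presheaf i₁ y (hyx W hxW), heq, map_zero]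
        rw [GrothLib.WeakAss.germ_smul] at h1
        have h2 := hu.smul_eq_zero.1 h1
        rw [← hz] at h2
        exact (GrothLib.WeakAss.notMem_primeAt_iff.1 hc).choose_spec.smul_eq_zero.1 h2
      have h := hCM x
      have hs : Module.supportDim (X.presheaf.stalk x) (F.presheaf.stalk x) = ringKrullDim (X.presheaf.stalk x) := by
        rw [Module.supportDim_eq_ringKrullDim_quotient_annihilator, hann]
        exact RingEquiv.ringKrullDim (RingEquiv.quotientBot _)
      unfold LocCoh.IsCohenMacaulayModule at h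
      rw [hs, hd] at h
      exact GrothLib.HB26.free_of_depth_ge_dim _ _ d hd (WithBot.coe_inj.1 h).le
    intro x
    obtain ⟨U, n, hxU, ⟨ψ⟩⟩ := (GrothLib.Ref1.isFinLocFree_iff_free hrel).2 hfree x
    refine ⟨U, n, hxU, Nat.pos_of_ne_zero fun h0 => ?_, ⟨ψ⟩⟩
    subst h0
    obtain ⟨e, he⟩ := GrothLib.FinCov.exists_frame_of_iso ψ
    have hsub : ¬ Subsingleton (F.presheaf.stalk x) := hsupp.ge (Set.mem_univ x)
    exact hsub (LinearEquiv.ofBijective _ (GrothLib.Ref1.stalk_of_isFrame he x (by
      rw [Scheme.Opens.ι_image_top]; exact hxU))).toEquiv.symm.subsingleton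
  · intro h
    have hloc : FlatMod.IsFinLocFree F := fun x => by
      obtain ⟨U, n, hxU, -, hψ⟩ := h x
      exact ⟨U, n, hxU, hψ⟩
    have hfree := (GrothLib.Ref1.isFinLocFree_iff_free hrel).1 hloc
    have hnt : ∀ x : X, Nontrivial (F.presheaf.stalk x) := fun x => by
      obtain ⟨U, n, hxU, hn, ⟨ψ⟩⟩ := h x
      obtain ⟨e, he⟩ := GrothLib.FinCov.exists_frame_of_iso ψ
      haveI : Nonempty (Fin n) := ⟨⟨0, hn⟩⟩
      exact (LinearEquiv.ofBijective _ (GrothLib.Ref1.stalk_of_isFrame he x (by
        rw [Scheme.Opens.ι_image_top]; exact hxU))).toEquiv.symm.nontrivial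
    refine ⟨Set.eq_univ_of_forall fun x => (not_subsingleton_iff_nontrivial.2 (hnt x)), fun x => ?_⟩
    haveI := hreg x
    haveI := hfree x
    haveI := hnt x
    haveI : Module.Finite (X.presheaf.stalk x) (F.presheaf.stalk x) := GrothLib.Euler.stalk_finite hF x
    obtain ⟨d, hd⟩ := hdimR x
    refine le_antisymm ?_ (GrothLib.Depth.depth_le_supportDim _ _)
    refine ((Module.supportDim_le_ringKrullDim _ _).trans hd.le).trans ?_
    exact WithBot.coe_le_coe.2 (GrothLib.HB26.le_idealDepth_free _ _ d hd)

end Groth.Agent.S0828
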