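import Groth.Statements.S0834
import Groth.Agent.Lib.FormalExist7.Kernel


set_option autoImplicit false
universe u
open Formal2

namespace Groth.Agent.S0834

open CategoryTheory CategoryTheory.Limits AlgebraicGeometry in
/-- Let A be a ring, I ⊆ A an ideal and X a Noetherian scheme over Spec A. Then the full subcategory of
inverse systems of 𝒪_X-modules formed by the coherent formal modules for the ideal sheaf I·𝒪_X has
kernels. (This is the kernel half of the statement that this category is abelian; cokernels are
componentwise, and abelianness itself is not asserted here.) -/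
theorem result (A : Type u) [CommRing A] (I : Ideal A) (X : Scheme.{u})
    [X.Over (Spec (CommRingCat.of A))] [IsNoetherian X] : HasKernels (Formal2.CohFormalCat I X) := by
  refine ⟨fun {G H} φ => ?_⟩
  obtain ⟨K, hK, ι, hι, hu, -⟩ := GrothLib.FormalExist7.exists_formal_kernel G.property H.property φ.hom
  choose χ hχ hun using fun (T : Formal2.CohFormalCat I X) (ψ : T ⟶ G) (h : ψ.hom ≫ φ.hom = 0) =>
    hu T.obj T.property ψ.hom h
  let K' : Formal2.CohFormalCat I X := ⟨K, hK⟩
  let ι' : K' ⟶ G := ObjectProperty.homMk ι
  exact ⟨⟨⟨KernelFork.ofι (X := G) ι' (ObjectProperty.hom_ext _ hι),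
    KernelFork.IsLimit.ofι _ _ (fun {T} ψ h => ObjectProperty.homMk (χ T ψ (congrArg InducedCategory.Hom.hom h)))
      (fun {T} ψ h => ObjectProperty.hom_ext _ (hχ T ψ _))
      (fun {T} ψ h m hm => ObjectProperty.hom_ext _ (hun T ψ _ _ (congrArg InducedCategory.Hom.hom hm)))⟩⟩⟩

end Groth.Agent.S0834
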