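import Groth.Statements.S0836
import Groth.Agent.Lib.Algz7.IsoOverFlat
import Groth.Agent.Lib.Algz7.UnitIso

set_option autoImplicit false
universe u
open Formal2

namespace Groth.Agent.S0836

open CategoryTheory CategoryTheory.Limits AlgebraicGeometry in
/-- For the ideal sheaf generated by an ideal I of a base ring A (so Z = X ×_A Spec(A/I)). Let f : X' →
X be a flat morphism of Noetherian schemes over Spec A such that the induced morphism X' ×_A
Spec(A/I) → X ×_A Spec(A/I) is an isomorphism. Then componentwise pullback along f is fully faithful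
and essentially surjective from coherent formal modules for I on X to those on X'. -/
theorem result (A : Type u) [CommRing A] (I : Ideal A) (X X' : Scheme.{u})
    [X.Over (Spec (CommRingCat.of A))] [X'.Over (Spec (CommRingCat.of A))] [IsNoetherian X] [IsNoetherian X']
    (f : X' ⟶ X) [Flat f] (hf : f ≫ (X ↘ Spec (CommRingCat.of A)) = X' ↘ Spec (CommRingCat.of A))
    (hZ : IsIso (pullback.map (X' ↘ Spec (CommRingCat.of A)) (CohB1.specQuot I 0)
      (X ↘ Spec (CommRingCat.of A)) (CohB1.specQuot I 0) f (𝟙 _) (𝟙 _)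
      ((Category.comp_id _).trans hf.symm) ((Category.comp_id _).trans (Category.id_comp _).symm))) :
    (∀ G₁ G₂ : ℕᵒᵖ ⥤ X.Modules, Formal.IsCohFormal I G₁ → Formal.IsCohFormal I G₂ →
      Function.Bijective (fun φ : G₁ ⟶ G₂ => Functor.whiskerRight φ (Scheme.Modules.pullback f))) ∧
    (∀ G' : ℕᵒᵖ ⥤ X'.Modules, Formal.IsCohFormal I G' →
      ∃ G : ℕᵒᵖ ⥤ X.Modules, Formal.IsCohFormal I G ∧ Nonempty (G ⋙ Scheme.Modules.pullback f ≅ G')) := by
  let sX := X ↘ Spec (CommRingCat.of A)
  let q := CohB1.specQuot I 0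
  let m := pullback.map (X' ↘ Spec (CommRingCat.of A)) q sX q f (𝟙 _) (𝟙 _)
    ((Category.comp_id _).trans hf.symm) ((Category.comp_id _).trans (Category.id_comp _).symm)
  have hsq : IsPullback (pullback.fst (X' ↘ Spec (CommRingCat.of A)) q) m f (CohB1.thickι sX I 0) := by
    refine IsPullback.of_bot ?_ (pullback.lift_fst _ _ _).symm (IsPullback.of_hasPullback sX q)
    have e : m ≫ pullback.snd sX q = pullback.snd (X' ↘ Spec (CommRingCat.of A)) q :=
      (pullback.lift_snd _ _ _).trans (Category.comp_id _)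
    rw [e, hf]
    exact IsPullback.of_hasPullback _ _
  have h0 : IsIso (pullback.snd f (CohB1.thickι sX I 0)) := by
    haveI : IsIso (hsq.isoPullback.hom ≫ pullback.snd f (CohB1.thickι sX I 0)) := by
      have e : hsq.isoPullback.hom ≫ pullback.snd f (CohB1.thickι sX I 0) = m := hsq.isoPullback_hom_snd
      exact e.symm ▸ hZ
    exact IsIso.of_isIso_comp_left hsq.isoPullback.hom _
  have hg : ∀ n : ℕ, GrothLib.Algz7.IsIsoOver (I ^ (n + 1)) f :=
    fun n => GrothLib.Algz7.isIsoOver_of_flat f I h0 n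
  let adj := Scheme.Modules.pullbackPushforwardAdjunction f
  have hu : ∀ {K : ℕᵒᵖ ⥤ X.Modules}, Formal.IsCohFormal I K → ∀ k, IsIso (adj.unit.app (K.obj k)) := fun {K} hK k => by
    haveI := (hK.1 k.unop).1
    exact GrothLib.Algz7.isIso_unit_of_killedBy (hg k.unop) (K.obj k) (hK.2.1 k.unop)
  refine ⟨fun G₁ G₂ hG₁ hG₂ => ⟨fun φ₁ φ₂ e => ?_, fun ψ => ?_⟩, fun G' hG' => ?_⟩
  · ext k : 2
    haveI := hu hG₂ k
    have e' : (Scheme.Modules.pullback f).map (φ₁.app k) = (Scheme.Modules.pullback f).map (φ₂.app k) :=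
      congrArg (fun θ => θ.app k) e
    have n₁ := adj.unit.naturality (φ₁.app k)
    have n₂ := adj.unit.naturality (φ₂.app k)
    simp only [Functor.id_obj, Functor.id_map, Functor.comp_obj, Functor.comp_map] at n₁ n₂
    rw [← cancel_mono (adj.unit.app (G₂.obj k)), n₁, n₂, e']
  · haveI : ∀ k, IsIso (adj.unit.app (G₂.obj k)) := hu hG₂
    let α : G₁ ⟶ G₂ :=
      { app := fun k => adj.homEquiv _ _ (ψ.app k) ≫ inv (adj.unit.app (G₂.obj k))
        naturality := fun k l t => by
          rw [← cancel_mono (adj.unit.app (G₂.obj l))]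
          simp only [Category.assoc, IsIso.inv_hom_id, Category.comp_id]
          have n := adj.unit.naturality (G₂.map t)
          simp only [Functor.id_obj, Functor.id_map, Functor.comp_obj, Functor.comp_map] at n
          rw [n, IsIso.inv_hom_id_assoc, ← adj.homEquiv_naturality_left, ← adj.homEquiv_naturality_right]
          exact congrArg _ (ψ.naturality t) }
    refine ⟨α, ?_⟩
    ext k : 2
    refine (adj.homEquiv _ _).injective ?_
    show adj.homEquiv _ _ ((Scheme.Modules.pullback f).map (α.app k)) = adj.homEquiv _ _ (ψ.app k)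
    have n := adj.unit.naturality (α.app k)
    simp only [Functor.id_obj, Functor.id_map, Functor.comp_obj, Functor.comp_map] at n
    refine (adj.homEquiv_unit _ _ _).trans (n.symm.trans ?_)
    show (adj.homEquiv _ _ (ψ.app k) ≫ inv (adj.unit.app (G₂.obj k))) ≫ adj.unit.app (G₂.obj k) = _
    rw [Category.assoc, IsIso.inv_hom_id, Category.comp_id]
  · obtain ⟨h₁, h₂⟩ := GrothLib.Algz7.exists_descent hf hg hG'
    exact ⟨_, h₁, h₂⟩

end Groth.Agent.S0836
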