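import Groth.Statements.S0837
import Groth.Agent.Lib.FormalFn.Main

set_option autoImplicit false
universe u
open Coherent

namespace Groth.Agent.S0837

open CategoryTheory CategoryTheory.Limits AlgebraicGeometry in
/-- Let A be a Noetherian ring, I an ideal, X proper over Spec A and F a coherent O_X-module. For every
p there is c ≥ 0 such that for all n ≥ c the kernel of H^p(X, I^nF) → H^p(X, F) equals the kernel of
H^p(X, I^nF) → H^p(X, I^(n−c)F). (Here I^nF ⊆ F is the kernel of F → F/I^nF.) -/
theorem result (A : Type u) [CommRing A] [IsNoetherianRing A]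
    (I : Ideal A) (X : Scheme.{u}) [X.Over (Spec (CommRingCat.of A))] [IsProper (X ↘ Spec (CommRingCat.of A))]
    (F : X.Modules) (hF : Coh.IsCoh F) (p : ℕ) :
    ∃ c : ℕ, ∀ (n : ℕ) (h : c ≤ n),
      (Sheaf.H.map ((SheafOfModules.toSheaf _).map (Formal2.idealPowModι I n F)) p).ker =
        (Sheaf.H.map ((SheafOfModules.toSheaf _).map (Formal2.idealPowIncl I (Nat.sub_le n c) F)) p).ker := by
  exact GrothLib.FormalFn.ideal_powers_kernel_stabilizes I F hF p

end Groth.Agent.S0837
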