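import Groth.Statements.S0839
import Groth.Agent.Lib.QASec7.Main

set_option autoImplicit false
universe u
open Formal2

namespace Groth.Agent.S0839

open CategoryTheory AlgebraicGeometry in
/-- Implication (1) ⇒ (3), for the closed subscheme cut out by an ideal I of a base ring A (so the n-th
infinitesimal neighbourhood Y_n is cut out by I^n and sections over Y_n of E|_{Y_n} are global
sections of E/I^nE). Let X be a Noetherian quasi-affine scheme over Spec A such that H^0(X, O_X) →
lim_n H^0(X, O_X/I^nO_X) is bijective. Then H^0(X, E) → lim_n H^0(X, E/I^nE) is bijective for every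
finite locally free O_X-module E. -/
theorem result (A : Type u) [CommRing A] (I : Ideal A) (X : Scheme.{u})
    [X.Over (Spec (CommRingCat.of A))] [IsNoetherian X] [X.IsQuasiAffine]
    (h : Function.Bijective (Formal.toHHlim I (Coh.structureModule X) 0))
    (E : X.Modules) (hE : FlatMod.IsFinLocFree E) : Function.Bijective (Formal.toHHlim I E 0) := by
  refine GrothLib.FormalFun.toHHlim_bijective (GrothLib.QASec7.bij_of_isFinLocFree I ⟨fun x hx => ?_, fun z hz => ?_⟩ hE)
  · exact h.1 ((Subtype.ext (funext fun n => hx n)).trans (map_zero _).symm)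
  · obtain ⟨x, hx⟩ := h.2 ⟨z, hz⟩
    exact ⟨x, fun n => congrFun (congrArg Subtype.val hx) n⟩

end Groth.Agent.S0839
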