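import Groth.Statements.S0840
import Groth.Agent.Lib.FormalFun.FullFaithful
import Groth.Agent.Lib.HomSh.QCoh
import Groth.Agent.Lib.Ref1.Frame
import Groth.Agent.Lib.Euler.Coh
import Groth.Agent.Lib.QCoh.AvoidSub

set_option autoImplicit false
universe u
open Formal2

namespace Groth.Agent.S0840

open CategoryTheory AlgebraicGeometry Opposite in
/-- Let A be a ring, I ⊆ A an ideal and X a Noetherian scheme over Spec A such that for every finite
locally free O_X-module E the canonical map H^0(X, E) → lim_n H^0(X, E/I^(n+1)E) is bijective. Then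
for all finite locally free O_X-modules E and E', every map of inverse systems ψ : (E/I^(n+1)E)_n →
(E'/I^(n+1)E')_n is induced by exactly one map φ : E → E', in the sense that for every n the
projection E → E/I^(n+1)E followed by ψ_n equals φ followed by the projection E' → E'/I^(n+1)E'.
(The published statement also asserts the converse implication, which is not stated here.) -/
theorem result (A : Type u) [CommRing A] (I : Ideal A) (X : Scheme.{u})
    [X.Over (Spec (CommRingCat.of A))] [IsNoetherian X]
    (h : ∀ E : X.Modules, FlatMod.IsFinLocFree E → Function.Bijective (Formal.toHHlim I E 0))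
    (E E' : X.Modules) (hE : FlatMod.IsFinLocFree E) (hE' : FlatMod.IsFinLocFree E')
    (ψ : Formal.completion I E ⟶ Formal.completion I E') :
    ∃! φ : E ⟶ E', ∀ n : ℕ, Formal.modPowπ I (n + 1) E ≫ ψ.app (op n) = φ ≫ Formal.modPowπ I (n + 1) E' := by
  have hEc := GrothLib.Euler.isCoh_of_isFinLocFree hE
  have hE'c := GrothLib.Euler.isCoh_of_isFinLocFree hE'
  have hrel := GrothLib.HomSh.hasRel_of_isCoh hEc
  have hH := GrothLib.HomSh.isCoh_homSh hrel hE'c
  have hfree : FlatMod.IsFinLocFree (RefHull.homSh E E') := by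
    refine (GrothLib.Ref1.isFinLocFree_iff_free (GrothLib.HomSh.hasRel_of_isCoh hH)).2 fun x => ?_
    haveI := (GrothLib.Ref1.isFinLocFree_iff_free hrel).1 hE x
    haveI := (GrothLib.Ref1.isFinLocFree_iff_free (GrothLib.HomSh.hasRel_of_isCoh hE'c)).1 hE' x
    haveI := GrothLib.QCoh.stalk_finite E hEc x
    haveI := GrothLib.QCoh.stalk_finite E' hE'c x
    exact Module.Free.of_equiv (LinearEquiv.ofBijective _
      (GrothLib.HomSh.HasRel.evalStalk_bijective hrel E' x)).symm
  obtain ⟨hi, hs⟩ := h _ hfree
  refine GrothLib.FormalFun.existsUnique_hom I hEc hE'c ⟨fun x hx => hi ?_, fun z hz => ?_⟩ ψ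
  · rw [map_zero]
    exact Subtype.ext (funext hx)
  · obtain ⟨x, hx⟩ := hs ⟨z, hz⟩
    exact ⟨x, fun n => congrFun (congrArg Subtype.val hx) n⟩

end Groth.Agent.S0840
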