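import Groth.Statements.S0841
import Groth.Agent.Lib.PuncSys7.Main

set_option autoImplicit false
universe u
open Formal2

namespace Groth.Agent.S0841

open CategoryTheory AlgebraicGeometry Opposite in
/-- Let A be a Noetherian ring, I ⊆ 𝔞 ideals of A and U = Spec A ∖ V(𝔞). For every coherent formal
module (F_n) for I on U there are finite A-modules M_n with I^(n+1) M_n = 0 and A-linear maps
M_{n+1} → M_n for which each induced map M_{n+1}/I^(n+1)M_{n+1} → M_n has 𝔞-power-torsion kernel and
cokernel (every element is killed by some power of 𝔞), together with an isomorphism between (F_n)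
and the inverse system of restrictions to U of the quasi-coherent modules M̃_n on Spec A. Indexing:
position n here corresponds to index n + 1 of the published statement, so that M_n is killed by
I^(n+1). Only this direction (every coherent formal module arises in this manner) is stated; the
converse, that every such system of modules yields a coherent formal module, is not stated here. -/
theorem result (A : Type u) [CommRing A] [IsNoetherianRing A]
    (I 𝔞 : Ideal A) (hI : I ≤ 𝔞) (F : ℕᵒᵖ ⥤ (↑(LocCoh.puncturedOpen A 𝔞) : Scheme.{u}).Modules)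
    (hF : Formal.IsCohFormal I F) :
    ∃ (M : ℕ → Type u) (_ : ∀ n, AddCommGroup (M n)) (_ : ∀ n, Module A (M n)) (g : ∀ n, M (n + 1) →ₗ[A] M n),
      (∀ n, Module.Finite A (M n)) ∧ (∀ n, I ^ (n + 1) • (⊤ : Submodule A (M n)) = ⊥) ∧
      (∀ n (x : M (n + 1)), g n x = 0 → ∃ m : ℕ, ∀ a ∈ 𝔞 ^ m, a • x ∈ I ^ (n + 1) • (⊤ : Submodule A (M (n + 1)))) ∧
      (∀ n (y : M n), ∃ m : ℕ, ∀ a ∈ 𝔞 ^ m, a • y ∈ LinearMap.range (g n)) ∧
      Nonempty (F ≅ Functor.ofOpSequence
        (X := fun n => (Scheme.Modules.restrictFunctor (LocCoh.puncturedOpen A 𝔞).ι).obj (Formal2.tmod A (M n)))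
        (fun n => (Scheme.Modules.restrictFunctor (LocCoh.puncturedOpen A 𝔞).ι).map (Formal2.tmodMap A (g n)))) := by
  exact GrothLib.PuncSys7.exists_system I F hF

end Groth.Agent.S0841
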