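import Groth.Statements.S0842
import Groth.Agent.Lib.FormalCd7.Main


set_option autoImplicit false
universe u
open scoped BigOperators
open Formal2

namespace Groth.Agent.S0842

open CategoryTheory AlgebraicGeometry Opposite in
/-- Let A be a Noetherian ring and I an ideal of cohomological dimension exactly 1, X a Noetherian
scheme over Spec A, and (F_n) a coherent formal module for I (coherent terms with F_n =
F_{n+1}/I^nF_{n+1}; indices shifted by one). Then for every p and m there is c such that every
compatible family x = (x_n) in the product of the H^p(X, F_n) whose component x_c vanishes is a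
finite sum of products a · y with a ∈ I^m and y a compatible family. (The reverse inclusion, that
I^m times the limit dies in H^p(X, F_n) for n small, is immediate and not stated.) -/
theorem result (A : Type u) [CommRing A] [IsNoetherianRing A] (I : Ideal A)
    (h₁ : LocCoh.CdLE A I 1) (h₀ : ¬ LocCoh.CdLE A I 0) (X : Scheme.{u}) [X.Over (Spec (CommRingCat.of A))]
    [IsNoetherian X] (G : ℕᵒᵖ ⥤ X.Modules) (hG : Formal.IsCohFormal I G) (p m : ℕ) :
    ∃ c : ℕ, ∀ x : ∀ n, Coh.HH X (G.obj (op n)) p,
      (∀ n, Formal2.HHsysMap G p n (x (n + 1)) = x n) → x c = 0 →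
        ∃ (k : ℕ) (a : Fin k → A) (y : Fin k → ∀ n, Coh.HH X (G.obj (op n)) p),
          (∀ i, a i ∈ I ^ m ∧ ∀ n, Formal2.HHsysMap G p n (y i (n + 1)) = y i n) ∧ x = ∑ i, a i • y i := by
  exact GrothLib.FormalCd7.limit_topology_adic I h₁ G hG p m

end Groth.Agent.S0842
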