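import Groth.Statements.S0848
import Groth.Agent.Lib.UnifVanish7.Kernels
import Groth.Agent.Lib.UnifVanish7.Convert

set_option autoImplicit false
universe u
open Coherent

namespace Groth.Agent.S0848

open CategoryTheory CategoryTheory.Limits AlgebraicGeometry in
/-- Let A be a Noetherian ring, I an ideal of A, X a scheme proper over Spec A carrying an ample
invertible O_X-module L, and (F_n)_{n ≥ 0} a coherent formal module for I on X (F_n coherent and
killed by I^(n+1), with F_n = F_(n+1)/I^(n+1)F_(n+1)). Then there is d₀ such that H^1(X, Ker(F_(n+1)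
→ F_n) ⊗ L^⊗d) = 0 for every n ≥ 0 and every d ≥ d₀. (Indices are shifted by one relative to the
published statement, which indexes from 1 and also covers the first term itself as the kernel of F_1
→ F_0 = 0; here only the kernels of the transition maps appear, so the first term is not among
them.) -/
theorem result (A : Type u) [CommRing A] [IsNoetherianRing A] (I : Ideal A)
    (X : Scheme.{u}) [X.Over (Spec (CommRingCat.of A))] [IsProper (X ↘ Spec (CommRingCat.of A))]
    (L : X.Modules) (hL : CohB1.IsAmple L) (G : ℕᵒᵖ ⥤ X.Modules) (hG : Formal.IsCohFormal I G) :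
    ∃ d₀ : ℕ, ∀ (n d : ℕ), d₀ ≤ d →
      Subsingleton (Coh.HH X (CohB1.tensorMod (kernel (G.map (homOfLE (Nat.le_succ n)).op))
        (CohB1.tensorPow L d)) 1) := by
  obtain ⟨c, ⟨e⟩⟩ := GrothLib.Ample.exists_cocycle hL.1
  obtain ⟨n₀, h⟩ := GrothLib.UnifVanish7.exists_uniform_vanish_kernels A hG c ((c.isAmple_iff e).1 hL).2
  exact ⟨n₀, fun n d hd => GrothLib.UnifVanish7.subsingleton_HH_tensor c e (h d hd n 1 le_rfl)⟩

end Groth.Agent.S0848
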