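import Groth.Statements.S0855
import Groth.Agent.Lib.ColimCoh.RpushColim

set_option autoImplicit false
universe u
open CategoryTheory
open CohTop

namespace Groth.Agent.S0855

open TopologicalSpace Opposite CategoryTheory.Limits in
/-- For a continuous map f : X -> Y, a diagram (F_i) of abelian sheaves on X and p ≥ 0: if the opens V
of Y for which the canonical map colim_i H^p(f^{-1}V, F_i) -> H^p(f^{-1}V, colim F_i) is an
isomorphism form a basis of the topology of Y, then colim_i R^p f_* F_i -> R^p f_* (colim F_i) is an
isomorphism. Both commutations are phrased as preservation of the colimit by the functor in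
question. -/
theorem result {X Y : TopCat.{u}} (f : X ⟶ Y)
    {ι : Type u} [SmallCategory ι] (F : ι ⥤ CohTop.Ab X) (p : ℕ)
    (h : Opens.IsBasis {V : Opens Y | PreservesColimit F
        ((Sheaf.cohomologyPresheafFunctor (Opens.grothendieckTopology X) p).flip.obj
          (op ((Opens.map f).obj V)))}) :
    PreservesColimit F (CohTop.Rpush f p) := by
  refine GrothLib.ColimCoh.preservesColimit_Rpush (Opens.grothendieckTopology Y) (Opens.map f) p F
    fun V => ?_
  choose W hW hxW hWV using fun y : V => (Opens.isBasis_iff_nbhd.1 h) y.2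
  let g : ∀ y : V, W y ⟶ V := fun y => homOfLE (hWV y)
  exact ⟨V, W, g, fun y hy => ⟨W ⟨y, hy⟩, g ⟨y, hy⟩, Sieve.ofArrows_mk W g ⟨y, hy⟩, hxW ⟨y, hy⟩⟩, hW⟩

end Groth.Agent.S0855
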