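import Groth.Statements.S0856
import Groth.Agent.Lib.SheafCoh.ModGroth
-- import your own Groth.Agent.* helpers here

set_option autoImplicit false
universe u
open CategoryTheory
open CohSite

namespace Groth.Agent.S0856

open Opposite in
/-- Let (C, O) be a ringed site, a : U' -> U a monomorphism of C and I an injective sheaf of O-modules.
Then the restriction map I(U) -> I(U') is surjective. -/
theorem result {C : Type u} [SmallCategory C]
    {J : GrothendieckTopology C} (O : Sheaf J RingCat.{u}) (I : SheafOfModules.{u} O) [Injective I]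
    {U U' : C} (a : U' ⟶ U) [Mono a] : Function.Surjective (I.val.map a.op) := by
  let F : ∀ X : C, PresheafOfModules.{u} O.obj := fun X => (PresheafOfModules.free O.obj).obj (yoneda.obj X)
  let m : F U' ⟶ F U := (PresheafOfModules.free O.obj).map (yoneda.map a)
  have hm : Mono m := by
    apply (PresheafOfModules.toPresheaf.{u} O.obj).mono_of_mono_map
    have : ∀ W, Mono (((PresheafOfModules.toPresheaf.{u} O.obj).map m).app W) := by
      intro W
      rw [AddCommGrpCat.mono_iff_injective]
      exact Finsupp.mapDomain_injective fun x y h => (cancel_mono a).1 h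
    exact NatTrans.mono_of_mono_app _
  intro s
  let e := fun X => (PresheafOfModules.sheafificationAdjunction (𝟙 O.obj)).homEquiv (F X) I
  let φ : (PresheafOfModules.sheafification (𝟙 O.obj)).obj (F U') ⟶ I :=
    (e U').symm (PresheafOfModules.freeYonedaEquiv.symm s)
  let ψ := Injective.factorThru φ ((PresheafOfModules.sheafification (𝟙 O.obj)).map m)
  have h1 : m ≫ e U ψ = e U' φ :=
    ((PresheafOfModules.sheafificationAdjunction (𝟙 O.obj)).homEquiv_naturality_left m ψ).symm.trans
      (congrArg _ (Injective.comp_factorThru _ _))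
  refine ⟨PresheafOfModules.freeYonedaEquiv (e U ψ), ?_⟩
  have h2 : e U' φ = PresheafOfModules.freeYonedaEquiv.symm s := Equiv.apply_symm_apply _ _
  rw [h2] at h1
  have h3 := congrArg PresheafOfModules.freeYonedaEquiv h1
  have h4 : PresheafOfModules.freeYonedaEquiv (m ≫ e U ψ) = s := h3.trans (Equiv.apply_symm_apply _ _)
  rw [← h4]
  change _ = ((m ≫ e U ψ).app (Opposite.op U')) (ModuleCat.freeMk (𝟙 U'))
  refine ((PresheafOfModules.naturality_apply (e U ψ) a.op (ModuleCat.freeMk (𝟙 U))).symm.trans ?_)
  change ((e U ψ).app (Opposite.op U')) _ = ((e U ψ).app (Opposite.op U')) _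
  congr 1
  refine (ModuleCat.freeDesc_apply _ (𝟙 U)).trans ?_
  refine Eq.trans ?_ (ModuleCat.free_map_apply _ (𝟙 U')).symm
  change ModuleCat.freeMk (R := O.obj.obj (Opposite.op U')) (a ≫ 𝟙 U) = ModuleCat.freeMk (𝟙 U' ≫ a)
  simp

end Groth.Agent.S0856
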