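import Groth.Statements.S0860
import Groth.Agent.Lib.SheafCoh.Cocont
-- import your own Groth.Agent.* helpers here

set_option autoImplicit false
universe u
open CategoryTheory
open CohSite

namespace Groth.Agent.S0860

open CategoryTheory.Limits in
/-- Let u : C -> D be a functor between sites with fibre products which sends coverings to coverings,
commutes with fibre products, and is continuous and cocontinuous, and let I be an injective abelian
sheaf on D. Then the sheaf V ↦ I(u(V)) on C (which is the pullback of I along the morphism of topoi
attached to u) has H^p(U, -) = 0 for all p > 0 and all objects U of C. -/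
theorem result {C D : Type u} [SmallCategory C]
    [SmallCategory D] [HasPullbacks C] [HasPullbacks D]
    (J : GrothendieckTopology C) (K : GrothendieckTopology D) (u : C ⥤ D)
    (hu : CoverPreserving J K u) [PreservesLimitsOfShape WalkingCospan u]
    [u.IsContinuous J K] [u.IsCocontinuous J K]
    (I : Sheaf K AddCommGrpCat.{u}) [Injective I] (U : C) (p : ℕ) :
    Subsingleton (CohSite.HU ((CohSite.push K J u).obj I) (p + 1) U) := GrothLib.SheafCoh.acycObj_push_injective u U J K I p

end Groth.Agent.S0860
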