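import Groth.Statements.S0865
import Groth.Agent.Lib.SheafCoh.DerivedComp
import Groth.Agent.Lib.SheafCoh.TotallyAcyclic
-- import your own Groth.Agent.* helpers here

set_option autoImplicit false
universe u
open CategoryTheory
open CohSite

namespace Groth.Agent.S0865

open CategoryTheory.Limits in
/-- Part (4) (for a morphism of topoi coming from a continuous functor of sites u : D -> C): if F is a
totally acyclic abelian sheaf on C then R^p u_* F = 0 for all p > 0, where u_* F is the sheaf V ↦
F(u(V)) and R^p u_* its right derived functors. -/
theorem result {C D : Type u} [SmallCategory C] [SmallCategory D]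
    (J : GrothendieckTopology C) (K : GrothendieckTopology D) (u : D ⥤ C) [u.IsContinuous K J]
    (F : Sheaf J AddCommGrpCat.{u}) (hF : CohCx.IsTotallyAcyclic F) (p : ℕ) :
    IsZero ((CohSite.Rpush J K u (p + 1)).obj F) := GrothLib.SheafCoh.isZero_Rpush_of_subsingleton K u F (p + 1) fun V =>
  GrothLib.SheafCoh.subsingleton_HU_of_totallyAcyclic F hF (u.obj V) p

end Groth.Agent.S0865
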