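import Groth.Statements.S0872
import Groth.Agent.Lib.CptBdd19.Vanish
-- import your own Groth.Agent.* helpers here

set_option autoImplicit false
universe u
open CategoryTheory
open CohSite

namespace Groth.Agent.S0872

open Opposite CategoryTheory.Limits in
/-- Abelian sheaves, O = Z: let U be an object of a site such that for some d, H^p(U, F) = 0 for all p >
d and all abelian sheaves F, and each functor F ↦ H^p(U, F) preserves direct sums. Then the free
abelian sheaf Z[h_U]^# (that is, j_! Z_U), viewed in degree zero, is a compact object of the derived
category of abelian sheaves (maps out of it commute with direct sums; the existence of direct sums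
in the derived category is assumed). -/
theorem result {C : Type u} [SmallCategory C] (J : GrothendieckTopology C) (U : C)
    [HasDerivedCategory.{u} (Sheaf J AddCommGrpCat.{u})]
    [HasCoproducts.{u} (DerivedCategory (Sheaf J AddCommGrpCat.{u}))]
    (d : ℕ) (h1 : ∀ (F : Sheaf J AddCommGrpCat.{u}) (p : ℕ), d < p → Subsingleton (CohSite.HU F p U))
    (h2 : ∀ (p : ℕ) (ι : Type u), PreservesColimitsOfShape (Discrete ι)
      ((Sheaf.cohomologyPresheafFunctor J p).flip.obj (op U))) :
    CohDer.IsCompactObject ((DerivedCategory.singleFunctor (Sheaf J AddCommGrpCat.{u}) 0).obj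
      (CohCx.freeSheaf J U)) := by
  intro ι M
  refine (GrothLib.CptBdd19.finHom_of_dimension d (fun F p hp => h1 F p hp) (fun p H => ?_) M).bijective
  haveI := h2 p ι
  exact inferInstanceAs (PreservesColimit (Discrete.functor H)
    ((Sheaf.cohomologyPresheafFunctor J p).flip.obj (op U)))

end Groth.Agent.S0872
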