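import Groth.Statements.S0874
import Groth.Agent.Lib.HDU.LimInj

set_option autoImplicit false
universe u
open CategoryTheory
open CohTop

namespace Groth.Agent.S0874

open TopologicalSpace CategoryTheory.Limits in
/-- Let (K_n) be an inverse system in D(Ab X), the derived category of sheaves of abelian groups on X,
with derived limit L (through maps a_n : L -> K_n), x a point and m an integer. Suppose there are an
index n(x) and a fundamental system of open neighbourhoods U of x such that (1) the inverse system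
H^{m-1}(U, K_n) has vanishing R^1 lim and (2) for every n >= n(x), the transition map from H^m(U,
K_n) to H^m(U, K_{n(x)}) is one-to-one. Then a_{n(x)} induces an injection of stalks at x, from
H^m(L) into H^m(K_{n(x)}). -/
theorem result {X : TopCat.{u}} [HasDerivedCategory.{u} (CohTop.Ab X)]
    (K : ℕ → DerivedCategory (CohTop.Ab X)) (t : ∀ n, K (n + 1) ⟶ K n) [HasProduct K]
    (L : DerivedCategory (CohTop.Ab X)) (a : ∀ n, L ⟶ K n) (hL : CohCx.IsRlimVia K t L a)
    (x : X) (m : ℤ) (nx : ℕ)
    (h : ∀ V : Opens X, x ∈ V → ∃ U : Opens X, x ∈ U ∧ U ≤ V ∧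
      CohCx.LimOneIsZero (fun n => CohCx.HDU (K n) (m - 1) U)
        (fun n => Preadditive.rightComp _ ((shiftFunctor _ (m - 1)).map (t n))) ∧
      ∀ k : ℕ, Function.Injective
        (Preadditive.rightComp _ ((shiftFunctor _ m).map (CohCx.transition K t nx k)) :
          CohCx.HDU (K (nx + k)) m U → CohCx.HDU (K nx) m U)) :
    Function.Injective ((TopCat.Presheaf.stalkFunctor AddCommGrpCat.{u} x).map
      ((DerivedCategory.homologyFunctor (CohTop.Ab X) m).map (a nx)).hom) := by
  refine (injective_iff_map_eq_zero _).2 fun s hs => ?_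
  obtain ⟨W, hxW, s, rfl⟩ := TopCat.Presheaf.exists_germ_eq _ s
  rw [TopCat.Presheaf.stalkFunctor_map_germ_apply] at hs
  obtain ⟨V, hxV, iW, iV, hV⟩ := TopCat.Presheaf.germ_eq _ x hxW hxW _ 0 (hs.trans (map_zero _).symm)
  rw [map_zero] at hV
  rw [← TopCat.Presheaf.germ_res_apply _ iW x hxV]
  obtain ⟨g, hgs⟩ := (GrothLib.SheafCoh.homFreeY ((DerivedCategory.homologyFunctor _ m).obj L) V).surjective
    ((((DerivedCategory.homologyFunctor _ m).obj L).obj.map iW.op).hom s)
  have hg : g ≫ (DerivedCategory.homologyFunctor _ m).map (a nx) = 0 := by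
    refine (GrothLib.SheafCoh.homFreeY _ V).injective
      (((GrothLib.SheafCoh.homFreeY_comp V g _).trans ?_).trans (map_zero _).symm)
    rw [hgs]
    exact (ConcreteCategory.congr_hom
      (((DerivedCategory.homologyFunctor _ m).map (a nx)).hom.naturality iW.op) s).trans hV
  obtain ⟨T, hT, hT'⟩ := GrothLib.HDU.exists_sieve_stage hL m nx V g hg
  obtain ⟨V', d, hd, hxV'⟩ := hT x hxV
  obtain ⟨U, hxU, hUV, hU1, hU2⟩ := h V' hxV'
  obtain ⟨φ, h1, h2⟩ := hT' _ (T.downward_closed hd (homOfLE hUV))
  have h3 := GrothLib.HDU.eq_zero_of_stage hL U m nx hU1 hU2 φ h2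
  rw [h3, GrothLib.SiteDer.theta_zero] at h1
  refine (TopCat.Presheaf.germ_res_apply _ (homOfLE hUV ≫ d) x hxU _).symm.trans ?_
  refine (congrArg _ ?_).trans (map_zero _)
  refine (congrArg _ hgs.symm).trans ((GrothLib.SheafCoh.homFreeY_map _ _ g).symm.trans ?_)
  rw [← h1, map_zero]

end Groth.Agent.S0874
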