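import Groth.Statements.S0876
import Mathlib.CategoryTheory.Sites.MayerVietorisSquare
import Mathlib.Algebra.Homology.DerivedCategory.SingleTriangle
import Mathlib.Algebra.Homology.ExactSequence

set_option autoImplicit false
universe u
open CategoryTheory
open CohSite

namespace Groth.Agent.S0876

section General

open CategoryTheory Limits Pretriangulated

variable {T : Type*} [Category T] [Preadditive T] [HasZeroObject T] [HasShift T ℤ]
  [∀ n : ℤ, (shiftFunctor T n).Additive] [Pretriangulated T]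

/-- The connecting map on maps into shifts of a distinguished triangle. -/
noncomputable def connecting {X₁ X₃ : T} (σ : X₃ ⟶ (shiftFunctor T (1 : ℤ)).obj X₁) (K : T) (n : ℤ) :
    (X₁ ⟶ (shiftFunctor T n).obj K) →+ (X₃ ⟶ (shiftFunctor T (n + 1)).obj K) :=
  AddMonoidHom.mk' (fun f => σ ≫ (shiftFunctor T (1 : ℤ)).map f ≫
    (shiftFunctorAdd' T n 1 (n + 1) rfl).inv.app K) (fun f g => by simp)

variable {X₁ X₂ X₃ : T} {u : X₁ ⟶ X₂} {v : X₂ ⟶ X₃} {σ : X₃ ⟶ (shiftFunctor T (1 : ℤ)).obj X₁}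
  (hT : Triangle.mk u v σ ∈ distinguishedTriangles) (K : T) (n : ℤ)
include hT

lemma connecting_comp_eq_zero (G : X₂ ⟶ (shiftFunctor T n).obj K) :
    connecting σ K n (u ≫ G) = 0 := by
  have h : σ ≫ (shiftFunctor T (1 : ℤ)).map u = 0 := comp_distTriang_mor_zero₃₁ _ hT
  simp [connecting, reassoc_of% h]

lemma comp_connecting_eq_zero (f : X₁ ⟶ (shiftFunctor T n).obj K) :
    v ≫ connecting σ K n f = 0 := by
  have h : v ≫ σ = 0 := comp_distTriang_mor_zero₂₃ _ hT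
  simp [connecting, reassoc_of% h]

lemma exists_of_connecting_eq_zero (f : X₁ ⟶ (shiftFunctor T n).obj K)
    (hf : connecting σ K n f = 0) : ∃ G, u ≫ G = f := by
  have h : σ ≫ (shiftFunctor T (1 : ℤ)).map f = 0 := by
    rw [← cancel_mono ((shiftFunctorAdd' T n 1 (n + 1) rfl).inv.app K), Category.assoc, zero_comp]
    exact hf
  obtain ⟨G, hG⟩ := Triangle.yoneda_exact₃ _ (rot_of_distTriang _ hT)
    ((shiftFunctor T (1 : ℤ)).map f) h
  let G' : (shiftFunctor T (1 : ℤ)).obj X₂ ⟶ (shiftFunctor T (1 : ℤ)).obj ((shiftFunctor T n).obj K) := G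
  obtain ⟨G₀, hG₀⟩ := (shiftFunctor T (1 : ℤ)).map_surjective G'
  refine ⟨-G₀, (shiftFunctor T (1 : ℤ)).map_injective ?_⟩
  refine Eq.trans ?_ hG.symm
  change _ = (-(shiftFunctor T (1 : ℤ)).map u) ≫ G'
  rw [← hG₀]
  simp

lemma exists_of_comp_eq_zero (h : X₃ ⟶ (shiftFunctor T (n + 1)).obj K) (hh : v ≫ h = 0) :
    ∃ f, connecting σ K n f = h := by
  obtain ⟨g, hg⟩ := Triangle.yoneda_exact₃ _ hT h hh
  let g' : (shiftFunctor T (1 : ℤ)).obj X₁ ⟶ (shiftFunctor T (n + 1)).obj K := g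
  obtain ⟨f, hf⟩ := (shiftFunctor T (1 : ℤ)).map_surjective
    (g' ≫ (shiftFunctorAdd' T n 1 (n + 1) rfl).hom.app K)
  refine ⟨f, ?_⟩
  refine Eq.trans ?_ hg.symm
  change σ ≫ (shiftFunctor T (1 : ℤ)).map f ≫ _ = σ ≫ g'
  rw [hf]
  simp

omit hT in
/-- The splitting data of a biproduct, mapped along an additive functor. -/
structure Split {P Q : T} (i : P ⟶ X₂) (j : Q ⟶ X₂) (p : X₂ ⟶ P) (q : X₂ ⟶ Q) : Prop where
  ip : i ≫ p = 𝟙 P
  jq : j ≫ q = 𝟙 Q
  iq : i ≫ q = 0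
  jp : j ≫ p = 0
  total : p ≫ i + q ≫ j = 𝟙 X₂

variable {P Q : T} {i : P ⟶ X₂} {j : Q ⟶ X₂} {p : X₂ ⟶ P} {q : X₂ ⟶ Q} (hs : Split i j p q)
  {a : X₁ ⟶ P} {b : X₁ ⟶ Q} {c : P ⟶ X₃} {d : Q ⟶ X₃}
  (ha : u ≫ p = a) (hb : u ≫ q = -b) (hc : i ≫ v = c) (hd : j ≫ v = d)
include hs

include ha hb in
omit hT in
lemma u_comp (G : X₂ ⟶ (shiftFunctor T n).obj K) :
    u ≫ G = a ≫ i ≫ G + -(b ≫ j ≫ G) := by
  conv_lhs => rw [← Category.id_comp G, ← hs.total, Preadditive.add_comp, Preadditive.comp_add,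
    Category.assoc, Category.assoc, ← Category.assoc u, ha, ← Category.assoc u, hb]
  simp

include hc hd in
omit hT in
lemma v_comp {Z : T} (h : X₃ ⟶ Z) : v ≫ h = p ≫ c ≫ h + q ≫ d ≫ h := by
  conv_lhs => rw [← Category.id_comp (v ≫ h), ← hs.total, Preadditive.add_comp, Category.assoc,
    Category.assoc, ← Category.assoc i, hc, ← Category.assoc j, hd]

include ha hb hc hd

lemma zero₂ (h : X₃ ⟶ (shiftFunctor T n).obj K) : a ≫ c ≫ h + -(b ≫ d ≫ h) = 0 := by
  have h0 : u ≫ v = 0 := comp_distTriang_mor_zero₁₂ _ hT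
  have := u_comp K n hs ha hb (v ≫ h)
  rw [reassoc_of% h0, zero_comp, ← Category.assoc i, hc, ← Category.assoc j, hd] at this
  exact this.symm

lemma exact₂ (g₂ : P ⟶ (shiftFunctor T n).obj K) (g₃ : Q ⟶ (shiftFunctor T n).obj K)
    (hg : a ≫ g₂ + -(b ≫ g₃) = 0) : ∃ h, c ≫ h = g₂ ∧ d ≫ h = g₃ := by
  have hG : u ≫ (p ≫ g₂ + q ≫ g₃) = 0 := by
    rw [Preadditive.comp_add, ← Category.assoc, ha, ← Category.assoc, hb]
    simpa using hg
  obtain ⟨h, hh⟩ := Triangle.yoneda_exact₂ _ hT _ hG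
  replace hh : p ≫ g₂ + q ≫ g₃ = v ≫ h := hh
  refine ⟨h, ?_, ?_⟩
  · rw [← hc, Category.assoc, ← hh, Preadditive.comp_add, reassoc_of% hs.ip, reassoc_of% hs.iq]
    simp
  · rw [← hd, Category.assoc, ← hh, Preadditive.comp_add, reassoc_of% hs.jq, reassoc_of% hs.jp]
    simp

lemma zero₁ (g₂ : P ⟶ (shiftFunctor T n).obj K) (g₃ : Q ⟶ (shiftFunctor T n).obj K) :
    connecting σ K n (a ≫ g₂ + -(b ≫ g₃)) = 0 := by
  have e : a ≫ g₂ + -(b ≫ g₃) = u ≫ (p ≫ g₂ + q ≫ g₃) := by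
    rw [Preadditive.comp_add, ← Category.assoc u, ha, ← Category.assoc u, hb]
    simp
  rw [e]
  exact connecting_comp_eq_zero hT K n _

lemma exact₁ (f : X₁ ⟶ (shiftFunctor T n).obj K) (hf : connecting σ K n f = 0) :
    ∃ g₂ g₃, a ≫ g₂ + -(b ≫ g₃) = f := by
  obtain ⟨G, hG⟩ := exists_of_connecting_eq_zero hT K n f hf
  exact ⟨i ≫ G, j ≫ G, (u_comp K n hs ha hb G).symm.trans hG⟩

lemma zero₃ (f : X₁ ⟶ (shiftFunctor T n).obj K) :
    c ≫ connecting σ K n f = 0 ∧ d ≫ connecting σ K n f = 0 := by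
  rw [← hc, ← hd, Category.assoc, Category.assoc, comp_connecting_eq_zero hT K n f]
  exact ⟨comp_zero, comp_zero⟩

lemma exact₃ (h : X₃ ⟶ (shiftFunctor T (n + 1)).obj K) (h2 : c ≫ h = 0) (h3 : d ≫ h = 0) :
    ∃ f, connecting σ K n f = h := by
  refine exists_of_comp_eq_zero hT K n h ?_
  rw [v_comp hs hc hd, h2, h3]
  simp

end General

open CategoryTheory.Limits in
/-- As a long exact sequence of cohomology groups rather than a triangle of complexes: let S be a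
Mayer-Vietoris square of a site, with corners X₁ (playing the role of the intersection), X₂, X₃ and
X₄ (the union). For every object K of the derived category of abelian sheaves there are connecting
homomorphisms H^n(X₁, K) -> H^{n+1}(X₄, K) which together with the restriction maps (sum into
H^n(X₂, K) ⊕ H^n(X₃, K), difference out of it) form a long exact sequence ... -> H^n(X₄, K) ->
H^n(X₂, K) ⊕ H^n(X₃, K) -> H^n(X₁, K) -> H^{n+1}(X₄, K) -> .... Here H^n(U, K) is the group of maps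
from the free abelian sheaf on U to K[n]. -/
theorem result {C : Type u} [SmallCategory C] {J : GrothendieckTopology C}
    [HasWeakSheafify J (Type u)] [HasDerivedCategory.{u} (Sheaf J AddCommGrpCat.{u})]
    (S : J.MayerVietorisSquare) (K : DerivedCategory (Sheaf J AddCommGrpCat.{u})) :
    ∃ δ : ∀ n : ℤ, CohCx.HDU K n S.X₁ →+ CohCx.HDU K (n + 1) S.X₄,
      ∀ n : ℤ,
        (ComposableArrows.mk₂
          (AddCommGrpCat.ofHom ((CohCx.HDUres K n S.f₂₄).prod (CohCx.HDUres K n S.f₃₄)))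
          (AddCommGrpCat.ofHom ((CohCx.HDUres K n S.f₁₂).coprod (-(CohCx.HDUres K n S.f₁₃))))).Exact ∧
        (ComposableArrows.mk₂
          (AddCommGrpCat.ofHom ((CohCx.HDUres K n S.f₁₂).coprod (-(CohCx.HDUres K n S.f₁₃))))
          (AddCommGrpCat.ofHom (δ n))).Exact ∧
        (ComposableArrows.mk₂ (AddCommGrpCat.ofHom (δ n))
          (AddCommGrpCat.ofHom ((CohCx.HDUres K (n + 1) S.f₂₄).prod (CohCx.HDUres K (n + 1) S.f₃₄)))).Exact := by
  let A := Sheaf J AddCommGrpCat.{u}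
  let s := DerivedCategory.singleFunctor A 0
  have hT : Pretriangulated.Triangle.mk (s.map S.shortComplex.f) (s.map S.shortComplex.g)
      S.shortComplex_shortExact.singleδ ∈ Pretriangulated.distinguishedTriangles :=
    S.shortComplex_shortExact.singleTriangle_distinguished
  have hs : Split (s.map (biprod.inl : CohCx.freeSheaf J S.X₂ ⟶ _))
      (s.map (biprod.inr : CohCx.freeSheaf J S.X₃ ⟶ CohCx.freeSheaf J S.X₂ ⊞ CohCx.freeSheaf J S.X₃))
      (s.map biprod.fst) (s.map biprod.snd) := by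
    refine ⟨?_, ?_, ?_, ?_, ?_⟩
    · rw [← Functor.map_comp, biprod.inl_fst, CategoryTheory.Functor.map_id]
    · rw [← Functor.map_comp, biprod.inr_snd, CategoryTheory.Functor.map_id]
    · rw [← Functor.map_comp, biprod.inl_snd, Functor.map_zero]
    · rw [← Functor.map_comp, biprod.inr_fst, Functor.map_zero]
    · rw [← Functor.map_comp, ← Functor.map_comp, ← Functor.map_add, biprod.total, CategoryTheory.Functor.map_id]
  have ha : s.map S.shortComplex.f ≫ s.map biprod.fst = s.map (CohCx.freeSheafMap J S.f₁₂) :=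
    (s.map_comp _ _).symm.trans (congrArg s.map (biprod.lift_fst _ _))
  have hb : s.map S.shortComplex.f ≫ s.map biprod.snd = -(s.map (CohCx.freeSheafMap J S.f₁₃)) :=
    (s.map_comp _ _).symm.trans ((congrArg s.map (biprod.lift_snd _ _)).trans s.map_neg)
  have hc : s.map biprod.inl ≫ s.map S.shortComplex.g = s.map (CohCx.freeSheafMap J S.f₂₄) :=
    (s.map_comp _ _).symm.trans (congrArg s.map (biprod.inl_desc _ _))
  have hd : s.map biprod.inr ≫ s.map S.shortComplex.g = s.map (CohCx.freeSheafMap J S.f₃₄) :=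
    (s.map_comp _ _).symm.trans (congrArg s.map (biprod.inr_desc _ _))
  refine ⟨fun n => connecting S.shortComplex_shortExact.singleδ K n, fun n => ⟨?_, ?_, ?_⟩⟩
  all_goals
    refine ComposableArrows.exact₂_mk _ ?_ ((ShortComplex.ab_exact_iff _).2 ?_)
  · ext (h : s.obj (CohCx.freeSheaf J S.X₄) ⟶ (shiftFunctor _ n).obj K)
    exact zero₂ hT K n hs ha hb hc hd h
  · rintro ⟨g₂, g₃⟩ hg
    obtain ⟨h, h2, h3⟩ := exact₂ hT K n hs ha hb hc hd g₂ g₃ hg
    exact ⟨h, Prod.ext h2 h3⟩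
  · ext ⟨g₂, g₃⟩
    exact zero₁ hT K n hs ha hb hc hd g₂ g₃
  · intro (f : s.obj (CohCx.freeSheaf J S.X₁) ⟶ (shiftFunctor _ n).obj K) hf
    obtain ⟨g₂, g₃, h⟩ := exact₁ hT K n hs ha hb hc hd f hf
    exact ⟨(g₂, g₃), h⟩
  · ext (f : s.obj (CohCx.freeSheaf J S.X₁) ⟶ (shiftFunctor _ n).obj K)
    obtain ⟨h2, h3⟩ := zero₃ hT K n hs ha hb hc hd f
    exact Prod.ext h2 h3
  · intro (h : s.obj (CohCx.freeSheaf J S.X₄) ⟶ (shiftFunctor _ (n + 1)).obj K) hh
    exact exact₃ hT K n hs ha hb hc hd h (congrArg Prod.fst hh) (congrArg Prod.snd hh)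

end Groth.Agent.S0876
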