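import Groth.Statements.S0880
import Groth.Agent.Lib.HDU.LimInj

set_option autoImplicit false
universe u
open CategoryTheory
open CohSite

namespace Groth.Agent.S0880

open Opposite CategoryTheory.Limits in
/-- Let (K_n) be an inverse system in the derived category of abelian sheaves on a site with derived
limit L through maps a_n : L -> K_n, V an object and m an integer. Suppose there is an index n(V)
such that every covering sieve of V contains a covering family {V_i -> V} with, for each i, (1)
vanishing R^1 lim of the system H^{m-1}(V_i, K_n) and (2) H^m(V_i, K_n) -> H^m(V_i, K_{n(V)})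
injective for n >= n(V). Then H^m(L)(V) -> H^m(K_{n(V)})(V) is injective. -/
theorem result {C : Type u} [SmallCategory C]
    {J : GrothendieckTopology C} [HasDerivedCategory.{u} (Sheaf J AddCommGrpCat.{u})]
    (K : ℕ → DerivedCategory (Sheaf J AddCommGrpCat.{u})) (t : ∀ n, K (n + 1) ⟶ K n) [HasProduct K]
    (L : DerivedCategory (Sheaf J AddCommGrpCat.{u})) (a : ∀ n, L ⟶ K n) (hL : CohCx.IsRlimVia K t L a)
    (V : C) (m : ℤ) (nV : ℕ)
    (h : ∀ T ∈ J V, ∃ (ι : Type u) (Y : ι → C) (f : ∀ i, Y i ⟶ V), (∀ i, T.arrows (f i)) ∧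
      Sieve.ofArrows Y f ∈ J V ∧ ∀ i,
        CohCx.LimOneIsZero (fun n => CohCx.HDU (K n) (m - 1) (Y i))
          (fun n => Preadditive.rightComp _ ((shiftFunctor _ (m - 1)).map (t n))) ∧
        ∀ k : ℕ, Function.Injective
          (Preadditive.rightComp _ ((shiftFunctor _ m).map (CohCx.transition K t nV k)) :
            CohCx.HDU (K (nV + k)) m (Y i) → CohCx.HDU (K nV) m (Y i))) :
    Function.Injective (((DerivedCategory.homologyFunctor _ m).map (a nV)).hom.app (op V)) := by
  refine (injective_iff_map_eq_zero _).2 fun s hs => ?_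
  obtain ⟨g, rfl⟩ := (GrothLib.SheafCoh.homFreeY _ V).surjective s
  have hg : g ≫ (DerivedCategory.homologyFunctor _ m).map (a nV) = 0 :=
    (GrothLib.SheafCoh.homFreeY _ V).injective
      (((GrothLib.SheafCoh.homFreeY_comp V g _).trans hs).trans (map_zero _).symm)
  obtain ⟨T, hT, hT'⟩ := GrothLib.HDU.exists_sieve_stage hL m nV V g hg
  obtain ⟨ι, Y, f, hf, hfJ, hY⟩ := h T hT
  have : g = 0 := by
    refine (GrothLib.HDU.isLocGen_free J).sep g ⟨_, hfJ, fun W k hk => ?_⟩
    obtain ⟨i, b, rfl⟩ := (Sieve.mem_ofArrows_iff Y f k).1 hk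
    obtain ⟨φ, h1, h2⟩ := hT' _ (hf i)
    have h3 := GrothLib.HDU.eq_zero_of_stage hL (Y i) m nV (hY i).1 (hY i).2 φ h2
    rw [h3, GrothLib.SiteDer.theta_zero] at h1
    rw [Functor.map_comp, Category.assoc]
    exact (congrArg (fun x => (GrothLib.SheafCoh.freeYFunctor J).map b ≫ x) h1.symm).trans
      Limits.comp_zero
  rw [this, map_zero]

end Groth.Agent.S0880
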