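import Groth.Statements.S0883
import Groth.Agent.Lib.HDU.Push
import Groth.Agent.Lib.HDU.GE
import Groth.Agent.Lib.HDU.SmallDer
import Mathlib.Topology.Sheaves.SheafCondition.UniqueGluing

set_option autoImplicit false
universe u
open CategoryTheory
open CohTop
open CategoryTheory.Limits Opposite TopologicalSpace

namespace Groth.Agent.S0883

/-- An abelian sheaf all of whose sections over a basis come from a zero presheaf is zero. -/
theorem sec_eq_zero {Y : TopCat.{u}} (F : CohTop.Ab Y) (B : Set (Opens Y)) (hB : Opens.IsBasis B)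
    (U : Opens Y) (s : F.obj.obj (op U)) (S : Sieve U) (hS : S ∈ Opens.grothendieckTopology Y U)
    (h : ∀ (W : Opens Y) (g : W ⟶ U), W ∈ B → S g → (F.obj.map g.op).hom s = 0) : s = 0 := by
  refine TopCat.Presheaf.section_ext ⟨F.obj, F.property⟩ U s 0 fun x hx => ?_
  obtain ⟨V, g, hg, hxV⟩ := hS x hx
  obtain ⟨W, hW, hxW, hWV⟩ := (Opens.isBasis_iff_nbhd.1 hB) hxV
  have h0 := h W (homOfLE hWV ≫ g) hW (S.downward_closed hg _)
  refine ((TopCat.Presheaf.germ_res_apply F.obj (homOfLE hWV ≫ g) x hxW s).symm.trans ?_).trans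
    (TopCat.Presheaf.germ_res_apply F.obj (homOfLE hWV ≫ g) x hxW (0 : F.obj.obj (op U)))
  exact congrArg _ (h0.trans (map_zero _).symm)

open TopologicalSpace in
/-- Part (1) (abelian sheaves; the assertion about Rf_* K is not included): given a continuous map f : X
-> Y, a basis B of opens of Y and an object K of the derived category of abelian sheaves on X such
that H^i(f^{-1}V, K) = 0 for all i < 0 and V in B. Then H^i(f^{-1}V, K) = 0 for i < 0 and every open
V of Y, and the presheaf V ↦ H^0(f^{-1}V, K) is a sheaf on Y. -/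
theorem result {X Y : TopCat.{u}} (f : X ⟶ Y)
    [HasDerivedCategory.{u} (CohTop.Ab X)] (B : Set (Opens Y)) (hB : Opens.IsBasis B)
    (K : DerivedCategory (CohTop.Ab X))
    (h : ∀ V ∈ B, ∀ i : ℤ, i < 0 → Subsingleton (CohCx.HDU K i ((Opens.map f).obj V))) :
    (∀ (V : Opens Y) (i : ℤ), i < 0 → Subsingleton (CohCx.HDU K i ((Opens.map f).obj V))) ∧
    Presheaf.IsSheaf (Opens.grothendieckTopology Y) ((Opens.map f).op ⋙ CohCx.HDUPresheaf K 0) := by
  let _ : HasDerivedCategory.{u} (CohTop.Ab Y) := GrothLib.HDU.hasDerivedCategory (CohTop.Ab Y)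
  let L := (GrothLib.HDU.Rpf f).obj K
  have hsub : ∀ (V : Opens Y) (i : ℤ),
      Subsingleton ((GrothLib.HDU.homPsh ((shiftFunctor (DerivedCategory (CohTop.Ab Y)) i).obj L)).obj (op V)) ↔
        Subsingleton (CohCx.HDU K i ((Opens.map f).obj V)) := fun V i =>
    (((GrothLib.HDU.homPshShiftIso f K i).app (op V)).addCommGroupIsoToAddEquiv.toEquiv).subsingleton_congr
  have hL : L.IsGE 0 := by
    rw [DerivedCategory.isGE_iff]
    intro i hi
    let Z := (shiftFunctor (DerivedCategory (CohTop.Ab Y)) i).obj L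
    have hz : ∀ (V : Opens Y) (s : (GrothLib.HDU.H0 Z).obj.obj (op V)), s = 0 := fun V s => by
      obtain ⟨S, hS, hl⟩ := GrothLib.HDU.exists_sieve_lift Z V s
      refine sec_eq_zero (GrothLib.HDU.H0 Z) B hB V s S hS fun W g hW hg => ?_
      obtain ⟨a, ha⟩ := hl W g hg
      have := (hsub W i).2 (h W hW i hi)
      rw [← ha, show a = 0 from Subsingleton.elim
        (α := (GrothLib.HDU.homPsh Z).obj (op W)) a 0]
      exact map_zero _
    have hZ : IsZero (GrothLib.HDU.H0 Z) := by
      refine (IsZero.iff_id_eq_zero _).2 ?_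
      ext V s
      exact hz V.unop _
    exact hZ.of_iso (GrothLib.HDU.hdIso L i).symm
  refine ⟨fun V i hi => (hsub V i).1 (GrothLib.HDU.subsingleton_shift_of_neg L _ i hi), ?_⟩
  let L0 := (shiftFunctor (DerivedCategory (CohTop.Ab Y)) (0 : ℤ)).obj L
  have : L0.IsGE 0 := DerivedCategory.TStructure.t.isGE_shift L 0 0 0 (by omega)
  exact Presheaf.isSheaf_of_iso_iff
    ((GrothLib.HDU.homPshShiftIso f K 0).symm ≪≫ GrothLib.HDU.homPshIsoH0 L0) |>.2
    (GrothLib.HDU.H0 L0).property

end Groth.Agent.S0883
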