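import Groth.Statements.S0884
import Groth.Agent.Lib.Spectral25.Pull
-- import your own Groth.Agent.* helpers here

set_option autoImplicit false
universe u
open CategoryTheory
open CohTop

namespace Groth.Agent.S0884

section
open TopologicalSpace Opposite CategoryTheory.Limits GrothLib.PBC25 GrothLib.Spectral25

set_option backward.isDefEq.respectTransparency false
set_option backward.isDefEq.respectTransparency.types false

variable {X Y : TopCat.{u}} (f : X ⟶ Y) (y : Y)

/-- The preimage of the generalizations of `y`. -/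
abbrev gen : Set X := {x : X | y ∈ closure {f x}}

/-- Preimages of the compact open neighbourhoods of `y`. -/
abbrev P : Set (Opens X) :=
  {U | ∃ V : Opens Y, y ∈ V ∧ IsCompact (V : Set Y) ∧ (Opens.map f).obj V = U}

theorem mem_of_gen {V : Opens Y} (hV : y ∈ V) {x : X} (hx : x ∈ gen f y) : f x ∈ V := by
  obtain ⟨w, hw, hwx⟩ := mem_closure_iff.1 hx V V.isOpen hV
  rwa [Set.mem_singleton_iff.1 hwx] at hw

theorem tube [SpectralSpace X] [SpectralSpace Y] (hf : IsSpectralMap f) : Tube (gen f y) (P f y) := by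
  refine tube_of_inter _ _ ?_ ?_ ⟨⊤, trivial, isCompact_univ, rfl⟩ ?_ fun x hx => ?_
  · rintro _ ⟨V, -, hV, rfl⟩
    exact hf.isCompact_preimage_of_isOpen V.isOpen hV
  · rintro _ ⟨V, hy, -, rfl⟩ x hx
    exact mem_of_gen f y hy hx
  · rintro _ ⟨V, hyV, hV, rfl⟩ _ ⟨W, hyW, hW, rfl⟩
    exact ⟨V ⊓ W, ⟨hyV, hyW⟩, QuasiSeparatedSpace.inter_isCompact _ _ V.isOpen hV W.isOpen hW, rfl⟩
  · obtain ⟨B, ⟨hBo, hBc⟩, hyB, hB⟩ :=
      (PrespectralSpace.isTopologicalBasis (X := Y)).exists_subset_of_mem_open
        (show y ∈ (closure {f x})ᶜ from hx) isClosed_closure.isOpen_compl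
    exact ⟨_, ⟨⟨B, hBo⟩, hyB, hBc, rfl⟩, fun h => hB h (subset_closure rfl)⟩

theorem top_le {V : Opens Y} (hV : y ∈ V) :
    (⊤ : Opens (TopCat.of (gen f y))) ≤ (Opens.map (subIncl (gen f y))).obj ((Opens.map f).obj V) :=
  fun z _ => mem_of_gen f y hV z.2

/-- The cocone of restrictions. -/
noncomputable def genCocone (F : CohTop.Ab X) :
    Cocone (((Functor.whiskeringLeft _ _ AddCommGrpCat.{u}).obj (OpenNhds.inclusion y).op).obj
      ((CohTop.push f).obj F).obj) where
  pt := ((CohTop.pull (subIncl (gen f y))).obj F).obj.obj (op ⊤)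
  ι :=
    { app := fun V => AddCommGrpCat.ofHom (sec (subIncl (gen f y)) F (top_le f y V.unop.2))
      naturality := fun V V' a => by
        ext g
        exact sec_res (subIncl (gen f y)) F
          (leOfHom ((Opens.map f).map ((OpenNhds.inclusion y).map a.unop))) (top_le f y V'.unop.2) g }

/-- Restriction of a germ of `f_* F`. -/
noncomputable def toGen (F : CohTop.Ab X) :
    CohTop.stalk ((CohTop.push f).obj F) y ⟶
      ((CohTop.pull (subIncl (gen f y))).obj F).obj.obj (op ⊤) :=
  colimit.desc _ (genCocone f y F)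

theorem toGen_germ (F : CohTop.Ab X) {V : Opens Y} (hV : y ∈ V)
    (g : F.obj.obj (op ((Opens.map f).obj V))) :
    toGen f y F (TopCat.Presheaf.germ ((CohTop.push f).obj F).obj V y hV g) =
      sec (subIncl (gen f y)) F (top_le f y hV) g :=
  ConcreteCategory.congr_hom (colimit.ι_desc (genCocone f y F) (op ⟨V, hV⟩)) g

theorem bijective_toGen [SpectralSpace X] [SpectralSpace Y] (hf : IsSpectralMap f)
    (F : CohTop.Ab X) : Function.Bijective (toGen f y F) := by
  constructor
  · rw [injective_iff_map_eq_zero]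
    intro a ha
    obtain ⟨V, hV, g, rfl⟩ := TopCat.Presheaf.germ_exist ((CohTop.push f).obj F).obj a
    rw [toGen_germ] at ha
    obtain ⟨U, ⟨V', hV', -, rfl⟩, hU, h0⟩ := (tube f y hf).exists_zero F (top_le f y hV) g ha
    have hle : (Opens.map f).obj (V ⊓ V') ≤ (Opens.map f).obj V' := fun x hx => hx.2
    have e : F.obj.map (homOfLE ((Opens.map f).map (homOfLE (inf_le_left : V ⊓ V' ≤ V))).le).op g = 0 := by
      rw [← res_res F hU hle g, h0, map_zero]
    refine (TopCat.Presheaf.germ_res_apply ((CohTop.push f).obj F).obj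
      (homOfLE (inf_le_left : V ⊓ V' ≤ V)) y ⟨hV, hV'⟩ g).symm.trans ?_
    refine (congrArg (TopCat.Presheaf.germ ((CohTop.push f).obj F).obj (V ⊓ V') y ⟨hV, hV'⟩) e).trans
      (map_zero _)
  · intro t
    obtain ⟨U, ⟨V, hV, -, rfl⟩, hg⟩ := (tube f y hf).exists_sec F t
    obtain ⟨g, e⟩ := hg (top_le f y hV)
    exact ⟨TopCat.Presheaf.germ ((CohTop.push f).obj F).obj V y hV g, (toGen_germ f y F hV g).trans e⟩

theorem toGen_naturality {F G : CohTop.Ab X} (φ : F ⟶ G) :
    (TopCat.Presheaf.stalkFunctor AddCommGrpCat.{u} y).map ((CohTop.push f).map φ).hom ≫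
        toGen f y G =
      toGen f y F ≫ ((CohTop.pull (subIncl (gen f y))).map φ).hom.app (op ⊤) := by
  refine TopCat.Presheaf.stalk_hom_ext _ fun V hV => ?_
  ext g
  change toGen f y G _ = _
  refine (congrArg (toGen f y G)
    (TopCat.Presheaf.stalkFunctor_map_germ_apply V y hV ((CohTop.push f).map φ).hom g)).trans ?_
  refine (toGen_germ f y G hV _).trans ?_
  refine Eq.trans ?_ (congrArg (((CohTop.pull (subIncl (gen f y))).map φ).hom.app (op ⊤))
    (toGen_germ f y F hV g)).symm
  exact (app_sec (subIncl (gen f y)) F φ (top_le f y hV) g).symm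

theorem nonempty_iso [SpectralSpace X] [SpectralSpace Y] (hf : IsSpectralMap f)
    (F : CohTop.Ab X) (p : ℕ) :
    Nonempty (CohTop.stalk ((CohTop.Rpush f p).obj F) y ≅
      AddCommGrpCat.of (CohTop.H ((CohTop.pull (subIncl (gen f y))).obj F) p)) := by
  have := additive_pull (subIncl (gen f y))
  have := preservesFiniteLimits_stalkF y
  have := preservesFiniteColimits_stalkF y
  have := additive_stalkF y
  have : (stalkF y).PreservesHomology := Functor.preservesHomologyOfExact _
  let e : CohTop.push f ⋙ stalkF y ≅ CohTop.pull (subIncl (gen f y)) ⋙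
      GrothLib.GrothSS.secAt (Opens.grothendieckTopology (TopCat.of (gen f y))) ⊤ :=
    NatIso.ofComponents
      (fun F => (AddEquiv.ofBijective (toGen f y F).hom (bijective_toGen f y hf F)).toAddCommGrpIso)
      (fun φ => toGen_naturality f y φ)
  obtain ⟨e'⟩ := (tube f y hf).nonempty_rightDerived_sub F p
  exact ⟨(GrothLib.SheafCoh.rightDerivedPostExactIso _ (CohTop.push f) (stalkF y) e.symm F p).symm ≪≫ e'⟩

end


open TopologicalSpace in
/-- Let f : X -> Y be a spectral map of spectral spaces, y a point of Y, E ⊆ Y the set of points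
specializing to y, and F an abelian sheaf on X. Then the stalk (R^p f_* F)_y is isomorphic to
H^p(f^{-1}(E), F|_{f^{-1}(E)}), the cohomology of the pullback of F to the subspace f^{-1}(E). -/
theorem result {X Y : TopCat.{u}} [SpectralSpace X] [SpectralSpace Y]
    (f : X ⟶ Y) (hf : IsSpectralMap f) (y : Y) (F : CohTop.Ab X) (p : ℕ) :
    Nonempty (CohTop.stalk ((CohTop.Rpush f p).obj F) y ≃+
      CohTop.H ((CohTop.pull (TopCat.ofHom ⟨Subtype.val, continuous_subtype_val⟩ :
          TopCat.of {x : X | y ∈ closure {f x}} ⟶ X)).obj F) p) := by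
  obtain ⟨e⟩ := nonempty_iso f y hf F p
  exact ⟨e.addCommGroupIsoToAddEquiv⟩

end Groth.Agent.S0884
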