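import Groth.Statements.S0885
import Groth.Agent.CechExtra25.Basic
-- import your own Groth.Agent.* helpers here

set_option autoImplicit false
universe u
open CategoryTheory
open CohTop

namespace Groth.Agent.S0885

open TopologicalSpace Opposite CategoryTheory.Limits in
/-- Let F be a presheaf of abelian groups on a topological space X and (U_i)_{i ∈ ι} a family of open
subsets with union U such that U_i = U for some index i. Then the Čech complex of F with respect to
the family (formed with all ordered tuples of indices) is homotopy equivalent to the complex
consisting of F(U) placed in degree 0. (The published statement phrases this as contractibility of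
the extended Čech complex; stated here as a homotopy equivalence with F(U) in degree zero.) -/
theorem result {X : TopCat.{u}} (F : (Opens X)ᵒᵖ ⥤ AddCommGrpCat.{u})
    {ι : Type u} (U : ι → Opens X) (i : ι) (hi : U i = iSup U) :
    Nonempty (HomotopyEquiv ((CochainComplex.single₀ AddCommGrpCat.{u}).obj (F.obj (op (iSup U))))
      ((cechComplexFunctor U).obj F)) := by
  exact ⟨GrothLib.CechExtra25.cechHomotopyEquiv U (V := iSup U) (fun j => homOfLE (le_iSup U j)) F
    (i₀ := i) (homOfLE hi.ge)⟩

end Groth.Agent.S0885
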