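import Groth.Statements.S0891
import Groth.Agent.Lib.LocFreeHom.Basic
-- import your own Groth.Agent.* helpers here

set_option autoImplicit false
universe u
open CategoryTheory
open Coh

namespace Groth.Agent.S0891

section
open AlgebraicGeometry CategoryTheory Limits GrothLib GrothLib.LocFreeHom

attribute [local instance] GrothLib.LocFreeHom.hasSheafHom

variable {X : Scheme.{u}}

/-- The dual module. -/
noncomputable abbrev du (E : X.Modules) : X.Modules := iHom E (Coh.structureModule X)

noncomputable def braid (M N : X.Modules) : (T N).obj M ⟶ (T M).obj N :=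
  ((OX.tensorBraiding (X := X)).hom.app M).app N

theorem braid_left {M M' : X.Modules} (a : M ⟶ M') (N : X.Modules) :
    (T N).map a ≫ braid M' N = braid M N ≫ wh a N :=
  NatTrans.congr_app ((OX.tensorBraiding (X := X)).hom.naturality a) N

theorem braid_right (M : X.Modules) {N N' : X.Modules} (b : N ⟶ N') :
    wh b M ≫ braid M N' = braid M N ≫ (T M).map b :=
  ((OX.tensorBraiding (X := X)).hom.app M).naturality b

noncomputable def pair (E : X.Modules) : (T (du E)).obj E ⟶ Coh.structureModule X :=
  braid E (du E) ≫ ev E (Coh.structureModule X)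

theorem pair_natural {A F : X.Modules} (a : A ⟶ F) :
    (T (du F)).map a ≫ pair F = wh (hMap a (Coh.structureModule X)) A ≫ pair A := by
  rw [pair, pair, ← Category.assoc, braid_left, Category.assoc, ← uncurry_hMap, uncurry, ← Category.assoc,
    ← braid_right, Category.assoc]

/-- The transpose of the comparison map. -/
noncomputable def pr (E N : X.Modules) : (T (du E)).obj ((T E).obj N) ⟶ N :=
  (OX.tensorAssoc (du E) E N).inv ≫ wh (pair E) N ≫ (OX.tensorUnitNatIso (X := X)).hom.app N

noncomputable def θ (E N : X.Modules) : (T E).obj N ⟶ iHom (du E) N := curry (pr E N)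

noncomputable def H {A F : X.Modules} (a : A ⟶ F) (N : X.Modules) : iHom (du A) N ⟶ iHom (du F) N :=
  hMap (hMap a (Coh.structureModule X)) N

theorem θ_natural {A F : X.Modules} (a : A ⟶ F) (N : X.Modules) : wh a N ≫ θ F N = θ A N ≫ H a N := by
  refine hom_ext ?_
  rw [uncurry_comp, H, uncurry_comp_hMap, θ, θ, uncurry_curry, uncurry_curry, pr, pr]
  have h1 : (T (du F)).map (wh a N) ≫ (OX.tensorAssoc (du F) F N).inv =
      (OX.tensorAssoc (du F) A N).inv ≫ wh ((T (du F)).map a) N := by
    rw [Iso.comp_inv_eq, Category.assoc]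
    exact (Iso.eq_inv_comp _).2 (OX.tensorAssoc_natural₂ (du F) a N).symm
  have h2 : wh (hMap a (Coh.structureModule X)) ((T A).obj N) ≫ (OX.tensorAssoc (du A) A N).inv =
      (OX.tensorAssoc (du F) A N).inv ≫ wh (wh (hMap a (Coh.structureModule X)) A) N := by
    rw [Iso.comp_inv_eq, Category.assoc]
    exact (Iso.eq_inv_comp _).2 (OX.tensorAssoc_natural₁ (hMap a (Coh.structureModule X)) A N).symm
  have h3 : wh ((T (du F)).map a) N ≫ wh (pair F) N =
      wh (wh (hMap a (Coh.structureModule X)) A) N ≫ wh (pair A) N := by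
    rw [wh, wh, wh, wh, ← NatTrans.comp_app, ← Functor.map_comp, ← NatTrans.comp_app, ← Functor.map_comp,
      pair_natural]
  rw [reassoc_of% h1, reassoc_of% h2, reassoc_of% h3]

theorem isIso_θ_unit (N : X.Modules) : IsIso (θ (Coh.structureModule X) N) := by
  let O := Coh.structureModule X
  obtain ⟨e⟩ := nonempty_iHom_unit_iso O
  haveI := isEquivalence_T_unit e
  haveI := isIso_ev_of_unit e N
  haveI := isIso_ev_of_unit (Iso.refl O) O
  haveI : IsIso (pair O) := by unfold pair braid; infer_instance
  haveI hp : IsIso (pr O N) := by unfold pr; infer_instance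
  have hu : IsIso (uncurry (θ O N)) := by rw [θ, uncurry_curry]; exact hp
  haveI : IsIso ((T (du O)).map (θ O N)) :=
    IsIso.of_isIso_comp_right _ (ev (du O) N)
  exact isIso_of_reflects_iso _ (T (du O))

theorem wh_sum {ι : Type} [Fintype ι] {A F : X.Modules} (a : ι → (A ⟶ F)) (N : X.Modules) :
    wh (∑ i, a i) N = ∑ i, wh (a i) N :=
  map_sum (AddMonoidHom.mk' (fun b : A ⟶ F => wh b N) fun b c => by
    simp only [wh, Functor.map_add, NatTrans.app_add]) a Finset.univ

theorem isIso_θ_freeMod (n : ℕ) (N : X.Modules) : IsIso (θ (FlatMod.freeMod X n) N) := by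
  let ι := fun i => Sigma.ι (fun _ : Fin n => Coh.structureModule X) i
  let p := freeProj X n
  haveI := isIso_θ_unit (X := X) N
  let c := θ (Coh.structureModule X) N
  refine ⟨∑ i, H (p i) N ≫ inv c ≫ wh (ι i) N, ?_, ?_⟩
  · rw [Preadditive.comp_sum]
    refine (Finset.sum_congr rfl (g := fun i => wh (p i ≫ ι i) N) fun i _ => ?_).trans ?_
    · rw [← Category.assoc, ← θ_natural, Category.assoc]
      refine (congrArg (wh (p i) N ≫ ·) (IsIso.hom_inv_id_assoc c _)).trans ?_
      rw [wh, wh, wh, ← NatTrans.comp_app, ← Functor.map_comp]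
    · rw [← wh_sum, freeProj_total, wh, CategoryTheory.Functor.map_id, NatTrans.id_app]
  · rw [Preadditive.sum_comp]
    refine (Finset.sum_congr rfl (g := fun i => H (p i) N ≫ H (ι i) N) fun i _ => ?_).trans ?_
    · rw [Category.assoc, Category.assoc, θ_natural]
      exact congrArg (H (p i) N ≫ ·) (IsIso.inv_hom_id_assoc c _)
    · simp only [H, ← hMap_comp]
      rw [← hMap_sum, ← hMap_sum, freeProj_total, hMap_id, hMap_id]

theorem isIso_restrict_θ_iff (V : X.Opens) {A F : X.Modules} (a : A ⟶ F)
    (h : IsIso ((Scheme.Modules.restrictFunctor V.ι).map a)) (N : X.Modules) :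
    IsIso ((Scheme.Modules.restrictFunctor V.ι).map (θ A N)) ↔
      IsIso ((Scheme.Modules.restrictFunctor V.ι).map (θ F N)) := by
  have h₁ : IsIso ((Scheme.Modules.restrictFunctor V.ι).map (wh a N)) :=
    OX.isIso_restrict_tensor_left V.ι a h N
  have h₂ : IsIso ((Scheme.Modules.restrictFunctor V.ι).map (H a N)) :=
    isIso_restrict_hMap V.ι _ (isIso_restrict_hMap V.ι a h _) N
  have e := congrArg (Scheme.Modules.restrictFunctor V.ι).map (θ_natural a N)
  rw [Functor.map_comp, Functor.map_comp] at e
  constructor <;> intro hc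
  · exact IsIso.of_isIso_fac_left e
  · exact IsIso.of_isIso_fac_right e.symm

theorem isIso_θ {E : X.Modules} (hE : FlatMod.IsFinLocFree E) (N : X.Modules) : IsIso (θ E N) := by
  refine (OX.isIso_iff _).2 fun x => ?_
  obtain ⟨V, n, hx, ⟨e⟩⟩ := hE x
  suffices h : IsIso ((Scheme.Modules.restrictFunctor V.ι).map (θ E N)) from
    isIso_stalk_of_restrict V.ι _ h ⟨x, hx⟩
  let i : E.restrict V.ι ≅ (Scheme.Modules.restrictFunctor V.ι).obj (FlatMod.freeMod X n) :=
    e ≪≫ (DCoh.restrictFreeModIso V.ι n).symm
  refine (isIso_restrict_θ_iff V (OX.epsZ V.ι E) (OX.isIso_restrict_epsZ V.ι E) N).1 ?_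
  refine (isIso_restrict_θ_iff V ((CxOX.extZero V.ι).map i.hom) inferInstance N).2 ?_
  refine (isIso_restrict_θ_iff V (OX.epsZ V.ι _) (OX.isIso_restrict_epsZ V.ι _) N).2 ?_
  haveI := isIso_θ_freeMod (X := X) n N
  infer_instance

theorem isFinLocFree_O (X : Scheme.{u}) : FlatMod.IsFinLocFree (Coh.structureModule X) := fun _ =>
  ⟨⊤, 1, trivial, ⟨(Scheme.Modules.restrictFunctorIsoPullback (⊤ : X.Opens).ι).app _ ≪≫ OX.pullUnitIso _ ≪≫
    (coproductUniqueIso fun _ : Fin 1 => Coh.structureModule ((⊤ : X.Opens) : Scheme.{u})).symm⟩⟩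

theorem preservesMono_T {F : X.Modules} (hF : FlatMod.IsFlat F) : (T F).PreservesMonomorphisms where
  preserves {A B} f hf := by
    let S := ShortComplex.mk f (cokernel.π f) (cokernel.condition f)
    have hS : S.ShortExact :=
      { exact := ShortComplex.exact_cokernel f, mono_f := hf, epi_g := inferInstanceAs (Epi (cokernel.π f)) }
    have hm : Mono (((DCoh.tensorBi (X := X)).flip.obj F).map f) := (OX.tensor_map_shortExact hF hS).mono_f
    exact ((MorphismProperty.monomorphisms _).arrow_mk_iso_iff
      ((Functor.mapArrowFunctor _ _).mapIso ((OX.tensorBraiding (X := X)).app F) |>.app (Arrow.mk f))).1 hm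

end

open AlgebraicGeometry in
/-- On a scheme X, let I be an injective 𝒪_X-module and E a finite locally free 𝒪_X-module. Then E ⊗ I
is an injective 𝒪_X-module. (The published statement is for ringed spaces; it is stated here for
schemes.) -/
theorem result {X : Scheme.{u}} (I E : X.Modules) [Injective I]
    (hE : FlatMod.IsFinLocFree E) : Injective (CohB1.tensorMod E I) := by
  haveI := GrothLib.LocFreeHom.hasSheafHom (du E)
  haveI := GrothLib.LocFreeHom.hasSheafHom E
  haveI := isIso_θ hE I
  haveI := preservesMono_T (GrothLib.OX.flat_of_isFinLocFree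
    (GrothLib.LocFreeHom.isFinLocFree_iHom hE (isFinLocFree_O X)))
  have : Injective (GrothLib.LocFreeHom.iHom (du E) I) :=
    Injective.injective_of_adjoint (DCoh.sheafHomAdj (du E)) I
  exact Injective.of_iso (asIso (θ E I)).symm this

end Groth.Agent.S0891
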