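import Groth.Statements.S0894


set_option autoImplicit false
universe u
open CategoryTheory
open Hyper

namespace Groth.Agent.S0894

open Opposite in
/-- For a hypercovering K of an object X of a site with fibre products (a simplicial semi-representable
object over X; coskeleta are assumed to exist): (1) for each n the family K_n is a covering of X,
and (2) every face map d_i : K_{n+1} -> K_n is a covering morphism of semi-representable objects. -/
theorem result {C : Type u} [SmallCategory C] [Limits.HasPullbacks C]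
    (J : GrothendieckTopology C) (X : C) (K : SimplicialObject (Limits.FormalCoproduct.{u} (Over X)))
    [∀ (n : ℕ) (F : (SimplexCategory.Truncated n)ᵒᵖ ⥤ Limits.FormalCoproduct.{u} (Over X)),
      (SimplexCategory.Truncated.inclusion n).op.HasRightKanExtension F]
    (hK : Hyper.IsHypercovering J X K) :
    (∀ n : ℕ, Sieve.ofArrows (fun i => ((K.obj (op (SimplexCategory.mk n))).obj i).left)
      (fun i => ((K.obj (op (SimplexCategory.mk n))).obj i).hom) ∈ J X) ∧
    ∀ (n : ℕ) (i : Fin (n + 2)), Hyper.IsSRCovering (J.over X) (K.δ i) := by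
  refine ⟨fun n => J.superset_covering ?_ hK.1, fun n i j => ?_⟩
  · rw [Sieve.ofArrows, Sieve.generate_le_iff]
    rintro _ _ ⟨a⟩
    let s := K.map (SimplexCategory.const (SimplexCategory.mk n) (SimplexCategory.mk 0) 0).op
    refine ⟨_, (s.φ a).left, _, Presieve.ofArrows.mk (s.f a), ?_⟩
    exact Over.w (s.φ a)
  · obtain ⟨k, hk⟩ : ∃ k : Fin (n + 1), K.σ k ≫ K.δ i = 𝟙 _ := by
      rcases Fin.eq_castSucc_or_eq_last i with ⟨k, rfl⟩ | rfl
      · exact ⟨k, K.δ_comp_σ_self⟩
      · exact ⟨Fin.last n, by rw [← Fin.succ_last]; exact K.δ_comp_σ_succ⟩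
    rw [show Sieve.ofArrows _ _ = ⊤ from ?_]
    · exact (J.over X).top_mem _
    rw [← Sieve.id_mem_iff_eq_top]
    obtain ⟨h1, h2⟩ := (Limits.FormalCoproduct.hom_ext_iff' _ _).1 hk j
    rw [Sieve.mem_ofArrows_iff]
    refine ⟨⟨(K.σ k).f j, h1⟩, (K.σ k).φ j, ?_⟩
    rw [← Category.assoc]
    exact h2.symm

end Groth.Agent.S0894
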