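import Groth.Statements.S0898
-- import your own Groth.Agent.* helpers here

set_option autoImplicit false
universe u
open CategoryTheory
open Hyper

namespace Groth.Agent.S0898

open CategoryTheory.Limits in
/-- Parts (1) and (2), about covering morphisms between semi-representable objects (formal coproducts)
of a site: (1) the composite of two covering morphisms is a covering, and (2) for a site with fibre
products, the base change of a covering K -> L along any L' -> L (which exists) is a covering L' x_L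
K -> L'. -/
theorem result {C : Type u} [SmallCategory C] (J : GrothendieckTopology C) :
    (∀ {K L M : FormalCoproduct.{u} C} (f : K ⟶ L) (g : L ⟶ M),
      Hyper.IsSRCovering J f → Hyper.IsSRCovering J g → Hyper.IsSRCovering J (f ≫ g)) ∧
    (∀ [HasPullbacks C] {K L L' : FormalCoproduct.{u} C} (f : K ⟶ L) (g : L' ⟶ L),
      Hyper.IsSRCovering J f → HasPullback g f ∧ ∀ [HasPullback g f], Hyper.IsSRCovering J (pullback.fst g f)) := by
  refine ⟨fun {K L M} f g hf hg m => ?_, fun {_ K L L'} f g hf => ⟨inferInstance, fun {_} j => ?_⟩⟩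
  · refine J.transitive (hg m) _ ?_
    rintro W _ ⟨_, a, _, ⟨⟨l, hl⟩⟩, rfl⟩
    subst hl
    refine J.superset_covering ?_ (J.pullback_stable a (hf l))
    rintro Z b ⟨_, c, _, ⟨⟨i, hi⟩⟩, hc⟩
    subst hi
    refine ⟨_, c, _, Presieve.ofArrows.mk (⟨i, rfl⟩ : {i0 : K.I // (f ≫ g).f i0 = g.f (f.f i)}), ?_⟩
    dsimp
    simp only [eqToHom_refl, Category.comp_id] at hc ⊢
    rw [← Category.assoc c, hc, Category.assoc]
  · refine J.superset_covering ?_ (J.pullback_stable (g.φ j) (hf (g.f j)))
    rintro W h ⟨_, c, _, ⟨⟨i, hi⟩⟩, hc⟩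
    let a : (⟨PUnit.{u + 1}, fun _ => W⟩ : FormalCoproduct.{u} C) ⟶ L' :=
      { f := fun _ => j, φ := fun _ => h }
    let b : (⟨PUnit.{u + 1}, fun _ => W⟩ : FormalCoproduct.{u} C) ⟶ K :=
      { f := fun _ => i, φ := fun _ => c }
    have hab : a ≫ g = b ≫ f := by
      refine FormalCoproduct.hom_ext (funext fun _ => hi.symm) fun _ => ?_
      change (h ≫ g.φ j) ≫ eqToHom _ = c ≫ f.φ i
      rw [← hc]
      simp
    let l := pullback.lift a b hab
    have hl : l ≫ pullback.fst g f = a := pullback.lift_fst _ _ _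
    obtain ⟨h1, h2⟩ := (FormalCoproduct.hom_ext_iff' _ _).1 hl PUnit.unit
    refine ⟨_, l.φ PUnit.unit, _, Presieve.ofArrows.mk
      (⟨l.f PUnit.unit, h1⟩ : {p : (pullback g f).I // (pullback.fst g f).f p = j}), ?_⟩
    exact (Category.assoc _ _ _).symm.trans h2

end Groth.Agent.S0898
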