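import Groth.Statements.S0900
import Groth.Agent.Lib.CohDer22.Rlim

set_option autoImplicit false
universe v u
open CategoryTheory
open CohDer

namespace Groth.Agent.S0900

open CategoryTheory.Limits in
/-- Let F : A -> B be an additive functor between abelian categories with A Grothendieck abelian, B
having exact countable products (here: ℕ-indexed products exist and preserve epimorphisms) and F
commuting with ℕ-indexed products. Then the total right derived functor RF : D(A) -> D(B) (whose
existence is assumed as an instance argument; it exists because A has enough K-injective complexes)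
sends a derived limit of an inverse system (K_n) to a derived limit of (RF K_n). The relevant
countable products in the derived categories are assumed to exist. -/
theorem result {A : Type u} [Category.{v} A] [Abelian A] [IsGrothendieckAbelian.{v} A]
    [HasDerivedCategory.{v} A] {B : Type u} [Category.{v} B] [Abelian B] [HasDerivedCategory.{v} B]
    [HasProductsOfShape ℕ B] [(lim : (Discrete ℕ ⥤ B) ⥤ B).PreservesEpimorphisms]
    (F : A ⥤ B) [F.Additive] [PreservesLimitsOfShape (Discrete ℕ) F]
    [(F.mapHomotopyCategory (ComplexShape.up ℤ) ⋙ DerivedCategory.Qh).HasRightDerivedFunctor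
      (HomotopyCategory.quasiIso A (ComplexShape.up ℤ))]
    (K : ℕ → DerivedCategory A) (t : ∀ n, K (n + 1) ⟶ K n) (L : DerivedCategory A) [HasProduct K]
    [HasProduct fun n => ((F.mapHomotopyCategory (ComplexShape.up ℤ) ⋙ DerivedCategory.Qh).totalRightDerived
      DerivedCategory.Qh (HomotopyCategory.quasiIso A (ComplexShape.up ℤ))).obj (K n)]
    (hL : DCoh.IsRlim K t L) :
    DCoh.IsRlim
      (fun n => ((F.mapHomotopyCategory (ComplexShape.up ℤ) ⋙ DerivedCategory.Qh).totalRightDerived
        DerivedCategory.Qh (HomotopyCategory.quasiIso A (ComplexShape.up ℤ))).obj (K n))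
      (fun n => ((F.mapHomotopyCategory (ComplexShape.up ℤ) ⋙ DerivedCategory.Qh).totalRightDerived
        DerivedCategory.Qh (HomotopyCategory.quasiIso A (ComplexShape.up ℤ))).map (t n))
      (((F.mapHomotopyCategory (ComplexShape.up ℤ) ⋙ DerivedCategory.Qh).totalRightDerived
        DerivedCategory.Qh (HomotopyCategory.quasiIso A (ComplexShape.up ℤ))).obj L) := by
  exact GrothLib.CohDer22.isRlim_RK F _ (GrothLib.KInj.totalRightDerivedIso _) K t L hL

end Groth.Agent.S0900
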