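import Groth.Statements.S0907
import Groth.Agent.Lib.Hyper25.Exists
-- import your own Groth.Agent.* helpers here

set_option autoImplicit false
universe u
open CategoryTheory
open Hyper

namespace Groth.Agent.S0907

open TopologicalSpace Opposite CategoryTheory.Limits in
/-- Phrased in the site of opens of X, with X the top open: let B be a basis for the topology of X. Then
there is a hypercovering K of X such that every open occurring in every K_n belongs to B. -/
theorem result {X : TopCat.{u}} (B : Set (Opens X)) (hB : Opens.IsBasis B)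
    [∀ (n : ℕ) (F : (SimplexCategory.Truncated n)ᵒᵖ ⥤ Limits.FormalCoproduct.{u} (Over (⊤ : Opens X))),
      (SimplexCategory.Truncated.inclusion n).op.HasRightKanExtension F] :
    ∃ K : SimplicialObject (FormalCoproduct.{u} (Over (⊤ : Opens X))),
      Hyper.IsHypercovering (Opens.grothendieckTopology X) ⊤ K ∧
      ∀ (n : ℕ) (i : (K.obj (op (SimplexCategory.mk n))).I),
        ((K.obj (op (SimplexCategory.mk n))).obj i).left ∈ B := GrothLib.Hyper25.exists_hypercovering (Opens.grothendieckTopology X) B ⊤ fun U => by
  obtain ⟨S, hS, hU⟩ := TopologicalSpace.Opens.isBasis_iff_cover.1 hB U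
  refine ⟨S, fun i => i.1, fun i => homOfLE (le_trans (le_sSup i.2) hU.ge), fun x hx => ?_, fun i => hS i.2⟩
  subst hU
  obtain ⟨V, hV, hxV⟩ := TopologicalSpace.Opens.mem_sSup.1 hx
  exact ⟨V, _, Sieve.ofArrows_mk _ _ (⟨V, hV⟩ : S), hxV⟩

end Groth.Agent.S0907
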