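import Groth.Statements.S0909
import Groth.Agent.Lib.Deligne19.Main
import Mathlib.CategoryTheory.Sites.Coherent.RegularSheaves
import Mathlib.CategoryTheory.Sites.Coherent.RegularTopology
import Mathlib.CategoryTheory.Sites.Coherent.LocallySurjective
import Mathlib.CategoryTheory.Abelian.Basic
import Mathlib.CategoryTheory.Preadditive.Yoneda.Limits
import Mathlib.CategoryTheory.Preadditive.LeftExact
import Mathlib.Algebra.Category.Grp.Colimits
import Mathlib.Algebra.Homology.ShortComplex.PreservesHomology
import Mathlib.Algebra.Homology.ShortComplex.Abelian
-- import your own Groth.Agent.* helpers here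

set_option autoImplicit false
universe u
open CategoryTheory
open CohDer

namespace Groth.Agent.S0909

open CategoryTheory.Limits Opposite

section

variable {A : Type u} [SmallCategory A] [Abelian A] [Preregular A]

theorem isSheaf_preadditiveYoneda (X : A) :
    Presheaf.IsSheaf (regularTopology A) (preadditiveYoneda.obj X) := by
  rw [Presheaf.isSheaf_iff_isSheaf_forget _ _ (forget AddCommGrpCat.{u}),
    isSheaf_iff_isSheaf_of_type]
  exact regularTopology.isSheaf_yoneda_obj X

/-- The embedding of `A` into the sheaves. -/
noncomputable def emb : A ⥤ Sheaf (regularTopology A) AddCommGrpCat.{u} :=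
  ObjectProperty.lift _ preadditiveYoneda isSheaf_preadditiveYoneda

/-- Sheafification does not change the representable sheaves. -/
noncomputable def embIso :
    (emb : A ⥤ Sheaf (regularTopology A) AddCommGrpCat.{u}) ≅
      preadditiveYoneda ⋙ presheafToSheaf (regularTopology A) AddCommGrpCat.{u} :=
  (Functor.rightUnitor _).symm ≪≫
    Functor.isoWhiskerLeft emb
      (asIso (sheafificationAdjunction (regularTopology A) AddCommGrpCat.{u}).counit).symm ≪≫
    (Functor.associator _ _ _).symm ≪≫ Functor.isoWhiskerRight (Iso.refl _) _

theorem preservesFiniteLimits_preadditiveYoneda :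
    PreservesFiniteLimits (preadditiveYoneda : A ⥤ Aᵒᵖ ⥤ AddCommGrpCat.{u}) :=
  ⟨fun J _ _ => preservesLimitsOfShape_of_evaluation _ _ fun X =>
    inferInstanceAs (PreservesLimitsOfShape J (preadditiveCoyoneda.obj X))⟩

theorem preservesEpimorphisms :
    (preadditiveYoneda ⋙
      presheafToSheaf (regularTopology A) AddCommGrpCat.{u}).PreservesEpimorphisms := by
  refine ⟨fun {X Y} f hf => ?_⟩
  have : Presheaf.IsLocallySurjective (regularTopology A) (preadditiveYoneda.map f) := by
    rw [regularTopology.isLocallySurjective_iff]
    intro Z y
    let y' : Z ⟶ Y := y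
    haveI : Epi f := hf
    haveI : Epi (pullback.fst y' f) := inferInstance
    haveI : EffectiveEpi (pullback.fst y' f) :=
      haveI := IsRegularEpiCategory.regularEpiOfEpi (pullback.fst y' f)
      inferInstance
    exact ⟨pullback y' f, pullback.fst y' f, inferInstance, pullback.snd y' f,
      (pullback.condition (f := y') (g := f)).symm⟩
  have h := (Presheaf.isLocallySurjective_presheafToSheaf_map_iff (regularTopology A)
    (preadditiveYoneda.map f)).2 this
  haveI : Sheaf.IsLocallySurjective ((preadditiveYoneda ⋙
    presheafToSheaf (regularTopology A) AddCommGrpCat.{u}).map f) := h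
  exact Sheaf.epi_of_isLocallySurjective ((preadditiveYoneda ⋙
    presheafToSheaf (regularTopology A) AddCommGrpCat.{u}).map f)

end

open CategoryTheory.Limits in
/-- Let A be a small abelian category, made into a site by declaring the single epimorphisms to be
coverings (Mathlib's regular topology; the regularity instance is assumed). Then the functor X ↦
h_X, viewed in abelian sheaves (here: additive Yoneda followed by sheafification, which does not
change h_X since representables are sheaves), is fully faithful and exact, and the site has enough
points (a small conservative family of points, with fibre functors valued in Type u). -/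
theorem result {A : Type u} [SmallCategory A] [Abelian A] [Preregular A] :
    (preadditiveYoneda ⋙ presheafToSheaf (regularTopology A) AddCommGrpCat.{u}).Full ∧
    (preadditiveYoneda ⋙ presheafToSheaf (regularTopology A) AddCommGrpCat.{u}).Faithful ∧
    PreservesFiniteLimits (preadditiveYoneda ⋙ presheafToSheaf (regularTopology A) AddCommGrpCat.{u}) ∧
    PreservesFiniteColimits (preadditiveYoneda ⋙ presheafToSheaf (regularTopology A) AddCommGrpCat.{u}) ∧
    GrothendieckTopology.HasEnoughPoints.{u, u, u} (regularTopology A) := by
  let F := preadditiveYoneda ⋙ presheafToSheaf (regularTopology A) AddCommGrpCat.{u}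
  haveI hfull : (emb : A ⥤ Sheaf (regularTopology A) AddCommGrpCat.{u}).Full :=
    inferInstanceAs (ObjectProperty.lift _ preadditiveYoneda isSheaf_preadditiveYoneda).Full
  haveI hfaith : (emb : A ⥤ Sheaf (regularTopology A) AddCommGrpCat.{u}).Faithful :=
    inferInstanceAs (ObjectProperty.lift _ preadditiveYoneda isSheaf_preadditiveYoneda).Faithful
  haveI := preservesFiniteLimits_preadditiveYoneda (A := A)
  haveI hlim : PreservesFiniteLimits F := comp_preservesFiniteLimits _ _
  haveI : F.PreservesEpimorphisms := preservesEpimorphisms
  haveI : F.Additive := Functor.additive_of_preserves_binary_products F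
  haveI : F.PreservesHomology := Functor.preservesHomology_of_preservesEpis_and_kernels F
  refine ⟨Functor.Full.of_iso embIso, Functor.Faithful.of_iso embIso, hlim,
    Functor.preservesFiniteColimits_of_preservesHomology F, ?_⟩
  refine GrothLib.Deligne19.hasEnoughPoints fun W R hR => ?_
  obtain ⟨Y, π, hπ, hR⟩ := (regularTopology.mem_sieves_iff_hasEffectiveEpi R).1 hR
  refine ⟨1, fun _ => Y, fun _ => π, fun _ => hR,
    regularTopology.mem_sieves_of_hasEffectiveEpi _ ⟨Y, π, hπ, ?_⟩⟩
  exact Sieve.ofArrows_mk (fun _ : Fin 1 => Y) (fun _ => π) 0

end Groth.Agent.S0909
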