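import Groth.Statements.S0915
import Groth.Agent.Lib.OX.TorAmp

set_option autoImplicit false
universe u
open CategoryTheory
attribute [local instance] HasDerivedCategory.standard
open DCoh

namespace Groth.Agent.S0915

open AlgebraicGeometry CategoryTheory.Limits in
/-- On a scheme X, let K and L be objects of D(𝒪_X). If K ⊕ L has tor-amplitude in [a, b] then K and L
each have tor-amplitude in [a, b]. (The hypothesis is taken in the flat-representative form and the
conclusion in the derived-tensor form.) -/
theorem result {X : Scheme.{u}} (K L : DCoh.D X) [HasBinaryBiproduct K L] (a b : ℤ)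
    (h : DCoh.HasFlatAmplitudeIn a b (K ⊞ L)) : DCoh.HasTorAmplitudeIn a b K ∧ DCoh.HasTorAmplitudeIn a b L := by
  have hT := GrothLib.OX.hasTorAmplitudeIn_of_amp (GrothLib.OX.amp_of_vanishesOutside h)
  have key : ∀ {A : DCoh.D X} (i : A ⟶ K ⊞ L) (p : K ⊞ L ⟶ A), i ≫ p = 𝟙 A → DCoh.HasTorAmplitudeIn a b A := by
    intro A i p hip F hF n hn
    let G := DCoh.LTensorMod F ⋙ DerivedCategory.homologyFunctor X.Modules n
    have hz : IsZero (G.obj (K ⊞ L)) := hT F n hn
    have : G.map i ≫ G.map p = 𝟙 _ := by rw [← G.map_comp, hip, G.map_id]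
    exact (IsZero.iff_id_eq_zero _).2 (this.symm.trans (by rw [hz.eq_of_tgt (G.map i) 0, zero_comp]))
  exact ⟨key biprod.inl biprod.fst biprod.inl_fst, key biprod.inr biprod.snd biprod.inr_snd⟩

end Groth.Agent.S0915
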