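import Groth.Statements.S0916
import Groth.Agent.Lib.OX.TorOne

set_option autoImplicit false
universe u
open CategoryTheory
attribute [local instance] HasDerivedCategory.standard
open DCoh

namespace Groth.Agent.S0916

open AlgebraicGeometry CategoryTheory.Limits in
/-- Flatness of an O_X-module F (all stalks flat) is equivalent to the following Tor-vanishing: for
every O_X-module G the sheaf Tor_1(F, G), i.e. H^{-1} of F ⊗^L G, vanishes; the existence of the
derived tensor product with every G is assumed (hypothesis hL). -/
theorem result {X : Scheme.{u}} (F : X.Modules) (hL : ∀ G : X.Modules, DCoh.HasLTensorMod G) :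
    FlatMod.IsFlat F ↔ ∀ (G : X.Modules) [DCoh.HasLTensorMod G],
      IsZero (DCoh.HD ((DCoh.LTensorMod G).obj (DCoh.inD X F)) (-1)) := by
  refine ⟨fun hF G _ => ?_, fun h => GrothLib.OX.flat_of_tor_one F hL fun G => @h G (hL G)⟩
  refine GrothLib.OX.hasTorAmplitudeIn_of_amp (a := 0) (b := 0) (GrothLib.OX.amp_of_vanishesOutside ?_) G (-1)
    (Or.inl (by omega))
  exact ⟨(HomologicalComplex.single X.Modules (ComplexShape.up ℤ) 0).obj F,
    fun i hi => HomologicalComplex.isZero_single_obj_X _ 0 F i (by omega), GrothLib.OX.flatTerms_single F hF 0,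
    ⟨((DerivedCategory.singleFunctorIsoCompQ X.Modules 0).app F).symm⟩⟩

end Groth.Agent.S0916
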