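import Groth.Statements.S0917
import Groth.Agent.Lib.DerCat.Acyclic
import Groth.Agent.Lib.DerCat.Truncation
import Groth.Agent.Lib.CohDer19.Hull
-- import your own Groth.Agent.* helpers here

set_option autoImplicit false
universe v u
open CategoryTheory
open CohDer

namespace Groth.Agent.S0917

/-- In a Grothendieck abelian category A, given a small family (K_i) of acyclic cochain complexes, there
are an endofunctor N of the category of cochain complexes and a natural transformation j from the
identity to N such that for every complex M: each component of j_M is a monomorphism, j_M is a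
quasi-isomorphism, and for every i and every morphism w : K_i -> M the composite w ≫ j_M is
homotopic to zero. -/
theorem result {A : Type u} [Category.{v} A] [Abelian A]
    [IsGrothendieckAbelian.{v} A] {ι : Type v} (K : ι → CochainComplex A ℤ)
    (hK : ∀ i (n : ℤ), Limits.IsZero ((K i).homology n)) :
    ∃ (N : CochainComplex A ℤ ⥤ CochainComplex A ℤ) (j : 𝟭 _ ⟶ N),
      ∀ M : CochainComplex A ℤ, (∀ n : ℤ, Mono ((j.app M).f n)) ∧ QuasiIso (j.app M) ∧
        ∀ (i : ι) (w : K i ⟶ M), Nonempty (Homotopy (w ≫ j.app M) 0) := by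
  let S : CochainComplex A ℤ → CochainComplex A ℤ := fun M =>
    ∐ fun p : (i : ι) × (K i ⟶ M) => K p.1
  let φ : ∀ M, S M ⟶ M := fun M => Limits.Sigma.desc fun p => p.2
  let F : ∀ {M M' : CochainComplex A ℤ}, (M ⟶ M') → (S M ⟶ S M') := fun {M M'} f =>
    Limits.Sigma.desc fun p => Limits.Sigma.ι (fun q : (i : ι) × (K i ⟶ M') => K q.1) ⟨p.1, p.2 ≫ f⟩
  have hF : ∀ {M M' : CochainComplex A ℤ} (f : M ⟶ M'), φ M ≫ f = F f ≫ φ M' := fun f => by
    refine Limits.Sigma.hom_ext _ _ fun p => ?_
    simp [S, φ, F]
  let N : CochainComplex A ℤ ⥤ CochainComplex A ℤ :=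
    { obj := fun M => CochainComplex.mappingCone (φ M)
      map := fun {M M'} f => CochainComplex.mappingCone.map _ _ (F f) f (hF f)
      map_id := fun M => by
        have : F (𝟙 M) = 𝟙 _ := by
          refine Limits.Sigma.hom_ext _ _ fun p => ?_
          simp only [S, F, Limits.Sigma.ι_desc, Limits.Sigma.ι_desc_assoc, Category.comp_id]
          first
            | (rw [Category.assoc])
            | exact (by rintro w rfl; rfl : ∀ w : K p.1 ⟶ M, w = p.2 →
                Limits.Sigma.ι (fun q : (i : ι) × (K i ⟶ M) => K q.1) ⟨p.1, w⟩ =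
                  Limits.Sigma.ι (fun q : (i : ι) × (K i ⟶ M) => K q.1) p) _ (Category.comp_id _)
        simp [this, CochainComplex.mappingCone.map_id]
      map_comp := fun {M M' M''} f g => by
        have : F (f ≫ g) = F f ≫ F g := by
          refine Limits.Sigma.hom_ext _ _ fun p => ?_
          simp only [S, F, Limits.Sigma.ι_desc, Limits.Sigma.ι_desc_assoc, Category.comp_id]
          first
            | (rw [Category.assoc])
            | exact (by rintro w rfl; rfl : ∀ w : K p.1 ⟶ M, w = p.2 →
                Limits.Sigma.ι (fun q : (i : ι) × (K i ⟶ M) => K q.1) ⟨p.1, w⟩ =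
                  Limits.Sigma.ι (fun q : (i : ι) × (K i ⟶ M) => K q.1) p) _ (Category.comp_id _)
        simp only [this]
        exact CochainComplex.mappingCone.map_comp _ _ _ _ _ (hF f) _ _ (hF g) }
  let j : 𝟭 _ ⟶ N :=
    { app := fun M => CochainComplex.mappingCone.inr (φ M)
      naturality := fun M M' f => by simp [N, CochainComplex.mappingCone.map] }
  refine ⟨N, j, fun M => ⟨fun n => ?_, ?_, fun i w => ?_⟩⟩
  · have : Mono ((CochainComplex.mappingCone.inr (φ M)).f n ≫
        (CochainComplex.mappingCone.snd (φ M)).v n n (add_zero n)) := by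
      rw [CochainComplex.mappingCone.inr_f_snd_v]; infer_instance
    show Mono ((CochainComplex.mappingCone.inr (φ M)).f n)
    exact mono_of_mono _ ((CochainComplex.mappingCone.snd (φ M)).v n n (add_zero n))
  · letI := HasDerivedCategory.standard A
    haveI : Limits.HasFiniteBiproducts A := Limits.HasFiniteBiproducts.of_hasFiniteProducts
    haveI : AB4OfSize.{v} A := AB4.of_AB5 _
    haveI : HasExactColimitsOfShape (Discrete ((i : ι) × (K i ⟶ M))) A := AB4OfSize.ofShape _
    have hS : (S M).Acyclic := GrothLib.DerCat.acyclic_sigma _ fun p n =>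
      (HomologicalComplex.exactAt_iff_isZero_homology _ _).2 (hK p.1 n)
    have hZ : Limits.IsZero (DerivedCategory.Q.obj (S M)) :=
      GrothLib.DerTrunc.isZero_of_forall _ fun n => ((hS n).isZero_homology).of_iso
        ((DerivedCategory.homologyFunctorFactors A n).app (S M))
    rw [← DerivedCategory.isIso_Q_map_iff_quasiIso]
    exact (Pretriangulated.Triangle.isZero₁_iff_isIso₂ _
      (DerivedCategory.mappingCone_triangle_distinguished (φ M))).1 hZ
  · refine ⟨(Homotopy.ofEq ?_).trans (((HomologicalComplex.homotopyCofiber.inrCompHomotopy (φ M)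
      fun j => ⟨j - 1, sub_add_cancel j 1⟩).compLeft
        (Limits.Sigma.ι (fun p : (i : ι) × (K i ⟶ M) => K p.1) ⟨i, w⟩)).trans (Homotopy.ofEq Limits.comp_zero))⟩
    have : Limits.Sigma.ι (fun p : (i : ι) × (K i ⟶ M) => K p.1) ⟨i, w⟩ ≫ φ M = w := Limits.Sigma.ι_desc _ _
    rw [← Category.assoc, this]
    rfl

end Groth.Agent.S0917
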