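import Groth.Statements.S0918
import Groth.Agent.Lib.CohDer19.Hull
-- import your own Groth.Agent.* helpers here

set_option autoImplicit false
universe v u
open CategoryTheory
open CohDer

namespace Groth.Agent.S0918

/-- Let A be a Grothendieck abelian category. There are an endofunctor N of the category of cochain
complexes and a natural transformation j from the identity to N such that for every complex M: j_M
is a termwise monomorphism and a quasi-isomorphism, and for every n the map M^n -> N(M)^n factors
through a monomorphism I -> N(M)^n from an injective object I. -/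
theorem result {A : Type u} [Category.{v} A] [Abelian A]
    [IsGrothendieckAbelian.{v} A] :
    ∃ (N : CochainComplex A ℤ ⥤ CochainComplex A ℤ) (j : 𝟭 _ ⟶ N),
      ∀ M : CochainComplex A ℤ, (∀ n : ℤ, Mono ((j.app M).f n)) ∧ QuasiIso (j.app M) ∧
        ∀ n : ℤ, ∃ (I : A) (_ : Injective I) (a : M.X n ⟶ I) (b : I ⟶ (N.obj M).X n),
          Mono b ∧ a ≫ b = (j.app M).f n := by
  refine ⟨GrothLib.CohDer19.Hull.hull GrothLib.CohDer19.Hull.injFunctor GrothLib.CohDer19.Hull.injι,
    GrothLib.CohDer19.Hull.hullNat _ _, fun M => ?_⟩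
  let D := GrothLib.CohDer19.Hull.env (GrothLib.CohDer19.Hull.injFunctor (A := A)) M
  let π := GrothLib.CohDer19.Hull.coconeProj _ (GrothLib.CohDer19.Hull.injι (A := A)) M
  have hb : ∀ n : ℤ, Mono ((CochainComplex.mappingCocone.inl π).v n n (add_zero n)) := fun n =>
    mono_of_mono_fac (CochainComplex.mappingCocone.inl_v_fst_f π n)
  have hm : ∀ n : ℤ, Mono ((GrothLib.CohDer19.Hull.envι _ GrothLib.CohDer19.Hull.injι M).f n) :=
    GrothLib.CohDer19.Hull.mono_envι_f _ _ M
  have hf := GrothLib.CohDer19.Hull.hullι_f _ (GrothLib.CohDer19.Hull.injι (A := A)) M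
  refine ⟨fun n => ?_, GrothLib.CohDer19.Hull.quasiIso_hullι _ _ M, fun n =>
    ⟨D.X n, GrothLib.CohDer19.Hull.injective_env _ M n, _,
      (CochainComplex.mappingCocone.inl π).v n n (add_zero n), hb n, (hf n).symm⟩⟩
  have := hm n
  have := hb n
  show Mono ((GrothLib.CohDer19.Hull.hullι _ GrothLib.CohDer19.Hull.injι M).f n)
  rw [hf n]
  exact @mono_comp _ _ _ _ _ _ (hm n) _ (hb n)

end Groth.Agent.S0918
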