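import Groth.Statements.S0919
import Mathlib.CategoryTheory.Adjunction.AdjointFunctorTheorems
import Mathlib.CategoryTheory.Abelian.GrothendieckCategory.Coseparator
import Mathlib.CategoryTheory.Generator.Basic

set_option autoImplicit false
universe v u
open CategoryTheory
open CohDer

namespace Groth.Agent.S0919

open CategoryTheory.Limits in
/-- Let A be a Grothendieck abelian category and F a contravariant functor from A to sets (a functor on
the opposite category). Then F is representable if and only if F turns all small colimits of A into
limits, i.e. preserves small limits as a functor on the opposite category. -/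
theorem result {A : Type u} [Category.{v} A] [Abelian A]
    [IsGrothendieckAbelian.{v} A] (F : Aᵒᵖ ⥤ Type v) :
    F.IsRepresentable ↔ PreservesLimitsOfSize.{v, v} F := by
  constructor
  · intro h
    exact preservesLimits_of_natIso (Functor.representableBy F).toIso
  · intro h
    have hS : IsCoseparator (Opposite.op (separator A)) := (isCoseparator_op_iff _).2 (isSeparator_separator A)
    have : F.IsRightAdjoint := isRightAdjoint_of_preservesLimits_of_isCoseparating.{v} hS F
    let adj := Adjunction.ofIsRightAdjoint F
    refine Functor.RepresentableBy.isRepresentable (Y := (F.leftAdjoint.obj PUnit).unop)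
      { homEquiv := fun {Z} =>
          ((opEquiv (F.leftAdjoint.obj PUnit) (Opposite.op Z)).symm.trans (adj.homEquiv _ _)).trans
            (TypeCat.homEquiv.trans (Equiv.funUnique PUnit _))
        homEquiv_comp := fun f g => ?_ }
    simp [adj.homEquiv_unit, opEquiv]

end Groth.Agent.S0919
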