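import Groth.Statements.S0923
import Groth.Agent.Lib.OX.LocalHomotopy

set_option autoImplicit false
universe u
open CategoryTheory
attribute [local instance] HasDerivedCategory.standard
open DCoh

namespace Groth.Agent.S0923

open AlgebraicGeometry CategoryTheory.Limits in
/-- On a scheme X, an object E of D(𝒪_X) is perfect if and only if every point has an open neighbourhood
V such that the restriction to V of any complex representing E is isomorphic in D(𝒪_V) to a bounded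
complex each of whose terms is isomorphic to a finite free 𝒪_V-module. (The published statement is
for ringed spaces whose stalks are local rings and lists further equivalent conditions; here X is a
scheme and only this equivalence is stated.) -/
theorem result {X : Scheme.{u}} (E : DCoh.D X) :
    DCoh.IsPerfect E ↔ ∀ x : X, ∃ V : X.Opens, x ∈ V ∧
      ∀ F : CochainComplex X.Modules ℤ, Nonempty (DCoh.toD X F ≅ E) →
        ∃ (P : CochainComplex (V : Scheme.{u}).Modules ℤ) (a b : ℤ), DCoh.VanishesOutside P a b ∧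
          (∀ i : ℤ, ∃ n : ℕ, Nonempty (P.X i ≅ FlatMod.freeMod (V : Scheme.{u}) n)) ∧
          Nonempty (DerivedCategory.Q.obj ((DCoh.restrictCx V).obj F) ≅ DerivedCategory.Q.obj P) := by
  refine ⟨fun h x => ?_, fun h x => ?_⟩
  · obtain ⟨V, hxV, hV⟩ := h x
    obtain ⟨F₀, ⟨e₀⟩⟩ : ∃ F₀ : CochainComplex X.Modules ℤ, Nonempty (DCoh.toD X F₀ ≅ E) :=
      ⟨DerivedCategory.Q.objPreimage E, ⟨DerivedCategory.Q.objObjPreimageIso E⟩⟩
    obtain ⟨E₀, ⟨⟨a, b, hab⟩, hfl⟩, ⟨q⟩⟩ := hV F₀ ⟨e₀⟩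
    choose U n hxU hn using fun i => hfl i ⟨x, hxV⟩
    let W : (V : Scheme.{u}).Opens := (Finset.Icc a b).inf U
    have hW : ∀ i ∈ Finset.Icc a b, W ≤ U i := fun i hi => Finset.inf_le hi
    let pt : (V : Scheme.{u}) := ⟨x, hxV⟩
    have hxW : pt ∈ W :=
      Finset.inf_induction (p := fun O : (V : Scheme.{u}).Opens => pt ∈ O) trivial
        (fun _ ha _ hb => ⟨ha, hb⟩) (fun i _ => hxU i)
    let V' : X.Opens := V.ι ''ᵁ W
    have hle : V' ≤ V := V.ι_image_le W
    have hg : X.homOfLE hle = (V.ι.isoImage W).inv ≫ W.ι := by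
      rw [← cancel_mono V.ι, X.homOfLE_ι, Category.assoc, Iso.eq_inv_comp]
      exact Scheme.Hom.isoImage_hom_ι _ _
    let G := Scheme.Modules.restrictFunctor (X.homOfLE hle)
    refine ⟨V', ⟨pt, hxW, rfl⟩, fun F ⟨eF⟩ => ⟨(GrothLib.OX.resCx (X.homOfLE hle)).obj E₀, a, b,
      fun i hi => G.map_isZero (hab i hi), fun i => ?_, ?_⟩⟩
    · by_cases hi : i ∈ Finset.Icc a b
      · obtain ⟨t⟩ := GrothLib.DCoh.exists_free_restrict_le (hW i hi) (hn i).some
        exact ⟨n i, ⟨(Scheme.Modules.restrictFunctorCongr hg ≪≫ Scheme.Modules.restrictFunctorComp _ _).app _ ≪≫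
          (Scheme.Modules.restrictFunctor (V.ι.isoImage W).inv).mapIso t ≪≫ GrothLib.DCoh.restrictFreeModIso _ _⟩⟩
      · refine ⟨0, ⟨IsZero.iso (G.map_isZero (hab i ?_)) ?_⟩⟩
        · rw [Finset.mem_Icc] at hi
          omega
        · rw [IsZero.iff_id_eq_zero]
          exact Sigma.hom_ext _ _ fun j => Fin.elim0 j
    · obtain ⟨j⟩ := GrothLib.OX.nonempty_iso_restrictCx V (eF ≪≫ e₀.symm)
      obtain ⟨k⟩ := GrothLib.DerCat.nonempty_iso_map G (j ≪≫ q)
      exact ⟨DerivedCategory.Q.mapIso ((NatIso.mapHomologicalComplex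
        (Scheme.Modules.restrictFunctorCongr (X.homOfLE_ι hle).symm) (ComplexShape.up ℤ) ≪≫
        GrothLib.OX.resCxCompIso (X.homOfLE hle) V.ι).app F) ≪≫ k⟩
  · obtain ⟨V, hxV, hV⟩ := h x
    refine ⟨V, hxV, fun F hF => ?_⟩
    obtain ⟨P, a, b, hab, hfree, q⟩ := hV F hF
    refine ⟨P, ⟨⟨a, b, hab⟩, fun i => ?_⟩, q⟩
    obtain ⟨n, ⟨e⟩⟩ := hfree i
    exact GrothLib.DCoh.isFinLocFree_of_iso e.symm fun y =>
      ⟨⊤, n, trivial, ⟨GrothLib.DCoh.restrictFreeModIso _ n⟩⟩

end Groth.Agent.S0923
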