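import Groth.Statements.S0930
import Groth.Agent.S12541
import Groth.Agent.Lib.SheafCoh.PushInj

set_option autoImplicit false
universe u
open CategoryTheory
attribute [local instance] HasDerivedCategory.standard
open CohTop

namespace Groth.Agent.S0930

/-- Two right derived functors of the same functor are isomorphic. -/
theorem nonempty_iso_of_isRightDerivedFunctor {C D H : Type*} [Category C] [Category D] [Category H]
    {L : C ⥤ D} {F : C ⥤ H} {W : MorphismProperty C} [L.IsLocalization W] {RF RF' : D ⥤ H}
    {α : F ⟶ L ⋙ RF} {α' : F ⟶ L ⋙ RF'} (h : RF.IsRightDerivedFunctor α W)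
    (h' : RF'.IsRightDerivedFunctor α' W) : Nonempty (RF ≅ RF') :=
  ⟨Functor.rightDerivedUnique RF RF' α α' W⟩

/-- For continuous maps f : X -> Y and g : Y -> Z, the composite of the right derived functors Rf_* :
D^+(X) -> D^+(Y) and Rg_* : D^+(Y) -> D^+(Z) is isomorphic to R(g ∘ f)_* (existence of an
isomorphism of functors between bounded below derived categories). -/
theorem result {X Y Z : TopCat.{u}} (f : X ⟶ Y) (g : Y ⟶ Z) :
    Nonempty ((CohTop.push f).rightDerivedFunctorPlus ⋙ (CohTop.push g).rightDerivedFunctorPlus ≅
      (CohTop.push (f ≫ g)).rightDerivedFunctorPlus) := by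
  haveI : ∀ {U V : TopCat.{u}} (h : U ⟶ V), Limits.PreservesFiniteLimits (CohTop.push h) :=
    fun {U V} h =>
      haveI := (TopCat.Sheaf.pullbackPushforwardAdjunction AddCommGrpCat.{u} h).rightAdjoint_preservesLimits
        (F := CohTop.pull h) (G := CohTop.push h)
      inferInstanceAs (Limits.PreservesFiniteLimits (CohTop.push h))
  have h := Groth.Agent.S12541.result (CohTop.push f) (CohTop.push g) fun I hI => by
    refine (GrothLib.CohDer19.isIso_unit_single_iff _ _).2 ⟨?_, fun i hi => ?_⟩
    · exact inferInstance
    · obtain ⟨k, rfl⟩ : ∃ k, i = k + 1 := ⟨i - 1, by omega⟩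
      haveI : Injective ((CohTop.push f).obj I) := GrothLib.SheafCoh.injective_push f I
      exact (CohTop.push g).isZero_rightDerived_obj_injective_succ k _
  exact nonempty_iso_of_isRightDerivedFunctor h
    (show ((CohTop.push f ⋙ CohTop.push g).rightDerivedFunctorPlus.IsRightDerivedFunctor
      (CohTop.push f ⋙ CohTop.push g).rightDerivedFunctorPlusUnit (HomotopyCategory.Plus.quasiIso _))
      from inferInstance)

end Groth.Agent.S0930
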