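import Groth.Statements.S0934
import Groth.Agent.Lib.OX.LocalLift

set_option autoImplicit false
universe u
open CategoryTheory
open Coh

namespace Groth.Agent.S0934

open AlgebraicGeometry in
/-- Schemes; E finite locally free, which on a scheme is locally the same as a direct summand of a
finite free module: let p : G -> F be an epimorphism of O_X-modules and φ : E -> F a morphism with E
finite locally free. Then every point has an open neighbourhood V and a morphism ψ : E|_V -> G|_V
with ψ ≫ p|_V = φ|_V. -/
theorem result {X : Scheme.{u}} {E F G : X.Modules} (p : G ⟶ F) [Epi p] (φ : E ⟶ F)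
    (hE : FlatMod.IsFinLocFree E) (x : X) :
    ∃ (V : X.Opens) (ψ : E.restrict V.ι ⟶ G.restrict V.ι), x ∈ V ∧
      ψ ≫ (Scheme.Modules.restrictFunctor V.ι).map p = (Scheme.Modules.restrictFunctor V.ι).map φ := by
  obtain ⟨U, j, hj, h, hx, hh⟩ := GrothLib.OX.exists_local_lift hE p φ x
  let e := j.isoOpensRange
  let R' := Scheme.Modules.restrictFunctor e.inv
  let c := Scheme.Modules.restrictFunctorCongr
      (show j.opensRange.ι = e.inv ≫ j by
        rw [Iso.eq_inv_comp]
        exact j.isoOpensRange_hom_ι) ≪≫ Scheme.Modules.restrictFunctorComp e.inv j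
  refine ⟨j.opensRange, c.hom.app E ≫ R'.map h ≫ c.inv.app G, hx, ?_⟩
  simp only [Category.assoc]
  refine (((congrArg (fun t => c.hom.app E ≫ R'.map h ≫ t) (c.inv.naturality p).symm).trans
    (congrArg (fun t => c.hom.app E ≫ t) ((Category.assoc _ _ _).symm.trans
      (congrArg (· ≫ c.inv.app F) ((R'.map_comp _ _).symm.trans (congrArg R'.map hh)))))).trans
    (congrArg (c.hom.app E ≫ ·) (c.inv.naturality φ))).trans (Iso.hom_inv_id_app_assoc c E _)

end Groth.Agent.S0934
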