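import Groth.Statements.S0942
import Groth.Agent.Lib.SheafCoh.OverLan
import Groth.Agent.Lib.KInj.Adjoint
-- import your own Groth.Agent.* helpers here

set_option autoImplicit false
universe u
open CategoryTheory
open CohSite

namespace Groth.Agent.S0942

/-- Let U be an object of a site and I a K-injective complex of abelian sheaves. Then the restriction of
I to the site of objects over U (precomposition with the forgetful functor from the over category)
is a K-injective complex. -/
theorem result {C : Type u} [SmallCategory C] (J : GrothendieckTopology C) (U : C)
    (I : CochainComplex (Sheaf J AddCommGrpCat.{u}) ℤ) (hI : I.IsKInjective) :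
    CochainComplex.IsKInjective ((((Over.forget U).sheafPushforwardContinuous AddCommGrpCat.{u} (J.over U) J).mapHomologicalComplex
      (ComplexShape.up ℤ)).obj I) := by
  let G := (Over.forget U).sheafPushforwardContinuous AddCommGrpCat.{u} (J.over U) J
  let L := (Over.forget U).sheafPullback AddCommGrpCat.{u} (J.over U) J
  let adj : L ⊣ G := (Over.forget U).sheafAdjunctionContinuous AddCommGrpCat.{u} (J.over U) J
  have := GrothLib.SheafCoh.preservesFiniteLimits_sheafPullback_forget U J
  have : Limits.PreservesColimitsOfSize.{0, 0} L := adj.leftAdjoint_preservesColimits
  have : G.Additive := inferInstance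
  have : L.Additive := adj.left_adjoint_additive
  rw [CochainComplex.isKInjective_iff_rightOrthogonal] at hI ⊢
  exact GrothLib.KInj.rightOrthogonal_map adj hI

end Groth.Agent.S0942
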