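import Groth.Statements.S0944
import Groth.Agent.Lib.OX.LocalHomotopy

set_option autoImplicit false
universe u
open CategoryTheory
attribute [local instance] HasDerivedCategory.standard
open DCoh

namespace Groth.Agent.S0944

open AlgebraicGeometry CategoryTheory.Limits in
/-- Let X be a scheme, E a strictly perfect complex of O_X-modules, F any complex of O_X-modules and α :
E → F a morphism in the derived category D(O_X). Then every point of X has an open neighbourhood V
such that the restriction of α to D(O_V) is induced by an actual morphism of complexes E|_V → F|_V,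
the two being compared through the canonical identification of restricting-then-localising with
localising-then-restricting. (Stated for schemes. The published statement has a second part, which
is not asserted here. Restriction D(O_X) → D(O_V) is the prelude's functor DCoh.restrictD, which is
available under the binder that restriction of O_X-modules to V preserves finite limits; the
conclusion is stated under that binder.) -/
theorem result {X : Scheme.{u}} {E F : CochainComplex X.Modules ℤ}
    (hE : DCoh.IsStrictlyPerfect E) (α : DCoh.toD X E ⟶ DCoh.toD X F) (x : X) :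
    ∃ V : X.Opens, x ∈ V ∧ ∀ [PreservesFiniteLimits (Scheme.Modules.restrictFunctor V.ι)],
      ∃ β : (DCoh.restrictCx V).obj E ⟶ (DCoh.restrictCx V).obj F,
        (DCoh.restrictD V.ι).map α =
          (Scheme.Modules.restrictFunctor V.ι).mapDerivedCategoryFactors.hom.app E ≫ DerivedCategory.Q.map β ≫
            (Scheme.Modules.restrictFunctor V.ι).mapDerivedCategoryFactors.inv.app F := by
  obtain ⟨G, s, hs, g, rfl⟩ := DerivedCategory.right_fac α
  have : QuasiIso s := (DerivedCategory.isIso_Q_map_iff_quasiIso _ s).1 hs
  obtain ⟨⟨a, b, hab⟩, hfl⟩ := hE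
  obtain ⟨V, β, hx, ⟨hβ⟩⟩ := GrothLib.OX.exists_open_lift (𝟙 E) s ⟨⟨a, b, hab⟩, hfl⟩ a
    (fun j hj => hab j (Or.inl hj)) (fun j _ => inferInstance) inferInstance x
  refine ⟨V, hx, ?_⟩
  intro
  refine ⟨β ≫ (DCoh.restrictCx V).map g, ?_⟩
  let Φ := (Scheme.Modules.restrictFunctor V.ι).mapDerivedCategoryFactors
  let R := (Scheme.Modules.restrictFunctor V.ι).mapDerivedCategory
  have hn : ∀ {A B : CochainComplex X.Modules ℤ} (f : A ⟶ B), R.map (DerivedCategory.Q.map f) =
      Φ.hom.app A ≫ DerivedCategory.Q.map ((DCoh.restrictCx V).map f) ≫ Φ.inv.app B := fun f =>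
    (NatIso.naturality_2 Φ f).symm
  have h1 : R.map (inv (DerivedCategory.Q.map s)) = Φ.hom.app E ≫ DerivedCategory.Q.map β ≫ Φ.inv.app G := by
    rw [Functor.map_inv]
    apply IsIso.inv_eq_of_inv_hom_id
    rw [hn s, Category.assoc, Category.assoc, Iso.inv_hom_id_app_assoc, ← Functor.map_comp_assoc,
      DerivedCategory.Q_map_eq_of_homotopy _ hβ, CategoryTheory.Functor.map_id, CategoryTheory.Functor.map_id,
      Category.id_comp, Iso.hom_inv_id_app]
    rfl
  refine (R.map_comp _ _).trans ?_
  rw [h1, hn g, Category.assoc, Category.assoc, Iso.inv_hom_id_app_assoc, ← Functor.map_comp_assoc]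

end Groth.Agent.S0944
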