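import Groth.Statements.S0947
import Groth.Agent.Lib.Spectral25.Pull
-- import your own Groth.Agent.* helpers here

set_option autoImplicit false
universe u
open CategoryTheory
open CohTop

namespace Groth.Agent.S0947

section
open TopologicalSpace Opposite CategoryTheory.Limits GrothLib.PBC25 GrothLib.Spectral25

set_option backward.isDefEq.respectTransparency false
set_option backward.isDefEq.respectTransparency.types false

variable {X : TopCat.{u}} (E : Set X)

/-- The points specializing to a point of `E`. -/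
abbrev gen : Set X := {x : X | ∃ e ∈ E, e ∈ closure {x}}

/-- The compact open neighbourhoods of `E`. -/
abbrev qcNbhd : ObjectProperty (Opens X)ᵒᵖ := fun U => E ⊆ (U.unop : Set X) ∧ IsCompact (U.unop : Set X)

/-- The compact open neighbourhoods, as a set. -/
abbrev P : Set (Opens X) := {U | qcNbhd E (op U)}

theorem gen_subset {U : Opens X} (hU : E ⊆ (U : Set X)) : gen E ⊆ (U : Set X) := by
  rintro x ⟨e, he, hex⟩
  obtain ⟨w, hw, hwx⟩ := mem_closure_iff.1 hex U U.isOpen (hU he)
  rwa [Set.mem_singleton_iff.1 hwx] at hw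

theorem tube [SpectralSpace X] (hE : IsCompact E) : Tube (gen E) (P E) := by
  classical
  refine tube_of_inter _ _ (fun U hU => hU.2) (fun U hU => gen_subset E hU.1)
    ⟨fun _ _ => trivial, isCompact_univ⟩
    (fun U hU V hV => ⟨fun x hx => ⟨hU.1 hx, hV.1 hx⟩,
      QuasiSeparatedSpace.inter_isCompact _ _ U.isOpen hU.2 V.isOpen hV.2⟩) fun x hx => ?_
  have h : ∀ e : E, ∃ B : Opens X, IsCompact (B : Set X) ∧ e.1 ∈ B ∧ x ∉ B := fun e => by
    obtain ⟨B, ⟨hBo, hBc⟩, heB, hB⟩ :=
      (PrespectralSpace.isTopologicalBasis (X := X)).exists_subset_of_mem_open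
        (show e.1 ∈ (closure {x})ᶜ from fun h => hx ⟨e.1, e.2, h⟩) isClosed_closure.isOpen_compl
    exact ⟨⟨B, hBo⟩, hBc, heB, fun h => hB h (subset_closure rfl)⟩
  choose B hB heB hxB using h
  obtain ⟨T, hT⟩ := hE.elim_finite_subcover (fun e : E => (B e : Set X)) (fun e => (B e).isOpen)
    (fun y hy => Set.mem_iUnion.2 ⟨⟨y, hy⟩, heB ⟨y, hy⟩⟩)
  refine ⟨T.sup B, ⟨fun y hy => ?_, ?_⟩, ?_⟩
  · obtain ⟨a, ha, hy'⟩ := Set.mem_iUnion₂.1 (hT hy)
    exact (Finset.le_sup ha : B a ≤ T.sup B) hy'
  · change IsCompact ((T.sup B : Opens X) : Set X)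
    rw [Opens.coe_finset_sup, Finset.sup_set_eq_biUnion]
    exact T.isCompact_biUnion fun e _ => hB e
  · intro h
    change x ∈ ((T.sup B : Opens X) : Set X) at h
    rw [Opens.coe_finset_sup, Finset.sup_set_eq_biUnion] at h
    obtain ⟨a, -, ha⟩ := Set.mem_iUnion₂.1 h
    exact hxB a ha

theorem isFiltered_qcNbhd [SpectralSpace X] (_hE : IsCompact E) :
    IsFiltered (qcNbhd E).FullSubcategory where
  cocone_objs A B :=
    ⟨⟨op (A.obj.unop ⊓ B.obj.unop), fun x hx => ⟨A.property.1 hx, B.property.1 hx⟩,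
        QuasiSeparatedSpace.inter_isCompact _ _ A.obj.unop.isOpen A.property.2 B.obj.unop.isOpen
          B.property.2⟩,
      ObjectProperty.homMk (homOfLE inf_le_left).op, ObjectProperty.homMk (homOfLE inf_le_right).op,
      trivial⟩
  cocone_maps A B a b := ⟨B, 𝟙 B, by
    rw [show a = b from InducedCategory.hom_ext (Subsingleton.elim _ _)]⟩
  nonempty := ⟨⟨op ⊤, fun _ _ => trivial, isCompact_univ⟩⟩

/-- Colimit over the compact open neighbourhoods. -/
noncomputable abbrev qcColim : ((Opens X)ᵒᵖ ⥤ AddCommGrpCat.{u}) ⥤ AddCommGrpCat.{u} :=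
  (Functor.whiskeringLeft _ _ AddCommGrpCat.{u}).obj (qcNbhd E).ι ⋙ colim

theorem top_le {U : (Opens X)ᵒᵖ} (hU : qcNbhd E U) :
    (⊤ : Opens (TopCat.of (gen E))) ≤ (Opens.map (subIncl (gen E))).obj U.unop :=
  fun z _ => gen_subset E hU.1 z.2

/-- The cocone of restrictions. -/
noncomputable def genCocone (F : CohTop.Ab X) : Cocone ((qcNbhd E).ι ⋙ F.obj) where
  pt := ((CohTop.pull (subIncl (gen E))).obj F).obj.obj (op ⊤)
  ι :=
    { app := fun U => AddCommGrpCat.ofHom (sec (subIncl (gen E)) F (top_le E U.property))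
      naturality := fun U V a => by
        ext g
        exact sec_res (subIncl (gen E)) F (leOfHom a.hom.unop) (top_le E V.property) g }

/-- Restriction to the subspace from the colimit of sections. -/
noncomputable def toGen (F : CohTop.Ab X) :
    (qcColim E).obj F.obj ⟶ ((CohTop.pull (subIncl (gen E))).obj F).obj.obj (op ⊤) :=
  colimit.desc _ (genCocone E F)

theorem toGen_ι (F : CohTop.Ab X) (U : (qcNbhd E).FullSubcategory) (g : F.obj.obj U.obj) :
    toGen E F (colimit.ι ((qcNbhd E).ι ⋙ F.obj) U g) =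
      sec (subIncl (gen E)) F (top_le E U.property) g :=
  ConcreteCategory.congr_hom (colimit.ι_desc (genCocone E F) U) g

theorem bijective_toGen [SpectralSpace X] (hE : IsCompact E) (F : CohTop.Ab X) :
    Function.Bijective (toGen E F) := by
  have := isFiltered_qcNbhd E hE
  constructor
  · rw [injective_iff_map_eq_zero]
    intro a ha
    obtain ⟨U, g, rfl⟩ := Concrete.colimit_exists_rep _ a
    replace ha := (toGen_ι E F U g).symm.trans ha
    obtain ⟨V, hVP, hV, h0⟩ := (tube E hE).exists_zero F (top_le E U.property) g ha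
    let B : (qcNbhd E).FullSubcategory := ⟨op V, hVP⟩
    refine (colimit.w_apply ((qcNbhd E).ι ⋙ F.obj)
      (ObjectProperty.homMk (homOfLE hV).op : U ⟶ B) g).symm.trans ?_
    exact (congrArg (colimit.ι ((qcNbhd E).ι ⋙ F.obj) B) h0).trans (map_zero _)
  · intro t
    obtain ⟨V, hVP, hg⟩ := (tube E hE).exists_sec F t
    let B : (qcNbhd E).FullSubcategory := ⟨op V, hVP⟩
    obtain ⟨g, e⟩ := hg (top_le E B.property)
    exact ⟨colimit.ι ((qcNbhd E).ι ⋙ F.obj) B g, (toGen_ι E F B g).trans e⟩

theorem toGen_naturality {F G : CohTop.Ab X} (φ : F ⟶ G) :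
    (qcColim E).map φ.hom ≫ toGen E G =
      toGen E F ≫ ((CohTop.pull (subIncl (gen E))).map φ).hom.app (op ⊤) := by
  refine colimit.hom_ext fun U => ?_
  ext g
  refine (congrArg (toGen E G) (ConcreteCategory.congr_hom
    (ι_colimMap (Functor.whiskerLeft (qcNbhd E).ι φ.hom) U) g)).trans ?_
  refine (toGen_ι E G U _).trans ?_
  exact (app_sec (subIncl (gen E)) F φ (top_le E U.property) g).symm.trans
    (congrArg (((CohTop.pull (subIncl (gen E))).map φ).hom.app (op ⊤)) (toGen_ι E F U g)).symm

theorem nonempty_iso [SpectralSpace X] (hE : IsCompact E) (F : CohTop.Ab X) (p : ℕ) :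
    Nonempty ((qcColim E).obj (Sheaf.cohomologyPresheaf.{u} F p) ≅
      AddCommGrpCat.of (CohTop.H ((CohTop.pull (subIncl (gen E))).obj F) p)) := by
  have := isFiltered_qcNbhd E hE
  have := additive_pull (subIncl (gen E))
  have := GrothLib.SheafCoh.preservesFiniteLimits_pull (subIncl (gen E))
  have : (qcColim E).PreservesHomology := Functor.preservesHomologyOfExact _
  have : (qcColim E).Additive := Functor.additive_of_preserves_binary_products _
  let Φ := CohTop.pull (subIncl (gen E)) ⋙
    GrothLib.GrothSS.secAt (Opens.grothendieckTopology (TopCat.of (gen E))) ⊤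
  let e : sheafToPresheaf (Opens.grothendieckTopology X) AddCommGrpCat.{u} ⋙ qcColim E ≅ Φ :=
    NatIso.ofComponents
      (fun F => (AddEquiv.ofBijective (toGen E F).hom (bijective_toGen E hE F)).toAddCommGrpIso)
      (fun φ => toGen_naturality E φ)
  obtain ⟨e'⟩ := (tube E hE).nonempty_rightDerived_sub F p
  exact ⟨(GrothLib.SheafCoh.rightDerivedCompIso Φ (qcColim E) e.symm F p).symm ≪≫ e'⟩

end


open TopologicalSpace Opposite CategoryTheory.Limits in
/-- Let X be a spectral space, F an abelian sheaf on X, E ⊆ X a quasi-compact subset and W the set of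
points of X specializing to some point of E. Then for every p the group H^p(W, F|_W) (cohomology of
the pullback of F to the subspace W) is isomorphic to the colimit of the groups H^p(U, F) over the
quasi-compact open neighbourhoods U of E (existence of an isomorphism). -/
theorem result {X : TopCat.{u}} [SpectralSpace X] (E : Set X)
    (hE : IsCompact E) (F : CohTop.Ab X) (p : ℕ) :
    Nonempty ((colimit (ObjectProperty.ι (fun U : (Opens X)ᵒᵖ => E ⊆ (U.unop : Set X) ∧ IsCompact (U.unop : Set X)) ⋙
        (Sheaf.cohomologyPresheafFunctor (Opens.grothendieckTopology X) p).obj F) : AddCommGrpCat.{u}) ≃+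
      CohTop.H ((CohTop.pull (TopCat.ofHom ⟨Subtype.val, continuous_subtype_val⟩ :
        TopCat.of {x : X | ∃ e ∈ E, e ∈ closure {x}} ⟶ X)).obj F) p) := by
  obtain ⟨e⟩ := nonempty_iso E hE F p
  exact ⟨e.addCommGroupIsoToAddEquiv⟩

end Groth.Agent.S0947
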