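import Groth.Statements.S0949
import Groth.Agent.Lib.OX.LTensorCx

set_option autoImplicit false
universe u
open CategoryTheory
attribute [local instance] HasDerivedCategory.standard
open DCoh

namespace Groth.Agent.S0949

open AlgebraicGeometry in
/-- Let K be a K-flat complex of O_X-modules. Then for every quasi-isomorphism f : F -> G of complexes
of O_X-modules the induced map F ⊗ K -> G ⊗ K of total tensor complexes is a quasi-isomorphism. -/
theorem result {X : Scheme.{u}} (K : CochainComplex X.Modules ℤ) (hK : DCoh.IsKFlat K)
    {F G : CochainComplex X.Modules ℤ} (f : F ⟶ G) [QuasiIso f] :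
    QuasiIso ((DCoh.tensorCx.map f).app K) := by
  exact GrothLib.OX.quasiIso_map_of_isKFlat f K hK

end Groth.Agent.S0949
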