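import Groth.Statements.S0961
import Groth.Agent.Lib.OX.ProjPerfect

set_option autoImplicit false
universe u
open CategoryTheory
attribute [local instance] HasDerivedCategory.standard
open DCoh

namespace Groth.Agent.S0961

open AlgebraicGeometry in
/-- Schemes; K given by a K-flat complex P representing a perfect object, so that Lf^*K is f^*P: for f :
X -> Y, E in D(O_X) and such a P there is an isomorphism Rf_* E ⊗^L P ≅ Rf_*(E ⊗^L f^* P). The
derived functors are taken under their existence binders. -/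
theorem result {X Y : Scheme.{u}} (f : X ⟶ Y) [DCoh.HasRpush f] (P : CochainComplex Y.Modules ℤ)
    (hP : DCoh.IsKFlat P) (hperf : DCoh.IsPerfect (DerivedCategory.Q.obj P))
    [DCoh.HasLTensorCx P] [DCoh.HasLTensorCx (((Scheme.Modules.pullback f).mapHomologicalComplex (ComplexShape.up ℤ)).obj P)] (E : DCoh.D X) :
    Nonempty ((DCoh.LTensorCx P).obj ((DCoh.Rpush f).obj E) ≅
      (DCoh.Rpush f).obj ((DCoh.LTensorCx (((Scheme.Modules.pullback f).mapHomologicalComplex (ComplexShape.up ℤ)).obj P)).obj E)) := by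
  obtain ⟨A, i, hi, hA, hA'⟩ := GrothLib.KInj.exists_kInjective_resolution _ (DerivedCategory.Q.objPreimage E)
  let e : DerivedCategory.Q.obj A ≅ E :=
    (asIso (DerivedCategory.Q.map i)).symm ≪≫ DerivedCategory.Q.objObjPreimageIso E
  let qi := DerivedCategory.quotientCompQhIso Y.Modules
  let qiX := DerivedCategory.quotientCompQhIso X.Modules
  have hproj := GrothLib.OX.isIso_projD_of_perfect f (A := A) ⟨hA', hA⟩ P hP hperf
  have hu : IsIso (GrothLib.OX.pushUnit f A) :=
    GrothLib.OX.map_isIso_of (DCoh.pushKh f)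
      (GrothLib.KInj.isIso_unit_of_rightOrthogonal (CochainComplex.IsKInjective.rightOrthogonal A))
  let R := GrothLib.OX.rpushIsoRres f
  let a : (DCoh.Rpush f).obj E ≅ DerivedCategory.Q.obj ((GrothLib.OX.pushCxF f).obj A) :=
    R.app E ≪≫ (GrothLib.SiteDer.Rres (GrothLib.OX.rmor f)).mapIso ((qiX.app A) ≪≫ e).symm ≪≫
      (@asIso _ _ _ _ _ hu).symm ≪≫ qi.app _
  obtain ⟨v⟩ := GrothLib.OX.ltensorCx_value_of_isKFlat P hP ((GrothLib.OX.pushCxF f).obj A)
  obtain ⟨w⟩ := GrothLib.OX.ltensorCx_value_of_isKFlat _ (GrothLib.OX.isKFlat_pullback f hP) A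
  exact ⟨(DCoh.LTensorCx P).mapIso a ≪≫ v ≪≫ DerivedCategory.Q.mapIso (GrothLib.OX.tensorCxSymm _ _) ≪≫
    (qi.app _).symm ≪≫ @asIso _ _ _ _ _ hproj ≪≫
    (GrothLib.SiteDer.Rres (GrothLib.OX.rmor f)).mapIso
      (qiX.app _ ≪≫ DerivedCategory.Q.mapIso (GrothLib.OX.tensorCxSymm _ _) ≪≫ w.symm ≪≫
        (DCoh.LTensorCx _).mapIso e) ≪≫ (R.app _).symm⟩

end Groth.Agent.S0961
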