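import Groth.Statements.S0962
import Groth.Agent.Lib.OX.PerfectLemmas

set_option autoImplicit false
universe u
open CategoryTheory
attribute [local instance] HasDerivedCategory.standard
open DCoh

namespace Groth.Agent.S0962

open AlgebraicGeometry in
/-- Schemes; second factor given by a K-flat complex representing a perfect object: if K in D(O_X) is
perfect and L is a K-flat complex with perfect image in D(O_X), then K ⊗^L L is perfect (derived
tensor under its existence binder). -/
theorem result {X : Scheme.{u}} (L : CochainComplex X.Modules ℤ) (hL : DCoh.IsKFlat L)
    (hLp : DCoh.IsPerfect (DerivedCategory.Q.obj L)) [DCoh.HasLTensorCx L] (K : DCoh.D X) (hK : DCoh.IsPerfect K) :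
    DCoh.IsPerfect ((DCoh.LTensorCx L).obj K) := by
  exact GrothLib.OX.isPerfect_ltensor L hL hLp hK

end Groth.Agent.S0962
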