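import Groth.Statements.S0966
import Groth.Agent.Lib.OX.ProjClosed

set_option autoImplicit false
universe u
open CategoryTheory
attribute [local instance] HasDerivedCategory.standard
open DCoh

namespace Groth.Agent.S0966

open AlgebraicGeometry in
/-- Schemes, f a closed immersion; K given by a K-flat complex P so that Lf^*K is f^*P: for E in D(O_X)
there is an isomorphism Rf_* E ⊗^L P ≅ Rf_*(E ⊗^L f^* P), with no perfectness assumption on P. The
derived functors are taken under their existence binders. -/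
theorem result {X Y : Scheme.{u}} (f : X ⟶ Y) [IsClosedImmersion f] [DCoh.HasRpush f]
    (P : CochainComplex Y.Modules ℤ) (hP : DCoh.IsKFlat P)
    [DCoh.HasLTensorCx P] [DCoh.HasLTensorCx (((Scheme.Modules.pullback f).mapHomologicalComplex (ComplexShape.up ℤ)).obj P)] (E : DCoh.D X) :
    Nonempty ((DCoh.LTensorCx P).obj ((DCoh.Rpush f).obj E) ≅
      (DCoh.Rpush f).obj ((DCoh.LTensorCx (((Scheme.Modules.pullback f).mapHomologicalComplex (ComplexShape.up ℤ)).obj P)).obj E)) := by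
  let A := DerivedCategory.Q.objPreimage E
  let e : DerivedCategory.Q.obj A ≅ E := DerivedCategory.Q.objObjPreimageIso E
  let qi := DerivedCategory.quotientCompQhIso Y.Modules
  let qiX := DerivedCategory.quotientCompQhIso X.Modules
  let R := GrothLib.OX.rpushIsoRres f
  let a : (DCoh.Rpush f).obj E ≅ DerivedCategory.Q.obj ((GrothLib.OX.pushCxF f).obj A) :=
    R.app E ≪≫ (GrothLib.SiteDer.Rres (GrothLib.OX.rmor f)).mapIso ((qiX.app A) ≪≫ e).symm ≪≫
      (@asIso _ _ _ _ _ (GrothLib.OX.isIso_pushUnit_closed f A)).symm ≪≫ qi.app _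
  obtain ⟨v⟩ := GrothLib.OX.ltensorCx_value_of_isKFlat P hP ((GrothLib.OX.pushCxF f).obj A)
  obtain ⟨w⟩ := GrothLib.OX.ltensorCx_value_of_isKFlat _ (GrothLib.OX.isKFlat_pullback f hP) A
  exact ⟨(DCoh.LTensorCx P).mapIso a ≪≫ v ≪≫ DerivedCategory.Q.mapIso (GrothLib.OX.tensorCxSymm _ _) ≪≫
    (qi.app _).symm ≪≫ @asIso _ _ _ _ _ (GrothLib.OX.isIso_projD_closed f P A) ≪≫
    (GrothLib.SiteDer.Rres (GrothLib.OX.rmor f)).mapIso
      (qiX.app _ ≪≫ DerivedCategory.Q.mapIso (GrothLib.OX.tensorCxSymm _ _) ≪≫ w.symm ≪≫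
        (DCoh.LTensorCx _).mapIso e) ≪≫ (R.app _).symm⟩

end Groth.Agent.S0966
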