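import Groth.Statements.S0969
import Mathlib.CategoryTheory.Adjunction.FullyFaithful

set_option autoImplicit false
universe v v' u u'
open CategoryTheory
open CohDer

namespace Groth.Agent.S0969

/-- Let F be an exact functor of pretriangulated categories which is fully faithful and has an exact
right adjoint G. If G kills only zero objects, then F is an equivalence of categories. -/
theorem result {D : Type u} [Category.{v} D] [Preadditive D] [Limits.HasZeroObject D] [HasShift D ℤ]
    [∀ n : ℤ, (shiftFunctor D n).Additive] [Pretriangulated D]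
    {D' : Type u'} [Category.{v'} D'] [Preadditive D'] [Limits.HasZeroObject D'] [HasShift D' ℤ]
    [∀ n : ℤ, (shiftFunctor D' n).Additive] [Pretriangulated D']
    [IsTriangulated D] [IsTriangulated D']
    (F : D ⥤ D') [F.CommShift ℤ] [F.IsTriangulated] (G : D' ⥤ D) [G.CommShift ℤ] [G.IsTriangulated]
    (adj : F ⊣ G) [F.Full] [F.Faithful] (hG : ∀ X : D', Limits.IsZero (G.obj X) → Limits.IsZero X) :
    F.IsEquivalence := by
  have hc : ∀ X, IsIso (adj.counit.app X) := fun X => by
    obtain ⟨C, g, h, hT⟩ := Pretriangulated.distinguished_cocone_triangle (adj.counit.app X)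
    have hG' : IsIso (G.map (adj.counit.app X)) := inferInstance
    have hz : Limits.IsZero (G.obj C) :=
      (Pretriangulated.Triangle.isZero₃_iff_isIso₁ _ (G.map_distinguished _ hT)).2 hG'
    exact (Pretriangulated.Triangle.isZero₃_iff_isIso₁ _ hT).1 (hG C hz)
  have : F.EssSurj := ⟨fun X => ⟨G.obj X, ⟨@asIso _ _ _ _ _ (hc X)⟩⟩⟩
  exact { }

end Groth.Agent.S0969
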