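import Groth.Statements.S0973
import Groth.Agent.Lib.ProTri.Derived

set_option autoImplicit false
universe w v u
open CategoryTheory CategoryTheory.Limits
open CohDer

namespace Groth.Agent.S0973

section
open CategoryTheory Limits Pretriangulated DerivedCategory GrothLib.DerTrunc

variable {A : Type u} [Category.{v} A] [Abelian A] [HasDerivedCategory.{w} A]

/-- Transport a vanishing of `Hom(M[-j], N[-i][1])` from an `Ext`-vanishing. -/
theorem single_vanish (i j : ℤ) (p : ℕ) (hp : (p : ℤ) = j + 1 - i) (M N : A)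
    (h : ∀ f : (singleFunctor A 0).obj M ⟶ ((singleFunctor A 0).obj N)⟦(p : ℤ)⟧, f = 0)
    (f : (singleFunctor A j).obj M ⟶ ((singleFunctor A i).obj N)⟦(1 : ℤ)⟧) : f = 0 := by
  apply (shiftFunctor (DerivedCategory A) j).map_injective
  let e₁ : ((singleFunctor A j).obj M)⟦j⟧ ≅ (singleFunctor A 0).obj M :=
    ((singleFunctors A).shiftIso j 0 j (by omega)).app M
  let e₂ : (((singleFunctor A i).obj N)⟦(1 : ℤ)⟧)⟦j⟧ ≅ ((singleFunctor A 0).obj N)⟦(p : ℤ)⟧ :=
    ((shiftFunctorAdd (DerivedCategory A) 1 j).app _).symm ≪≫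
      ((singleFunctors A).shiftIso (1 + j) (-(p : ℤ)) i (by omega)).app N ≪≫
        (((singleFunctors A).shiftIso (p : ℤ) (-(p : ℤ)) 0 (by omega)).app N).symm
  rw [Functor.map_zero, ← cancel_epi e₁.inv, ← cancel_mono e₂.hom, comp_zero, zero_comp]
  exact h _

/-- Dévissage of vanishing of morphisms out of a bounded object. -/
theorem hom_vanish (T : DerivedCategory A) (m : ℕ) : ∀ (W : DerivedCategory A) (c : ℤ) [W.IsGE c]
    [W.IsLE (c + m)],
    (∀ q, c ≤ q → ∀ f : (singleFunctor A q).obj ((homologyFunctor A q).obj W) ⟶ T, f = 0) →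
      ∀ f : W ⟶ T, f = 0 := by
  induction m with
  | zero =>
    intro W c _ hLE h f
    haveI : W.IsLE c := by simpa using hLE
    obtain ⟨e⟩ := nonempty_iso_single W c
    rw [← cancel_epi e.inv, comp_zero]
    exact h c le_rfl _
  | succ m ih =>
    intro W c hGE hLE h f
    obtain ⟨b, hb⟩ : ∃ b, b = c + (m + 1 : ℕ) := ⟨_, rfl⟩
    rw [← hb] at hLE
    have h₁ : (TStructure.t.truncLTι b).app W ≫ f = 0 := by
      haveI : ((TStructure.t.truncLT b).obj W).IsLE (c + m) :=
        TStructure.t.isLE_truncLT_obj W b (c + m) (by omega)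
      haveI : ((TStructure.t.truncLT b).obj W).IsGE c :=
        inferInstanceAs (TStructure.t.IsGE ((TStructure.t.truncLT b).obj W) c)
      refine ih _ c (fun q hq g => ?_) _
      by_cases hqb : q < b
      · haveI := isIso_homology_truncLTι W b q hqb
        rw [← cancel_epi ((singleFunctor A q).map
          (inv ((homologyFunctor A q).map ((TStructure.t.truncLTι b).app W)))), comp_zero]
        exact h q hq _
      · exact ((singleFunctor A q).map_isZero (isZero_homology_truncLT W b q (by omega))).eq_of_src _ _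
    obtain ⟨g, hg⟩ : ∃ g : (TStructure.t.truncGE b).obj W ⟶ T,
        f = (TStructure.t.truncGEπ b).app W ≫ g :=
      Triangle.yoneda_exact₂ _ (TStructure.t.triangleLTGE_distinguished b W) f h₁
    haveI : ((TStructure.t.truncGE b).obj W).IsGE b :=
      inferInstanceAs (TStructure.t.IsGE ((TStructure.t.truncGE b).obj W) b)
    haveI : ((TStructure.t.truncGE b).obj W).IsLE b :=
      (DerivedCategory.isLE_iff _ _).2 fun q hq => by
        haveI := isIso_homology_truncGEπ W b q hq.le
        exact (isZero_of_isLE W b q hq).of_iso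
          (asIso ((homologyFunctor A q).map ((TStructure.t.truncGEπ b).app W))).symm
    haveI := isIso_homology_truncGEπ W b b le_rfl
    obtain ⟨e⟩ := nonempty_iso_single ((TStructure.t.truncGE b).obj W) b
    have hg0 : g = 0 := by
      rw [← cancel_epi e.inv, ← cancel_epi ((singleFunctor A b).map
        ((homologyFunctor A b).map ((TStructure.t.truncGEπ b).app W))), comp_zero, comp_zero]
      exact h b (by omega) _
    rw [hg, hg0, comp_zero]

/-- The projection to the cohomology in degree `i`. -/
theorem exists_proj (K : DerivedCategory A) (b i : ℤ) [K.IsLE b] (hib : i ≤ b)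
    (hExt : ∀ (q : ℤ) (p : ℕ), i < q → 2 ≤ p →
      ∀ f : (singleFunctor A 0).obj ((homologyFunctor A q).obj K) ⟶
        ((singleFunctor A 0).obj ((homologyFunctor A i).obj K))⟦(p : ℤ)⟧, f = 0) :
    ∃ p : K ⟶ (singleFunctor A i).obj ((homologyFunctor A i).obj K),
      IsIso ((homologyFunctor A i).map p) := by
  let Y := (TStructure.t.truncGE i).obj K
  haveI : Y.IsGE i := inferInstanceAs (TStructure.t.IsGE ((TStructure.t.truncGE i).obj K) i)
  haveI : Y.IsLE b := (DerivedCategory.isLE_iff _ _).2 fun q hq => by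
    haveI := isIso_homology_truncGEπ K i q (by omega)
    exact (isZero_of_isLE K b q hq).of_iso
      (asIso ((homologyFunctor A q).map ((TStructure.t.truncGEπ i).app K))).symm
  let X₁ := (TStructure.t.truncLT (i + 1)).obj Y
  haveI : X₁.IsLE i := TStructure.t.isLE_truncLT_obj Y (i + 1) i
  haveI : X₁.IsGE i := inferInstanceAs (TStructure.t.IsGE ((TStructure.t.truncLT (i + 1)).obj Y) i)
  haveI := isIso_homology_truncGEπ K i i le_rfl
  haveI := isIso_homology_truncLTι Y (i + 1) i (by omega)
  obtain ⟨e₁⟩ := nonempty_iso_single X₁ i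
  let e : X₁ ≅ (singleFunctor A i).obj ((homologyFunctor A i).obj K) :=
    e₁ ≪≫ (singleFunctor A i).mapIso
      (asIso ((homologyFunctor A i).map ((TStructure.t.truncLTι (i + 1)).app Y)) ≪≫
        (asIso ((homologyFunctor A i).map ((TStructure.t.truncGEπ i).app K))).symm)
  let W := (TStructure.t.truncGE (i + 1)).obj Y
  haveI : W.IsGE (i + 1) :=
    inferInstanceAs (TStructure.t.IsGE ((TStructure.t.truncGE (i + 1)).obj Y) (i + 1))
  haveI : W.IsLE (i + 1 + (b - i).toNat) := (DerivedCategory.isLE_iff _ _).2 fun q hq => by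
    haveI := isIso_homology_truncGEπ Y (i + 1) q (by omega)
    exact (isZero_of_isLE Y b q (by omega)).of_iso
      (asIso ((homologyFunctor A q).map ((TStructure.t.truncGEπ (i + 1)).app Y))).symm
  have hδ : (TStructure.t.truncGEδLT (i + 1)).app Y = 0 := by
    refine hom_vanish (X₁⟦(1 : ℤ)⟧) (b - i).toNat W (i + 1) (fun q hq g => ?_) _
    haveI := isIso_homology_truncGEπ Y (i + 1) q hq
    haveI := isIso_homology_truncGEπ K i q (by omega)
    rw [← cancel_epi ((singleFunctor A q).map
      ((homologyFunctor A q).map ((TStructure.t.truncGEπ (i + 1)).app Y))),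
      ← cancel_epi ((singleFunctor A q).map
      ((homologyFunctor A q).map ((TStructure.t.truncGEπ i).app K))),
      ← cancel_mono ((shiftFunctor (DerivedCategory A) (1 : ℤ)).map e.hom), comp_zero, comp_zero,
      zero_comp]
    exact single_vanish i q (q + 1 - i).toNat (by omega) _ _
      (hExt q (q + 1 - i).toNat (by omega) (by omega)) _
  obtain ⟨d, hd, -⟩ := exists_iso_binaryBiproduct_of_distTriang _
    (TStructure.t.triangleLTGE_distinguished (i + 1) Y) hδ
  obtain ⟨r, hr⟩ : ∃ r : Y ⟶ X₁, (TStructure.t.truncLTι (i + 1)).app Y ≫ r = 𝟙 X₁ :=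
    ⟨d.hom ≫ biprod.fst,
      ((Category.assoc _ _ _).symm.trans ((congrArg (· ≫ biprod.fst) hd).trans biprod.inl_fst))⟩
  refine ⟨(TStructure.t.truncGEπ i).app K ≫ r ≫ e.hom, ?_⟩
  have h1 : (homologyFunctor A i).map ((TStructure.t.truncLTι (i + 1)).app Y) ≫
      (homologyFunctor A i).map r = 𝟙 _ :=
    (Functor.map_comp _ _ _).symm.trans
      ((congrArg (homologyFunctor A i).map hr).trans ((homologyFunctor A i).map_id _))
  haveI : IsIso ((homologyFunctor A i).map r) := IsIso.of_isIso_fac_left h1
  rw [Functor.map_comp, Functor.map_comp]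
  infer_instance

end

/-- Let K be an object of the derived category of an abelian category with cohomology concentrated in
degrees a, …, b. Suppose that for all i > j and p ≥ 2 every morphism H^i(K) ⟶ H^j(K)[p] in the
derived category (an element of Ext^p) vanishes. Then K splits: it is isomorphic to ⨁_{a ≤ i ≤ b}
Hⁱ(K)[-i]. -/
theorem result {A : Type u} [Category.{v} A] [Abelian A] [HasDerivedCategory.{w} A]
    (K : DerivedCategory A) (a b : ℤ) [K.IsGE a] [K.IsLE b]
    (hExt : ∀ (i j : ℤ) (p : ℕ), j < i → 2 ≤ p →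
      ∀ f : (DerivedCategory.singleFunctor A 0).obj ((DerivedCategory.homologyFunctor A i).obj K) ⟶
        ((DerivedCategory.singleFunctor A 0).obj ((DerivedCategory.homologyFunctor A j).obj K))⟦(p : ℤ)⟧, f = 0)
    [HasBiproduct (fun i : Finset.Icc a b => (DerivedCategory.singleFunctor A (i : ℤ)).obj ((DerivedCategory.homologyFunctor A (i : ℤ)).obj K))] :
    Nonempty (K ≅ ⨁ (fun i : Finset.Icc a b => (DerivedCategory.singleFunctor A (i : ℤ)).obj ((DerivedCategory.homologyFunctor A (i : ℤ)).obj K))) := by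
  have hp : ∀ i : Finset.Icc a b,
      ∃ p : K ⟶ (DerivedCategory.singleFunctor A (i : ℤ)).obj
          ((DerivedCategory.homologyFunctor A (i : ℤ)).obj K),
        IsIso ((DerivedCategory.homologyFunctor A (i : ℤ)).map p) := fun i =>
    exists_proj K b i (Finset.mem_Icc.1 i.2).2 fun q p hq hp => hExt q i p hq hp
  choose p hp using hp
  let F := fun i : Finset.Icc a b => (DerivedCategory.singleFunctor A (i : ℤ)).obj
    ((DerivedCategory.homologyFunctor A (i : ℤ)).obj K)
  have hzero : ∀ (n : ℤ) (i : Finset.Icc a b), (i : ℤ) ≠ n →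
      IsZero ((DerivedCategory.homologyFunctor A n).obj (F i)) := by
    intro n i hne
    rcases lt_or_gt_of_ne hne with h | h
    · exact DerivedCategory.isZero_of_isLE _ (i : ℤ) n h
    · exact DerivedCategory.isZero_of_isGE _ (i : ℤ) n h
  haveI : IsIso (biproduct.lift p : K ⟶ ⨁ F) := by
    rw [DerivedCategory.isIso_iff]
    intro n
    let H := DerivedCategory.homologyFunctor A n
    have hid : 𝟙 (⨁ F) = ∑ i, biproduct.π F i ≫ biproduct.ι F i := biproduct.total.symm
    have hidH : 𝟙 (H.obj (⨁ F)) = ∑ i, H.map (biproduct.π F i) ≫ H.map (biproduct.ι F i) := by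
      rw [← H.map_id, hid, H.map_sum]
      exact Finset.sum_congr rfl fun i _ => H.map_comp _ _
    by_cases hn : n ∈ Finset.Icc a b
    · haveI := hp ⟨n, hn⟩
      have hone : H.map (biproduct.π F ⟨n, hn⟩) ≫ H.map (biproduct.ι F ⟨n, hn⟩) = 𝟙 _ := by
        rw [hidH, Finset.sum_eq_single (⟨n, hn⟩ : Finset.Icc a b)
          (fun i _ hi => (hzero n i (fun h => hi (Subtype.ext h))).eq_of_tgt
            (H.map (biproduct.π F i)) 0 ▸ zero_comp) (fun h => absurd (Finset.mem_univ _) h)]
      haveI : IsIso (H.map (biproduct.π F ⟨n, hn⟩)) :=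
        ⟨H.map (biproduct.ι F ⟨n, hn⟩), hone, by rw [← H.map_comp, biproduct.ι_π_self, H.map_id]⟩
      have hfac : H.map (biproduct.lift p) ≫ H.map (biproduct.π F ⟨n, hn⟩) =
          H.map (p ⟨n, hn⟩) := by rw [← H.map_comp, biproduct.lift_π]
      exact IsIso.of_isIso_fac_right hfac
    · have hK : IsZero (H.obj K) := by
        rw [Finset.mem_Icc, not_and_or, not_le, not_le] at hn
        rcases hn with h | h
        · exact DerivedCategory.isZero_of_isGE K a n h
        · exact DerivedCategory.isZero_of_isLE K b n h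
      have hB : IsZero (H.obj (⨁ F)) := by
        rw [IsZero.iff_id_eq_zero, hidH]
        refine Finset.sum_eq_zero fun i _ => ?_
        rw [(hzero n i (fun h => hn (h ▸ i.2))).eq_of_tgt (H.map (biproduct.π F i)) 0, zero_comp]
      exact ⟨0, hK.eq_of_src _ _, hB.eq_of_src _ _⟩
  exact ⟨asIso (biproduct.lift p)⟩

end Groth.Agent.S0973
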