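import Groth.Statements.S0984
import Groth.Agent.Lib.TriCat.BrownCorollaries

set_option autoImplicit false
universe v u
open CategoryTheory
open DerLim

namespace Groth.Agent.S0984

open CategoryTheory.Limits CategoryTheory.Pretriangulated in
/-- Let D be a triangulated category with all small direct sums and E a small family of compact objects
which generates D. Every object X of D is a homotopy colimit of a sequential system X₀ → X₁ → X₂ → …
in which X₀ is a direct sum of shifts of members of E and each transition map Xₙ → Xₙ₊₁ sits in a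
distinguished triangle Yₙ → Xₙ → Xₙ₊₁ → Yₙ[1] with Yₙ a direct sum of shifts of members of E. -/
theorem result {D : Type u} [Category.{v} D] [Preadditive D] [Limits.HasZeroObject D] [HasShift D ℤ]
    [∀ n : ℤ, (shiftFunctor D n).Additive] [Pretriangulated D] [IsTriangulated D] [HasCoproducts.{v} D]
    [HasColimitsOfShape (Discrete ℕ) D]
    {ι : Type v} (E : ι → D) (hc : ∀ i, CohDer.IsCompactObject (E i)) (hg : CohDer.Generates E) (X : D) :
    ∃ (K : ℕ → D) (f : ∀ n, K n ⟶ K (n + 1)) (i : ∀ n, K n ⟶ X),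
      DerLim.IsHocolim K f X i ∧
      (∃ (κ : Type v) (a : κ → ι) (m : κ → ℤ), Nonempty (K 0 ≅ ∐ (fun k => (shiftFunctor D (m k)).obj (E (a k))))) ∧
      ∀ n, ∃ (κ : Type v) (a : κ → ι) (m : κ → ℤ) (y : (∐ fun k => (shiftFunctor D (m k)).obj (E (a k))) ⟶ K n)
        (z : K (n + 1) ⟶ (shiftFunctor D (1 : ℤ)).obj (∐ fun k => (shiftFunctor D (m k)).obj (E (a k)))),
        Triangle.mk y (f n) z ∈ distinguishedTriangles := by
  classical
  let G := GrothLib.TriCat.shiftFam E
  have hs := GrothLib.TriCat.isShiftClosed_shiftFam E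
  have h1 : ∀ K : D, (∀ k (g : G k ⟶ K), g = 0) → IsZero K := fun K hK => hg K fun i n g =>
    GrothLib.TriCat.eq_zero_of_forall_shift (fun m g => hK (i, m) g) n g
  have hperf : GrothLib.TriCat.IsPerfectFamily G :=
    GrothLib.TriCat.isPerfectFamily_of_hasFiniteSupport _ fun k =>
      GrothLib.TriCat.hasFiniteSupport_shift
        ((GrothLib.TriCat.isCompactObject_iff_hasFiniteSupport _).1 (hc k.1)) k.2
  let W : (Σ k, (G k ⟶ X)) → D := fun p => G p.1
  obtain ⟨K, f, x, e, he, hx, hkill, htri⟩ :=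
    GrothLib.TriCat.exists_killing_sequence (E := G) (H := preadditiveYoneda.obj X) (∐ W)
      (Sigma.desc fun p => p.2)
  obtain ⟨L, i, hL⟩ := GrothLib.TriCat.exists_isHocolim K f
  have := GrothLib.TriCat.preservesLimitsOfShape_nat (preadditiveYoneda.obj X)
  obtain ⟨t, ht⟩ := GrothLib.TriCat.exists_res_hocolim (A := preadditiveYoneda.obj X) hL x hx
  have hbij := GrothLib.TriCat.bijective_res_hocolim (E := G) (H := preadditiveYoneda.obj X)
    hs hperf x hx (fun k y => ⟨Sigma.ι W ⟨k, y⟩ ≫ e.hom, by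
      rw [GrothLib.TriCat.res_comp, he]
      exact Sigma.ι_desc (fun p : Σ k, (G k ⟶ X) => p.2) ⟨k, y⟩⟩) hkill hL t ht
  have : IsIso (C := D) (X := L) (Y := X) t :=
    GrothLib.TriCat.isIso_of_bijective_on_family hs h1 (X := L) (Y := X) t
      (fun k a ha => (hbij k).1 (ha.trans (Limits.zero_comp).symm)) (fun k b => (hbij k).2 b)
  refine ⟨K, f, _, GrothLib.TriCat.isHocolim_of_iso hL (asIso (X := L) (Y := X) t),
    ⟨_, fun p : Σ k, (G k ⟶ X) => p.1.1, fun p => p.1.2, ⟨e.symm⟩⟩, fun n => ?_⟩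
  obtain ⟨κ, a, y, z, hT⟩ := htri n
  exact ⟨κ, fun j => (a j).1, fun j => (a j).2, y, z, hT⟩

end Groth.Agent.S0984
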