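import Groth.Statements.S1076
import Groth.Agent.Lib.TriCat.CompactFactor

set_option autoImplicit false
universe v u
open CategoryTheory
open DerLim

namespace Groth.Agent.S1076

open CategoryTheory.Limits CategoryTheory.Pretriangulated in
/-- Let D be a triangulated category with all small direct sums and E a small nonempty family of compact
objects (nonempty so that the envelope of a finite subfamily can contain a zero object). Let X₀ → X₁
→ … be a sequential system in which X₀ is a direct sum of shifts of members of E and each Xₙ → Xₙ₊₁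
sits in a distinguished triangle Yₙ → Xₙ → Xₙ₊₁ → Yₙ[1] with Yₙ a direct sum of shifts of members of
E. Then every morphism from a compact object C to some Xₙ factors through an object of the
triangulated envelope (closure under shifts, finite sums, summands and extensions) of finitely many
members of E. -/
theorem result {D : Type u} [Category.{v} D] [Preadditive D] [Limits.HasZeroObject D] [HasShift D ℤ]
    [∀ n : ℤ, (shiftFunctor D n).Additive] [Pretriangulated D] [IsTriangulated D] [HasCoproducts.{v} D]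
    {ι : Type v} [Nonempty ι] (E : ι → D) (hc : ∀ i, CohDer.IsCompactObject (E i))
    (K : ℕ → D) (f : ∀ n, K n ⟶ K (n + 1))
    (h0 : ∃ (κ : Type v) (a : κ → ι) (m : κ → ℤ), Nonempty (K 0 ≅ ∐ (fun k => (shiftFunctor D (m k)).obj (E (a k)))))
    (hstep : ∀ n, ∃ (κ : Type v) (a : κ → ι) (m : κ → ℤ) (y : (∐ fun k => (shiftFunctor D (m k)).obj (E (a k))) ⟶ K n)
      (z : K (n + 1) ⟶ (shiftFunctor D (1 : ℤ)).obj (∐ fun k => (shiftFunctor D (m k)).obj (E (a k)))),
      Triangle.mk y (f n) z ∈ distinguishedTriangles)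
    (C : D) (hC : CohDer.IsCompactObject C) (n : ℕ) (φ : C ⟶ K n) :
    ∃ (s : Finset ι) (E' : D) (g : C ⟶ E') (h : E' ⟶ K n),
      ObjectProperty.triangEnvelope (fun Y : D => ∃ i ∈ s, Y = E i) E' ∧ g ≫ h = φ := by
  classical
  have i₀ : ι := Classical.arbitrary ι
  let P : Finset ι → ObjectProperty D := fun s => fun Y : D => ∃ i ∈ s, Y = E i
  have hne : ∀ s : Finset ι, (P (insert i₀ s)).Nonempty := fun s =>
    ⟨⟨E i₀, i₀, Finset.mem_insert_self i₀ s, rfl⟩⟩
  have hmono : ∀ {s t : Finset ι}, s ⊆ t → (P s).triangEnvelope ≤ (P t).triangEnvelope :=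
    fun h => ObjectProperty.monotone_triangEnvelope fun Y ⟨i, hi, e⟩ => ⟨i, h hi, e⟩
  have hcpt := GrothLib.TriCat.isTriangulated_hasFiniteSupport (D := D)
  simp only [GrothLib.TriCat.isCompactObject_iff_hasFiniteSupport] at hc
  replace hC := (GrothLib.TriCat.isCompactObject_iff_hasFiniteSupport C).1 hC
  suffices ∃ (s : Finset ι) (E' : D) (g : C ⟶ E') (h : E' ⟶ K n),
      (P (insert i₀ s)).triangEnvelope E' ∧ g ≫ h = φ by
    obtain ⟨s, E', g, h, hE, e⟩ := this
    exact ⟨insert i₀ s, E', g, h, hE, e⟩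
  have hfin : ∀ (κ : Type v) (a : κ → ι) (m : κ → ℤ) {C : D},
      GrothLib.TriCat.HasFiniteSupport C → ∀ (b : C ⟶ ∐ fun k => (E (a k))⟦m k⟧),
      ∃ (s : Finset ι) (F : D) (g : C ⟶ F) (h : F ⟶ ∐ fun k => (E (a k))⟦m k⟧),
        ((P (insert i₀ s)).triangEnvelope F ∧ GrothLib.TriCat.HasFiniteSupport F) ∧ g ≫ h = b := by
    intro κ a m C hC b
    obtain ⟨s, hs⟩ := hC _ _ b
    let Q : ObjectProperty D := fun F =>
      (P (insert i₀ (s.image a))).triangEnvelope F ∧ GrothLib.TriCat.HasFiniteSupport F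
    have := hne (s.image a)
    have : Q.IsClosedUnderIsomorphisms := ⟨fun e h =>
      ⟨ObjectProperty.prop_of_iso _ e h.1, GrothLib.TriCat.hasFiniteSupport_of_iso e h.2⟩⟩
    have : Q.IsTriangulated :=
      { exists_zero := ⟨_, isZero_zero D,
          ObjectProperty.prop_of_isZero (P (insert i₀ (s.image a))).triangEnvelope (isZero_zero D),
          fun J X b => ⟨∅, (isZero_zero D).eq_of_src _ _⟩⟩
        isStableUnderShiftBy := fun k => ⟨fun F hF =>
          ⟨(P (insert i₀ (s.image a))).triangEnvelope.le_shift k _ hF.1,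
            GrothLib.TriCat.hasFiniteSupport_shift hF.2 k⟩⟩
        ext₂' := (ObjectProperty.IsTriangulatedClosed₂.mk' (P := Q) fun T hT h₁ h₃ =>
          ⟨ObjectProperty.ext_of_isTriangulatedClosed₂ _ T hT h₁.1 h₃.1,
            GrothLib.TriCat.hasFiniteSupport_ext₂ T hT h₁.2 h₃.2⟩).ext₂' }
    obtain ⟨F, g, h, hF, e⟩ := GrothLib.TriCat.factor_through_finite Q _ b s hs fun k hk =>
      ⟨(P (insert i₀ (s.image a))).triangEnvelope.le_shift (m k) _
        ((P (insert i₀ (s.image a))).le_triangEnvelope _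
        ⟨a k, Finset.mem_insert_of_mem (Finset.mem_image_of_mem a hk), rfl⟩),
        GrothLib.TriCat.hasFiniteSupport_shift (hc (a k)) (m k)⟩
    exact ⟨_, F, g, h, hF, e⟩
  induction n generalizing C with
  | zero =>
    obtain ⟨κ, a, m, ⟨e⟩⟩ := h0
    obtain ⟨s, F, g, h, hF, hgh⟩ := hfin κ a m hC (φ ≫ e.hom)
    exact ⟨s, F, g, h ≫ e.inv, hF.1, by simp [reassoc_of% hgh]⟩
  | succ n ih =>
    obtain ⟨κ, a, m, y, z, hT⟩ := hstep n
    obtain ⟨s, F, g, h, hF, hgh⟩ := hfin κ a m (GrothLib.TriCat.hasFiniteSupport_shift hC (-1))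
      ((shiftFunctor D (-1 : ℤ)).map (φ ≫ z) ≫ (shiftFunctorCompIsoId D (1 : ℤ) (-1) (by omega)).hom.app _)
    let c : C ⟶ F⟦(1 : ℤ)⟧ :=
      (shiftFunctorCompIsoId D (-1 : ℤ) 1 (by omega)).inv.app C ≫ g⟦(1 : ℤ)⟧'
    have hcz : c ≫ h⟦(1 : ℤ)⟧' = φ ≫ z := by
      simp only [c, Category.assoc, ← Functor.map_comp, hgh]
      rw [Functor.map_comp, shift_shiftFunctorCompIsoId_hom_app]
      have := (shiftFunctorCompIsoId D (-1 : ℤ) 1 (by omega)).inv.naturality (φ ≫ z)
      dsimp at this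
      rw [← Category.assoc, ← this, Category.assoc]
      simp
    obtain ⟨C', u, v, hC'⟩ := distinguished_cocone_triangle₂ c
    have hC'c : GrothLib.TriCat.HasFiniteSupport C' :=
      GrothLib.TriCat.hasFiniteSupport_ext₂ _ hC' hF.2 hC
    have hvc : v ≫ c = 0 := comp_distTriang_mor_zero₂₃ _ hC'
    obtain ⟨ψ, hψ⟩ : ∃ ψ : C' ⟶ K n, v ≫ φ = ψ ≫ f n :=
      Triangle.coyoneda_exact₃ _ hT _ (by
        change (v ≫ φ) ≫ z = 0
        rw [Category.assoc, ← hcz, ← Category.assoc, hvc, zero_comp])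
    obtain ⟨s', E', g₀, h₀, hE', hgh₀⟩ := ih C' ψ hC'c
    obtain ⟨E'', p, r, hE''⟩ := distinguished_cocone_triangle (u ≫ g₀)
    obtain ⟨g', hg₁, hg₂⟩ : ∃ g' : C ⟶ E'', v ≫ g' = g₀ ≫ p ∧ c = g' ≫ r := by
      obtain ⟨g', e₁, e₂⟩ := complete_distinguished_triangle_morphism _ _ hC' hE'' (𝟙 F) g₀
        (Category.id_comp _).symm
      refine ⟨g', e₁, ?_⟩
      change c ≫ (𝟙 F)⟦(1 : ℤ)⟧' = g' ≫ r at e₂
      rwa [CategoryTheory.Functor.map_id, Category.comp_id] at e₂
    obtain ⟨h'', hh''⟩ : ∃ h'' : E'' ⟶ K (n + 1), h₀ ≫ f n = p ≫ h'' :=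
      Triangle.yoneda_exact₂ _ hE'' _ (by
        change (u ≫ g₀) ≫ h₀ ≫ f n = 0
        rw [Category.assoc, reassoc_of% hgh₀, ← hψ,
          reassoc_of% (show u ≫ v = 0 from comp_distTriang_mor_zero₁₂ _ hC'), zero_comp])
    obtain ⟨t, ht⟩ : ∃ t : F⟦(1 : ℤ)⟧ ⟶ K (n + 1), g' ≫ h'' - φ = c ≫ t :=
      Triangle.yoneda_exact₃ _ hC' _ (by
        change v ≫ (g' ≫ h'' - φ) = 0
        rw [Preadditive.comp_sub, reassoc_of% hg₁, ← hh'', reassoc_of% hgh₀, hψ, sub_self])
    have := hne (s ∪ s')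
    have hsub : ∀ t' : Finset ι, t' ⊆ s ∪ s' →
        (P (insert i₀ t')).triangEnvelope ≤ (P (insert i₀ (s ∪ s'))).triangEnvelope :=
      fun t' h => hmono (Finset.insert_subset_insert _ h)
    refine ⟨s ∪ s', E'', g', h'' - r ≫ t,
      ObjectProperty.ext_of_isTriangulatedClosed₂ _ _ (rot_of_distTriang _ hE'')
        (hsub s' Finset.subset_union_right _ hE')
        ((P (insert i₀ (s ∪ s'))).triangEnvelope.le_shift (1 : ℤ) _
          (hsub s Finset.subset_union_left _ hF.1)), ?_⟩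
    rw [Preadditive.comp_sub, ← Category.assoc, ← hg₂, ← ht]
    abel

end Groth.Agent.S1076
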