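import Groth.Statements.S0978
import Groth.Agent.Lib.TriCat.CompactHocolim
import Groth.Agent.S0984
import Groth.Agent.S1076

set_option autoImplicit false
universe v u
open CategoryTheory
open CohDer

namespace Groth.Agent.S0978

open CategoryTheory.Limits in
/-- Let D be a triangulated category with all small direct sums and E a compact object. Then E generates
D (an object admitting only zero maps from all shifts of E is zero) if and only if D is compactly
generated and every compact object lies in the triangulated envelope of E (objects reachable from E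
by shifts, finite sums, direct summands and extensions). -/
theorem result {D : Type u} [Category.{v} D] [Preadditive D] [Limits.HasZeroObject D] [HasShift D ℤ]
    [∀ n : ℤ, (shiftFunctor D n).Additive] [Pretriangulated D] [IsTriangulated D] [HasCoproducts.{v} D]
    [HasColimitsOfShape (Discrete ℕ) D]
    (E : D) (hE : CohDer.IsCompactObject E) :
    CohDer.Generates (fun _ : Unit => E) ↔
      (CohDer.IsCompactlyGenerated D ∧ ∀ X : D, CohDer.IsCompactObject X → ObjectProperty.triangEnvelope (fun Y : D => Y = E) X) := by
  constructor
  · intro hg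
    refine ⟨⟨PUnit.{v + 1}, fun _ => E, fun _ => hE, fun K hK => hg K fun _ n g => hK ⟨⟩ n g⟩,
      fun X hX => ?_⟩
    obtain ⟨K, f, i, hL, h0, hstep⟩ := S0984.result (fun _ : PUnit.{v + 1} => E) (fun _ => hE)
      (fun K hK => hg K fun _ n g => hK ⟨⟩ n g) X
    obtain ⟨n, ψ, hψ⟩ := GrothLib.TriCat.exists_factor_hocolim
      ((GrothLib.TriCat.isCompactObject_iff_hasFiniteSupport X).1 hX) hL (𝟙 X)
    obtain ⟨s, E', g, h, hE', hgh⟩ :=
      S1076.result (fun _ : PUnit.{v + 1} => E) (fun _ => hE) K f h0 hstep X hX n ψ
    exact ObjectProperty.prop_of_retract _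
      { i := g, r := h ≫ i n, retract := by rw [← Category.assoc, hgh, hψ] }
      (ObjectProperty.monotone_triangEnvelope (fun Y ⟨_, _, e⟩ => e) _ hE')
  · rintro ⟨⟨κ, G, hc, hg⟩, henv⟩ K hK
    refine hg K fun i n g => GrothLib.TriCat.eq_zero_of_triangEnvelope _ K
      (fun Y hY n g => ?_) (henv _ (hc i)) n g
    subst hY
    exact hK () n g

end Groth.Agent.S0978
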