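import Groth.Statements.S0979
import Groth.Agent.Lib.IdemLift.Main

set_option autoImplicit false
universe u
open CategoryTheory AlgebraicGeometry Opposite
open Perf

namespace Groth.Agent.S0979

/-- Let f : X ⟶ S be proper, let s be a point of S, and e an idempotent global section of the structure
sheaf of the scheme-theoretic fibre X_s. Then e lies in the image of the stalk (f_*O_X)_s: there are
an open neighbourhood V of s and a section t of O_X over f⁻¹(V) whose restriction to the fibre
equals e. -/
theorem result {X S : Scheme.{u}} (f : X ⟶ S) [IsProper f] (s : S)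
    (e : (f.fiber s).presheaf.obj (op ⊤)) (he : IsIdempotentElem e) :
    ∃ (V : S.Opens) (_ : s ∈ V) (t : X.presheaf.obj (op (f ⁻¹ᵁ V))),
      ((f.fiberι s).app (f ⁻¹ᵁ V)).hom t =
        ((f.fiber s).presheaf.map (homOfLE (le_top : (f.fiberι s) ⁻¹ᵁ (f ⁻¹ᵁ V) ≤ ⊤)).op).hom e := by
  exact GrothLib.IdemLift.exists_lift_idempotent f s e he

end Groth.Agent.S0979
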