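import Groth.Statements.S0980
import Groth.Agent.Lib.Seesaw26.Universal

set_option backward.isDefEq.respectTransparency false

set_option autoImplicit false
universe u
open CategoryTheory AlgebraicGeometry
open Perf

namespace Groth.Agent.S0980

/-- Let f : X ⟶ S be proper, flat and of finite presentation, and assume that for every point s of S the
global functions on the scheme-theoretic fibre X_s are exactly the residue field κ(s), in the sense
that pullback of functions along X_s ⟶ Spec κ(s) is an isomorphism on global sections. Then O_S ⟶
f_*O_X is an isomorphism: for every open V of S the map O_S(V) ⟶ O_X(f⁻¹V) is an isomorphism. (The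
source adds that this persists after any base change; the hypotheses are stable under base change.) -/
theorem result {X S : Scheme.{u}} (f : X ⟶ S) [IsProper f] [Flat f]
    [LocallyOfFinitePresentation f]
    (h : ∀ s : S, IsIso (f.fiberToSpecResidueField s).appTop) (V : S.Opens) : IsIso (f.app V) := by
  have h0 : ∀ s : S, Module.finrank (S.residueField s) Γ(f.fiber s, ⊤) = 1 := fun s => by
    haveI := h s
    have hb : Function.Bijective (algebraMap (S.residueField s) Γ(f.fiber s, ⊤)) :=
      ConcreteCategory.bijective_of_isIso
        ((Scheme.ΓSpecIso (S.residueField s)).inv ≫ (f.fiberToSpecResidueField s).appTop)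
    exact (LinearEquiv.ofBijective (Algebra.linearMap (S.residueField s) Γ(f.fiber s, ⊤)) hb).finrank_eq.symm.trans
      (Module.finrank_self _)
  have hsnd : ∀ U : S.Opens, IsIso ((Limits.pullback.snd f (𝟙 S)).app U) := fun U =>
    (ConcreteCategory.isIso_iff_bijective _).2 (GrothLib.Seesaw26.bijective_app_baseChange f h0 (𝟙 S) U)
  have e : f = CategoryTheory.inv (Limits.pullback.fst f (𝟙 S)) ≫ Limits.pullback.snd f (𝟙 S) := by
    rw [IsIso.eq_inv_comp, Limits.pullback.condition, Category.comp_id]
  haveI := hsnd V
  rw [e, Scheme.Hom.comp_app]
  infer_instance

end Groth.Agent.S0980
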