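import Groth.Statements.S0982
import Groth.Agent.Lib.ProTri.Trunc

set_option autoImplicit false
universe w v u
open CategoryTheory CategoryTheory.Limits
open CohDer

namespace Groth.Agent.S0982

/-- Let K : ℕ ⥤ CochainComplex A ℤ be a sequence of cochain maps K₀ → K₁ → K₂ → … in an abelian category
with Hⁱ(K₀) = 0 for i > 0 and such that for every j < n the map H⁻ʲ(Kⱼ) → H⁻ʲ(Kⱼ₊₁) is zero. Then in
the derived category the composite K₀ → Kₙ factors through the canonical truncation τ_{≤ -n}Kₙ → Kₙ. -/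
theorem result {A : Type u} [Category.{v} A] [Abelian A] [HasDerivedCategory.{w} A]
    (K : ℕ ⥤ CochainComplex A ℤ) (n : ℕ)
    (h0 : ∀ i : ℤ, 0 < i → IsZero ((K.obj 0).homology i))
    (hz : ∀ j : ℕ, j < n → HomologicalComplex.homologyMap (K.map (homOfLE (Nat.le_succ j))) (-(j : ℤ)) = 0) :
    ∃ φ : DerivedCategory.Q.obj (K.obj 0) ⟶ DerivedCategory.Q.obj ((K.obj n).truncLE (-(n : ℤ))),
      φ ≫ DerivedCategory.Q.map ((K.obj n).ιTruncLE (-(n : ℤ))) = DerivedCategory.Q.map (K.map (homOfLE (Nat.zero_le n))) := by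
  have h0' : (DerivedCategory.Q.obj (K.obj 0)).IsLE 0 :=
    (DerivedCategory.isLE_iff _ _).2 fun i hi =>
      (h0 i hi).of_iso ((DerivedCategory.homologyFunctorFactors A i).app (K.obj 0))
  have hz' : ∀ (j : ℕ), j < n → (DerivedCategory.homologyFunctor A (-(j : ℤ))).map
      (DerivedCategory.Q.map (K.map (homOfLE (Nat.le_succ j)))) = 0 := fun j hj => by
    rw [← cancel_mono ((DerivedCategory.homologyFunctorFactors A (-(j : ℤ))).hom.app _), zero_comp]
    refine ((DerivedCategory.homologyFunctorFactors A (-(j : ℤ))).hom.naturality _).trans ?_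
    exact (congrArg (_ ≫ ·) (hz j hj)).trans comp_zero
  have key : ∀ m (hm : m ≤ n), ∃ φ : DerivedCategory.Q.obj (K.obj 0) ⟶
      (DerivedCategory.TStructure.t.truncLT (1 - (m : ℤ))).obj (DerivedCategory.Q.obj (K.obj m)),
      φ ≫ (DerivedCategory.TStructure.t.truncLTι (1 - (m : ℤ))).app _ =
        DerivedCategory.Q.map (K.map (homOfLE (Nat.zero_le m))) := by
    intro m
    induction m with
    | zero =>
      intro _
      have : DerivedCategory.TStructure.t.IsLE (DerivedCategory.Q.obj (K.obj 0)) 0 := h0'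
      exact ⟨DerivedCategory.TStructure.t.liftTruncLT
          (DerivedCategory.Q.map (K.map (homOfLE (Nat.zero_le 0)))) 0 _ (by simp),
        DerivedCategory.TStructure.t.liftTruncLT_ι _ 0 _ (by simp)⟩
    | succ m ih =>
      intro hm
      obtain ⟨φ, hφ⟩ := ih (by omega)
      have : ((DerivedCategory.TStructure.t.truncLT (1 - (m : ℤ))).obj
          (DerivedCategory.Q.obj (K.obj m))).IsLE (-(m : ℤ)) :=
        DerivedCategory.TStructure.t.isLE_truncLT_obj _ _ _ (by omega)
      obtain ⟨g, hg⟩ := GrothLib.ProTri.exists_lift_truncLT (m := -(m : ℤ))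
        ((DerivedCategory.TStructure.t.truncLTι (1 - (m : ℤ))).app _ ≫
          DerivedCategory.Q.map (K.map (homOfLE (Nat.le_succ m))))
        (by rw [Functor.map_comp, hz' m (by omega), comp_zero])
      rw [show (1 : ℤ) - ((m + 1 : ℕ) : ℤ) = -(m : ℤ) by omega]
      refine ⟨φ ≫ g, ?_⟩
      rw [Category.assoc, hg, reassoc_of% hφ, ← Functor.map_comp, ← Functor.map_comp]
      rfl
  obtain ⟨φ, hφ⟩ := key n le_rfl
  obtain ⟨e, he⟩ := GrothLib.ProTri.exists_lift_Q_truncLE (K.obj n) (-(n : ℤ)) (1 - (n : ℤ)) (by omega)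
  exact ⟨φ ≫ e, by rw [Category.assoc, he, hφ]⟩

end Groth.Agent.S0982
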