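import Groth.Statements.S0985
import Groth.Agent.Lib.DerCat.SeqColimit
import Groth.Agent.Lib.HoCat.EvalColimit
import Mathlib.Algebra.Homology.DerivedCategory.ShortExact
import Mathlib.Algebra.Homology.HomologicalComplexAbelian
import Mathlib.Algebra.Homology.HomologicalComplexLimits

set_option autoImplicit false
universe w v u
open CategoryTheory CategoryTheory.Limits
open DerLim

namespace Groth.Agent.S0985

/-- Let A be an abelian category in which colimits of sequences ℕ ⥤ A exist and are exact, and let L : ℕ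
⥤ CochainComplex A ℤ be a sequence of complexes. Then the image in the derived category of the
termwise colimit of L, with the canonical maps from the Lₙ, is a homotopy colimit of the images of
the Lₙ — assuming the termwise direct sum of the Lₙ exists and is preserved by the localization
functor to D(A) (a known result, carried here as a hypothesis rather than proved), and that the
direct sum of the images exists in D(A). -/
theorem result {A : Type u} [Category.{v} A] [Abelian A] [HasDerivedCategory.{w} A]
    [HasColimitsOfShape ℕ A] [HasExactColimitsOfShape ℕ A]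
    (L : ℕ ⥤ CochainComplex A ℤ) [HasCoproduct L.obj] [PreservesColimit (Discrete.functor L.obj) (DerivedCategory.Q (C := A))]
    [HasCoproduct (fun n => DerivedCategory.Q.obj (L.obj n))] :
    DerLim.IsHocolim (fun n => DerivedCategory.Q.obj (L.obj n)) (fun n => DerivedCategory.Q.map (L.map (homOfLE (Nat.le_succ n))))
      (DerivedCategory.Q.obj (colimit L)) (fun n => DerivedCategory.Q.map (colimit.ι L n)) := by
  let f : ∀ n, L.obj n ⟶ L.obj (n + 1) := fun n => L.map (homOfLE (Nat.le_succ n))
  have w : (𝟙 (∐ L.obj) - DerLim.shiftMap L.obj f) ≫ Sigma.desc (fun n => colimit.ι L n) = 0 := by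
    refine Sigma.hom_ext _ _ fun n => ?_
    rw [← Category.assoc, Preadditive.comp_sub, Category.comp_id, DerLim.shiftMap, Sigma.ι_desc,
      Preadditive.sub_comp, Category.assoc, Sigma.ι_desc, Sigma.ι_desc]
    simp only [f]
    rw [colimit.w, sub_self, comp_zero]
  let S := ShortComplex.mk _ _ w
  have hS : S.ShortExact := HomologicalComplex.shortExact_of_degreewise_shortExact _ fun i => by
    let E := HomologicalComplex.eval A (ComplexShape.up ℤ) i
    let F := L ⋙ E
    have : HasCoproduct (fun j => E.obj (L.obj j)) :=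
      ⟨⟨⟨_, isColimitCofanMkObjOfIsColimit E L.obj _ (coproductIsCoproduct L.obj)⟩⟩⟩
    have : HasCoproduct F.obj := this
    let e₁ : E.obj (∐ L.obj) ≅ ∐ F.obj := PreservesCoproduct.iso E L.obj
    let e₃ : E.obj (colimit L) ≅ colimit F := preservesColimitIso E L
    have hι : ∀ n, Sigma.ι F.obj n ≫ e₁.inv = E.map (Sigma.ι L.obj n) :=
      fun n => ι_comp_sigmaComparison E L.obj n
    have hι₃ : ∀ n, colimit.ι F n ≫ e₃.inv = E.map (colimit.ι L n) :=
      fun n => ι_preservesColimitIso_inv E L n
    refine ShortComplex.shortExact_of_iso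
      (ShortComplex.isoMk (S₁ := ShortComplex.mk _ _ (GrothLib.DerCat.telescope_comp F)) (S₂ := S.map E)
        e₁.symm e₁.symm e₃.symm ?_ ?_) (GrothLib.DerCat.telescope_shortExact F)
    · change e₁.inv ≫ E.map (𝟙 (∐ L.obj) - DerLim.shiftMap L.obj f) =
        (𝟙 _ - DerLim.shiftMap F.obj (fun n => F.map (homOfLE (Nat.le_succ n)))) ≫ e₁.inv
      refine Sigma.hom_ext _ _ fun n => ?_
      erw [reassoc_of% hι, ← E.map_comp]
      rw [Preadditive.sub_comp, Category.id_comp,
        Preadditive.comp_sub, Preadditive.comp_sub, Category.comp_id, DerLim.shiftMap, DerLim.shiftMap,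
        Sigma.ι_desc, Sigma.ι_desc_assoc, hι, Category.assoc, hι, E.map_sub, E.map_comp]
      rfl
    · change e₁.inv ≫ E.map (Sigma.desc (fun n => colimit.ι L n)) =
        Sigma.desc (fun n => colimit.ι F n) ≫ e₃.inv
      refine Sigma.hom_ext _ _ fun n => ?_
      erw [reassoc_of% hι, ← E.map_comp]
      rw [Sigma.ι_desc, Sigma.ι_desc_assoc]
      exact (hι₃ n).symm
  let Q := DerivedCategory.Q (C := A)
  let e := PreservesCoproduct.iso (DerivedCategory.Q (C := A)) L.obj
  have hι : ∀ n, Sigma.ι (fun n => Q.obj (L.obj n)) n ≫ e.inv = Q.map (Sigma.ι L.obj n) :=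
    fun n => ι_comp_sigmaComparison Q L.obj n
  refine ⟨DerivedCategory.triangleOfSESδ hS ≫ (shiftFunctor _ (1 : ℤ)).map e.hom,
    Pretriangulated.isomorphic_distinguished _ (DerivedCategory.triangleOfSES_distinguished hS) _
      (Pretriangulated.Triangle.isoMk _ _ e.symm e.symm (Iso.refl _) ?_ ?_ ?_)⟩
  · change (𝟙 _ - DerLim.shiftMap (fun n => Q.obj (L.obj n)) (fun n => Q.map (f n))) ≫ e.inv =
      e.inv ≫ Q.map (𝟙 _ - DerLim.shiftMap L.obj f)
    refine Sigma.hom_ext _ _ fun n => ?_
    rw [reassoc_of% hι, ← Q.map_comp, Preadditive.sub_comp, Category.id_comp, Preadditive.comp_sub,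
      Preadditive.comp_sub, Category.comp_id, hι, DerLim.shiftMap, DerLim.shiftMap, Sigma.ι_desc,
      Sigma.ι_desc_assoc, Category.assoc, hι, ← Q.map_comp, ← Q.map_sub]
  · change Sigma.desc (fun n => Q.map (colimit.ι L n)) ≫ 𝟙 _ =
      e.inv ≫ Q.map (Sigma.desc (fun n => colimit.ι L n))
    refine Sigma.hom_ext _ _ fun n => ?_
    rw [reassoc_of% hι, ← Q.map_comp, Category.comp_id, Sigma.ι_desc, Sigma.ι_desc]
  · change (DerivedCategory.triangleOfSESδ hS ≫ (shiftFunctor _ (1 : ℤ)).map e.hom) ≫
      (shiftFunctor _ (1 : ℤ)).map e.inv = 𝟙 _ ≫ DerivedCategory.triangleOfSESδ hS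
    rw [Category.assoc, ← Functor.map_comp, Iso.hom_inv_id, CategoryTheory.Functor.map_id, Category.id_comp]
    exact Category.comp_id _

end Groth.Agent.S0985
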