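import Groth.Statements.S0987
import Groth.Agent.Lib.KDer.Top

set_option autoImplicit false
universe w v u
open CategoryTheory CategoryTheory.Limits
open KZero

namespace Groth.Agent.S0987

/-- For an abelian category A there is an isomorphism between K₀(A) and K₀ of the bounded derived
category D^b(A) (objects of D(A) with bounded cohomology, with the distinguished triangles of D(A))
which sends the class of an object X to the class of X placed in degree 0. -/
theorem result (A : Type u) [Category.{v} A] [Abelian A] [HasDerivedCategory.{w} A] :
    ∃ φ : KZero.K0 A ≃+ KZero.K0tr (fun X : DerivedCategory A => ∃ a b : ℤ, X.IsGE a ∧ X.IsLE b),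
      ∀ X : A, φ (KZero.cl X) =
        KZero.clTr (fun X : DerivedCategory A => ∃ a b : ℤ, X.IsGE a ∧ X.IsLE b) ((DerivedCategory.singleFunctor A 0).obj X) := by
  exact GrothLib.KDer.exists_equiv_bounded

end Groth.Agent.S0987
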