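import Groth.Statements.S0989
import Mathlib.Algebra.Homology.DerivedCategory.HomologySequence
import Mathlib.Algebra.Homology.ExactSequenceFour

set_option autoImplicit false
universe w v u
open CategoryTheory CategoryTheory.Limits
open CohDer

namespace Groth.Agent.S0989

/-- Let P be a weak Serre class in an abelian category A: P is closed under isomorphisms, holds for a
zero object, and whenever X₀ → X₁ → X₂ → X₃ → X₄ is exact with P holding for X₀, X₁, X₃, X₄ it holds
for X₂. Then the class of objects of the derived category all of whose cohomology objects satisfy P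
is a triangulated subcategory (contains zero, stable under shifts, closed under extensions) which is
moreover closed under retracts (saturated). -/
theorem result {A : Type u} [Category.{v} A] [Abelian A] [HasDerivedCategory.{w} A]
    (P : ObjectProperty A) [P.IsClosedUnderIsomorphisms] (h0 : ∃ Z : A, IsZero Z ∧ P Z)
    (hP : ∀ S : ComposableArrows A 4, S.Exact → P (S.obj 0) → P (S.obj 1) → P (S.obj 3) → P (S.obj 4) → P (S.obj 2)) :
    ObjectProperty.IsTriangulated (fun X : DerivedCategory A => ∀ n : ℤ, P ((DerivedCategory.homologyFunctor A n).obj X)) ∧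
    ObjectProperty.IsStableUnderRetracts (fun X : DerivedCategory A => ∀ n : ℤ, P ((DerivedCategory.homologyFunctor A n).obj X)) := by
  let H := DerivedCategory.homologyFunctor A
  obtain ⟨Z, hZ, hPZ⟩ := h0
  have hzero : ∀ X : DerivedCategory A, IsZero X → ∀ n, P ((H n).obj X) := fun X hX n =>
    P.prop_of_iso (hZ.iso ((H n).map_isZero hX)) hPZ
  have hretr : ObjectProperty.IsStableUnderRetracts (fun X : DerivedCategory A => ∀ n : ℤ, P ((H n).obj X)) :=
    ⟨fun {X Y} r hY n => by
      let p : (H n).obj Y ⟶ (H n).obj Y := 𝟙 _ - (H n).map r.r ≫ (H n).map r.i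
      have hip : (H n).map r.i ≫ p = 0 := by
        simp [p, ← Functor.map_comp_assoc, r.retract]
      refine hP (ComposableArrows.mk₄ (0 : Z ⟶ Z) (0 : Z ⟶ (H n).obj X) ((H n).map r.i) p) ?_
        hPZ hPZ (hY n) (hY n)
      refine ComposableArrows.exact_of_δ₀
        (ShortComplex.exact_of_isZero_X₂ (ShortComplex.mk (0 : Z ⟶ Z) (0 : Z ⟶ (H n).obj X) zero_comp)
          hZ).exact_toComposableArrows
        (ComposableArrows.exact_of_δ₀ ?_ ?_)
      · have : Mono ((H n).map r.i) := mono_of_mono_fac (show (H n).map r.i ≫ (H n).map r.r = 𝟙 _ by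
          rw [← Functor.map_comp, r.retract, CategoryTheory.Functor.map_id])
        exact ((ShortComplex.exact_iff_mono (ShortComplex.mk (0 : Z ⟶ (H n).obj X) ((H n).map r.i)
          zero_comp) rfl).2 this).exact_toComposableArrows
      · refine (ShortComplex.exact_of_f_is_kernel (ShortComplex.mk _ p hip)
          (KernelFork.IsLimit.ofι _ hip (fun a _ => a ≫ (H n).map r.r) (fun a ha => ?_)
            (fun a _ m hm => ?_))).exact_toComposableArrows
        · simp only [p, Preadditive.comp_sub, Category.comp_id, sub_eq_zero] at ha
          rw [Category.assoc]; exact ha.symm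
        · rw [← hm, Category.assoc, ← Functor.map_comp, r.retract, CategoryTheory.Functor.map_id,
            Category.comp_id]⟩
  refine ⟨?_, hretr⟩
  exact
    { exists_zero := ⟨_, isZero_zero _, hzero _ (isZero_zero _)⟩
      toIsStableUnderShift := ⟨fun a => ⟨fun X hX n =>
        P.prop_of_iso (((H 0).shiftIso a n (a + n) rfl).app X).symm (hX (a + n))⟩⟩
      toIsTriangulatedClosed₂ := ⟨fun T hT h₁ h₃ => ObjectProperty.le_isoClosure _ _ fun n => by
        refine hP (ComposableArrows.mk₄ (DerivedCategory.HomologySequence.δ T (n - 1) n (by omega))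
          ((H n).map T.mor₁) ((H n).map T.mor₂) (DerivedCategory.HomologySequence.δ T n (n + 1) rfl))
          ?_ (h₃ _) (h₁ n) (h₃ n) (h₁ _)
        exact ComposableArrows.exact_of_δ₀
          (DerivedCategory.HomologySequence.exact₁ T hT (n - 1) n (by omega)).exact_toComposableArrows
          (ComposableArrows.exact_of_δ₀
            (DerivedCategory.HomologySequence.exact₂ T hT n).exact_toComposableArrows
            (DerivedCategory.HomologySequence.exact₃ T hT n (n + 1) rfl).exact_toComposableArrows)⟩ }

end Groth.Agent.S0989
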