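import Groth.Statements.S0991
import Groth.Agent.Lib.KInj.Adjoint
import Groth.Agent.Lib.DerCat.Truncation
import Mathlib.CategoryTheory.Abelian.SerreClass.Localization
import Mathlib.CategoryTheory.Localization.Composition
import Mathlib.CategoryTheory.Localization.Adjunction
-- import your own Groth.Agent.* helpers here

set_option autoImplicit false
universe w w' v v' u u'
open CategoryTheory CategoryTheory.Limits
open CohDer

namespace Groth.Agent.S0991

/-- Let P be a Serre class in an abelian category A and v : A ⥤ Q an exact localization at the morphisms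
with kernel and cokernel in P (a model of A/P). Suppose v has a left adjoint u whose unit 𝟭 ⟶ u ⋙ v
is an isomorphism. Then the induced functor D(A) ⥤ D(Q) is a localization at the class of morphisms
whose cone has all cohomology objects in P; that is, D(Q) is the Verdier quotient D(A)/D_P(A). -/
theorem result {A : Type u} [Category.{v} A] [Abelian A] [HasDerivedCategory.{w} A]
    (P : ObjectProperty A) [P.IsSerreClass]
    {Q : Type u'} [Category.{v'} Q] [Abelian Q] [HasDerivedCategory.{w'} Q]
    (v : A ⥤ Q) [v.IsLocalization P.isoModSerre] [v.Additive] [PreservesFiniteLimits v] [PreservesFiniteColimits v]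
    (u : Q ⥤ A) (adj : u ⊣ v) [IsIso adj.unit] :
    v.mapDerivedCategory.IsLocalization
      (ObjectProperty.trW (fun X : DerivedCategory A => ∀ n : ℤ, P ((DerivedCategory.homologyFunctor A n).obj X))) := by
  haveI : u.Additive := adj.left_adjoint_additive
  have hu := adj.fullyFaithfulLOfIsIsoUnit
  haveI := hu.full
  haveI := hu.faithful
  let P' : ObjectProperty (DerivedCategory A) :=
    fun X => ∀ n : ℤ, P ((DerivedCategory.homologyFunctor A n).obj X)
  haveI : P'.IsClosedUnderIsomorphisms :=
    ⟨fun e h n => P.prop_of_iso ((DerivedCategory.homologyFunctor A n).mapIso e) (h n)⟩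
  let uc := u.mapHomologicalComplex (ComplexShape.up ℤ)
  let vc := v.mapHomologicalComplex (ComplexShape.up ℤ)
  let adjc : uc ⊣ vc := GrothLib.KInj.mapComplexAdj adj (ComplexShape.up ℤ)
  haveI hη : ∀ K, IsIso (adjc.unit.app K) := fun K => by
    haveI : ∀ n, IsIso ((adjc.unit.app K).f n) := fun n => by
      change IsIso (adj.unit.app (K.X n))
      infer_instance
    exact HomologicalComplex.Hom.isIso_of_components _
  let W₃ : MorphismProperty (CochainComplex A ℤ) :=
    (MorphismProperty.isomorphisms (DerivedCategory Q)).inverseImage (vc ⋙ DerivedCategory.Q)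
  haveI h₁ : vc.IsLocalization
      ((MorphismProperty.isomorphisms (CochainComplex Q ℤ)).inverseImage vc) := adjc.isLocalization'
  haveI h₃ : (vc ⋙ DerivedCategory.Q).IsLocalization W₃ :=
    Functor.IsLocalization.comp vc DerivedCategory.Q
      ((MorphismProperty.isomorphisms (CochainComplex Q ℤ)).inverseImage vc)
      (HomologicalComplex.quasiIso Q (ComplexShape.up ℤ)) W₃ (fun _ _ _ hf => hf)
      (fun _ _ f (hf : IsIso (vc.map f)) => by
        show IsIso (DerivedCategory.Q.map (vc.map f))
        infer_instance)
      (fun K L g hg => by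
        have e : Arrow.mk g ≅ Arrow.mk (vc.map (uc.map g)) :=
          Arrow.isoMk (asIso (adjc.unit.app K)) (asIso (adjc.unit.app L))
            (adjc.unit.naturality g).symm
        refine ((W₃.map vc).arrow_mk_iso_iff e).2 (W₃.map_mem_map _ _ ?_)
        show IsIso (DerivedCategory.Q.map (vc.map (uc.map g)))
        exact ((MorphismProperty.isomorphisms _).arrow_mk_iso_iff
          (DerivedCategory.Q.mapArrow.mapIso e)).1
          (Localization.inverts DerivedCategory.Q (HomologicalComplex.quasiIso Q _) g hg))
  haveI : (DerivedCategory.Q ⋙ v.mapDerivedCategory).IsLocalization W₃ :=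
    Functor.IsLocalization.of_iso W₃ v.mapDerivedCategoryFactors.symm
  have hzero : ∀ Z : DerivedCategory A, IsZero (v.mapDerivedCategory.obj Z) ↔ P' Z := by
    intro Z
    have e₀ : DerivedCategory.Q.obj (DerivedCategory.Q.objPreimage Z) ≅ Z :=
      DerivedCategory.Q.objObjPreimageIso Z
    generalize DerivedCategory.Q.objPreimage Z = K at e₀
    let e (n : ℤ) : (DerivedCategory.homologyFunctor Q n).obj (v.mapDerivedCategory.obj Z) ≅
        v.obj ((DerivedCategory.homologyFunctor A n).obj Z) :=
      (DerivedCategory.homologyFunctor Q n).mapIso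
          (v.mapDerivedCategory.mapIso e₀.symm ≪≫ v.mapDerivedCategoryFactors.app K) ≪≫
        (DerivedCategory.homologyFunctorFactors Q n).app (vc.obj K) ≪≫
        (K.sc n).mapHomologyIso v ≪≫
        v.mapIso (((DerivedCategory.homologyFunctor A n).mapIso e₀.symm ≪≫
          (DerivedCategory.homologyFunctorFactors A n).app K).symm)
    refine ⟨fun h n => ?_, fun h => GrothLib.DerTrunc.isZero_of_forall _ fun n => ?_⟩
    · exact (ObjectProperty.SerreClassLocalization.isZero_obj_iff v P _).1
        (((DerivedCategory.homologyFunctor Q n).map_isZero h).of_iso (e n).symm)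
    · exact ((ObjectProperty.SerreClassLocalization.isZero_obj_iff v P _).2 (h n)).of_iso (e n)
  have htrW : ∀ {X Y : DerivedCategory A} (f : X ⟶ Y),
      P'.trW f ↔ IsIso (v.mapDerivedCategory.map f) := by
    intro X Y f
    obtain ⟨Z, g, h, hT⟩ := Pretriangulated.distinguished_cocone_triangle f
    exact (P'.trW_iff_of_distinguished (Pretriangulated.Triangle.mk f g h) hT).trans ((hzero Z).symm.trans
      (Pretriangulated.Triangle.isZero₃_iff_isIso₁ _
        (v.mapDerivedCategory.map_distinguished _ hT)))
  have hW₃ : ∀ {K L : CochainComplex A ℤ} (f : K ⟶ L),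
      W₃ f ↔ IsIso (v.mapDerivedCategory.map (DerivedCategory.Q.map f)) := fun f =>
    (NatIso.isIso_map_iff v.mapDerivedCategoryFactors f).symm
  refine Functor.IsLocalization.of_comp DerivedCategory.Q v.mapDerivedCategory
    (HomologicalComplex.quasiIso A (ComplexShape.up ℤ)) P'.trW W₃ (fun K L f hf => ?_) ?_
  · have := Localization.inverts DerivedCategory.Q _ f hf
    exact (hW₃ f).2 inferInstance
  ext X Y g
  refine (htrW g).trans ⟨fun hg => ?_, ?_⟩
  · have eX := DerivedCategory.Q.objObjPreimageIso X
    have eY := DerivedCategory.Q.objObjPreimageIso Y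
    obtain ⟨X', s, hs, f, hf⟩ := DerivedCategory.right_fac (eX.hom ≫ g ≫ eY.inv)
    have e : Arrow.mk (DerivedCategory.Q.map f) ≅ Arrow.mk g :=
      Arrow.isoMk (asIso (DerivedCategory.Q.map s) ≪≫ eX) eY (by
        simp only [Iso.trans_hom, asIso_hom, Category.assoc]
        dsimp
        rw [← cancel_epi (inv (DerivedCategory.Q.map s)), IsIso.inv_hom_id_assoc, ← reassoc_of% hf]
        simp)
    refine ((W₃.map DerivedCategory.Q).arrow_mk_iso_iff e).1 (W₃.map_mem_map _ _ ((hW₃ f).2 ?_))
    exact ((MorphismProperty.isomorphisms _).arrow_mk_iso_iff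
      (v.mapDerivedCategory.mapArrow.mapIso e)).2 hg
  · intro hg
    refine (show W₃.map DerivedCategory.Q ≤
      (MorphismProperty.isomorphisms _).inverseImage v.mapDerivedCategory from ?_) _ hg
    rw [MorphismProperty.map_le_iff]
    exact fun K L f hf => (hW₃ f).1 hf

end Groth.Agent.S0991
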