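import Groth.Statements.S0992
import Mathlib

set_option autoImplicit false
universe w
open CategoryTheory CategoryTheory.Limits Opposite
open CohDer

namespace Groth.Agent.S0992

/-- Let I be a well-ordered type and K : Iᵒᵖ ⥤ CochainComplex Ab an inverse system of acyclic complexes
of abelian groups such that for every β and every degree n, each family of elements of the Kⁿ_γ (γ <
β) compatible under the transition maps lifts to an element of Kⁿ_β (i.e. Kⁿ_β → lim_{γ<β} Kⁿ_γ is
surjective). Then the limit complex lim K is acyclic. -/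
theorem result {I : Type w} [LinearOrder I] [WellFoundedLT I]
    (K : Iᵒᵖ ⥤ CochainComplex AddCommGrpCat.{w} ℤ)
    (hac : ∀ (β : I) (n : ℤ), (K.obj (op β)).ExactAt n)
    (hsurj : ∀ (β : I) (n : ℤ) (x : ∀ γ : {γ : I // γ < β}, (K.obj (op γ.1)).X n),
      (∀ (γ γ' : {γ : I // γ < β}) (h : γ.1 ≤ γ'.1), ((K.map (homOfLE h).op).f n).hom (x γ') = x γ) →
      ∃ y : (K.obj (op β)).X n, ∀ γ : {γ : I // γ < β}, ((K.map (homOfLE γ.2.le).op).f n).hom y = x γ)
    (n : ℤ) : (limit K).ExactAt n := by
  classical
  -- restriction and differential, elementwise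
  let X := fun (β : I) (m : ℤ) => (K.obj (op β)).X m
  let res : ∀ {γ β : I}, γ ≤ β → ∀ m : ℤ, X β m → X γ m :=
    fun h m x => ((K.map (homOfLE h).op).f m).hom x
  let d : ∀ (β : I) (i j : ℤ), X β i → X β j := fun β i j x => ((K.obj (op β)).d i j).hom x
  have res_trans : ∀ {δ γ β : I} (h₁ : δ ≤ γ) (h₂ : γ ≤ β) (m : ℤ) (x : X β m),
      res h₁ m (res h₂ m x) = res (h₁.trans h₂) m x := by
    intro δ γ β h₁ h₂ m x
    have : (K.map (homOfLE h₂).op).f m ≫ (K.map (homOfLE h₁).op).f m =
        (K.map (homOfLE (h₁.trans h₂)).op).f m := by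
      rw [← HomologicalComplex.comp_f, ← K.map_comp]; rfl
    exact ConcreteCategory.congr_hom this x
  have res_d : ∀ {γ β : I} (h : γ ≤ β) (i j : ℤ) (x : X β i),
      res h j (d β i j x) = d γ i j (res h i x) := fun h i j x =>
    (ConcreteCategory.congr_hom ((K.map (homOfLE h).op).comm i j) x).symm
  have exact' : ∀ (β : I) (i j k : ℤ), i + 1 = j → j + 1 = k → ∀ x : X β j, d β j k x = 0 →
      ∃ y : X β i, d β i j y = x := by
    intro β i j k hij hjk x hx
    have h := (HomologicalComplex.exactAt_iff' _ i j k (by simp; omega) (by simp; omega)).1 (hac β j)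
    exact (ShortComplex.ab_exact_iff _).1 h x hx
  have dd : ∀ (β : I) (i j k : ℤ) (x : X β i), d β j k (d β i j x) = 0 := fun β i j k x =>
    ConcreteCategory.congr_hom ((K.obj (op β)).d_comp_d i j k) x
  -- primitives of compatible families of cycles on downward closed sets
  let E : Set I → Prop := fun S => ∀ (i j : ℤ), i + 1 = j → ∀ z : ∀ β : S, X β.1 j,
    (∀ β : S, d β.1 j (j + 1) (z β) = 0) → (∀ (γ β : S) (h : γ.1 ≤ β.1), res h j (z β) = z γ) →
    ∃ y : ∀ β : S, X β.1 i, (∀ β : S, d β.1 i j (y β) = z β) ∧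
      ∀ (γ β : S) (h : γ.1 ≤ β.1), res h i (y β) = y γ
  have gen : ∀ S : Set I, (∀ γ β, γ ≤ β → β ∈ S → γ ∈ S) → (∀ β ∈ S, E (Set.Iio β)) → E S := by
    intro S hS hE i j hij z hz hzc
    let z' : ∀ β : I, X β j := fun β => if hβ : β ∈ S then z ⟨β, hβ⟩ else 0
    let spec : ∀ β : I, (∀ γ, γ < β → X γ i) → X β i → Prop := fun β prev Y =>
      d β i j Y = z' β ∧ ∀ (γ : I) (h : γ < β), res h.le i Y = prev γ h
    let y : ∀ β : I, X β i := WellFoundedLT.fix fun β prev =>
      if h : ∃ Y, spec β prev Y then h.choose else 0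
    have hy : ∀ β : I, y β = if h : ∃ Y, spec β (fun γ _ => y γ) Y then h.choose else 0 :=
      fun β => WellFoundedLT.fix_eq _ β
    have key : ∀ β : I, β ∈ S → spec β (fun γ _ => y γ) (y β) := by
      intro β
      induction β using WellFoundedLT.induction with
      | ind β ih =>
        intro hβ
        have hex : ∃ Y, spec β (fun γ _ => y γ) Y := by
          obtain ⟨w, hw⟩ := hsurj β i (fun γ => y γ.1) (fun γ γ' h => by
            rcases eq_or_lt_of_le h with h' | h'
            · obtain rfl := Subtype.ext h'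
              have : K.map (homOfLE h).op = 𝟙 _ := K.map_id _
              rw [this]; rfl
            · exact (ih γ'.1 γ'.2 (hS _ _ γ'.2.le hβ)).2 γ.1 h')
          -- the defect
          let c : X β j := z' β - d β i j w
          have hzβ : z' β = z ⟨β, hβ⟩ := dif_pos hβ
          have hc : d β j (j + 1) c = 0 := by
            simp only [c, d, map_sub]
            rw [show ((K.obj (op β)).d j (j + 1)).hom (z' β) = 0 by rw [hzβ]; exact hz ⟨β, hβ⟩]
            exact (zero_sub _).trans (neg_eq_zero.2 (dd β i j (j + 1) w))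
          obtain ⟨u, hu⟩ := exact' β i j (j + 1) hij rfl c hc
          obtain ⟨v, hv, hvc⟩ := hE β hβ (i - 1) i (by omega) (fun γ => res γ.2.le i u)
            (fun γ => by
              have h1 : res γ.2.le j c = 0 := by
                have hw' : res γ.2.le i w = y γ.1 := hw γ
                simp only [c, res, map_sub]
                refine sub_eq_zero.2 ?_
                change res γ.2.le j (z' β) = res γ.2.le j (d β i j w)
                rw [res_d, hw', (ih γ.1 γ.2 (hS _ _ γ.2.le hβ)).1, hzβ,
                  hzc ⟨γ.1, hS _ _ γ.2.le hβ⟩ ⟨β, hβ⟩ γ.2.le]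
                simp only [z', dif_pos (hS _ _ γ.2.le hβ)]
              rw [show i + 1 = j from hij, ← res_d, hu, h1])
            (fun γ δ h => res_trans _ _ _ _)
          obtain ⟨v', hv'⟩ := hsurj β (i - 1) v (fun γ γ' h => hvc γ γ' h)
          refine ⟨w + u - d β (i - 1) i v', ?_, fun γ h => ?_⟩
          · have e1 : d β i j (d β (i - 1) i v') = 0 := dd β _ _ _ v'
            calc d β i j (w + u - d β (i - 1) i v')
                = d β i j w + d β i j u - d β i j (d β (i - 1) i v') := by
                  simp only [d, map_sub, map_add]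
              _ = z' β := by rw [hu, e1, sub_zero]; exact add_sub_cancel _ _
          · have e1 : res h.le i (d β (i - 1) i v') = res h.le i u := by
              rw [res_d]
              exact (congrArg (d γ (i - 1) i) (hv' ⟨γ, h⟩)).trans (hv ⟨γ, h⟩)
            calc res h.le i (w + u - d β (i - 1) i v')
                = res h.le i w + res h.le i u - res h.le i (d β (i - 1) i v') := by
                  simp only [res, map_sub, map_add]
              _ = y γ := by rw [e1, add_sub_cancel_right]; exact hw ⟨γ, h⟩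
        rw [hy β, dif_pos hex]
        exact hex.choose_spec
    refine ⟨fun β => y β.1, fun β => (key β.1 β.2).1.trans (dif_pos β.2), fun γ β h => ?_⟩
    rcases eq_or_lt_of_le h with h' | h'
    · obtain rfl := Subtype.ext h'
      have : K.map (homOfLE h).op = 𝟙 _ := K.map_id _
      simp only [res]
      rw [this]; rfl
    · exact (key β.1 β.2).2 γ.1 h'
  have hIio : ∀ β : I, E (Set.Iio β) := by
    intro β
    induction β using WellFoundedLT.induction with
    | ind β ih => exact gen _ (fun γ δ h hδ => lt_of_le_of_lt h hδ) (fun γ hγ => ih γ hγ)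
  have huniv : E Set.univ := gen _ (fun _ _ _ _ => trivial) (fun β _ => hIio β)
  -- the limit
  let ev : ℤ → _ := fun m => HomologicalComplex.eval AddCommGrpCat.{w} (ComplexShape.up ℤ) m
  have hlim : ∀ m, IsLimit ((forget AddCommGrpCat.{w}).mapCone ((ev m).mapCone (limit.cone K))) :=
    fun m => isLimitOfPreserves _ (isLimitOfPreserves _ (limit.isLimit K))
  have hπd : ∀ (a b : ℤ) (β : I) (x : (limit K).X a),
      ((limit.π K (op β)).f b).hom (((limit K).d a b).hom x) =
        d β a b (((limit.π K (op β)).f a).hom x) := fun a b β x =>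
    (ConcreteCategory.congr_hom ((limit.π K (op β)).comm a b) x).symm
  rw [HomologicalComplex.exactAt_iff' _ (n - 1) n (n + 1) (by simp) (by simp),
    ShortComplex.ab_exact_iff]
  intro x hx
  obtain ⟨y, hy₁, hy₂⟩ := huniv (n - 1) n (by omega) (fun β => ((limit.π K (op β.1)).f n).hom x)
    (fun β => by
      refine (hπd n (n + 1) β.1 x).symm.trans ?_
      exact (congrArg ((limit.π K (op β.1)).f (n + 1)).hom hx).trans (map_zero _))
    (fun γ β h => ConcreteCategory.congr_hom
      (congrArg (fun f => HomologicalComplex.Hom.f f n) (limit.w K (homOfLE h).op)) x)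
  let sec : (K ⋙ ev (n - 1) ⋙ forget AddCommGrpCat.{w}).sections :=
    ⟨fun β => y ⟨β.unop, trivial⟩, fun {β γ} f => hy₂ ⟨γ.unop, trivial⟩ ⟨β.unop, trivial⟩
      (leOfHom f.unop)⟩
  obtain ⟨Y, hY⟩ : ∃ Y : (limit K).X (n - 1),
      ∀ β : I, ((limit.π K (op β)).f (n - 1)).hom Y = y ⟨β, trivial⟩ :=
    ⟨(Types.isLimitEquivSections (hlim (n - 1))).symm sec, fun β =>
      Types.isLimitEquivSections_symm_apply (hlim (n - 1)) sec (op β)⟩
  refine ⟨Y, ?_⟩
  refine (Types.isLimitEquivSections (hlim n)).injective (Subtype.ext (funext fun j => ?_))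
  obtain ⟨β⟩ := j
  exact ((hπd (n - 1) n β Y).trans (congrArg (d β (n - 1) n) (hY β))).trans (hy₁ ⟨β, trivial⟩)

end Groth.Agent.S0992
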