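import Groth.Statements.S0995
import Groth.Agent.Lib.CohDer19.CohDim
-- import your own Groth.Agent.* helpers here

set_option autoImplicit false
universe w w' v v' u u'
open CategoryTheory CategoryTheory.Limits
open CohDer

namespace Groth.Agent.S0995

/-- Part (2), in the case of enough injectives: take abelian categories A and B, with A having injective
resolutions, and a left exact functor F : A ⥤ B, with RⁿF = 0 for some n, and let RF : D(A) ⥤ D(B)
be its right derived functor on the unbounded derived category. If K is a complex all of whose terms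
Kᵐ are F-acyclic (RⁱF(Kᵐ) = 0 for i > 0), then the canonical map F(K) ⟶ RF(K) is an isomorphism. -/
theorem result {A : Type u} [Category.{v} A] [Abelian A] [HasDerivedCategory.{w} A] [HasInjectiveResolutions A]
    {B : Type u'} [Category.{v'} B] [Abelian B] [HasDerivedCategory.{w'} B]
    (F : A ⥤ B) [F.Additive] [PreservesFiniteLimits F] (n : ℕ) (hn : ∀ X : A, IsZero ((F.rightDerived n).obj X))
    [(F.mapHomotopyCategory (ComplexShape.up ℤ) ⋙ DerivedCategory.Qh).HasRightDerivedFunctor (HomotopyCategory.quasiIso A (ComplexShape.up ℤ))]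
    (K : CochainComplex A ℤ) (hK : ∀ (m : ℤ) (i : ℕ), 0 < i → IsZero ((F.rightDerived i).obj (K.X m))) :
    IsIso (((F.mapHomotopyCategory (ComplexShape.up ℤ) ⋙ DerivedCategory.Qh).totalRightDerivedUnit DerivedCategory.Qh
      (HomotopyCategory.quasiIso A (ComplexShape.up ℤ))).app ((HomotopyCategory.quotient A (ComplexShape.up ℤ)).obj K)) := by
  haveI : EnoughInjectives A := ⟨fun X => ⟨⟨(injectiveResolution X).cocomplex.X 0, inferInstance,
    (injectiveResolution X).ι.f 0, inferInstanceAs (Mono ((injectiveResolution X).ι.f 0))⟩⟩⟩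
  haveI : (HomotopyCategory.quasiIso A (ComplexShape.up ℤ)).HasLeftCalculusOfFractions := by
    rw [HomotopyCategory.quasiIso_eq_trW_subcategoryAcyclic]; infer_instance
  have hN : ∀ i : ℕ, n + 1 ≤ i → ∀ X : A, IsZero ((F.rightDerived i).obj X) :=
    fun i hi => GrothLib.CohDer19.CohDim.isZero_of_ge F n hn i (by omega)
  exact (GrothLib.CohDer19.CohDim.resolvable F n hN).isIso_app_of_isRightDerivedFunctor _ _
    (Q := (HomotopyCategory.quotient A (ComplexShape.up ℤ)).obj K)
    (fun m k => hK m (k + 1) (Nat.succ_pos k))

end Groth.Agent.S0995
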