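import Groth.Statements.S0996
import Groth.Agent.Lib.CohDer19.Unit
import Groth.Agent.Lib.GrothSS.Acyclic

set_option autoImplicit false
universe w w' v v' u u'
open CategoryTheory CategoryTheory.Limits
open CohDer

namespace Groth.Agent.S0996

/-- Leray's acyclicity lemma. Let F : C ⥤ D be a left exact additive functor between abelian categories,
with C having enough injectives. If K is a bounded below cochain complex in C all of whose terms are
right F-acyclic (RⁱF(Kᵐ) = 0 for i > 0), then the canonical map F(K) → RF(K) in the bounded below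
derived category D⁺(D) is an isomorphism. -/
theorem result {C : Type u} [Category.{v} C] [Abelian C] [HasDerivedCategory.{w} C] [EnoughInjectives C]
    {D : Type u'} [Category.{v'} D] [Abelian D] [HasDerivedCategory.{w'} D]
    (F : C ⥤ D) [F.Additive] [PreservesFiniteLimits F] (K : CochainComplex.Plus C)
    (hK : ∀ (m : ℤ) (i : ℕ), 0 < i → IsZero ((F.rightDerived i).obj (K.obj.X m))) :
    IsIso (F.rightDerivedFunctorPlusUnit.app ((HomotopyCategory.Plus.quotient C).obj K)) := by
  obtain ⟨K, a, ha⟩ := K
  obtain ⟨L, hL, i, hi⟩ := CochainComplex.Plus.exists_quasiIso_injective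
    (⟨K, a, ha⟩ : CochainComplex.Plus C) a
  let M := (InjectiveObject.ι C).mapCochainComplexPlus.obj L
  have : QuasiIso i.hom := hi
  have : M.obj.IsStrictlyGE a :=
    inferInstanceAs (CochainComplex.IsStrictlyGE
      (((InjectiveObject.ι C).mapHomologicalComplex (ComplexShape.up ℤ)).obj L.obj) a)
  have hM : ∀ n, Injective (M.obj.X n) := fun n =>
    inferInstanceAs (Injective ((InjectiveObject.ι C).obj (L.obj.X n)))
  refine (GrothLib.CohDer19.isIso_unit_iff F i hM).2 ?_
  exact GrothLib.GrothSS.quasiIso_map F i.hom a (fun m k => hK m (k + 1) (by omega))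
    (fun m => by
      have := hM m
      exact GrothLib.GrothSS.isAcyclicObj_of_injective F _)

end Groth.Agent.S0996
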