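import Groth.Statements.S1000
import Groth.Agent.Lib.OX.RpushCoprod

set_option autoImplicit false
universe u
open CategoryTheory CategoryTheory.Limits AlgebraicGeometry
attribute [local instance] HasDerivedCategory.standard
open Perf

namespace Groth.Agent.S1000

/-- Let f : X ⟶ S be quasi-compact and quasi-separated and assume Rf_* exists on the unbounded derived
category. For a family Kᵢ of objects of D_QCoh(O_X) indexed by a small type, with direct sum ∐ Kᵢ in
D(O_X), the canonical map ∐ Rf_*Kᵢ ⟶ Rf_*(∐ Kᵢ) is an isomorphism. -/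
theorem result {X S : Scheme.{u}} (f : X ⟶ S) [QuasiCompact f] [QuasiSeparated f] [DCoh.HasRpush f]
    {ι : Type u} (K : ι → DCoh.D X) (hK : ∀ i, DCoh.IsQCohD (K i)) [HasCoproduct K]
    [HasCoproduct (fun i => (DCoh.Rpush f).obj (K i))] :
    IsIso (Sigma.desc (fun i => (DCoh.Rpush f).map (Sigma.ι K i))) := by
  have := GrothLib.HoCat.derivedCategory_hasColimitsOfShape (C := S.Modules) (J := ι)
  exact GrothLib.OX.isIso_Rpush_coprod f K hK

end Groth.Agent.S1000
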