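import Groth.Statements.S10000
import Groth.Agent.Lib.AlgSp.Points
import Groth.Agent.Lib.AlgSp.GeomNbhd
import Groth.Agent.Lib.AlgSp.Space
import Groth.Agent.Lib.Weight.GeomPoints
import Mathlib.FieldTheory.IsAlgClosed.Classification
import Mathlib.RingTheory.Algebraic.Cardinality
-- import your own Groth.Agent.* helpers here

set_option autoImplicit false
universe u
open CategoryTheory CategoryTheory.Limits AlgebraicGeometry
open AlgSp GrothLib.AlgSp
set_option backward.isDefEq.respectTransparency false

namespace Groth.Agent.S10000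

open Cardinal in
theorem exists_embedding {F K k : Type u} [Field F] [Field K] [Field k] [IsAlgClosed k] (i : F →+* K) (j : F →+* k)
    (h : Finite K ∨ #K < #k) : ∃ ψ : K →+* k, ψ.comp i = j := by
  letI := i.toAlgebra
  letI := j.toAlgebra
  obtain hfin | ⟨hinf, hlt⟩ : Finite K ∨ (Infinite K ∧ #K < #k) := by
    rcases finite_or_infinite K with h' | h'
    · exact .inl h'
    · exact .inr ⟨h', h.resolve_left (not_finite_iff_infinite.2 h')⟩
  · haveI : Module.Finite F K := Module.Finite.of_finite
    haveI : Algebra.IsAlgebraic F K := Algebra.IsAlgebraic.of_finite F K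
    exact ⟨(IsAlgClosed.lift (R := F) (S := K) (M := k)).toRingHom, AlgHom.comp_algebraMap _⟩
  obtain ⟨s, hs⟩ := exists_isTranscendenceBasis F K
  obtain ⟨t, ht⟩ := exists_isTranscendenceBasis F k
  have hF : #F ≤ #K := Cardinal.mk_le_of_injective i.injective
  have hst : #s ≤ #t := by
    refine le_of_not_gt fun hgt => ?_
    have := IsAlgClosed.cardinal_le_max_transcendence_basis' _ ht
    exact not_le_of_gt hlt (this.trans (max_le (max_le hF (hgt.le.trans (Cardinal.mk_set_le s)))
      (Cardinal.aleph0_le_mk K)))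
  obtain ⟨σ⟩ := hst
  let θ : Algebra.adjoin F (Set.range ((↑) : s → K)) →ₐ[F] k :=
    (MvPolynomial.aeval fun x : s => ((σ x : t) : k)).comp hs.1.aevalEquiv.symm.toAlgHom
  have hθ : Function.Injective θ :=
    Function.Injective.comp (g := MvPolynomial.aeval fun x : s => ((σ x : t) : k)) (ht.1.comp σ σ.injective)
      hs.1.aevalEquiv.symm.injective
  letI := θ.toRingHom.toAlgebra
  haveI : FaithfulSMul (Algebra.adjoin F (Set.range ((↑) : s → K))) k :=
    (faithfulSMul_iff_algebraMap_injective _ _).2 hθ
  haveI := hs.isAlgebraic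
  let ψ : K →ₐ[Algebra.adjoin F (Set.range ((↑) : s → K))] k := IsAlgClosed.lift
  refine ⟨ψ.toRingHom, RingHom.ext fun x => ?_⟩
  have := ψ.commutes (algebraMap F _ x)
  exact this.trans (θ.commutes x)

open Cardinal in
theorem finite_or_card_lt {κ : Cardinal.{u}} (A : Type u) [Field A] {W : Scheme.{u}} (h : W ⟶ Spec (CommRingCat.of A))
    [LocallyQuasiFinite h] [LocallyOfFiniteType h] (w : W) (hA : #A < κ) :
    Finite (W.residueField w) ∨ #(W.residueField w) < κ := by
  let φ : A →+* (Spec (CommRingCat.of A)).residueField (h w) :=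
    (Scheme.Spec.residueFieldIso (CommRingCat.of A) (h w)).inv.hom.comp (algebraMap A (h w).asIdeal.ResidueField)
  haveI : (h w).asIdeal.IsMaximal := by
    rcases Ideal.eq_bot_or_top (h w).asIdeal with e | e
    · rw [e]; exact Ideal.bot_isMaximal
    · exact absurd e (h w).isPrime.ne_top
  have hφ : Function.Surjective φ :=
    (Scheme.Spec.residueFieldIso (CommRingCat.of A) (h w)).commRingCatIsoToRingEquiv.symm.surjective.comp
      (Ideal.algebraMap_residueField_surjective _)
  have hf : ((h.residueFieldMap w).hom.comp φ).Finite :=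
    (GrothLib.Weight.finite_residueFieldMap h w).comp (RingHom.Finite.of_surjective _ hφ)
  letI := ((h.residueFieldMap w).hom.comp φ).toAlgebra
  haveI : Module.Finite A (W.residueField w) := hf
  rcases finite_or_infinite A with hA' | hA'
  · exact .inl (Module.finite_of_finite A)
  · refine .inr (lt_of_le_of_lt ?_ hA)
    haveI : Algebra.IsAlgebraic A (W.residueField w) := Algebra.IsAlgebraic.of_finite A _
    exact (Algebra.IsAlgebraic.cardinalMk_le_max A (W.residueField w)).trans
      (max_le le_rfl (Cardinal.aleph0_le_mk A))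

/-- For a morphism X ⟶ Y of algebraic spaces and an algebraically closed field k over S that is large
compared with X, X(k) surjects onto |X| ×_{|Y|} Y(k): every pair of a point x of |X| and a k-valued
point of Y with the same image in |Y| comes from a k-valued point of X. (The published statement
measures largeness by a cardinal attached to X that bounds the residue fields of an etale atlas;
this row asks directly that every residue field of one surjective etale chart U of X have
cardinality smaller than that of k, which is how the bound enters the argument.) -/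
theorem result {S : Scheme.{u}} {X Y : AlgSp.Space S} (f : X ⟶ Y)
    {U : Over S} (a : (AlgSp.yon S).obj U ⟶ X.obj) (ha : AlgSp.RepWith @Etale a) (has : AlgSp.RepWith @Surjective a)
    (ybar : AlgSp.FieldPt Y.obj) (hy : ybar.IsGeometric)
    (hk : ∀ u : ↥U.left, Cardinal.mk ↥(U.left.residueField u) < Cardinal.mk ybar.K)
    (x : AlgSp.Points X.obj) (hx : AlgSp.Points.map f.hom x = AlgSp.Points.mk ybar) :
    ∃ xbar : (AlgSp.yon S).obj ybar.pt ⟶ X.obj, xbar ≫ f.hom = ybar.toHom ∧
      AlgSp.Points.ofPt xbar (IsLocalRing.closedPoint ybar.K) = x := by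
  haveI : IsAlgClosed ybar.K := hy
  obtain ⟨u, rfl⟩ := surjective_ofPt_of_repWith has x
  let Tu : Over S := Over.mk (U.left.fromSpecResidueField u ≫ U.hom)
  let iu : Tu ⟶ U := Over.homMk (U.left.fromSpecResidueField u) rfl
  obtain ⟨Vc, b, hb, hbs⟩ := Y.property.atlas
  obtain ⟨V₁, c, d, sq₁⟩ := exists_isPullback_yon Y.property.diag ybar.toHom b
  haveI : Etale c.left := hb.2 _ _ _ sq₁.flip
  haveI : Surjective c.left := hbs.2 _ _ _ sq₁.flip
  obtain ⟨z₁, -⟩ := c.left.surjective (IsLocalRing.closedPoint ybar.K)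
  obtain ⟨s, hs, -⟩ := exists_section_of_etale_algClosed (K := ybar.K) (str := ybar.str) c z₁
  let vk : ybar.pt ⟶ Vc := s ≫ d
  have hvk : (AlgSp.yon S).map vk ≫ b = ybar.toHom := by
    rw [Functor.map_comp, Category.assoc, ← sq₁.w, ← Functor.map_comp_assoc, hs]
    simp
  obtain ⟨v, φ₀, hφ₀, hv⟩ : ∃ (v : Vc.left) (φ₀ : Vc.left.residueField v ⟶ CommRingCat.of ybar.K),
      Spec.map φ₀ ≫ Vc.left.fromSpecResidueField v = vk.left ∧ vk.left (IsLocalRing.closedPoint ybar.K) = v :=
    ⟨_, _, Scheme.descResidueField_stalkClosedPointTo_fromSpecResidueField ybar.K Vc.left vk.left, rfl⟩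
  obtain ⟨W, w₁, w₂, sq₂⟩ := exists_isPullback_yon Y.property.diag ((AlgSp.yon S).map iu ≫ a ≫ f.hom) b
  have hw₁ : Etale w₁.left := hb.2 _ _ _ sq₂.flip
  have hiu : ∀ t : ↥Tu.left, iu.left t = u := fun t => U.left.fromSpecResidueField_apply u t
  let t₀ : ↥Tu.left := IsLocalRing.closedPoint (U.left.residueField u)
  have hpts : AlgSp.Points.map ((AlgSp.yon S).map iu ≫ a ≫ f.hom) (AlgSp.Points.ofScheme Tu t₀) =
      AlgSp.Points.map b (AlgSp.Points.ofScheme Vc v) := by
    rw [← Points.ofPt_eq_map_ofScheme, ← Points.ofPt_eq_map_ofScheme, ofPt_map_comp, hiu, ← Points.map_ofPt, hx,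
      ← hv, ← ofPt_map_comp, hvk, Points.ofPt_toHom]
  obtain ⟨p, -, hp₂⟩ := exists_of_isPullback sq₂ hpts
  obtain ⟨w, hw⟩ := (AlgSp.Points.schemeEquiv W).surjective p
  rw [← hw, show (AlgSp.Points.schemeEquiv W) w = AlgSp.Points.ofScheme W w from rfl, map_yon_ofPt] at hp₂
  obtain rfl : w₂.left w = v := (AlgSp.Points.schemeEquiv Vc).injective hp₂
  haveI : Etale w₁.left := hw₁
  haveI : LocallyQuasiFinite w₁.left := locallyQuasiFinite_of_unramified _
  have hcard : Finite (W.left.residueField w) ∨ Cardinal.mk (W.left.residueField w) < Cardinal.mk ybar.K :=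
    finite_or_card_lt (U.left.residueField u) w₁.left w (hk u)
  obtain ⟨ψ, hψ⟩ := exists_embedding (w₂.left.residueFieldMap w).hom φ₀.hom hcard
  let sk : Spec (CommRingCat.of ybar.K) ⟶ W.left := Spec.map (CommRingCat.ofHom ψ) ≫ W.left.fromSpecResidueField w
  have h₂ : sk ≫ w₂.left = vk.left := by
    rw [← hφ₀, Category.assoc, ← w₂.left.SpecMap_residueFieldMap_fromSpecResidueField w, ← Category.assoc,
      ← Spec.map_comp]
    congr 2
    exact CommRingCat.hom_ext hψ
  let sk' : ybar.pt ⟶ W := Over.homMk sk (by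
    rw [← Over.w w₂, ← Category.assoc, h₂]
    exact Over.w vk)
  have h₂' : sk' ≫ w₂ = vk := Over.OverMorphism.ext h₂
  refine ⟨(AlgSp.yon S).map (sk' ≫ w₁ ≫ iu) ≫ a, ?_, ?_⟩
  · rw [Functor.map_comp, Functor.map_comp, Category.assoc, Category.assoc, Category.assoc, sq₂.w,
      ← Functor.map_comp_assoc, h₂', hvk]
  · rw [ofPt_map_comp, Over.comp_left, Over.comp_left]
    congr 1
    exact hiu _

end Groth.Agent.S10000
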