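import Groth.Statements.S10001
import Groth.Agent.Lib.AlgSp.IdealEtLib
-- import your own Groth.Agent.* helpers here

set_option autoImplicit false
universe u
open CategoryTheory CategoryTheory.Limits AlgebraicGeometry Opposite
open AlgSp GrothLib.AlgSp
set_option backward.isDefEq.respectTransparency false

namespace Groth.Agent.S10001

/-- Last assertion, on T-valued points for schemes T: if i : Z ⟶ X is the closed subspace cut out by the
sheaf of ideals I, a morphism h : h_T ⟶ X from a scheme T factors through Z exactly when h^*I ⟶ O_T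
vanishes, that is, when for every affine etale chart U of X the functions in I(U) pull back to zero
on T ×_X U (I is contained in the kernel family of h). -/
theorem result {S : Scheme.{u}} {Z X : AlgSp.Space S} (i : Z ⟶ X) (I : AlgSp.IdealEt X.obj)
    (hZ : AlgSp.IsCutOutBy I i.hom) {T : Over S} (h : (AlgSp.yon S).obj T ⟶ X.obj) (hh : AlgSp.Representable h) :
    (∃ k : (AlgSp.yon S).obj T ⟶ Z.obj, k ≫ i.hom = h) ↔ I ≤ AlgSp.idealOfRep hh := by
  obtain ⟨hi, rfl⟩ := hZ
  constructor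
  · rintro ⟨k, rfl⟩ E hE x hx
    obtain ⟨m, hm⟩ := (AlgSp.yon S).map_surjective ((AlgSp.EtOver.isPullback_bcObj hi.1 E).lift
      ((AlgSp.EtOver.bcObj hh E).obj.hom ≫ k) ((AlgSp.yon S).map (AlgSp.EtOver.bcπ hh E)) (by
        rw [Category.assoc]; exact (AlgSp.EtOver.isPullback_bcObj hh E).w))
    have e : m ≫ AlgSp.EtOver.bcπ hi.1 E = AlgSp.EtOver.bcπ hh E := (AlgSp.yon S).map_injective (by
      rw [Functor.map_comp, hm, IsPullback.lift_snd])
    rw [AlgSp.mem_idealOfRep_iff] at hx ⊢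
    rw [← e, Over.comp_left, Scheme.Hom.comp_appTop, CommRingCat.comp_apply, hx, map_zero]
  · intro hle
    haveI : ∀ E : AlgSp.EtOver X.obj, IsClosedImmersion (AlgSp.EtOver.bcπ hi.1 E).left :=
      isClosedImmersion_bcπ hi
    obtain ⟨U, a, hae, has⟩ := X.property.atlas
    let E₀ : AlgSp.EtOver X.obj := AlgSp.EtOver.mk a hae
    haveI : Mono i.hom := mono_of_closedImmersion hi
    obtain ⟨p, sq⟩ := exists_repKer_square hi E₀
    haveI := isLocallySurjective_bcObj_hom hh E₀ has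
    refine (exists_factor_ideal_iff sq (f := h) (b := (AlgSp.EtOver.bcObj hh E₀).obj.hom)
      (g := AlgSp.EtOver.bcπ hh E₀) (AlgSp.EtOver.isPullback_bcObj hh E₀).w).2 ?_
    rw [← Scheme.IdealSheafData.map_bot, Scheme.IdealSheafData.le_map_iff_comap_le]
    -- check on the preimages of the affine opens of the atlas
    let Wf : ∀ _ : U.left.affineOpens, AlgSp.EtOver X.obj := fun W => opensObj E₀ W.1
    refine le_bot_iff.2 (Scheme.IdealSheafData.ext_of_iSup_eq_top
      (U := fun V : { V : (AlgSp.EtOver.bcObj hh E₀).obj.left.left.affineOpens //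
        ∃ W : U.left.affineOpens, V.1 ≤ (AlgSp.EtOver.bcπ hh E₀).left ⁻¹ᵁ W.1 } => V.1)
      (top_le_iff.1 fun x _ => ?_) ?_)
    · obtain ⟨W, hW, hxW, -⟩ := exists_isAffineOpen_mem_and_subset (U := (⊤ : U.left.Opens))
        (x := (AlgSp.EtOver.bcπ hh E₀).left x) trivial
      obtain ⟨V, hV, hxV, hVW⟩ :=
        exists_isAffineOpen_mem_and_subset (U := (AlgSp.EtOver.bcπ hh E₀).left ⁻¹ᵁ W) (x := x) hxW
      exact TopologicalSpace.Opens.mem_iSup.2 ⟨⟨⟨V, hV⟩, ⟨W, hW⟩, hVW⟩, hxV⟩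
    rintro ⟨V, W, hVW⟩
    set π := (AlgSp.EtOver.bcπ hh E₀).left with hπ
    have sqW := AlgSp.EtOver.isPullback_bcMap_left hh (opensInc E₀ W.1)
    let l : V.1.toScheme ⟶ (AlgSp.EtOver.bcObj hh (Wf W)).obj.left.left :=
      sqW.lift V.1.ι (π.resLE W.1 V.1 hVW) (Scheme.Hom.resLE_comp_ι _ hVW).symm
    have hl : l ≫ (AlgSp.EtOver.bcπ hh (Wf W)).left = π.resLE W.1 V.1 hVW := sqW.lift_snd _ _ _
    have e : topIdeal (((repKer hi.1 E₀).comap π).comap V.1.ι) V.2 = ⊥ := by
      rw [← Scheme.IdealSheafData.comap_comp, ← Scheme.Hom.resLE_comp_ι π hVW,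
        Scheme.IdealSheafData.comap_comp, topIdeal_comap V.2 W.2, ← opensInc_left E₀ W.1, repKer_comap hi.1,
        ← idealOfRep_ideal hi.1 (opensObj E₀ W.1) W.2, eq_bot_iff, Ideal.map_le_iff_le_comap]
      intro x hx
      have hx' := hle (opensObj E₀ W.1) W.2 hx
      rw [AlgSp.mem_idealOfRep_iff] at hx'
      rw [Ideal.mem_comap, Ideal.mem_bot, ← hl, Scheme.Hom.comp_appTop, CommRingCat.comp_apply]
      exact (congrArg _ hx').trans (map_zero _)
    have hT' : (⊤ : V.1.toScheme.Opens) ≤ V.1.ι ⁻¹ᵁ V.1 := by simp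
    unfold topIdeal at e
    rw [GrothLib.BlowUp.ideal_comap_eq_map _ _ V _ hT'] at e
    have hbij := ConcreteCategory.bijective_of_isIso (V.1.ι.appLE V.1 ⊤ hT')
    have h₂ := congrArg (Ideal.comap (V.1.ι.appLE V.1 ⊤ hT').hom) e
    rw [Ideal.comap_map_of_bijective _ hbij, ← RingHom.ker_eq_comap_bot,
      (RingHom.injective_iff_ker_eq_bot _).1 hbij.1] at h₂
    exact h₂.trans (by simp)

end Groth.Agent.S10001
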