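import Groth.Statements.S10002
import Groth.Agent.Lib.AlgSp.QCohPushQcqs
import Groth.Agent.Lib.AlgSp.PointsUniv
-- import your own Groth.Agent.* helpers here

set_option autoImplicit false
universe u
open CategoryTheory CategoryTheory.Limits AlgebraicGeometry Opposite
open AlgSp GrothLib.AlgSp GrothLib.AlgSp.QCohEt
set_option backward.isDefEq.respectTransparency false

namespace Groth.Agent.S10002

/-- For a morphism f : X ⟶ Y of algebraic spaces that is representable by schemes, quasi-compact and
quasi-separated, the direct image f_* carries quasi-coherent O_X-modules on the small etale site to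
quasi-coherent O_Y-modules. (The published statement is for an arbitrary quasi-compact
quasi-separated morphism of algebraic spaces; the direct image functor between the small etale sites
with scheme charts is available only for representable f, which is the case stated.) -/
theorem result {S : Scheme.{u}} {X Y : AlgSp.Space S} (f : X ⟶ Y)
    (hf : AlgSp.Representable f.hom) (hqc : AlgSp.IsQuasiCompactMor f.hom) (hqs : AlgSp.IsQuasiSeparatedMor f.hom)
    (F : AlgSp.ModEt X.obj) [F.IsQuasicoherent] :
    ((AlgSp.pushModEt hf).obj F).IsQuasicoherent := by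
  refine isQuasicoherent_of_good _ fun E hE => ?_
  haveI := hE
  have sq := AlgSp.EtOver.isPullback_bcObj hf E
  have hq : AlgSp.IsQuasiSeparatedMor ((AlgSp.yon S).map (AlgSp.EtOver.bcπ hf E)) :=
    isQuasiSeparatedMor_of_isPullback' sq hqs
  haveI : QuasiSeparated (AlgSp.EtOver.bcπ hf E).left := (AlgSp.isQuasiSeparatedMor_yon_map_iff _).1 hq
  haveI : QuasiCompact (AlgSp.EtOver.bcπ hf E).left :=
    (repWith_quasiCompact_of_isQuasiCompactMor hf hqc).2 _ _ _ (hf.isPullback E.obj.hom)
  haveI : CompactSpace ↥(AlgSp.EtOver.bcObj hf E).obj.left.left :=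
    QuasiCompact.compactSpace_of_compactSpace (AlgSp.EtOver.bcπ hf E).left
  haveI : QuasiSeparatedSpace ↥(AlgSp.EtOver.bcObj hf E).obj.left.left :=
    quasiSeparatedSpace_of_quasiSeparated (AlgSp.EtOver.bcπ hf E).left
  exact good_push_qcqs hf F hE

end Groth.Agent.S10002
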