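import Groth.Statements.S10003
import Groth.Agent.Lib.AlgSp.IdealEtLib
-- import your own Groth.Agent.* helpers here

set_option autoImplicit false
universe u
open CategoryTheory CategoryTheory.Limits AlgebraicGeometry Opposite
open AlgSp GrothLib.AlgSp
set_option backward.isDefEq.respectTransparency false

namespace Groth.Agent.S10003

/-- For a quasi-compact morphism f : X ⟶ Y of algebraic spaces that is representable by schemes, the
sheaf of ideals Ker(O_Y ⟶ f_* O_X) (the kernel family on affine etale charts of Y) is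
quasi-coherent, and the scheme theoretic image of f is exactly the closed subspace it cuts out. (The
published statement is for an arbitrary quasi-compact morphism of algebraic spaces; f_* O_X on the
small etale site with scheme charts is available only for representable f, the case stated.) -/
theorem result {S : Scheme.{u}} {X Y : AlgSp.Space S} (f : X ⟶ Y)
    (hf : AlgSp.Representable f.hom) (hqc : AlgSp.IsQuasiCompactMor f.hom) :
    (AlgSp.idealOfRep hf).IsQCoh ∧
      ∀ (Z : AlgSp.Space S) (i : Z ⟶ Y), AlgSp.IsSchImage f.hom i.hom ↔ AlgSp.IsCutOutBy (AlgSp.idealOfRep hf) i.hom := by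
  haveI hq : ∀ E : AlgSp.EtOver Y.obj, QuasiCompact (AlgSp.EtOver.bcπ hf E).left := fun E =>
    (repWith_quasiCompact_of_isQuasiCompactMor hf hqc).2 _ _ _ (AlgSp.EtOver.isPullback_bcObj hf E)
  refine ⟨fun E E' g hE hE' => ?_, fun Z i => ?_⟩
  · rw [idealOfRep_ideal hf E hE, idealOfRep_ideal hf E' hE', ← repKer_comap hf g, topIdeal_comap hE' hE]
  obtain ⟨U, a, hae, has⟩ := Y.property.atlas
  let E₀ : AlgSp.EtOver Y.obj := AlgSp.EtOver.mk a hae
  haveI := isLocallySurjective_bcObj_hom hf E₀ has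
  have hg : (AlgSp.EtOver.bcObj hf E₀).obj.hom ≫ f.hom = (AlgSp.yon S).map (AlgSp.EtOver.bcπ hf E₀) ≫ a :=
    (AlgSp.EtOver.isPullback_bcObj hf E₀).w
  have hs : schIdeal a (AlgSp.EtOver.bcπ hf E₀) = repKer hf E₀ := by
    refine schIdeal_eq_ker fun R t s sq => ?_
    let ER : AlgSp.EtOver Y.obj := AlgSp.EtOver.mk ((AlgSp.yon S).map t ≫ a)
      (repWith_comp ((repWith_yon_map_iff _ _).2 (hae.2 _ _ _ sq.flip)) hae)
    exact (repKer_comap hf (AlgSp.EtOver.homMk t rfl : ER ⟶ E₀)).trans
      (repKer_comap hf (AlgSp.EtOver.homMk s sq.w.symm : ER ⟶ E₀)).symm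
  constructor
  · intro hZ
    haveI : ∀ E : AlgSp.EtOver Y.obj, IsClosedImmersion (AlgSp.EtOver.bcπ hZ.1.1 E).left :=
      isClosedImmersion_bcπ hZ.1
    obtain ⟨p, sq⟩ := exists_repKer_square hZ.1 E₀
    have h0 : repKer hZ.1.1 E₀ = repKer hf E₀ :=
      (eq_schIdeal_of_isSchImage Y.property hae has hg hZ sq).trans hs
    refine ⟨hZ.1, AlgSp.IdealEt.ext (funext fun E => funext fun hE => ?_)⟩
    rw [idealOfRep_ideal hZ.1.1 E hE, idealOfRep_ideal hf E hE]
    obtain ⟨R, c, d, hc, hcs⟩ := exists_prod_obj Y.property E E₀ has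
    haveI := hc
    haveI := hcs
    refine congrArg (topIdeal · hE) (eq_of_comap_etale_surjective c.hom.left.left ?_)
    rw [repKer_comap hZ.1.1 c, repKer_comap hf c, ← repKer_comap hZ.1.1 d, h0, repKer_comap hf d]
  · rintro ⟨hi, hI⟩
    haveI : ∀ E : AlgSp.EtOver Y.obj, IsClosedImmersion (AlgSp.EtOver.bcπ hi.1 E).left :=
      isClosedImmersion_bcπ hi
    obtain ⟨p, sq⟩ := exists_repKer_square hi E₀
    refine isSchImage_of_eq_schIdeal hae has hg hi sq (hs ▸ eq_of_comap_opens fun W hW => ?_)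
    rw [← opensInc_left E₀ W, repKer_comap hi.1, repKer_comap hf,
      ← idealOfRep_ideal hi.1 (opensObj E₀ W) hW, ← idealOfRep_ideal hf (opensObj E₀ W) hW, hI]

end Groth.Agent.S10003
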