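import Groth.Statements.S10006
import Groth.Agent.Lib.AlgSp.LimitAffine
-- import your own Groth.Agent.* helpers here

set_option autoImplicit false
universe u
open CategoryTheory CategoryTheory.Limits AlgebraicGeometry
open AlgSp GrothLib.AlgSp
set_option backward.isDefEq.respectTransparency false

namespace Groth.Agent.S10006

/-- Let `S` be a quasi-separated scheme and `X` the limit, in fppf sheaves over `S`, of a cofiltered
system `(X_i)` of quasi-compact algebraic spaces over `S`, each quasi-separated over `S`, whose
transition maps are affine. If `X` is (representable by) an affine scheme, then so is `X_i` for some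
`i`. (The published statement allows any base scheme and uses absolute quasi-separatedness; this row
assumes the base quasi-separated, over which quasi-separatedness relative to the base is the
absolute notion.) -/
theorem result (S : Scheme.{u}) [QuasiSeparatedSpace S] {I : Type u} [SmallCategory I] [IsCofiltered I]
    (D : I ⥤ AlgSp.Sp S) (hD : ∀ i, AlgSp.IsAlgSpace (D.obj i))
    (hDa : ∀ (i j : I) (φ : i ⟶ j), AlgSp.IsAffineMor (D.map φ))
    (hqc : ∀ i, AlgSp.IsQuasiCompactSp (D.obj i)) (hqs : ∀ i, AlgSp.IsQuasiSeparatedSp (D.obj i))
    (c : Cone D) (hc : IsLimit c)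
    (T : Over S) (hT : IsAffine T.left) (e : (AlgSp.yon S).obj T ≅ c.pt) :
    ∃ (i : I) (T' : Over S), IsAffine T'.left ∧ Nonempty ((AlgSp.yon S).obj T' ≅ D.obj i) := by
  haveI := hT
  exact exists_stage_affine hD hDa hqc hqs hc e

end Groth.Agent.S10006
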