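import Groth.Statements.S10008
import Groth.Agent.Lib.AlgSp.Limit
import Groth.Agent.Lib.AlgSp.PointsUniv
-- import your own Groth.Agent.* helpers here

set_option autoImplicit false
universe u
open CategoryTheory CategoryTheory.Limits AlgebraicGeometry
open AlgSp GrothLib.AlgSp
set_option backward.isDefEq.respectTransparency false

namespace Groth.Agent.S10008

/-- Let `X` be the limit, in fppf sheaves over `S`, of a cofiltered system `(X_i)` of algebraic spaces
over `S` whose transition maps are affine. If every `X_i` is quasi-compact and has at least one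
point, then `X` has a point. -/
theorem result (S : Scheme.{u}) {I : Type u} [SmallCategory I] [IsCofiltered I]
    (D : I ⥤ AlgSp.Sp S) (hD : ∀ i, AlgSp.IsAlgSpace (D.obj i))
    (hDa : ∀ (i j : I) (φ : i ⟶ j), AlgSp.IsAffineMor (D.map φ))
    (c : Cone D) (hc : IsLimit c)
    (hqc : ∀ i, AlgSp.IsQuasiCompactSp (D.obj i)) (hne : ∀ i, Nonempty (AlgSp.Points (D.obj i))) :
    Nonempty (AlgSp.Points c.pt) := by
  haveI := IsCofiltered.isConnected I
  obtain ⟨i⟩ := (IsCofiltered.nonempty : Nonempty I)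
  obtain ⟨U, a, ae, as, hUc⟩ := hqc i
  haveI := hUc
  haveI : Nonempty ↥U.left := by
    obtain ⟨x⟩ := hne i
    obtain ⟨v, -⟩ := surjective_ofPt_of_repWith as x
    exact ⟨v⟩
  -- a finite affine cover of the chart
  let 𝒰 := U.left.affineCover.finiteSubcover
  haveI : Fintype 𝒰.I₀ := Fintype.ofFinite _
  let V : 𝒰.I₀ → Over S := fun k => Over.mk (𝒰.f k ≫ U.hom)
  let Z : Over S := sigmaOver V
  haveI : ∀ k, IsAffine (𝒰.X k) := fun k => inferInstanceAs (IsAffine (Spec _))
  haveI hZ : IsAffine Z.left := inferInstanceAs (IsAffine (∐ fun k => 𝒰.X k))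
  obtain ⟨g, hg, -⟩ := exists_hom_of_sigma V fun k => (yon S).map (Over.homMk (𝒰.f k) rfl : V k ⟶ U) ≫ a
  have hgs : Function.Surjective (Points.ofPt g) := fun x => by
    obtain ⟨v, rfl⟩ := surjective_ofPt_of_repWith as x
    obtain ⟨k, w, rfl⟩ := 𝒰.exists_eq v
    exact ⟨(sigmaι V k).left w, by rw [← ofPt_map_comp, hg, ofPt_map_comp]; rfl⟩
  obtain ⟨E, cW, f, w, fst, snd, ⟨hcW⟩, -, hE, -, -, sq⟩ := exists_affine_chart_limit hDa hc i hZ g
  haveI : CategoryTheory.IsConnected (CategoryTheory.Over i) := IsCofiltered.isConnected _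
  haveI : ∀ j, IsAffine ((E ⋙ Over.forget S).obj j) := fun j => (hE j).1
  haveI : ∀ j, Nonempty ↥((E ⋙ Over.forget S).obj j) := fun j => by
    obtain ⟨y⟩ := hne j.left
    obtain ⟨v, hv⟩ := hgs (Points.map (D.map j.hom) y)
    obtain ⟨r, -, -⟩ := exists_ofPt_of_map_eq (hE j).2 hv.symm
    exact ⟨r⟩
  haveI : ∀ {j k} (m : j ⟶ k), IsAffineHom ((E ⋙ Over.forget S).map m) := fun m => isAffineHom_of_isAffine _
  haveI : ∀ j, CompactSpace ↥((E ⋙ Over.forget S).obj j) := fun j => inferInstance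
  obtain ⟨p⟩ := Scheme.nonempty_of_isLimit _ _ (isLimitOfPreserves (Over.forget S) hcW)
  exact ⟨Points.ofPt fst p⟩

end Groth.Agent.S10008
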