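import Groth.Statements.S10009
import Groth.Agent.Lib.AlgSp.LimitDescClosed
-- import your own Groth.Agent.* helpers here

set_option autoImplicit false
universe u
open CategoryTheory CategoryTheory.Limits AlgebraicGeometry
open AlgSp GrothLib.AlgSp
set_option backward.isDefEq.respectTransparency false

namespace Groth.Agent.S10009

/-- Let `B` be an algebraic space over the scheme `S` and `X` the limit, in fppf sheaves, of a
cofiltered system `(X_i)` of quasi-compact algebraic spaces over `B` whose transition maps are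
affine; let `y : Y ⟶ X` be a closed immersion from an algebraic space `Y` whose structure map to `B`
is locally of finite type. Then, for all `i` mapping to some `i₀`, the composite `Y ⟶ X ⟶ X_i` is a
closed immersion. -/
theorem result (S : Scheme.{u}) {I : Type u} [SmallCategory I] [IsCofiltered I]
    (B : AlgSp.Space S) (D : I ⥤ AlgSp.Sp S) (hD : ∀ i, AlgSp.IsAlgSpace (D.obj i))
    (t : D ⟶ (Functor.const I).obj B.obj)
    (hDa : ∀ (i j : I) (φ : i ⟶ j), AlgSp.IsAffineMor (D.map φ))
    (c : Cone D) (hc : IsLimit c)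
    (hqc : ∀ i, AlgSp.IsQuasiCompactSp (D.obj i))
    (Y : AlgSp.Space S) (y : Y.obj ⟶ c.pt) (hy : AlgSp.RepWith @IsClosedImmersion y) (i₁ : I)
    (hYB : AlgSp.LocP @LocallyOfFiniteType (y ≫ c.π.app i₁ ≫ t.app i₁)) :
    ∃ i₀ : I, ∀ (i : I) (_ : i ⟶ i₀), AlgSp.RepWith @IsClosedImmersion (y ≫ c.π.app i) := by
  haveI := IsCofiltered.isConnected I
  have hX := isAlgSpace_limit hDa hD hc
  have hl : LocP @LocallyOfFiniteType (y ≫ c.π.app i₁) :=
    EtLocal.lft.locP_of_comp (fun _ _ _ f g (_ : LocallyOfFiniteType (f ≫ g)) => locallyOfFiniteType_of_comp f g)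
      Y.property (hD i₁) B.property (g := t.app i₁) (by rw [Category.assoc]; exact hYB)
  obtain ⟨U₁, a, hU₁, ae, as⟩ := exists_affine_atlas_of_qc (hqc i₁)
  haveI := hU₁
  obtain ⟨E, cW, f, w, fst, snd, ⟨hcW⟩, hWa, hE, hEm, hEπ, sqW⟩ := exists_affine_chart_limit hDa hc i₁ hU₁ a
  haveI := hWa
  obtain ⟨Yw, yw, iW, sqY⟩ := exists_isPullback_of_representable hy.1 fst
  haveI : IsClosedImmersion iW.left := hy.2 _ _ _ sqY
  haveI : IsAffine Yw.left := isAffine_of_isAffineHom iW.left
  -- the chart over `D i₁`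
  have sq₁ : IsPullback yw ((yon S).map (iW ≫ snd)) (y ≫ c.π.app i₁) a := by
    rw [Functor.map_comp]
    exact (sqY.flip.paste_horiz sqW.flip).flip
  haveI hft : LocallyOfFiniteType (iW ≫ snd).left :=
    hl yw a (iW ≫ snd) (repWith_of_isPullback sq₁.flip ae) ae sq₁.w
  have hfin : (iW ≫ snd).left.appTop.hom.FiniteType := HasRingHomProperty.appTop @LocallyOfFiniteType _ hft
  algebraize [(iW ≫ snd).left.appTop.hom]
  obtain ⟨s, hs⟩ := hfin
  have hex : ∀ b : Γ(Yw.left, ⊤), ∃ (j : CategoryTheory.Over i₁) (x : Γ((E.obj j).left, ⊤)),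
      (iW ≫ cW.π.app j).left.appTop x = b := by
    intro b
    obtain ⟨β, rfl⟩ := (IsClosedImmersion.isAffine_surjective_of_isAffine (f := iW.left)).2 b
    obtain ⟨j, x, rfl⟩ := exists_appTop_π_eq hcW (fun j => (hE j).1) β
    exact ⟨j, x, by rw [Over.comp_left, Scheme.Hom.comp_appTop]; rfl⟩
  choose jb xb hxb using hex
  haveI : Nonempty (CategoryTheory.Over i₁) := ⟨CategoryTheory.Over.mk (𝟙 i₁)⟩
  obtain ⟨k, φk, g, -⟩ := IsCofiltered.wideCospan (I := {b // b ∈ s}) (j := fun b => jb b.1)
    (i := CategoryTheory.Over.mk (𝟙 i₁)) (fun b => CategoryTheory.Over.homMk (jb b.1).hom)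
  refine ⟨k.left, fun i φ => ?_⟩
  let k' : CategoryTheory.Over i₁ := CategoryTheory.Over.mk (φ ≫ k.hom)
  let m : k' ⟶ k := CategoryTheory.Over.homMk φ
  haveI : IsAffine (E.obj k').left := (hE k').1
  -- surjectivity
  haveI : IsClosedImmersion (iW ≫ cW.π.app k').left := by
    refine IsClosedImmersion.of_surjective_of_isAffine _ ?_
    let R : Subalgebra Γ(U₁.left, ⊤) Γ(Yw.left, ⊤) :=
      { (iW ≫ cW.π.app k').left.appTop.hom.range.toSubsemiring with
        algebraMap_mem' := fun r => ⟨(w k').left.appTop r, by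
          show ((w k').left.appTop ≫ (iW ≫ cW.π.app k').left.appTop) r = _
          rw [← Scheme.Hom.comp_appTop, ← Over.comp_left, Category.assoc, (hEπ k').2]
          rfl⟩ }
    have hR : (⊤ : Subalgebra Γ(U₁.left, ⊤) Γ(Yw.left, ⊤)) ≤ R := by
      rw [← hs]
      refine Algebra.adjoin_le fun b hb => ?_
      refine ⟨(E.map (m ≫ g ⟨b, hb⟩)).left.appTop (xb b), ?_⟩
      show ((E.map (m ≫ g ⟨b, hb⟩)).left.appTop ≫ (iW ≫ cW.π.app k').left.appTop) (xb b) = b
      rw [← Scheme.Hom.comp_appTop, ← Over.comp_left, Category.assoc, cW.w]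
      exact hxb b
    exact fun b => hR (Algebra.mem_top (x := b))
  -- the square over the stage `i`
  have sqc : IsPullback ((yon S).map (cW.π.app k')) fst (f k') (c.π.app i) := by
    refine (IsPullback.of_bot ?_ (hEπ k').1 (hE k').2).flip
    rw [← Functor.map_comp, (hEπ k').2, show c.π.app k'.left ≫ D.map k'.hom = c.π.app i₁ from c.w _]
    exact sqW
  have sqi : IsPullback yw ((yon S).map (iW ≫ cW.π.app k')) (y ≫ c.π.app i) (f k') := by
    rw [Functor.map_comp]
    exact (sqY.flip.paste_horiz sqc).flip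
  haveI : Sheaf.IsLocallySurjective (f k') :=
    chart_isLocallySurjective (repWith_of_isPullback (hE k').2.flip ae) (repWith_of_isPullback (hE k').2.flip as)
  exact repWith_of_base_isAffineHom (f k') sqi (fun _ _ g (_ : IsClosedImmersion g) => inferInstance)
    fppfDescends_isClosedImmersion ((repWith_yon_map_iff _ _).2 inferInstance)

end Groth.Agent.S10009
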