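import Groth.Statements.S10011
import Groth.Agent.Lib.AlgSp.LimitDescClosed
import Groth.Agent.Lib.DiagGrp.KernelFP
import Groth.Agent.Lib.AlgSp.OpenSub
-- import your own Groth.Agent.* helpers here

set_option autoImplicit false
universe u
open CategoryTheory CategoryTheory.Limits AlgebraicGeometry
open AlgSp GrothLib.AlgSp
set_option backward.isDefEq.respectTransparency false

namespace Groth.Agent.S10011

/-- Let `B` be an algebraic space over `S` and `X` the limit in fppf sheaves of a cofiltered system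
`(X_i)` of quasi-compact algebraic spaces over `B`, each locally of finite type over `B`, whose
transition morphisms are closed immersions. If `X ⟶ B` is locally of finite presentation, then the
projection `X ⟶ X_i` is an isomorphism for all `i` mapping to some `i₀`. -/
theorem result (S : Scheme.{u}) {I : Type u} [SmallCategory I] [IsCofiltered I]
    (B : AlgSp.Space S) (D : I ⥤ AlgSp.Sp S) (hD : ∀ i, AlgSp.IsAlgSpace (D.obj i))
    (t : D ⟶ (Functor.const I).obj B.obj)
    (hDc : ∀ (i j : I) (φ : i ⟶ j), AlgSp.RepWith @IsClosedImmersion (D.map φ))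
    (c : Cone D) (hc : IsLimit c)
    (hqc : ∀ i, AlgSp.IsQuasiCompactSp (D.obj i)) (hft : ∀ i, AlgSp.LocP @LocallyOfFiniteType (t.app i)) (i₁ : I)
    (hX : AlgSp.LocP @LocallyOfFinitePresentation (c.π.app i₁ ≫ t.app i₁)) :
    ∃ i₀ : I, ∀ (i : I) (_ : i ⟶ i₀), IsIso (c.π.app i) := by
  haveI := IsCofiltered.isConnected I
  have hDa : ∀ (i j : I) (φ : i ⟶ j), IsAffineMor (D.map φ) := fun i j φ =>
    isAffineMor_iff.2 (repWith_mono (hDc i j φ) fun _ _ g (_ : IsClosedImmersion g) => (inferInstance : IsAffineHom g))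
  have hX₀ := isAlgSpace_limit hDa hD hc
  -- `c.π i₁` is locally of finite presentation
  have hl : LocP @LocallyOfFinitePresentation (c.π.app i₁) := by
    obtain ⟨W, r, re, rs⟩ := B.property.atlas
    obtain ⟨V, q, β, qe, hq, hqs⟩ := exists_chart_over (hD i₁) B.property (t.app i₁) r re
    obtain ⟨U, p, α, pe, hp, hps⟩ := exists_chart_over hX₀ (hD i₁) (c.π.app i₁) q qe
    refine EtLocal.lfp.locP_of_chart pe (hps (hqs rs)) qe hp ?_
    have h₁ : LocallyOfFinitePresentation (α.left ≫ β.left) := hX p r (α ≫ β) pe re (by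
      rw [← Category.assoc, hp, Category.assoc, hq, Functor.map_comp, Category.assoc])
    exact GrothLib.DiagGrp.lfp_of_comp_of_lft α.left β.left h₁ (hft i₁ q r β qe re hq)
  obtain ⟨U₁, a, hU₁, ae, as⟩ := exists_affine_atlas_of_qc (hqc i₁)
  haveI := hU₁
  obtain ⟨E, cW, f, w, fst, snd, ⟨hcW⟩, hWa, hE, hEm, hEπ, sqW⟩ := exists_affine_chart_limit hDa hc i₁ hU₁ a
  haveI := hWa
  have hwc : ∀ j, IsClosedImmersion (w j).left := fun j => (hDc j.left i₁ j.hom).2 _ _ _ (hE j).2
  have hsurjw : ∀ j, Function.Surjective (w j).left.appTop := fun j => by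
    haveI := (hE j).1
    haveI := hwc j
    exact (IsClosedImmersion.isAffine_surjective_of_isAffine (f := (w j).left)).2
  have happ : ∀ j (r : Γ(U₁.left, ⊤)), (cW.π.app j).left.appTop ((w j).left.appTop r) = snd.left.appTop r := by
    intro j r
    have : (w j).left.appTop ≫ (cW.π.app j).left.appTop = snd.left.appTop := by
      rw [← Scheme.Hom.comp_appTop, ← Over.comp_left, (hEπ j).2]
    exact congrArg (fun h => h r) this
  have hsurj : Function.Surjective snd.left.appTop := fun x => by
    obtain ⟨j, y, rfl⟩ := exists_appTop_π_eq hcW (fun j => (hE j).1) x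
    obtain ⟨r, rfl⟩ := hsurjw j y
    exact ⟨r, (happ j r).symm⟩
  haveI hlfp : LocallyOfFinitePresentation snd.left :=
    hl fst a snd (repWith_of_isPullback sqW.flip ae) ae sqW.w
  have hfp : snd.left.appTop.hom.FinitePresentation := snd.left.finitePresentation_appTop
  algebraize [snd.left.appTop.hom]
  obtain ⟨s, hs⟩ := Algebra.FinitePresentation.ker_fG_of_surjective
    (Algebra.ofId Γ(U₁.left, ⊤) Γ(cW.pt.left, ⊤)) hsurj
  haveI : CategoryTheory.IsConnected (CategoryTheory.Over i₁) := IsCofiltered.isConnected _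
  haveI : ∀ j, IsAffine ((E ⋙ Over.forget S).obj j) := fun j => (hE j).1
  let top : CategoryTheory.Over i₁ := CategoryTheory.Over.mk (𝟙 i₁)
  have hgen : ∀ r : Γ(U₁.left, ⊤), snd.left.appTop r = 0 →
      ∃ j : CategoryTheory.Over i₁, (w j).left.appTop r = 0 := by
    intro r hr
    obtain ⟨j, φ, hj⟩ := exists_appTop_map_eq_zero_of_isAffine_of_isLimit _ _
      (isLimitOfPreserves (Over.forget S) hcW) top ((w top).left.appTop r) ((happ top r).trans hr)
    refine ⟨j, ?_⟩
    rw [← (hEm φ).2, Over.comp_left, Scheme.Hom.comp_appTop]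
    exact hj
  have hsker : ∀ b ∈ s, snd.left.appTop b = 0 := fun b hb => by
    have : b ∈ RingHom.ker (Algebra.ofId Γ(U₁.left, ⊤) Γ(cW.pt.left, ⊤)).toRingHom := by
      rw [← hs]; exact Ideal.subset_span hb
    exact this
  choose jb hjb using fun b : {b // b ∈ s} => hgen b.1 (hsker b.1 b.2)
  haveI : Nonempty (CategoryTheory.Over i₁) := ⟨top⟩
  obtain ⟨k, φk, g, -⟩ := IsCofiltered.wideCospan (I := {b // b ∈ s}) (j := jb)
    (i := top) (fun b => CategoryTheory.Over.homMk (jb b).hom)
  refine ⟨k.left, fun i φ => ?_⟩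
  let k' : CategoryTheory.Over i₁ := CategoryTheory.Over.mk (φ ≫ k.hom)
  let m : k' ⟶ k := CategoryTheory.Over.homMk φ
  haveI : IsAffine (E.obj k').left := (hE k').1
  haveI hiso : IsIso (cW.π.app k').left := by
    haveI : IsAffine (((Functor.const (CategoryTheory.Over i₁)).obj cW.pt).obj k').left := hWa
    haveI : IsClosedImmersion (cW.π.app k').left := by
      refine IsClosedImmersion.of_surjective_of_isAffine _ fun x => ?_
      obtain ⟨r, rfl⟩ := hsurj x
      exact ⟨(w k').left.appTop r, happ k' r⟩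
    refine IsClosedImmersion.isIso_of_injective_of_isAffine ?_
    rw [injective_iff_map_eq_zero]
    intro x hx
    obtain ⟨r, rfl⟩ := hsurjw k' x
    have hr : r ∈ Ideal.span (s : Set Γ(U₁.left, ⊤)) := by
      rw [show Ideal.span (s : Set Γ(U₁.left, ⊤)) = _ from hs]
      exact (happ k' r).symm.trans hx
    refine (Ideal.span_le (I := RingHom.ker (w k').left.appTop.hom)).2 (fun b hb => ?_) hr
    show (w k').left.appTop b = 0
    rw [← (hEm (m ≫ g ⟨b, hb⟩)).2, Over.comp_left, Scheme.Hom.comp_appTop]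
    show (E.map (m ≫ g ⟨b, hb⟩)).left.appTop ((w (jb ⟨b, hb⟩)).left.appTop b) = 0
    rw [hjb ⟨b, hb⟩, map_zero]
  have sqc : IsPullback fst ((yon S).map (cW.π.app k')) (c.π.app i) (f k') := by
    refine IsPullback.of_bot ?_ (hEπ k').1 (hE k').2
    rw [← Functor.map_comp, (hEπ k').2, show c.π.app i ≫ D.map k'.hom = c.π.app i₁ from c.w _]
    exact sqW
  haveI : Sheaf.IsLocallySurjective (f k') :=
    chart_isLocallySurjective (repWith_of_isPullback (hE k').2.flip ae) (repWith_of_isPullback (hE k').2.flip as)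
  exact isIso_of_repWith_isomorphisms (repWith_of_base_isAffineHom (f k') sqc
    (fun _ _ g (_ : IsIso g) => inferInstance) fppfDescends_isomorphisms ((repWith_yon_map_iff _ _).2 hiso))

end Groth.Agent.S10011
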