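import Groth.Statements.S10012
import Groth.Agent.S10011
import Groth.Agent.Lib.AlgSp.Diag
-- import your own Groth.Agent.* helpers here

set_option autoImplicit false
universe u
open CategoryTheory CategoryTheory.Limits AlgebraicGeometry
open AlgSp GrothLib.AlgSp
set_option backward.isDefEq.respectTransparency false

namespace Groth.Agent.S10012

/-- Let `S` be a quasi-separated scheme, `B` an algebraic space over `S`, and `X` the limit, in fppf
sheaves, of a cofiltered system `(X_i)` of algebraic spaces over `B`, each quasi-separated over `S`,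
whose transition maps are affine; let `y : Y ⟶ X` be a monomorphism from a quasi-compact algebraic
space `Y` whose structure map to `B` is locally of finite type. Then, for all `i` mapping to some
`i₀`, the composite `Y ⟶ X ⟶ X_i` is a monomorphism. (The published statement allows any base scheme
and uses absolute quasi-separatedness; this row assumes the base quasi-separated, over which
quasi-separatedness relative to the base is the absolute notion.) -/
theorem result (S : Scheme.{u}) [QuasiSeparatedSpace S] {I : Type u} [SmallCategory I] [IsCofiltered I]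
    (B : AlgSp.Space S) (D : I ⥤ AlgSp.Sp S) (hD : ∀ i, AlgSp.IsAlgSpace (D.obj i))
    (t : D ⟶ (Functor.const I).obj B.obj)
    (hDa : ∀ (i j : I) (φ : i ⟶ j), AlgSp.IsAffineMor (D.map φ))
    (c : Cone D) (hc : IsLimit c)
    (hqs : ∀ i, AlgSp.IsQuasiSeparatedSp (D.obj i))
    (Y : AlgSp.Space S) (hYqc : AlgSp.IsQuasiCompactSp Y.obj) (y : Y.obj ⟶ c.pt) [Mono y] (i₁ : I)
    (hYB : AlgSp.LocP @LocallyOfFiniteType (y ≫ c.π.app i₁ ≫ t.app i₁)) :
    ∃ i₀ : I, ∀ (i : I) (_ : i ⟶ i₀), Mono (y ≫ c.π.app i) := by
  haveI := IsCofiltered.isConnected I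
  -- every `y ≫ c.π j` is locally of finite type
  have hb : ∀ j, y ≫ c.π.app j ≫ t.app j = y ≫ c.π.app i₁ ≫ t.app i₁ := fun j => by
    obtain ⟨k, u, v, -⟩ := IsCofilteredOrEmpty.cone_objs j i₁
    rw [← c.w u, ← c.w v, Category.assoc, Category.assoc, t.naturality, t.naturality]
    simp
  have hl : ∀ j, LocP @LocallyOfFiniteType (y ≫ c.π.app j) := fun j =>
    EtLocal.lft.locP_of_comp (fun _ _ _ f g (_ : LocallyOfFiniteType (f ≫ g)) => locallyOfFiniteType_of_comp f g)
      Y.property (hD j) B.property (g := t.app j) (by rw [Category.assoc, hb]; exact hYB)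
  let g : ∀ j, Y.obj ⟶ D.obj j := fun j => y ≫ c.π.app j
  have hg : ∀ {j k : I} (φ : j ⟶ k), g j ≫ D.map φ = g k := fun {j k} φ => by
    show (y ≫ c.π.app j) ≫ D.map φ = y ≫ c.π.app k
    rw [Category.assoc, c.w]
  -- the system of kernel pairs
  let P : I ⥤ Sp S :=
    { obj := fun j => pullback (g j) (g j)
      map := fun {j k} φ => pullback.map _ _ _ _ (𝟙 _) (𝟙 _) (D.map φ) (by rw [Category.id_comp, hg])
        (by rw [Category.id_comp, hg])
      map_id := fun j => by apply pullback.hom_ext <;> simp
      map_comp := fun u v => by apply pullback.hom_ext <;> simp }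
  have hP : ∀ j, IsAlgSpace (P.obj j) := fun j => isAlgSpace_pullback' (hD j) Y.property Y.property _ _
  let tP : P ⟶ (Functor.const I).obj Y.obj :=
    { app := fun j => pullback.fst (g j) (g j)
      naturality := fun j k φ => by simp [P] }
  let cP : Cone P :=
    { pt := Y.obj
      π := { app := fun j => pullback.diagonal (g j)
             naturality := fun j k φ => by apply pullback.hom_ext <;> simp [P] } }
  have hPl : IsLimit cP := by
    have key : ∀ (s : Cone P) (j : I), s.π.app j ≫ pullback.fst (g j) (g j) = s.π.app i₁ ≫ pullback.fst (g i₁) (g i₁) ∧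
        s.π.app j ≫ pullback.snd (g j) (g j) = s.π.app i₁ ≫ pullback.snd (g i₁) (g i₁) := fun s j => by
      obtain ⟨k, u, v, -⟩ := IsCofilteredOrEmpty.cone_objs j i₁
      constructor <;> rw [← s.w u, ← s.w v] <;> simp [P]
    have keq : ∀ s : Cone P, s.π.app i₁ ≫ pullback.snd (g i₁) (g i₁) = s.π.app i₁ ≫ pullback.fst (g i₁) (g i₁) :=
      fun s => (cancel_mono y).1 (hc.hom_ext fun j => by
        rw [Category.assoc, Category.assoc, Category.assoc, Category.assoc]
        calc s.π.app i₁ ≫ pullback.snd (g i₁) (g i₁) ≫ y ≫ c.π.app j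
            = (s.π.app j ≫ pullback.snd (g j) (g j)) ≫ g j := by rw [(key s j).2, Category.assoc]
          _ = (s.π.app j ≫ pullback.fst (g j) (g j)) ≫ g j := by
            rw [Category.assoc, Category.assoc, pullback.condition]
          _ = _ := by rw [(key s j).1, Category.assoc])
    refine
      { lift := fun s => s.π.app i₁ ≫ pullback.fst (g i₁) (g i₁)
        fac := fun s j => ?_
        uniq := fun s m hm => ?_ }
    · apply pullback.hom_ext
      · simp [cP, (key s j).1]
      · simp [cP, (key s j).2, keq s]
    · rw [← hm i₁, Category.assoc]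
      simp [cP]
  have hqcP : ∀ j, IsQuasiCompactSp (P.obj j) := fun j =>
    isQuasiCompactMor_of_qc_qs (hD j) hYqc (hqs j) (g j) Y.property hYqc (g j) _ _
      (IsPullback.of_hasPullback (g j) (g j))
  have hPc : ∀ (j k : I) (φ : j ⟶ k), RepWith @IsClosedImmersion (P.map φ) := fun j k φ => by
    have hsep : IsSeparatedMor (D.map φ) := by
      have ha := isAffineMor_iff.1 (hDa j k φ)
      exact (isSeparatedMor_iff_repWith ha.1).2
        (repWith_mono ha fun _ _ h (_ : IsAffineHom h) => (inferInstance : IsSeparated h))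
    have sq := pullback_map_diagonal_isPullback (g j) (g j) (D.map φ)
    have h1 : RepWith @IsClosedImmersion
        (pullback.map (g j) (g j) (g j ≫ D.map φ) (g j ≫ D.map φ) (𝟙 _) (𝟙 _) (D.map φ) (by simp) (by simp)) :=
      repWith_of_isPullback sq hsep
    have e : P.map φ = pullback.map (g j) (g j) (g j ≫ D.map φ) (g j ≫ D.map φ) (𝟙 _) (𝟙 _) (D.map φ)
        (by simp) (by simp) ≫ (pullback.congrHom (hg φ) (hg φ)).hom := by
      apply pullback.hom_ext <;> simp [P]
    rw [e]
    exact repWith_comp h1 (repWith_iso _)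
  obtain ⟨i₀, hi₀⟩ := Groth.Agent.S10011.result S Y P hP tP hPc cP hPl hqcP
    (fun j => EtLocal.lft.locP_of_isPullback Y.property (hD j) Y.property
      (IsPullback.of_hasPullback (g j) (g j)).flip (hl j))
    i₁ (by
      have e : cP.π.app i₁ ≫ tP.app i₁ = 𝟙 Y.obj := pullback.diagonal_fst _
      rw [e]
      exact EtLocal.lfp.locP_of_repWith Y.property (repWith_mono (repWith_iso (P := @IsOpenImmersion) (Iso.refl Y.obj).hom)
        fun _ _ h (_ : IsOpenImmersion h) => (inferInstance : LocallyOfFinitePresentation h)))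
  refine ⟨i₀, fun i φ => ?_⟩
  haveI : IsIso (pullback.diagonal (g i)) := hi₀ i φ
  exact (pullback.isIso_diagonal_iff (g i)).1 inferInstance

end Groth.Agent.S10012
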