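import Groth.Statements.S10024
import Groth.Agent.Lib.AlgSp.LimitLift
-- import your own Groth.Agent.* helpers here

set_option autoImplicit false
universe u
open CategoryTheory CategoryTheory.Limits AlgebraicGeometry
open AlgSp GrothLib.AlgSp
set_option backward.isDefEq.respectTransparency false

namespace Groth.Agent.S10024

/-- A morphism `f : X ⟶ Y` of algebraic spaces over `S` is locally of finite presentation if and only if
it is limit preserving as a transformation of functors (relatively limit preserving: every fibre
functor over a scheme turns directed limits of affine schemes into colimits). -/
theorem result (S : Scheme.{u}) {X Y : AlgSp.Space S} (f : X ⟶ Y) :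
    AlgSp.LocP @LocallyOfFinitePresentation f.hom ↔ AlgSp.IsRelLimitPreserving f.hom.hom := by
  exact ⟨fun hf => isRelLimitPreserving_of_relLim (relLim_of_locP_lfp X.property Y.property f.hom hf),
    fun h => locP_lfp_of_lifts X.property Y.property f.hom (liftsPoints_of_relLim f.hom (relLim_of_isRelLimitPreserving h))⟩

end Groth.Agent.S10024
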