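import Groth.Agent.Lib.AlgSp.RelLim
import Groth.Statements.S10026
-- import your own Groth.Agent.* helpers here

set_option autoImplicit false
universe u
open CategoryTheory CategoryTheory.Limits AlgebraicGeometry
open AlgSp

namespace Groth.Agent.S10026

/-- Let `a : F ⟶ G`, `b : G ⟶ H` be transformations of presheaves of sets on schemes over `S`. If `a ≫
b` and `b` are relatively limit preserving, then so is `a`. -/
theorem result (S : Scheme.{u}) {F G H : AlgSp.PSp S} (a : F ⟶ G) (b : G ⟶ H)
    (hab : AlgSp.IsRelLimitPreserving (a ≫ b)) (hb : AlgSp.IsRelLimitPreserving b) :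
    AlgSp.IsRelLimitPreserving a := by
  exact GrothLib.AlgSp.isRelLimitPreserving_of_relLim (GrothLib.AlgSp.relLim_of_comp
    (GrothLib.AlgSp.relLim_of_isRelLimitPreserving hab) (GrothLib.AlgSp.relLim_of_isRelLimitPreserving hb))

end Groth.Agent.S10026
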