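import Groth.Agent.Lib.AlgSp.RelLim
import Groth.Statements.S10027
-- import your own Groth.Agent.* helpers here

set_option autoImplicit false
universe u
open CategoryTheory CategoryTheory.Limits AlgebraicGeometry
open AlgSp

namespace Groth.Agent.S10027

/-- Let `a : F ⟶ G`, `b : H ⟶ G`, `c : G ⟶ E` be transformations of presheaves of sets on schemes over
`S` and `P` a fibre product `F ×_G H`. If `c`, `a ≫ c` and `b ≫ c` are relatively limit preserving,
then so is `P ⟶ E`. -/
theorem result (S : Scheme.{u}) {E F G H P : AlgSp.PSp S}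
    (a : F ⟶ G) (b : H ⟶ G) (c : G ⟶ E) (fst : P ⟶ F) (snd : P ⟶ H) (hP : IsPullback fst snd a b)
    (hc : AlgSp.IsRelLimitPreserving c) (hac : AlgSp.IsRelLimitPreserving (a ≫ c))
    (hbc : AlgSp.IsRelLimitPreserving (b ≫ c)) :
    AlgSp.IsRelLimitPreserving (fst ≫ a ≫ c) := by
  open GrothLib.AlgSp in
  exact isRelLimitPreserving_of_relLim (relLim_comp
    (relLim_of_isPullback hP (relLim_of_comp (relLim_of_isRelLimitPreserving hbc) (relLim_of_isRelLimitPreserving hc)))
    (relLim_of_isRelLimitPreserving hac))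

end Groth.Agent.S10027
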