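import Groth.Statements.S10028
import Groth.Agent.Lib.AlgSp.LimitSheafify
import Mathlib.CategoryTheory.Limits.Types.Filtered
-- import your own Groth.Agent.* helpers here

set_option autoImplicit false
universe u
open CategoryTheory CategoryTheory.Limits AlgebraicGeometry
open AlgSp GrothLib.AlgSp
set_option backward.isDefEq.respectTransparency false

namespace Groth.Agent.S10028

open Opposite

variable {S : Scheme.{u}}

/-- The constant presheaf at a point. -/
abbrev punit (S : Scheme.{u}) : AlgSp.PSp S := (Functor.const _).obj PUnit.{u + 2}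

/-- The map to the constant presheaf at a point. -/
def toPUnit (F : AlgSp.PSp S) : F ⟶ punit S where
  app _ := ↾fun _ => PUnit.unit

theorem isSheaf_punit : Presheaf.IsSheaf (AlgSp.J S) (punit S) := by
  rw [isSheaf_iff_isSheaf_of_type]
  exact fun X R _ x _ => ⟨PUnit.unit, fun _ _ _ => rfl, fun _ _ => rfl⟩

theorem relLim_toPUnit {F : AlgSp.PSp S} (hF : AlgSp.IsLimitPreserving F) : RelLim (toPUnit F) := by
  intro I _ _ D c hc hD hT
  obtain ⟨hcol⟩ := hF D c hc hD hT
  refine ⟨fun i x g _ => ?_, fun i x x' _ h => ?_⟩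
  · obtain ⟨j, z, hz⟩ := Types.jointly_surjective _ hcol x
    refine ⟨IsCofiltered.min i j.unop, IsCofiltered.minToLeft _ _, F.map (D.map (IsCofiltered.minToRight i j.unop)).op z,
      rfl, ?_⟩
    rw [← Functor.map_comp_apply, ← op_comp, leg_w]
    exact hz
  · obtain ⟨j, f, hf⟩ := (Types.FilteredColimit.isColimit_eq_iff' (i := op i) hcol x x').1 h
    exact ⟨j.unop, f.unop, hf⟩

theorem isLimitPreserving_of_relLim_toPUnit {F : AlgSp.PSp S} (h : RelLim (toPUnit F)) :
    AlgSp.IsLimitPreserving F := by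
  intro I _ _ D c hc hD hT
  obtain ⟨hsurj, hinj⟩ := h D c hc hD hT
  refine ⟨Types.FilteredColimit.isColimitOf' _ _ (fun x => ?_) (fun i x y hxy => ?_)⟩
  · obtain ⟨i₀⟩ := (IsCofiltered.nonempty : Nonempty I)
    obtain ⟨j, f, xj, -, hx⟩ := hsurj i₀ x PUnit.unit rfl
    exact ⟨op j, xj, hx.symm⟩
  · obtain ⟨j, f, hf⟩ := hinj i.unop x y rfl hxy
    exact ⟨op j, f.op, hf⟩

/-- If a presheaf of sets `F` on schemes over `S` is limit preserving, then so is (the underlying
presheaf of) its fppf sheafification. -/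
theorem result (S : Scheme.{u}) (F : AlgSp.PSp S) (hF : AlgSp.IsLimitPreserving F) :
    AlgSp.IsLimitPreserving ((presheafToSheaf (AlgSp.J S) (Type (u + 1))).obj F).obj := by
  have hη : RelLim (toPUnit ((presheafToSheaf (AlgSp.J S) (Type (u + 1))).obj F).obj) :=
    LimFppf.relLim_of_locallyBijective (a := toPUnit F) (CategoryTheory.toSheafify (AlgSp.J S) F) (𝟙 _)
      ((presheafToSheaf (AlgSp.J S) (Type (u + 1))).obj F).property isSheaf_punit (by ext; rfl) (relLim_toPUnit hF)
  exact isLimitPreserving_of_relLim_toPUnit hη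

end Groth.Agent.S10028
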