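import Groth.Statements.S10030
import Groth.Agent.Lib.AlgSp.Descent
import Mathlib.CategoryTheory.Limits.Types.Filtered
import Mathlib.CategoryTheory.Limits.Final
import Mathlib.CategoryTheory.Filtered.Final
-- import your own Groth.Agent.* helpers here

set_option autoImplicit false
universe u
open CategoryTheory CategoryTheory.Limits AlgebraicGeometry
open AlgSp GrothLib.AlgSp
set_option backward.isDefEq.respectTransparency false

namespace Groth.Agent.S10030

open Opposite

section
variable {S : Scheme.{u}} {ι : Type u} (U : ι → Over S)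

/-- An affine scheme over a stage which also maps to one of the members. -/
structure Piece (A : Over S) where
  j : ι
  W : Scheme.{u}
  aff : IsAffine W
  w : W ⟶ A.left
  u : W ⟶ (U j).left
  comm : u ≫ (U j).hom = w ≫ A.hom

variable {U}

/-- Base change of a piece. -/
noncomputable def bc {A₀ : Over S} (P : Piece U A₀) {A : Over S} (f : A ⟶ A₀) : Over S :=
  Over.mk ((pullback.snd f.left P.w ≫ P.u) ≫ (U P.j).hom)

noncomputable def bcP {A₀ : Over S} (P : Piece U A₀) {A : Over S} (f : A ⟶ A₀) : bc P f ⟶ A :=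
  Over.homMk (pullback.fst f.left P.w) (by
    show pullback.fst f.left P.w ≫ A.hom = (pullback.snd f.left P.w ≫ P.u) ≫ (U P.j).hom
    rw [Category.assoc, P.comm, ← pullback.condition_assoc, Over.w])

noncomputable def bcMap {A₀ : Over S} (P : Piece U A₀) {A B : Over S} {f : A ⟶ A₀} {g : B ⟶ A₀} (h : B ⟶ A)
    (e : h ≫ f = g) : bc P g ⟶ bc P f :=
  Over.homMk (pullback.lift (pullback.fst g.left P.w ≫ h.left) (pullback.snd g.left P.w) (by
    rw [Category.assoc, ← Over.comp_left, e, pullback.condition])) (by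
    show pullback.lift _ _ _ ≫ (pullback.snd f.left P.w ≫ P.u) ≫ (U P.j).hom = (pullback.snd g.left P.w ≫ P.u) ≫ (U P.j).hom
    simp only [Category.assoc, pullback.lift_snd_assoc])

theorem bcMap_bcP {A₀ : Over S} (P : Piece U A₀) {A B : Over S} {f : A ⟶ A₀} {g : B ⟶ A₀} (h : B ⟶ A)
    (e : h ≫ f = g) : bcMap P h e ≫ bcP P f = bcP P g ≫ h :=
  Over.OverMorphism.ext (pullback.lift_fst _ _ _)

theorem bcMap_comp {A₀ : Over S} (P : Piece U A₀) {A B C : Over S} {f : A ⟶ A₀} {g : B ⟶ A₀} {k : C ⟶ A₀}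
    (h : B ⟶ A) (e : h ≫ f = g) (h' : C ⟶ B) (e' : h' ≫ g = k) :
    bcMap P h' e' ≫ bcMap P h e = bcMap P (h' ≫ h) (by rw [Category.assoc, e, e']) := by
  refine Over.OverMorphism.ext (pullback.hom_ext ?_ ?_)
  · simp [bcMap, bc]
  · simp [bcMap, bc]

theorem hom_ext_bc {A₀ : Over S} (P : Piece U A₀) {A : Over S} {f : A ⟶ A₀} {V : Over S} {a b : V ⟶ bc P f}
    (h₁ : a ≫ bcP P f = b ≫ bcP P f) (h₂ : a.left ≫ pullback.snd f.left P.w = b.left ≫ pullback.snd f.left P.w) : a = b :=
  Over.OverMorphism.ext (pullback.hom_ext (congrArg (fun k : V ⟶ A => k.left) h₁) h₂)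

variable {F : AlgSp.PSp S} (hF : Presheaf.IsSheaf (AlgSp.J S) F)
  (hloc : ∀ j, AlgSp.IsLimitPreserving (S := (U j).left) ((Over.map (U j).hom).op ⋙ F))
  {I : Type u} [SmallCategory I] [IsCofiltered I] (D : I ⥤ Over S) (c : Cone D)
  (hc : IsLimit ((Over.forget S).mapCone c)) (hD : ∀ i, IsAffine (D.obj i).left) (hT : IsAffine c.pt.left)

include hloc hc hD hT in
/-- Sections of a piece over the limit come from a stage, uniquely up to increasing the stage. -/
theorem piece_colimit {i₀ : I} (P : Piece U (D.obj i₀)) :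
    (∀ x : F.obj (op (bc P (c.π.app i₀))), ∃ (φ : Over i₀) (z : F.obj (op (bc P (D.map φ.hom)))),
      F.map (bcMap P (f := D.map φ.hom) (g := c.π.app i₀) (c.π.app φ.left) (c.w φ.hom)).op z = x) ∧
    ∀ (φ : Over i₀) (z z' : F.obj (op (bc P (D.map φ.hom)))),
      F.map (bcMap P (f := D.map φ.hom) (g := c.π.app i₀) (c.π.app φ.left) (c.w φ.hom)).op z =
        F.map (bcMap P (f := D.map φ.hom) (g := c.π.app i₀) (c.π.app φ.left) (c.w φ.hom)).op z' →
      ∃ (ψ : Over i₀) (h : ψ ⟶ φ),
        F.map (bcMap P (f := D.map φ.hom) (g := D.map ψ.hom) (D.map h.left) (by rw [← D.map_comp, Over.w])).op z =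
          F.map (bcMap P (f := D.map φ.hom) (g := D.map ψ.hom) (D.map h.left) (by rw [← D.map_comp, Over.w])).op z' := by
  haveI := P.aff
  haveI := hD i₀
  haveI : IsCofiltered (CategoryTheory.Over i₀) := inferInstance
  haveI : CategoryTheory.IsConnected I := IsCofiltered.isConnected _
  let obj : CategoryTheory.Over i₀ → Over (U P.j).left := fun φ =>
    Over.mk (pullback.snd (D.map φ.hom).left P.w ≫ P.u)
  let E : CategoryTheory.Over i₀ ⥤ Over (U P.j).left :=
    { obj := obj
      map := fun {φ ψ} h => Over.homMk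
        (bcMap P (f := D.map ψ.hom) (g := D.map φ.hom) (D.map h.left) (by rw [← D.map_comp, Over.w])).left (by
          show pullback.lift _ _ _ ≫ pullback.snd (D.map ψ.hom).left P.w ≫ P.u = pullback.snd (D.map φ.hom).left P.w ≫ P.u
          rw [pullback.lift_snd_assoc])
      map_id := fun φ => Over.OverMorphism.ext (pullback.hom_ext
        (by simp [bcMap, bc, obj]) (by simp [bcMap, bc, obj]))
      map_comp := fun h h' => Over.OverMorphism.ext (pullback.hom_ext
        (by simp [bcMap, bc, obj]) (by simp [bcMap, bc, obj])) }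
  let cE : Cone E :=
    { pt := Over.mk (pullback.snd (c.π.app i₀).left P.w ≫ P.u)
      π :=
        { app := fun φ => Over.homMk
            (bcMap P (f := D.map φ.hom) (g := c.π.app i₀) (c.π.app φ.left) (c.w φ.hom)).left (by
              show pullback.lift _ _ _ ≫ pullback.snd (D.map φ.hom).left P.w ≫ P.u = pullback.snd (c.π.app i₀).left P.w ≫ P.u
              rw [pullback.lift_snd_assoc])
          naturality := fun φ ψ h => Over.OverMorphism.ext (pullback.hom_ext
            (by
              simp [bcMap, bc, obj, E]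
              rw [← Over.comp_left, c.w h.left]) (by simp [bcMap, bc, obj, E])) } }
  have hE : IsLimit (((Over.forget S).mapCone c).whisker (CategoryTheory.Over.forget i₀)) :=
    (Functor.Initial.isLimitWhiskerEquiv (CategoryTheory.Over.forget i₀) _).symm hc
  have hlim : IsLimit ((Over.forget _).mapCone cE) := by
    let t : ∀ s : Cone (E ⋙ Over.forget _), Cone (CategoryTheory.Over.forget i₀ ⋙ D ⋙ Over.forget S) := fun s =>
      { pt := s.pt
        π :=
          { app := fun φ => s.π.app φ ≫ pullback.fst (D.map φ.hom).left P.w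
            naturality := fun φ ψ h => by
              have := congrArg (· ≫ pullback.fst (D.map ψ.hom).left P.w) (s.w h).symm
              simpa [E, bcMap, bc, obj] using this } }
    let top : CategoryTheory.Over i₀ := CategoryTheory.Over.mk (𝟙 i₀)
    have hs : ∀ (s : Cone (E ⋙ Over.forget _)) φ,
        s.π.app φ ≫ pullback.snd (D.map φ.hom).left P.w = s.π.app top ≫ pullback.snd (D.map top.hom).left P.w := by
      intro s φ
      have := congrArg (· ≫ pullback.snd (D.map top.hom).left P.w) (s.w (CategoryTheory.Over.homMk φ.hom (by simp [top]) : φ ⟶ top))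
      simpa [E, bcMap, bc, obj] using this
    have hfac : ∀ s φ, hE.lift (t s) ≫ (c.π.app φ.left).left = s.π.app φ ≫ pullback.fst (D.map φ.hom).left P.w :=
      fun s φ => hE.fac (t s) φ
    refine
      { lift := fun s => pullback.lift (hE.lift (t s)) (s.π.app top ≫ pullback.snd (D.map top.hom).left P.w) ?_
        fac := fun s φ => ?_
        uniq := fun s m hm => ?_ }
    · have h := hfac s top
      have e : c.π.app top.left = c.π.app i₀ := rfl
      rw [e] at h
      rw [h, Category.assoc, ← pullback.condition]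
      simp [top]
    · apply pullback.hom_ext
      · simp [cE, bcMap, bc, hfac]
      · simp [cE, bcMap, bc, hs s φ]
    · apply pullback.hom_ext
      · rw [pullback.lift_fst]
        refine hE.hom_ext fun φ => ?_
        rw [hE.fac]
        show _ = s.π.app φ ≫ pullback.fst (D.map φ.hom).left P.w
        rw [← hm φ]
        simp [cE, bcMap, bc]
      · rw [pullback.lift_snd, ← hm top]
        simp [cE, bcMap, bc]
  have hEaff : ∀ φ, IsAffine (E.obj φ).left := fun φ =>
    haveI := hD φ.left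
    inferInstanceAs (IsAffine (pullback (D.map φ.hom).left P.w))
  have hptaff : IsAffine cE.pt.left :=
    haveI : IsAffine (((Functor.const I).obj c.pt).obj i₀).left := hT
    inferInstanceAs (IsAffine (pullback (c.π.app i₀).left P.w))
  obtain ⟨hcol⟩ := hloc P.j E cE hlim hEaff hptaff
  refine ⟨fun x => ?_, fun φ z z' h => ?_⟩
  · obtain ⟨φ, z, hz⟩ := Types.jointly_surjective _ hcol x
    exact ⟨φ.unop, z, hz⟩
  · obtain ⟨ψ, h', he⟩ := (Types.FilteredColimit.isColimit_eq_iff' hcol z z').1 h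
    exact ⟨ψ.unop, h'.unop, he⟩

/-- A finite family of pieces covering a stage. -/
structure CoverData (U : ι → Over S) (A : Over S) where
  n : Type u
  fin : Finite n
  P : n → Piece U A
  flat : ∀ k, Flat (P k).w
  lfp : ∀ k, LocallyOfFinitePresentation (P k).w
  cov : ∀ x : A.left, ∃ k y, (P k).w y = x

theorem exists_cover (U : ι → Over S) (hfl : ∀ j, Flat (U j).hom) (hfp : ∀ j, LocallyOfFinitePresentation (U j).hom)
    (hsurj : ∀ s : ↥S, ∃ (j : ι) (x : ↥(U j).left), (U j).hom.base x = s) (A : Over S) (hA : IsAffine A.left) :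
    Nonempty (CoverData U A) := by
  choose j x hx using fun a : A.left => hsurj (A.hom a)
  choose p hp₁ _hp₂ using fun a => Scheme.Pullback.exists_preimage_pullback (f := A.hom) (g := (U (j a)).hom) a (x a) (hx a).symm
  choose O hO hpO _hle using fun a => exists_isAffineOpen_mem_and_subset (x := p a)
    (U := (⊤ : (pullback A.hom (U (j a)).hom).Opens)) trivial
  let w : ∀ a, (O a).toScheme ⟶ A.left := fun a => (O a).ι ≫ pullback.fst _ _
  haveI : ∀ a, Flat (w a) := fun a => by haveI := hfl (j a); infer_instance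
  haveI : ∀ a, LocallyOfFinitePresentation (w a) := fun a => by haveI := hfp (j a); infer_instance
  obtain ⟨t, ht⟩ := isCompact_univ.elim_finite_subcover (fun a => Set.range (w a))
    (fun a => (w a).isOpenMap.isOpen_range) fun a _ => Set.mem_iUnion.2 ⟨a, ⟨p a, hpO a⟩, hp₁ a⟩
  refine ⟨⟨↥t, inferInstance, fun k => ⟨j k, (O k).toScheme, hO k, w k, (O k).ι ≫ pullback.snd _ _, ?_⟩,
    fun k => inferInstance, fun k => inferInstance, fun a => ?_⟩⟩
  · simp only [w, Category.assoc, pullback.condition]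
  · obtain ⟨k, hk, y, hy⟩ := Set.mem_iUnion₂.1 (ht (Set.mem_univ a))
    exact ⟨⟨k, hk⟩, y, hy⟩

include hF in
theorem sheaf_glue {A : Over S} (C : CoverData U A) {B : Over S} (f : B ⟶ A) :
    Presieve.IsSheafFor F (Presieve.ofArrows (fun k => bc (C.P k) f) fun k => bcP (C.P k) f) := by
  have h := ((isSheaf_iff_isSheaf_of_type _ _).1 hF) _ (ofArrows_mem (fun k => bc (C.P k) f) (fun k => bcP (C.P k) f)
    (fun k => by haveI := C.flat k; exact inferInstanceAs (Flat (pullback.fst f.left (C.P k).w)))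
    (fun k => by haveI := C.lfp k; exact inferInstanceAs (LocallyOfFinitePresentation (pullback.fst f.left (C.P k).w)))
    (fun b => by
      obtain ⟨k, y, hy⟩ := C.cov (f.left b)
      obtain ⟨z, hz, -⟩ := Scheme.Pullback.exists_preimage_pullback (f := f.left) (g := (C.P k).w) b y hy.symm
      exact ⟨k, z, hz⟩))
  rwa [Sieve.ofArrows, ← Presieve.isSheafFor_iff_generate] at h

theorem map_map' {A B C : Over S} (f : A ⟶ B) (g : B ⟶ C) (x : F.obj (op C)) :
    F.map f.op (F.map g.op x) = F.map (f ≫ g).op x := by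
  rw [op_comp, F.map_comp]; rfl

theorem exists_common {i₀ : I} {n : Type u} [Finite n] (φ : n → CategoryTheory.Over i₀) :
    ∃ ψ : CategoryTheory.Over i₀, ∀ k, Nonempty (ψ ⟶ φ k) := by
  classical
  haveI := Fintype.ofFinite n
  obtain ⟨ψ, hψ⟩ := IsCofiltered.inf_objs_exists (Finset.univ.image φ)
  exact ⟨ψ, fun k => hψ (Finset.mem_image_of_mem φ (Finset.mem_univ k))⟩

include hF hloc hc hD hT in
theorem exists_eq_stage {i : Iᵒᵖ} (hC : Nonempty (CoverData U (D.obj i.unop))) (x y : F.obj (op (D.obj i.unop)))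
    (h : F.map (c.π.app i.unop).op x = F.map (c.π.app i.unop).op y) :
    ∃ (i' : I) (φ : i' ⟶ i.unop), F.map (D.map φ).op x = F.map (D.map φ).op y := by
  obtain ⟨C⟩ := hC
  haveI := C.fin
  let top : CategoryTheory.Over i.unop := CategoryTheory.Over.mk (𝟙 i.unop)
  have hk : ∀ k, ∃ (ψ : CategoryTheory.Over i.unop),
      F.map (bcP (C.P k) (D.map ψ.hom) ≫ D.map ψ.hom).op x = F.map (bcP (C.P k) (D.map ψ.hom) ≫ D.map ψ.hom).op y := by
    intro k
    obtain ⟨ψ, m, hm⟩ := (piece_colimit hloc D c hc hD hT (C.P k)).2 top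
      (F.map (bcP (C.P k) (D.map top.hom) ≫ D.map top.hom).op x) (F.map (bcP (C.P k) (D.map top.hom) ≫ D.map top.hom).op y) (by
        have e := bcMap_bcP (C.P k) (f := D.map top.hom) (g := c.π.app i.unop) (c.π.app top.left) (c.w top.hom)
        rw [map_map', map_map', ← Category.assoc, e, Category.assoc, c.w top.hom, ← map_map', ← map_map', h])
    refine ⟨ψ, ?_⟩
    rw [map_map', map_map', ← Category.assoc, bcMap_bcP, Category.assoc, ← D.map_comp,
      CategoryTheory.Over.w] at hm
    exact hm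
  choose ψ hψ using hk
  obtain ⟨θ, hθ⟩ := exists_common ψ
  refine ⟨θ.left, θ.hom, ?_⟩
  refine (sheaf_glue hF C (D.map θ.hom)).isSeparatedFor.ext ?_
  rintro Z g ⟨k⟩
  obtain ⟨m⟩ := hθ k
  rw [map_map', map_map']
  have e : bcP (C.P k) (D.map θ.hom) ≫ D.map θ.hom =
      bcMap (C.P k) (f := D.map (ψ k).hom) (g := D.map θ.hom) (D.map m.left) (by rw [← D.map_comp, CategoryTheory.Over.w]) ≫
        bcP (C.P k) (D.map (ψ k).hom) ≫ D.map (ψ k).hom := by
    rw [← Category.assoc, bcMap_bcP, Category.assoc, ← D.map_comp, CategoryTheory.Over.w]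
  rw [e]
  exact (map_map' _ _ x).symm.trans ((congrArg _ (hψ k)).trans (map_map' _ _ y))

/-- The overlap of two pieces. -/
noncomputable def pair {A : Over S} (P Q : Piece U A) (hA : IsAffine A.left) : Piece U A where
  j := P.j
  W := pullback P.w Q.w
  aff := by haveI := P.aff; haveI := Q.aff; infer_instance
  w := pullback.fst P.w Q.w ≫ P.w
  u := pullback.fst P.w Q.w ≫ P.u
  comm := by simp only [Category.assoc, P.comm]

include hF hloc hc hD hT in
theorem exists_stage {i₀ : I} (hC : Nonempty (CoverData U (D.obj i₀))) (x : F.obj (op c.pt)) :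
    ∃ (i' : I) (z : F.obj (op (D.obj i'))), F.map (c.π.app i').op z = x := by
  obtain ⟨C⟩ := hC
  haveI := C.fin
  choose φ z hz using fun k => (piece_colimit hloc D c hc hD hT (C.P k)).1 (F.map (bcP (C.P k) (c.π.app i₀)).op x)
  obtain ⟨φ₀, hφ₀⟩ := exists_common φ
  -- all sections at one stage
  let z₀ : ∀ k, F.obj (op (bc (C.P k) (D.map φ₀.hom))) := fun k =>
    F.map (bcMap (C.P k) (f := D.map (φ k).hom) (g := D.map φ₀.hom) (D.map (hφ₀ k).some.left)
      (by rw [← D.map_comp, CategoryTheory.Over.w])).op (z k)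
  have hz₀ : ∀ k, F.map (bcMap (C.P k) (f := D.map φ₀.hom) (g := c.π.app i₀) (c.π.app φ₀.left) (c.w φ₀.hom)).op (z₀ k) =
      F.map (bcP (C.P k) (c.π.app i₀)).op x := by
    intro k
    rw [map_map', bcMap_comp, ← hz k]
    simp only [c.w]
  -- the overlaps
  let Q : C.n × C.n → Piece U (D.obj i₀) := fun kl => pair (C.P kl.1) (C.P kl.2) (hD i₀)
  have key : ∀ (kl : C.n × C.n) (A : Over S) (f : A ⟶ D.obj i₀),
      ∃ (a : bc (Q kl) f ⟶ bc (C.P kl.1) f) (b : bc (Q kl) f ⟶ bc (C.P kl.2) f),
        a ≫ bcP (C.P kl.1) f = bcP (Q kl) f ∧ b ≫ bcP (C.P kl.2) f = bcP (Q kl) f ∧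
        a.left ≫ pullback.snd f.left (C.P kl.1).w = pullback.snd f.left (Q kl).w ≫ pullback.fst _ _ ∧
        b.left ≫ pullback.snd f.left (C.P kl.2).w = pullback.snd f.left (Q kl).w ≫ pullback.snd _ _ := by
    intro kl A f
    refine ⟨Over.homMk (pullback.lift (pullback.fst f.left (Q kl).w) (pullback.snd f.left (Q kl).w ≫ pullback.fst _ _)
        (by rw [pullback.condition]; simp [Q, pair])) ?_,
      Over.homMk (pullback.lift (pullback.fst f.left (Q kl).w) (pullback.snd f.left (Q kl).w ≫ pullback.snd _ _)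
        (by rw [pullback.condition]; simp [Q, pair, pullback.condition])) ?_, ?_, ?_, ?_, ?_⟩
    · show pullback.lift _ _ _ ≫ (pullback.snd f.left (C.P kl.1).w ≫ (C.P kl.1).u) ≫ (U (C.P kl.1).j).hom =
        (pullback.snd f.left (Q kl).w ≫ (Q kl).u) ≫ (U (Q kl).j).hom
      simp [Q, pair]
    · show pullback.lift _ _ _ ≫ (pullback.snd f.left (C.P kl.2).w ≫ (C.P kl.2).u) ≫ (U (C.P kl.2).j).hom =
        (pullback.snd f.left (Q kl).w ≫ (Q kl).u) ≫ (U (Q kl).j).hom
      simp [Q, pair, (C.P kl.1).comm, (C.P kl.2).comm, reassoc_of% pullback.condition (f := (C.P kl.1).w) (g := (C.P kl.2).w)]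
    · exact Over.OverMorphism.ext (pullback.lift_fst _ _ _)
    · exact Over.OverMorphism.ext (pullback.lift_fst _ _ _)
    · exact pullback.lift_snd _ _ _
    · exact pullback.lift_snd _ _ _
  choose a b ha hb ha' hb' using key
  have hnat : ∀ (kl : C.n × C.n) {A B : Over S} {f : A ⟶ D.obj i₀} {g : B ⟶ D.obj i₀} (h : B ⟶ A) (e : h ≫ f = g),
      bcMap (Q kl) h e ≫ a kl A f = a kl B g ≫ bcMap (C.P kl.1) h e ∧
        bcMap (Q kl) h e ≫ b kl A f = b kl B g ≫ bcMap (C.P kl.2) h e := by
    intro kl A B f g h e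
    constructor
    · refine hom_ext_bc _ ?_ ?_
      · rw [Category.assoc, Category.assoc, ha, bcMap_bcP, bcMap_bcP, ← Category.assoc, ha]
      · simp only [Over.comp_left, Category.assoc, ha']
        simp [bcMap, bc, ha']
    · refine hom_ext_bc _ ?_ ?_
      · rw [Category.assoc, Category.assoc, hb, bcMap_bcP, bcMap_bcP, ← Category.assoc, hb]
      · simp only [Over.comp_left, Category.assoc, hb']
        simp [bcMap, bc, hb']
  have hkl : ∀ kl : C.n × C.n, ∃ (ψ : CategoryTheory.Over i₀) (m : ψ ⟶ φ₀),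
      F.map (bcMap (Q kl) (f := D.map φ₀.hom) (g := D.map ψ.hom) (D.map m.left)
          (by rw [← D.map_comp, CategoryTheory.Over.w])).op (F.map (a kl _ (D.map φ₀.hom)).op (z₀ kl.1)) =
        F.map (bcMap (Q kl) (f := D.map φ₀.hom) (g := D.map ψ.hom) (D.map m.left)
          (by rw [← D.map_comp, CategoryTheory.Over.w])).op (F.map (b kl _ (D.map φ₀.hom)).op (z₀ kl.2)) := by
    intro kl
    refine (piece_colimit hloc D c hc hD hT (Q kl)).2 φ₀ _ _ ?_
    rw [map_map' _ _ (z₀ kl.1), map_map' _ _ (z₀ kl.2), (hnat kl _ _).1, (hnat kl _ _).2, ← map_map' _ _ (z₀ kl.1),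
      ← map_map' _ _ (z₀ kl.2), hz₀, hz₀]
    refine (map_map' _ _ x).trans (Eq.trans ?_ (map_map' _ _ x).symm)
    exact congrArg (fun v => F.map v.op x) ((ha kl _ _).trans (hb kl _ _).symm)
  choose ψ m hm using hkl
  classical
  haveI := Fintype.ofFinite C.n
  let O : Finset (CategoryTheory.Over i₀) := insert φ₀ (Finset.univ.image ψ)
  have hO₀ : φ₀ ∈ O := Finset.mem_insert_self _ _
  have hOψ : ∀ kl, ψ kl ∈ O := fun kl => Finset.mem_insert_of_mem (Finset.mem_image_of_mem ψ (Finset.mem_univ kl))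
  let H : Finset (Σ' (X Y : CategoryTheory.Over i₀) (_ : X ∈ O) (_ : Y ∈ O), X ⟶ Y) :=
    Finset.univ.image fun kl => ⟨ψ kl, φ₀, hOψ kl, hO₀, m kl⟩
  obtain ⟨θ, T, hTm⟩ := IsCofiltered.inf_exists O H
  let n₀ : θ ⟶ φ₀ := T hO₀
  have hn : ∀ kl, T (hOψ kl) ≫ m kl = n₀ := fun kl =>
    hTm (hOψ kl) hO₀ (Finset.mem_image_of_mem _ (Finset.mem_univ kl))
  let M : ∀ (P : Piece U (D.obj i₀)), bc P (D.map θ.hom) ⟶ bc P (D.map φ₀.hom) := fun P =>
    bcMap P (D.map n₀.left) (by rw [← D.map_comp, CategoryTheory.Over.w])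
  let zθ : ∀ k, F.obj (op (bc (C.P k) (D.map θ.hom))) := fun k => F.map (M (C.P k)).op (z₀ k)
  have hcompat : Presieve.Arrows.Compatible F (fun k => bcP (C.P k) (D.map θ.hom)) zθ := by
    intro k l V a' b' hab
    let q : V ⟶ bc (Q (k, l)) (D.map θ.hom) := Over.homMk (pullback.lift (a'.left ≫ pullback.fst _ _)
      (pullback.lift (a'.left ≫ pullback.snd _ _) (b'.left ≫ pullback.snd _ _) (by
        rw [Category.assoc, Category.assoc, ← pullback.condition, ← pullback.condition, ← Category.assoc, ← Category.assoc]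
        exact congrArg (· ≫ (D.map θ.hom).left) (congrArg (fun k : V ⟶ D.obj θ.left => k.left) hab))) (by
      show _ = pullback.lift _ _ _ ≫ (pullback.fst _ _ ≫ (C.P k).w)
      rw [pullback.lift_fst_assoc, Category.assoc, Category.assoc, pullback.condition])) (by
      show pullback.lift _ _ _ ≫ (pullback.snd (D.map θ.hom).left (Q (k, l)).w ≫ (Q (k, l)).u) ≫ (U (Q (k, l)).j).hom = V.hom
      simp only [Q, pair, Category.assoc, pullback.lift_snd_assoc, pullback.lift_fst_assoc]
      exact (congrArg (a'.left ≫ ·) (by simp [bc])).trans (Over.w a'))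
    have hqa : q ≫ a (k, l) _ (D.map θ.hom) = a' := by
      refine hom_ext_bc _ ?_ ?_
      · rw [Category.assoc, ha]
        exact Over.OverMorphism.ext (pullback.lift_fst _ _ _)
      · rw [Over.comp_left, Category.assoc, ha']
        simp [q, Q, pair, bc]
    have hqb : q ≫ b (k, l) _ (D.map θ.hom) = b' := by
      refine hom_ext_bc _ ?_ ?_
      · rw [Category.assoc, hb, ← hab]
        exact Over.OverMorphism.ext (pullback.lift_fst _ _ _)
      · rw [Over.comp_left, Category.assoc, hb']
        simp [q, Q, pair, bc]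
    have hMQ : M (Q (k, l)) = bcMap (Q (k, l)) (f := D.map (ψ (k, l)).hom) (g := D.map θ.hom) (D.map (T (hOψ (k, l))).left)
        (by rw [← D.map_comp, CategoryTheory.Over.w]) ≫ bcMap (Q (k, l)) (f := D.map φ₀.hom) (D.map (m (k, l)).left)
          (by rw [← D.map_comp, CategoryTheory.Over.w]) := by
      rw [bcMap_comp]
      simp only [M, ← D.map_comp, ← CategoryTheory.Over.comp_left, hn]
    show F.map a'.op (F.map (M (C.P k)).op (z₀ k)) = F.map b'.op (F.map (M (C.P l)).op (z₀ l))
    rw [map_map' _ _ (z₀ k), map_map' _ _ (z₀ l), ← hqa, ← hqb, Category.assoc, Category.assoc,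
      ← (hnat (k, l) _ _).1, ← (hnat (k, l) _ _).2]
    show F.map (q ≫ M (Q (k, l)) ≫ _).op _ = F.map (q ≫ M (Q (k, l)) ≫ _).op _
    rw [hMQ]
    simp only [Category.assoc, ← map_map']
    rw [hm (k, l)]
  obtain ⟨s, hs, -⟩ := (Presieve.isSheafFor_arrows_iff _ _).1 (sheaf_glue hF C (D.map θ.hom)) zθ hcompat
  refine ⟨θ.left, s, ?_⟩
  refine (sheaf_glue hF C (c.π.app i₀)).isSeparatedFor.ext ?_
  rintro Z g ⟨k⟩
  refine (map_map' _ _ s).trans ?_
  have e := bcMap_bcP (C.P k) (f := D.map θ.hom) (g := c.π.app i₀) (c.π.app θ.left) (c.w θ.hom)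
  rw [← e, ← map_map', hs, map_map', bcMap_comp, ← hz₀ k]
  simp only [c.w]

end

/-- Let `F` be an fppf sheaf of sets on schemes over `S` and `{U_j ⟶ S}` an fppf covering (flat
morphisms locally of finite presentation, jointly surjective). If the restriction of `F` to schemes
over each `U_j` is limit preserving, then `F` is limit preserving. -/
theorem result (S : Scheme.{u}) (F : AlgSp.PSp S)
    (hF : Presheaf.IsSheaf (AlgSp.J S) F) {ι : Type u} (U : ι → Over S)
    (hfl : ∀ j, Flat (U j).hom) (hfp : ∀ j, LocallyOfFinitePresentation (U j).hom)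
    (hsurj : ∀ s : ↥S, ∃ (j : ι) (x : ↥(U j).left), (U j).hom.base x = s)
    (hloc : ∀ j, AlgSp.IsLimitPreserving (S := (U j).left) ((Over.map (U j).hom).op ⋙ F)) :
    AlgSp.IsLimitPreserving F := by
  intro I _ _ D c hc hD hT
  refine ⟨Types.FilteredColimit.isColimitOf' _ _ (fun x => ?_) (fun i x y h => ?_)⟩
  · obtain ⟨i₀⟩ := (IsCofiltered.nonempty : Nonempty I)
    obtain ⟨i', z, hz⟩ := exists_stage hF hloc D c hc hD hT (exists_cover U hfl hfp hsurj (D.obj i₀) (hD i₀)) x
    exact ⟨op i', z, hz.symm⟩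
  · obtain ⟨i', φ, hφ⟩ := exists_eq_stage hF hloc D c hc hD hT (exists_cover U hfl hfp hsurj (D.obj i.unop) (hD i.unop)) x y h
    exact ⟨op i', φ.op, hφ⟩

end Groth.Agent.S10030
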