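import Groth.Statements.S10031
import Groth.Agent.Lib.AlgSp.LimitPreserving
-- import your own Groth.Agent.* helpers here

set_option autoImplicit false
universe u
open CategoryTheory CategoryTheory.Limits AlgebraicGeometry
open AlgSp GrothLib.AlgSp
set_option backward.isDefEq.respectTransparency false

namespace Groth.Agent.S10031

/-- A morphism `f : X ⟶ Y` of algebraic spaces over `S` is locally of finite presentation provided that,
whenever an affine scheme `T` over `S` is a cofiltered (e.g. directed) limit of affine schemes `T_i`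
over `S`, each `T`-point of `X` lying over a `T_i`-point of `Y` comes, compatibly with both, from a
`T_{i'}`-point of `X` for some `i'` mapping to `i` (that is, the map from `colim X(T_i)` to `X(T)
×_{Y(T)} colim Y(T_i)` is surjective). -/
theorem result (S : Scheme.{u}) {X Y : AlgSp.Space S} (f : X ⟶ Y)
    (h : ∀ ⦃I : Type u⦄ [SmallCategory I] [IsCofiltered I] (D : I ⥤ Over S) (c : Cone D),
      IsLimit ((Over.forget S).mapCone c) → (∀ i, IsAffine (D.obj i).left) → IsAffine c.pt.left →
      ∀ (x : (AlgSp.yon S).obj c.pt ⟶ X.obj) (i : I) (y : (AlgSp.yon S).obj (D.obj i) ⟶ Y.obj),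
        x ≫ f.hom = (AlgSp.yon S).map (c.π.app i) ≫ y →
        ∃ (i' : I) (φ : i' ⟶ i) (x' : (AlgSp.yon S).obj (D.obj i') ⟶ X.obj),
          (AlgSp.yon S).map (c.π.app i') ≫ x' = x ∧ x' ≫ f.hom = (AlgSp.yon S).map (D.map φ) ≫ y) :
    AlgSp.LocP @LocallyOfFinitePresentation f.hom := by
  exact locP_lfp_of_lifts X.property Y.property f.hom h

end Groth.Agent.S10031
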