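import Groth.Statements.S9988
import Groth.Agent.Lib.AlgSp.IdealEtLib
-- import your own Groth.Agent.* helpers here

set_option autoImplicit false
universe u
open CategoryTheory CategoryTheory.Limits AlgebraicGeometry Opposite
open AlgSp GrothLib.AlgSp
set_option backward.isDefEq.respectTransparency false

namespace Groth.Agent.S9988

/-- Every quasi-coherent sheaf of ideals on the small etale site of an algebraic space X is the ideal
sheaf of a closed subspace: there is a closed immersion i : Z ⟶ X whose kernel ideal on every affine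
etale chart U of X equals I(U). -/
theorem result {S : Scheme.{u}} (X : AlgSp.Space S) (I : AlgSp.IdealEt X.obj) (hI : I.IsQCoh) :
    ∃ (Z : AlgSp.Space S) (i : Z ⟶ X), AlgSp.IsCutOutBy I i.hom := by
  obtain ⟨U, a, hae, has⟩ := X.property.atlas
  let E₀ : AlgSp.EtOver X.obj := AlgSp.EtOver.mk a hae
  obtain ⟨J, hJ⟩ := exists_idealData I hI E₀
  have hinv : IsInvariantIdeal a J := by
    intro R t s sq
    have ht : RepWith @Etale ((AlgSp.yon S).map t ≫ a) :=
      repWith_comp ((repWith_yon_map_iff _ _).2 (hae.2 _ _ _ sq.flip)) hae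
    let ER : AlgSp.EtOver X.obj := AlgSp.EtOver.mk ((AlgSp.yon S).map t ≫ a) ht
    let gt : ER ⟶ E₀ := AlgSp.EtOver.homMk t rfl
    let gs : ER ⟶ E₀ := AlgSp.EtOver.homMk s sq.w.symm
    apply eq_of_comap_opens
    intro W hW
    rw [← Scheme.IdealSheafData.comap_comp, ← Scheme.IdealSheafData.comap_comp]
    exact (hJ (opensObj ER W) (opensInc ER W ≫ gt) hW).trans (hJ (opensObj ER W) (opensInc ER W ≫ gs) hW).symm
  obtain ⟨Z, i, p, hZ, hi, sq⟩ := exists_closed_subspace X.property hae has J hinv
  haveI : Mono i := mono_of_closedImmersion hi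
  refine ⟨⟨Z, hZ⟩, ObjectProperty.homMk i, hi, ?_⟩
  haveI : ∀ E : AlgSp.EtOver X.obj, IsClosedImmersion (AlgSp.EtOver.bcπ hi.1 E).left :=
    isClosedImmersion_bcπ hi
  obtain ⟨p₀, sq₀⟩ := exists_repKer_square hi E₀
  have h0 : repKer hi.1 E₀ = J := by
    rw [chartIdeal_of_isPullback (φ := 𝟙 X.obj) (i₁ := 𝟙 Z) (IsPullback.of_horiz_isIso ⟨by simp⟩)
      (γ := 𝟙 U) (a := a) (a' := a) (by simp) sq sq₀, Over.id_left, Scheme.IdealSheafData.comap_id]
  refine AlgSp.IdealEt.ext (funext fun E => funext fun hE => ?_)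
  refine (idealOfRep_ideal hi.1 E hE).trans ?_
  obtain ⟨R, c, d, hc, hcs⟩ := exists_prod_obj X.property E E₀ has
  haveI := hc
  haveI := hcs
  haveI : IsAffine E.obj.left.left := hE
  let K : E.obj.left.left.IdealSheafData := Scheme.IdealSheafData.ofIdealTop (I.ideal E hE)
  have hK : topIdeal K hE = I.ideal E hE := by
    unfold topIdeal
    simp [K]
  suffices repKer hi.1 E = K by rw [this, hK]
  refine eq_of_comap_etale_surjective c.hom.left.left ?_
  rw [repKer_comap hi.1 c, ← repKer_comap hi.1 d, h0]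
  apply eq_of_comap_opens
  intro W hW
  rw [← Scheme.IdealSheafData.comap_comp, ← Scheme.IdealSheafData.comap_comp]
  refine (hJ (opensObj R W) (opensInc R W ≫ d) hW).trans ?_
  rw [topIdeal_comap hW hE, hK]
  exact le_antisymm (hI (opensInc R W ≫ c) hE hW) (I.map_le (opensInc R W ≫ c) hE hW)

end Groth.Agent.S9988
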