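import Groth.Statements.S9989
import Groth.Agent.Lib.AlgSp.IdealEtLib
-- import your own Groth.Agent.* helpers here

set_option autoImplicit false
universe u
open CategoryTheory CategoryTheory.Limits AlgebraicGeometry Opposite
open AlgSp GrothLib.AlgSp
set_option backward.isDefEq.respectTransparency false

namespace Groth.Agent.S9989

/-- For closed subspaces i : Z ⟶ X and i' : Z' ⟶ X of an algebraic space cut out by sheaves of ideals I
and I', one has I ≤ I' exactly when i' factors through i. -/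
theorem result {S : Scheme.{u}} {X Z Z' : AlgSp.Space S} (i : Z ⟶ X) (i' : Z' ⟶ X)
    (I I' : AlgSp.IdealEt X.obj) (h : AlgSp.IsCutOutBy I i.hom) (h' : AlgSp.IsCutOutBy I' i'.hom) :
    I ≤ I' ↔ ∃ k : Z' ⟶ Z, k ≫ i = i' := by
  obtain ⟨hi, rfl⟩ := h
  obtain ⟨hi', rfl⟩ := h'
  haveI : ∀ E : AlgSp.EtOver X.obj, IsClosedImmersion (AlgSp.EtOver.bcπ hi.1 E).left :=
    isClosedImmersion_bcπ hi
  haveI : ∀ E : AlgSp.EtOver X.obj, IsClosedImmersion (AlgSp.EtOver.bcπ hi'.1 E).left :=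
    isClosedImmersion_bcπ hi'
  constructor
  · intro h
    obtain ⟨U, a, hae, has⟩ := X.property.atlas
    let E₀ : AlgSp.EtOver X.obj := AlgSp.EtOver.mk a hae
    haveI : Mono i.hom := mono_of_closedImmersion hi
    obtain ⟨p, sq⟩ := exists_repKer_square hi E₀
    haveI := isLocallySurjective_bcObj_hom hi'.1 E₀ has
    have hle : repKer hi.1 E₀ ≤ repKer hi'.1 E₀ := le_of_comap_opens fun W hW => by
      rw [← opensInc_left E₀ W, repKer_comap hi.1, repKer_comap hi'.1,
        ← idealOfRep_ideal hi.1 (opensObj E₀ W) hW, ← idealOfRep_ideal hi'.1 (opensObj E₀ W) hW]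
      exact h _ _
    obtain ⟨k, hk⟩ := (exists_factor_ideal_iff sq (f := i'.hom) (b := (AlgSp.EtOver.bcObj hi'.1 E₀).obj.hom)
      (g := AlgSp.EtOver.bcπ hi'.1 E₀) (AlgSp.EtOver.isPullback_bcObj hi'.1 E₀).w).2 hle
    exact ⟨ObjectProperty.homMk k, ObjectProperty.hom_ext _ hk⟩
  · rintro ⟨k, rfl⟩ E hE x hx
    obtain ⟨m, hm⟩ := (AlgSp.yon S).map_surjective ((AlgSp.EtOver.isPullback_bcObj hi.1 E).lift
      ((AlgSp.EtOver.bcObj hi'.1 E).obj.hom ≫ k.hom) ((AlgSp.yon S).map (AlgSp.EtOver.bcπ hi'.1 E)) (by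
        rw [Category.assoc]; exact (AlgSp.EtOver.isPullback_bcObj hi'.1 E).w))
    have e : m ≫ AlgSp.EtOver.bcπ hi.1 E = AlgSp.EtOver.bcπ hi'.1 E := (AlgSp.yon S).map_injective (by
      rw [Functor.map_comp, hm, IsPullback.lift_snd])
    rw [AlgSp.mem_idealOfRep_iff] at hx ⊢
    rw [← e, Over.comp_left, Scheme.Hom.comp_appTop, CommRingCat.comp_apply, hx, map_zero]

end Groth.Agent.S9989
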