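import Groth.Statements.S9997
import Groth.Agent.Lib.AlgSp.IdealEtLib
-- import your own Groth.Agent.* helpers here

set_option autoImplicit false
universe u
open CategoryTheory CategoryTheory.Limits AlgebraicGeometry Opposite
open AlgSp GrothLib.AlgSp
set_option backward.isDefEq.respectTransparency false

namespace Groth.Agent.S9997

/-- A closed immersion i : Z ⟶ X of algebraic spaces is (locally) of finite presentation if and only if
its sheaf of ideals is of finite type; finite type is rendered chart by chart, as finite generation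
of the kernel ideal Ker(Γ(U, O_U) → Γ(Z ×_X U, O)) for every affine etale chart U of X (for a
quasi-coherent sheaf of ideals the two readings agree by descent of finite generation along etale
coverings). -/
theorem result {S : Scheme.{u}} {Z X : AlgSp.Space S} (i : Z ⟶ X)
    (hi : AlgSp.RepWith @IsClosedImmersion i.hom) :
    AlgSp.LocP @LocallyOfFinitePresentation i.hom ↔
      ∀ (E : AlgSp.EtOver X.obj) (hE : IsAffine E.obj.left.left), ((AlgSp.idealOfRep hi.1).ideal E hE).FG := by
  haveI : ∀ E : AlgSp.EtOver X.obj, IsClosedImmersion (AlgSp.EtOver.bcπ hi.1 E).left :=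
    isClosedImmersion_bcπ hi
  have key : ∀ (E : AlgSp.EtOver X.obj) (hE : IsAffine E.obj.left.left),
      LocallyOfFinitePresentation (AlgSp.EtOver.bcπ hi.1 E).left ↔ ((AlgSp.idealOfRep hi.1).ideal E hE).FG := by
    intro E hE
    haveI := hE
    obtain ⟨hA, hsurj⟩ := IsClosedImmersion.isAffine_surjective_of_isAffine (AlgSp.EtOver.bcπ hi.1 E).left
    rw [HasRingHomProperty.iff_of_isAffine (P := @LocallyOfFinitePresentation)]
    refine ⟨fun h => ?_, fun h => RingHom.FinitePresentation.of_surjective _ hsurj h⟩
    letI := (AlgSp.EtOver.bcπ hi.1 E).left.appTop.hom.toAlgebra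
    haveI : Algebra.FinitePresentation Γ(E.obj.left.left, ⊤) Γ((AlgSp.EtOver.bcObj hi.1 E).obj.left.left, ⊤) := h
    exact Algebra.FinitePresentation.ker_fG_of_surjective
      (Algebra.ofId Γ(E.obj.left.left, ⊤) Γ((AlgSp.EtOver.bcObj hi.1 E).obj.left.left, ⊤)) hsurj
  constructor
  · intro h E hE
    exact (key E hE).1 (h _ _ _ (AlgSp.EtOver.bcObj hi.1 E).property E.property
      (AlgSp.EtOver.isPullback_bcObj hi.1 E).w)
  · intro h
    obtain ⟨U, a, hae, has⟩ := X.property.atlas
    let E₀ : AlgSp.EtOver X.obj := AlgSp.EtOver.mk a hae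
    refine EtLocal.lfp.locP_of_chart (AlgSp.EtOver.bcObj hi.1 E₀).property
      (repWith_of_isPullback (AlgSp.EtOver.isPullback_bcObj hi.1 E₀).flip has) hae
      (AlgSp.EtOver.isPullback_bcObj hi.1 E₀).w ?_
    refine IsZariskiLocalAtTarget.of_iSup_eq_top (P := @LocallyOfFinitePresentation)
      (fun W : U.left.affineOpens => W.1) (iSup_affineOpens_eq_top _) fun W => ?_
    have e := (isPullback_morphismRestrict (AlgSp.EtOver.bcπ hi.1 E₀).left W.1).flip
    have e' := AlgSp.EtOver.isPullback_bcMap_left hi.1 (opensInc E₀ W.1)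
    exact (MorphismProperty.arrow_mk_iso_iff @LocallyOfFinitePresentation
      (Arrow.isoMk (e'.isoIsPullback _ _ e) (Iso.refl _) (by
        refine (e'.isoIsPullback_hom_snd _ _ e).trans ?_
        exact (Category.comp_id _).symm))).1 ((key (opensObj E₀ W.1) W.2).2 (h _ _))

end Groth.Agent.S9997
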