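import Groth.Statements.S10035
import Groth.Agent.Lib.AlgSp.IdealModule
import Groth.Agent.Lib.AlgSp.ClosedSub
import Groth.Agent.Lib.AlgSp.Diag
import Groth.Agent.S10001
import Groth.Agent.S10003
import Groth.Agent.S9988
import Groth.Agent.S9989
import Groth.Agent.S9997

set_option autoImplicit false
set_option backward.isDefEq.respectTransparency false
universe u
open CategoryTheory CategoryTheory.Limits AlgebraicGeometry Opposite
open AlgSp
open GrothLib.AlgSp GrothLib.AlgSp.QCohEt

namespace Groth.Agent.S10035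

theorem ideal_eq_of_atlas {S : Scheme.{u}} {X : AlgSp.Sp S} (hX : AlgSp.IsAlgSpace X) (I I' : AlgSp.IdealEt X)
    (hI : I.IsQCoh) (hI' : I'.IsQCoh) (E₀ : AlgSp.EtOver X) (hE₀ : IsAffine E₀.obj.left.left)
    (has : AlgSp.RepWith @Surjective E₀.obj.hom) (h : I.ideal E₀ hE₀ = I'.ideal E₀ hE₀) : I = I' := by
  refine AlgSp.IdealEt.ext (funext fun E => funext fun hE => ?_)
  haveI := hE
  obtain ⟨R, c, d, hc, hcs⟩ := exists_prod_obj hX E E₀ has
  haveI := hc
  haveI := hcs
  have hK : ∀ A : Ideal Γ(E.obj.left.left, ⊤),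
      topIdeal (Scheme.IdealSheafData.ofIdealTop A) hE = A := fun A => by
    unfold topIdeal
    simp
  rw [← hK (I.ideal E hE), ← hK (I'.ideal E hE)]
  congr 1
  refine eq_of_comap_etale_surjective c.hom.left.left (eq_of_comap_opens fun W hW => ?_)
  rw [← Scheme.IdealSheafData.comap_comp, ← Scheme.IdealSheafData.comap_comp, topIdeal_comap hW hE,
    topIdeal_comap hW hE, hK, hK]
  refine (le_antisymm (I.map_le (opensInc R W ≫ c) hE hW) (hI (opensInc R W ≫ c) hE hW)).trans ?_
  refine (le_antisymm (hI (opensInc R W ≫ d) hE₀ hW) (I.map_le (opensInc R W ≫ d) hE₀ hW)).trans ?_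
  rw [h]
  exact (le_antisymm (I'.map_le (opensInc R W ≫ d) hE₀ hW) (hI' (opensInc R W ≫ d) hE₀ hW)).trans
    (le_antisymm (hI' (opensInc R W ≫ c) hE hW) (I'.map_le (opensInc R W ≫ c) hE hW))

theorem limit_aux {S : Scheme.{u}} {T : Type u} [Preorder T] [IsDirected T (fun a b => a ≤ b)] (b₀ : T)
    (hb : ∀ t, b₀ ≤ t) {X Y : AlgSp.Sp S} (f : X ⟶ Y) [Mono f] (Z : T → AlgSp.Sp S) (z : ∀ t, Z t ⟶ Y)
    [∀ t, Mono (z t)] (k : ∀ t t', t ≤ t' → (Z t' ⟶ Z t)) (hk : ∀ t t' h, k t t' h ≫ z t = z t')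
    (m : ∀ t, X ⟶ Z t) (hm : ∀ t, m t ≫ z t = f)
    (key : ∀ (W : AlgSp.Sp S) (q : W ⟶ Y), (∀ t, ∃ l : W ⟶ Z t, l ≫ z t = q) → ∃ l : W ⟶ X, l ≫ f = q) :
    ∃ (D : Tᵒᵖ ⥤ AlgSp.Sp S) (t : D ⟶ (Functor.const Tᵒᵖ).obj Y) (c : Cone D) (_ : IsLimit c) (e : c.pt ≅ X),
      (∀ i, D.obj i = Z i.unop ∧ ∀ P : MorphismProperty (AlgSp.Sp S), P (z i.unop) → P (t.app i)) ∧ (∀ i, e.inv ≫ c.π.app i ≫ t.app i = f) := by
  let D : Tᵒᵖ ⥤ AlgSp.Sp S :=
    { obj := fun i => Z i.unop
      map := fun {i i'} φ => k i'.unop i.unop (leOfHom φ.unop)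
      map_id := fun i => by rw [← cancel_mono (z i.unop), hk, Category.id_comp]
      map_comp := fun {i i' i''} φ ψ => by rw [← cancel_mono (z i''.unop), hk, Category.assoc, hk, hk] }
  have hD : ∀ {i i' : Tᵒᵖ} (φ : i ⟶ i'), D.map φ ≫ z i'.unop = z i.unop := fun φ => hk _ _ _
  let tt : D ⟶ (Functor.const Tᵒᵖ).obj Y :=
    { app := fun i => z i.unop
      naturality := fun i i' φ => (hD φ).trans (Category.comp_id _).symm }
  let c : Cone D :=
    { pt := X
      π := { app := fun i => m i.unop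
             naturality := fun i i' φ => by
               refine (Category.id_comp _).trans ?_
               rw [← cancel_mono (z i'.unop)]
               refine (hm i'.unop).trans ?_
               exact ((Category.assoc _ _ _).trans ((congrArg (fun q => m i.unop ≫ q) (hD φ)).trans (hm i.unop))).symm } }
  have hsc : ∀ (s : Cone D) (i : Tᵒᵖ), s.π.app i ≫ z i.unop = s.π.app (op b₀) ≫ z b₀ := by
    intro s i
    have h := s.w (homOfLE (hb i.unop)).op
    rw [← h]
    exact ((Category.assoc _ _ _).trans (congrArg (fun q => s.π.app i ≫ q) (hk _ _ _))).symm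
  have hex : ∀ s : Cone D, ∃ l : s.pt ⟶ X, l ≫ f = s.π.app (op b₀) ≫ z b₀ := fun s =>
    key s.pt _ fun t => ⟨s.π.app (op t), hsc s (op t)⟩
  refine ⟨D, tt, c,
    { lift := fun s => (hex s).choose
      fac := fun s i => by
        rw [← cancel_mono (z i.unop)]
        exact (Category.assoc _ _ _).trans (((congrArg (fun q => (hex s).choose ≫ q) (hm i.unop)).trans
          (hex s).choose_spec).trans (hsc s i).symm)
      uniq := fun s l hl => by
        rw [← cancel_mono f, (hex s).choose_spec, ← hl (op b₀)]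
        exact ((Category.assoc _ _ _).trans (congrArg (fun q => l ≫ q) (hm b₀))).symm },
    Iso.refl _, fun i => ⟨rfl, fun _ h => h⟩, fun i => ?_⟩
  exact (Category.id_comp _).trans (hm i.unop)

/-- Let `Y` be an algebraic space, quasi-compact and quasi-separated over the scheme `S`, and `f : X ⟶
Y` a closed immersion from another algebraic space. Then `X` is the limit of a directed system of
closed subspaces `X_i ⟶ Y` of finite presentation whose transition maps are closed immersions (limit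
in fppf sheaves, indexed by a nonempty directed preorder, compatible with `f`). (The published
statement allows any base scheme and uses absolute quasi-separatedness; this row assumes the base
quasi-separated, over which quasi-separatedness relative to the base is the absolute notion.) -/
theorem result (S : Scheme.{u}) [QuasiSeparatedSpace S]
    {X Y : AlgSp.Space S} (f : X ⟶ Y) (hf : AlgSp.RepWith @IsClosedImmersion f.hom) (hYqc : AlgSp.IsQuasiCompactSp Y.obj) (hYqs : AlgSp.IsQuasiSeparatedSp Y.obj) :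
    ∃ (I : Type u) (_ : Preorder I) (_ : IsDirected I (fun a b => a ≤ b)) (_ : Nonempty I) (D : Iᵒᵖ ⥤ AlgSp.Sp S)
      (t : D ⟶ (Functor.const Iᵒᵖ).obj Y.obj) (c : Cone D) (_ : IsLimit c) (e : c.pt ≅ X.obj),
      (∀ i, AlgSp.IsAlgSpace (D.obj i)) ∧ (∀ (i j : Iᵒᵖ) (φ : i ⟶ j), AlgSp.RepWith @IsClosedImmersion (D.map φ)) ∧
      (∀ i, AlgSp.RepWith @IsClosedImmersion (t.app i) ∧ AlgSp.IsFinitePresentationMor (t.app i)) ∧ (∀ i, e.inv ≫ c.π.app i ≫ t.app i = f.hom) := by
  classical
  obtain ⟨V, a, hV, ha, has⟩ := GrothLib.AlgSp.exists_affine_atlas_of_qc hYqc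
  let E₀ : AlgSp.EtOver Y.obj := AlgSp.EtOver.mk a ha
  have hE₀ : IsAffine E₀.obj.left.left := hV
  let I₀ := AlgSp.idealOfRep hf.1
  have hqcm : AlgSp.IsQuasiCompactMor f.hom :=
    isQuasiCompactMor_of_repWith (repWith_mono hf fun A B g (hg : IsClosedImmersion g) => (inferInstance : QuasiCompact g))
  have hI₀ := (Groth.Agent.S10003.result f hf.1 hqcm).1
  choose K hK hKfg hKle hKg using fun g : {g : Γ(V.left, ⊤) // g ∈ I₀.ideal E₀ hE₀} =>
    exists_finiteType_ideal Y.property hYqc hYqs I₀ hI₀ hE₀ {g.1} (fun x hx => (Finset.mem_singleton.1 hx) ▸ g.2)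
  -- finite sums
  let J : Finset {g : Γ(V.left, ⊤) // g ∈ I₀.ideal E₀ hE₀} → AlgSp.IdealEt Y.obj := fun t =>
    { ideal := fun E hE => t.sup fun g => (K g).ideal E hE
      map_le := fun {E E'} w hE hE' => Ideal.map_le_iff_le_comap.2 (Finset.sup_le fun g hg =>
        Ideal.map_le_iff_le_comap.1 (((K g).map_le w hE hE').trans
          (Finset.le_sup (f := fun g => (K g).ideal E' hE') hg))) }
  have hJ : ∀ t, (J t).IsQCoh := fun t E E' w hE hE' => Finset.sup_le fun g hg =>
    (hK g w hE hE').trans (Ideal.map_mono (Finset.le_sup (f := fun g => (K g).ideal E hE) hg))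
  have hJfg : ∀ t (E : AlgSp.EtOver Y.obj) (hE : IsAffine E.obj.left.left), ((J t).ideal E hE).FG := fun t E hE => by
    refine Finset.sup_induction (p := fun I : Ideal Γ(E.obj.left.left, ⊤) => I.FG) Submodule.fg_bot
      (fun A hA B hB => Submodule.FG.sup hA hB) fun g _ => hKfg g E hE
  choose Z z hz using fun t => Groth.Agent.S9988.result Y (J t) (hJ t)
  have hle : ∀ t, J t ≤ I₀ := fun t E hE => Finset.sup_le fun g _ => hKle g E hE
  have hmono : ∀ {t t' : Finset {g : Γ(V.left, ⊤) // g ∈ I₀.ideal E₀ hE₀}}, t ≤ t' → J t ≤ J t' :=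
    fun h E hE => Finset.sup_mono h
  choose k hk using fun (t t' : Finset {g : Γ(V.left, ⊤) // g ∈ I₀.ideal E₀ hE₀}) (h : t ≤ t') =>
    (Groth.Agent.S9989.result (z t) (z t') _ _ (hz t) (hz t')).1 (hmono h)
  choose m hm using fun t => (Groth.Agent.S9989.result (z t) f _ _ (hz t) ⟨hf, rfl⟩).1 (hle t)
  haveI hmo : ∀ t, Mono (z t).hom := fun t => mono_of_closedImmersion (hz t).1
  have hk' : ∀ t t' h, (k t t' h).hom ≫ (z t).hom = (z t').hom := fun t t' h =>
    congrArg (fun q : Z t' ⟶ Y => q.hom) (hk t t' h)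
  haveI : Mono f.hom := mono_of_closedImmersion hf
  -- the ideals exhaust
  let J' : AlgSp.IdealEt Y.obj :=
    { ideal := fun E hE => ⨆ g, (K g).ideal E hE
      map_le := fun {E E'} w hE hE' => Ideal.map_le_iff_le_comap.2 (iSup_le fun g =>
        Ideal.map_le_iff_le_comap.1 (((K g).map_le w hE hE').trans (le_iSup (fun g => (K g).ideal E' hE') g))) }
  have hJ' : J'.IsQCoh := fun E E' w hE hE' => iSup_le fun g =>
    (hK g w hE hE').trans (Ideal.map_mono (le_iSup (fun g => (K g).ideal E hE) g))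
  have hexh : I₀ = J' := by
    refine ideal_eq_of_atlas Y.property I₀ J' hI₀ hJ' E₀ hE₀ has (le_antisymm (fun x hx => ?_) ?_)
    · exact Ideal.mem_iSup_of_mem ⟨x, hx⟩ (hKg ⟨x, hx⟩ x (Finset.mem_singleton_self _))
    · exact iSup_le fun g => hKle g E₀ hE₀
  have key : ∀ (W : AlgSp.Sp S) (q : W ⟶ Y.obj), (∀ t, ∃ l : W ⟶ (Z t).obj, l ≫ (z t).hom = q) →
      ∃ l : W ⟶ X.obj, l ≫ f.hom = q := by
    intro W q hq
    suffices IsIso (pullback.fst q f.hom) from
      ⟨inv (pullback.fst q f.hom) ≫ pullback.snd q f.hom, by rw [Category.assoc, ← pullback.condition, IsIso.inv_hom_id_assoc]⟩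
    refine isIso_of_yon fun T b => ?_
    have hh : AlgSp.Representable (b ≫ q) := (representable_diag_iff.1 Y.property.diag) _
    have hI : I₀ ≤ AlgSp.idealOfRep hh := by
      intro E hE
      rw [hexh]
      refine iSup_le fun g => ?_
      obtain ⟨l, hl⟩ := hq {g}
      exact le_trans (Finset.le_sup (f := fun g => (K g).ideal E hE) (Finset.mem_singleton_self g))
        ((Groth.Agent.S10001.result (z {g}) _ (hz {g}) (b ≫ q) hh).1 ⟨b ≫ l, by rw [Category.assoc, hl]⟩ E hE)
    obtain ⟨l, hl⟩ := (Groth.Agent.S10001.result f I₀ ⟨hf, rfl⟩ (b ≫ q) hh).2 hI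
    refine ⟨pullback.lift b l hl.symm, pullback.lift_fst _ _ _, fun a' ha' => ?_⟩
    apply pullback.hom_ext
    · rw [pullback.lift_fst, ha']
    · rw [pullback.lift_snd, ← cancel_mono f.hom, hl, Category.assoc, ← pullback.condition, ← ha', Category.assoc]
  have hmz : ∀ t, (m t).hom ≫ (z t).hom = f.hom := fun t => congrArg (fun q : X ⟶ Y => q.hom) (hm t)
  obtain ⟨D, tt, c, hlim, e, hD, he⟩ := limit_aux (∅ : Finset {g : Γ(V.left, ⊤) // g ∈ I₀.ideal E₀ hE₀})
    Finset.empty_subset f.hom (fun t => (Z t).obj) (fun t => (z t).hom) (fun t t' h => (k t t' h).hom) hk'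
    (fun t => (m t).hom) hmz key
  have hcl : ∀ i, AlgSp.RepWith @IsClosedImmersion (tt.app i) := fun i => (hD i).2 _ (hz i.unop).1
  refine ⟨Finset {g : Γ(V.left, ⊤) // g ∈ I₀.ideal E₀ hE₀}, inferInstance, inferInstance, inferInstance, D, tt, c, hlim,
    e, fun i => (hD i).1 ▸ (Z i.unop).property, fun i i' φ => ?_, fun i => ⟨hcl i, ?_⟩, he⟩
  · haveI : Mono (tt.app i') := mono_of_closedImmersion (hcl i')
    refine repWith_of_comp_diagonal (D.map φ) (tt.app i')
      ((repWith_diagonal_iff_of_representable (hcl i').1).2 (repWith_mono (hcl i') fun A B g (hg : IsClosedImmersion g) =>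
        (inferInstance : IsClosedImmersion (pullback.diagonal g)))) ?_
    rw [tt.naturality φ]
    show AlgSp.RepWith @IsClosedImmersion (tt.app i ≫ 𝟙 _)
    rw [Category.comp_id]
    exact hcl i
  · have hfp : AlgSp.IsFinitePresentationMor (z i.unop).hom := by
      obtain ⟨hi, hiJ⟩ := hz i.unop
      exact ⟨(Groth.Agent.S9997.result (z i.unop) hi).2 fun E hE => hiJ ▸ hJfg i.unop E hE,
        isQuasiCompactMor_of_repWith (repWith_mono hi fun A B g (hg : IsClosedImmersion g) => (inferInstance : QuasiCompact g)),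
        (repWith_diagonal_iff_of_representable hi.1).2
          (repWith_mono hi fun A B g (hg : IsClosedImmersion g) => (inferInstance : QuasiSeparated g).1)⟩
    exact (hD i).2 _ hfp

end Groth.Agent.S10035
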