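import Groth.Statements.S10045
import Groth.Agent.Lib.AlgSp.ThickScheme
-- import your own Groth.Agent.* helpers here

set_option autoImplicit false
universe u
open CategoryTheory CategoryTheory.Limits AlgebraicGeometry
open AlgSp

namespace Groth.Agent.S10045

/-- Let `X` be an algebraic space over `S` and `X_red ⟶ X` its reduction (the reduced closed subspace
with the same points). If `X_red` is a scheme, then `X` is a scheme. -/
theorem result (S : Scheme.{u}) (X Z : AlgSp.Space S) (i : Z ⟶ X)
    (hi : AlgSp.IsRedInduced Set.univ i.hom) (hZ : Z.obj.obj.IsRepresentable) : X.obj.obj.IsRepresentable := by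
  obtain ⟨T, ⟨r⟩⟩ := hZ.has_representation
  have hthick : AlgSp.IsThickMor i.hom := GrothLib.AlgSp.repWith_inf_iff.2
    ⟨hi.1, (GrothLib.AlgSp.repWith_surjective_iff hi.1.1).2 (Set.range_eq_univ.1 hi.2.1)⟩
  have sqe : IsPullback (AlgSp.isoOfRepresentableBy r).hom ((AlgSp.isoOfRepresentableBy r).hom ≫ i.hom) i.hom (𝟙 _) :=
    IsPullback.of_horiz_isIso ⟨by simp⟩
  obtain ⟨M, ⟨e⟩⟩ := GrothLib.AlgSp.exists_scheme_of_thick X.property (GrothLib.AlgSp.repWith_of_isPullback sqe hthick)
  exact GrothLib.AlgSp.isRepresentable_of_iso e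

end Groth.Agent.S10045
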