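import Groth.Statements.S10047
import Groth.Agent.Lib.AlgSp.ThickScheme
import Groth.Agent.Lib.AlgSp.AffineMor
import Groth.Agent.Lib.AlgSp.ClosedSub
-- import your own Groth.Agent.* helpers here

set_option autoImplicit false
universe u
open CategoryTheory CategoryTheory.Limits AlgebraicGeometry
open AlgSp GrothLib.AlgSp
set_option backward.isDefEq.respectTransparency false

namespace Groth.Agent.S10047
open scoped TensorProduct

/-- A ring map which is surjective modulo a nilpotent finitely generated ideal is surjective. -/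
theorem surjective_of_fg_nil {A C : Type u} [CommRing A] [CommRing C] (φ : A →+* C) (J : Ideal A) (hJ : J.FG)
    (hnil : J ≤ nilradical A) (h : ∀ c, ∃ a, c - φ a ∈ J.map φ) : Function.Surjective φ := by
  obtain ⟨n, hn⟩ := (hJ.isNilpotent_iff_le_nilradical).2 hnil
  letI := φ.toAlgebra
  have key : ∀ m : ℕ, ∀ c, ∃ a, c - φ a ∈ (J ^ m).map φ := by
    intro m
    induction m with
    | zero => exact fun c => ⟨0, by simp [Ideal.one_eq_top, Ideal.map_top]⟩
    | succ m ih =>
      intro c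
      obtain ⟨a, ha⟩ := ih c
      suffices ∀ x ∈ (J ^ m).map φ, ∃ a', x - φ a' ∈ (J ^ (m + 1)).map φ by
        obtain ⟨a', ha'⟩ := this _ ha
        exact ⟨a + a', by rwa [map_add, ← sub_sub]⟩
      intro x hx
      rw [Ideal.map] at hx
      refine Submodule.span_induction (fun x hx => ?_) ⟨0, by simp⟩ (fun x y _ _ ⟨a₁, h₁⟩ ⟨a₂, h₂⟩ => ⟨a₁ + a₂, by
        have := Ideal.add_mem _ h₁ h₂
        convert this using 1
        rw [map_add]; ring⟩) (fun r x hxm ⟨a₁, h₁⟩ => ?_) hx
      · obtain ⟨y, -, rfl⟩ := hx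
        exact ⟨y, by simp⟩
      · obtain ⟨a₀, ha₀⟩ := h r
        refine ⟨a₀ * a₁, ?_⟩
        have e : r • x - φ (a₀ * a₁) = (r - φ a₀) * x + φ a₀ * (x - φ a₁) := by
          rw [map_mul, smul_eq_mul]; ring
        rw [e]
        refine Ideal.add_mem _ ?_ (Ideal.mul_mem_left _ _ h₁)
        rw [pow_succ', Ideal.map_mul]
        exact Ideal.mul_mem_mul ha₀ hxm
  intro c
  obtain ⟨a, ha⟩ := key n c
  rw [hn, Ideal.zero_eq_bot, Ideal.map_bot, Ideal.mem_bot, sub_eq_zero] at ha
  exact ⟨a, ha.symm⟩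

/-- Elements of an extended ideal only involve finitely many generators. -/
theorem exists_fg_mem_map {A C : Type u} [CommRing A] [CommRing C] (φ : A →+* C) (I : Ideal A) {x : C}
    (hx : x ∈ I.map φ) : ∃ J : Ideal A, J.FG ∧ J ≤ I ∧ x ∈ J.map φ := by
  rw [Ideal.map] at hx
  refine Submodule.span_induction (fun x hx => ?_) ⟨⊥, Submodule.fg_bot, bot_le, zero_mem _⟩
    (fun x y _ _ ⟨J₁, a₁, b₁, c₁⟩ ⟨J₂, a₂, b₂, c₂⟩ =>
      ⟨J₁ ⊔ J₂, Submodule.FG.sup a₁ a₂, sup_le b₁ b₂, Ideal.add_mem _ (Ideal.map_mono le_sup_left c₁) (Ideal.map_mono le_sup_right c₂)⟩)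
    (fun r x _ ⟨J₁, a₁, b₁, c₁⟩ => ⟨J₁, a₁, b₁, Ideal.mul_mem_left _ _ c₁⟩) hx
  obtain ⟨y, hy, rfl⟩ := hx
  exact ⟨Ideal.span {y}, ⟨{y}, by simp⟩, (Ideal.span_singleton_le_iff_mem _).2 hy,
    Ideal.mem_map_of_mem _ (Ideal.mem_span_singleton_self y)⟩

/-- Finite type maps surjective modulo a nil ideal are surjective. -/
theorem surjective_of_finiteType_nil {A C : Type u} [CommRing A] [CommRing C] (φ : A →+* C) (hφ : φ.FiniteType)
    (I : Ideal A) (hnil : I ≤ nilradical A) (h : ∀ c, ∃ a, c - φ a ∈ I.map φ) : Function.Surjective φ := by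
  classical
  letI := φ.toAlgebra
  haveI : Algebra.FiniteType A C := hφ
  obtain ⟨s, hs⟩ := Algebra.FiniteType.out (R := A) (A := C)
  choose a ha using h
  choose J hJ hJI hJx using fun c => exists_fg_mem_map φ I (ha c)
  let J₀ : Ideal A := s.sup J
  have hJ₀ : J₀.FG := by
    refine Finset.sup_induction Submodule.fg_bot (fun _ h₁ _ h₂ => Submodule.FG.sup h₁ h₂) fun c _ => hJ c
  refine surjective_of_fg_nil φ J₀ hJ₀ ((Finset.sup_le fun c _ => hJI c).trans hnil) fun c => ?_
  have hc : c ∈ Algebra.adjoin A (s : Set C) := by rw [hs]; trivial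
  induction hc using Algebra.adjoin_induction with
  | mem x hx => exact ⟨a x, Ideal.map_mono (Finset.le_sup (f := J) hx) (hJx x)⟩
  | algebraMap r => exact ⟨r, by simp [RingHom.algebraMap_toAlgebra]⟩
  | add x y _ _ hx hy =>
    obtain ⟨a₁, h₁⟩ := hx; obtain ⟨a₂, h₂⟩ := hy
    exact ⟨a₁ + a₂, by rw [map_add, add_sub_add_comm]; exact Ideal.add_mem _ h₁ h₂⟩
  | mul x y _ _ hx hy =>
    obtain ⟨a₁, h₁⟩ := hx; obtain ⟨a₂, h₂⟩ := hy
    refine ⟨a₁ * a₂, ?_⟩
    have e : x * y - φ (a₁ * a₂) = (x - φ a₁) * y + φ a₁ * (y - φ a₂) := by rw [map_mul]; ring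
    rw [e]
    exact Ideal.add_mem _ (Ideal.mul_mem_right _ _ h₁) (Ideal.mul_mem_left _ _ h₂)

theorem isClosedImmersion_of_thick_bc_spec {A C D : CommRingCat.{u}} (φ : A ⟶ C) (π : A ⟶ D)
    (hπ : Function.Surjective π) (hnil : RingHom.ker π.hom ≤ nilradical A) {W : Scheme.{u}} (w₁ : W ⟶ Spec C)
    (w₂ : W ⟶ Spec D) (sq : IsPullback w₁ w₂ (Spec.map φ) (Spec.map π)) [IsClosedImmersion w₂]
    (hor : φ.hom.FiniteType ∨ (RingHom.ker π.hom).FG) : Function.Surjective φ := by
  letI := φ.hom.toAlgebra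
  letI := π.hom.toAlgebra
  have sq₀ : IsPullback (Spec.map (CommRingCat.ofHom (Algebra.TensorProduct.includeLeftRingHom : C →+* TensorProduct A C D)))
      (Spec.map (CommRingCat.ofHom (Algebra.TensorProduct.includeRight.toRingHom : D →+* TensorProduct A C D)))
      (Spec.map φ) (Spec.map π) := by
    refine IsPullback.of_iso (IsPullback.of_hasPullback (Spec.map (CommRingCat.ofHom (algebraMap A C)))
      (Spec.map (CommRingCat.ofHom (algebraMap A D)))) (pullbackSpecIso A C D) (Iso.refl _) (Iso.refl _) (Iso.refl _)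
      ?_ ?_ (by simp [RingHom.algebraMap_toAlgebra]) (by simp [RingHom.algebraMap_toAlgebra])
    · simp
    · simp
  let m : CommRingCat.of D ⟶ CommRingCat.of (TensorProduct A C D) :=
    CommRingCat.ofHom (Algebra.TensorProduct.includeRight.toRingHom : D →+* TensorProduct A C D)
  haveI : IsClosedImmersion (Spec.map m) := by
    rw [← sq₀.isoIsPullback_hom_snd _ _ sq]
    infer_instance
  have hsurj : Function.Surjective m := by
    have h := (IsClosedImmersion.isAffine_surjective_of_isAffine (Spec.map m)).2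
    have e : m = (Scheme.ΓSpecIso _).inv ≫ (Spec.map m).appTop ≫ (Scheme.ΓSpecIso _).hom := by simp
    rw [e]
    exact (ConcreteCategory.bijective_of_isIso (Scheme.ΓSpecIso _).hom).2.comp
      (h.comp (ConcreteCategory.bijective_of_isIso (Scheme.ΓSpecIso _).inv).2)
  let ψ : TensorProduct A C D →ₐ[A] C ⧸ (RingHom.ker π.hom).map φ.hom :=
    Algebra.TensorProduct.lift (Ideal.Quotient.mkₐ A _)
      ({ RingHom.liftOfSurjective π.hom hπ ⟨(Ideal.Quotient.mk _).comp φ.hom, fun a ha => by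
          rw [RingHom.mem_ker, RingHom.comp_apply, Ideal.Quotient.eq_zero_iff_mem]
          exact Ideal.mem_map_of_mem _ ha⟩ with
        commutes' := fun a => RingHom.liftOfSurjective_comp_apply π.hom hπ _ a })
      (fun _ _ => mul_comm _ _)
  have key : ∀ c : C, ∃ a, c - φ a ∈ (RingHom.ker π.hom).map φ.hom := by
    intro c
    obtain ⟨d, hd⟩ := hsurj (c ⊗ₜ[A] (1 : D))
    obtain ⟨a, rfl⟩ := hπ d
    refine ⟨a, ?_⟩
    have e := congrArg ψ hd
    have e1 : ψ (c ⊗ₜ[A] (1 : D)) = Ideal.Quotient.mk _ c := by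
      simp only [ψ, Algebra.TensorProduct.lift_tmul, map_one, mul_one]
      rfl
    have e2 : ψ ((Algebra.TensorProduct.includeRight.toRingHom : D →+* TensorProduct A C D) (algebraMap A D a)) =
        Ideal.Quotient.mk _ (φ a) := by
      show ψ (Algebra.TensorProduct.includeRight (algebraMap A D a)) = _
      rw [AlgHom.commutes, AlgHom.commutes]
      rfl
    rw [← Ideal.Quotient.eq]
    exact (e1.symm.trans (e.symm.trans e2))
  rcases hor with h | h
  · exact surjective_of_finiteType_nil φ.hom h _ hnil key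
  · exact surjective_of_fg_nil φ.hom _ h hnil key

theorem isClosedImmersion_of_thick_bc {Q T T' W : Scheme.{u}} [IsAffine Q] [IsAffine T] [IsAffine T'] (q : Q ⟶ T)
    (c : T' ⟶ T) [IsClosedImmersion c] [Surjective c] {w₁ : W ⟶ Q} {w₂ : W ⟶ T'} [IsClosedImmersion w₂]
    (sq : IsPullback w₁ w₂ q c) (hor : LocallyOfFiniteType q ∨ LocallyOfFinitePresentation c) : IsClosedImmersion q := by
  have hq : q.appTop.hom = q.appTop.hom := rfl
  have eq' : Spec.map q.appTop = Q.isoSpec.inv ≫ q ≫ T.isoSpec.hom := by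
    rw [← Scheme.isoSpec_hom_naturality, Iso.inv_hom_id_assoc]
  have ec' : Spec.map c.appTop = T'.isoSpec.inv ≫ c ≫ T.isoSpec.hom := by
    rw [← Scheme.isoSpec_hom_naturality, Iso.inv_hom_id_assoc]
  haveI : IsClosedImmersion (Spec.map c.appTop) := by rw [ec']; infer_instance
  haveI : Surjective (Spec.map c.appTop) := by rw [ec']; infer_instance
  have hπ := (IsClosedImmersion.isAffine_surjective_of_isAffine c).2
  have hnil : RingHom.ker c.appTop.hom ≤ nilradical Γ(T, ⊤) := by
    intro a ha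
    rw [nilradical_eq_sInf, Ideal.mem_sInf]
    intro p hp
    obtain ⟨x, hx⟩ := (Spec.map c.appTop).surjective ⟨p, hp⟩
    have : a ∈ (Spec.map c.appTop x).asIdeal := by
      show c.appTop.hom a ∈ x.asIdeal
      rw [RingHom.mem_ker.1 ha]; exact zero_mem _
    rwa [hx] at this
  have sq' : IsPullback (w₁ ≫ Q.isoSpec.hom) (w₂ ≫ T'.isoSpec.hom) (Spec.map q.appTop) (Spec.map c.appTop) := by
    refine IsPullback.of_iso sq (Iso.refl _) Q.isoSpec T'.isoSpec T.isoSpec (by simp) (by simp) ?_ ?_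
    · rw [eq', Iso.hom_inv_id_assoc]
    · rw [ec', Iso.hom_inv_id_assoc]
  have hsurj : Function.Surjective q.appTop := by
    refine isClosedImmersion_of_thick_bc_spec q.appTop c.appTop hπ hnil _ _ sq' ?_
    rcases hor with h | h
    · left
      exact (HasRingHomProperty.Spec_iff (P := @LocallyOfFiniteType)).1 (by rw [eq']; infer_instance)
    · right
      letI := c.appTop.hom.toAlgebra
      haveI : Algebra.FinitePresentation Γ(T, ⊤) Γ(T', ⊤) :=
        (HasRingHomProperty.Spec_iff (P := @LocallyOfFinitePresentation) (φ := c.appTop)).1 (by rw [ec']; infer_instance)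
      exact Algebra.FinitePresentation.ker_fG_of_surjective (Algebra.ofId Γ(T, ⊤) Γ(T', ⊤)) hπ
  haveI := IsClosedImmersion.spec_of_surjective _ hsurj
  rw [show q = Q.isoSpec.hom ≫ Spec.map q.appTop ≫ T.isoSpec.inv by simp [eq']]
  infer_instance

/-- Let `f : X ⟶ B` and `g : B' ⟶ B` be morphisms of algebraic spaces over `S` with `g` a closed
immersion inducing a bijection on points, and suppose the base change `X ×_B B' ⟶ B'` is a closed
immersion. If `f` is of finite type or `g` is of finite presentation, then `f` is a closed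
immersion. -/
theorem result (S : Scheme.{u}) {X B B' : AlgSp.Space S}
    (f : X ⟶ B) (g : B' ⟶ B) (hg : AlgSp.RepWith @IsClosedImmersion g.hom)
    (hbij : Function.Bijective (AlgSp.Points.map g.hom))
    (X' : AlgSp.Sp S) (fst : X' ⟶ X.obj) (snd : X' ⟶ B'.obj) (hX' : IsPullback fst snd f.hom g.hom)
    (hsnd : AlgSp.RepWith @IsClosedImmersion snd)
    (hor : AlgSp.IsFiniteTypeMor f.hom ∨ AlgSp.IsFinitePresentationMor g.hom) :
    AlgSp.RepWith @IsClosedImmersion f.hom := by
  refine repWith_of_forall_affine fun T hT t => ?_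
  have hX := X.property
  have hB := B.property
  have hTa := IsAlgSpace.yon_obj (S := S) T
  obtain ⟨P, p₁, p₂, sqP⟩ : ∃ (P : Sp S) (p₁ : P ⟶ X.obj) (p₂ : P ⟶ (yon S).obj T), IsPullback p₁ p₂ f.hom t :=
    ⟨_, _, _, IsPullback.of_hasPullback f.hom t⟩
  have hP : IsAlgSpace P := isAlgSpace_pullback hB.diag hX hTa sqP
  obtain ⟨T', d, c, sqT⟩ := exists_isPullback_of_representable hg.1 t
  haveI hci : IsClosedImmersion c.left := hg.2 _ _ _ sqT
  have hcs : Surjective c.left := ⟨(surjective_map_yon_iff c).1 (surjective_map_of_isPullback sqT hbij.2)⟩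
  haveI : IsAffine T'.left := isAffine_of_isAffineHom c.left
  obtain ⟨P', w₁, w₂, sqP'⟩ : ∃ (P' : Sp S) (w₁ : P' ⟶ P) (w₂ : P' ⟶ (yon S).obj T'), IsPullback w₁ w₂ p₂ ((yon S).map c) :=
    ⟨_, _, _, IsPullback.of_hasPullback p₂ ((yon S).map c)⟩
  have sqbig : IsPullback (w₁ ≫ p₁) w₂ f.hom (d ≫ g.hom) := by
    rw [sqT.w]; exact sqP'.paste_horiz sqP
  have sqX : IsPullback (hX'.lift (w₁ ≫ p₁) (w₂ ≫ d) (by rw [sqbig.w, Category.assoc])) w₂ snd d :=
    IsPullback.of_right (by rw [hX'.lift_fst]; exact sqbig) (hX'.lift_snd _ _ _) hX'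
  have hw₂ : RepWith @IsClosedImmersion w₂ := repWith_of_isPullback sqX hsnd
  obtain ⟨W', a, b, sqW⟩ := exists_isPullback_of_representable hw₂.1 (𝟙 ((yon S).obj T'))
  haveI : IsClosedImmersion b.left := hw₂.2 _ _ _ sqW
  haveI : IsIso a := sqW.isIso_fst_of_isIso
  haveI : IsAffine W'.left := isAffine_of_isAffineHom b.left
  have hthick : IsThickMor (a ≫ w₁) := by
    have h1 : IsThickMor w₁ := repWith_of_isPullback sqP'.flip ((isThickMor_yon_map_iff c).2 ⟨hci, hcs⟩)
    exact repWith_of_isPullback (g' := a) (g := 𝟙 P) (IsPullback.of_horiz_isIso ⟨by simp⟩) h1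
  obtain ⟨Q, hQ, ⟨e⟩⟩ := exists_affine_of_thick hP hthick
  obtain ⟨q, hq⟩ := (yon S).map_surjective (e.hom ≫ p₂)
  have sqQ : IsPullback (e.hom ≫ p₁) ((yon S).map q) f.hom t := by
    rw [hq]
    exact IsPullback.of_iso sqP e.symm (Iso.refl _) (Iso.refl _) (Iso.refl _) (by simp) (by simp) (by simp) (by simp)
  refine ⟨Q, q, e.hom ≫ p₁, sqQ, ?_⟩
  obtain ⟨u, hu⟩ := (yon S).map_surjective (a ≫ w₁ ≫ e.inv)
  have sqS : IsPullback u b q c := by
    apply isPullback_of_isPullback_yon
    rw [hu, hq]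
    have hab : (yon S).map b = a ≫ w₂ := by rw [sqW.w, Category.comp_id]
    exact IsPullback.of_iso sqP' (asIso a).symm e.symm (Iso.refl _) (Iso.refl _) (by simp) (by simp [hab]) (by simp)
      (by simp)
  refine isClosedImmersion_of_thick_bc q.left c.left (isPullback_left sqS) ?_
  rcases hor with h | h
  · left
    exact (repWith_yon_map_iff (P := @LocallyOfFiniteType) q).1 (EtLocal.repWith_of_locP .lft hTa
      ((repWith_yon_map_iff (P := ⊤) q).2 trivial).1 (EtLocal.lft.locP_of_isPullback hX hB hTa sqQ h.1))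
  · right
    exact (EtLocal.repWith_of_locP .lfp hB hg.1 h.1).2 _ _ _ sqT

end Groth.Agent.S10047
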