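import Groth.Statements.S10049
import Groth.Agent.Lib.AlgSp.LimitScheme
import Groth.Agent.Lib.AlgSp.LimitEventually
import Groth.Agent.Lib.AlgSp.ClosedDescent
import Groth.Agent.Lib.AlgSp.SchematicDense
import Groth.Agent.Lib.AlgSp.Quotient
-- import your own Groth.Agent.* helpers here

set_option autoImplicit false
universe u
open CategoryTheory CategoryTheory.Limits AlgebraicGeometry
open AlgSp GrothLib.AlgSp
set_option backward.isDefEq.respectTransparency false

namespace Groth.Agent.S10049

/-- Let `X` be an algebraic space, quasi-compact and quasi-separated over the scheme `S`, which is not a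
scheme. Then there is a closed subspace `Z ⊂ X` which is not a scheme such that every proper closed
subspace `Z' ⊊ Z` is a scheme. (The published statement allows any base scheme and uses absolute
quasi-separatedness; this row assumes the base quasi-separated, over which quasi-separatedness
relative to the base is the absolute notion.) -/
theorem result (S : Scheme.{u}) [QuasiSeparatedSpace S]
    (X : AlgSp.Space S) (hXqc : AlgSp.IsQuasiCompactSp X.obj) (hXqs : AlgSp.IsQuasiSeparatedSp X.obj) (hX : ¬ X.obj.obj.IsRepresentable) :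
    ∃ (Z : AlgSp.Space S) (i : Z ⟶ X), AlgSp.RepWith @IsClosedImmersion i.hom ∧ ¬ Z.obj.obj.IsRepresentable ∧
      ∀ (Z' : AlgSp.Space S) (i' : Z' ⟶ Z), AlgSp.RepWith @IsClosedImmersion i'.hom → ¬ IsIso i' → Z'.obj.obj.IsRepresentable := by
  classical
  obtain ⟨U, a, hU, hae, has⟩ := exists_affine_atlas_of_qc hXqc
  haveI : Sheaf.IsLocallySurjective a := chart_isLocallySurjective hae has
  let ι : ∀ J : U.left.IdealSheafData, Over.mk (J.subschemeι ≫ U.hom) ⟶ U := fun J => Over.homMk J.subschemeι rfl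
  let s : Set U.left.IdealSheafData := {J | ∃ (Z : Sp S) (i : Z ⟶ X.obj)
    (p : (yon S).obj (Over.mk (J.subschemeι ≫ U.hom)) ⟶ Z), IsAlgSpace Z ∧ RepWith @IsClosedImmersion i ∧
      IsInvariantIdeal a J ∧ IsPullback p ((yon S).map (ι J)) i a ∧ ¬ Z.obj.IsRepresentable}
  -- every closed subspace which is not a scheme gives a member of `s`
  have hmem : ∀ {Z : Sp S} (i : Z ⟶ X.obj), IsAlgSpace Z → RepWith @IsClosedImmersion i →
      ¬ Z.obj.IsRepresentable → ∃ J ∈ s, ∃ p, IsPullback p ((yon S).map (ι J)) i a := by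
    intro Z i hZ hi hn
    obtain ⟨J, p, hJ, sq⟩ := exists_chart_ideal hi a
    exact ⟨J, ⟨Z, i, p, hZ, hi, hJ, sq, hn⟩, p, sq⟩
  -- factorisations between closed subspaces are inequalities of ideals
  have hle : ∀ {Z Z' : Sp S} {i : Z ⟶ X.obj} {i' : Z' ⟶ X.obj} {J J' : U.left.IdealSheafData}
      {p : (yon S).obj (Over.mk (J.subschemeι ≫ U.hom)) ⟶ Z} {p' : (yon S).obj (Over.mk (J'.subschemeι ≫ U.hom)) ⟶ Z'},
      RepWith @IsClosedImmersion i → IsPullback p ((yon S).map (ι J)) i a →
      IsPullback p' ((yon S).map (ι J')) i' a → ((∃ k, k ≫ i = i') ↔ J ≤ J') := by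
    intro Z Z' i i' J J' p p' hi sq sq'
    haveI := mono_of_closedImmersion hi
    haveI : Sheaf.IsLocallySurjective p' := by
      exact isLocallySurjective_of_isPullback sq'.flip
    rw [exists_factor_ideal_iff sq (f := i') (b := p') (g := ι J') sq'.w,
      show (ι J').left = J'.subschemeι from rfl, Scheme.IdealSheafData.ker_subschemeι]
  obtain ⟨J₀, hJ₀, -⟩ := hmem (𝟙 X.obj) X.property (repWith_iso _) hX
  -- chains are bounded
  have hchain : ∀ c ⊆ s, IsChain (· ≤ ·) c → ∀ y ∈ c, ∃ ub ∈ s, ∀ z ∈ c, z ≤ ub := by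
    intro c hcs hc y hy
    let J : U.left.IdealSheafData := sSup c
    have hJ : IsInvariantIdeal a J := by
      intro R t t' sqR
      have gc : ∀ r : R ⟶ U, GaloisConnection (fun K : U.left.IdealSheafData => K.comap r.left)
          (fun K : R.left.IdealSheafData => K.map r.left) := fun r K K' =>
        Scheme.IdealSheafData.le_map_iff_comap_le.symm
      have h₁ := (gc t).l_sSup (s := c)
      have h₂ := (gc t').l_sSup (s := c)
      refine h₁.trans (Eq.trans ?_ h₂.symm)
      refine iSup_congr fun K => iSup_congr fun hK => ?_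
      obtain ⟨Z, i, p, -, -, hK', -⟩ := hcs hK
      exact hK' t t' sqR
    obtain ⟨Z, i, p, hZ, hi, sq⟩ := exists_closed_subspace X.property hae has J hJ
    haveI := mono_of_closedImmersion hi
    refine ⟨J, ⟨Z, i, p, hZ, hi, hJ, sq, fun hrep => ?_⟩, fun z hz => le_sSup hz⟩
    -- the index category
    let I := (↥c)ᵒᵈ
    let el : I → U.left.IdealSheafData := fun k => (OrderDual.ofDual k).1
    have hel : ∀ k : I, el k ∈ s := fun k => hcs (OrderDual.ofDual k).2
    choose Zk ik pk hZk hik hJk sqk hnk using hel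
    have hex : ∀ {k l : I} (φ : k ⟶ l), ∃ m : Zk k ⟶ Zk l, m ≫ ik l = ik k := fun {k l} φ =>
      (hle (hik l) (sqk l) (sqk k)).2 (leOfHom φ)
    haveI : ∀ k, Mono (ik k) := fun k => mono_of_closedImmersion (hik k)
    let D : I ⥤ Sp S :=
      { obj := Zk
        map := fun φ => (hex φ).choose
        map_id := fun k => (cancel_mono (ik k)).1 (by rw [(hex (𝟙 k)).choose_spec, Category.id_comp])
        map_comp := fun {k l m} φ ψ => (cancel_mono (ik m)).1 (by
          rw [(hex (φ ≫ ψ)).choose_spec, Category.assoc, (hex ψ).choose_spec, (hex φ).choose_spec]) }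
    haveI : Nonempty I := ⟨OrderDual.toDual ⟨y, hy⟩⟩
    haveI : IsCofiltered I :=
      { cone_objs := fun k l => by
          rcases hc.total (OrderDual.ofDual k).2 (OrderDual.ofDual l).2 with h | h
          · exact ⟨l, homOfLE h, 𝟙 l, trivial⟩
          · exact ⟨k, 𝟙 k, homOfLE h, trivial⟩
        cone_maps := fun k l f g => ⟨k, 𝟙 k, Subsingleton.elim _ _⟩ }
    have hk : ∀ k, ∃ m : Z ⟶ Zk k, m ≫ ik k = i := fun k =>
      (hle (hik k) (sqk k) sq).2 (le_sSup (OrderDual.ofDual k).2)
    choose π hπ using hk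
    let C : Cone D :=
      { pt := Z
        π :=
          { app := π
            naturality := fun k l φ => (cancel_mono (ik l)).1 (by
              change (𝟙 Z ≫ π l) ≫ ik l = (π k ≫ (hex φ).choose) ≫ ik l
              rw [Category.id_comp, hπ l, Category.assoc, (hex φ).choose_spec, hπ k]) } }
    -- a point of `X` which lies in all members of the chain lies in their intersection
    have hfac : ∀ (T : Over S) (x : (yon S).obj T ⟶ X.obj), (∀ k, ∃ m, m ≫ ik k = x) → ∃ m, m ≫ i = x := by
      intro T x hx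
      obtain ⟨W, g, e, sqW⟩ := exists_isPullback_of_representable hae.1 x
      obtain ⟨g, rfl⟩ := (yon S).map_surjective g
      haveI : Sheaf.IsLocallySurjective ((yon S).map e) := isLocallySurjective_of_isPullback sqW
      refine (exists_factor_ideal_iff sq (f := x) (b := (yon S).map e) (g := g) sqW.w.symm).2 (sSup_le fun K hK => ?_)
      exact (exists_factor_ideal_iff (sqk (OrderDual.toDual ⟨K, hK⟩)) (f := x) (b := (yon S).map e) (g := g)
        sqW.w.symm).1 (hx _)
    have hlim : IsLimit C := by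
      have hl : ∀ t : Cone D, ∃ m : t.pt ⟶ Z, ∀ k, m ≫ π k = t.π.app k := by
        intro t
        let k₀ : I := OrderDual.toDual ⟨y, hy⟩
        let f : t.pt ⟶ X.obj := t.π.app k₀ ≫ ik k₀
        have hf : ∀ k, t.π.app k ≫ ik k = f := fun k => by
          obtain ⟨m, u, v, -⟩ := IsCofilteredOrEmpty.cone_objs k k₀
          change t.π.app k ≫ ik k = t.π.app k₀ ≫ ik k₀
          rw [← t.w u, ← t.w v, Category.assoc, Category.assoc]
          exact congrArg (_ ≫ ·) ((hex u).choose_spec.trans (hex v).choose_spec.symm)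
        have sqf := IsPullback.of_hasPullback i f
        haveI : IsIso (pullback.snd i f) := isIso_of_yon fun T b => by
          obtain ⟨m, hm⟩ := hfac T (b ≫ f) fun k => ⟨b ≫ t.π.app k, by rw [Category.assoc, hf]⟩
          exact ⟨sqf.lift m b hm, sqf.lift_snd _ _ _, fun z hz =>
            (cancel_mono (pullback.snd i f)).1 (hz.trans (sqf.lift_snd m b hm).symm)⟩
        refine ⟨inv (pullback.snd i f) ≫ pullback.fst i f, fun k => (cancel_mono (ik k)).1 ?_⟩
        rw [Category.assoc, hπ, hf, Category.assoc, pullback.condition, IsIso.inv_hom_id_assoc]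
      choose lift hlift using hl
      refine ⟨lift, hlift, fun t m hm => (cancel_mono i).1 ?_⟩
      rw [← hπ (OrderDual.toDual ⟨y, hy⟩), ← Category.assoc, ← Category.assoc]
      exact congrArg (· ≫ _) ((hm _).trans (hlift t _).symm)
    have haff : ∀ k, RepWith @IsAffineHom (ik k) := fun k =>
      repWith_mono (hik k) fun _ _ h (_ : IsClosedImmersion h) => (inferInstance : IsAffineHom h)
    have hDa : ∀ (k l : I) (φ : k ⟶ l), IsAffineMor (D.map φ) := fun k l φ => by
      refine isAffineMor_of_comp (D.map φ) (ik l)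
        (repWith_mono (hik l) fun _ _ h (_ : IsClosedImmersion h) => (inferInstance : IsSeparated h)) ?_
      have hcomp : D.map φ ≫ ik l = ik k := (hex φ).choose_spec
      rw [hcomp]
      exact isAffineMor_iff.2 (haff k)
    obtain ⟨M, ⟨r⟩⟩ := hrep.has_representation
    obtain ⟨k, hk'⟩ := exists_stage_isRepresentable (D := D) hZk hDa
      (fun k => (qc_qs_of_isAffineHom X.property (haff k) hXqc hXqs).1)
      (fun k => (qc_qs_of_isAffineHom X.property (haff k) hXqc hXqs).2) hlim (isoOfRepresentableBy r)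
    exact hnk k hk'
  obtain ⟨J, -, hJmax⟩ := zorn_le_nonempty₀ s hchain J₀ hJ₀
  obtain ⟨Z, i, p, hZ, hi, -, sq, hn⟩ := hJmax.prop
  refine ⟨⟨Z, hZ⟩, ObjectProperty.homMk i, hi, hn, fun Z' i' hi' hni => ?_⟩
  by_contra hn'
  have hi'' : RepWith @IsClosedImmersion (i'.hom ≫ i) := repWith_comp hi' hi
  haveI := mono_of_closedImmersion hi
  haveI := mono_of_closedImmersion hi'
  obtain ⟨J', hJ', p', sq'⟩ := hmem (i'.hom ≫ i) Z'.property hi'' hn'
  have hJJ' : J ≤ J' := (hle hi sq sq').1 ⟨i'.hom, rfl⟩
  obtain ⟨m, hm⟩ := (hle hi'' sq' sq).2 (hJmax.le_of_ge hJ' hJJ')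
  have h₁ : m ≫ i'.hom = 𝟙 Z := (cancel_mono i).1 (by rw [Category.assoc, hm, Category.id_comp])
  haveI : IsSplitEpi i'.hom := ⟨⟨⟨m, h₁⟩⟩⟩
  haveI : IsIso i'.hom := isIso_of_mono_of_isSplitEpi _
  haveI : IsIso ((ObjectProperty.ι _).map i') := ‹IsIso i'.hom›
  exact hni (isIso_of_reflects_iso i' (ObjectProperty.ι _))

end Groth.Agent.S10049
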