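import Groth.Statements.S1005
import Groth.Agent.Lib.OX.AffineLocal
import Groth.Agent.Lib.DCxRing.Regular

set_option autoImplicit false
universe u
open CategoryTheory CategoryTheory.Limits AlgebraicGeometry
attribute [local instance] HasDerivedCategory.standard
open Perf

namespace Groth.Agent.S1005

/-- Let X be a locally Noetherian scheme all of whose local rings are regular. Then every object of
D(O_X) with bounded, coherent cohomology is perfect. -/
theorem result (X : Scheme.{u}) [IsLocallyNoetherian X]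
    (hreg : ∀ x : X, IsRegularLocalRing (X.presheaf.stalk x))
    (K : DCoh.D X) (a b : ℤ) [K.IsGE a] [K.IsLE b] (hK : DCoh.IsCohD K) : DCoh.IsPerfect K := by
  refine GrothLib.OX.isPerfect_of_local fun x => ?_
  obtain ⟨U, hU, hx, -⟩ := exists_isAffineOpen_mem_and_subset (x := x) (U := ⊤) trivial
  refine ⟨_, hU.fromSpec, inferInstance, GrothLib.OX.mem_range_fromSpec hU hx, ?_⟩
  obtain ⟨M, ⟨e⟩⟩ := GrothLib.OX.exists_tildeD_rep (fun i => (hK i).1) hU.fromSpec
  have : IsNoetherianRing Γ(X, U) := IsLocallyNoetherian.component_noetherian ⟨U, hU⟩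
  have hR : ∀ p : PrimeSpectrum Γ(X, U), IsRegularLocalRing (Localization.AtPrime p.asIdeal) := fun p => by
    have := hreg (hU.fromSpec p)
    exact IsRegularLocalRing.of_ringEquiv
      (((asIso (hU.fromSpec.stalkMap p)).trans (AlgebraicGeometry.Spec.stalkIso Γ(X, U) p)).commRingCatIsoToRingEquiv)
  let c : ∀ i, (tilde.functor Γ(X, U)).obj ((DerivedCategory.homologyFunctor _ i).obj M) ≅
      (Scheme.Modules.restrictFunctor hU.fromSpec).obj (DCoh.HD K i) := fun i =>
    (GrothLib.OX.HDTildeIso M i).symm ≪≫ (DerivedCategory.homologyFunctor _ i).mapIso e ≪≫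
      GrothLib.OX.HDResIso _ K i
  refine GrothLib.OX.isPerfect_of_iso ((GrothLib.OX.isPerfect_tildeD_iff (A := Γ(X, U)) M).2
    (GrothLib.DR.isPerfect_of_regular hR M a b (fun i hi => ?_)
      fun i => (GrothLib.OX.isCoh_tilde_iff _).1
        (GrothLib.QCoh.isCoh_of_iso (c i).symm (GrothLib.Cohom.isCoh_restrict _ (hK i) _)))) e
  have hz : Limits.IsZero (DCoh.HD K i) := by
    rcases hi with hi | hi
    · exact DerivedCategory.isZero_of_isGE K a i hi
    · exact DerivedCategory.isZero_of_isLE K b i hi
  refine ModuleCat.isZero_iff_subsingleton.1 ((Limits.IsZero.iff_id_eq_zero _).2 ?_)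
  refine (tilde.functor _).map_injective ?_
  exact ((Functor.map_isZero _ hz).of_iso (c i)).eq_of_src _ _

end Groth.Agent.S1005
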