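import Groth.Statements.S10050
import Groth.Agent.Lib.AlgSp.UnionPushout
import Groth.Agent.Lib.AlgSp.RedInduced
import Groth.Agent.Lib.AlgSp.ThickScheme
import Groth.Agent.Lib.AlgSp.EtaleLocallyProps

set_option autoImplicit false
set_option backward.isDefEq.respectTransparency false
universe u
open CategoryTheory CategoryTheory.Limits AlgebraicGeometry
open AlgSp

namespace Groth.Agent.S10050

/-- Let `X` be an algebraic space, quasi-compact and quasi-separated over the scheme `S`, which is not a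
scheme although every proper closed subspace of `X` is one. Then `X` is reduced and irreducible.
(The published statement allows any base scheme and uses absolute quasi-separatedness; this row
assumes the base quasi-separated, over which quasi-separatedness relative to the base is the
absolute notion.) -/
theorem result (S : Scheme.{u}) [QuasiSeparatedSpace S]
    (X : AlgSp.Space S) (hXqc : AlgSp.IsQuasiCompactSp X.obj) (hXqs : AlgSp.IsQuasiSeparatedSp X.obj) (hX : ¬ X.obj.obj.IsRepresentable)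
    (hmin : ∀ (Z : AlgSp.Space S) (i : Z ⟶ X), AlgSp.RepWith @IsClosedImmersion i.hom → ¬ IsIso i → Z.obj.obj.IsRepresentable) :
    AlgSp.IsReducedSp X.obj ∧ IrreducibleSpace (AlgSp.Points X.obj) := by
  classical
  -- reducedness
  obtain ⟨Zr, ir, hZr, hir⟩ := GrothLib.AlgSp.exists_isRedInduced_sp X.property (isClosed_univ (X := AlgSp.Points X.obj))
  have hred : AlgSp.IsReducedSp X.obj := by
    by_cases hi : IsIso ir
    · obtain ⟨U, p, pe, ps, hU⟩ := hir.2.2
      exact ⟨U, p ≫ ir, GrothLib.AlgSp.repWith_comp pe (GrothLib.AlgSp.repWith_iso _),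
        GrothLib.AlgSp.repWith_comp ps (GrothLib.AlgSp.repWith_iso _), hU⟩
    · exfalso
      obtain ⟨T, ⟨e⟩⟩ := hmin ⟨Zr, hZr⟩ ⟨ir⟩ hir.1 (fun h => hi (by
        have := h
        exact inferInstanceAs (IsIso ((ObjectProperty.ι _).map (⟨ir⟩ : (⟨Zr, hZr⟩ : AlgSp.Space S) ⟶ X)))))
      have hsurj : AlgSp.RepWith @Surjective ir :=
        (GrothLib.AlgSp.repWith_surjective_iff hir.1.1).2 (Set.range_eq_univ.1 hir.2.1)
      have hth : AlgSp.IsThickMor ir := ⟨hir.1.1, fun _ _ g fst snd sq => ⟨hir.1.2 g fst snd sq, hsurj.2 g fst snd sq⟩⟩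
      let e' : (AlgSp.yon S).obj T ≅ Zr := AlgSp.isoOfRepresentableBy e
      have hth' : AlgSp.IsThickMor (e'.hom ≫ ir) := GrothLib.AlgSp.repWith_of_isPullback
        (IsPullback.of_horiz_isIso ⟨by simp⟩ : IsPullback e'.hom (e'.hom ≫ ir) ir (𝟙 X.obj)) hth
      obtain ⟨M, ⟨eM⟩⟩ := GrothLib.AlgSp.exists_scheme_of_thick X.property hth'
      exact hX (GrothLib.AlgSp.isRepresentable_of_iso eM)
  refine ⟨hred, ?_⟩
  obtain ⟨U, a, ae, as⟩ := X.property.atlas
  -- nonempty
  haveI : Nonempty (AlgSp.Points X.obj) := by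
    by_contra hne
    rw [not_nonempty_iff] at hne
    haveI : IsEmpty ↥U.left := ⟨fun u => hne.false (AlgSp.Points.ofPt a u)⟩
    haveI := GrothLib.AlgSp.chart_isLocallySurjective ae as
    haveI : Epi a := (Sheaf.isLocallySurjective_iff_epi _).1 inferInstance
    obtain ⟨R, t, s, sq⟩ := GrothLib.AlgSp.exists_isPullback_yon X.property.diag a a
    haveI : IsEmpty ↥R.left := ⟨fun r => IsEmpty.false (t.left r)⟩
    have hts : t = s := Over.OverMorphism.ext (Scheme.hom_ext_of_forall _ _ fun z => isEmptyElim z)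
    haveI : Mono a := GrothLib.AlgSp.mono_of_yon fun T x y e => by
      obtain ⟨l, h₁, h₂⟩ := sq.exists_lift x y e
      rw [← h₁, ← h₂, hts]
    haveI : IsIso a := isIso_of_mono_of_epi a
    exact hX (GrothLib.AlgSp.isRepresentable_of_iso (asIso a))
  haveI : PreirreducibleSpace (AlgSp.Points X.obj) := by
    refine ⟨isPreirreducible_iff_isClosed_union_isClosed.2 fun T₁ T₂ hT₁ hT₂ hT => ?_⟩
    by_contra hne
    push Not at hne
    obtain ⟨hne₁, hne₂⟩ := hne
    have scheme : ∀ T : Set (AlgSp.Points X.obj), IsClosed T → ¬ Set.univ ⊆ T → ∃ (M : Over S)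
        (i : (AlgSp.yon S).obj M ⟶ X.obj), AlgSp.RepWith @IsClosedImmersion i ∧
          Set.range (AlgSp.Points.map i) = T := by
      intro T hTc hne'
      obtain ⟨Z, i, hZ, hi⟩ := GrothLib.AlgSp.exists_isRedInduced_sp X.property hTc
      obtain ⟨M, ⟨e⟩⟩ := hmin ⟨Z, hZ⟩ ⟨i⟩ hi.1 (fun h => by
        have := h
        haveI : IsIso i :=
          inferInstanceAs (IsIso ((ObjectProperty.ι _).map (⟨i⟩ : (⟨Z, hZ⟩ : AlgSp.Space S) ⟶ X)))
        refine hne' (fun x _ => hi.2.1 ▸ ⟨AlgSp.Points.map (inv i) x, ?_⟩)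
        rw [← AlgSp.Points.map_comp, IsIso.inv_hom_id, AlgSp.Points.map_id])
      let e' : (AlgSp.yon S).obj M ≅ Z := AlgSp.isoOfRepresentableBy e
      refine ⟨M, e'.hom ≫ i, GrothLib.AlgSp.repWith_of_isPullback
        (IsPullback.of_horiz_isIso ⟨by simp⟩ : IsPullback e'.hom (e'.hom ≫ i) i (𝟙 X.obj)) hi.1, ?_⟩
      rw [← hi.2.1]
      refine subset_antisymm ?_ ?_
      · rintro _ ⟨z, rfl⟩
        exact ⟨AlgSp.Points.map e'.hom z, (AlgSp.Points.map_comp _ _ _).symm⟩
      · rintro _ ⟨z, rfl⟩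
        refine ⟨AlgSp.Points.map e'.inv z, ?_⟩
        rw [← AlgSp.Points.map_comp, e'.inv_hom_id_assoc]
    obtain ⟨M₁, i₁, hi₁, hr₁⟩ := scheme T₁ hT₁ hne₁
    obtain ⟨M₂, i₂, hi₂, hr₂⟩ := scheme T₂ hT₂ hne₂
    obtain ⟨P, c, d, sqP⟩ := GrothLib.AlgSp.exists_isPullback_yon X.property.diag i₁ i₂
    haveI : IsClosedImmersion c.left := hi₂.2 _ _ _ sqP.flip
    haveI : IsClosedImmersion d.left := hi₁.2 _ _ _ sqP
    have hv : AlgSp.RepWith @IsClosedImmersion ((AlgSp.yon S).map c ≫ i₁) :=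
      GrothLib.AlgSp.repWith_comp ((GrothLib.AlgSp.repWith_of_isPullback sqP.flip hi₂)) hi₁
    have hid : AlgSp.RepWith @IsClosedImmersion (𝟙 X.obj) := GrothLib.AlgSp.repWith_iso _
    have hker : ∀ (E : AlgSp.EtOver X.obj) (hE : IsAffine E.obj.left.left),
        (AlgSp.idealOfRep hid.1).ideal E hE =
          (AlgSp.idealOfRep hi₁.1).ideal E hE ⊓ (AlgSp.idealOfRep hi₂.1).ideal E hE := by
      intro E hE
      haveI : IsReduced E.obj.left.left := GrothLib.AlgSp.etaleLocally_chart
        (fun _ _ k hk => GrothLib.AlgSp.isReduced_of_etale k hk)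
        (fun _ _ k hk hs => GrothLib.AlgSp.isReduced_desc k hk hs) hred E.obj.hom E.property
      haveI : IsIso (AlgSp.EtOver.bcπ hid.1 E).left := by
        have hs : IsIso ((AlgSp.yon S).map (AlgSp.EtOver.bcπ hid.1 E)) :=
          (AlgSp.EtOver.isPullback_bcObj hid.1 E).isIso_snd_of_isIso
        haveI := hs
        haveI : IsIso (AlgSp.EtOver.bcπ hid.1 E) := isIso_of_fully_faithful (AlgSp.yon S) _
        exact inferInstanceAs (IsIso ((Over.forget S).map (AlgSp.EtOver.bcπ hid.1 E)))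
      have h0 : (AlgSp.idealOfRep hid.1).ideal E hE = ⊥ := by
        change RingHom.ker (AlgSp.EtOver.bcπ hid.1 E).left.appTop.hom = ⊥
        exact (RingHom.injective_iff_ker_eq_bot _).1 (ConcreteCategory.bijective_of_isIso _).1
      rw [h0, eq_comm, eq_bot_iff]
      rintro f ⟨hf₁, hf₂⟩
      rw [Ideal.mem_bot, ← AlgebraicGeometry.basicOpen_eq_bot_iff, eq_bot_iff]
      intro x hx
      have cover : ∀ {M : Over S} (i : (AlgSp.yon S).obj M ⟶ X.obj) (hi : AlgSp.RepWith @IsClosedImmersion i),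
          AlgSp.Points.ofPt E.obj.hom x ∈ Set.range (AlgSp.Points.map i) →
          ∃ z, (AlgSp.EtOver.bcπ hi.1 E).left z = x := by
        intro M i hi ⟨m, hm⟩
        obtain ⟨p, -, hp⟩ := GrothLib.AlgSp.exists_of_isPullback (AlgSp.EtOver.isPullback_bcObj hi.1 E) (x := m)
          (y := AlgSp.Points.ofScheme _ x) (by rw [← AlgSp.Points.ofPt_eq_map_ofScheme]; exact hm)
        obtain ⟨z, rfl⟩ := (AlgSp.Points.schemeEquiv _).surjective p
        exact ⟨z, (AlgSp.Points.schemeEquiv _).injective ((GrothLib.AlgSp.map_yon_ofPt _ _).symm.trans hp)⟩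
      have kill : ∀ {M : Over S} (i : (AlgSp.yon S).obj M ⟶ X.obj) (hi : AlgSp.RepWith @IsClosedImmersion i),
          f ∈ (AlgSp.idealOfRep hi.1).ideal E hE →
          AlgSp.Points.ofPt E.obj.hom x ∈ Set.range (AlgSp.Points.map i) → False := by
        intro M i hi hf hm
        obtain ⟨z, hz⟩ := cover i hi hm
        have h1 : z ∈ (AlgSp.EtOver.bcπ hi.1 E).left ⁻¹ᵁ (E.obj.left.left.basicOpen f) := by
          change (AlgSp.EtOver.bcπ hi.1 E).left z ∈ E.obj.left.left.basicOpen f
          rw [hz]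
          exact hx
        rw [Scheme.preimage_basicOpen] at h1
        have h2 : (AlgSp.EtOver.bcπ hi.1 E).left.app ⊤ f = 0 := hf
        rw [h2, Scheme.basicOpen_zero] at h1
        exact h1
      rcases hT (Set.mem_univ (AlgSp.Points.ofPt E.obj.hom x)) with h | h
      · exact (kill i₁ hi₁ hf₁ (hr₁ ▸ h)).elim
      · exact (kill i₂ hi₂ hf₂ (hr₂ ▸ h)).elim
    have hkerV : ∀ (E : AlgSp.EtOver X.obj) (hE : IsAffine E.obj.left.left),
        (AlgSp.idealOfRep hv.1).ideal E hE =
          (AlgSp.idealOfRep hi₁.1).ideal E hE ⊔ (AlgSp.idealOfRep hi₂.1).ideal E hE := by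
      intro E hE
      haveI := hE
      let πV := (AlgSp.EtOver.bcπ hv.1 E).left
      let R := Γ(E.obj.left.left, ⊤)
      let K : Ideal R := (AlgSp.idealOfRep hi₁.1).ideal E hE ⊔ (AlgSp.idealOfRep hi₂.1).ideal E hE
      refine le_antisymm ?_ (sup_le ?_ ?_)
      · -- the subscheme of the sum factors through `P`
        let k : Spec (CommRingCat.of (R ⧸ K)) ⟶ E.obj.left.left :=
          Spec.map (CommRingCat.ofHom (Ideal.Quotient.mk K)) ≫ E.obj.left.left.isoSpec.inv
        let C : Over S := Over.mk (k ≫ E.obj.left.hom)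
        let kC : C ⟶ E.obj.left := Over.homMk k rfl
        have lift : ∀ {M : Over S} (i : (AlgSp.yon S).obj M ⟶ X.obj) (hi : AlgSp.RepWith @IsClosedImmersion i),
            (AlgSp.idealOfRep hi.1).ideal E hE ≤ K →
            ∃ g : C ⟶ M, (AlgSp.yon S).map g ≫ i = (AlgSp.yon S).map kC ≫ E.obj.hom := by
          intro M i hi hle
          haveI : IsClosedImmersion (AlgSp.EtOver.bcπ hi.1 E).left :=
            hi.2 _ _ _ (AlgSp.EtOver.isPullback_bcObj hi.1 E)
          obtain ⟨hA, hs⟩ := IsClosedImmersion.isAffine_surjective_of_isAffine (AlgSp.EtOver.bcπ hi.1 E).left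
          haveI := hA
          let π := (AlgSp.EtOver.bcπ hi.1 E).left
          let ψ := π.appTop.hom.liftOfSurjective hs ⟨Ideal.Quotient.mk K, hle.trans Ideal.mk_ker.ge⟩
          have hψ : π.appTop ≫ CommRingCat.ofHom ψ = CommRingCat.ofHom (Ideal.Quotient.mk K) :=
            CommRingCat.hom_ext (RingHom.liftOfSurjective_comp _ hs _)
          let g₀ : Spec (CommRingCat.of (R ⧸ K)) ⟶ (AlgSp.EtOver.bcObj hi.1 E).obj.left.left :=
            Spec.map (CommRingCat.ofHom ψ) ≫ (AlgSp.EtOver.bcObj hi.1 E).obj.left.left.isoSpec.inv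
          have hg₀ : g₀ ≫ π = k := by
            simp only [g₀, k, Category.assoc]
            rw [← Scheme.isoSpec_inv_naturality, ← Category.assoc, ← Spec.map_comp, hψ]
          let g₁ : C ⟶ (AlgSp.EtOver.bcObj hi.1 E).obj.left := Over.homMk g₀ (by
            change g₀ ≫ _ = k ≫ E.obj.left.hom
            rw [← hg₀]
            refine Eq.trans ?_ (Category.assoc _ _ _).symm
            congr 1
            exact (Over.w (AlgSp.EtOver.bcπ hi.1 E)).symm)
          obtain ⟨m, hm⟩ := (AlgSp.yon S).map_surjective (AlgSp.EtOver.bcObj hi.1 E).obj.hom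
          refine ⟨g₁ ≫ m, ?_⟩
          rw [Functor.map_comp, Category.assoc, hm, (AlgSp.EtOver.isPullback_bcObj hi.1 E).w, ← Functor.map_comp_assoc]
          congr 2
          exact Over.OverMorphism.ext hg₀
        obtain ⟨g₁, hg₁⟩ := lift i₁ hi₁ le_sup_left
        obtain ⟨g₂, hg₂⟩ := lift i₂ hi₂ le_sup_right
        obtain ⟨gP, hgP, -⟩ := sqP.exists_lift _ _ (hg₁.trans hg₂.symm)
        obtain ⟨l, -, hl⟩ := (AlgSp.EtOver.isPullback_bcObj hv.1 E).exists_lift gP ((AlgSp.yon S).map kC)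
          (by rw [← Category.assoc, hgP, hg₁])
        obtain ⟨l, rfl⟩ := (AlgSp.yon S).map_surjective l
        rw [← Functor.map_comp] at hl
        have hl' : l.left ≫ πV = k := congrArg (fun z => z.left) ((AlgSp.yon S).map_injective hl)
        intro r hr
        have h1 : k.appTop r = 0 := by
          rw [← hl', Scheme.Hom.comp_appTop]
          change l.left.appTop (πV.appTop r) = 0
          rw [show πV.appTop r = 0 from hr, map_zero]
        have h2 : (CommRingCat.ofHom (Ideal.Quotient.mk K)) r = 0 := by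
          have e : k.appTop ≫ (Scheme.ΓSpecIso (CommRingCat.of (R ⧸ K))).hom =
              CommRingCat.ofHom (Ideal.Quotient.mk K) := by
            simp only [k, Scheme.Hom.comp_appTop, Category.assoc, Scheme.ΓSpecIso_naturality]
            have h3 : E.obj.left.left.isoSpec.inv.appTop =
                (Scheme.ΓSpecIso Γ(E.obj.left.left, ⊤)).inv := by
              rw [← Iso.comp_hom_eq_id, ← Scheme.toSpecΓ_appTop, ← Scheme.Hom.comp_appTop]
              change (E.obj.left.left.isoSpec.hom ≫ E.obj.left.left.isoSpec.inv).appTop = _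
              rw [Iso.hom_inv_id]
              rfl
            rw [h3]
            exact Iso.inv_hom_id_assoc (Scheme.ΓSpecIso Γ(E.obj.left.left, ⊤)) _
          rw [← e, CommRingCat.comp_apply, h1, map_zero]
        exact Ideal.Quotient.eq_zero_iff_mem.1 h2
      all_goals
        intro r hr
        change πV.appTop r = 0
      · obtain ⟨l, -, hl⟩ := (AlgSp.EtOver.isPullback_bcObj hi₁.1 E).exists_lift
          ((AlgSp.EtOver.bcObj hv.1 E).obj.hom ≫ (AlgSp.yon S).map c)
          ((AlgSp.yon S).map (AlgSp.EtOver.bcπ hv.1 E))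
          (by rw [Category.assoc]; exact (AlgSp.EtOver.isPullback_bcObj hv.1 E).w)
        obtain ⟨l, rfl⟩ := (AlgSp.yon S).map_surjective l
        rw [← Functor.map_comp] at hl
        have hl' : l.left ≫ (AlgSp.EtOver.bcπ hi₁.1 E).left = πV :=
          congrArg (fun z => z.left) ((AlgSp.yon S).map_injective hl)
        rw [← hl', Scheme.Hom.comp_appTop]
        change l.left.appTop ((AlgSp.EtOver.bcπ hi₁.1 E).left.appTop r) = 0
        rw [show (AlgSp.EtOver.bcπ hi₁.1 E).left.appTop r = 0 from hr, map_zero]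
      · obtain ⟨l, -, hl⟩ := (AlgSp.EtOver.isPullback_bcObj hi₂.1 E).exists_lift
          ((AlgSp.EtOver.bcObj hv.1 E).obj.hom ≫ (AlgSp.yon S).map d)
          ((AlgSp.yon S).map (AlgSp.EtOver.bcπ hv.1 E))
          (by rw [Category.assoc, ← sqP.w]; exact (AlgSp.EtOver.isPullback_bcObj hv.1 E).w)
        obtain ⟨l, rfl⟩ := (AlgSp.yon S).map_surjective l
        rw [← Functor.map_comp] at hl
        have hl' : l.left ≫ (AlgSp.EtOver.bcπ hi₂.1 E).left = πV :=
          congrArg (fun z => z.left) ((AlgSp.yon S).map_injective hl)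
        rw [← hl', Scheme.Hom.comp_appTop]
        change l.left.appTop ((AlgSp.EtOver.bcπ hi₂.1 E).left.appTop r) = 0
        rw [show (AlgSp.EtOver.bcπ hi₂.1 E).left.appTop r = 0 from hr, map_zero]
    -- the pushout scheme
    have hC : GrothLib.Pushout6.Covered d.left c.left :=
      GrothLib.Pushout6.covered_of_isClosedImmersion d.left c.left
    have hQ := GrothLib.Pushout6.isPushout hC
    let r := hQ.desc M₂.hom M₁.hom ((Over.w d).trans (Over.w c).symm)
    let Q : Over S := Over.mk r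
    let a₂ : M₂ ⟶ Q := Over.homMk (GrothLib.Pushout6.inl hC) (hQ.inl_desc _ _ _)
    let a₁ : M₁ ⟶ Q := Over.homMk (GrothLib.Pushout6.inr hC) (hQ.inr_desc _ _ _)
    have hw : d ≫ a₂ = c ≫ a₁ := Over.OverMorphism.ext hQ.w
    obtain ⟨W, q, qe, qs⟩ := X.property.atlas
    obtain ⟨φ, ⟨hφ₂, hφ₁⟩, -⟩ := GrothLib.AlgSp.PinchDesc.exists_desc d c a₂ a₁ hC hQ X.property q qe qs i₂ i₁
      sqP.w.symm (fun {_ _ _} i' j' _ _ _ _ hi hj _ _ _ => by
        haveI : IsClosedImmersion i'.left := MorphismProperty.of_isPullback hi inferInstance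
        haveI : IsClosedImmersion j'.left := MorphismProperty.of_isPullback hj inferInstance
        exact GrothLib.Pushout6.covered_of_isClosedImmersion i'.left j'.left)
    have univ : ∀ {T : AlgSp.Sp S}, AlgSp.IsAlgSpace T → ∀ (f₁ : (AlgSp.yon S).obj M₁ ⟶ T)
        (f₂ : (AlgSp.yon S).obj M₂ ⟶ T), (AlgSp.yon S).map c ≫ f₁ = (AlgSp.yon S).map d ≫ f₂ →
        ∃! h : X.obj ⟶ T, i₁ ≫ h = f₁ ∧ i₂ ≫ h = f₂ := fun hT' f₁ f₂ h =>
      GrothLib.AlgSp.UnionPushout.existsUnique_hom X.property X.property hT' hi₁ hi₂ hid hv hker hkerV i₁ i₂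
        ((AlgSp.yon S).map c) ((AlgSp.yon S).map d) (Category.comp_id _) (Category.comp_id _) rfl sqP.w.symm f₁ f₂ h
    obtain ⟨ψ, ⟨hψ₁, hψ₂⟩, -⟩ := univ (AlgSp.IsAlgSpace.yon_obj Q) ((AlgSp.yon S).map a₁) ((AlgSp.yon S).map a₂)
      (by rw [← Functor.map_comp, ← Functor.map_comp, hw])
    have h₁ : ψ ≫ φ = 𝟙 X.obj := (univ X.property i₁ i₂ sqP.w).unique
      ⟨by rw [← Category.assoc, hψ₁, hφ₁], by rw [← Category.assoc, hψ₂, hφ₂]⟩
      ⟨Category.comp_id _, Category.comp_id _⟩
    have h₂ : φ ≫ ψ = 𝟙 _ := GrothLib.AlgSp.PinchDesc.hom_ext_pushout d c a₂ a₁ hC hQ (AlgSp.IsAlgSpace.yon_obj Q)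
      (by rw [← Category.assoc, hφ₂, hψ₂, Category.comp_id])
      (by rw [← Category.assoc, hφ₁, hψ₁, Category.comp_id])
    exact hX (GrothLib.AlgSp.isRepresentable_of_iso ⟨φ, ψ, h₂, h₁⟩)
  exact { toNonempty := inferInstance }

end Groth.Agent.S10050
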