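import Groth.Statements.S10051
import Groth.Agent.Lib.AlgSp.LimitBaseChange
import Groth.Agent.Lib.EtDescent21.StalkLimit
import Groth.Agent.Lib.AlgSp.SchematicDense
import Groth.Agent.Lib.AlgSp.LimitDescDiag
import Groth.Agent.Lib.AlgSp.OverMapLimits
import Groth.Agent.Lib.AlgSp.NormBasic
-- import your own Groth.Agent.* helpers here

set_option autoImplicit false
universe u
open CategoryTheory CategoryTheory.Limits AlgebraicGeometry
open AlgSp GrothLib.AlgSp
set_option backward.isDefEq.respectTransparency false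

namespace Groth.Agent.S10051

/-- Over an affine base: if the local base change is a scheme, so is the restriction over a neighbourhood. -/
theorem key {S : Scheme.{u}} [IsAffine S] {F : Sp S} (hF : IsAlgSpace F) (hFqc : IsQuasiCompactSp F)
    (hFqs : IsQuasiSeparatedSp F) (toT : F ⟶ (yon S).obj (Over.mk (𝟙 S))) (s : ↥S)
    (h : ∀ (c : Over.mk (S.fromSpecStalk s) ⟶ Over.mk (𝟙 S)) (P : Sp S) (fst : P ⟶ F)
      (snd : P ⟶ (yon S).obj (Over.mk (S.fromSpecStalk s))), IsPullback fst snd toT ((yon S).map c) →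
        P.obj.IsRepresentable) :
    ∃ W : S.Opens, s ∈ W ∧ ∃ (w : Over.mk W.ι ⟶ Over.mk (𝟙 S)) (P : Sp S) (fst : P ⟶ F)
      (snd : P ⟶ (yon S).obj (Over.mk W.ι)), IsPullback fst snd toT ((yon S).map w) ∧ P.obj.IsRepresentable := by
  let T₁ : Over S := Over.mk (𝟙 S)
  let D₀ : GrothLib.EtDescent21.AffNhd s ⥤ Over S :=
    { obj := fun W => Over.mk W.1.ι
      map := fun φ => Over.homMk ((GrothLib.EtDescent21.nhdDiag s).map φ) (GrothLib.EtDescent21.nhdDiag_map_ι φ)
      map_id := fun W => Over.OverMorphism.ext ((GrothLib.EtDescent21.nhdDiag s).map_id W)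
      map_comp := fun φ ψ => Over.OverMorphism.ext ((GrothLib.EtDescent21.nhdDiag s).map_comp φ ψ) }
  let c₀ : Cone D₀ :=
    { pt := Over.mk (S.fromSpecStalk s)
      π := { app := fun W => Over.homMk ((GrothLib.EtDescent21.nhdCone s).π.app W)
               (GrothLib.EtDescent21.nhdCone_ι W)
             naturality := fun V W φ => Over.OverMorphism.ext ((GrothLib.EtDescent21.nhdCone s).π.naturality φ) } }
  haveI : IsConnected (GrothLib.EtDescent21.AffNhd s) := IsCofiltered.isConnected _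
  have hc₀ : IsLimit c₀ := isLimitOfReflects (Over.forget S) (IsLimit.ofIsoLimit
    (GrothLib.EtDescent21.isLimitNhdCone s) (Cone.ext (Iso.refl _) fun W => (Category.id_comp _).symm))
  let D := D₀ ⋙ yon S
  have hDa : ∀ (i j : GrothLib.EtDescent21.AffNhd s) (φ : i ⟶ j), IsAffineMor (D.map φ) := fun i j φ =>
    isAffineMor_iff.2 ((repWith_yon_map_iff _ _).2
      (inferInstanceAs (IsAffineHom ((GrothLib.EtDescent21.nhdDiag s).map φ))))
  let i₀ : GrothLib.EtDescent21.AffNhd s := ⟨⊤, isAffineOpen_top S, trivial⟩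
  let to₁ : ∀ W : GrothLib.EtDescent21.AffNhd s, D₀.obj W ⟶ T₁ := fun W => Over.homMk W.1.ι (Category.comp_id _)
  have sq₀ := IsPullback.of_hasPullback toT ((yon S).map (to₁ i₀))
  haveI : IsIso (to₁ i₀).left := inferInstanceAs (IsIso S.topIso.hom)
  haveI : IsIso (to₁ i₀) := by
    haveI : IsIso ((Over.forget S).map (to₁ i₀)) := inferInstanceAs (IsIso (to₁ i₀).left)
    exact isIso_of_reflects_iso _ (Over.forget S)
  haveI : IsIso (pullback.fst toT ((yon S).map (to₁ i₀))) := sq₀.isIso_fst_of_isIso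
  let e := (asIso (pullback.fst toT ((yon S).map (to₁ i₀)))).symm
  have hqc₀ := isQuasiCompactSp_of_iso hFqc e
  have hqs₀ : IsQuasiSeparatedSp (pullback toT ((yon S).map (to₁ i₀))) :=
    isQuasiSeparatedSp_of_mor (f := e.inv)
      ((isQuasiSeparatedMor_iff_repWith (Functor.relativelyRepresentable.of_isIso _ _)).2 (repWith_iso _)) hFqs
  have sqs := IsPullback.of_hasPullback (pullback.snd toT ((yon S).map (to₁ i₀))) ((yon S).map (c₀.π.app i₀))
  have big := sqs.paste_horiz sq₀
  rw [← Functor.map_comp] at big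
  obtain ⟨i, φ, P, p, p', sqP, hP⟩ := exists_stage_baseChange_isRepresentable (D := D)
    (fun W => IsAlgSpace.yon_obj (S := S) _) hDa (isLimitOfPreserves (yon S) hc₀)
    (GrothLib.AlgSp.isAlgSpace_of_iso e.symm hF) hqc₀ hqs₀ _ sqs (h _ _ _ _ big)
  have bigP := sqP.paste_horiz sq₀
  rw [show D.map φ ≫ (yon S).map (to₁ i₀) = (yon S).map (to₁ i) from by
    rw [show D.map φ = (yon S).map (D₀.map φ) from rfl, ← Functor.map_comp]
    congr 1
    exact Over.OverMorphism.ext (GrothLib.EtDescent21.nhdDiag_map_ι φ)] at bigP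
  exact ⟨i.1, i.2.2, to₁ i, P, _, _, bigP, hP⟩


/-- Let `X` be an algebraic space whose structure morphism to the scheme `S` is quasi-compact and
quasi-separated. If for every `x ∈ |X|` with image `s ∈ S` the base change `X ×_S Spec(O_{S,s})` is
a scheme, then `X` is a scheme. -/
theorem result (S : Scheme.{u}) (X : AlgSp.Space S)
    (q : X.obj ⟶ (AlgSp.yon S).obj (Over.mk (𝟙 S))) (hqc : AlgSp.IsQuasiCompactMor q) (hqs : AlgSp.IsQuasiSeparatedMor q)
    (h : ∀ x : AlgSp.Points X.obj, ∀ (P : AlgSp.Sp S) (fst : P ⟶ X.obj)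
      (snd : P ⟶ (AlgSp.yon S).obj (Over.mk (S.fromSpecStalk ((AlgSp.Points.schemeHomeo (Over.mk (𝟙 S))).symm (AlgSp.Points.map q x))))),
      IsPullback fst snd q ((AlgSp.yon S).map (Over.homMk (S.fromSpecStalk _))) → P.obj.IsRepresentable) :
    X.obj.obj.IsRepresentable := by
  obtain ⟨N, hN, hr, hmax⟩ := exists_largest_open_subscheme X.property
  let T₁ : Over S := Over.mk (𝟙 S)
  have hall : ∀ x, x ∈ N := by
    intro x
    let s : S := (Points.schemeHomeo T₁).symm (Points.map q x)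
    obtain ⟨U₀, hU₀, hs₀, -⟩ := exists_isAffineOpen_mem_and_subset (U := (⊤ : S.Opens)) (x := s) trivial
    haveI : IsAffine (U₀ : Scheme.{u}) := hU₀
    let g : (U₀ : Scheme.{u}) ⟶ S := U₀.ι
    let s' : ↥(U₀ : Scheme.{u}) := ⟨s, hs₀⟩
    let t₀ : Over.mk g ⟶ T₁ := Over.homMk g (Category.comp_id _)
    have sq₀ := IsPullback.of_hasPullback q ((yon S).map t₀)
    let π := pullback.snd q ((yon S).map t₀)
    haveI : CompactSpace ↥(Over.mk g).left := inferInstanceAs (CompactSpace ↥(U₀ : Scheme.{u}))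
    have hqc₀ := hqc (IsAlgSpace.yon_obj (S := S) (Over.mk g)) (isQuasiCompactSp_yon (Over.mk g)) _ _ _ sq₀
    have hX₀ : IsAlgSpace (pullback q ((yon S).map t₀)) :=
      isAlgSpace_pullback (IsAlgSpace.yon_obj (S := S) T₁).diag X.property (IsAlgSpace.yon_obj _) sq₀
    haveI : IsIso (fibreMap π) := isIso_fibreMap π
    let F := fibreSh π
    have sqJ : IsPullback (fibreMap π ≫ pullback.fst q ((yon S).map t₀)) (jStr g F) q ((yon S).map t₀) :=
      sq₀.of_iso (asIso (fibreMap π)).symm (Iso.refl _) (Iso.refl _) (Iso.refl _) (by simp)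
        (by rw [← fibreMap_comp π]; simp [π]) (by simp) (by simp)
    have hF : IsAlgSpace F := (isAlgSpace_jSh_iff g).1 (GrothLib.AlgSp.isAlgSpace_of_iso (asIso (fibreMap π)) hX₀)
    have hFqc : IsQuasiCompactSp F :=
      isQuasiCompactSp_of_jSh g (isQuasiCompactSp_of_iso hqc₀ (asIso (fibreMap π)).symm)
    have hFqs : IsQuasiSeparatedSp F := isQuasiSeparatedSp_of_jStr g (isQuasiSeparatedMor_of_isPullback' sqJ hqs)
    haveI : IsAffine ((Over.mk (𝟙 (U₀ : Scheme.{u}))).left) := hU₀
    let T' : Over (U₀ : Scheme.{u}) := Over.mk (𝟙 _)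
    haveI := isIso_jMk_id g T'
    let eT : (yon S).obj (Over.mk g) ≅ jSh g ((yon _).obj T') :=
      (yon S).mapIso (Over.isoMk (Iso.refl _) (by simp [T']) : Over.mk g ≅ (Over.map g).obj T') ≪≫
        @asIso _ _ _ _ (jMk g (tautLift g T') (𝟙 _)) (isIso_jMk_id g T')
    let toT : F ⟶ (yon _).obj T' :=
      ((Over.mkIdTerminal).isTerminalObj (yon (U₀ : Scheme.{u}))).from F
    have hstr : jStr g ((yon _).obj T') = eT.inv := by
      have hcomp : eT.hom ≫ jStr g _ = 𝟙 _ := by
        simp only [eT, Iso.trans_hom, Functor.mapIso_hom, asIso_hom, Category.assoc, jMk_jStr, ← Functor.map_comp]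
        rw [← (yon S).map_id]
        congr 1
      rw [← Category.comp_id eT.inv, ← hcomp, Iso.inv_hom_id_assoc]
    -- transporting base changes along `U₀ ⟶ S`
    have hbc : ∀ {Q : Over (U₀ : Scheme.{u})} (c : Q ⟶ T') {P' : Sp (U₀ : Scheme.{u})} {a : P' ⟶ F}
        {b : P' ⟶ (yon _).obj Q}, IsPullback a b toT ((yon _).map c) →
        ∃ b' : jSh g P' ⟶ (yon S).obj ((Over.map g).obj Q),
          IsPullback (jMap g a ≫ fibreMap π ≫ pullback.fst q ((yon S).map t₀)) b' q
            ((yon S).map (Over.homMk (Q.hom ≫ g) (Category.comp_id _) : (Over.map g).obj Q ⟶ T₁)) := by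
      intro Q c P' a b sq
      haveI := isIso_jMk_id g Q
      let eQ : (yon S).obj ((Over.map g).obj Q) ≅ jSh g ((yon _).obj Q) :=
        @asIso _ _ _ _ (jMk g (tautLift g Q) (𝟙 ((yon _).obj Q))) (isIso_jMk_id g Q)
      refine ⟨jMap g b ≫ eQ.inv, ?_⟩
      have sq₁ : IsPullback (jMap g a) (jMap g b ≫ eQ.inv) (jStr g F)
          ((yon S).map (tautLift g Q)) := by
        refine (isPullback_jMap_of_isPullback g sq).of_iso (Iso.refl _) (Iso.refl _) eQ.symm eT.symm
          (by simp) (by simp) ?_ ?_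
        · simp only [Iso.symm_hom, Iso.refl_hom, Category.id_comp, ← hstr]
          exact jMap_jStr g toT
        · simp only [Iso.symm_hom, ← hstr, jMap_jStr]
          rw [Iso.eq_inv_comp, asIso_hom, jMk_jStr]
      have sq₂ := sq₁.paste_horiz sqJ
      rw [← Functor.map_comp, show tautLift g Q ≫ t₀ = (Over.homMk (Q.hom ≫ g) (Category.comp_id _) : (Over.map g).obj Q ⟶ T₁) from
        Over.OverMorphism.ext rfl] at sq₂
      exact sq₂
    have hloc : ∀ (c : Over.mk ((U₀ : Scheme.{u}).fromSpecStalk s') ⟶ T') (P : Sp (U₀ : Scheme.{u}))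
        (fst : P ⟶ F) (snd : P ⟶ (yon _).obj (Over.mk ((U₀ : Scheme.{u}).fromSpecStalk s'))),
        IsPullback fst snd toT ((yon _).map c) → P.obj.IsRepresentable := by
      intro c P fst snd sq
      obtain ⟨b', sqb⟩ := hbc c sq
      haveI : IsIso (Spec.map (g.stalkMap s')) := inferInstance
      have ew : Spec.map (g.stalkMap s') ≫ S.fromSpecStalk s = (U₀ : Scheme.{u}).fromSpecStalk s' ≫ g :=
        Scheme.SpecMap_stalkMap_fromSpecStalk g
      let eS : (Over.map g).obj (Over.mk ((U₀ : Scheme.{u}).fromSpecStalk s')) ≅ Over.mk (S.fromSpecStalk s) :=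
        Over.isoMk (asIso (Spec.map (g.stalkMap s'))) ew
      refine isRepresentable_of_jSh g (h x _ _ (b' ≫ ((yon S).mapIso eS).hom)
        (sqb.of_iso (Iso.refl _) (Iso.refl _) ((yon S).mapIso eS) (Iso.refl _) ((Category.comp_id _).trans (Category.id_comp _).symm)
        (Category.id_comp _).symm ((Category.comp_id _).trans (Category.id_comp _).symm) ?_))
      simp only [Iso.refl_hom, Category.comp_id, Functor.mapIso_hom, ← Functor.map_comp]
      congr 1
      exact Over.OverMorphism.ext ew.symm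
    obtain ⟨W, hW, w, P, fst, snd, sqP, hP⟩ := key hF hFqc hFqs toT s' hloc
    obtain ⟨b', sqb⟩ := hbc w sqP
    have hop : RepWith @IsOpenImmersion ((yon S).map
        (Over.homMk (W.ι ≫ g) (Category.comp_id _) : (Over.map g).obj (Over.mk W.ι) ⟶ T₁)) :=
      (repWith_yon_map_iff _ _).2 (inferInstanceAs (IsOpenImmersion (W.ι ≫ g)))
    have hj := repWith_of_isPullback sqb.flip hop
    have ho := isOpen_range_openImmersion hj
    obtain ⟨e, -⟩ := exists_iso_of_range_eq hj (repWith_openSubι (F := X.obj) ho) range_openSubι.symm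
    obtain ⟨M, ⟨hM⟩⟩ := (isRepresentable_jSh g hP).has_representation
    refine hmax x ⟨_, ho, ?_, (hM.ofIso ((sheafToPresheaf _ _).mapIso e)).isRepresentable⟩
    obtain ⟨z, hz, -⟩ := exists_of_isPullback sqb (x := x)
      (y := Points.schemeHomeo ((Over.map g).obj (Over.mk W.ι)) (⟨s', hW⟩ : (W : Scheme.{u}))) (by
        rw [Points.map_yon_map_apply]
        exact ((Points.schemeHomeo T₁).apply_symm_apply _).symm)
    exact ⟨z, hz⟩
  obtain ⟨e, -⟩ := exists_iso_of_range_eq (repWith_openSubι (F := X.obj) hN)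
    (repWith_iso (P := @IsOpenImmersion) (𝟙 X.obj)) (by
      rw [range_openSubι, show Points.map (𝟙 X.obj) = id from funext fun y => Points.map_id y, Set.range_id]
      exact Set.eq_univ_of_forall hall)
  obtain ⟨M, ⟨hM⟩⟩ := hr.has_representation
  exact (hM.ofIso ((sheafToPresheaf _ _).mapIso e)).isRepresentable
end Groth.Agent.S10051
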