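import Groth.Statements.S10052
import Groth.Agent.Lib.AlgSp.LimitBaseChange
import Groth.Agent.Lib.AlgSp.ThickPres
-- import your own Groth.Agent.* helpers here

set_option autoImplicit false
universe u
open CategoryTheory CategoryTheory.Limits AlgebraicGeometry
open AlgSp GrothLib.AlgSp
set_option backward.isDefEq.respectTransparency false

namespace Groth.Agent.S10052

/-- Let `X` be an algebraic space over `Spec A` with quasi-compact and quasi-separated structure
morphism. If `X` is not a scheme, there is an ideal `I ⊂ A` such that `X_{A/I}` is not a scheme but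
`X_{A/I'}` is a scheme for every ideal `I'` strictly containing `I`. -/
theorem result (A : CommRingCat.{u}) (X : AlgSp.Space (Spec A))
    (q : X.obj ⟶ (AlgSp.yon (Spec A)).obj (Over.mk (𝟙 (Spec A))))
    (hqc : AlgSp.IsQuasiCompactMor q) (hqs : AlgSp.IsQuasiSeparatedMor q) (hX : ¬ X.obj.obj.IsRepresentable) :
    ∃ I : Ideal A,
      (∀ (P : AlgSp.Sp (Spec A)) (fst : P ⟶ X.obj)
        (snd : P ⟶ (AlgSp.yon (Spec A)).obj (Over.mk (Spec.map (CommRingCat.ofHom (Ideal.Quotient.mk I))))),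
        IsPullback fst snd q ((AlgSp.yon (Spec A)).map (Over.homMk (Spec.map (CommRingCat.ofHom (Ideal.Quotient.mk I))))) →
          ¬ P.obj.IsRepresentable) ∧
      ∀ I' : Ideal A, I < I' →
        ∀ (P : AlgSp.Sp (Spec A)) (fst : P ⟶ X.obj)
          (snd : P ⟶ (AlgSp.yon (Spec A)).obj (Over.mk (Spec.map (CommRingCat.ofHom (Ideal.Quotient.mk I'))))),
          IsPullback fst snd q ((AlgSp.yon (Spec A)).map (Over.homMk (Spec.map (CommRingCat.ofHom (Ideal.Quotient.mk I'))))) →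
            P.obj.IsRepresentable := by
  classical
  let T : Ideal A → Over (Spec A) := fun I => Over.mk (Spec.map (CommRingCat.ofHom (Ideal.Quotient.mk I)))
  let ι : ∀ I, T I ⟶ Over.mk (𝟙 (Spec A)) := fun I =>
    Over.homMk (Spec.map (CommRingCat.ofHom (Ideal.Quotient.mk I))) (Category.comp_id _)
  haveI hci : ∀ I, IsClosedImmersion (T I).hom := fun I =>
    IsClosedImmersion.spec_of_surjective (quotMap I) Ideal.Quotient.mk_surjective
  haveI : ∀ I, IsAffine (T I).left := fun I => inferInstanceAs (IsAffine (Spec _))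
  have hsub : ∀ {W : Over (Spec A)} {I : Ideal A} (a b : W ⟶ T I), a = b := fun {W I} a b =>
    Over.OverMorphism.ext ((cancel_mono (T I).hom).1 ((Over.w a).trans (Over.w b).symm))
  have hfac : ∀ (I : Ideal A) (W : Over (Spec A)),
      Nonempty (W ⟶ T I) ↔ I ≤ RingHom.ker (gam W.hom).hom := fun I W => by
    refine Iff.trans ?_ (exists_factor_quot_iff I (𝟙 _) (Over.homMk W.hom (Category.comp_id _) : W ⟶ Over.mk (𝟙 _)))
    constructor
    · rintro ⟨a⟩
      exact ⟨Over.homMk a.left ((congrArg (a.left ≫ ·) (Category.comp_id _)).trans (Over.w a)),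
        Over.OverMorphism.ext (Over.w a)⟩
    · rintro ⟨g, hg⟩
      exact ⟨Over.homMk g.left (congrArg (fun x => x.left) hg)⟩
  let 𝒮 : Set (Ideal A) := {I | ∀ (P : Sp (Spec A)) (fst : P ⟶ X.obj) (snd : P ⟶ (yon (Spec A)).obj (T I)),
    IsPullback fst snd q ((yon (Spec A)).map (ι I)) → ¬ P.obj.IsRepresentable}
  have hbot : (⊥ : Ideal A) ∈ 𝒮 := by
    intro P fst snd sq hP
    haveI : IsIso (CommRingCat.ofHom (Ideal.Quotient.mk (⊥ : Ideal A))) :=
      (RingEquiv.quotientBot A).symm.toCommRingCatIso.isIso_hom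
    haveI : IsIso (ι ⊥).left := inferInstanceAs (IsIso (Spec.map (CommRingCat.ofHom (Ideal.Quotient.mk (⊥ : Ideal A)))))
    haveI : IsIso ((Over.forget _).map (ι ⊥)) := ‹IsIso (ι ⊥).left›
    haveI : IsIso (ι ⊥) := isIso_of_reflects_iso _ (Over.forget _)
    haveI : IsIso fst := sq.flip.isIso_snd_of_isIso
    obtain ⟨M, ⟨r⟩⟩ := hP.has_representation
    exact hX (isRepresentable_of_iso (isoOfRepresentableBy r ≪≫ asIso fst))
  have hchain : ∀ c ⊆ 𝒮, IsChain (· ≤ ·) c → ∀ y ∈ c, ∃ ub ∈ 𝒮, ∀ z ∈ c, z ≤ ub := by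
    intro c hcs hc y hy
    refine ⟨sSup c, fun P fst snd sq hrep => ?_, fun z hz => le_sSup hz⟩
    let el : (↥c)ᵒᵈ → Ideal A := fun k => (OrderDual.ofDual k).1
    let k₀ : (↥c)ᵒᵈ := OrderDual.toDual ⟨y, hy⟩
    haveI : Nonempty (↥c)ᵒᵈ := ⟨k₀⟩
    haveI : IsCofiltered (↥c)ᵒᵈ :=
      { cone_objs := fun k l => by
          rcases hc.total (OrderDual.ofDual k).2 (OrderDual.ofDual l).2 with h | h
          · exact ⟨l, homOfLE h, 𝟙 l, trivial⟩
          · exact ⟨k, 𝟙 k, homOfLE h, trivial⟩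
        cone_maps := fun k l f g => ⟨k, 𝟙 k, Subsingleton.elim _ _⟩ }
    have hex : ∀ {J J' : Ideal A}, J ≤ J' → Nonempty (T J' ⟶ T J) := fun {J J'} h =>
      (hfac J (T J')).2 (h.trans ((hfac J' (T J')).1 ⟨𝟙 _⟩))
    let D₀ : (↥c)ᵒᵈ ⥤ Over (Spec A) :=
      { obj := fun k => T (el k)
        map := fun φ => (hex (leOfHom φ)).some
        map_id := fun _ => hsub _ _
        map_comp := fun _ _ => hsub _ _ }
    let C₀ : Cone D₀ :=
      { pt := T (sSup c)
        π :=
          { app := fun k => (hex (le_sSup (OrderDual.ofDual k).2)).some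
            naturality := fun _ _ _ => hsub _ _ } }
    have hC₀ : IsLimit C₀ :=
      { lift := fun t => ((hfac (sSup c) t.pt).2 (sSup_le fun J hJ =>
          (hfac J t.pt).1 ⟨t.π.app (OrderDual.toDual ⟨J, hJ⟩)⟩)).some
        fac := fun t k => hsub _ _
        uniq := fun t m _ => hsub _ _ }
    have hc' := isLimitOfPreserves (yon (Spec A)) hC₀
    have hD : ∀ k, IsAlgSpace ((D₀ ⋙ yon (Spec A)).obj k) := fun k => ((ofScheme _).obj (D₀.obj k)).property
    have hDa : ∀ (k l : (↥c)ᵒᵈ) (φ : k ⟶ l), IsAffineMor ((D₀ ⋙ yon (Spec A)).map φ) := fun k l φ =>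
      isAffineMor_iff.2 ((repWith_yon_map_iff _ _).2 (isAffineHom_of_isAffine _))
    let X₀ := pullback q ((yon (Spec A)).map (ι (el k₀)))
    have sq₀ := IsPullback.of_hasPullback q ((yon (Spec A)).map (ι (el k₀)))
    obtain ⟨h₀qc, h₀qs⟩ := qc_qs_of_isPullback sq₀ hqc hqs ((ofScheme _).obj (T (el k₀))).property
      (isQuasiCompactSp_yon _) (isQuasiSeparatedSp_yon_of_isAffine _)
    have h₀ : IsAlgSpace X₀ := isAlgSpace_pullback' ((ofScheme (Spec A)).obj (Over.mk (𝟙 (Spec A)))).property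
      X.property ((ofScheme (Spec A)).obj (T (el k₀))).property _ _
    have hw : (yon (Spec A)).map (C₀.π.app k₀) ≫ (yon (Spec A)).map (ι (el k₀)) = (yon (Spec A)).map (ι (sSup c)) := by
      rw [← Functor.map_comp]
      exact congrArg _ (Over.OverMorphism.ext (Over.w (C₀.π.app k₀)))
    obtain ⟨k, φ, P', p', q', sq', hP'⟩ := exists_stage_baseChange_isRepresentable hD hDa hc' (i₀ := k₀)
      h₀ h₀qc h₀qs (pullback.snd _ _) (pX := sq₀.lift fst (snd ≫ (yon (Spec A)).map (C₀.π.app k₀))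
        (by rw [Category.assoc, hw]; exact sq.w)) (qX := snd)
      (IsPullback.of_right (by rw [sq₀.lift_fst]; exact hw ▸ sq) (sq₀.lift_snd _ _ _) sq₀) hrep
    refine hcs (OrderDual.ofDual k).2 P' (p' ≫ pullback.fst _ _) q' ?_ hP'
    have e : (yon (Spec A)).map (ι (el k)) = (D₀ ⋙ yon (Spec A)).map φ ≫ (yon (Spec A)).map (ι (el k₀)) := by
      rw [Functor.comp_map, ← Functor.map_comp]
      exact congrArg _ (Over.OverMorphism.ext (Over.w (D₀.map φ)).symm)
    exact e ▸ sq'.paste_horiz sq₀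
  obtain ⟨I, -, hI⟩ := zorn_le_nonempty₀ 𝒮 hchain ⊥ hbot
  refine ⟨I, hI.prop, fun I' hlt P fst snd sq => ?_⟩
  by_contra hn
  refine hlt.not_ge (hI.le_of_ge (fun P' fst' snd' sq' hP' => hn ?_) hlt.le)
  obtain ⟨M, ⟨r⟩⟩ := hP'.has_representation
  exact isRepresentable_of_iso (isoOfRepresentableBy r ≪≫ sq'.isoIsPullback _ _ sq)

end Groth.Agent.S10052
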