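import Groth.Statements.S10053
import Groth.Agent.Lib.AlgSp.UnivClosedTest

set_option autoImplicit false
universe u
open CategoryTheory CategoryTheory.Limits AlgebraicGeometry
open AlgSp

namespace Groth.Agent.S10053

/-- Closed base changes to affine spaces over an atlas give closed base changes to polynomial charts. -/
theorem of_atlas {S : Scheme.{u}} {X Y : AlgSp.Sp S} (hX : IsAlgSpace X) (hY : IsAlgSpace Y) {f : X ⟶ Y}
    (hqc : AlgSp.IsQuasiCompactMor f) (V : Over S) (p : (AlgSp.yon S).obj V ⟶ Y) (pe : AlgSp.RepWith @Etale p)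
    (ps : AlgSp.RepWith @Surjective p)
    (h : ∀ (n : ℕ) (P : AlgSp.Sp S) (fst : P ⟶ X)
          (snd : P ⟶ (AlgSp.yon S).obj (Over.mk ((𝔸(ULift.{u} (Fin n); V.left) ↘ V.left) ≫ V.hom))),
          IsPullback fst snd f ((AlgSp.yon S).map (Over.homMk (𝔸(ULift.{u} (Fin n); V.left) ↘ V.left)) ≫ p) →
            IsClosedMap (AlgSp.Points.map snd)) : AlgSp.IsUnivClosedMor f := by
  obtain ⟨ι, R, q, hqo, hqcov⟩ : ∃ (ι : Type u) (R : ι → CommRingCat.{u}) (q : ∀ i, Spec (R i) ⟶ V.left),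
      (∀ i, IsOpenImmersion (q i)) ∧ ∀ v : ↥V.left, ∃ i w, q i w = v :=
    ⟨_, V.left.affineOpenCover.X, V.left.affineOpenCover.f, fun i => inferInstance,
      fun v => ⟨_, V.left.affineOpenCover.covers v⟩⟩
  haveI := hqo
  let j : ∀ i, Over.mk (q i ≫ V.hom) ⟶ V := fun i => Over.homMk (q i) rfl
  refine GrothLib.AlgSp.isUnivClosedMor_of_affine_charts hX hY hqc R (fun i => q i ≫ V.hom)
    (fun i => (AlgSp.yon S).map (j i) ≫ p) (fun i => ?_) (fun y => ?_) fun i σ _ P fst snd sq => ?_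
  · exact GrothLib.AlgSp.repWith_comp ((AlgSp.repWith_yon_map_iff _ _).2 (inferInstanceAs (Etale (q i)))) pe
  · obtain ⟨v, hv⟩ := GrothLib.AlgSp.surjective_ofPt_of_repWith ps y
    obtain ⟨i, w, hw⟩ := hqcov v
    refine ⟨i, w, ?_⟩
    rw [GrothLib.AlgSp.ofPt_map_comp, ← hv]
    exact congrArg _ hw
  obtain ⟨n, ⟨e⟩⟩ := Finite.exists_equiv_fin σ
  let e' : ULift.{u} (Fin n) ≃ σ := Equiv.ulift.trans e.symm
  let N := ULift.{u} (Fin n)
  haveI : IsIso (AffineSpace.reindex e' (Spec (R i))) := ⟨AffineSpace.reindex e'.symm _,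
    AffineSpace.hom_ext (by simp) (fun i => by simp), AffineSpace.hom_ext (by simp) (fun i => by simp)⟩
  haveI : IsOpenImmersion (AffineSpace.map N (q i)) := MorphismProperty.of_isPullback
    (AffineSpace.isPullback_map (n := N) (q i)).flip (inferInstanceAs (IsOpenImmersion (q i)))
  let κ := (AffineSpace.SpecIso σ (R i)).inv ≫ AffineSpace.reindex e' (Spec (R i)) ≫ AffineSpace.map N (q i)
  have hκ : κ ≫ (𝔸(N; V.left) ↘ V.left) =
      Spec.map (CommRingCat.ofHom (algebraMap (R i) (MvPolynomial σ (R i)))) ≫ q i := by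
    simp only [κ, Category.assoc, AffineSpace.map_over, AffineSpace.reindex_over_assoc,
      AffineSpace.SpecIso_inv_over_assoc]
    rw [AffineSpace.reindex_over_assoc, AffineSpace.SpecIso_inv_over_assoc]
    rfl
  let A : Over S := Over.mk ((𝔸(N; V.left) ↘ V.left) ≫ V.hom)
  let κ' : GrothLib.AlgSp.specOver (q i ≫ V.hom) (MvPolynomial σ (R i)) ⟶ A := Over.homMk κ (by
    change κ ≫ (𝔸(N; V.left) ↘ V.left) ≫ V.hom = _
    rw [reassoc_of% hκ]
    rfl)
  let pA : A ⟶ V := Over.homMk (𝔸(N; V.left) ↘ V.left) rfl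
  have hκ' : κ' ≫ pA = GrothLib.AlgSp.specHom (q i ≫ V.hom) (MvPolynomial σ (R i)) ≫ j i :=
    Over.OverMorphism.ext hκ
  have sqA := IsPullback.of_hasPullback f ((AlgSp.yon S).map pA ≫ p)
  let ρ := sqA.lift fst (snd ≫ (AlgSp.yon S).map κ') (by
    rw [sq.w, Category.assoc, ← Functor.map_comp_assoc, ← Functor.map_comp_assoc, hκ'])
  have sqρ : IsPullback ρ snd (pullback.snd f ((AlgSp.yon S).map pA ≫ p)) ((AlgSp.yon S).map κ') := by
    refine IsPullback.of_right ?_ (sqA.lift_snd _ _ _) sqA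
    rw [sqA.lift_fst, ← Functor.map_comp_assoc, hκ', Functor.map_comp, Category.assoc]
    exact sq
  have hcl := h n _ _ _ sqA
  haveI : IsOpenImmersion κ'.left := inferInstanceAs (IsOpenImmersion κ)
  have hem : Topology.IsEmbedding (Points.map ρ) := by
    refine Topology.IsOpenEmbedding.isEmbedding ?_
    haveI : Mono ρ := MorphismProperty.of_isPullback (P := MorphismProperty.monomorphisms _) sqρ.flip
      (inferInstanceAs (Mono ((AlgSp.yon S).map κ')))
    exact Topology.IsOpenEmbedding.of_continuous_injective_isOpenMap (Points.continuous_map ρ)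
      (GrothLib.AlgSp.injective_map_of_mono ρ) (GrothLib.AlgSp.isOpenMap_map_of_repWith
        (fun _ _ c hc => by have : IsOpenImmersion c := hc; exact c.isOpenEmbedding.isOpenMap)
        (GrothLib.AlgSp.repWith_of_isPullback sqρ.flip
          ((AlgSp.repWith_yon_map_iff @IsOpenImmersion _).2 ‹IsOpenImmersion κ'.left›)))
  intro E hE
  obtain ⟨E', hE', rfl⟩ := hem.isInducing.isClosed_iff.1 hE
  have : Points.map snd '' (Points.map ρ ⁻¹' E') =
      Points.map ((AlgSp.yon S).map κ') ⁻¹' (Points.map (pullback.snd f ((AlgSp.yon S).map pA ≫ p)) '' E') := by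
    ext y
    constructor
    · rintro ⟨z, hz, rfl⟩
      exact ⟨_, hz, by rw [← Points.map_comp, ← Points.map_comp, sqρ.w]⟩
    · rintro ⟨z, hz, hzy⟩
      obtain ⟨w, hw₁, hw₂⟩ := GrothLib.AlgSp.exists_of_isPullback sqρ hzy
      exact ⟨w, show Points.map ρ w ∈ E' from hw₁.symm ▸ hz, hw₂⟩
  rw [this]
  exact (hcl E' hE').preimage (Points.continuous_map _)

/-- For a quasi-compact morphism `f : X ⟶ Y` of algebraic spaces over `S` these conditions are
equivalent: (1) `f` is universally closed; (2) for every `Z ⟶ Y` locally of finite presentation,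
with `Z` an algebraic space, the map `|X ×_Y Z| → |Z|` is closed; (3) for some scheme `V` with a
surjective etale morphism `V ⟶ Y`, the maps `|X ×_Y 𝐀^n_V| → |𝐀^n_V|` are closed for all `n`. Stated
as (1) ↔ (2) and (1) ↔ (3). -/
theorem result (S : Scheme.{u}) {X Y : AlgSp.Space S} (f : X ⟶ Y)
    (hqc : AlgSp.IsQuasiCompactMor f.hom) :
    (AlgSp.IsUnivClosedMor f.hom ↔
      ∀ (Z : AlgSp.Space S) (g : Z ⟶ Y), AlgSp.LocP @LocallyOfFinitePresentation g.hom →
        ∀ (P : AlgSp.Sp S) (fst : P ⟶ X.obj) (snd : P ⟶ Z.obj), IsPullback fst snd f.hom g.hom →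
          IsClosedMap (AlgSp.Points.map snd)) ∧
    (AlgSp.IsUnivClosedMor f.hom ↔
      ∃ (V : Over S) (p : (AlgSp.yon S).obj V ⟶ Y.obj), AlgSp.RepWith @Etale p ∧ AlgSp.RepWith @Surjective p ∧
        ∀ (n : ℕ) (P : AlgSp.Sp S) (fst : P ⟶ X.obj)
          (snd : P ⟶ (AlgSp.yon S).obj (Over.mk ((𝔸(ULift.{u} (Fin n); V.left) ↘ V.left) ≫ V.hom))),
          IsPullback fst snd f.hom ((AlgSp.yon S).map (Over.homMk (𝔸(ULift.{u} (Fin n); V.left) ↘ V.left)) ≫ p) →
            IsClosedMap (AlgSp.Points.map snd)) := by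
  refine ⟨⟨fun h Z g _ P fst snd sq => h Z.property g.hom fst snd sq, fun h => ?_⟩,
    ⟨fun h => ?_, fun ⟨V, p, pe, ps, h⟩ => of_atlas X.property Y.property hqc V p pe ps h⟩⟩
  · obtain ⟨V, p, pe, ps⟩ := Y.property.atlas
    refine of_atlas X.property Y.property hqc V p pe ps fun n P fst snd sq => ?_
    let Z : AlgSp.Space S := ⟨_, IsAlgSpace.yon_obj (Over.mk ((𝔸(ULift.{u} (Fin n); V.left) ↘ V.left) ≫ V.hom))⟩
    refine h Z (ObjectProperty.homMk ((AlgSp.yon S).map (Over.homMk (𝔸(ULift.{u} (Fin n); V.left) ↘ V.left)) ≫ p))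
      (GrothLib.AlgSp.EtLocal.lfp.locP_of_repWith Y.property (GrothLib.AlgSp.repWith_comp ?_
        (GrothLib.AlgSp.repWith_mono pe fun _ _ c hc => by haveI := hc; infer_instance))) P fst snd sq
    exact (AlgSp.repWith_yon_map_iff _ _).2
      (inferInstanceAs (LocallyOfFinitePresentation (𝔸(ULift.{u} (Fin n); V.left) ↘ V.left)))
  · obtain ⟨V, p, pe, ps⟩ := Y.property.atlas
    exact ⟨V, p, pe, ps, fun n P fst snd sq => h (IsAlgSpace.yon_obj _) _ fst snd sq⟩

end Groth.Agent.S10053
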