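import Groth.Statements.S10054
import Groth.Agent.Lib.AlgSp.ValDVR
import Mathlib.RingTheory.PowerSeries.Inverse
-- import your own Groth.Agent.* helpers here

set_option autoImplicit false
universe u
open CategoryTheory CategoryTheory.Limits AlgebraicGeometry
open AlgSp

namespace Groth.Agent.S10054

/-- Let `f : X ⟶ Y` be a morphism of finite type of algebraic spaces over `S` with `Y` locally
Noetherian, and `y ∈ |Y|` a point lying in the closure of `f`'s image on points. Then one can find a
discrete valuation ring `A` with fraction field `K` and a commutative square `Spec K ⟶ X`, `Spec A ⟶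
Y` (over `f` and `Spec K ⟶ Spec A`) sending the closed point of `Spec A` to `y`. (The refinement
that the `K`-point may be taken at a codimension-0 point with `K` a residue field of an etale chart
is not included.) -/
theorem result (S : Scheme.{u}) {X Y : AlgSp.Space S} (f : X ⟶ Y)
    (hft : AlgSp.IsFiniteTypeMor f.hom) (hY : AlgSp.IsLocNoethSp Y.obj) (y : AlgSp.Points Y.obj)
    (hy : y ∈ closure (Set.range (AlgSp.Points.map f.hom))) :
    ∃ (A : Type u) (_ : CommRing A) (_ : IsDomain A) (_ : IsDiscreteValuationRing A)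
      (a : Spec (CommRingCat.of A) ⟶ S)
      (α : (AlgSp.yon S).obj (Over.mk a) ⟶ Y.obj)
      (κ : (AlgSp.yon S).obj (Over.mk (Spec.map (CommRingCat.ofHom (algebraMap A (FractionRing A))) ≫ a)) ⟶ X.obj),
      κ ≫ f.hom = (AlgSp.yon S).map (Over.homMk (Spec.map (CommRingCat.ofHom (algebraMap A (FractionRing A))))) ≫ α ∧
      AlgSp.Points.map α (AlgSp.Points.schemeEquiv (Over.mk a) (IsLocalRing.closedPoint A)) = y := by
  obtain ⟨ι, R, str, r, hR, hr, hcov⟩ := GrothLib.AlgSp.exists_noeth_charts hY
  obtain ⟨i, v₀, rfl⟩ := hcov y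
  haveI := hR i
  have sq := IsPullback.of_hasPullback f.hom (r i)
  have hP := GrothLib.AlgSp.isAlgSpace_pullback' Y.property X.property (IsAlgSpace.yon_obj _) f.hom (r i)
  haveI : CompactSpace ↥(Over.mk (str i)).left := inferInstanceAs (CompactSpace ↥(Spec (R i)))
  obtain ⟨W, a, hW, ae, as⟩ := GrothLib.AlgSp.exists_affine_surjective_chart hP
    (hft.2 (IsAlgSpace.yon_obj _) (GrothLib.AlgSp.isQuasiCompactSp_yon _) (r i) _ _ sq)
  haveI := hW
  obtain ⟨c, hc⟩ := (AlgSp.yon S).map_surjective (a ≫ pullback.snd f.hom (r i))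
  haveI : IsLocallyNoetherian (Over.mk (str i)).left := inferInstanceAs (IsLocallyNoetherian (Spec (R i)))
  haveI : LocallyOfFiniteType c.left :=
    GrothLib.AlgSp.EtLocal.locP_of_isPullback GrothLib.AlgSp.EtLocal.lft X.property Y.property
      (IsAlgSpace.yon_obj _) sq hft.1 a (𝟙 _) c ae (AlgSp.repWith_id _ _) (by rw [hc, Category.comp_id])
  haveI : IsAffine (Over.mk (str i)).left := inferInstanceAs (IsAffine (Spec (R i)))
  haveI : IsAffineHom c.left := isAffineHom_of_isAffine c.left
  have hmem : v₀ ∈ closure (Set.range c.left) := by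
    have h1 : v₀ ∈ Points.ofPt (r i) ⁻¹' closure (Set.range (Points.map f.hom)) := hy
    rw [(GrothLib.AlgSp.isOpenMap_ofPt_of_etale (hr i)).preimage_closure_eq_closure_preimage
      (Points.continuous_ofPt _)] at h1
    refine closure_mono ?_ h1
    rintro vv ⟨x, hx⟩
    obtain ⟨z, -, hz⟩ := GrothLib.AlgSp.exists_of_isPullback sq
      (x := x) (y := Points.schemeHomeo _ vv) (hx.trans (Points.ofPt_eq_map_ofScheme (r i) vv))
    obtain ⟨w, rfl⟩ := GrothLib.AlgSp.surjective_ofPt_of_repWith as z
    refine ⟨w, (Points.schemeHomeo _).injective (Eq.trans ?_ hz)⟩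
    rw [Points.map_ofPt, ← hc, Points.ofPt_eq_map_ofScheme]
    exact (Points.map_yon_map_apply c w).symm
  obtain ⟨u, hu⟩ := GrothLib.DVRDom.exists_specializes_of_mem_closure c.left v₀ hmem
  obtain ⟨A, _, _, hA, σ, p, hp, hσ⟩ : ∃ (A : Type u) (_ : CommRing A) (_ : IsDomain A) (_ : IsDiscreteValuationRing A)
      (σ : Spec (CommRingCat.of A) ⟶ (Over.mk (str i)).left) (p : Spec (CommRingCat.of (FractionRing A)) ⟶ W.left),
      p ≫ c.left = Spec.map (CommRingCat.ofHom (algebraMap A (FractionRing A))) ≫ σ ∧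
      σ (IsLocalRing.closedPoint A) = v₀ := by
    let κ := ↥(W.left.residueField u)
    rcases eq_or_ne v₀ (c.left u) with h | h
    · let g : κ →+* FractionRing (PowerSeries κ) :=
        (algebraMap (PowerSeries κ) (FractionRing (PowerSeries κ))).comp PowerSeries.C
      refine ⟨PowerSeries κ, inferInstance, inferInstance, inferInstance,
        Spec.map (CommRingCat.ofHom PowerSeries.C) ≫ W.left.fromSpecResidueField u ≫ c.left,
        Spec.map (CommRingCat.ofHom g) ≫ W.left.fromSpecResidueField u, ?_, ?_⟩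
      · rw [← Spec.map_comp_assoc, Category.assoc]
        rfl
      · rw [Scheme.Hom.comp_apply, Scheme.Hom.comp_apply, Scheme.fromSpecResidueField_apply, h]
    · obtain ⟨V, σ, hV, hσ, hgen⟩ := GrothLib.DVRDom.exists_dvr_over c.left u v₀ hu h
      let e := FractionRing.algEquiv V κ
      refine ⟨V, inferInstance, inferInstance, hV, σ,
        Spec.map (CommRingCat.ofHom e.symm.toRingEquiv.toRingHom) ≫ W.left.fromSpecResidueField u, ?_, hσ⟩
      rw [Category.assoc, ← hgen, ← Spec.map_comp_assoc]
      congr 2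
      exact CommRingCat.hom_ext (RingHom.ext fun x => e.symm.commutes x)
  let s : Over.mk (σ ≫ str i) ⟶ Over.mk (str i) := Over.homMk σ rfl
  let p' : Over.mk (Spec.map (CommRingCat.ofHom (algebraMap A (FractionRing A))) ≫ σ ≫ str i) ⟶ W :=
    Over.homMk p (by
      change p ≫ W.hom = _ ≫ σ ≫ str i
      rw [← reassoc_of% hp]
      exact congrArg (fun z => p ≫ z) (Over.w c).symm)
  refine ⟨A, inferInstance, inferInstance, hA, σ ≫ str i, (AlgSp.yon S).map s ≫ r i,
    (AlgSp.yon S).map p' ≫ a ≫ pullback.fst f.hom (r i), ?_, ?_⟩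
  · rw [Category.assoc, Category.assoc, sq.w, reassoc_of% hc.symm, ← Functor.map_comp_assoc,
      ← Functor.map_comp_assoc]
    congr 2
    exact Over.OverMorphism.ext hp
  · rw [Points.map_comp, show Points.schemeEquiv (Over.mk (σ ≫ str i)) (IsLocalRing.closedPoint A) =
      Points.schemeHomeo (Over.mk (σ ≫ str i)) (IsLocalRing.closedPoint A) from rfl, Points.map_yon_map_apply,
      Points.ofPt_eq_map_ofScheme]
    rw [show s.left (IsLocalRing.closedPoint A) = v₀ from hσ]
    rfl

end Groth.Agent.S10054
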