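import Groth.Statements.S10055
import Groth.Agent.Lib.AlgSp.Limit
-- import your own Groth.Agent.* helpers here

set_option autoImplicit false
universe u
open CategoryTheory CategoryTheory.Limits AlgebraicGeometry
open AlgSp GrothLib.AlgSp
set_option backward.isDefEq.respectTransparency false

namespace Groth.Agent.S10055

/-- Let `(X_i) ⟶ (Y_i)` be a morphism of cofiltered systems of algebraic spaces over `S`, both with
affine transition morphisms, with every `X_i ⟶ Y_i` a closed immersion. Then the induced morphism of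
limits (in fppf sheaves) `lim X_i ⟶ lim Y_i` is a closed immersion. -/
theorem result (S : Scheme.{u}) {I : Type u} [SmallCategory I] [IsCofiltered I]
    (DX DY : I ⥤ AlgSp.Sp S) (hDX : ∀ i, AlgSp.IsAlgSpace (DX.obj i)) (hDY : ∀ i, AlgSp.IsAlgSpace (DY.obj i))
    (hXa : ∀ (i j : I) (φ : i ⟶ j), AlgSp.IsAffineMor (DX.map φ)) (hYa : ∀ (i j : I) (φ : i ⟶ j), AlgSp.IsAffineMor (DY.map φ))
    (τ : DX ⟶ DY) (hτ : ∀ i, AlgSp.RepWith @IsClosedImmersion (τ.app i))
    (cX : Cone DX) (hcX : IsLimit cX) (cY : Cone DY) (hcY : IsLimit cY)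
    (g : cX.pt ⟶ cY.pt) (hg : ∀ i, g ≫ cY.π.app i = cX.π.app i ≫ τ.app i) :
    AlgSp.RepWith @IsClosedImmersion g := by
  refine repWith_of_forall_affine fun Z hZ z => ?_
  choose W f w sq using fun i => exists_isPullback_of_representable (hτ i).1 (z ≫ cY.π.app i)
  haveI hw : ∀ i, IsClosedImmersion (w i).left := fun i => (hτ i).2 _ _ _ (sq i)
  have aff : ∀ i, IsAffine (W i).left := fun i => isAffine_of_isAffineHom (w i).left
  have hm : ∀ {i j : I} (φ : i ⟶ j), ∃ n : W i ⟶ W j,
      (yon S).map n ≫ f j = f i ≫ DX.map φ ∧ n ≫ w j = w i := by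
    intro i j φ
    obtain ⟨n, hn⟩ := (yon S).map_surjective ((sq j).lift (f i ≫ DX.map φ) ((yon S).map (w i))
      (by rw [Category.assoc, τ.naturality, reassoc_of% (sq i).w, cY.w]))
    refine ⟨n, by rw [hn, (sq j).lift_fst], (yon S).map_injective ?_⟩
    rw [Functor.map_comp, hn, (sq j).lift_snd]
  choose n hn₁ hn₂ using @hm
  have hext : ∀ {T : Over S} (j : I) (a b : T ⟶ W j),
      (yon S).map a ≫ f j = (yon S).map b ≫ f j → a ≫ w j = b ≫ w j → a = b :=
    fun j a b h₁ h₂ => (yon S).map_injective ((sq j).hom_ext h₁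
      (by rw [← Functor.map_comp, ← Functor.map_comp, h₂]))
  let E : I ⥤ Over S :=
    { obj := W
      map := fun φ => n φ
      map_id := fun j => hext j _ _ (by rw [hn₁]; simp) (by rw [hn₂, Category.id_comp])
      map_comp := fun {j j' j''} m m' => hext j'' _ _
        (by rw [hn₁, (yon S).map_comp, Category.assoc, hn₁, reassoc_of% (hn₁ m), DX.map_comp])
        (by rw [hn₂, Category.assoc, hn₂, hn₂]) }
  obtain ⟨cW, ⟨hcW⟩, hWa⟩ := exists_isLimit_of_isAffine E aff
  obtain ⟨i₀⟩ := (IsCofiltered.nonempty : Nonempty I)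
  have hstep : ∀ {i j : I} (φ : i ⟶ j), cW.π.app i ≫ w i = cW.π.app j ≫ w j := fun {i j} φ => by
    rw [← hn₂ φ, ← cW.w φ, Category.assoc]
  have hsnd : ∀ i, cW.π.app i ≫ w i = cW.π.app i₀ ≫ w i₀ := fun i =>
    (hstep (IsCofiltered.minToLeft i i₀)).symm.trans (hstep (IsCofiltered.minToRight i i₀))
  let cF : Cone DX :=
    { pt := (yon S).obj cW.pt
      π := { app := fun j => (yon S).map (cW.π.app j) ≫ f j
             naturality := fun j j' m => by
               dsimp
               rw [Category.id_comp, Category.assoc, ← hn₁ m, ← Functor.map_comp_assoc]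
               exact congrArg (fun t => (yon S).map t ≫ f j') (cW.w m).symm } }
  have hfst : ∀ j, hcX.lift cF ≫ cX.π.app j = (yon S).map (cW.π.app j) ≫ f j := fun j => hcX.fac cF j
  have hw' : hcX.lift cF ≫ g = (yon S).map (cW.π.app i₀ ≫ w i₀) ≫ z := hcY.hom_ext fun i => by
    rw [Category.assoc, hg, reassoc_of% (hfst i), (sq i).w, ← Functor.map_comp_assoc, hsnd i, Category.assoc]
  let cZ : IsLimit ((yon S).mapCone cW) := isLimitOfPreserves (yon S) hcW
  refine ⟨cW.pt, cW.π.app i₀ ≫ w i₀, hcX.lift cF, ⟨⟨hw'⟩, ⟨PullbackCone.IsLimit.mk _ (fun s => cZ.lift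
    { pt := s.pt
      π := { app := fun j => (sq j).lift (s.fst ≫ cX.π.app j) s.snd
               (by rw [Category.assoc, ← hg, reassoc_of% s.condition])
             naturality := fun j j' m => by
               dsimp
               rw [Category.id_comp]
               apply (sq j').hom_ext
               · refine ((sq j').lift_fst _ _ _).trans (Eq.symm ?_)
                 rw [Category.assoc, hn₁ m, IsPullback.lift_fst_assoc, Category.assoc, cX.w]
               · refine ((sq j').lift_snd _ _ _).trans (Eq.symm ?_)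
                 rw [Category.assoc, ← Functor.map_comp, hn₂ m, (sq j).lift_snd] } }) ?_ ?_ ?_⟩⟩, ?_⟩
  · intro s
    refine hcX.hom_ext fun j => ?_
    rw [Category.assoc]
    erw [hfst j, cZ.fac_assoc]
    exact (sq j).lift_fst _ _ _
  · intro s
    rw [Functor.map_comp]
    erw [cZ.fac_assoc]
    exact (sq i₀).lift_snd _ _ _
  · intro s m h₁ h₂
    refine cZ.hom_ext fun j => ?_
    erw [cZ.fac]
    apply (sq j).hom_ext
    · rw [(sq j).lift_fst, Category.assoc]
      erw [← hfst j]
      rw [← h₁, Category.assoc]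
    · rw [(sq j).lift_snd, Category.assoc, ← h₂]
      exact congrArg (m ≫ ·) (((yon S).map_comp _ _).symm.trans (congrArg (yon S).map (hsnd j)))
  · haveI := hWa
    haveI := hZ
    refine IsClosedImmersion.of_surjective_of_isAffine _ fun s => ?_
    obtain ⟨i, t, rfl⟩ := exists_appTop_π_eq hcW aff s
    haveI := aff i
    obtain ⟨r, rfl⟩ := (IsClosedImmersion.isAffine_surjective_of_isAffine (f := (w i).left)).2 t
    exact ⟨r, by rw [← hsnd i, Over.comp_left, Scheme.Hom.comp_appTop]; rfl⟩

end Groth.Agent.S10055
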