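import Groth.Statements.S10056
import Groth.Agent.Lib.AlgSp.Limit
import Groth.Agent.Lib.AlgSp.PointsUniv
import Groth.Agent.Lib.AlgSp.SigmaChart
import Groth.Agent.Lib.AlgSp.EtaleLocallyProps
-- import your own Groth.Agent.* helpers here

set_option autoImplicit false
universe u
open CategoryTheory CategoryTheory.Limits AlgebraicGeometry
open AlgSp GrothLib.AlgSp
set_option backward.isDefEq.respectTransparency false

namespace Groth.Agent.S10056

/-- Let `X` be the limit, in fppf sheaves over `S`, of a cofiltered system `(X_i)` of algebraic spaces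
over `S` whose transition maps are affine. If each `X_i` is reduced, then `X` is reduced. (The
published statement does not restate that the transition morphisms are affine; the limit it refers
to is formed under that assumption, which this row states.) -/
theorem result (S : Scheme.{u}) {I : Type u} [SmallCategory I] [IsCofiltered I]
    (D : I ⥤ AlgSp.Sp S) (hD : ∀ i, AlgSp.IsAlgSpace (D.obj i))
    (hDa : ∀ (i j : I) (φ : i ⟶ j), AlgSp.IsAffineMor (D.map φ))
    (c : Cone D) (hc : IsLimit c)
    (hred : ∀ i, AlgSp.IsReducedSp (D.obj i)) : AlgSp.IsReducedSp c.pt := by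
  haveI := IsCofiltered.isConnected I
  obtain ⟨i⟩ := (IsCofiltered.nonempty : Nonempty I)
  obtain ⟨ι, V, r, hV, hr, hcov, -⟩ := exists_affine_charts (hD i)
  have key : ∀ k, ∃ (W : Over S) (q : (yon S).obj W ⟶ c.pt), IsReduced W.left ∧ RepWith @Etale q ∧
      ∀ x v, Points.map (c.π.app i) x = Points.ofPt (r k) v → x ∈ Set.range (Points.ofPt q) := by
    intro k
    obtain ⟨E, cW, f, w, fst, snd, ⟨hcW⟩, hWa, hE, -, -, sq⟩ := exists_affine_chart_limit hDa hc i (hV k) (r k)
    haveI := hWa
    refine ⟨cW.pt, fst, isReduced_of_isLimit hcW (fun j => (hE j).1) fun j => ?_,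
      repWith_of_isPullback sq.flip (hr k), fun x v hx => ?_⟩
    · exact etaleLocally_chart (Q := fun T => IsReduced T) (fun _ _ => isReduced_of_etale) (fun _ _ => isReduced_desc) (hred j.left) (f j)
        (repWith_of_isPullback (hE j).2.flip (hr k))
    · obtain ⟨p, hp, -⟩ := exists_ofPt_of_map_eq sq hx
      exact ⟨p, hp⟩
  choose W q hW hq hcovq using key
  obtain ⟨Q, hQ, -⟩ := exists_hom_of_sigma W q
  have hX := isAlgSpace_limit hDa hD hc
  have hQe := repWith_sigma hX.diag W q Q hQ @Etale hq
  refine ⟨sigmaOver W, Q, hQe, repWith_surjective_of_ofPt hQe.1 fun x => ?_, ?_⟩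
  · obtain ⟨k, v, hv⟩ := hcov (Points.map (c.π.app i) x)
    obtain ⟨p, hp⟩ := hcovq k x v hv.symm
    exact ⟨(sigmaι W k).left p, by rw [← ofPt_map_comp, hQ, hp]⟩
  · haveI := hW
    haveI : ∀ k, IsReduced ((sigmaOpenCover fun k => (W k).left).X k) := hW
    exact IsReduced.of_openCover _ (sigmaOpenCover fun k => (W k).left)

end Groth.Agent.S10056
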