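import Groth.Statements.S1006
import Groth.Agent.Lib.OX.AffineLocal
import Groth.Agent.Lib.OX.PCohQCoh
import Groth.Agent.Lib.OX.PerfectCriterion

set_option autoImplicit false
universe u
open CategoryTheory CategoryTheory.Limits AlgebraicGeometry
attribute [local instance] HasDerivedCategory.standard
open Perf

namespace Groth.Agent.S1006

/-- On a Noetherian scheme X every perfect object of D(O_X) has coherent cohomology sheaves and is
bounded. -/
theorem result (X : Scheme.{u}) [IsNoetherian X] (E : DCoh.D X) (hE : DCoh.IsPerfect E) :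
    DCoh.IsCohD E ∧ ∃ a b : ℤ, E.IsGE a ∧ E.IsLE b := by
  have hq : DCoh.IsQCohD E := fun i =>
    GrothLib.OX.isQCoh_HD_of_pseudoCoherent (GrothLib.OX.isPseudoCoherentD_of_isPerfect hE (i - 1)) (by omega)
  have hcov : ∀ x : X, ∃ U : X.affineOpens, x ∈ U.1 := fun x => by
    obtain ⟨U, hU, hx, -⟩ := exists_isAffineOpen_mem_and_subset (x := x) (U := ⊤) trivial
    exact ⟨⟨U, hU⟩, hx⟩
  have hloc : ∀ x : X, ∃ (U : Scheme.{u}) (j : U ⟶ X) (_ : IsOpenImmersion j) (a b : ℤ), x ∈ Set.range j ∧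
      ((GrothLib.OX.resD j).obj E).IsGE a ∧ ((GrothLib.OX.resD j).obj E).IsLE b := fun x => by
    obtain ⟨U, j, hj, hx, F, ⟨⟨a, b, hab⟩, -⟩, ⟨e⟩⟩ := GrothLib.OX.isPerfect_iff.1 hE x
    refine ⟨U, j, hj, a, b, hx, ?_, ?_⟩
    · have : F.IsStrictlyGE a := (CochainComplex.isStrictlyGE_iff _ _).2 fun i hi => hab i (Or.inl hi)
      exact (DerivedCategory.TStructure.t).isGE_of_iso e a
    · have : F.IsStrictlyLE b := (CochainComplex.isStrictlyLE_iff _ _).2 fun i hi => hab i (Or.inr hi)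
      exact (DerivedCategory.TStructure.t).isLE_of_iso e b
  choose U j hj a b hx ha hb using hloc
  obtain ⟨s, hs⟩ := isCompact_univ.elim_finite_subcover (fun x : X => Set.range (j x))
    (fun x => (j x).isOpenEmbedding.isOpen_range) (fun x _ => Set.mem_iUnion.2 ⟨x, hx x⟩)
  classical
  obtain ⟨B, hB⟩ := (s.image b).bddAbove
  obtain ⟨A', hA⟩ := (s.image a).bddBelow
  refine ⟨fun i => GrothLib.OX.isCoh_of_affines fun V hV =>
    ((GrothLib.OX.isPseudoCoherentD_fromSpec_iff hq hV i).1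
      (GrothLib.OX.isPseudoCoherentD_resD (GrothLib.OX.isPseudoCoherentD_of_isPerfect hE i) _)).2 i le_rfl,
    A', B, ?_, ?_⟩
  · rw [DerivedCategory.isGE_iff]
    refine fun i hi => GrothLib.OX.isZero_of_local fun x => ?_
    obtain ⟨y, hy, hxy⟩ := Set.mem_iUnion₂.1 (hs (Set.mem_univ x))
    have := ha y
    have : a y ≥ A' := hA (Finset.mem_coe.2 (Finset.mem_image_of_mem a hy))
    exact ⟨_, j y, inferInstance, hxy, (DerivedCategory.isZero_of_isGE _ (a y) i (by omega)).of_iso
      (GrothLib.OX.HDResIso (j y) E i).symm⟩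
  · refine GrothLib.OX.isLE_of_affines fun x => ?_
    obtain ⟨y, hy, hxy⟩ := Set.mem_iUnion₂.1 (hs (Set.mem_univ x))
    have := hb y
    exact ⟨_, j y, inferInstance, hxy, (DerivedCategory.TStructure.t).isLE_of_le _ (b y) B
      (hB (Finset.mem_coe.2 (Finset.mem_image_of_mem b hy)))⟩

end Groth.Agent.S1006
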