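import Groth.Statements.S10062
import Groth.Agent.Lib.AlgSp.LimitDescClosed
import Groth.Agent.Lib.LimDesc.EventualClosed
-- import your own Groth.Agent.* helpers here

set_option autoImplicit false
universe u
open CategoryTheory CategoryTheory.Limits AlgebraicGeometry
open AlgSp GrothLib GrothLib.AlgSp
set_option backward.isDefEq.respectTransparency false

namespace Groth.Agent.S10062

/-- Let `S` be a quasi-separated scheme, `Y` an algebraic space over `S` which is quasi-compact and
quasi-separated over `S`, and `X` the limit, in fppf sheaves, of a cofiltered system `(X_i)` of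
algebraic spaces over `Y`, each quasi-compact and quasi-separated over `S`, whose transition maps
are closed immersions. Suppose every `X_i ⟶ Y` is locally of finite type and the limit map `X ⟶ Y`
is a closed immersion. In that case some index `i₀` has the property that, for every `i` mapping to
`i₀`, the map `X_i ⟶ Y` is itself a closed immersion. (The published statement allows any base
scheme and uses absolute quasi-separatedness; this row assumes the base quasi-separated, over which
quasi-separatedness relative to the base is the absolute notion.) -/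
theorem result (S : Scheme.{u}) [QuasiSeparatedSpace S] {I : Type u} [SmallCategory I] [IsCofiltered I]
    (Y : AlgSp.Space S) (D : I ⥤ AlgSp.Sp S) (hD : ∀ i, AlgSp.IsAlgSpace (D.obj i))
    (t : D ⟶ (Functor.const I).obj Y.obj)
    (hDc : ∀ (i j : I) (φ : i ⟶ j), AlgSp.RepWith @IsClosedImmersion (D.map φ))
    (c : Cone D) (hc : IsLimit c) (g : c.pt ⟶ Y.obj) (hg : ∀ i, c.π.app i ≫ t.app i = g)
    (hqc : ∀ i, AlgSp.IsQuasiCompactSp (D.obj i)) (hqs : ∀ i, AlgSp.IsQuasiSeparatedSp (D.obj i))
    (hYqc : AlgSp.IsQuasiCompactSp Y.obj) (hYqs : AlgSp.IsQuasiSeparatedSp Y.obj)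
    (hft : ∀ i, AlgSp.LocP @LocallyOfFiniteType (t.app i)) (hX : AlgSp.RepWith @IsClosedImmersion g) :
    ∃ i₀ : I, ∀ (i : I) (_ : i ⟶ i₀), AlgSp.RepWith @IsClosedImmersion (t.app i) := by
  haveI := IsCofiltered.isConnected I
  obtain ⟨i₁⟩ := (IsCofiltered.nonempty : Nonempty I)
  have haff : ∀ {F G : Sp S} (f : F ⟶ G), RepWith @IsClosedImmersion f → IsAffineMor f := fun f h =>
    isAffineMor_iff.2 (repWith_mono h fun _ _ k (_ : IsClosedImmersion k) => (inferInstance : IsAffineHom k))
  haveI : Mono g := mono_of_closedImmersion hX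
  have hmonoD : ∀ {i j : I} (φ : i ⟶ j), Mono (D.map φ) := fun φ => mono_of_closedImmersion (hDc _ _ φ)
  have htn : ∀ {i j : I} (φ : i ⟶ j), D.map φ ≫ t.app j = t.app i := fun φ => by
    rw [t.naturality]; simp
  -- the structure maps are eventually monomorphisms
  obtain ⟨i₂, hmono⟩ : ∃ i₂ : I, ∀ (k : I) (_ : k ⟶ i₂), Mono (t.app k) := by
    let Q : I ⥤ Sp S :=
      { obj := fun j => pullback (t.app j) (t.app j)
        map := fun {j k} φ => pullback.map (t.app j) (t.app j) (t.app k) (t.app k) (D.map φ) (D.map φ) (𝟙 _)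
          (by rw [Category.comp_id, htn]) (by rw [Category.comp_id, htn])
        map_id := fun j => by apply pullback.hom_ext <;> simp
        map_comp := fun u v => by apply pullback.hom_ext <;> simp }
    have hQ : ∀ j, IsAlgSpace (Q.obj j) := fun j => isAlgSpace_pullback' Y.property (hD j) (hD j) _ _
    have hQa : ∀ (j k : I) (φ : j ⟶ k), IsAffineMor (Q.map φ) := fun j k φ => haff _ (by
      have sq₁ : IsPullback (pullback.fst (t.app j) (t.app j))
          (pullback.map (t.app j) (t.app j) (t.app k) (t.app j) (D.map φ) (𝟙 _) (𝟙 _) (by rw [Category.comp_id, htn])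
            (by simp)) (D.map φ) (pullback.fst (t.app k) (t.app j)) :=
        IsPullback.of_bot (v₂₁ := pullback.snd (t.app k) (t.app j)) (v₂₂ := t.app k)
          (by simp only [pullback.map, pullback.lift_snd, Category.comp_id]; rw [htn]; exact IsPullback.of_hasPullback _ _)
          (by simp) (IsPullback.of_hasPullback (t.app k) (t.app j))
      have sq₂ : IsPullback (pullback.snd (t.app k) (t.app j))
          (pullback.map (t.app k) (t.app j) (t.app k) (t.app k) (𝟙 _) (D.map φ) (𝟙 _) (by simp)
            (by rw [Category.comp_id, htn])) (D.map φ) (pullback.snd (t.app k) (t.app k)) :=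
        IsPullback.of_bot (v₂₁ := pullback.fst _ _) (v₂₂ := t.app k)
          (by simp only [pullback.map, pullback.lift_fst, Category.comp_id]; rw [htn]
              exact (IsPullback.of_hasPullback _ _).flip)
          (by simp) (IsPullback.of_hasPullback (t.app k) (t.app k)).flip
      have e : Q.map φ = pullback.map (t.app j) (t.app j) (t.app k) (t.app j) (D.map φ) (𝟙 _) (𝟙 _)
          (by rw [Category.comp_id, htn]) (by simp) ≫
          pullback.map (t.app k) (t.app j) (t.app k) (t.app k) (𝟙 _) (D.map φ) (𝟙 _) (by simp)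
            (by rw [Category.comp_id, htn]) := by
        apply pullback.hom_ext <;> simp [Q]
      rw [e]
      exact repWith_comp (repWith_of_isPullback sq₁ (hDc _ _ φ)) (repWith_of_isPullback sq₂ (hDc _ _ φ)))
    let cQ : Cone Q :=
      { pt := c.pt
        π := { app := fun j => c.π.app j ≫ pullback.diagonal (t.app j)
               naturality := fun j k φ => by
                 apply pullback.hom_ext <;> simp [Q, c.w φ] } }
    let ca : ∀ s : Cone Q, Cone D := fun s =>
      { pt := s.pt
        π := { app := fun j => s.π.app j ≫ pullback.fst (t.app j) (t.app j)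
               naturality := fun j k φ => by
                 dsimp
                 rw [Category.id_comp, ← s.w φ]
                 simp [Q] } }
    let cb : ∀ s : Cone Q, Cone D := fun s =>
      { pt := s.pt
        π := { app := fun j => s.π.app j ≫ pullback.snd (t.app j) (t.app j)
               naturality := fun j k φ => by
                 dsimp
                 rw [Category.id_comp, ← s.w φ]
                 simp [Q] } }
    have hab : ∀ s : Cone Q, hc.lift (ca s) = hc.lift (cb s) := fun s => (cancel_mono g).1 (by
      rw [← hg i₁, hc.fac_assoc, hc.fac_assoc]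
      simp [ca, cb, pullback.condition])
    have hQl : IsLimit cQ :=
      { lift := fun s => hc.lift (ca s)
        fac := fun s j => by
          apply pullback.hom_ext
          · simp [cQ, ca]
          · rw [hab s]; simp [cQ, cb]
        uniq := fun s m hm => hc.hom_ext fun j => by
          rw [hc.fac]
          show m ≫ c.π.app j = s.π.app j ≫ pullback.fst (t.app j) (t.app j)
          rw [← hm j]
          simp [cQ] }
    have sqX : IsPullback (c.π.app i₁) (𝟙 c.pt) (pullback.diagonal (t.app i₁)) (cQ.π.app i₁) := by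
      refine isPullback_of_yon (by simp [cQ]) fun T a b hab' => ⟨b, ⟨?_, Category.comp_id _⟩, fun x hx => ?_⟩
      · have := congrArg (· ≫ pullback.fst (t.app i₁) (t.app i₁)) hab'
        simpa [cQ] using this.symm
      · exact (Category.comp_id x).symm.trans hx.2
    obtain ⟨hPqc, hPqs⟩ := qc_qs_fibreProduct (hD i₁) Y.property (t.app i₁) (hqc i₁) (hqs i₁) hYqs
    haveI : IsIso (𝟙 c.pt) := IsIso.id _
    obtain ⟨i, φ, hi⟩ := descend_isIso hQ hQa hQl (hD i₁) (hQ i₁) (pullback.diagonal (t.app i₁)) (𝟙 (Q.obj i₁))
      (hqc i₁) (hqs i₁) hPqs IsPullback.of_id_snd sqX hPqc (locP_lfp_diagonal (hD i₁) Y.property (hft i₁))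
    refine ⟨i, fun k ψ => ?_⟩
    haveI := hmonoD (ψ ≫ φ)
    have sqk : IsPullback (D.map (ψ ≫ φ)) (pullback.diagonal (t.app k)) (pullback.diagonal (t.app i₁))
        (Q.map (ψ ≫ φ)) := by
      refine isPullback_of_yon (by apply pullback.hom_ext <;> simp [Q]) fun T a b hab' => ?_
      have h1 : a = b ≫ pullback.fst _ _ ≫ D.map (ψ ≫ φ) := by
        simpa [Q] using congrArg (· ≫ pullback.fst (t.app i₁) (t.app i₁)) hab'
      have h2 : a = b ≫ pullback.snd _ _ ≫ D.map (ψ ≫ φ) := by
        simpa [Q] using congrArg (· ≫ pullback.snd (t.app i₁) (t.app i₁)) hab'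
      have h3 : b ≫ pullback.fst _ _ = b ≫ pullback.snd _ _ := (cancel_mono (D.map (ψ ≫ φ))).1
        (by rw [Category.assoc, Category.assoc, ← h1, ← h2])
      refine ⟨b ≫ pullback.fst _ _, ⟨by rw [Category.assoc]; exact h1.symm, ?_⟩, fun x hx => ?_⟩
      · apply pullback.hom_ext
        · simp
        · rw [Category.assoc, Category.assoc, pullback.diagonal_snd, Category.comp_id, h3]
      · rw [← hx.2]; simp
    obtain ⟨Xi, Yi, fi, pYi, qYi, pXi, rX, rY, hYi, hXi, sq⟩ := exists_isPullback_stage
      (D := Q) φ ψ (fk := pullback.diagonal (t.app k)) (qYk := 𝟙 (Q.obj k)) (b₀ := 𝟙 (Q.obj i₁))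
      (IsPullback.of_id_snd (f := Q.map (ψ ≫ φ))) sqk
    haveI := hi Xi Yi fi pYi qYi hYi pXi hXi
    haveI : IsIso (pullback.diagonal (t.app k)) :=
      MorphismProperty.of_isPullback (P := MorphismProperty.isomorphisms _) sq ‹IsIso fi›
    exact (pullback.isIso_diagonal_iff _).1 inferInstance
  -- the schemes over an affine atlas of the base
  obtain ⟨V, q, hV, qe, qs⟩ := exists_affine_atlas_of_qc hYqc
  haveI := hV
  have hrep : ∀ k : CategoryTheory.Over i₂, Representable (t.app k.left) := fun k => by
    haveI := hmono k.left k.hom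
    exact representable_of_lft_mono (hD _) Y.property (hft _)
  choose T u w sq using fun k : CategoryTheory.Over i₂ => exists_isPullback_of_representable (hrep k) q
  have hm : ∀ {j j' : CategoryTheory.Over i₂} (m : j ⟶ j'), ∃ n : T j ⟶ T j',
      (yon S).map n ≫ u j' = u j ≫ D.map m.left ∧ n ≫ w j' = w j := by
    intro j j' m
    obtain ⟨n, hn⟩ := (yon S).map_surjective ((sq j').lift (u j ≫ D.map m.left) ((yon S).map (w j))
      (by rw [Category.assoc, htn, (sq j).w]))
    refine ⟨n, by rw [hn, (sq j').lift_fst], (yon S).map_injective ?_⟩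
    rw [Functor.map_comp, hn, (sq j').lift_snd]
  choose n hn₁ hn₂ using @hm
  have hext : ∀ {A : Over S} (j : CategoryTheory.Over i₂) (a b : A ⟶ T j),
      (yon S).map a ≫ u j = (yon S).map b ≫ u j → a ≫ w j = b ≫ w j → a = b :=
    fun j a b h₁ h₂ => (yon S).map_injective ((sq j).hom_ext h₁
      (by rw [← Functor.map_comp, ← Functor.map_comp, h₂]))
  let G : CategoryTheory.Over i₂ ⥤ Over S :=
    { obj := T
      map := fun m => n m
      map_id := fun j => hext j _ _ (by rw [hn₁]; simp) (by rw [hn₂, Category.id_comp])
      map_comp := fun {j j' j''} m m' => hext j'' _ _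
        (by rw [hn₁, Functor.map_comp, Category.assoc, hn₁, reassoc_of% (hn₁ m)]; simp)
        (by rw [hn₂, Category.assoc, hn₂, hn₂]) }
  obtain ⟨TT, uT, wT, sqT⟩ := exists_isPullback_of_representable hX.1 q
  have hp : ∀ j : CategoryTheory.Over i₂, ∃ p : TT ⟶ T j,
      (yon S).map p ≫ u j = uT ≫ c.π.app j.left ∧ p ≫ w j = wT := by
    intro j
    obtain ⟨p, hp⟩ := (yon S).map_surjective ((sq j).lift (uT ≫ c.π.app j.left) ((yon S).map wT)
      (by rw [Category.assoc, hg, sqT.w]))
    refine ⟨p, by rw [hp, (sq j).lift_fst], (yon S).map_injective ?_⟩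
    rw [Functor.map_comp, hp, (sq j).lift_snd]
  choose p hp₁ hp₂ using hp
  let cG : Cone G :=
    { pt := TT
      π := { app := p
             naturality := fun j j' m => hext j' _ _
               (by dsimp [G]; simp only [Functor.map_comp, Category.assoc, hn₁, CategoryTheory.Functor.map_id, Category.id_comp, hp₁, reassoc_of% (hp₁ j), Category.assoc, c.w])
               (by rw [Category.assoc, Category.assoc, hn₂]; simp [hp₂]) } }
  let F := CategoryTheory.Over.forget i₂
  let hcF : IsLimit (c.whisker F) := (Functor.Initial.isLimitWhiskerEquiv F c).symm hc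
  have hcG : IsLimit cG := by
    have key : ∀ s : Cone G, ∃ m : s.pt ⟶ TT, ∀ j, m ≫ p j = s.π.app j := by
      intro s
      let j₀ : CategoryTheory.Over i₂ := CategoryTheory.Over.mk (𝟙 i₂)
      let cs : Cone (F ⋙ D) :=
        { pt := (yon S).obj s.pt
          π := { app := fun j => (yon S).map (s.π.app j) ≫ u j
                 naturality := fun j j' m => by
                   dsimp [F]
                   rw [Category.id_comp, Category.assoc, ← hn₁ m, ← Functor.map_comp_assoc]
                   exact congrArg (fun x => (yon S).map x ≫ u j') (s.w m).symm } }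
      have hs : ∀ j, s.π.app j ≫ w j = s.π.app j₀ ≫ w j₀ := fun j => by
        rw [← s.w (CategoryTheory.Over.homMk j.hom : j ⟶ j₀), Category.assoc]
        exact congrArg (s.π.app j ≫ ·) (hn₂ _).symm
      have hl : ∀ j, hcF.lift cs ≫ c.π.app j.left = (yon S).map (s.π.app j) ≫ u j := fun j => hcF.fac cs j
      obtain ⟨m, hm'⟩ := (yon S).map_surjective (sqT.lift (hcF.lift cs) ((yon S).map (s.π.app j₀ ≫ w j₀))
        (by rw [← hg j₀.left, reassoc_of% (hl j₀), (sq j₀).w, Functor.map_comp, Category.assoc]))
      refine ⟨m, fun j => hext j _ _ ?_ ?_⟩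
      · rw [Functor.map_comp, Category.assoc, hp₁, hm', sqT.lift_fst_assoc, hl]
      · rw [Category.assoc, hp₂, hs]
        apply (yon S).map_injective
        rw [Functor.map_comp, hm', sqT.lift_snd]
    choose m hm' using key
    exact
      { lift := m
        fac := hm'
        uniq := fun s m₁ h₁ => (yon S).map_injective (sqT.hom_ext
          (hcF.hom_ext fun j => by
            show ((yon S).map m₁ ≫ uT) ≫ c.π.app j.left = ((yon S).map (m s) ≫ uT) ≫ c.π.app j.left
            rw [Category.assoc, Category.assoc, ← hp₁, ← Functor.map_comp_assoc, ← Functor.map_comp_assoc]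
            exact congrArg (fun x => (yon S).map x ≫ u j) ((h₁ j).trans (hm' s j).symm))
          (by
            rw [← Functor.map_comp, ← Functor.map_comp, ← hp₂ (CategoryTheory.Over.mk (𝟙 i₂))]
            exact congrArg (yon S).map (by rw [← Category.assoc, ← Category.assoc]
                                           exact congrArg (· ≫ w _) ((h₁ _).trans (hm' s _).symm)))) }
  haveI : CategoryTheory.IsConnected (CategoryTheory.Over i₂) := IsCofiltered.isConnected _
  let G' : CategoryTheory.Over i₂ ⥤ Scheme.{u} := G ⋙ Over.forget S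
  let tt : G' ⟶ (Functor.const (CategoryTheory.Over i₂)).obj V.left :=
    { app := fun j => (w j).left
      naturality := fun j j' m => (congrArg (fun x : T j ⟶ V => x.left) (hn₂ m)).trans (Category.comp_id _).symm }
  haveI hwq : ∀ j, LocallyOfFiniteType (w j).left := fun j =>
    (EtLocal.repWith_of_locP EtLocal.lft Y.property (hrep j) (hft _)).2 _ _ _ (sq j)
  haveI : ∀ j, Mono (w j).left := fun j => by
    haveI := hmono j.left j.hom
    exact (repWith_monomorphisms_of_mono (hrep j)).2 _ _ _ (sq j)
  haveI : ∀ j, QuasiCompact (w j).left := fun j => (repWith_quasiCompact_of_isQuasiCompactMor (hrep j)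
    (isQuasiCompactMor_of_qc_qs Y.property (hqc _) hYqs _)).2 _ _ _ (sq j)
  haveI : ∀ j, CompactSpace ↥(G'.obj j) := fun j => QuasiCompact.compactSpace_of_compactSpace (w j).left
  haveI : ∀ j, QuasiSeparatedSpace ↥(G'.obj j) := fun j => quasiSeparatedSpace_of_quasiSeparated (w j).left
  haveI : ∀ j, LocallyOfFiniteType (tt.app j : G'.obj j ⟶ V.left) := hwq
  haveI : ∀ j j' (m : j ⟶ j'), IsClosedImmersion (G'.map m) := fun j j' m => by
    refine (hDc j.left j'.left m.left).2 (u j') (u j) (n m) (IsPullback.of_bot ?_ (hn₁ m).symm (sq j'))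
    rw [← Functor.map_comp, hn₂, htn]
    exact sq j
  let j₀ : CategoryTheory.Over i₂ := CategoryTheory.Over.mk (𝟙 i₂)
  haveI : IsClosedImmersion (((Over.forget S).mapCone cG).π.app j₀ ≫ tt.app j₀) := by
    show IsClosedImmersion ((p j₀).left ≫ (w j₀).left)
    rw [← Over.comp_left, hp₂]
    exact hX.2 _ _ _ sqT
  obtain ⟨k, hk⟩ := LimDesc.eventually_isClosedImmersion G' (isLimitOfPreserves (Over.forget S) hcG) tt j₀
  refine ⟨k.left, fun i φ => ?_⟩
  let k' : CategoryTheory.Over i₂ := CategoryTheory.Over.mk (φ ≫ k.hom)
  haveI : IsClosedImmersion (w k').left := hk k' (CategoryTheory.Over.homMk φ)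
  haveI : Sheaf.IsLocallySurjective q := chart_isLocallySurjective qe qs
  exact repWith_of_base_isAffineHom q (sq k') (fun _ _ f (_ : IsClosedImmersion f) => inferInstance)
    fppfDescends_isClosedImmersion ((repWith_yon_map_iff _ _).2 inferInstance)

end Groth.Agent.S10062
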