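import Groth.Agent.Lib.AlgSp.Rep
import Groth.Statements.S10290
-- import your own Groth.Agent.* helpers here

set_option autoImplicit false
universe u
open CategoryTheory CategoryTheory.Limits AlgebraicGeometry
open AlgSp

namespace Groth.Agent.S10290

/-- A separated morphism of algebraic spaces satisfies the uniqueness part of the valuative criterion. -/
theorem result {S : Scheme.{u}} {X Y : AlgSp.Space S} (f : X ⟶ Y)
    (hf : AlgSp.IsSeparatedMor f.hom) : AlgSp.UniqVC f.hom := by
  intro v l l' hl₁ hl₂ hl₁' hl₂'
  let ξ : (yon S).obj v.ptA ⟶ pullback f.hom f.hom := pullback.lift l l' (hl₂.trans hl₂'.symm)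
  obtain ⟨W, fst, snd, sq⟩ := GrothLib.AlgSp.exists_isPullback_of_representable hf.1 ξ
  have hci : IsClosedImmersion snd.left := hf.2 _ _ _ sq
  have hj : v.top ≫ pullback.diagonal f.hom = (yon S).map v.j ≫ ξ := by
    apply pullback.hom_ext
    · rw [Category.assoc, Category.assoc, pullback.diagonal_fst, Category.comp_id, pullback.lift_fst, hl₁]
    · rw [Category.assoc, Category.assoc, pullback.diagonal_snd, Category.comp_id, pullback.lift_snd, hl₁']
  obtain ⟨z, hz⟩ := (yon S).map_surjective (sq.lift v.top ((yon S).map v.j) hj)
  have hzj : z ≫ snd = v.j := (yon S).map_injective (by rw [Functor.map_comp, hz, sq.lift_snd])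
  have : IsDominant snd.left := by
    have : IsDominant (z.left ≫ snd.left) := by
      rw [← Over.comp_left, hzj]
      change IsDominant (Spec.map (CommRingCat.ofHom (algebraMap v.A v.K)))
      refine ⟨(PrimeSpectrum.denseRange_comap_iff_ker_le_nilRadical _).2 ?_⟩
      intro x hx
      rw [show x = 0 from IsFractionRing.injective v.A v.K (by simpa using hx)]
      exact Ideal.zero_mem _
    exact IsDominant.of_comp z.left snd.left
  have : Surjective snd.left := surjective_of_isDominant_of_isClosed_range snd.left hci.base_closed.isClosed_range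
  have : IsReduced v.ptA.left := inferInstanceAs (IsReduced (Spec (CommRingCat.of v.A)))
  have : IsIso snd.left := isIso_of_isClosedImmersion_of_surjective snd.left
  have : IsIso ((Over.forget S).map snd) := ‹IsIso snd.left›
  have : IsIso snd := isIso_of_reflects_iso snd (Over.forget S)
  have e : inv ((yon S).map snd) ≫ fst ≫ pullback.diagonal f.hom = ξ := by
    rw [IsIso.inv_comp_eq]; exact sq.w
  have e₁ := e =≫ pullback.fst _ _
  have e₂ := e =≫ pullback.snd _ _
  rw [Category.assoc, Category.assoc, pullback.diagonal_fst, Category.comp_id, pullback.lift_fst] at e₁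
  rw [Category.assoc, Category.assoc, pullback.diagonal_snd, Category.comp_id, pullback.lift_snd] at e₂
  exact e₁.symm.trans e₂

end Groth.Agent.S10290
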