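import Groth.Statements.S10065
import Groth.Agent.S10064
import Groth.Agent.S10285
import Groth.Agent.S10289
import Groth.Agent.Lib.AlgSp.ValDVR
-- import your own Groth.Agent.* helpers here

set_option autoImplicit false
universe u
open CategoryTheory CategoryTheory.Limits AlgebraicGeometry
open AlgSp

namespace Groth.Agent.S10065

/-- Let `f : X ⟶ Y` be quasi-separated and of finite type with `Y` locally Noetherian. Then `f` is
proper if and only if every valuative test square for `f` whose valuation ring is a discrete
valuation ring admits exactly one dotted arrow (a lift `Spec A ⟶ X`, with no extension of `A`). (The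
published statement also lists as equivalent conditions the valuative criterion and the same
unique-lift condition over arbitrary valuation rings, and a refinement to squares hitting a
codimension-0 point; this row states only the discrete valuation ring form.) -/
theorem result (S : Scheme.{u}) {X Y : AlgSp.Space S} (f : X ⟶ Y)
    (hqs : AlgSp.IsQuasiSeparatedMor f.hom) (hft : AlgSp.IsFiniteTypeMor f.hom) (hY : AlgSp.IsLocNoethSp Y.obj) :
    AlgSp.IsProperMor f.hom ↔ ∀ sq : AlgSp.ValSq f.hom, IsDiscreteValuationRing sq.A → sq.HasLift ∧ sq.HasUniq := by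
  constructor
  · rintro ⟨hs, -, hc⟩ sq hA
    exact ⟨(Groth.Agent.S10285.result f hs).1 (Groth.Agent.S10289.result f hqs hc) sq,
      (Groth.Agent.S10064.result S f hqs hft.1 hY).1 hs sq hA⟩
  · intro h
    have hs : AlgSp.IsSeparatedMor f.hom :=
      (Groth.Agent.S10064.result S f hqs hft.1 hY).2 fun sq hA => (h sq hA).2
    refine ⟨hs, hft, GrothLib.AlgSp.isUnivClosedMor_of_dvr X.property Y.property hY hft.1 hft.2 fun sq hA => ?_⟩
    obtain ⟨l, hl₁, hl₂⟩ := (h sq hA).1
    let e : sq.DomExt :=
      { A' := sq.A, K' := sq.K, φ := RingHom.id _, ψ := RingHom.id _, comm := rfl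
        isLocalHom := ⟨fun a ha => ha⟩ }
    let i : e.ptA' ⟶ sq.ptA := Over.homMk (Spec.map (CommRingCat.ofHom e.φ)) rfl
    refine ⟨e, (AlgSp.yon S).map i ≫ l, ?_, ?_⟩
    · rw [← hl₁, ← Functor.map_comp_assoc, ← Functor.map_comp_assoc]
      congr 2
      apply Over.OverMorphism.ext
      change Spec.map _ ≫ Spec.map _ = Spec.map _ ≫ Spec.map _
      rw [← Spec.map_comp, ← Spec.map_comp]
      rfl
    · rw [Category.assoc, hl₂]

end Groth.Agent.S10065
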