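import Groth.Agent.Lib.AlgSp.RelLim
import Groth.Statements.S10067
-- import your own Groth.Agent.* helpers here

set_option autoImplicit false
universe u
open CategoryTheory CategoryTheory.Limits AlgebraicGeometry
open AlgSp

namespace Groth.Agent.S10067

/-- A transformation `a : F ⟶ G` of presheaves of sets on schemes over `S` is relatively limit
preserving if and only if, for every directed limit `T = lim T_i` of affine schemes over `S` (with
`T` affine), the square formed by `colim F(T_i) → F(T)`, `colim G(T_i) → G(T)` and the two maps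
induced by `a` is cartesian in sets. -/
theorem result (S : Scheme.{u}) {F G : AlgSp.PSp S} (a : F ⟶ G) :
    AlgSp.IsRelLimitPreserving a ↔
      ∀ ⦃I : Type u⦄ [SmallCategory I] [IsCofiltered I] (D : I ⥤ Over S) (c : Cone D),
        IsLimit ((Over.forget S).mapCone c) → (∀ i, IsAffine (D.obj i).left) → IsAffine c.pt.left →
          IsPullback (colimMap (Functor.whiskerLeft D.op a)) (colimit.desc (D.op ⋙ F) (F.mapCocone c.op))
            (colimit.desc (D.op ⋙ G) (G.mapCocone c.op)) (a.app (Opposite.op c.pt)) := by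
  constructor
  · intro ha I _ _ D c hc hD hT
    obtain ⟨hs, hi⟩ := GrothLib.AlgSp.relLim_of_isRelLimitPreserving ha D c hc hD hT
    have hmap : ∀ (j : Iᵒᵖ) (x : F.obj (Opposite.op (D.obj j.unop))),
        colimMap (Functor.whiskerLeft D.op a) (colimit.ι (D.op ⋙ F) j x) =
          colimit.ι (D.op ⋙ G) j (a.app _ x) := fun j x => colimit.ι_map_apply (Functor.whiskerLeft D.op a) j x
    have hdF : ∀ (j : Iᵒᵖ) (x : F.obj (Opposite.op (D.obj j.unop))),
        colimit.desc (D.op ⋙ F) (F.mapCocone c.op) (colimit.ι (D.op ⋙ F) j x) =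
          F.map (GrothLib.AlgSp.leg c j.unop).op x := fun j x => colimit.ι_desc_apply (F.mapCocone c.op) j x
    have hdG : ∀ (j : Iᵒᵖ) (x : G.obj (Opposite.op (D.obj j.unop))),
        colimit.desc (D.op ⋙ G) (G.mapCocone c.op) (colimit.ι (D.op ⋙ G) j x) =
          G.map (GrothLib.AlgSp.leg c j.unop).op x := fun j x => colimit.ι_desc_apply (G.mapCocone c.op) j x
    refine (Types.isPullback_iff _ _ _ _).2 ⟨?_, ?_, ?_⟩
    · apply colimit.hom_ext
      intro j
      ext x
      simp only [TypeCat.Fun.toFun_apply, types_comp_apply, ConcreteCategory.comp_apply]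
      rw [hmap, hdG, hdF]
      exact (NatTrans.naturality_apply a _ x).symm
    · rintro p p' ⟨h₁, h₂⟩
      obtain ⟨i, x, rfl⟩ := Types.jointly_surjective' p
      obtain ⟨i', x', rfl⟩ := Types.jointly_surjective' p'
      let k := IsFiltered.max i i'
      rw [← colimit.w_apply (D.op ⋙ F) (IsFiltered.leftToMax i i') x,
        ← colimit.w_apply (D.op ⋙ F) (IsFiltered.rightToMax i i') x'] at h₁ h₂ ⊢
      rw [hmap, hmap] at h₁
      obtain ⟨l, φ, hφ⟩ := (Types.FilteredColimit.isColimit_eq_iff' (colimit.isColimit (D.op ⋙ G)) _ _).1 h₁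
      rw [← colimit.w_apply (D.op ⋙ F) φ, ← colimit.w_apply (D.op ⋙ F) φ ((D.op ⋙ F).map _ x')] at h₂ ⊢
      rw [hdF, hdF] at h₂
      obtain ⟨m, ψ, hψ⟩ := hi l.unop _ _ ((NatTrans.naturality_apply a _ _).trans
        (hφ.trans (NatTrans.naturality_apply a _ _).symm)) h₂
      exact (Types.FilteredColimit.isColimit_eq_iff' (colimit.isColimit (D.op ⋙ F)) _ _).2 ⟨Opposite.op m, ψ.op, hψ⟩
    · intro u x hux
      obtain ⟨i, g, rfl⟩ := Types.jointly_surjective' u
      rw [hdG] at hux
      obtain ⟨j, f, xj, hxj, hjx⟩ := hs i.unop x g hux.symm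
      refine ⟨colimit.ι (D.op ⋙ F) (Opposite.op j) xj, ?_, (hdF _ xj).trans hjx⟩
      rw [hmap, ← colimit.w_apply (D.op ⋙ G) (f.op : i ⟶ Opposite.op j) g]
      exact congrArg _ hxj
  · intro h
    refine GrothLib.AlgSp.isRelLimitPreserving_of_relLim fun I _ _ D c hc hD hT => ?_
    obtain ⟨-, hinj, hsurj⟩ := (Types.isPullback_iff _ _ _ _).1 (h D c hc hD hT)
    have hmap : ∀ (j : Iᵒᵖ) (x : F.obj (Opposite.op (D.obj j.unop))),
        colimMap (Functor.whiskerLeft D.op a) (colimit.ι (D.op ⋙ F) j x) =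
          colimit.ι (D.op ⋙ G) j (a.app _ x) := fun j x => colimit.ι_map_apply (Functor.whiskerLeft D.op a) j x
    have hdF : ∀ (j : Iᵒᵖ) (x : F.obj (Opposite.op (D.obj j.unop))),
        colimit.desc (D.op ⋙ F) (F.mapCocone c.op) (colimit.ι (D.op ⋙ F) j x) =
          F.map (GrothLib.AlgSp.leg c j.unop).op x := fun j x => colimit.ι_desc_apply (F.mapCocone c.op) j x
    have hdG : ∀ (j : Iᵒᵖ) (x : G.obj (Opposite.op (D.obj j.unop))),
        colimit.desc (D.op ⋙ G) (G.mapCocone c.op) (colimit.ι (D.op ⋙ G) j x) =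
          G.map (GrothLib.AlgSp.leg c j.unop).op x := fun j x => colimit.ι_desc_apply (G.mapCocone c.op) j x
    refine ⟨fun i x g hx => ?_, fun i x x' hxx hpt => ?_⟩
    · obtain ⟨p, hp₁, hp₂⟩ := hsurj (colimit.ι (D.op ⋙ G) (Opposite.op i) g) x (by
        rw [hdG]
        exact hx.symm)
      obtain ⟨j, xj, rfl⟩ := Types.jointly_surjective' p
      rw [hmap] at hp₁
      rw [hdF] at hp₂
      obtain ⟨k, φ, ψ, hk⟩ := (Types.FilteredColimit.colimit_eq_iff (D.op ⋙ G)).1 hp₁
      refine ⟨k.unop, ψ.unop, F.map (D.map φ.unop).op xj, ?_, ?_⟩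
      · rw [NatTrans.naturality_apply]
        exact hk
      · rw [← Functor.map_comp_apply, ← op_comp, GrothLib.AlgSp.leg_w]
        exact hp₂
    · have e := hinj (colimit.ι (D.op ⋙ F) (Opposite.op i) x) (colimit.ι (D.op ⋙ F) (Opposite.op i) x')
        ⟨by rw [hmap, hmap]; exact congrArg _ hxx, by rw [hdF, hdF]; exact hpt⟩
      obtain ⟨k, φ, hk⟩ := (Types.FilteredColimit.isColimit_eq_iff' (colimit.isColimit (D.op ⋙ F)) _ _).1 e
      exact ⟨k.unop, φ.unop, hk⟩

end Groth.Agent.S10067
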