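import Groth.Statements.S10069
import Groth.Agent.Lib.AlgSp.ValDVRCriteria
import Groth.Agent.S10290
-- import your own Groth.Agent.* helpers here

set_option autoImplicit false
universe u
open CategoryTheory CategoryTheory.Limits AlgebraicGeometry
open AlgSp

namespace Groth.Agent.S10069

/-- Let `h : U ⟶ X`, `f : X ⟶ Y` be morphisms of algebraic spaces over `S` with `Y` locally Noetherian,
`f` separated and of finite type, `h` of finite type and `|h|` with dense image. If every valuative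
test square for `h ≫ f` over a discrete valuation ring admits a dotted arrow `Spec A ⟶ X`
(compatible with `Spec K ⟶ U ⟶ X` and with `Spec A ⟶ Y`), then `f` is proper. -/
theorem result (S : Scheme.{u}) {U X Y : AlgSp.Space S} (h : U ⟶ X) (f : X ⟶ Y) (hY : AlgSp.IsLocNoethSp Y.obj)
    (hfs : AlgSp.IsSeparatedMor f.hom) (hft : AlgSp.IsFiniteTypeMor f.hom) (hh : AlgSp.IsFiniteTypeMor h.hom) (hdense : Dense (Set.range (AlgSp.Points.map h.hom)))
    (hval : ∀ sq : AlgSp.ValSq (h.hom ≫ f.hom), IsDiscreteValuationRing sq.A →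
      ∃ l : (AlgSp.yon S).obj sq.ptA ⟶ X.obj, (AlgSp.yon S).map sq.j ≫ l = sq.top ≫ h.hom ∧ l ≫ f.hom = sq.bot) :
    AlgSp.IsProperMor f.hom := by
  refine ⟨hfs, hft, GrothLib.AlgSp.isUnivClosedMor_of_refined_dvr U.property X.property Y.property hY hft.1 hft.2
    (GrothLib.AlgSp.isQuasiSeparatedMor_of_isSeparatedMor hfs) hh.1 hh.2 hdense (Groth.Agent.S10290.result f hfs) ?_⟩
  rintro v hA ⟨t, ht⟩
  let w : AlgSp.ValSq (h.hom ≫ f.hom) :=
    { A := v.A, K := v.K, str := v.str, top := t, bot := v.bot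
      comm := by rw [← Category.assoc, ht]; exact v.comm }
  obtain ⟨l, hl₁, hl₂⟩ := hval w hA
  let e : v.DomExt :=
    { A' := v.A, K' := v.K, φ := RingHom.id _, ψ := RingHom.id _, comm := rfl
      isLocalHom := ⟨fun a ha => ha⟩ }
  let i : e.ptA' ⟶ v.ptA := Over.homMk (Spec.map (CommRingCat.ofHom e.φ)) rfl
  refine ⟨e, (AlgSp.yon S).map i ≫ l, ?_, ?_⟩
  · rw [← ht, ← hl₁, ← Functor.map_comp_assoc, ← Functor.map_comp_assoc]
    congr 2
    apply Over.OverMorphism.ext
    change Spec.map _ ≫ Spec.map _ = Spec.map _ ≫ Spec.map _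
    rw [← Spec.map_comp, ← Spec.map_comp]
    rfl
  · rw [Category.assoc, hl₂]

end Groth.Agent.S10069
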