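import Groth.Statements.S10072
import Groth.Agent.Lib.AlgSp.LimitDesc
import Groth.Agent.Lib.AlgSp.PointsUniv
import Groth.Agent.Lib.AlgSp.LocPPoints

set_option autoImplicit false
set_option backward.isDefEq.respectTransparency false
universe u
open CategoryTheory CategoryTheory.Limits AlgebraicGeometry
open scoped TensorProduct
open AlgSp

namespace Groth.Agent.S10072



/-- An ideal of `B ⊗ C` missing the fibre over `p` contains, up to a map from a polynomial algebra,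
an element which is nonzero along that fibre. -/
theorem exists_separating {A B C : Type u} [CommRing A] [CommRing B] [CommRing C] [Algebra A B] [Algebra A C]
    (J : Ideal (B ⊗[A] C)) (p : Ideal C) [p.IsPrime]
    (h : ∀ Q : Ideal (B ⊗[A] C), Q.IsPrime → J ≤ Q → Q.comap (Algebra.TensorProduct.includeRight : C →ₐ[A] B ⊗[A] C) ≠ p) :
    ∃ (n : ℕ) (φ : MvPolynomial (Fin n) A →ₐ[A] C) (j : B ⊗[A] MvPolynomial (Fin n) A),
      Algebra.TensorProduct.map (AlgHom.id A B) φ j ∈ J ∧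
      ∀ Q : Ideal (B ⊗[A] MvPolynomial (Fin n) A), Q.IsPrime →
        Q.comap (Algebra.TensorProduct.includeRight : MvPolynomial (Fin n) A →ₐ[A] B ⊗[A] MvPolynomial (Fin n) A) = p.comap φ →
        j ∉ Q := by
  classical
  let ι : C →ₐ[A] B ⊗[A] C := Algebra.TensorProduct.includeRight
  let K : Ideal (B ⊗[A] C) := J ⊔ p.map ι
  obtain ⟨s, hsp, hsK⟩ : ∃ s, s ∉ p ∧ ι s ∈ K := by
    by_contra hne
    push Not at hne
    have hdis : Disjoint (K : Set (B ⊗[A] C)) (p.primeCompl.map ι : Submonoid (B ⊗[A] C)) := by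
      rw [Set.disjoint_left]
      rintro x hx ⟨s, hs, rfl⟩
      exact hne s hs hx
    obtain ⟨Q, hQ, hKQ, hQd⟩ := Ideal.exists_le_prime_disjoint K _ hdis
    refine h Q hQ (le_sup_left.trans hKQ) (le_antisymm (fun c hc => ?_) ?_)
    · by_contra hcp
      exact Set.disjoint_left.1 hQd hc ⟨c, hcp, rfl⟩
    · intro c hc
      exact hKQ (le_sup_right (a := J) (Ideal.mem_map_of_mem ι hc))
  obtain ⟨j₀, hj₀, r, hr, hjr⟩ := Submodule.mem_sup.1 hsK
  -- finitely many elements suffice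
  let Good : Finset C → (B ⊗[A] C) → Prop := fun G x =>
    ∀ (n : ℕ) (φ : MvPolynomial (Fin n) A →ₐ[A] C), (G : Set C) ⊆ Set.range φ →
      ∃ x' ∈ (p.comap φ).map (Algebra.TensorProduct.includeRight : MvPolynomial (Fin n) A →ₐ[A] B ⊗[A] MvPolynomial (Fin n) A),
        Algebra.TensorProduct.map (AlgHom.id A B) φ x' = x
  have lift : ∀ g : B ⊗[A] C, ∃ G : Finset C, ∀ (n : ℕ) (φ : MvPolynomial (Fin n) A →ₐ[A] C), (G : Set C) ⊆ Set.range φ →
      ∃ g', Algebra.TensorProduct.map (AlgHom.id A B) φ g' = g := fun g => by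
    induction g using TensorProduct.induction_on with
    | zero => exact ⟨∅, fun n φ _ => ⟨0, map_zero _⟩⟩
    | tmul b c =>
      exact ⟨{c}, fun n φ hG => by
        obtain ⟨c', hc⟩ := hG (Finset.mem_singleton_self c)
        exact ⟨b ⊗ₜ c', by simp [hc]⟩⟩
    | add x y hx hy =>
      obtain ⟨Gx, hx⟩ := hx
      obtain ⟨Gy, hy⟩ := hy
      refine ⟨Gx ∪ Gy, fun n φ hG => ?_⟩
      rw [Finset.coe_union, Set.union_subset_iff] at hG
      obtain ⟨x', rfl⟩ := hx n φ hG.1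
      obtain ⟨y', rfl⟩ := hy n φ hG.2
      exact ⟨x' + y', map_add _ _ _⟩
  obtain ⟨G, hG⟩ : ∃ G, Good G r := by
    clear hjr
    induction hr using Submodule.span_induction with
    | mem x hx =>
      obtain ⟨c, hc, rfl⟩ := hx
      refine ⟨{c}, fun n φ hG => ?_⟩
      obtain ⟨c', hc'⟩ := hG (Finset.mem_singleton_self c)
      exact ⟨_, Ideal.mem_map_of_mem _ (show c' ∈ p.comap φ by rw [Ideal.mem_comap, hc']; exact hc), by simp [hc', ι]⟩
    | zero => exact ⟨∅, fun n φ _ => ⟨0, zero_mem _, map_zero _⟩⟩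
    | add x y _ _ hx hy =>
      obtain ⟨Gx, hx⟩ := hx
      obtain ⟨Gy, hy⟩ := hy
      refine ⟨Gx ∪ Gy, fun n φ hG => ?_⟩
      rw [Finset.coe_union, Set.union_subset_iff] at hG
      obtain ⟨x', hx', rfl⟩ := hx n φ hG.1
      obtain ⟨y', hy', rfl⟩ := hy n φ hG.2
      exact ⟨x' + y', add_mem hx' hy', map_add _ _ _⟩
    | smul g x _ hx =>
      obtain ⟨Gx, hx⟩ := hx
      obtain ⟨Gg, hg⟩ := lift g
      refine ⟨Gx ∪ Gg, fun n φ hG => ?_⟩
      rw [Finset.coe_union, Set.union_subset_iff] at hG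
      obtain ⟨x', hx', rfl⟩ := hx n φ hG.1
      obtain ⟨g', rfl⟩ := hg n φ hG.2
      exact ⟨g' * x', Ideal.mul_mem_left _ _ hx', map_mul _ _ _⟩
  let G' := insert s G
  let e := G'.equivFin
  let φ : MvPolynomial (Fin G'.card) A →ₐ[A] C := MvPolynomial.aeval fun i => ((e.symm i : G') : C)
  have hφ : ∀ c ∈ G', c ∈ Set.range φ := fun c hc => ⟨MvPolynomial.X (e ⟨c, hc⟩), by simp [φ]⟩
  obtain ⟨r', hr', hrr⟩ := hG _ φ fun c hc => hφ c (Finset.mem_insert_of_mem hc)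
  obtain ⟨s', hs'⟩ := hφ s (Finset.mem_insert_self s G)
  refine ⟨G'.card, φ, Algebra.TensorProduct.includeRight s' - r', ?_, fun Q hQ hQp hj => ?_⟩
  · rw [map_sub, hrr]
    have : Algebra.TensorProduct.map (AlgHom.id A B) φ (Algebra.TensorProduct.includeRight s') = ι s := by simp [ι, hs']
    rw [this, ← hjr, add_sub_cancel_right]
    exact hj₀
  · have h1 : r' ∈ Q := Ideal.map_le_iff_le_comap.2 hQp.ge hr'
    have h2 : Algebra.TensorProduct.includeRight s' ∈ Q := by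
      have := Q.add_mem hj h1
      rwa [sub_add_cancel] at this
    have h3 : s' ∈ p.comap φ := by rw [← hQp]; exact h2
    exact hsp (by rw [Ideal.mem_comap, hs'] at h3; exact h3)

/-- Let `f : X ⟶ Y` be quasi-compact, `g : Z ⟶ Y` a morphism of algebraic spaces over `S`, `P = X ×_Y
Z`, `z ∈ |Z|` and `T ⊂ |P|` closed with `z` not in the image of `T`. Then there are an affine etale
neighbourhood `(V, v) ⟶ (Z, z)`, an affine scheme `Z'` with `b : Z' ⟶ Y` locally of finite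
presentation and `a : V ⟶ Z'` over `Y`, and for every fibre product `P' = X ×_Y Z'` a closed `T' ⊂
|P'|` whose image in `|Z'|` misses `a(v)` and which contains the image of the inverse image of `T`
in `|X ×_Y V|`. (The variant with `V` an open neighbourhood when `Z` is a scheme is not included.) -/
theorem result (S : Scheme.{u}) {X Y Z : AlgSp.Space S} (f : X ⟶ Y) (g : Z ⟶ Y)
    (hf : AlgSp.IsQuasiCompactMor f.hom)
    (P : AlgSp.Sp S) (p₁ : P ⟶ X.obj) (p₂ : P ⟶ Z.obj) (hP : IsPullback p₁ p₂ f.hom g.hom)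
    (z : AlgSp.Points Z.obj) (T : Set (AlgSp.Points P)) (hT : IsClosed T) (hz : z ∉ AlgSp.Points.map p₂ '' T) :
    ∃ (V : Over S) (_ : IsAffine V.left) (e : (AlgSp.yon S).obj V ⟶ Z.obj) (_ : AlgSp.RepWith @Etale e) (v : ↥V.left)
      (_ : AlgSp.Points.map e (AlgSp.Points.schemeEquiv V v) = z)
      (Z' : Over S) (_ : IsAffine Z'.left) (b : (AlgSp.yon S).obj Z' ⟶ Y.obj) (_ : AlgSp.LocP @LocallyOfFinitePresentation b)
      (a : V ⟶ Z') (_ : (AlgSp.yon S).map a ≫ b = e ≫ g.hom),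
      ∀ (P' : AlgSp.Sp S) (q₁ : P' ⟶ X.obj) (q₂ : P' ⟶ (AlgSp.yon S).obj Z'), IsPullback q₁ q₂ f.hom b →
        ∃ T' : Set (AlgSp.Points P'), IsClosed T' ∧
          AlgSp.Points.schemeEquiv Z' (a.left v) ∉ AlgSp.Points.map q₂ '' T' ∧
          ∀ (PV : AlgSp.Sp S) (r₁ : PV ⟶ X.obj) (r₂ : PV ⟶ (AlgSp.yon S).obj V), IsPullback r₁ r₂ f.hom (e ≫ g.hom) →
            ∀ (κ₁ : PV ⟶ P) (κ₂ : PV ⟶ P'), κ₁ ≫ p₁ = r₁ → κ₁ ≫ p₂ = r₂ ≫ e → κ₂ ≫ q₁ = r₁ → κ₂ ≫ q₂ = r₂ ≫ (AlgSp.yon S).map a →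
              ∀ w : AlgSp.Points PV, AlgSp.Points.map κ₁ w ∈ T → AlgSp.Points.map κ₂ w ∈ T' := by
  classical
  -- a chart of `Y` under `z`
  obtain ⟨κ, Yk, bk, hYk, hbk, hbs, -⟩ := GrothLib.AlgSp.exists_affine_charts Y.property
  obtain ⟨k, w, hw⟩ := hbs (AlgSp.Points.map g.hom z)
  haveI := hYk k
  have hbe := hbk k
  let Y0 := Yk k
  let b0 : (AlgSp.yon S).obj Y0 ⟶ Y.obj := bk k
  have sqZ := IsPullback.of_hasPullback g.hom b0
  obtain ⟨q0, hq0, -⟩ := GrothLib.AlgSp.exists_of_isPullback sqZ (x := z) (y := AlgSp.Points.ofScheme _ w)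
    (by rw [← AlgSp.Points.ofPt_eq_map_ofScheme]; exact hw.symm)
  obtain ⟨ι, Vj, rj, hVj, hrj, hrs, -⟩ := GrothLib.AlgSp.exists_affine_charts
    (GrothLib.AlgSp.isAlgSpace_pullback' Y.property Z.property (AlgSp.IsAlgSpace.yon_obj Y0) g.hom b0)
  obtain ⟨j₁, v₁, hv₁⟩ := hrs q0
  haveI := hVj j₁
  obtain ⟨a₁, ha₁⟩ := (AlgSp.yon S).map_surjective (rj j₁ ≫ pullback.snd g.hom b0)
  have hX0 : AlgSp.IsAlgSpace (pullback f.hom b0) :=
    GrothLib.AlgSp.isAlgSpace_pullback' Y.property X.property (AlgSp.IsAlgSpace.yon_obj Y0) _ _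
  obtain ⟨X1, r, hX1, hre, hrsj⟩ := GrothLib.AlgSp.exists_affine_atlas_of_qc
    (hf (AlgSp.IsAlgSpace.yon_obj Y0) (GrothLib.AlgSp.isQuasiCompactSp_yon Y0) b0 _ _ (IsPullback.of_hasPullback f.hom b0))
  haveI := hX1
  obtain ⟨β, hβ⟩ := (AlgSp.yon S).map_surjective (r ≫ pullback.snd f.hom b0)
  -- rings
  let A : Type u := Γ(Y0.left, ⊤)
  let B : Type u := Γ(X1.left, ⊤)
  let C : Type u := Γ((Vj j₁).left, ⊤)
  algebraize [(β.left.appTop.hom : A →+* B), (a₁.left.appTop.hom : A →+* C)]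
  let σ : Spec (CommRingCat.of A) ⟶ Y0.left := Y0.left.isoSpec.inv
  let Sp' : ∀ (R : Type u) [CommRing R] [Algebra A R], Over S := fun R _ _ =>
    Over.mk (Spec.map (CommRingCat.ofHom (algebraMap A R)) ≫ σ ≫ Y0.hom)
  let str : ∀ (R : Type u) [CommRing R] [Algebra A R], Sp' R ⟶ Y0 := fun R _ _ =>
    Over.homMk (Spec.map (CommRingCat.ofHom (algebraMap A R)) ≫ σ) (Category.assoc _ _ _)
  let mor : ∀ {R R' : Type u} [CommRing R] [Algebra A R] [CommRing R'] [Algebra A R'], (R →ₐ[A] R') → (Sp' R' ⟶ Sp' R) :=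
    fun {R R'} _ _ _ _ φ => Over.homMk (Spec.map (CommRingCat.ofHom φ.toRingHom)) (by
      change Spec.map _ ≫ Spec.map _ ≫ σ ≫ Y0.hom = Spec.map _ ≫ σ ≫ Y0.hom
      rw [← Spec.map_comp_assoc, ← CommRingCat.ofHom_comp, AlgHom.toRingHom_eq_coe, AlgHom.comp_algebraMap])
  have mor_str : ∀ {R R' : Type u} [CommRing R] [Algebra A R] [CommRing R'] [Algebra A R'] (φ : R →ₐ[A] R'),
      mor φ ≫ str R = str R' := fun {R R'} _ _ _ _ φ => Over.OverMorphism.ext (by
    change Spec.map _ ≫ Spec.map _ ≫ σ = Spec.map _ ≫ σ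
    rw [← Spec.map_comp_assoc, ← CommRingCat.ofHom_comp, AlgHom.toRingHom_eq_coe, AlgHom.comp_algebraMap])
  have mor_comp : ∀ {R R' R'' : Type u} [CommRing R] [Algebra A R] [CommRing R'] [Algebra A R'] [CommRing R'']
      [Algebra A R''] (φ : R →ₐ[A] R') (ψ : R' →ₐ[A] R''), mor (ψ.comp φ) = mor ψ ≫ mor φ :=
    fun {R R' R''} _ _ _ _ _ _ φ ψ => Over.OverMorphism.ext (by
      change Spec.map _ = Spec.map _ ≫ Spec.map _
      rw [← Spec.map_comp]
      rfl)
  have sqT : ∀ (R : Type u) [CommRing R] [Algebra A R], IsPullback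
      (mor (Algebra.TensorProduct.includeLeft : B →ₐ[A] TensorProduct A B R)) (mor Algebra.TensorProduct.includeRight)
      (str B) (str R) := fun R _ _ => by
    refine GrothLib.AlgSp.isPullback_of_left ?_
    refine (isPullback_SpecMap_of_isPushout _ _ _ _ (CommRingCat.isPushout_tensorProduct A B R)).of_iso
      (Iso.refl _) (Iso.refl _) (Iso.refl _) Y0.left.isoSpec.symm ?_ ?_ ?_ ?_
    · simp [mor]
      rfl
    · simp [mor]
    · exact (Category.id_comp _).symm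
    · exact (Category.id_comp _).symm
  -- the charts in spectral form
  let ζ : Sp' C ⟶ Vj j₁ := Over.homMk (Vj j₁).left.isoSpec.inv (by
    change _ = Spec.map (CommRingCat.ofHom a₁.left.appTop.hom) ≫ σ ≫ Y0.hom
    rw [show CommRingCat.ofHom a₁.left.appTop.hom = a₁.left.appTop from rfl, ← Category.assoc,
      Scheme.isoSpec_inv_naturality, Category.assoc, Over.w])
  let ζB : Sp' B ⟶ X1 := Over.homMk X1.left.isoSpec.inv (by
    change _ = Spec.map (CommRingCat.ofHom β.left.appTop.hom) ≫ σ ≫ Y0.hom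
    rw [show CommRingCat.ofHom β.left.appTop.hom = β.left.appTop from rfl, ← Category.assoc,
      Scheme.isoSpec_inv_naturality, Category.assoc, Over.w])
  have hζ : ζ ≫ a₁ = str C := Over.OverMorphism.ext (Scheme.isoSpec_inv_naturality a₁.left).symm
  have hζB : ζB ≫ β = str B := Over.OverMorphism.ext (Scheme.isoSpec_inv_naturality β.left).symm
  haveI : IsIso ζ.left := inferInstanceAs (IsIso (Vj j₁).left.isoSpec.inv)
  haveI : IsIso ζB.left := inferInstanceAs (IsIso X1.left.isoSpec.inv)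
  let e : (AlgSp.yon S).obj (Sp' C) ⟶ Z.obj := (AlgSp.yon S).map ζ ≫ rj j₁ ≫ pullback.fst g.hom b0
  have hee : AlgSp.RepWith @Etale e := GrothLib.AlgSp.repWith_comp
    ((AlgSp.repWith_yon_map_iff _ _).2 (inferInstance : Etale ζ.left))
    (GrothLib.AlgSp.repWith_comp (hrj j₁) (GrothLib.AlgSp.repWith_of_isPullback sqZ.flip hbe))
  have heg : e ≫ g.hom = (AlgSp.yon S).map (str C) ≫ b0 := by
    simp only [e, Category.assoc]
    rw [pullback.condition, ← Category.assoc (rj j₁), ← ha₁, ← Functor.map_comp_assoc, hζ]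
  let rB : (AlgSp.yon S).obj (Sp' B) ⟶ pullback f.hom b0 := (AlgSp.yon S).map ζB ≫ r
  have rBe : AlgSp.RepWith @Etale rB := GrothLib.AlgSp.repWith_comp
    ((AlgSp.repWith_yon_map_iff _ _).2 (inferInstance : Etale ζB.left)) hre
  have rBs : AlgSp.RepWith @Surjective rB := GrothLib.AlgSp.repWith_comp
    ((AlgSp.repWith_yon_map_iff _ _).2 (inferInstance : Surjective ζB.left)) hrsj
  have hrB : rB ≫ pullback.snd f.hom b0 = (AlgSp.yon S).map (str B) := by
    simp only [rB, Category.assoc]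
    rw [← hβ, ← Functor.map_comp, hζB]
  let v : ↥(Sp' C).left := (Vj j₁).left.isoSpec.hom v₁
  have hζv : ζ.left v = v₁ := by
    change (Vj j₁).left.isoSpec.inv ((Vj j₁).left.isoSpec.hom v₁) = v₁
    rw [← Scheme.Hom.comp_apply, Iso.hom_inv_id]
    rfl
  have hev : AlgSp.Points.ofPt e v = z := by
    simp only [e]
    rw [GrothLib.AlgSp.ofPt_map_comp, hζv, ← AlgSp.Points.map_ofPt, hv₁, hq0]
  have hm : ((AlgSp.yon S).map (mor (Algebra.TensorProduct.includeLeft : B →ₐ[A] TensorProduct A B C)) ≫ rB ≫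
      pullback.fst f.hom b0) ≫ f.hom =
      ((AlgSp.yon S).map (mor Algebra.TensorProduct.includeRight) ≫ e) ≫ g.hom := by
    simp only [Category.assoc]
    rw [pullback.condition, reassoc_of% hrB, heg, ← Functor.map_comp_assoc, ← Functor.map_comp_assoc, (sqT C).w]
  obtain ⟨m, hm₁, hm₂⟩ := hP.exists_lift _ _ hm
  -- the closed subset on the chart
  have hTR : IsClosed (AlgSp.Points.ofPt m ⁻¹' T) := by
    have : AlgSp.Points.ofPt m = AlgSp.Points.map m ∘ AlgSp.Points.schemeHomeo _ :=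
      funext fun t => AlgSp.Points.ofPt_eq_map_ofScheme m t
    rw [this]
    exact hT.preimage ((AlgSp.Points.continuous_map m).comp (AlgSp.Points.schemeHomeo _).continuous)
  obtain ⟨J, hJ⟩ : ∃ J : Ideal (TensorProduct A B C),
      (AlgSp.Points.ofPt m ⁻¹' T : Set (PrimeSpectrum (TensorProduct A B C))) = PrimeSpectrum.zeroLocus J := by
    obtain ⟨J, hJ⟩ := (PrimeSpectrum.isClosed_iff_zeroLocus_ideal _).1 hTR
    exact ⟨J, hJ⟩
  let pv : PrimeSpectrum C := v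
  obtain ⟨n, φ, j', hj'J, hj'⟩ := exists_separating J pv.asIdeal fun Q hQ hJQ hQp => by
    let x : ↥(Sp' (TensorProduct A B C)).left := (⟨Q, hQ⟩ : PrimeSpectrum (TensorProduct A B C))
    have hx : AlgSp.Points.ofPt m x ∈ T := (hJ.symm ▸ hJQ : (⟨Q, hQ⟩ : PrimeSpectrum _) ∈ AlgSp.Points.ofPt m ⁻¹' T)
    refine hz ⟨_, hx, ?_⟩
    have hxv : (mor (Algebra.TensorProduct.includeRight : C →ₐ[A] TensorProduct A B C)).left x = v :=
      PrimeSpectrum.ext hQp
    rw [AlgSp.Points.map_ofPt, hm₂, GrothLib.AlgSp.ofPt_map_comp, hxv, hev]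
  let C' : Type u := MvPolynomial (Fin n) A
  let b : (AlgSp.yon S).obj (Sp' C') ⟶ Y.obj := (AlgSp.yon S).map (str C') ≫ b0
  haveI : LocallyOfFinitePresentation (str C').left := by
    have : LocallyOfFinitePresentation (Spec.map (CommRingCat.ofHom (algebraMap A C'))) := by
      rw [HasRingHomProperty.Spec_iff (P := @LocallyOfFinitePresentation)]
      exact RingHom.finitePresentation_algebraMap.2 inferInstance
    haveI := this
    exact (inferInstance : LocallyOfFinitePresentation (Spec.map (CommRingCat.ofHom (algebraMap A C')) ≫ σ))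
  have hb : AlgSp.LocP @LocallyOfFinitePresentation b := GrothLib.AlgSp.EtLocal.lfp.locP_of_repWith Y.property
    (GrothLib.AlgSp.repWith_comp ((AlgSp.repWith_yon_map_iff _ _).2
      (inferInstance : LocallyOfFinitePresentation (str C').left))
      (GrothLib.AlgSp.repWith_mono hbe fun _ _ k (_ : Etale k) => (inferInstance : LocallyOfFinitePresentation k)))
  refine ⟨Sp' C, inferInstanceAs (IsAffine (Spec (CommRingCat.of C))), e, hee, v,
    by rw [← hev, AlgSp.Points.ofPt_eq_map_ofScheme]; rfl,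
    Sp' C', inferInstanceAs (IsAffine (Spec (CommRingCat.of C'))), b, hb, mor φ,
    by rw [heg, ← Functor.map_comp_assoc, mor_str], ?_⟩
  intro P' q₁ q₂ hP'
  -- the atlases of the fibre products
  have sqX0 : IsPullback (pullback.fst f.hom b0) (pullback.snd f.hom b0) f.hom b0 := IsPullback.of_hasPullback _ _
  have atl : ∀ (R : Type u) [CommRing R] [Algebra A R] (Q : AlgSp.Sp S) (s₁ : Q ⟶ X.obj) (s₂ : Q ⟶ (AlgSp.yon S).obj (Sp' R)),
      IsPullback s₁ s₂ f.hom ((AlgSp.yon S).map (str R) ≫ b0) →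
      ∃ ρ : (AlgSp.yon S).obj (Sp' (TensorProduct A B R)) ⟶ Q,
        ρ ≫ s₁ = (AlgSp.yon S).map (mor (Algebra.TensorProduct.includeLeft : B →ₐ[A] TensorProduct A B R)) ≫ rB ≫
          pullback.fst f.hom b0 ∧
        ρ ≫ s₂ = (AlgSp.yon S).map (mor (Algebra.TensorProduct.includeRight : R →ₐ[A] TensorProduct A B R)) ∧
        ∃ (s₀ : Q ⟶ pullback f.hom b0), s₀ ≫ pullback.fst f.hom b0 = s₁ ∧
          s₀ ≫ pullback.snd f.hom b0 = s₂ ≫ (AlgSp.yon S).map (str R) ∧ IsPullback ρ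
          ((AlgSp.yon S).map (mor (Algebra.TensorProduct.includeLeft : B →ₐ[A] TensorProduct A B R))) s₀ rB ∧
          AlgSp.RepWith @Etale ρ ∧ AlgSp.RepWith @Surjective ρ := fun R _ _ Q s₁ s₂ sq => by
    obtain ⟨s₀, hs₁, hs₂⟩ := sqX0.exists_lift s₁ (s₂ ≫ (AlgSp.yon S).map (str R))
      (by rw [Category.assoc]; exact sq.w)
    have sq₀ : IsPullback s₀ s₂ (pullback.snd f.hom b0) ((AlgSp.yon S).map (str R)) :=
      IsPullback.of_bot (v₂₁ := pullback.fst f.hom b0) (v₂₂ := b0) (h₃₁ := f.hom)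
        (by rw [hs₁]; exact sq.flip) hs₂.symm sqX0.flip |>.flip
    obtain ⟨ρ, hρ₀, hρ₂⟩ := sq₀.exists_lift
      ((AlgSp.yon S).map (mor (Algebra.TensorProduct.includeLeft : B →ₐ[A] TensorProduct A B R)) ≫ rB)
      ((AlgSp.yon S).map (mor (Algebra.TensorProduct.includeRight : R →ₐ[A] TensorProduct A B R)))
      (by rw [Category.assoc, hrB, ← Functor.map_comp, ← Functor.map_comp, (sqT R).w])
    have sqρ : IsPullback ρ ((AlgSp.yon S).map (mor (Algebra.TensorProduct.includeLeft : B →ₐ[A] TensorProduct A B R)))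
        s₀ rB := by
      refine IsPullback.of_right ?_ hρ₀ sq₀.flip
      rw [hρ₂, hrB]
      exact (GrothLib.AlgSp.isPullback_yon (sqT R)).flip
    refine ⟨ρ, by rw [← hs₁, reassoc_of% hρ₀], hρ₂, s₀, hs₁, hs₂, sqρ,
      GrothLib.AlgSp.repWith_of_isPullback sqρ.flip rBe, GrothLib.AlgSp.repWith_of_isPullback sqρ.flip rBs⟩
  obtain ⟨ρ', hρ'₁, hρ'₂, s', hs', hs'₂, sqρ', ρ'e, ρ's⟩ := atl C' P' q₁ q₂ hP'
  let D' : Set ↥(Sp' (TensorProduct A B C')).left := {x | j' ∉ (x : PrimeSpectrum (TensorProduct A B C')).asIdeal}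
  have hD' : IsOpen D' := (PrimeSpectrum.basicOpen j').isOpen
  refine ⟨(AlgSp.Points.ofPt ρ' '' D')ᶜ, (GrothLib.AlgSp.isOpenMap_ofPt_of_etale ρ'e _ hD').isClosed_compl, ?_, ?_⟩
  · rintro ⟨t, ht, htq⟩
    obtain ⟨x, rfl⟩ := GrothLib.AlgSp.surjective_ofPt_of_repWith ρ's t
    refine ht ⟨x, hj' (x : PrimeSpectrum (TensorProduct A B C')).asIdeal (x : PrimeSpectrum (TensorProduct A B C')).isPrime ?_, rfl⟩
    rw [AlgSp.Points.map_ofPt, hρ'₂, AlgSp.Points.ofPt_eq_map_ofScheme, GrothLib.AlgSp.map_yon_ofPt] at htq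
    exact congrArg PrimeSpectrum.asIdeal ((AlgSp.Points.schemeEquiv _).injective htq)
  intro PV r₁ r₂ hPV κ₁ κ₂ hκ₁₁ hκ₁₂ hκ₂₁ hκ₂₂ w₀ hw₀
  rintro ⟨y, hy, hyw⟩
  obtain ⟨ρV, hρV₁, hρV₂, sV, hsV, hsV₂, sqρV, -, -⟩ := atl C PV r₁ r₂ (by rw [← heg]; exact hPV)
  let Φ : TensorProduct A B C' →ₐ[A] TensorProduct A B C := Algebra.TensorProduct.map (AlgHom.id A B) φ
  have hΦl : Φ.comp Algebra.TensorProduct.includeLeft = Algebra.TensorProduct.includeLeft :=
    AlgHom.ext fun x => by simp [Φ]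
  have hΦr : Φ.comp Algebra.TensorProduct.includeRight = Algebra.TensorProduct.includeRight.comp φ :=
    AlgHom.ext fun x => by simp [Φ]
  have hρκ₁ : ρV ≫ κ₁ = m := hP.hom_ext (by rw [Category.assoc, hκ₁₁, hρV₁, hm₁])
    (by rw [Category.assoc, hκ₁₂, reassoc_of% hρV₂, hm₂])
  have hρκ₂ : ρV ≫ κ₂ = (AlgSp.yon S).map (mor Φ) ≫ ρ' := hP'.hom_ext
    (by
      refine Eq.trans ?_ (Category.assoc _ _ _).symm
      rw [Category.assoc, hκ₂₁, hρV₁, hρ'₁, ← Functor.map_comp_assoc, ← mor_comp, hΦl])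
    (by rw [Category.assoc, hκ₂₂, reassoc_of% hρV₂, Category.assoc, hρ'₂, ← Functor.map_comp, ← Functor.map_comp,
      ← mor_comp, ← mor_comp, hΦr])
  have hκs : κ₂ ≫ s' = sV := by
    apply pullback.hom_ext
    · rw [Category.assoc, hs', hκ₂₁, hsV]
    · have h₁ : s' ≫ pullback.snd f.hom b0 = q₂ ≫ (AlgSp.yon S).map (str C') := hs'₂
      rw [Category.assoc, h₁, reassoc_of% hκ₂₂, ← Functor.map_comp, mor_str, ← hsV₂]
  have sqκ : IsPullback ρV ((AlgSp.yon S).map (mor Φ)) κ₂ ρ' := by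
    refine IsPullback.of_bot (v₂₁ := (AlgSp.yon S).map (mor (Algebra.TensorProduct.includeLeft : B →ₐ[A] TensorProduct A B C')))
      (v₂₂ := s') (h₃₁ := rB) ?_ hρκ₂ sqρ'
    rw [← Functor.map_comp, ← mor_comp, hΦl, hκs]
    exact sqρV
  obtain ⟨x, hx₁, hx₂⟩ := GrothLib.AlgSp.exists_of_isPullback sqκ (x := w₀) (y := AlgSp.Points.ofScheme _ y)
    (by rw [← AlgSp.Points.ofPt_eq_map_ofScheme]; exact hyw.symm)
  obtain ⟨x, rfl⟩ := (AlgSp.Points.schemeEquiv _).surjective x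
  have hxT : x ∈ AlgSp.Points.ofPt m ⁻¹' T := by
    rw [Set.mem_preimage, AlgSp.Points.ofPt_eq_map_ofScheme, ← hρκ₁, AlgSp.Points.map_comp]
    exact hx₁.symm ▸ hw₀
  have hxJ : (x : PrimeSpectrum (TensorProduct A B C)) ∈ PrimeSpectrum.zeroLocus (J : Set (TensorProduct A B C)) :=
    hJ ▸ hxT
  have hy' : (mor Φ).left x = y := (AlgSp.Points.schemeEquiv _).injective ((GrothLib.AlgSp.map_yon_ofPt _ _).symm.trans hx₂)
  refine hy ?_
  rw [← hy']
  exact hxJ hj'J

end Groth.Agent.S10072
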