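import Groth.Statements.S10073
import Groth.Agent.Lib.AlgSp.Limit
import Groth.Agent.Lib.AlgSp.SchImage
import Groth.Agent.Lib.AlgSp.PointsUniv
import Groth.Agent.Lib.AlgSp.FpqcSheaf

set_option autoImplicit false
set_option backward.isDefEq.respectTransparency false
universe u
open CategoryTheory CategoryTheory.Limits AlgebraicGeometry
open AlgSp

namespace Groth.Agent.S10073

/-- Let `B = lim B_i` be a cofiltered limit (in fppf sheaves over `S`) of Noetherian algebraic spaces
(quasi-compact and quasi-separated over `S`, locally Noetherian) whose transition maps are affine,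
`X ⟶ B` quasi-separated of finite type, and `X ⟶ W` over `B ⟶ B_i` with `W ⟶ B_i` of finite type and
`X ⟶ B ×_{B_i} W` a closed immersion. For `i'` over `i` write `X_{i'}` for the scheme-theoretic
image of `X` in `B_{i'} ×_{B_i} W`, with the induced transition maps. Then `X = lim_{i'} X_{i'}`:
the cone of maps `X ⟶ X_{i'}` is a limit cone. (The published statement allows any base scheme and
uses absolute quasi-separatedness; this row assumes the base quasi-separated, over which
quasi-separatedness relative to the base is the absolute notion.) -/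
theorem result (S : Scheme.{u}) [QuasiSeparatedSpace S] {I : Type u} [SmallCategory I] [IsCofiltered I]
    (D : I ⥤ AlgSp.Sp S) (hD : ∀ i, AlgSp.IsAlgSpace (D.obj i))
    (hDa : ∀ (i j : I) (φ : i ⟶ j), AlgSp.IsAffineMor (D.map φ))
    (hqc : ∀ i, AlgSp.IsQuasiCompactSp (D.obj i)) (hqs : ∀ i, AlgSp.IsQuasiSeparatedSp (D.obj i))
    (c : Cone D) (hc : IsLimit c)
    (hln : ∀ i, AlgSp.IsLocNoethSp (D.obj i))
    (X : AlgSp.Space S) (a : X.obj ⟶ c.pt) (hXqs : AlgSp.IsQuasiSeparatedMor a) (hXft : AlgSp.IsFiniteTypeMor a)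
    (i : I) (W : AlgSp.Space S) (w : W.obj ⟶ D.obj i) (hw : AlgSp.IsFiniteTypeMor w) (b : X.obj ⟶ W.obj)
    (hb : b ≫ w = a ≫ c.π.app i)
    (hci : ∀ (P : AlgSp.Sp S) (fst : P ⟶ c.pt) (snd : P ⟶ W.obj), IsPullback fst snd (c.π.app i) w →
      ∀ k : X.obj ⟶ P, k ≫ fst = a → k ≫ snd = b → AlgSp.RepWith @IsClosedImmersion k)
    (DP : Over i ⥤ AlgSp.Sp S) (π₁ : DP ⟶ Over.forget i ⋙ D) (π₂ : DP ⟶ (Functor.const (Over i)).obj W.obj)
    (hDP : ∀ i' : Over i, IsPullback (π₁.app i') (π₂.app i') (D.map i'.hom) w)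
    (DX : Over i ⥤ AlgSp.Sp S) (hDX : ∀ i', AlgSp.IsAlgSpace (DX.obj i')) (ε : DX ⟶ DP)
    (ξ : (Functor.const (Over i)).obj X.obj ⟶ DX)
    (hξ : ∀ i' : Over i, ξ.app i' ≫ ε.app i' ≫ π₁.app i' = a ≫ c.π.app i'.left ∧ ξ.app i' ≫ ε.app i' ≫ π₂.app i' = b)
    (himg : ∀ i' : Over i, AlgSp.IsSchImage (ξ.app i' ≫ ε.app i') (ε.app i')) :
    Nonempty (IsLimit (Cone.mk X.obj ξ)) := by
  classical
  let F : CategoryTheory.Over i ⥤ I := CategoryTheory.Over.forget i
  let hcF : IsLimit (c.whisker F) := (Functor.Initial.isLimitWhiskerEquiv F c).symm hc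
  have hcpt : AlgSp.IsAlgSpace c.pt := GrothLib.AlgSp.isAlgSpace_limit hDa hD hc
  let P := pullback (c.π.app i) w
  have hP : AlgSp.IsAlgSpace P := GrothLib.AlgSp.isAlgSpace_pullback' (hD i) hcpt W.property _ _
  have sqP : IsPullback (pullback.fst (c.π.app i) w) (pullback.snd _ _) (c.π.app i) w := IsPullback.of_hasPullback _ _
  obtain ⟨k, hk₁, hk₂⟩ := sqP.exists_lift a b hb.symm
  have hk := hci P _ _ sqP k hk₁ hk₂
  haveI : Mono k := GrothLib.AlgSp.mono_of_closedImmersion hk
  have hDPs : ∀ j, AlgSp.IsAlgSpace (DP.obj j) := fun j =>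
    GrothLib.AlgSp.isAlgSpace_pullback (hD i).diag (hD j.left) W.property (hDP j)
  have hp : ∀ j, ∃ p : P ⟶ DP.obj j, p ≫ π₁.app j = pullback.fst _ _ ≫ c.π.app j.left ∧ p ≫ π₂.app j = pullback.snd _ _ := fun j => by
    refine (hDP j).exists_lift _ _ ?_
    rw [Category.assoc]
    exact (congrArg (pullback.fst _ _ ≫ ·) (c.w j.hom)).trans sqP.w
  choose p hp₁ hp₂ using hp
  have hξp : ∀ j, ξ.app j ≫ ε.app j = k ≫ p j := fun j => by
    apply (hDP j).hom_ext
    · rw [Category.assoc, (hξ j).1, Category.assoc, hp₁, ← Category.assoc, hk₁]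
    · rw [Category.assoc, (hξ j).2, Category.assoc, hp₂, hk₂]
  have sqp : ∀ j, IsPullback (pullback.fst _ _) (p j) (c.π.app j.left) (π₁.app j) := fun j => by
    refine IsPullback.of_bot (v₂₁ := π₂.app j) (v₂₂ := D.map j.hom) (h₃₁ := w) ?_ (hp₁ j).symm (hDP j)
    rw [hp₂ j, c.w]
    exact sqP
  have hfq : ∀ j, AlgSp.IsQuasiCompactMor (ξ.app j ≫ ε.app j) := fun j => by
    rw [hξp]
    exact GrothLib.AlgSp.isQuasiCompactMor_of_repWith (GrothLib.AlgSp.repWith_comp
      (GrothLib.AlgSp.repWith_mono hk fun _ _ m (_ : IsClosedImmersion m) => (inferInstance : QuasiCompact m))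
      (GrothLib.AlgSp.repWith_mono (GrothLib.AlgSp.repWith_of_isPullback (sqp j)
        (GrothLib.AlgSp.isAffineMor_iff.1 (GrothLib.AlgSp.isAffineMor_limit_π hDa hc j.left)))
        fun _ _ m (_ : IsAffineHom m) => (inferInstance : QuasiCompact m)))
  -- factorisation through `X` of points killed at every stage
  have key : ∀ (T : Over S) (t : (AlgSp.yon S).obj T ⟶ P),
      (∀ j, ∃ z : (AlgSp.yon S).obj T ⟶ DX.obj j, z ≫ ε.app j = t ≫ p j) →
        ∃ l : (AlgSp.yon S).obj T ⟶ X.obj, l ≫ k = t := by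
    intro T t ht
    obtain ⟨ι, W₀, r, hW₀, hr, hrs, -⟩ := GrothLib.AlgSp.exists_affine_charts W.property
    have hRe : ∀ a', ∃ (V : Over S) (v : V ⟶ T) (e : V ⟶ W₀ a'), IsPullback ((AlgSp.yon S).map e) ((AlgSp.yon S).map v)
        (r a') (t ≫ pullback.snd _ _) := fun a' => by
      obtain ⟨V, e, v, sq⟩ := GrothLib.AlgSp.exists_isPullback_yon W.property.diag (r a') (t ≫ pullback.snd _ _)
      exact ⟨V, v, e, sq⟩
    choose V v e sqV using hRe
    let κ := Σ a', (V a').left.affineCover.I₀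
    let O : κ → Over S := fun q => Over.mk ((V q.1).left.affineCover.f q.2 ≫ (V q.1).hom)
    let o : ∀ q : κ, O q ⟶ T := fun q => (Over.homMk ((V q.1).left.affineCover.f q.2) rfl : O q ⟶ V q.1) ≫ v q.1
    have hoe : ∀ q, Etale (o q).left := fun q => by
      haveI : Etale (v q.1).left :=
        (AlgSp.repWith_yon_map_iff _ _).1 (GrothLib.AlgSp.repWith_of_isPullback (sqV q.1) (hr q.1))
      exact inferInstanceAs (Etale ((V q.1).left.affineCover.f q.2 ≫ (v q.1).left))
    have hos : ∀ x : ↥T.left, ∃ q y, (o q).left y = x := fun x => by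
      obtain ⟨a', w₀, hw⟩ := hrs (AlgSp.Points.ofPt (t ≫ pullback.snd _ _) x)
      obtain ⟨z, -, hz⟩ := GrothLib.AlgSp.exists_of_isPullback (sqV a') (x := AlgSp.Points.ofScheme _ w₀)
        (y := AlgSp.Points.ofScheme _ x) (by rw [← AlgSp.Points.ofPt_eq_map_ofScheme, ← AlgSp.Points.ofPt_eq_map_ofScheme]; exact hw)
      obtain ⟨z, rfl⟩ := (AlgSp.Points.schemeEquiv _).surjective z
      obtain ⟨q, y, rfl⟩ := (V a').left.affineCover.exists_eq z
      refine ⟨⟨a', q⟩, y, (AlgSp.Points.schemeEquiv _).injective ((GrothLib.AlgSp.map_yon_ofPt _ _).symm.trans ?_)⟩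
      rw [Functor.map_comp, AlgSp.Points.map_comp, GrothLib.AlgSp.map_yon_ofPt]
      exact hz
    suffices hloc : ∀ q, ∃ l : (AlgSp.yon S).obj (O q) ⟶ X.obj, l ≫ k = (AlgSp.yon S).map (o q) ≫ t by
      choose l hl using hloc
      obtain ⟨L, hL, -⟩ := GrothLib.AlgSp.exists_hom_of_etale O o hoe hos l fun q q' Z g g' h => by
        rw [← cancel_mono k, Category.assoc, Category.assoc, hl, hl, ← Functor.map_comp_assoc, ← Functor.map_comp_assoc, h]
      refine ⟨L, ?_⟩
      exact (GrothLib.AlgSp.exists_hom_of_etale O o hoe hos (fun q => (AlgSp.yon S).map (o q) ≫ t)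
        fun q q' Z g g' h => by rw [← Functor.map_comp_assoc, ← Functor.map_comp_assoc, h]).unique
        (fun q => by rw [← Category.assoc, hL, hl]) fun q => rfl
    intro q
    haveI hO : IsAffine (O q).left := inferInstanceAs (IsAffine ((V q.1).left.affineCover.X q.2))
    let eO : O q ⟶ W₀ q.1 := (Over.homMk ((V q.1).left.affineCover.f q.2) rfl : O q ⟶ V q.1) ≫ e q.1
    let rr := r q.1
    have hrr : AlgSp.RepWith @Etale rr := hr q.1
    let t' : (AlgSp.yon S).obj (O q) ⟶ P := (AlgSp.yon S).map (o q) ≫ t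
    have ht' : (AlgSp.yon S).map eO ≫ rr = t' ≫ pullback.snd _ _ := by
      simp only [t', eO, o, rr, Functor.map_comp, Category.assoc]
      rw [(sqV q.1).w]
    obtain ⟨E, cW, f, w', fst, snd, ⟨hcW⟩, hWa, hEj, hEn, hEπ, sqW⟩ :=
      GrothLib.AlgSp.exists_affine_chart_limit hDa hc i (hW₀ q.1) (rr ≫ w)
    -- the chart of `P`
    obtain ⟨eP, heP₁, heP₂⟩ := sqP.exists_lift fst ((AlgSp.yon S).map snd ≫ rr) (by rw [sqW.w, Category.assoc])
    have sqeP : IsPullback eP ((AlgSp.yon S).map snd) (pullback.snd _ _) rr :=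
      IsPullback.of_right (by rw [heP₁]; exact sqW) heP₂ sqP
    have hej : ∀ j, ∃ ej : (AlgSp.yon S).obj (E.obj j) ⟶ DP.obj j,
        ej ≫ π₁.app j = f j ∧ ej ≫ π₂.app j = (AlgSp.yon S).map (w' j) ≫ rr := fun j =>
      (hDP j).exists_lift _ _ (by rw [(hEj j).2.w, Category.assoc])
    choose ej hej₁ hej₂ using hej
    have sqej : ∀ j, IsPullback (ej j) ((AlgSp.yon S).map (w' j)) (π₂.app j) rr := fun j =>
      IsPullback.of_right (by rw [hej₁]; exact (hEj j).2) (hej₂ j) (hDP j)
    have sqπ : ∀ j, IsPullback eP ((AlgSp.yon S).map (cW.π.app j)) (p j) (ej j) := fun j => by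
      refine IsPullback.of_bot (v₂₁ := (AlgSp.yon S).map (w' j)) (v₂₂ := π₂.app j) (h₃₁ := rr) ?_ ?_ (sqej j)
      · rw [← Functor.map_comp, (hEπ j).2, hp₂]
        exact sqeP
      · apply (hDP j).hom_ext
        · rw [Category.assoc, hp₁, ← Category.assoc, heP₁, Category.assoc, hej₁, (hEπ j).1]
        · rw [Category.assoc, hp₂, heP₂, Category.assoc, hej₂, ← Functor.map_comp_assoc, (hEπ j).2]
    obtain ⟨Xs, x, mm, sqx⟩ := GrothLib.AlgSp.exists_isPullback_of_representable hk.1 eP
    haveI hmm : IsClosedImmersion mm.left := hk.2 _ _ _ sqx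
    haveI := hWa
    obtain ⟨hXa, hms⟩ := IsClosedImmersion.isAffine_surjective_of_isAffine mm.left
    haveI := hXa
    obtain ⟨u, hu₁, hu₂⟩ := sqeP.exists_lift t' ((AlgSp.yon S).map eO) ht'.symm
    obtain ⟨u, rfl⟩ := (AlgSp.yon S).map_surjective u
    -- vanishing
    have hker : RingHom.ker mm.left.appTop.hom ≤ RingHom.ker u.left.appTop.hom := by
      intro s hs
      obtain ⟨j, s', rfl⟩ := GrothLib.AlgSp.exists_appTop_π_eq hcW (fun j => (hEj j).1) s
      haveI := (hEj j).1
      let fj : Xs ⟶ E.obj j := mm ≫ cW.π.app j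
      have sqf : IsPullback x ((AlgSp.yon S).map fj) (ξ.app j ≫ ε.app j) (ej j) := by
        rw [hξp, Functor.map_comp]
        exact sqx.paste_vert (sqπ j)
      obtain ⟨Zs, zx, n, sqZ⟩ := GrothLib.AlgSp.exists_isPullback_of_representable (himg j).1.1 (ej j)
      have hZ : AlgSp.IsSchImage ((AlgSp.yon S).map fj) ((AlgSp.yon S).map n) :=
        GrothLib.AlgSp.isSchImage_of_flat_baseChange X.property (hDPs j) (AlgSp.IsAlgSpace.yon_obj _) (hfq j)
          (GrothLib.AlgSp.EtLocal.flat.locP_of_repWith (hDPs j) (GrothLib.AlgSp.repWith_mono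
            (GrothLib.AlgSp.repWith_of_isPullback (sqej j).flip hrr) fun _ _ m (_ : Etale m) => (inferInstance : Flat m)))
          sqf (himg j) sqZ
      let Im : Over S := Over.mk (fj.left.imageι ≫ (E.obj j).hom)
      let ιIm : Im ⟶ E.obj j := Over.homMk fj.left.imageι rfl
      let toIm : Xs ⟶ Im := Over.homMk fj.left.toImage (by
        change fj.left.toImage ≫ fj.left.imageι ≫ _ = _
        rw [Scheme.Hom.toImage_imageι_assoc, Over.w fj])
      obtain ⟨κ', hκ'⟩ := hZ.2.2 ((AlgSp.yon S).map ιIm) (AlgSp.IsAlgSpace.yon_obj _)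
        ((AlgSp.repWith_yon_map_iff _ _).2 (inferInstanceAs (IsClosedImmersion fj.left.imageι)))
        ⟨(AlgSp.yon S).map toIm, by rw [← Functor.map_comp]; exact congrArg _ (Over.OverMorphism.ext fj.left.toImage_imageι)⟩
      obtain ⟨z, hz⟩ := ht j
      obtain ⟨z', -, hz'⟩ := sqZ.exists_lift ((AlgSp.yon S).map (o q) ≫ z) ((AlgSp.yon S).map (u ≫ cW.π.app j)) (by
        rw [Category.assoc, hz, ← Category.assoc]
        change t' ≫ p j = _
        rw [← hu₁, Category.assoc, (sqπ j).w, Functor.map_comp, Category.assoc])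
      obtain ⟨zz, hzz⟩ := (AlgSp.yon S).map_surjective (z' ≫ κ')
      have hfac : zz ≫ ιIm = u ≫ cW.π.app j := (AlgSp.yon S).map_injective (by
        rw [Functor.map_comp, hzz, Category.assoc, hκ', hz'])
      have h₀ : fj.left.imageι.appTop s' = 0 := by
        have h₁ : RingHom.ker (fj.left.imageι.app ⊤).hom = fj.left.ker.ideal ⟨⊤, isAffineOpen_top _⟩ :=
          fj.left.ker.ker_subschemeι_app ⟨⊤, isAffineOpen_top _⟩
        rw [Scheme.Hom.ker_apply] at h₁
        have : s' ∈ RingHom.ker (fj.left.app ⊤).hom := by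
          rw [RingHom.mem_ker]
          change fj.left.appTop s' = 0
          simp only [fj, Over.comp_left, Scheme.Hom.comp_appTop, CommRingCat.comp_apply]
          exact hs
        rw [← h₁] at this
        exact this
      rw [RingHom.mem_ker]
      have h := congrArg (fun m => m.left.appTop s') hfac
      simp only [Over.comp_left, Scheme.Hom.comp_appTop, CommRingCat.comp_apply] at h
      exact h.symm.trans ((congrArg _ h₀).trans (map_zero _))
    let ψ := mm.left.appTop.hom.liftOfSurjective hms ⟨u.left.appTop.hom, hker⟩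
    let g₀ : (O q).left ⟶ Xs.left := (O q).left.toSpecΓ ≫ Spec.map (CommRingCat.ofHom ψ) ≫ Xs.left.isoSpec.inv
    have hg₀ : g₀ ≫ mm.left = u.left := by
      apply ext_of_isAffine
      have hψ : mm.left.appTop ≫ CommRingCat.ofHom ψ = u.left.appTop :=
        CommRingCat.hom_ext (RingHom.liftOfSurjective_comp _ hms _)
      have : g₀ ≫ mm.left = u.left := by
        simp only [g₀, Category.assoc]
        rw [← Scheme.isoSpec_inv_naturality, ← Spec.map_comp_assoc, hψ, ← Scheme.toSpecΓ_naturality_assoc,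
          Scheme.toSpecΓ_isoSpec_inv, Category.comp_id]
      rw [this]
    let g₁ : O q ⟶ Xs := Over.homMk g₀ (by rw [← Over.w mm, ← Category.assoc, hg₀, Over.w u])
    refine ⟨(AlgSp.yon S).map g₁ ≫ x, ?_⟩
    rw [Category.assoc, sqx.w, ← Functor.map_comp_assoc, show g₁ ≫ mm = u from Over.OverMorphism.ext hg₀]
    exact hu₁
  have hex : ∀ K : Cone DX, ∃ l : K.pt ⟶ X.obj, ∀ j, l ≫ ξ.app j = K.π.app j := fun K => by
    let i₀ : CategoryTheory.Over i := CategoryTheory.Over.mk (𝟙 i)
    have hW' : ∀ j, K.π.app j ≫ ε.app j ≫ π₂.app j = K.π.app i₀ ≫ ε.app i₀ ≫ π₂.app i₀ := fun j => by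
      have h := congrArg (· ≫ ε.app i₀ ≫ π₂.app i₀) (K.w (CategoryTheory.Over.homMk j.hom : j ⟶ i₀))
      simp only [Category.assoc] at h
      rw [ε.naturality_assoc, π₂.naturality] at h
      simpa using h
    let cB : Cone (F ⋙ D) :=
      { pt := K.pt
        π :=
          { app := fun j => K.π.app j ≫ ε.app j ≫ π₁.app j
            naturality := fun j j' m => by
              simp only [Functor.const_obj_map, Category.id_comp]
              rw [← K.w m, Category.assoc, ε.naturality_assoc, π₁.naturality]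
              simp [F] } }
    have hw' : hcF.lift cB ≫ c.π.app i = (K.π.app i₀ ≫ ε.app i₀ ≫ π₂.app i₀) ≫ w := by
      refine (hcF.fac cB i₀).trans ?_
      simp only [cB, Category.assoc]
      congr 2
      have := (hDP i₀).w
      simpa [i₀] using this
    let t := sqP.lift (hcF.lift cB) _ hw'
    have ht : ∀ j, t ≫ p j = K.π.app j ≫ ε.app j := fun j => by
      apply (hDP j).hom_ext
      · rw [Category.assoc, hp₁, sqP.lift_fst_assoc, Category.assoc]
        exact hcF.fac cB j
      · rw [Category.assoc, hp₂, sqP.lift_snd, Category.assoc]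
        exact (hW' j).symm
    haveI : IsIso (pullback.fst t k) := GrothLib.AlgSp.isIso_of_yon fun T z => by
      obtain ⟨l, hl⟩ := key T (z ≫ t) fun j => ⟨z ≫ K.π.app j, by rw [Category.assoc, ← ht, Category.assoc]⟩
      refine ⟨pullback.lift z l hl.symm, pullback.lift_fst _ _ _, fun y hy => ?_⟩
      rw [← cancel_mono (pullback.fst t k), pullback.lift_fst, hy]
    refine ⟨inv (pullback.fst t k) ≫ pullback.snd t k, fun j => ?_⟩
    haveI : Mono (ε.app j) := GrothLib.AlgSp.mono_of_closedImmersion (himg j).1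
    rw [← cancel_mono (ε.app j), ← ht, Category.assoc, hξp, Category.assoc, ← pullback.condition_assoc,
      IsIso.inv_hom_id_assoc]
  choose L hL using hex
  refine ⟨{ lift := L, fac := fun K j => hL K j, uniq := fun K m hm => ?_ }⟩
  change m = L K
  rw [← cancel_mono k]
  have e : ∀ l : K.pt ⟶ X.obj, (∀ j, l ≫ ξ.app j = K.π.app j) →
      ∀ j, (l ≫ k) ≫ p j = K.π.app j ≫ ε.app j := fun l hl j => by
    rw [Category.assoc, ← hξp, ← Category.assoc, hl]
  have e₁ := e m hm
  have e₂ := e _ (hL K)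
  apply sqP.hom_ext
  · refine hcF.hom_ext fun j => ?_
    have h := congrArg (· ≫ π₁.app j) ((e₁ j).trans (e₂ j).symm)
    simp only [Category.assoc, hp₁] at h
    simp only [Category.assoc]
    exact h
  · have h := congrArg (· ≫ π₂.app (CategoryTheory.Over.mk (𝟙 i))) ((e₁ _).trans (e₂ (CategoryTheory.Over.mk (𝟙 i))).symm)
    simp only [Category.assoc, hp₂] at h
    simpa using h

end Groth.Agent.S10073
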