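import Groth.Statements.S10074
import Groth.Agent.S10073
import Groth.Agent.Lib.AlgSp.LimitHomSpace
import Groth.Agent.Lib.AlgSp.LimitEventually
import Groth.Agent.Lib.AlgSp.DiagChart

set_option autoImplicit false
set_option backward.isDefEq.respectTransparency false
universe u
open CategoryTheory CategoryTheory.Limits AlgebraicGeometry
open AlgSp

namespace Groth.Agent.S10074

/-- Let `B = lim B_i` be a cofiltered limit (in fppf sheaves over `S`) of Noetherian algebraic spaces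
(quasi-compact and quasi-separated over `S`, locally Noetherian) whose transition maps are affine,
`f : X ⟶ Y` a morphism over `B` between algebraic spaces each of finite type and quasi-separated
over `B`, and `X ⟶ W` over `B_{i₁}`, `Y ⟶ V` over `B_{i₂}` good diagrams (`W ⟶ B_{i₁}` and `V ⟶
B_{i₂}` of finite presentation, `X ⟶ B ×_{B_{i₁}} W` and `Y ⟶ B ×_{B_{i₂}} V` closed immersions)
with their systems of scheme-theoretic images `(X_i)`, `(Y_i)`. Then for some `i₀` over `i₁`, `i₂`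
there is a morphism of systems `(f_i : X_i ⟶ Y_i)_{i ≥ i₀}` over `(B_i)` with `f = lim f_i`
(compatible with `X ⟶ X_i`, `Y ⟶ Y_i`), and any two such families agree for all `i` over some index.
(The published statement takes `W` and `V` only of finite type over `B_{i₁}`, `B_{i₂}`; this row
takes them of finite presentation, which its proof uses.) (The published statement allows any base
scheme and uses absolute quasi-separatedness; this row assumes the base quasi-separated, over which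
quasi-separatedness relative to the base is the absolute notion.) -/
theorem result (S : Scheme.{u}) [QuasiSeparatedSpace S] {I : Type u} [SmallCategory I] [IsCofiltered I]
    (D : I ⥤ AlgSp.Sp S) (hD : ∀ i, AlgSp.IsAlgSpace (D.obj i))
    (hDa : ∀ (i j : I) (φ : i ⟶ j), AlgSp.IsAffineMor (D.map φ))
    (hqc : ∀ i, AlgSp.IsQuasiCompactSp (D.obj i)) (hqs : ∀ i, AlgSp.IsQuasiSeparatedSp (D.obj i))
    (c : Cone D) (hc : IsLimit c)
    (hln : ∀ i, AlgSp.IsLocNoethSp (D.obj i))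
    (X Y : AlgSp.Space S) (aX : X.obj ⟶ c.pt) (aY : Y.obj ⟶ c.pt) (f : X.obj ⟶ Y.obj) (hf : f ≫ aY = aX)
    (hXqs : AlgSp.IsQuasiSeparatedMor aX) (hXft : AlgSp.IsFiniteTypeMor aX)
    (hYqs : AlgSp.IsQuasiSeparatedMor aY) (hYft : AlgSp.IsFiniteTypeMor aY)
    (i₁ : I) (W : AlgSp.Space S) (w : W.obj ⟶ D.obj i₁) (hw : AlgSp.IsFinitePresentationMor w) (bX : X.obj ⟶ W.obj)
    (hbX : bX ≫ w = aX ≫ c.π.app i₁)
    (hciX : ∀ (P : AlgSp.Sp S) (fst : P ⟶ c.pt) (snd : P ⟶ W.obj), IsPullback fst snd (c.π.app i₁) w →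
      ∀ k : X.obj ⟶ P, k ≫ fst = aX → k ≫ snd = bX → AlgSp.RepWith @IsClosedImmersion k)
    (PX : Over i₁ ⥤ AlgSp.Sp S) (PXπ₁ : PX ⟶ Over.forget i₁ ⋙ D) (PXπ₂ : PX ⟶ (Functor.const (Over i₁)).obj W.obj)
    (hPX : ∀ i' : Over i₁, IsPullback (PXπ₁.app i') (PXπ₂.app i') (D.map i'.hom) w)
    (DX : Over i₁ ⥤ AlgSp.Sp S) (hDX : ∀ i', AlgSp.IsAlgSpace (DX.obj i')) (εX : DX ⟶ PX)
    (ξX : (Functor.const (Over i₁)).obj X.obj ⟶ DX)
    (hξX : ∀ i' : Over i₁, ξX.app i' ≫ εX.app i' ≫ PXπ₁.app i' = aX ≫ c.π.app i'.left ∧ ξX.app i' ≫ εX.app i' ≫ PXπ₂.app i' = bX)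
    (himgX : ∀ i' : Over i₁, AlgSp.IsSchImage (ξX.app i' ≫ εX.app i') (εX.app i'))
    (i₂ : I) (V : AlgSp.Space S) (v : V.obj ⟶ D.obj i₂) (hv : AlgSp.IsFinitePresentationMor v) (bY : Y.obj ⟶ V.obj)
    (hbY : bY ≫ v = aY ≫ c.π.app i₂)
    (hciY : ∀ (P : AlgSp.Sp S) (fst : P ⟶ c.pt) (snd : P ⟶ V.obj), IsPullback fst snd (c.π.app i₂) v →
      ∀ k : Y.obj ⟶ P, k ≫ fst = aY → k ≫ snd = bY → AlgSp.RepWith @IsClosedImmersion k)
    (PY : Over i₂ ⥤ AlgSp.Sp S) (PYπ₁ : PY ⟶ Over.forget i₂ ⋙ D) (PYπ₂ : PY ⟶ (Functor.const (Over i₂)).obj V.obj)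
    (hPY : ∀ i' : Over i₂, IsPullback (PYπ₁.app i') (PYπ₂.app i') (D.map i'.hom) v)
    (DY : Over i₂ ⥤ AlgSp.Sp S) (hDY : ∀ i', AlgSp.IsAlgSpace (DY.obj i')) (εY : DY ⟶ PY)
    (ξY : (Functor.const (Over i₂)).obj Y.obj ⟶ DY)
    (hξY : ∀ i' : Over i₂, ξY.app i' ≫ εY.app i' ≫ PYπ₁.app i' = aY ≫ c.π.app i'.left ∧ ξY.app i' ≫ εY.app i' ≫ PYπ₂.app i' = bY)
    (himgY : ∀ i' : Over i₂, AlgSp.IsSchImage (ξY.app i' ≫ εY.app i') (εY.app i')) :
    ∃ (i₀ : I) (φ₁ : i₀ ⟶ i₁) (φ₂ : i₀ ⟶ i₂) (fam : Over.map φ₁ ⋙ DX ⟶ Over.map φ₂ ⋙ DY),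
      (∀ i' : Over i₀, ξX.app ((Over.map φ₁).obj i') ≫ fam.app i' = f ≫ ξY.app ((Over.map φ₂).obj i')) ∧
        (∀ i' : Over i₀, fam.app i' ≫ εY.app ((Over.map φ₂).obj i') ≫ PYπ₁.app ((Over.map φ₂).obj i') =
          εX.app ((Over.map φ₁).obj i') ≫ PXπ₁.app ((Over.map φ₁).obj i')) ∧
      ∀ gam : Over.map φ₁ ⋙ DX ⟶ Over.map φ₂ ⋙ DY,
        (∀ i' : Over i₀, ξX.app ((Over.map φ₁).obj i') ≫ gam.app i' = f ≫ ξY.app ((Over.map φ₂).obj i')) ∧
        (∀ i' : Over i₀, gam.app i' ≫ εY.app ((Over.map φ₂).obj i') ≫ PYπ₁.app ((Over.map φ₂).obj i') =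
          εX.app ((Over.map φ₁).obj i') ≫ PXπ₁.app ((Over.map φ₁).obj i')) →
        ∃ (j₀ : I) (ψ : j₀ ⟶ i₀), ∀ j : Over j₀, fam.app ((Over.map ψ).obj j) = gam.app ((Over.map ψ).obj j) := by
  classical
  have hwft : AlgSp.IsFiniteTypeMor w := ⟨GrothLib.AlgSp.locP_mono (fun _ _ g (_ : LocallyOfFinitePresentation g) =>
    (inferInstance : LocallyOfFiniteType g)) hw.1, hw.2.1⟩
  obtain ⟨hlim⟩ := Groth.Agent.S10073.result S D hD hDa hqc hqs c hc hln X aX hXqs hXft i₁ W w hwft bX hbX hciX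
    PX PXπ₁ PXπ₂ hPX DX hDX εX ξX hξX himgX
  have hW : AlgSp.IsQuasiCompactSp W.obj ∧ AlgSp.IsQuasiSeparatedSp W.obj :=
    ⟨hw.2.1 (hD i₁) (hqc i₁) (𝟙 _) (𝟙 _) w (IsPullback.of_horiz_isIso ⟨by simp⟩),
      GrothLib.AlgSp.isQuasiSeparatedSp_of_mor hw.2.2 (hqs i₁)⟩
  have hPXs : ∀ A : CategoryTheory.Over i₁, AlgSp.IsAlgSpace (PX.obj A) := fun A =>
    GrothLib.AlgSp.isAlgSpace_pullback (hD i₁).diag (hD A.left) W.property (hPX A)
  have hεa : ∀ A, AlgSp.RepWith @IsAffineHom (εX.app A) := fun A =>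
    GrothLib.AlgSp.repWith_mono (himgX A).1 fun _ _ g (_ : IsClosedImmersion g) => (inferInstance : IsAffineHom g)
  have hεs : ∀ A, AlgSp.RepWith @IsSeparated (εX.app A) := fun A =>
    GrothLib.AlgSp.repWith_mono (himgX A).1 fun _ _ g (_ : IsClosedImmersion g) => (inferInstance : IsSeparated g)
  have hPXq : ∀ A, AlgSp.IsQuasiCompactSp (PX.obj A) ∧ AlgSp.IsQuasiSeparatedSp (PX.obj A) := fun A =>
    GrothLib.AlgSp.qc_qs_of_isAffineHom W.property (f := PXπ₂.app A) (GrothLib.AlgSp.repWith_of_isPullback (hPX A).flip.flip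
      (GrothLib.AlgSp.isAffineMor_iff.1 (hDa _ _ A.hom))) hW.1 hW.2
  have hPXa : ∀ (A B : CategoryTheory.Over i₁) (m : A ⟶ B), AlgSp.IsAffineMor (PX.map m) := fun A B m => by
    have sq : IsPullback (PX.map m) (PXπ₁.app A) (PXπ₁.app B) (D.map m.left) := by
      refine IsPullback.of_right ?_ (PXπ₁.naturality m) (hPX B).flip
      have h₁ : PX.map m ≫ PXπ₂.app B = PXπ₂.app A := (PXπ₂.naturality m).trans (Category.comp_id _)
      rw [h₁, ← D.map_comp, CategoryTheory.Over.w]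
      exact (hPX A).flip
    exact GrothLib.AlgSp.isAffineMor_iff.2 (GrothLib.AlgSp.repWith_of_isPullback sq.flip
      (GrothLib.AlgSp.isAffineMor_iff.1 (hDa _ _ m.left)))
  have hDXa : ∀ (A B : CategoryTheory.Over i₁) (m : A ⟶ B), AlgSp.IsAffineMor (DX.map m) := fun A B m =>
    GrothLib.AlgSp.isAffineMor_of_comp _ (εX.app B) (hεs B) (by
      rw [εX.naturality]
      exact GrothLib.AlgSp.isAffineMor_iff.2 (GrothLib.AlgSp.repWith_comp (hεa A)
        (GrothLib.AlgSp.isAffineMor_iff.1 (hPXa A B m))))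
  have hDXq : ∀ A, AlgSp.IsQuasiCompactSp (DX.obj A) ∧ AlgSp.IsQuasiSeparatedSp (DX.obj A) := fun A =>
    GrothLib.AlgSp.qc_qs_of_isAffineHom (hPXs A) (hεa A) (hPXq A).1 (hPXq A).2
  -- the morphism to `V` at a stage
  let k := IsCofiltered.min i₁ i₂
  let κ : CategoryTheory.Over i₁ := CategoryTheory.Over.mk (IsCofiltered.minToLeft i₁ i₂)
  let y : DX.obj κ ⟶ D.obj i₂ := εX.app κ ≫ PXπ₁.app κ ≫ D.map (IsCofiltered.minToRight i₁ i₂)
  haveI : CategoryTheory.IsConnected (CategoryTheory.Over i₁) := IsCofiltered.isConnected _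
  obtain ⟨l, φ, g, hg, hgv⟩ := GrothLib.AlgSp.LimitHom.exists_stage_hom (c := Cone.mk X.obj ξX) hDXa hlim V.property (hD i₂)
    (f := v) hv.1 hDX (fun A => (hDXq A).1) (fun A => (hDXq A).2) (f ≫ bY) κ y (by
      change (f ≫ bY) ≫ v = ξX.app κ ≫ εX.app κ ≫ PXπ₁.app κ ≫ D.map (IsCofiltered.minToRight i₁ i₂)
      rw [Category.assoc, hbY, reassoc_of% hf, ← Category.assoc (εX.app κ), ← Category.assoc (ξX.app κ), (hξX κ).1,
        Category.assoc]
      exact congrArg _ (c.w _).symm)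
  let φ₂ : l.left ⟶ i₂ := φ.left ≫ IsCofiltered.minToRight i₁ i₂
  have hgv' : g ≫ v = εX.app l ≫ PXπ₁.app l ≫ D.map φ₂ := by
    rw [hgv]
    simp only [y, φ₂]
    rw [← Category.assoc, εX.naturality, Category.assoc, ← Category.assoc (PX.map φ), PXπ₁.naturality]
    simp [Functor.map_comp]
  let A : CategoryTheory.Over l.left → CategoryTheory.Over i₁ := fun i' => (CategoryTheory.Over.map l.hom).obj i'
  let B : CategoryTheory.Over l.left → CategoryTheory.Over i₂ := fun i' => (CategoryTheory.Over.map φ₂).obj i'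
  let toL : ∀ i', A i' ⟶ l := fun i' => CategoryTheory.Over.homMk i'.hom rfl
  have hto : ∀ {i' i'' : CategoryTheory.Over l.left} (m : i' ⟶ i''),
      (CategoryTheory.Over.map l.hom).map m ≫ toL i'' = toL i' := fun m =>
    CategoryTheory.Over.OverMorphism.ext (CategoryTheory.Over.w m)
  have hh : ∀ i', ∃ h : DX.obj (A i') ⟶ PY.obj (B i'), h ≫ PYπ₁.app (B i') = εX.app (A i') ≫ PXπ₁.app (A i') ∧
      h ≫ PYπ₂.app (B i') = DX.map (toL i') ≫ g := fun i' => (hPY (B i')).exists_lift _ _ (by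
    refine Eq.trans ?_ (Category.assoc _ _ _).symm
    rw [Category.assoc, hgv', ← Category.assoc (DX.map (toL i')), εX.naturality, Category.assoc,
      ← Category.assoc (PX.map (toL i')), PXπ₁.naturality]
    simp [A, B, toL, Functor.map_comp])
  choose h hh₁ hh₂ using hh
  have hhξ : ∀ i', ξX.app (A i') ≫ h i' = (f ≫ ξY.app (B i')) ≫ εY.app (B i') := fun i' => by
    apply (hPY (B i')).hom_ext
    · rw [Category.assoc, hh₁, (hξX (A i')).1, Category.assoc, Category.assoc, (hξY (B i')).1, reassoc_of% hf]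
      rfl
    · rw [Category.assoc, hh₂, Category.assoc, Category.assoc, (hξY (B i')).2, ← Category.assoc,
        ← ξX.naturality]
      simp only [Functor.const_obj_map, Category.id_comp]
      exact hg
  have hfac : ∀ i', ∃ m : DX.obj (A i') ⟶ DY.obj (B i'), m ≫ εY.app (B i') = h i' := fun i' => by
    have hεY := (himgY (B i')).1
    have sq := IsPullback.of_hasPullback (εY.app (B i')) (h i')
    have hq : AlgSp.RepWith @IsClosedImmersion (pullback.snd (εY.app (B i')) (h i')) :=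
      GrothLib.AlgSp.repWith_of_isPullback sq hεY
    have hQ : AlgSp.IsAlgSpace (pullback (εY.app (B i')) (h i')) :=
      GrothLib.AlgSp.isAlgSpace_of_representable (hDX _) hq.1
    obtain ⟨e, he⟩ := (himgX (A i')).2.2 (pullback.snd (εY.app (B i')) (h i') ≫ εX.app (A i')) hQ
      (GrothLib.AlgSp.repWith_comp hq (himgX (A i')).1)
      ⟨pullback.lift (f ≫ ξY.app (B i')) (ξX.app (A i')) (hhξ i').symm, by rw [pullback.lift_snd_assoc]⟩
    haveI : Mono (εX.app (A i')) := GrothLib.AlgSp.mono_of_closedImmersion (himgX (A i')).1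
    have he' : e ≫ pullback.snd (εY.app (B i')) (h i') = 𝟙 _ := by
      rw [← cancel_mono (εX.app (A i')), Category.assoc, he, Category.id_comp]
    exact ⟨e ≫ pullback.fst _ _, by rw [Category.assoc, pullback.condition, ← Category.assoc, he', Category.id_comp]⟩
  choose fam₀ hfam using hfac
  have hmono : ∀ b, Mono (εY.app b) := fun b => GrothLib.AlgSp.mono_of_closedImmersion (himgY b).1
  refine ⟨l.left, l.hom, φ₂, { app := fam₀, naturality := fun i' i'' m => ?_ }, fun i' => ?_, fun i' => ?_,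
    fun gam ⟨hgam₁, hgam₂⟩ => ?_⟩
  · haveI := hmono (B i'')
    change DX.map ((CategoryTheory.Over.map l.hom).map m) ≫ fam₀ i'' = fam₀ i' ≫ DY.map ((CategoryTheory.Over.map φ₂).map m)
    rw [← cancel_mono (εY.app (B i'')), Category.assoc, Category.assoc, hfam, εY.naturality, ← Category.assoc, hfam]
    apply (hPY (B i'')).hom_ext
    · rw [Category.assoc, hh₁, Category.assoc, PYπ₁.naturality, ← Category.assoc (h i'), hh₁, ← Category.assoc,
        εX.naturality, Category.assoc, PXπ₁.naturality, Category.assoc]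
      rfl
    · rw [Category.assoc, hh₂, Category.assoc, PYπ₂.naturality, ← Category.assoc (h i'), hh₂, ← Category.assoc,
        ← DX.map_comp, hto m]
      simp
  · haveI := hmono (B i')
    rw [← cancel_mono (εY.app (B i')), Category.assoc]
    change ξX.app (A i') ≫ fam₀ i' ≫ εY.app (B i') = _
    rw [hfam, hhξ]
  · change fam₀ i' ≫ εY.app (B i') ≫ PYπ₁.app (B i') = _
    rw [← Category.assoc, hfam, hh₁]
  let top : CategoryTheory.Over l.left := CategoryTheory.Over.mk (𝟙 l.left)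
  let eA : l ⟶ A top := CategoryTheory.Over.homMk (𝟙 l.left) (by simp [A, top])
  let g' : DX.obj l ⟶ V.obj := DX.map eA ≫ gam.app top ≫ εY.app (B top) ≫ PYπ₂.app (B top)
  have hg'v : g' ≫ v = g ≫ v := by
    have hgt : gam.app top ≫ εY.app (B top) ≫ PYπ₁.app (B top) = εX.app (A top) ≫ PXπ₁.app (A top) := hgam₂ top
    simp only [g', Category.assoc]
    rw [← (hPY (B top)).w, reassoc_of% hgt, hgv', ← Category.assoc (DX.map eA), εX.naturality,
      Category.assoc, ← Category.assoc (PX.map eA), PXπ₁.naturality]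
    simp [eA, A, B, top]
  obtain ⟨j, ψ, hj⟩ := GrothLib.AlgSp.LimitHom.exists_stage_eq_space (c := Cone.mk X.obj ξX) hDXa hlim V.property (hD i₂)
    (f := v) hv.1 (hDXq l).1 g' g hg'v (by
      change ξX.app l ≫ g' = ξX.app l ≫ g
      have h₁ : ξX.app (A top) ≫ gam.app top = f ≫ ξY.app (B top) := hgam₁ top
      rw [show ξX.app l ≫ g = f ≫ bY from hg]
      simp only [g']
      rw [← Category.assoc (ξX.app l), ← ξX.naturality eA]
      erw [Category.id_comp]
      rw [reassoc_of% h₁, (hξY (B top)).2])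
  refine ⟨j.left, ψ.left, fun J => ?_⟩
  let i' : CategoryTheory.Over l.left := (CategoryTheory.Over.map ψ.left).obj J
  haveI := hmono (B i')
  change fam₀ i' = gam.app i'
  rw [← cancel_mono (εY.app (B i')), hfam]
  have h₁ : gam.app i' ≫ εY.app (B i') ≫ PYπ₁.app (B i') = εX.app (A i') ≫ PXπ₁.app (A i') := hgam₂ i'
  apply (hPY (B i')).hom_ext
  · rw [hh₁, Category.assoc, h₁]
  · let m : i' ⟶ top := CategoryTheory.Over.homMk i'.hom (Category.comp_id _)
    let m' : A i' ⟶ j := CategoryTheory.Over.homMk J.hom (by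
      change J.hom ≫ j.hom = (J.hom ≫ ψ.left) ≫ l.hom
      rw [Category.assoc, CategoryTheory.Over.w ψ])
    have hm : toL i' = m' ≫ ψ := CategoryTheory.Over.OverMorphism.ext rfl
    have hm' : (CategoryTheory.Over.map l.hom).map m = toL i' ≫ eA :=
      CategoryTheory.Over.OverMorphism.ext (by simp [m, toL, eA])
    have hn : DX.map ((CategoryTheory.Over.map l.hom).map m) ≫ gam.app top =
        gam.app i' ≫ DY.map ((CategoryTheory.Over.map φ₂).map m) := gam.naturality m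
    rw [hh₂, hm, DX.map_comp, Category.assoc, ← hj]
    simp only [g']
    rw [← DX.map_comp_assoc, ← DX.map_comp_assoc, ← hm, ← hm', reassoc_of% hn, ← Category.assoc (DY.map _),
      εY.naturality, Category.assoc, PYπ₂.naturality]
    simp [A, B]

end Groth.Agent.S10074
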