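import Groth.Statements.S10075
import Groth.Agent.Lib.AlgSp.LimitPoints
-- import your own Groth.Agent.* helpers here

set_option autoImplicit false
universe u
open CategoryTheory CategoryTheory.Limits AlgebraicGeometry
open AlgSp GrothLib.AlgSp
set_option backward.isDefEq.respectTransparency false

namespace Groth.Agent.S10075

/-- Let `X` be the limit, in fppf sheaves over `S`, of a cofiltered system `(X_i)` of decent algebraic
spaces over `S` with affine transition morphisms, and `x ∈ |X|` with images `x_i ∈ |X_i|`. Then the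
closure of `x` is the limit of the closures of the `x_i` as sets, and, endowing these closures with
their reduced induced subspace structures `Z ⊂ X`, `Z_i ⊂ X_i` (with the induced maps), `Z = lim
Z_i` as algebraic spaces. -/
theorem result (S : Scheme.{u}) {I : Type u} [SmallCategory I] [IsCofiltered I]
    (D : I ⥤ AlgSp.Sp S) (hD : ∀ i, AlgSp.IsAlgSpace (D.obj i))
    (hDa : ∀ (i j : I) (φ : i ⟶ j), AlgSp.IsAffineMor (D.map φ))
    (c : Cone D) (hc : IsLimit c)
    (hdec : ∀ i, AlgSp.IsDecent (D.obj i))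
    (x : AlgSp.Points c.pt) :
    closure {x} = {x' | ∀ i, AlgSp.Points.map (c.π.app i) x' ∈ closure {AlgSp.Points.map (c.π.app i) x}} ∧
    ∀ (Z : AlgSp.Space S) (zι : Z.obj ⟶ c.pt) (_ : AlgSp.IsRedInduced (closure {x}) zι)
      (DZ : I ⥤ AlgSp.Sp S) (_ : ∀ i, AlgSp.IsAlgSpace (DZ.obj i)) (ι : DZ ⟶ D)
      (_ : ∀ i, AlgSp.IsRedInduced (closure {AlgSp.Points.map (c.π.app i) x}) (ι.app i))
      (ξ : (Functor.const I).obj Z.obj ⟶ DZ) (_ : ∀ i, ξ.app i ≫ ι.app i = zι ≫ c.π.app i),
      Nonempty (IsLimit (Cone.mk Z.obj ξ)) := by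
  exact ⟨closure_singleton_eq hD hDa hc x, fun Z zι hz DZ hDZ ι hι ξ hξ =>
    nonempty_isLimit_redInduced hD hDa hc x zι hz hDZ ι hι ξ hξ⟩

end Groth.Agent.S10075
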