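import Groth.Statements.S10076
import Groth.Agent.Lib.AlgSp.DenseAffImmersion

set_option autoImplicit false
set_option backward.isDefEq.respectTransparency false
universe u
open CategoryTheory CategoryTheory.Limits AlgebraicGeometry
open AlgSp

namespace Groth.Agent.S10076

/-- Let `X` be a Noetherian algebraic space over `S` (quasi-compact and quasi-separated over `S`,
locally Noetherian) and `f : Y ⟶ X` of finite presentation. Then there are a dense open subspace `V
⊂ Y`, an `n`, and an immersion `V ⟶ 𝐀^n_X = X ×_S 𝐀^n_S` over `X`. (The published statement allows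
any base scheme and uses absolute quasi-separatedness; this row assumes the base quasi-separated,
over which quasi-separatedness relative to the base is the absolute notion.) -/
theorem result (S : Scheme.{u}) [QuasiSeparatedSpace S]
    {Y X : AlgSp.Space S} (f : Y ⟶ X) (hf : AlgSp.IsFinitePresentationMor f.hom)
    (hXqc : AlgSp.IsQuasiCompactSp X.obj) (hXqs : AlgSp.IsQuasiSeparatedSp X.obj) (hXln : AlgSp.IsLocNoethSp X.obj) :
    ∃ (V : AlgSp.Space S) (j : V ⟶ Y) (n : ℕ)
      (i : V.obj ⟶ X.obj ⨯ (AlgSp.yon S).obj (Over.mk (𝔸(ULift.{u} (Fin n); S) ↘ S))),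
      AlgSp.RepWith @IsOpenImmersion j.hom ∧ Dense (Set.range (AlgSp.Points.map j.hom)) ∧
      i ≫ prod.fst = j.hom ≫ f.hom ∧ AlgSp.RepWith @IsImmersion i := by
  exact GrothLib.AlgSp.DenseAff.exists_dense_affine_immersion f hf hXqc hXqs hXln

end Groth.Agent.S10076
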