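import Groth.Statements.S10077
import Groth.Agent.Lib.AlgSp.LimitHomSpace
import Groth.Agent.Lib.AlgSp.LimitEventually

set_option autoImplicit false
set_option backward.isDefEq.respectTransparency false
universe u
open CategoryTheory CategoryTheory.Limits AlgebraicGeometry
open AlgSp

namespace Groth.Agent.S10077

/-- A morphism `f : X ⟶ Y` of algebraic spaces over `S` is locally of finite presentation if and only if
for every directed limit `T = lim T_i` of algebraic spaces over `S`, each quasi-compact and
quasi-separated over `S`, with affine transition maps, the square formed by `colim Mor(T_i, X) →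
Mor(T, X)`, `colim Mor(T_i, Y) → Mor(T, Y)` and composition with `f` is cartesian in sets. (The
published statement allows any base scheme and uses absolute quasi-separatedness; this row assumes
the base quasi-separated, over which quasi-separatedness relative to the base is the absolute
notion.) -/
theorem result (S : Scheme.{u}) [QuasiSeparatedSpace S]
    {X Y : AlgSp.Space S} (f : X ⟶ Y) :
    AlgSp.LocP @LocallyOfFinitePresentation f.hom ↔
      ∀ ⦃I : Type u⦄ [SmallCategory I] [IsCofiltered I] (D : I ⥤ AlgSp.Sp S),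
        (∀ i, AlgSp.IsAlgSpace (D.obj i)) → (∀ (i j : I) (φ : i ⟶ j), AlgSp.IsAffineMor (D.map φ)) →
        (∀ i, AlgSp.IsQuasiCompactSp (D.obj i)) → (∀ i, AlgSp.IsQuasiSeparatedSp (D.obj i)) →
        ∀ (c : Cone D) (_ : IsLimit c),
          IsPullback (colimMap (Functor.whiskerLeft D.op (yoneda.map f.hom)))
            (colimit.desc (D.op ⋙ yoneda.obj X.obj) ((yoneda.obj X.obj).mapCocone c.op))
            (colimit.desc (D.op ⋙ yoneda.obj Y.obj) ((yoneda.obj Y.obj).mapCocone c.op))
            ((yoneda.map f.hom).app (Opposite.op c.pt)) := by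
  classical
  constructor
  · intro hf I _ _ D hD hDa hqc hqs c hc
    rw [Types.isPullback_iff]
    refine ⟨?_, ?_, ?_⟩
    · refine colimit.hom_ext fun i => ?_
      rw [ι_colimMap_assoc, colimit.ι_desc, colimit.ι_desc_assoc]
      ext x
      exact (Category.assoc _ _ _).symm
    · rintro a b ⟨h₁, h₂⟩
      obtain ⟨i, a, rfl⟩ := Types.jointly_surjective' a
      obtain ⟨i', b, rfl⟩ := Types.jointly_surjective' b
      have e₁ : colimit.ι (D.op ⋙ yoneda.obj Y.obj) i (a ≫ f.hom) = colimit.ι (D.op ⋙ yoneda.obj Y.obj) i' (b ≫ f.hom) := by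
        have ha := congrArg (fun m => m a) (ι_colimMap (Functor.whiskerLeft D.op (yoneda.map f.hom)) i)
        have hb := congrArg (fun m => m b) (ι_colimMap (Functor.whiskerLeft D.op (yoneda.map f.hom)) i')
        exact (ha.symm.trans h₁).trans hb
      obtain ⟨k, u, v, huv⟩ := (Types.FilteredColimit.colimit_eq_iff _).1 e₁
      have e₂ : c.π.app i.unop ≫ a = c.π.app i'.unop ≫ b := by
        have ha := congrArg (fun m => m a) (colimit.ι_desc ((yoneda.obj X.obj).mapCocone c.op) i)
        have hb := congrArg (fun m => m b) (colimit.ι_desc ((yoneda.obj X.obj).mapCocone c.op) i')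
        exact (ha.symm.trans h₂).trans hb
      obtain ⟨j, φ, hj⟩ := GrothLib.AlgSp.LimitHom.exists_stage_eq_space hDa hc X.property Y.property hf (hqc k.unop)
        (D.map u.unop ≫ a) (D.map v.unop ≫ b)
        (by rw [Category.assoc, Category.assoc]; exact huv)
        (by rw [← Category.assoc, ← Category.assoc, c.w, c.w]; exact e₂)
      refine (Types.FilteredColimit.colimit_eq_iff _).2 ⟨Opposite.op j, u ≫ φ.op, v ≫ φ.op, ?_⟩
      change D.map (φ ≫ u.unop) ≫ a = D.map (φ ≫ v.unop) ≫ b
      rw [D.map_comp, D.map_comp, Category.assoc, Category.assoc, hj]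
    · intro y x hxy
      obtain ⟨i, y, rfl⟩ := Types.jointly_surjective' y
      have hy := congrArg (fun m => m y) (colimit.ι_desc ((yoneda.obj Y.obj).mapCocone c.op) i)
      have hxy' : (x : c.pt ⟶ X.obj) ≫ f.hom = c.π.app i.unop ≫ y := (hxy.symm.trans hy)
      obtain ⟨j, φ, x', hx, hxf⟩ := GrothLib.AlgSp.LimitHom.exists_stage_hom hDa hc X.property Y.property hf hD hqc
        hqs x i.unop y hxy'
      refine ⟨colimit.ι (D.op ⋙ yoneda.obj X.obj) (Opposite.op j) x', ?_, ?_⟩
      · have ha := congrArg (fun m => m x') (ι_colimMap (Functor.whiskerLeft D.op (yoneda.map f.hom)) (Opposite.op j))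
        refine ha.trans ((Types.FilteredColimit.colimit_eq_iff _).2 ⟨Opposite.op j, 𝟙 _, φ.op, ?_⟩)
        change D.map (𝟙 j) ≫ x' ≫ f.hom = D.map φ ≫ y
        rw [D.map_id, Category.id_comp, hxf]
      · exact (congrArg (fun m => m x') (colimit.ι_desc ((yoneda.obj X.obj).mapCocone c.op) (Opposite.op j))).trans hx
  · intro h
    refine GrothLib.AlgSp.locP_lfp_of_lifts X.property Y.property f.hom fun I _ _ D c hc hD hT x i y hxy => ?_
    haveI : CategoryTheory.IsConnected I := IsCofiltered.isConnected _
    haveI := hD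
    have hc' : IsLimit ((AlgSp.yon S).mapCone c) :=
      isLimitOfPreserves (AlgSp.yon S) (isLimitOfReflects (Over.forget S) hc)
    have hsq := h (D ⋙ AlgSp.yon S) (fun i => AlgSp.IsAlgSpace.yon_obj _)
      (fun j k φ => GrothLib.AlgSp.isAffineMor_iff.2 ((AlgSp.repWith_yon_map_iff _ _).2
        (inferInstanceAs (IsAffineHom (D.map φ).left))))
      (fun j => GrothLib.AlgSp.isQuasiCompactSp_yon _) (fun j => GrothLib.AlgSp.isQuasiSeparatedSp_yon_of_isAffine _) _ hc'
    have hy := congrArg (fun m => m y)
      (colimit.ι_desc ((yoneda.obj Y.obj).mapCocone ((AlgSp.yon S).mapCone c).op) (Opposite.op i))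
    obtain ⟨z, hz₁, hz₂⟩ := Types.exists_of_isPullback hsq
      (colimit.ι ((D ⋙ AlgSp.yon S).op ⋙ yoneda.obj Y.obj) (Opposite.op i) y) x (hy.trans hxy.symm)
    obtain ⟨j, z, rfl⟩ := Types.jointly_surjective' z
    have ha := congrArg (fun m => m z) (ι_colimMap (Functor.whiskerLeft (D ⋙ AlgSp.yon S).op (yoneda.map f.hom)) j)
    obtain ⟨k, u, v, huv⟩ := (Types.FilteredColimit.colimit_eq_iff _).1 (ha.symm.trans hz₁)
    refine ⟨k.unop, v.unop, (AlgSp.yon S).map (D.map u.unop) ≫ z, ?_, ?_⟩
    · rw [← Functor.map_comp_assoc, c.w]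
      exact (congrArg (fun m => m z) (colimit.ι_desc ((yoneda.obj X.obj).mapCocone ((AlgSp.yon S).mapCone c).op) j)).symm.trans hz₂
    · rw [Category.assoc]
      exact huv

end Groth.Agent.S10077
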