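import Groth.Statements.S10078
import Groth.Agent.Lib.AlgSp.QCohFPColim

set_option autoImplicit false
set_option backward.isDefEq.respectTransparency false
universe u
open CategoryTheory CategoryTheory.Limits AlgebraicGeometry Opposite
open AlgSp

open GrothLib.AlgSp GrothLib.AlgSp.QCohEt

noncomputable section

namespace Groth.Agent.S10078

variable {S : Scheme.{u}} [QuasiSeparatedSpace ↥S] {X : Sp S} (hX : IsAlgSpace X) (hqc : IsQuasiCompactSp X)
  (hqs : IsQuasiSeparatedSp X) {U : Over S} [IsAffine U.left] (a : (yon S).obj U ⟶ X) (ha : RepWith @Etale a)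
  (hs : RepWith @Surjective a) (M : ModEt X) [M.IsQuasicoherent]

structure Idx : Type (u + 1) where
  n : Finset (Sec (O := OEt X) M (atlasObj a ha))
  m : Finset (Sec (O := OEt X) (kernel (genEv hX hqc hqs a ha M n)) (atlasObj a ha))

variable {hX hqc hqs a ha M}

abbrev Idx.obj (i : Idx hX hqc hqs a ha M) : ModEt X := fpQuot hX hqc hqs a ha M i.n i.m

abbrev Idx.π (i : Idx hX hqc hqs a ha M) : genObj hX hqc hqs a ha M i.n ⟶ i.obj := fpQuotπ hX hqc hqs a ha M i.n i.m

abbrev Idx.rel (i : Idx hX hqc hqs a ha M) := relMap hX hqc hqs a ha M i.n i.m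

theorem Idx.rel_π (i : Idx hX hqc hqs a ha M) : i.rel ≫ i.π = 0 := cokernel.condition _

def Idx.Rel (i j : Idx hX hqc hqs a ha M) : Prop :=
  ∃ h : i.n ⊆ j.n, i.rel ≫ genInc hX hqc hqs a ha M h ≫ j.π = 0

def Idx.map {i j : Idx hX hqc hqs a ha M} (h : i.Rel j) : i.obj ⟶ j.obj :=
  cokernel.desc _ (genInc hX hqc hqs a ha M h.1 ≫ j.π) h.2

theorem Idx.π_map {i j : Idx hX hqc hqs a ha M} (h : i.Rel j) :
    i.π ≫ Idx.map h = genInc hX hqc hqs a ha M h.1 ≫ j.π := cokernel.π_desc _ _ _

instance : Preorder (Idx hX hqc hqs a ha M) where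
  le i j := i.Rel j
  le_refl i := ⟨Finset.Subset.refl _, by rw [genInc_refl, Category.id_comp]; exact i.rel_π⟩
  le_trans i j k := fun h h' => ⟨h.1.trans h'.1, by
    rw [← genInc_comp hX hqc hqs a ha M h.1 h'.1, Category.assoc, ← Idx.π_map h']
    exact (by simp only [← Category.assoc] : _ = (i.rel ≫ genInc hX hqc hqs a ha M h.1 ≫ j.π) ≫ Idx.map h').trans
      (by rw [h.2, zero_comp])⟩

variable (hX hqc hqs a ha M)

def sys : Idx hX hqc hqs a ha M ⥤ ModEt X where
  obj i := i.obj
  map g := Idx.map (leOfHom g)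
  map_id i := (cancel_epi i.π).1 (by rw [Idx.π_map, genInc_refl, Category.id_comp, Category.comp_id])
  map_comp {i j k} g g' := (cancel_epi i.π).1 (by
    rw [Idx.π_map, ← Category.assoc, Idx.π_map, Category.assoc, Idx.π_map, ← Category.assoc, genInc_comp])

def sysCocone : Cocone (sys hX hqc hqs a ha M) where
  pt := M
  ι :=
    { app := fun i => fpLeg hX hqc hqs a ha M i.n i.m
      naturality := fun i j g => (cancel_epi i.π).1 (by
        show i.π ≫ Idx.map (leOfHom g) ≫ fpLeg hX hqc hqs a ha M j.n j.m = i.π ≫ fpLeg hX hqc hqs a ha M i.n i.m ≫ 𝟙 M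
        rw [← Category.assoc, Idx.π_map, Category.assoc, fpQuotπ_leg, genInc_ev, Category.comp_id, fpQuotπ_leg]) }

include hs in
theorem exists_bound {n₀ n : Finset (Sec (O := OEt X) M (atlasObj a ha))} (h : n₀ ⊆ n)
    (m₀ : Finset (Sec (O := OEt X) (kernel (genEv hX hqc hqs a ha M n₀)) (atlasObj a ha))) :
    ∃ m₁, ∀ m, m₁ ⊆ m →
      relMap hX hqc hqs a ha M n₀ m₀ ≫ genInc hX hqc hqs a ha M h ≫ fpQuotπ hX hqc hqs a ha M n m = 0 := by
  let k : genObj hX hqc hqs a ha (kernel (genEv hX hqc hqs a ha M n₀)) m₀ ⟶ kernel (genEv hX hqc hqs a ha M n) :=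
    kernel.lift _ (relMap hX hqc hqs a ha M n₀ m₀ ≫ genInc hX hqc hqs a ha M h) (by
      rw [Category.assoc, genInc_ev, relMap, Category.assoc, kernel.condition, comp_zero])
  obtain ⟨m₁, hm₁⟩ := exists_rel_zero hX hqc hqs a ha hs M n k
  refine ⟨m₁, fun m hm => ?_⟩
  have hk := hm₁ m hm
  rw [← Category.assoc, kernel.lift_ι, Category.assoc] at hk
  exact hk

include hs in
theorem isFiltered_idx : IsFiltered (Idx hX hqc hqs a ha M) := by
  classical
  haveI : Nonempty (Idx hX hqc hqs a ha M) := ⟨⟨∅, ∅⟩⟩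
  haveI : IsDirected (Idx hX hqc hqs a ha M) (· ≤ ·) := ⟨fun i j => by
    obtain ⟨m₁, h₁⟩ := exists_bound hX hqc hqs a ha hs M (Finset.subset_union_left : i.n ⊆ i.n ∪ j.n) i.m
    obtain ⟨m₂, h₂⟩ := exists_bound hX hqc hqs a ha hs M (Finset.subset_union_right : j.n ⊆ i.n ∪ j.n) j.m
    exact ⟨⟨i.n ∪ j.n, m₁ ∪ m₂⟩, ⟨Finset.subset_union_left, h₁ _ Finset.subset_union_left⟩,
      ⟨Finset.subset_union_right, h₂ _ Finset.subset_union_right⟩⟩⟩
  infer_instance

include hs in
theorem isColimit_sys : Nonempty (IsColimit (sysCocone hX hqc hqs a ha M)) := by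
  classical
  haveI := isFiltered_idx hX hqc hqs a ha hs M
  refine nonempty_isColimit_of_locally (O := OEt X) (sysCocone hX hqc hqs a ha M) (fun V x => ?_) fun i W y hy => ?_
  · obtain ⟨T, hT, hT'⟩ := exists_fpLeg_local hX hqc hqs a ha hs M V x
    refine ⟨T, hT, fun Z z hz => ?_⟩
    obtain ⟨s, hs'⟩ := hT' z hz
    obtain ⟨w, hw⟩ := hs' s (Finset.Subset.refl s)
    refine ⟨⟨s, ∅⟩, app (O := OEt X) (fpQuotπ hX hqc hqs a ha M s ∅) Z w, ?_⟩
    show app (O := OEt X) (fpLeg hX hqc hqs a ha M s ∅) Z _ = _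
    rw [← app_comp, fpQuotπ_leg]
    exact hw
  · obtain ⟨T, hT, hT'⟩ := exists_fpQuot_kill hX hqc hqs a ha hs M i.n i.m W y hy
    refine ⟨T, hT, fun Z z hz => ?_⟩
    obtain ⟨s, hs'⟩ := hT' z hz
    let q : Idx hX hqc hqs a ha M := ⟨i.n, i.m ∪ s⟩
    have hiq : i ≤ q := ⟨Finset.Subset.refl _, by
      rw [genInc_refl, Category.id_comp]
      exact fpQuot_map_exists hX hqc hqs a ha M i.n i.m Finset.subset_union_left⟩
    refine ⟨q, homOfLE hiq, hs' (i.m ∪ s) Finset.subset_union_right _ ?_⟩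
    show i.π ≫ Idx.map hiq = _
    rw [Idx.π_map, genInc_refl, Category.id_comp]

/-- Let `S` be a quasi-separated scheme and `X` an algebraic space over `S`, quasi-compact and
quasi-separated over `S`. Then every quasi-coherent `O_X`-module `M` on the small etale site of `X`
is a filtered colimit of `O_X`-modules of finite presentation: some diagram of finitely presented
modules indexed by a small filtered category has a colimit cocone with vertex `M`. (The published
statement allows any base scheme and uses absolute quasi-separatedness; this row assumes the base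
quasi-separated, over which quasi-separatedness relative to the base is the absolute notion.) -/
theorem result {S : Scheme.{u}} [QuasiSeparatedSpace ↥S]
    (X : AlgSp.Space S) (hqc : AlgSp.IsQuasiCompactSp X.obj) (hqs : AlgSp.IsQuasiSeparatedSp X.obj)
    (M : AlgSp.ModEt X.obj) [M.IsQuasicoherent] :
    ∃ (J : Type (u + 1)) (_ : SmallCategory J) (_ : IsFiltered J) (D : J ⥤ AlgSp.ModEt X.obj)
      (ι : D ⟶ (Functor.const J).obj M),
      (∀ j, (D.obj j).IsFinitePresentation) ∧ Nonempty (IsColimit (Cocone.mk M ι)) := by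
  obtain ⟨U, a, hU, ha, hs⟩ := GrothLib.AlgSp.exists_affine_atlas_of_qc hqc
  haveI := hU
  exact ⟨Idx X.property hqc hqs a ha M, inferInstance, isFiltered_idx X.property hqc hqs a ha hs M,
    sys X.property hqc hqs a ha M, (sysCocone X.property hqc hqs a ha M).ι,
    fun i => isFinitePresentation_fpQuot X.property hqc hqs a ha M i.n i.m,
    isColimit_sys X.property hqc hqs a ha hs M⟩

end Groth.Agent.S10078
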