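import Groth.Statements.S10079
import Groth.Agent.Lib.AlgSp.QCohImage

set_option autoImplicit false
set_option backward.isDefEq.respectTransparency false
universe u
open CategoryTheory CategoryTheory.Limits AlgebraicGeometry Opposite
open AlgSp

open GrothLib.AlgSp.QCohEt

namespace Groth.Agent.S10079

theorem exists_sub {S : Scheme.{u}} [QuasiSeparatedSpace ↥S]
    {X : AlgSp.Space S} (hqs : AlgSp.IsQuasiSeparatedSp X.obj) (hqc : AlgSp.IsQuasiCompactSp X.obj)
    (M : AlgSp.ModEt X.obj) [M.IsQuasicoherent]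
    (P : ObjectProperty (Subobject M))
    (mk : ∀ {K : AlgSp.ModEt X.obj} (i : K ⟶ M) [Mono i], K.IsQuasicoherent → K.IsFiniteType → P (Subobject.mk i))
    {E₀ : AlgSp.EtOver X.obj} (hE₀ : IsAffine E₀.obj.left.left) (x : Sec (O := AlgSp.OEt X.obj) M E₀) :
    ∃ (p : P.FullSubcategory) (y : Sec (O := AlgSp.OEt X.obj) (Subobject.underlying.obj p.obj) E₀),
      app (O := AlgSp.OEt X.obj) p.obj.arrow E₀ y = x := by
  obtain ⟨Q, i, hi, hQ, hQf, ⟨y, hy⟩, -⟩ := exists_finiteType_submodule hqs X.property hqc M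
    isOpen_empty isCompact_empty (finOn_empty M) hE₀ x
  haveI := hi
  refine ⟨⟨Subobject.mk i, mk i hQ hQf⟩, app (O := AlgSp.OEt X.obj) (Subobject.underlyingIso i).inv E₀ y, ?_⟩
  rw [← app_comp, Subobject.underlyingIso_arrow, hy]

theorem colimit_aux {S : Scheme.{u}} [QuasiSeparatedSpace ↥S]
    {X : AlgSp.Space S} (hqs : AlgSp.IsQuasiSeparatedSp X.obj) (hqc : AlgSp.IsQuasiCompactSp X.obj)
    (M : AlgSp.ModEt X.obj) [M.IsQuasicoherent]
    (P : ObjectProperty (Subobject M)) [IsFiltered P.FullSubcategory]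
    (mk : ∀ {K : AlgSp.ModEt X.obj} (i : K ⟶ M) [Mono i], K.IsQuasicoherent → K.IsFiniteType → P (Subobject.mk i))
    (ι : P.ι ⋙ Subobject.underlying ⟶ (Functor.const P.FullSubcategory).obj M)
    (hι : ∀ N : P.FullSubcategory, ι.app N = N.obj.arrow) :
    Nonempty (IsColimit (Cocone.mk M ι)) := by
  haveI : ∀ p : P.FullSubcategory, Mono (ι.app p) := fun p => by rw [hι]; infer_instance
  refine nonempty_isColimit_of_exhaustive (O := AlgSp.OEt X.obj) (Cocone.mk M ι) fun V x => ?_
  obtain ⟨T, hT, hT'⟩ := affCovers_affEt (X := X.obj) V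
  refine ⟨T, hT, fun Z z hz => ?_⟩
  obtain ⟨W, π, b, hW, rfl⟩ := hT' z hz
  obtain ⟨p, y, hy⟩ := exists_sub hqs hqc M P mk hW (mres (O := AlgSp.OEt X.obj) M b x)
  refine ⟨p, mres (O := AlgSp.OEt X.obj) (Subobject.underlying.obj p.obj) π y, ?_⟩
  change app (O := AlgSp.OEt X.obj) (ι.app p) Z _ = _
  rw [hι]
  refine ((app_mres (O := AlgSp.OEt X.obj) p.obj.arrow π y).trans ?_)
  rw [hy]
  exact (mres_comp (O := AlgSp.OEt X.obj) M b π x).symm

/-- Let `S` be a quasi-separated scheme, `X` an algebraic space over `S`, quasi-compact and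
quasi-separated over `S`, and `M` a quasi-coherent `O_X`-module on the small etale site of `X`. Then
the subobjects of `M` whose underlying module is quasi-coherent of finite type form a directed
(filtered, nonempty) partial order, and the cocone of their inclusion arrows exhibits `M` as the
colimit of these submodules. (The published statement allows any base scheme and uses absolute
quasi-separatedness; this row assumes the base quasi-separated, over which quasi-separatedness
relative to the base is the absolute notion.) -/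
theorem result {S : Scheme.{u}} [QuasiSeparatedSpace ↥S]
    (X : AlgSp.Space S) (hqc : AlgSp.IsQuasiCompactSp X.obj) (hqs : AlgSp.IsQuasiSeparatedSp X.obj)
    (M : AlgSp.ModEt X.obj) [M.IsQuasicoherent]
    (P : ObjectProperty (Subobject M))
    (hP : P = fun N => (Subobject.underlying.obj N).IsQuasicoherent ∧ (Subobject.underlying.obj N).IsFiniteType)
    (ι : P.ι ⋙ Subobject.underlying ⟶ (Functor.const P.FullSubcategory).obj M)
    (hι : ∀ N : P.FullSubcategory, ι.app N = N.obj.arrow) :
    IsFiltered P.FullSubcategory ∧ Nonempty (IsColimit (Cocone.mk M ι)) := by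
  classical
  subst hP
  let P : ObjectProperty (Subobject M) := fun N =>
    (Subobject.underlying.obj N).IsQuasicoherent ∧ (Subobject.underlying.obj N).IsFiniteType
  have mk : ∀ {K : AlgSp.ModEt X.obj} (i : K ⟶ M) [Mono i], K.IsQuasicoherent → K.IsFiniteType → P (Subobject.mk i) :=
    fun {K} i _ h₁ h₂ =>
      haveI := h₁
      haveI := h₂
      ⟨isQuasicoherent_of_iso (Subobject.underlyingIso i).symm, isFiniteType_of_iso (Subobject.underlyingIso i).symm⟩
  obtain ⟨U, a, hU, ha, -⟩ := GrothLib.AlgSp.exists_affine_atlas_of_qc hqc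
  obtain ⟨p₀, -, -⟩ := exists_sub hqs hqc M P (fun {K} i _ h₁ h₂ => mk i h₁ h₂) (E₀ := AlgSp.EtOver.mk a ha) hU 0
  haveI : Nonempty P.FullSubcategory := ⟨p₀⟩
  haveI : IsFilteredOrEmpty P.FullSubcategory :=
    { cocone_objs := fun p q => by
        haveI := p.property.1
        haveI := p.property.2
        haveI := q.property.1
        haveI := q.property.2
        obtain ⟨K, i, ka, kb, hi, hK, hKf, hka, hkb⟩ := exists_sup p.obj.arrow q.obj.arrow
        haveI := hi
        exact ⟨⟨Subobject.mk i, mk i hK hKf⟩, ObjectProperty.homMk (homOfLE (Subobject.le_mk_of_comm ka hka)),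
          ObjectProperty.homMk (homOfLE (Subobject.le_mk_of_comm kb hkb)), trivial⟩
      cocone_maps := fun _ q f g => ⟨q, 𝟙 q, congrArg (· ≫ 𝟙 q) (InducedCategory.hom_ext (Subsingleton.elim _ _))⟩ }
  haveI : IsFiltered P.FullSubcategory := ⟨⟩
  exact ⟨inferInstance, colimit_aux hqs hqc M _ (fun {K} i _ h₁ h₂ => mk i h₁ h₂) ι hι⟩

end Groth.Agent.S10079
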