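import Groth.Statements.S10080
import Groth.Agent.Lib.AlgSp.QCohFPColim

set_option autoImplicit false
set_option backward.isDefEq.respectTransparency false
universe u
open CategoryTheory CategoryTheory.Limits AlgebraicGeometry Opposite
open AlgSp

open GrothLib.AlgSp GrothLib.AlgSp.QCohEt

noncomputable section

namespace Groth.Agent.S10080

variable {S : Scheme.{u}} [QuasiSeparatedSpace ↥S] {X : Sp S} (hX : IsAlgSpace X) (hqc : IsQuasiCompactSp X)
  (hqs : IsQuasiSeparatedSp X) {U : Over S} [IsAffine U.left] (a : (yon S).obj U ⟶ X) (ha : RepWith @Etale a)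
  (hs : RepWith @Surjective a) (M : ModEt X) [M.IsQuasicoherent]
  (n : Finset (Sec (O := OEt X) M (atlasObj a ha)))

abbrev Rel : Type (u + 1) :=
  Finset (Sec (O := OEt X) (kernel (genEv hX hqc hqs a ha M n)) (atlasObj a ha))

def quotMap {m m' : Rel hX hqc hqs a ha M n} (h : m ⊆ m') :
    fpQuot hX hqc hqs a ha M n m ⟶ fpQuot hX hqc hqs a ha M n m' :=
  cokernel.desc _ (fpQuotπ hX hqc hqs a ha M n m') (fpQuot_map_exists hX hqc hqs a ha M n m h)

theorem π_quotMap {m m' : Rel hX hqc hqs a ha M n} (h : m ⊆ m') :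
    fpQuotπ hX hqc hqs a ha M n m ≫ quotMap hX hqc hqs a ha M n h = fpQuotπ hX hqc hqs a ha M n m' :=
  cokernel.π_desc _ _ _

def quotFunctor : Rel hX hqc hqs a ha M n ⥤ ModEt X where
  obj m := fpQuot hX hqc hqs a ha M n m
  map g := quotMap hX hqc hqs a ha M n (leOfHom g)
  map_id m := (cancel_epi (fpQuotπ hX hqc hqs a ha M n m)).1 ((π_quotMap _ _ _ _ _ _ _ _).trans (Category.comp_id _).symm)
  map_comp {m m' m''} g g' := (cancel_epi (fpQuotπ hX hqc hqs a ha M n m)).1 (by
    rw [π_quotMap, ← Category.assoc, π_quotMap, π_quotMap])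

def quotCocone : Cocone (quotFunctor hX hqc hqs a ha M n) where
  pt := M
  ι :=
    { app := fun m => fpLeg hX hqc hqs a ha M n m
      naturality := fun m m' g => (cancel_epi (fpQuotπ hX hqc hqs a ha M n m)).1 (by
        show fpQuotπ hX hqc hqs a ha M n m ≫ quotMap hX hqc hqs a ha M n (leOfHom g) ≫ fpLeg hX hqc hqs a ha M n m' =
          fpQuotπ hX hqc hqs a ha M n m ≫ fpLeg hX hqc hqs a ha M n m ≫ 𝟙 M
        rw [← Category.assoc, π_quotMap, Category.comp_id, fpQuotπ_leg, fpQuotπ_leg]) }

include hs in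
theorem isColimit_quotCocone
    (hn : Submodule.span (Ob (OEt X) (atlasObj a ha)) (n : Set (Sec (O := OEt X) M (atlasObj a ha))) = ⊤) :
    Nonempty (IsColimit (quotCocone hX hqc hqs a ha M n)) := by
  classical
  haveI : IsFiltered (Rel hX hqc hqs a ha M n) := by
    haveI : Nonempty (Rel hX hqc hqs a ha M n) := ⟨∅⟩
    infer_instance
  refine nonempty_isColimit_of_locally (O := OEt X) (quotCocone hX hqc hqs a ha M n) (fun V x => ?_) fun m W y hy => ?_
  · obtain ⟨T, hT, hT'⟩ := exists_local_span a ha hs M V x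
    refine ⟨T, hT, fun Z z hz => ?_⟩
    obtain ⟨g, s, hx⟩ := hT' z hz
    have hle : Submodule.span (Ob (OEt X) Z) (mres (O := OEt X) M g '' (s : Set _)) ≤
        Submodule.span (Ob (OEt X) Z) (mres (O := OEt X) M g '' (n : Set _)) := by
      rw [Submodule.span_le]
      rintro _ ⟨v, -, rfl⟩
      have hv : v ∈ Submodule.span (Ob (OEt X) (atlasObj a ha)) (n : Set (Sec (O := OEt X) M (atlasObj a ha))) := by
        rw [hn]; trivial
      induction hv using Submodule.span_induction with
      | mem p hp => exact Submodule.subset_span ⟨p, hp, rfl⟩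
      | zero => rw [map_zero]; exact zero_mem _
      | add p q _ _ hp hq => rw [map_add]; exact add_mem hp hq
      | smul c p _ hp => exact (mres_smul (O := OEt X) M g c p).symm ▸ Submodule.smul_mem _ _ hp
    obtain ⟨w, hw⟩ := span_le_range_genEv hX hqc hqs a ha M g (hle hx)
    refine ⟨∅, app (O := OEt X) (fpQuotπ hX hqc hqs a ha M n ∅) Z w, ?_⟩
    show app (O := OEt X) (fpLeg hX hqc hqs a ha M n ∅) Z _ = _
    rw [← app_comp, fpQuotπ_leg]
    exact hw
  · obtain ⟨T, hT, hT'⟩ := exists_fpQuot_kill hX hqc hqs a ha hs M n m W y hy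
    refine ⟨T, hT, fun Z z hz => ?_⟩
    obtain ⟨s, hs'⟩ := hT' z hz
    exact ⟨m ∪ s, homOfLE Finset.subset_union_left,
      hs' (m ∪ s) Finset.subset_union_right _ (π_quotMap hX hqc hqs a ha M n Finset.subset_union_left)⟩

/-- Let `S` be a quasi-separated scheme, `X` an algebraic space over `S`, quasi-compact and
quasi-separated over `S`, and `M` a quasi-coherent `O_X`-module of finite type on the small etale
site of `X`. Then `M` is the colimit of a system of `O_X`-modules of finite presentation, indexed by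
a nonempty directed partial order, whose transition maps are all epimorphisms. (The published
statement allows any base scheme and uses absolute quasi-separatedness; this row assumes the base
quasi-separated, over which quasi-separatedness relative to the base is the absolute notion.) -/
theorem result {S : Scheme.{u}} [QuasiSeparatedSpace ↥S]
    (X : AlgSp.Space S) (hqc : AlgSp.IsQuasiCompactSp X.obj) (hqs : AlgSp.IsQuasiSeparatedSp X.obj)
    (M : AlgSp.ModEt X.obj) [M.IsQuasicoherent] [M.IsFiniteType] :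
    ∃ (J : Type (u + 1)) (_ : PartialOrder J) (_ : IsDirected J (· ≤ ·)) (_ : Nonempty J)
      (D : J ⥤ AlgSp.ModEt X.obj) (ι : D ⟶ (Functor.const J).obj M),
      Nonempty (IsColimit (Cocone.mk M ι)) ∧ (∀ j, (D.obj j).IsFinitePresentation) ∧
        ∀ (j j' : J) (h : j ⟶ j'), Epi (D.map h) := by
  classical
  obtain ⟨U, a, hU, ha, hs⟩ := GrothLib.AlgSp.exists_affine_atlas_of_qc hqc
  haveI := hU
  obtain ⟨n, hn⟩ := (finite_sec_of_isFiniteType M (E := atlasObj a ha) hU).fg_top
  refine ⟨Rel X.property hqc hqs a ha M n, inferInstance, inferInstance, ⟨∅⟩, quotFunctor X.property hqc hqs a ha M n,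
    (quotCocone X.property hqc hqs a ha M n).ι, isColimit_quotCocone X.property hqc hqs a ha hs M n hn,
    fun m => isFinitePresentation_fpQuot X.property hqc hqs a ha M n m, fun m m' h => ?_⟩
  exact epi_of_epi_fac (π_quotMap X.property hqc hqs a ha M n (leOfHom h))

end Groth.Agent.S10080
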