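import Groth.Statements.S10083
import Groth.Agent.Lib.AlgSp.QCohSub
-- import your own Groth.Agent.* helpers here

set_option autoImplicit false
universe u
open CategoryTheory CategoryTheory.Limits AlgebraicGeometry Opposite
open AlgSp GrothLib.AlgSp GrothLib.AlgSp.QCohEt
set_option backward.isDefEq.respectTransparency false

namespace Groth.Agent.S10083

/-- Let `X` be an algebraic space over a scheme `S`, `I` a quasi-coherent ideal sheaf on the small etale
site of `X` which is of finite type (on every affine object its ideal of sections is finitely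
generated) and `F` a quasi-coherent `O_X`-module. Then the subsheaf of sections of `F` annihilated
by `I` is a quasi-coherent submodule: there is a monomorphism `F' ⟶ F` of `O_X`-modules with `F'`
quasi-coherent whose image over every affine object `U` is the set of sections `s` of `F` over `U`
with `I(U) s = 0`. (The assertion on stalks at geometric points is not included.) -/
theorem result {S : Scheme.{u}} (X : AlgSp.Space S)
    (I : AlgSp.IdealEt X.obj) (hI : I.IsQCoh)
    (hft : ∀ (E : AlgSp.EtOver X.obj) (hE : IsAffine E.obj.left.left), (I.ideal E hE).FG)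
    (F : AlgSp.ModEt X.obj) [F.IsQuasicoherent] :
    ∃ (F' : AlgSp.ModEt X.obj) (ι : F' ⟶ F), Mono ι ∧ F'.IsQuasicoherent ∧
      ∀ (E : AlgSp.EtOver X.obj) (hE : IsAffine E.obj.left.left),
        Set.range (ι.val.app (op E)).hom =
          {s : AlgSp.sectModEt F E | ∀ a ∈ I.ideal E hE, (AlgSp.upΓ E a) • s = 0} := by
  classical
  let P : SubFam (O := OEt X.obj) F (affEt X.obj) :=
    { P := fun E =>
        { carrier := {s | ∀ hE : IsAffine E.obj.left.left, ∀ a ∈ I.ideal E hE, (show Ob (OEt X.obj) E from AlgSp.upΓ E a) • s = 0}
          add_mem' := fun ha hb hE a h => by rw [smul_add, ha hE a h, hb hE a h, add_zero]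
          zero_mem' := fun hE a h => smul_zero _
          smul_mem' := fun c s hs hE a h => by rw [smul_smul, mul_comm, mul_smul, hs hE a h, smul_zero] }
      map_mem := fun {E W} w hE hW s hs => fun hW' a ha => by
        have ha' := hI w hE hW' ha
        clear ha
        induction ha' using Submodule.span_induction with
        | mem b hb =>
          obtain ⟨c, hc, rfl⟩ := hb
          have h1 : mres (O := OEt X.obj) F w ((show Ob (OEt X.obj) E from AlgSp.upΓ E c) • s) = 0 := by
            rw [hs hE c hc, map_zero]
          rw [mres_smul] at h1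
          exact h1
        | zero =>
          exact (congrArg (fun b : Ob (OEt X.obj) W => b • mres (O := OEt X.obj) F w s) (map_zero (AlgSp.upΓ W))).trans (zero_smul _ _)
        | add a b _ _ ha hb =>
          exact (congrArg (fun b : Ob (OEt X.obj) W => b • mres (O := OEt X.obj) F w s) (map_add (AlgSp.upΓ W) a b)).trans
            ((add_smul (show Ob (OEt X.obj) W from AlgSp.upΓ W a) (show Ob (OEt X.obj) W from AlgSp.upΓ W b) _).trans
              ((congrArg₂ (· + ·) ha hb).trans (add_zero _)))
        | smul a b _ hb =>
          exact (congrArg (fun b : Ob (OEt X.obj) W => b • mres (O := OEt X.obj) F w s) (map_mul (AlgSp.upΓ W) a b)).trans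
            ((mul_smul (show Ob (OEt X.obj) W from AlgSp.upΓ W a) (show Ob (OEt X.obj) W from AlgSp.upΓ W b) _).trans
              ((congrArg _ hb).trans (smul_zero _)))
      gen := fun {E W} w hE hW => by
        intro x hx
        obtain ⟨t, ht⟩ := hft E hE
        let M₀ := Sec (O := OEt X.obj) F E
        let V : Over E := Over.mk w
        haveI : Module.Flat (Ob (OEt X.obj) E) (Ov (OEt X.obj) V) := (affEt X.obj).flat w hE hW
        let f : M₀ →ₗ[Ob (OEt X.obj) E] (↥t → M₀) :=
          LinearMap.pi fun g => LinearMap.lsmul (Ob (OEt X.obj) E) M₀ (show Ob (OEt X.obj) E from AlgSp.upΓ E g.1)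
        obtain ⟨c, rfl⟩ := (good_of_isQuasicoherent F hE V hW).2 x
        have h0 : f.lTensor (Ov (OEt X.obj) V) c = 0 := by
          apply (TensorProduct.piRight (Ob (OEt X.obj) E) (Ob (OEt X.obj) E) (Ov (OEt X.obj) V) fun _ : ↥t => M₀).injective
          funext g
          have e : ∀ c, TensorProduct.piRight (Ob (OEt X.obj) E) (Ob (OEt X.obj) E) (Ov (OEt X.obj) V) (fun _ : ↥t => M₀)
              (f.lTensor (Ov (OEt X.obj) V) c) g =
                (LinearMap.lsmul (Ob (OEt X.obj) E) M₀ (show Ob (OEt X.obj) E from AlgSp.upΓ E g.1)).lTensor (Ov (OEt X.obj) V) c := by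
            intro c
            induction c using TensorProduct.induction_on with
            | zero => simp
            | add a b ha hb => simp only [map_add, Pi.add_apply, ha, hb]
            | tmul b m => simp [f]
          rw [e, map_zero, Pi.zero_apply]
          apply (good_of_isQuasicoherent F hE V hW).1
          rw [map_zero, ← theta_comp, LinearMap.id_comp]
          have hg : g.1 ∈ I.ideal E hE := ht ▸ Submodule.subset_span g.2
          have hx' := hx hW _ (I.map_le w hE hW (Ideal.mem_map_of_mem w.hom.left.left.appTop.hom hg))
          have key : ∀ c, theta (LinearMap.lsmul (Ob (OEt X.obj) E) M₀ (show Ob (OEt X.obj) E from AlgSp.upΓ E g.1)) V c =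
              (res (OEt X.obj) w (show Ob (OEt X.obj) E from AlgSp.upΓ E g.1)) • theta (LinearMap.id : M₀ →ₗ[_] M₀) V c := by
            intro c
            induction c using TensorProduct.induction_on with
            | zero => simp
            | add a b ha hb => simp only [map_add, ha, hb, smul_add]
            | tmul b m =>
              rw [theta_tmul, theta_tmul, LinearMap.id_apply, LinearMap.lsmul_apply, mres_smul]
              show (show Ob (OEt X.obj) W from b) • (res (OEt X.obj) w _ • mres (O := OEt X.obj) F w m) =
                res (OEt X.obj) w _ • ((show Ob (OEt X.obj) W from b) • mres (O := OEt X.obj) F w m)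
              exact (smul_smul _ _ _).trans ((congrArg (fun v : Ob (OEt X.obj) W => v • mres (O := OEt X.obj) F w m)
                (mul_comm _ _)).trans (smul_smul _ _ _).symm)
          exact (key c).trans hx'
        have hex : Function.Exact (LinearMap.ker f).subtype f := LinearMap.exact_subtype_ker_map f
        obtain ⟨d, rfl⟩ := (Module.Flat.lTensor_exact (Ov (OEt X.obj) V) hex c).1 h0
        clear h0 hx
        induction d using TensorProduct.induction_on with
        | zero => rw [map_zero, map_zero]; exact Submodule.zero_mem _
        | add a b ha hb => rw [map_add, map_add]; exact Submodule.add_mem _ ha hb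
        | tmul b y =>
          rw [LinearMap.lTensor_tmul, theta_tmul]
          refine Submodule.smul_mem _ _ (Submodule.subset_span ⟨y.1, ?_, rfl⟩)
          intro hE' a ha
          have hy : ∀ g : ↥t, (show Ob (OEt X.obj) E from AlgSp.upΓ E g.1) • y.1 = 0 := fun g => congrFun y.2 g
          let J : Ideal Γ(E.obj.left.left, ⊤) := Ideal.comap (AlgSp.upΓ E : Γ(E.obj.left.left, ⊤) →+* Ob (OEt X.obj) E)
            (LinearMap.ker (LinearMap.toSpanSingleton (Ob (OEt X.obj) E) M₀ y.1))
          exact (ht ▸ Submodule.span_le.2 (fun g hg => hy ⟨g, hg⟩) : I.ideal E hE ≤ J) ha }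
  obtain ⟨F', ι, hm, hrange, hgood, -⟩ := exists_submodule P fun E hE => good_of_isQuasicoherent F hE
  refine ⟨F', ι, hm, isQuasicoherent_of_good F' hgood, fun E hE => ?_⟩
  ext s
  constructor
  · rintro ⟨y, rfl⟩ a ha
    exact ((hrange E hE).le ⟨y, rfl⟩) hE a ha
  · intro hs
    exact (hrange E hE).ge (fun _ a ha => hs a ha)

end Groth.Agent.S10083
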