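import Groth.Statements.S10084
import Groth.Agent.Lib.AlgSp.IdealModule
import Groth.Agent.Lib.AlgSp.RedInduced
import Groth.Agent.Lib.AlgSp.OpenSub
import Groth.Agent.Lib.AlgSp.FlatMono
import Groth.Agent.S10003
import Groth.Agent.S9988

set_option autoImplicit false
set_option backward.isDefEq.respectTransparency false
universe u
open CategoryTheory CategoryTheory.Limits AlgebraicGeometry Opposite
open AlgSp
open GrothLib.AlgSp GrothLib.AlgSp.QCohEt

namespace Groth.Agent.S10084

/-- Let `S` be a quasi-separated scheme, `X` an algebraic space over `S`, quasi-compact and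
quasi-separated over `S`, and `j : U ⟶ X` an open subspace. Then `U` is quasi-compact exactly when
there are a quasi-coherent sheaf of ideals `I` of finite type on the small etale site of `X`
(finitely generated ideal of sections on every affine object) and a closed subspace `Z ⟶ X` cut out
by `I` whose points are exactly the points of `X` outside the image of `U`. (The further equivalent
condition that `j` is quasi-compact is not included.) (The published statement allows any base
scheme and uses absolute quasi-separatedness; this row assumes the base quasi-separated, over which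
quasi-separatedness relative to the base is the absolute notion.) -/
theorem result {S : Scheme.{u}} [QuasiSeparatedSpace ↥S] (X : AlgSp.Space S)
    (hqc : AlgSp.IsQuasiCompactSp X.obj) (hqs : AlgSp.IsQuasiSeparatedSp X.obj)
    (U : AlgSp.Space S) (j : U ⟶ X) (hj : AlgSp.RepWith @IsOpenImmersion j.hom) :
    AlgSp.IsQuasiCompactSp U.obj ↔
      ∃ (I : AlgSp.IdealEt X.obj), I.IsQCoh ∧
        (∀ (E : AlgSp.EtOver X.obj) (hE : IsAffine E.obj.left.left), (I.ideal E hE).FG) ∧
        ∃ (Z : AlgSp.Space S) (i : Z ⟶ X), AlgSp.IsCutOutBy I i.hom ∧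
          Set.range (AlgSp.Points.map i.hom) = (Set.range (AlgSp.Points.map j.hom))ᶜ := by
  classical
  have hjo : IsOpen (Set.range (AlgSp.Points.map j.hom)) := isOpen_range_openImmersion hj
  haveI := mono_of_openImmersion hj
  have hemb : Topology.IsOpenEmbedding (AlgSp.Points.map j.hom) :=
    Topology.IsOpenEmbedding.of_continuous_injective_isOpenMap (AlgSp.Points.continuous_map _)
      (injective_map_of_mono j.hom)
      (isOpenMap_map_of_repWith (fun _ _ h (hh : IsOpenImmersion h) => h.isOpenEmbedding.isOpenMap) hj)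
  obtain ⟨V, a, hV, ha, has⟩ := GrothLib.AlgSp.exists_affine_atlas_of_qc hqc
  haveI := hV
  let E₀ : AlgSp.EtOver X.obj := AlgSp.EtOver.mk a ha
  have hE₀ : IsAffine E₀.obj.left.left := hV
  have hsurj := surjective_ofPt_of_repWith has
  constructor
  · intro hU
    haveI := compactSpace_points_of_isQuasiCompactSp hU
    have hc : IsCompact (Set.range (AlgSp.Points.map j.hom)) := isCompact_range hemb.continuous
    have hpre := GrothLib.AlgSp.QCohEt.compact_preimage a ha hqs X.property hjo hc
    obtain ⟨Z₀, i₀, hZ₀, hi₀, hr₀, -⟩ := GrothLib.AlgSp.exists_isRedInduced_sp X.property hjo.isClosed_compl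
    have hI₀ := (Groth.Agent.S10003.result (X := ⟨Z₀, hZ₀⟩) (Y := X) (ObjectProperty.homMk i₀) hi₀.1
      (isQuasiCompactMor_of_repWith (repWith_mono hi₀ fun A B g (hg : IsClosedImmersion g) => (inferInstance : QuasiCompact g)))).1
    let I₀ := AlgSp.idealOfRep hi₀.1
    have hz₀ := preimage_range_zeroLocus hi₀ E₀ hE₀
    have hcov : Points.ofPt a ⁻¹' Set.range (AlgSp.Points.map j.hom) ⊆
        ⋃ g : {g : Γ(V.left, ⊤) // g ∈ I₀.ideal E₀ hE₀}, (V.left.basicOpen g.1 : Set ↥V.left) := fun v hv => by
      by_contra hn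
      have h : v ∈ V.left.zeroLocus (U := ⊤) (SetLike.coe (I₀.ideal E₀ hE₀)) :=
        (Scheme.mem_zeroLocus_iff _ _ _).2 fun g hg hvg => hn (Set.mem_iUnion.2 ⟨⟨g, hg⟩, hvg⟩)
      have h' : AlgSp.Points.ofPt a v ∈ Set.range (AlgSp.Points.map i₀) := hz₀.ge h
      rw [hr₀] at h'
      exact h' hv
    obtain ⟨t, ht⟩ := hpre.elim_finite_subcover
      (fun g : {g : Γ(V.left, ⊤) // g ∈ I₀.ideal E₀ hE₀} => (V.left.basicOpen g.1 : Set ↥V.left))
      (fun g => (V.left.basicOpen g.1).2) hcov
    obtain ⟨J, hJ, hJfg, hJle, hJt⟩ := exists_finiteType_ideal X.property hqc hqs I₀ hI₀ hE₀ (t.image Subtype.val)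
      (fun g hg => by
        obtain ⟨q, -, rfl⟩ := Finset.mem_image.1 hg
        exact q.2)
    obtain ⟨Z, i, hZi⟩ := Groth.Agent.S9988.result X J hJ
    refine ⟨J, hJ, hJfg, Z, i, hZi, ?_⟩
    obtain ⟨hi, hiJ⟩ := hZi
    have hz := preimage_range_zeroLocus hi E₀ hE₀
    rw [hiJ] at hz
    refine Set.preimage_injective.2 hsurj ?_
    refine hz.trans (Set.ext fun v => ?_)
    rw [Set.mem_preimage, Set.mem_compl_iff]
    constructor
    · intro h hv
      obtain ⟨q, hq, hvq⟩ := Set.mem_iUnion₂.1 (ht hv)
      exact (Scheme.mem_zeroLocus_iff _ _ _).1 h q.1 (hJt q.1 (Finset.mem_image_of_mem _ hq)) hvq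
    · intro hv
      have h : v ∈ Points.ofPt a ⁻¹' Set.range (AlgSp.Points.map i₀) := by
        rw [Set.mem_preimage, hr₀]
        exact hv
      exact (Scheme.mem_zeroLocus_iff _ _ _).2 fun g hg =>
        (Scheme.mem_zeroLocus_iff _ _ _).1 (hz₀.le h) g (hJle E₀ hE₀ hg)
  · rintro ⟨I, -, hfg, Z, i, ⟨hi, hiI⟩, hr⟩
    obtain ⟨t, ht⟩ := hfg E₀ hE₀
    have hz := preimage_range_zeroLocus hi E₀ hE₀
    rw [hiI, hr] at hz
    have hpre : Points.ofPt a ⁻¹' Set.range (AlgSp.Points.map j.hom) = ⋃ g ∈ t, (V.left.basicOpen g : Set ↥V.left) := by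
      have h : Points.ofPt a ⁻¹' Set.range (AlgSp.Points.map j.hom) =
          (V.left.zeroLocus (U := ⊤) (SetLike.coe (I.ideal E₀ hE₀)))ᶜ := by
        refine Eq.trans ?_ (congrArg (fun A : Set ↥V.left => Aᶜ) hz)
        rw [← Set.preimage_compl, compl_compl]
        rfl
      rw [h, ← ht]
      erw [Scheme.zeroLocus_span]
      ext v
      simp
      rfl
    haveI : CompactSpace ↥V.left := inferInstance
    have hc : IsCompact (Set.range (AlgSp.Points.map j.hom)) := by
      have := (t.isCompact_biUnion fun g _ =>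
        ((isAffineOpen_top V.left).basicOpen g).isCompact).image (Points.continuous_ofPt a)
      rwa [← hpre, Set.image_preimage_eq _ hsurj] at this
    haveI : CompactSpace (AlgSp.Points U.obj) := ⟨by
      rw [hemb.toIsEmbedding.isCompact_iff, Set.image_univ]
      exact hc⟩
    exact isQuasiCompactSp_of_compactSpace_points U.property

end Groth.Agent.S10084
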