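import Groth.Statements.S10085
import Groth.Agent.Lib.AlgSp.QCohSub
import Groth.Agent.Lib.AlgSp.PointsUniv
-- import your own Groth.Agent.* helpers here

set_option autoImplicit false
universe u
open CategoryTheory CategoryTheory.Limits AlgebraicGeometry Opposite
open AlgSp GrothLib.AlgSp GrothLib.AlgSp.QCohEt
set_option backward.isDefEq.respectTransparency false

namespace Groth.Agent.S10085

/-- The ideal of a point and zero loci. -/
theorem mem_zeroLocus_iff_le {U : Scheme.{u}} (I : Ideal Γ(U, ⊤)) (x : ↥U) :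
    x ∈ U.zeroLocus (U := ⊤) (I : Set Γ(U, ⊤)) ↔ I ≤ AlgSp.primeAtPt U x := by
  rw [Scheme.mem_zeroLocus_iff]
  refine forall_congr' fun a => imp_congr_right fun _ => ?_
  rw [Scheme.mem_basicOpen_top]
  unfold AlgSp.primeAtPt
  rw [Ideal.mem_comap, IsLocalRing.mem_maximalIdeal, mem_nonunits_iff]

/-- Sections killed by finitely many functions are generated by such sections downstairs. -/
theorem mem_span_of_annihilated {S : Scheme.{u}} {X : AlgSp.Sp S} (F : AlgSp.ModEt X) [F.IsQuasicoherent]
    {E W : AlgSp.EtOver X} (w : W ⟶ E) (hE : IsAffine E.obj.left.left) (hW : IsAffine W.obj.left.left)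
    {n : Type u} [Fintype n] [DecidableEq n] (g : n → Ob (OEt X) E) (x : Sec (O := OEt X) F W)
    (hx : ∀ i, res (OEt X) w (g i) • x = 0) :
    x ∈ Submodule.span (Ob (OEt X) W) (mres (O := OEt X) F w '' {m | ∀ i, g i • m = 0}) := by
  let M₀ := Sec (O := OEt X) F E
  let V : Over E := Over.mk w
  haveI : Module.Flat (Ob (OEt X) E) (Ov (OEt X) V) := (affEt X).flat w hE hW
  let f : M₀ →ₗ[Ob (OEt X) E] (n → M₀) := LinearMap.pi fun i => LinearMap.lsmul (Ob (OEt X) E) M₀ (g i)
  obtain ⟨c, rfl⟩ := (good_of_isQuasicoherent F hE V hW).2 x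
  have h0 : f.lTensor (Ov (OEt X) V) c = 0 := by
    apply (TensorProduct.piRight (Ob (OEt X) E) (Ob (OEt X) E) (Ov (OEt X) V) fun _ : n => M₀).injective
    funext i
    have e : ∀ c, TensorProduct.piRight (Ob (OEt X) E) (Ob (OEt X) E) (Ov (OEt X) V) (fun _ : n => M₀)
        (f.lTensor (Ov (OEt X) V) c) i = (LinearMap.lsmul (Ob (OEt X) E) M₀ (g i)).lTensor (Ov (OEt X) V) c := by
      intro c
      induction c using TensorProduct.induction_on with
      | zero => simp
      | add a b ha hb => simp only [map_add, Pi.add_apply, ha, hb]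
      | tmul b m => simp [f]
    rw [e, map_zero, Pi.zero_apply]
    apply (good_of_isQuasicoherent F hE V hW).1
    rw [map_zero, ← theta_comp, LinearMap.id_comp]
    have key : ∀ c, theta (LinearMap.lsmul (Ob (OEt X) E) M₀ (g i)) V c =
        res (OEt X) w (g i) • theta (LinearMap.id : M₀ →ₗ[_] M₀) V c := by
      intro c
      induction c using TensorProduct.induction_on with
      | zero => simp
      | add a b ha hb => simp only [map_add, ha, hb, smul_add]
      | tmul b m =>
        rw [theta_tmul, theta_tmul, LinearMap.id_apply, LinearMap.lsmul_apply, mres_smul]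
        show (show Ob (OEt X) W from b) • (res (OEt X) w _ • mres (O := OEt X) F w m) =
          res (OEt X) w _ • ((show Ob (OEt X) W from b) • mres (O := OEt X) F w m)
        exact (smul_smul _ _ _).trans ((congrArg (fun v : Ob (OEt X) W => v • mres (O := OEt X) F w m)
          (mul_comm _ _)).trans (smul_smul _ _ _).symm)
    exact (key c).trans (hx i)
  obtain ⟨d, rfl⟩ := (Module.Flat.lTensor_exact (Ov (OEt X) V) (LinearMap.exact_subtype_ker_map f) c).1 h0
  clear h0 hx
  induction d using TensorProduct.induction_on with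
  | zero => rw [map_zero, map_zero]; exact Submodule.zero_mem _
  | add a b ha hb => rw [map_add, map_add]; exact Submodule.add_mem _ ha hb
  | tmul b y =>
    rw [LinearMap.lTensor_tmul, theta_tmul]
    exact Submodule.smul_mem _ _ (Submodule.subset_span ⟨y.1, fun i => congrFun y.2 i, rfl⟩)


/-- Torsion along a finitely generated ideal. -/
theorem prime_iff {S : Scheme.{u}} {X : AlgSp.Space S} (T : Set (AlgSp.Points X.obj)) (W : AlgSp.EtOver X.obj)
    [IsAffine W.obj.left.left] (I : Ideal Γ(W.obj.left.left, ⊤)) (hfg : I.FG)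
    (hI0 : W.obj.left.left.zeroLocus (U := ⊤) (I : Set Γ(W.obj.left.left, ⊤)) = {w | AlgSp.Points.ofPt W.obj.hom w ∈ T})
    (J : Ideal Γ(W.obj.left.left, ⊤)) :
    (∀ w, J ≤ AlgSp.primeAtPt _ w → AlgSp.Points.ofPt W.obj.hom w ∈ T) ↔ ∃ n : ℕ, I ^ n ≤ J := by
  constructor
  · intro h
    refine Ideal.exists_pow_le_of_le_radical_of_fg ?_ hfg
    rw [Ideal.radical_eq_sInf]
    refine le_sInf ?_
    rintro p ⟨hJp, hp⟩
    haveI := hp
    obtain ⟨w, rfl⟩ := exists_primeAtPt_eq p
    exact (mem_zeroLocus_iff_le I w).1 (hI0.symm ▸ h w hJp)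
  · rintro ⟨n, hn⟩ w hJw
    have hle : I ≤ AlgSp.primeAtPt _ w := fun a ha =>
      Ideal.IsPrime.mem_of_pow_mem inferInstance n (hJw (hn (Ideal.pow_mem_pow ha n)))
    exact hI0.le ((mem_zeroLocus_iff_le I w).2 hle)

/-- Points of charts along morphisms. -/
theorem ofPt_comp {S : Scheme.{u}} {X : AlgSp.Sp S} {E W : AlgSp.EtOver X} (g : W ⟶ E) (w : W.obj.left.left) :
    AlgSp.Points.ofPt W.obj.hom w = AlgSp.Points.ofPt E.obj.hom (g.hom.left.left w) := by
  rw [AlgSp.Points.ofPt_eq_map_ofScheme, AlgSp.Points.ofPt_eq_map_ofScheme, ← map_yon_ofPt g.hom.left w,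
    ← Points.map_comp]
  exact congrArg (fun k => AlgSp.Points.map k _) (CostructuredArrow.w g.hom).symm

/-- Sections supported in a closed set. -/
def torsion {S : Scheme.{u}} {X : AlgSp.Space S} (F : AlgSp.ModEt X.obj) (T : Set (AlgSp.Points X.obj))
    (E : AlgSp.EtOver X.obj) : Submodule (Ob (OEt X.obj) E) (Sec (O := OEt X.obj) F E) :=
  { carrier := {s | ∀ w : E.obj.left.left, AlgSp.annSect (M := F) (E := E) s ≤ AlgSp.primeAtPt _ w →
      AlgSp.Points.ofPt E.obj.hom w ∈ T}
    add_mem' := fun {a b} ha hb w hw => by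
      have h2 : AlgSp.annSect (M := F) (E := E) a * AlgSp.annSect (M := F) (E := E) b ≤ AlgSp.primeAtPt _ w := by
        refine Ideal.mul_le.2 fun x hx y hy => hw ?_
        show (show Ob (OEt X.obj) E from AlgSp.upΓ E (x * y)) • ((show Sec (O := OEt X.obj) F E from a) + b) = 0
        have hx' : (show Ob (OEt X.obj) E from AlgSp.upΓ E x) • (show Sec (O := OEt X.obj) F E from a) = 0 := hx
        have hy' : (show Ob (OEt X.obj) E from AlgSp.upΓ E y) • (show Sec (O := OEt X.obj) F E from b) = 0 := hy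
        have e : (show Ob (OEt X.obj) E from AlgSp.upΓ E (x * y)) =
            (show Ob (OEt X.obj) E from AlgSp.upΓ E x) * (show Ob (OEt X.obj) E from AlgSp.upΓ E y) :=
          map_mul (AlgSp.upΓ E) x y
        rw [e, smul_add]
        nth_rewrite 1 [mul_comm]
        rw [mul_smul, hx', smul_zero, zero_add, mul_smul, hy', smul_zero]
      exact ((Ideal.IsPrime.mul_le inferInstance).1 h2).elim (ha w) (hb w)
    zero_mem' := fun w hw => absurd (hw (show (1 : Γ(E.obj.left.left, ⊤)) ∈ AlgSp.annSect (M := F) (E := E) 0 from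
      smul_zero (show Ob (OEt X.obj) E from AlgSp.upΓ E 1))) (fun h1 => (inferInstance : (AlgSp.primeAtPt _ w).IsPrime).ne_top
        ((Ideal.eq_top_iff_one _).2 h1))
    smul_mem' := fun c s hs w hw => hs w (le_trans (fun x hx => by
      show (show Ob (OEt X.obj) E from AlgSp.upΓ E x) • (c • (show Sec (O := OEt X.obj) F E from s)) = 0
      have hx' : (show Ob (OEt X.obj) E from AlgSp.upΓ E x) • (show Sec (O := OEt X.obj) F E from s) = 0 := hx
      rw [smul_smul, mul_comm, mul_smul, hx', smul_zero]) hw) }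

theorem torsion_map {S : Scheme.{u}} {X : AlgSp.Space S} (F : AlgSp.ModEt X.obj) (T : Set (AlgSp.Points X.obj))
    {E W : AlgSp.EtOver X.obj} (g : W ⟶ E) (s : Sec (O := OEt X.obj) F E) (hs : s ∈ torsion F T E) :
    mres (O := OEt X.obj) F g s ∈ torsion F T W := by
  intro w hw
  have h := hs (g.hom.left.left w) ?_
  · rw [ofPt_comp g]
    exact h
  · rw [← comap_primeAtPt]
    intro a ha
    refine hw ?_
    have h1 : mres (O := OEt X.obj) F g ((show Ob (OEt X.obj) E from AlgSp.upΓ E a) • s) = 0 :=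
      (congrArg _ (show (show Ob (OEt X.obj) E from AlgSp.upΓ E a) • s = 0 from ha)).trans (map_zero _)
    rw [mres_smul] at h1
    exact h1

theorem torsion_gen {S : Scheme.{u}} {X : AlgSp.Space S} (F : AlgSp.ModEt X.obj) [F.IsQuasicoherent]
    (T : Set (AlgSp.Points X.obj))
    (hI : ∀ W : AlgSp.EtOver X.obj, IsAffine W.obj.left.left →
      ∃ I : Ideal Γ(W.obj.left.left, ⊤), I.FG ∧
        W.obj.left.left.zeroLocus (U := ⊤) (I : Set Γ(W.obj.left.left, ⊤)) = {w | AlgSp.Points.ofPt W.obj.hom w ∈ T})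
    {E W : AlgSp.EtOver X.obj} (g : W ⟶ E) (hE : IsAffine E.obj.left.left) (hW : IsAffine W.obj.left.left) :
    torsion F T W ≤ Submodule.span (Ob (OEt X.obj) W) (mres (O := OEt X.obj) F g '' (torsion F T E : Set _)) := by
  classical
  intro x hx
  haveI : IsAffine E.obj.left.left := hE
  haveI : IsAffine W.obj.left.left := hW
  obtain ⟨I, hfg, hI0⟩ := hI E hE
  have hI1 : W.obj.left.left.zeroLocus (U := ⊤) ((I.map g.hom.left.left.appTop.hom : Ideal _) : Set _) =
      {w | AlgSp.Points.ofPt W.obj.hom w ∈ T} := by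
    ext w
    rw [mem_zeroLocus_iff_le, Ideal.map_le_iff_le_comap, comap_primeAtPt, ← mem_zeroLocus_iff_le, hI0,
      Set.mem_setOf_eq, Set.mem_setOf_eq, ofPt_comp g]
  obtain ⟨n, hn⟩ := (prime_iff T W _ (Ideal.FG.map hfg _) hI1 _).1 hx
  obtain ⟨t, ht⟩ := Ideal.FG.pow (n := n) hfg
  have h1 : x ∈ Submodule.span (Ob (OEt X.obj) W) (mres (O := OEt X.obj) F g ''
      {m | ∀ i : ↥t, (show Ob (OEt X.obj) E from AlgSp.upΓ E i.1) • m = 0}) := by
    refine mem_span_of_annihilated F g hE hW _ x fun i => ?_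
    have hi : g.hom.left.left.appTop.hom i.1 ∈ AlgSp.annSect (M := F) (E := W) x := hn (by
      rw [← Ideal.map_pow]
      exact Ideal.mem_map_of_mem _ (ht ▸ Submodule.subset_span i.2))
    exact hi
  refine Submodule.span_mono (Set.image_mono fun m hm => ?_) h1
  refine (prime_iff T E I hfg hI0 _).2 ⟨n, ?_⟩
  rw [← ht]
  exact Submodule.span_le.2 fun a ha => hm ⟨a, ha⟩

/-- Let `X` be an algebraic space over a scheme `S`, `j : U ⟶ X` an open subspace whose inclusion is
quasi-compact, `T` the closed subset of points of `X` complementary to the image of `U`, and `F` a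
quasi-coherent `O_X`-module on the small etale site of `X`. Then, first, on every affine object `W ⟶
X` of the site the inverse image of `T` is the zero locus of a finitely generated ideal of the
global functions on `W`; second, the subsheaf of sections of `F` supported on `T` is a
quasi-coherent submodule: there is a monomorphism `F' ⟶ F` with `F'` quasi-coherent whose image over
every affine object `W` is the set of sections `x` of `F` over `W` whose support (the zero locus of
the annihilator ideal of `x` in the global functions on `W`) lies in the inverse image of `T`, and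
is also, for any finitely generated ideal `I` of the functions on `W` with zero locus the inverse
image of `T`, the set of sections of `F` over `W` annihilated by some power of `I`. -/
theorem result {S : Scheme.{u}} (X : AlgSp.Space S)
    (U : AlgSp.Space S) (j : U ⟶ X) (hj : AlgSp.RepWith @IsOpenImmersion j.hom)
    (hjqc : AlgSp.IsQuasiCompactMor j.hom)
    (T : Set (AlgSp.Points X.obj)) (hT : T = (Set.range (AlgSp.Points.map j.hom))ᶜ)
    (F : AlgSp.ModEt X.obj) [F.IsQuasicoherent] :
    (∀ (W : AlgSp.EtOver X.obj), IsAffine W.obj.left.left →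
      ∃ I : Ideal Γ(W.obj.left.left, ⊤), I.FG ∧
        W.obj.left.left.zeroLocus (U := ⊤) (I : Set Γ(W.obj.left.left, ⊤)) =
          {w | AlgSp.Points.ofPt W.obj.hom w ∈ T}) ∧
    ∃ (F' : AlgSp.ModEt X.obj) (ι : F' ⟶ F), Mono ι ∧ F'.IsQuasicoherent ∧
      (∀ (W : AlgSp.EtOver X.obj), IsAffine W.obj.left.left →
        Set.range (ι.val.app (op W)).hom =
          {x : AlgSp.sectModEt F W | W.obj.left.left.zeroLocus (U := ⊤)
              ((AlgSp.annSect x : Ideal Γ(W.obj.left.left, ⊤)) : Set Γ(W.obj.left.left, ⊤)) ⊆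
            {w | AlgSp.Points.ofPt W.obj.hom w ∈ T}}) ∧
      ∀ (W : AlgSp.EtOver X.obj), IsAffine W.obj.left.left →
        ∀ I : Ideal Γ(W.obj.left.left, ⊤), I.FG →
          W.obj.left.left.zeroLocus (U := ⊤) (I : Set Γ(W.obj.left.left, ⊤)) =
            {w | AlgSp.Points.ofPt W.obj.hom w ∈ T} →
          Set.range (ι.val.app (op W)).hom =
            {x : AlgSp.sectModEt F W | ∃ n : ℕ, ∀ a ∈ I ^ n, (AlgSp.upΓ W a) • x = 0} := by
  classical
  have hopen : ∀ W : AlgSp.EtOver X.obj, IsAffine W.obj.left.left →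
      IsCompact {w | AlgSp.Points.ofPt W.obj.hom w ∉ T} ∧ IsOpen {w | AlgSp.Points.ofPt W.obj.hom w ∉ T} := by
    intro W hW
    obtain ⟨R, fst, snd, sq⟩ := exists_isPullback_of_representable hj.1 W.obj.hom
    haveI : CompactSpace ↥W.obj.left.left := inferInstance
    haveI : CompactSpace ↥R.left := compactSpace_of_isQuasiCompactSp_yon R
      (hjqc (IsAlgSpace.yon_obj _) (isQuasiCompactSp_yon W.obj.left) W.obj.hom _ _ sq)
    haveI : IsOpenImmersion snd.left := hj.2 _ _ _ sq
    have e : {w | AlgSp.Points.ofPt W.obj.hom w ∉ T} = Set.range snd.left := by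
      ext w
      rw [Set.mem_setOf_eq, hT, Set.mem_compl_iff, not_not]
      constructor
      · rintro ⟨u, hu⟩
        obtain ⟨z, -, hz⟩ := exists_of_isPullback sq (x := u) (y := AlgSp.Points.schemeEquiv W.obj.left w)
          (hu.trans (AlgSp.Points.ofPt_eq_map_ofScheme _ _))
        obtain ⟨r, rfl⟩ := (AlgSp.Points.schemeEquiv R).surjective z
        exact ⟨r, (AlgSp.Points.schemeEquiv W.obj.left).injective ((map_yon_ofPt snd r).symm.trans hz)⟩
      · rintro ⟨r, rfl⟩
        refine ⟨AlgSp.Points.map fst (AlgSp.Points.ofScheme R r), ?_⟩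
        rw [AlgSp.Points.ofPt_eq_map_ofScheme, ← map_yon_ofPt, AlgSp.Points.ofScheme]
        simp only [AlgSp.Points.map_ofPt, Category.assoc, sq.w]
    rw [e]
    exact ⟨isCompact_range snd.left.continuous, snd.left.isOpenEmbedding.isOpen_range⟩
  have hI : ∀ W : AlgSp.EtOver X.obj, IsAffine W.obj.left.left →
      ∃ I : Ideal Γ(W.obj.left.left, ⊤), I.FG ∧
        W.obj.left.left.zeroLocus (U := ⊤) (I : Set Γ(W.obj.left.left, ⊤)) =
          {w | AlgSp.Points.ofPt W.obj.hom w ∈ T} := by
    intro W hW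
    haveI := hW
    obtain ⟨hc, ho⟩ := hopen W hW
    let V : W.obj.left.left.Opens := ⟨_, ho⟩
    choose f hf hxf using fun x : V => (isAffineOpen_top W.obj.left.left).exists_basicOpen_le x trivial
    obtain ⟨t, ht⟩ := hc.elim_finite_subcover (fun x : V => ((W.obj.left.left.basicOpen (f x) : W.obj.left.left.Opens) : Set ↥W.obj.left.left))
      (fun x => (W.obj.left.left.basicOpen (f x)).isOpen) fun x hx => Set.mem_iUnion.2 ⟨⟨x, hx⟩, hxf ⟨x, hx⟩⟩
    refine ⟨Ideal.span (t.image f : Finset Γ(W.obj.left.left, ⊤)), ⟨t.image f, rfl⟩, ?_⟩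
    rw [Scheme.zeroLocus_span]
    ext x
    rw [Scheme.mem_zeroLocus_iff, Set.mem_setOf_eq]
    constructor
    · intro h
      by_contra hx
      obtain ⟨y, hy, hxy⟩ := Set.mem_iUnion₂.1 (ht hx)
      exact h (f y) (Finset.mem_image_of_mem f hy) hxy
    · intro hx a ha hxa
      obtain ⟨y, -, rfl⟩ := Finset.mem_image.1 ha
      exact hf y hxa hx
  let P : SubFam (O := OEt X.obj) F (affEt X.obj) :=
    { P := torsion F T
      map_mem := fun g _ _ s hs => torsion_map F T g s hs
      gen := fun g hE hW => torsion_gen F T hI g hE hW }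
  refine ⟨hI, ?_⟩
  obtain ⟨F', ι, hm, hrange, hgood, -⟩ := exists_submodule P fun E hE => good_of_isQuasicoherent F hE
  refine ⟨F', ι, hm, isQuasicoherent_of_good F' hgood, fun W hW => ?_, fun W hW I hfg hI0 => ?_⟩
  · ext x
    have e : x ∈ Set.range (ι.val.app (op W)).hom ↔ x ∈ P.P W := by rw [← hrange W hW]; exact Iff.rfl
    refine e.trans ?_
    exact forall_congr' fun w => imp_congr_left (mem_zeroLocus_iff_le _ w).symm
  · haveI := hW
    ext x
    have e : x ∈ Set.range (ι.val.app (op W)).hom ↔ x ∈ P.P W := by rw [← hrange W hW]; exact Iff.rfl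
    exact e.trans (prime_iff T W I hfg hI0 _)

end Groth.Agent.S10085
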