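import Groth.Statements.S10087
import Groth.Agent.Lib.AlgSp.QCohOpenExt

set_option autoImplicit false
set_option backward.isDefEq.respectTransparency false
universe u
open CategoryTheory CategoryTheory.Limits AlgebraicGeometry Opposite
open AlgSp
open GrothLib.AlgSp GrothLib.AlgSp.QCohEt

namespace Groth.Agent.S10087

/-- Let `S` be a quasi-separated scheme, `X` an algebraic space over `S`, quasi-compact and
quasi-separated over `S`, `j : U ⟶ X` a quasi-compact open subspace, `F` a quasi-coherent
`O_X`-module on the small etale site of `X` and `G ⟶ j^*F` a quasi-coherent submodule of finite type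
of the restriction of `F` to `U`. Then `G` is the restriction of a quasi-coherent submodule `G' ⟶ F`
of finite type: there is an isomorphism `j^*G' ≅ G` compatible with the two inclusions. (The
published statement allows any base scheme and uses absolute quasi-separatedness; this row assumes
the base quasi-separated, over which quasi-separatedness relative to the base is the absolute
notion.) -/
theorem result {S : Scheme.{u}} [QuasiSeparatedSpace ↥S] (X : AlgSp.Space S)
    (hqc : AlgSp.IsQuasiCompactSp X.obj) (hqs : AlgSp.IsQuasiSeparatedSp X.obj)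
    (U : AlgSp.Space S) (j : U ⟶ X) (hj : AlgSp.RepWith @IsOpenImmersion j.hom)
    (hU : AlgSp.IsQuasiCompactSp U.obj)
    [(SheafOfModules.pushforward.{u + 1} (AlgSp.bcRingHom hj.1)).IsRightAdjoint]
    (F : AlgSp.ModEt X.obj) [F.IsQuasicoherent]
    (G : AlgSp.ModEt U.obj) (g : G ⟶ (AlgSp.pullModEt hj.1).obj F) [Mono g]
    [G.IsQuasicoherent] [G.IsFiniteType] :
    ∃ (G' : AlgSp.ModEt X.obj) (g' : G' ⟶ F), Mono g' ∧ G'.IsQuasicoherent ∧ G'.IsFiniteType ∧
      ∃ e : (AlgSp.pullModEt hj.1).obj G' ≅ G, e.hom ≫ g = (AlgSp.pullModEt hj.1).map g' := by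
  classical
  have he : AlgSp.IsEtaleMor j.hom := fun _ φ h => repWith_comp h
    (repWith_mono hj fun A B m (hm : IsOpenImmersion m) => (inferInstance : Etale m))
  haveI := mono_of_openImmersion hj
  let iso := pullResIso hj.1 he
  let R := (resEt he).obj F
  let g₀ : G ⟶ R := g ≫ iso.hom.app F
  haveI : Mono g₀ := mono_comp _ _
  haveI : R.IsQuasicoherent := isQuasicoherent_res he F
  let π := cokernel.π g₀
  haveI : Epi π := inferInstanceAs (Epi (cokernel.π g₀))
  let T₀ : ShortComplex (AlgSp.ModEt U.obj) := ShortComplex.mk g₀ π (cokernel.condition _)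
  haveI : Epi T₀.g := ‹Epi π›
  have hQ : ∀ e : AlgSp.EtOver U.obj, IsAffine e.obj.left.left →
      Good (O := AlgSp.OEt U.obj) (cokernel g₀) (affEt U.obj) e := fun e hee =>
    good_right (O := AlgSp.OEt U.obj) (affEt U.obj) (T := T₀)
      (ShortComplex.exact_of_g_is_cokernel T₀ (cokernelIsCokernel _)) hee
      (good_of_isQuasicoherent G hee) (good_of_isQuasicoherent R hee)
  haveI : (cokernel g₀).IsQuasicoherent := isQuasicoherent_of_good _ hQ
  -- the image of `G` is the kernel of the projection
  have hker : ∀ (e : AlgSp.EtOver U.obj) (y : Sec (O := AlgSp.OEt U.obj) R e),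
      app (O := AlgSp.OEt U.obj) π e y = 0 → ∃ z, app (O := AlgSp.OEt U.obj) g₀ e z = y := by
    intro e y hy
    obtain ⟨k, hk⟩ := exact_kernel (O := AlgSp.OEt U.obj) π e y hy
    refine ⟨app (O := AlgSp.OEt U.obj) (Abelian.monoLift g₀ (kernel.ι π) (kernel.condition _)) e k, ?_⟩
    rw [← app_comp (O := AlgSp.OEt U.obj), Abelian.monoLift_comp]
    exact hk
  let τ := transpose hj he F π
  have hg : g₀ ≫ π = 0 := cokernel.condition _
  haveI := compactSpace_points_of_isQuasiCompactSp hU
  have hc : IsCompact (Set.range (AlgSp.Points.map j.hom)) := isCompact_range (AlgSp.Points.continuous_map _)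
  let P₀ := kernel τ
  haveI : P₀.IsQuasicoherent := isQuasicoherent_of_good _ fun E hE => good_kernel hj he F π X.property hqs hc E hE
  obtain ⟨V₀, a, hV₀, ha, -⟩ := GrothLib.AlgSp.exists_affine_atlas_of_qc hqc
  obtain ⟨G', i, hi, hG', hG'f, -, hsur⟩ := exists_finiteType_submodule hqs X.property hqc P₀
    (isOpen_range_openImmersion hj) hc (finOn_kernel hj he F π g₀ hg hker X.property hqs hc)
    (E₀ := AlgSp.EtOver.mk a ha) hV₀ 0
  haveI := hi
  haveI := hG'
  let g' : G' ⟶ F := i ≫ kernel.ι τ
  haveI : Mono g' := mono_comp _ _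
  refine ⟨G', g', inferInstance, hG', hG'f, ?_⟩
  have hτ : (resEt he).map g' ≫ π = 0 := by
    let adj := resPushAdj hj.1 he
    have e : adj.homEquiv _ _ ((resEt he).map g' ≫ π) = g' ≫ τ := by
      rw [Adjunction.homEquiv_unit, Functor.map_comp]
      exact (adj.unit_naturality_assoc g' _)
    have e0 : adj.homEquiv G' _ (0 : (resEt he).obj G' ⟶ cokernel g₀) = 0 := by
      rw [Adjunction.homEquiv_unit, Functor.map_zero, comp_zero]
    apply (adj.homEquiv _ _).injective
    rw [e, e0, show g' ≫ τ = i ≫ kernel.ι τ ≫ τ from Category.assoc _ _ _, kernel.condition, comp_zero]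
  let φ : (resEt he).obj G' ⟶ G := Abelian.monoLift g₀ ((resEt he).map g') hτ
  have hφ : φ ≫ g₀ = (resEt he).map g' := Abelian.monoLift_comp _ _ _
  haveI : Mono (φ ≫ g₀) := by rw [hφ]; infer_instance
  haveI : Mono φ := mono_of_mono φ g₀
  haveI : Epi φ := epi_lift hj he F π g₀ hg i hsur φ hφ
  haveI : IsIso φ := isIso_of_mono_of_epi φ
  refine ⟨iso.app G' ≪≫ asIso φ, ?_⟩
  rw [← cancel_mono (iso.hom.app F)]
  simp only [Iso.trans_hom, Iso.app_hom, asIso_hom, Category.assoc]
  rw [show φ ≫ g ≫ iso.hom.app F = (resEt he).map g' from hφ]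
  exact (iso.hom.naturality g').symm

end Groth.Agent.S10087
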