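import Groth.Agent.Lib.AlgSp.RepBySpCover
import Groth.Statements.S10096
-- import your own Groth.Agent.* helpers here

set_option autoImplicit false
universe u
open CategoryTheory CategoryTheory.Limits AlgebraicGeometry
open AlgSp

namespace Groth.Agent.S10096

/-- Let `a : F ⟶ G` be a map of fppf sheaves of sets over `S` that is flat, surjective, locally of
finite presentation and representable by algebraic spaces (every base change `h_U ×_G F ⟶ h_U` to a
scheme is such a morphism of algebraic spaces). Then `a` is surjective as a map of sheaves (an
epimorphism of fppf sheaves). -/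
theorem result (S : Scheme.{u}) (F G : AlgSp.Sp S) (a : F ⟶ G)
    (ha : AlgSp.RepBySpWith (AlgSp.IsSurjectiveMor ⊓ AlgSp.LocP @Flat ⊓ AlgSp.LocP @LocallyOfFinitePresentation) a.hom) :
    Epi a := by
  have := GrothLib.AlgSp.isLocallySurjective_of_repBySpWith ha
  infer_instance

end Groth.Agent.S10096
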