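import Groth.Agent.Lib.AlgSp.RepBySpCover
import Groth.Statements.S10098
-- import your own Groth.Agent.* helpers here

set_option autoImplicit false
universe u
open CategoryTheory CategoryTheory.Limits AlgebraicGeometry
open AlgSp

namespace Groth.Agent.S10098

/-- Let `E = H ×_G F` be a cartesian square of fppf sheaves of sets over `S`, with `a : E ⟶ F`, `f : E ⟶
H`, `g : F ⟶ G`, `b : H ⟶ G`. Suppose that `a` and `g` are both representable by algebraic spaces,
that `g` is flat, surjective and locally of finite presentation, and that `a` is separated and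
locally quasi-finite. Under these assumptions `b` is representable by schemes, separated, and
locally quasi-finite. -/
theorem result (S : Scheme.{u}) (E F G H : AlgSp.Sp S)
    (a : E ⟶ F) (f : E ⟶ H) (g : F ⟶ G) (b : H ⟶ G) (sq : IsPullback a f g b)
    (hg : AlgSp.RepBySpWith (AlgSp.IsSurjectiveMor ⊓ AlgSp.LocP @Flat ⊓ AlgSp.LocP @LocallyOfFinitePresentation) g.hom)
    (ha : AlgSp.RepBySpWith
      (AlgSp.IsSeparatedMor ⊓ AlgSp.LocP (@LocallyQuasiFinite ⊓ @LocallyOfFiniteType)) a.hom) :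
    AlgSp.RepWith @IsSeparated b ∧ AlgSp.RepWith (@LocallyQuasiFinite ⊓ @LocallyOfFiniteType) b := by
  have hlq : GrothLib.AlgSp.EtLocal (@LocallyQuasiFinite ⊓ @LocallyOfFiniteType : MorphismProperty Scheme.{u}) :=
    GrothLib.AlgSp.EtLocal.inf GrothLib.AlgSp.EtLocal.lqf GrothLib.AlgSp.EtLocal.lft
  have key : ∀ (T : Over S) (ξ : (AlgSp.yon S).obj T ⟶ F), ∃ (M : Over S) (fst : (AlgSp.yon S).obj M ⟶ E)
      (snd : M ⟶ T), IsPullback fst ((AlgSp.yon S).map snd) a ξ ∧ IsSeparated snd.left ∧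
      (@LocallyQuasiFinite ⊓ @LocallyOfFiniteType : MorphismProperty Scheme.{u}) snd.left := by
    intro T ξ
    obtain ⟨hP, hsep, hqf⟩ := (AlgSp.repBySpWith_hom_iff _ a).1 ha ξ _ _ (IsPullback.of_hasPullback a ξ)
    have hr := GrothLib.AlgSp.representable_of_lqf_separated hP (AlgSp.IsAlgSpace.yon_obj T) hqf hsep
    obtain ⟨M, m, j, sqM⟩ := GrothLib.AlgSp.exists_isPullback_of_representable hr (𝟙 _)
    have : IsIso m := sqM.isIso_fst_of_isIso
    have hj : m ≫ pullback.snd a ξ = (AlgSp.yon S).map j := by rw [sqM.w, Category.comp_id]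
    refine ⟨M, m ≫ pullback.fst a ξ, j, ?_, ((GrothLib.AlgSp.isSeparatedMor_iff_repWith hr).1 hsep).2 _ _ _ sqM,
      (GrothLib.AlgSp.EtLocal.repWith_of_locP hlq (AlgSp.IsAlgSpace.yon_obj T) hr hqf).2 _ _ _ sqM⟩
    refine (IsPullback.of_hasPullback a ξ).of_iso (asIso m).symm (Iso.refl _) (Iso.refl _) (Iso.refl _) ?_ ?_ ?_ ?_ <;>
      simp [← hj]
  have hr : AlgSp.Representable a := GrothLib.AlgSp.representable_of_forall fun T ξ => by
    obtain ⟨M, fst, snd, h, -⟩ := key T ξ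
    exact ⟨M, _, Iso.refl _, fst, (AlgSp.yon S).map snd, h⟩
  have hs : AlgSp.RepWith @IsSeparated a := GrothLib.AlgSp.repWith_mk fun T ξ => by
    obtain ⟨M, fst, snd, h, h₁, -⟩ := key T ξ
    exact ⟨M, fst, snd, h, h₁⟩
  have hq : AlgSp.RepWith @LocallyQuasiFinite a := GrothLib.AlgSp.repWith_mk fun T ξ => by
    obtain ⟨M, fst, snd, h, -, h₁⟩ := key T ξ
    exact ⟨M, fst, snd, h, h₁.1⟩
  have hl : AlgSp.RepWith @LocallyOfFiniteType a := GrothLib.AlgSp.repWith_mk fun T ξ => by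
    obtain ⟨M, fst, snd, h, -, h₁⟩ := key T ξ
    exact ⟨M, fst, snd, h, h₁.2⟩
  have := GrothLib.AlgSp.isLocallySurjective_of_repBySpWith hg
  have hb := GrothLib.AlgSp.representable_of_base_lqf g sq.flip hq hl hs
  exact ⟨GrothLib.AlgSp.repWith_of_base hb g sq.flip GrothLib.AlgSp.fppfDescends_isSeparated hs,
    GrothLib.AlgSp.repWith_of_base hb g sq.flip
      (GrothLib.AlgSp.fppfDescends_locallyQuasiFinite.inf GrothLib.AlgSp.fppfDescends_lft)
      (GrothLib.AlgSp.repWith_inf_iff.2 ⟨hq, hl⟩)⟩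

end Groth.Agent.S10098
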