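import Groth.Agent.Lib.AlgSp.RepBySpCover
import Groth.Statements.S10100
-- import your own Groth.Agent.* helpers here

set_option autoImplicit false
universe u
open CategoryTheory CategoryTheory.Limits AlgebraicGeometry
open AlgSp

namespace Groth.Agent.S10100

/-- Let `F` be a presheaf of sets on schemes over `S`, `X` a scheme over `S` and `h_X ⟶ F` a map which
is representable by algebraic spaces and locally quasi-finite. Then `h_X ⟶ F` is representable by
schemes. -/
theorem result (S : Scheme.{u}) (F : AlgSp.PSp S) (X : Over S)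
    (p : (AlgSp.pyon S).obj X ⟶ F)
    (hp : AlgSp.RepBySpWith (AlgSp.LocP (@LocallyQuasiFinite ⊓ @LocallyOfFiniteType)) p) :
    (AlgSp.pyon S).relativelyRepresentable p := by
  intro T g
  have sq := IsPullback.of_hasPullback p g
  obtain ⟨hs, hA, hQ⟩ := hp g _ _ sq
  let P : AlgSp.Sp S := ⟨_, hs⟩
  let a : P ⟶ (AlgSp.yon S).obj X := ObjectProperty.homMk (pullback.fst p g)
  let b : P ⟶ (AlgSp.yon S).obj T := ObjectProperty.homMk (pullback.snd p g)
  have : Mono (prod.lift a b) := ⟨fun x y h => by
    have h₁ : x ≫ a = y ≫ a := by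
      have := h =≫ Limits.prod.fst
      rwa [Category.assoc, Category.assoc, prod.lift_fst] at this
    have h₂ : x ≫ b = y ≫ b := by
      have := h =≫ Limits.prod.snd
      rwa [Category.assoc, Category.assoc, prod.lift_snd] at this
    exact ObjectProperty.hom_ext _ (pullback.hom_ext (congrArg (fun m => m.hom) h₁) (congrArg (fun m => m.hom) h₂))⟩
  obtain ⟨R, e, -⟩ := GrothLib.AlgSp.exists_scheme_of_mono_prod hA a b
    (GrothLib.AlgSp.locP_mono (fun _ _ _ h => h.2) hQ)
  let j : R ⟶ T := (AlgSp.yon S).preimage (e.hom ≫ b)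
  refine ⟨R, j, (e.hom ≫ a).hom, ?_⟩
  have hj : (AlgSp.pyon S).map j = e.hom.hom ≫ pullback.snd p g := by
    rw [← AlgSp.yon_map_hom, Functor.map_preimage]; rfl
  rw [hj]
  exact sq.of_iso ((sheafToPresheaf _ _).mapIso e).symm (Iso.refl _) (Iso.refl _) (Iso.refl _)
    (by
      change _ ≫ 𝟙 _ = _
      rw [Category.comp_id]
      exact ((congrArg (· ≫ pullback.fst p g) (congrArg (fun m => m.hom) e.inv_hom_id)).trans
        (Category.id_comp _)).symm.trans (Category.assoc _ _ _))
    (by
      change _ ≫ 𝟙 _ = _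
      rw [Category.comp_id]
      exact ((congrArg (· ≫ pullback.snd p g) (congrArg (fun m => m.hom) e.inv_hom_id)).trans
        (Category.id_comp _)).symm.trans (Category.assoc _ _ _))
    (by simp) (by simp)

end Groth.Agent.S10100
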