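import Groth.Agent.Lib.AlgSp.RepBySpCover
import Groth.Statements.S10101
-- import your own Groth.Agent.* helpers here

set_option autoImplicit false
universe u
open CategoryTheory CategoryTheory.Limits AlgebraicGeometry
open AlgSp

namespace Groth.Agent.S10101

/-- Let `F` be an fppf sheaf of sets over `S` and `X ⟶ F` a map from an algebraic space that is
surjective, etale and representable by algebraic spaces. It follows that `F` is an algebraic space.
(The published statement also gives an equivalent set of conditions in which the diagonal of `F` is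
representable by algebraic spaces; this row uses the form with the map representable by algebraic
spaces.) -/
theorem result (S : Scheme.{u}) (F : AlgSp.Sp S) (X : AlgSp.Space S)
    (p : X.obj ⟶ F) (hp : AlgSp.RepBySpWith (AlgSp.IsSurjectiveMor ⊓ AlgSp.IsEtaleMor) p.hom) :
    AlgSp.IsAlgSpace F := by
  have hp' : AlgSp.RepBySpWith GrothLib.AlgSp.FppfMor p.hom := by
    rw [AlgSp.repBySpWith_hom_iff] at hp ⊢
    intro T g F' fst snd sq
    obtain ⟨hP, hs, he⟩ := hp g fst snd sq
    have he' := GrothLib.AlgSp.locP_of_isEtaleMor (AlgSp.IsAlgSpace.yon_obj T) he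
    exact ⟨hP, ⟨hs, GrothLib.AlgSp.locP_mono (fun _ _ f hf => by have : Etale f := hf; infer_instance) he'⟩,
      GrothLib.AlgSp.locP_mono (fun _ _ f hf => by have : Etale f := hf; infer_instance) he'⟩
  obtain ⟨U, a, ae, as⟩ := X.property.atlas
  have hU := GrothLib.AlgSp.repBySpWith_comp_chart X.property ae as GrothLib.AlgSp.fppfMor_etale_comp hp'
  have hd : AlgSp.Representable (Limits.diag F) := GrothLib.AlgSp.representable_diag_of_cover X.property hp'
  have hr : AlgSp.Representable (a ≫ p) := GrothLib.AlgSp.representable_diag_iff.1 hd _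
  have key : ∀ (T V : Over S) (g : (AlgSp.yon S).obj T ⟶ F) (fst : (AlgSp.yon S).obj V ⟶ (AlgSp.yon S).obj U)
      (snd : V ⟶ T), IsPullback fst ((AlgSp.yon S).map snd) (a ≫ p) g → Etale snd.left ∧ Surjective snd.left := by
    intro T V g fst snd sq
    have hst := (AlgSp.repBySpWith_hom_iff _ _).1 hU g _ _ sq
    have sqP := IsPullback.of_hasPullback p g
    obtain ⟨hP, hs, he⟩ := (AlgSp.repBySpWith_hom_iff _ p).1 hp g _ _ sqP
    let a' := sqP.lift (fst ≫ a) ((AlgSp.yon S).map snd) (by rw [Category.assoc, sq.w])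
    have sq' : IsPullback fst a' a (pullback.fst p g) :=
      IsPullback.of_bot (v₂₁ := pullback.snd p g) (v₂₂ := p) (h₃₁ := g)
        (by rw [sqP.lift_snd]; exact sq) (sqP.lift_fst _ _ _).symm sqP
    have hae := GrothLib.AlgSp.repWith_of_isPullback sq' ae
    have h' := GrothLib.AlgSp.EtLocal.locP_comp GrothLib.AlgSp.EtLocal.etale hst.1 hP (AlgSp.IsAlgSpace.yon_obj T)
      (GrothLib.AlgSp.EtLocal.locP_of_repWith GrothLib.AlgSp.EtLocal.etale hP hae)
      (GrothLib.AlgSp.locP_of_isEtaleMor (AlgSp.IsAlgSpace.yon_obj T) he)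
    rw [sqP.lift_snd] at h'
    refine ⟨h' (𝟙 _) (𝟙 _) snd (AlgSp.repWith_id _ _) (AlgSp.repWith_id _ _)
      (by rw [Category.id_comp, Category.comp_id]), ?_⟩
    refine (AlgSp.repWith_yon_map_iff @Surjective snd).1
      ((GrothLib.AlgSp.repWith_surjective_iff (AlgSp.repWith_yon_map_iff ⊤ snd |>.2 trivial).1).2 hst.2.1.1)
  refine ⟨hd, U, a ≫ p, GrothLib.AlgSp.repWith_mk fun T g => ?_, GrothLib.AlgSp.repWith_mk fun T g => ?_⟩
  · obtain ⟨V, fst, snd, sq⟩ := GrothLib.AlgSp.exists_isPullback_of_representable hr g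
    exact ⟨V, fst, snd, sq, (key T V g fst snd sq).1⟩
  · obtain ⟨V, fst, snd, sq⟩ := GrothLib.AlgSp.exists_isPullback_of_representable hr g
    exact ⟨V, fst, snd, sq, (key T V g fst snd sq).2⟩

end Groth.Agent.S10101
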