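import Groth.Agent.Lib.AlgSp.BootstrapFamily
import Groth.Statements.S10105
-- import your own Groth.Agent.* helpers here

set_option autoImplicit false
universe u
open CategoryTheory CategoryTheory.Limits AlgebraicGeometry
open AlgSp

namespace Groth.Agent.S10105

/-- Let `F` be an fppf sheaf of sets over `S` and `{S_i ⟶ S}` an fppf covering. If every `h_{S_i} × F`
is an algebraic space and the coproduct `∐ h_{S_i} × F` (in sheaves) is an algebraic space, then `F`
is an algebraic space: being an algebraic space is fppf local on the base. -/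
theorem result (S : Scheme.{u}) (F : AlgSp.Sp S) {ι : Type u} (Si : ι → Over S)
    (hfl : ∀ i, Flat (Si i).hom) (hfp : ∀ i, LocallyOfFinitePresentation (Si i).hom)
    (hsurj : ∀ x : ↥S, ∃ (i : ι) (y : ↥(Si i).left), (Si i).hom.base y = x)
    (halg : ∀ i, AlgSp.IsAlgSpace ((AlgSp.yon S).obj (Si i) ⨯ F))
    (c : Cofan (fun i => (AlgSp.yon S).obj (Si i) ⨯ F)) (hc : IsColimit c) (hcop : AlgSp.IsAlgSpace c.pt) :
    AlgSp.IsAlgSpace F := by
  refine GrothLib.AlgSp.isAlgSpace_of_repBySp_family (fun i => (yon S).obj (Si i) ⨯ F) halg (fun i => prod.snd)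
    (fun i => ?_) (fun T ξ t => ?_)
  · rw [repBySpWith_hom_iff]
    intro T ξ F' fst snd sq
    let W : Over S := Over.mk (pullback.fst (Si i).hom T.hom ≫ (Si i).hom)
    let a : W ⟶ Si i := Over.homMk (pullback.fst _ _) rfl
    let b : W ⟶ T := Over.homMk (pullback.snd _ _) pullback.condition.symm
    let m : (yon S).obj W ⟶ F' := sq.lift (prod.lift ((yon S).map a) ((yon S).map b ≫ ξ)) ((yon S).map b)
      (by rw [prod.lift_snd])
    have : IsIso m := GrothLib.AlgSp.isIso_of_yon fun T' x => by
      obtain ⟨u, hu⟩ := (yon S).map_surjective (x ≫ fst ≫ prod.fst)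
      obtain ⟨v, hv⟩ := (yon S).map_surjective (x ≫ snd)
      let w : T' ⟶ W := Over.homMk (pullback.lift u.left v.left ((Over.w u).trans (Over.w v).symm))
        (by
          show pullback.lift u.left v.left _ ≫ pullback.fst (Si i).hom T.hom ≫ (Si i).hom = T'.hom
          rw [pullback.lift_fst_assoc]
          exact Over.w u)
      have hwa : w ≫ a = u := Over.OverMorphism.ext (pullback.lift_fst _ _ _)
      have hwb : w ≫ b = v := Over.OverMorphism.ext (pullback.lift_snd _ _ _)
      refine ⟨(yon S).map w, sq.hom_ext (Limits.prod.hom_ext ?_ ?_) ?_, fun y hy => ?_⟩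
      · simp only [Category.assoc, m, IsPullback.lift_fst_assoc, prod.lift_fst]
        rw [← Functor.map_comp, hwa, hu]
      · simp only [Category.assoc, m, IsPullback.lift_fst_assoc, prod.lift_snd]
        rw [← Category.assoc, ← Functor.map_comp, hwb, hv, Category.assoc, sq.w]
      · simp only [Category.assoc, m, IsPullback.lift_snd]
        rw [← Functor.map_comp, hwb, hv]
      · obtain ⟨w', rfl⟩ := (yon S).map_surjective y
        congr 1
        refine Over.OverMorphism.ext (pullback.hom_ext ?_ ?_)
        · have h1 : w' ≫ a = u := (yon S).map_injective (by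
            rw [hu, ← hy, Functor.map_comp, Category.assoc, IsPullback.lift_fst_assoc, prod.lift_fst])
          exact (congrArg (fun k => k.left) h1).trans (congrArg (fun k => k.left) hwa).symm
        · have h2 : w' ≫ b = v := (yon S).map_injective (by
            rw [hv, ← hy, Functor.map_comp, Category.assoc, IsPullback.lift_snd])
          exact (congrArg (fun k => k.left) h2).trans (congrArg (fun k => k.left) hwb).symm
    have hsnd : snd = inv m ≫ (yon S).map b := by
      rw [IsIso.eq_inv_comp, IsPullback.lift_snd]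
    have hF' : IsAlgSpace F' := (IsAlgSpace.yon_obj W).of_iso (asIso m)
    refine ⟨hF', ?_, ?_⟩
    · refine GrothLib.AlgSp.EtLocal.flat.locP_of_repWith (IsAlgSpace.yon_obj T) ?_
      rw [hsnd]
      exact GrothLib.AlgSp.repWith_comp (GrothLib.AlgSp.repWith_iso _)
        ((repWith_yon_map_iff _ _).2 (have := hfl i; inferInstanceAs (Flat (pullback.snd (Si i).hom T.hom))))
    · refine GrothLib.AlgSp.EtLocal.lfp.locP_of_repWith (IsAlgSpace.yon_obj T) ?_
      rw [hsnd]
      exact GrothLib.AlgSp.repWith_comp (GrothLib.AlgSp.repWith_mono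
        (GrothLib.AlgSp.repWith_iso (P := @IsOpenImmersion) _) fun _ _ g (_ : IsOpenImmersion g) => inferInstance) ((repWith_yon_map_iff _ _).2
        (have := hfp i; inferInstanceAs (LocallyOfFinitePresentation (pullback.snd (Si i).hom T.hom))))
  · obtain ⟨i, y, hy⟩ := hsurj (T.hom t)
    obtain ⟨w, hw₁, hw₂⟩ := Scheme.Pullback.exists_preimage_pullback (f := (Si i).hom) (g := T.hom) y t hy
    let W : Over S := Over.mk (pullback.fst (Si i).hom T.hom ≫ (Si i).hom)
    let a : W ⟶ Si i := Over.homMk (pullback.fst _ _) rfl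
    let b : W ⟶ T := Over.homMk (pullback.snd _ _) pullback.condition.symm
    let m : (yon S).obj W ⟶ pullback (prod.snd : (yon S).obj (Si i) ⨯ F ⟶ F) ξ :=
      pullback.lift (prod.lift ((yon S).map a) ((yon S).map b ≫ ξ)) ((yon S).map b) (by rw [prod.lift_snd])
    refine ⟨i, Points.ofPt m w, ?_⟩
    rw [Points.map_ofPt, pullback.lift_snd, Points.ofPt_eq_map_ofScheme, GrothLib.AlgSp.map_yon_ofPt]
    exact congrArg _ hw₂

end Groth.Agent.S10105
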