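import Groth.Agent.Lib.AlgSp.EtaleSheaf
import Groth.Statements.S10108
-- import your own Groth.Agent.* helpers here

set_option autoImplicit false
universe u
open CategoryTheory CategoryTheory.Limits AlgebraicGeometry
open AlgSp

namespace Groth.Agent.S10108

/-- A presheaf of sets on schemes over `S` which is a sheaf for the etale topology, has diagonal
representable by schemes, and receives a representable surjective etale map from a scheme over `S`,
is an algebraic space (in particular an fppf sheaf): algebraic spaces defined with the etale
topology are the same as with the fppf topology. -/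
theorem result (S : Scheme.{u}) (F : AlgSp.PSp S)
    (h1 : Presheaf.IsSheaf (QuotSh.J Scheme.etalePrecoverage S) F)
    (h2 : (AlgSp.pyon S).relativelyRepresentable (Limits.diag F))
    (U : Over S) (p : (AlgSp.pyon S).obj U ⟶ F)
    (h3 : (MorphismProperty.inverseImage @Etale (Over.forget S)).relative (AlgSp.pyon S) p ∧
      (MorphismProperty.inverseImage @Surjective (Over.forget S)).relative (AlgSp.pyon S) p) :
    AlgSp.IsAlgSpaceP F := by
  obtain ⟨he, hs⟩ := h3
  let t : he.rep.pullback p ⟶ U := (pyon S).preimage (he.rep.fst p)
  have sq : IsPullback ((pyon S).map t) ((pyon S).map (he.rep.snd p)) p p := by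
    rw [Functor.map_preimage]; exact he.rep.isPullback p
  have : Etale (he.rep.snd p).left := he.property _ _ _ (he.rep.isPullback p)
  have : Presheaf.IsLocallySurjective (GrothLib.AlgSp.Jet S) p :=
    GrothLib.AlgSp.isLocallySurjective_jet fun T g => by
      have h₁ : Etale (he.rep.snd g).left := he.property _ _ _ (he.rep.isPullback g)
      exact ⟨_, he.rep.snd g, he.rep.fst g, inferInstance, hs.property _ _ _ (he.rep.isPullback g),
        (he.rep.isPullback g).w⟩
  exact GrothLib.AlgSp.isAlgSpaceP_of_smooth_kernelPair h1 sq

end Groth.Agent.S10108
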