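import Groth.Agent.Lib.AlgSp.OpenSub
import Groth.Agent.Lib.AlgSp.Descent
import Groth.Statements.S10111
-- import your own Groth.Agent.* helpers here

set_option autoImplicit false
universe u v
open CategoryTheory CategoryTheory.Limits AlgebraicGeometry
open AlgSp

namespace Groth.Agent.S10111

open Opposite GrothLib.AlgSp

variable {S : Scheme.{u}}

theorem map_equiv_symm {G : PSp S} {T T' : Over S} (f : T' ⟶ T) (x : G.obj (op T)) :
    uliftYonedaEquiv.{u + 1}.symm (G.map f.op x) = (pyon S).map f ≫ uliftYonedaEquiv.{u + 1}.symm x := by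
  apply uliftYonedaEquiv.{u + 1}.injective
  erw [← uliftYonedaEquiv_naturality]
  erw [Equiv.apply_symm_apply, Equiv.apply_symm_apply]
  rfl

theorem equiv_symm_comp {G F : PSp S} (m : G ⟶ F) {T : Over S} (x : G.obj (op T)) :
    uliftYonedaEquiv.{u + 1}.symm x ≫ m = uliftYonedaEquiv.{u + 1}.symm (m.app (op T) x) := by
  apply uliftYonedaEquiv.{u + 1}.injective
  rw [uliftYonedaEquiv_comp]
  erw [Equiv.apply_symm_apply, Equiv.apply_symm_apply]

theorem hom_ext_cover {K : GrothendieckTopology (Over S)} {G : PSp S} (hG : Presheaf.IsSheaf K G) {T : Over S}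
    {Q : Sieve T} (hQ : Q ∈ K T) {p q : (pyon S).obj T ⟶ G}
    (h : ∀ ⦃T' : Over S⦄ (f : T' ⟶ T), Q.arrows f → (pyon S).map f ≫ p = (pyon S).map f ≫ q) : p = q := by
  apply uliftYonedaEquiv.{u + 1}.injective
  refine ((isSheaf_iff_isSheaf_of_type K G).1 hG Q hQ).isSeparatedFor.ext fun T' f hf => ?_
  apply uliftYonedaEquiv.{u + 1}.symm.injective
  rw [map_equiv_symm, map_equiv_symm]
  erw [Equiv.symm_apply_apply, Equiv.symm_apply_apply]
  exact h f hf

theorem hom_amalgamate {K : GrothendieckTopology (Over S)} {G : PSp S} (hG : Presheaf.IsSheaf K G) {T : Over S}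
    {Q : Sieve T} (hQ : Q ∈ K T) (z : ∀ ⦃T' : Over S⦄ (f : T' ⟶ T), Q.arrows f → ((pyon S).obj T' ⟶ G))
    (hz : ∀ ⦃T' T'' : Over S⦄ (f : T' ⟶ T) (h : T'' ⟶ T') (hf : Q.arrows f) (hhf : Q.arrows (h ≫ f)),
      z (h ≫ f) hhf = (pyon S).map h ≫ z f hf) :
    ∃ p : (pyon S).obj T ⟶ G, ∀ ⦃T' : Over S⦄ (f : T' ⟶ T) (hf : Q.arrows f), (pyon S).map f ≫ p = z f hf := by
  let x : Presieve.FamilyOfElements G Q.arrows := fun T' f hf => uliftYonedaEquiv.{u + 1} (z f hf)
  have hx : x.Compatible := by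
    rw [Presieve.compatible_iff_sieveCompatible]
    intro T' T'' f h hf
    apply uliftYonedaEquiv.{u + 1}.symm.injective
    erw [Equiv.symm_apply_apply]
    rw [map_equiv_symm]
    erw [Equiv.symm_apply_apply]
    exact hz f h hf _
  obtain ⟨a, ha, -⟩ := (isSheaf_iff_isSheaf_of_type K G).1 hG Q hQ x hx
  refine ⟨uliftYonedaEquiv.{u + 1}.symm a, fun T' f hf => ?_⟩
  rw [← map_equiv_symm, ha f hf]
  exact Equiv.symm_apply_apply _ _

theorem exists_flatLfp_mem_cover {U : Over S} {Sv : Sieve U} (h : Sv ∈ J S U) (x : ↥U.left) :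
    ∃ (V : Over S) (c : V ⟶ U), Sv.arrows c ∧ Flat c.left ∧ LocallyOfFinitePresentation c.left ∧
      x ∈ Set.range c.left := by
  obtain ⟨R, hR, hle⟩ := Precoverage.mem_toGrothendieck_iff_of_isStableUnderComposition.1
    (show Sieve.overEquiv U Sv ∈ Scheme.fppfTopology U.left from h)
  obtain ⟨Y, f, hf, y, hy⟩ := Scheme.JointlySurjective.exists_eq
    (K := Scheme.precoverage (@Flat ⊓ @LocallyOfFinitePresentation)) R hR x
  exact ⟨Over.mk (f ≫ U.hom), Over.homMk f rfl, (Sieve.overEquiv_iff _ f).1 (hle _ _ hf), (hR.2 hf).1,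
    (hR.2 hf).2, ⟨y, hy⟩⟩

theorem zariski_le : QuotSh.J Scheme.zariskiPrecoverage S ≤ J S := fun U R hR =>
  Precoverage.toGrothendieck_mono Scheme.zariskiPrecoverage_le_fppfPrecoverage _
    (show Sieve.overEquiv U R ∈ _ from hR)

theorem ofArrows_mem_zariski {U : Over S} {ι : Type u} (V : ι → Over S) (c : ∀ i, V i ⟶ U)
    (ho : ∀ i, IsOpenImmersion (c i).left) (hs : ∀ x : ↥U.left, ∃ i y, (c i).left y = x) :
    Sieve.ofArrows V c ∈ QuotSh.J Scheme.zariskiPrecoverage S U := by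
  change Sieve.overEquiv U (Sieve.ofArrows V c) ∈ Scheme.zariskiPrecoverage.toGrothendieck U.left
  refine Precoverage.mem_toGrothendieck_iff_of_isStableUnderComposition.2
    ⟨Presieve.ofArrows (fun i => (V i).left) (fun i => (c i).left), ?_, ?_⟩
  · exact (Scheme.Cover.mkOfCovers (P := @IsOpenImmersion) ι (fun i => (V i).left) (fun i => (c i).left) hs ho).mem₀
  · rintro Y g ⟨i⟩
    refine (Sieve.overEquiv_iff _ _).2 ⟨V i, Over.homMk (𝟙 _) (by simp), c i, ⟨i⟩, ?_⟩
    exact Over.OverMorphism.ext (Category.id_comp _)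

/-- The opens where a covering sieve has a flat finitely presented section. -/
theorem exists_images {T : Over S} {Q : Sieve T} (hQ : Q ∈ J S T) :
    ∃ (W : ↥T.left → Over S) (j : ∀ t, W t ⟶ T), (∀ t, IsOpenImmersion (j t).left) ∧
      (∀ t, ∃ y, (j t).left y = t) ∧
      ∀ t, ∃ (V : Over S) (b : V ⟶ W t), Q.arrows (b ≫ j t) ∧ Sieve.ofArrows (fun _ : PUnit.{u + 1} => V)
        (fun _ => b) ∈ J S (W t) := by
  choose V c hc hf hp ht using fun t => exists_flatLfp_mem_cover hQ t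
  let O : ↥T.left → T.left.Opens := fun t =>
    have := hf t
    have := hp t
    ⟨Set.range (c t).left, (c t).left.isOpenMap.isOpen_range⟩
  refine ⟨fun t => Over.mk ((O t).ι ≫ T.hom), fun t => Over.homMk (O t).ι rfl, fun t => inferInstanceAs
    (IsOpenImmersion (O t).ι), fun t => ⟨⟨t, ht t⟩, rfl⟩, fun t => ?_⟩
  have hl : Set.range (c t).left ⊆ Set.range (O t).ι := by
    rw [Scheme.Opens.range_ι]; exact le_refl _
  let b₀ := IsOpenImmersion.lift (O t).ι (c t).left hl
  have hb₀ : b₀ ≫ (O t).ι = (c t).left := IsOpenImmersion.lift_fac _ _ _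
  let b : V t ⟶ Over.mk ((O t).ι ≫ T.hom) := Over.homMk b₀ (by
    change b₀ ≫ (O t).ι ≫ T.hom = _
    rw [← Category.assoc, hb₀, Over.w])
  have := hf t
  have := hp t
  have h₁ : Flat b.left := by
    have : Flat (b₀ ≫ (O t).ι) := by rw [hb₀]; infer_instance
    exact MorphismProperty.of_postcomp @Flat (W' := @IsOpenImmersion) b₀ (O t).ι inferInstance this
  have h₂ : LocallyOfFinitePresentation b.left := by
    have : LocallyOfFinitePresentation (b₀ ≫ (O t).ι) := by rw [hb₀]; infer_instance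
    exact MorphismProperty.of_postcomp @LocallyOfFinitePresentation (W' := @IsOpenImmersion) b₀ (O t).ι inferInstance this
  refine ⟨V t, b, ?_, ofArrows_mem _ _ (fun _ => h₁) (fun _ => h₂) fun x => ⟨⟨⟩, ?_⟩⟩
  · convert hc t using 1
    exact Over.OverMorphism.ext hb₀
  · obtain ⟨y, hy⟩ := x.2
    refine ⟨y, Subtype.ext ?_⟩
    rw [← hy, ← hb₀]
    rfl

/-- Let `F` be a presheaf of sets on schemes over `S` which is a Zariski sheaf, and `F_i ⊂ F` a family
of subfunctors which are fppf sheaves, whose inclusions are representable by algebraic spaces, and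
such that `∐ F_i ⟶ F` becomes surjective after fppf sheafification (every section of `F` lies fppf
locally in some `F_i`). Then `F` is an fppf sheaf. -/
theorem result (S : Scheme.{u}) (F : AlgSp.PSp S)
    (h1 : Presheaf.IsSheaf (QuotSh.J Scheme.zariskiPrecoverage S) F) {ι : Type v} (Fi : ι → AlgSp.PSp S)
    (m : ∀ i, Fi i ⟶ F) [∀ i, Mono (m i)] (ha : ∀ i, Presheaf.IsSheaf (AlgSp.J S) (Fi i))
    (hb : ∀ i, AlgSp.RepBySp (m i))
    (hc : ∀ (T : Over S) (x : F.obj (Opposite.op T)), ∃ R ∈ (AlgSp.J S) T,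
      ∀ ⦃T' : Over S⦄ (f : T' ⟶ T), R.arrows f → ∃ i, F.map f.op x ∈ Set.range ((m i).app (Opposite.op T'))) :
    Presheaf.IsSheaf (AlgSp.J S) F := by
  -- subfunctors are closed
  have closed : ∀ (i : ι) {T : Over S} (ξ : (pyon S).obj T ⟶ F) {Q : Sieve T}, Q ∈ J S T →
      (∀ ⦃T' : Over S⦄ (f : T' ⟶ T), Q.arrows f →
        ∃ a : (pyon S).obj T' ⟶ Fi i, a ≫ m i = (pyon S).map f ≫ ξ) →
      ∃ a : (pyon S).obj T ⟶ Fi i, a ≫ m i = ξ := by
    intro i T ξ Q hQ h
    choose a ha using h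
    obtain ⟨hP, -⟩ := hb i ξ _ _ (IsPullback.of_hasPullback (m i) ξ)
    obtain ⟨p, hp⟩ := hom_amalgamate hP hQ (fun T' f hf => pullback.lift (a f hf) ((pyon S).map f) (ha f hf))
      (fun T' T'' f h hf hhf => by
        apply pullback.hom_ext
        · rw [pullback.lift_fst, Category.assoc, pullback.lift_fst, ← cancel_mono (m i), ha, Category.assoc, ha,
            Functor.map_comp, Category.assoc]
        · rw [pullback.lift_snd, Category.assoc, pullback.lift_snd, Functor.map_comp])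
    have hid : p ≫ pullback.snd (m i) ξ = 𝟙 _ :=
      hom_ext_cover ((yon S).obj T).property hQ fun T' f hf => by
        refine ((Category.assoc _ _ _).symm.trans (congrArg (· ≫ pullback.snd (m i) ξ) (hp f hf))).trans ?_
        exact (pullback.lift_snd _ _ _).trans (Category.comp_id _).symm
    exact ⟨p ≫ pullback.fst _ _, by rw [Category.assoc, pullback.condition, ← Category.assoc, hid, Category.id_comp]⟩
  -- sections lie locally in some subfunctor
  have cover : ∀ {T : Over S} (ξ : (pyon S).obj T ⟶ F), ∃ Q ∈ J S T, ∀ ⦃T' : Over S⦄ (f : T' ⟶ T), Q.arrows f →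
      ∃ i, ∃ a : (pyon S).obj T' ⟶ Fi i, a ≫ m i = (pyon S).map f ≫ ξ := by
    intro T ξ
    obtain ⟨Q, hQ, h⟩ := hc T (uliftYonedaEquiv.{u + 1} ξ)
    refine ⟨Q, hQ, fun T' f hf => ?_⟩
    obtain ⟨i, a, ha⟩ := h f hf
    refine ⟨i, uliftYonedaEquiv.{u + 1}.symm a, ?_⟩
    rw [equiv_symm_comp, ha, map_equiv_symm]
    erw [Equiv.symm_apply_apply]
  -- separatedness
  have sep : ∀ {T : Over S} {R : Sieve T}, R ∈ J S T → ∀ (p q : (pyon S).obj T ⟶ F),
      (∀ ⦃T' : Over S⦄ (f : T' ⟶ T), R.arrows f → (pyon S).map f ≫ p = (pyon S).map f ≫ q) → p = q := by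
    intro T R hR p q h
    obtain ⟨Q, hQ, hp⟩ := cover p
    obtain ⟨W, j, hj, hcov, hV⟩ := exists_images hQ
    refine hom_ext_cover h1 (ofArrows_mem_zariski W j hj fun t => ⟨t, hcov t⟩) fun T' f hf => ?_
    obtain ⟨_, k, _, ⟨t⟩, rfl⟩ := hf
    obtain ⟨V, b, hb', hbc⟩ := hV t
    obtain ⟨i, a, hap⟩ := hp _ hb'
    obtain ⟨a₁, ha₁⟩ := closed i ((pyon S).map (j t) ≫ p) hbc fun Z g hg => by
      obtain ⟨_, l, _, ⟨_⟩, rfl⟩ := hg
      exact ⟨(pyon S).map l ≫ a, by simp only [Category.assoc, hap, Functor.map_comp]⟩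
    have hRW := GrothendieckTopology.pullback_stable (J S) (j t) hR
    obtain ⟨a₂, ha₂⟩ := closed i ((pyon S).map (j t) ≫ q) hRW fun Z g hg =>
      ⟨(pyon S).map g ≫ a₁, by
        rw [Category.assoc, ha₁, ← Category.assoc, ← Functor.map_comp, h _ hg, Functor.map_comp, Category.assoc]⟩
    have : a₁ = a₂ := hom_ext_cover (ha i) hRW fun Z g hg => by
      rw [← cancel_mono (m i), Category.assoc, Category.assoc, ha₁, ha₂, ← Category.assoc, ← Category.assoc,
        ← Functor.map_comp, h _ hg]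
    rw [Functor.map_comp, Category.assoc, Category.assoc, ← ha₁, ← ha₂, this]
  rw [isSheaf_iff_isSheaf_of_type]
  intro T R hR
  rw [← Presieve.isSeparatedFor_and_exists_isAmalgamation_iff_isSheafFor]
  refine ⟨fun x p q hp hq => ?_, fun x hx => ?_⟩
  · refine uliftYonedaEquiv.{u + 1}.symm.injective (sep hR _ _ fun T' f hf => ?_)
    rw [← map_equiv_symm, ← map_equiv_symm, hp f hf, hq f hf]
  · let z : ∀ ⦃T' : Over S⦄ (f : T' ⟶ T), R.arrows f → ((pyon S).obj T' ⟶ F) :=
      fun T' f hf => uliftYonedaEquiv.{u + 1}.symm (x f hf)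
    have hz : ∀ ⦃T' T'' : Over S⦄ (f : T' ⟶ T) (g : T'' ⟶ T') (hf : R.arrows f) (hgf : R.arrows (g ≫ f)),
        z (g ≫ f) hgf = (pyon S).map g ≫ z f hf := by
      intro T' T'' f g hf hgf
      refine (congrArg uliftYonedaEquiv.{u + 1}.symm ?_).trans (map_equiv_symm g (x f hf))
      exact ((Presieve.compatible_iff_sieveCompatible x).1 hx) f g hf
    -- members lying in a subfunctor
    let R' : Sieve T :=
      { arrows := fun T' f => ∃ hf : R.arrows f, ∃ i, ∃ a : (pyon S).obj T' ⟶ Fi i, a ≫ m i = z f hf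
        downward_closed := fun {T' T'' f} hf g => by
          obtain ⟨hf, i, a, ha⟩ := hf
          exact ⟨R.downward_closed hf g, i, (pyon S).map g ≫ a, by rw [Category.assoc, ha, hz f g hf]⟩ }
    have hR' : R' ∈ J S T := GrothendieckTopology.transitive (J S) hR _ fun T' f hf => by
      obtain ⟨Q, hQ, h⟩ := cover (z f hf)
      refine GrothendieckTopology.superset_covering _ ?_ hQ
      intro T'' g hg
      obtain ⟨i, a, ha⟩ := h g hg
      exact ⟨R.downward_closed hf g, i, a, by rw [ha, hz f g hf]⟩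
    obtain ⟨W, j, hj, hcov, hV⟩ := exists_images hR'
    have local_ : ∀ t, ∃ ξ : (pyon S).obj (W t) ⟶ F, ∀ ⦃Z : Over S⦄ (g : Z ⟶ W t) (hg : R.arrows (g ≫ j t)),
        (pyon S).map g ≫ ξ = z (g ≫ j t) hg := by
      intro t
      obtain ⟨V, b, ⟨hb', i, a₀, ha₀⟩, hbc⟩ := hV t
      have hin : ∀ ⦃Z : Over S⦄ (g : Z ⟶ W t) (hg : R.arrows (g ≫ j t)),
          ∃ a : (pyon S).obj Z ⟶ Fi i, a ≫ m i = z (g ≫ j t) hg := fun Z g hg =>
        closed i _ (GrothendieckTopology.pullback_stable (J S) g hbc) fun Z' h hh => by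
          obtain ⟨_, l, _, ⟨_⟩, hl⟩ := hh
          refine ⟨(pyon S).map l ≫ a₀, ?_⟩
          rw [Category.assoc, ha₀, ← hz (g ≫ j t) h hg (R.downward_closed hg h),
            ← hz (b ≫ j t) l hb' (R.downward_closed hb' l)]
          congr 1
          rw [← Category.assoc, hl, Category.assoc]
      choose a ha' using hin
      have hRW : R.pullback (j t) ∈ J S (W t) := GrothendieckTopology.pullback_stable (J S) (j t) hR
      obtain ⟨p, hp⟩ := hom_amalgamate (ha i) hRW (fun Z g hg => a g hg) (fun Z Z' g h hg hhg => by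
        rw [← cancel_mono (m i), Category.assoc, ha' g hg, ← hz (g ≫ j t) h hg (R.downward_closed hg h)]
        refine (ha' (h ≫ g) hhg).trans ?_
        congr 1)
      exact ⟨p ≫ m i, fun Z g hg => by rw [← Category.assoc, hp g hg, ha']⟩
    choose ξ hξ using local_
    let Zc := Sieve.ofArrows W j
    have hZc := ofArrows_mem_zariski W j hj fun t => ⟨t, hcov t⟩
    have agree : ∀ {Z : Over S} (t t' : ↥T.left) (g : Z ⟶ W t) (g' : Z ⟶ W t'), g ≫ j t = g' ≫ j t' →
        (pyon S).map g ≫ ξ t = (pyon S).map g' ≫ ξ t' := by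
      intro Z t t' g g' e
      refine sep (GrothendieckTopology.pullback_stable (J S) (g ≫ j t) hR) _ _ fun Z' h hh => ?_
      have h₁ : R.arrows ((h ≫ g) ≫ j t) := by rw [Category.assoc]; exact hh
      have h₂ : R.arrows ((h ≫ g') ≫ j t') := by rw [Category.assoc, ← e]; exact hh
      rw [← Category.assoc, ← Category.assoc, ← Functor.map_comp, ← Functor.map_comp, hξ t _ h₁, hξ t' _ h₂]
      congr 1
      rw [Category.assoc, Category.assoc, e]
    have hex : ∀ ⦃Z : Over S⦄ (f : Z ⟶ T), Zc.arrows f → ∃ t, ∃ g : Z ⟶ W t, g ≫ j t = f := fun Z f hf => by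
      obtain ⟨_, g, _, ⟨t⟩, rfl⟩ := hf
      exact ⟨t, g, rfl⟩
    choose tt gg hgg using hex
    obtain ⟨p, hp⟩ := hom_amalgamate h1 hZc (fun Z f hf => (pyon S).map (gg f hf) ≫ ξ (tt f hf))
      (fun Z Z' f h hf hhf => by
        rw [← Category.assoc, ← Functor.map_comp]
        exact agree _ _ _ _ (by rw [hgg, Category.assoc, hgg]))
    refine ⟨uliftYonedaEquiv.{u + 1} p, fun T' f hf => ?_⟩
    refine uliftYonedaEquiv.{u + 1}.symm.injective ?_
    rw [map_equiv_symm]
    erw [Equiv.symm_apply_apply]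
    refine sep (zariski_le _ (GrothendieckTopology.pullback_stable _ f hZc)) _ _ fun Z h hh => ?_
    have hR₂ : R.arrows (gg (h ≫ f) hh ≫ j (tt (h ≫ f) hh)) := by rw [hgg]; exact R.downward_closed hf h
    rw [← Category.assoc, ← Functor.map_comp, hp _ hh, hξ _ _ hR₂]
    refine Eq.trans ?_ (hz f h hf (R.downward_closed hf h))
    congr 1
    exact hgg _ hh

end Groth.Agent.S10111
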