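import Groth.Agent.Lib.AlgSp.GpdBasic
import Groth.Agent.Lib.AlgSp.GpdFormal
import Groth.Statements.S10113
-- import your own Groth.Agent.* helpers here

set_option autoImplicit false
universe u
open CategoryTheory CategoryTheory.Limits AlgebraicGeometry
open AlgSp

namespace Groth.Agent.S10113

/-- Let `s, t : R ⟶ U` be a pre-relation of algebraic spaces, `M` an algebraic space and `U ⟶ M` a
morphism which coequalizes `s, t`, is a surjection of sheaves, and for which `(t, s) : R ⟶ U ×_M U`
is a surjection of sheaves. Then the induced map `U/R ⟶ M` is an isomorphism: `M` represents the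
quotient sheaf. -/
theorem result (S : Scheme.{u}) (R U M : AlgSp.Sp S)
    (hR : AlgSp.IsAlgSpace R) (hU : AlgSp.IsAlgSpace U) (hM : AlgSp.IsAlgSpace M) (s t : R ⟶ U)
    (q : U ⟶ M) (w : s ≫ q = t ≫ q) [Epi q] [Epi (pullback.lift t s w.symm : R ⟶ pullback q q)] :
    IsIso (AlgSp.quotSpDesc q w) := by
  have h₀ : quotSpπ s t ≫ quotSpDesc q w = q := quotSpπ_desc s t q w
  have : Epi (quotSpDesc q w) := by
    have : Epi (quotSpπ s t ≫ quotSpDesc q w) := h₀.symm ▸ ‹Epi q›
    exact epi_of_epi (quotSpπ s t) _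
  have : Mono (quotSpDesc q w) := GrothLib.AlgSp.mono_of_yon fun T x y e => by
    have : Epi (quotSpπ s t) := coequalizer.π_epi
    obtain ⟨Q₁, hQ₁, h₁⟩ := GrothLib.AlgSp.exists_lift_cover (quotSpπ s t) x
    obtain ⟨Q₂, hQ₂, h₂⟩ := GrothLib.AlgSp.exists_lift_cover (quotSpπ s t) y
    refine GrothLib.AlgSp.yon_hom_ext_cover (GrothendieckTopology.intersection_covering _ hQ₁ hQ₂) fun T' f hf => ?_
    obtain ⟨a, ha⟩ := h₁ f hf.1
    obtain ⟨b, hb⟩ := h₂ f hf.2
    rw [← ha, ← hb]
    have eab : a ≫ q = b ≫ q := by rw [← h₀, reassoc_of% ha, reassoc_of% hb, e]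
    obtain ⟨Q, hQ, hr⟩ := GrothLib.AlgSp.exists_lift_cover (pullback.lift t s w.symm) (pullback.lift a b eab)
    refine GrothLib.AlgSp.yon_hom_ext_cover hQ fun Z k hk => ?_
    obtain ⟨r, hr⟩ := hr k hk
    have hr₁ : r ≫ t = (yon S).map k ≫ a := by
      have := hr =≫ pullback.fst q q
      rwa [Category.assoc, Category.assoc, pullback.lift_fst, pullback.lift_fst] at this
    have hr₂ : r ≫ s = (yon S).map k ≫ b := by
      have := hr =≫ pullback.snd q q
      rwa [Category.assoc, Category.assoc, pullback.lift_snd, pullback.lift_snd] at this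
    rw [← Category.assoc, ← Category.assoc, ← hr₁, ← hr₂, Category.assoc, Category.assoc, quotSp_condition]
  exact isIso_of_mono_of_epi _

end Groth.Agent.S10113
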