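import Groth.Agent.Lib.AlgSp.GpdBasic
import Groth.Agent.Lib.AlgSp.GpdFormal
import Groth.Statements.S10115
-- import your own Groth.Agent.* helpers here

set_option autoImplicit false
universe u
open CategoryTheory CategoryTheory.Limits AlgebraicGeometry
open AlgSp AlgSp.GroupoidSp

namespace Groth.Agent.S10115

/-- For a groupoid `(U, R, s, t, c)` in algebraic spaces over `B`, let `(U', R', s', t', c')` be its
restriction along a morphism `g : U' ⟶ U` over `B`. Then `U'/R' ⟶ U/R` is injective; if the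
composite `h : U' ×_{g, U, t} R ⟶ R ⟶ U` of the projection with `s` is a surjection of fppf sheaves
(for instance if `g` is), then it is bijective. -/
theorem result (S : Scheme.{u}) (B : AlgSp.Sp S) (hB : AlgSp.IsAlgSpace B)
    (G G' : AlgSp.GroupoidSp B) (hU : AlgSp.IsAlgSpace G.U) (hR : AlgSp.IsAlgSpace G.R)
    (hU' : AlgSp.IsAlgSpace G'.U) (hR' : AlgSp.IsAlgSpace G'.R) (φ : AlgSp.GroupoidSp.Hom G' G)
    (hφ : φ.IsRestriction) (ψ : G'.quot ⟶ G.quot) (hψ : G'.quotπ ≫ ψ = φ.fU ≫ G.quotπ) :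
    Mono ψ ∧ (Epi (pullback.snd φ.fU G.t ≫ G.s) → IsIso ψ) := by
  have hm : Mono ψ :=
    GrothLib.AlgSp.mono_quot_map (M := G.U) (GrothLib.AlgSp.isPreEqvRelSp_gpd G) φ.fU ψ hψ fun T a b r hr₁ hr₂ => by
      have hab : a ≫ G'.pU = b ≫ G'.pU := by
        rw [← φ.fU_over, ← reassoc_of% hr₁, ← reassoc_of% hr₂, G.t_over, G.s_over]
      have w : r ≫ G.j = pullback.lift a b hab ≫ φ.prodMap := by
        apply pullback.hom_ext
        · rw [Category.assoc, Category.assoc, G.j_fst, GroupoidSp.Hom.prodMap, pullback.map, pullback.lift_fst,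
            pullback.lift_fst_assoc, hr₁]
        · rw [Category.assoc, Category.assoc, G.j_snd, GroupoidSp.Hom.prodMap, pullback.map, pullback.lift_snd,
            pullback.lift_snd_assoc, hr₂]
      refine ⟨IsPullback.lift hφ r (pullback.lift a b hab) w, ?_, ?_⟩
      · have := IsPullback.lift_snd hφ r (pullback.lift a b hab) w =≫ pullback.fst _ _
        rwa [Category.assoc, G'.j_fst, pullback.lift_fst] at this
      · have := IsPullback.lift_snd hφ r (pullback.lift a b hab) w =≫ pullback.snd _ _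
        rwa [Category.assoc, G'.j_snd, pullback.lift_snd] at this
  refine ⟨hm, fun hh => ?_⟩
  have : Epi G.quotπ := coequalizer.π_epi
  have e : (pullback.snd φ.fU G.t ≫ G.s) ≫ G.quotπ = (pullback.fst φ.fU G.t ≫ G'.quotπ) ≫ ψ := by
    rw [Category.assoc, Category.assoc, hψ, pullback.condition_assoc]
    congr 1
    exact quotSp_condition G.s G.t
  have : Epi ((pullback.fst φ.fU G.t ≫ G'.quotπ) ≫ ψ) := e ▸ epi_comp _ _
  have : Epi ψ := epi_of_epi (pullback.fst φ.fU G.t ≫ G'.quotπ) ψ
  exact isIso_of_mono_of_epi _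

end Groth.Agent.S10115
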