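import Groth.Statements.S10116
import Groth.Agent.Lib.AlgSp.UnivClosed
import Mathlib.CategoryTheory.Monoidal.Cartesian.Grp
-- import your own Groth.Agent.* helpers here

set_option autoImplicit false
universe u
open CategoryTheory CategoryTheory.Limits AlgebraicGeometry MonoidalCategory MonObj
open AlgSp
open scoped MonObj

namespace Groth.Agent.S10116

/-- Let `G` be a group algebraic space over an algebraic space `B` with unit `e : B ⟶ G`. Then `G ⟶ B`
is separated if and only if `e` is a closed immersion, quasi-separated if and only if `e` is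
quasi-compact, and if `G ⟶ B` is locally separated then `e` is an immersion. (The published
statement makes the last part an equivalence as well; this row states only that a locally separated
`G ⟶ B` has `e` an immersion.) -/
theorem result (S : Scheme.{u}) (B : AlgSp.Sp S) (hB : AlgSp.IsAlgSpace B)
    (G : Over B) [GrpObj G] (hG : AlgSp.IsAlgSpace G.left) :
    (AlgSp.IsSeparatedMor G.hom ↔ AlgSp.RepWith @IsClosedImmersion (η[G]).left) ∧
      (AlgSp.IsQuasiSeparatedMor G.hom ↔ AlgSp.IsQuasiCompactMor (η[G]).left) ∧
      (AlgSp.IsLocallySeparatedMor G.hom → AlgSp.RepWith @IsImmersion (η[G]).left) := by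
  have hs : (η[G]).left ≫ G.hom = 𝟙 B := Over.w η[G]
  let D : Over B := Over.mk (pullback.fst G.hom G.hom ≫ G.hom)
  let f₁ : D ⟶ G := Over.homMk (pullback.fst G.hom G.hom) rfl
  let f₂ : D ⟶ G := Over.homMk (pullback.snd G.hom G.hom) (pullback.condition.symm)
  let d : D ⟶ G := f₁ / f₂
  have hd : d.left ≫ G.hom = pullback.fst G.hom G.hom ≫ G.hom := Over.w d
  have sq : IsPullback G.hom (pullback.diagonal G.hom) (η[G]).left d.left := by
    let δ : G ⟶ D := Over.homMk (pullback.diagonal G.hom) (by
      change pullback.diagonal G.hom ≫ pullback.fst G.hom G.hom ≫ G.hom = G.hom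
      rw [pullback.diagonal_fst_assoc])
    have hδ : δ ≫ d = 1 := by
      rw [GrpObj.comp_div, div_eq_one]
      apply Over.OverMorphism.ext
      change pullback.diagonal G.hom ≫ pullback.fst G.hom G.hom = pullback.diagonal G.hom ≫ pullback.snd G.hom G.hom
      rw [pullback.diagonal_fst, pullback.diagonal_snd]
    refine GrothLib.AlgSp.isPullback_of_yon ?_ fun T a b hab => ?_
    · have h := congrArg CommaMorphism.left hδ
      rw [Hom.one_def] at h
      simpa [δ] using h.symm
    · have ha : b ≫ pullback.fst G.hom G.hom ≫ G.hom = a := by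
        rw [← hd, ← reassoc_of% hab, hs, Category.comp_id]
      let Tb : Over B := Over.mk (b ≫ pullback.fst G.hom G.hom ≫ G.hom)
      let m : Tb ⟶ D := Over.homMk b rfl
      have hm : m ≫ d = 1 := by
        rw [Hom.one_def]
        apply Over.OverMorphism.ext
        simp only [Over.comp_left, Over.toUnit_left]
        change b ≫ d.left = (b ≫ pullback.fst G.hom G.hom ≫ G.hom) ≫ (η[G]).left
        rw [ha, hab]
      rw [GrpObj.comp_div, div_eq_one] at hm
      have hm' : b ≫ pullback.fst G.hom G.hom = b ≫ pullback.snd G.hom G.hom := congrArg CommaMorphism.left hm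
      refine ⟨b ≫ pullback.fst _ _, ⟨by rw [Category.assoc, ha], ?_⟩, fun c hc => ?_⟩
      · apply pullback.hom_ext
        · rw [Category.assoc, pullback.diagonal_fst, Category.comp_id]
        · rw [Category.assoc, pullback.diagonal_snd, Category.comp_id, hm']
      · rw [← hc.2, Category.assoc, pullback.diagonal_fst, Category.comp_id]
  refine ⟨⟨fun h => GrothLib.AlgSp.repWith_section G.hom _ hs h, fun h => GrothLib.AlgSp.repWith_of_isPullback sq h⟩,
    ⟨fun h => GrothLib.AlgSp.isQuasiCompactMor_of_repWith (GrothLib.AlgSp.repWith_section G.hom _ hs h),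
      fun h => GrothLib.AlgSp.repWith_of_isPullback sq
        (GrothLib.AlgSp.repWith_quasiCompact_of_isQuasiCompactMor ?_ h)⟩,
    fun h => GrothLib.AlgSp.repWith_section G.hom _ hs h⟩
  exact (GrothLib.AlgSp.repWith_section G.hom _ hs
    (GrothLib.AlgSp.repWith_diagonal G.hom (GrothLib.AlgSp.repWith_diag_mono hG))).1

end Groth.Agent.S10116
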