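import Groth.Statements.S10118
import Groth.Agent.Lib.AlgSp.FiniteNhd
import Groth.Agent.Lib.AlgSp.UnramMono
-- import your own Groth.Agent.* helpers here

set_option autoImplicit false
universe u
open CategoryTheory CategoryTheory.Limits AlgebraicGeometry MonoidalCategory MonObj
open AlgSp AlgSp.GAction
open MonoidalCategory CartesianMonoidalCategory

namespace Groth.Agent.S10118

/-- Let `X` be a pseudo-torsor under a group algebraic space `G` over an algebraic space `B`, where both
`G` and `X` are locally of finite type over `B`. Whenever `G ⟶ B` is unramified, `X ⟶ B` is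
unramified too; likewise, local quasi-finiteness passes from `G ⟶ B` to `X ⟶ B`. -/
theorem result (S : Scheme.{u}) (B : AlgSp.Sp S) (hB : AlgSp.IsAlgSpace B)
    (G X : Over B) [GrpObj G] (hG : AlgSp.IsAlgSpace G.left) (hX : AlgSp.IsAlgSpace X.left)
    (a : AlgSp.GAction G X) (ha : a.IsPseudoTorsor)
    (hGt : AlgSp.LocP @LocallyOfFiniteType G.hom) (hXt : AlgSp.LocP @LocallyOfFiniteType X.hom) :
    (AlgSp.LocP (@LocallyOfFiniteType ⊓ @FormallyUnramified) G.hom →
        AlgSp.LocP (@LocallyOfFiniteType ⊓ @FormallyUnramified) X.hom) ∧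
      (AlgSp.LocP (@LocallyQuasiFinite ⊓ @LocallyOfFiniteType) G.hom →
        AlgSp.LocP (@LocallyQuasiFinite ⊓ @LocallyOfFiniteType) X.hom) := by
  open GrothLib.AlgSp in
  classical
  haveI : IsIso (lift a.act (snd G X)) := ha
  let e : pullback G.hom X.hom ≅ pullback X.hom X.hom := (Over.forget B).mapIso (asIso (lift a.act (snd G X)))
  have he : e.hom ≫ pullback.snd X.hom X.hom = pullback.snd G.hom X.hom :=
    congrArg CommaMorphism.left (lift_snd a.act (snd G X))
  have sq : IsPullback (e.inv ≫ pullback.fst G.hom X.hom) (pullback.snd X.hom X.hom) G.hom X.hom :=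
    (IsPullback.of_hasPullback G.hom X.hom).of_iso e (Iso.refl _) (Iso.refl _) (Iso.refl _)
      (by simp) (by simp [he]) (by simp) (by simp)
  have hXX : AlgSp.IsAlgSpace (pullback X.hom X.hom) := isAlgSpace_pullback' hB hX hX X.hom X.hom
  constructor
  · intro hu
    have h := EtLocal.locP_of_isPullback (EtLocal.lft.inf EtLocal.formallyUnramified) hG hB hX sq hu
    exact locP_unramified_of_diagonal hXt (repWith_of_isPullback
      (isPullback_section (pullback.snd X.hom X.hom) (pullback.diagonal X.hom) (pullback.diagonal_snd _))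
      (repWith_openImmersion_diagonal_of_unramified hXX hX h))
  · intro hq
    have h := EtLocal.locP_of_isPullback (EtLocal.lqf.inf EtLocal.lft) hG hB hX sq hq
    refine locP_lqf_of_fibreDim hX hB hXt fun x => ?_
    have hx : AlgSp.Points.map (pullback.fst X.hom X.hom) (AlgSp.Points.map (pullback.diagonal X.hom) x) = x := by
      rw [← AlgSp.Points.map_comp, pullback.diagonal_fst, AlgSp.Points.map_id]
    rw [← hx, ← fibreDim_le_zero_baseChange hX hB hX (IsPullback.of_hasPullback X.hom X.hom) hXt]
    obtain ⟨U, V, b, k, c, u, hb, hk, w, hu⟩ := exists_chart_at hXX hX (pullback.snd X.hom X.hom)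
      (AlgSp.Points.map (pullback.diagonal X.hom) x)
    haveI : LocallyOfFiniteType c.left := (h b k c hb hk w).2
    rw [← hu]
    exact (hasAtMor_fibreDim_iff hXX hX hb hk w u (fun d => d ≤ 0)).2
      ((lqf_iff_fibreDimAt c.left).1 (h b k c hb hk w).1 u)

end Groth.Agent.S10118
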