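import Groth.Agent.Lib.AlgSp.Points
import Groth.Statements.S10121
-- import your own Groth.Agent.* helpers here

set_option autoImplicit false
universe u
open CategoryTheory CategoryTheory.Limits AlgebraicGeometry
open AlgSp

namespace Groth.Agent.S10121

/-- For a pre-equivalence relation `s, t : R ⟶ U` of algebraic spaces, the relation on points of `U`
given by `x ∼ y` when some point `r` of `R` has `t(r) = x` and `s(r) = y` is an equivalence relation
on `|U|`. -/
theorem result (S : Scheme.{u}) (R U : AlgSp.Sp S)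
    (hR : AlgSp.IsAlgSpace R) (hU : AlgSp.IsAlgSpace U) (s t : R ⟶ U) (h : AlgSp.IsPreEqvRelSp s t) :
    _root_.Equivalence (fun x y : AlgSp.Points U =>
      ∃ r : AlgSp.Points R, AlgSp.Points.map t r = x ∧ AlgSp.Points.map s r = y) := by
  refine ⟨fun x => ?_, ?_, ?_⟩
  · obtain ⟨K, _, str, g, rfl⟩ := GrothLib.AlgSp.exists_ofPt x
    obtain ⟨r, h₁, h₂⟩ := (h (Over.mk str)).refl g
    exact ⟨Points.ofPt r (IsLocalRing.closedPoint K), by rw [Points.map_ofPt, h₁], by rw [Points.map_ofPt, h₂]⟩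
  · rintro x y ⟨p, rfl, rfl⟩
    obtain ⟨K, _, str, g, rfl⟩ := GrothLib.AlgSp.exists_ofPt p
    obtain ⟨r, h₁, h₂⟩ := (h (Over.mk str)).symm ⟨g, rfl, rfl⟩
    exact ⟨Points.ofPt r (IsLocalRing.closedPoint K), by rw [Points.map_ofPt, Points.map_ofPt, h₁],
      by rw [Points.map_ofPt, Points.map_ofPt, h₂]⟩
  · rintro x y z ⟨p, rfl, hy⟩ ⟨p', hy', rfl⟩
    obtain ⟨K, _, str, a, b, hab, rfl, rfl⟩ := GrothLib.AlgSp.exists_common_field (hy.trans hy'.symm)
    obtain ⟨r, h₁, h₂⟩ := (h (Over.mk str)).trans ⟨a, rfl, hab⟩ ⟨b, rfl, rfl⟩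
    exact ⟨Points.ofPt r (IsLocalRing.closedPoint K), by rw [Points.map_ofPt, Points.map_ofPt, h₁],
      by rw [Points.map_ofPt, Points.map_ofPt, h₂]⟩

end Groth.Agent.S10121
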