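import Groth.Statements.S10123
import Groth.Agent.Lib.AlgSp.GpdBasic
-- import your own Groth.Agent.* helpers here

set_option autoImplicit false
universe u
open CategoryTheory CategoryTheory.Limits AlgebraicGeometry
open AlgSp AlgSp.GroupoidSp

namespace Groth.Agent.S10123

/-- Let `(U', R', s', t', c')` be the restriction of a groupoid in algebraic spaces `(U, R, s, t, c)`
over `B` along `g : U' ⟶ U`. If `s, t, g` are locally of finite type (resp. locally of finite
presentation, resp. flat) then so are `s', t'`. -/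
theorem result (S : Scheme.{u}) (B : AlgSp.Sp S) (hB : AlgSp.IsAlgSpace B)
    (G G' : AlgSp.GroupoidSp B) (hU : AlgSp.IsAlgSpace G.U) (hR : AlgSp.IsAlgSpace G.R)
    (hU' : AlgSp.IsAlgSpace G'.U) (hR' : AlgSp.IsAlgSpace G'.R) (φ : AlgSp.GroupoidSp.Hom G' G)
    (hφ : φ.IsRestriction) :
    (AlgSp.LocP @LocallyOfFiniteType G.s → AlgSp.LocP @LocallyOfFiniteType G.t →
        AlgSp.LocP @LocallyOfFiniteType φ.fU →
        AlgSp.LocP @LocallyOfFiniteType G'.s ∧ AlgSp.LocP @LocallyOfFiniteType G'.t) ∧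
      (AlgSp.LocP @LocallyOfFinitePresentation G.s → AlgSp.LocP @LocallyOfFinitePresentation G.t →
        AlgSp.LocP @LocallyOfFinitePresentation φ.fU →
        AlgSp.LocP @LocallyOfFinitePresentation G'.s ∧ AlgSp.LocP @LocallyOfFinitePresentation G'.t) ∧
      (AlgSp.LocP @Flat G.s → AlgSp.LocP @Flat G.t → AlgSp.LocP @Flat φ.fU →
        AlgSp.LocP @Flat G'.s ∧ AlgSp.LocP @Flat G'.t) := by
  have key : ∀ {P : MorphismProperty Scheme.{u}}, GrothLib.AlgSp.EtLocal P → AlgSp.LocP P G.s →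
      AlgSp.LocP P G.t → AlgSp.LocP P φ.fU → AlgSp.LocP P G'.s ∧ AlgSp.LocP P G'.t := by
    intro P hP hs ht hg
    have h₁ := GrothLib.AlgSp.isAlgSpace_pullback' hU hR hU' G.s φ.fU
    have h₂ := GrothLib.AlgSp.isAlgSpace_pullback' hU hR hU' G.t φ.fU
    constructor
    · rw [show G'.s = pullback.lift φ.fR G'.s φ.comm_s ≫ pullback.snd G.s φ.fU from (pullback.lift_snd _ _ _).symm]
      exact hP.locP_comp hR' h₁ hU'
        (hP.locP_of_isPullback hU' hU h₁ (GrothLib.AlgSp.isPullback_restriction_s φ hφ) hg)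
        (hP.locP_of_isPullback hR hU hU' (IsPullback.of_hasPullback _ _) hs)
    · rw [show G'.t = pullback.lift φ.fR G'.t φ.comm_t ≫ pullback.snd G.t φ.fU from (pullback.lift_snd _ _ _).symm]
      exact hP.locP_comp hR' h₂ hU'
        (hP.locP_of_isPullback hU' hU h₂ (GrothLib.AlgSp.isPullback_restriction_t φ hφ) hg)
        (hP.locP_of_isPullback hR hU hU' (IsPullback.of_hasPullback _ _) ht)
  refine ⟨?_, ?_, ?_⟩
  · intro hs ht hg
    exact key GrothLib.AlgSp.EtLocal.lft hs ht hg
  · intro hs ht hg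
    exact key GrothLib.AlgSp.EtLocal.lfp hs ht hg
  · intro hs ht hg
    exact key GrothLib.AlgSp.EtLocal.flat hs ht hg

end Groth.Agent.S10123
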