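import Groth.Agent.Lib.AlgSp.GpdBasic
import Groth.Agent.Lib.AlgSp.GpdFormal
import Groth.Statements.S10124
-- import your own Groth.Agent.* helpers here

set_option autoImplicit false
universe u
open CategoryTheory CategoryTheory.Limits AlgebraicGeometry
open AlgSp AlgSp.GroupoidSp

namespace Groth.Agent.S10124

/-- Let `(U, R, s, t, c)` be a groupoid in algebraic spaces over `B`, `K` a field and `r, r' : Spec K ⟶
R` with `t ∘ r = t ∘ r'`; put `u = s ∘ r`, `u' = s ∘ r'`. Then the fibres `Spec K ×_{u, U, s} R` and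
`Spec K ×_{u', U, s} R` are isomorphic as spaces over `Spec K` (existence of an isomorphism over
`Spec K`). -/
theorem result (S : Scheme.{u}) (B : AlgSp.Sp S) (hB : AlgSp.IsAlgSpace B)
    (G : AlgSp.GroupoidSp B) (hU : AlgSp.IsAlgSpace G.U) (hR : AlgSp.IsAlgSpace G.R)
    (K : Type u) [Field K] (σ : Spec (CommRingCat.of K) ⟶ S)
    (r r' : (AlgSp.yon S).obj (Over.mk σ) ⟶ G.R) (h : r ≫ G.t = r' ≫ G.t) :
    Nonempty (Over.mk (pullback.fst (r ≫ G.s) G.s) ≅ Over.mk (pullback.fst (r' ≫ G.s) G.s)) := by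
  have key : ∀ (r r' : (yon S).obj (Over.mk σ) ⟶ G.R), r ≫ G.t = r' ≫ G.t →
      ∃ F : pullback (r ≫ G.s) G.s ⟶ pullback (r' ≫ G.s) G.s, F ≫ pullback.fst _ _ = pullback.fst _ _ ∧
        ∃ (h₁ : pullback.snd (r ≫ G.s) G.s ≫ G.s = (pullback.fst (r ≫ G.s) G.s ≫ r ≫ G.i) ≫ G.t)
          (h₂ : GrothLib.AlgSp.gmul G (pullback.snd (r ≫ G.s) G.s) (pullback.fst (r ≫ G.s) G.s ≫ r ≫ G.i) h₁ ≫ G.s =
            (pullback.fst (r ≫ G.s) G.s ≫ r') ≫ G.t),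
          F ≫ pullback.snd _ _ = GrothLib.AlgSp.gmul G
            (GrothLib.AlgSp.gmul G (pullback.snd (r ≫ G.s) G.s) (pullback.fst (r ≫ G.s) G.s ≫ r ≫ G.i) h₁)
            (pullback.fst (r ≫ G.s) G.s ≫ r') h₂ := by
    intro r r' h
    have h₁ : pullback.snd (r ≫ G.s) G.s ≫ G.s = (pullback.fst (r ≫ G.s) G.s ≫ r ≫ G.i) ≫ G.t := by
      rw [Category.assoc, Category.assoc, G.i_t, ← pullback.condition]
    have h₂ : GrothLib.AlgSp.gmul G (pullback.snd (r ≫ G.s) G.s) (pullback.fst (r ≫ G.s) G.s ≫ r ≫ G.i) h₁ ≫ G.s =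
        (pullback.fst (r ≫ G.s) G.s ≫ r') ≫ G.t := by
      rw [GrothLib.AlgSp.gmul_s, Category.assoc, Category.assoc, G.i_s, Category.assoc, h]
    exact ⟨pullback.lift (pullback.fst _ _) (GrothLib.AlgSp.gmul G _ _ h₂) (by
      rw [GrothLib.AlgSp.gmul_s, Category.assoc]), pullback.lift_fst _ _ _, h₁, h₂, pullback.lift_snd _ _ _⟩
  obtain ⟨F, hF₁, p₁, p₂, hF⟩ := key r r' h
  obtain ⟨F', hF₁', q₁, q₂, hF'⟩ := key r' r h.symm
  have inv₁ : ∀ (r r' : (yon S).obj (Over.mk σ) ⟶ G.R) (F : pullback (r ≫ G.s) G.s ⟶ pullback (r' ≫ G.s) G.s)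
      (F' : pullback (r' ≫ G.s) G.s ⟶ pullback (r ≫ G.s) G.s)
      (hF₁ : F ≫ pullback.fst _ _ = pullback.fst _ _) (hF₁' : F' ≫ pullback.fst _ _ = pullback.fst _ _)
      p₁ p₂ q₁ q₂
      (hF : F ≫ pullback.snd _ _ = GrothLib.AlgSp.gmul G
            (GrothLib.AlgSp.gmul G (pullback.snd (r ≫ G.s) G.s) (pullback.fst (r ≫ G.s) G.s ≫ r ≫ G.i) p₁)
            (pullback.fst (r ≫ G.s) G.s ≫ r') p₂)
      (hF' : F' ≫ pullback.snd _ _ = GrothLib.AlgSp.gmul G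
            (GrothLib.AlgSp.gmul G (pullback.snd (r' ≫ G.s) G.s) (pullback.fst (r' ≫ G.s) G.s ≫ r' ≫ G.i) q₁)
            (pullback.fst (r' ≫ G.s) G.s ≫ r) q₂), F ≫ F' = 𝟙 _ := by
    intro r r' F F' hF₁ hF₁' p₁ p₂ q₁ q₂ hF hF'
    apply pullback.hom_ext
    · rw [Category.assoc, hF₁', hF₁, Category.id_comp]
    · rw [Category.assoc, hF', Category.id_comp, GrothLib.AlgSp.comp_gmul]
      refine (GrothLib.AlgSp.gmul_congr G (α' := GrothLib.AlgSp.gmul G (pullback.snd (r ≫ G.s) G.s)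
        (pullback.fst (r ≫ G.s) G.s ≫ r ≫ G.i) p₁) (β' := pullback.fst (r ≫ G.s) G.s ≫ r) ?_
        (by rw [reassoc_of% hF₁]) _).trans (GrothLib.AlgSp.cancel_right' G _ _ _ (by rw [Category.assoc]) _ _)
      rw [GrothLib.AlgSp.comp_gmul]
      refine (GrothLib.AlgSp.gmul_congr G hF (by rw [reassoc_of% hF₁] :
        F ≫ pullback.fst (r' ≫ G.s) G.s ≫ r' ≫ G.i = pullback.fst (r ≫ G.s) G.s ≫ r' ≫ G.i) _).trans
        (GrothLib.AlgSp.cancel_right G _ _ p₂ (by rw [Category.assoc]) _)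
  exact ⟨Over.isoMk ⟨F, F', inv₁ r r' F F' hF₁ hF₁' p₁ p₂ q₁ q₂ hF hF', inv₁ r' r F' F hF₁' hF₁ q₁ q₂ p₁ p₂ hF' hF⟩
    hF₁⟩

end Groth.Agent.S10124
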