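import Groth.Statements.S10125
import Groth.Agent.Lib.AlgSp.GpdBasic
import Mathlib.CategoryTheory.Monoidal.Cartesian.Grp
-- import your own Groth.Agent.* helpers here

set_option autoImplicit false
universe u
open CategoryTheory CategoryTheory.Limits AlgebraicGeometry MonoidalCategory MonObj
open AlgSp

namespace Groth.Agent.S10125

/-- For a group algebraic space `G` over a field `k`, the multiplication `m` of `G`, a morphism `G ×_k G
⟶ G`, is both flat and universally open. (The published situation allows any base scheme `S` with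
`k` a field over `S`; this row takes `S = Spec k`.) -/
theorem result (k : Type u) [Field k]
    (G : Over ((AlgSp.yon (Spec (CommRingCat.of k))).obj (Over.mk (𝟙 _)))) [GrpObj G]
    (hG : AlgSp.IsAlgSpace G.left) :
    AlgSp.LocP @Flat (μ[G]).left ∧ AlgSp.IsUnivOpenMor (μ[G]).left := by
  have sq : IsPullback (μ[G]).left (CartesianMonoidalCategory.snd G G).left G.hom G.hom := by
    refine GrothLib.AlgSp.isPullback_of_yon ((Over.w μ[G]).trans (Over.w (CartesianMonoidalCategory.snd G G)).symm)
      fun T pa pb h => ?_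
    let To : Over _ := Over.mk (pa ≫ G.hom)
    let g : To ⟶ G := Over.homMk pa rfl
    let k : To ⟶ G := Over.homMk pb h.symm
    refine ⟨(CartesianMonoidalCategory.lift (g * k⁻¹) k).left, ⟨?_, ?_⟩, fun m hm => ?_⟩
    · rw [← Over.comp_left, show CartesianMonoidalCategory.lift (g * k⁻¹) k ≫ μ[G] = g * k⁻¹ * k from rfl,
        inv_mul_cancel_right]
      rfl
    · rw [← Over.comp_left, CartesianMonoidalCategory.lift_snd]
      rfl
    · obtain ⟨h1, h2⟩ := hm
      let mo : To ⟶ G ⊗ G := Over.homMk m (by
        change m ≫ (G ⊗ G).hom = pa ≫ G.hom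
        rw [← h1, Category.assoc, Over.w])
      have e1 : mo ≫ CartesianMonoidalCategory.snd G G = k := Over.OverMorphism.ext h2
      have e2 : (mo ≫ CartesianMonoidalCategory.fst G G) * k = g := by
        rw [← e1]
        refine Eq.trans ?_ (Over.OverMorphism.ext h1 : mo ≫ μ[G] = g)
        change CartesianMonoidalCategory.lift _ _ ≫ μ[G] = mo ≫ μ[G]
        rw [← CartesianMonoidalCategory.comp_lift, CartesianMonoidalCategory.lift_fst_snd, Category.comp_id]
      change mo.left = _
      congr 1
      apply CartesianMonoidalCategory.hom_ext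
      · rw [CartesianMonoidalCategory.lift_fst, ← e2, mul_inv_cancel_right]
      · rw [CartesianMonoidalCategory.lift_snd, e1]
  obtain ⟨hf, ho⟩ := (⟨GrothLib.AlgSp.locP_flat_to_field hG G.hom, GrothLib.AlgSp.isUnivOpenMor_to_field hG G.hom⟩ :
    AlgSp.LocP @Flat G.hom ∧ AlgSp.IsUnivOpenMor G.hom)
  exact ⟨GrothLib.AlgSp.EtLocal.locP_of_isPullback GrothLib.AlgSp.EtLocal.flat hG (AlgSp.IsAlgSpace.yon_obj _) hG
    sq.flip hf, GrothLib.AlgSp.univSp_of_isPullback sq.flip ho⟩

end Groth.Agent.S10125
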