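import Groth.Statements.S10126
import Groth.Agent.Lib.AlgSp.GpdBasic
-- import your own Groth.Agent.* helpers here

set_option autoImplicit false
universe u
open CategoryTheory CategoryTheory.Limits AlgebraicGeometry
open AlgSp AlgSp.GroupoidSp

namespace Groth.Agent.S10126

/-- Let `(U, R, s, t, c)` be a groupoid in algebraic spaces over `B` whose object space is `U = Spec k`,
with `k` a field. Then the composition `c : R ×_{s, U, t} R ⟶ R` is flat and universally open. -/
theorem result (S : Scheme.{u}) (B : AlgSp.Sp S) (hB : AlgSp.IsAlgSpace B)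
    (G : AlgSp.GroupoidSp B) (hR : AlgSp.IsAlgSpace G.R) (k : Type u) [Field k]
    (σ : Spec (CommRingCat.of k) ⟶ S) (eU : G.U ≅ (AlgSp.yon S).obj (Over.mk σ)) :
    AlgSp.LocP @Flat G.c ∧ AlgSp.IsUnivOpenMor G.c := by
  have hU : AlgSp.IsAlgSpace G.U := AlgSp.IsAlgSpace.of_iso (AlgSp.IsAlgSpace.yon_obj _) eU.symm
  obtain ⟨hf, ho⟩ := GrothLib.AlgSp.flat_univOpen_to_iso_field hR eU G.s
  have sq := (GrothLib.AlgSp.isPullback_comp G).flip
  exact ⟨GrothLib.AlgSp.EtLocal.locP_of_isPullback GrothLib.AlgSp.EtLocal.flat hR hU hR sq hf,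
    GrothLib.AlgSp.univSp_of_isPullback sq ho⟩

end Groth.Agent.S10126
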