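import Groth.Statements.S10127
import Groth.Agent.Lib.AlgSp.DecentSection
import Groth.Agent.S10116
-- import your own Groth.Agent.* helpers here

set_option autoImplicit false
universe u
open CategoryTheory CategoryTheory.Limits AlgebraicGeometry MonoidalCategory MonObj
open AlgSp

namespace Groth.Agent.S10127

/-- A group algebraic space over a field `k` which is a decent algebraic space is separated. (The
published situation allows any base scheme `S` with `k` a field over `S`; this row takes `S = Spec
k`.) -/
theorem result (k : Type u) [Field k]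
    (G : Over ((AlgSp.yon (Spec (CommRingCat.of k))).obj (Over.mk (𝟙 _)))) [GrpObj G]
    (hG : AlgSp.IsAlgSpace G.left) (hd : AlgSp.IsDecent G.left) : AlgSp.IsSeparatedSp G.left := by
  have hs : (η[G]).left ≫ G.hom = 𝟙 _ := Over.w η[G]
  haveI : IsSeparated (Over.mk (𝟙 (Spec (CommRingCat.of k)))).hom := inferInstanceAs (IsSeparated (𝟙 _))
  refine GrothLib.AlgSp.isSeparatedSp_of_isSeparatedMor G.hom ?_
  exact (Groth.Agent.S10116.result _ _ (AlgSp.IsAlgSpace.yon_obj _) G hG).1.2
    (GrothLib.AlgSp.repWith_isClosedImmersion_rational_point hG hd G.hom _ hs)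

end Groth.Agent.S10127
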