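import Groth.Statements.S10128
import Groth.Agent.Lib.AlgSp.DecentSection
-- import your own Groth.Agent.* helpers here

set_option autoImplicit false
universe u
open CategoryTheory CategoryTheory.Limits AlgebraicGeometry
open AlgSp AlgSp.GroupoidSp

namespace Groth.Agent.S10128

/-- Let `(U, R, s, t, c)` be a groupoid in algebraic spaces over `B` whose object space is `U = Spec k`,
with `k` a field, and assume `R` is a decent algebraic space. Then `R` is separated over the base
scheme `S`. (The published statement concludes that `R` is separated in the absolute sense; this row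
concludes that `R` is separated over `S`, which the absolute notion implies.) -/
theorem result (S : Scheme.{u}) (B : AlgSp.Sp S) (hB : AlgSp.IsAlgSpace B)
    (G : AlgSp.GroupoidSp B) (hR : AlgSp.IsAlgSpace G.R) (k : Type u) [Field k]
    (σ : Spec (CommRingCat.of k) ⟶ S) (eU : G.U ≅ (AlgSp.yon S).obj (Over.mk σ)) (hd : AlgSp.IsDecent G.R) :
    AlgSp.IsSeparatedSp G.R := by
  haveI : IsSeparated (σ ≫ terminal.from S) := inferInstance
  haveI : IsSeparated σ := IsSeparated.of_comp σ (terminal.from S)
  have he0 : AlgSp.RepWith @IsClosedImmersion (eU.inv ≫ G.e) :=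
    GrothLib.AlgSp.repWith_isClosedImmersion_rational_point hR hd (G.s ≫ eU.hom) (eU.inv ≫ G.e) (by
      rw [Category.assoc, ← Category.assoc G.e, G.e_s, Category.id_comp, eU.inv_hom_id])
  have sq : IsPullback eU.hom G.e (eU.inv ≫ G.e) (𝟙 G.R) := IsPullback.of_horiz_isIso ⟨by simp⟩
  have hs := GrothLib.AlgSp.isSeparatedMor_of_unit G (GrothLib.AlgSp.repWith_of_isPullback sq he0)
  haveI : IsSeparated (Over.mk σ).hom := ‹IsSeparated σ›
  refine GrothLib.AlgSp.isSeparatedSp_of_isSeparatedMor (G.s ≫ eU.hom) (GrothLib.AlgSp.isSeparatedMor_comp hs ?_)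
  change AlgSp.RepWith @IsClosedImmersion (pullback.diagonal eU.hom)
  refine GrothLib.AlgSp.repWith_of_isPullback (g := pullback.fst eU.hom eU.hom ≫ eU.hom) (g' := eU.hom) ?_
    ((AlgSp.repWith_yon_map_iff (U := Over.mk σ) _ (𝟙 _)).2 inferInstance)
  refine IsPullback.of_vert_isIso ⟨?_⟩
  rw [pullback.diagonal_fst_assoc, CategoryTheory.Functor.map_id, Category.comp_id]

end Groth.Agent.S10128
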