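import Groth.Statements.S10129
import Groth.Agent.Lib.AlgSp.SchDenseSp
import Groth.Agent.Lib.AlgSp.BootstrapFamily
import Groth.Agent.Lib.AlgSp.PointsUniv
import Groth.Agent.Lib.AlgSp.SourceLocal
-- import your own Groth.Agent.* helpers here

set_option autoImplicit false
universe u
open CategoryTheory CategoryTheory.Limits AlgebraicGeometry
open AlgSp GrothLib.AlgSp
set_option backward.isDefEq.respectTransparency false

namespace Groth.Agent.S10129

/-- Consider morphisms `g : X ⟶ Z` and `f : X ⟶ Y` of algebraic spaces over `B`, with `Y ⟶ B` separated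
and `g` surjective, flat and locally of finite presentation, and let `V ⊂ Z` be a scheme
theoretically dense open subspace with `V ⟶ Z` quasi-compact such that `f` restricted to `g⁻¹(V)`
factors through `g⁻¹(V) ⟶ V`. Then `f` factors through `g`. (The published statement does not ask
the open immersion `V ⟶ Z` to be quasi-compact; the published proof pulls the scheme theoretic
density of `V` back along a flat morphism by a lemma that requires it, so this row assumes it.) -/
theorem result (S : Scheme.{u}) (B : AlgSp.Sp S) (hB : AlgSp.IsAlgSpace B)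
    (X Y Z : AlgSp.Space S) (pX : X.obj ⟶ B) (pY : Y.obj ⟶ B) (pZ : Z.obj ⟶ B)
    (f : X.obj ⟶ Y.obj) (g : X.obj ⟶ Z.obj) (hf : f ≫ pY = pX) (hg : g ≫ pZ = pX)
    (hY : AlgSp.IsSeparatedMor pY)
    (hgs : AlgSp.IsSurjectiveMor g) (hgf : AlgSp.LocP @Flat g) (hgp : AlgSp.LocP @LocallyOfFinitePresentation g)
    (V : AlgSp.Sp S) (v : V ⟶ Z.obj) (hv : AlgSp.IsSchDense v) (hvq : AlgSp.IsQuasiCompactMor v)
    (hfac : ∃ φ : V ⟶ Y.obj, pullback.fst g v ≫ f = pullback.snd g v ≫ φ) :
    ∃ h : Z.obj ⟶ Y.obj, g ≫ h = f := by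
  obtain ⟨φ, hφ⟩ := hfac
  have hZ := Z.property
  haveI hls : Sheaf.IsLocallySurjective g := isLocallySurjective_of_point_lifts fun T z t => by
    have sq := IsPullback.of_hasPullback g z
    have hP := isAlgSpace_pullback' hZ X.property (IsAlgSpace.yon_obj T) g z
    obtain ⟨W, w, we, ws⟩ := hP.atlas
    obtain ⟨c, hc⟩ := (yon S).map_surjective (w ≫ pullback.snd g z)
    have key : ∀ {C : MorphismProperty Scheme.{u}}, EtLocal C →
        (∀ ⦃A B : Scheme.{u}⦄ (k : A ⟶ B), Etale k → C k) → LocP C g → C c.left := by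
      intro C hC hCet hCg
      have h := hC.locP_comp (IsAlgSpace.yon_obj W) hP (IsAlgSpace.yon_obj T)
        (hC.locP_of_repWith hP (repWith_mono we hCet))
        (hC.locP_of_isPullback X.property hZ (IsAlgSpace.yon_obj T) sq hCg)
      rw [← hc] at h
      exact h (𝟙 _) (𝟙 _) c (repWith_id _ _) (repWith_id _ _) (by rw [Category.id_comp, Category.comp_id])
    refine ⟨W, c, w ≫ pullback.fst g z, key EtLocal.flat (fun _ _ k (hk : Etale k) => (inferInstance : Flat k)) hgf,
      key EtLocal.lfp (fun _ _ k (hk : Etale k) => (inferInstance : LocallyOfFinitePresentation k)) hgp, ?_, ?_⟩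
    · obtain ⟨x, hx⟩ := hgs (Points.map z (Points.schemeHomeo T t))
      obtain ⟨y, -, hy⟩ := exists_of_isPullback sq hx
      obtain ⟨a, rfl⟩ := surjective_ofPt_of_repWith ws y
      refine ⟨a, (Points.schemeHomeo T).injective ?_⟩
      rw [← hy, Points.ofPt_eq_map_ofScheme, ← Points.map_comp, ← hc, map_yon_ofPt]
      rfl
    · rw [hc, Category.assoc, Category.assoc, pullback.condition]
  haveI : Epi g := Sheaf.epi_of_isLocallySurjective g
  haveI := IsRegularEpiCategory.regularEpiOfEpi g
  refine IsRegularEpi.exists_of_isKernelPair g (IsPullback.of_hasPullback g g) f ?_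
  -- check on an atlas of the relation
  have hR := isAlgSpace_pullback' hZ X.property X.property g g
  obtain ⟨T, p, pe, ps⟩ := hR.atlas
  haveI : Epi p := (Sheaf.isLocallySurjective_iff_epi p).1 (chart_isLocallySurjective pe ps)
  refine (cancel_epi p).1 ?_
  have hz : LocP @Flat (p ≫ pullback.fst g g ≫ g) :=
    EtLocal.flat.locP_comp (IsAlgSpace.yon_obj T) hR hZ
      (EtLocal.flat.locP_of_repWith hR (repWith_mono pe fun _ _ k (hk : Etale k) => (inferInstance : Flat k)))
      (EtLocal.flat.locP_comp hR X.property hZ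
        (EtLocal.flat.locP_of_isPullback X.property hZ X.property (IsPullback.of_hasPullback g g).flip hgf) hgf)
  obtain ⟨z, hzdef⟩ : ∃ z, z = p ≫ pullback.fst g g ≫ g := ⟨_, rfl⟩
  rw [← hzdef] at hz
  have hz2 : (p ≫ pullback.snd g g) ≫ g = z := by rw [hzdef, Category.assoc, pullback.condition]
  have hz1 : (p ≫ pullback.fst g g) ≫ g = z := by rw [hzdef, Category.assoc]
  obtain ⟨W, fW, sqW⟩ := exists_opens_chart hv.1 z
  haveI : QuasiCompact W.ι := (repWith_quasiCompact_of_isQuasiCompactMor hv.1.1 hvq).2 _ _ _ sqW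
  -- `W` is schematically dense
  have hd : CInt.IsSchematicallyDense W := by
    obtain ⟨V₀, b, be, bs⟩ := hZ.atlas
    obtain ⟨T', γ₀, c, sqT⟩ := exists_isPullback_of_representable be.1 z
    obtain ⟨γ, rfl⟩ := (yon S).map_surjective γ₀
    haveI : Etale c.left := be.2 _ _ _ sqT
    haveI : Surjective c.left := bs.2 _ _ _ sqT
    haveI : Flat γ.left := hz ((yon S).map c) b γ ((repWith_yon_map_iff _ c).2 inferInstance) be sqT.w.symm
    obtain ⟨W₀, f₀, sq₀⟩ := exists_opens_chart hv.1 b
    haveI : QuasiCompact W₀.ι := (repWith_quasiCompact_of_isQuasiCompactMor hv.1.1 hvq).2 _ _ _ sq₀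
    have hd₀ := isSchematicallyDense_preimage_of_qc γ.left W₀ (isSchematicallyDense_of_chart hv be sq₀)
    obtain ⟨W', f', sq'⟩ := exists_opens_chart hv.1 ((yon S).map γ ≫ b)
    have h₁ := preimage_opens_chart rfl sq₀ sq'
    have h₂ := preimage_opens_chart sqT.w.symm sqW sq'
    refine isSchematicallyDense_desc c.left ?_
    rw [← h₂, h₁]
    exact hd₀
  -- the equalizer
  have e₁ : ((p ≫ pullback.fst g g) ≫ f) ≫ pY = ((p ≫ pullback.snd g g) ≫ f) ≫ pY := by
    simp only [Category.assoc, hf, ← hg, pullback.condition_assoc]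
  obtain ⟨E, fE, i, sqE⟩ := exists_isPullback_of_representable hY.1 (pullback.lift _ _ e₁)
  haveI : IsClosedImmersion i.left := hY.2 _ _ _ sqE
  let ι : Over.mk (W.ι ≫ T.hom) ⟶ T := Over.homMk W.ι rfl
  have key : ∀ t : (yon S).obj T ⟶ X.obj, t ≫ g = z → (yon S).map ι ≫ t ≫ f = fW ≫ φ := by
    intro t ht
    have hh : ((yon S).map ι ≫ t) ≫ g = fW ≫ v := by
      rw [Category.assoc, ht]
      exact sqW.w.symm
    have := congrArg (fun k => pullback.lift _ _ hh ≫ k) hφ
    simp only [pullback.lift_fst_assoc, pullback.lift_snd_assoc, Category.assoc] at this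
    exact this
  have hWE : fW ≫ φ ≫ pullback.diagonal pY = (yon S).map ι ≫ pullback.lift _ _ e₁ := by
    apply pullback.hom_ext
    · rw [Category.assoc, Category.assoc, Category.assoc, pullback.diagonal_fst, Category.comp_id,
        pullback.lift_fst, key _ hz1]
    · rw [Category.assoc, Category.assoc, Category.assoc, pullback.diagonal_snd, Category.comp_id,
        pullback.lift_snd, key _ hz2]
  obtain ⟨j, hj⟩ := (yon S).map_surjective (sqE.lift (fW ≫ φ) ((yon S).map ι) (by rw [Category.assoc, hWE]))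
  have hji : j ≫ i = ι := (yon S).map_injective (by rw [Functor.map_comp, hj, sqE.lift_snd])
  haveI : IsIso i.left := by
    refine IsClosedImmersion.isIso_iff_ker_eq_bot.2 (le_bot_iff.1 ?_)
    refine le_of_le_of_eq (j.left.le_ker_comp i.left) ?_
    rw [← Over.comp_left, hji]
    exact (isSchematicallyDense_iff_ker W).1 hd
  haveI : IsIso ((Over.forget S).map i) := ‹IsIso i.left›
  haveI : IsIso i := isIso_of_reflects_iso i (Over.forget S)
  haveI : Epi ((yon S).map i) := inferInstance
  have e₂ := sqE.w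
  have f₁ := congrArg (fun k => k ≫ pullback.fst pY pY) e₂
  have f₂ := congrArg (fun k => k ≫ pullback.snd pY pY) e₂
  simp only [Category.assoc, pullback.diagonal_fst, pullback.diagonal_snd, Category.comp_id, pullback.lift_fst,
    pullback.lift_snd] at f₁ f₂
  have := f₁.symm.trans f₂
  simpa only [Category.assoc] using (cancel_epi ((yon S).map i)).1 this

end Groth.Agent.S10129
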