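import Groth.Statements.S10130
import Groth.Agent.Lib.AlgSp.GpdBasic
-- import your own Groth.Agent.* helpers here

set_option autoImplicit false
universe u
open CategoryTheory CategoryTheory.Limits AlgebraicGeometry
open AlgSp AlgSp.GroupoidSp

namespace Groth.Agent.S10130

/-- Let `(U, R, s, t, c)` be a groupoid in algebraic spaces over `B` with `s, t` open. For every open
subspace `W ⊂ U`, the open subspace `s(t⁻¹(W))` of `U` is `R`-invariant. -/
theorem result (S : Scheme.{u}) (B : AlgSp.Sp S) (hB : AlgSp.IsAlgSpace B)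
    (G : AlgSp.GroupoidSp B) (hU : AlgSp.IsAlgSpace G.U) (hR : AlgSp.IsAlgSpace G.R)
    (hs : AlgSp.IsOpenMor G.s) (ht : AlgSp.IsOpenMor G.t)
    (W W' : AlgSp.Sp S) (w : W ⟶ G.U) (w' : W' ⟶ G.U)
    (hw : AlgSp.RepWith @IsOpenImmersion w) (hw' : AlgSp.RepWith @IsOpenImmersion w')
    (himg : Set.range (AlgSp.Points.map w') =
      AlgSp.Points.map G.s '' (AlgSp.Points.map G.t ⁻¹' Set.range (AlgSp.Points.map w))) :
    G.IsInvariant w' := by
  intro T r
  have key : ∀ x : AlgSp.Points G.R, AlgSp.Points.map G.t x ∈ Set.range (AlgSp.Points.map w') ↔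
      AlgSp.Points.map G.s x ∈ Set.range (AlgSp.Points.map w') := by
    intro x
    rw [himg]
    constructor
    · rintro ⟨ρ, hρ, hρs⟩
      obtain ⟨p, hp₁, hp₂⟩ := GrothLib.AlgSp.exists_of_isPullback (IsPullback.of_hasPullback G.s G.t) hρs
      refine ⟨AlgSp.Points.map G.c p, ?_, ?_⟩
      · have e : G.c ≫ G.t = pullback.fst G.s G.t ≫ G.t := by
          rw [← Category.id_comp G.c, show 𝟙 (pullback G.s G.t) = pullback.lift _ _ pullback.condition from
            pullback.hom_ext (by simp) (by simp), G.comp_t]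
        rw [Set.mem_preimage, ← AlgSp.Points.map_comp, e, AlgSp.Points.map_comp, hp₁]
        exact hρ
      · rw [← AlgSp.Points.map_comp, (GrothLib.AlgSp.isPullback_comp G).w, AlgSp.Points.map_comp, hp₂]
    · rintro ⟨ρ, hρ, hρs⟩
      obtain ⟨p, hp₁, hp₂⟩ := GrothLib.AlgSp.exists_of_isPullback (IsPullback.of_hasPullback G.s G.t) (x := ρ)
        (y := AlgSp.Points.map G.i x) (by rw [hρs, ← AlgSp.Points.map_comp G.i G.t, G.i_t])
      refine ⟨AlgSp.Points.map G.c p, ?_, ?_⟩
      · have e : G.c ≫ G.t = pullback.fst G.s G.t ≫ G.t := by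
          rw [← Category.id_comp G.c, show 𝟙 (pullback G.s G.t) = pullback.lift _ _ pullback.condition from
            pullback.hom_ext (by simp) (by simp), G.comp_t]
        rw [Set.mem_preimage, ← AlgSp.Points.map_comp, e, AlgSp.Points.map_comp, hp₁]
        exact hρ
      · rw [← AlgSp.Points.map_comp, (GrothLib.AlgSp.isPullback_comp G).w, AlgSp.Points.map_comp, hp₂,
          ← AlgSp.Points.map_comp G.i G.s, G.i_s]
  rw [GrothLib.AlgSp.exists_factor_iff hw', GrothLib.AlgSp.exists_factor_iff hw']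
  simp only [Set.range_subset_iff, AlgSp.Points.map_comp, key]

end Groth.Agent.S10130
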