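import Groth.Agent.Lib.AlgSp.Immersion
import Groth.Agent.Lib.AlgSp.PointsUniv
import Groth.Statements.S10131
-- import your own Groth.Agent.* helpers here

set_option autoImplicit false
universe u
open CategoryTheory CategoryTheory.Limits AlgebraicGeometry
open AlgSp AlgSp.GroupoidSp

namespace Groth.Agent.S10131

/-- Let `(U, R, s, t, c)` be a groupoid in algebraic spaces over `B` with `s, t` open and quasi-compact.
Then `U` has an open covering by `R`-invariant quasi-compact open subspaces. -/
theorem result (S : Scheme.{u}) (B : AlgSp.Sp S) (hB : AlgSp.IsAlgSpace B)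
    (G : AlgSp.GroupoidSp B) (hU : AlgSp.IsAlgSpace G.U) (hR : AlgSp.IsAlgSpace G.R)
    (hs : AlgSp.IsOpenMor G.s ∧ AlgSp.IsQuasiCompactMor G.s) (ht : AlgSp.IsOpenMor G.t ∧ AlgSp.IsQuasiCompactMor G.t)
    (x : AlgSp.Points G.U) :
    ∃ (W : AlgSp.Sp S) (w : W ⟶ G.U), AlgSp.RepWith @IsOpenImmersion w ∧ G.IsInvariant w ∧
      AlgSp.IsQuasiCompactSp W ∧ x ∈ Set.range (AlgSp.Points.map w) := by
  obtain ⟨U, p, hU', pe, hxp, -, -⟩ := GrothLib.AlgSp.exists_affine_chart_mem hU isOpen_univ (Set.mem_univ x)
    (fun _ => True) (fun s => ⟨⊤, trivial, trivial⟩)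
  have hW₀ := (GrothLib.AlgSp.isOpenMap_ofPt_of_etale pe).isOpen_range
  -- the quasi-compact preimage
  have sqZ := IsPullback.of_hasPullback G.t p
  have hZ : IsQuasiCompactSp (pullback G.t p) :=
    ht.2 (IsAlgSpace.yon_obj U) (GrothLib.AlgSp.isQuasiCompactSp_yon U) p _ _ sqZ
  have := GrothLib.AlgSp.compactSpace_points_of_isQuasiCompactSp hZ
  have hpre : Set.range (Points.map (pullback.fst G.t p)) = Points.map G.t ⁻¹' Set.range (Points.ofPt p) := by
    ext z
    constructor
    · rintro ⟨w, rfl⟩
      obtain ⟨v, hv⟩ := (Points.schemeEquiv U).surjective (Points.map (pullback.snd G.t p) w)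
      refine ⟨v, ?_⟩
      rw [← Points.map_comp, pullback.condition, Points.map_comp, ← hv, Points.ofPt_eq_map_ofScheme]
      rfl
    · rintro ⟨v, hv⟩
      rw [Points.ofPt_eq_map_ofScheme] at hv
      obtain ⟨w, hw, -⟩ := GrothLib.AlgSp.exists_of_isPullback sqZ hv.symm
      exact ⟨w, hw⟩
  let O := Points.map G.s '' (Points.map G.t ⁻¹' Set.range (Points.ofPt p))
  have hO : IsOpen O := hs.1 _ (hW₀.preimage (Points.continuous_map G.t))
  have hOc : IsCompact O :=
    (hpre ▸ isCompact_range (Points.continuous_map _)).image (Points.continuous_map G.s)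
  have key : ∀ r : Points G.R, Points.map G.s r ∈ O ↔ Points.map G.t r ∈ O := by
    intro r
    constructor
    · rintro ⟨a, ha, har⟩
      have e : Points.map G.s a = Points.map G.t (Points.map G.i r) := by
        rw [har, ← Points.map_comp, G.i_t]
      obtain ⟨q, hq₁, hq₂⟩ := GrothLib.AlgSp.exists_of_isPullback (IsPullback.of_hasPullback G.s G.t) e
      refine ⟨Points.map G.c q, ?_, ?_⟩
      · have hct : G.c ≫ G.t = pullback.fst G.s G.t ≫ G.t := by
          have := G.comp_t (pullback.fst G.s G.t) (pullback.snd G.s G.t) pullback.condition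
          rwa [show pullback.lift (pullback.fst G.s G.t) (pullback.snd G.s G.t) pullback.condition = 𝟙 _ from
            by apply pullback.hom_ext <;> simp, Category.id_comp] at this
        rw [Set.mem_preimage, ← Points.map_comp, hct, Points.map_comp, hq₁]
        exact ha
      · have hcs : G.c ≫ G.s = pullback.snd G.s G.t ≫ G.s := by
          have := G.comp_s (pullback.fst G.s G.t) (pullback.snd G.s G.t) pullback.condition
          rwa [show pullback.lift (pullback.fst G.s G.t) (pullback.snd G.s G.t) pullback.condition = 𝟙 _ from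
            by apply pullback.hom_ext <;> simp, Category.id_comp] at this
        rw [← Points.map_comp, hcs, Points.map_comp, hq₂, ← Points.map_comp, G.i_s]
    · rintro ⟨a, ha, har⟩
      have e : Points.map G.s a = Points.map G.t r := har
      obtain ⟨q, hq₁, hq₂⟩ := GrothLib.AlgSp.exists_of_isPullback (IsPullback.of_hasPullback G.s G.t) e
      refine ⟨Points.map G.c q, ?_, ?_⟩
      · have hct : G.c ≫ G.t = pullback.fst G.s G.t ≫ G.t := by
          have := G.comp_t (pullback.fst G.s G.t) (pullback.snd G.s G.t) pullback.condition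
          rwa [show pullback.lift (pullback.fst G.s G.t) (pullback.snd G.s G.t) pullback.condition = 𝟙 _ from
            by apply pullback.hom_ext <;> simp, Category.id_comp] at this
        rw [Set.mem_preimage, ← Points.map_comp, hct, Points.map_comp, hq₁]
        exact ha
      · have hcs : G.c ≫ G.s = pullback.snd G.s G.t ≫ G.s := by
          have := G.comp_s (pullback.fst G.s G.t) (pullback.snd G.s G.t) pullback.condition
          rwa [show pullback.lift (pullback.fst G.s G.t) (pullback.snd G.s G.t) pullback.condition = 𝟙 _ from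
            by apply pullback.hom_ext <;> simp, Category.id_comp] at this
        rw [← Points.map_comp, hcs, Points.map_comp, hq₂]
  refine ⟨GrothLib.AlgSp.openSub G.U O, GrothLib.AlgSp.openSubι G.U O, GrothLib.AlgSp.repWith_openSubι hO,
    ?_, ?_, ?_⟩
  · intro T r
    have hw := GrothLib.AlgSp.repWith_openSubι hO
    rw [GrothLib.AlgSp.exists_factor_iff hw, GrothLib.AlgSp.exists_factor_iff hw, GrothLib.AlgSp.range_openSubι]
    simp only [Set.range_subset_iff, Points.map_comp]
    exact forall_congr' fun z => (key _).symm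
  · have : CompactSpace ↥O := isCompact_iff_compactSpace.1 hOc
    have hA := GrothLib.AlgSp.isAlgSpace_openSub hU hO
    have hemb := GrothLib.AlgSp.isEmbedding_map_of_repWith (fun A B h (hh : IsOpenImmersion h) =>
      h.isOpenEmbedding.isEmbedding) hU (GrothLib.AlgSp.repWith_openSubι hO)
    have : CompactSpace (Points (GrothLib.AlgSp.openSub G.U O)) := ⟨by
      rw [hemb.isCompact_iff, Set.image_univ, GrothLib.AlgSp.range_openSubι]; exact hOc⟩
    exact GrothLib.AlgSp.isQuasiCompactSp_of_compactSpace_points hA
  · rw [GrothLib.AlgSp.range_openSubι]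
    obtain ⟨u, hu⟩ := hxp
    refine ⟨Points.map G.e x, ?_, by rw [← Points.map_comp, G.e_s, Points.map_id]⟩
    rw [Set.mem_preimage, ← Points.map_comp, G.e_t, Points.map_id]
    exact ⟨u, hu⟩

end Groth.Agent.S10131
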