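import Groth.Statements.S10132
import Groth.Agent.Lib.AlgSp.GpdBasic
import Groth.Agent.Lib.AlgSp.AffineMor
-- import your own Groth.Agent.* helpers here

set_option autoImplicit false
universe u
open CategoryTheory CategoryTheory.Limits AlgebraicGeometry
open AlgSp AlgSp.GroupoidSp

namespace Groth.Agent.S10132

/-- Let `(U, R, s, t, c)` be a groupoid in algebraic spaces over `B` whose object space is `U = Spec k`,
let `k ⊂ k'` be a field extension and `(U', R', s', t', c')` the restriction along `Spec k' ⟶ Spec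
k`. Then `s, t, s', t'`, `Spec k' ⟶ Spec k` and `R' ⟶ R` are surjective, flat and universally open,
and `R' ⟶ R` is moreover affine. (The published statement lists every arrow of the restriction
diagram; this row omits the six arrows through `R ×_{s,U} U'` and `U' ×_{U,t} R`, each a base change
of `s`, `t` or `Spec k' ⟶ Spec k`.) -/
theorem result (S : Scheme.{u}) (B : AlgSp.Sp S) (hB : AlgSp.IsAlgSpace B)
    (G G' : AlgSp.GroupoidSp B) (hR : AlgSp.IsAlgSpace G.R) (hR' : AlgSp.IsAlgSpace G'.R)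
    (k k' : Type u) [Field k] [Field k'] [Algebra k k'] (σ : Spec (CommRingCat.of k) ⟶ S)
    (eU : G.U ≅ ((AlgSp.yon S).obj (Over.mk σ)))
    (eU' : G'.U ≅ ((AlgSp.yon S).obj (Over.mk (Spec.map (CommRingCat.ofHom (algebraMap k k')) ≫ σ))))
    (φ : AlgSp.GroupoidSp.Hom G' G) (hφ : φ.IsRestriction)
    (hfU : φ.fU = eU'.hom ≫ (AlgSp.yon S).map (Over.homMk (Spec.map (CommRingCat.ofHom (algebraMap k k'))) rfl :
      Over.mk (Spec.map (CommRingCat.ofHom (algebraMap k k')) ≫ σ) ⟶ Over.mk σ) ≫ eU.inv) :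
    (∀ f ∈ [G.s, G.t], AlgSp.IsSurjectiveMor f ∧ AlgSp.LocP @Flat f ∧ AlgSp.IsUnivOpenMor f) ∧
      (∀ f ∈ [G'.s, G'.t], AlgSp.IsSurjectiveMor f ∧ AlgSp.LocP @Flat f ∧ AlgSp.IsUnivOpenMor f) ∧
      (AlgSp.IsSurjectiveMor φ.fU ∧ AlgSp.LocP @Flat φ.fU ∧ AlgSp.IsUnivOpenMor φ.fU) ∧
      (AlgSp.IsSurjectiveMor φ.fR ∧ AlgSp.LocP @Flat φ.fR ∧ AlgSp.IsUnivOpenMor φ.fR ∧ AlgSp.IsAffineMor φ.fR) := by
  have hU : AlgSp.IsAlgSpace G.U := AlgSp.IsAlgSpace.of_iso (AlgSp.IsAlgSpace.yon_obj _) eU.symm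
  have hU' : AlgSp.IsAlgSpace G'.U := AlgSp.IsAlgSpace.of_iso (AlgSp.IsAlgSpace.yon_obj _) eU'.symm
  have hsec : ∀ {X Y : AlgSp.Sp S} (f : X ⟶ Y) (e : Y ⟶ X), e ≫ f = 𝟙 Y → AlgSp.IsSurjectiveMor f :=
    fun f e he y => ⟨AlgSp.Points.map e y, by rw [← AlgSp.Points.map_comp, he, AlgSp.Points.map_id]⟩
  let g : Over.mk (Spec.map (CommRingCat.ofHom (algebraMap k k')) ≫ σ) ⟶ Over.mk σ :=
    Over.homMk (Spec.map (CommRingCat.ofHom (algebraMap k k'))) rfl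
  haveI : IsAffine (Over.mk σ).left := inferInstanceAs (IsAffine (Spec (CommRingCat.of k)))
  haveI : IsAffine (Over.mk (Spec.map (CommRingCat.ofHom (algebraMap k k')) ≫ σ)).left :=
    inferInstanceAs (IsAffine (Spec (CommRingCat.of k')))
  have hgr : AlgSp.RepWith (@IsAffineHom ⊓ @Surjective) ((AlgSp.yon S).map g) :=
    (AlgSp.repWith_yon_map_iff _ _).2 ⟨isAffineHom_of_isAffine g.left,
      ⟨fun y => ⟨(⊥ : PrimeSpectrum k'), Subsingleton.elim (α := PrimeSpectrum k) _ _⟩⟩⟩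
  have sqU : IsPullback eU'.hom φ.fU ((AlgSp.yon S).map g) eU.hom :=
    IsPullback.of_horiz_isIso ⟨by rw [hfU]; simp [g]⟩
  have hfUr := GrothLib.AlgSp.repWith_of_isPullback sqU hgr
  obtain ⟨hfUf, hfUo⟩ := GrothLib.AlgSp.flat_univOpen_to_iso_field hU' eU φ.fU
  have hP₁ := GrothLib.AlgSp.isAlgSpace_pullback' hU hR hU' G.s φ.fU
  have sq₁ := GrothLib.AlgSp.isPullback_restriction_s φ hφ
  have sq₂ := (IsPullback.of_hasPullback G.s φ.fU).flip
  have hfR : pullback.lift φ.fR G'.s φ.comm_s ≫ pullback.fst G.s φ.fU = φ.fR := pullback.lift_fst _ _ _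
  have hfRr : AlgSp.RepWith (@IsAffineHom ⊓ @Surjective) φ.fR := hfR ▸ GrothLib.AlgSp.repWith_comp
    (GrothLib.AlgSp.repWith_of_isPullback sq₁ hfUr) (GrothLib.AlgSp.repWith_of_isPullback sq₂ hfUr)
  refine ⟨?_, ?_, ⟨GrothLib.AlgSp.surjective_map_of_repWith (GrothLib.AlgSp.repWith_mono hfUr fun _ _ _ h => h.2),
    hfUf, hfUo⟩, GrothLib.AlgSp.surjective_map_of_repWith (GrothLib.AlgSp.repWith_mono hfRr fun _ _ _ h => h.2),
    hfR ▸ GrothLib.AlgSp.EtLocal.locP_comp GrothLib.AlgSp.EtLocal.flat hR' hP₁ hR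
      (GrothLib.AlgSp.EtLocal.locP_of_isPullback GrothLib.AlgSp.EtLocal.flat hU' hU hP₁ sq₁ hfUf)
      (GrothLib.AlgSp.EtLocal.locP_of_isPullback GrothLib.AlgSp.EtLocal.flat hU' hU hR sq₂ hfUf), ?_,
    GrothLib.AlgSp.isAffineMor_iff.2 (GrothLib.AlgSp.repWith_mono hfRr fun _ _ _ h => h.1)⟩
  · simp only [List.forall_mem_cons, List.not_mem_nil, false_imp_iff, implies_true, and_true]
    exact ⟨⟨hsec _ _ G.e_s, GrothLib.AlgSp.flat_univOpen_to_iso_field hR eU G.s⟩,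
      ⟨hsec _ _ G.e_t, GrothLib.AlgSp.flat_univOpen_to_iso_field hR eU G.t⟩⟩
  · simp only [List.forall_mem_cons, List.not_mem_nil, false_imp_iff, implies_true, and_true]
    exact ⟨⟨hsec _ _ G'.e_s, GrothLib.AlgSp.flat_univOpen_to_iso_field hR' eU' G'.s⟩,
      ⟨hsec _ _ G'.e_t, GrothLib.AlgSp.flat_univOpen_to_iso_field hR' eU' G'.t⟩⟩
  · have h₁ : AlgSp.IsUnivOpenMor (pullback.lift φ.fR G'.s φ.comm_s) := GrothLib.AlgSp.univSp_of_isPullback sq₁ hfUo
    have h₂ : AlgSp.IsUnivOpenMor (pullback.fst G.s φ.fU) := GrothLib.AlgSp.univSp_of_isPullback sq₂ hfUo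
    haveI : MorphismProperty.IsStableUnderComposition (AlgSp.IsOpenMor (S := S)) := ⟨fun {X Y Z} a b ha hb => by
      change IsOpenMap (AlgSp.Points.map (a ≫ b))
      rw [show AlgSp.Points.map (a ≫ b) = AlgSp.Points.map b ∘ AlgSp.Points.map a from funext (AlgSp.Points.map_comp _ _)]
      exact IsOpenMap.comp hb ha⟩
    rw [← hfR]
    exact GrothLib.AlgSp.univSp_comp hP₁ hR h₁ h₂

end Groth.Agent.S10132
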