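import Groth.Statements.S10136
import Groth.Agent.Lib.AlgSp.GrpDim
import Groth.Agent.Lib.AlgSp.OverMapSpace
-- import your own Groth.Agent.* helpers here

set_option autoImplicit false
universe u
open CategoryTheory CategoryTheory.Limits AlgebraicGeometry MonoidalCategory MonObj
open AlgSp GrothLib.AlgSp
set_option backward.isDefEq.respectTransparency false

namespace Groth.Agent.S10136

/-- For a group algebraic space `G` locally of finite type over a field `k`, `dim_g(G) = dim(G)` for
every point `g` of `G`. (The published situation allows any base scheme `S` with `k` a field over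
`S`; this row takes `S = Spec k`.) -/
theorem result (k : Type u) [Field k]
    (G : Over ((AlgSp.yon (Spec (CommRingCat.of k))).obj (Over.mk (𝟙 _)))) [GrpObj G] (hG : AlgSp.IsAlgSpace G.left)
    (hlft : AlgSp.LocP @LocallyOfFiniteType G.hom) (g : AlgSp.Points G.left) :
    AlgSp.HasAt (fun V v => FlatMor.localDim ↥V v = AlgSp.dim G.left) G.left g := by
  haveI : Subsingleton ↥(Over.mk (𝟙 (Spec (CommRingCat.of k)))).left :=
    inferInstanceAs (Subsingleton ↥(Spec (CommRingCat.of k)))
  exact grp_localDim_eq_dim G hG hlft g

end Groth.Agent.S10136
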