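import Groth.Agent.Lib.AlgSp.BootstrapFamily
import Groth.Statements.S10138
-- import your own Groth.Agent.* helpers here

set_option autoImplicit false
universe u
open CategoryTheory CategoryTheory.Limits AlgebraicGeometry
open AlgSp

namespace Groth.Agent.S10138

/-- Let `{X_i ⟶ X}` be an fppf covering of algebraic spaces over `S`. Then every descent datum for
algebraic spaces relative to it is effective; concretely, an fppf sheaf `F ⟶ X` all of whose base
changes `F ×_X X_i` are algebraic spaces is an algebraic space. (The published statement asks the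
index set to be countable, which is only a size condition and may be ignored; this row allows any
index type in the universe of `S`. The published part (2), which asks the `Y_i ⟶ X_i` to be of
finite type instead, is then a special case of this row.) -/
theorem result (S : Scheme.{u}) (X : AlgSp.Space S) {ι : Type u}
    (Xi : ι → AlgSp.Space S) (g : ∀ i, (Xi i).obj ⟶ X.obj) (hcov : AlgSp.IsFppfCover (fun i => (Xi i).obj) g)
    (F : AlgSp.Sp S) (p : F ⟶ X.obj)
    (h : ∀ (i : ι) (P : AlgSp.Sp S) (fst : P ⟶ F) (snd : P ⟶ (Xi i).obj), IsPullback fst snd p (g i) → AlgSp.IsAlgSpace P) :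
    AlgSp.IsAlgSpace F := by
  refine GrothLib.AlgSp.isAlgSpace_of_repBySp_family (fun i => pullback p (g i))
    (fun i => h i _ _ _ (IsPullback.of_hasPullback p (g i))) (fun i => pullback.fst p (g i)) (fun i => ?_)
    (fun T ξ t => ?_)
  · rw [repBySpWith_hom_iff]
    intro T ξ F' fst snd sq
    have big := sq.flip.paste_vert (IsPullback.of_hasPullback p (g i))
    have sq' : IsPullback (fst ≫ pullback.snd p (g i)) snd (g i) (ξ ≫ p) := by
      first
        | exact big
        | exact big.flip
    exact ⟨GrothLib.AlgSp.isAlgSpace_pullback X.property.diag (Xi i).property (IsAlgSpace.yon_obj T) sq',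
      GrothLib.AlgSp.EtLocal.flat.locP_of_isPullback (Xi i).property X.property (IsAlgSpace.yon_obj T) sq' (hcov.1 i).1,
      GrothLib.AlgSp.EtLocal.lfp.locP_of_isPullback (Xi i).property X.property (IsAlgSpace.yon_obj T) sq' (hcov.1 i).2⟩
  · obtain ⟨i, y, hy⟩ := hcov.2 (Points.map (ξ ≫ p) (Points.ofScheme T t))
    rw [Points.map_comp] at hy
    obtain ⟨w, hw₁, -⟩ := GrothLib.AlgSp.exists_of_isPullback (IsPullback.of_hasPullback p (g i)) hy.symm
    obtain ⟨z, -, hz⟩ := GrothLib.AlgSp.exists_of_isPullback (IsPullback.of_hasPullback (pullback.fst p (g i)) ξ) hw₁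
    exact ⟨i, z, hz⟩

end Groth.Agent.S10138
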