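import Groth.Agent.Lib.AlgSp.BootstrapQuot
import Groth.Statements.S10139
-- import your own Groth.Agent.* helpers here

set_option autoImplicit false
universe u
open CategoryTheory CategoryTheory.Limits AlgebraicGeometry
open AlgSp

namespace Groth.Agent.S10139

/-- Take an equivalence relation `j : R ⟶ U ×_S U` of schemes over `S`, with `s, t` flat and locally of
finite presentation. Then there exist an equivalence relation `j' : R' ⟶ U' ×_S U'` on schemes over
`S` with `s', t'` flat, locally of finite presentation and locally quasi-finite, and a morphism `U'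
⟶ U` mapping `R'` into `R` which induces an isomorphism of fppf quotient sheaves `U'/R' ⟶ U/R`. -/
theorem result (S : Scheme.{u}) {R U : Over S} (s t : R ⟶ U)
    (h : AlgSp.IsEqvRel s t) [Flat s.left] [LocallyOfFinitePresentation s.left]
    [Flat t.left] [LocallyOfFinitePresentation t.left] :
    ∃ (R' U' : Over S) (s' t' : R' ⟶ U') (g : U' ⟶ U) (r : R' ⟶ R)
      (ψ : QuotSh.quot Scheme.fppfPrecoverage s' t' ⟶ QuotSh.quot Scheme.fppfPrecoverage s t),
      AlgSp.IsEqvRel s' t' ∧ r ≫ s = s' ≫ g ∧ r ≫ t = t' ≫ g ∧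
      Flat s'.left ∧ LocallyOfFinitePresentation s'.left ∧ LocallyQuasiFinite s'.left ∧
      Flat t'.left ∧ LocallyOfFinitePresentation t'.left ∧ LocallyQuasiFinite t'.left ∧
      QuotSh.quotπ Scheme.fppfPrecoverage s' t' ≫ ψ = QuotSh.repMap Scheme.fppfPrecoverage g ≫ QuotSh.quotπ Scheme.fppfPrecoverage s t ∧ IsIso ψ := by
  exact GrothLib.AlgSp.exists_slice_quot h

end Groth.Agent.S10139
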