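import Groth.Statements.S1014
import Groth.Agent.Lib.OX.AffineApps

set_option autoImplicit false
universe u
open CategoryTheory CategoryTheory.Limits AlgebraicGeometry
attribute [local instance] HasDerivedCategory.standard
open Perf

namespace Groth.Agent.S1014

/-- Let X be an affine scheme, U a quasi-compact open subscheme and F a perfect object of D(O_U). Then F
⊕ F[1] extends to X as a perfect complex: there is a complex G of O_X-modules, perfect as an object
of D(O_X), whose termwise restriction to U is isomorphic in D(O_U) to F ⊕ F[1]. -/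
theorem result (X : Scheme.{u}) [IsAffine X] (U : X.Opens) (hU : IsCompact (U : Set X))
    (F : DCoh.D (U : Scheme.{u})) (hF : DCoh.IsPerfect F) [HasBinaryBiproduct F (F⟦(1 : ℤ)⟧)] :
    ∃ G : CochainComplex X.Modules ℤ, DCoh.IsPerfect (DCoh.toD X G) ∧
      Nonempty (DerivedCategory.Q.obj ((DCoh.restrictCx U).obj G) ≅ F ⊞ F⟦(1 : ℤ)⟧) := by
  have hz : IsZero ((GrothLib.OX.resD (U.ι ⁻¹ᵁ (⊥ : X.Opens)).ι).obj F) :=
    (GrothLib.OX.isZero_resD_iff_support _ F).2 fun i x _ hx => by
      rw [Scheme.Opens.range_ι] at hx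
      exact absurd hx (by simp)
  obtain ⟨K, hK, -, ⟨e⟩⟩ := GrothLib.OX.exists_extend_sum_shift (U := U) X.isoSpec.hom hU hF ⊥ (by simp) hz
  let P := DerivedCategory.Q.objPreimage K
  let eP : DerivedCategory.Q.obj P ≅ K := DerivedCategory.Q.objObjPreimageIso K
  exact ⟨P, GrothLib.OX.isPerfect_of_iso hK eP.symm,
    ⟨((GrothLib.OX.resDFac U.ι).app P).symm ≪≫ (GrothLib.OX.resD U.ι).mapIso eP ≪≫ e⟩⟩

end Groth.Agent.S1014
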