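import Groth.Statements.S10140
import Groth.Agent.Lib.GrpdQuot.Descend
import Groth.Agent.Lib.GrpdQuot.QuotSheaf
-- import your own Groth.Agent.* helpers here

set_option autoImplicit false
universe u
open CategoryTheory CategoryTheory.Limits AlgebraicGeometry
open Grpd

namespace Groth.Agent.S10140

/-- Let `(U, R, s, t, c)` be a groupoid scheme over `S` with `U` affine and `j : R ⟶ U ×_S U` separated
and locally quasi-finite, and let `P ⟶ R` be a monomorphism such that `(U, P, s|_P, t|_P, c|_P)` is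
a groupoid scheme, `s|_P, t|_P` are finite locally free and `j|_P` is a monomorphism. Then `U/P` is
represented by an affine scheme `Ū`, the quotient map `U ⟶ Ū` is finite locally free with `P = U ×_Ū
U`, and `R` is the restriction along `U ⟶ Ū` of a groupoid scheme `(Ū, R̄, s̄, t̄, c̄)`. -/
theorem result (S : Scheme.{u}) (G : Grpd.GroupoidScheme S) [IsAffine G.U]
    [IsSeparated G.j] [LocallyQuasiFinite G.j] [LocallyOfFiniteType G.j]
    (P : Scheme.{u}) (ιP : P ⟶ G.R) [Mono ιP]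
    (he : ∃ eP : G.U ⟶ P, eP ≫ ιP = G.e) (hi : ∃ iP : P ⟶ P, iP ≫ ιP = ιP ≫ G.i)
    (hc : ∃ cP : pullback (ιP ≫ G.s) (ιP ≫ G.t) ⟶ P,
      cP ≫ ιP = pullback.map (ιP ≫ G.s) (ιP ≫ G.t) G.s G.t ιP ιP (𝟙 G.U) (Category.comp_id _) (Category.comp_id _) ≫ G.c)
    [IsFinite (ιP ≫ G.s)] [Flat (ιP ≫ G.s)] [LocallyOfFinitePresentation (ιP ≫ G.s)]
    [IsFinite (ιP ≫ G.t)] [Flat (ιP ≫ G.t)] [LocallyOfFinitePresentation (ιP ≫ G.t)] [Mono (ιP ≫ G.j)] :
    ∃ (H : Grpd.GroupoidScheme S) (φ : Grpd.GroupoidScheme.Hom G H),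
      IsAffine H.U ∧
      QuotSh.IsQuotient Scheme.fppfPrecoverage
        (Over.homMk (ιP ≫ G.s) ((Category.assoc _ _ _).trans (congrArg (ιP ≫ ·) G.s_over)) :
          (Over.mk (ιP ≫ G.pR) : Over S) ⟶ Over.mk G.pU)
        (Over.homMk (ιP ≫ G.t) ((Category.assoc _ _ _).trans (congrArg (ιP ≫ ·) G.t_over)) :
          (Over.mk (ιP ≫ G.pR) : Over S) ⟶ Over.mk G.pU)
        (Over.homMk φ.fU φ.fU_over : Over.mk G.pU ⟶ Over.mk H.pU) ∧
      IsFinite φ.fU ∧ Flat φ.fU ∧ LocallyOfFinitePresentation φ.fU ∧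
      IsPullback (ιP ≫ G.t) (ιP ≫ G.s) φ.fU φ.fU ∧
      IsPullback φ.fR G.j H.j
        (pullback.map G.pU G.pU H.pU H.pU φ.fU φ.fU (𝟙 S)
          ((Category.comp_id _).trans φ.fU_over.symm) ((Category.comp_id _).trans φ.fU_over.symm)) := by
  have hsub : GrothLib.GrpdQuot.SubRel G P ιP :=
    ⟨inferInstance, inferInstance, he, hi, by
      obtain ⟨cP, hcP⟩ := hc
      refine ⟨cP, hcP.trans ?_⟩
      congr 1,
      inferInstance, inferInstance, inferInstance, inferInstance, inferInstance, inferInstance⟩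
  let GP := hsub.grpd
  haveI : IsAffine GP.U := inferInstanceAs (IsAffine G.U)
  haveI : IsAffine P := isAffine_of_isAffineHom (ιP ≫ G.s)
  haveI : IsAffine GP.R := inferInstanceAs (IsAffine P)
  haveI : IsFinite GP.s := inferInstanceAs (IsFinite (ιP ≫ G.s))
  haveI : Flat GP.s := inferInstanceAs (Flat (ιP ≫ G.s))
  haveI : LocallyOfFinitePresentation GP.s := inferInstanceAs (LocallyOfFinitePresentation (ιP ≫ G.s))
  haveI : Mono GP.j := hsub.mono_grpd_j
  obtain ⟨⟨hπ₁, hπ₂, hπ₃⟩, φ, hφ₁, hφ₂⟩ := GrothLib.GrpdQuot.finite_flat_toQuot GP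
  let GQ := hsub.arrGrpd
  obtain ⟨hq₁, hq₂, hq₃⟩ := GrothLib.GrpdQuot.q_props hsub
  haveI : IsFinite GQ.s := hq₁
  haveI : Flat GQ.s := hq₂
  haveI : LocallyOfFinitePresentation GQ.s := hq₃
  haveI : Mono GQ.j := hsub.mono_arrGrpd_j
  have hG : GrothLib.GrpdQuot.Covered GQ := GrothLib.GrpdQuot.arrGrpd_covered hsub
  obtain ⟨-, hρ₂, hρ₃⟩ := GrothLib.GrpdQuot.isFinLocFree_quotientπ hG
  let D : GrothLib.GrpdQuot.DescData G :=
    { P := P
      V := Spec (CommRingCat.of GP.invariants)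
      X := GrothLib.GrpdQuot.quotient GQ
      io := ιP
      rel := hsub
      π := GP.toQuot
      ρ := GrothLib.GrpdQuot.quotientπ hG
      π_flat := hπ₂
      π_fp := hπ₃
      π_surj := ⟨GrothLib.GrpdQuot.surjective_toQuot GP⟩
      ρ_flat := hρ₂
      ρ_fp := hρ₃
      ρ_surj := ⟨GrothLib.GrpdQuot.quotientπ_surjective hG⟩
      π_kernel := IsPullback.of_iso_pullback ⟨GrothLib.GrpdQuot.t_toQuot GP⟩ φ hφ₁ hφ₂
      ρ_kernel := GrothLib.GrpdQuot.isPullback_quotientπ hG }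
  refine ⟨D.grpd, D.hom, inferInstanceAs (IsAffine (Spec (CommRingCat.of GP.invariants))), ?_,
    hπ₁, hπ₂, hπ₃, D.π_kernel, D.isPullback_hom⟩
  let Po : Over S := Over.mk (ιP ≫ G.pR)
  let sP : Po ⟶ Over.mk G.pU :=
    Over.homMk (ιP ≫ G.s) ((Category.assoc _ _ _).trans (congrArg (ιP ≫ ·) G.s_over))
  let tP : Po ⟶ Over.mk G.pU :=
    Over.homMk (ιP ≫ G.t) ((Category.assoc _ _ _).trans (congrArg (ιP ≫ ·) G.t_over))
  let q : Over.mk G.pU ⟶ Over.mk D.grpd.pU := Over.homMk D.hom.fU D.hom.fU_over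
  have hpb : IsPullback tP sP q q := IsPullback.of_map (Over.forget S)
    (Over.OverMorphism.ext D.π_kernel.w) D.π_kernel
  haveI : Flat q.left := hπ₂
  haveI : LocallyOfFinitePresentation q.left := hπ₃
  haveI : Surjective q.left := ⟨GrothLib.GrpdQuot.surjective_toQuot GP⟩
  refine GrothLib.GrpdQuot.isQuotient_of_epi Scheme.fppfPrecoverage sP tP q hpb.w.symm
    (GrothLib.GrpdQuot.epi_repMap_of_mem Scheme.fppfPrecoverage q
      (GrothLib.GrpdQuot.singleton_mem_fppf q.left)) tP sP hpb (𝟙 Po)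
    (Category.id_comp _) (Category.id_comp _) ?_
  exact GrothLib.GrpdQuot.epi_repMap_of_mem Scheme.fppfPrecoverage (𝟙 Po)
    (GrothLib.GrpdQuot.singleton_mem_fppf (𝟙 P))

end Groth.Agent.S10140
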