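import Groth.Statements.S10141
import Groth.Agent.Lib.AlgSp.QuotRestrict
import Groth.Agent.Lib.AlgSp.PreEqvQuot
-- import your own Groth.Agent.* helpers here

set_option autoImplicit false
universe u
open CategoryTheory CategoryTheory.Limits AlgebraicGeometry
open AlgSp

namespace Groth.Agent.S10141

/-- Let `(U, R, s, t, c)` be a groupoid scheme over `S` and `g : U' ⟶ U` a morphism such that the
composite `h : U' ×_{g, U, t} R ⟶ R ⟶ U` of the projection with `s` has open image `W ⊂ U` and `h :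
U' ×_{g, U, t} R ⟶ W` is a surjection of fppf sheaves. Then for the restriction `R' = R|_{U'}` the
map of fppf quotient sheaves `U'/R' ⟶ U/R` is representable and an open immersion. -/
theorem result (S : Scheme.{u}) (G : Grpd.GroupoidScheme S)
    (U' : Scheme.{u}) (g : U' ⟶ G.U) (W : G.U.Opens)
    (hW : (W : Set ↥G.U) = Set.range ⇑(pullback.snd g G.t ≫ G.s))
    (hlift : pullback g G.t ⟶ ↑W) (hh : hlift ≫ W.ι = pullback.snd g G.t ≫ G.s)
    (hsurj : Sheaf.IsLocallySurjective ((AlgSp.yon S).map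
      (Over.homMk hlift ((Category.assoc _ _ _).symm.trans (congrArg (· ≫ G.pU) hh)) :
        Over.mk ((pullback.snd g G.t ≫ G.s) ≫ G.pU) ⟶ Over.mk (W.ι ≫ G.pU))))
    (R' : Over S) (s' t' : R' ⟶ Over.mk (g ≫ G.pU)) (r : R' ⟶ Over.mk G.pR)
    (hsq : IsPullback (prod.lift t' s') r
      (prod.map (Over.homMk g rfl : Over.mk (g ≫ G.pU) ⟶ Over.mk G.pU) (Over.homMk g rfl : Over.mk (g ≫ G.pU) ⟶ Over.mk G.pU))
      (prod.lift (Over.homMk G.t G.t_over : Over.mk G.pR ⟶ Over.mk G.pU) (Over.homMk G.s G.s_over : Over.mk G.pR ⟶ Over.mk G.pU)))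
    (ψ : QuotSh.quot Scheme.fppfPrecoverage s' t' ⟶
      QuotSh.quot Scheme.fppfPrecoverage (Over.homMk G.s G.s_over : Over.mk G.pR ⟶ Over.mk G.pU) (Over.homMk G.t G.t_over : Over.mk G.pR ⟶ Over.mk G.pU))
    (hψ : QuotSh.quotπ Scheme.fppfPrecoverage s' t' ≫ ψ =
      QuotSh.repMap Scheme.fppfPrecoverage (Over.homMk g rfl : Over.mk (g ≫ G.pU) ⟶ Over.mk G.pU) ≫ QuotSh.quotπ Scheme.fppfPrecoverage _ _) :
    AlgSp.RepWith @IsOpenImmersion ψ := by
  open GrothLib.AlgSp in
  classical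
  let s₀ : Over.mk G.pR ⟶ Over.mk G.pU := Over.homMk G.s G.s_over
  let t₀ : Over.mk G.pR ⟶ Over.mk G.pU := Over.homMk G.t G.t_over
  let g₀ : Over.mk (g ≫ G.pU) ⟶ Over.mk G.pU := Over.homMk g rfl
  have heqv : ∀ T : Over S, Equivalence fun a b : T ⟶ Over.mk G.pU =>
      ∃ r : T ⟶ Over.mk G.pR, r ≫ t₀ = a ∧ r ≫ s₀ = b := by
    intro T
    refine ⟨fun a => ?_, ?_, ?_⟩
    · exact ⟨Over.homMk (a.left ≫ G.e) (by
          change (a.left ≫ G.e) ≫ G.pR = _
          refine (congrArg ((a.left ≫ G.e) ≫ ·) G.s_over.symm).trans ?_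
          rw [Category.assoc, reassoc_of% G.e_s]
          exact Over.w a),
        Over.OverMorphism.ext ((Category.assoc _ _ _).trans ((congrArg (a.left ≫ ·) G.e_t).trans (Category.comp_id _))),
        Over.OverMorphism.ext ((Category.assoc _ _ _).trans ((congrArg (a.left ≫ ·) G.e_s).trans (Category.comp_id _)))⟩
    · rintro a b ⟨r, rfl, rfl⟩
      exact ⟨Over.homMk (r.left ≫ G.i) (by
          change (r.left ≫ G.i) ≫ G.pR = _
          refine (congrArg ((r.left ≫ G.i) ≫ ·) G.s_over.symm).trans ?_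
          rw [Category.assoc, reassoc_of% G.i_s, G.t_over]
          exact Over.w r),
        Over.OverMorphism.ext ((Category.assoc _ _ _).trans (congrArg (r.left ≫ ·) G.i_t)),
        Over.OverMorphism.ext ((Category.assoc _ _ _).trans (congrArg (r.left ≫ ·) G.i_s))⟩
    · rintro a b d ⟨r₁, rfl, rfl⟩ ⟨r₂, h21, rfl⟩
      have h : r₁.left ≫ G.s = r₂.left ≫ G.t := (congrArg CommaMorphism.left h21).symm
      exact ⟨Over.homMk (pullback.lift r₁.left r₂.left h ≫ G.c) (by
          refine (congrArg ((pullback.lift r₁.left r₂.left h ≫ G.c) ≫ ·) G.s_over.symm).trans ?_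
          rw [← Category.assoc, G.comp_s r₁.left r₂.left h, Category.assoc, G.s_over]
          exact Over.w r₂),
        Over.OverMorphism.ext (G.comp_t r₁.left r₂.left h),
        Over.OverMorphism.ext (G.comp_s r₁.left r₂.left h)⟩
  haveI := isLocallySurjective_yonQuotπ s₀ t₀
  haveI := isLocallySurjective_yonQuotπ s' t'
  have hnat : ∀ {V Z : Over S} (f : V ⟶ Z),
      (QuotSh.repIsoUliftYoneda Scheme.fppfPrecoverage V).inv ≫ QuotSh.repMap Scheme.fppfPrecoverage f =
        (yon S).map f ≫ (QuotSh.repIsoUliftYoneda Scheme.fppfPrecoverage Z).inv := fun f => by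
    rw [Iso.inv_comp_eq, ← Category.assoc, Iso.eq_comp_inv]
    exact repIsoUliftYoneda_naturality f
  have hψ' : yonQuotπ s' t' ≫ ψ = (yon S).map g₀ ≫ yonQuotπ s₀ t₀ := by
    simp only [yonQuotπ, Category.assoc]
    rw [hψ, ← Category.assoc, hnat, Category.assoc]
  have hw : ∀ {A B : Over S} (p q : A ⟶ B),
      (yon S).map p ≫ yonQuotπ p q = (yon S).map q ≫ yonQuotπ p q := fun p q => by
    simp only [yonQuotπ]
    rw [← Category.assoc, ← Category.assoc, ← hnat, ← hnat, Category.assoc, Category.assoc,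
      QuotSh.quot_condition]
  let T : Over S := Over.mk ((pullback.snd g G.t ≫ G.s) ≫ G.pU)
  let pU' : T ⟶ Over.mk (g ≫ G.pU) := Over.homMk (pullback.fst g G.t) (by
    change pullback.fst g G.t ≫ g ≫ G.pU = (pullback.snd g G.t ≫ G.s) ≫ G.pU
    rw [pullback.condition_assoc, G.t_over, Category.assoc, G.s_over])
  let pR' : T ⟶ Over.mk G.pR := Over.homMk (pullback.snd g G.t) (by
    change pullback.snd g G.t ≫ G.pR = (pullback.snd g G.t ≫ G.s) ≫ G.pU
    rw [Category.assoc, G.s_over])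
  have sq : IsPullback pU' pR' g₀ t₀ :=
    IsPullback.of_map (Over.forget S) (Over.OverMorphism.ext pullback.condition) (IsPullback.of_hasPullback g G.t)
  let i : Over.mk (W.ι ≫ G.pU) ⟶ Over.mk G.pU := Over.homMk W.ι rfl
  haveI : IsOpenImmersion i.left := inferInstanceAs (IsOpenImmersion W.ι)
  let k : T ⟶ Over.mk (W.ι ≫ G.pU) := Over.homMk hlift
    ((Category.assoc _ _ _).symm.trans (congrArg (· ≫ G.pU) hh))
  haveI : Sheaf.IsLocallySurjective ((yon S).map k) := hsurj
  refine repWith_isOpenImmersion_quot_restrict t₀ s₀ g₀ (yonQuotπ s₀ t₀) (yonQuotπ s' t') ψ hψ'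
    (hw s₀ t₀).symm (fun V a b hab => ?_) (fun V a b r₀ hrt hrs => ?_) pU' pR' sq i k (Over.OverMorphism.ext hh)
  · exact exists_rel_of_yonQuotπ_eq heqv V a b hab
  · obtain ⟨z, hz₁, -⟩ := hsq.exists_lift (prod.lift a b) r₀
      (by rw [prod.lift_map, prod.comp_lift, hrt, hrs])
    have h₁ : z ≫ t' = a := by rw [← prod.lift_fst t' s', reassoc_of% hz₁, prod.lift_fst]
    have h₂ : z ≫ s' = b := by rw [← prod.lift_snd t' s', reassoc_of% hz₁, prod.lift_snd]
    rw [← h₁, ← h₂, Functor.map_comp, Functor.map_comp, Category.assoc, Category.assoc, hw s' t']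

end Groth.Agent.S10141
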