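import Groth.Agent.Lib.AlgSp.GpdBasic
import Groth.Agent.Lib.AlgSp.GpdFormal
import Groth.Statements.S10142
-- import your own Groth.Agent.* helpers here

set_option autoImplicit false
universe u
open CategoryTheory CategoryTheory.Limits AlgebraicGeometry
open AlgSp AlgSp.GroupoidSp

namespace Groth.Agent.S10142

/-- For a groupoid in algebraic spaces `(U, R, s, t, c, e, i)` over `B`: the square with sides `c : R
×_{s,U,t} R ⟶ R`, `pr_1 : R ×_{s,U,t} R ⟶ R`, `s` and `s` is cartesian, and the morphism `R
×_{t,U,t} R ⟶ R ×_{s,U,t} R`, `(α, β) ↦ (α, i(α) ∘ β)`, is an isomorphism whose composite with `c`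
is the second projection `pr_1 : R ×_{t,U,t} R ⟶ R`. (The published statement also lists the square
formed by `pr_0`, `pr_1`, `s`, `t`, which is cartesian by definition of the fibre product.) -/
theorem result (S : Scheme.{u}) (B : AlgSp.Sp S) (hB : AlgSp.IsAlgSpace B)
    (G : AlgSp.GroupoidSp B) (hU : AlgSp.IsAlgSpace G.U) (hR : AlgSp.IsAlgSpace G.R) :
    IsPullback G.c (pullback.snd G.s G.t) G.s G.s ∧
      ∀ φ : pullback G.t G.t ⟶ pullback G.s G.t,
        φ ≫ pullback.fst G.s G.t = pullback.fst G.t G.t →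
        φ ≫ pullback.snd G.s G.t =
          pullback.lift (pullback.fst G.t G.t ≫ G.i) (pullback.snd G.t G.t)
            ((Category.assoc _ _ _).trans ((congrArg (pullback.fst G.t G.t ≫ ·) G.i_s).trans pullback.condition)) ≫ G.c →
        IsIso φ ∧ φ ≫ G.c = pullback.snd G.t G.t := by
  refine ⟨?_, fun φ h₁ h₂ => ?_⟩
  · have w : G.c ≫ G.s = pullback.snd G.s G.t ≫ G.s := by
      have := G.comp_s (pullback.fst G.s G.t) (pullback.snd G.s G.t) pullback.condition
      rwa [show pullback.lift (pullback.fst G.s G.t) (pullback.snd G.s G.t) pullback.condition = 𝟙 _ from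
        pullback.hom_ext (by simp) (by simp), Category.id_comp] at this
    have hc : ∀ {T : AlgSp.Sp S} (m : T ⟶ pullback G.s G.t), m ≫ G.c =
        GrothLib.AlgSp.gmul G (m ≫ pullback.fst _ _) (m ≫ pullback.snd _ _)
          (by rw [Category.assoc, Category.assoc, pullback.condition]) := fun m => by
      congr 1
      exact pullback.hom_ext (pullback.lift_fst _ _ _).symm (pullback.lift_snd _ _ _).symm
    refine ⟨⟨w⟩, ⟨PullbackCone.IsLimit.mk w
      (fun c => pullback.lift (GrothLib.AlgSp.gmul G c.fst (c.snd ≫ G.i)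
        (by rw [GrothLib.AlgSp.inv_t]; exact c.condition)) c.snd
        (by rw [GrothLib.AlgSp.gmul_s, GrothLib.AlgSp.inv_s])) (fun c => ?_) (fun c => ?_) (fun c m hm₁ hm₂ => ?_)⟩⟩
    · exact GrothLib.AlgSp.cancel_right' G c.fst c.snd _ rfl _ _
    · exact pullback.lift_snd _ _ _
    · apply pullback.hom_ext
      · rw [pullback.lift_fst]
        refine (GrothLib.AlgSp.cancel_right G (m ≫ pullback.fst _ _) c.snd
          (by rw [← hm₂, Category.assoc, Category.assoc, pullback.condition]) rfl ?_).symm.trans
          (GrothLib.AlgSp.gmul_congr G ?_ rfl _)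
        · rw [GrothLib.AlgSp.gmul_s, GrothLib.AlgSp.inv_t]
        · rw [← hm₁, hc]
          exact GrothLib.AlgSp.gmul_congr G rfl hm₂.symm _
      · rw [pullback.lift_snd, hm₂]
  · have h₂' : φ ≫ pullback.snd G.s G.t = GrothLib.AlgSp.gmul G (pullback.fst G.t G.t ≫ G.i) (pullback.snd G.t G.t)
        (by rw [GrothLib.AlgSp.inv_s]; exact pullback.condition) := h₂
    let inv' : pullback G.s G.t ⟶ pullback G.t G.t := pullback.lift (pullback.fst G.s G.t)
      (GrothLib.AlgSp.gmul G (pullback.fst G.s G.t) (pullback.snd G.s G.t) pullback.condition)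
      (GrothLib.AlgSp.gmul_t G _ _ _).symm
    have hc : φ ≫ G.c = pullback.snd G.t G.t := by
      have : φ = pullback.lift (pullback.fst G.t G.t) (GrothLib.AlgSp.gmul G (pullback.fst G.t G.t ≫ G.i)
          (pullback.snd G.t G.t) (by rw [GrothLib.AlgSp.inv_s]; exact pullback.condition))
          (by rw [GrothLib.AlgSp.gmul_t, GrothLib.AlgSp.inv_t]) :=
        pullback.hom_ext (by rw [h₁, pullback.lift_fst]) (by rw [h₂', pullback.lift_snd])
      rw [this]
      exact GrothLib.AlgSp.cancel_left' G _ _ _ rfl _ _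
    refine ⟨⟨inv', ?_, ?_⟩, hc⟩
    · apply pullback.hom_ext
      · rw [Category.assoc, pullback.lift_fst, Category.id_comp, h₁]
      · rw [Category.assoc, pullback.lift_snd, Category.id_comp, ← hc, ← Category.assoc]
        congr 1
        exact pullback.hom_ext (by rw [Category.assoc, pullback.lift_fst])
          (by rw [Category.assoc, pullback.lift_snd])
    · apply pullback.hom_ext
      · rw [Category.assoc, h₁, Category.id_comp, pullback.lift_fst]
      · rw [Category.assoc, h₂', Category.id_comp, GrothLib.AlgSp.comp_gmul]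
        refine (GrothLib.AlgSp.gmul_congr G (pullback.lift_fst_assoc _ _ _ _ : inv' ≫ pullback.fst G.t G.t ≫ G.i =
          pullback.fst G.s G.t ≫ G.i) (pullback.lift_snd _ _ _) _).trans ?_
        exact GrothLib.AlgSp.cancel_left G _ _ _ rfl _

end Groth.Agent.S10142
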