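import Groth.Agent.Lib.AlgSp.GpdBasic
import Groth.Agent.Lib.AlgSp.GpdFormal
import Groth.Statements.S10145
-- import your own Groth.Agent.* helpers here

set_option autoImplicit false
universe u
open CategoryTheory CategoryTheory.Limits AlgebraicGeometry
open AlgSp AlgSp.GroupoidSp

namespace Groth.Agent.S10145

/-- Let `(U, R, s, t, c)` be a groupoid in algebraic spaces over `B` whose object space is `U = Spec k`,
and let `r : Spec k ⟶ R` be such that `s ∘ r` and `t ∘ r` are automorphisms of `Spec k`; write `a =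
r ∘ (s ∘ r)⁻¹`, so that `s ∘ a = id` and `t ∘ a` is an automorphism. Then `R ⟶ R`, `f ↦ c(a ∘ t ∘ f,
f)`, is an automorphism of `R` mapping `e` to `a` (the point `r`). -/
theorem result (S : Scheme.{u}) (B : AlgSp.Sp S) (hB : AlgSp.IsAlgSpace B)
    (G : AlgSp.GroupoidSp B) (hR : AlgSp.IsAlgSpace G.R) (k : Type u) [Field k]
    (σ : Spec (CommRingCat.of k) ⟶ S) (eU : G.U ≅ (AlgSp.yon S).obj (Over.mk σ))
    (a : G.U ⟶ G.R) (ha : a ≫ G.s = 𝟙 G.U) [IsIso (a ≫ G.t)] :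
    IsIso (pullback.lift (G.t ≫ a) (𝟙 G.R) (((Category.assoc _ _ _).trans (congrArg (G.t ≫ ·) ha)).trans ((Category.comp_id _).trans (Category.id_comp _).symm)) ≫ G.c) ∧
      G.e ≫ (pullback.lift (G.t ≫ a) (𝟙 G.R) (((Category.assoc _ _ _).trans (congrArg (G.t ≫ ·) ha)).trans ((Category.comp_id _).trans (Category.id_comp _).symm)) ≫ G.c) = a := by
  let v : G.U ⟶ G.U := inv (a ≫ G.t)
  have hv : v ≫ a ≫ G.t = 𝟙 _ := IsIso.inv_hom_id _
  have hv' : a ≫ G.t ≫ v = 𝟙 _ := by rw [← Category.assoc]; exact IsIso.hom_inv_id _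
  let a' : G.U ⟶ G.R := v ≫ a ≫ G.i
  have ha' : a' ≫ G.s = 𝟙 _ := by simp only [a', Category.assoc, G.i_s]; exact hv
  have ha't : a' ≫ G.t = v := by simp only [a', Category.assoc, G.i_t, ha, Category.comp_id]
  have hL₀ : (G.t ≫ a) ≫ G.s = 𝟙 G.R ≫ G.t := by rw [Category.assoc, ha, Category.comp_id, Category.id_comp]
  have hM₀ : (G.t ≫ a') ≫ G.s = 𝟙 G.R ≫ G.t := by rw [Category.assoc, ha', Category.comp_id, Category.id_comp]
  let L := GrothLib.AlgSp.gmul G (G.t ≫ a) (𝟙 G.R) hL₀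
  let M := GrothLib.AlgSp.gmul G (G.t ≫ a') (𝟙 G.R) hM₀
  have hLt : L ≫ G.t = G.t ≫ a ≫ G.t := (GrothLib.AlgSp.gmul_t G _ _ _).trans (Category.assoc _ _ _)
  have hMt : M ≫ G.t = G.t ≫ v := by
    rw [GrothLib.AlgSp.gmul_t, Category.assoc, ha't]
  refine ⟨⟨M, ?_, ?_⟩, ?_⟩
  · change L ≫ M = 𝟙 _
    rw [GrothLib.AlgSp.comp_gmul]
    refine (GrothLib.AlgSp.gmul_congr G (?_ : L ≫ G.t ≫ a' = (G.t ≫ a) ≫ G.i) (Category.comp_id L) _).trans ?_
    · rw [reassoc_of% hLt]; simp only [a', reassoc_of% hv', Category.assoc]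
    · exact GrothLib.AlgSp.cancel_left G _ _ hL₀ rfl _
  · change M ≫ L = 𝟙 _
    rw [GrothLib.AlgSp.comp_gmul]
    refine (GrothLib.AlgSp.gmul_congr G (?_ : M ≫ G.t ≫ a = G.t ≫ v ≫ a) (Category.comp_id M) _).trans ?_
    · rw [reassoc_of% hMt]
    · exact GrothLib.AlgSp.cancel_left' G (G.t ≫ v ≫ a) _ (G.t ≫ a') (by simp [a']) hM₀ _
  · change G.e ≫ L = a
    rw [GrothLib.AlgSp.comp_gmul]
    exact GrothLib.AlgSp.gmul_one G (𝟙 _) (by rw [Category.comp_id, Category.id_comp]) _ |>.trans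
      (by rw [← Category.assoc, G.e_t, Category.id_comp])

end Groth.Agent.S10145
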