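import Groth.Statements.S10146
import Groth.Agent.Lib.AlgSp.Points
import Mathlib.FieldTheory.IsAlgClosed.Classification
import Mathlib.FieldTheory.IsAlgClosed.AlgebraicClosure
-- import your own Groth.Agent.* helpers here

set_option autoImplicit false
universe u
open CategoryTheory CategoryTheory.Limits AlgebraicGeometry
open AlgSp AlgSp.GroupoidSp GrothLib.AlgSp
set_option backward.isDefEq.respectTransparency false

namespace Groth.Agent.S10146

open Cardinal in
theorem exists_ringEquiv (k K L : Type u) [Field k] [Field K] [Field L] [Algebra k K] [Algebra k L]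
    [IsAlgClosed K] [IsAlgClosed L] (h : Algebra.trdeg k K = Algebra.trdeg k L) :
    ∃ e : K ≃+* L, e.toRingHom.comp (algebraMap k K) = algebraMap k L := by
  obtain ⟨v, hv⟩ := exists_isTranscendenceBasis k K
  obtain ⟨w, hw⟩ := exists_isTranscendenceBasis k L
  obtain ⟨σ⟩ := Cardinal.eq.1 ((hv.cardinalMk_eq_trdeg.trans h).trans hw.cardinalMk_eq_trdeg.symm)
  letI := IsAlgClosed.isAlgClosure_of_transcendence_basis _ hv
  letI := IsAlgClosed.isAlgClosure_of_transcendence_basis _ hw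
  let e₀ : Algebra.adjoin k (Set.range ((↑) : v → K)) ≃ₐ[k] Algebra.adjoin k (Set.range ((↑) : w → L)) :=
    hv.1.aevalEquiv.symm.trans ((MvPolynomial.renameEquiv k σ).trans hw.1.aevalEquiv)
  refine ⟨IsAlgClosure.equivOfEquiv K L e₀.toRingEquiv, RingHom.ext fun c => ?_⟩
  have := IsAlgClosure.equivOfEquiv_algebraMap K L e₀.toRingEquiv (algebraMap k _ c)
  simpa [← IsScalarTower.algebraMap_apply] using this

open Cardinal in
theorem trdeg_big (k Ω k' : Type u) [Field k] [Field Ω] [Field k'] [Algebra Ω k'] (γ : k →+* Ω)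
    (h₁ : ℵ₀ ≤ Algebra.trdeg Ω k') (h₂ : #Ω ≤ Algebra.trdeg Ω k') :
    @Algebra.trdeg k k' _ _ ((algebraMap Ω k').comp γ).toAlgebra = Algebra.trdeg Ω k' := by
  letI := γ.toAlgebra
  letI := ((algebraMap Ω k').comp γ).toAlgebra
  haveI : IsScalarTower k Ω k' := IsScalarTower.of_algebraMap_eq' rfl
  rw [← trdeg_add_eq k Ω (A := k')]
  obtain ⟨v, hv⟩ := exists_isTranscendenceBasis k Ω
  rw [← hv.cardinalMk_eq_trdeg]
  exact Cardinal.add_eq_right h₁ ((Cardinal.mk_set_le v).trans h₂)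

open Cardinal in
theorem exists_large_field (k Ω : Type u) [Field k] [Field Ω] (α β : k →+* Ω) :
    ∃ (k' : Type u) (_ : Field k') (ι₀ : Ω →+* k') (_ : IsAlgClosed k') (e : k' ≃+* k'),
      e.toRingHom.comp (ι₀.comp α) = ι₀.comp β := by
  let A := MvPolynomial (Ω × ULift.{u} ℕ) Ω
  let k' := AlgebraicClosure (FractionRing A)
  have hd : Algebra.trdeg Ω k' = #(Ω × ULift.{u} ℕ) := by
    haveI : Algebra.IsAlgebraic A (FractionRing A) := IsLocalization.isAlgebraic (FractionRing A) (nonZeroDivisors A)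
    haveI : FaithfulSMul A k' := (faithfulSMul_iff_algebraMap_injective A k').2 (by
      rw [IsScalarTower.algebraMap_eq A (FractionRing A) k']
      exact (algebraMap (FractionRing A) k').injective.comp (IsFractionRing.injective A (FractionRing A)))
    haveI : Algebra.IsAlgebraic A k' := Algebra.IsAlgebraic.trans A (FractionRing A) k'
    have hb : IsTranscendenceBasis Ω (algebraMap A k' ∘ MvPolynomial.X) :=
      (IsTranscendenceBasis.mvPolynomial (Ω × ULift.{u} ℕ) Ω).algebraMap_comp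
    exact hb.cardinalMk_eq_trdeg.symm
  have h₁ : ℵ₀ ≤ Algebra.trdeg Ω k' := by rw [hd]; exact aleph0_le_mk _
  have h₂ : #Ω ≤ Algebra.trdeg Ω k' := by
    rw [hd]
    exact ⟨⟨fun x => (x, ⟨0⟩), fun x y h => congrArg Prod.fst h⟩⟩
  have key : ∀ γ : k →+* Ω, @Algebra.trdeg k k' _ _ ((algebraMap Ω k').comp γ).toAlgebra =
      Algebra.trdeg Ω k' := fun γ => trdeg_big k Ω k' γ h₁ h₂
  obtain ⟨e, he⟩ := @exists_ringEquiv k k' k' _ _ _ ((algebraMap Ω k').comp α).toAlgebra
    ((algebraMap Ω k').comp β).toAlgebra _ _ ((key α).trans (key β).symm)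
  exact ⟨k', inferInstance, algebraMap Ω k', inferInstance, e, he⟩

/-- Let `(U, R, s, t, c)` be a groupoid in algebraic spaces over `B` whose object space is `U = Spec k`.
For every point `r` of `R` there are an algebraically closed field extension `k'` of `k` and, on the
restriction `(U', R', s', t', c')` along `Spec k' ⟶ Spec k`, a morphism `r' : Spec k' ⟶ R'` mapping
to `r` in `R` such that `s' ∘ r'` and `t' ∘ r'` are automorphisms of `Spec k'`. -/
theorem result (S : Scheme.{u}) (B : AlgSp.Sp S) (hB : AlgSp.IsAlgSpace B)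
    (G : AlgSp.GroupoidSp B) (hR : AlgSp.IsAlgSpace G.R) (k : Type u) [Field k]
    (σ : Spec (CommRingCat.of k) ⟶ S) (eU : G.U ≅ (AlgSp.yon S).obj (Over.mk σ)) (r : AlgSp.Points G.R) :
    ∃ (k' : Type u) (_ : Field k') (_ : Algebra k k'), IsAlgClosed k' ∧
      ∀ (G' : AlgSp.GroupoidSp B) (φ : AlgSp.GroupoidSp.Hom G' G), φ.IsRestriction → AlgSp.IsAlgSpace G'.R →
        ∀ (eU' : G'.U ≅ (AlgSp.yon S).obj (Over.mk (Spec.map (CommRingCat.ofHom (algebraMap k k')) ≫ σ))),
          φ.fU = eU'.hom ≫ (AlgSp.yon S).map (Over.homMk (Spec.map (CommRingCat.ofHom (algebraMap k k'))) rfl :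
            Over.mk (Spec.map (CommRingCat.ofHom (algebraMap k k')) ≫ σ) ⟶ Over.mk σ) ≫ eU.inv →
          ∃ r' : G'.U ⟶ G'.R, (∀ x : AlgSp.Points G'.U, AlgSp.Points.map (r' ≫ φ.fR) x = r) ∧
            IsIso (r' ≫ G'.s) ∧ IsIso (r' ≫ G'.t) := by
  obtain ⟨Ω, _, w, g₀, rfl⟩ := exists_ofPt r
  obtain ⟨a, ha⟩ := (yon S).map_surjective (g₀ ≫ G.s ≫ eU.hom)
  obtain ⟨b, hb⟩ := (yon S).map_surjective (g₀ ≫ G.t ≫ eU.hom)
  obtain ⟨α, hα⟩ := Spec.map_surjective (R := CommRingCat.of k) (S := CommRingCat.of Ω) a.left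
  obtain ⟨β, hβ⟩ := Spec.map_surjective (R := CommRingCat.of k) (S := CommRingCat.of Ω) b.left
  obtain ⟨k', _, ι₀, _, e, he⟩ := exists_large_field k Ω α.hom β.hom
  refine ⟨k', inferInstance, (ι₀.comp α.hom).toAlgebra, inferInstance, fun G' φ hφ hR' eU' hfU => ?_⟩
  letI : Algebra k k' := (ι₀.comp α.hom).toAlgebra
  let T' : Over S := Over.mk (Spec.map (CommRingCat.ofHom (algebraMap k k')) ≫ σ)
  let pr : T' ⟶ Over.mk σ := Over.homMk (Spec.map (CommRingCat.ofHom (algebraMap k k'))) rfl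
  have hA : Spec.map (CommRingCat.ofHom ι₀) ≫ a.left = Spec.map (CommRingCat.ofHom (algebraMap k k')) := by
    rw [← hα, ← Spec.map_comp]
    rfl
  have hB : Spec.map (CommRingCat.ofHom ι₀) ≫ b.left =
      Spec.map (CommRingCat.ofHom e.toRingHom) ≫ Spec.map (CommRingCat.ofHom (algebraMap k k')) := by
    rw [← hβ, ← Spec.map_comp, ← Spec.map_comp]
    congr 1
    exact CommRingCat.hom_ext he.symm
  let q : T' ⟶ Over.mk w := Over.homMk (Spec.map (CommRingCat.ofHom ι₀)) (by
    change Spec.map (CommRingCat.ofHom ι₀) ≫ w = Spec.map (CommRingCat.ofHom (algebraMap k k')) ≫ σ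
    rw [← hA, Category.assoc]
    congr 1
    exact (Over.w a).symm)
  haveI : IsIso (CommRingCat.ofHom e.toRingHom) :=
    inferInstanceAs (IsIso e.toCommRingCatIso.hom)
  let e' : T' ⟶ T' := Over.homMk (Spec.map (CommRingCat.ofHom e.toRingHom)) (by
    change Spec.map (CommRingCat.ofHom e.toRingHom) ≫ Spec.map (CommRingCat.ofHom (algebraMap k k')) ≫ σ =
      Spec.map (CommRingCat.ofHom (algebraMap k k')) ≫ σ
    rw [← Category.assoc, ← hB, ← hA, Category.assoc, Category.assoc]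
    congr 1
    exact (Over.w b).trans (Over.w a).symm)
  have e₁ : q ≫ a = pr := Over.OverMorphism.ext hA
  have e₂ : q ≫ b = e' ≫ pr := Over.OverMorphism.ext hB
  haveI : IsIso ((Over.forget S).map e') := inferInstanceAs (IsIso (Spec.map (CommRingCat.ofHom e.toRingHom)))
  haveI : IsIso e' := isIso_of_reflects_iso e' (Over.forget S)
  have hf : φ.fU = eU'.hom ≫ (yon S).map pr ≫ eU.inv := hfU
  let m : G'.U ⟶ G'.U := eU'.hom ≫ (yon S).map e' ≫ eU'.inv
  haveI : IsIso m := inferInstance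
  let g : G'.U ⟶ G.R := eU'.hom ≫ (yon S).map q ≫ g₀
  have hgs : g ≫ G.s = φ.fU := by
    rw [hf, ← e₁, Functor.map_comp, ha]
    simp [g]
  have hgt : g ≫ G.t = m ≫ φ.fU := by
    rw [hf]
    simp only [m, Category.assoc, Iso.inv_hom_id_assoc]
    rw [← Functor.map_comp_assoc, ← e₂, Functor.map_comp, hb]
    simp [g]
  have hpU : m ≫ G'.pU = 𝟙 G'.U ≫ G'.pU := by
    rw [Category.id_comp, ← φ.fU_over, ← Category.assoc, ← hgt, ← hgs, Category.assoc g, Category.assoc g,
      G.t_over, G.s_over]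
  have sq : IsPullback φ.fR G'.j G.j φ.prodMap := hφ
  have hj : g ≫ G.j = pullback.lift m (𝟙 _) hpU ≫ φ.prodMap := by
    apply pullback.hom_ext <;> simp [GroupoidSp.Hom.prodMap, hgs, hgt]; exact (Category.id_comp φ.fU).symm
  refine ⟨sq.lift g (pullback.lift m (𝟙 _) hpU) hj, fun x => ?_, ?_, ?_⟩
  · haveI : Subsingleton ↥T'.left := inferInstanceAs (Subsingleton ↥(Spec (CommRingCat.of k')))
    rw [sq.lift_fst, Points.map_comp, Points.map_comp]
    obtain ⟨t, ht⟩ := (Points.schemeEquiv T').surjective (Points.map eU'.hom x)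
    haveI : Subsingleton ↥(Over.mk w).left := inferInstanceAs (Subsingleton ↥(Spec (CommRingCat.of Ω)))
    rw [← ht, show (Points.schemeEquiv T') t = Points.ofScheme T' t from rfl, map_yon_ofPt,
      ← Points.ofPt_eq_map_ofScheme]
    congr 1
    exact Subsingleton.elim _ _
  · rw [← G'.j_snd, ← Category.assoc, sq.lift_snd, pullback.lift_snd]
    infer_instance
  · rw [← G'.j_fst, ← Category.assoc, sq.lift_snd, pullback.lift_fst]
    infer_instance

end Groth.Agent.S10146
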