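import Groth.Statements.S10148
import Groth.Agent.Lib.LinTop.Ring
import Mathlib.RingTheory.Henselian
import Mathlib.Algebra.Polynomial.Identities
import Mathlib.Topology.Algebra.Polynomial
-- import your own Groth.Agent.* helpers here

set_option autoImplicit false
universe u
open LinTop

namespace Groth.Agent.S10148

/-- Let A be a weakly admissible topological ring (linearly topologized, Hausdorff and complete, having
a weak ideal of definition) and let I be a weak ideal of definition of A, that is, an open ideal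
consisting of topologically nilpotent elements. Then (A, I) is a henselian pair. -/
theorem result
    (A : Type u) [CommRing A] [UniformSpace A] [IsUniformAddGroup A] [IsTopologicalRing A]
    (hA : LinTop.IsWeaklyAdmissible A) (I : Ideal A) (hI : LinTop.IsWeakIdealOfDefinition A I) :
    HenselianRing A I := by
  obtain ⟨⟨hl, -⟩, hT, hc⟩ := hA
  have hjac : I ≤ (⊥ : Ideal A).jacobson := GrothLib.LinTop.le_jacobson hI.2
  refine { jac := hjac, is_henselian := fun f hf a₀ h0 hu => ?_ }
  have := isLocalHom_of_le_jacobson_bot I hjac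
  have hunit : ∀ a, a - a₀ ∈ I → IsUnit (f.derivative.eval a) := fun a ha => by
    have h1 : Ideal.Quotient.mk I (f.derivative.eval a) = Ideal.Quotient.mk I (f.derivative.eval a₀) := by
      rw [Ideal.Quotient.eq]
      exact Ideal.mem_of_dvd _ (Polynomial.sub_dvd_eval_sub a a₀ f.derivative) ha
    exact (isUnit_map_iff (Ideal.Quotient.mk I) _).1 (h1 ▸ hu)
  let c := f.eval a₀
  let P : ℕ → A → Prop := fun n a => a - a₀ ∈ I ∧ f.eval a ∈ Ideal.span {c ^ (n + 1)}
  have step : ∀ n a, P n a → ∃ a', P (n + 1) a' ∧ a' - a ∈ Ideal.span {c ^ (n + 1)} := by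
    rintro n a ⟨ha, hfa⟩
    obtain ⟨v, hv⟩ := (hunit a ha).exists_right_inv
    obtain ⟨k, hk⟩ := Polynomial.binomExpansion f a (-(v * f.eval a))
    have hfI : f.eval a ∈ I := by
      have h1 : Ideal.span {c ^ (n + 1)} ≤ I := by
        rw [Ideal.span_le, Set.singleton_subset_iff]
        exact Ideal.pow_mem_of_mem _ h0 _ n.succ_pos
      exact h1 hfa
    refine ⟨a + -(v * f.eval a), ⟨?_, ?_⟩, ?_⟩
    · rw [add_sub_right_comm]
      exact add_mem ha (neg_mem (Ideal.mul_mem_left _ _ hfI))
    · rw [hk, show f.eval a + f.derivative.eval a * -(v * f.eval a) + k * (-(v * f.eval a)) ^ 2 =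
        (k * v ^ 2) * (f.eval a * f.eval a) by linear_combination (-(f.eval a)) * hv]
      refine Ideal.mul_mem_left _ _ ?_
      obtain ⟨d, hd⟩ := Ideal.mem_span_singleton'.1 hfa
      rw [← hd, Ideal.mem_span_singleton']
      exact ⟨d * d * c ^ n, by ring⟩
    · rw [add_sub_cancel_left]
      exact neg_mem (Ideal.mul_mem_left _ _ hfa)
  choose nx hnx hnd using step
  let T : (n : ℕ) → {a // P n a} := fun n => Nat.rec
    ⟨a₀, by simp, by rw [Nat.zero_add, pow_one]; exact Ideal.mem_span_singleton_self _⟩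
    (fun n a => ⟨nx n a.1 a.2, hnx n a.1 a.2⟩) n
  have hcnil : ∀ K : Ideal A, IsOpen (K : Set A) → ∃ N, ∀ n, N ≤ n → Ideal.span {c ^ (n + 1)} ≤ K := by
    intro K hK
    obtain ⟨N, hN⟩ := GrothLib.LinTop.exists_pow_mem (hI.2 _ h0) hK
    refine ⟨N, fun n hn => (Ideal.span_singleton_le_iff_mem _).2 ?_⟩
    rw [← Nat.add_sub_cancel' (show N ≤ n + 1 by omega), pow_add]
    exact K.mul_mem_right _ hN
  obtain ⟨a, ha⟩ := GrothLib.LinTop.exists_tendsto (fun n => (T n).1) fun K hK => by
    obtain ⟨N, hN⟩ := hcnil K hK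
    exact ⟨N, fun n hn => hN n hn (hnd n _ _)⟩
  refine ⟨a, tendsto_nhds_unique ((f.continuous.tendsto a).comp ha) ?_, ?_⟩
  · intro U hU
    obtain ⟨K, hK, hKU⟩ := GrothLib.LinTop.exists_open_ideal hU
    obtain ⟨N, hN⟩ := hcnil K hK
    exact Filter.mem_atTop_sets.2 ⟨N, fun n hn => hKU (hN n hn (T n).2.2)⟩
  · exact (GrothLib.LinTop.isClosed_of_isOpen hI.1).mem_of_tendsto (ha.sub_const a₀)
      (Filter.Eventually.of_forall fun n => (T n).2.1)

end Groth.Agent.S10148
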