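import Groth.Statements.S10149
import Groth.Agent.Lib.LinTop.Ring
import Groth.Prelude.Def_W4stk3formalspacesTaut
-- import your own Groth.Agent.* helpers here

set_option autoImplicit false
universe u v
open LinTop

namespace Groth.Agent.S10149

/-- In a linearly topologized ring B the ideal of topologically nilpotent elements is closed. Moreover,
if φ : A → B is a continuous homomorphism of linearly topologized rings and I is an ideal of A
consisting of topologically nilpotent elements, then every element of the closure of the ideal φ(I)B
is topologically nilpotent. -/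
theorem result
    (A : Type u) [CommRing A] [TopologicalSpace A] [IsTopologicalRing A] [IsLinearTopology A A]
    (B : Type v) [CommRing B] [TopologicalSpace B] [IsTopologicalRing B] [IsLinearTopology B B] :
    IsClosed ((topologicalNilradical B : Ideal B) : Set B) ∧
      ∀ (φ : A →+* B), Continuous φ → ∀ I : Ideal A, (∀ f ∈ I, IsTopologicallyNilpotent f) →
        ∀ g ∈ (I.map φ).closure, IsTopologicallyNilpotent g := by
  have hc : IsClosed ((topologicalNilradical B : Ideal B) : Set B) := by
    rw [← closure_subset_iff_isClosed]
    intro x hx
    refine IsTopologicallyNilpotent.mem_topologicalNilradical_iff.2 (GrothLib.LinTop.isTopologicallyNilpotent_of_forall fun K hK => ?_)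
    obtain ⟨s, hs, hxs⟩ := GrothLib.LinTop.exists_add_of_mem_closure (hK.mem_nhds (zero_mem K)) hx
    obtain ⟨n, hn⟩ := GrothLib.LinTop.exists_pow_mem (IsTopologicallyNilpotent.mem_topologicalNilradical_iff.1 hs) hK
    refine ⟨n, ?_⟩
    rw [← Ideal.Quotient.eq_zero_iff_mem, map_pow, Ideal.Quotient.eq.2 hxs, ← map_pow,
      Ideal.Quotient.eq_zero_iff_mem]
    exact hn
  refine ⟨hc, fun φ hφ I hI g hg => IsTopologicallyNilpotent.mem_topologicalNilradical_iff.1 (GrothLib.LinTop.closure_le ?_ hc hg)⟩
  rw [Ideal.map_le_iff_le_comap]
  exact fun f hf => IsTopologicallyNilpotent.mem_topologicalNilradical_iff.2 ((hI f hf).map hφ)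

end Groth.Agent.S10149
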