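import Groth.Statements.S10152
import Groth.Agent.Lib.LinTop.Ring
-- import your own Groth.Agent.* helpers here

set_option autoImplicit false
universe u v
open LinTop

namespace Groth.Agent.S10152

/-- Let φ : A → B be a taut homomorphism of linearly topologized rings. If A has a countable fundamental
system of open ideals, then so does B (equivalently, the neighbourhood filters of 0 are countably
generated). -/
theorem result
    (A : Type u) [CommRing A] [TopologicalSpace A] [IsTopologicalRing A] [IsLinearTopology A A]
    (B : Type v) [CommRing B] [TopologicalSpace B] [IsTopologicalRing B] [IsLinearTopology B B]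
    (φ : A →+* B) (hφ : LinTop.IsTaut φ) (hA : (nhds (0 : A)).IsCountablyGenerated) :
    (nhds (0 : B)).IsCountablyGenerated := by
  obtain ⟨-, h1, h2⟩ := hφ
  obtain ⟨s, hs⟩ := hA.out
  classical
  have := hA
  obtain ⟨W, hW⟩ := Filter.exists_antitone_basis (nhds (0 : A))
  choose K hK hKW using fun n => GrothLib.LinTop.exists_open_ideal (hW.1.mem_of_mem (i := n) trivial)
  refine Filter.HasBasis.isCountablyGenerated (p := fun _ : ℕ => True)
    (s := fun n => closure (((K n).map φ : Ideal B) : Set B)) ⟨fun U => ⟨fun hU => ?_, fun ⟨n, _, hn⟩ => ?_⟩⟩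
  · obtain ⟨I, hI, hIU⟩ := h2 U hU
    obtain ⟨n, -, hn⟩ := hW.1.mem_iff.1 (hI.mem_nhds (zero_mem I))
    exact ⟨n, trivial, fun x hx => hIU
      (GrothLib.LinTop.closure_mono (Ideal.map_mono fun a ha => hn (hKW n ha)) hx)⟩
  · exact Filter.mem_of_superset ((h1 _ (hK n)).mem_nhds (subset_closure (zero_mem _))) hn

end Groth.Agent.S10152
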