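import Groth.Statements.S10155
import Groth.Agent.Lib.LinTop.Dense
import Groth.Prelude.Def_W4stk3formalspacesTaut
import Mathlib.Topology.Maps.OpenQuotient
import Mathlib.Topology.UniformSpace.Cauchy
-- import your own Groth.Agent.* helpers here

set_option autoImplicit false
universe u v
open LinTop

namespace Groth.Agent.S10155

/-- Let φ : A → B be a taut homomorphism of linearly topologized rings with dense image. Assume A is
Hausdorff and complete with a countable fundamental system of open ideals and B is Hausdorff. Then φ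
is surjective and open, so that B is the quotient of A by the closed ideal ker φ with the quotient
topology, and B is complete. -/
theorem result
    (A : Type u) [CommRing A] [UniformSpace A] [IsUniformAddGroup A] [IsTopologicalRing A]
    [IsLinearTopology A A] [T2Space A] [CompleteSpace A] (hA : (nhds (0 : A)).IsCountablyGenerated)
    (B : Type v) [CommRing B] [UniformSpace B] [IsUniformAddGroup B] [IsTopologicalRing B]
    [IsLinearTopology B B] [T2Space B]
    (φ : A →+* B) (hφ : LinTop.IsTaut φ) (hd : DenseRange φ) :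
    Function.Surjective φ ∧ IsOpenQuotientMap φ ∧ CompleteSpace B := by
  obtain ⟨W, hWa, hWo, hW⟩ := GrothLib.LinTop.exists_antitone_open_ideal hA
  obtain ⟨hφc, h1, h2⟩ := hφ
  let V : ℕ → Set B := fun k => closure (φ '' (W k : Set A))
  have hVeq : ∀ k, V k = closure (((W k).map φ : Ideal B) : Set B) := fun k =>
    GrothLib.LinTop.closure_image_eq φ hd (W k)
  have hVo : ∀ k, IsOpen (V k) := fun k => hVeq k ▸ h1 _ (hWo k)
  have hVz : ∀ k, (0 : B) ∈ V k := fun k => subset_closure ⟨0, zero_mem _, map_zero φ⟩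
  have hVn : ∀ k, V k ∈ nhds (0 : B) := fun k => (hVo k).mem_nhds (hVz k)
  have hV : ∀ U ∈ nhds (0 : B), ∃ k, ∀ j, k ≤ j → V j ⊆ U := fun U hU => by
    obtain ⟨I, hI, hIU⟩ := h2 U hU
    obtain ⟨k, hk⟩ := hW _ (hI.mem_nhds (zero_mem I))
    refine ⟨k, fun j hj => ?_⟩
    rw [hVeq]
    exact (closure_mono (Ideal.map_mono fun x hx => hk (hWa hj hx))).trans hIU
  have hpre : ∀ k y, y ∈ V k → ∃ a ∈ (W k).toAddSubgroup, φ a = y := fun k y hy =>
    GrothLib.LinTop.exists_preimage_of_dense_images φ.toAddMonoidHom hφc (fun k => (W k).toAddSubgroup)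
      (fun k => GrothLib.LinTop.isClosed_of_isOpen (hWo k)) (fun i j h x hx => hWa h hx) hW V hV
      (fun k y hy => by
        obtain ⟨s, ⟨a, ha, rfl⟩, hs⟩ := GrothLib.LinTop.exists_add_of_mem_closure (hVn (k + 1)) hy
        exact ⟨a, ha, hs⟩) k hy
  have hsurj : Function.Surjective φ := fun b => by
    obtain ⟨s, ⟨a, rfl⟩, hs⟩ := GrothLib.LinTop.exists_add_of_mem_closure (hVn 0) (hd b)
    obtain ⟨c, -, hc⟩ := hpre 0 _ hs
    exact ⟨c + a, by rw [map_add, hc, sub_add_cancel]⟩
  have hopen : IsOpenMap φ := IsOpenMap.of_nhds_le fun x => by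
    intro s hs
    rw [Filter.mem_map] at hs
    have h3 : (fun y => x + y) ⁻¹' (φ ⁻¹' s) ∈ nhds (0 : A) :=
      (continuous_const.add continuous_id).continuousAt.preimage_mem_nhds (by simpa using hs)
    obtain ⟨k, hk⟩ := hW _ h3
    have h4 : (fun y => y - φ x) ⁻¹' V k ∈ nhds (φ x) :=
      (continuous_id.sub continuous_const).continuousAt.preimage_mem_nhds (by simpa using hVn k)
    refine Filter.mem_of_superset h4 fun y hy => ?_
    obtain ⟨a, ha, hay⟩ := hpre k _ hy
    have := hk ha
    simp only [Set.mem_preimage, map_add, hay, add_sub_cancel] at this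
    exact this
  refine ⟨hsurj, ⟨hsurj, hφc, hopen⟩, ?_⟩
  have : (nhds (0 : B)).IsCountablyGenerated := Filter.HasBasis.isCountablyGenerated
    (p := fun _ : ℕ => True) (s := V) ⟨fun U => ⟨fun hU => let ⟨k, hk⟩ := hV U hU; ⟨k, trivial, hk k le_rfl⟩,
      fun ⟨k, _, hk⟩ => Filter.mem_of_superset (hVn k) hk⟩⟩
  have : (uniformity B).IsCountablyGenerated := by
    rw [uniformity_eq_comap_nhds_zero B]; exact Filter.comap.isCountablyGenerated _ _
  refine UniformSpace.complete_of_cauchySeq_tendsto fun u hu => ?_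
  have hC : ∀ k, ∃ N, ∀ m n, N ≤ m → N ≤ n → u n - u m ∈ V k := fun k => by
    have h5 : {p : B × B | p.2 - p.1 ∈ V k} ∈ uniformity B := by
      rw [uniformity_eq_comap_nhds_zero B]
      exact ⟨V k, hVn k, fun p hp => hp⟩
    obtain ⟨N, hN⟩ := cauchySeq_iff.1 hu _ h5
    exact ⟨N, fun m n hm hn => hN m hm n hn⟩
  choose N hN using hC
  let M : ℕ → ℕ := fun k => ∑ i ∈ Finset.range (k + 1), (N i + 1)
  have hM1 : ∀ k, N k ≤ M k := fun k =>
    le_trans (Nat.le_succ _) (Finset.single_le_sum (f := fun i => N i + 1) (fun i _ => Nat.zero_le _) (Finset.self_mem_range_succ k))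
  have hM2 : StrictMono M := strictMono_nat_of_lt_succ fun k => by
    simp only [M]; rw [Finset.sum_range_succ _ (k + 1)]; omega
  choose c hc hcφ using fun k => hpre k (u (M (k + 1)) - u (M k))
    (hN k _ _ (hM1 k) ((hM1 k).trans (hM2.monotone (Nat.le_succ k))))
  obtain ⟨a₀, ha₀⟩ := hsurj (u (M 0))
  obtain ⟨a, ha⟩ := GrothLib.LinTop.exists_tendsto (fun j => a₀ + ∑ i ∈ Finset.range j, c i) fun K hK => by
    obtain ⟨k, hk⟩ := hW _ (hK.mem_nhds (zero_mem K))
    refine ⟨k, fun n hn => hk (hWa hn ?_)⟩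
    simp only [Finset.sum_range_succ, ← add_assoc, add_sub_cancel_left]
    exact hc n
  refine ⟨φ a, tendsto_nhds_of_cauchySeq_of_subseq hu hM2.tendsto_atTop ?_⟩
  have : (fun j => u (M j)) = fun j => φ (a₀ + ∑ i ∈ Finset.range j, c i) := by
    funext j
    induction j with
    | zero => simp [ha₀]
    | succ j ih =>
      simp only [Finset.sum_range_succ, ← add_assoc]
      rw [map_add, ← ih, hcφ, add_sub_cancel]
  change Filter.Tendsto (fun j => u (M j)) Filter.atTop _
  rw [this]
  exact (hφc.tendsto a).comp ha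

end Groth.Agent.S10155
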