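import Groth.Statements.S10156
import Groth.Agent.Lib.LinTop.Ring
-- import your own Groth.Agent.* helpers here

set_option autoImplicit false
universe u v w
open LinTop

namespace Groth.Agent.S10156

/-- Given pre-adic rings A, B, C and continuous ring maps ψ : B → C and φ : A → B, adicness of the
composite A → C implies that ψ is adic. -/
theorem result
    (A : Type u) [CommRing A] [TopologicalSpace A] [IsTopologicalRing A] (hA : LinTop.IsPreadic A)
    (B : Type v) [CommRing B] [TopologicalSpace B] [IsTopologicalRing B] (hB : LinTop.IsPreadic B)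
    (C : Type w) [CommRing C] [TopologicalSpace C] [IsTopologicalRing C] (hC : LinTop.IsPreadic C)
    (φ : A →+* B) (ψ : B →+* C) (hφ : Continuous φ) (hψ : Continuous ψ)
    (h : LinTop.IsAdicHom (ψ.comp φ)) : LinTop.IsAdicHom ψ := by
  obtain ⟨I, hI, hIC⟩ := h
  obtain ⟨J, hJ⟩ := hB
  have hJdef : LinTop.IsIdealOfDefinition B J := ⟨by simpa using (isAdic_iff.1 hJ).1 1, fun U hU => by
    obtain ⟨n, hn⟩ := (isAdic_iff.1 hJ).2 U hU
    exact ⟨n + 1, n.succ_pos, fun x hx => hn (Ideal.pow_le_pow_right n.le_succ hx)⟩⟩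
  refine ⟨J, hJdef, isAdic_iff.2 ⟨fun n => ?_, fun U hU => ?_⟩⟩
  · obtain ⟨m, hm0, hm⟩ := hI.2 _ (((isAdic_iff.1 hJ).1 n).preimage hφ |>.mem_nhds (by simp))
    refine GrothLib.LinTop.isOpen_of_le ((isAdic_iff.1 hIC).1 m) ?_
    rw [← Ideal.map_pow, ← Ideal.map_pow, ← Ideal.map_map]
    exact Ideal.map_mono (Ideal.map_le_iff_le_comap.2 hm)
  · obtain ⟨m, hm⟩ := (isAdic_iff.1 hIC).2 U hU
    obtain ⟨n, hn⟩ := (isAdic_iff.1 hJ).2 _ (((isAdic_iff.1 hIC).1 m).preimage hψ |>.mem_nhds (by simp))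
    refine ⟨n, fun x hx => hm ?_⟩
    rw [← Ideal.map_pow] at hx
    exact Ideal.map_le_iff_le_comap.2 (show J ^ n ≤ Ideal.comap ψ _ from hn) hx

end Groth.Agent.S10156
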