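import Groth.Statements.S10157
import Groth.Agent.Lib.LinTop.Ring
import Groth.Agent.S2275
-- import your own Groth.Agent.* helpers here

set_option autoImplicit false
universe u v
open LinTop

namespace Groth.Agent.S10157

/-- A continuous adic homomorphism φ : A → B between pre-adic topological rings is taut. -/
theorem result
    (A : Type u) [CommRing A] [TopologicalSpace A] [IsTopologicalRing A] (hA : LinTop.IsPreadic A)
    (B : Type v) [CommRing B] [TopologicalSpace B] [IsTopologicalRing B] (hB : LinTop.IsPreadic B)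
    (φ : A →+* B) (hφ : Continuous φ) (h : LinTop.IsAdicHom φ) : LinTop.IsTaut φ := by
  obtain ⟨I, hI, hIB⟩ := h
  have hIA : IsAdic I := Groth.Agent.S2275.result A hA I hI
  refine ⟨hφ, fun K hK => ?_, fun U hU => ?_⟩
  · obtain ⟨n, -, hn⟩ := GrothLib.LinTop.exists_pow_le hI hK
    refine GrothLib.LinTop.isOpen_of_le (J := (K.map φ).closure) ((isAdic_iff.1 hIB).1 n) ?_
    rw [← Ideal.map_pow]
    exact (Ideal.map_mono hn).trans (GrothLib.LinTop.le_closure _)
  · obtain ⟨n, hn⟩ := (isAdic_iff.1 hIB).2 U hU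
    refine ⟨I ^ n, (isAdic_iff.1 hIA).1 n, fun x hx => hn ?_⟩
    exact GrothLib.LinTop.closure_le_of_isOpen (Ideal.map_pow φ I n).le ((isAdic_iff.1 hIB).1 n) hx

end Groth.Agent.S10157
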