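import Groth.Statements.S10165
import Groth.Agent.Lib.LinTop.Ring
-- import your own Groth.Agent.* helpers here

set_option autoImplicit false
universe u v
open LinTop

namespace Groth.Agent.S10165

/-- Let φ : A → B be a taut homomorphism of linearly topologized rings. If A is weakly pre-adic, then B
is weakly pre-adic. -/
theorem result
    (A : Type u) [CommRing A] [TopologicalSpace A] [IsTopologicalRing A] [IsLinearTopology A A]
    (B : Type v) [CommRing B] [TopologicalSpace B] [IsTopologicalRing B] [IsLinearTopology B B]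
    (φ : A →+* B) (hφ : LinTop.IsTaut φ) (hA : LinTop.IsWeaklyPreadic A) :
    LinTop.IsWeaklyPreadic B := by
  obtain ⟨hl, I, hIo, hIs⟩ := hA
  refine ⟨inferInstance, I.map φ, fun n => ?_, fun U hU => ?_⟩
  · refine GrothLib.LinTop.isOpen_of_le (I := (((I ^ n).closure).map φ).closure) (hφ.2.1 (I ^ n).closure (hIo n))
      (J := ((I.map φ) ^ n).closure) ?_
    refine GrothLib.LinTop.closure_le ?_ isClosed_closure
    rw [← Ideal.map_pow, Ideal.map_le_iff_le_comap]
    exact fun x hx => map_mem_closure hφ.1 hx fun a ha => Ideal.mem_map_of_mem φ ha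
  · obtain ⟨K, hK, hKU⟩ := hφ.2.2 U hU
    obtain ⟨n, hn⟩ := hIs _ (hK.mem_nhds (zero_mem K))
    refine ⟨n, fun x hx => hKU ?_⟩
    rw [← Ideal.map_pow] at hx
    exact GrothLib.LinTop.closure_mono (Ideal.map_mono fun a ha => hn (subset_closure ha)) hx

end Groth.Agent.S10165
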