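import Groth.Statements.S10159
import Groth.Agent.Lib.LinTop.Ring
import Groth.Agent.S10165
import Mathlib.Tactic.TFAE
-- import your own Groth.Agent.* helpers here

set_option autoImplicit false
universe u
open LinTop

namespace Groth.Agent.S10159

/-- For a ring A carrying a linear topology, the following four conditions are equivalent: (1) A is
weakly pre-adic; (2) there exist a pre-adic topological ring A' and a taut continuous ring
homomorphism A' → A (A' is taken in the universe of A, which suffices since A with an adic topology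
serves); (3) A has an ideal of definition, and for at least one ideal of definition I every closure
cl(I^n) with n ≥ 1 is open; (4) A has an ideal of definition, and for each of its ideals of
definition I every closure cl(I^n) with n ≥ 1 is open. -/
theorem result
    (A : Type u) [CommRing A] [TopologicalSpace A] [IsTopologicalRing A] [IsLinearTopology A A] :
    List.TFAE [LinTop.IsWeaklyPreadic A,
      ∃ (A' : Type u) (_ : CommRing A') (_ : TopologicalSpace A') (_ : IsTopologicalRing A')
        (φ : A' →+* A), LinTop.IsPreadic A' ∧ LinTop.IsTaut φ,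
      LinTop.IsPreadmissible A ∧ ∃ I : Ideal A, LinTop.IsIdealOfDefinition A I ∧
        ∀ n : ℕ, 0 < n → IsOpen (closure ((I ^ n : Ideal A) : Set A)),
      LinTop.IsPreadmissible A ∧ ∀ I : Ideal A, LinTop.IsIdealOfDefinition A I →
        ∀ n : ℕ, 0 < n → IsOpen (closure ((I ^ n : Ideal A) : Set A))] := by
  tfae_have 1 → 3 := by
    rintro ⟨hl, I, hIo, hIs⟩
    have h1 : LinTop.IsIdealOfDefinition A I.closure :=
      GrothLib.LinTop.isIdealOfDefinition_of_open_ideals
        (by simpa using hIo 1) fun K hK => by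
          obtain ⟨n, hn⟩ := hIs _ (hK.mem_nhds (zero_mem K))
          exact ⟨n, (GrothLib.LinTop.closure_pow_le I n).trans hn⟩
    exact ⟨⟨hl, _, h1⟩, _, h1, fun n _ => GrothLib.LinTop.isOpen_closure_of_le (hIo n)
      (Ideal.pow_right_mono (GrothLib.LinTop.le_closure I) n)⟩
  tfae_have 3 → 4 := by
    rintro ⟨hp, I, hI, hIo⟩
    refine ⟨hp, fun J hJ n hn => ?_⟩
    obtain ⟨m, hm0, hm⟩ := GrothLib.LinTop.exists_pow_le hI hJ.1
    exact GrothLib.LinTop.isOpen_closure_of_le (hIo (m * n) (Nat.mul_pos hm0 hn))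
      (by rw [pow_mul]; exact Ideal.pow_right_mono hm n)
  tfae_have 4 → 1 := by
    rintro ⟨⟨hl, I, hI⟩, h⟩
    refine ⟨hl, I, fun n => ?_, fun U hU => ?_⟩
    · rcases Nat.eq_zero_or_pos n with rfl | hn
      · simp
      · exact h I hI n hn
    · obtain ⟨K, hK, hKU⟩ := GrothLib.LinTop.exists_open_ideal hU
      obtain ⟨n, -, hn⟩ := GrothLib.LinTop.exists_pow_le hI hK
      exact ⟨n, fun x hx => hKU (GrothLib.LinTop.closure_le_of_isOpen hn hK hx)⟩
  tfae_have 2 → 1 := by
    rintro ⟨A', _, _, _, φ, ⟨I, hI⟩, hφ⟩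
    have hl : IsLinearTopology A' A' := IsLinearTopology.mk_of_hasBasis A' hI.hasBasis_nhds_zero
    refine Groth.Agent.S10165.result A' A φ hφ ⟨hl, I, fun n => ?_, fun U hU => ?_⟩
    · rw [(GrothLib.LinTop.isClosed_of_isOpen ((isAdic_iff.1 hI).1 n)).closure_eq]
      exact (isAdic_iff.1 hI).1 n
    · obtain ⟨n, hn⟩ := (isAdic_iff.1 hI).2 U hU
      exact ⟨n, by rwa [(GrothLib.LinTop.isClosed_of_isOpen ((isAdic_iff.1 hI).1 n)).closure_eq]⟩
  tfae_have 1 → 2 := by
    rintro ⟨hl, I, hIo, hIs⟩
    let τ : TopologicalSpace A := inferInstance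
    have hring : @IsTopologicalRing A I.adicTopology _ :=
      @NonarchimedeanRing.toIsTopologicalRing A _ I.adicTopology I.nonarchimedean
    refine ⟨A, inferInstance, I.adicTopology, hring, RingHom.id A, ⟨I, rfl⟩, ?_, fun K hK => ?_, fun U hU => ?_⟩
    · show @Continuous A A I.adicTopology τ id
      refine continuous_id_iff_le.2 (le_of_nhds_le_nhds fun x => ?_)
      intro U hU
      obtain ⟨n, hn⟩ := hIs ((fun y => x + y) ⁻¹' U)
        ((@Continuous.continuousAt A A τ τ _ 0 (continuous_const.add continuous_id)).preimage_mem_nhds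
          (by simpa using hU))
      refine (Ideal.hasBasis_nhds_adic I x).mem_iff.2 ⟨n, trivial, ?_⟩
      rintro _ ⟨y, hy, rfl⟩
      exact hn (@subset_closure A τ _ y hy)
    · obtain ⟨n, -, hn⟩ := (@IsAdic.hasBasis_nhds_zero A _ I.adicTopology I rfl).mem_iff.1
        (@IsOpen.mem_nhds A I.adicTopology _ _ hK (zero_mem K))
      rw [Ideal.map_id]
      exact @GrothLib.LinTop.isOpen_closure_of_le A _ τ _ _ _ (hIo n) hn
    · obtain ⟨n, hn⟩ := hIs U hU
      refine ⟨I ^ n, (@isAdic_iff A _ I.adicTopology hring I).1 rfl |>.1 n, ?_⟩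
      rw [Ideal.map_id]
      exact hn
  tfae_finish

end Groth.Agent.S10159
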