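import Groth.Statements.S10160
import Groth.Agent.Lib.LinTop.Ring
import Groth.Agent.S10159
-- import your own Groth.Agent.* helpers here

set_option autoImplicit false
universe u
open LinTop

namespace Groth.Agent.S10160

/-- A weakly adic topological ring is admissible and has a countable fundamental system of open ideals. -/
theorem result
    (A : Type u) [CommRing A] [UniformSpace A] [IsUniformAddGroup A] [IsTopologicalRing A] (hA : LinTop.IsWeaklyAdic A) :
    LinTop.IsAdmissible A ∧ (nhds (0 : A)).IsCountablyGenerated := by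
  obtain ⟨hp, hT, hc⟩ := hA
  have := hp.1
  refine ⟨⟨((List.TFAE.out (Groth.Agent.S10159.result A) 0 2 rfl rfl).1 hp).1, hT, hc⟩, ?_⟩
  obtain ⟨-, I, hIo, hIs⟩ := hp
  refine Filter.HasBasis.isCountablyGenerated (p := fun _ : ℕ => True)
    (s := fun n => closure ((I ^ n : Ideal A) : Set A)) ⟨fun U => ⟨fun hU => ?_, fun ⟨n, _, hn⟩ => ?_⟩⟩
  · obtain ⟨n, hn⟩ := hIs U hU; exact ⟨n, trivial, hn⟩
  · exact Filter.mem_of_superset ((hIo n).mem_nhds (subset_closure (zero_mem _))) hn

end Groth.Agent.S10160
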