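import Groth.Statements.S10164
import Groth.Agent.Lib.LinTop.Descent
import Groth.Agent.S10159
import Groth.Agent.S10160
-- import your own Groth.Agent.* helpers here

set_option autoImplicit false
universe u
open LinTop

namespace Groth.Agent.S10164

/-- Let A be weakly adic and I an ideal of definition of A with I/I₂ finitely generated, where I₂
denotes the closure of I^2 (here: I maps onto a finitely generated ideal of A/I₂). Then A is adic,
and some finitely generated ideal of A is an ideal of definition. -/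
theorem result
    (A : Type u) [CommRing A] [UniformSpace A] [IsUniformAddGroup A] [IsTopologicalRing A] (hA : LinTop.IsWeaklyAdic A)
    (I : Ideal A) (hI : LinTop.IsIdealOfDefinition A I)
    (hfg : (I.map (Ideal.Quotient.mk ((I ^ 2).closure))).FG) :
    LinTop.IsAdicRing A ∧ ∃ J : Ideal A, LinTop.IsIdealOfDefinition A J ∧ J.FG := by
  classical
  obtain ⟨⟨⟨hl, -⟩, hT, hc⟩, -⟩ := Groth.Agent.S10160.result A hA
  obtain ⟨-, hopen⟩ := ((List.TFAE.out (Groth.Agent.S10159.result A) 0 3 rfl rfl).1 hA.1)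
  obtain ⟨s, hs⟩ := hfg
  have hmem : ∀ y : s, ∃ a ∈ I, Ideal.Quotient.mk (I ^ 2).closure a = y.1 := fun y =>
    (Ideal.mem_map_iff_of_surjective _ Ideal.Quotient.mk_surjective).1 (hs ▸ Submodule.subset_span y.2)
  choose a ha hay using hmem
  let J : Ideal A := Ideal.span (Set.range a)
  have hJI : J ≤ I := Ideal.span_le.2 (by rintro _ ⟨y, rfl⟩; exact ha y)
  have hle : I ≤ J ⊔ (I ^ 2).closure := by
    intro x hx
    have h1 : Ideal.Quotient.mk (I ^ 2).closure x ∈ J.map (Ideal.Quotient.mk (I ^ 2).closure) := by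
      rw [Ideal.map_span]
      refine Ideal.span_mono ?_ (hs.ge (Ideal.mem_map_of_mem _ hx))
      intro y hy
      exact ⟨a ⟨y, hy⟩, ⟨_, rfl⟩, hay ⟨y, hy⟩⟩
    rwa [← Ideal.mem_comap, Ideal.comap_map_of_surjective _ Ideal.Quotient.mk_surjective,
      ← RingHom.ker_eq_comap_bot, Ideal.mk_ker] at h1
  have hJ : IsAdic J := by
    refine GrothLib.LinTop.isAdic_of_closure_pow (Submodule.fg_span (Set.finite_range a)) (fun n => ?_) fun U hU => ?_
    · exact GrothLib.LinTop.isOpen_closure_pow hI (fun n hn => hopen I hI n hn) hJI hle n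
    · obtain ⟨K, hK, hKU⟩ := GrothLib.LinTop.exists_open_ideal hU
      obtain ⟨n, -, hn⟩ := GrothLib.LinTop.exists_pow_le hI hK
      exact ⟨n, fun x hx => hKU (GrothLib.LinTop.closure_le_of_isOpen ((Ideal.pow_right_mono hJI n).trans hn) hK hx)⟩
  refine ⟨⟨⟨J, hJ⟩, hT, hc⟩, J, ⟨by simpa using (isAdic_iff.1 hJ).1 1, fun U hU => ?_⟩,
    Submodule.fg_span (Set.finite_range a)⟩
  obtain ⟨n, hn⟩ := (isAdic_iff.1 hJ).2 U hU
  exact ⟨n + 1, n.succ_pos, fun x hx => hn (Ideal.pow_le_pow_right n.le_succ hx)⟩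

end Groth.Agent.S10164
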