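import Groth.Statements.S10166
import Groth.Agent.Lib.LinTop.Ring
-- import your own Groth.Agent.* helpers here

set_option autoImplicit false
universe u v
open LinTop

namespace Groth.Agent.S10166

/-- Let φ : A → B be a taut homomorphism of linearly topologized rings such that for every open ideal I
of A, with J the closure of φ(I)B, the induced map A/I → B/J is faithfully flat. If B has a
countable fundamental system of open ideals, then so does A. -/
theorem result
    (A : Type u) [CommRing A] [TopologicalSpace A] [IsTopologicalRing A] [IsLinearTopology A A]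
    (B : Type v) [CommRing B] [TopologicalSpace B] [IsTopologicalRing B] [IsLinearTopology B B]
    (φ : A →+* B) (hφ : LinTop.IsTautFFlat φ) (hB : (nhds (0 : B)).IsCountablyGenerated) :
    (nhds (0 : A)).IsCountablyGenerated := by
  obtain ⟨⟨hc, h1, h2⟩, hff⟩ := hφ
  have := hB
  obtain ⟨W, hW⟩ := Filter.exists_antitone_basis (nhds (0 : B))
  choose V hV hVW using fun n => GrothLib.LinTop.exists_open_ideal (hW.1.mem_of_mem (i := n) trivial)
  refine Filter.HasBasis.isCountablyGenerated (p := fun _ : ℕ => True)
    (s := fun n => ((V n).comap φ : Set A)) ⟨fun U => ⟨fun hU => ?_, fun ⟨n, _, hn⟩ => ?_⟩⟩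
  · obtain ⟨I, hI, hIU⟩ := GrothLib.LinTop.exists_open_ideal hU
    obtain ⟨n, -, hn⟩ := hW.1.mem_iff.1 ((h1 I hI).mem_nhds (subset_closure (zero_mem _)))
    refine ⟨n, trivial, fun x hx => hIU ?_⟩
    have hinj := (hff I hI).injective
    rw [SetLike.mem_coe, ← Ideal.Quotient.eq_zero_iff_mem]
    refine hinj ?_
    rw [map_zero]
    exact Ideal.Quotient.eq_zero_iff_mem.2 (hn (hVW n hx))
  · exact Filter.mem_of_superset (((hV n).preimage hc).mem_nhds (by simp)) hn

end Groth.Agent.S10166
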