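import Groth.Statements.S10167
import Groth.Agent.Lib.LinTop.Descent
import Groth.Agent.S10149
-- import your own Groth.Agent.* helpers here

set_option autoImplicit false
universe u v
open LinTop

namespace Groth.Agent.S10167

/-- Let φ : A → B be a taut homomorphism of linearly topologized rings such that for every open ideal I
of A the induced ring map A/I → B/J, where J denotes the closure of φ(I)B, is faithfully flat. If B
has a weak ideal of definition (B is weakly pre-admissible), then so does A. -/
theorem result
    (A : Type u) [CommRing A] [TopologicalSpace A] [IsTopologicalRing A] [IsLinearTopology A A]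
    (B : Type v) [CommRing B] [TopologicalSpace B] [IsTopologicalRing B] [IsLinearTopology B B]
    (φ : A →+* B) (hφ : LinTop.IsTautFFlat φ) (hB : LinTop.IsWeaklyPreadmissible B) :
    LinTop.IsWeaklyPreadmissible A := by
  obtain ⟨hl, K, hKo, hKn⟩ := hB
  obtain ⟨⟨hc, h1, h2⟩, hff⟩ := hφ
  refine ⟨inferInstance, K.comap φ, hKo.preimage hc, fun f hf =>
    GrothLib.LinTop.isTopologicallyNilpotent_of_forall fun I hI => ?_⟩
  obtain ⟨n, hn⟩ := GrothLib.LinTop.exists_pow_mem (hKn _ hf) (K := (I.map φ).closure) (h1 I hI)
  exact ⟨n, GrothLib.LinTop.comap_closure_map_le ⟨⟨hc, h1, h2⟩, hff⟩ hI (show φ (f ^ n) ∈ _ by rwa [map_pow])⟩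

end Groth.Agent.S10167
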