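import Groth.Statements.S10168
import Groth.Agent.Lib.LinTop.Descent
-- import your own Groth.Agent.* helpers here

set_option autoImplicit false
universe u v
open LinTop

namespace Groth.Agent.S10168

/-- Let φ : A → B be a taut homomorphism of linearly topologized rings such that for every open ideal I
of A, with J the closure of φ(I)B, the induced map A/I → B/J is faithfully flat. If B is
pre-admissible, then A is pre-admissible. -/
theorem result
    (A : Type u) [CommRing A] [TopologicalSpace A] [IsTopologicalRing A] [IsLinearTopology A A]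
    (B : Type v) [CommRing B] [TopologicalSpace B] [IsTopologicalRing B] [IsLinearTopology B B]
    (φ : A →+* B) (hφ : LinTop.IsTautFFlat φ) (hB : LinTop.IsPreadmissible B) :
    LinTop.IsPreadmissible A := by
  obtain ⟨hl, K, hK⟩ := hB
  refine ⟨inferInstance, K.comap φ, GrothLib.LinTop.isIdealOfDefinition_of_open_ideals
    (hK.1.preimage hφ.1.1) fun I hI => ?_⟩
  obtain ⟨n, -, hn⟩ := GrothLib.LinTop.exists_pow_le hK (K := (I.map φ).closure) (hφ.1.2.1 I hI)
  refine ⟨n, le_trans ?_ (GrothLib.LinTop.comap_closure_map_le hφ hI)⟩
  rw [← Ideal.map_le_iff_le_comap, Ideal.map_pow]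
  exact (Ideal.pow_right_mono Ideal.map_comap_le n).trans hn

end Groth.Agent.S10168
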