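import Groth.Statements.S10169
import Groth.Agent.Lib.LinTop.Descent
import Groth.Agent.S10159
-- import your own Groth.Agent.* helpers here

set_option autoImplicit false
universe u v
open LinTop

namespace Groth.Agent.S10169

/-- Let φ : A → B be a taut homomorphism of linearly topologized rings such that for every open ideal I
of A the induced ring map A/I → B/J, where J denotes the closure of φ(I)B, is faithfully flat. Weak
pre-adicness then descends: when B is weakly pre-adic, A is as well. -/
theorem result
    (A : Type u) [CommRing A] [TopologicalSpace A] [IsTopologicalRing A] [IsLinearTopology A A]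
    (B : Type v) [CommRing B] [TopologicalSpace B] [IsTopologicalRing B] [IsLinearTopology B B]
    (φ : A →+* B) (hφ : LinTop.IsTautFFlat φ) (hB : LinTop.IsWeaklyPreadic B) :
    LinTop.IsWeaklyPreadic A := by
  obtain ⟨⟨hl, K, hK⟩, hopen⟩ := ((List.TFAE.out (Groth.Agent.S10159.result B) 0 3 rfl rfl).1 hB)
  have hKall := fun n hn => hopen K hK n hn
  have hI : IsOpen ((K.comap φ : Ideal A) : Set A) := hK.1.preimage hφ.1.1
  refine ⟨inferInstance, K.comap φ, fun n => ?_, fun U hU => ?_⟩
  · exact GrothLib.LinTop.isOpen_closure_pow_comap hφ hK hKall n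
  · obtain ⟨W, hW, hWU⟩ := GrothLib.LinTop.exists_open_ideal hU
    obtain ⟨n, -, hn⟩ := GrothLib.LinTop.exists_pow_le hK (K := (W.map φ).closure) (hφ.1.2.1 W hW)
    refine ⟨n, fun x hx => hWU (GrothLib.LinTop.closure_le_of_isOpen
      (le_trans ?_ (GrothLib.LinTop.comap_closure_map_le hφ hW)) hW hx)⟩
    rw [← Ideal.map_le_iff_le_comap, Ideal.map_pow]
    exact (Ideal.pow_right_mono Ideal.map_comap_le n).trans hn

end Groth.Agent.S10169
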