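import Groth.Statements.S10170
import Groth.Agent.Lib.LinTop.Descent
import Groth.Agent.S2275
-- import your own Groth.Agent.* helpers here

set_option autoImplicit false
universe u v
open LinTop

namespace Groth.Agent.S10170

/-- Let φ : A → B be a taut homomorphism of linearly topologized rings such that for every open ideal I
of A the induced ring map A/I → B/J, where J denotes the closure of φ(I)B, is faithfully flat.
Suppose A is Hausdorff and complete, and B is adic with some finitely generated ideal of definition.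
Then A is adic, and some finitely generated ideal of A is an ideal of definition. -/
theorem result
    (A : Type u) [CommRing A] [UniformSpace A] [IsUniformAddGroup A] [IsTopologicalRing A] [IsLinearTopology A A] [T2Space A] [CompleteSpace A]
    (B : Type v) [CommRing B] [UniformSpace B] [IsUniformAddGroup B] [IsTopologicalRing B] (hB : LinTop.IsAdicRing B)
    (hJ : ∃ J : Ideal B, LinTop.IsIdealOfDefinition B J ∧ J.FG)
    (φ : A →+* B) (hφ : LinTop.IsTautFFlat φ) :
    LinTop.IsAdicRing A ∧ ∃ I : Ideal A, LinTop.IsIdealOfDefinition A I ∧ I.FG := by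
  classical
  obtain ⟨hBp, hT, hc⟩ := hB
  obtain ⟨J, hJ, hJfg⟩ := hJ
  have hJad : IsAdic J := Groth.Agent.S2275.result B hBp J hJ
  have hBl : IsLinearTopology B B := IsLinearTopology.mk_of_hasBasis B hJad.hasBasis_nhds_zero
  have hJall : ∀ n, 0 < n → IsOpen (closure ((J ^ n : Ideal B) : Set B)) := fun n _ =>
    GrothLib.LinTop.isOpen_of_le (J := (J ^ n).closure) ((isAdic_iff.1 hJad).1 n) (GrothLib.LinTop.le_closure _)
  let I₀ : Ideal A := J.comap φ
  have hI₀ : IsOpen (I₀ : Set A) := hJ.1.preimage hφ.1.1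
  obtain ⟨a, ha⟩ := (isAdic_iff.1 hJad).2 _ ((hφ.1.2.1 I₀ hI₀).mem_nhds (subset_closure (zero_mem _)))
  have ha' : J ^ a ≤ I₀.map φ ⊔ J ^ (a + 1) := fun x hx =>
    GrothLib.LinTop.mem_sup_of_mem_closure ((isAdic_iff.1 hJad).1 (a + 1)) (ha hx)
  obtain ⟨T, hT', hTle⟩ : ∃ T : Finset A, (T : Set A) ⊆ I₀ ∧ J ^ a ≤ (Ideal.span (T : Set A)).map φ ⊔ J ^ (a + 1) := by
    obtain ⟨S, hS⟩ := (Ideal.FG.pow hJfg : (J ^ a).FG)
    suffices ∀ S' : Finset B, (∀ y ∈ S', y ∈ I₀.map φ ⊔ J ^ (a + 1)) → ∃ T : Finset A, (T : Set A) ⊆ I₀ ∧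
        ∀ y ∈ S', y ∈ (Ideal.span (T : Set A)).map φ ⊔ J ^ (a + 1) by
      obtain ⟨T, hT1, hT2⟩ := this S fun y hy => ha' (hS ▸ Submodule.subset_span hy)
      exact ⟨T, hT1, hS ▸ Submodule.span_le.2 hT2⟩
    intro S'
    induction S' using Finset.induction_on with
    | empty => exact fun _ => ⟨∅, by simp, by simp⟩
    | @insert y S' _ ih =>
      intro h
      obtain ⟨T, hT1, hT2⟩ := ih fun z hz => h z (Finset.mem_insert_of_mem hz)
      obtain ⟨u, hu, v, hv, rfl⟩ := Submodule.mem_sup.1 (h y (Finset.mem_insert_self _ _))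
      rw [Ideal.map, Ideal.span] at hu
      obtain ⟨R', hR1, hR2⟩ := Submodule.mem_span_finite_of_mem_span hu
      obtain ⟨T', hT'1, rfl⟩ := Finset.subset_set_image_iff.1 hR1
      refine ⟨T ∪ T', by simp [Set.union_subset_iff, hT1, hT'1], fun z hz => ?_⟩
      rcases Finset.mem_insert.1 hz with rfl | hz
      · refine add_mem (Submodule.mem_sup_left ?_) (Submodule.mem_sup_right hv)
        rw [Ideal.map_span]
        exact Ideal.span_mono (by simp [Set.image_union]) hR2
      · exact SetLike.le_def.1 (sup_le_sup (Ideal.map_mono (Ideal.span_mono (Finset.coe_subset.2 Finset.subset_union_left))) le_rfl) (hT2 z hz)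
  let F : Ideal A := Ideal.span (T : Set A)
  have hFJ : F.map φ ≤ J := Ideal.map_le_iff_le_comap.2 (Ideal.span_le.2 hT')
  have hJa : J ^ a ≤ (F.map φ).closure := by
    intro x hx
    refine GrothLib.LinTop.mem_closure_of_forall_open fun K hK => ?_
    obtain ⟨m, -, hm⟩ := GrothLib.LinTop.exists_pow_le hJ hK
    suffices ∀ k, J ^ a ≤ F.map φ ⊔ J ^ (a + k) from
      sup_le_sup_left ((Ideal.pow_le_pow_right (Nat.le_add_left m a)).trans hm) _ (this m hx)
    intro k
    induction k with
    | zero => exact le_sup_right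
    | succ k ih =>
      refine ih.trans (sup_le le_sup_left ?_)
      calc J ^ (a + k) = J ^ k * J ^ a := by rw [← pow_add, add_comm]
        _ ≤ J ^ k * ((Ideal.span (T : Set A)).map φ ⊔ J ^ (a + 1)) := Ideal.mul_mono_right hTle
        _ ≤ _ := by
          rw [Ideal.mul_sup, ← pow_add]
          exact sup_le_sup Ideal.mul_le_right (Ideal.pow_le_pow_right (by omega))
  have hFopen : ∀ n : ℕ, IsOpen (closure ((F ^ n : Ideal A) : Set A)) := fun n =>
    GrothLib.LinTop.isOpen_closure_pow_of_map hφ hJad hJa n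
  have hF : IsAdic F := by
    refine GrothLib.LinTop.isAdic_of_closure_pow (Submodule.fg_span T.finite_toSet) hFopen fun U hU => ?_
    obtain ⟨W, hW, hWU⟩ := GrothLib.LinTop.exists_open_ideal hU
    obtain ⟨n, -, hn⟩ := GrothLib.LinTop.exists_pow_le hJ (K := (W.map φ).closure) (hφ.1.2.1 W hW)
    refine ⟨n, fun x hx => hWU (GrothLib.LinTop.closure_le_of_isOpen
      (le_trans ?_ (GrothLib.LinTop.comap_closure_map_le hφ hW)) hW hx)⟩
    rw [← Ideal.map_le_iff_le_comap, Ideal.map_pow]
    exact (Ideal.pow_right_mono hFJ n).trans hn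
  refine ⟨⟨⟨F, hF⟩, inferInstance, inferInstance⟩, F, ⟨by simpa using (isAdic_iff.1 hF).1 1, fun U hU => ?_⟩,
    Submodule.fg_span T.finite_toSet⟩
  obtain ⟨n, hn⟩ := (isAdic_iff.1 hF).2 U hU
  exact ⟨n + 1, n.succ_pos, fun x hx => hn (Ideal.pow_le_pow_right n.le_succ hx)⟩

end Groth.Agent.S10170
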