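import Groth.Statements.S10173
import Groth.Agent.Lib.LinTop.ComplMod
import Mathlib.Topology.Algebra.Module.Basic
import Mathlib.RingTheory.Finiteness.Ideal
import Mathlib.LinearAlgebra.Finsupp.LinearCombination
import Mathlib.RingTheory.Finiteness.Basic
-- import your own Groth.Agent.* helpers here

set_option autoImplicit false
universe u v
open LinTop

namespace Groth.Agent.S10173

/-- Let R be a commutative ring, I a finitely generated ideal and M a topological R-module (additive
uniform structure, each scalar acting uniformly continuously) having an open submodule M' whose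
topology is the I-adic one, i.e. the I^n M' are open in M and form a fundamental system of
neighbourhoods of 0. Then the separated completion M^ has an open submodule whose topology is I-adic
in the same sense, and for every n ≥ 1 the map M → M^/I^n M^ is surjective with kernel I^n M,
identifying M^/I^n M^ with M/I^n M. -/
theorem result
    {R : Type u} [CommRing R] (I : Ideal R) (hI : I.FG)
    {M : Type v} [AddCommGroup M] [Module R M] [UniformSpace M] [IsUniformAddGroup M]
    [UniformContinuousConstSMul R M]
    (M' : Submodule R M) (hopen : ∀ n : ℕ, IsOpen ((I ^ n • M' : Submodule R M) : Set M))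
    (hbasis : ∀ U ∈ nhds (0 : M), ∃ n : ℕ, ((I ^ n • M' : Submodule R M) : Set M) ⊆ U) :
    (∃ M'' : Submodule R (UniformSpace.Completion M),
        (∀ n : ℕ, IsOpen ((I ^ n • M'' : Submodule R (UniformSpace.Completion M)) :
          Set (UniformSpace.Completion M))) ∧
        ∀ U ∈ nhds (0 : UniformSpace.Completion M), ∃ n : ℕ,
          ((I ^ n • M'' : Submodule R (UniformSpace.Completion M)) :
            Set (UniformSpace.Completion M)) ⊆ U) ∧
      ∀ n : ℕ, 0 < n →
        Function.Surjective ((QuotientAddGroup.mk' (I ^ n • ⊤ : Submodule R (UniformSpace.Completion M)).toAddSubgroup).comp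
          (UniformSpace.Completion.toCompl : M →+ UniformSpace.Completion M)) ∧
        ((QuotientAddGroup.mk' (I ^ n • ⊤ : Submodule R (UniformSpace.Completion M)).toAddSubgroup).comp
          (UniformSpace.Completion.toCompl : M →+ UniformSpace.Completion M)).ker = (I ^ n • ⊤ : Submodule R M).toAddSubgroup := by
  classical
  let T : M →ₗ[R] UniformSpace.Completion M :=
    { UniformSpace.Completion.toCompl with map_smul' := fun r x => UniformSpace.Completion.coe_smul r x }
  let C : ℕ → Submodule R (UniformSpace.Completion M) := fun n => ((I ^ n • M').map T).topologicalClosure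
  have hCcl : ∀ n x, x ∈ C n ↔ x ∈ GrothLib.LinTop.cl (I ^ n • M').toAddSubgroup := fun n x => Iff.rfl
  have hCn : ∀ n, (C n : Set (UniformSpace.Completion M)) ∈ nhds (0 : UniformSpace.Completion M) :=
    fun n => GrothLib.LinTop.cl_mem_nhds (U := (I ^ n • M').toAddSubgroup) (hopen n)
  have hb : ∀ U ∈ nhds (0 : M), ∃ K : AddSubgroup M, IsOpen (K : Set M) ∧ (K : Set M) ⊆ U := fun U hU => by
    obtain ⟨n, hn⟩ := hbasis U hU
    exact ⟨(I ^ n • M').toAddSubgroup, hopen n, hn⟩
  have hCanti : Antitone C := fun i j h => Submodule.topologicalClosure_mono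
    (Submodule.map_mono (Submodule.smul_mono_left (Ideal.pow_le_pow_right h)))
  have hCsmall : ∀ U ∈ nhds (0 : UniformSpace.Completion M), ∃ k, ∀ j, k ≤ j → (C j : Set _) ⊆ U := fun U hU => by
    obtain ⟨K, hK, hKU⟩ := GrothLib.LinTop.exists_cl_subset hb hU
    obtain ⟨n, hn⟩ := hbasis _ (hK.mem_nhds (zero_mem K))
    exact ⟨n, fun j hj x hx => hKU (closure_mono (Set.image_mono hn) (hCanti hj hx))⟩
  have hC0 : ∀ n, I ^ n • C 0 = C n := by
    intro n
    refine le_antisymm (Submodule.smul_le.2 fun a ha x hx => ?_) fun x hx => ?_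
    · refine map_mem_closure (continuous_const_smul a) hx ?_
      rintro _ ⟨m, hm, rfl⟩
      rw [pow_zero, Ideal.one_eq_top, Submodule.top_smul] at hm
      exact ⟨a • m, Submodule.smul_mem_smul ha hm, map_smul T a m⟩
    · obtain ⟨r, g, hg⟩ := Submodule.fg_iff_exists_fin_generating_family.1 (hI.pow (n := n))
      let f : (Fin r → UniformSpace.Completion M) →+ UniformSpace.Completion M :=
        AddMonoidHom.mk' (fun v => ∑ i, g i • v i) fun v w => by simp [Finset.sum_add_distrib]
      have hf : Continuous f := by
        show Continuous fun v : Fin r → UniformSpace.Completion M => ∑ i, g i • v i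
        exact continuous_finsetSum _ fun i _ => (continuous_apply i).const_smul (g i)
      obtain ⟨v, hv, hvx⟩ := GrothLib.LinTop.exists_preimage_of_dense_images f hf
        (fun k => AddSubgroup.pi Set.univ fun _ => (C k).toAddSubgroup)
        (fun k => by
          rw [AddSubgroup.coe_pi]
          exact isClosed_set_pi fun i _ => isClosed_closure)
        (fun i j h v hv l hl => hCanti h (hv l hl))
        (fun U hU => by
          rw [nhds_pi, Filter.mem_pi] at hU
          obtain ⟨s, hsf, t, ht, htU⟩ := hU
          have := hsf.fintype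
          choose k hk using fun i => hCsmall (t i) (ht i)
          exact ⟨Finset.univ.sup k, fun v hv => htU fun i _ => hk i _ (Finset.le_sup (Finset.mem_univ i)) (hv i (Set.mem_univ i))⟩)
        (fun k => C (n + k)) (fun U hU => by
          obtain ⟨k, hk⟩ := hCsmall U hU
          exact ⟨k, fun j hj => hk (n + j) (by omega)⟩)
        (fun k y hy => by
          obtain ⟨s, ⟨m, hm, rfl⟩, hs⟩ := GrothLib.LinTop.exists_add_of_mem_closure (hCn (n + (k + 1))) hy
          suffices ∃ w : Fin r → M, (∀ i, w i ∈ I ^ k • M') ∧ ∑ i, g i • w i = m by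
            obtain ⟨w, hw, rfl⟩ := this
            refine ⟨fun i => T (w i), fun i _ => subset_closure ⟨w i, hw i, rfl⟩, ?_⟩
            show y - ∑ i, g i • T (w i) ∈ C (n + (k + 1))
            simpa [map_sum] using hs
          replace hm : m ∈ I ^ n • I ^ k • M' := by
            rw [← Submodule.mul_smul, ← pow_add]; exact hm
          refine Submodule.smul_induction_on hm ?_ ?_
          · intro b hb q hq
            obtain ⟨c, rfl⟩ := (Submodule.mem_span_range_iff_exists_fun R).1 (hg ▸ hb)
            exact ⟨fun j => c j • q, fun j => Submodule.smul_mem _ _ hq, by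
              rw [Finset.sum_smul]
              exact Finset.sum_congr rfl fun j _ => by rw [smul_smul, smul_eq_mul, mul_comm]⟩
          · rintro p q ⟨w, hw, rfl⟩ ⟨w', hw', rfl⟩
            exact ⟨w + w', fun j => add_mem (hw j) (hw' j), by simp [Finset.sum_add_distrib, smul_add]⟩)
        0 hx
      rw [← hvx]
      show ∑ i, g i • v i ∈ I ^ n • C 0
      exact sum_mem fun i _ => Submodule.smul_mem_smul
        (by rw [← hg]; exact Submodule.subset_span ⟨i, rfl⟩) (hv i (Set.mem_univ i))
  refine ⟨⟨C 0, fun n => ?_, fun U hU => ?_⟩, fun n hn => ⟨?_, ?_⟩⟩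
  · rw [hC0]
    exact AddSubgroup.isOpen_of_mem_nhds (C n).toAddSubgroup (hCn n)
  · obtain ⟨k, hk⟩ := hCsmall U hU
    exact ⟨k, by rw [hC0]; exact hk k le_rfl⟩
  · intro q
    obtain ⟨x, rfl⟩ := QuotientAddGroup.mk_surjective q
    obtain ⟨y, hy⟩ := GrothLib.LinTop.exists_sub_mem_cl (U := (I ^ n • M').toAddSubgroup) (hopen n) x
    refine ⟨y, ?_⟩
    show QuotientAddGroup.mk' _ (UniformSpace.Completion.toCompl y) = QuotientAddGroup.mk x
    rw [QuotientAddGroup.mk'_apply, QuotientAddGroup.eq, Submodule.mem_toAddSubgroup, ← sub_eq_neg_add]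
    exact Submodule.smul_mono le_rfl le_top ((hC0 n).ge ((hCcl n _).2 hy))
  · ext y
    rw [AddMonoidHom.mem_ker, AddMonoidHom.comp_apply, QuotientAddGroup.mk'_apply,
      QuotientAddGroup.eq_zero_iff, Submodule.mem_toAddSubgroup, Submodule.mem_toAddSubgroup]
    show T y ∈ _ ↔ _
    refine ⟨fun h => ?_, fun h => ?_⟩
    · have h1 : T y ∈ (I ^ n • ⊤ : Submodule R M).map T ⊔ C n := by
        refine Submodule.smul_le.2 (fun a ha x _ => ?_) h
        obtain ⟨y', hy'⟩ := GrothLib.LinTop.exists_sub_mem_cl (U := (I ^ 0 • M').toAddSubgroup) (hopen 0) x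
        have h2 : a • (x - T y') ∈ C n := hC0 n ▸ Submodule.smul_mem_smul ha ((hCcl 0 _).2 hy')
        rw [show a • x = T (a • y') + a • (x - T y') by rw [map_smul, smul_sub, add_sub_cancel]]
        exact Submodule.add_mem_sup ⟨_, Submodule.smul_mem_smul ha trivial, rfl⟩ h2
      obtain ⟨_, ⟨z, hz, rfl⟩, c, hc, he⟩ := Submodule.mem_sup.1 h1
      have h3 : y - z ∈ closure ((I ^ n • M' : Submodule R M) : Set M) := by
        rw [(UniformSpace.Completion.isUniformInducing_coe M).isInducing.closure_eq_preimage_closure_image]
        have h5 : ((y - z : M) : UniformSpace.Completion M) = c := by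
          have e2 : T (y - z) = c := by rw [map_sub, ← he, add_sub_cancel_left]
          exact e2
        rw [Set.mem_preimage, h5]
        exact hc
      have hcl : IsClosed ((I ^ n • M' : Submodule R M) : Set M) :=
        AddSubgroup.isClosed_of_isOpen (I ^ n • M').toAddSubgroup (hopen n)
      rw [hcl.closure_eq] at h3
      have h4 := add_mem (Submodule.smul_mono le_rfl le_top h3 : y - z ∈ I ^ n • (⊤ : Submodule R M)) hz
      rwa [sub_add_cancel] at h4
    · have h1 := Submodule.mem_map_of_mem (f := T) h
      rw [Submodule.map_smul''] at h1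
      exact Submodule.smul_mono le_rfl le_top h1

end Groth.Agent.S10173
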