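import Groth.Agent.Lib.AlgSp.Immersion
import Groth.Statements.S10179
-- import your own Groth.Agent.* helpers here

set_option autoImplicit false
universe u
open CategoryTheory CategoryTheory.Limits AlgebraicGeometry Topology TopologicalSpace
open AlgSp AlgSp.Points

namespace Groth.Agent.S10179

/-- For an algebraic space X over a scheme S, every point x of |X| has a fundamental system of
quasi-compact open neighbourhoods: every open subset of |X| containing x contains a quasi-compact
open subset containing x. In particular |X| is locally quasi-compact. -/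
theorem result {S : Scheme.{u}} (X : AlgSp.Space S) (x : AlgSp.Points X.obj)
    (W : Set (AlgSp.Points X.obj)) (hW : IsOpen W) (hx : x ∈ W) :
    ∃ V : Set (AlgSp.Points X.obj), IsOpen V ∧ IsCompact V ∧ x ∈ V ∧ V ⊆ W := by
  obtain ⟨U, p, hU, pe, hp, hpW, -⟩ := GrothLib.AlgSp.exists_affine_chart_mem X.property hW hx (fun _ => True)
    (fun s => ⟨⊤, trivial, trivial⟩)
  exact ⟨Set.range (Points.ofPt p), (GrothLib.AlgSp.isOpenMap_ofPt_of_etale pe).isOpen_range,
    isCompact_range (Points.continuous_ofPt p), hp, hpW⟩

end Groth.Agent.S10179
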