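import Groth.Agent.Lib.AlgSp.PointsUniv
import Groth.Statements.S10180
-- import your own Groth.Agent.* helpers here

set_option autoImplicit false
universe u
open CategoryTheory CategoryTheory.Limits AlgebraicGeometry Topology TopologicalSpace
open AlgSp

namespace Groth.Agent.S10180

/-- An algebraic space X over a scheme S is quasi-compact if and only if there exist an affine scheme U
over S and a representable etale, representable surjective map h_U ⟶ X. -/
theorem result {S : Scheme.{u}} (X : AlgSp.Space S) :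
    AlgSp.IsQuasiCompactSp X.obj ↔
      ∃ (U : Over S) (p : (AlgSp.yon S).obj U ⟶ X.obj),
        IsAffine U.left ∧ AlgSp.RepWith @Etale p ∧ AlgSp.RepWith @Surjective p := by
  constructor
  · rintro ⟨U, p, pe, ps, hU⟩
    have : CompactSpace ↥U.left := hU
    let 𝒰 := U.left.affineCover.finiteSubcover
    have : Finite 𝒰.I₀ := inferInstance
    have hc : Etale (Sigma.desc 𝒰.f) := IsZariskiLocalAtSource.sigmaDesc (P := @Etale) fun i => inferInstance
    have hA : ∀ i, IsAffine (𝒰.X i) := fun i => inferInstanceAs (IsAffine (U.left.affineCover.X _))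
    let c : Over.mk (Sigma.desc 𝒰.f ≫ U.hom) ⟶ U := Over.homMk (Sigma.desc 𝒰.f) rfl
    refine ⟨_, (yon S).map c ≫ p, inferInstanceAs (IsAffine (∐ 𝒰.X)),
      GrothLib.AlgSp.repWith_comp ((repWith_yon_map_iff _ _).2 hc) pe,
      GrothLib.AlgSp.repWith_comp ((repWith_yon_map_iff _ _).2 ⟨fun x => ?_⟩) ps⟩
    obtain ⟨i, y, rfl⟩ := 𝒰.exists_eq x
    refine ⟨Sigma.ι 𝒰.X i y, ?_⟩
    change (Sigma.ι 𝒰.X i ≫ Sigma.desc 𝒰.f) y = _
    rw [Sigma.ι_desc]
  · rintro ⟨U, p, hU, pe, ps⟩
    exact ⟨U, p, pe, ps, show CompactSpace ↥U.left from inferInstance⟩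

end Groth.Agent.S10180
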