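import Groth.Agent.Lib.AlgSp.DiagAffine
import Groth.Agent.Lib.AlgSp.Diag
import Groth.Agent.Lib.AlgSp.Space
import Groth.Statements.S10181
-- import your own Groth.Agent.* helpers here

set_option autoImplicit false
universe u
open CategoryTheory CategoryTheory.Limits AlgebraicGeometry Topology TopologicalSpace
open AlgSp

namespace Groth.Agent.S10181

/-- Let X be an algebraic space over a scheme S and a : h_U ⟶ X a representable etale map from a scheme
U over S whose underlying scheme is separated. Then a is (representable and) separated, and the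
scheme R = U ×_X U representing the fibre product h_U ×_X h_U is separated. -/
theorem result {S : Scheme.{u}} (X : AlgSp.Space S) {U : Over S}
    (a : (AlgSp.yon S).obj U ⟶ X.obj) (ha : AlgSp.RepWith @Etale a) [U.left.IsSeparated] :
    AlgSp.RepWith @IsSeparated a ∧
      ∀ (R : Over S) (s t : R ⟶ U), IsPullback ((AlgSp.yon S).map t) ((AlgSp.yon S).map s) a a →
        R.left.IsSeparated := by
  have key : ∀ (T R : Over S) (b : (AlgSp.yon S).obj T ⟶ X.obj) (s : R ⟶ U) (t : R ⟶ T),
      IsPullback ((AlgSp.yon S).map s) ((AlgSp.yon S).map t) a b → IsSeparated t.left := by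
    intro T R b s t sq
    have := GrothLib.AlgSp.prop_prodLift_of_repWith_diag (GrothLib.AlgSp.repWith_diag_separated X.property) sq
    have : IsSeparated U.hom := inferInstance
    have h2 : IsSeparated ((prod.snd : U ⨯ T ⟶ T)).left := by
      rw [← Over.prodLeftIsoPullback_hom_snd]
      infer_instance
    have e : t.left = (prod.lift s t).left ≫ (prod.snd : U ⨯ T ⟶ T).left := by
      rw [← Over.comp_left, prod.lift_snd]
    rw [e]
    infer_instance
  refine ⟨⟨ha.1, fun T R b fst snd sq => ?_⟩, fun R s t sq => ?_⟩
  · obtain ⟨fst, rfl⟩ := (AlgSp.yon S).map_surjective fst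
    exact key T R b fst snd sq
  · have := key U R a t s sq
    exact ⟨by rw [← terminal.comp_from s.left]; infer_instance⟩

end Groth.Agent.S10181
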