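import Groth.Agent.Lib.AlgSp.Points
import Groth.Agent.Lib.AlgSp.SourceDescent
import Groth.Statements.S10183
-- import your own Groth.Agent.* helpers here

set_option autoImplicit false
universe u
open CategoryTheory CategoryTheory.Limits AlgebraicGeometry Topology TopologicalSpace
open AlgSp

namespace Groth.Agent.S10183

/-- Let X be an algebraic space over a scheme S, a : h_U ⟶ X a representable etale map from a scheme U
over S, and R a scheme over S with h_R = h_U ×_X h_U whose two projections s, t : R ⟶ U are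
quasi-compact (for instance if a is quasi-compact). Then the maps |U| → |X| and |R| → |X| have
finite fibres. -/
theorem result {S : Scheme.{u}} (X : AlgSp.Space S) {R U : Over S}
    (a : (AlgSp.yon S).obj U ⟶ X.obj) (ha : AlgSp.RepWith @Etale a) (s t : R ⟶ U)
    (hR : IsPullback ((AlgSp.yon S).map t) ((AlgSp.yon S).map s) a a)
    [QuasiCompact s.left] [QuasiCompact t.left] (x : AlgSp.Points X.obj) :
    (AlgSp.Points.ofPt a ⁻¹' {x}).Finite ∧
      (AlgSp.Points.ofPt ((AlgSp.yon S).map t ≫ a) ⁻¹' {x}).Finite := by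
  have : Etale s.left := ha.2 _ _ _ hR
  have : Etale t.left := ha.2 _ _ _ hR.flip
  have := GrothLib.AlgSp.locallyQuasiFinite_of_unramified s.left
  have := GrothLib.AlgSp.locallyQuasiFinite_of_unramified t.left
  have h1 : (Points.ofPt a ⁻¹' {x}).Finite := by
    rcases Set.eq_empty_or_nonempty (Points.ofPt a ⁻¹' {x}) with h | ⟨u, hu⟩
    · rw [h]; exact Set.finite_empty
    · refine ((s.left.finite_preimage_singleton u).image (fun r => t.left r)).subset fun v hv => ?_
      obtain ⟨r, hr₁, hr₂⟩ := (GrothLib.AlgSp.ofPt_eq_ofPt_iff hR v u).1 (Eq.trans hv (Eq.symm hu))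
      exact ⟨r, hr₂, hr₁⟩
  refine ⟨h1, ?_⟩
  have : (fun r => t.left r) ⁻¹' (Points.ofPt a ⁻¹' {x}) = Points.ofPt ((yon S).map t ≫ a) ⁻¹' {x} := by
    ext r
    simp only [Set.mem_preimage, GrothLib.AlgSp.ofPt_map_comp]
  rw [← this]
  exact h1.preimage' fun v _ => t.left.finite_preimage_singleton v

end Groth.Agent.S10183
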