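import Groth.Agent.Lib.AlgSp.DiagAffine
import Groth.Statements.S10184
-- import your own Groth.Agent.* helpers here

set_option autoImplicit false
universe u
open CategoryTheory CategoryTheory.Limits AlgebraicGeometry Topology TopologicalSpace
open AlgSp

namespace Groth.Agent.S10184

/-- Let X be an algebraic space over a scheme S such that for all affine schemes U, V over S mapping to
X, every scheme P over S representing h_U ×_X h_V is quasi-compact. Then X is quasi-separated over
S. (The published statement is about absolute quasi-separatedness, over the integers, which this
hypothesis also gives and which implies quasi-separatedness over S.) -/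
theorem result {S : Scheme.{u}} (X : AlgSp.Space S)
    (h : ∀ (U V P : Over S) (a : (AlgSp.yon S).obj U ⟶ X.obj) (b : (AlgSp.yon S).obj V ⟶ X.obj)
      (fst : P ⟶ U) (snd : P ⟶ V),
      IsAffine U.left → IsAffine V.left →
      IsPullback ((AlgSp.yon S).map fst) ((AlgSp.yon S).map snd) a b → CompactSpace ↥P.left) :
    AlgSp.IsQuasiSeparatedSp X.obj := by
  refine GrothLib.AlgSp.repWith_diag_of_affine X.property.diag fun T R a b t s hT sq => ?_
  have := h T T R a b t s hT hT sq
  have hT' : IsSeparated T.hom := inferInstance
  have hsep : (pullback T.hom T.hom).IsSeparated := by
    have : IsSeparated (pullback.fst T.hom T.hom ≫ Limits.terminal.from T.left) := inferInstance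
    rw [Limits.terminal.comp_from] at this
    exact ⟨this⟩
  have hc : QuasiCompact ((prod.lift t s).left ≫ (Over.prodLeftIsoPullback T T).hom) := by
    have : QuasiCompact (((prod.lift t s).left ≫ (Over.prodLeftIsoPullback T T).hom) ≫
        Limits.terminal.from (pullback T.hom T.hom)) := by
      rw [Limits.terminal.comp_from]; exact (compactSpace_iff_quasiCompact _).1 this
    exact QuasiCompact.of_comp _ (Limits.terminal.from (pullback T.hom T.hom))
  exact (MorphismProperty.cancel_right_of_respectsIso @QuasiCompact _ _).1 hc

end Groth.Agent.S10184
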