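import Groth.Agent.Lib.AlgSp.DiagAffine
import Groth.Agent.Lib.AlgSp.SepAffine
import Groth.Statements.S10186
-- import your own Groth.Agent.* helpers here

set_option autoImplicit false
universe u
open CategoryTheory CategoryTheory.Limits AlgebraicGeometry Topology TopologicalSpace
open AlgSp

namespace Groth.Agent.S10186

/-- Let X be an algebraic space over a scheme S such that for all affine schemes U, V over S mapping to
X and every scheme P over S representing h_U ×_X h_V, the scheme P is affine and the ring map from
the tensor product over the integers of the global sections of U and V to the global sections of P,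
induced by the two projections, is surjective. Then X is separated over S. (The published statement
concerns absolute separatedness, over the integers, which this hypothesis also gives and which
implies separatedness over S.) -/
theorem result {S : Scheme.{u}} (X : AlgSp.Space S)
    (h : ∀ (U V P : Over S) (a : (AlgSp.yon S).obj U ⟶ X.obj) (b : (AlgSp.yon S).obj V ⟶ X.obj)
      (fst : P ⟶ U) (snd : P ⟶ V),
      IsAffine U.left → IsAffine V.left →
      IsPullback ((AlgSp.yon S).map fst) ((AlgSp.yon S).map snd) a b →
        IsAffine P.left ∧ Function.Surjective
          (Algebra.TensorProduct.productMap fst.left.appTop.hom.toIntAlgHom snd.left.appTop.hom.toIntAlgHom)) :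
    AlgSp.IsSeparatedSp X.obj := by
  refine GrothLib.AlgSp.repWith_diag_of_affine X.property.diag fun T R a b t s hT sq => ?_
  obtain ⟨hR, hsurj⟩ := h T T R a b t s hT hT sq
  let k : pullback T.hom T.hom ⟶ pullback (terminal.from T.left) (terminal.from T.left) :=
    pullback.lift (pullback.fst _ _) (pullback.snd _ _) (terminal.hom_ext _ _)
  have : IsSeparated k := by
    have : IsSeparated (pullback.fst T.hom T.hom ≫ terminal.from T.left) := inferInstance
    have : IsSeparated (k ≫ terminal.from (pullback (terminal.from T.left) (terminal.from T.left))) := by
      rw [terminal.comp_from]; rwa [terminal.comp_from] at this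
    exact IsSeparated.of_comp k (terminal.from (pullback (terminal.from T.left) (terminal.from T.left)))
  have : IsClosedImmersion (((prod.lift t s).left ≫ (Over.prodLeftIsoPullback T T).hom) ≫ k) := by
    have h1 : (prod.lift t s).left ≫ (prod.fst : T ⨯ T ⟶ T).left = t.left := by
      rw [← Over.comp_left, prod.lift_fst]
    have h2 : (prod.lift t s).left ≫ (prod.snd : T ⨯ T ⟶ T).left = s.left := by
      rw [← Over.comp_left, prod.lift_snd]
    convert GrothLib.AlgSp.isClosedImmersion_lift_of_surjective t.left s.left hsurj using 1
    apply pullback.hom_ext
    · simp only [k, Category.assoc]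
      erw [pullback.lift_fst, Over.prodLeftIsoPullback_hom_fst, pullback.lift_fst]
      exact h1
    · simp only [k, Category.assoc]
      erw [pullback.lift_snd, Over.prodLeftIsoPullback_hom_snd, pullback.lift_snd]
      exact h2
  exact (MorphismProperty.cancel_right_of_respectsIso @IsClosedImmersion _ _).1 (IsClosedImmersion.of_comp ((prod.lift t s).left ≫ (Over.prodLeftIsoPullback T T).hom) k)

end Groth.Agent.S10186
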