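import Groth.Agent.Lib.AlgSp.DiagAffine
import Groth.Agent.Lib.AlgSp.SepAffine
import Groth.Statements.S10187
-- import your own Groth.Agent.* helpers here

set_option autoImplicit false
universe u
open CategoryTheory CategoryTheory.Limits AlgebraicGeometry Topology TopologicalSpace
open AlgSp

namespace Groth.Agent.S10187

/-- Let S be a separated scheme and X an algebraic space over S whose diagonal over S is a closed
immersion. Then for all affine schemes U, V over S mapping to X and every scheme P over S
representing h_U ×_X h_V, the scheme P is affine and the ring map from the tensor product over the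
integers of the global sections of U and V to the global sections of P, induced by the projections,
is surjective. (The published statement uses absolute separatedness of X; over a separated base this
agrees with separatedness over S, and without a hypothesis on S the relative notion does not
suffice: take X = h_S for an affine line with doubled origin S and U, V the two copies of the line.) -/
theorem result {S : Scheme.{u}} [S.IsSeparated]
    (X : AlgSp.Space S) (hX : AlgSp.IsSeparatedSp X.obj) (U V P : Over S) (a : (AlgSp.yon S).obj U ⟶ X.obj) (b : (AlgSp.yon S).obj V ⟶ X.obj)
      (fst : P ⟶ U) (snd : P ⟶ V)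
    (hU : IsAffine U.left) (hV : IsAffine V.left)
    (h : IsPullback ((AlgSp.yon S).map fst) ((AlgSp.yon S).map snd) a b) :
    IsAffine P.left ∧ Function.Surjective
          (Algebra.TensorProduct.productMap fst.left.appTop.hom.toIntAlgHom snd.left.appTop.hom.toIntAlgHom) := by
  have hc : IsClosedImmersion (prod.lift fst snd).left := GrothLib.AlgSp.prop_prodLift_of_repWith_diag hX h
  let k : pullback U.hom V.hom ⟶ pullback (terminal.from U.left) (terminal.from V.left) :=
    pullback.lift (pullback.fst _ _) (pullback.snd _ _) (terminal.hom_ext _ _)
  have : IsSeparated (terminal.from S) := Scheme.IsSeparated.isSeparated_terminal_from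
  have hk : IsClosedImmersion k := by
    have hm : IsClosedImmersion (pullback.mapDesc U.hom V.hom (terminal.from S) ≫
        (pullback.congrHom (terminal.comp_from U.hom) (terminal.comp_from V.hom)).hom) := inferInstance
    convert hm using 1
    apply pullback.hom_ext
    · simp only [k, pullback.mapDesc, pullback.congrHom_hom, pullback.map, Category.assoc]
      erw [pullback.lift_fst, pullback.lift_fst, pullback.lift_fst_assoc]
      simp
    · simp only [k, pullback.mapDesc, pullback.congrHom_hom, pullback.map, Category.assoc]
      erw [pullback.lift_snd, pullback.lift_snd, pullback.lift_snd_assoc]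
      simp
  have : IsClosedImmersion (((prod.lift fst snd).left ≫ (Over.prodLeftIsoPullback U V).hom) ≫ k) := inferInstance
  have : IsAffine P.left :=
    isAffine_of_isAffineHom (((prod.lift fst snd).left ≫ (Over.prodLeftIsoPullback U V).hom) ≫ k)
  refine ⟨inferInstance, @GrothLib.AlgSp.surjective_of_isClosedImmersion_lift _ _ _ _ _ _ fst.left snd.left ?_⟩
  have h1 : (prod.lift fst snd).left ≫ (prod.fst : U ⨯ V ⟶ U).left = fst.left := by
    rw [← Over.comp_left, prod.lift_fst]
  have h2 : (prod.lift fst snd).left ≫ (prod.snd : U ⨯ V ⟶ V).left = snd.left := by
    rw [← Over.comp_left, prod.lift_snd]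
  convert ‹IsClosedImmersion (((prod.lift fst snd).left ≫ (Over.prodLeftIsoPullback U V).hom) ≫ k)› using 1
  apply pullback.hom_ext
  · simp only [k, Category.assoc]
    erw [pullback.lift_fst, pullback.lift_fst, Over.prodLeftIsoPullback_hom_fst]
    exact h1.symm
  · simp only [k, Category.assoc]
    erw [pullback.lift_snd, pullback.lift_snd, Over.prodLeftIsoPullback_hom_snd]
    exact h2.symm

end Groth.Agent.S10187
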