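import Groth.Agent.Lib.AlgSp.Space
import Groth.Statements.S10188
-- import your own Groth.Agent.* helpers here

set_option autoImplicit false
universe u
open CategoryTheory CategoryTheory.Limits AlgebraicGeometry Topology TopologicalSpace
open AlgSp

namespace Groth.Agent.S10188

/-- Let P be a property of schemes that is local in the etale topology (for every scheme V and every
etale covering family of V, V has P if and only if all members have P), and let X be an algebraic
space over a scheme S. Then X has P etale locally (some surjective etale chart from a scheme with P)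
if and only if every scheme admitting a representable etale map to X has P. -/
theorem result {S : Scheme.{u}} (P : Scheme.{u} → Prop)
    (hP : ∀ (V : Scheme.{u}) (𝒰 : Scheme.Cover.{u} (Scheme.precoverage @Etale) V), P V ↔ ∀ i, P (𝒰.X i))
    (X : AlgSp.Space S) :
    AlgSp.EtaleLocally P X.obj ↔
      ∀ (U : Over S) (a : (AlgSp.yon S).obj U ⟶ X.obj), AlgSp.RepWith @Etale a → P U.left := by
  constructor
  · rintro ⟨U₀, p, pe, ps, h₀⟩ U a ha
    obtain ⟨W, w₁, w₂, sq⟩ := GrothLib.AlgSp.exists_isPullback_of_representable pe.1 a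
    obtain ⟨w₁, rfl⟩ := (yon S).map_surjective w₁
    have : Etale w₂.left := pe.2 _ _ _ sq
    have : Surjective w₂.left := ps.2 _ _ _ sq
    have : Etale w₁.left := ha.2 _ _ _ sq.flip
    let 𝒰 : Scheme.Cover.{u} (Scheme.precoverage @Etale) U₀.left :=
      Scheme.Cover.mkOfCovers PUnit.{u + 1} (fun _ => U₀.left) (fun _ => 𝟙 _) (fun x => ⟨⟨⟩, x, rfl⟩)
        (fun _ => inferInstanceAs (Etale (𝟙 _)))
    let 𝒲 : Scheme.Cover.{u} (Scheme.precoverage @Etale) U₀.left :=
      Scheme.Cover.mkOfCovers (ULift.{u} Bool) (fun i => if i.down then U₀.left else W.left)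
        (fun | ⟨true⟩ => 𝟙 U₀.left | ⟨false⟩ => w₁.left)
        (fun x => ⟨⟨true⟩, x, rfl⟩)
        (fun | ⟨true⟩ => inferInstanceAs (Etale (𝟙 U₀.left)) | ⟨false⟩ => inferInstanceAs (Etale w₁.left))
    have hW : P W.left := (hP _ 𝒲).1 h₀ ⟨false⟩
    refine (hP _ (Scheme.Cover.mkOfCovers PUnit.{u + 1} (fun _ => W.left) (fun _ => w₂.left)
      (fun x => ⟨⟨⟩, w₂.left.surjective x⟩) (fun _ => inferInstanceAs (Etale w₂.left)))).2 fun _ => hW
  · intro h
    obtain ⟨U, p, pe, ps⟩ := X.property.atlas
    exact ⟨U, p, pe, ps, h U p pe⟩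

end Groth.Agent.S10188
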