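import Groth.Statements.S1019
import Groth.Agent.Lib.ExtendCx20.Split

set_option autoImplicit false
set_option maxHeartbeats 1000000
set_option linter.style.haveILetI false
set_option backward.isDefEq.respectTransparency false
universe u
open CategoryTheory CategoryTheory.Limits AlgebraicGeometry
attribute [local instance] HasDerivedCategory.standard
open Perf

namespace Groth.Agent.S1019

/-- Let X be an affine scheme, U a quasi-compact open subscheme and E a perfect object of D(O_U). There
are an integer r and a finite locally free O_U-module F such that F[-r] ⊕ E extends to a perfect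
complex on X (restriction being computed on a representing complex, termwise), granted the binary
direct sum exists in D(O_U) (it does). -/
theorem result (X : Scheme.{u}) [IsAffine X] (U : X.Opens) (hU : IsCompact (U : Set X))
    (E : DCoh.D (U : Scheme.{u})) (hE : DCoh.IsPerfect E)
    [∀ (A B : DCoh.D (U : Scheme.{u})), HasBinaryBiproduct A B] :
    ∃ (r : ℤ) (F : (U : Scheme.{u}).Modules) (G : CochainComplex X.Modules ℤ), FlatMod.IsFinLocFree F ∧ DCoh.IsPerfect (DCoh.toD X G) ∧
      Nonempty (DerivedCategory.Q.obj ((DCoh.restrictCx U).obj G) ≅ (DCoh.inD (U : Scheme.{u}) F)⟦-r⟧ ⊞ E) := by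
  obtain ⟨r, M, G, h⟩ := GrothLib.ExtendCx20.exists_split U hU E hE
  exact ⟨r, M, G, h⟩

end Groth.Agent.S1019
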