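import Groth.Agent.Lib.AlgSp.Points
import Groth.Statements.S10190
-- import your own Groth.Agent.* helpers here

set_option autoImplicit false
universe u
open CategoryTheory CategoryTheory.Limits AlgebraicGeometry Topology TopologicalSpace
open AlgSp

namespace Groth.Agent.S10190

/-- For an algebraic space X over a scheme S, the set of codimension 0 points of X (points x of |X| such
that, for some representable etale h_U ⟶ X from a scheme U and some point u of U mapping to x, the
local ring of U at u has dimension 0) is dense in |X|. -/
theorem result {S : Scheme.{u}} (X : AlgSp.Space S) :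
    Dense {x : AlgSp.Points X.obj |
      AlgSp.HasAt (fun U u => ringKrullDim ↥(U.presheaf.stalk u) = 0) X.obj x} := by
  rw [dense_iff_inter_open]
  intro W hW hne
  obtain ⟨x, hx⟩ := hne
  obtain ⟨U, p, pe, ps⟩ := X.property.atlas
  obtain ⟨u, rfl⟩ := GrothLib.AlgSp.surjective_ofPt_of_repWith ps x
  have hC : IsIrreducible (irreducibleComponent u) := isIrreducible_irreducibleComponent
  let η := hC.genericPoint
  have hη : IsGenericPoint η (irreducibleComponent u) := hC.isGenericPoint_genericPoint isClosed_irreducibleComponent
  have hηW : η ∈ Points.ofPt p ⁻¹' W :=
    (hη.specializes mem_irreducibleComponent).mem_open (hW.preimage (Points.continuous_ofPt p)) hx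
  refine ⟨Points.ofPt p η, hηW, U, p, η, pe, rfl, ?_⟩
  change ringKrullDim _ = 0
  rw [ringKrullDim_stalk_eq_coheight]
  have hmax : IsMax η := by
    intro z hz
    have hz' : z ⤳ η := hz
    have h1 : irreducibleComponent u ⊆ closure {z} :=
      hη.def ▸ closure_minimal (Set.singleton_subset_iff.2 hz'.mem_closure) isClosed_closure
    have h2 : closure {z} = irreducibleComponent u :=
      eq_irreducibleComponent (isIrreducible_singleton.closure).isPreirreducible h1
    exact hη.specializes (h2 ▸ subset_closure rfl)
  simp [Order.coheight_eq_zero.2 hmax]

end Groth.Agent.S10190
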