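import Groth.Agent.Lib.AlgSp.Immersion
import Groth.Agent.Lib.AlgSp.Space
import Groth.Agent.Lib.AlgSp.FlatMono
import Groth.Statements.S10193
-- import your own Groth.Agent.* helpers here

set_option autoImplicit false
universe u
open CategoryTheory CategoryTheory.Limits AlgebraicGeometry Topology TopologicalSpace
open AlgSp

namespace Groth.Agent.S10193

/-- Let X, Y be algebraic spaces over a scheme S, i : Z ⟶ X a closed subspace (a morphism representable
by closed immersions) and assume Y is reduced. Then a morphism f : Y ⟶ X factors through Z if and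
only if |f|(|Y|) is contained in |Z|. -/
theorem result {S : Scheme.{u}} {X Y Z : AlgSp.Space S}
    (i : Z ⟶ X) (hi : AlgSp.RepWith @IsClosedImmersion i.hom) (hY : AlgSp.IsReducedSp Y.obj) (f : Y ⟶ X) :
    (∃ g : Y ⟶ Z, g ≫ i = f) ↔
      Set.range (AlgSp.Points.map f.hom) ⊆ Set.range (AlgSp.Points.map i.hom) := by
  refine ⟨?_, fun h => ?_⟩
  · rintro ⟨g, rfl⟩ _ ⟨y, rfl⟩
    exact ⟨AlgSp.Points.map g.hom y, by rw [← AlgSp.Points.map_comp]; rfl⟩
  obtain ⟨U, p, pe, ps, hU⟩ := hY
  have : IsReduced U.left := hU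
  obtain ⟨W, fst, snd, sq⟩ := GrothLib.AlgSp.exists_isPullback_of_representable hi.1 (p ≫ f.hom)
  have : IsClosedImmersion snd.left := hi.2 _ _ _ sq
  have : Surjective snd.left := ⟨fun u => by
    obtain ⟨z, hz⟩ := h ⟨AlgSp.Points.ofPt p u, rfl⟩
    obtain ⟨w, -, hw⟩ := GrothLib.AlgSp.exists_ofPt_of_map_eq sq (z := z) (t := u) (by
      rw [hz, AlgSp.Points.map_ofPt])
    exact ⟨w, hw⟩⟩
  have : IsIso snd.left := isIso_of_isClosedImmersion_of_surjective _
  have : IsIso snd := by
    have : IsIso ((Over.forget S).map snd) := ‹IsIso snd.left›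
    exact isIso_of_reflects_iso snd (Over.forget S)
  let Q := pullback f.hom i.hom
  let l : (AlgSp.yon S).obj U ⟶ Q := pullback.lift p (inv ((AlgSp.yon S).map snd) ≫ fst) (by
    rw [Category.assoc, sq.w, IsIso.inv_hom_id_assoc])
  have hl : l ≫ pullback.fst f.hom i.hom = p := pullback.lift_fst _ _ _
  have := GrothLib.AlgSp.chart_isLocallySurjective pe ps
  have : Epi p := (Sheaf.isLocallySurjective_iff_epi p).1 this
  have : Epi (pullback.fst f.hom i.hom) := by
    rw [← hl] at this
    exact epi_of_epi l _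
  have : Mono i.hom := GrothLib.AlgSp.mono_of_repWith_mono (GrothLib.AlgSp.repWith_mono hi fun _ _ g hg => by
    have : IsClosedImmersion g := hg
    exact (inferInstance : Mono g))
  have : IsIso (pullback.fst f.hom i.hom) := isIso_of_mono_of_epi _
  refine ⟨ObjectProperty.homMk (inv (pullback.fst f.hom i.hom) ≫ pullback.snd f.hom i.hom), InducedCategory.Hom.ext ?_⟩
  show (_ ≫ _) ≫ i.hom = f.hom
  rw [Category.assoc, ← pullback.condition, IsIso.inv_hom_id_assoc]

end Groth.Agent.S10193
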