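import Groth.Agent.Lib.AlgSp.SchematicDense
import Groth.Statements.S10197
-- import your own Groth.Agent.* helpers here

set_option autoImplicit false
universe u
open CategoryTheory CategoryTheory.Limits AlgebraicGeometry Topology TopologicalSpace
open AlgSp

namespace Groth.Agent.S10197

/-- An algebraic space X over a scheme S has a largest open subspace which is a scheme: there is an open
subspace X' ⟶ X whose underlying sheaf is representable by a scheme over S, through which every open
subspace of X with representable underlying sheaf factors. -/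
theorem result {S : Scheme.{u}} (X : AlgSp.Space S) :
    ∃ (X' : AlgSp.Space S) (j : X' ⟶ X), AlgSp.RepWith @IsOpenImmersion j.hom ∧ X'.obj.obj.IsRepresentable ∧
      ∀ (X'' : AlgSp.Space S) (j'' : X'' ⟶ X), AlgSp.RepWith @IsOpenImmersion j''.hom →
        X''.obj.obj.IsRepresentable → ∃ k : X'' ⟶ X', k ≫ j = j'' := by
  obtain ⟨N, hN, hr, hmax⟩ := GrothLib.AlgSp.exists_largest_open_subscheme X.property
  refine ⟨⟨GrothLib.AlgSp.openSub X.obj N, GrothLib.AlgSp.isAlgSpace_openSub X.property hN⟩,
    ObjectProperty.homMk (GrothLib.AlgSp.openSubι X.obj N), GrothLib.AlgSp.repWith_openSubι hN, hr,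
    fun X'' j'' hj hr'' => ?_⟩
  have ho := GrothLib.AlgSp.isOpen_range_openImmersion hj
  obtain ⟨e, -⟩ := GrothLib.AlgSp.exists_iso_of_range_eq hj (GrothLib.AlgSp.repWith_openSubι (F := X.obj) ho)
    GrothLib.AlgSp.range_openSubι.symm
  obtain ⟨Y, ⟨hY⟩⟩ := hr''.has_representation
  obtain ⟨k, hk⟩ := (GrothLib.AlgSp.exists_factor_iff (GrothLib.AlgSp.repWith_openSubι hN) j''.hom).2 (by
    rw [GrothLib.AlgSp.range_openSubι]
    exact fun y hy => hmax y ⟨_, ho, hy, (hY.ofIso ((sheafToPresheaf _ _).mapIso e)).isRepresentable⟩)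
  exact ⟨ObjectProperty.homMk k, InducedCategory.Hom.ext hk⟩

end Groth.Agent.S10197
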