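import Groth.Statements.S10198
import Groth.Agent.Lib.AlgSp.OpenSub
import Groth.Agent.Lib.AlgSp.FlatMono
import Groth.Agent.Lib.AlgSp.DiagAffine
-- import your own Groth.Agent.* helpers here

set_option autoImplicit false
universe u
open CategoryTheory CategoryTheory.Limits AlgebraicGeometry Topology TopologicalSpace
open AlgSp GrothLib.AlgSp
set_option backward.isDefEq.respectTransparency false

namespace Groth.Agent.S10198

theorem isPullback_comp_mono_gen {C : Type*} [Category C] {P X Y Z W : C} {fst : P ⟶ X} {snd : P ⟶ Y}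
    {f : X ⟶ Z} {g : Y ⟶ Z} (sq : IsPullback fst snd f g) (i : Z ⟶ W) [Mono i] :
    IsPullback fst snd (f ≫ i) (g ≫ i) :=
  ⟨⟨by rw [reassoc_of% sq.w]⟩, ⟨PullbackCone.IsLimit.mk _
    (fun c => sq.lift c.fst c.snd ((cancel_mono i).1 (by simpa using c.condition)))
    (fun c => sq.lift_fst _ _ _) (fun c => sq.lift_snd _ _ _)
    (fun c m h₁ h₂ => sq.hom_ext (by rw [h₁, sq.lift_fst]) (by rw [h₂, sq.lift_snd]))⟩⟩

theorem etale_surjective_lift {S : Scheme.{u}} {X : Sp S} {U : Over S} {φ : (AlgSp.yon S).obj U ⟶ X}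
    (hφ : RepWith @Etale φ) (a : (AlgSp.yon S).obj U ⟶ openSub X (Set.range (Points.ofPt φ)))
    (ha : a ≫ openSubι X _ = φ) : RepWith @Etale a ∧ RepWith @Surjective a := by
  have hm := mono_openSubι X (Set.range (Points.ofPt φ))
  have sqm : IsPullback (𝟙 _) a φ (openSubι X (Set.range (Points.ofPt φ))) :=
    isPullback_of_yon (by rw [Category.id_comp, ha]) fun T p q h => ⟨p, ⟨Category.comp_id p, by
      rw [← cancel_mono (openSubι X (Set.range (Points.ofPt φ))), Category.assoc, ha, h]⟩,
      fun c hc => (Category.comp_id c).symm.trans hc.1⟩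
  have hae : RepWith @Etale a := repWith_of_isPullback sqm hφ
  refine ⟨hae, (repWith_surjective_iff hae.1).2 fun y => ?_⟩
  obtain ⟨v, hv⟩ : Points.map (openSubι X _) y ∈ Set.range (Points.ofPt φ) := range_openSubι.le ⟨y, rfl⟩
  refine ⟨_, injective_map_of_mono (openSubι X (Set.range (Points.ofPt φ)))
    (a₁ := Points.map a (Points.schemeEquiv U v)) ?_⟩
  rw [← Points.map_comp, ha, ← hv, Points.ofPt_eq_map_ofScheme]
  rfl

/-- Two schemes over an affine open of the base have a quasi-compact projection. -/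
theorem quasiCompact_pullback_snd {S O T : Scheme.{u}} {V : S.Opens} (hV : IsAffineOpen V) (f : O ⟶ S) (g : T ⟶ S)
    [IsAffine O] (hf : ∀ x, f x ∈ V) (hg : ∀ x, g x ∈ V) : QuasiCompact (pullback.snd f g) := by
  haveI : IsAffine (V : Scheme.{u}) := hV
  have hr : ∀ {Z : Scheme.{u}} (h : Z ⟶ S), (∀ x, h x ∈ V) → Set.range h ⊆ Set.range V.ι := fun h hh => by
    rw [Scheme.Opens.range_ι]; rintro _ ⟨x, rfl⟩; exact hh x
  let fV := IsOpenImmersion.lift V.ι f (hr f hf)
  let gV := IsOpenImmersion.lift V.ι g (hr g hg)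
  have sq := isPullback_comp_mono_gen (IsPullback.of_hasPullback fV gV) V.ι
  simp only [fV, gV, IsOpenImmersion.lift_fac] at sq
  rw [← sq.isoPullback_inv_snd]
  infer_instance

/-- (1) if and only if (3): for an algebraic space X over a scheme S, X is Zariski locally
quasi-separated over S (it has a Zariski covering by open subspaces whose diagonals over S are
quasi-compact) if and only if X has a Zariski covering by open subspaces each of which admits a
quasi-compact, etale, surjective map from an affine scheme. Since the second condition does not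
mention S, being Zariski locally quasi-separated does not depend on the base. -/
theorem result {S : Scheme.{u}} (X : AlgSp.Space S) :
    (∃ (ι : Type u) (Xi : ι → AlgSp.Space S) (j : ∀ i, Xi i ⟶ X),
        AlgSp.IsZarCover (fun i => (Xi i).obj) (fun i => (j i).hom) ∧ ∀ i, AlgSp.IsQuasiSeparatedSp (Xi i).obj) ↔
      (∃ (ι : Type u) (Xi : ι → AlgSp.Space S) (j : ∀ i, Xi i ⟶ X),
        AlgSp.IsZarCover (fun i => (Xi i).obj) (fun i => (j i).hom) ∧
          ∀ i, ∃ (U : Over S) (p : (AlgSp.yon S).obj U ⟶ (Xi i).obj), IsAffine U.left ∧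
            AlgSp.RepWith @QuasiCompact p ∧ AlgSp.RepWith @Etale p ∧ AlgSp.RepWith @Surjective p) := by
  constructor
  · rintro ⟨ι, Xi, j, ⟨hj, hcov⟩, hqs⟩
    have hat := fun i => (Xi i).property.atlas
    choose U a ha has using hat
    have hd : ∀ w : Σ i, ↥(U i).left, ∃ (V : S.Opens) (W : (U w.1).left.Opens),
        IsAffineOpen V ∧ IsAffineOpen W ∧ w.2 ∈ W ∧ W ≤ (U w.1).hom ⁻¹ᵁ V := by
      rintro ⟨i, x⟩
      obtain ⟨V, hV, hxV, -⟩ := exists_isAffineOpen_mem_and_subset (x := (U i).hom x) (U := ⊤) trivial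
      obtain ⟨W, hW, hxW, hWV⟩ := exists_isAffineOpen_mem_and_subset (x := x) (U := (U i).hom ⁻¹ᵁ V) hxV
      exact ⟨V, W, hV, hW, hxW, hWV⟩
    choose V W hV hW hxW hWV using hd
    let O : (Σ i, ↥(U i).left) → Over S := fun w => Over.mk ((W w).ι ≫ (U w.1).hom)
    let p₀ : ∀ w, (AlgSp.yon S).obj (O w) ⟶ (Xi w.1).obj :=
      fun w => (AlgSp.yon S).map (Over.homMk (W w).ι rfl) ≫ a w.1
    have hp₀ : ∀ w, RepWith @Etale (p₀ w) := fun w => repWith_comp
      ((repWith_yon_map_iff _ _).2 (inferInstanceAs (Etale (W w).ι))) (ha w.1)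
    have hopen : ∀ w, IsOpen (Set.range (Points.ofPt (p₀ w))) :=
      fun w => (isOpenMap_ofPt_of_etale (hp₀ w)).isOpen_range
    let Y : (Σ i, ↥(U i).left) → AlgSp.Space S := fun w =>
      ⟨openSub (Xi w.1).obj (Set.range (Points.ofPt (p₀ w))), isAlgSpace_openSub (Xi w.1).property (hopen w)⟩
    let k : ∀ w, Y w ⟶ X := fun w =>
      ObjectProperty.homMk (openSubι (Xi w.1).obj (Set.range (Points.ofPt (p₀ w))) ≫ (j w.1).hom)
    refine ⟨_, Y, k, ⟨fun w => repWith_comp (repWith_openSubι (hopen w)) (hj w.1), fun x => ?_⟩, fun w => ?_⟩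
    · obtain ⟨i, y, rfl⟩ := hcov x
      obtain ⟨z, rfl⟩ := surjective_map_of_repWith (has i) y
      obtain ⟨v, rfl⟩ := (Points.schemeEquiv (U i)).surjective z
      refine ⟨⟨i, v⟩, ?_⟩
      obtain ⟨y', hy'⟩ : Points.map (a i) (Points.schemeEquiv (U i) v) ∈
          Set.range (Points.map (openSubι (Xi i).obj (Set.range (Points.ofPt (p₀ ⟨i, v⟩))))) := by
        rw [range_openSubι]
        refine ⟨(⟨v, hxW ⟨i, v⟩⟩ : ↥(W ⟨i, v⟩)), ?_⟩
        erw [ofPt_map_comp, Points.ofPt_eq_map_ofScheme]
        rfl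
      refine ⟨y', ?_⟩
      change Points.map (openSubι (Xi i).obj _ ≫ (j i).hom) y' = _
      rw [Points.map_comp, hy']
    · haveI : IsAffine (O w).left := hW w
      obtain ⟨p, hp⟩ := openSub_lift (W := Set.range (Points.ofPt (p₀ w))) (p₀ w) fun t => ⟨t, rfl⟩
      obtain ⟨hpe, hps⟩ := etale_surjective_lift (hp₀ w) p hp
      refine ⟨O w, p, hW w, ⟨hpe.1, fun T R g fst c sq => ?_⟩, hpe, hps⟩
      obtain ⟨d, rfl⟩ := (AlgSp.yon S).map_surjective fst
      have := mono_openSubι (Xi w.1).obj (Set.range (Points.ofPt (p₀ w)))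
      have sq' := isPullback_comp_mono_gen sq (openSubι (Xi w.1).obj (Set.range (Points.ofPt (p₀ w))))
      haveI : QuasiCompact (prod.lift d c).left := (hqs w.1).2 _ _ _ (isPullback_prodLift sq')
      have hs : Function.Surjective c.left := (hps.2 g _ c sq).surj
      have hrT : ∀ t, T.hom t ∈ V w := fun t => by
        obtain ⟨r, rfl⟩ := hs t
        rw [← Scheme.Hom.comp_apply, Over.w c, ← Over.w d]
        exact hWV w (d.left r).2
      haveI : QuasiCompact (prod.snd : O w ⨯ T ⟶ T).left := by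
        rw [← Over.prodLeftIsoPullback_hom_snd]
        have := quasiCompact_pullback_snd (hV w) (O w).hom T.hom (fun x => hWV w x.2) hrT
        infer_instance
      have : c.left = (prod.lift d c).left ≫ (prod.snd : O w ⨯ T ⟶ T).left := by
        rw [← Over.comp_left, prod.lift_snd]
      change QuasiCompact c.left
      rw [this]
      infer_instance
  · rintro ⟨ι, Xi, j, hcov, hp⟩
    refine ⟨ι, Xi, j, hcov, fun i => ?_⟩
    obtain ⟨U, p, hU, hqc, hpe, hps⟩ := hp i
    obtain ⟨R, t, s, sq⟩ := exists_isPullback_yon (Xi i).property.diag p p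
    have : QuasiCompact s.left := hqc.2 _ _ _ sq
    have : CompactSpace ↥R.left := QuasiCompact.compactSpace_of_compactSpace s.left
    have : QuasiSeparatedSpace ↥(U ⨯ U).left := by
      rw [quasiSeparatedSpace_congr (Over.prodLeftIsoPullback U U).hom.homeomorph]
      exact quasiSeparatedSpace_of_quasiSeparated (pullback.mapDesc U.hom U.hom (terminal.from S))
    exact repWith_diag_of_chart fppfDescends_quasiCompact (Xi i).property.diag hpe hps sq
      (quasiCompact_of_compactSpace _)

end Groth.Agent.S10198
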