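import Groth.Agent.Lib.AlgSp.DecentTop
import Groth.Agent.Lib.AlgSp.FlatMono
import Groth.Statements.S10199
-- import your own Groth.Agent.* helpers here

set_option autoImplicit false
universe u
open CategoryTheory CategoryTheory.Limits AlgebraicGeometry Topology TopologicalSpace
open AlgSp

namespace Groth.Agent.S10199

/-- Let X be an algebraic space over a scheme S that is Zariski locally quasi-separated over S (X has a
Zariski covering by open subspaces whose diagonals over S are quasi-compact; for instance X
quasi-separated over S). Then |X| is a sober topological space. (Being Zariski locally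
quasi-separated over S is the same as the absolute notion, so no hypothesis on S is needed.) -/
theorem result {S : Scheme.{u}} (X : AlgSp.Space S)
    (hX : ∃ (ι : Type u) (Xi : ι → AlgSp.Space S) (j : ∀ i, Xi i ⟶ X),
        AlgSp.IsZarCover (fun i => (Xi i).obj) (fun i => (j i).hom) ∧ ∀ i, AlgSp.IsQuasiSeparatedSp (Xi i).obj) :
    QuasiSober (AlgSp.Points X.obj) ∧ T0Space (AlgSp.Points X.obj) := by
  obtain ⟨ι, Xi, j, hc, hq⟩ := hX
  have hd : AlgSp.IsDecent X.obj := GrothLib.AlgSp.isDecent_of_openCover X.property _ _ hc fun i =>
    GrothLib.AlgSp.isDecent_of_isQuasiSeparatedSp (Xi i).property (hq i)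
  exact ⟨GrothLib.AlgSp.quasiSober_of_isDecent X.property hd, GrothLib.AlgSp.t0Space_of_isDecent X.property hd⟩

end Groth.Agent.S10199
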