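import Groth.Statements.S1020
import Groth.Agent.Lib.OX.GeneratorBound

set_option autoImplicit false
universe u
open CategoryTheory CategoryTheory.Limits AlgebraicGeometry
attribute [local instance] HasDerivedCategory.standard
open Perf

namespace Groth.Agent.S1020

/-- Let the scheme X be quasi-compact and quasi-separated, G a perfect object of D(O_X) which generates
D_QCoh(O_X) (an object with quasi-coherent cohomology admitting only zero maps from all shifts of G
is zero), and E ∈ D_QCoh(O_X). Then E is bounded below if and only if there is an N such that every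
morphism G[-i] ⟶ E with i ≤ N is zero. -/
theorem result (X : Scheme.{u}) [CompactSpace ↥X] [QuasiSeparatedSpace ↥X]
    (G : DCoh.D X) (hG : DCoh.IsPerfect G)
    (hgen : ∀ E : DCoh.D X, DCoh.IsQCohD E → (∀ (n : ℤ) (φ : G⟦n⟧ ⟶ E), φ = 0) → IsZero E)
    (E : DCoh.D X) (hE : DCoh.IsQCohD E) :
    (∃ a : ℤ, E.IsGE a) ↔ ∃ N : ℤ, ∀ i : ℤ, i ≤ N → ∀ φ : G⟦-i⟧ ⟶ E, φ = 0 := by
  refine ⟨fun ⟨a, ha⟩ => ?_, fun ⟨N, hN⟩ => ?_⟩
  · exact Filter.eventually_atBot.1 ((GrothLib.OX.evHom_iff_evHD (Or.inl rfl) hG hgen hE).2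
      (Filter.eventually_atBot.2 ⟨a - 1, fun i hi => DerivedCategory.isZero_of_isGE E a i (by omega)⟩))
  · obtain ⟨a, ha⟩ := Filter.eventually_atBot.1
      ((GrothLib.OX.evHom_iff_evHD (Or.inl rfl) hG hgen hE).1 (Filter.eventually_atBot.2 ⟨N, hN⟩))
    exact ⟨a + 1, (DerivedCategory.isGE_iff E _).2 fun i hi => ha i (by omega)⟩

end Groth.Agent.S1020
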