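import Groth.Agent.Lib.AlgSp.SchematicCodim
import Groth.Statements.S10200
-- import your own Groth.Agent.* helpers here

set_option autoImplicit false
universe u
open CategoryTheory CategoryTheory.Limits AlgebraicGeometry Topology TopologicalSpace
open AlgSp

namespace Groth.Agent.S10200

/-- Let X be an algebraic space over a scheme S that is Zariski locally quasi-separated over S (for
example quasi-separated over S). Then there is a dense open subspace of X which is a scheme; more
precisely there is an open subspace X' ⟶ X with representable underlying sheaf such that |X'| is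
dense in |X| and contains every codimension 0 point of X (every point under which some etale chart
has a zero-dimensional local ring). -/
theorem result {S : Scheme.{u}} (X : AlgSp.Space S)
    (hX : ∃ (ι : Type u) (Xi : ι → AlgSp.Space S) (j : ∀ i, Xi i ⟶ X),
        AlgSp.IsZarCover (fun i => (Xi i).obj) (fun i => (j i).hom) ∧ ∀ i, AlgSp.IsQuasiSeparatedSp (Xi i).obj) :
    ∃ (X' : AlgSp.Space S) (j : X' ⟶ X), AlgSp.RepWith @IsOpenImmersion j.hom ∧ X'.obj.obj.IsRepresentable ∧
      Dense (Set.range (AlgSp.Points.map j.hom)) ∧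
      ∀ x : AlgSp.Points X.obj, AlgSp.HasAt (fun U u => ringKrullDim ↥(U.presheaf.stalk u) = 0) X.obj x →
        x ∈ Set.range (AlgSp.Points.map j.hom) := by
  obtain ⟨ι, Xi, j, hc, hq⟩ := hX
  obtain ⟨N, hN, hd, hr, hcodim⟩ := GrothLib.AlgSp.exists_open_subscheme_codim_zero X.property
    (fun i => (Xi i).obj) (fun i => (j i).hom) hc (fun i => (Xi i).property) hq
  refine ⟨⟨GrothLib.AlgSp.openSub X.obj N, GrothLib.AlgSp.isAlgSpace_openSub X.property hN⟩,
    ObjectProperty.homMk (GrothLib.AlgSp.openSubι X.obj N), GrothLib.AlgSp.repWith_openSubι hN, hr, ?_⟩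
  show Dense (Set.range (AlgSp.Points.map (GrothLib.AlgSp.openSubι X.obj N))) ∧ ∀ x, _ → x ∈ Set.range (AlgSp.Points.map (GrothLib.AlgSp.openSubι X.obj N))
  rw [GrothLib.AlgSp.range_openSubι]
  exact ⟨hd, hcodim⟩

end Groth.Agent.S10200
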