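import Groth.Agent.Lib.AlgSp.DecentTop
import Groth.Agent.Lib.AlgSp.DiagAffine
import Groth.Agent.Lib.AlgSp.PointsUniv
import Groth.Agent.Lib.AlgSp.FlatMono
import Groth.Statements.S10201
-- import your own Groth.Agent.* helpers here

set_option autoImplicit false
universe u
open CategoryTheory CategoryTheory.Limits AlgebraicGeometry Topology TopologicalSpace
open AlgSp

namespace Groth.Agent.S10201

/-- Let S be a quasi-separated scheme and X a quasi-compact algebraic space over S whose diagonal over S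
is quasi-compact. Then |X| is a spectral space. (The published statement assumes X quasi-separated
in the absolute sense; over a quasi-separated base that is the same as quasi-separated over S, while
for S quasi-compact and not quasi-separated the space h_S is quasi-compact with quasi-compact
diagonal over S and |h_S| = |S| is not spectral.) -/
theorem result {S : Scheme.{u}} [QuasiSeparatedSpace ↥S]
    (X : AlgSp.Space S) (hqc : AlgSp.IsQuasiCompactSp X.obj) (hqs : AlgSp.IsQuasiSeparatedSp X.obj) :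
    SpectralSpace (AlgSp.Points X.obj) := by
  have hd := GrothLib.AlgSp.isDecent_of_isQuasiSeparatedSp X.property hqs
  haveI := GrothLib.AlgSp.t0Space_of_isDecent X.property hd
  haveI := GrothLib.AlgSp.quasiSober_of_isDecent X.property hd
  haveI := GrothLib.AlgSp.compactSpace_points_of_isQuasiCompactSp hqc
  obtain ⟨U, a, ha, hs⟩ := X.property.atlas
  have ho := GrothLib.AlgSp.isOpenMap_ofPt_of_etale ha
  have hc := AlgSp.Points.continuous_ofPt a
  have hsurj := GrothLib.AlgSp.surjective_ofPt_of_repWith hs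
  haveI : PrespectralSpace (AlgSp.Points X.obj) := by
    refine PrespectralSpace.of_isTopologicalBasis' (ι := U.left.affineOpens)
      (b := fun A => AlgSp.Points.ofPt a '' (A.1 : Set ↥U.left)) ?_ fun A => A.2.isCompact.image hc
    refine isTopologicalBasis_of_isOpen_of_nhds (by rintro _ ⟨A, rfl⟩; exact ho _ A.1.2) fun x W hx hW => ?_
    obtain ⟨u, rfl⟩ := hsurj x
    obtain ⟨A, hA, huA, hAW⟩ := exists_isAffineOpen_mem_and_subset
      (U := (⟨AlgSp.Points.ofPt a ⁻¹' W, hW.preimage hc⟩ : U.left.Opens)) (x := u) hx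
    exact ⟨_, ⟨⟨A, hA⟩, rfl⟩, ⟨u, huA, rfl⟩, Set.image_subset_iff.2 hAW⟩
  have key : ∀ K : Set (AlgSp.Points X.obj), IsOpen K → IsCompact K →
      ∃ W : U.left.Opens, IsCompact (W : Set ↥U.left) ∧ AlgSp.Points.ofPt a '' (W : Set ↥U.left) = K := by
    intro K hKo hKc
    let P : U.left.Opens := ⟨AlgSp.Points.ofPt a ⁻¹' K, hKo.preimage hc⟩
    let ι' := {A : U.left.affineOpens // A.1 ≤ P}
    obtain ⟨t, ht⟩ := hKc.elim_finite_subcover (fun A : ι' => AlgSp.Points.ofPt a '' (A.1.1 : Set ↥U.left))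
      (fun A => ho _ A.1.1.2) fun x hx => by
        obtain ⟨u, rfl⟩ := hsurj x
        obtain ⟨A, hA, huA, hAP⟩ := exists_isAffineOpen_mem_and_subset (U := P) (x := u) hx
        exact Set.mem_iUnion.2 ⟨⟨⟨A, hA⟩, hAP⟩, u, huA, rfl⟩
    refine ⟨⟨⋃ A ∈ t, (A.1.1 : Set ↥U.left), isOpen_biUnion fun A _ => A.1.1.2⟩,
      t.finite_toSet.isCompact_biUnion fun A _ => A.1.2.isCompact, subset_antisymm ?_ ?_⟩
    · rintro _ ⟨u, hu, rfl⟩
      obtain ⟨A, -, hA⟩ := Set.mem_iUnion₂.1 hu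
      exact A.2 hA
    · intro x hx
      obtain ⟨A, hA, u, hu, rfl⟩ := Set.mem_iUnion₂.1 (ht hx)
      exact ⟨u, Set.mem_iUnion₂.2 ⟨A, hA, hu⟩, rfl⟩
  haveI : QuasiSeparatedSpace (AlgSp.Points X.obj) := by
    refine ⟨fun K₁ K₂ ho₁ hc₁ ho₂ hc₂ => ?_⟩
    obtain ⟨W₁, hW₁, rfl⟩ := key K₁ ho₁ hc₁
    obtain ⟨W₂, hW₂, rfl⟩ := key K₂ ho₂ hc₂
    let i₁ : Over.mk (W₁.ι ≫ U.hom) ⟶ U := Over.homMk W₁.ι rfl
    let i₂ : Over.mk (W₂.ι ≫ U.hom) ⟶ U := Over.homMk W₂.ι rfl
    obtain ⟨T, p, d, sq⟩ := GrothLib.AlgSp.exists_isPullback_yon X.property.diag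
      ((AlgSp.yon S).map i₁ ≫ a) ((AlgSp.yon S).map i₂ ≫ a)
    haveI : CompactSpace ↥W₁.toScheme := isCompact_iff_compactSpace.mp hW₁
    haveI : CompactSpace ↥W₂.toScheme := isCompact_iff_compactSpace.mp hW₂
    haveI : CompactSpace ↥(Over.mk (W₁.ι ≫ U.hom)).left := ‹CompactSpace ↥W₁.toScheme›
    haveI : CompactSpace ↥(Over.mk (W₂.ι ≫ U.hom)).left := ‹CompactSpace ↥W₂.toScheme›
    haveI : QuasiCompact (Over.mk (W₁.ι ≫ U.hom)).hom := quasiCompact_of_compactSpace _
    haveI : CompactSpace ↥(pullback (Over.mk (W₁.ι ≫ U.hom)).hom (Over.mk (W₂.ι ≫ U.hom)).hom) :=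
      QuasiCompact.compactSpace_of_compactSpace (pullback.snd _ _)
    haveI := (Scheme.homeoOfIso (Over.prodLeftIsoPullback (Over.mk (W₁.ι ≫ U.hom)) (Over.mk (W₂.ι ≫ U.hom)))).symm.compactSpace
    haveI : QuasiCompact (prod.lift p d).left := GrothLib.AlgSp.prop_prodLift_of_repWith_diag hqs sq
    haveI : CompactSpace ↥T.left := QuasiCompact.compactSpace_of_compactSpace (prod.lift p d).left
    have e : AlgSp.Points.ofPt a '' (W₁ : Set ↥U.left) ∩ AlgSp.Points.ofPt a '' (W₂ : Set ↥U.left) =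
        Set.range (AlgSp.Points.ofPt ((AlgSp.yon S).map (p ≫ i₁) ≫ a)) := by
      ext x
      constructor
      · rintro ⟨⟨u₁, h₁, rfl⟩, u₂, h₂, he⟩
        obtain ⟨t, ht, -⟩ := (GrothLib.AlgSp.ofPt_eq_ofPt_iff sq ⟨u₁, h₁⟩ ⟨u₂, h₂⟩).1 (by
          rw [GrothLib.AlgSp.ofPt_map_comp, GrothLib.AlgSp.ofPt_map_comp]; exact he.symm)
        exact ⟨t, by rw [GrothLib.AlgSp.ofPt_map_comp, Over.comp_left, Scheme.Hom.comp_apply, ht]; rfl⟩
      · rintro ⟨t, rfl⟩
        refine ⟨⟨_, (p.left t).2, ?_⟩, ⟨_, (d.left t).2, ?_⟩⟩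
        · rw [GrothLib.AlgSp.ofPt_map_comp]; rfl
        · rw [Functor.map_comp, Category.assoc, sq.w, GrothLib.AlgSp.ofPt_map_comp, GrothLib.AlgSp.ofPt_map_comp]; rfl
    rw [e]
    exact isCompact_range (AlgSp.Points.continuous_ofPt _)
  exact {}

end Groth.Agent.S10201
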