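import Groth.Agent.Lib.AlgSp.Points
import Groth.Statements.S10202
-- import your own Groth.Agent.* helpers here

set_option autoImplicit false
universe u
open CategoryTheory CategoryTheory.Limits AlgebraicGeometry Topology TopologicalSpace
open AlgSp

namespace Groth.Agent.S10202

/-- If X is a locally Noetherian algebraic space over a scheme S, then the space |X| is locally
Noetherian: every point of |X| has an open neighbourhood which is a Noetherian topological space in
the induced topology. -/
theorem result {S : Scheme.{u}} (X : AlgSp.Space S)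
    (hX : AlgSp.IsLocNoethSp X.obj) (x : AlgSp.Points X.obj) :
    ∃ W : Set (AlgSp.Points X.obj), IsOpen W ∧ x ∈ W ∧ NoetherianSpace ↥W := by
  obtain ⟨U, p, pe, ps, hU⟩ := hX
  have : IsLocallyNoetherian U.left := hU
  obtain ⟨u, rfl⟩ := GrothLib.AlgSp.surjective_ofPt_of_repWith ps x
  obtain ⟨_, ⟨A, hA, rfl⟩, hu, -⟩ :=
    U.left.isBasis_affineOpens.exists_subset_of_mem_open (Set.mem_univ u) isOpen_univ
  have : NoetherianSpace (A : Scheme.{u}) :=
    haveI : IsAffine (A : Scheme.{u}) := hA
    haveI : IsNoetherian (A : Scheme.{u}) := {}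
    inferInstance
  refine ⟨Points.ofPt p '' A, GrothLib.AlgSp.isOpenMap_ofPt_of_etale pe _ A.2, ⟨u, hu, rfl⟩, ?_⟩
  have hc : Continuous (fun a : (A : Scheme.{u}) => Points.ofPt p ((Scheme.Opens.ι A) a)) :=
    (Points.continuous_ofPt p).comp (Scheme.Opens.ι A).continuous
  refine noetherianSpace_of_surjective (fun a : (A : Scheme.{u}) =>
    (⟨Points.ofPt p ((Scheme.Opens.ι A) a), _, a.2, rfl⟩ : ↥(Points.ofPt p '' (A : Set U.left)))) (hc.subtype_mk _) ?_
  rintro ⟨_, a, ha, rfl⟩
  exact ⟨⟨a, ha⟩, rfl⟩

end Groth.Agent.S10202
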