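import Groth.Agent.Lib.AlgSp.PointsUniv
import Groth.Statements.S10203
-- import your own Groth.Agent.* helpers here

set_option autoImplicit false
universe u
open CategoryTheory CategoryTheory.Limits AlgebraicGeometry Topology TopologicalSpace
open AlgSp

namespace Groth.Agent.S10203

/-- If X is a quasi-compact, locally Noetherian algebraic space over a scheme S, then |X| is a
Noetherian topological space. -/
theorem result {S : Scheme.{u}} (X : AlgSp.Space S)
    (hqc : AlgSp.IsQuasiCompactSp X.obj) (hX : AlgSp.IsLocNoethSp X.obj) :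
    NoetherianSpace (AlgSp.Points X.obj) := by
  obtain ⟨U, p, pe, ps, hU⟩ := hX
  have : IsLocallyNoetherian U.left := hU
  have := GrothLib.AlgSp.compactSpace_points_of_isQuasiCompactSp hqc
  let 𝒰 := U.left.affineCover
  obtain ⟨s, hs⟩ := isCompact_univ.elim_finite_subcover
    (fun i => Set.range (fun a => Points.ofPt p (𝒰.f i a)))
    (fun i => by
      rw [Set.range_comp' (Points.ofPt p)]
      exact GrothLib.AlgSp.isOpenMap_ofPt_of_etale pe _ (𝒰.f i).isOpenEmbedding.isOpen_range)
    (fun x _ => by
      obtain ⟨u, rfl⟩ := GrothLib.AlgSp.surjective_ofPt_of_repWith ps x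
      obtain ⟨i, a, rfl⟩ := 𝒰.exists_eq u
      exact Set.mem_iUnion.2 ⟨i, a, rfl⟩)
  rw [← noetherian_univ_iff, ← Set.univ_subset_iff.1 hs,
    ← Finset.set_biUnion_coe, Set.biUnion_eq_iUnion]
  have hN : ∀ i, NoetherianSpace (𝒰.X i) := fun i => by
    have : IsLocallyNoetherian (𝒰.X i) := LocallyOfFiniteType.isLocallyNoetherian (𝒰.f i)
    have : IsAffine (𝒰.X i) := inferInstance
    haveI : IsNoetherian (𝒰.X i) := {}
    infer_instance
  have : ∀ i : ↥(↑s : Set _), NoetherianSpace ↑(Set.range fun a => Points.ofPt p (𝒰.f i.1 a)) := fun i =>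
    haveI := hN i.1
    NoetherianSpace.range _ ((Points.continuous_ofPt p).comp (𝒰.f i.1).continuous)
  exact NoetherianSpace.iUnion _

end Groth.Agent.S10203
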