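import Groth.Agent.Lib.AlgSp.SchematicCodim
import Groth.Statements.S10204
-- import your own Groth.Agent.* helpers here

set_option autoImplicit false
universe u
open CategoryTheory CategoryTheory.Limits AlgebraicGeometry Topology TopologicalSpace
open AlgSp

namespace Groth.Agent.S10204

/-- Let X be an algebraic space over a scheme S that admits a map h_U ⟶ X from a quasi-separated scheme
U which is representable finite, etale and surjective. Then X contains an open subspace X' ⟶ X that
is a scheme (its underlying sheaf is representable), whose points form a dense subset of |X| that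
includes every codimension 0 point of X (every point x of |X| such that some etale chart h_V ⟶ X and
some point v of V over x have a zero-dimensional local ring O_{V,v}). -/
theorem result {S : Scheme.{u}} (X : AlgSp.Space S) {U : Over S}
    (a : (AlgSp.yon S).obj U ⟶ X.obj) (hf : AlgSp.RepWith @IsFinite a) (he : AlgSp.RepWith @Etale a)
    (hs : AlgSp.RepWith @Surjective a) [QuasiSeparatedSpace ↥U.left] :
    ∃ (X' : AlgSp.Space S) (j : X' ⟶ X), AlgSp.RepWith @IsOpenImmersion j.hom ∧ X'.obj.obj.IsRepresentable ∧
      Dense (Set.range (AlgSp.Points.map j.hom)) ∧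
      ∀ x : AlgSp.Points X.obj, AlgSp.HasAt (fun U u => ringKrullDim ↥(U.presheaf.stalk u) = 0) X.obj x →
        x ∈ Set.range (AlgSp.Points.map j.hom) := by
  haveI := GrothLib.AlgSp.chart_isLocallySurjective he hs
  obtain ⟨R, t, s, sq⟩ := GrothLib.AlgSp.exists_isPullback_yon X.property.diag a a
  haveI : IsFinite s.left := hf.2 _ _ _ sq
  haveI : QuasiCompact ((prod.lift t s).left ≫ (prod.snd : U ⨯ U ⟶ U).left) := by
    rw [← Over.comp_left, prod.lift_snd]; infer_instance
  haveI : QuasiSeparated U.hom := inferInstance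
  haveI : QuasiSeparated (prod.snd : U ⨯ U ⟶ U).left := by
    rw [← Over.prodLeftIsoPullback_hom_snd]; infer_instance
  haveI : QuasiCompact (prod.lift t s).left := QuasiCompact.of_comp _ (prod.snd : U ⨯ U ⟶ U).left
  have hqs : AlgSp.IsQuasiSeparatedSp X.obj := GrothLib.AlgSp.repWith_diag_of_chart
    GrothLib.AlgSp.fppfDescends_quasiCompact X.property.diag he hs sq ‹QuasiCompact (prod.lift t s).left›
  obtain ⟨N, hN, hd, hr, hcodim⟩ := GrothLib.AlgSp.exists_open_subscheme_codim_zero X.property
    (ι := PUnit.{u + 1}) (fun _ => X.obj) (fun _ => 𝟙 X.obj)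
    ⟨fun _ => GrothLib.AlgSp.repWith_iso _, fun x => ⟨⟨⟩, x, AlgSp.Points.map_id x⟩⟩
    (fun _ => X.property) (fun _ => hqs)
  refine ⟨⟨GrothLib.AlgSp.openSub X.obj N, GrothLib.AlgSp.isAlgSpace_openSub X.property hN⟩,
    ObjectProperty.homMk (GrothLib.AlgSp.openSubι X.obj N), GrothLib.AlgSp.repWith_openSubι hN, hr, ?_⟩
  show Dense (Set.range (AlgSp.Points.map (GrothLib.AlgSp.openSubι X.obj N))) ∧ ∀ x, _ → x ∈ Set.range (AlgSp.Points.map (GrothLib.AlgSp.openSubι X.obj N))
  rw [GrothLib.AlgSp.range_openSubι]
  exact ⟨hd, hcodim⟩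

end Groth.Agent.S10204
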