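import Groth.Agent.Lib.AlgSp.LocP
import Groth.Statements.S10210
-- import your own Groth.Agent.* helpers here

set_option autoImplicit false
universe u
open CategoryTheory CategoryTheory.Limits AlgebraicGeometry Topology TopologicalSpace
open AlgSp

namespace Groth.Agent.S10210

/-- Let X, Y, Z be algebraic spaces over a scheme S, g : X ⟶ Z and h : Y ⟶ Z etale morphisms and f : X ⟶
Y a morphism with f ≫ h = g. Then f is etale. -/
theorem result {S : Scheme.{u}} {X Y Z : AlgSp.Space S} (f : X ⟶ Y) (h : Y ⟶ Z) (g : X ⟶ Z)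
    (w : f ≫ h = g) (hg : AlgSp.IsEtaleMor g.hom) (hh : AlgSp.IsEtaleMor h.hom) :
    AlgSp.IsEtaleMor f.hom := by
  subst w
  refine GrothLib.AlgSp.isEtaleMor_of_locP Y.property (GrothLib.AlgSp.EtLocal.etale.locP_cancel ?_
    X.property Y.property Z.property (GrothLib.AlgSp.locP_of_isEtaleMor Z.property hg)
    (GrothLib.AlgSp.locP_of_isEtaleMor Z.property hh))
  intro A B C u v huv hv
  have : Etale (u ≫ v) := huv
  have : Etale v := hv
  exact Etale.of_comp u v

end Groth.Agent.S10210
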