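import Groth.Agent.Lib.AlgSp.LocPPoints
import Groth.Statements.S10211
-- import your own Groth.Agent.* helpers here

set_option autoImplicit false
universe u
open CategoryTheory CategoryTheory.Limits AlgebraicGeometry Topology TopologicalSpace
open AlgSp

namespace Groth.Agent.S10211

/-- If f : X ⟶ Y is an etale morphism of algebraic spaces over a scheme S, then the induced map of
topological spaces |X| → |Y| is open. -/
theorem result {S : Scheme.{u}} {X Y : AlgSp.Space S} (f : X ⟶ Y)
    (hf : AlgSp.IsEtaleMor f.hom) :
    IsOpenMap (AlgSp.Points.map f.hom) := by
  exact GrothLib.AlgSp.isOpenMap_map_of_isEtaleMor X.property Y.property hf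

end Groth.Agent.S10211
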