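import Groth.Agent.Lib.AlgSp.Immersion
import Groth.Statements.S10213
-- import your own Groth.Agent.* helpers here

set_option autoImplicit false
universe u
open CategoryTheory CategoryTheory.Limits AlgebraicGeometry Topology TopologicalSpace
open AlgSp

namespace Groth.Agent.S10213

/-- For an algebraic space X over a scheme S there is a surjective etale map h_U ⟶ X where U is a
disjoint union of affine schemes, each of which maps into an affine open of S. -/
theorem result {S : Scheme.{u}} (X : AlgSp.Space S) :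
    ∃ (ι : Type u) (V : ι → Scheme.{u}) (_ : ∀ i, IsAffine (V i)) (q : (∐ V) ⟶ S)
      (p : (AlgSp.yon S).obj (Over.mk q) ⟶ X.obj),
      AlgSp.RepWith @Etale p ∧ AlgSp.RepWith @Surjective p ∧
        ∀ i, ∃ W : S.Opens, IsAffineOpen W ∧ ∀ v : ↥(V i), (Sigma.ι V i ≫ q) v ∈ W := by
  obtain ⟨U, p, pe, ps⟩ := X.property.atlas
  have H : ∀ u : ↥U.left, ∃ (A : U.left.Opens) (O : S.Opens),
      IsAffineOpen A ∧ IsAffineOpen O ∧ u ∈ A ∧ ∀ a : ↥U.left, a ∈ A → U.hom a ∈ O := by
    intro u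
    obtain ⟨_, ⟨O, hO, rfl⟩, hs, -⟩ :=
      S.isBasis_affineOpens.exists_subset_of_mem_open (Set.mem_univ (U.hom u)) isOpen_univ
    obtain ⟨_, ⟨A, hA, rfl⟩, hu, hsub⟩ :=
      U.left.isBasis_affineOpens.exists_subset_of_mem_open (show u ∈ U.hom ⁻¹' O from hs)
        (O.2.preimage U.hom.continuous)
    exact ⟨A, O, hA, hO, hu, fun a ha => hsub ha⟩
  choose A O hA hO hu hAO using H
  refine ⟨↥U.left, fun u => (A u : Scheme.{u}), hA, Sigma.desc (fun u => (A u).ι) ≫ U.hom,
    (yon S).map (Over.homMk (Sigma.desc (fun u => (A u).ι))) ≫ p, ?_, ?_, fun u => ⟨O u, hO u, fun v => ?_⟩⟩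
  · exact GrothLib.AlgSp.repWith_comp ((repWith_yon_map_iff _ _).2
      (IsZariskiLocalAtSource.sigmaDesc (P := @Etale) fun u => inferInstanceAs (Etale (A u).ι))) pe
  · refine GrothLib.AlgSp.repWith_comp ((repWith_yon_map_iff _ _).2 ⟨fun x => ?_⟩) ps
    refine ⟨Sigma.ι (fun u => (A u : Scheme.{u})) x ⟨x, hu x⟩, ?_⟩
    change (Sigma.ι (fun u => (A u : Scheme.{u})) x ≫ Sigma.desc fun u => (A u).ι) ⟨x, hu x⟩ = x
    rw [Sigma.ι_desc]
    rfl
  · rw [Sigma.ι_desc_assoc]
    exact hAO u _ v.2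

end Groth.Agent.S10213
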