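import Groth.Agent.Lib.AlgSp.Immersion
import Groth.Statements.S10214
-- import your own Groth.Agent.* helpers here

set_option autoImplicit false
universe u
open CategoryTheory CategoryTheory.Limits AlgebraicGeometry Topology TopologicalSpace
open AlgSp

namespace Groth.Agent.S10214

/-- Every algebraic space X over a scheme S has a Zariski covering by open subspaces X_i such that each
X_i has a surjective etale map from an affine scheme; moreover the affine schemes may be taken to
map into affine opens of S. -/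
theorem result {S : Scheme.{u}} (X : AlgSp.Space S) :
    ∃ (ι : Type u) (Xi : ι → AlgSp.Space S) (j : ∀ i, Xi i ⟶ X),
      AlgSp.IsZarCover (fun i => (Xi i).obj) (fun i => (j i).hom) ∧
        ∀ i, ∃ (U : Over S) (p : (AlgSp.yon S).obj U ⟶ (Xi i).obj), IsAffine U.left ∧
          AlgSp.RepWith @Etale p ∧ AlgSp.RepWith @Surjective p ∧
          ∃ W : S.Opens, IsAffineOpen W ∧ ∀ v : ↥U.left, U.hom v ∈ W := by
  obtain ⟨U₀, p₀, pe₀, ps₀⟩ := X.property.atlas
  have H := fun x : ↥U₀.left =>
    GrothLib.AlgSp.exists_affine_chart_mem X.property isOpen_univ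
      (Set.mem_univ (Points.ofPt p₀ x))
      (fun O => IsAffineOpen O) (fun s => by
        obtain ⟨_, ⟨O, hO, rfl⟩, hs, -⟩ := S.isBasis_affineOpens.exists_subset_of_mem_open (Set.mem_univ s) isOpen_univ
        exact ⟨O, hO, hs⟩)
  choose U p hU pe hp hpW O hO hUO using H
  have hW := fun x => (GrothLib.AlgSp.isOpenMap_ofPt_of_etale (pe x)).isOpen_range
  refine ⟨_, fun x => ⟨GrothLib.AlgSp.openSub X.obj (Set.range (Points.ofPt (p x))),
      GrothLib.AlgSp.isAlgSpace_openSub X.property (hW x)⟩,
    fun x => ObjectProperty.homMk (GrothLib.AlgSp.openSubι _ _),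
    ⟨fun x => GrothLib.AlgSp.repWith_openSubι (hW x), fun z => ?_⟩, fun x => ?_⟩
  · obtain ⟨u, rfl⟩ := GrothLib.AlgSp.surjective_ofPt_of_repWith ps₀ z
    exact ⟨u, (Set.ext_iff.1 GrothLib.AlgSp.range_openSubι _).2 (hp u)⟩
  · obtain ⟨a', -, he, hs⟩ := GrothLib.AlgSp.exists_factor_chart X.property (pe x)
      (GrothLib.AlgSp.repWith_openSubι (hW x)) (by rw [GrothLib.AlgSp.range_openSubι])
    exact ⟨U x, a', hU x, he, hs (by rw [GrothLib.AlgSp.range_openSubι]), O x, hO x, hUO x⟩

end Groth.Agent.S10214
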