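import Groth.Agent.Lib.AlgSp.FieldBase
import Groth.Agent.Lib.AlgSp.Points
import Groth.Agent.Lib.AlgSp.Space
import Groth.Statements.S10215
-- import your own Groth.Agent.* helpers here

set_option autoImplicit false
universe u
open CategoryTheory CategoryTheory.Limits AlgebraicGeometry Topology TopologicalSpace
open AlgSp

namespace Groth.Agent.S10215

/-- Let X be an algebraic space over a scheme S and p : Spec K ⟶ X, q : Spec L ⟶ X morphisms from
spectra of fields over S which determine the same point of |X|, with p a monomorphism. Then q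
factors uniquely through p. -/
theorem result {S : Scheme.{u}} (X : AlgSp.Space S) (p q : AlgSp.FieldPt X.obj)
    (h : AlgSp.Points.mk p = AlgSp.Points.mk q) [Mono p.toHom] :
    ∃! c : q.pt ⟶ p.pt, (AlgSp.yon S).map c ≫ p.toHom = q.toHom := by
  obtain ⟨R, t, s, sq⟩ := GrothLib.AlgSp.exists_isPullback_yon X.property.diag p.toHom q.toHom
  have e : Points.map p.toHom (Points.ofScheme p.pt (IsLocalRing.closedPoint p.K)) =
      Points.map q.toHom (Points.ofScheme q.pt (IsLocalRing.closedPoint q.K)) := by
    rw [← Points.ofPt_eq_map_ofScheme, ← Points.ofPt_eq_map_ofScheme, Points.ofPt_toHom, Points.ofPt_toHom]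
    exact h
  obtain ⟨z, -, -⟩ := GrothLib.AlgSp.exists_of_isPullback sq e
  obtain ⟨r, -⟩ := (Points.schemeEquiv R).surjective z
  have : Nonempty ↥R.left := ⟨r⟩
  have : Mono s := ⟨fun c c' hc => by
    apply (yon S).map_injective
    apply sq.hom_ext
    · rw [← cancel_mono p.toHom, Category.assoc, Category.assoc, sq.w, ← Functor.map_comp_assoc,
        ← Functor.map_comp_assoc, hc]
    · rw [← Functor.map_comp, ← Functor.map_comp, hc]⟩
  have : Mono s.left := (Over.forget S).map_mono s
  have : IsIso ((Over.forget S).map s) := GrothLib.AlgSp.isIso_of_mono_to_field s.left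
  have : IsIso s := isIso_of_reflects_iso s (Over.forget S)
  refine ⟨inv s ≫ t, ?_, fun c hc => ?_⟩
  · change (yon S).map (inv s ≫ t) ≫ p.toHom = q.toHom
    rw [Functor.map_comp, Category.assoc, sq.w, ← Functor.map_comp_assoc, IsIso.inv_hom_id,
      CategoryTheory.Functor.map_id, Category.id_comp]
  · apply (yon S).map_injective
    rw [← cancel_mono p.toHom, hc]
    change q.toHom = (yon S).map (inv s ≫ t) ≫ p.toHom
    rw [Functor.map_comp, Category.assoc, sq.w, ← Functor.map_comp_assoc, IsIso.inv_hom_id,
      CategoryTheory.Functor.map_id, Category.id_comp]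

end Groth.Agent.S10215
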