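import Mathlib.AlgebraicGeometry.AlgClosed.Basic
import Groth.Agent.Lib.AlgSp.SourceDescent
import Groth.Agent.Lib.AlgSp.Immersion
import Groth.Statements.S10216
-- import your own Groth.Agent.* helpers here

set_option autoImplicit false
universe u
open CategoryTheory CategoryTheory.Limits AlgebraicGeometry Topology TopologicalSpace
open AlgSp

namespace Groth.Agent.S10216

/-- Let φ : U ⟶ X be an etale morphism of algebraic spaces over a scheme S, take a geometric point x̄ :
Spec k ⟶ X of X whose image in |X| is x, and let u ∈ |U| with φ(u) = x. Then there is a geometric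
point ū : Spec k ⟶ U (with the same field k) lying over u and with φ ∘ ū = x̄. -/
theorem result {S : Scheme.{u}} {U X : AlgSp.Space S} (φ : U ⟶ X)
    (hφ : AlgSp.IsEtaleMor φ.hom) (xbar : AlgSp.FieldPt X.obj) (hx : xbar.IsGeometric)
    (u : AlgSp.Points U.obj) (hu : AlgSp.Points.map φ.hom u = AlgSp.Points.mk xbar) :
    ∃ ubar : (AlgSp.yon S).obj xbar.pt ⟶ U.obj,
      ubar ≫ φ.hom = xbar.toHom ∧ AlgSp.Points.ofPt ubar (IsLocalRing.closedPoint xbar.K) = u := by
  obtain ⟨W, p, pe, ps⟩ := U.property.atlas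
  obtain ⟨w, rfl⟩ := GrothLib.AlgSp.surjective_ofPt_of_repWith ps u
  have he : RepWith @Etale (p ≫ φ.hom) := hφ p pe
  obtain ⟨Z, fst, snd, sq⟩ := GrothLib.AlgSp.exists_isPullback_of_representable he.1 xbar.toHom
  have e : Points.map (p ≫ φ.hom) (Points.ofScheme W w) =
      Points.ofPt xbar.toHom (IsLocalRing.closedPoint xbar.K) := by
    rw [Points.ofPt_toHom, ← Points.ofPt_eq_map_ofScheme, ← hu, Points.map_ofPt]
  obtain ⟨z, hz, -⟩ := GrothLib.AlgSp.exists_ofPt_of_map_eq sq e
  have hE : Etale snd.left := he.2 _ _ _ sq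
  let f : Z.left ⟶ Spec (CommRingCat.of xbar.K) := snd.left
  have : Etale f := hE
  have : LocallyQuasiFinite f := GrothLib.AlgSp.locallyQuasiFinite_of_unramified f
  haveI : IsAlgClosed xbar.K := hx
  have hd : DiscreteTopology ↥Z.left := by
    have h1 := f.isDiscrete_preimage_singleton (IsLocalRing.closedPoint xbar.K)
    have h2 : f ⁻¹' {IsLocalRing.closedPoint xbar.K} = Set.univ :=
      Set.eq_univ_of_forall fun a => Subsingleton.elim (α := PrimeSpectrum xbar.K) _ _
    refine isDiscrete_univ_iff.1 ?_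
    convert h1
    exact h2.symm
  have hc : IsClosed {z} := isClosed_discrete _
  let σ : xbar.pt ⟶ Z := Over.homMk (pointOfClosedPoint f z hc) (by
    change pointOfClosedPoint f z hc ≫ Z.hom = xbar.str
    rw [← Over.w snd]
    change pointOfClosedPoint f z hc ≫ f ≫ xbar.str = xbar.str
    rw [pointOfClosedPoint_comp_assoc])
  have hσ : σ ≫ snd = 𝟙 _ := Over.OverMorphism.ext (pointOfClosedPoint_comp f z hc)
  refine ⟨(yon S).map σ ≫ fst ≫ p, ?_, ?_⟩
  · rw [Category.assoc, Category.assoc, sq.w, ← Functor.map_comp_assoc, hσ, CategoryTheory.Functor.map_id,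
      Category.id_comp]
  · rw [GrothLib.AlgSp.ofPt_map_comp]
    change Points.ofPt (fst ≫ p) (pointOfClosedPoint f z hc _) = _
    rw [pointOfClosedPoint_apply, ← Points.map_ofPt, hz, ← Points.ofPt_eq_map_ofScheme]

end Groth.Agent.S10216
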