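import Groth.Statements.S10220
import Groth.Agent.Lib.AlgSp.EtStalk
-- import your own Groth.Agent.* helpers here

set_option autoImplicit false
universe u
open CategoryTheory CategoryTheory.Limits AlgebraicGeometry Topology TopologicalSpace
open AlgSp

namespace Groth.Agent.S10220

/-- Let X be an algebraic space over a scheme S and a : F ⟶ G a map of sheaves of sets on the small
etale site of X. Then a is injective (a monomorphism) if and only if the induced map on stalks F_x̄
→ G_x̄ is injective for every geometric point x̄ of X, and a is surjective (an epimorphism of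
sheaves) if and only if all these stalk maps are surjective. -/
theorem result {S : Scheme.{u}} (X : AlgSp.Space S) {F G : AlgSp.EtSh X.obj (Type (u + 1))} (a : F ⟶ G) :
    (Mono a ↔ ∀ p : AlgSp.FieldPt X.obj, p.IsGeometric →
        Function.Injective ((AlgSp.stalkEtFunctor (Type (u + 1)) p).map a)) ∧
    (Epi a ↔ ∀ p : AlgSp.FieldPt X.obj, p.IsGeometric →
        Function.Surjective ((AlgSp.stalkEtFunctor (Type (u + 1)) p).map a)) := by
  exact ⟨⟨fun h p hp => GrothLib.AlgSp.injective_stalk_of_mono X a p hp, GrothLib.AlgSp.mono_of_stalks X a⟩,
    fun h p hp => GrothLib.AlgSp.surjective_map_of_epi X a p hp, GrothLib.AlgSp.epi_of_stalks X a⟩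
end Groth.Agent.S10220
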