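import Groth.Statements.S10221
import Groth.Agent.Lib.AlgSp.EtStalk
-- import your own Groth.Agent.* helpers here

set_option autoImplicit false
universe u
open CategoryTheory CategoryTheory.Limits AlgebraicGeometry Topology TopologicalSpace
open AlgSp

namespace Groth.Agent.S10221

/-- Let X be an algebraic space over a scheme S. A short complex of abelian sheaves on the small etale
site of X (maps f, g with g ∘ f = 0) is exact if and only if it is exact on stalks at all geometric
points x̄ of X: every element of the middle stalk killed by g_x̄ is in the image of f_x̄. -/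
theorem result {S : Scheme.{u}} (X : AlgSp.Space S) (C : ShortComplex (AlgSp.AbEt X.obj)) :
    C.Exact ↔ ∀ p : AlgSp.FieldPt X.obj, p.IsGeometric →
      ∀ y : ↥((AlgSp.stalkEtFunctor AddCommGrpCat.{u + 1} p).obj C.X₂),
        ((AlgSp.stalkEtFunctor AddCommGrpCat.{u + 1} p).map C.g) y = 0 →
          ∃ x : ↥((AlgSp.stalkEtFunctor AddCommGrpCat.{u + 1} p).obj C.X₁),
            ((AlgSp.stalkEtFunctor AddCommGrpCat.{u + 1} p).map C.f) x = y := by
  have key : ∀ (p : AlgSp.FieldPt X.obj) (hp : p.IsGeometric),
      (C.map (GrothLib.AlgSp.etPoint X p hp).sheafFiber).Exact ↔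
        IsZero ((AlgSp.stalkEtFunctor AddCommGrpCat.{u + 1} p).obj C.homology) := fun p hp => by
    rw [ShortComplex.exact_iff_isZero_homology]
    exact (C.mapHomologyIso (GrothLib.AlgSp.etPoint X p hp).sheafFiber).isZero_iff
  constructor
  · intro h p hp y hy
    have h' := h.map (GrothLib.AlgSp.etPoint X p hp).sheafFiber
    exact (ShortComplex.ab_exact_iff _).1 h' y hy
  · intro h
    rw [ShortComplex.exact_iff_isZero_homology]
    exact GrothLib.AlgSp.isZero_of_stalks X _ fun p hp =>
      (key p hp).1 ((ShortComplex.ab_exact_iff _).2 (h p hp))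
end Groth.Agent.S10221
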