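import Groth.Statements.S10225
import Groth.Agent.Lib.AlgSp.EtLocalRing
-- import your own Groth.Agent.* helpers here

set_option autoImplicit false
universe u
open CategoryTheory CategoryTheory.Limits AlgebraicGeometry Topology TopologicalSpace
open AlgSp

namespace Groth.Agent.S10225

/-- Let X be an algebraic space over a scheme S and x̄ a geometric point of X lying over x ∈ |X|. Then
the local ring of X at x is reduced (for some etale chart h_U ⟶ X and some point u of U over x, the
local ring of U at u is reduced) if and only if the etale local ring of X at x̄ is reduced; in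
particular the latter does not depend on the choice of x̄ over x. -/
theorem result {S : Scheme.{u}} (X : AlgSp.Space S) (p : AlgSp.FieldPt X.obj) (hp : p.IsGeometric) :
    AlgSp.HasAt (fun U u => _root_.IsReduced ↥(U.presheaf.stalk u)) X.obj (AlgSp.Points.mk p) ↔
      _root_.IsReduced ↥(AlgSp.OEtStalk p) := by
  constructor
  · rintro ⟨U, a, x, ha, hx, hd⟩
    exact (GrothLib.AlgSp.isReduced_OEtStalk_iff X p hp a ha x hx).2 hd
  · intro hd
    obtain ⟨U, a, x, ha, hx, -⟩ := GrothLib.AlgSp.exists_chart_strictHens X p hp
    exact ⟨U, a, x, ha, hx, (GrothLib.AlgSp.isReduced_OEtStalk_iff X p hp a ha x hx).1 hd⟩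
end Groth.Agent.S10225
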