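import Groth.Statements.S10226
import Groth.Agent.Lib.AlgSp.EtLocalRing
-- import your own Groth.Agent.* helpers here

set_option autoImplicit false
universe u
open CategoryTheory CategoryTheory.Limits AlgebraicGeometry Topology TopologicalSpace
open AlgSp

namespace Groth.Agent.S10226

/-- Let X be a Noetherian algebraic space over a scheme S (quasi-compact, with quasi-compact diagonal
over S, and locally Noetherian) and x̄ a geometric point of X. Then the etale local ring of X at x̄
is a Noetherian local ring. -/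
theorem result {S : Scheme.{u}} (X : AlgSp.Space S)
    (hqc : AlgSp.IsQuasiCompactSp X.obj) (hqs : AlgSp.IsQuasiSeparatedSp X.obj) (hX : AlgSp.IsLocNoethSp X.obj)
    (p : AlgSp.FieldPt X.obj) (hp : p.IsGeometric) :
    IsNoetherianRing ↥(AlgSp.OEtStalk p) ∧ IsLocalRing ↥(AlgSp.OEtStalk p) := by
  obtain ⟨U, a, ha, hs, hN⟩ := hX
  obtain ⟨x, hx⟩ := GrothLib.AlgSp.surjective_ofPt_of_repWith hs (AlgSp.Points.mk p)
  haveI := hN
  obtain ⟨hH, -⟩ := GrothLib.AlgSp.isStrictlyHenselian_OEtStalk X p hp
  exact ⟨(GrothLib.AlgSp.isNoetherianRing_OEtStalk_iff X p hp a ha x hx).2 inferInstance, inferInstance⟩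
end Groth.Agent.S10226
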