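import Groth.Statements.S10227
import Groth.Agent.Lib.AlgSp.EtBranches
-- import your own Groth.Agent.* helpers here

set_option autoImplicit false
universe u
open CategoryTheory CategoryTheory.Limits AlgebraicGeometry Topology TopologicalSpace
open AlgSp

namespace Groth.Agent.S10227

/-- (1) ⇔ (4) ⇔ (5): let X be an algebraic space over a scheme S and x ∈ |X|. The following are
equivalent: for every scheme U, every etale h_U ⟶ X and every point u of U over x, the local ring of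
U at u has a unique minimal prime; for every such (U, u), the local ring of U at u is geometrically
unibranch; for every geometric point x̄ over x, the etale local ring of X at x̄ has a unique minimal
prime. -/
theorem result {S : Scheme.{u}} (X : AlgSp.Space S) (x : AlgSp.Points X.obj) :
    ((∀ (U : Over S) (a : (AlgSp.yon S).obj U ⟶ X.obj) (u : ↥U.left),
        AlgSp.RepWith @Etale a → AlgSp.Points.ofPt a u = x → CAlgX.HasUniqueMinimalPrime ↥(U.left.presheaf.stalk u)) ↔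
      (∀ (U : Over S) (a : (AlgSp.yon S).obj U ⟶ X.obj) (u : ↥U.left),
        AlgSp.RepWith @Etale a → AlgSp.Points.ofPt a u = x → CAlg2.IsGeomUnibranch ↥(U.left.presheaf.stalk u))) ∧
    ((∀ (U : Over S) (a : (AlgSp.yon S).obj U ⟶ X.obj) (u : ↥U.left),
        AlgSp.RepWith @Etale a → AlgSp.Points.ofPt a u = x → CAlgX.HasUniqueMinimalPrime ↥(U.left.presheaf.stalk u)) ↔
      ∀ p : AlgSp.FieldPt X.obj, p.IsGeometric → AlgSp.Points.mk p = x →
        CAlgX.HasUniqueMinimalPrime ↥(AlgSp.OEtStalk p)) := by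
  have key : ∀ (A : Type u) [CommRing A], CAlgX.HasUniqueMinimalPrime A ↔ (minimalPrimes A).encard = 1 := by
    intro A _
    rw [Set.encard_eq_one]
    exact ⟨fun ⟨P, hP, hu⟩ => ⟨P, Set.eq_singleton_iff_unique_mem.2 ⟨hP, hu⟩⟩,
      fun ⟨P, hP⟩ => ⟨P, (Set.eq_singleton_iff_unique_mem.1 hP).1, (Set.eq_singleton_iff_unique_mem.1 hP).2⟩⟩
  have key' : ∀ (p : AlgSp.FieldPt X.obj), CAlgX.HasUniqueMinimalPrime ↥(AlgSp.OEtStalk p) ↔
      (minimalPrimes ↥(AlgSp.OEtStalk p)).encard = 1 := by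
    intro p
    rw [Set.encard_eq_one]
    exact ⟨fun ⟨P, hP, hu⟩ => ⟨P, Set.eq_singleton_iff_unique_mem.2 ⟨hP, hu⟩⟩,
      fun ⟨P, hP⟩ => ⟨P, (Set.eq_singleton_iff_unique_mem.1 hP).1, (Set.eq_singleton_iff_unique_mem.1 hP).2⟩⟩
  obtain ⟨U₀, a₀, ha₀, hs₀⟩ := X.property.atlas
  obtain ⟨x₀, hx₀⟩ := GrothLib.AlgSp.surjective_ofPt_of_repWith hs₀ x
  have big : ∀ (U : Over S) (a : (AlgSp.yon S).obj U ⟶ X.obj) (u : ↥U.left),
      AlgSp.RepWith @Etale a → AlgSp.Points.ofPt a u = x →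
      (∀ (U' : Over S) (a' : (AlgSp.yon S).obj U' ⟶ X.obj) (u' : ↥U'.left),
        AlgSp.RepWith @Etale a' → AlgSp.Points.ofPt a' u' = x → CAlgX.HasUniqueMinimalPrime ↥(U'.left.presheaf.stalk u')) →
      Brnch.numGeomBranchesAt U.left u = 1 := by
    intro U a u ha hu h
    refine le_antisymm (GrothLib.AlgSp.numGeomBranchesAt_le X a ha u _ fun U' a' u' ha' hu' =>
      ((key _).1 (h U' a' u' ha' (hu'.trans hu))).le) ?_
    exact (GrothLib.AlgSp.one_le_encard_minimalPrimes ↥(U.left.presheaf.stalk u)).trans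
      (GrothLib.AlgSp.encard_minimalPrimes_le_numGeomBranchesAt u)
  refine ⟨⟨fun h U a u ha hu => (GrothLib.Hensel.numGeomBranches_eq_one_iff ↥(U.left.presheaf.stalk u)).1 (big U a u ha hu h),
    fun h U a u ha hu => ?_⟩, ⟨fun h p hp hpx => ?_, fun h U a u ha hu => ?_⟩⟩
  · refine (key _).2 (le_antisymm ?_ (GrothLib.AlgSp.one_le_encard_minimalPrimes _))
    rw [← show Brnch.numGeomBranchesAt U.left u = 1 from (GrothLib.Hensel.numGeomBranches_eq_one_iff ↥(U.left.presheaf.stalk u)).2 (h U a u ha hu)]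
    exact GrothLib.AlgSp.encard_minimalPrimes_le_numGeomBranchesAt u
  · rw [key', GrothLib.AlgSp.encard_minimalPrimes_OEtStalk X p hp a₀ ha₀ x₀ (hx₀.trans hpx.symm)]
    exact big U₀ a₀ x₀ ha₀ hx₀ h
  · obtain ⟨p₀, hp₀, -, -, hpx₀⟩ := GrothLib.AlgSp.exists_geometric_liftsTo (AlgSp.EtOver.mk a ha) u
    refine (key _).2 (le_antisymm ?_ (GrothLib.AlgSp.one_le_encard_minimalPrimes _))
    rw [← (key' p₀).1 (h p₀ hp₀ (hpx₀.trans hu)), GrothLib.AlgSp.encard_minimalPrimes_OEtStalk X p₀ hp₀ a ha u hpx₀.symm]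
    exact GrothLib.AlgSp.encard_minimalPrimes_le_numGeomBranchesAt u
end Groth.Agent.S10227
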