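import Groth.Agent.Lib.AlgSp.Coproduct
import Groth.Agent.Lib.AlgSp.PointsUniv
import Groth.Statements.S10228
-- import your own Groth.Agent.* helpers here

set_option autoImplicit false
universe u
open CategoryTheory CategoryTheory.Limits AlgebraicGeometry Topology TopologicalSpace
open AlgSp

namespace Groth.Agent.S10228

/-- An algebraic space that is the coproduct of finitely many quasi-compact algebraic spaces is
quasi-compact: if X_i (i in a finite type) are quasi-compact algebraic spaces over a scheme S and
the underlying sheaf of the algebraic space X is a coproduct of the underlying sheaves of the X_i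
(given by a colimit cofan of fppf sheaves whose cone point is the sheaf of X), then X is
quasi-compact. -/
theorem result {S : Scheme.{u}} {ι : Type u} [Finite ι] (Xi : ι → AlgSp.Space S)
    (X : AlgSp.Space S) (c : Cofan fun i => (Xi i).obj) (hc : IsColimit c) (hX : c.pt = X.obj)
    (hqc : ∀ i, AlgSp.IsQuasiCompactSp (Xi i).obj) :
    AlgSp.IsQuasiCompactSp X.obj := by
  cases nonempty_fintype ι
  have : ∀ i, CompactSpace (AlgSp.Points (Xi i).obj) := fun i =>
    GrothLib.AlgSp.compactSpace_points_of_isQuasiCompactSp (hqc i)
  have : CompactSpace (AlgSp.Points c.pt) := by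
    refine ⟨?_⟩
    have e : (Set.univ : Set (AlgSp.Points c.pt)) = ⋃ i, Set.range (AlgSp.Points.map (c.inj i)) := by
      refine (Set.eq_univ_of_forall fun x => ?_).symm
      obtain ⟨K, _, str, g, rfl⟩ := GrothLib.AlgSp.exists_ofPt x
      obtain ⟨i, V, d, l, -, -, ⟨v, hv⟩, hl⟩ := GrothLib.AlgSp.exists_lift_inj hc g (IsLocalRing.closedPoint K)
      refine Set.mem_iUnion.2 ⟨i, AlgSp.Points.ofPt l v, ?_⟩
      rw [AlgSp.Points.map_ofPt, hl, GrothLib.AlgSp.ofPt_map_comp, hv]
    rw [e]
    exact isCompact_iUnion fun i => isCompact_range (AlgSp.Points.continuous_map _)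
  have : CompactSpace (AlgSp.Points X.obj) := by rw [← hX]; exact this
  exact GrothLib.AlgSp.isQuasiCompactSp_of_compactSpace_points X.property

end Groth.Agent.S10228
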