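import Groth.Statements.S10229
import Groth.Agent.Lib.AlgSp.EtTopPoints

set_option autoImplicit false
set_option backward.isDefEq.respectTransparency false
universe u
open CategoryTheory CategoryTheory.Limits AlgebraicGeometry Topology TopologicalSpace
open AlgSp

namespace Groth.Agent.S10229

/-- Let X be an algebraic space over a scheme S and let P be a point of the small etale topos of X,
given as a point of the site X_etale (a fibre functor). Then there is a geometric point x̄ of X such
that the stalk functor of P on sheaves of sets is isomorphic to the stalk functor F ↦ F_x̄. -/
theorem result {S : Scheme.{u}} (X : AlgSp.Space S)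
    (P : GrothendieckTopology.Point.{u} (AlgSp.etTop X.obj)) :
    ∃ p : AlgSp.FieldPt X.obj, p.IsGeometric ∧
      Nonempty (P.sheafFiber (A := Type (u + 1)) ≅ AlgSp.stalkEtFunctor (Type (u + 1)) p) := by
  exact GrothLib.AlgSp.EtTopPoints.exists_geometric_sheafFiber P

end Groth.Agent.S10229
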