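import Groth.Statements.S10230
import Groth.Agent.Lib.AlgSp.EtStalk
import Groth.Agent.Lib.AlgSp.Immersion
-- import your own Groth.Agent.* helpers here

set_option autoImplicit false
universe u
open CategoryTheory CategoryTheory.Limits AlgebraicGeometry Topology TopologicalSpace
open AlgSp

namespace Groth.Agent.S10230

/-- Let X be an algebraic space over a scheme S and F a subsheaf of the final object of the small etale
topos of X, i.e. a sheaf of sets all of whose section sets have at most one element. Then there is a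
unique open W of |X| with F = h_W: for every U etale over X, F(U) is nonempty if and only if U ⟶ X
maps |U| into W. -/
theorem result {S : Scheme.{u}} (X : AlgSp.Space S)
    (F : AlgSp.EtSh X.obj (Type (u + 1))) (hF : ∀ E : AlgSp.EtOver X.obj, Subsingleton (F.obj.obj (Opposite.op E))) :
    ∃! W : Set (AlgSp.Points X.obj), IsOpen W ∧
      ∀ E : AlgSp.EtOver X.obj, Nonempty (F.obj.obj (Opposite.op E)) ↔ Set.range (AlgSp.Points.ofPt E.obj.hom) ⊆ W := by
  let W : Set (AlgSp.Points X.obj) := ⋃ (E : AlgSp.EtOver X.obj) (_ : Nonempty (F.obj.obj (Opposite.op E))),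
    Set.range (AlgSp.Points.ofPt E.obj.hom)
  have hWo : IsOpen W := isOpen_iUnion fun E => isOpen_iUnion fun _ =>
    (GrothLib.AlgSp.isOpenMap_ofPt_of_etale E.property).isOpen_range
  have key : ∀ E : AlgSp.EtOver X.obj,
      Nonempty (F.obj.obj (Opposite.op E)) ↔ Set.range (AlgSp.Points.ofPt E.obj.hom) ⊆ W := by
    refine fun E => ⟨fun h => fun x hx => Set.mem_iUnion.2 ⟨E, Set.mem_iUnion.2 ⟨h, hx⟩⟩, fun h => ?_⟩
    let Q : Sieve E :=
      { arrows := fun V g => Nonempty (F.obj.obj (Opposite.op V))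
        downward_closed := fun {V₁ V₂} g hg k => hg.map (F.obj.map k.op) }
    have hQ : Q ∈ AlgSp.etTop X.obj E := GrothLib.AlgSp.mem_etTop_of_points X Q fun p hp l => by
      have hx : AlgSp.Points.mk p ∈ W := h ⟨l.1.left (IsLocalRing.closedPoint p.K), GrothLib.AlgSp.ofPt_closedPoint_of_lift p l⟩
      simp only [W, Set.mem_iUnion] at hx
      obtain ⟨E', hE', x', hx'⟩ := hx
      obtain ⟨l', -⟩ := GrothLib.AlgSp.exists_liftsTo_of_ofPt_eq p hp E' x' hx'
      let t := E'.property.1.lift' l'.1 l.1 (l'.2.trans l.2.symm)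
      have ht : t ≫ (AlgSp.EtOver.prodFst E E').hom.left = l.1 := Functor.relativelyRepresentable.lift'_snd _ _ _ _
      have htu : (AlgSp.yon S).map t ≫ (AlgSp.EtOver.prodObj E E').obj.hom = p.toHom := by
        exact ((congrArg ((AlgSp.yon S).map t ≫ ·) (AlgSp.EtOver.w (AlgSp.EtOver.prodFst E E')).symm).trans
          ((Category.assoc _ _ _).symm.trans (congrArg (· ≫ E.obj.hom)
            (((AlgSp.yon S).map_comp t (AlgSp.EtOver.prodFst E E').hom.left).symm.trans (congrArg (AlgSp.yon S).map ht))))).trans l.2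
      exact ⟨AlgSp.EtOver.prodObj E E', AlgSp.EtOver.prodFst E E', hE'.map (F.obj.map (AlgSp.EtOver.prodSnd E E').op),
        ⟨t, htu⟩, Subtype.ext ht⟩
    let x : Presieve.FamilyOfElements F.obj Q.arrows := fun V g hg => Classical.choice hg
    have hx : x.Compatible := fun Y₁ Y₂ Z g₁ g₂ f₁ f₂ h₁ h₂ _ => (hF Z).elim _ _
    exact ⟨(((isSheaf_iff_isSheaf_of_type _ _).1 F.property) Q hQ).amalgamate x hx⟩
  refine ⟨W, ⟨hWo, key⟩, ?_⟩
  rintro W' ⟨hW'o, hW'⟩
  refine Set.Subset.antisymm (fun x hx => ?_) (fun x hx => ?_)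
  · obtain ⟨U, a, ha, has⟩ := X.property.atlas
    obtain ⟨u, rfl⟩ := GrothLib.AlgSp.surjective_ofPt_of_repWith has x
    let O : U.left.Opens := ⟨AlgSp.Points.ofPt a ⁻¹' W', hW'o.preimage (AlgSp.Points.continuous_ofPt a)⟩
    let q : Over.mk (O.ι ≫ U.hom) ⟶ U := Over.homMk O.ι rfl
    let E : AlgSp.EtOver X.obj := AlgSp.EtOver.mk ((AlgSp.yon S).map q ≫ a)
      (GrothLib.AlgSp.repWith_comp ((AlgSp.repWith_yon_map_iff _ _).2 (show Etale O.ι from inferInstance)) ha)
    have hE : Nonempty (F.obj.obj (Opposite.op E)) := (hW' E).2 (by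
      rintro _ ⟨v, rfl⟩
      change AlgSp.Points.ofPt ((AlgSp.yon S).map q ≫ a) v ∈ W'
      rw [GrothLib.AlgSp.ofPt_map_comp]
      exact v.2)
    refine Set.mem_iUnion.2 ⟨E, Set.mem_iUnion.2 ⟨hE, ⟨u, hx⟩, ?_⟩⟩
    change AlgSp.Points.ofPt ((AlgSp.yon S).map q ≫ a) _ = _
    rw [GrothLib.AlgSp.ofPt_map_comp]
    rfl
  · simp only [W, Set.mem_iUnion] at hx
    obtain ⟨E, hE, hxE⟩ := hx
    exact (hW' E).1 hE hxE
end Groth.Agent.S10230
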