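import Groth.Statements.S10231
import Groth.Agent.Lib.AlgSp.EtLocalRing
-- import your own Groth.Agent.* helpers here

set_option autoImplicit false
universe u
open CategoryTheory CategoryTheory.Limits AlgebraicGeometry Topology TopologicalSpace
open AlgSp

namespace Groth.Agent.S10231

/-- Let X be a locally Noetherian algebraic space over a scheme S. Then X is regular (etale locally a
regular scheme: some surjective etale chart from a locally Noetherian scheme all of whose local
rings are regular) if and only if every etale local ring of X at a geometric point is a regular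
local ring. -/
theorem result {S : Scheme.{u}} (X : AlgSp.Space S) (hX : AlgSp.IsLocNoethSp X.obj) :
    AlgSp.EtaleLocally (fun U => IsLocallyNoetherian U ∧ ∀ u : ↥U, IsRegularLocalRing ↥(U.presheaf.stalk u)) X.obj ↔
      ∀ p : AlgSp.FieldPt X.obj, p.IsGeometric → IsRegularLocalRing ↥(AlgSp.OEtStalk p) := by
  constructor
  · rintro ⟨U, a, ha, hs, -, hR⟩ p hp
    obtain ⟨x, hx⟩ := GrothLib.AlgSp.surjective_ofPt_of_repWith hs (AlgSp.Points.mk p)
    exact (GrothLib.AlgSp.isRegularLocalRing_OEtStalk_iff X p hp a ha x hx).2 (hR x)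
  · intro h
    obtain ⟨U, a, ha, hs, hN⟩ := hX
    refine ⟨U, a, ha, hs, hN, fun x => ?_⟩
    obtain ⟨p, hp, -, -, hpx⟩ := GrothLib.AlgSp.exists_geometric_liftsTo (AlgSp.EtOver.mk a ha) x
    exact (GrothLib.AlgSp.isRegularLocalRing_OEtStalk_iff X p hp a ha x hpx.symm).1 (h p hp)
end Groth.Agent.S10231
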