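import Groth.Statements.S10232
import Groth.Agent.Lib.AlgSp.EtLocalRing
-- import your own Groth.Agent.* helpers here

set_option autoImplicit false
universe u
open CategoryTheory CategoryTheory.Limits AlgebraicGeometry Topology TopologicalSpace
open AlgSp

namespace Groth.Agent.S10232

/-- Let X be an algebraic space over a scheme S and x ∈ |X|. Then X is regular at x (for some etale
chart h_U ⟶ X and some point u of U over x, the local ring of U at u is regular) if and only if the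
etale local ring of X at x̄ is regular for every geometric point x̄ lying over x, if and only if it
is regular for some geometric point x̄ lying over x. -/
theorem result {S : Scheme.{u}} (X : AlgSp.Space S) (x : AlgSp.Points X.obj) :
    (AlgSp.HasAt (fun U u => IsRegularLocalRing ↥(U.presheaf.stalk u)) X.obj x ↔
      ∀ p : AlgSp.FieldPt X.obj, p.IsGeometric → AlgSp.Points.mk p = x → IsRegularLocalRing ↥(AlgSp.OEtStalk p)) ∧
    (AlgSp.HasAt (fun U u => IsRegularLocalRing ↥(U.presheaf.stalk u)) X.obj x ↔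
      ∃ p : AlgSp.FieldPt X.obj, p.IsGeometric ∧ AlgSp.Points.mk p = x ∧ IsRegularLocalRing ↥(AlgSp.OEtStalk p)) := by
  obtain ⟨U₀, a₀, ha₀, hs₀⟩ := X.property.atlas
  obtain ⟨x₀, hx₀⟩ := GrothLib.AlgSp.surjective_ofPt_of_repWith hs₀ x
  obtain ⟨p₀, hp₀, -, -, hpx₀⟩ := GrothLib.AlgSp.exists_geometric_liftsTo (AlgSp.EtOver.mk a₀ ha₀) x₀
  have h₀ : AlgSp.Points.mk p₀ = x := hpx₀.trans hx₀
  refine ⟨⟨?_, fun h => ?_⟩, ⟨fun h => ⟨p₀, hp₀, h₀, ?_⟩, ?_⟩⟩
  · rintro ⟨U, a, v, ha, hv, hd⟩ p hp hpx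
    exact (GrothLib.AlgSp.isRegularLocalRing_OEtStalk_iff X p hp a ha v (hv.trans hpx.symm)).2 hd
  · exact ⟨U₀, a₀, x₀, ha₀, hx₀, (GrothLib.AlgSp.isRegularLocalRing_OEtStalk_iff X p₀ hp₀ a₀ ha₀ x₀
      (hx₀.trans h₀.symm)).1 (h p₀ hp₀ h₀)⟩
  · obtain ⟨U, a, v, ha, hv, hd⟩ := h
    exact (GrothLib.AlgSp.isRegularLocalRing_OEtStalk_iff X p₀ hp₀ a ha v (hv.trans h₀.symm)).2 hd
  · rintro ⟨p, hp, hpx, hd⟩
    exact ⟨U₀, a₀, x₀, ha₀, hx₀, (GrothLib.AlgSp.isRegularLocalRing_OEtStalk_iff X p hp a₀ ha₀ x₀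
      (hx₀.trans hpx.symm)).1 hd⟩
end Groth.Agent.S10232
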