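import Groth.Statements.S10233
import Groth.Agent.Lib.AlgSp.QuotRestrict
import Groth.Agent.Lib.AlgSp.ImmersionDescent
-- import your own Groth.Agent.* helpers here

set_option autoImplicit false
universe u
open CategoryTheory CategoryTheory.Limits AlgebraicGeometry Topology TopologicalSpace
open AlgSp

namespace Groth.Agent.S10233

/-- Let X be an algebraic space over a scheme S with a presentation (U, R, s, t, p), and let i' : Z' ⟶ U
be an immersion of schemes that is R-invariant, meaning that one locally closed subscheme R' of R is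
at the same time the inverse image of Z' under s and under t. Then Z' descends to a locally closed
subspace of X: there is a morphism of algebraic spaces i : Z ⟶ X representable by immersions
together with a map h_{Z'} ⟶ Z making h_{Z'} the fibre product Z ×_X h_U; moreover i is a closed
(resp. open) immersion when i' is. -/
theorem result {S : Scheme.{u}} (X : AlgSp.Space S) {R U : Over S} (s t : R ⟶ U)
    (p : (AlgSp.yon S).obj U ⟶ X.obj) (hp : AlgSp.IsPresentation s t p)
    {Z' R' : Scheme.{u}} (i' : Z' ⟶ U.left) [IsImmersion i'] (k : R' ⟶ R.left) (s' t' : R' ⟶ Z')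
    (hs : IsPullback k s' s.left i') (ht : IsPullback k t' t.left i') :
    ∃ (Z : AlgSp.Space S) (i : Z ⟶ X) (q : (AlgSp.yon S).obj (Over.mk (i' ≫ U.hom)) ⟶ Z.obj),
      AlgSp.RepWith @IsImmersion i.hom ∧
      IsPullback q ((AlgSp.yon S).map (Over.homMk i' rfl : Over.mk (i' ≫ U.hom) ⟶ U)) i.hom p ∧
      (IsClosedImmersion i' → AlgSp.RepWith @IsClosedImmersion i.hom) ∧
      (IsOpenImmersion i' → AlgSp.RepWith @IsOpenImmersion i.hom) := by
  open GrothLib.AlgSp in
  classical
  let Z₀ : Over S := Over.mk (i' ≫ U.hom)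
  let R₀ : Over S := Over.mk (k ≫ R.hom)
  let i₀ : Z₀ ⟶ U := Over.homMk i' rfl
  let k₀ : R₀ ⟶ R := Over.homMk k rfl
  let s₀ : R₀ ⟶ Z₀ := Over.homMk s' (by
    change s' ≫ i' ≫ U.hom = k ≫ R.hom
    rw [← Category.assoc, ← hs.w, Category.assoc, Over.w])
  let t₀ : R₀ ⟶ Z₀ := Over.homMk t' (by
    change t' ≫ i' ≫ U.hom = k ≫ R.hom
    rw [← Category.assoc, ← ht.w, Category.assoc, Over.w])
  haveI : IsImmersion i₀.left := inferInstanceAs (IsImmersion i')
  haveI : Mono i₀.left := inferInstanceAs (Mono i')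
  haveI : Mono i₀ := (Over.forget S).mono_of_mono_map (inferInstanceAs (Mono i₀.left))
  have sqs : IsPullback s₀ k₀ i₀ s := IsPullback.of_map (Over.forget S) (Over.OverMorphism.ext hs.w.symm) hs.flip
  have sqt : IsPullback t₀ k₀ i₀ t := IsPullback.of_map (Over.forget S) (Over.OverMorphism.ext ht.w.symm) ht.flip
  have heq : IsEqvRel s t := hp.eqvRel.toIsEqvRel
  have hlift : ∀ (V : Over S) (a b : V ⟶ Z₀) (r : V ⟶ R), r ≫ t = a ≫ i₀ → r ≫ s = b ≫ i₀ →
      ∃ z : V ⟶ R₀, z ≫ t₀ = a ∧ z ≫ s₀ = b := fun V a b r h₁ h₂ =>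
    ⟨sqs.lift b r h₂.symm, (cancel_mono i₀).1 (by rw [Category.assoc, sqt.w, sqs.lift_snd_assoc, h₁]),
      sqs.lift_fst _ _ _⟩
  have heq' : IsEqvRel s₀ t₀ := by
    refine ⟨fun V z z' h₁ h₂ => sqs.hom_ext h₂ (heq.injective _ _ _ ?_ ?_), fun V => ⟨fun a => ?_, ?_, ?_⟩⟩
    · rw [Category.assoc, Category.assoc, ← sqt.w, reassoc_of% h₁]
    · rw [Category.assoc, Category.assoc, ← sqs.w, reassoc_of% h₂]
    · obtain ⟨r, h₁, h₂⟩ := (heq.equivalence V).refl (a ≫ i₀)
      exact hlift V a a r h₁ h₂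
    · rintro a b ⟨z, rfl, rfl⟩
      obtain ⟨r, h₁, h₂⟩ := (heq.equivalence V).symm (x := (z ≫ t₀) ≫ i₀) (y := (z ≫ s₀) ≫ i₀)
        ⟨z ≫ k₀, by simp only [Category.assoc, sqt.w], by simp only [Category.assoc, sqs.w]⟩
      exact hlift V _ _ r h₁ h₂
    · rintro a b d ⟨z₁, rfl, rfl⟩ ⟨z₂, h21, rfl⟩
      obtain ⟨r, h₁, h₂⟩ := (heq.equivalence V).trans (x := (z₁ ≫ t₀) ≫ i₀) (y := (z₁ ≫ s₀) ≫ i₀)
        (z := (z₂ ≫ s₀) ≫ i₀)
        ⟨z₁ ≫ k₀, by simp only [Category.assoc, sqt.w], by simp only [Category.assoc, sqs.w]⟩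
        ⟨z₂ ≫ k₀, by rw [← h21]; simp only [Category.assoc, sqt.w], by simp only [Category.assoc, sqs.w]⟩
      exact hlift V _ _ r h₁ h₂
  have hse : Etale s₀.left := MorphismProperty.of_isPullback hs hp.eqvRel.etale_left
  have hte : Etale t₀.left := MorphismProperty.of_isPullback ht hp.eqvRel.etale_right
  haveI := isLocallySurjective_yonQuotπ s₀ t₀
  obtain ⟨hZ, -, -⟩ := isAlgSpace_of_kernelPair (isPullback_yonQuotπ heq') hse hte
  haveI : Sheaf.IsLocallySurjective p := isLocallySurjective_of_repWith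
    (repWith_mono hp.etale fun _ _ g (_ : Etale g) => inferInstance)
    (repWith_mono hp.etale fun _ _ g (_ : Etale g) => inferInstance) hp.surjective
  have hcond : (yon S).map s₀ ≫ (yon S).map i₀ ≫ p = (yon S).map t₀ ≫ (yon S).map i₀ ≫ p := by
    rw [← Functor.map_comp_assoc, ← Functor.map_comp_assoc, sqs.w, sqt.w, Functor.map_comp_assoc,
      Functor.map_comp_assoc, hp.isPullback.w]
  let φ : QuotSh.quot Scheme.fppfPrecoverage s₀ t₀ ⟶ X.obj :=
    coequalizer.desc ((QuotSh.repIsoUliftYoneda Scheme.fppfPrecoverage Z₀).hom ≫ (yon S).map i₀ ≫ p) (by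
      rw [reassoc_of% repIsoUliftYoneda_naturality s₀, reassoc_of% repIsoUliftYoneda_naturality t₀]
      exact congrArg (_ ≫ ·) hcond)
  have hφ : yonQuotπ s₀ t₀ ≫ φ = (yon S).map i₀ ≫ p := by
    simp only [yonQuotπ, Category.assoc, φ, QuotSh.quotπ]
    erw [coequalizer.π_desc, Iso.inv_hom_id_assoc]
  haveI : Sheaf.IsLocallySurjective ((yon S).map s₀) := by
    haveI : Etale s₀.left := hse
    refine isLocallySurjective_yon_map s₀ inferInstance inferInstance ⟨fun z => ?_⟩
    obtain ⟨e, -, he⟩ := (heq'.equivalence Z₀).refl (𝟙 Z₀)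
    exact ⟨e.left z, by rw [← Scheme.Hom.comp_apply, ← Over.comp_left, he]; rfl⟩
  obtain ⟨top, -, sq, htop⟩ := exists_isPullback_quot_restrict t s i₀ p (yonQuotπ s₀ t₀) φ hφ hp.isPullback.w
    (fun V a b hab => by
      obtain ⟨r, hr⟩ := (yon S).map_surjective (hp.isPullback.lift _ _ hab)
      exact ⟨V, 𝟙 V, r, by rw [Over.id_left]; infer_instance, by rw [Over.id_left]; infer_instance,
        by rw [Over.id_left]; infer_instance,
        (yon S).map_injective (by rw [Functor.map_comp, hr, hp.isPullback.lift_fst, Category.id_comp]),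
        (yon S).map_injective (by rw [Functor.map_comp, hr, hp.isPullback.lift_snd, Category.id_comp])⟩)
    (fun V a b r h₁ h₂ => by
      obtain ⟨z, rfl, rfl⟩ := hlift V a b r h₁ h₂
      rw [Functor.map_comp, Functor.map_comp, Category.assoc, Category.assoc, (isPullback_yonQuotπ heq').w])
    t₀ k₀ sqt i₀ s₀ sqs.w
  have etop : top = yonQuotπ s₀ t₀ := by
    rw [← cancel_epi ((yon S).map s₀), htop, (isPullback_yonQuotπ heq').w]
  subst etop
  exact ⟨⟨_, hZ⟩, ObjectProperty.homMk φ, yonQuotπ s₀ t₀,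
    repWith_of_isPullback_immersion sq fppfDescends_isImmersion inferInstance, sq,
    fun h => repWith_of_isPullback_immersion sq fppfDescends_isClosedImmersion h,
    fun h => repWith_of_isPullback_immersion sq fppfDescends_isOpenImmersion h⟩

end Groth.Agent.S10233
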