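import Groth.Statements.S10234
import Groth.Agent.Lib.AlgSp.EtPoints
-- import your own Groth.Agent.* helpers here

set_option autoImplicit false
universe u
open CategoryTheory CategoryTheory.Limits AlgebraicGeometry Topology TopologicalSpace
open AlgSp

namespace Groth.Agent.S10234

/-- Suppose f : X ⟶ Y is a morphism of algebraic spaces over a scheme S that is etale. Then the functor
j : X_etale ⟶ Y_etale, (U ⟶ X) ↦ (U ⟶ X ⟶ Y), is continuous and cocontinuous for the etale
topologies. (The identification of the associated morphism of topoi with f_small, and the resulting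
formula for inverse images, are not part of this row.) -/
theorem result {S : Scheme.{u}} {X Y : AlgSp.Space S} (f : X ⟶ Y)
    (hf : AlgSp.IsEtaleMor f.hom) :
    (AlgSp.EtOver.postcomp f.hom hf).IsContinuous (AlgSp.etTop X.obj) (AlgSp.etTop Y.obj) ∧
      (AlgSp.EtOver.postcomp f.hom hf).IsCocontinuous (AlgSp.etTop X.obj) (AlgSp.etTop Y.obj) := by
  let G := AlgSp.EtOver.postcomp f.hom hf
  haveI : PreservesLimitsOfShape WalkingCospan G := by
    have h0 : ∀ {E₁ E₂ E₀ : AlgSp.EtOver X.obj} (g₁ : E₁ ⟶ E₀) (g₂ : E₂ ⟶ E₀), PreservesLimit (cospan g₁ g₂) G := by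
      intro E₁ E₂ E₀ g₁ g₂
      refine preservesLimit_of_preserves_limit_cone (AlgSp.EtOver.pullbackIsLimit g₁ g₂) ?_
      refine (isLimitMapConePullbackConeEquiv _ _).symm ?_
      let e : G.obj (AlgSp.EtOver.pullbackObj g₁ g₂) ≅ AlgSp.EtOver.pullbackObj (G.map g₁) (G.map g₂) :=
        { hom := AlgSp.EtOver.homMk (𝟙 _) ((congrArg (· ≫ _) (CategoryTheory.Functor.map_id _ _)).trans
            ((Category.id_comp _).trans (Category.assoc _ _ _).symm))
          inv := AlgSp.EtOver.homMk (𝟙 _) ((congrArg (· ≫ _) (CategoryTheory.Functor.map_id _ _)).trans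
            ((Category.id_comp _).trans (Category.assoc _ _ _)))
          hom_inv_id := AlgSp.EtOver.hom_ext _ _ (Category.id_comp _)
          inv_hom_id := AlgSp.EtOver.hom_ext _ _ (Category.id_comp _) }
      exact (IsPullback.of_iso (AlgSp.EtOver.isPullback (G.map g₁) (G.map g₂)) e.symm (Iso.refl _) (Iso.refl _) (Iso.refl _)
        (AlgSp.EtOver.hom_ext _ _ ((Category.comp_id _).trans (Category.id_comp _).symm))
        (AlgSp.EtOver.hom_ext _ _ ((Category.comp_id _).trans (Category.id_comp _).symm))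
        (by simp) (by simp)).isLimit
    exact ⟨fun {K} => haveI := h0 (K.map WalkingCospan.Hom.inl) (K.map WalkingCospan.Hom.inr)
      preservesLimit_of_iso_diagram _ (diagramIsoCospan K).symm⟩
  constructor
  · refine Functor.isContinuous_toGrothendieck_of_pullbacksPreservedBy G (AlgSp.etPre X.obj) (AlgSp.etPre Y.obj) ?_
    intro E R hR
    obtain ⟨ι, Z, g, rfl⟩ := R.exists_eq_ofArrows
    rw [Precoverage.mem_comap_iff, Presieve.map_ofArrows]
    exact (AlgSp.ofArrows_mem_etPre_iff _ _).2 ((AlgSp.ofArrows_mem_etPre_iff Z g).1 hR)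
  · refine ⟨fun {E Q} hQ => ?_⟩
    obtain ⟨Q₀, hQ₀, hle⟩ := (Precoverage.mem_toGrothendieck_iff_of_isStableUnderComposition).1 hQ
    obtain ⟨ι, Z, g, rfl⟩ := Q₀.exists_eq_ofArrows
    have hcov := (AlgSp.ofArrows_mem_etPre_iff Z g).1 hQ₀
    have hrep : ∀ i, AlgSp.RepWith @Etale ((AlgSp.yon S).map (g i).hom.left ≫ E.obj.hom) := fun i =>
      GrothLib.AlgSp.repWith_comp ((AlgSp.repWith_yon_map_iff _ _).2 (AlgSp.EtOver.etale_left (g i))) E.property
    let Z' : ι → AlgSp.EtOver X.obj := fun i => AlgSp.EtOver.mk _ (hrep i)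
    let g' : ∀ i, Z' i ⟶ E := fun i => AlgSp.EtOver.homMk (g i).hom.left rfl
    refine GrothendieckTopology.superset_covering _ ?_ (AlgSp.ofArrows_mem_etTop Z' g' hcov)
    rw [Sieve.generate_le_iff]
    rintro _ _ ⟨i⟩
    let k : G.obj (Z' i) ⟶ Z i := AlgSp.EtOver.homMk (𝟙 _) (by
      refine ((congrArg (· ≫ _) (CategoryTheory.Functor.map_id _ _)).trans (Category.id_comp _)).trans ?_
      exact (AlgSp.EtOver.w (g i)).symm.trans (Category.assoc _ _ _).symm)
    have hk : G.map (g' i) = k ≫ g i := AlgSp.EtOver.hom_ext _ _ (Category.id_comp _).symm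
    show Q (G.map (g' i))
    rw [hk]
    exact Q.downward_closed (hle _ _ ⟨i⟩) k
end Groth.Agent.S10234
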