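import Groth.Statements.S10235
import Groth.Agent.Lib.GrpdQuot.QuotCriteria
-- import your own Groth.Agent.* helpers here

set_option autoImplicit false
universe u
open CategoryTheory CategoryTheory.Limits AlgebraicGeometry Topology TopologicalSpace
open AlgSp

namespace Groth.Agent.S10235

/-- Let (U, R, s, t, c) be a groupoid scheme over a scheme S whose source and target maps s, t : R ⟶ U
are finite locally free and whose map j = (t, s) is an equivalence relation, and suppose that in
each nonempty closed subset of U one can find a point u such that some affine open of U contains the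
whole equivalence class t(s⁻¹{u}) of u. Then there are a scheme M over S and a finite locally free
morphism U ⟶ M over S such that the square with the two maps t, s : R ⟶ U over U ⟶ M is cartesian (R
= U ×_M U) and U ⟶ M exhibits h_M as the quotient of h_U by the pair h_R ⇉ h_U in the category of
fppf sheaves. -/
theorem result {S : Scheme.{u}} (G : Grpd.GroupoidScheme S)
    (hs : Mor2.IsFinLocFree G.s) (ht : Mor2.IsFinLocFree G.t)
    (heq : AlgSp.IsEqvRel (Over.homMk G.s G.s_over : Over.mk G.pR ⟶ Over.mk G.pU) (Over.homMk G.t G.t_over : Over.mk G.pR ⟶ Over.mk G.pU))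
    (h3 : ∀ Z : Set ↥G.U, IsClosed Z → Z.Nonempty →
      ∃ u ∈ Z, ∃ W : G.U.Opens, IsAffineOpen W ∧ ∀ r : ↥G.R, G.s r = u → G.t r ∈ W) :
    ∃ (M : Over S) (m : Over.mk G.pU ⟶ M), Mor2.IsFinLocFree m.left ∧ IsPullback G.t G.s m.left m.left ∧
      QuotSh.IsQuotient Scheme.fppfPrecoverage (Over.homMk G.s G.s_over : Over.mk G.pR ⟶ Over.mk G.pU) (Over.homMk G.t G.t_over : Over.mk G.pR ⟶ Over.mk G.pU) m := by
  obtain ⟨hs₁, hs₂, hs₃⟩ := hs
  have hmono : Mono G.j := GrothLib.GrpdQuot.mono_j_of_ext G fun a b h₁ h₂ => by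
    have hw : b ≫ G.pR = a ≫ G.pR := by rw [← G.s_over, ← Category.assoc, ← h₂, Category.assoc]
    let A : Over.mk (a ≫ G.pR) ⟶ Over.mk G.pR := Over.homMk a rfl
    let B : Over.mk (a ≫ G.pR) ⟶ Over.mk G.pR := Over.homMk b hw
    exact congrArg (fun f : Over.mk (a ≫ G.pR) ⟶ Over.mk G.pR => f.left)
      (heq.injective _ A B (Over.OverMorphism.ext h₁) (Over.OverMorphism.ext h₂))
  obtain ⟨M, m, hm, -, hpb, hq⟩ := GrothLib.GrpdQuot.exists_fppf_quotient G
    (GrothLib.GrpdQuot.covered_of_closed G h3)
  exact ⟨M, m, hm, hpb, hq⟩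

end Groth.Agent.S10235
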