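import Groth.Statements.S10239
import Groth.Agent.Lib.AlgSp.EtBranches
-- import your own Groth.Agent.* helpers here

set_option autoImplicit false
universe u
open CategoryTheory CategoryTheory.Limits AlgebraicGeometry Topology TopologicalSpace
open AlgSp

namespace Groth.Agent.S10239

/-- (1) ⇔ (4) ⇔ (5): let X be an algebraic space over a scheme S, x ∈ |X| and n ≥ 1 an integer. The
following are equivalent: (1) for every scheme U, etale h_U ⟶ X and u ∈ U over x the local ring of U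
at u has at most n minimal primes, and for some such (U, u) exactly n; (4) for every such (U, u) the
number of geometric branches of U at u is n; (5) for every geometric point x̄ over x the etale local
ring of X at x̄ has exactly n minimal primes. -/
theorem result {S : Scheme.{u}} (X : AlgSp.Space S) (x : AlgSp.Points X.obj)
    (n : ℕ) (hn : 1 ≤ n) :
    (((∀ (U : Over S) (a : (AlgSp.yon S).obj U ⟶ X.obj) (u : ↥U.left),
        AlgSp.RepWith @Etale a → AlgSp.Points.ofPt a u = x → (minimalPrimes ↥(U.left.presheaf.stalk u)).encard ≤ n) ∧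
        AlgSp.HasAt (fun U u => (minimalPrimes ↥(U.presheaf.stalk u)).encard = n) X.obj x) ↔
      (∀ (U : Over S) (a : (AlgSp.yon S).obj U ⟶ X.obj) (u : ↥U.left),
        AlgSp.RepWith @Etale a → AlgSp.Points.ofPt a u = x → Brnch.numGeomBranchesAt U.left u = n)) ∧
    ((∀ (U : Over S) (a : (AlgSp.yon S).obj U ⟶ X.obj) (u : ↥U.left),
        AlgSp.RepWith @Etale a → AlgSp.Points.ofPt a u = x → Brnch.numGeomBranchesAt U.left u = n) ↔
      ∀ p : AlgSp.FieldPt X.obj, p.IsGeometric → AlgSp.Points.mk p = x →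
        (minimalPrimes ↥(AlgSp.OEtStalk p)).encard = n) := by
  obtain ⟨U₀, a₀, ha₀, hs₀⟩ := X.property.atlas
  obtain ⟨x₀, hx₀⟩ := GrothLib.AlgSp.surjective_ofPt_of_repWith hs₀ x
  obtain ⟨p₀, hp₀, -, -, hpx₀⟩ := GrothLib.AlgSp.exists_geometric_liftsTo (AlgSp.EtOver.mk a₀ ha₀) x₀
  have h₀ : AlgSp.Points.mk p₀ = x := hpx₀.trans hx₀
  refine ⟨⟨fun h U a u ha hu => ?_, fun h => ⟨fun U a u ha hu => ?_, ?_⟩⟩, ⟨fun h p hp hpx => ?_, fun h U a u ha hu => ?_⟩⟩
  · refine le_antisymm (GrothLib.AlgSp.numGeomBranchesAt_le X a ha u _ fun U' a' u' ha' hu' =>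
      h.1 U' a' u' ha' (hu'.trans hu)) ?_
    obtain ⟨U', a', u', ha', hu', he⟩ := h.2
    rw [GrothLib.AlgSp.numGeomBranchesAt_eq_of_ofPt_eq X a ha u a' ha' u' (hu.trans hu'.symm), ← he]
    exact GrothLib.AlgSp.encard_minimalPrimes_le_numGeomBranchesAt u'
  · rw [← h U a u ha hu]
    exact GrothLib.AlgSp.encard_minimalPrimes_le_numGeomBranchesAt u
  · obtain ⟨U', a', u', ha', hu', he⟩ := GrothLib.AlgSp.exists_chart_encard_eq X a₀ ha₀ x₀ n hn (h U₀ a₀ x₀ ha₀ hx₀)
    exact ⟨U', a', u', ha', hu'.trans hx₀, he⟩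
  · rw [GrothLib.AlgSp.encard_minimalPrimes_OEtStalk X p hp a₀ ha₀ x₀ (hx₀.trans hpx.symm)]
    exact h U₀ a₀ x₀ ha₀ hx₀
  · rw [← GrothLib.AlgSp.encard_minimalPrimes_OEtStalk X p₀ hp₀ a ha u (hu.trans h₀.symm)]
    exact h p₀ hp₀ h₀
end Groth.Agent.S10239
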