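import Groth.Statements.S10240
import Groth.Agent.Lib.AlgSp.QCohFPEt
import Groth.Agent.Lib.AlgSp.QCohExt
import Groth.Agent.Lib.AlgSp.QCohColimit
-- import your own Groth.Agent.* helpers here

set_option autoImplicit false
universe u
open CategoryTheory CategoryTheory.Limits AlgebraicGeometry Topology TopologicalSpace
open AlgSp GrothLib.AlgSp GrothLib.AlgSp.QCohEt
set_option backward.isDefEq.respectTransparency false

namespace Groth.Agent.S10240

/-- Let X be an algebraic space over a scheme S. Colimits of quasi-coherent O_X-modules are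
quasi-coherent; kernels and cokernels of maps between quasi-coherent O_X-modules are quasi-coherent;
and in a short exact sequence of O_X-modules, if two out of three are quasi-coherent then so is the
third. -/
theorem result {S : Scheme.{u}} (X : AlgSp.Space S) :
    (∀ (J : Type u) [SmallCategory J] (D : J ⥤ AlgSp.ModEt X.obj) [HasColimit D],
        (∀ j, (D.obj j).IsQuasicoherent) → (colimit D).IsQuasicoherent) ∧
    (∀ (F G : AlgSp.ModEt X.obj) (φ : F ⟶ G), F.IsQuasicoherent → G.IsQuasicoherent →
        (kernel φ).IsQuasicoherent ∧ (cokernel φ).IsQuasicoherent) ∧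
    (∀ C : ShortComplex (AlgSp.ModEt X.obj), C.ShortExact →
        (C.X₁.IsQuasicoherent → C.X₂.IsQuasicoherent → C.X₃.IsQuasicoherent) ∧
        (C.X₁.IsQuasicoherent → C.X₃.IsQuasicoherent → C.X₂.IsQuasicoherent) ∧
        (C.X₂.IsQuasicoherent → C.X₃.IsQuasicoherent → C.X₁.IsQuasicoherent)) := by
  refine ⟨fun J _ D _ hD => isQuasicoherent_of_good _ fun E hE => ?_, fun F G φ hF hG => ⟨?_, ?_⟩, fun C hC =>
    ⟨fun h₁ h₂ => ?_, fun h₁ h₃ => ?_, fun h₂ h₃ => ?_⟩⟩
  · exact good_colimit (affEt X.obj) D hE fun j => @good_of_isQuasicoherent _ _ (D.obj j) (hD j) E hE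
  · refine isQuasicoherent_of_good _ fun E hE => ?_
    let T : ShortComplex (AlgSp.ModEt X.obj) := ShortComplex.mk (kernel.ι φ) φ (kernel.condition φ)
    haveI : Mono T.f := inferInstanceAs (Mono (kernel.ι φ))
    exact good_left (affEt X.obj) (T := T) (ShortComplex.exact_of_f_is_kernel _ (kernelIsKernel φ)) hE
      (@good_of_isQuasicoherent _ _ F hF E hE) (@good_of_isQuasicoherent _ _ G hG E hE)
  · refine isQuasicoherent_of_good _ fun E hE => ?_
    let T : ShortComplex (AlgSp.ModEt X.obj) := ShortComplex.mk φ (cokernel.π φ) (cokernel.condition φ)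
    haveI : Epi T.g := inferInstanceAs (Epi (cokernel.π φ))
    exact good_right (affEt X.obj) (T := T) (ShortComplex.exact_of_g_is_cokernel _ (cokernelIsCokernel φ)) hE
      (@good_of_isQuasicoherent _ _ F hF E hE) (@good_of_isQuasicoherent _ _ G hG E hE)
  · haveI := hC.epi_g
    exact isQuasicoherent_of_good _ fun E hE => good_right (affEt X.obj) hC.exact hE
      (@good_of_isQuasicoherent _ _ _ h₁ E hE) (@good_of_isQuasicoherent _ _ _ h₂ E hE)
  · haveI := hC.epi_g
    haveI := hC.mono_f
    exact isQuasicoherent_of_good _ fun E hE => good_middle (affEt X.obj) hC.exact hE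
      (fun Z _ hZ => @good_of_isQuasicoherent _ _ _ h₁ Z hZ) (@good_of_isQuasicoherent _ _ _ h₃ E hE)
  · haveI := hC.mono_f
    exact isQuasicoherent_of_good _ fun E hE => good_left (affEt X.obj) hC.exact hE
      (@good_of_isQuasicoherent _ _ _ h₂ E hE) (@good_of_isQuasicoherent _ _ _ h₃ E hE)

end Groth.Agent.S10240
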