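import Groth.Statements.S10242
import Groth.Agent.Lib.AlgSp.EtaleLocallyProps
import Groth.Agent.Lib.AlgSp.Points
-- import your own Groth.Agent.* helpers here

set_option autoImplicit false
universe u
open CategoryTheory CategoryTheory.Limits AlgebraicGeometry Topology TopologicalSpace
open AlgSp

namespace Groth.Agent.S10242

/-- Let X be a reduced algebraic space over a scheme S. Then the ring of global sections of the
structure sheaf of X (on the small etale site) is reduced, and if a global section f satisfies X =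
V(f), meaning that its restriction to every scheme U etale over X has empty non-vanishing locus
D(f|_U), then f = 0. -/
theorem result {S : Scheme.{u}} (X : AlgSp.Space S) (hX : AlgSp.IsReducedSp X.obj) :
    _root_.IsReduced ↥(AlgSp.gsectEt (AlgSp.OEt X.obj)) ∧
      ∀ f : ↥(AlgSp.gsectEt (AlgSp.OEt X.obj)),
        (∀ E : AlgSp.EtOver X.obj,
            E.obj.left.left.basicOpen ((limit.π (AlgSp.OEt X.obj).obj (Opposite.op E)) f).down = ⊥) →
          f = 0 := by
  obtain ⟨U, a, ha, has, hU⟩ := hX
  have hred : ∀ E : AlgSp.EtOver X.obj, IsReduced E.obj.left.left := by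
    intro E
    obtain ⟨V, fst, c, sq⟩ := GrothLib.AlgSp.exists_isPullback_of_representable ha.1 E.obj.hom
    obtain ⟨d, rfl⟩ := (AlgSp.yon S).map_surjective fst
    exact GrothLib.AlgSp.isReduced_desc c.left (ha.2 _ _ _ sq) (has.2 _ _ _ sq)
      (GrothLib.AlgSp.isReduced_of_etale d.left (E.property.2 _ _ _ sq.flip) hU)
  have ext0 : ∀ z : ↥(AlgSp.gsectEt (AlgSp.OEt X.obj)),
      (∀ E : AlgSp.EtOver X.obj, ((limit.π (AlgSp.OEt X.obj).obj (Opposite.op E)) z).down = 0) → z = 0 := by
    intro z hz
    refine Concrete.limit_ext _ _ _ fun j => ?_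
    rw [map_zero]
    exact ULift.ext _ _ (hz j.unop)
  refine ⟨⟨fun z hz => ext0 z fun E => ?_⟩, fun f hf => ext0 f fun E => ?_⟩
  · haveI := hred E
    obtain ⟨n, hn⟩ := hz.map ((ULift.ringEquiv (R := Γ(E.obj.left.left, ⊤))).toRingHom.comp
      (limit.π (AlgSp.OEt X.obj).obj (Opposite.op E)).hom)
    exact @IsReduced.eq_zero _ _ _ (inferInstanceAs (_root_.IsReduced Γ(E.obj.left.left, ⊤))) _ ⟨n, hn⟩
  · haveI := hred E
    exact (@AlgebraicGeometry.basicOpen_eq_bot_iff E.obj.left.left (hred E) ⊤ _).1 (hf E)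
end Groth.Agent.S10242
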