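import Groth.Statements.S10245
import Groth.Agent.Lib.GrpdQuot.QuotCriteria
import Groth.Agent.Lib.GrpdQuot.ActionGrpd
-- import your own Groth.Agent.* helpers here

set_option autoImplicit false
universe u
open CategoryTheory CategoryTheory.Limits MonoidalCategory CartesianMonoidalCategory MonObj AlgebraicGeometry Topology TopologicalSpace
open AlgSp

namespace Groth.Agent.S10245

/-- Let G ⟶ S be a finite locally free group scheme over a scheme S acting on a scheme X over S by a : G
×_S X ⟶ X, freely on T-valued points for every S-scheme T. Assume one of the following: the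
structure morphism X ⟶ S is affine; X admits an open immersion into some affine scheme; G ⟶ S is
radicial (universally injective). Then the fppf quotient sheaf X/G is a scheme M: there is q : X ⟶ M
over S exhibiting h_M as the quotient of h_X by the projection and the action G ×_S X ⇉ X in fppf
sheaves; moreover the square formed by the action, the projection and q is cartesian (G ×_S X ≅ X
×_M X) and X ⟶ M has sections fppf locally on M, so that X ⟶ X/G is an fppf G-torsor. (The published
statement also allows X ⟶ S quasi-affine, projective or quasi-projective, or X an open subscheme of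
Proj of a graded ring; those cases are not covered by this row.) -/
theorem result {S : Scheme.{u}} (G X : Over S) [GrpObj G]
    (a : AlgGrp.Action G X) (hG : Mor2.IsFinLocFree G.hom)
    (hfree : ∀ (T : Over S) (g : T ⟶ G) (x : T ⟶ X), lift g x ≫ a.act = x → g = toUnit T ≫ η[G])
    (h3 : IsAffineHom X.hom ∨ (∃ (R : CommRingCat.{u}) (i : X.left ⟶ Spec R), IsOpenImmersion i) ∨
      UniversallyInjective G.hom) :
    ∃ (M : Over S) (q : X ⟶ M), QuotSh.IsQuotient Scheme.fppfPrecoverage (snd G X) a.act q ∧
      IsPullback a.act.left (snd G X).left q.left q.left ∧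
      NonAbH1.IsLocallyTrivialFor Scheme.fppfPrecoverage (Over.mk q.left) := by
  have hf : GrothLib.GrpdQuot.ActionFree a := fun T g x h => (hfree T g x h).trans Hom.one_def.symm
  let GA := GrothLib.GrpdQuot.actionGrpd a hf
  obtain ⟨hG₁, hG₂, hG₃⟩ := hG
  haveI : IsFinite GA.s := GrothLib.GrpdQuot.property_snd @IsFinite hG₁
  haveI : Flat GA.s := GrothLib.GrpdQuot.property_snd @Flat hG₂
  haveI : LocallyOfFinitePresentation GA.s :=
    GrothLib.GrpdQuot.property_snd @LocallyOfFinitePresentation hG₃
  haveI : Mono GA.j := GrothLib.GrpdQuot.mono_actionGrpd_j a hf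
  have hcov : GrothLib.GrpdQuot.Covered GA := by
    intro x
    rcases h3 with h | ⟨A, i, hi⟩ | h
    · haveI := h
      obtain ⟨_, ⟨V, hV, rfl⟩, hxV, -⟩ :=
        S.isBasis_affineOpens.exists_subset_of_mem_open (Set.mem_univ (X.hom x)) isOpen_univ
      refine ⟨X.hom ⁻¹ᵁ V, hV.preimage X.hom, fun r hr => ?_⟩
      show X.hom (GA.t r) ∈ V
      have e : X.hom (GA.t r) = X.hom x :=
        (Scheme.Hom.comp_apply GA.t X.hom r).symm.trans
          ((congrArg (fun g : GA.R ⟶ S => g r) (GrothLib.GrpdQuot.action_cond a)).trans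
            ((Scheme.Hom.comp_apply GA.s X.hom r).trans (congrArg X.hom hr)))
      exact e.symm ▸ hxV
    · haveI := hi
      let E : Set X.left := ⇑GA.t '' (⇑GA.s ⁻¹' {x})
      have hE : E.Finite := (IsFinite.finite_preimage_singleton GA.s x).image _
      classical
      obtain ⟨h, hh, hhE⟩ := GrothLib.GrpdQuot.exists_mem_avoid
        (PrimeSpectrum.vanishingIdeal (Set.range i)ᶜ) (hE.image i).toFinset (fun p hp => by
          obtain ⟨e, -, rfl⟩ := (hE.image i).mem_toFinset.mp hp
          rw [PrimeSpectrum.zeroLocus_vanishingIdeal_eq_closure]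
          exact fun h => i.isOpenEmbedding.isOpen_range.isClosed_compl.closure_subset h ⟨e, rfl⟩)
      let D : (Spec A).Opens := PrimeSpectrum.basicOpen h
      have hle : D ≤ i.opensRange := fun p hp => by
        by_contra hn
        exact hp ((PrimeSpectrum.mem_vanishingIdeal _ _).mp hh p hn)
      exact ⟨i ⁻¹ᵁ D, (IsAffineOpen.Spec_basicOpen h).preimage_of_isOpenImmersion i hle,
        fun r hr => hhE _ ((hE.image i).mem_toFinset.mpr ⟨_, ⟨r, hr, rfl⟩, rfl⟩)⟩
    · obtain ⟨_, ⟨V, hV, rfl⟩, hxV, -⟩ :=
        X.left.isBasis_affineOpens.exists_subset_of_mem_open (Set.mem_univ x) isOpen_univ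
      refine ⟨V, hV, fun r hr => ?_⟩
      haveI := h
      haveI : UniversallyInjective GA.s := GrothLib.GrpdQuot.property_snd @UniversallyInjective h
      have he : GA.e x = r := GA.s.injective (by
        rw [← Scheme.Hom.comp_apply, GA.e_s, hr]; rfl)
      rw [← he, ← Scheme.Hom.comp_apply, GA.e_t]
      exact hxV
  obtain ⟨M, m, hm, hsurj, hpb, hq⟩ := GrothLib.GrpdQuot.exists_fppf_quotient GA hcov
  refine ⟨M, (Over.homMk m.left (Over.w m) : X ⟶ M), ?_, hpb, ?_⟩
  · obtain ⟨h₁, h₂, h₃⟩ := hm
    let q : X ⟶ M := Over.homMk m.left (Over.w m)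
    haveI : Flat q.left := h₂
    haveI : LocallyOfFinitePresentation q.left := h₃
    haveI : Surjective q.left := hsurj
    exact GrothLib.GrpdQuot.isQuotient_of_kernelPair (snd G X) a.act q hpb
  · obtain ⟨h₁, h₂, h₃⟩ := hm
    haveI := h₂
    haveI := h₃
    haveI := hsurj
    refine ⟨Presieve.singleton m.left, GrothLib.GrpdQuot.singleton_mem_fppf m.left, ?_⟩
    rintro _ f ⟨⟩
    exact ⟨𝟙 _, Category.id_comp _⟩

end Groth.Agent.S10245
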