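import Groth.Statements.S10246
import Groth.Agent.Lib.AlgSp.Quotient
import Groth.Agent.Lib.AlgSp.FpqcAffine
-- import your own Groth.Agent.* helpers here

set_option autoImplicit false
universe u
open CategoryTheory CategoryTheory.Limits AlgebraicGeometry Topology TopologicalSpace
open AlgSp GrothLib.AlgSp
set_option backward.isDefEq.respectTransparency false

namespace Groth.Agent.S10246

/-- Let X be an algebraic space over a terminal base scheme (so that morphisms over the base are all
morphisms) and T an affine scheme. Then f ↦ f♯ is a bijection from morphisms X ⟶ T to ring maps Γ(T,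
O_T) ⟶ Γ(X, O_X), where Γ(X, O_X) is the ring of global sections of the structure sheaf on the small
etale site and f♯ is characterised by: for every scheme U etale over X, following f♯ by the
restriction Γ(X, O_X) ⟶ Γ(U, O_U) gives the map on global sections of the induced morphism U ⟶ T. -/
theorem result {S : Scheme.{u}} (hS : IsTerminal S) (X : AlgSp.Space S)
    (T : Over S) [IsAffine T.left] (φ : Γ(T.left, ⊤) →+* ↥(AlgSp.gsectEt (AlgSp.OEt X.obj))) :
    ∃! f : X.obj ⟶ (AlgSp.yon S).obj T,
      ∀ (E : AlgSp.EtOver X.obj) (r : Γ(T.left, ⊤)),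
        ((limit.π (AlgSp.OEt X.obj).obj (Opposite.op E)) (φ r)).down =
          ((AlgSp.yon S).preimage (E.obj.hom ≫ f)).left.appTop r := by
  let ψ : ∀ E : EtOver X.obj, Γ(T.left, ⊤) →+* Γ(E.obj.left.left, ⊤) := fun E =>
    (ULift.ringEquiv.toRingHom.comp ((limit.π (OEt X.obj).obj (Opposite.op E)).hom.comp φ))
  have hψ : ∀ {E E' : EtOver X.obj} (g : E' ⟶ E) (r), g.hom.left.left.appTop.hom (ψ E r) = ψ E' r := fun {E E'} g r => by
    refine Eq.trans ?_ (congrArg (fun z : gsectEt (OEt X.obj) ⟶ (OEt X.obj).obj.obj (Opposite.op E') => ((CommRingCat.Hom.hom z) (φ r)).down) (limit.w (OEt X.obj).obj g.op))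
    rfl
  let h : ∀ E : EtOver X.obj, E.obj.left ⟶ T := fun E =>
    Over.homMk (E.obj.left.left.toSpecΓ ≫ Spec.map (CommRingCat.ofHom (ψ E)) ≫ T.left.isoSpec.inv) (hS.hom_ext _ _)
  have happ : ∀ E r, (h E).left.appTop.hom r = ψ E r := fun E r => by
    have e : (h E).left.appTop = CommRingCat.ofHom (ψ E) := by
      change (E.obj.left.left.toSpecΓ ≫ Spec.map (CommRingCat.ofHom (ψ E)) ≫ T.left.isoSpec.inv).appTop = _
      simp only [Scheme.Hom.comp_appTop, Scheme.toSpecΓ_appTop, Category.assoc]
      simp [Scheme.toSpecΓ_appTop]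
      have e₀ : T.left.isoSpec.inv.appTop ≫ (Scheme.ΓSpecIso Γ(T.left, ⊤)).hom = 𝟙 _ := by
        rw [← Scheme.toSpecΓ_appTop]
        exact congrArg Scheme.Hom.appTop T.left.isoSpec.hom_inv_id
      exact (reassoc_of% e₀) _
    exact congrArg (fun z => (CommRingCat.Hom.hom z) r) e
  have hext : ∀ {W : Over S} (p q : W ⟶ T), (∀ r, p.left.appTop.hom r = q.left.appTop.hom r) → p = q := fun p q e =>
    Over.OverMorphism.ext (ext_of_isAffine (CommRingCat.hom_ext (RingHom.ext e)))
  have hnat : ∀ {E E' : EtOver X.obj} (g : E' ⟶ E), g.hom.left ≫ h E = h E' := fun {E E'} g => hext _ _ fun r => by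
    rw [Over.comp_left, Scheme.Hom.comp_appTop, CommRingCat.comp_apply, happ, happ, hψ]
  obtain ⟨U, a, ha, has⟩ := X.property.atlas
  haveI : Sheaf.IsLocallySurjective a := chart_isLocallySurjective ha has
  haveI : Epi a := (Sheaf.isLocallySurjective_iff_epi a).1 inferInstance
  haveI := IsRegularEpiCategory.regularEpiOfEpi a
  obtain ⟨R, t, s, sq⟩ := exists_isPullback_yon X.property.diag a a
  let EU : EtOver X.obj := EtOver.mk a ha
  let ER : EtOver X.obj := EtOver.mk ((yon S).map t ≫ a) (repWith_comp (repWith_of_isPullback sq.flip ha) ha)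
  obtain ⟨f, hf⟩ := IsRegularEpi.exists_of_isKernelPair a sq ((yon S).map (h EU)) (by
    rw [← Functor.map_comp, ← Functor.map_comp]
    exact congrArg _ ((hnat (EtOver.homMk (E := ER) (E' := EU) t rfl)).trans
      (hnat (EtOver.homMk (E := ER) (E' := EU) s sq.w.symm)).symm))
  refine ⟨f, fun E r => ?_, fun g hg => ?_⟩
  · obtain ⟨Q, p, q, sqQ⟩ := exists_isPullback_yon X.property.diag E.obj.hom a
    let EQ : EtOver X.obj := EtOver.mk ((yon S).map p ≫ E.obj.hom)
      (repWith_comp (repWith_of_isPullback sqQ.flip ha) E.property)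
    haveI : Sheaf.IsLocallySurjective ((yon S).map p) := isLocallySurjective_of_isPullback sqQ.flip
    haveI : Epi ((yon S).map p) := (Sheaf.isLocallySurjective_iff_epi _).1 inferInstance
    have key : E.obj.hom ≫ f = (yon S).map (h E) := by
      rw [← cancel_epi ((yon S).map p), ← Category.assoc, sqQ.w, Category.assoc, hf, ← Functor.map_comp,
        ← Functor.map_comp]
      exact congrArg _ ((hnat (EtOver.homMk (E := EQ) (E' := EU) q sqQ.w.symm)).trans
        (hnat (EtOver.homMk (E := EQ) (E' := E) p rfl)).symm)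
    rw [key, Functor.preimage_map]
    exact (happ E r).symm
  · rw [← cancel_epi a, hf]
    obtain ⟨g', hg'⟩ := (yon S).map_surjective (a ≫ g)
    rw [← hg']
    refine congrArg _ (hext _ _ fun r => ?_)
    have e := hg EU r
    rw [show EU.obj.hom ≫ g = (yon S).map g' from hg'.symm, Functor.preimage_map] at e
    exact e.symm.trans (happ EU r).symm

end Groth.Agent.S10246
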