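import Groth.Statements.S10247
import Groth.Agent.Lib.AlgSp.LocP
-- import your own Groth.Agent.* helpers here

set_option autoImplicit false
universe u
open CategoryTheory CategoryTheory.Limits AlgebraicGeometry Topology TopologicalSpace
open AlgSp
set_option backward.isDefEq.respectTransparency false

namespace Groth.Agent.S10247

/-- Let X be an algebraic space over a scheme S. Together with its structure sheaf O_X, the small etale
site of X is a locally ringed site: for every scheme U etale over X and every global function f on U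
there is a covering sieve of U in the small etale site along each of whose arrows f or 1 - f pulls
back to a unit, and whenever 0 = 1 holds in the ring of global functions of U the empty sieve covers
U. -/
theorem result {S : Scheme.{u}} (X : AlgSp.Space S) :
    ModSite.IsLocallyRinged (AlgSp.etTop X.obj) (AlgSp.OEt X.obj) := by
  refine ⟨fun E f => ?_, fun E h => ?_⟩
  · let V := E.obj.left.left
    let φ₀ : Γ(V, ⊤) := f.down
    let O : Bool → V.Opens := fun b => bif b then V.basicOpen φ₀ else V.basicOpen (1 - φ₀)
    let Ei : Bool → AlgSp.EtOver X.obj := fun b => AlgSp.EtOver.mk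
      ((AlgSp.yon S).map (Over.homMk (O b).ι rfl : Over.mk ((O b).ι ≫ E.obj.left.hom) ⟶ E.obj.left) ≫ E.obj.hom)
      (GrothLib.AlgSp.repWith_comp ((AlgSp.repWith_yon_map_iff _ _).2 (show Etale (O b).ι by infer_instance)) E.property)
    let gi : ∀ b, Ei b ⟶ E := fun b =>
      AlgSp.EtOver.homMk (Over.homMk (O b).ι rfl : Over.mk ((O b).ι ≫ E.obj.left.hom) ⟶ E.obj.left) rfl
    refine ⟨Sieve.ofArrows Ei gi, AlgSp.ofArrows_mem_etTop _ _ fun x => ?_, ?_⟩
    · have : IsUnit ((V.presheaf.germ ⊤ x trivial).hom φ₀) ∨
          IsUnit ((V.presheaf.germ ⊤ x trivial).hom (1 - φ₀)) := by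
        rw [map_sub, map_one]
        exact IsLocalRing.isUnit_or_isUnit_of_add_one (by abel)
      rcases this with h | h
      · exact ⟨true, ⟨x, (V.mem_basicOpen φ₀ x (show x ∈ (⊤ : V.Opens) from trivial)).2 h⟩, rfl⟩
      · exact ⟨false, ⟨x, (V.mem_basicOpen (1 - φ₀) x (show x ∈ (⊤ : V.Opens) from trivial)).2 h⟩, rfl⟩
    · rintro V' g ⟨Y, k, _, hmem, rfl⟩
      obtain ⟨b⟩ := hmem
      have hu : ∀ (φ : Γ(V, ⊤)), IsUnit ((V.basicOpen φ).ι.appTop.hom φ) := fun φ => by
        refine RingedSpace.isUnit_of_isUnit_germ _ _ _ fun y _ => ?_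
        have h1 := ((V.mem_basicOpen φ ((V.basicOpen φ).ι y) (show _ ∈ (⊤ : V.Opens) from trivial)).1 y.2).map
          ((V.basicOpen φ).ι.stalkMap y).hom
        erw [Scheme.Hom.germ_stalkMap_apply] at h1
        exact h1
      rw [op_comp, Functor.map_comp]
      simp only [CommRingCat.comp_apply]
      cases b
      · right
        refine RingHom.isUnit_map _ ?_
        exact ((hu (1 - φ₀)).map (ULift.ringEquiv.symm : _ ≃+* ULift.{u + 1} Γ((Ei false).obj.left.left, ⊤)).toRingHom)
      · left
        refine RingHom.isUnit_map _ ?_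
        exact ((hu φ₀).map (ULift.ringEquiv.symm : _ ≃+* ULift.{u + 1} Γ((Ei true).obj.left.left, ⊤)).toRingHom)
  · have he : IsEmpty E.obj.left.left := ⟨fun x => by
      have h' : (0 : Γ(E.obj.left.left, ⊤)) = 1 := congrArg ULift.down h
      have := congrArg (E.obj.left.left.presheaf.germ ⊤ x trivial).hom h'
      rw [map_zero, map_one] at this
      exact zero_ne_one this⟩
    have := AlgSp.ofArrows_mem_etTop (X := X.obj) (E := E) (ι := Empty) (fun i => i.elim) (fun i => i.elim)
      fun x => he.elim x
    convert this using 1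
    apply Sieve.ext
    intro Y g
    constructor
    · exact fun h => h.elim
    · rintro ⟨_, _, _, ⟨i⟩, -⟩
      exact i.elim

end Groth.Agent.S10247
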