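import Groth.Agent.Lib.AlgSp.PointProps
import Groth.Statements.S10249
-- import your own Groth.Agent.* helpers here

set_option autoImplicit false
universe u
open CategoryTheory CategoryTheory.Limits AlgebraicGeometry Topology TopologicalSpace
open AlgSp

namespace Groth.Agent.S10249

/-- Let X and Y be algebraic spaces over a scheme S, f : X ⟶ Y an etale morphism and x ∈ |X| with image
y ∈ |Y|. Then (1) X at x and Y at y have the same dimension: for every d, some etale chart h_U ⟶ X
from a scheme U and some point u of U over x have local dimension d (of the topological space U at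
u) if and only if the same holds for Y at y; and (2) the local rings of X at x and of Y at y have
the same Krull dimension, in the same some-chart sense with the Krull dimension of the local ring of
U at u. -/
theorem result {S : Scheme.{u}} {X Y : AlgSp.Space S} (f : X ⟶ Y)
    (hf : AlgSp.IsEtaleMor f.hom) (x : AlgSp.Points X.obj) :
    (∀ d : WithBot ℕ∞,
        AlgSp.HasAt (fun U u => FlatMor.localDim ↥U u = d) X.obj x ↔
          AlgSp.HasAt (fun U u => FlatMor.localDim ↥U u = d) Y.obj (AlgSp.Points.map f.hom x)) ∧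
    (∀ d : WithBot ℕ∞,
        AlgSp.HasAt (fun U u => ringKrullDim ↥(U.presheaf.stalk u) = d) X.obj x ↔
          AlgSp.HasAt (fun U u => ringKrullDim ↥(U.presheaf.stalk u) = d) Y.obj (AlgSp.Points.map f.hom x)) := by
  obtain ⟨U, a, ha, hs⟩ := X.property.atlas
  obtain ⟨u, rfl⟩ := GrothLib.AlgSp.surjective_ofPt_of_repWith hs x
  have ha' : RepWith @Etale (a ≫ f.hom) := hf a ha
  rw [Points.map_ofPt]
  refine ⟨fun d => ?_, fun d => ?_⟩
  · have hQ : ∀ ⦃A B : Scheme.{u}⦄ (k : A ⟶ B), Etale k → ∀ z, FlatMor.localDim ↥A z = d ↔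
        FlatMor.localDim ↥B (k z) = d := fun A B k hk z => by rw [GrothLib.EtFibre.localDim_eq_of_etale k z]
    exact (GrothLib.AlgSp.hasAt_iff (Q := fun U u => FlatMor.localDim ↥U u = d) X.property hQ ha u).trans
      (GrothLib.AlgSp.hasAt_iff (Q := fun U u => FlatMor.localDim ↥U u = d) Y.property hQ ha' u).symm
  · have hQ : ∀ ⦃A B : Scheme.{u}⦄ (k : A ⟶ B), Etale k → ∀ z, ringKrullDim ↥(A.presheaf.stalk z) = d ↔
        ringKrullDim ↥(B.presheaf.stalk (k z)) = d := fun A B k hk z => by
      rw [GrothLib.AlgSp.ringKrullDim_stalk_eq_of_etale k z]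
    exact (GrothLib.AlgSp.hasAt_iff (Q := fun U u => ringKrullDim ↥(U.presheaf.stalk u) = d) X.property hQ ha u).trans
      (GrothLib.AlgSp.hasAt_iff (Q := fun U u => ringKrullDim ↥(U.presheaf.stalk u) = d) Y.property hQ ha' u).symm

end Groth.Agent.S10249
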