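import Groth.Agent.Lib.AlgSp.PointProps
import Groth.Statements.S10250
-- import your own Groth.Agent.* helpers here

set_option autoImplicit false
universe u
open CategoryTheory CategoryTheory.Limits AlgebraicGeometry Topology TopologicalSpace
open AlgSp

namespace Groth.Agent.S10250

/-- Let f : X ⟶ Y be an etale and surjective morphism of algebraic spaces over a scheme S. Then X and Y
have the same dimension (the dimension of an algebraic space being the supremum of the Krull
dimensions of the schemes etale over it). -/
theorem result {S : Scheme.{u}} {X Y : AlgSp.Space S} (f : X ⟶ Y)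
    (hf : AlgSp.IsEtaleMor f.hom) (hs : AlgSp.IsSurjectiveMor f.hom) :
    AlgSp.dim X.obj = AlgSp.dim Y.obj := by
  apply le_antisymm
  · exact iSup_le fun U => iSup_le fun a => iSup_le fun ha =>
      le_iSup_of_le U (le_iSup_of_le (a ≫ f.hom) (le_iSup_of_le (hf a ha) le_rfl))
  · refine iSup_le fun V => iSup_le fun q => iSup_le fun qe => ?_
    have sq := IsPullback.of_hasPullback f.hom q
    obtain ⟨U, p, pe, ps⟩ := (GrothLib.AlgSp.isAlgSpace_pullback' Y.property X.property (IsAlgSpace.yon_obj V)
      f.hom q).atlas
    let α : U ⟶ V := (yon S).preimage (p ≫ pullback.snd f.hom q)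
    have hp : (p ≫ pullback.fst f.hom q) ≫ f.hom = (yon S).map α ≫ q := by
      rw [Functor.map_preimage, Category.assoc, Category.assoc, pullback.condition]
    have pe' : RepWith @Etale (p ≫ pullback.fst f.hom q) :=
      GrothLib.AlgSp.repWith_comp pe (GrothLib.AlgSp.repWith_of_isPullback sq.flip qe)
    have : Etale α.left := GrothLib.AlgSp.locP_of_isEtaleMor Y.property hf _ _ α pe' qe hp
    have hα : Function.Surjective α.left := fun v => by
      obtain ⟨x, hx⟩ := hs (Points.ofPt q v)
      obtain ⟨z, -, hz⟩ := GrothLib.AlgSp.exists_of_isPullback sq (x := x) (y := Points.ofScheme V v)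
        (by rw [hx, Points.ofPt_eq_map_ofScheme])
      obtain ⟨u, rfl⟩ := GrothLib.AlgSp.surjective_ofPt_of_repWith ps z
      refine ⟨u, (Points.schemeEquiv V).injective ?_⟩
      refine Eq.trans ?_ hz
      rw [Points.map_ofPt, show p ≫ pullback.snd f.hom q = (yon S).map α from (Functor.map_preimage _ _).symm]
      change Points.ofScheme V (α.left u) = _
      rw [Points.ofPt_eq_map_ofScheme ((yon S).map α), GrothLib.AlgSp.map_yon_ofPt]
    refine le_trans ?_ (le_iSup_of_le U (le_iSup_of_le (p ≫ pullback.fst f.hom q) (le_iSup_of_le pe' le_rfl)))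
    exact GrothLib.EtFibre.topologicalKrullDim_le_of_surjective α.left.continuous (Flat.generalizingMap α.left) hα

end Groth.Agent.S10250
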