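import Groth.Statements.S10253
import Groth.Agent.Lib.AlgSp.QCohEtRes
import Groth.Agent.Lib.AlgSp.QCohProjDescent
-- import your own Groth.Agent.* helpers here

set_option autoImplicit false
universe u
open CategoryTheory CategoryTheory.Limits AlgebraicGeometry Topology TopologicalSpace
open AlgSp GrothLib.AlgSp GrothLib.AlgSp.QCohEt
set_option backward.isDefEq.respectTransparency false

namespace Groth.Agent.S10253

theorem projective_iff {S : Scheme.{u}} {X : AlgSp.Sp S} {F : AlgSp.ModEt X} {V : Over S}
    (q : (AlgSp.yon S).obj V ⟶ X) (hrepq : AlgSp.Representable q)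
    [(SheafOfModules.pushforward.{u + 1} (AlgSp.bcRingHom hrepq)).IsRightAdjoint]
    (he : AlgSp.IsEtaleMor q) {G' : V.left.Modules}
    (c' : AlgSp.ZarCompanion V.left G' ((AlgSp.resSchModEt V).obj ((AlgSp.pullModEt hrepq).obj F)))
    (W : V.left.Opens) :
    Module.Projective (V.left.ringCatSheaf.obj.obj (Opposite.op W)) (G'.val.obj (Opposite.op W)) ↔
      Module.Projective (Ob (OEt X) ((EtOver.postcomp q he).obj ((EtOver.ofScheme V).obj (AlgSp.etaleOfOpen V.left W))))
        (Sec (O := OEt X) F ((EtOver.postcomp q he).obj ((EtOver.ofScheme V).obj (AlgSp.etaleOfOpen V.left W)))) := by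
  let E₀ := (EtOver.ofScheme V).obj (AlgSp.etaleOfOpen V.left W)
  let E := (EtOver.postcomp q he).obj E₀
  let e := (pullResIso hrepq he).app F
  let ρ : Γ(V.left, W) ≃+* Ob (OEt X) E :=
    { toFun := fun a => ULift.up (W.topIso.inv a)
      invFun := fun a => W.topIso.hom a.down
      left_inv := fun a => W.topIso.inv_hom_id_apply a
      right_inv := fun a => ULift.ext _ _ (W.topIso.hom_inv_id_apply a.down)
      map_mul' := fun a b => ULift.ext _ _ (map_mul W.topIso.inv.hom a b)
      map_add' := fun a b => ULift.ext _ _ (map_add W.topIso.inv.hom a b) }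
  let toF : ((AlgSp.pullModEt hrepq).obj F).val.obj (Opposite.op E₀) →
      ((resEt he).obj F).val.obj (Opposite.op E₀) := fun x => (e.hom.val.app (Opposite.op E₀)).hom x
  let ofF : ((resEt he).obj F).val.obj (Opposite.op E₀) →
      ((AlgSp.pullModEt hrepq).obj F).val.obj (Opposite.op E₀) := fun x => (e.inv.val.app (Opposite.op E₀)).hom x
  have h1 : ∀ x, ofF (toF x) = x := fun x =>
    congrArg (fun φ : ((AlgSp.pullModEt hrepq).obj F) ⟶ _ => (φ.val.app (Opposite.op E₀)).hom x) e.hom_inv_id
  have h2 : ∀ x, toF (ofF x) = x := fun x =>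
    congrArg (fun φ : ((resEt he).obj F) ⟶ _ => (φ.val.app (Opposite.op E₀)).hom x) e.inv_hom_id
  haveI := RingHomInvPair.of_ringEquiv ρ
  haveI := RingHomInvPair.of_ringEquiv_symm ρ
  let Φ : G'.val.obj (Opposite.op W) ≃ₛₗ[(ρ : Γ(V.left, W) →+* Ob (OEt X) E)] Sec (O := OEt X) F E :=
    { toFun := fun g => toF ((c'.iso W).symm (ULift.up g))
      invFun := fun x => ((c'.iso W) (ofF x)).down
      left_inv := fun g => by
        show ((c'.iso W) (ofF (toF _))).down = g
        rw [h1, AddEquiv.apply_symm_apply]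
      right_inv := fun x => by
        show toF ((c'.iso W).symm (ULift.up ((c'.iso W) (ofF x)).down)) = x
        exact (congrArg toF ((c'.iso W).symm_apply_apply (ofF x))).trans (h2 x)
      map_add' := fun a b => by
        show toF ((c'.iso W).symm (ULift.up a + ULift.up b)) = _
        rw [map_add]
        exact map_add (e.hom.val.app (Opposite.op E₀)).hom _ _
      map_smul' := fun a g => by
        obtain ⟨m, hm⟩ := (c'.iso W).surjective (ULift.up g)
        show toF ((c'.iso W).symm (ULift.up (a • g))) = ρ a • toF ((c'.iso W).symm (ULift.up g))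
        have h := c'.map_smul W a m
        rw [hm] at h
        rw [← h, AddEquiv.symm_apply_apply, ← hm, AddEquiv.symm_apply_apply]
        exact map_smul (e.hom.val.app (Opposite.op E₀)).hom (ρ a) m }
  exact ⟨fun h => @Module.Projective.of_equiv _ _ _ _ _ _ _ _ _ _ _ _ _ _ Φ h,
    fun h => @Module.Projective.of_equiv _ _ _ _ _ _ _ _ _ _ _ _ _ _ Φ.symm h⟩


/-- (1) ⇒ (2): let X be an algebraic space over a scheme S and F a quasi-coherent O_X-module on the
small etale site of X. If for some scheme U and some surjective etale p : h_U ⟶ X the restriction of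
F to the Zariski site of U (the quasi-coherent O_U-module G whose sections over an open W ⊆ U are
those of p^*F over W ⟶ U) is locally projective, i.e. has projective modules of sections over all
affine opens of U, then for every scheme V and every etale q : h_V ⟶ X the restriction of F to the
Zariski site of V is locally projective in the same sense. -/
theorem result {S : Scheme.{u}} (X : AlgSp.Space S)
    (F : AlgSp.ModEt X.obj) (hF : F.IsQuasicoherent)
    {U : Over S} (p : (AlgSp.yon S).obj U ⟶ X.obj) (hrep : AlgSp.Representable p)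
    (hp : AlgSp.RepWith @Etale p) (hs : AlgSp.RepWith @Surjective p)
    [(SheafOfModules.pushforward.{u + 1} (AlgSp.bcRingHom hrep)).IsRightAdjoint]
    (G : U.left.Modules) [Coh.IsQCoh G]
    (c : AlgSp.ZarCompanion U.left G ((AlgSp.resSchModEt U).obj ((AlgSp.pullModEt hrep).obj F)))
    (hG : ∀ W : U.left.Opens, IsAffineOpen W →
      Module.Projective (U.left.ringCatSheaf.obj.obj (Opposite.op W)) (G.val.obj (Opposite.op W)))
    {V : Over S} (q : (AlgSp.yon S).obj V ⟶ X.obj) (hrepq : AlgSp.Representable q)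
    (hq : AlgSp.RepWith @Etale q)
    [(SheafOfModules.pushforward.{u + 1} (AlgSp.bcRingHom hrepq)).IsRightAdjoint]
    (G' : V.left.Modules) [Coh.IsQCoh G']
    (c' : AlgSp.ZarCompanion V.left G' ((AlgSp.resSchModEt V).obj ((AlgSp.pullModEt hrepq).obj F)))
    (W : V.left.Opens) (hW : IsAffineOpen W) :
    Module.Projective (V.left.ringCatSheaf.obj.obj (Opposite.op W)) (G'.val.obj (Opposite.op W)) := by
  haveI := hF
  have he := isEtaleMor_of_repWith p hp
  have heq := isEtaleMor_of_repWith q hq
  rw [projective_iff (F := F) q hrepq heq c' W]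
  let E := (EtOver.postcomp q heq).obj ((EtOver.ofScheme V).obj (AlgSp.etaleOfOpen V.left W))
  have hE : IsAffine E.obj.left.left := hW
  let B := EtOver.bcObj hrep E
  haveI hπ : Surjective (EtOver.bcπ hrep E).left := hs.2 _ _ _ (EtOver.isPullback_bcObj hrep E)
  obtain ⟨m, hm⟩ := (yon S).map_surjective B.obj.hom
  choose Wb hWb hbW _ using fun b : ↥B.obj.left.left => exists_isAffineOpen_mem_and_subset (x := m.left b)
    (U := (⊤ : U.left.Opens)) trivial
  choose O hO hbO hOW using fun b : ↥B.obj.left.left => exists_isAffineOpen_mem_and_subset (x := b)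
    (U := m.left ⁻¹ᵁ Wb b) (hbW b)
  let z : ∀ b, (EtOver.postcomp p he).obj (opensObj B (O b)) ⟶ E := fun b =>
    (EtOver.postcomp p he).map (opensInc B (O b)) ≫ (postAdj hrep he).counit.app E
  refine proj_of_cover (O := OEt X.obj) (affEt X.obj) hE (good_of_isQuasicoherent F hE)
    (T := Sieve.ofArrows (fun b => (EtOver.postcomp p he).obj (opensObj B (O b))) z) ?_ ?_
  · refine ofArrows_mem_etTop _ _ fun x => ?_
    obtain ⟨b, hb⟩ := hπ.surj x
    exact ⟨b, ⟨b, hbO b⟩, hb⟩
  · intro Z g hZ hg
    obtain ⟨_, a, _, ⟨b⟩, -⟩ := hg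
    let k : (opensObj B (O b)) ⟶ (EtOver.ofScheme U).obj (AlgSp.etaleOfOpen U.left (Wb b)) :=
      EtOver.homMk (Over.homMk (m.left.resLE (Wb b) (O b) (hOW b)) (by
        show m.left.resLE (Wb b) (O b) (hOW b) ≫ (Wb b).ι ≫ U.hom = (O b).ι ≫ B.obj.left.hom
        rw [← Category.assoc, Scheme.Hom.resLE_comp_ι, Category.assoc, Over.w m])) (by
        show (yon S).map _ ≫ (yon S).map _ ≫ 𝟙 _ = (yon S).map _ ≫ B.obj.hom
        rw [← hm, Category.comp_id, ← Functor.map_comp, ← Functor.map_comp]
        congr 1
        ext : 1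
        exact Scheme.Hom.resLE_comp_ι ..)
    let E₀ := (EtOver.postcomp p he).obj ((EtOver.ofScheme U).obj (AlgSp.etaleOfOpen U.left (Wb b)))
    have hE₀ : IsAffine E₀.obj.left.left := hWb b
    haveI : Module.Projective (Ob (OEt X.obj) E₀) (Sec (O := OEt X.obj) F E₀) :=
      (projective_iff (F := F) p hrep he c (Wb b)).1 (hG (Wb b) (hWb b))
    exact proj_base_change (O := OEt X.obj) (affEt X.obj) (a ≫ (EtOver.postcomp p he).map k) hZ
      (good_of_isQuasicoherent F hE₀)

end Groth.Agent.S10253
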