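import Groth.Statements.S10254
import Groth.Agent.Lib.AlgSp.EtStalk
-- import your own Groth.Agent.* helpers here

set_option autoImplicit false
universe u
open CategoryTheory CategoryTheory.Limits AlgebraicGeometry Topology TopologicalSpace
open AlgSp

namespace Groth.Agent.S10254

/-- On the small etale site with scheme objects: let X be an algebraic space over a scheme S, F an
abelian sheaf on the small etale site of X, U an object of that site and σ ∈ F(U). Then there is an
open subset W of U such that: for every morphism φ : V ⟶ U of the site, σ|_V = 0 if and only if φ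
maps V into W (in particular W is the largest open subscheme of U on which σ restricts to zero); and
for every geometric point x̄ of X and every lift ū of x̄ to U, the image of σ in the stalk F_x̄
through the etale neighbourhood (U, ū) vanishes if and only if the point of U under ū lies in W.
(The published statement is for abelian sheaves on the site of algebraic spaces etale over X; this
row is its restriction to the site of schemes etale over X, where V ranges over schemes.) -/
theorem result {S : Scheme.{u}} (X : AlgSp.Space S) (F : AlgSp.AbEt X.obj)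
    (U : AlgSp.EtOver X.obj) (σ : ↥(F.obj.obj (Opposite.op U))) :
    ∃ W : TopologicalSpace.Opens ↥U.obj.left.left,
      (∀ (V : AlgSp.EtOver X.obj) (φ : V ⟶ U),
          (F.obj.map φ.op).hom σ = 0 ↔ Set.range (fun v => φ.hom.left.left v) ⊆ (W : Set ↥U.obj.left.left)) ∧
      (∀ p : AlgSp.FieldPt X.obj, p.IsGeometric → ∀ l : (AlgSp.FieldPt.liftsTo p).obj U,
          (AlgSp.stalkEtι p F ⟨U, l⟩).hom σ = 0 ↔ l.1.left (IsLocalRing.closedPoint p.K) ∈ W) := by
  let W : TopologicalSpace.Opens ↥U.obj.left.left := ⟨⋃ (V : AlgSp.EtOver X.obj) (φ : V ⟶ U)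
      (_ : (F.obj.map φ.op).hom σ = 0), Set.range φ.hom.left.left,
    isOpen_iUnion fun V => isOpen_iUnion fun φ => isOpen_iUnion fun _ => by
      haveI := AlgSp.EtOver.etale_left φ
      exact φ.hom.left.left.isOpenMap.isOpen_range⟩
  have hmem : ∀ x, x ∈ W ↔ ∃ (V : AlgSp.EtOver X.obj) (φ : V ⟶ U),
      (F.obj.map φ.op).hom σ = 0 ∧ x ∈ Set.range φ.hom.left.left := fun x => by
    change x ∈ (⋃ (V : AlgSp.EtOver X.obj) (φ : V ⟶ U) (_ : (F.obj.map φ.op).hom σ = 0), Set.range φ.hom.left.left) ↔ _
    simp only [Set.mem_iUnion, exists_prop]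
  have germ : ∀ (p : AlgSp.FieldPt X.obj), p.IsGeometric → ∀ l : (AlgSp.FieldPt.liftsTo p).obj U,
      (AlgSp.stalkEtι p F ⟨U, l⟩).hom σ = 0 ↔ l.1.left (IsLocalRing.closedPoint p.K) ∈ W := fun p hp l =>
    (GrothLib.AlgSp.stalkEtι_eq_zero_iff X F p hp U l σ).trans (hmem _).symm
  refine ⟨W, fun V φ => ⟨fun h x hx => (hmem x).2 ⟨V, φ, h, hx⟩, fun h => ?_⟩, germ⟩
  let Q : Sieve V :=
    { arrows := fun V' g => (F.obj.map g.op).hom ((F.obj.map φ.op).hom σ) = 0
      downward_closed := by
        intro V₁ V₂ g hg k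
        rw [op_comp, Functor.map_comp, AddCommGrpCat.hom_comp, AddMonoidHom.comp_apply, hg, map_zero] }
  have hQ : Q ∈ AlgSp.etTop X.obj V := GrothLib.AlgSp.mem_etTop_of_points X Q fun p hp l => by
    have h1 := (germ p hp ((AlgSp.FieldPt.liftsTo p).map φ l)).2 (h ⟨l.1.left (IsLocalRing.closedPoint p.K), rfl⟩)
    let Φ := GrothLib.AlgSp.etPoint X p hp
    have h2 : Φ.toPresheafFiber V l F.obj (F.obj.map φ.op σ) = 0 := (Φ.toPresheafFiber_w_apply φ l F.obj σ).trans h1
    have h3 : Φ.toPresheafFiber V l F.obj (F.obj.map φ.op σ) = Φ.toPresheafFiber V l F.obj 0 :=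
      h2.trans (map_zero _).symm
    obtain ⟨V', g, y, hy, hg⟩ := (Φ.toPresheafFiber_eq_iff' V l _ _).1 h3
    exact ⟨V', g, hg.trans (map_zero _), y, hy⟩
  exact (((isSheaf_iff_isSheaf_of_type _ _).1
    ((Presheaf.isSheaf_iff_isSheaf_forget _ F.obj (forget AddCommGrpCat.{u + 1})).1 F.property)) Q hQ).isSeparatedFor.ext
    fun V' g hg => (hg : (F.obj.map g.op).hom _ = 0).trans (map_zero (F.obj.map g.op).hom).symm
end Groth.Agent.S10254
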