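import Groth.Statements.S10255
import Groth.Agent.S10253
import Groth.Agent.Lib.AlgSpPull29.Projective
import Groth.Agent.Lib.AlgSpPull29.Companion

set_option autoImplicit false
universe u
open CategoryTheory CategoryTheory.Limits AlgebraicGeometry Topology TopologicalSpace
open AlgSp

open AlgSp GrothLib.AlgSp GrothLib.AlgSp.QCohEt
set_option backward.isDefEq.respectTransparency false
namespace Groth.Agent.S10255

/-- For a representable morphism: let f : X ⟶ Y be a representable morphism of algebraic spaces over a
scheme S and G a quasi-coherent O_Y-module on the small etale site of Y, with u-small modules of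
sections over the affine objects of that site, which is locally projective (for every scheme V etale
over Y the restriction of G to the Zariski site of V has projective modules of sections over all
affine opens). Then the pullback f^*G is locally projective on X: for every scheme U etale over X
the restriction of f^*G to the Zariski site of U has projective modules of sections over all affine
opens. (The published statement is for an arbitrary morphism of algebraic spaces; this row takes f
representable, where f^* is the left adjoint of the direct image V ↦ (V ×_Y X) on modules on the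
small etale sites with scheme objects. Modules on these sites take values one universe up, so the
smallness of sections is stated as a hypothesis; without it the local-projectivity hypothesis,
phrased through Zariski companions with u-small sections, can be vacuous.) -/
theorem result {S : Scheme.{u}} {X Y : AlgSp.Space S} (f : X ⟶ Y)
    (hrep : AlgSp.Representable f.hom)
    [(SheafOfModules.pushforward.{u + 1} (AlgSp.bcRingHom hrep)).IsRightAdjoint]
    (G : AlgSp.ModEt Y.obj) (hG : G.IsQuasicoherent)
    (hsmall : ∀ E : AlgSp.EtOver Y.obj, IsAffine E.obj.left.left → Small.{u} (AlgSp.sectModEt G E))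
    (hproj : ∀ {V : Over S} (q : (AlgSp.yon S).obj V ⟶ Y.obj) (hrepq : AlgSp.Representable q)
      [(SheafOfModules.pushforward.{u + 1} (AlgSp.bcRingHom hrepq)).IsRightAdjoint]
      (H : V.left.Modules) [Coh.IsQCoh H]
      (c : AlgSp.ZarCompanion V.left H ((AlgSp.resSchModEt V).obj ((AlgSp.pullModEt hrepq).obj G)))
      (W : V.left.Opens), AlgSp.RepWith @Etale q → IsAffineOpen W →
        Module.Projective (V.left.ringCatSheaf.obj.obj (Opposite.op W)) (H.val.obj (Opposite.op W)))
    {U : Over S} (p : (AlgSp.yon S).obj U ⟶ X.obj) (hrepp : AlgSp.Representable p)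
    (hp : AlgSp.RepWith @Etale p)
    [(SheafOfModules.pushforward.{u + 1} (AlgSp.bcRingHom hrepp)).IsRightAdjoint]
    (H' : U.left.Modules) [Coh.IsQCoh H']
    (c' : AlgSp.ZarCompanion U.left H'
      ((AlgSp.resSchModEt U).obj ((AlgSp.pullModEt hrepp).obj ((AlgSp.pullModEt hrep).obj G))))
    (W : U.left.Opens) (hW : IsAffineOpen W) :
    Module.Projective (U.left.ringCatSheaf.obj.obj (Opposite.op W)) (H'.val.obj (Opposite.op W)) := by
  haveI := hG
  have he := isEtaleMor_of_repWith p hp
  rw [Groth.Agent.S10253.projective_iff (F := (AlgSp.pullModEt hrep).obj G) p hrepp he c' W]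
  refine GrothLib.AlgSpPull29.projective_pullModEt f hrep G (fun {V} q hqe hq hV => ?_) hW
  haveI : (SheafOfModules.pushforward.{u + 1} (AlgSp.bcRingHom hq.rep)).IsRightAdjoint :=
    (GrothLib.AlgSp.QCohEt.resPushAdj hq.rep hqe).isRightAdjoint
  let e := (GrothLib.AlgSp.QCohEt.pullResIso hq.rep hqe).app G
  let N := (AlgSp.pullModEt hq.rep).obj G
  haveI : ((GrothLib.AlgSp.QCohEt.resEt hqe).obj G).IsQuasicoherent :=
    GrothLib.AlgSp.QCohEt.isQuasicoherent_res hqe G
  haveI : N.IsQuasicoherent :=
    (SheafOfModules.isQuasicoherent (AlgSp.OEtRing ((AlgSp.yon S).obj V))).prop_of_iso e.symm inferInstance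
  obtain ⟨H, hH, ⟨c⟩⟩ := GrothLib.AlgSpPull29.exists_zarCompanion N fun E hE => by
    haveI := hsmall ((EtOver.postcomp q hqe).obj E) hE
    refine small_of_injective (α := AlgSp.sectModEt N E) (β := AlgSp.sectModEt G ((EtOver.postcomp q hqe).obj E))
      (f := fun x => (e.hom.val.app (Opposite.op E)).hom x) ?_
    exact Function.LeftInverse.injective (g := fun x => (e.inv.val.app (Opposite.op E)).hom x)
      fun x => congrArg (fun φ : N ⟶ N => (φ.val.app (Opposite.op E)).hom x) e.hom_inv_id
  haveI := hH
  have hP := (Groth.Agent.S10253.projective_iff (F := G) q hq.rep hqe c ⊤).1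
    (hproj q hq.rep H c ⊤ hq (isAffineOpen_top V.left))
  let P := (EtOver.postcomp q hqe).obj (GrothLib.AlgSpPull29.oObj (⊤ : V.left.Opens))
  have hPaff : IsAffine P.obj.left.left := isAffineOpen_top V.left
  haveI : Module.Projective (Ob (OEt Y.obj) P) (Sec (O := OEt Y.obj) G P) := hP
  let k : (GrothLib.AlgSpPull29.topObj V).obj.left ⟶ (GrothLib.AlgSpPull29.oObj (⊤ : V.left.Opens)).obj.left :=
    Over.homMk V.left.topIso.inv (by
      show V.left.topIso.inv ≫ (⊤ : V.left.Opens).ι ≫ V.hom = V.hom
      rw [← Category.assoc]
      simp)
  exact proj_base_change (O := OEt Y.obj) (affEt Y.obj)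
    ((EtOver.postcomp q hqe).map (EtOver.homMk k (by
      show (AlgSp.yon S).map k ≫ (AlgSp.yon S).map _ ≫ 𝟙 _ = 𝟙 _
      rw [← Category.assoc, ← Functor.map_comp, Category.comp_id, ← (AlgSp.yon S).map_id]
      congr 1
      ext : 1
      show V.left.topIso.inv ≫ (⊤ : V.left.Opens).ι = 𝟙 _
      simp))) hV (good_of_isQuasicoherent G hPaff)

end Groth.Agent.S10255
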