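import Groth.Statements.S10256
import Groth.Agent.Lib.AlgSp.EtStalk
-- import your own Groth.Agent.* helpers here

set_option autoImplicit false
universe u
open CategoryTheory CategoryTheory.Limits AlgebraicGeometry Topology TopologicalSpace
open AlgSp

namespace Groth.Agent.S10256

/-- Let X be an algebraic space over a scheme S, F an abelian sheaf on the small etale site of X and x ∈
|X|. Then x lies in the support of F, in the sense that the stalk F_x̄ is nonzero for some geometric
point x̄ over x, if and only if x is the image of a point u of some U etale over X lying in the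
support of some section σ ∈ F(U), i.e. such that σ does not restrict to zero on any V ⟶ U whose
image contains u. (The published definition of the support allows any, equivalently some, geometric
point over x; this row uses the existential form and does not assert that the two readings agree.) -/
theorem result {S : Scheme.{u}} (X : AlgSp.Space S) (F : AlgSp.AbEt X.obj)
    (x : AlgSp.Points X.obj) :
    (∃ p : AlgSp.FieldPt X.obj, p.IsGeometric ∧ AlgSp.Points.mk p = x ∧ ¬ IsZero (AlgSp.stalkEt p F)) ↔
      ∃ (U : AlgSp.EtOver X.obj) (σ : ↥(F.obj.obj (Opposite.op U))) (u : ↥U.obj.left.left),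
        AlgSp.Points.ofPt U.obj.hom u = x ∧
          ∀ (V : AlgSp.EtOver X.obj) (φ : V ⟶ U), (F.obj.map φ.op).hom σ = 0 →
            u ∉ Set.range (fun v => φ.hom.left.left v) := by
  constructor
  · rintro ⟨p, hp, rfl, hne⟩
    rw [GrothLib.AlgSp.isZero_stalkEt_iff X F p hp] at hne
    push Not at hne
    obtain ⟨U, l, σ, hσ⟩ := hne
    exact ⟨U, σ, l.1.left (IsLocalRing.closedPoint p.K), GrothLib.AlgSp.ofPt_closedPoint_of_lift p l,
      fun V φ h hu => hσ ((GrothLib.AlgSp.stalkEtι_eq_zero_iff X F p hp U l σ).2 ⟨V, φ, h, hu⟩)⟩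
  · rintro ⟨U, σ, x', rfl, h⟩
    obtain ⟨p, hp, l, hl, hpx⟩ := GrothLib.AlgSp.exists_geometric_liftsTo U x'
    refine ⟨p, hp, hpx, fun h0 => ?_⟩
    obtain ⟨V, φ, hφ, hmem⟩ := (GrothLib.AlgSp.stalkEtι_eq_zero_iff X F p hp U l σ).1
      ((GrothLib.AlgSp.isZero_stalkEt_iff X F p hp).1 h0 U l σ)
    exact h V φ hφ (hl ▸ hmem)
end Groth.Agent.S10256
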