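import Groth.Statements.S10257
import Groth.Agent.Lib.AlgSp.EtStalk
import Mathlib.Algebra.Category.Ring.FilteredColimits
-- import your own Groth.Agent.* helpers here

set_option autoImplicit false
universe u
open CategoryTheory CategoryTheory.Limits AlgebraicGeometry Topology TopologicalSpace
open AlgSp

namespace Groth.Agent.S10257

/-- Let X be an algebraic space over a scheme S and O' a sheaf of commutative rings on the small etale
site of X. Then the support of O', the set of points x ∈ |X| such that the stalk O'_x̄ is not the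
zero ring for some geometric point x̄ over x, is closed in |X|. (The published definition of the
support allows any, equivalently some, geometric point over x; this row uses the existential form
and does not assert that the two readings agree.) -/
theorem result {S : Scheme.{u}} (X : AlgSp.Space S)
    (O' : AlgSp.EtSh X.obj CommRingCat.{u + 1}) :
    IsClosed {x : AlgSp.Points X.obj |
      ∃ p : AlgSp.FieldPt X.obj, p.IsGeometric ∧ AlgSp.Points.mk p = x ∧ Nontrivial ↥(AlgSp.stalkEt p O')} := by
  haveI : HasColimitsOfSize.{u, u} CommRingCat.{u + 1} := hasColimitsOfSizeShrink.{u, u, u + 1, u + 1} _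
  haveI : PreservesFilteredColimitsOfSize.{u + 1, u + 1} (forget CommRingCat.{u + 1}) := inferInstance
  haveI : PreservesFilteredColimitsOfSize.{u, u} (forget CommRingCat.{u + 1}) :=
    preservesFilteredColimitsOfSize_of_univLE.{u + 1, u + 1, u, u} (forget CommRingCat.{u + 1})
  let W : Set (AlgSp.Points X.obj) := ⋃ (U : AlgSp.EtOver X.obj) (_ : (1 : ↥(O'.obj.obj (Opposite.op U))) = 0),
    Set.range (AlgSp.Points.ofPt U.obj.hom)
  have hW : IsOpen W := isOpen_iUnion fun U => isOpen_iUnion fun _ =>
    (GrothLib.AlgSp.isOpenMap_ofPt_of_etale U.property).isOpen_range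
  have key : {x : AlgSp.Points X.obj |
      ∃ p : AlgSp.FieldPt X.obj, p.IsGeometric ∧ AlgSp.Points.mk p = x ∧ Nontrivial ↥(AlgSp.stalkEt p O')} = Wᶜ := by
    ext x
    simp only [Set.mem_setOf_eq, Set.mem_compl_iff, W, Set.mem_iUnion, not_exists]
    constructor
    · rintro ⟨p, hp, rfl, hnt⟩ U h1 ⟨x', hx'⟩
      obtain ⟨l, -⟩ := GrothLib.AlgSp.exists_liftsTo_of_ofPt_eq p hp U x' hx'
      have h := congrArg (fun z => ((GrothLib.AlgSp.etPoint X p hp).toPresheafFiber U l O'.obj).hom z) h1
      simp only [map_one, map_zero] at h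
      exact (one_ne_zero (α := ↥(AlgSp.stalkEt p O'))) h
    · intro h
      obtain ⟨V₀, a, hae, has⟩ := X.property.atlas
      obtain ⟨v, hv⟩ := GrothLib.AlgSp.surjective_ofPt_of_repWith has x
      obtain ⟨p, hp, l, hl, hpx⟩ := GrothLib.AlgSp.exists_geometric_liftsTo (AlgSp.EtOver.mk a hae) v
      refine ⟨p, hp, hpx.trans hv, ?_⟩
      refine ⟨⟨1, 0, fun h10 => ?_⟩⟩
      let Φ := GrothLib.AlgSp.etPoint X p hp
      have h' : Φ.toPresheafFiber _ l O'.obj 1 = Φ.toPresheafFiber _ l O'.obj 0 :=
        (map_one (Φ.toPresheafFiber _ l O'.obj).hom).trans (h10.trans (map_zero (Φ.toPresheafFiber _ l O'.obj).hom).symm)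
      obtain ⟨V, f, y, -, hf⟩ := (Φ.toPresheafFiber_eq_iff' _ l _ _).1 h'
      exact h V ((map_one (O'.obj.map f.op).hom).symm.trans (hf.trans (map_zero (O'.obj.map f.op).hom)))
        ⟨y.1.left (IsLocalRing.closedPoint p.K), (GrothLib.AlgSp.ofPt_closedPoint_of_lift p y).trans (hpx.trans hv)⟩
  rw [key]
  exact hW.isClosed_compl
end Groth.Agent.S10257
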