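import Groth.Agent.Lib.AlgSp.LqfScheme
import Groth.Statements.S10259
-- import your own Groth.Agent.* helpers here

set_option autoImplicit false
universe u
open CategoryTheory CategoryTheory.Limits AlgebraicGeometry
open AlgSp

namespace Groth.Agent.S10259

/-- If an algebraic space maps to a scheme by a separated, locally quasi-finite morphism, then it is
itself a scheme. -/
theorem result {S : Scheme.{u}} (T : Over S) (X : AlgSp.Space S)
    (f : X ⟶ (AlgSp.ofScheme S).obj T)
    (hqf : AlgSp.LocP (@LocallyQuasiFinite ⊓ @LocallyOfFiniteType) f.hom) (hsep : AlgSp.IsSeparatedMor f.hom) :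
    X.obj.obj.IsRepresentable := by
  exact GrothLib.AlgSp.isRepresentable_of_lqf_separated X.property f.hom hqf hsep

end Groth.Agent.S10259
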