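import Groth.Agent.Lib.AlgSp.LocP
import Groth.Statements.S10263
-- import your own Groth.Agent.* helpers here

set_option autoImplicit false
universe u
open CategoryTheory CategoryTheory.Limits AlgebraicGeometry
open AlgSp

namespace Groth.Agent.S10263

/-- If the composite X -> Y -> Z is unramified then X -> Y is unramified. -/
theorem result {S : Scheme.{u}} {X Y Z : AlgSp.Space S} (f : X ⟶ Y) (g : Y ⟶ Z)
    (h : AlgSp.LocP (@LocallyOfFiniteType ⊓ @FormallyUnramified) (f ≫ g).hom) :
    AlgSp.LocP (@LocallyOfFiniteType ⊓ @FormallyUnramified) f.hom := by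
  refine (GrothLib.AlgSp.EtLocal.lft.inf GrothLib.AlgSp.EtLocal.formallyUnramified).locP_of_comp ?_
    X.property Y.property Z.property h
  intro A B C u v huv
  have : LocallyOfFiniteType (u ≫ v) := huv.1
  have : FormallyUnramified (u ≫ v) := huv.2
  exact ⟨locallyOfFiniteType_of_comp u v, FormallyUnramified.of_comp u v⟩

end Groth.Agent.S10263
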