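import Groth.Agent.Lib.AlgSp.LocP
import Groth.Statements.S10264
-- import your own Groth.Agent.* helpers here

set_option autoImplicit false
universe u
open CategoryTheory CategoryTheory.Limits AlgebraicGeometry
open AlgSp

namespace Groth.Agent.S10264

/-- An immersion of algebraic spaces is unramified. -/
theorem result {S : Scheme.{u}} {X Y : AlgSp.Space S} (i : X ⟶ Y)
    (hi : AlgSp.RepWith @IsImmersion i.hom) :
    AlgSp.LocP (@LocallyOfFiniteType ⊓ @FormallyUnramified) i.hom := by
  refine (GrothLib.AlgSp.EtLocal.lft.inf GrothLib.AlgSp.EtLocal.formallyUnramified).locP_of_repWith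
    Y.property (GrothLib.AlgSp.repWith_mono hi fun _ _ g (_ : IsImmersion g) => ?_)
  exact ⟨inferInstance, inferInstance⟩

end Groth.Agent.S10264
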