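import Groth.Agent.Lib.AlgSp.LocP
import Groth.Statements.S10265
-- import your own Groth.Agent.* helpers here

set_option autoImplicit false
universe u
open CategoryTheory CategoryTheory.Limits AlgebraicGeometry
open AlgSp

namespace Groth.Agent.S10265

/-- Whenever a morphism of algebraic spaces is etale, it is, etale locally on both source and target,
smooth, flat, unramified, locally quasi-finite, locally of finite type and locally of finite
presentation. -/
theorem result {S : Scheme.{u}} {X Y : AlgSp.Space S} (f : X ⟶ Y) (hf : AlgSp.IsEtaleMor f.hom) :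
    AlgSp.LocP (@LocallyQuasiFinite ⊓ @LocallyOfFiniteType) f.hom ∧ AlgSp.LocP @Smooth f.hom ∧
    AlgSp.LocP @Flat f.hom ∧ AlgSp.LocP @LocallyOfFinitePresentation f.hom ∧
    AlgSp.LocP @LocallyOfFiniteType f.hom ∧ AlgSp.LocP (@LocallyOfFiniteType ⊓ @FormallyUnramified) f.hom := by
  have h := GrothLib.AlgSp.locP_of_isEtaleMor Y.property hf
  refine ⟨GrothLib.AlgSp.locP_mono (fun _ _ g (_ : Etale g) => ?_) h,
    GrothLib.AlgSp.locP_mono (Q := @Smooth) (fun _ _ g (_ : Etale g) => inferInstance) h,
    GrothLib.AlgSp.locP_mono (Q := @Flat) (fun _ _ g (_ : Etale g) => inferInstance) h,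
    GrothLib.AlgSp.locP_mono (Q := @LocallyOfFinitePresentation) (fun _ _ g (_ : Etale g) => inferInstance) h,
    GrothLib.AlgSp.locP_mono (Q := @LocallyOfFiniteType) (fun _ _ g (_ : Etale g) => inferInstance) h,
    GrothLib.AlgSp.locP_mono (fun _ _ g (_ : Etale g) => ⟨inferInstance, inferInstance⟩) h⟩
  exact ⟨GrothLib.AlgSp.locallyQuasiFinite_of_unramified g, inferInstance⟩

end Groth.Agent.S10265
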