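import Groth.Agent.Lib.AlgSp.AffineMor
import Groth.Statements.S10267
-- import your own Groth.Agent.* helpers here

set_option autoImplicit false
universe u
open CategoryTheory CategoryTheory.Limits AlgebraicGeometry
open AlgSp

namespace Groth.Agent.S10267

/-- (1) ⇔ (2): a morphism of algebraic spaces is integral (resp. finite), tested on affine schemes over
the target, if and only if it is representable with integral (resp. finite) base changes to all
schemes. -/
theorem result {S : Scheme.{u}} {X Y : AlgSp.Space S} (f : X ⟶ Y) :
    (AlgSp.IsIntegralMor f.hom ↔ AlgSp.RepWith @IsIntegralHom f.hom) ∧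
    (AlgSp.IsFiniteMor f.hom ↔ AlgSp.RepWith @IsFinite f.hom) := by
  exact ⟨GrothLib.AlgSp.isIntegralMor_iff, GrothLib.AlgSp.isFiniteMor_iff⟩

end Groth.Agent.S10267
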