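import Groth.Agent.Lib.AlgSp.AffineMor
import Groth.Agent.Lib.AlgSp.LocP
import Groth.Statements.S10269
-- import your own Groth.Agent.* helpers here

set_option autoImplicit false
universe u
open CategoryTheory CategoryTheory.Limits AlgebraicGeometry
open AlgSp

namespace Groth.Agent.S10269

/-- A finite morphism of algebraic spaces is integral; an integral morphism locally of finite type is
finite. -/
theorem result {S : Scheme.{u}} {X Y : AlgSp.Space S} (f : X ⟶ Y) :
    (AlgSp.IsFiniteMor f.hom → AlgSp.IsIntegralMor f.hom) ∧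
    (AlgSp.IsIntegralMor f.hom → AlgSp.LocP @LocallyOfFiniteType f.hom → AlgSp.IsFiniteMor f.hom) := by
  rw [GrothLib.AlgSp.isIntegralMor_iff, GrothLib.AlgSp.isFiniteMor_iff]
  refine ⟨fun h => GrothLib.AlgSp.repWith_mono h fun _ _ _ (_ : IsFinite _) => inferInstance, fun h hl => ?_⟩
  have hl' := GrothLib.AlgSp.EtLocal.repWith_of_locP GrothLib.AlgSp.EtLocal.lft Y.property h.1 hl
  exact ⟨h.1, fun U V g fst snd sq => IsFinite.iff_isIntegralHom_and_locallyOfFiniteType _ |>.2
    ⟨h.2 g fst snd sq, hl'.2 g fst snd sq⟩⟩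

end Groth.Agent.S10269
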