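import Groth.Statements.S1027
import Groth.Agent.Lib.RpushLocFree20.Basic
import Groth.Agent.Lib.OX.RHomDual
import Groth.Agent.Lib.OX.LocFreeTensor
import Groth.Agent.Lib.OX.SingleDegree
import Groth.Agent.Lib.RelAmp22.FPRep

set_option autoImplicit false
set_option maxHeartbeats 1000000
set_option linter.style.haveILetI false
set_option backward.isDefEq.respectTransparency false
universe u
open CategoryTheory CategoryTheory.Limits AlgebraicGeometry
open Perf

attribute [local instance] HasDerivedCategory.standard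

namespace Groth.Agent.S1027

/-- Let f : X ⟶ S be of finite presentation (locally of finite presentation, quasi-compact and
quasi-separated) and F a finitely presented O_X-module which is S-flat and whose support is proper
over S. If the higher direct images Rⁱf_*F vanish for all i > 0 (computed with injective resolutions
of O_X-modules, whose existence is assumed as an instance), then f_*F is a finite locally free
O_S-module. (The source adds that its formation commutes with base change.) -/
theorem result {X S : Scheme.{u}} (f : X ⟶ S) [LocallyOfFinitePresentation f]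
    [QuasiCompact f] [QuasiSeparated f] [HasInjectiveResolutions X.Modules]
    (F : X.Modules) (hF : CohB1.IsFP F) (hflat : FlatMod.IsFlatOver f F) (hsupp : ClSub.IsProperOver f (CohB1.support F))
    (hvan : ∀ i : ℕ, 0 < i → IsZero ((Coh.Rpush f i).obj F)) :
    FlatMod.IsFinLocFree ((Coh.push f).obj F) := by
  let O := Coh.structureModule X
  let SO := (HomologicalComplex.single X.Modules (ComplexShape.up ℤ) 0).obj O
  let F0 := (HomologicalComplex.single X.Modules (ComplexShape.up ℤ) 0).obj F
  let eO : DerivedCategory.Q.obj SO ≅ (DerivedCategory.singleFunctor X.Modules 0).obj O :=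
    ((DerivedCategory.singleFunctorIsoCompQ X.Modules 0).app O).symm
  have hp : DCoh.IsPerfect ((GrothLib.OX.RR f).obj (DCoh.inD X F)) :=
    GrothLib.OX.isPerfect_of_iso (GrothLib.BCPerf20.isPerfect_RR_ltensor f F hF hflat hsupp SO
      (GrothLib.OX.isKFlat_single O (GrothLib.OX.flat_structureModule X) 0)
      (GrothLib.OX.isPerfect_of_iso (GrothLib.OX.isPerfect_unit X) eO.symm))
      ((GrothLib.OX.RR f).mapIso (DerivedCategory.Q.mapIso
        ((HomologicalComplex.singleMapHomologicalComplex ((DCoh.tensorBi (X := X)).flip.obj F) (ComplexShape.up ℤ) 0).app O ≪≫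
          (HomologicalComplex.single X.Modules (ComplexShape.up ℤ) 0).mapIso (GrothLib.OX.tensorUnitNatIso.app F)) ≪≫
        ((DerivedCategory.singleFunctorIsoCompQ X.Modules 0).app F).symm))
  haveI : CohB1.IsFP F := hF
  haveI : F.IsQuasicoherent := inferInstance
  let E := (GrothLib.OX.RR f).obj (DCoh.inD X F)
  have hv : ∀ i : ℤ, 0 < i → IsZero (DCoh.HD E i) := fun i hi => by
    obtain ⟨p, rfl⟩ := Int.eq_ofNat_of_zero_le hi.le
    exact (hvan p (by omega)).of_iso (GrothLib.SiteDer.nonempty_homology_Rres_single (GrothLib.OX.rmor f) F p).some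
  haveI : PreservesFiniteLimits (Coh.push f) := by
    haveI := (Scheme.Modules.pullbackPushforwardAdjunction f).rightAdjoint_preservesLimits
    exact inferInstance
  let e0 : DCoh.HD E 0 ≅ (Coh.push f).obj F :=
    (GrothLib.SiteDer.nonempty_homology_Rres_single (GrothLib.OX.rmor f) F 0).some ≪≫
      ((Coh.push f).rightDerivedZeroIsoSelf.app F)
  refine GrothLib.DCoh.isFinLocFree_of_iso e0 (GrothLib.OX.isFinLocFree_of_local fun s => ?_)
  obtain ⟨V, hV, hsV, -⟩ := exists_isAffineOpen_mem_and_subset (x := s) (U := ⊤) trivial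
  refine ⟨_, V.ι, inferInstance, by rw [Scheme.Opens.range_ι]; exact hsV, ?_⟩
  haveI : IsAffine (V : Scheme.{u}) := hV
  let j := (f ⁻¹ᵁ V).ι
  let F' := (Scheme.Modules.restrictFunctor j).obj F
  let eF : (GrothLib.OX.resD j).obj (DCoh.inD X F) ≅ DCoh.inD _ F' :=
    (GrothLib.OX.resD j).mapIso ((DerivedCategory.singleFunctorIsoCompQ X.Modules 0).app F) ≪≫
      (GrothLib.OX.resDFac j).app F0 ≪≫ DerivedCategory.Q.mapIso
        ((HomologicalComplex.singleMapHomologicalComplex (Scheme.Modules.restrictFunctor j) (ComplexShape.up ℤ) 0).app F) ≪≫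
      ((DerivedCategory.singleFunctorIsoCompQ _ 0).app F').symm
  let eE : (GrothLib.OX.resD V.ι).obj E ≅ (GrothLib.OX.RR (f ∣_ V)).obj (DCoh.inD _ F') :=
    (GrothLib.OX.resDRRBaseChange f V).app _ ≪≫ (GrothLib.OX.RR (f ∣_ V)).mapIso eF
  let eH : ∀ i, DCoh.HD ((GrothLib.OX.RR (f ∣_ V)).obj (DCoh.inD _ F')) i ≅
      (Scheme.Modules.restrictFunctor V.ι).obj (DCoh.HD E i) := fun i =>
    (DerivedCategory.homologyFunctor _ i).mapIso eE.symm ≪≫ GrothLib.OX.HDResIso V.ι E i
  refine GrothLib.DCoh.isFinLocFree_of_iso (eH 0) (GrothLib.RpushLocFree20.isFinLocFree_of_qc (f ∣_ V) F' ?_ ?_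
    (GrothLib.OX.isPerfect_of_iso (GrothLib.OX.isPerfect_resD hp V.ι) eE) fun i hi =>
      ((Scheme.Modules.restrictFunctor V.ι).map_isZero (hv i hi)).of_iso (eH i))
  · exact GrothLib.OX.isQCoh_of_iso ((Scheme.Modules.restrictFunctorIsoPullback j).app F).symm
      (GrothLib.FittSheaf.isQuasicoherent_pullback j F)
  · intro y
    have h1 := GrothLib.RpushPerf25.flatOver_restrict f F hflat (f ⁻¹ᵁ V) y
    rw [← morphismRestrict_ι f V] at h1
    exact (GrothLib.RelAmp22.flatOverAt_comp_openImmersion (f ∣_ V) V.ι F' y).1 h1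

end Groth.Agent.S1027
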