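import Groth.Agent.Lib.AlgSp.UnivClosed
import Groth.Agent.Lib.AlgSp.AffineMor
import Groth.Statements.S10270
-- import your own Groth.Agent.* helpers here

set_option autoImplicit false
universe u
open CategoryTheory CategoryTheory.Limits AlgebraicGeometry
open AlgSp

namespace Groth.Agent.S10270

/-- A morphism of algebraic spaces is integral if and only if it is affine and universally closed. -/
theorem result {S : Scheme.{u}} {X Y : AlgSp.Space S} (f : X ⟶ Y) :
    AlgSp.IsIntegralMor f.hom ↔ (AlgSp.IsAffineMor f.hom ∧ AlgSp.IsUnivClosedMor f.hom) := by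
  rw [GrothLib.AlgSp.isIntegralMor_iff, GrothLib.AlgSp.isAffineMor_iff]
  refine ⟨fun h => ⟨GrothLib.AlgSp.repWith_mono h fun A B g (hg : IsIntegralHom g) => inferInstance,
    GrothLib.AlgSp.isUnivClosedMor_of_repWith
      (GrothLib.AlgSp.repWith_mono h fun A B g (hg : IsIntegralHom g) => inferInstance)⟩, fun ⟨h₁, h₂⟩ => ?_⟩
  refine GrothLib.AlgSp.repWith_mono (GrothLib.AlgSp.repWith_inf_iff.2
    ⟨h₁, GrothLib.AlgSp.repWith_universallyClosed_of_isUnivClosedMor h₁.1 h₂⟩) fun A B g hg => ?_
  exact IsIntegralHom.iff_universallyClosed_and_isAffineHom.2 ⟨hg.2, hg.1⟩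

end Groth.Agent.S10270
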