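import Groth.Agent.Lib.AlgSp.UnivClosed
import Groth.Agent.Lib.AlgSp.AffineMor
import Groth.Statements.S10271
-- import your own Groth.Agent.* helpers here

set_option autoImplicit false
universe u
open CategoryTheory CategoryTheory.Limits AlgebraicGeometry
open AlgSp

namespace Groth.Agent.S10271

/-- A morphism of algebraic spaces is finite if and only if it is affine and proper. -/
theorem result {S : Scheme.{u}} {X Y : AlgSp.Space S} (f : X ⟶ Y) :
    AlgSp.IsFiniteMor f.hom ↔ (AlgSp.IsAffineMor f.hom ∧ AlgSp.IsProperMor f.hom) := by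
  rw [GrothLib.AlgSp.isFiniteMor_iff, GrothLib.AlgSp.isAffineMor_iff]
  constructor
  · intro h
    refine ⟨GrothLib.AlgSp.repWith_mono h fun A B g (hg : IsFinite g) => inferInstance, ?_, ⟨?_, ?_⟩, ?_⟩
    · exact (GrothLib.AlgSp.isSeparatedMor_iff_repWith h.1).2
        (GrothLib.AlgSp.repWith_mono h fun A B g (hg : IsFinite g) => inferInstance)
    · exact GrothLib.AlgSp.EtLocal.locP_of_repWith GrothLib.AlgSp.EtLocal.lft Y.property
        (GrothLib.AlgSp.repWith_mono h fun A B g (hg : IsFinite g) => show LocallyOfFiniteType g from inferInstance)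
    · exact GrothLib.AlgSp.isQuasiCompactMor_of_repWith
        (GrothLib.AlgSp.repWith_mono h fun A B g (hg : IsFinite g) => inferInstance)
    · exact GrothLib.AlgSp.isUnivClosedMor_of_repWith
        (GrothLib.AlgSp.repWith_mono h fun A B g (hg : IsFinite g) => inferInstance)
  · rintro ⟨h₁, -, ⟨h₂, -⟩, h₃⟩
    refine GrothLib.AlgSp.repWith_mono (GrothLib.AlgSp.repWith_inf_iff.2 ⟨h₁, GrothLib.AlgSp.repWith_inf_iff.2
      ⟨GrothLib.AlgSp.EtLocal.repWith_of_locP GrothLib.AlgSp.EtLocal.lft Y.property h₁.1 h₂,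
        GrothLib.AlgSp.repWith_universallyClosed_of_isUnivClosedMor h₁.1 h₃⟩⟩) fun A B g hg => ?_
    have : IsAffineHom g := hg.1
    have : LocallyOfFiniteType g := hg.2.1
    have : UniversallyClosed g := hg.2.2
    have : IsProper g := {}
    exact IsFinite.iff_isProper_and_isAffineHom.2 ⟨inferInstance, inferInstance⟩

end Groth.Agent.S10271
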