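import Groth.Agent.Lib.AlgSp.AffineMor
import Groth.Agent.Lib.AlgSp.Diag
import Groth.Statements.S10272
-- import your own Groth.Agent.* helpers here

set_option autoImplicit false
universe u
open CategoryTheory CategoryTheory.Limits AlgebraicGeometry
open AlgSp

namespace Groth.Agent.S10272

/-- If g is separated and the composite of f and g is finite (resp. integral) then f is finite (resp.
integral). -/
theorem result {S : Scheme.{u}} {X Y Z : AlgSp.Space S} (f : X ⟶ Y) (g : Y ⟶ Z)
    (hg : AlgSp.IsSeparatedMor g.hom) :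
    (AlgSp.IsFiniteMor (f ≫ g).hom → AlgSp.IsFiniteMor f.hom) ∧
    (AlgSp.IsIntegralMor (f ≫ g).hom → AlgSp.IsIntegralMor f.hom) := by
  rw [GrothLib.AlgSp.isIntegralMor_iff, GrothLib.AlgSp.isIntegralMor_iff, GrothLib.AlgSp.isFiniteMor_iff,
    GrothLib.AlgSp.isFiniteMor_iff]
  exact ⟨fun h => GrothLib.AlgSp.repWith_of_comp_diagonal f.hom g.hom
      (GrothLib.AlgSp.repWith_mono hg fun _ _ _ (_ : IsClosedImmersion _) => inferInstance) h,
    fun h => GrothLib.AlgSp.repWith_of_comp_diagonal f.hom g.hom
      (GrothLib.AlgSp.repWith_mono hg fun _ _ _ (_ : IsClosedImmersion _) => inferInstance) h⟩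

end Groth.Agent.S10272
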