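import Groth.Agent.Lib.AlgSp.FppfCover
import Groth.Statements.S10275
-- import your own Groth.Agent.* helpers here

set_option autoImplicit false
universe u
open CategoryTheory CategoryTheory.Limits AlgebraicGeometry
open AlgSp

namespace Groth.Agent.S10275

/-- A base change of a proper morphism of algebraic spaces is proper. -/
theorem result {S : Scheme.{u}} {X Y Y' X' : AlgSp.Space S} (f : X ⟶ Y) (g : Y' ⟶ Y)
    (fst : X' ⟶ X) (f' : X' ⟶ Y') (sq : IsPullback fst.hom f'.hom f.hom g.hom) (hf : AlgSp.IsProperMor f.hom) :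
    AlgSp.IsProperMor f'.hom := by
  exact GrothLib.AlgSp.baseChanges_and (GrothLib.AlgSp.baseChanges_diagonal _) (GrothLib.AlgSp.baseChanges_and (GrothLib.AlgSp.baseChanges_and (GrothLib.AlgSp.baseChanges_locP GrothLib.AlgSp.EtLocal.lft)
    GrothLib.AlgSp.baseChanges_quasiCompact) (GrothLib.AlgSp.baseChanges_univSp _)) X.property Y.property X'.property Y'.property sq hf

end Groth.Agent.S10275
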