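import Groth.Agent.Lib.AlgSp.UnivClosed
import Groth.Statements.S10276
-- import your own Groth.Agent.* helpers here

set_option autoImplicit false
universe u
open CategoryTheory CategoryTheory.Limits AlgebraicGeometry
open AlgSp

namespace Groth.Agent.S10276

/-- A composition of proper morphisms of algebraic spaces is proper. -/
theorem result {S : Scheme.{u}} {X Y Z : AlgSp.Space S} (f : X ⟶ Y) (g : Y ⟶ Z)
    (hf : AlgSp.IsProperMor f.hom) (hg : AlgSp.IsProperMor g.hom) : AlgSp.IsProperMor (f ≫ g).hom := by
  exact GrothLib.AlgSp.isProperMor_comp X.property Y.property Z.property hf hg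

end Groth.Agent.S10276
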