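import Groth.Agent.Lib.AlgSp.UnivClosed
import Groth.Statements.S10278
-- import your own Groth.Agent.* helpers here

set_option autoImplicit false
universe u
open CategoryTheory CategoryTheory.Limits AlgebraicGeometry
open AlgSp

namespace Groth.Agent.S10278

/-- Over a separated Y -> B, a morphism X -> Y from a space universally closed (resp. proper) over B is
universally closed with closed image (resp. proper). -/
theorem result {S : Scheme.{u}} {X Y B : AlgSp.Space S} (f : X ⟶ Y) (p : X ⟶ B)
    (q : Y ⟶ B) (comm : f ≫ q = p) (hq : AlgSp.IsSeparatedMor q.hom) :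
    (AlgSp.IsUnivClosedMor p.hom →
      AlgSp.IsUnivClosedMor f.hom ∧ IsClosed (Set.range (AlgSp.Points.map f.hom))) ∧
    (AlgSp.IsProperMor p.hom → AlgSp.IsProperMor f.hom) := by
  have e : f.hom ≫ q.hom = p.hom := by rw [← comm]; rfl
  constructor
  · intro hp
    rw [← e] at hp
    have hf := GrothLib.AlgSp.univClosed_of_comp_separated X.property Y.property B.property hp hq
    exact ⟨hf, GrothLib.AlgSp.isClosed_range_of_isUnivClosedMor Y.property hf⟩
  · intro hp
    rw [← e] at hp
    exact GrothLib.AlgSp.isProperMor_of_comp X.property Y.property B.property hp hq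

end Groth.Agent.S10278
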