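import Groth.Statements.S10281
import Groth.Agent.Lib.AlgSp.SchDenseSp
import Groth.Agent.Lib.AlgSp.PointsUniv
import Groth.Agent.Lib.AlgSp.ClosedSub
-- import your own Groth.Agent.* helpers here

set_option autoImplicit false
universe u
open CategoryTheory CategoryTheory.Limits AlgebraicGeometry
open AlgSp

namespace Groth.Agent.S10281

/-- The scheme theoretic image of a space proper over B in a space separated and locally of finite type
over B is proper over B, and the source surjects onto it. -/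
theorem result {S : Scheme.{u}} {X Y Z B : AlgSp.Space S} (h : X ⟶ Y) (f : X ⟶ B)
    (g : Y ⟶ B) (comm : h ≫ g = f) (hf : AlgSp.IsProperMor f.hom) (hg : AlgSp.IsSeparatedMor g.hom)
    (hg' : AlgSp.LocP @LocallyOfFiniteType g.hom) (i : Z ⟶ Y) (hZ : AlgSp.IsSchImage h.hom i.hom)
    (h' : X ⟶ Z) (fac : h' ≫ i = h) :
    AlgSp.IsProperMor (i ≫ g).hom ∧ AlgSp.IsSurjectiveMor h'.hom := by
  subst comm
  have hh : AlgSp.IsProperMor h.hom := GrothLib.AlgSp.isProperMor_of_comp X.property Y.property B.property hf hg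
  haveI : Mono i.hom := GrothLib.AlgSp.mono_of_closedImmersion hZ.1
  have hsurj : AlgSp.IsSurjectiveMor h'.hom := by
    intro z
    have hcl := GrothLib.AlgSp.isClosed_range_of_isUnivClosedMor Y.property hh.2.2
    obtain ⟨x, hx⟩ := hcl.closure_subset
      (GrothLib.AlgSp.range_subset_closure_of_isSchImage X.property Y.property hh.2.1.2 hZ ⟨z, rfl⟩)
    refine ⟨x, GrothLib.AlgSp.injective_map_of_mono i.hom ?_⟩
    rw [← Points.map_comp, ← hx, ← fac]
    rfl
  have hc : h'.hom ≫ (i ≫ g).hom = (h ≫ g).hom := by rw [← fac]; exact (Category.assoc _ _ _).symm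
  have hi : AlgSp.IsProperMor i.hom := GrothLib.AlgSp.isProperMor_of_repWith_isClosedImmersion Y.property hZ.1
  refine ⟨⟨GrothLib.AlgSp.isSeparatedMor_comp hi.1 hg,
    ⟨GrothLib.AlgSp.EtLocal.locP_comp GrothLib.AlgSp.EtLocal.lft Z.property Y.property B.property hi.2.1.1 hg', ?_⟩,
    GrothLib.AlgSp.isUnivClosedMor_of_surjective_comp hsurj (hc ▸ hf.2.2)⟩, hsurj⟩
  intro T T' hT hTc k fst snd sq
  have hT' : AlgSp.IsAlgSpace T' := GrothLib.AlgSp.isAlgSpace_pullback B.property.diag Z.property hT sq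
  have sq₁ := IsPullback.of_hasPullback h'.hom fst
  have hXc : AlgSp.IsQuasiCompactSp (pullback h'.hom fst) :=
    hf.2.1.2 hT hTc k (pullback.fst h'.hom fst) (pullback.snd h'.hom fst ≫ snd) (hc ▸ sq₁.paste_vert sq)
  haveI := GrothLib.AlgSp.compactSpace_points_of_isQuasiCompactSp hXc
  haveI : CompactSpace (AlgSp.Points T') := (GrothLib.AlgSp.surjective_map_of_isPullback sq₁ hsurj).compactSpace
    (Points.continuous_map _)
  exact GrothLib.AlgSp.isQuasiCompactSp_of_compactSpace_points hT'

end Groth.Agent.S10281
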