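import Groth.Statements.S10282
import Groth.Agent.Lib.AlgSp.Rep
-- import your own Groth.Agent.* helpers here

set_option autoImplicit false
universe u
open CategoryTheory CategoryTheory.Limits AlgebraicGeometry
open AlgSp

namespace Groth.Agent.S10282

/-- For a representable morphism of algebraic spaces the existence part of the valuative criterion with
extensions allowed is equivalent to the one without extensions. -/
theorem result {S : Scheme.{u}} {X Y : AlgSp.Space S} (f : X ⟶ Y)
    (hf : AlgSp.Representable f.hom) : AlgSp.ExistVC f.hom ↔ AlgSp.ExistVCStrict f.hom := by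
  constructor
  · intro h v
    obtain ⟨W, fst, π, sq⟩ := GrothLib.AlgSp.exists_isPullback_of_representable hf v.bot
    obtain ⟨e, l', hl₁, hl₂⟩ := h v
    obtain ⟨t, ht⟩ := (AlgSp.yon S).map_surjective (sq.lift v.top ((AlgSp.yon S).map v.j) v.comm)
    obtain ⟨m, hm⟩ := (AlgSp.yon S).map_surjective (sq.lift l'
      ((AlgSp.yon S).map (Over.homMk (Spec.map (CommRingCat.ofHom e.φ)) rfl : e.ptA' ⟶ v.ptA)) hl₂)
    have htπ : t ≫ π = v.j := (AlgSp.yon S).map_injective (by rw [Functor.map_comp, ht, sq.lift_snd])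
    have hmπ : m ≫ π = Over.homMk (Spec.map (CommRingCat.ofHom e.φ)) rfl :=
      (AlgSp.yon S).map_injective (by rw [Functor.map_comp, hm, sq.lift_snd])
    let j' : e.ptK' ⟶ e.ptA' := Over.homMk (Spec.map (CommRingCat.ofHom (algebraMap e.A' e.K'))) rfl
    let κ : e.ptK' ⟶ v.ptK := Over.homMk (Spec.map (CommRingCat.ofHom e.ψ)) (by
      change Spec.map _ ≫ Spec.map _ ≫ _ = Spec.map _ ≫ Spec.map _ ≫ _
      rw [← Spec.map_comp_assoc, ← Spec.map_comp_assoc, ← CommRingCat.ofHom_comp,
        ← CommRingCat.ofHom_comp, e.comm])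
    have hgen : j' ≫ m = κ ≫ t := (AlgSp.yon S).map_injective (sq.hom_ext (by
      rw [Functor.map_comp, Functor.map_comp, hm, ht, Category.assoc, Category.assoc, sq.lift_fst, sq.lift_fst]
      exact hl₁) (by
      rw [← Functor.map_comp, ← Functor.map_comp, Category.assoc, Category.assoc, htπ, hmπ]
      congr 1
      apply Over.OverMorphism.ext
      change Spec.map _ ≫ Spec.map _ = Spec.map _ ≫ Spec.map _
      rw [← Spec.map_comp, ← Spec.map_comp, ← CommRingCat.ofHom_comp, ← CommRingCat.ofHom_comp, e.comm]))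
    -- an affine open around the image of the closed point
    obtain ⟨O, hO, hxO, -⟩ := exists_isAffineOpen_mem_and_subset (U := (⊤ : W.left.Opens))
      (x := m.left (IsLocalRing.closedPoint e.A')) trivial
    have hmO : Set.range m.left ⊆ Set.range O.ι := by
      rintro _ ⟨p, rfl⟩
      rw [Scheme.Opens.range_ι]
      exact ((IsLocalRing.specializes_closedPoint p).map m.left.continuous).mem_open O.2 hxO
    have htO : Set.range t.left ⊆ Set.range O.ι := by
      rintro _ ⟨p, rfl⟩
      have hp : κ.left (default : PrimeSpectrum e.K') = p := Subsingleton.elim (α := PrimeSpectrum v.K) _ _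
      rw [← hp, ← Scheme.Hom.comp_apply, ← Over.comp_left, ← hgen, Over.comp_left, Scheme.Hom.comp_apply]
      exact hmO ⟨_, rfl⟩
    let mO : Spec (CommRingCat.of e.A') ⟶ O.toScheme := IsOpenImmersion.lift O.ι m.left hmO
    let tO : Spec (CommRingCat.of v.K) ⟶ O.toScheme := IsOpenImmersion.lift O.ι t.left htO
    haveI : IsAffine O.toScheme := hO
    obtain ⟨α, hα⟩ := Spec.map_surjective (mO ≫ O.toScheme.isoSpec.hom)
    obtain ⟨β, hβ⟩ := Spec.map_surjective (tO ≫ O.toScheme.isoSpec.hom)
    have hOg : Spec.map (CommRingCat.ofHom (algebraMap e.A' e.K')) ≫ mO =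
        Spec.map (CommRingCat.ofHom e.ψ) ≫ tO := by
      rw [← cancel_mono O.ι, Category.assoc, Category.assoc, IsOpenImmersion.lift_fac, IsOpenImmersion.lift_fac]
      exact congrArg CommaMorphism.left hgen
    have hαβ : α ≫ CommRingCat.ofHom (algebraMap e.A' e.K') = β ≫ CommRingCat.ofHom e.ψ := by
      apply Spec.map_injective
      rw [Spec.map_comp, Spec.map_comp, hα, hβ, reassoc_of% hOg]
    have hmem : ∀ w, β.hom w ∈ Set.range (algebraMap v.A v.K) := by
      intro w
      rcases ValuationRing.isInteger_or_isInteger v.A (β.hom w) with ⟨a, ha⟩ | ⟨a, ha⟩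
      · exact ⟨a, ha⟩
      · by_cases hw : β.hom w = 0
        · exact ⟨0, by rw [map_zero, hw]⟩
        have h1 : e.φ a * α.hom w = 1 := by
          apply IsFractionRing.injective e.A' e.K'
          rw [map_mul, map_one, show algebraMap e.A' e.K' (e.φ a) = e.ψ (algebraMap v.A v.K a) from
            congrArg (fun φ : v.A →+* e.K' => φ a) e.comm,
            show algebraMap e.A' e.K' (α.hom w) = e.ψ (β.hom w) from congrArg (fun φ => φ.hom w) hαβ,
            ha, ← map_mul, inv_mul_cancel₀ hw, map_one]
        haveI := e.isLocalHom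
        obtain ⟨u, hu⟩ := IsLocalHom.map_nonunit (f := e.φ) a (IsUnit.of_mul_eq_one _ h1)
        refine ⟨↑u⁻¹, ?_⟩
        rw [← inv_inv (β.hom w), ← ha, ← hu]
        exact map_units_inv (algebraMap v.A v.K) u
    have hinj := IsFractionRing.injective v.A v.K
    let γ₀ : Γ(O.toScheme, ⊤) →+* v.A :=
      { toFun := fun w => (hmem w).choose
        map_one' := hinj (by rw [(hmem 1).choose_spec]; simp)
        map_mul' := fun x y => hinj (by rw [(hmem _).choose_spec, map_mul, map_mul, (hmem x).choose_spec, (hmem y).choose_spec])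
        map_zero' := hinj (by rw [(hmem 0).choose_spec]; simp)
        map_add' := fun x y => hinj (by rw [(hmem _).choose_spec, map_add, map_add, (hmem x).choose_spec, (hmem y).choose_spec]) }
    let γ : Γ(O.toScheme, ⊤) ⟶ CommRingCat.of v.A := CommRingCat.ofHom γ₀
    have hγ : γ ≫ CommRingCat.ofHom (algebraMap v.A v.K) = β := by
      ext w; exact (hmem w).choose_spec
    let g : Spec (CommRingCat.of v.A) ⟶ W.left := Spec.map γ ≫ O.toScheme.isoSpec.inv ≫ O.ι
    have hjg : Spec.map (CommRingCat.ofHom (algebraMap v.A v.K)) ≫ g = t.left := by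
      rw [← Spec.map_comp_assoc, hγ, hβ, Category.assoc, Iso.hom_inv_id_assoc, IsOpenImmersion.lift_fac]
    have hgπ : g ≫ π.left = 𝟙 (Spec (CommRingCat.of v.A)) := by
      obtain ⟨δ, hδ⟩ := Spec.map_surjective (g ≫ π.left)
      have hδ' : δ ≫ CommRingCat.ofHom (algebraMap v.A v.K) = CommRingCat.ofHom (algebraMap v.A v.K) := by
        apply Spec.map_injective
        rw [Spec.map_comp, hδ, reassoc_of% hjg]
        exact congrArg CommaMorphism.left htπ
      rw [← hδ, show δ = 𝟙 _ from CommRingCat.hom_ext (RingHom.ext fun w => hinj (congrArg (fun φ => φ.hom w) hδ')),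
        Spec.map_id]
    let G : v.ptA ⟶ W := Over.homMk g (by
      change g ≫ W.hom = v.str
      rw [← Over.w π, ← Category.assoc, hgπ]
      exact Category.id_comp _)
    refine ⟨(AlgSp.yon S).map G ≫ fst, ?_, ?_⟩
    · rw [← Functor.map_comp_assoc, show v.j ≫ G = t from Over.OverMorphism.ext hjg, ht, sq.lift_fst]
    · rw [Category.assoc, sq.w, ← Functor.map_comp_assoc, show G ≫ π = 𝟙 _ from Over.OverMorphism.ext hgπ,
        CategoryTheory.Functor.map_id, Category.id_comp]
  · intro h v
    obtain ⟨l, h₁, h₂⟩ := h v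
    refine ⟨{ A' := v.A, K' := v.K, φ := RingHom.id _, ψ := RingHom.id _, comm := rfl, isLocalHom := ⟨fun _ ha => ha⟩ }, ?_⟩
    refine ⟨(AlgSp.yon S).map (Over.homMk (Spec.map (CommRingCat.ofHom (RingHom.id v.A))) rfl : _ ⟶ v.ptA) ≫ l, ?_, ?_⟩
    · rw [← h₁, ← Functor.map_comp_assoc, ← Functor.map_comp_assoc]
      congr 2
      apply Over.OverMorphism.ext
      change Spec.map _ ≫ Spec.map _ = Spec.map _ ≫ Spec.map _
      rw [← Spec.map_comp, ← Spec.map_comp]
      rfl
    · rw [Category.assoc, h₂]

end Groth.Agent.S10282
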