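import Groth.Statements.S10286
-- import your own Groth.Agent.* helpers here

set_option autoImplicit false
universe u
open CategoryTheory CategoryTheory.Limits AlgebraicGeometry
open AlgSp

namespace Groth.Agent.S10286

/-- The existence and uniqueness parts of the valuative criterion are stable under base change. -/
theorem result {S : Scheme.{u}} {X Y Z X' : AlgSp.Space S} (f : X ⟶ Y) (g : Z ⟶ Y)
    (fst : X' ⟶ X) (f' : X' ⟶ Z) (sq : IsPullback fst.hom f'.hom f.hom g.hom) :
    (AlgSp.ExistVC f.hom → AlgSp.ExistVC f'.hom) ∧ (AlgSp.UniqVC f.hom → AlgSp.UniqVC f'.hom) := by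
  refine ⟨fun h v => ?_, fun h v l l' hl₁ hl₂ hl₁' hl₂' => ?_⟩
  · let w : ValSq f.hom :=
      { A := v.A, K := v.K, str := v.str, top := v.top ≫ fst.hom, bot := v.bot ≫ g.hom
        comm := by rw [Category.assoc, sq.w, reassoc_of% v.comm] }
    obtain ⟨e, l, hl₁, hl₂⟩ := h w
    let e' : v.DomExt := { A' := e.A', K' := e.K', φ := e.φ, ψ := e.ψ, comm := e.comm, isLocalHom := e.isLocalHom }
    refine ⟨e', sq.lift l ((yon S).map (Over.homMk (Spec.map (CommRingCat.ofHom e.φ)) rfl : e'.ptA' ⟶ v.ptA) ≫ v.bot)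
      (by rw [Category.assoc]; exact hl₂), sq.hom_ext ?_ ?_, sq.lift_snd _ _ _⟩
    · rw [Category.assoc, sq.lift_fst, Category.assoc]
      exact hl₁
    · rw [Category.assoc, sq.lift_snd, Category.assoc, v.comm, ← Functor.map_comp_assoc, ← Functor.map_comp_assoc]
      congr 2
      apply Over.OverMorphism.ext
      change Spec.map _ ≫ Spec.map _ = Spec.map _ ≫ Spec.map _
      rw [← Spec.map_comp, ← Spec.map_comp, ← CommRingCat.ofHom_comp, ← CommRingCat.ofHom_comp, e.comm]
  · let w : ValSq f.hom :=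
      { A := v.A, K := v.K, str := v.str, top := v.top ≫ fst.hom, bot := v.bot ≫ g.hom
        comm := by rw [Category.assoc, sq.w, reassoc_of% v.comm] }
    refine sq.hom_ext (h w _ _ ?_ ?_ ?_ ?_) (hl₂.trans hl₂'.symm)
    · rw [← Category.assoc]; exact congrArg (· ≫ fst.hom) hl₁
    · rw [Category.assoc, sq.w, ← Category.assoc]; exact congrArg (· ≫ g.hom) hl₂
    · rw [← Category.assoc]; exact congrArg (· ≫ fst.hom) hl₁'
    · rw [Category.assoc, sq.w, ← Category.assoc]; exact congrArg (· ≫ g.hom) hl₂'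

end Groth.Agent.S10286
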