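import Groth.Statements.S10287
-- import your own Groth.Agent.* helpers here

set_option autoImplicit false
universe u
open CategoryTheory CategoryTheory.Limits AlgebraicGeometry
open AlgSp

namespace Groth.Agent.S10287

/-- The existence and uniqueness parts of the valuative criterion are stable under composition. -/
theorem result {S : Scheme.{u}} {X Y Z : AlgSp.Space S} (f : X ⟶ Y) (g : Y ⟶ Z) :
    (AlgSp.ExistVC f.hom → AlgSp.ExistVC g.hom → AlgSp.ExistVC (f ≫ g).hom) ∧
    (AlgSp.UniqVC f.hom → AlgSp.UniqVC g.hom → AlgSp.UniqVC (f ≫ g).hom) := by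
  refine ⟨fun hf hg v => ?_, fun hf hg v l l' hl₁ hl₂ hl₁' hl₂' => ?_⟩
  · let w : ValSq g.hom :=
      { A := v.A, K := v.K, str := v.str, top := v.top ≫ f.hom, bot := v.bot
        comm := by rw [Category.assoc]; exact v.comm }
    obtain ⟨e, l, hl₁, hl₂⟩ := hg w
    let p : e.ptK' ⟶ v.ptK := Over.homMk (Spec.map (CommRingCat.ofHom e.ψ)) (by
      change Spec.map _ ≫ Spec.map _ ≫ _ = Spec.map _ ≫ Spec.map _ ≫ _
      rw [← Spec.map_comp_assoc, ← Spec.map_comp_assoc, ← CommRingCat.ofHom_comp, ← CommRingCat.ofHom_comp]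
      exact congrArg (fun k => Spec.map (CommRingCat.ofHom k) ≫ v.str) e.comm.symm)
    let w' : ValSq f.hom :=
      { A := e.A', K := e.K', str := Spec.map (CommRingCat.ofHom e.φ) ≫ v.str
        top := (yon S).map p ≫ v.top
        bot := l
        comm := by
          rw [Category.assoc]
          exact hl₁.symm }
    obtain ⟨e₂, l₂, h₁, h₂⟩ := hf w'
    let e₃ : v.DomExt :=
      { A' := e₂.A', K' := e₂.K', φ := e₂.φ.comp e.φ, ψ := e₂.ψ.comp e.ψ
        comm := by rw [← RingHom.comp_assoc, e₂.comm, RingHom.comp_assoc, RingHom.comp_assoc]; exact congrArg _ e.comm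
        isLocalHom := by
          have h₁ : IsLocalHom e.φ := e.isLocalHom
          have h₂ : IsLocalHom e₂.φ := e₂.isLocalHom
          exact RingHom.isLocalHom_comp _ _ }
    let c : e₃.ptA' ⟶ e₂.ptA' := Over.homMk (𝟙 _) (by
      change 𝟙 _ ≫ Spec.map _ ≫ Spec.map _ ≫ _ = Spec.map _ ≫ _
      rw [Category.id_comp, ← Spec.map_comp_assoc, ← CommRingCat.ofHom_comp])
    let c' : e₃.ptK' ⟶ e₂.ptK' := Over.homMk (𝟙 _) (by
      change 𝟙 _ ≫ Spec.map _ ≫ Spec.map _ ≫ Spec.map _ ≫ _ = Spec.map _ ≫ Spec.map _ ≫ _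
      rw [Category.id_comp, ← Spec.map_comp_assoc (CommRingCat.ofHom e.φ), ← CommRingCat.ofHom_comp])
    refine ⟨e₃, (yon S).map c ≫ l₂, ?_, ?_⟩
    · refine ((Functor.map_comp_assoc _ _ _ _).symm.trans ?_).trans
        ((congrArg ((yon S).map c' ≫ ·) h₁).trans ?_)
      · rw [← Functor.map_comp_assoc]
        congr 2
      · change (yon S).map c' ≫ (yon S).map _ ≫ (yon S).map p ≫ v.top = _
        rw [← Functor.map_comp_assoc, ← Functor.map_comp_assoc]
        congr 2
        apply Over.OverMorphism.ext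
        change (𝟙 _ ≫ Spec.map _) ≫ Spec.map _ = Spec.map _
        rw [Category.id_comp, ← Spec.map_comp, ← CommRingCat.ofHom_comp]
    · change ((yon S).map c ≫ l₂) ≫ f.hom ≫ g.hom = _
      rw [Category.assoc, reassoc_of% h₂]
      change (yon S).map c ≫ (yon S).map _ ≫ l ≫ g.hom = _
      rw [hl₂, ← Functor.map_comp_assoc, ← Functor.map_comp_assoc]
      congr 2
      apply Over.OverMorphism.ext
      change (𝟙 _ ≫ Spec.map _) ≫ Spec.map _ = Spec.map _
      rw [Category.id_comp, ← Spec.map_comp, ← CommRingCat.ofHom_comp]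
  · let w : ValSq g.hom :=
      { A := v.A, K := v.K, str := v.str, top := v.top ≫ f.hom, bot := v.bot
        comm := by rw [Category.assoc]; exact v.comm }
    have e : l ≫ f.hom = l' ≫ f.hom := hg w _ _
      ((Category.assoc _ _ _).symm.trans (congrArg (· ≫ f.hom) hl₁)) ((Category.assoc _ _ _).trans hl₂)
      ((Category.assoc _ _ _).symm.trans (congrArg (· ≫ f.hom) hl₁')) ((Category.assoc _ _ _).trans hl₂')
    let w' : ValSq f.hom :=
      { A := v.A, K := v.K, str := v.str, top := v.top, bot := l ≫ f.hom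
        comm := by rw [← hl₁, Category.assoc] }
    exact hf w' l l' hl₁ rfl hl₁' e.symm

end Groth.Agent.S10287
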