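import Groth.Statements.S7142
import Groth.Agent.Lib.KProj.Equiv
import Mathlib.Algebra.Category.ModuleCat.Biproducts
import Mathlib.Algebra.Category.ModuleCat.Projective

set_option autoImplicit false
universe u
open CategoryTheory CategoryTheory.Limits
attribute [local instance] HasDerivedCategory.standard
open KZero

namespace Groth.Agent.S7142

/-- Let R be a ring. There is an isomorphism K₀(R) ≅ K₀(D_perf(R)) between the Grothendieck group of
finite projective R-modules and that of the triangulated category of perfect objects of D(R),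
sending the class of a finite projective module M to the class of M placed in degree 0; under its
inverse the class of a bounded complex M^• of finite projective modules (vanishing outside [a, b])
goes to Σ_i (-1)^i [M^i]. -/
theorem result (R : Type u) [CommRing R] :
    ∃ φ : KZero.K0sub (fun M : ModuleCat.{u} R => Module.Finite R M ∧ Module.Projective R M) ≃+
        KZero.K0tr (fun K : Dual.D R => DRing.IsPerfect R K),
      (∀ (M : Type u) [AddCommGroup M] [Module R M], Module.Finite R M → Module.Projective R M →
        φ (KZero.clSub (fun M : ModuleCat.{u} R => Module.Finite R M ∧ Module.Projective R M) (ModuleCat.of R M)) =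
          KZero.clTr (fun K : Dual.D R => DRing.IsPerfect R K) (Dual.inD R M)) ∧
      ∀ (E : DRing.Cx R) (a b : ℤ), DRing.VanishesOutside E a b → DRing.TermwiseFiniteProjective E →
        φ.symm (KZero.clTr (fun K : Dual.D R => DRing.IsPerfect R K) (DRing.toD E)) =
          (Finset.Icc a b).sum (fun i => (i.negOnePow : ℤ) •
            KZero.clSub (fun M : ModuleCat.{u} R => Module.Finite R M ∧ Module.Projective R M) (E.X i)) := by
  obtain ⟨φ, h1, h2⟩ := GrothLib.KProj.exists_equiv
    (P := fun M : ModuleCat.{u} R => Module.Finite R M ∧ Module.Projective R M)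
    (fun K : Dual.D R => DRing.IsPerfect R K)
    ⟨fun {X Y} e h => ⟨have := h.1; Module.Finite.equiv e.toLinearEquiv,
        have := h.2; Module.Projective.of_equiv e.toLinearEquiv⟩,
      fun {Z} hZ => by
        have : Subsingleton Z := ModuleCat.subsingleton_of_isZero hZ
        exact ⟨inferInstance, inferInstance⟩,
      fun {X Y} hX hY => by
        have := hX.1; have := hX.2; have := hY.1; have := hY.2
        exact ⟨Module.Finite.equiv (ModuleCat.biprodIsoProd X Y).symm.toLinearEquiv,
          Module.Projective.of_equiv (ModuleCat.biprodIsoProd X Y).symm.toLinearEquiv⟩,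
      fun {X Y} f hf hX hY => by
        have := hX.1; have := hX.2; have := hY.2
        obtain ⟨s, hs⟩ := f.hom.exists_rightInverse_of_surjective
          (LinearMap.range_eq_top.2 ((ModuleCat.epi_iff_surjective f).1 hf))
        have hp : ∀ x, f.hom (x - s (f.hom x)) = 0 := fun x => by
          rw [map_sub, show f.hom (s (f.hom x)) = f.hom x from LinearMap.congr_fun hs (f.hom x), sub_self]
        let p : X →ₗ[R] LinearMap.ker f.hom :=
          LinearMap.codRestrict _ (LinearMap.id - s ∘ₗ f.hom) hp
        have hpi : p ∘ₗ (LinearMap.ker f.hom).subtype = LinearMap.id := LinearMap.ext fun x => Subtype.ext (by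
          simp [p, show f.hom x.1 = 0 from x.2])
        have h1 := Module.Finite.of_surjective p (fun y => ⟨y.1, LinearMap.congr_fun hpi y⟩)
        have h2 := Module.Projective.of_split (LinearMap.ker f.hom).subtype p hpi
        exact ⟨Module.Finite.equiv (ModuleCat.kernelIsoKer f).symm.toLinearEquiv,
          Module.Projective.of_equiv (ModuleCat.kernelIsoKer f).symm.toLinearEquiv⟩⟩
    (fun X hX => (IsProjective.iff_projective (R := R) X).1 hX.2)
    (fun K => ⟨fun ⟨E, a, b, h, hE, e⟩ => ⟨E, ⟨⟨a, b, h⟩, hE⟩, e⟩,
      fun ⟨E, ⟨⟨a, b, h⟩, hE⟩, e⟩ => ⟨E, a, b, h, hE, e⟩⟩)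
  refine ⟨φ, fun M _ _ h h' => h1 _ ⟨h, h'⟩, fun E a b h hE => ?_⟩
  rw [show φ.symm _ = _ from h2 E ⟨⟨a, b, h⟩, hE⟩]
  refine finsum_eq_sum_of_support_subset _ fun i hi => ?_
  by_contra hc
  simp only [Finset.coe_Icc, Set.mem_Icc, not_and_or, not_le] at hc
  exact hi ((congrArg _ (GrothLib.K0Sub.clSub_isZero (h i hc))).trans (smul_zero _))

end Groth.Agent.S7142
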