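import Groth.Statements.S1029
import Groth.Agent.S7142
import Groth.Agent.Lib.KDer.Transport
import Groth.Agent.Lib.OX.TildePerfect
import Groth.Agent.Lib.OX.TildeD
import Groth.Agent.Lib.OX.AffineApps
import Groth.Agent.Lib.OX.BVdB
import Groth.Agent.Lib.DCxRing.CompactPerfect
import Groth.Agent.Lib.DCxRing.Perfect

set_option autoImplicit false
universe u
open CategoryTheory CategoryTheory.Limits AlgebraicGeometry
attribute [local instance] HasDerivedCategory.standard
open KZero

namespace Groth.Agent.S1029

/-- Let A be a ring and X = Spec A. There is an isomorphism from K₀(A) (free abelian group on finite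
projective A-modules modulo short exact sequences of such) to K₀(X) = K₀(D_perf(O_X)) (free abelian
group on perfect objects of D(O_X) modulo distinguished triangles among them) sending the class of M
to the class of M~ placed in degree 0. -/
theorem result (A : Type u) [CommRing A] :
    ∃ φ : KZero.K0sub (fun M : ModuleCat.{u} A => Module.Finite A M ∧ Module.Projective A M) ≃+
        KZero.K0tr (fun K : DCoh.D (Spec (CommRingCat.of A)) => DCoh.IsPerfect K),
      ∀ (M : ModuleCat.{u} A), Module.Finite A M → Module.Projective A M →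
        φ (KZero.clSub (fun M : ModuleCat.{u} A => Module.Finite A M ∧ Module.Projective A M) M) =
          KZero.clTr (fun K : DCoh.D (Spec (CommRingCat.of A)) => DCoh.IsPerfect K) (DCoh.inD (Spec (CommRingCat.of A)) (tilde M)) := by
  obtain ⟨hfull, hfaith, hess⟩ := GrothLib.OX.tildeD_full_faithful_essImage (R := CommRingCat.of A)
  obtain ⟨e, he, -⟩ := Groth.Agent.S7142.result A
  have hz : ObjectProperty.IsClosedUnderIsomorphisms (fun K : Dual.D A => DRing.IsPerfect A K) :=
    ⟨fun i h => GrothLib.DR.isPerfect_of_iso i h⟩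
  have hz' : ObjectProperty.IsClosedUnderIsomorphisms
      (fun K : DCoh.D (Spec (CommRingCat.of A)) => DCoh.IsPerfect K) :=
    ⟨fun i h => GrothLib.OX.isPerfect_of_iso h i⟩
  obtain ⟨φ, hφ⟩ := GrothLib.KDer.exists_transport (DCoh.tildeD (CommRingCat.of A))
    (fun K : Dual.D A => DRing.IsPerfect A K)
    (fun K : DCoh.D (Spec (CommRingCat.of A)) => DCoh.IsPerfect K)
    (GrothLib.DR.isPerfect_of_isZero (isZero_zero _))
    (GrothLib.OX.isPerfect_of_isZero_obj (isZero_zero _))
    (fun K => GrothLib.OX.isPerfect_tildeD_iff K)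
    (fun K hK => hess K (GrothLib.OX.isQCohD_of_isPerfect hK))
  refine ⟨e.trans φ, fun M h h' => ?_⟩
  have hp : DRing.IsPerfect A (Dual.inD A M) :=
    GrothLib.DR.isPerfect_of_iso
      ((shiftFunctorZero' (Dual.D A) (-(0 : ℤ)) neg_zero).app _)
      (have := h; have := h'; GrothLib.DR.isPerfect_single 0 M)
  rw [AddEquiv.trans_apply]
  refine ((congrArg φ (he M h h')).trans (hφ _ hp)).trans ?_
  exact GrothLib.KDer.clTr_iso (GrothLib.OX.isPerfect_of_isZero_obj (isZero_zero _))
    (((tilde.functor (CommRingCat.of A)).mapDerivedCategorySingleFunctor 0).app (ModuleCat.of A M))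

end Groth.Agent.S1029
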