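import Groth.Statements.S10292
import Groth.Agent.Lib.AlgSp.Valuative
import Groth.Agent.Lib.AlgSp.LocP
-- import your own Groth.Agent.* helpers here

set_option autoImplicit false
universe u
open CategoryTheory CategoryTheory.Limits AlgebraicGeometry
open AlgSp

namespace Groth.Agent.S10292

/-- Along a flat morphism of algebraic spaces, a morphism from the spectrum of a valuation ring to the
target whose closed point is hit lifts to the source after an extension of valuation rings
(injective and local). -/
theorem result {S : Scheme.{u}} {X Y : AlgSp.Space S} (f : X ⟶ Y)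
    (hf : AlgSp.LocP @Flat f.hom) (A : Type u) [CommRing A] [IsDomain A] [ValuationRing A]
    (str : Spec (.of A) ⟶ S) (b : (AlgSp.yon S).obj (Over.mk str) ⟶ Y.obj)
    (hb : AlgSp.Points.ofPt b (IsLocalRing.closedPoint A) ∈ Set.range (AlgSp.Points.map f.hom)) :
    ∃ (A' : Type u) (_ : CommRing A') (_ : IsDomain A') (_ : ValuationRing A') (φ : A →+* A'),
      Function.Injective φ ∧ IsLocalHom φ ∧
      ∃ l : (AlgSp.yon S).obj (Over.mk (Spec.map (CommRingCat.ofHom φ) ≫ str)) ⟶ X.obj,
        l ≫ f.hom = (AlgSp.yon S).map (Over.homMk (Spec.map (CommRingCat.ofHom φ)) rfl :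
          Over.mk (Spec.map (CommRingCat.ofHom φ) ≫ str) ⟶ Over.mk str) ≫ b := by
  let T : Over S := Over.mk str
  let π := pullback.snd f.hom b
  have hP := GrothLib.AlgSp.isAlgSpace_pullback' Y.property X.property (AlgSp.IsAlgSpace.yon_obj T) f.hom b
  have hflat : AlgSp.LocP @Flat π := GrothLib.AlgSp.EtLocal.locP_of_isPullback GrothLib.AlgSp.EtLocal.flat
    X.property Y.property (AlgSp.IsAlgSpace.yon_obj T) (IsPullback.of_hasPullback f.hom b) hf
  obtain ⟨x, hx⟩ := hb
  obtain ⟨z, -, hz⟩ := GrothLib.AlgSp.exists_of_isPullback (IsPullback.of_hasPullback f.hom b)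
    (y := AlgSp.Points.ofScheme T (IsLocalRing.closedPoint A))
    (hx.trans (AlgSp.Points.ofPt_eq_map_ofScheme b (IsLocalRing.closedPoint A : ↥T.left)))
  obtain ⟨U, w, we, ws⟩ := hP.atlas
  obtain ⟨u, rfl⟩ := GrothLib.AlgSp.surjective_ofPt_of_repWith ws z
  obtain ⟨α, hα⟩ := (AlgSp.yon S).map_surjective (w ≫ π)
  haveI : Flat α.left := hflat w (𝟙 _) α we (AlgSp.repWith_id _ _) (by rw [hα, Category.comp_id])
  have hu : α.left u = IsLocalRing.closedPoint A := by
    apply (AlgSp.Points.schemeEquiv T).injective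
    refine (GrothLib.AlgSp.map_yon_ofPt α u).symm.trans ?_
    rw [hα, AlgSp.Points.map_comp, ← AlgSp.Points.ofPt_eq_map_ofScheme]
    exact hz
  let η : ↥T.left := (⊥ : PrimeSpectrum A)
  have hη : η ⤳ α.left u := (PrimeSpectrum.le_iff_specializes _ _).1 bot_le
  obtain ⟨u', hu', hu'η⟩ := (Flat.generalizingMap α.left) hη
  obtain ⟨A', σ, hσ, hgen⟩ := GrothLib.AlgSp.exists_valuation_point (L := ↥(U.left.residueField u'))
    (U.left.fromSpecResidueField u') u (by rw [Scheme.fromSpecResidueField_apply]; exact hu')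
  obtain ⟨φ, hφ⟩ := Spec.map_surjective (R := CommRingCat.of A) (S := CommRingCat.of A') (σ ≫ α.left)
  have hcl : PrimeSpectrum.comap φ.hom (IsLocalRing.closedPoint A') = IsLocalRing.closedPoint A := by
    rw [← hu, ← hσ]
    exact congrArg (fun g : Spec (CommRingCat.of A') ⟶ T.left => g (IsLocalRing.closedPoint A')) hφ
  have hinj : Function.Injective φ.hom := by
    have hg : PrimeSpectrum.comap ((algebraMap A' (U.left.residueField u')).comp φ.hom)
        (IsLocalRing.closedPoint (U.left.residueField u')) = η := by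
      have h1 : Spec.map (φ ≫ CommRingCat.ofHom (algebraMap A' (U.left.residueField u'))) =
          U.left.fromSpecResidueField u' ≫ α.left := by
        rw [Spec.map_comp, hφ, reassoc_of% hgen]
      refine (congrArg (fun g : Spec (U.left.residueField u') ⟶ T.left => g (IsLocalRing.closedPoint _)) h1).trans ?_
      change α.left (U.left.fromSpecResidueField u' _) = η
      rw [Scheme.fromSpecResidueField_apply, hu'η]
    rw [RingHom.injective_iff_ker_eq_bot, ← le_bot_iff]
    intro a ha
    have : a ∈ η.asIdeal := by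
      rw [← hg, PrimeSpectrum.comap_asIdeal, Ideal.mem_comap, RingHom.comp_apply, RingHom.mem_ker.1 ha, map_zero]
      exact zero_mem _
    exact this
  refine ⟨A', inferInstance, inferInstance, inferInstance, φ.hom, hinj, ?_, ?_⟩
  · exact ((IsLocalRing.local_hom_TFAE φ.hom).out 4 0).1 (congrArg PrimeSpectrum.asIdeal hcl)
  · have hw : σ ≫ U.hom = Spec.map φ ≫ str :=
      (congrArg (σ ≫ ·) (Over.w α).symm).trans ((Category.assoc _ _ _).symm.trans (congrArg (· ≫ str) hφ.symm))
    refine ⟨(AlgSp.yon S).map (Over.homMk σ hw : Over.mk (Spec.map φ ≫ str) ⟶ U) ≫ w ≫ pullback.fst f.hom b, ?_⟩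
    rw [Category.assoc, Category.assoc, pullback.condition]
    change _ ≫ w ≫ π ≫ b = _
    rw [← Category.assoc w, ← hα, ← Functor.map_comp_assoc]
    congr 2
    apply Over.OverMorphism.ext
    exact hφ.symm

end Groth.Agent.S10292
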