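import Groth.Statements.S10294
import Groth.Agent.Lib.AlgSp.LocP
import Groth.Agent.Lib.AlgSp.AffineMor
import Groth.Prelude.Def_AlgSpMor5
-- import your own Groth.Agent.* helpers here

set_option autoImplicit false
universe u
open CategoryTheory CategoryTheory.Limits AlgebraicGeometry
open AlgSp

namespace Groth.Agent.S10294

/-- Finite locally free is the same as finite, flat and locally of finite presentation; over a locally
Noetherian target it is the same as finite and flat. -/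
theorem result {S : Scheme.{u}} {X Y : AlgSp.Space S} (f : X ⟶ Y) :
    (AlgSp.IsFinLocFreeMor f.hom ↔
      (AlgSp.IsFiniteMor f.hom ∧ AlgSp.LocP @Flat f.hom ∧ AlgSp.LocP @LocallyOfFinitePresentation f.hom)) ∧
    (AlgSp.IsLocNoethSp Y.obj →
      (AlgSp.IsFinLocFreeMor f.hom ↔ (AlgSp.IsFiniteMor f.hom ∧ AlgSp.LocP @Flat f.hom))) := by
  have key : AlgSp.IsFinLocFreeMor f.hom ↔ (AlgSp.IsFiniteMor f.hom ∧ AlgSp.LocP @Flat f.hom ∧
      AlgSp.LocP @LocallyOfFinitePresentation f.hom) := by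
    constructor
    · intro h
      exact ⟨GrothLib.AlgSp.isFiniteMor_iff.2 (GrothLib.AlgSp.repWith_mono h fun _ _ _ hg => hg.1),
        GrothLib.AlgSp.EtLocal.locP_of_repWith GrothLib.AlgSp.EtLocal.flat Y.property
          (GrothLib.AlgSp.repWith_mono h fun _ _ _ hg => hg.2.1),
        GrothLib.AlgSp.EtLocal.locP_of_repWith GrothLib.AlgSp.EtLocal.lfp Y.property
          (GrothLib.AlgSp.repWith_mono h fun _ _ _ hg => hg.2.2)⟩
    · rintro ⟨h1, h2, h3⟩
      have hr := GrothLib.AlgSp.isFiniteMor_iff.1 h1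
      exact ⟨hr.1, fun T V g fst snd sq => ⟨hr.2 _ _ _ sq,
        (GrothLib.AlgSp.EtLocal.repWith_of_locP GrothLib.AlgSp.EtLocal.flat Y.property hr.1 h2).2 _ _ _ sq,
        (GrothLib.AlgSp.EtLocal.repWith_of_locP GrothLib.AlgSp.EtLocal.lfp Y.property hr.1 h3).2 _ _ _ sq⟩⟩
  refine ⟨key, fun hN => key.trans ⟨fun h => ⟨h.1, h.2.1⟩, fun h => ⟨h.1, h.2, ?_⟩⟩⟩
  obtain ⟨V, q, qe, qs, hV⟩ := hN
  have hr := GrothLib.AlgSp.isFiniteMor_iff.1 h.1
  obtain ⟨W, a, g, sq⟩ := GrothLib.AlgSp.exists_isPullback_of_representable hr.1 q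
  haveI : IsFinite g.left := hr.2 _ _ _ sq
  haveI := hV
  exact GrothLib.AlgSp.EtLocal.lfp.locP_of_chart (GrothLib.AlgSp.repWith_of_isPullback sq.flip qe)
    (GrothLib.AlgSp.repWith_of_isPullback sq.flip qs) qe sq.w
    (LocallyOfFinitePresentation.iff_locallyOfFiniteType.2 inferInstance)

end Groth.Agent.S10294
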