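import Groth.Statements.S10296
import Groth.Agent.Lib.AlgSp.NormExists
-- import your own Groth.Agent.* helpers here

set_option autoImplicit false
universe u
open CategoryTheory CategoryTheory.Limits AlgebraicGeometry
open AlgSp GrothLib.AlgSp
set_option backward.isDefEq.respectTransparency false

namespace Groth.Agent.S10296

/-- The induced morphism from the normalization of X in Y to any integral Z -> X through which Y -> X
factors is the normalization of Z in Y. -/
theorem result {S : Scheme.{u}} {Y X X' Z : AlgSp.Space S} (f : Y ⟶ X)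
    (hqc : AlgSp.IsQuasiCompactMor f.hom) (hqs : AlgSp.IsQuasiSeparatedMor f.hom) (ν : X' ⟶ X) (f' : Y ⟶ X')
    (hn : AlgSp.IsRelNormalization f.hom ν.hom f'.hom) (π : Z ⟶ X) (hπ : AlgSp.IsIntegralMor π.hom) (g : Y ⟶ Z)
    (hg : g ≫ π = f) (h : X' ⟶ Z) (h1 : f' ≫ h = g) (h2 : h ≫ π = ν) :
    AlgSp.IsRelNormalization g.hom h.hom f'.hom := by
  have h1' : f'.hom ≫ h.hom = g.hom := congrArg InducedCategory.Hom.hom h1
  have h2' : h.hom ≫ π.hom = ν.hom := congrArg InducedCategory.Hom.hom h2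
  have hg' : g.hom ≫ π.hom = f.hom := congrArg InducedCategory.Hom.hom hg
  have hπr := isIntegralMor_iff.1 hπ
  have hνr := isIntegralMor_iff.1 hn.2.1
  have hint : IsIntegralMor h.hom := by
    have sqP := IsPullback.of_hasPullback ν.hom π.hom
    let s : X'.obj ⟶ pullback ν.hom π.hom := pullback.lift (𝟙 _) h.hom (by rw [Category.id_comp, h2'])
    rw [show h.hom = s ≫ pullback.snd _ _ from (pullback.lift_snd _ _ _).symm]
    refine isIntegralMor_iff.2 (repWith_comp ?_ (repWith_of_isPullback sqP hνr))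
    refine repWith_mono (repWith_section (P := @IsClosedImmersion) (pullback.fst _ _) s (pullback.lift_fst _ _ _) ?_)
      fun A B m (hm : IsClosedImmersion m) => inferInstanceAs (IsIntegralHom m)
    exact repWith_of_isPullback (isPullback_diagonal_of_isPullback sqP.flip)
      ((isSeparatedMor_iff_repWith hπr.1).2 (repWith_mono hπr fun A B m (hm : IsIntegralHom m) => inferInstance))
  refine ⟨h1', hint, fun Z' hZ' π' g' hπ' hg'' => ?_⟩
  have hπ'r := isIntegralMor_iff.1 hπ'
  have hcomp : IsIntegralMor (π' ≫ π.hom) := isIntegralMor_iff.2 (repWith_comp hπ'r hπr)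
  obtain ⟨k, ⟨k₁, k₂⟩, ku⟩ := hn.2.2 hZ' (π' ≫ π.hom) g' hcomp (by rw [← Category.assoc, hg'', hg'])
  refine ⟨k, ⟨k₁, ?_⟩, fun k' ⟨e₁, e₂⟩ => ku k' ⟨e₁, by rw [← Category.assoc, e₂, h2']⟩⟩
  exact (hn.2.2 Z.property π.hom g.hom hπ hg').unique
    ⟨by rw [← Category.assoc, k₁, hg''], by rw [Category.assoc, k₂]⟩ ⟨h1', h2'⟩
end Groth.Agent.S10296
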