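import Groth.Statements.S10299
import Groth.Agent.Lib.AlgSp.NormExists
import Groth.Agent.Lib.AlgSp.AffineDescent
import Groth.Agent.Lib.AlgSp.EtaleLocallyProps
import Groth.Agent.Lib.N2.Scheme8
import Groth.Agent.S0573
import Groth.Agent.Lib.AlgSp.IdealEtLib

set_option autoImplicit false
set_option backward.isDefEq.respectTransparency false
universe u
open CategoryTheory CategoryTheory.Limits AlgebraicGeometry
open AlgSp
open GrothLib.AlgSp

namespace Groth.Agent.S10299

theorem finite_of_intInitial {S : Scheme.{u}} {P : AlgSp.Sp S} (hP : AlgSp.IsAlgSpace P) {V M : Over S}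
    [IsAffine V.left] (q : P ⟶ (AlgSp.yon S).obj V) (hqc : AlgSp.IsQuasiCompactMor q) (hqs : AlgSp.IsQuasiSeparatedMor q)
    (hlft : AlgSp.LocP @LocallyOfFiniteType q)
    (hred : ∀ (W : Over S) (w : (AlgSp.yon S).obj W ⟶ P), AlgSp.RepWith @Etale w → IsReduced W.left)
    (hNag : CAlg.IsNagata ↑Γ(V.left, ⊤)) (μ : M ⟶ V) [IsIntegralHom μ.left] (φ : P ⟶ (AlgSp.yon S).obj M)
    (hi : IsIntInitial q μ φ) (hφμ : φ ≫ (AlgSp.yon S).map μ = q) : IsFinite μ.left := by
  obtain ⟨W, C, w, c₁, c₂, hW, hC, we, ws, hwc, hdesc⟩ := exists_affine_presentation hP q hqc hqs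
  haveI := hW
  haveI : IsReduced W.left := hred W w we
  haveI : IsAffine M.left := isAffine_of_isAffineHom μ.left
  obtain ⟨m, hm⟩ := (AlgSp.yon S).map_surjective (w ≫ φ)
  haveI : QuasiCompact m.left := inferInstance
  -- the image
  let Z : Over S := Over.mk (m.left.imageι ≫ M.hom)
  let i : Z ⟶ M := Over.homMk m.left.imageι rfl
  let m' : W ⟶ Z := Over.homMk m.left.toImage (by
    show m.left.toImage ≫ m.left.imageι ≫ M.hom = W.hom
    rw [Scheme.Hom.toImage_imageι_assoc, Over.w m])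
  have hm' : m' ≫ i = m := Over.OverMorphism.ext m.left.toImage_imageι
  haveI : IsClosedImmersion i.left := inferInstanceAs (IsClosedImmersion m.left.imageι)
  haveI : Mono i := (Over.forget S).mono_of_mono_map (inferInstanceAs (Mono i.left))
  have hc : (AlgSp.yon S).map c₁ ≫ (AlgSp.yon S).map m' = (AlgSp.yon S).map c₂ ≫ (AlgSp.yon S).map m' := by
    rw [← Functor.map_comp, ← Functor.map_comp]
    refine congrArg _ ((cancel_mono i).1 ((AlgSp.yon S).map_injective ?_))
    simp only [Category.assoc, hm', Functor.map_comp, hm]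
    rw [← Category.assoc, hwc, Category.assoc]
  obtain ⟨g, hg⟩ := hdesc _ ((AlgSp.yon S).map m') hc
  haveI := chart_isLocallySurjective we ws
  haveI : Epi w := (Sheaf.isLocallySurjective_iff_epi _).1 inferInstance
  have hgi : g ≫ (AlgSp.yon S).map i = φ := by
    rw [← cancel_epi w, ← Category.assoc, hg, ← Functor.map_comp, hm', hm]
  obtain ⟨h, ⟨hh₁, hh₂⟩, -⟩ := hi (i ≫ μ) (by rw [Over.comp_left]; infer_instance) g (by
    rw [Functor.map_comp, ← Category.assoc, hgi, hφμ])
  obtain ⟨r, -, hu⟩ := hi μ inferInstance φ hφμ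
  have hhi : h ≫ i = 𝟙 M := (hu _ ⟨by rw [Functor.map_comp, ← Category.assoc, hh₁, hgi],
    by rw [Category.assoc, hh₂]⟩).trans
    (hu _ ⟨by rw [CategoryTheory.Functor.map_id, Category.comp_id], Category.id_comp _⟩).symm
  haveI : IsSplitEpi i := ⟨⟨⟨h, hhi⟩⟩⟩
  haveI : IsIso i := isIso_of_mono_of_isSplitEpi i
  haveI : IsIso i.left := inferInstanceAs (IsIso ((Over.forget S).map i))
  have hinj : Function.Injective m.left.appTop.hom := by
    rw [RingHom.injective_iff_ker_eq_bot, ← topIdeal_ker m.left inferInstance, ← m.left.ker.ker_subschemeι,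
      show m.left.ker.subschemeι = i.left from rfl, topIdeal_ker i.left inferInstance, ← RingHom.injective_iff_ker_eq_bot]
    exact (ConcreteCategory.bijective_of_isIso i.left.appTop).1
  -- rings
  have hft : (m ≫ μ).left.appTop.hom.FiniteType := by
    haveI : LocallyOfFiniteType (m ≫ μ).left := hlft w (𝟙 _) (m ≫ μ) we (AlgSp.repWith_id _ _) (by
      rw [Category.comp_id, Functor.map_comp, hm, Category.assoc, hφμ])
    exact HasRingHomProperty.appTop (P := @LocallyOfFiniteType) (m ≫ μ).left inferInstance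
  have hint : μ.left.appTop.hom.IsIntegral :=
    ((HasAffineProperty.iff_of_isAffine (P := @IsIntegralHom)).1 (inferInstance : IsIntegralHom μ.left)).2
  refine (HasAffineProperty.iff_of_isAffine (P := @IsFinite)).2 ⟨inferInstance, ?_⟩
  let R := Γ(V.left, ⊤)
  let A := Γ(W.left, ⊤)
  let B := Γ(M.left, ⊤)
  letI : Algebra R A := (m ≫ μ).left.appTop.hom.toAlgebra
  letI : Algebra R B := μ.left.appTop.hom.toAlgebra
  haveI : Algebra.FiniteType R A := hft
  haveI : Algebra.IsIntegral R B := ⟨hint⟩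
  haveI : IsNoetherianRing R := hNag.1
  haveI : Module.Finite R (integralClosure R A) := Groth.Agent.S0573.result R hNag A
  let e : B →ₐ[R] A := { m.left.appTop.hom with commutes' := fun x => rfl }
  let e' : B →ₐ[R] integralClosure R A := e.codRestrict _ fun b => (Algebra.IsIntegral.isIntegral (R := R) b).map e
  have he : Function.Injective e' := fun a b h => hinj (congrArg Subtype.val h)
  exact RingHom.finite_algebraMap.2 (Module.Finite.of_injective e'.toLinearMap he)

/-- Over a Nagata algebraic space, the normalization of the target in a reduced source of finite type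
and quasi-separated over it is finite. -/
theorem result {S : Scheme.{u}} {X Y Y' : AlgSp.Space S} (f : X ⟶ Y)
    (hY : AlgSp.EtaleLocally (fun U => ∀ V : U.Opens, IsAffineOpen V → CAlg.IsNagata ↑Γ(U, V)) Y.obj)
    (hqs : AlgSp.IsQuasiSeparatedMor f.hom) (hft : AlgSp.IsFiniteTypeMor f.hom)
    (hX : AlgSp.EtaleLocally (fun U => IsReduced U) X.obj) (ν : Y' ⟶ Y) (f' : X ⟶ Y')
    (hn : AlgSp.IsRelNormalization f.hom ν.hom f'.hom) : AlgSp.IsFiniteMor ν.hom := by
  have hU0 := X.property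
  obtain ⟨U, p, hpe, hps, hNag⟩ := hY
  have huniv := univNorm_of_isRelNormalization Y.property X.property hft.2 hqs Y'.property hn
  have hr := isIntegralMor_iff.1 hn.2.1
  haveI := chart_isLocallySurjective hpe hps
  obtain ⟨M₀, b₀, i, sq₀⟩ := exists_isPullback_of_representable hr.1 p
  haveI hi : IsIntegralHom i.left := hr.2 _ _ _ sq₀
  refine isFiniteMor_iff.2 (repWith_of_base hr.1 p sq₀ fppfDescends_isFinite ((repWith_yon_map_iff _ _).2 ?_))
  refine (IsZariskiLocalAtTarget.iff_of_iSup_eq_top (P := @IsFinite) (fun O : U.left.affineOpens => O.1) (iSup_affineOpens_eq_top _)).2 ?_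
  intro O
  let V : Over S := Over.mk (O.1.ι ≫ U.hom)
  let M : Over S := Over.mk ((i.left ⁻¹ᵁ O.1).ι ≫ M₀.hom)
  let μ : M ⟶ V := Over.homMk (i.left ∣_ O.1) (by
    show (i.left ∣_ O.1) ≫ O.1.ι ≫ U.hom = (i.left ⁻¹ᵁ O.1).ι ≫ M₀.hom
    rw [morphismRestrict_ι_assoc, Over.w i])
  let κ : M ⟶ M₀ := Over.homMk (i.left ⁻¹ᵁ O.1).ι rfl
  let ιV : V ⟶ U := Over.homMk O.1.ι rfl
  have sqO : IsPullback κ μ i ιV := isPullback_of_left (isPullback_morphismRestrict i.left O.1).flip
  have sqN := ((sqO.map (AlgSp.yon S)).paste_horiz sq₀)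
  have hv : AlgSp.RepWith @Etale ((AlgSp.yon S).map ιV ≫ p) :=
    repWith_comp ((repWith_yon_map_iff _ _).2 (inferInstanceAs (Etale O.1.ι))) hpe
  haveI : IsAffine V.left := O.2
  haveI : IsIntegralHom μ.left := inferInstanceAs (IsIntegralHom (i.left ∣_ O.1))
  let v := (AlgSp.yon S).map ιV ≫ p
  have sqP := IsPullback.of_hasPullback f.hom v
  have hP : AlgSp.IsAlgSpace (pullback f.hom v) :=
    isAlgSpace_pullback Y.property.diag X.property (AlgSp.IsAlgSpace.yon_obj _) sqP
  obtain ⟨φ', hφ₁, hφ₂⟩ : ∃ φ' : pullback f.hom v ⟶ (AlgSp.yon S).obj M,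
      φ' ≫ (AlgSp.yon S).map κ ≫ b₀ = pullback.fst f.hom v ≫ f'.hom ∧
        φ' ≫ (AlgSp.yon S).map μ = pullback.snd f.hom v := by
    have hw : (pullback.fst f.hom v ≫ f'.hom) ≫ ν.hom = pullback.snd f.hom v ≫ v := by
      rw [Category.assoc, hn.1, sqP.w]
    exact ⟨sqN.lift _ _ hw, sqN.lift_fst _ _ hw, sqN.lift_snd _ _ hw⟩
  exact finite_of_intInitial hP (pullback.snd f.hom v) (isQuasiCompactMor_of_isPullback' sqP hft.2)
    (isQuasiSeparatedMor_of_isPullback' sqP hqs)
    (EtLocal.lft.locP_of_isPullback X.property Y.property (AlgSp.IsAlgSpace.yon_obj _) sqP hft.1)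
    (fun W w hwe => etaleLocally_chart (Q := fun Z => AlgebraicGeometry.IsReduced Z) (fun A B k hk hB => GrothLib.AlgSp.isReduced_of_etale k hk hB) (fun A B k hk hs hA => isReduced_desc k hk hs hA) hX
      (w ≫ pullback.fst f.hom v) (repWith_comp hwe (repWith_of_isPullback sqP.flip hv)))
    (GrothLib.N2.isNagata_of_ringEquiv' O.1.topIso.commRingCatIsoToRingEquiv.symm (hNag O.1 O.2))
    μ φ' (huniv.2.2 (V := V) O.2 v hv sqP sqN φ' hφ₁ hφ₂) hφ₂

end Groth.Agent.S10299
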