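import Groth.Agent.Lib.AlgSp.PointsUniv
import Groth.Statements.S10301
-- import your own Groth.Agent.* helpers here

set_option autoImplicit false
universe u
open CategoryTheory CategoryTheory.Limits AlgebraicGeometry
open AlgSp

namespace Groth.Agent.S10301

/-- For a representable morphism of algebraic spaces, being a universal homeomorphism in the
representable sense agrees with inducing homeomorphisms on points after every base change. -/
theorem result {S : Scheme.{u}} {X Y : AlgSp.Space S} (f : X ⟶ Y)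
    (hf : AlgSp.Representable f.hom) :
    AlgSp.RepWith FlatMor.IsUnivHomeo f.hom ↔ AlgSp.IsUnivHomeoMor f.hom := by
  have hQR : ∀ {T T' : Over S} (φ : T ⟶ T'), IsHomeomorph (AlgSp.Points.map ((AlgSp.yon S).map φ)) ↔
      AlgebraicGeometry.topologically (fun g => IsHomeomorph g) φ.left := by
    intro T T' φ
    refine ⟨fun h => ⟨φ.left.continuous, (GrothLib.AlgSp.isOpenMap_map_yon_iff φ).1 h.isOpenMap,
        (GrothLib.AlgSp.injective_map_yon_iff φ).1 h.injective, (GrothLib.AlgSp.surjective_map_yon_iff φ).1 h.surjective⟩, fun h => ?_⟩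
    have h' : IsHomeomorph φ.left := h
    exact ⟨AlgSp.Points.continuous_map _, (GrothLib.AlgSp.isOpenMap_map_yon_iff φ).2 h'.isOpenMap,
      (GrothLib.AlgSp.injective_map_yon_iff φ).2 h'.injective, (GrothLib.AlgSp.surjective_map_yon_iff φ).2 h'.surjective⟩
  have : (AlgebraicGeometry.topologically (fun g => IsHomeomorph g)).RespectsIso :=
    AlgebraicGeometry.topologically_respectsIso _ (fun e => e.isHomeomorph) (fun _ _ hf hg => hg.comp hf)
  rw [GrothLib.AlgSp.repWith_universally_iff (P := FlatMor.IsUnivHomeo) (Q := fun _ _ g => IsHomeomorph (AlgSp.Points.map g)) rfl hQR hf]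
  refine ⟨fun h => ?_, fun h T g V fst snd sq => h (AlgSp.IsAlgSpace.yon_obj T) g fst _ sq⟩
  have key : ∀ (T : Over S), IsAffine T.left → ∀ (g : (AlgSp.yon S).obj T ⟶ Y.obj) (P : AlgSp.Sp S)
      (fst : P ⟶ X.obj) (snd : P ⟶ (AlgSp.yon S).obj T), IsPullback fst snd f.hom g →
      IsHomeomorph (AlgSp.Points.map snd) := by
    intro T _ g P fst snd sq
    obtain ⟨V, fst', snd', sq'⟩ := GrothLib.AlgSp.exists_isPullback_of_representable hf g
    rw [← sq.isoIsPullback_hom_snd _ _ sq']
    rw [show AlgSp.Points.map ((sq.isoIsPullback _ _ sq').hom ≫ (AlgSp.yon S).map snd') =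
      AlgSp.Points.map ((AlgSp.yon S).map snd') ∘ AlgSp.Points.map (sq.isoIsPullback _ _ sq').hom from
      funext fun x => AlgSp.Points.map_comp _ _ x]
    exact (h T g V fst' snd' sq').comp
      (Homeomorph.isHomeomorph ⟨⟨AlgSp.Points.map (sq.isoIsPullback _ _ sq').hom, AlgSp.Points.map (sq.isoIsPullback _ _ sq').inv,
        fun x => by rw [← AlgSp.Points.map_comp, Iso.hom_inv_id, AlgSp.Points.map_id],
        fun x => by rw [← AlgSp.Points.map_comp, Iso.inv_hom_id, AlgSp.Points.map_id]⟩,
        AlgSp.Points.continuous_map _, AlgSp.Points.continuous_map _⟩)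
  intro Z Z' hZ g fst snd sq
  refine ⟨AlgSp.Points.continuous_map _,
    (GrothLib.AlgSp.isUnivOpenMor_of_affine fun T hT g P a b s => (key T hT g P a b s).isOpenMap) hZ g fst snd sq,
    (GrothLib.AlgSp.isUnivInjectiveMor_of_affine fun T hT g P a b s => (key T hT g P a b s).injective) hZ g fst snd sq, ?_⟩
  obtain ⟨ι, W, r, hW, -, hs, -⟩ := GrothLib.AlgSp.exists_affine_charts hZ
  refine GrothLib.AlgSp.surjective_of_charts r hs fun i => ?_
  have sq' := IsPullback.of_hasPullback snd (r i)
  exact ⟨_, _, _, sq', (key (W i) (hW i) _ _ _ _ (sq'.paste_horiz sq)).surjective⟩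

end Groth.Agent.S10301
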