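import Groth.Agent.Lib.AlgSp.PointProps
import Groth.Statements.S10302
-- import your own Groth.Agent.* helpers here

set_option autoImplicit false
universe u
open CategoryTheory CategoryTheory.Limits AlgebraicGeometry
open AlgSp

namespace Groth.Agent.S10302

/-- A flat morphism of algebraic spaces maps points of codimension 0 to points of codimension 0. -/
theorem result {S : Scheme.{u}} {X Y : AlgSp.Space S} (f : X ⟶ Y) (hf : AlgSp.LocP @Flat f.hom)
    (x : AlgSp.Points X.obj) (hx : AlgSp.HasAt (fun U u => ringKrullDim ↥(U.presheaf.stalk u) = 0) X.obj x) :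
    AlgSp.HasAt (fun U u => ringKrullDim ↥(U.presheaf.stalk u) = 0) Y.obj (AlgSp.Points.map f.hom x) := by
  obtain ⟨V, q, qe, qs⟩ := Y.property.atlas
  obtain ⟨U, p, α, pe, hp, hps⟩ := GrothLib.AlgSp.exists_chart_over X.property Y.property f.hom q qe
  obtain ⟨u, rfl⟩ := GrothLib.AlgSp.surjective_ofPt_of_repWith (hps qs) x
  have : Flat α.left := hf p q α pe qe hp
  have hu := (GrothLib.AlgSp.hasAt_iff (Q := fun U u => ringKrullDim ↥(U.presheaf.stalk u) = 0) X.property
    (fun A B k hk z => by rw [GrothLib.AlgSp.ringKrullDim_stalk_eq_of_etale k z]) pe u).1 hx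
  refine ⟨V, q, α.left u, qe, by rw [Points.map_ofPt, hp, GrothLib.AlgSp.ofPt_map_comp], le_antisymm ?_ ringKrullDim_nonneg_of_nontrivial⟩
  exact hu ▸ GrothLib.AlgSp.ringKrullDim_stalk_map_le_of_flat α.left u

end Groth.Agent.S10302
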