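import Groth.Statements.S10304
import Groth.Agent.Lib.AlgSp.FinIrred
-- import your own Groth.Agent.* helpers here

set_option autoImplicit false
universe u
open CategoryTheory CategoryTheory.Limits AlgebraicGeometry
open AlgSp GrothLib.AlgSp
set_option backward.isDefEq.respectTransparency false

namespace Groth.Agent.S10304

/-- Equivalent forms of the condition that the schemes etale over X have locally finitely many
irreducible components: one etale surjective chart, every etale chart, finiteness of codimension-0
points of quasi-compact spaces etale over X, finiteness of irreducible components of such spaces. -/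
theorem result {S : Scheme.{u}} (X : AlgSp.Space S) :
    (AlgSp.EtaleLocally (fun U => ∀ W : U.Opens, IsCompact (W : Set ↥U) → (irreducibleComponents ↥W).Finite) X.obj ↔
      ∀ (U : Over S) (a : (AlgSp.yon S).obj U ⟶ X.obj), AlgSp.RepWith @Etale a →
        ∀ W : U.left.Opens, IsCompact (W : Set ↥U.left) → (irreducibleComponents ↥W).Finite) ∧
    (AlgSp.EtaleLocally (fun U => ∀ W : U.Opens, IsCompact (W : Set ↥U) → (irreducibleComponents ↥W).Finite) X.obj ↔
      ∀ (Y : AlgSp.Space S) (g : Y ⟶ X), AlgSp.IsEtaleMor g.hom → AlgSp.IsQuasiCompactSp Y.obj →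
        {y : AlgSp.Points Y.obj |
          AlgSp.HasAt (fun U u => ringKrullDim ↥(U.presheaf.stalk u) = 0) Y.obj y}.Finite) ∧
    (AlgSp.EtaleLocally (fun U => ∀ W : U.Opens, IsCompact (W : Set ↥U) → (irreducibleComponents ↥W).Finite) X.obj ↔
      ∀ (Y : AlgSp.Space S) (g : Y ⟶ X), AlgSp.IsEtaleMor g.hom → AlgSp.IsQuasiCompactSp Y.obj →
        (irreducibleComponents (AlgSp.Points Y.obj)).Finite) := by
  refine ⟨⟨fun h U a ha => FinIrred.chart h a ha, fun h => ?_⟩,
    ⟨fun h Y g hg hqc => (FinIrred.finite_of_space h g hg hqc).1, fun h => FinIrred.of_spaces fun T g hg hT => ?_⟩,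
    ⟨fun h Y g hg hqc => (FinIrred.finite_of_space h g hg hqc).2, fun h => FinIrred.of_spaces fun T g hg hT => ?_⟩⟩
  · obtain ⟨V, b, hb, hbs⟩ := X.property.atlas
    exact ⟨V, b, hb, hbs, h V b hb⟩
  · have hfin := h ⟨_, IsAlgSpace.yon_obj T⟩ (ObjectProperty.homMk g)
      (isEtaleMor_of_locP X.property (EtLocal.etale.locP_of_repWith X.property hg)) hT
    refine FinIrred.finite_components_of_dim_zero
      ((hfin.preimage (f := AlgSp.Points.ofScheme T) (AlgSp.Points.schemeEquiv T).injective.injOn).subset
        fun u hu => ?_)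
    exact ⟨T, 𝟙 _, u, repWith_id _ _, by rw [Points.ofPt_eq_map_ofScheme, AlgSp.Points.map_id], hu⟩
  · have hfin := h ⟨_, IsAlgSpace.yon_obj T⟩ (ObjectProperty.homMk g)
      (isEtaleMor_of_locP X.property (EtLocal.etale.locP_of_repWith X.property hg)) hT
    exact FinIrred.finite_components_of_surjective (AlgSp.Points.schemeHomeo T).symm.continuous
      (AlgSp.Points.schemeHomeo T).symm.surjective hfin

end Groth.Agent.S10304
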