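import Groth.Statements.S10306
import Groth.Agent.Lib.AlgSp.RefinedValuative
import Groth.Agent.Lib.AlgSp.UnivClosed

set_option autoImplicit false
universe u
open CategoryTheory CategoryTheory.Limits AlgebraicGeometry
open AlgSp

namespace Groth.Agent.S10306

/-- A refined valuative criterion: if f and h : U -> X are quasi-compact with |U| dense in |X|, and
valuative squares whose top arrow factors through U have at most one lift and a lift after a
dominating extension, then f is universally closed, and separated if it is quasi-separated. -/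
theorem result {S : Scheme.{u}} {U X Y : AlgSp.Space S} (f : X ⟶ Y) (h : U ⟶ X)
    (hf : AlgSp.IsQuasiCompactMor f.hom) (hh : AlgSp.IsQuasiCompactMor h.hom)
    (hd : DenseRange (AlgSp.Points.map h.hom))
    (hv : ∀ sq : AlgSp.ValSq f.hom, (∃ t : (AlgSp.yon S).obj sq.ptK ⟶ U.obj, t ≫ h.hom = sq.top) →
      sq.HasUniq ∧ sq.HasLiftExt) :
    AlgSp.IsUnivClosedMor f.hom ∧ (AlgSp.IsQuasiSeparatedMor f.hom → AlgSp.IsSeparatedMor f.hom) := by
  refine ⟨GrothLib.AlgSp.isUnivClosedMor_of_refined U.property X.property Y.property hf hh hd hv, fun hqs => ?_⟩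
  refine (GrothLib.AlgSp.isSeparatedMor_iff_diagonal_univClosed X.property).2 ?_
  have hP := GrothLib.AlgSp.isAlgSpace_pullback' Y.property X.property X.property f.hom f.hom
  refine GrothLib.AlgSp.isUnivClosedMor_of_refined U.property X.property hP
    (GrothLib.AlgSp.isQuasiCompactMor_of_repWith hqs) hh hd fun w ⟨u, hu⟩ => ?_
  let v : ValSq f.hom :=
    { A := w.A, K := w.K, str := w.str, top := w.top, bot := w.bot ≫ pullback.fst _ _ ≫ f.hom
      comm := by
        have := w.comm =≫ (pullback.fst f.hom f.hom ≫ f.hom)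
        simp only [Category.assoc, pullback.diagonal_fst_assoc] at this
        exact this }
  have h₁ := w.comm =≫ pullback.fst f.hom f.hom
  have h₂ := w.comm =≫ pullback.snd f.hom f.hom
  simp only [Category.assoc, pullback.diagonal_fst, pullback.diagonal_snd, Category.comp_id] at h₁ h₂
  have hU := (hv v ⟨u, hu⟩).1
  have heq : w.bot ≫ pullback.fst _ _ = w.bot ≫ pullback.snd _ _ :=
    hU _ _ h₁.symm (Category.assoc _ _ _) h₂.symm (by rw [Category.assoc, ← pullback.condition])
  refine ⟨fun l l' _ hl₂ _ hl₂' => (cancel_mono (pullback.diagonal f.hom)).1 (hl₂.trans hl₂'.symm), ?_⟩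
  let e : w.DomExt :=
    { A' := w.A, K' := w.K, φ := RingHom.id _, ψ := RingHom.id _, comm := rfl
      isLocalHom := ⟨fun a ha => ha⟩ }
  let i : e.ptA' ⟶ w.ptA := Over.homMk (Spec.map (CommRingCat.ofHom e.φ)) rfl
  refine ⟨e, (AlgSp.yon S).map i ≫ w.bot ≫ pullback.fst _ _, ?_, ?_⟩
  · rw [show w.top = (AlgSp.yon S).map w.j ≫ w.bot ≫ pullback.fst _ _ from h₁]
    rw [← Functor.map_comp_assoc, ← Functor.map_comp_assoc]
    congr 2
    apply Over.OverMorphism.ext
    change Spec.map _ ≫ Spec.map _ = Spec.map _ ≫ Spec.map _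
    rw [← Spec.map_comp, ← Spec.map_comp]
    rfl
  · rw [Category.assoc, Category.assoc]
    congr 1
    apply pullback.hom_ext
    · simp only [Category.assoc, pullback.diagonal_fst, Category.comp_id]
    · simp only [Category.assoc, pullback.diagonal_snd, Category.comp_id]
      exact heq

end Groth.Agent.S10306
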