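import Groth.Statements.S10307
import Groth.Agent.Lib.AlgSp.IntPushDense
-- import your own Groth.Agent.* helpers here

set_option autoImplicit false
universe u
open CategoryTheory CategoryTheory.Limits AlgebraicGeometry
open AlgSp GrothLib.AlgSp
set_option backward.isDefEq.respectTransparency false

namespace Groth.Agent.S10307

/-- For an integral universally injective morphism f of algebraic spaces, f_* on small etale sites is
fully faithful on sheaves of sets and on abelian sheaves, and the counit from the pullback of the
pushforward to the identity is an isomorphism. (The description of the essential image is not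
included here.) -/
theorem result {S : Scheme.{u}} {Y X : AlgSp.Space S} (f : Y ⟶ X)
    (hi : AlgSp.RepWith @IsIntegralHom f.hom) (hu : AlgSp.IsUnivInjectiveMor f.hom) :
    ((AlgSp.pushEt hi.1 (Type (u + 1))).Full ∧ (AlgSp.pushEt hi.1 (Type (u + 1))).Faithful) ∧
    ((AlgSp.pushEt hi.1 AddCommGrpCat.{u + 1}).Full ∧ (AlgSp.pushEt hi.1 AddCommGrpCat.{u + 1}).Faithful) ∧
    IsIso (AlgSp.pullPushAdjEt hi.1 (Type (u + 1))).counit := by
  have h := repWith_intUI hi hu
  haveI := IntPush.isCoverDense_bc f h
  haveI := IntPush.isLocallyFull_bc f h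
  have h1 : (AlgSp.pushEt hi.1 (Type (u + 1))).Full := inferInstance
  have h2 : (AlgSp.pushEt hi.1 (Type (u + 1))).Faithful := inferInstance
  have h3 : (AlgSp.pushEt hi.1 AddCommGrpCat.{u + 1}).Full := inferInstance
  have h4 : (AlgSp.pushEt hi.1 AddCommGrpCat.{u + 1}).Faithful := inferInstance
  exact ⟨⟨h1, h2⟩, ⟨h3, h4⟩, inferInstance⟩

end Groth.Agent.S10307
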