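import Groth.Agent.Lib.AlgSp.PointProps
import Groth.Agent.Lib.FibreDimAt6.Scheme
import Groth.Statements.S10308
-- import your own Groth.Agent.* helpers here

set_option autoImplicit false
universe u
open CategoryTheory CategoryTheory.Limits AlgebraicGeometry
open AlgSp

namespace Groth.Agent.S10308

/-- For f locally of finite type, the locus of points where the relative dimension of f is at most n is
open. -/
theorem result {S : Scheme.{u}} {X Y : AlgSp.Space S} (f : X ⟶ Y)
    (hf : AlgSp.LocP @LocallyOfFiniteType f.hom) (n : ℕ) :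
    IsOpen {x : AlgSp.Points X.obj |
      AlgSp.HasAtMor (fun _ _ h u => FlatMor.fibreDimAt h u ≤ (n : WithBot ℕ∞)) f.hom x} := by
  obtain ⟨V, q, qe, qs⟩ := Y.property.atlas
  obtain ⟨U, p, α, pe, hp, hps⟩ := GrothLib.AlgSp.exists_chart_over X.property Y.property f.hom q qe
  have : LocallyOfFiniteType α.left := hf p q α pe qe hp
  rw [← (GrothLib.AlgSp.isOpenQuotientMap_ofPt pe (hps qs)).isQuotientMap.isOpen_preimage]
  convert GrothLib.FibreDimAt6.isOpen_fibreDimAt_le α.left n using 1
  ext u
  exact GrothLib.AlgSp.hasAtMor_fibreDim_iff X.property Y.property pe qe hp u (fun z => z ≤ (n : WithBot ℕ∞))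

end Groth.Agent.S10308
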