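import Groth.Statements.S10309
import Groth.Agent.Lib.AlgSp.RelDimSpace
-- import your own Groth.Agent.* helpers here

set_option autoImplicit false
universe u
open CategoryTheory CategoryTheory.Limits AlgebraicGeometry
open AlgSp

namespace Groth.Agent.S10309

/-- For f locally of finite presentation, the locus where the relative dimension is at most n is
retrocompact in |X|. -/
theorem result {S : Scheme.{u}} {X Y : AlgSp.Space S} (f : X ⟶ Y)
    (hf : AlgSp.LocP @LocallyOfFinitePresentation f.hom) (n : ℕ) (V : Set (AlgSp.Points X.obj))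
    (hV : IsOpen V) (hVc : IsCompact V) :
    IsCompact (V ∩ {x : AlgSp.Points X.obj |
      AlgSp.HasAtMor (fun _ _ h u => FlatMor.fibreDimAt h u ≤ (n : WithBot ℕ∞)) f.hom x}) := by
  have hft : AlgSp.LocP @LocallyOfFiniteType f.hom := fun A B p q k hp hq hc => by
    haveI := hf p q k hp hq hc
    infer_instance
  have key : ∀ x : V, ∃ (K : Set (AlgSp.Points X.obj)) (O : Set (AlgSp.Points X.obj)), IsOpen O ∧ x.1 ∈ O ∧
      O ⊆ V ∧ K = O ∩ {x : AlgSp.Points X.obj |
        AlgSp.HasAtMor (fun _ _ h u => FlatMor.fibreDimAt h u ≤ (n : WithBot ℕ∞)) f.hom x} ∧ IsCompact K := by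
    rintro ⟨x, hx⟩
    obtain ⟨U, T, a, b, h, u, ha, hb, c, rfl⟩ := GrothLib.AlgSp.exists_chart_at X.property Y.property f.hom x
    haveI : LocallyOfFinitePresentation h.left := hf a b h ha hb c
    obtain ⟨_, ⟨A, hA, rfl⟩, huA, hAV⟩ := U.left.isBasis_affineOpens.exists_subset_of_mem_open
      (show u ∈ AlgSp.Points.ofPt a ⁻¹' V from hx) (hV.preimage (AlgSp.Points.continuous_ofPt a))
    refine ⟨_, AlgSp.Points.ofPt a '' (A : Set ↥U.left), GrothLib.AlgSp.isOpenMap_ofPt_of_etale ha _ A.2,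
      ⟨u, huA, rfl⟩, Set.image_subset_iff.2 hAV, rfl, ?_⟩
    rw [← Set.image_inter_preimage]
    refine IsCompact.image ?_ (AlgSp.Points.continuous_ofPt a)
    have : AlgSp.Points.ofPt a ⁻¹' {x : AlgSp.Points X.obj |
        AlgSp.HasAtMor (fun _ _ h u => FlatMor.fibreDimAt h u ≤ (n : WithBot ℕ∞)) f.hom x} =
        {w | FlatMor.fibreDimAt h.left w ≤ (n : WithBot ℕ∞)} := Set.ext fun w =>
      GrothLib.AlgSp.hasAtMor_fibreDim_iff X.property Y.property ha hb c w (fun e => e ≤ (n : WithBot ℕ∞))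
    rw [this, Set.inter_comm]
    exact GrothLib.Equidim6.isRetrocompact_fibreDimAt_le h.left n hA.isCompact A.2
  choose K O hO hxO hOV hK hKc using key
  obtain ⟨t, ht⟩ := hVc.elim_finite_subcover O hO fun x hx => Set.mem_iUnion.2 ⟨⟨x, hx⟩, hxO _⟩
  have h1 : V ∩ {x : AlgSp.Points X.obj |
      AlgSp.HasAtMor (fun _ _ h u => FlatMor.fibreDimAt h u ≤ (n : WithBot ℕ∞)) f.hom x} = ⋃ i ∈ t, K i := by
    ext y
    simp only [Set.mem_iUnion, exists_prop]
    refine ⟨fun ⟨h1, h2⟩ => ?_, fun ⟨i, _, h2⟩ => ?_⟩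
    · obtain ⟨i, hi, hy⟩ := Set.mem_iUnion₂.1 (ht h1)
      exact ⟨i, hi, (hK i).symm ▸ ⟨hy, h2⟩⟩
    · rw [hK i] at h2
      exact ⟨hOV i h2.1, h2.2⟩
  rw [h1]
  exact t.finite_toSet.isCompact_biUnion fun i _ => hKc i

end Groth.Agent.S10309
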