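import Groth.Statements.S1031
import Mathlib.CategoryTheory.Triangulated.Generators
import Mathlib.CategoryTheory.Triangulated.Pretriangulated

set_option autoImplicit false
universe v u
open CategoryTheory
open CohDer

namespace Groth.Agent.S1031

open ObjectProperty Pretriangulated Limits in
theorem closed_ext {C : Type u} [Category.{v} C] [Preadditive C] [HasZeroObject C] [HasShift C ℤ]
    [∀ n : ℤ, (shiftFunctor C n).Additive] [Pretriangulated C] (P Q : ObjectProperty C)
    [P.IsClosedUnderBinaryProducts] [Q.IsClosedUnderBinaryProducts] :
    (extensionProduct P Q).IsClosedUnderBinaryProducts where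
  limitsOfShape_le := by
    rintro X ⟨p⟩
    choose Y Z f g h hT hY hZ using fun j : WalkingPair => p.prop_diag_obj ⟨j⟩
    let T : WalkingPair → Triangle C := fun j => Triangle.mk (f j) (g j) (h j)
    have hd := productTriangle_distinguished T hT
    refine prop_of_iso _ ((IsLimit.conePointUniqueUpToIso p.isLimit
      ((IsLimit.postcomposeHomEquiv Discrete.natIsoFunctor.symm _).symm
        (limit.isLimit (Discrete.functor fun j => (T j).obj₂)))).symm)
      ⟨(productTriangle T).obj₁, (productTriangle T).obj₃, _, _, _, hd,
        prop_of_isLimit P (limit.isLimit _) (fun j => hY j.as),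
        prop_of_isLimit Q (limit.isLimit _) (fun j => hZ j.as)⟩

open ObjectProperty Limits in
theorem closed_retract {C : Type u} [Category.{v} C] [HasFiniteProducts C] (P : ObjectProperty C)
    [P.IsClosedUnderBinaryProducts] : P.retractClosure.IsClosedUnderBinaryProducts where
  limitsOfShape_le := by
    rintro X ⟨p⟩
    choose Y hY r using fun j : Discrete WalkingPair => p.prop_diag_obj j
    let e : X ≅ limit p.diag := IsLimit.conePointUniqueUpToIso p.isLimit (limit.isLimit _)
    let Y' : Discrete WalkingPair ⥤ C := Discrete.functor fun j => Y ⟨j⟩
    let i : p.diag ⟶ Y' := Discrete.natTrans fun j => (r j).some.i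
    let q : Y' ⟶ p.diag := Discrete.natTrans fun j => (r j).some.r
    have hiq : limMap i ≫ limMap q = 𝟙 _ := limit.hom_ext fun j => by simp [i, q, Y']
    exact ⟨limit Y', prop_of_isLimit P (limit.isLimit Y') fun j => hY ⟨j.as⟩,
      ⟨{ i := e.hom ≫ limMap i, r := limMap q ≫ e.inv, retract := by simp [reassoc_of% hiq] }⟩⟩

/-- Let D be a triangulated category admitting a strong generator G (every object is reached from G by
shifts, finite sums, summands and a uniformly bounded number of extensions). Then every classical
generator E of D (every object reached from E with some finite number of extensions) is itself a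
strong generator. -/
theorem result {D : Type u} [Category.{v} D] [Preadditive D] [Limits.HasZeroObject D] [HasShift D ℤ]
    [∀ n : ℤ, (shiftFunctor D n).Additive] [Pretriangulated D] [IsTriangulated D]
    (G E : D) (hG : ObjectProperty.IsStrongTriangulatedGenerator (fun X : D => X = G))
    (hE : ObjectProperty.IsClassicalTriangulatedGenerator (fun X : D => X = E)) :
    ObjectProperty.IsStrongTriangulatedGenerator (fun X : D => X = E) := by
  obtain ⟨n, hn⟩ := hG
  obtain ⟨m, hm⟩ := (ObjectProperty.prop_triangEnvelope_iff (fun X : D => X = E) G).1 (by
    rw [show ObjectProperty.triangEnvelope (fun X : D => X = E) = ⊤ from hE]; trivial)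
  let P : ObjectProperty D := fun X => X = E
  let R := (P.shiftClosure ℤ).binaryProductsClosure.retractClosure
  have : Limits.HasFiniteProducts D := inferInstance
  have hR : ∀ k, (R.extensionProductIter k).IsClosedUnderBinaryProducts := by
    intro k
    induction k with
    | zero => exact closed_retract _
    | succ k ih =>
      rw [ObjectProperty.extensionProductIter_succ]
      exact @closed_ext _ _ _ _ _ _ _ R _ (closed_retract _) ih
  have := hR m
  have : (P.triangEnvelopeIter m).IsClosedUnderBinaryProducts := closed_retract _
  have : ObjectProperty.Nonempty P := ObjectProperty.nonempty_of_prop (X := E) rfl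
  have : ObjectProperty.ContainsZero (P.triangEnvelopeIter m) := by
    obtain ⟨z, hz⟩ := Limits.HasZeroObject.zero (C := D)
    obtain ⟨w, hw⟩ := (show (R.extensionProductIter m).Nonempty from inferInstance).exists_prop
    exact ⟨⟨z, hz, w, hw, ⟨{ i := 0, r := 0, retract := hz.eq_of_tgt _ _ }⟩⟩⟩
  let S := (ObjectProperty.shiftClosure (fun X : D => X = G) ℤ).binaryProductsClosure.retractClosure
  have hS : S ≤ P.triangEnvelopeIter m := by
    simp only [S, ObjectProperty.retractClosure_le_iff, ObjectProperty.binaryProductsClosure_le_iff,
      ObjectProperty.shiftClosure_le_iff]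
    rintro _ rfl
    exact hm
  have h : ∀ k, ∃ f, S.extensionProductIter k ≤ P.triangEnvelopeIter f := by
    intro k
    induction k with
    | zero => exact ⟨m, hS⟩
    | succ k ih =>
      obtain ⟨f, hf⟩ := ih
      refine ⟨m + (f + 1), ?_⟩
      rw [ObjectProperty.extensionProductIter_succ, ObjectProperty.triangEnvelopeIter_add' P rfl]
      exact ((ObjectProperty.monotone_extensionProduct_left _ hS).trans
        (ObjectProperty.monotone_extensionProduct_right _ hf)).trans (ObjectProperty.le_retractClosure _)
  obtain ⟨f, hf⟩ := h n
  refine ⟨f, eq_top_iff.2 (hn ▸ ?_)⟩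
  exact (ObjectProperty.retractClosure_le_iff _ _).2 hf

end Groth.Agent.S1031
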