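import Groth.Agent.Lib.AlgSp.LqfPoint
import Groth.Statements.S10310
-- import your own Groth.Agent.* helpers here

set_option autoImplicit false
universe u
open CategoryTheory CategoryTheory.Limits AlgebraicGeometry
open AlgSp

namespace Groth.Agent.S10310

/-- A morphism locally of finite type is locally quasi-finite if and only if it has relative dimension 0
at every point. -/
theorem result {S : Scheme.{u}} {X Y : AlgSp.Space S} (f : X ⟶ Y)
    (hf : AlgSp.LocP @LocallyOfFiniteType f.hom) :
    AlgSp.LocP (@LocallyQuasiFinite ⊓ @LocallyOfFiniteType) f.hom ↔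
      ∀ x : AlgSp.Points X.obj, AlgSp.HasAtMor (fun _ _ h u => FlatMor.fibreDimAt h u = 0) f.hom x := by
  constructor
  · intro h x
    obtain ⟨U, V, a, b, α, u, ha, hb, c, hu⟩ := GrothLib.AlgSp.exists_chart_at X.property Y.property f.hom x
    have : LocallyOfFiniteType α.left := hf a b α ha hb c
    have hq : LocallyQuasiFinite α.left := (h a b α ha hb c).1
    exact ⟨U, V, a, b, α, u, ha, hb, c, hu, le_antisymm ((GrothLib.AlgSp.lqf_iff_fibreDimAt α.left).1 hq u)
      (GrothLib.AlgSp.localDim_nonneg _)⟩
  · intro h U V a b α ha hb c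
    have : LocallyOfFiniteType α.left := hf a b α ha hb c
    refine ⟨(GrothLib.AlgSp.lqf_iff_fibreDimAt α.left).2 fun u => ?_, inferInstance⟩
    exact ((GrothLib.AlgSp.hasAtMor_fibreDim_iff X.property Y.property ha hb c u (fun z => z = 0)).1 (h _)).le

end Groth.Agent.S10310
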