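import Groth.Agent.Lib.AlgSp.FibreDimBC
import Groth.Statements.S10311
-- import your own Groth.Agent.* helpers here

set_option autoImplicit false
universe u
open CategoryTheory CategoryTheory.Limits AlgebraicGeometry
open AlgSp

namespace Groth.Agent.S10311

/-- The relative dimension at a point of a morphism locally of finite type is preserved by base change. -/
theorem result {S : Scheme.{u}} {X Y Y' X' : AlgSp.Space S} (f : X ⟶ Y) (g : Y' ⟶ Y)
    (g' : X' ⟶ X) (f' : X' ⟶ Y') (sq : IsPullback g'.hom f'.hom f.hom g.hom)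
    (hf : AlgSp.LocP @LocallyOfFiniteType f.hom) (x' : AlgSp.Points X'.obj) (d : WithBot ℕ∞)
    (hd : AlgSp.HasAtMor (fun _ _ h u => FlatMor.fibreDimAt h u = d) f.hom (AlgSp.Points.map g'.hom x')) :
    AlgSp.HasAtMor (fun _ _ h u => FlatMor.fibreDimAt h u = d) f'.hom x' := by
  obtain ⟨U, V, U', V', a, b, a', b', h, h', p, q, u', ha, hb, ha', hb', c, c', cp, sU, rfl⟩ :=
    GrothLib.AlgSp.exists_bc_charts X.property Y.property Y'.property sq x'
  have : LocallyOfFiniteType h.left := hf a b h ha hb c
  rw [Points.map_ofPt, cp, GrothLib.AlgSp.ofPt_map_comp] at hd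
  have hd' := (GrothLib.AlgSp.hasAtMor_fibreDim_iff X.property Y.property ha hb c (p.left u') (fun z => z = d)).1 hd
  refine (GrothLib.AlgSp.hasAtMor_fibreDim_iff X'.property Y'.property ha' hb' c' u' (fun z => z = d)).2 ?_
  rw [GrothLib.AlgSp.fibreDimAt_of_isPullback sU u']
  exact hd'

end Groth.Agent.S10311
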