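import Groth.Agent.Lib.AlgSp.LqfPoint
import Groth.Agent.Lib.AlgSp.FibreDimBC
import Groth.Agent.Lib.FibreDimAt6.Scheme
import Groth.Agent.Lib.AlgSp.OpenSub
import Groth.Statements.S10313
-- import your own Groth.Agent.* helpers here

set_option autoImplicit false
universe u
open CategoryTheory CategoryTheory.Limits AlgebraicGeometry
open AlgSp

namespace Groth.Agent.S10313

/-- For f locally of finite type there is an open subspace of X on which f is locally quasi-finite,
outside of which the relative dimension is at least 1, and whose formation commutes with base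
change. -/
theorem result {S : Scheme.{u}} {X Y : AlgSp.Space S} (f : X ⟶ Y)
    (hf : AlgSp.LocP @LocallyOfFiniteType f.hom) :
    ∃ (X' : AlgSp.Space S) (j : X' ⟶ X), AlgSp.RepWith @IsOpenImmersion j.hom ∧
      AlgSp.LocP (@LocallyQuasiFinite ⊓ @LocallyOfFiniteType) (j ≫ f).hom ∧
      (∀ x : AlgSp.Points X.obj, x ∉ Set.range (AlgSp.Points.map j.hom) →
        AlgSp.HasAtMor (fun _ _ h u => 1 ≤ FlatMor.fibreDimAt h u) f.hom x) ∧
      ∀ (Y'' X'' : AlgSp.Space S) (g : Y'' ⟶ Y) (b : X'' ⟶ X) (f'' : X'' ⟶ Y''),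
        IsPullback b.hom f''.hom f.hom g.hom → ∀ x'' : AlgSp.Points X''.obj,
          AlgSp.Points.map b.hom x'' ∈ Set.range (AlgSp.Points.map j.hom) ↔ AlgSp.HasAtMor (fun U _ h u => ∃ W : U.Opens, u ∈ W ∧ LocallyQuasiFinite (W.ι ≫ h) ∧ LocallyOfFiniteType (W.ι ≫ h)) f''.hom x'' := by
  let L : Set (AlgSp.Points X.obj) :=
    {x | AlgSp.HasAtMor (fun _ _ h u => FlatMor.fibreDimAt h u ≤ 0) f.hom x}
  have hL : IsOpen L := by
    obtain ⟨V, q, qe, qs⟩ := Y.property.atlas
    obtain ⟨U, p, α, pe, hp, hps⟩ := GrothLib.AlgSp.exists_chart_over X.property Y.property f.hom q qe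
    have : LocallyOfFiniteType α.left := hf p q α pe qe hp
    rw [← (GrothLib.AlgSp.isOpenQuotientMap_ofPt pe (hps qs)).isQuotientMap.isOpen_preimage]
    convert GrothLib.FibreDimAt6.isOpen_fibreDimAt_le α.left 0 using 1
    ext u
    exact GrothLib.AlgSp.hasAtMor_fibreDim_iff X.property Y.property pe qe hp u (fun z => z ≤ 0)
  let X' : AlgSp.Space S := ⟨GrothLib.AlgSp.openSub X.obj L, GrothLib.AlgSp.isAlgSpace_openSub X.property hL⟩
  let j : X' ⟶ X := ObjectProperty.homMk (GrothLib.AlgSp.openSubι X.obj L)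
  have hj : AlgSp.RepWith @IsOpenImmersion j.hom := GrothLib.AlgSp.repWith_openSubι hL
  have hr : Set.range (AlgSp.Points.map j.hom) = L := GrothLib.AlgSp.range_openSubι
  refine ⟨X', j, hj, ?_, ?_, ?_⟩
  · intro U V a b h ha hb c
    have hje : RepWith @Etale j.hom := GrothLib.AlgSp.repWith_mono hj fun _ _ g (_ : IsOpenImmersion g) => inferInstance
    have c' : (a ≫ j.hom) ≫ f.hom = (yon S).map h ≫ b := (Category.assoc _ _ _).trans c
    have ha' : RepWith @Etale (a ≫ j.hom) := GrothLib.AlgSp.repWith_comp ha hje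
    have : LocallyOfFiniteType h.left := hf _ b h ha' hb c'
    refine ⟨(GrothLib.AlgSp.lqf_iff_fibreDimAt h.left).2 fun u => ?_, inferInstance⟩
    have hx : Points.ofPt (a ≫ j.hom) u ∈ L := by
      rw [← hr, ← Points.map_ofPt]; exact ⟨_, rfl⟩
    exact (GrothLib.AlgSp.hasAtMor_fibreDim_iff X.property Y.property ha' hb c' u (fun z => z ≤ 0)).1 hx
  · intro x hx
    rw [hr] at hx
    obtain ⟨U, V, a, b, h, u, ha, hb, c, rfl⟩ := GrothLib.AlgSp.exists_chart_at X.property Y.property f.hom x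
    refine ⟨U, V, a, b, h, u, ha, hb, c, rfl, ?_⟩
    have : ¬ FlatMor.fibreDimAt h.left u ≤ 0 := fun h0 => hx ⟨U, V, a, b, h, u, ha, hb, c, rfl, h0⟩
    generalize hn : FlatMor.fibreDimAt h.left u = n at this
    change 1 ≤ FlatMor.fibreDimAt h.left u
    rw [hn]
    cases n with
    | bot => exact absurd bot_le this
    | coe n => exact WithBot.coe_le_coe.2 (Order.one_le_iff_pos.2 (WithBot.coe_lt_coe.1 (not_le.1 this)))
  · intro Y'' X'' g b f'' sq x''
    rw [hr, GrothLib.AlgSp.hasAtMor_lqf_iff X''.property Y''.property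
      (GrothLib.AlgSp.EtLocal.lft.locP_of_isPullback X.property Y.property Y''.property sq hf)]
    obtain ⟨U, V, U', V', a, b₀, a', b', h, h', p, q, u', ha, hb, ha', hb', c, c', cp, sU, rfl⟩ :=
      GrothLib.AlgSp.exists_bc_charts X.property Y.property Y''.property sq x''
    have : LocallyOfFiniteType h.left := hf a b₀ h ha hb c
    rw [Points.map_ofPt, cp, GrothLib.AlgSp.ofPt_map_comp]
    refine (GrothLib.AlgSp.hasAtMor_fibreDim_iff X.property Y.property ha hb c (p.left u') (fun z => z ≤ 0)).trans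
      (Iff.trans ?_ (GrothLib.AlgSp.hasAtMor_fibreDim_iff X''.property Y''.property ha' hb' c' u' (fun z => z ≤ 0)).symm)
    rw [GrothLib.AlgSp.fibreDimAt_of_isPullback sU u']

end Groth.Agent.S10313
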