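import Groth.Statements.S10314
import Groth.Agent.Lib.AlgSp.RelDimSpace
-- import your own Groth.Agent.* helpers here

set_option autoImplicit false
universe u
open CategoryTheory CategoryTheory.Limits AlgebraicGeometry
open AlgSp

namespace Groth.Agent.S10314

/-- For a flat morphism locally of finite type of relative dimension d between locally Noetherian
algebraic spaces, the dimension of X at a point equals the dimension of Y at the image point plus d. -/
theorem result {S : Scheme.{u}} {X Y : AlgSp.Space S} (f : X ⟶ Y)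
    (hX : AlgSp.IsLocNoethSp X.obj) (hY : AlgSp.IsLocNoethSp Y.obj) (hf : AlgSp.LocP @Flat f.hom)
    (hf' : AlgSp.LocP @LocallyOfFiniteType f.hom) (d : ℕ)
    (hd : ∀ x : AlgSp.Points X.obj, AlgSp.HasAtMor (fun _ _ h u => FlatMor.fibreDimAt h u = (d : WithBot ℕ∞)) f.hom x)
    (x : AlgSp.Points X.obj) (dX dY : WithBot ℕ∞) (hx : AlgSp.HasAt (fun U u => FlatMor.localDim ↥U u = dX) X.obj x)
    (hy : AlgSp.HasAt (fun U u => FlatMor.localDim ↥U u = dY) Y.obj (AlgSp.Points.map f.hom x)) :
    dX = dY + (d : WithBot ℕ∞) := by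
  obtain ⟨U, V, a, b, h, u, ha, hb, hNU, hNV, c, rfl⟩ :=
    GrothLib.AlgSp.exists_noeth_chart_at X.property Y.property hY hf' x
  haveI := hNU; haveI := hNV
  haveI : Flat h.left := hf a b h ha hb c
  haveI : LocallyOfFiniteType h.left := hf' a b h ha hb c
  have hinv : ∀ (d : WithBot ℕ∞) ⦃A B : Scheme.{u}⦄ (k : A ⟶ B), Etale k → ∀ w : ↥A,
      FlatMor.localDim ↥A w = d ↔ FlatMor.localDim ↥B (k w) = d := fun d A B k hk w => by
    haveI := hk; rw [GrothLib.EtFibre.localDim_eq_of_etale k w]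
  have h1 := (GrothLib.AlgSp.hasAt_iff X.property (Q := fun U u => FlatMor.localDim ↥U u = dX) (hinv dX) ha u).1 hx
  rw [AlgSp.Points.map_ofPt, c, GrothLib.AlgSp.ofPt_map_comp] at hy
  have h2 := (GrothLib.AlgSp.hasAt_iff Y.property (Q := fun U u => FlatMor.localDim ↥U u = dY) (hinv dY) hb _).1 hy
  rw [← h1, ← h2]
  exact GrothLib.CMMor6.localDim_eq_add h.left d ⊤ u trivial fun y _ =>
    (GrothLib.AlgSp.hasAtMor_fibreDim_iff X.property Y.property ha hb c y (fun e => e = (d : WithBot ℕ∞))).1 (hd _)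

end Groth.Agent.S10314
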