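import Groth.Statements.S10315
import Groth.Agent.Lib.AlgSp.RelDimSpace
-- import your own Groth.Agent.* helpers here

set_option autoImplicit false
universe u
open CategoryTheory CategoryTheory.Limits AlgebraicGeometry
open AlgSp

namespace Groth.Agent.S10315

/-- For a smooth morphism of locally Noetherian algebraic spaces, the dimension of X at x is the
dimension of Y at the image of x plus the relative dimension of f at x. -/
theorem result {S : Scheme.{u}} {X Y : AlgSp.Space S} (f : X ⟶ Y)
    (hX : AlgSp.IsLocNoethSp X.obj) (hY : AlgSp.IsLocNoethSp Y.obj) (hf : AlgSp.LocP @Smooth f.hom)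
    (x : AlgSp.Points X.obj) (d dX dY : WithBot ℕ∞)
    (hd : AlgSp.HasAtMor (fun _ _ h u => FlatMor.fibreDimAt h u = d) f.hom x)
    (hx : AlgSp.HasAt (fun U u => FlatMor.localDim ↥U u = dX) X.obj x)
    (hy : AlgSp.HasAt (fun U u => FlatMor.localDim ↥U u = dY) Y.obj (AlgSp.Points.map f.hom x)) :
    dX = dY + d := by
  have hlft : AlgSp.LocP @LocallyOfFiniteType f.hom := fun A B p q k hp hq hc => by
    haveI := hf p q k hp hq hc
    infer_instance
  obtain ⟨U, V, a, b, h, u, ha, hb, hNU, hNV, c, rfl⟩ :=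
    GrothLib.AlgSp.exists_noeth_chart_at X.property Y.property hY hlft x
  haveI := hNU; haveI := hNV
  haveI : Smooth h.left := hf a b h ha hb c
  have hinv : ∀ (d : WithBot ℕ∞) ⦃A B : Scheme.{u}⦄ (k : A ⟶ B), Etale k → ∀ w : ↥A,
      FlatMor.localDim ↥A w = d ↔ FlatMor.localDim ↥B (k w) = d := fun d A B k hk w => by
    haveI := hk; rw [GrothLib.EtFibre.localDim_eq_of_etale k w]
  have h1 := (GrothLib.AlgSp.hasAt_iff X.property (Q := fun U u => FlatMor.localDim ↥U u = dX) (hinv dX) ha u).1 hx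
  rw [AlgSp.Points.map_ofPt, c, GrothLib.AlgSp.ofPt_map_comp] at hy
  have h2 := (GrothLib.AlgSp.hasAt_iff Y.property (Q := fun U u => FlatMor.localDim ↥U u = dY) (hinv dY) hb _).1 hy
  have h3 := (GrothLib.AlgSp.hasAtMor_fibreDim_iff X.property Y.property ha hb c u (fun e => e = d)).1 hd
  obtain ⟨n, W, huW, hn⟩ := GrothLib.AlgSp.exists_open_fibreDimAt_eq_of_smooth h.left u
  rw [← h1, ← h2, ← h3, hn u huW]
  exact GrothLib.CMMor6.localDim_eq_add h.left n W u huW hn

end Groth.Agent.S10315
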