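import Groth.Agent.Lib.AlgSp.LqfPoint
import Groth.Statements.S10316
-- import your own Groth.Agent.* helpers here

set_option autoImplicit false
universe u
open CategoryTheory CategoryTheory.Limits AlgebraicGeometry
open AlgSp

namespace Groth.Agent.S10316

/-- For X -> Y locally quasi-finite and Y -> Z locally of finite type, the transcendence degree of x
over Z equals that of its image y over Z. -/
theorem result {S : Scheme.{u}} {X Y Z : AlgSp.Space S} (f : X ⟶ Y) (g : Y ⟶ Z)
    (hf : AlgSp.LocP (@LocallyQuasiFinite ⊓ @LocallyOfFiniteType) f.hom) (hg : AlgSp.LocP @LocallyOfFiniteType g.hom)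
    (x : AlgSp.Points X.obj) (r : Cardinal.{u}) :
    AlgSp.HasAtMor (fun _ _ h u => Dual3.resTrdeg h u = r) (f ≫ g).hom x ↔
      AlgSp.HasAtMor (fun _ _ h u => Dual3.resTrdeg h u = r) g.hom (AlgSp.Points.map f.hom x) := by
  obtain ⟨T, t, te, ts⟩ := Z.property.atlas
  obtain ⟨V, b, k, be, hk, hbs⟩ := GrothLib.AlgSp.exists_chart_over Y.property Z.property g.hom t te
  obtain ⟨U, a, h, ae, hh, has⟩ := GrothLib.AlgSp.exists_chart_over X.property Y.property f.hom b be
  obtain ⟨u, rfl⟩ := GrothLib.AlgSp.surjective_ofPt_of_repWith (has (hbs ts)) x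
  have hc : a ≫ (f ≫ g).hom = (yon S).map (h ≫ k) ≫ t := by
    change a ≫ f.hom ≫ g.hom = _
    rw [reassoc_of% hh, hk, Functor.map_comp, Category.assoc]
  have : LocallyQuasiFinite h.left := (hf a b h ae be hh).1
  have : LocallyOfFiniteType h.left := (hf a b h ae be hh).2
  rw [Points.map_ofPt, hh, GrothLib.AlgSp.ofPt_map_comp]
  refine (GrothLib.AlgSp.hasAtMor_resTrdeg_iff X.property Z.property ae te hc u (fun z => z = r)).trans
    (Iff.trans ?_ (GrothLib.AlgSp.hasAtMor_resTrdeg_iff Y.property Z.property be te hk (h.left u) (fun z => z = r)).symm)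
  rw [Over.comp_left, GrothLib.AlgSp.resTrdeg_comp, GrothLib.AlgSp.resTrdeg_eq_zero_of_lqf h.left u, add_zero]

end Groth.Agent.S10316
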