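import Groth.Statements.S10317
import Groth.Agent.Lib.AlgSp.NormExists
import Groth.Agent.Lib.AlgSp.PointProps
import Groth.Agent.Lib.AlgSp.LocP
-- import your own Groth.Agent.* helpers here

set_option autoImplicit false
universe u
open CategoryTheory CategoryTheory.Limits AlgebraicGeometry
open AlgSp GrothLib.AlgSp
set_option backward.isDefEq.respectTransparency false

namespace Groth.Agent.S10317

/-- A codimension-0 point of the normalization X' of X in Y is the image of a codimension-0 point of Y.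
(The published statement is phrased for a morphism of schemes; this row states it for a
quasi-compact quasi-separated morphism of algebraic spaces.) -/
theorem result {S : Scheme.{u}} {Y X X' : AlgSp.Space S} (f : Y ⟶ X)
    (hqc : AlgSp.IsQuasiCompactMor f.hom) (hqs : AlgSp.IsQuasiSeparatedMor f.hom) (ν : X' ⟶ X) (f' : Y ⟶ X')
    (hn : AlgSp.IsRelNormalization f.hom ν.hom f'.hom) (x' : AlgSp.Points X'.obj) (hx' : AlgSp.HasAt (fun U u => ringKrullDim ↥(U.presheaf.stalk u) = 0) X'.obj x') :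
    ∃ y : AlgSp.Points Y.obj, AlgSp.HasAt (fun U u => ringKrullDim ↥(U.presheaf.stalk u) = 0) Y.obj y ∧ AlgSp.Points.map f'.hom y = x' := by
  have hun := univNorm_of_isRelNormalization X.property Y.property hqc hqs X'.property hn
  -- an affine chart of the target through the image of the point
  obtain ⟨U₀, a₀, ha₀, ha₀s⟩ := X.property.atlas
  obtain ⟨u, hu⟩ := surjective_ofPt_of_repWith ha₀s (Points.map ν.hom x')
  obtain ⟨j, v, hv⟩ : ∃ j v, U₀.left.affineCover.f j v = u := ⟨_, U₀.left.affineCover.covers u⟩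
  let U : Over S := Over.mk (U₀.left.affineCover.f j ≫ U₀.hom)
  let jU : U ⟶ U₀ := Over.homMk (U₀.left.affineCover.f j) rfl
  haveI : IsAffine U.left := inferInstanceAs (IsAffine (U₀.left.affineCover.X j))
  haveI : Etale jU.left := inferInstanceAs (Etale (U₀.left.affineCover.f j))
  let a : (yon S).obj U ⟶ X.obj := (yon S).map jU ≫ a₀
  have hae : RepWith @Etale a := repWith_comp ((repWith_yon_map_iff _ jU).2 inferInstance) ha₀
  -- the chart of the normalization
  have hνr := isIntegralMor_iff.1 hn.2.1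
  obtain ⟨N, bN, m, sqN⟩ := exists_isPullback_of_representable hνr.1 a
  haveI hmi : IsIntegralHom m.left := hνr.2 _ _ _ sqN
  haveI : IsAffine N.left := isAffine_of_isAffineHom m.left
  have hbN : RepWith @Etale bN := repWith_of_isPullback sqN.flip hae
  obtain ⟨n, hnx⟩ : ∃ n, Points.ofPt bN n = x' := by
    obtain ⟨p, hp, -⟩ := exists_of_isPullback sqN (x := x') (y := Points.ofScheme U v) (by
      rw [← Points.ofPt_eq_map_ofScheme, ofPt_map_comp]
      exact hu.symm.trans (congrArg _ hv.symm))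
    obtain ⟨n, rfl⟩ := (Points.schemeEquiv N).surjective p
    exact ⟨n, (Points.ofPt_eq_map_ofScheme bN n).trans hp⟩
  -- the fibre product of the source
  have sqP := IsPullback.of_hasPullback f.hom a
  have hP := isAlgSpace_pullback' X.property Y.property (IsAlgSpace.yon_obj U) f.hom a
  have hφw : (pullback.fst f.hom a ≫ f'.hom) ≫ ν.hom = pullback.snd f.hom a ≫ a := by
    rw [Category.assoc, hn.1]; exact sqP.w
  let φ : pullback f.hom a ⟶ (yon S).obj N := sqN.lift _ _ hφw
  have hφ₁ : φ ≫ bN = pullback.fst f.hom a ≫ f'.hom := sqN.lift_fst _ _ _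
  have hφ₂ : φ ≫ (yon S).map m = pullback.snd f.hom a := sqN.lift_snd _ _ _
  have hU := hun.of_isPullback (isEtaleMor_of_repWith _ hae) sqP sqN hφ₁ hφ₂
  obtain ⟨W, C₂, w, c₁, c₂, hW, -, hwe, hws, hcc, hdesc⟩ := exists_affine_presentation (U := U) hP
    (pullback.snd f.hom a) (isQuasiCompactMor_of_isPullback' sqP hqc) (isQuasiSeparatedMor_of_isPullback' sqP hqs)
  haveI := hW
  obtain ⟨k, hk⟩ := (yon S).map_surjective (w ≫ φ)
  -- the kernel of the map to the chart of the source vanishes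
  let ρ : Γ(N.left, ⊤) ⟶ Γ(W.left, ⊤) := k.left.appTop
  let K : Ideal Γ(N.left, ⊤) := RingHom.ker ρ.hom
  let iz : Spec (CommRingCat.of (Γ(N.left, ⊤) ⧸ K)) ⟶ N.left :=
    Spec.map (CommRingCat.ofHom (Ideal.Quotient.mk K)) ≫ N.left.isoSpec.inv
  haveI : IsClosedImmersion (Spec.map (CommRingCat.ofHom (Ideal.Quotient.mk K))) :=
    IsClosedImmersion.spec_of_surjective _ Ideal.Quotient.mk_surjective
  haveI : IsClosedImmersion iz := inferInstanceAs (IsClosedImmersion (_ ≫ _))
  let Z : Over S := Over.mk (iz ≫ N.hom)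
  let i : Z ⟶ N := Over.homMk iz rfl
  haveI hiC : IsClosedImmersion i.left := ‹IsClosedImmersion iz›
  have hkz : (W.left.isoSpec.hom ≫ Spec.map (CommRingCat.ofHom (RingHom.kerLift ρ.hom))) ≫ iz = k.left := by
    show (_ ≫ _) ≫ (_ ≫ _) = _
    rw [Category.assoc, ← Spec.map_comp_assoc, ← CommRingCat.ofHom_comp,
      show (RingHom.kerLift ρ.hom).comp (Ideal.Quotient.mk K) = ρ.hom from RingHom.ext fun _ => rfl,
      CommRingCat.ofHom_hom, ← Category.assoc, Scheme.isoSpec_hom_naturality, Category.assoc, Iso.hom_inv_id,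
      Category.comp_id]
  let k₀ : W ⟶ Z := Over.homMk (W.left.isoSpec.hom ≫ Spec.map (CommRingCat.ofHom (RingHom.kerLift ρ.hom))) (by
    show _ ≫ iz ≫ N.hom = W.hom
    rw [← Category.assoc, hkz, Over.w k])
  have hk₀ : k₀ ≫ i = k := Over.OverMorphism.ext hkz
  haveI : Mono i.left := inferInstance
  haveI : Mono ((Over.forget S).map i) := ‹Mono i.left›
  haveI : Mono i := (Over.forget S).mono_of_mono_map ‹_›
  have hcz : c₁ ≫ k₀ = c₂ ≫ k₀ := by
    rw [← cancel_mono i, Category.assoc, Category.assoc, hk₀]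
    apply (yon S).map_injective
    rw [Functor.map_comp, Functor.map_comp, hk, reassoc_of% hcc]
  obtain ⟨g, hg⟩ := hdesc _ ((yon S).map k₀) (by rw [← Functor.map_comp, ← Functor.map_comp, hcz])
  have hgi : g ≫ (yon S).map i = φ := by
    haveI := chart_isLocallySurjective hwe hws
    haveI : Epi w := (Sheaf.isLocallySurjective_iff_epi _).1 inferInstance
    rw [← cancel_epi w, reassoc_of% hg, ← Functor.map_comp, hk₀, hk]
  have hiint : IsIntegralMor ((yon S).map i ≫ (yon S).map m) := by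
    rw [← Functor.map_comp, isIntegralMor_iff, repWith_yon_map_iff]
    exact inferInstanceAs (IsIntegralHom (i.left ≫ m.left))
  have hR := hU.isRelNormalization (IsAlgSpace.yon_obj U)
  obtain ⟨r, ⟨hr₁, hr₂⟩, -⟩ := hR.2.2 (IsAlgSpace.yon_obj Z) _ g hiint (by rw [reassoc_of% hgi, hφ₂])
  have hri : r ≫ (yon S).map i = 𝟙 _ := hU.hom_ext' (IsAlgSpace.yon_obj U) (IsAlgSpace.yon_obj N) hU.2.1
    (by rw [← Category.assoc, hr₁, hgi, Category.comp_id]) (by rw [Category.assoc, hr₂]) (Category.id_comp _)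
  obtain ⟨r, rfl⟩ := (yon S).map_surjective r
  have hri' : r ≫ i = 𝟙 N := (yon S).map_injective (by rw [Functor.map_comp, hri, CategoryTheory.Functor.map_id])
  haveI : IsIso iz := ⟨r.left, by
    rw [← cancel_mono i.left]
    show (iz ≫ r.left) ≫ iz = 𝟙 _ ≫ iz
    rw [Category.assoc, show r.left ≫ iz = 𝟙 N.left from congrArg (fun e => e.left) hri', Category.comp_id,
      Category.id_comp], congrArg (fun e => e.left) hri'⟩
  have hinj : Function.Injective ρ.hom := by
    haveI : IsIso (Spec.map (CommRingCat.ofHom (Ideal.Quotient.mk K))) := by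
      rw [show Spec.map (CommRingCat.ofHom (Ideal.Quotient.mk K)) = iz ≫ N.left.isoSpec.hom by simp [iz]]
      infer_instance
    haveI : IsIso (Scheme.Spec.map (CommRingCat.ofHom (Ideal.Quotient.mk K)).op) :=
      ‹IsIso (Spec.map (CommRingCat.ofHom (Ideal.Quotient.mk K)))›
    haveI : IsIso (CommRingCat.ofHom (Ideal.Quotient.mk K)).op := isIso_of_fully_faithful Scheme.Spec _
    haveI : IsIso (CommRingCat.ofHom (Ideal.Quotient.mk K)) := isIso_of_op _
    have h0 := (ConcreteCategory.bijective_of_isIso (CommRingCat.ofHom (Ideal.Quotient.mk K))).1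
    intro x y hxy
    exact h0 (Ideal.Quotient.eq.2 (by show ρ.hom (x - y) = 0; rw [map_sub, hxy, sub_self]))
  -- minimal primes lift
  subst hnx
  have hn0 : ringKrullDim (N.left.presheaf.stalk n) = 0 := (hasAt_iff X'.property
    (Q := fun A u => ringKrullDim ↥(A.presheaf.stalk u) = 0)
    (fun A B e he z => by haveI := he; rw [ringKrullDim_stalk_eq_of_etale e z]) hbN n).1 hx'
  let pn : PrimeSpectrum Γ(N.left, ⊤) := N.left.isoSpec.hom n
  have hmin : pn.asIdeal ∈ minimalPrimes Γ(N.left, ⊤) := by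
    rw [← Ideal.height_eq_zero_iff]
    have e := (ringKrullDim_stalk_eq_of_etale N.left.isoSpec.hom n).symm.trans hn0
    rw [ringKrullDim_eq_of_ringEquiv (Spec.stalkIso Γ(N.left, ⊤) pn).commRingCatIsoToRingEquiv] at e
    replace e : ringKrullDim (Localization.AtPrime pn.asIdeal) = 0 := e
    rw [IsLocalization.AtPrime.ringKrullDim_eq_height pn.asIdeal (Localization.AtPrime pn.asIdeal)] at e
    exact_mod_cast e
  obtain ⟨P, hP₁, hP₂⟩ := Ideal.exists_comap_eq_of_mem_minimalPrimes (f := ρ.hom) (I := ⊥) _ (by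
    rw [RingHom.injective_iff_ker_eq_bot] at hinj
    rw [← RingHom.ker_eq_comap_bot, hinj]
    exact hmin)
  obtain ⟨P', hP', hP'le⟩ := Ideal.exists_minimalPrimes_le (I := (⊥ : Ideal Γ(W.left, ⊤))) (J := P) bot_le
  haveI := hP'.1.1
  have hP'eq : P'.comap ρ.hom = pn.asIdeal :=
    le_antisymm ((Ideal.comap_mono hP'le).trans hP₂.2.le)
      (hmin.2 ⟨Ideal.IsPrime.comap ρ.hom, bot_le⟩ ((Ideal.comap_mono hP'le).trans hP₂.2.le))
  let q : ↥W.left := W.left.isoSpec.inv ⟨P', hP'.1.1⟩
  have hwf : RepWith @Etale (w ≫ pullback.fst f.hom a) :=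
    repWith_comp hwe (repWith_of_isPullback sqP.flip hae)
  refine ⟨Points.ofPt (w ≫ pullback.fst f.hom a) q, ⟨W, _, q, hwf, rfl, ?_⟩, ?_⟩
  · have e2 : ringKrullDim ((Spec Γ(W.left, ⊤)).presheaf.stalk ⟨P', hP'.1.1⟩) = 0 := by
      rw [ringKrullDim_eq_of_ringEquiv (Spec.stalkIso Γ(W.left, ⊤) ⟨P', hP'.1.1⟩).commRingCatIsoToRingEquiv]
      show ringKrullDim (Localization.AtPrime P') = 0
      rw [IsLocalization.AtPrime.ringKrullDim_eq_height P' (Localization.AtPrime P'),
        Ideal.height_eq_zero_iff.2 hP']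
      rfl
    rw [← e2]
    exact (ringKrullDim_stalk_eq_of_etale W.left.isoSpec.inv _).symm
  · rw [Points.map_ofPt, Category.assoc, ← hφ₁, ← Category.assoc, ← hk, ofPt_map_comp]
    congr 1
    apply N.left.isoSpec.hom.isOpenEmbedding.injective
    show (k.left ≫ N.left.isoSpec.hom) (W.left.isoSpec.inv ⟨P', hP'.1.1⟩) = N.left.isoSpec.hom n
    rw [← Scheme.isoSpec_hom_naturality, ← Scheme.Hom.comp_apply, Iso.inv_hom_id_assoc]
    apply PrimeSpectrum.ext
    show P'.comap ρ.hom = _
    rw [hP'eq]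
end Groth.Agent.S10317
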