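import Groth.Agent.Lib.AlgSp.LqfPoint
import Groth.Statements.S10318
-- import your own Groth.Agent.* helpers here

set_option autoImplicit false
universe u
open CategoryTheory CategoryTheory.Limits AlgebraicGeometry
open AlgSp

namespace Groth.Agent.S10318

/-- Over a Jacobson algebraic space, a finite type point of a space locally of finite type over it has
transcendence degree 0 over its image. -/
theorem result {S : Scheme.{u}} {X Y : AlgSp.Space S} (f : X ⟶ Y)
    (hf : AlgSp.LocP @LocallyOfFiniteType f.hom) (hY : AlgSp.EtaleLocally (fun U => JacobsonSpace ↥U) Y.obj)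
    (x : AlgSp.Points X.obj) (hx : AlgSp.HasAt (fun U u => IsClosed ({u} : Set ↥U)) X.obj x) :
    AlgSp.HasAtMor (fun _ _ h u => Dual3.resTrdeg h u = 0) f.hom x := by
  obtain ⟨V, q, qe, qs, hV⟩ := hY
  have : JacobsonSpace ↥V.left := hV
  obtain ⟨U, a, u, ha, rfl, hu⟩ := hx
  obtain ⟨U₁, p, α, pe, hp, hps⟩ := GrothLib.AlgSp.exists_chart_over X.property Y.property f.hom q qe
  obtain ⟨u₁, hu₁⟩ := GrothLib.AlgSp.surjective_ofPt_of_repWith (hps qs) (Points.ofPt a u)
  obtain ⟨W, w₁, w₂, w, he₁, he₂, ew, hw₁, hw₂⟩ := GrothLib.AlgSp.exists_common_chart X.property ha pe hu₁.symm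
  have := GrothLib.EtBasicB.locallyQuasiFinite_of_unramified w₁.left
  have hclosed : IsClosed ({w} : Set ↥W.left) := by
    have hF : IsClosed (w₁.left ⁻¹' {u}) := hu.preimage w₁.left.continuous
    have hd : DiscreteTopology (w₁.left ⁻¹' {u}) :=
      isDiscrete_iff_discreteTopology.mp (w₁.left.isDiscrete_preimage_singleton u)
    have h1 : IsClosed ({⟨w, hw₁⟩} : Set (w₁.left ⁻¹' {u})) := isClosed_discrete _
    have h2 := hF.isClosedEmbedding_subtypeVal.isClosedMap _ h1
    rwa [Set.image_singleton] at h2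
  let m : W ⟶ V := w₂ ≫ α
  have hc : ((yon S).map w₂ ≫ p) ≫ f.hom = (yon S).map m ≫ q := by
    rw [Category.assoc, hp, Functor.map_comp, Category.assoc]
  have hce : RepWith @Etale ((yon S).map w₂ ≫ p) :=
    GrothLib.AlgSp.repWith_comp ((AlgSp.repWith_yon_map_iff _ _).2 he₂) pe
  have hlft : LocallyOfFiniteType m.left := hf _ q m hce qe hc
  refine ⟨W, V, (yon S).map w₂ ≫ p, q, m, w, hce, qe, hc, by rw [GrothLib.AlgSp.ofPt_map_comp, hw₂, hu₁],
    GrothLib.AlgSp.resTrdeg_eq_zero_of_finite m.left ?_⟩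
  have := isClosed_singleton_iff_isClosedImmersion.mp hclosed
  have h3 : IsFinite (W.left.fromSpecResidueField w ≫ m.left) :=
    isFinite_iff_locallyOfFiniteType_of_jacobsonSpace.mpr inferInstance
  rw [← Scheme.Hom.SpecMap_residueFieldMap_fromSpecResidueField] at h3
  have h4 : IsFinite (Spec.map (m.left.residueFieldMap w)) := IsFinite.of_comp _ (V.left.fromSpecResidueField (m.left w))
  exact (IsFinite.SpecMap_iff _).1 h4

end Groth.Agent.S10318
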