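import Groth.Agent.Lib.AlgSp.LqfPoint
import Groth.Statements.S10319
-- import your own Groth.Agent.* helpers here

set_option autoImplicit false
universe u
open CategoryTheory CategoryTheory.Limits AlgebraicGeometry
open AlgSp

namespace Groth.Agent.S10319

/-- Transcendence degrees at a point add up along a composition of morphisms locally of finite type. -/
theorem result {S : Scheme.{u}} {X Y Z : AlgSp.Space S} (f : X ⟶ Y) (g : Y ⟶ Z)
    (hf : AlgSp.LocP @LocallyOfFiniteType f.hom) (hg : AlgSp.LocP @LocallyOfFiniteType g.hom)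
    (x : AlgSp.Points X.obj) (r₁ r₂ : Cardinal.{u})
    (h1 : AlgSp.HasAtMor (fun _ _ h u => Dual3.resTrdeg h u = r₁) f.hom x)
    (h2 : AlgSp.HasAtMor (fun _ _ h u => Dual3.resTrdeg h u = r₂) g.hom (AlgSp.Points.map f.hom x)) :
    AlgSp.HasAtMor (fun _ _ h u => Dual3.resTrdeg h u = r₁ + r₂) (f ≫ g).hom x := by
  obtain ⟨T, t, te, ts⟩ := Z.property.atlas
  obtain ⟨V, b, k, be, hk, hbs⟩ := GrothLib.AlgSp.exists_chart_over Y.property Z.property g.hom t te
  obtain ⟨U, a, h, ae, hh, has⟩ := GrothLib.AlgSp.exists_chart_over X.property Y.property f.hom b be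
  obtain ⟨u, rfl⟩ := GrothLib.AlgSp.surjective_ofPt_of_repWith (has (hbs ts)) x
  have hc : a ≫ (f ≫ g).hom = (yon S).map (h ≫ k) ≫ t := by
    change a ≫ f.hom ≫ g.hom = _
    rw [reassoc_of% hh, hk, Functor.map_comp, Category.assoc]
  rw [Points.map_ofPt, hh, GrothLib.AlgSp.ofPt_map_comp] at h2
  have e1 := (GrothLib.AlgSp.hasAtMor_resTrdeg_iff X.property Y.property ae be hh u (fun z => z = r₁)).1 h1
  have e2 := (GrothLib.AlgSp.hasAtMor_resTrdeg_iff Y.property Z.property be te hk (h.left u) (fun z => z = r₂)).1 h2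
  refine (GrothLib.AlgSp.hasAtMor_resTrdeg_iff X.property Z.property ae te hc u (fun z => z = r₁ + r₂)).2 ?_
  rw [Over.comp_left, GrothLib.AlgSp.resTrdeg_comp, e1, e2, add_comm]

end Groth.Agent.S10319
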