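import Groth.Statements.S1032
import Groth.Agent.Lib.CohDer19.Enough

set_option autoImplicit false
universe w v v' u u'
open CategoryTheory CategoryTheory.Limits
open CohDer

namespace Groth.Agent.S1032

/-- Let A be an abelian category in which every cochain complex admits a quasi-isomorphism to a
K-injective complex, and let F be an exact functor from the homotopy category K(A) to a
pretriangulated category. Then F has a right derived functor RF with respect to quasi-isomorphisms
(defined on D(A)), and the canonical map F(I) ⟶ RF(I) is an isomorphism for every K-injective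
complex I. -/
theorem result {A : Type u} [Category.{v} A] [Abelian A] [HasDerivedCategory.{w} A]
    (hKinj : ∀ K : CochainComplex A ℤ, ∃ (I : CochainComplex A ℤ) (f : K ⟶ I), I.IsKInjective ∧ QuasiIso f)
    {D' : Type u'} [Category.{v'} D'] [Preadditive D'] [Limits.HasZeroObject D'] [HasShift D' ℤ]
    [∀ n : ℤ, (shiftFunctor D' n).Additive] [Pretriangulated D']
    [IsTriangulated D']
    (F : HomotopyCategory A (ComplexShape.up ℤ) ⥤ D') [F.CommShift ℤ] [F.IsTriangulated] :
    F.HasRightDerivedFunctor (HomotopyCategory.quasiIso A (ComplexShape.up ℤ)) ∧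
    ∀ [F.HasRightDerivedFunctor (HomotopyCategory.quasiIso A (ComplexShape.up ℤ))] (I : CochainComplex A ℤ), I.IsKInjective →
      IsIso ((F.totalRightDerivedUnit DerivedCategory.Qh (HomotopyCategory.quasiIso A (ComplexShape.up ℤ))).app
        ((HomotopyCategory.quotient A (ComplexShape.up ℤ)).obj I)) := by
  refine ⟨GrothLib.CohDer19.Enough.hasRightDerivedFunctor hKinj F, fun {_} I hI => ?_⟩
  have := GrothLib.CohDer19.Enough.isIso_unit_of_rightOrthogonal hKinj
    ((CochainComplex.isKInjective_iff_rightOrthogonal I).1 hI)
  have h := GrothLib.CohDer19.Enough.totalRightDerivedUnit_iso_hom hKinj F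
    ((HomotopyCategory.quotient A (ComplexShape.up ℤ)).obj I)
  exact IsIso.of_isIso_fac_right h

end Groth.Agent.S1032
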