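import Groth.Agent.Lib.AlgSp.LqfPoint
import Groth.Agent.Lib.AffDom.LocalDim
import Groth.Statements.S10320
-- import your own Groth.Agent.* helpers here

set_option autoImplicit false
universe u
open CategoryTheory CategoryTheory.Limits AlgebraicGeometry
open AlgSp

namespace Groth.Agent.S10320

theorem resTrdeg_eq_ptTrdeg {K : Type u} [Field K] {X : Scheme.{u}} (f : X ⟶ Spec (CommRingCat.of K))
    [LocallyOfFiniteType f] (x : X) : GrothLib.AffDom.ptTrdeg f x = Dual3.resTrdeg f x := by
  have hb : Function.Bijective (GrothLib.AffDom.toRes (𝟙 (Spec (CommRingCat.of K))) (f x)) := by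
    have : IsIso (Spec.map (CommRingCat.ofHom (GrothLib.AffDom.toRes (𝟙 (Spec (CommRingCat.of K))) (f x)))) := by
      rw [GrothLib.AffDom.SpecMap_toRes, Category.comp_id]
      exact GrothLib.AlgSp.isIso_of_mono_to_field ((Spec (CommRingCat.of K)).fromSpecResidueField (f x))
    have : IsIso (Scheme.Spec.map (CommRingCat.ofHom (GrothLib.AffDom.toRes (𝟙 (Spec (CommRingCat.of K))) (f x))).op) :=
      this
    have := isIso_of_reflects_iso (CommRingCat.ofHom (GrothLib.AffDom.toRes (𝟙 (Spec (CommRingCat.of K))) (f x))).op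
      Scheme.Spec
    have : IsIso (CommRingCat.ofHom (GrothLib.AffDom.toRes (𝟙 (Spec (CommRingCat.of K))) (f x))) := isIso_of_op _
    exact ConcreteCategory.bijective_of_isIso (CommRingCat.ofHom (GrothLib.AffDom.toRes (𝟙 (Spec (CommRingCat.of K))) (f x)))
  refine GrothLib.EtFibre.trdeg_eq_of_algebraic (GrothLib.AffDom.toRes f x) (f.residueFieldMap x).hom
    (GrothLib.AffDom.toRes (𝟙 (Spec (CommRingCat.of K))) (f x)) (RingHom.id _) ?_
    (RingHom.Finite.of_surjective _ hb.2) (RingHom.Finite.id _)
  rw [RingHom.id_comp, ← GrothLib.AffDom.toRes_comp]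
  congr 1

theorem scheme_formula {X Y : Scheme.{u}} (f : X ⟶ Y) [LocallyOfFiniteType f] (x : X) :
    FlatMor.fibreDimAt f x = ringKrullDim ↥((f.fiber (f x)).presheaf.stalk (f.asFiber x)) +
      ((Cardinal.toENat (Dual3.resTrdeg f x) : ℕ∞) : WithBot ℕ∞) := by
  set q := f.fiberToSpecResidueField (f x)
  haveI : LocallyOfFiniteType q := MorphismProperty.pullback_snd f _ inferInstance
  set p := f.asFiber x
  have key : ∀ (v : X), v = x → Dual3.resTrdeg f v = Dual3.resTrdeg f x := by rintro v rfl; rfl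
  have htr : Dual3.resTrdeg f x = GrothLib.AffDom.ptTrdeg (K := Y.residueField (f x)) q p := by
    rw [resTrdeg_eq_ptTrdeg (K := Y.residueField (f x)) q p, ← key _ (f.fiberι_asFiber x)]
    have h₁ := GrothLib.AlgSp.resTrdeg_comp (f.fiberι (f x)) f p
    have h₂ := GrothLib.AlgSp.resTrdeg_comp q (Y.fromSpecResidueField (f x)) p
    have e : f.fiberι (f x) ≫ f = q ≫ Y.fromSpecResidueField (f x) := pullback.condition
    rw [e, h₂] at h₁
    rw [GrothLib.AlgSp.resTrdeg_eq_zero_of_finite (f.fiberι (f x))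
        (RingHom.Finite.of_surjective _ (GrothLib.AffDom.residueFieldMap_surjective _ _)),
      GrothLib.AlgSp.resTrdeg_eq_zero_of_finite (Y.fromSpecResidueField (f x))
        (RingHom.Finite.of_surjective _ (GrothLib.AffDom.residueFieldMap_surjective _ _)),
      zero_add, add_zero] at h₁
    exact h₁.symm
  obtain ⟨n, hn, hn'⟩ := GrothLib.AffDom.exists_dim_closure (K := Y.residueField (f x)) q p
  rw [htr, hn', Cardinal.toENat_nat, add_comm]
  change FlatMor.localDim (f.fiber (f x)) p = _
  rw [GrothLib.AffDom.localDim_eq (K := Y.residueField (f x)) q p]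
  congr 1

/-- For f locally of finite type, the relative dimension of f at x equals the dimension of the local
ring of the fibre at x plus the transcendence degree of x over its image. -/
theorem result {S : Scheme.{u}} {X Y : AlgSp.Space S} (f : X ⟶ Y)
    (hf : AlgSp.LocP @LocallyOfFiniteType f.hom) (x : AlgSp.Points X.obj) (d e : WithBot ℕ∞) (r : Cardinal.{u})
    (hd : AlgSp.HasAtMor (fun _ _ h u => FlatMor.fibreDimAt h u = d) f.hom x)
    (he : AlgSp.HasAtMor (fun _ _ h u => ringKrullDim ↥((h.fiber (h u)).presheaf.stalk (h.asFiber u)) = e) f.hom x)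
    (hr : AlgSp.HasAtMor (fun _ _ h u => Dual3.resTrdeg h u = r) f.hom x) :
    d = e + ((Cardinal.toENat r : ℕ∞) : WithBot ℕ∞) := by
  obtain ⟨U, V, a, b, h, u, ha, hb, c, hu, hq⟩ := he
  subst hu
  have : LocallyOfFiniteType h.left := hf a b h ha hb c
  have h₁ := (GrothLib.AlgSp.hasAtMor_fibreDim_iff X.property Y.property ha hb c u (fun z => z = d)).1 hd
  have h₂ := (GrothLib.AlgSp.hasAtMor_resTrdeg_iff X.property Y.property ha hb c u (fun z => z = r)).1 hr
  rw [← h₁, ← h₂, ← hq]
  exact scheme_formula h.left u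

end Groth.Agent.S10320
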