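import Groth.Statements.S10321
import Groth.Agent.Lib.AlgSp.LqfScheme
import Groth.Agent.Lib.AlgSp.Points
-- import your own Groth.Agent.* helpers here

set_option autoImplicit false
universe u
open CategoryTheory CategoryTheory.Limits AlgebraicGeometry
open AlgSp

namespace Groth.Agent.S10321

/-- Let X be separated and locally quasi-finite over an affine scheme T, let T' -> T be etale with T'
affine, and let V' be an open subspace of T' ×_T X that is quasi-affine over T'. Then V' maps onto a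
quasi-compact open subspace of X that is itself a scheme. -/
theorem result {S : Scheme.{u}} {T T' : Over S} [IsAffine T.left]
    [IsAffine T'.left] (e : T' ⟶ T) [Etale e.left] {X P V' : AlgSp.Space S} (f : X ⟶ (AlgSp.ofScheme S).obj T)
    (hsep : AlgSp.IsSeparatedMor f.hom) (hqf : AlgSp.LocP (@LocallyQuasiFinite ⊓ @LocallyOfFiniteType) f.hom)
    (p1 : P ⟶ (AlgSp.ofScheme S).obj T') (p2 : P ⟶ X)
    (sq : IsPullback p2.hom p1.hom f.hom ((AlgSp.yon S).map e)) (j : V' ⟶ P)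
    (hj : AlgSp.RepWith @IsOpenImmersion j.hom) (hqa : AlgSp.IsQuasiAffineMor (j ≫ p1).hom) :
    ∃ (W : Over S) (i : (AlgSp.yon S).obj W ⟶ X.obj), AlgSp.RepWith @IsOpenImmersion i ∧ CompactSpace ↥W.left ∧
      Set.range (AlgSp.Points.map i) = Set.range (AlgSp.Points.map (j ≫ p2).hom) := by
  obtain ⟨M, ⟨eM⟩⟩ := GrothLib.AlgSp.exists_iso_yon_of_lqf_separated X.property f.hom hqf hsep
  obtain ⟨W₀, i, fst, sqW, hW⟩ := hqa inferInstance (𝟙 _)
  haveI := hW
  haveI : IsIso (𝟙 ((AlgSp.yon S).obj T')) := IsIso.id _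
  haveI : IsIso fst := @IsPullback.isIso_fst_of_isIso _ _ _ _ _ _ _ _ _ _ sqW this
  have hp2 : AlgSp.RepWith @Etale p2.hom :=
    GrothLib.AlgSp.repWith_of_isPullback sq.flip ((AlgSp.repWith_yon_map_iff _ e).2 ‹Etale e.left›)
  have ha : AlgSp.RepWith @Etale (fst ≫ (j ≫ p2).hom) :=
    GrothLib.AlgSp.repWith_comp (GrothLib.AlgSp.repWith_iso fst)
      (GrothLib.AlgSp.repWith_comp (GrothLib.AlgSp.repWith_mono hj fun A B m (hm : IsOpenImmersion m) => inferInstance) hp2)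
  obtain ⟨r, hr⟩ := (AlgSp.yon S).map_surjective ((fst ≫ (j ≫ p2).hom) ≫ eM.inv)
  have hrE : Etale r.left := (AlgSp.repWith_yon_map_iff _ r).1 (by
    rw [hr]; exact GrothLib.AlgSp.repWith_comp ha (GrothLib.AlgSp.repWith_iso eM.inv))
  let O : M.left.Opens := ⟨Set.range r.left, r.left.isOpenMap.isOpen_range⟩
  haveI : CompactSpace ↥W₀.left := inferInstance
  refine ⟨Over.mk (O.ι ≫ M.hom), (AlgSp.yon S).map (Over.homMk O.ι rfl) ≫ eM.hom,
    GrothLib.AlgSp.repWith_comp ((AlgSp.repWith_yon_map_iff _ _).2 (inferInstanceAs (IsOpenImmersion O.ι)))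
      (GrothLib.AlgSp.repWith_iso eM.hom), ?_, ?_⟩
  · exact isCompact_iff_compactSpace.1 (isCompact_range r.left.continuous)
  · apply Set.Subset.antisymm
    · rintro _ ⟨z, rfl⟩
      obtain ⟨⟨m, hm⟩, rfl⟩ := (AlgSp.Points.schemeEquiv (Over.mk (O.ι ≫ M.hom))).surjective z
      obtain ⟨w, hw⟩ := hm
      refine ⟨AlgSp.Points.ofPt fst w, ?_⟩
      show _ = AlgSp.Points.map _ (AlgSp.Points.ofScheme (Over.mk (O.ι ≫ M.hom)) _)
      rw [← AlgSp.Points.ofPt_eq_map_ofScheme, AlgSp.Points.map_ofPt, GrothLib.AlgSp.ofPt_map_comp]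
      rw [show fst ≫ (j ≫ p2).hom = (AlgSp.yon S).map r ≫ eM.hom by
        rw [hr, Category.assoc, eM.inv_hom_id, Category.comp_id], GrothLib.AlgSp.ofPt_map_comp, hw]
      rfl
    · rintro _ ⟨z, rfl⟩
      obtain ⟨z₀, rfl⟩ : z ∈ Set.range (AlgSp.Points.map fst) :=
        ⟨AlgSp.Points.map (inv fst) z, by rw [← AlgSp.Points.map_comp, IsIso.inv_hom_id, AlgSp.Points.map_id]⟩
      obtain ⟨w, rfl⟩ := (AlgSp.Points.schemeEquiv W₀).surjective z₀
      refine ⟨AlgSp.Points.ofScheme (Over.mk (O.ι ≫ M.hom)) ⟨r.left w, w, rfl⟩, ?_⟩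
      rw [← AlgSp.Points.map_comp, ← AlgSp.Points.ofPt_eq_map_ofScheme, GrothLib.AlgSp.ofPt_map_comp]
      rw [show fst ≫ (j ≫ p2).hom = (AlgSp.yon S).map r ≫ eM.hom by
        rw [hr, Category.assoc, eM.inv_hom_id, Category.comp_id]]
      rw [show AlgSp.Points.map ((AlgSp.yon S).map r ≫ eM.hom) ((AlgSp.Points.schemeEquiv W₀) w) =
        AlgSp.Points.ofPt ((AlgSp.yon S).map r ≫ eM.hom) w from (AlgSp.Points.ofPt_eq_map_ofScheme _ w).symm,
        GrothLib.AlgSp.ofPt_map_comp]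
      rfl

end Groth.Agent.S10321
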