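import Groth.Statements.S10323
import Groth.Agent.Lib.AlgSp.DimFormulaSpace
-- import your own Groth.Agent.* helpers here

set_option autoImplicit false
universe u
open CategoryTheory CategoryTheory.Limits AlgebraicGeometry
open AlgSp

namespace Groth.Agent.S10323

/-- For Y locally Noetherian and f locally of finite type, the dimension of the local ring of X at x is
at most the dimension of the local ring of Y at the image point plus E minus the transcendence
degree of x over its image, where E bounds the transcendence degrees of the codimension-0 points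
specializing to x. -/
theorem result {S : Scheme.{u}} {X Y : AlgSp.Space S} (f : X ⟶ Y)
    (hY : AlgSp.IsLocNoethSp Y.obj) (hf : AlgSp.LocP @LocallyOfFiniteType f.hom) (x : AlgSp.Points X.obj)
    (E : Cardinal.{u})
    (hE : ∀ ξ : AlgSp.Points X.obj, ξ ⤳ x → AlgSp.HasAt (fun U u => ringKrullDim ↥(U.presheaf.stalk u) = 0) X.obj ξ →
      ∀ s : Cardinal.{u}, AlgSp.HasAtMor (fun _ _ h u => Dual3.resTrdeg h u = s) f.hom ξ → s ≤ E)
    (a b : WithBot ℕ∞) (r : Cardinal.{u})
    (ha : AlgSp.HasAt (fun U u => ringKrullDim ↥(U.presheaf.stalk u) = a) X.obj x)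
    (hb : AlgSp.HasAt (fun U u => ringKrullDim ↥(U.presheaf.stalk u) = b) Y.obj (AlgSp.Points.map f.hom x))
    (hr : AlgSp.HasAtMor (fun _ _ h u => Dual3.resTrdeg h u = r) f.hom x) :
    a + ((Cardinal.toENat r : ℕ∞) : WithBot ℕ∞) ≤ b + ((Cardinal.toENat E : ℕ∞) : WithBot ℕ∞) := by
  open GrothLib.AlgSp in
  obtain ⟨V, q, qe, qs, hV⟩ := hY
  haveI : IsLocallyNoetherian V.left := hV
  obtain ⟨v, hv⟩ := surjective_ofPt_of_repWith qs (AlgSp.Points.map f.hom x)
  obtain ⟨U, p, h, u, hp, c, rfl, hhu⟩ := exists_chart_over_point X.property Y.property f.hom q qe x v hv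
  haveI : LocallyOfFiniteType h.left := hf p q h hp qe c
  have hA := (hasAt_iff (Q := fun U u => ringKrullDim ↥(U.presheaf.stalk u) = a) X.property (fun A B k hk w => by
    haveI := hk; simp only [ringKrullDim_stalk_eq_of_etale k]) hp u).1 ha
  rw [← hv] at hb
  have hB := (hasAt_iff (Q := fun U u => ringKrullDim ↥(U.presheaf.stalk u) = b) Y.property (fun A B k hk w => by
    haveI := hk; simp only [ringKrullDim_stalk_eq_of_etale k]) qe v).1 hb
  have hR := (hasAtMor_resTrdeg_iff X.property Y.property hp qe c u (fun s => s = r)).1 hr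
  subst hhu
  rw [← hA, ← hB, ← hR]
  exact chart_dim_formula hp qe c u E hE

end Groth.Agent.S10323
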