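import Groth.Statements.S10324
import Groth.Agent.Lib.AlgSp.DimFormulaSpace
-- import your own Groth.Agent.* helpers here

set_option autoImplicit false
universe u
open CategoryTheory CategoryTheory.Limits AlgebraicGeometry
open AlgSp

namespace Groth.Agent.S10324

/-- For Y locally Noetherian and f : X -> Y locally of finite type, dim X ≤ dim Y + E where E bounds the
transcendence degrees over Y of the codimension-0 points of X. -/
theorem result {S : Scheme.{u}} {X Y : AlgSp.Space S} (f : X ⟶ Y)
    (hY : AlgSp.IsLocNoethSp Y.obj) (hf : AlgSp.LocP @LocallyOfFiniteType f.hom) (E : Cardinal.{u})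
    (hE : ∀ ξ : AlgSp.Points X.obj, AlgSp.HasAt (fun U u => ringKrullDim ↥(U.presheaf.stalk u) = 0) X.obj ξ → ∀ s : Cardinal.{u}, AlgSp.HasAtMor (fun _ _ h u => Dual3.resTrdeg h u = s) f.hom ξ → s ≤ E) :
    AlgSp.dim X.obj ≤ AlgSp.dim Y.obj + ((Cardinal.toENat E : ℕ∞) : WithBot ℕ∞) := by
  exact GrothLib.AlgSp.dim_le_of_trdeg_bound X.property Y.property hY hf E hE

end Groth.Agent.S10324
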