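import Groth.Statements.S10325
import Groth.Agent.Lib.AlgSp.ProperUnion
import Groth.Agent.Lib.AlgSp.Coproduct
import Groth.Agent.Lib.AlgSp.SourceLocal
import Groth.Agent.Lib.AlgSp.ThickGlobal
import Groth.Agent.Lib.AlgSp.AffineMor
-- import your own Groth.Agent.* helpers here

set_option autoImplicit false
universe u
open CategoryTheory CategoryTheory.Limits AlgebraicGeometry
open AlgSp

namespace Groth.Agent.S10325

/-- A finite disjoint union of algebraic spaces finite over Y is finite over Y. -/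
theorem result {S : Scheme.{u}} {n : ℕ} (X : Fin n → AlgSp.Space S) (Y : AlgSp.Space S)
    (g : ∀ i, X i ⟶ Y) (hg : ∀ i, AlgSp.IsFiniteMor (g i).hom) (c : Cofan fun i => (X i).obj) (hc : IsColimit c)
    (d : c.pt ⟶ Y.obj) (hd : ∀ i, c.inj i ≫ d = (g i).hom) : AlgSp.IsFiniteMor d := by
  let e : ULift.{u} (Fin n) ≃ Fin n := Equiv.ulift
  let c' : Cofan fun i : ULift.{u} (Fin n) => (X (e i)).obj := Cofan.mk c.pt fun i => c.inj (e i)
  have hc' : IsColimit c' := (IsColimit.whiskerEquivalenceEquiv (Discrete.equivalence e) hc).ofIsoColimit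
    (Cocone.ext (Iso.refl _) fun j => by
      obtain ⟨j⟩ := j
      exact Category.comp_id _)
  have hC := GrothLib.AlgSp.isAlgSpace_cofan_pt hc' fun i => (X (e i)).property
  have hi : ∀ i, AlgSp.RepWith (@IsOpenImmersion ⊓ @IsClosedImmersion) (c'.inj i) := fun i =>
    GrothLib.AlgSp.repWith_inj hc' i
  have hs : ∀ w : AlgSp.Points c.pt, ∃ i, w ∈ Set.range (AlgSp.Points.map (c'.inj i)) := by
    intro w
    obtain ⟨U, a, ae, as⟩ := hC.atlas
    obtain ⟨t, rfl⟩ := GrothLib.AlgSp.surjective_ofPt_of_repWith as w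
    obtain ⟨i, V, d', l, -, -, ⟨v, rfl⟩, hl⟩ := GrothLib.AlgSp.exists_lift_inj hc' a t
    refine ⟨i, AlgSp.Points.ofPt l v, ?_⟩
    rw [AlgSp.Points.map_ofPt, hl, GrothLib.AlgSp.ofPt_map_comp]
  have hfin : ∀ i, AlgSp.RepWith @IsFinite (c'.inj i ≫ d) := fun i => by
    rw [show c'.inj i ≫ d = (g (e i)).hom from hd (e i)]
    exact GrothLib.AlgSp.isFiniteMor_iff.1 (hg (e i))
  have hl : ∀ i, AlgSp.LocP @Etale (c'.inj i) := fun i =>
    GrothLib.AlgSp.EtLocal.locP_of_repWith GrothLib.AlgSp.EtLocal.etale hC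
      (GrothLib.AlgSp.repWith_mono (hi i) fun A B f hf => by
        haveI := hf.1
        exact (inferInstance : Etale f))
  have hft : AlgSp.LocP @LocallyOfFiniteType d :=
    GrothLib.AlgSp.locP_of_cover_source GrothLib.AlgSp.EtLocal.etale (fun _ _ _ hc => hc)
      GrothLib.AlgSp.EtLocal.lft (GrothLib.AlgSp.srcDescends_etale GrothLib.AlgSp.etaleSourceDescends_lft)
      hC Y.property (fun i => (X (e i)).property) hl hs fun i =>
      GrothLib.AlgSp.EtLocal.locP_of_repWith GrothLib.AlgSp.EtLocal.lft Y.property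
        (GrothLib.AlgSp.repWith_mono (hfin i) fun A B g (hg : IsFinite g) => show LocallyOfFiniteType g from inferInstance)
  have hfq : AlgSp.LocP @LocallyQuasiFinite d :=
    GrothLib.AlgSp.locP_of_cover_source GrothLib.AlgSp.EtLocal.etale (fun _ _ _ hc => hc)
      GrothLib.AlgSp.EtLocal.lqf (GrothLib.AlgSp.srcDescends_etale GrothLib.AlgSp.etaleSourceDescends_lqf)
      hC Y.property (fun i => (X (e i)).property) hl hs fun i =>
      GrothLib.AlgSp.EtLocal.locP_of_repWith GrothLib.AlgSp.EtLocal.lqf Y.property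
        (GrothLib.AlgSp.repWith_mono (hfin i) fun A B g (hg : IsFinite g) => show LocallyQuasiFinite g from inferInstance)
  have hp : AlgSp.IsProperMor d := GrothLib.AlgSp.isProperMor_of_family hC Y.property (fun i => (X (e i)).property)
    c'.inj hs (fun i => GrothLib.AlgSp.isUnivClosedMor_of_closedImmersion
      (GrothLib.AlgSp.repWith_mono (hi i) fun _ _ _ hf => hf.2)) hft
    fun i => GrothLib.AlgSp.isProperMor_of_finite Y.property (hfin i)
  exact GrothLib.AlgSp.isFiniteMor_iff.2 (GrothLib.AlgSp.repWith_isFinite_of_proper_lqf hC Y.property hp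
    fun A B a b f ha hb w => ⟨hfq a b f ha hb w, hft a b f ha hb w⟩)

end Groth.Agent.S10325
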