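import Groth.Agent.Lib.AlgSp.EtaleLocallyProps
import Groth.Statements.S10326
-- import your own Groth.Agent.* helpers here

set_option autoImplicit false
universe u
open CategoryTheory CategoryTheory.Limits AlgebraicGeometry
open AlgSp

namespace Groth.Agent.S10326

/-- Every scheme etale over a locally Noetherian algebraic space has quasi-compact opens with finitely
many irreducible components. -/
theorem result {S : Scheme.{u}} (X : AlgSp.Space S)
    (hX : AlgSp.IsLocNoethSp X.obj) (U : Over S) (a : (AlgSp.yon S).obj U ⟶ X.obj) (ha : AlgSp.RepWith @Etale a)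
    (W : U.left.Opens) (hW : IsCompact (W : Set ↥U.left)) : (irreducibleComponents ↥W).Finite := by
  have : IsLocallyNoetherian U.left := GrothLib.AlgSp.etaleLocally_chart
    (Q := fun U => IsLocallyNoetherian U) (fun _ _ k => GrothLib.AlgSp.isLocallyNoetherian_of_etale k)
    (fun _ _ k => GrothLib.AlgSp.isLocallyNoetherian_desc k) hX a ha
  have : IsLocallyNoetherian W.toScheme := isLocallyNoetherian_of_isOpenImmersion W.ι
  have : CompactSpace ↥W.toScheme := isCompact_iff_compactSpace.1 hW
  have : AlgebraicGeometry.IsNoetherian W.toScheme := AlgebraicGeometry.IsNoetherian.mk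
  exact TopologicalSpace.NoetherianSpace.finite_irreducibleComponents (α := ↥W.toScheme)

end Groth.Agent.S10326
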