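import Groth.Statements.S10328
import Groth.Agent.Lib.AlgSp.RelDimSpace
-- import your own Groth.Agent.* helpers here

set_option autoImplicit false
universe u
open CategoryTheory CategoryTheory.Limits AlgebraicGeometry
open AlgSp

namespace Groth.Agent.S10328

/-- The relative dimension of a composite at a point is at most the sum of the relative dimensions, with
equality when the first morphism is flat at the point. (The published part (2) allows more generally
flatness of a fibre of X -> Y over a field point of Z; only the case f flat at x is stated.) -/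
theorem result {S : Scheme.{u}} {X Y Z : AlgSp.Space S} (f : X ⟶ Y) (g : Y ⟶ Z)
    (hf : AlgSp.LocP @LocallyOfFiniteType f.hom) (hg : AlgSp.LocP @LocallyOfFiniteType g.hom)
    (x : AlgSp.Points X.obj) (a b : WithBot ℕ∞)
    (ha : AlgSp.HasAtMor (fun _ _ h u => FlatMor.fibreDimAt h u = a) f.hom x)
    (hb : AlgSp.HasAtMor (fun _ _ h u => FlatMor.fibreDimAt h u = b) g.hom (AlgSp.Points.map f.hom x)) :
    AlgSp.HasAtMor (fun _ _ h u => FlatMor.fibreDimAt h u ≤ a + b) (f ≫ g).hom x ∧
    (AlgSp.IsFlatAtMor f.hom x → AlgSp.HasAtMor (fun _ _ h u => FlatMor.fibreDimAt h u = a + b) (f ≫ g).hom x) := by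
  obtain ⟨V₀, q, qe, qs⟩ := Z.property.atlas
  obtain ⟨V, b', k, be, hk, bs⟩ := GrothLib.AlgSp.exists_chart_over Y.property Z.property g.hom q qe
  obtain ⟨U, a', h, ae, hh, as⟩ := GrothLib.AlgSp.exists_chart_over X.property Y.property f.hom b' be
  obtain ⟨u, rfl⟩ := GrothLib.AlgSp.surjective_ofPt_of_repWith (as (bs qs)) x
  haveI : LocallyOfFiniteType h.left := hf a' b' h ae be hh
  haveI : LocallyOfFiniteType k.left := hg b' q k be qe hk
  have hc : a' ≫ (f ≫ g).hom = (AlgSp.yon S).map (h ≫ k) ≫ q := by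
    rw [ObjectProperty.FullSubcategory.comp_hom, ← Category.assoc, hh, Category.assoc, hk, Functor.map_comp,
      Category.assoc]
  have hA := (GrothLib.AlgSp.hasAtMor_fibreDim_iff X.property Y.property ae be hh u (fun e => e = a)).1 ha
  rw [AlgSp.Points.map_ofPt, hh, GrothLib.AlgSp.ofPt_map_comp] at hb
  have hB := (GrothLib.AlgSp.hasAtMor_fibreDim_iff Y.property Z.property be qe hk _ (fun e => e = b)).1 hb
  have key := GrothLib.Equidim6.fibreDimAt_comp_le h.left k.left u
  rw [hA, hB] at key
  refine ⟨?_, fun hfl => ?_⟩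
  · exact ⟨U, V₀, a', q, h ≫ k, u, ae, qe, hc, rfl, key.1⟩
  · exact ⟨U, V₀, a', q, h ≫ k, u, ae, qe, hc, rfl,
      key.2 ((GrothLib.AlgSp.isFlatAtMor_iff_chart ae be hh u).1 hfl)⟩

end Groth.Agent.S10328
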