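import Groth.Agent.S10313
import Groth.Agent.Lib.AlgSp.FibreDimBC
import Groth.Agent.Lib.AlgSp.LqfPoint
import Groth.Statements.S10329
-- import your own Groth.Agent.* helpers here

set_option autoImplicit false
universe u
open CategoryTheory CategoryTheory.Limits AlgebraicGeometry
open AlgSp

namespace Groth.Agent.S10329

/-- If the fibre of a morphism locally of finite type has dimension 0 at a point, then the morphism is
locally quasi-finite on some open subspace containing the image of that point. -/
theorem result {S : Scheme.{u}} {X Y F : AlgSp.Space S} (f : X ⟶ Y)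
    (hf : AlgSp.LocP @LocallyOfFiniteType f.hom) (k : Type u) [Field k] (str : Spec (.of k) ⟶ S)
    (y : (AlgSp.yon S).obj (Over.mk str) ⟶ Y.obj) (p : F ⟶ X) (q : F.obj ⟶ (AlgSp.yon S).obj (Over.mk str))
    (sq : IsPullback p.hom q f.hom y) (z : AlgSp.Points F.obj)
    (hz : AlgSp.HasAt (fun U u => FlatMor.localDim ↥U u = 0) F.obj z) :
    ∃ (X' : AlgSp.Space S) (j : X' ⟶ X), AlgSp.RepWith @IsOpenImmersion j.hom ∧
      AlgSp.Points.map p.hom z ∈ Set.range (AlgSp.Points.map j.hom) ∧
      AlgSp.LocP (@LocallyQuasiFinite ⊓ @LocallyOfFiniteType) (j ≫ f).hom := by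
  obtain ⟨X', j, hj, hl, hout, -⟩ := Groth.Agent.S10313.result f hf
  refine ⟨X', j, hj, ?_, hl⟩
  by_contra hx
  obtain ⟨U₁, V₁, a₁, b₁, h₁, u₁, ha₁, hb₁, c₁, hu₁, h1⟩ := hout _ hx
  let Z : AlgSp.Space S := ⟨(yon S).obj (Over.mk str), IsAlgSpace.yon_obj _⟩
  obtain ⟨U, V, U', V', a, b, a', b', h, h', p', q', u', ha, hb, ha', hb', c, c', cp, sU, hu'⟩ :=
    GrothLib.AlgSp.exists_bc_charts X.property Y.property Z.property sq z
  have hlft : LocallyOfFiniteType h.left := hf a b h ha hb c
  subst hu'
  have hlq := GrothLib.AlgSp.EtLocal.lft.locP_of_isPullback X.property Y.property Z.property sq hf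
  -- compare with the chart over the field
  let α : U' ⟶ Over.mk str := (yon S).preimage (a' ≫ q)
  have hα : a' ≫ q = (yon S).map α ≫ 𝟙 _ := by rw [Category.comp_id, Functor.map_preimage]
  have : LocallyOfFiniteType α.left := hlq a' (𝟙 _) α ha' (GrothLib.AlgSp.repWith_iso _) hα
  have hz' : FlatMor.localDim ↥U'.left u' = 0 :=
    (GrothLib.AlgSp.hasAt_iff (Q := fun U u => FlatMor.localDim ↥U u = 0) F.property
      (fun A B k hk w => by rw [GrothLib.EtFibre.localDim_eq_of_etale k w]) ha' u').1 hz
  have hfd : FlatMor.fibreDimAt α.left u' = FlatMor.localDim ↥U'.left u' := by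
    have hsub : Subsingleton ↥(Spec (CommRingCat.of k)) := inferInstanceAs (Subsingleton (PrimeSpectrum k))
    have hs : Function.Surjective (α.left.fiberι (α.left u')) := by
      intro t
      have : t ∈ Set.range (α.left.fiberι (α.left u')) := by
        rw [Scheme.Hom.range_fiberι]
        exact @Subsingleton.elim _ hsub _ _
      exact this
    have hop : IsOpenMap (α.left.fiberι (α.left u')) :=
      ((α.left.fiberι (α.left u')).isEmbedding.toHomeomorphOfSurjective hs).isOpenMap
    have e := GrothLib.EtFibre.localDim_eq_of_isOpenMap (α.left.fiberι (α.left u')).continuous hop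
      ((α.left.fiberι (α.left u')).isEmbedding.toHomeomorphOfSurjective hs).isOpenEmbedding.generalizingMap
      (fun s t _ e => (α.left.fiberι (α.left u')).isEmbedding.injective e) (α.left.asFiber u')
    rw [Scheme.Hom.fiberι_asFiber] at e
    exact e.symm
  have h0 : FlatMor.fibreDimAt h.left (p'.left u') ≤ 0 := by
    rw [← GrothLib.AlgSp.fibreDimAt_of_isPullback sU u']
    have := (GrothLib.AlgSp.hasAtMor_fibreDim_iff F.property Z.property ha' hb' c' u' (fun z => z ≤ 0)).1
      ⟨U', Over.mk str, a', 𝟙 _, α, u', ha', GrothLib.AlgSp.repWith_iso _, hα, rfl, (hfd.trans hz').le⟩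
    exact this
  have h0' := (GrothLib.AlgSp.hasAtMor_fibreDim_iff X.property Y.property ha₁ hb₁ c₁ u₁ (fun z => z ≤ 0)).1
    (by rw [hu₁, Points.map_ofPt, cp, GrothLib.AlgSp.ofPt_map_comp]; exact ⟨U, V, a, b, h, p'.left u', ha, hb, c, rfl, h0⟩)
  exact absurd (le_trans h1 h0') (by decide)

end Groth.Agent.S10329
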