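import Groth.Statements.S10330
import Groth.Agent.Lib.AlgSp.QCohLocFree
import Groth.Agent.Lib.AlgSp.DegStrata
-- import your own Groth.Agent.* helpers here

set_option autoImplicit false
universe u
open CategoryTheory CategoryTheory.Limits AlgebraicGeometry Opposite
open AlgSp GrothLib.AlgSp GrothLib.AlgSp.QCohEt
set_option backward.isDefEq.respectTransparency false

namespace Groth.Agent.S10330

theorem isQuasicoherent_unit {S : Scheme.{u}} (X : AlgSp.Space S) : (AlgSp.unitModEt X.obj).IsQuasicoherent :=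
  isQuasicoherent_of_good _ fun E hE => by
    intro V hV
    let e := TensorProduct.rid (Ob (OEt X.obj) E) (Ov (OEt X.obj) V)
    have h : ∀ t : TensorProduct (Ob (OEt X.obj) E) (Ov (OEt X.obj) V) (Ob (OEt X.obj) E),
        theta (O := OEt X.obj) (M := AlgSp.unitModEt X.obj) LinearMap.id V t = (show Ob (OEt X.obj) V.left from e t) := by
      intro t
      induction t using TensorProduct.induction_on with
      | zero => simp only [map_zero]
      | add a b ha hb => simp only [map_add, ha, hb]
      | tmul b a =>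
        rw [theta_tmul, TensorProduct.rid_tmul, Algebra.smul_def, LinearMap.id_apply]
        exact mul_comm (show Ob (OEt X.obj) V.left from b) _
    exact (funext h : _ = fun t => (show Ob (OEt X.obj) V.left from e t)) ▸ e.bijective

variable {S : Scheme.{u}} {X Y : AlgSp.Space S} {f : X ⟶ Y} (hf : AlgSp.Representable f.hom)

theorem sec_finite (h : AlgSp.IsFinLocFreeMor f.hom) (E : AlgSp.EtOver Y.obj) (hE : IsAffine E.obj.left.left) :
    Module.Finite (Ob (OEt Y.obj) E) (Sec (O := OEt Y.obj) ((AlgSp.pushModEt hf).obj (AlgSp.unitModEt X.obj)) E) ∧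
      Module.Projective (Ob (OEt Y.obj) E)
        (Sec (O := OEt Y.obj) ((AlgSp.pushModEt hf).obj (AlgSp.unitModEt X.obj)) E) := by
  haveI := hE
  obtain ⟨h1, h2, h3⟩ := h.2 _ _ _ (AlgSp.EtOver.isPullback_bcObj hf E)
  have hfinm : AlgSp.IsFiniteMor f.hom := isFiniteMor_iff.2 (repWith_mono h fun _ _ g hg => hg.1)
  haveI hbc := isAffine_bcObj hf (isAffineMor_of_isFiniteMor hfinm) E
  let A := Ob (OEt Y.obj) E
  let B := Ob (OEt X.obj) (AlgSp.EtOver.bcObj hf E)
  letI : Algebra A B := (bcF hf E).toAlgebra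
  haveI : Module.Finite A B := finite_bcF hf hfinm E hE
  have hflat : (bcF hf E).Flat := ulift_flat (HasRingHomProperty.appTop (P := @Flat) (AlgSp.EtOver.bcπ hf E).left h2)
  haveI : Module.Flat A B := RingHom.flat_algebraMap_iff.1 hflat
  have hfp : (bcF hf E).FinitePresentation :=
    ((RingHom.FinitePresentation.of_bijective (f := (ULift.ringEquiv.symm : Γ((AlgSp.EtOver.bcObj hf E).obj.left.left, ⊤) ≃+*
        ULift.{u + 1} Γ((AlgSp.EtOver.bcObj hf E).obj.left.left, ⊤)).toRingHom)
        (ULift.ringEquiv.symm : Γ((AlgSp.EtOver.bcObj hf E).obj.left.left, ⊤) ≃+*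
        ULift.{u + 1} Γ((AlgSp.EtOver.bcObj hf E).obj.left.left, ⊤)).bijective).comp
        (HasRingHomProperty.appTop (P := @LocallyOfFinitePresentation) (AlgSp.EtOver.bcπ hf E).left h3)).comp
      (RingHom.FinitePresentation.of_bijective (f := (ULift.ringEquiv : ULift.{u + 1} Γ(E.obj.left.left, ⊤) ≃+* _).toRingHom)
        (ULift.ringEquiv : ULift.{u + 1} Γ(E.obj.left.left, ⊤) ≃+* _).bijective)
  haveI : Algebra.FinitePresentation A B := hfp
  haveI : Module.FinitePresentation A B := Module.FinitePresentation.of_finite_of_finitePresentation A B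
  have hP : Module.Projective A B := Module.Flat.projective_of_finitePresentation
  exact ⟨(inferInstance : Module.Finite A B), hP⟩

theorem sec_finite_of_data (haff : AlgSp.IsAffineMor f.hom)
    (q : SheafOfModules.LocalGeneratorsData.{u + 1} ((AlgSp.pushModEt hf).obj (AlgSp.unitModEt X.obj)))
    (hq : q.IsLocallyFreeData) (hqf : q.IsFiniteType) (E : AlgSp.EtOver Y.obj) (hE : IsAffine E.obj.left.left) :
    Module.Finite (Ob (OEt Y.obj) E) (Sec (O := OEt Y.obj) ((AlgSp.pushModEt hf).obj (AlgSp.unitModEt X.obj)) E) ∧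
      Module.Projective (Ob (OEt Y.obj) E)
        (Sec (O := OEt Y.obj) ((AlgSp.pushModEt hf).obj (AlgSp.unitModEt X.obj)) E) := by
  haveI := isQuasicoherent_unit X
  let M := (AlgSp.pushModEt hf).obj (AlgSp.unitModEt X.obj)
  haveI : M.IsQuasicoherent := isQuasicoherent_push hf haff _
  haveI : M.IsFiniteType := SheafOfModules.IsFiniteType.mk (M := M) ⟨q, hqf⟩
  refine ⟨finite_sec_of_isFiniteType M hE, proj_of_cover (affEt Y.obj) hE (good_of_isQuasicoherent M hE)
    (q.coversTop E) fun Z z hZ hz => ?_⟩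
  obtain ⟨i, ⟨p⟩⟩ := (Sieve.mem_ofObjects_iff ..).1 hz
  haveI := hq.isIso i
  have hfree : Module.Free (Ob (OEt Y.obj) Z) (Sec (O := OEt Y.obj) M Z) :=
    free_of_generators (affSlice (affEt Y.obj) (q.X i)) (q.generators i) (E := Over.mk p) hZ
  exact @Module.Projective.of_free _ _ _ _ _ hfree

theorem isFinLocFreeMor_of (haff : AlgSp.IsAffineMor f.hom)
    (h : ∀ E : AlgSp.EtOver Y.obj, IsAffine E.obj.left.left →
      Module.Finite (Ob (OEt Y.obj) E) (Sec (O := OEt Y.obj) ((AlgSp.pushModEt hf).obj (AlgSp.unitModEt X.obj)) E) ∧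
        Module.Projective (Ob (OEt Y.obj) E)
          (Sec (O := OEt Y.obj) ((AlgSp.pushModEt hf).obj (AlgSp.unitModEt X.obj)) E)) :
    AlgSp.IsFinLocFreeMor f.hom := by
  have hbc : ∀ E : AlgSp.EtOver Y.obj, IsAffine E.obj.left.left →
      IsFinite (AlgSp.EtOver.bcπ hf E).left ∧ Flat (AlgSp.EtOver.bcπ hf E).left ∧
        LocallyOfFinitePresentation (AlgSp.EtOver.bcπ hf E).left := by
    intro E hE
    haveI := hE
    haveI hB := isAffine_bcObj hf haff E
    let A := Ob (OEt Y.obj) E
    let B := Ob (OEt X.obj) (AlgSp.EtOver.bcObj hf E)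
    letI : Algebra A B := (bcF hf E).toAlgebra
    haveI : Module.Finite A B := (h E hE).1
    haveI : Module.Projective A B := (h E hE).2
    haveI : Module.FinitePresentation A B := Module.finitePresentation_of_projective A B
    have hfl : (bcF hf E).Flat := RingHom.flat_algebraMap_iff.2 (inferInstance : Module.Flat A B)
    have hfi : (bcF hf E).Finite := (inferInstance : Module.Finite A B)
    have hfp : (bcF hf E).FinitePresentation := (inferInstance : Algebra.FinitePresentation A B)
    let e₁ := (ULift.ringEquiv : ULift.{u + 1} Γ(E.obj.left.left, ⊤) ≃+* _)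
    let e₂ := (ULift.ringEquiv : ULift.{u + 1} Γ((AlgSp.EtOver.bcObj hf E).obj.left.left, ⊤) ≃+* _)
    let π := (AlgSp.EtOver.bcπ hf E).left
    refine ⟨(HasAffineProperty.iff_of_isAffine (P := @IsFinite)).2 ⟨hB, ?_⟩,
      (HasRingHomProperty.iff_of_isAffine (P := @Flat)).2 ?_,
      (HasRingHomProperty.iff_of_isAffine (P := @LocallyOfFinitePresentation)).2 ?_⟩
    · exact ((RingHom.Finite.of_surjective e₂.toRingHom e₂.surjective).comp hfi).comp
        (RingHom.Finite.of_surjective e₁.symm.toRingHom e₁.symm.surjective)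
    · exact ((RingHom.Flat.of_bijective (f := e₁.symm.toRingHom) e₁.symm.bijective).comp hfl).comp
        (RingHom.Flat.of_bijective (f := e₂.toRingHom) e₂.bijective)
    · exact ((RingHom.FinitePresentation.of_bijective (f := e₂.toRingHom) e₂.bijective).comp hfp).comp
        (RingHom.FinitePresentation.of_bijective (f := e₁.symm.toRingHom) e₁.symm.bijective)
  obtain ⟨U, u, ue, us⟩ := Y.property.atlas
  haveI := chart_isLocallySurjective ue us
  let EU := AlgSp.EtOver.mk u ue
  have hD : FppfDescends.{u} (AlgSp.finLocFree.{u}) := fun A B C D a b b' a' sq h1 h2 h3 h4 =>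
    ⟨fppfDescends_isFinite a b b' a' sq h1 h2 h3 h4.1, fppfDescends_flat a b b' a' sq h1 h2 h3 h4.2.1,
      fppfDescends_lfp a b b' a' sq h1 h2 h3 h4.2.2⟩
  refine repWith_of_base hf u (AlgSp.EtOver.isPullback_bcObj hf EU) hD ((AlgSp.repWith_yon_map_iff _ _).2 ?_)
  let π := (AlgSp.EtOver.bcπ hf EU).left
  have hres : ∀ O : U.left.Opens, IsAffineOpen O →
      IsFinite (π ∣_ O) ∧ Flat (π ∣_ O) ∧ LocallyOfFinitePresentation (π ∣_ O) := by
    intro O hO
    let Z := opensObj EU O
    obtain ⟨g1, g2, g3⟩ := hbc Z hO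
    have sqA := (AlgSp.EtOver.isPullback_bcMap_left hf (opensInc EU O))
    have sqB := (isPullback_morphismRestrict π O).flip
    let e := sqA.isoIsPullback _ _ sqB
    have he : π ∣_ O = e.inv ≫ (AlgSp.EtOver.bcπ hf Z).left := (sqA.isoIsPullback_inv_snd _ _ sqB).symm
    refine ⟨?_, ?_, ?_⟩ <;> rw [he] <;> infer_instance
  let O : ↥U.left → U.left.Opens := fun x => (exists_isAffineOpen_mem_and_subset (x := x) (U := (⊤ : U.left.Opens)) trivial).choose
  have hO : ∀ x, IsAffineOpen (O x) ∧ x ∈ O x ∧ _ := fun x =>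
    (exists_isAffineOpen_mem_and_subset (x := x) (U := (⊤ : U.left.Opens)) trivial).choose_spec
  have htop : iSup O = ⊤ := TopologicalSpace.Opens.ext (Set.eq_univ_of_forall fun x =>
    TopologicalSpace.Opens.mem_iSup.2 ⟨x, (hO x).2.1⟩)
  exact ⟨(IsZariskiLocalAtTarget.iff_of_iSup_eq_top (P := @IsFinite) O htop).2 fun x => (hres _ (hO x).1).1,
    (IsZariskiLocalAtTarget.iff_of_iSup_eq_top (P := @Flat) O htop).2 fun x => (hres _ (hO x).1).2.1,
    (IsZariskiLocalAtTarget.iff_of_iSup_eq_top (P := @LocallyOfFinitePresentation) O htop).2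
      fun x => (hres _ (hO x).1).2.2⟩


/-- A morphism f : X -> Y of algebraic spaces over S that is representable by schemes is finite locally
free (all base changes to schemes are finite, flat and locally of finite presentation) if and only
if f is affine and the direct image f_*O_X on the small etale site of Y is a finite locally free
O_Y-module (locally on the site it is free on finitely many generators). -/
theorem result {S : Scheme.{u}} {X Y : AlgSp.Space S} (f : X ⟶ Y)
    (hf : AlgSp.Representable f.hom) :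
    AlgSp.IsFinLocFreeMor f.hom ↔
      AlgSp.IsAffineMor f.hom ∧
        ∃ q : SheafOfModules.LocalGeneratorsData.{u + 1} ((AlgSp.pushModEt hf).obj (AlgSp.unitModEt X.obj)),
          q.IsLocallyFreeData ∧ q.IsFiniteType := by
  constructor
  · intro h
    have hfinm : AlgSp.IsFiniteMor f.hom := isFiniteMor_iff.2 (repWith_mono h fun _ _ g hg => hg.1)
    have haff := isAffineMor_of_isFiniteMor hfinm
    haveI := isQuasicoherent_unit X
    refine ⟨haff, exists_locallyFree_data _
      (fun E hE => good_push hf haff (AlgSp.unitModEt X.obj) hE) (fun E hE => (sec_finite hf h E hE).1)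
      (fun E hE => (sec_finite hf h E hE).2)⟩
  · rintro ⟨haff, q, hq, hqf⟩
    exact isFinLocFreeMor_of hf haff fun E hE => sec_finite_of_data hf haff q hq hqf E hE

end Groth.Agent.S10330
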