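import Groth.Statements.S10331
import Groth.Agent.Lib.AlgSp.Quotient
import Groth.Agent.Lib.AlgSp.UnivClosed
import Groth.Agent.Lib.AlgSp.ThickPres
import Groth.Agent.Lib.AlgSp.LimitDesc
import Groth.Agent.Lib.AlgSp.FpqcAffine
-- import your own Groth.Agent.* helpers here

set_option autoImplicit false
universe u
open CategoryTheory CategoryTheory.Limits AlgebraicGeometry Opposite
open AlgSp GrothLib.AlgSp
set_option backward.isDefEq.respectTransparency false

namespace Groth.Agent.S10331

/-- Let f : X -> h_V be a quasi-compact, quasi-separated and universally closed morphism from an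
algebraic space over S to an affine scheme V over S. Then every global section of O_X (a compatible
family of functions on the schemes etale over X) satisfies a monic polynomial with coefficients in
Γ(V, O_V). (The published statement has an arbitrary algebraic space as target and says that f_*O_X
is integral over O_Y, which is this assertion for the base change of f to every affine scheme etale
over the target; the reformulation through the relative spectrum of f_*O_X is not included.) -/
theorem result {S : Scheme.{u}} (V : Over S) [IsAffine V.left] (X : AlgSp.Space S)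
    (f : X ⟶ (AlgSp.ofScheme S).obj V) (hqc : AlgSp.IsQuasiCompactMor f.hom)
    (hqs : AlgSp.IsQuasiSeparatedMor f.hom) (huc : AlgSp.IsUnivClosedMor f.hom)
    (s : ↥(AlgSp.gsectEt (AlgSp.OEt X.obj) : CommRingCat.{u + 1})) :
    ∃ p : Polynomial Γ(V.left, ⊤), p.Monic ∧
      ∀ E : AlgSp.EtOver X.obj,
        Polynomial.eval₂ ((AlgSp.yon S).preimage (E.obj.hom ≫ f.hom)).left.appTop.hom
          ((limit.π (AlgSp.OEt X.obj).obj (op E)) s).down p = 0 := by
  classical
  let sV : Spec Γ(V.left, ⊤) ⟶ S := V.left.isoSpec.inv ≫ V.hom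
  let B : CommRingCat.{u} := CommRingCat.of (Polynomial Γ(V.left, ⊤))
  let cB : Γ(V.left, ⊤) ⟶ B := CommRingCat.ofHom Polynomial.C
  let sB : Spec B ⟶ S := Spec.map cB ≫ sV
  let A : Over S := Over.mk sB
  let π : A ⟶ V := Over.homMk (Spec.map cB ≫ V.left.isoSpec.inv) (Category.assoc _ _ _)
  let g : ∀ E : EtOver X.obj, E.obj.left ⟶ V := fun E => (yon S).preimage (E.obj.hom ≫ f.hom)
  have hg : ∀ {E E' : EtOver X.obj} (m : E' ⟶ E), m.hom.left ≫ g E = g E' := fun {E E'} m => (yon S).map_injective (by
    rw [Functor.map_comp, Functor.map_preimage, Functor.map_preimage, ← Category.assoc, EtOver.w m])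
  let el : ∀ E : EtOver X.obj, Γ(E.obj.left.left, ⊤) := fun E => ((limit.π (OEt X.obj).obj (Opposite.op E)) s).down
  have hel : ∀ {E E' : EtOver X.obj} (m : E' ⟶ E), m.hom.left.left.appTop.hom (el E) = el E' := fun {E E'} m =>
    congrArg (fun z : gsectEt (OEt X.obj) ⟶ (OEt X.obj).obj.obj (Opposite.op E') => ((CommRingCat.Hom.hom z) s).down)
      (limit.w (OEt X.obj).obj m.op)
  let ev : ∀ E : EtOver X.obj, B ⟶ Γ(E.obj.left.left, ⊤) := fun E =>
    CommRingCat.ofHom (Polynomial.eval₂RingHom (g E).left.appTop.hom (el E))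
  have hev : ∀ {E E' : EtOver X.obj} (m : E' ⟶ E), ev E ≫ m.hom.left.left.appTop = ev E' := fun {E E'} m => by
    refine CommRingCat.hom_ext (Polynomial.ringHom_ext (fun r => ?_) ?_)
    · show m.hom.left.left.appTop.hom (Polynomial.eval₂ (g E).left.appTop.hom (el E) (Polynomial.C r)) =
        Polynomial.eval₂ (g E').left.appTop.hom (el E') (Polynomial.C r)
      rw [Polynomial.eval₂_C, Polynomial.eval₂_C, ← hg m]
      rfl
    · show m.hom.left.left.appTop.hom (Polynomial.eval₂ (g E).left.appTop.hom (el E) Polynomial.X) =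
        Polynomial.eval₂ (g E').left.appTop.hom (el E') Polynomial.X
      rw [Polynomial.eval₂_X, Polynomial.eval₂_X, hel]
  have hevC : ∀ E, E.obj.left.left.toSpecΓ ≫ Spec.map (ev E) ≫ Spec.map cB ≫ V.left.isoSpec.inv = (g E).left :=
    fun E => by
      have e : cB ≫ ev E = (g E).left.appTop := CommRingCat.hom_ext (RingHom.ext fun r => Polynomial.eval₂_C _ _)
      rw [← Spec.map_comp_assoc, e, ← reassoc_of% (Scheme.toSpecΓ_naturality (g E).left)]
      exact (congrArg (_ ≫ ·) V.left.isoSpec.hom_inv_id).trans (Category.comp_id _)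
  let h : ∀ E : EtOver X.obj, E.obj.left ⟶ A := fun E => Over.homMk (E.obj.left.left.toSpecΓ ≫ Spec.map (ev E)) (by
    refine Eq.trans ?_ (Over.w (g E))
    rw [← hevC E]
    simp only [Category.assoc]
    rfl)
  have hπ : ∀ E, h E ≫ π = g E := fun E => Over.OverMorphism.ext ((Category.assoc _ _ _).trans (hevC E))
  have hnat : ∀ {E E' : EtOver X.obj} (m : E' ⟶ E), m.hom.left ≫ h E = h E' := fun {E E'} m => Over.OverMorphism.ext (by
    change m.hom.left.left ≫ E.obj.left.left.toSpecΓ ≫ Spec.map (ev E) = E'.obj.left.left.toSpecΓ ≫ Spec.map (ev E')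
    rw [Scheme.toSpecΓ_naturality_assoc, ← Spec.map_comp, hev])
  have hXqc : IsQuasiCompactSp X.obj := hqc ((ofScheme S).obj V).property (isQuasiCompactSp_yon V) (𝟙 _) (𝟙 _) f.hom
    (IsPullback.of_id_fst)
  obtain ⟨U, a, hU, ha, has⟩ := exists_affine_atlas_of_qc hXqc
  haveI : Sheaf.IsLocallySurjective a := chart_isLocallySurjective ha has
  haveI : Epi a := (Sheaf.isLocallySurjective_iff_epi a).1 inferInstance
  haveI := IsRegularEpiCategory.regularEpiOfEpi a
  obtain ⟨R, t, t', sq⟩ := exists_isPullback_yon X.property.diag a a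
  let EU : EtOver X.obj := EtOver.mk a ha
  let ER : EtOver X.obj := EtOver.mk ((yon S).map t ≫ a) (repWith_comp (repWith_of_isPullback sq.flip ha) ha)
  obtain ⟨γ, hγ⟩ := IsRegularEpi.exists_of_isKernelPair a sq ((yon S).map (h EU)) (by
    rw [← Functor.map_comp, ← Functor.map_comp]
    exact congrArg _ ((hnat (EtOver.homMk (E := ER) (E' := EU) t rfl)).trans
      (hnat (EtOver.homMk (E := ER) (E' := EU) t' sq.w.symm)).symm))
  have hγπ : γ ≫ (yon S).map π = f.hom := by
    rw [← cancel_epi a, ← Category.assoc, hγ, ← Functor.map_comp, hπ]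
    exact (yon S).map_preimage _
  have hA : IsAlgSpace ((yon S).obj A) := ((ofScheme S).obj A).property
  have hV : IsAlgSpace ((yon S).obj V) := ((ofScheme S).obj V).property
  have hπsep : IsSeparatedMor ((yon S).map π) := by
    haveI : IsAffine A.left := inferInstanceAs (IsAffine (Spec B))
    haveI : IsAffineHom π.left := isAffineHom_of_isAffine _
    exact (isSeparatedMor_yon_map_iff π).2 inferInstance
  have hγuc : IsUnivClosedMor γ := univClosed_of_comp_separated X.property hA hV (by rw [hγπ]; exact huc) hπsep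
  let C : Set (PrimeSpectrum B) := Points.schemeHomeo A ⁻¹' Set.range (Points.map γ)
  have hC : IsClosed C := (isClosed_range_of_isUnivClosedMor hA hγuc).preimage (Points.schemeHomeo A).continuous
  let I : Ideal B := PrimeSpectrum.vanishingIdeal C
  have hr : Set.range (PrimeSpectrum.comap (Ideal.Quotient.mk I)) = C := by
    rw [range_comap_of_surjective _ _ Ideal.Quotient.mk_surjective, Ideal.mk_ker,
      PrimeSpectrum.zeroLocus_vanishingIdeal_eq_closure, hC.closure_eq]
  -- the closed image is universally closed over the base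
  let ιZ := quotι I sB
  have sqP := IsPullback.of_hasPullback γ ((yon S).map ιZ)
  have hsurjP : IsSurjectiveMor (pullback.snd γ ((yon S).map ιZ)) := fun z => by
    obtain ⟨z₀, rfl⟩ := (Points.schemeHomeo _).surjective z
    have : ιZ.left z₀ ∈ C := hr ▸ Set.mem_range_self z₀
    obtain ⟨x, hx⟩ := this
    obtain ⟨q, -, hq⟩ := exists_of_isPullback sqP (x := x) (y := Points.schemeHomeo _ z₀)
      (by rw [hx, Points.map_yon_map_apply])
    exact ⟨q, hq⟩
  haveI hZc := isClosedImmersion_quotι I sB
  have hPuc : IsUnivClosedMor (pullback.snd γ ((yon S).map ιZ) ≫ (yon S).map (ιZ ≫ π)) := by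
    have e : pullback.snd γ ((yon S).map ιZ) ≫ (yon S).map (ιZ ≫ π) = pullback.fst γ ((yon S).map ιZ) ≫ f.hom :=
      (congrArg (_ ≫ ·) ((yon S).map_comp ιZ π)).trans ((Category.assoc _ _ _).symm.trans
        ((congrArg (· ≫ (yon S).map π) sqP.w.symm).trans ((Category.assoc _ _ _).trans (congrArg (_ ≫ ·) hγπ))))
    rw [e]
    refine isUnivClosedMor_comp X.property hV (isUnivClosedMor_of_repWith ?_) huc
    exact repWith_mono (repWith_of_isPullback sqP.flip ((repWith_yon_map_iff _ ιZ).2 hZc))
      fun _ _ k (hk : IsClosedImmersion k) => (inferInstance : UniversallyClosed k)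
  haveI hZuc : UniversallyClosed (ιZ ≫ π).left := by
    refine (repWith_yon_map_iff @UniversallyClosed _).1 (repWith_universallyClosed_of_isUnivClosedMor
      (representable_yon_map _) (isUnivClosedMor_of_surjective_comp hsurjP hPuc))
  let φ : Γ(V.left, ⊤) ⟶ quotRing I := cB ≫ quotMap I
  haveI : UniversallyClosed (Spec.map φ) := by
    have e : (ιZ ≫ π).left ≫ V.left.isoSpec.hom = Spec.map φ := by
      change (Spec.map (quotMap I) ≫ Spec.map cB ≫ V.left.isoSpec.inv) ≫ V.left.isoSpec.hom = _
      simp [φ]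
    rw [← e]
    infer_instance
  have hint : φ.hom.IsIntegral := IsIntegralHom.SpecMap_iff.1
    (IsIntegralHom.iff_universallyClosed_and_isAffineHom.2 ⟨inferInstance, inferInstance⟩)
  obtain ⟨p, hp, hp0⟩ := hint (Ideal.Quotient.mk I Polynomial.X)
  have hpI : (p : B) ∈ I := by
    rw [← Ideal.Quotient.eq_zero_iff_mem]
    refine Eq.trans ?_ hp0
    conv_lhs => rw [← Polynomial.eval₂_C_X (p := p)]
    exact Polynomial.hom_eval₂ p Polynomial.C (Ideal.Quotient.mk I) Polynomial.X
  haveI hUa : IsAffine EU.obj.left.left := hU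
  have hnil : IsNilpotent ((ev EU).hom p) := nilpotent_iff_mem_prime.2 fun q hq => by
    let z : ↥EU.obj.left.left := EU.obj.left.left.isoSpec.inv ⟨q, hq⟩
    have hz : (h EU).left z = PrimeSpectrum.comap (ev EU).hom ⟨q, hq⟩ := by
      change (Spec.map (ev EU)) (EU.obj.left.left.toSpecΓ z) = _
      rw [show EU.obj.left.left.toSpecΓ z = (⟨q, hq⟩ : PrimeSpectrum _) from
        congr($(EU.obj.left.left.isoSpec.inv_hom_id) ⟨q, hq⟩)]
      rfl
    have hzC : (h EU).left z ∈ C := ⟨Points.map a (Points.schemeHomeo _ z), by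
      rw [← Points.map_comp, hγ, Points.map_yon_map_apply]; rfl⟩
    have hpz := (PrimeSpectrum.mem_vanishingIdeal _ _).1 hpI _ hzC
    rw [hz] at hpz
    exact hpz
  obtain ⟨N, hN⟩ := hnil
  refine ⟨p ^ N, hp.pow N, fun E => ?_⟩
  obtain ⟨Q, q₁, q₂, sqQ⟩ := exists_isPullback_yon X.property.diag E.obj.hom a
  have hq : Etale q₁.left := (repWith_yon_map_iff _ q₁).1 (repWith_of_isPullback sqQ.flip ha)
  have hqs : Surjective q₁.left := (repWith_yon_map_iff _ q₁).1 (repWith_of_isPullback sqQ.flip has)
  let EQ : EtOver X.obj := EtOver.mk ((yon S).map q₁ ≫ E.obj.hom)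
    (repWith_comp (repWith_of_isPullback sqQ.flip ha) E.property)
  change (ev E).hom (p ^ N) = 0
  have hzero : q₁.left.appTop.hom ((ev E).hom (p ^ N)) = 0 := by
    have e₁ := hev (EtOver.homMk (E := EQ) (E' := E) q₁ rfl)
    have e₂ := hev (EtOver.homMk (E := EQ) (E' := EU) q₂ sqQ.w.symm)
    have := congrArg (fun z => (CommRingCat.Hom.hom z) (p ^ N)) (e₁.trans e₂.symm)
    refine this.trans ?_
    show q₂.left.appTop.hom ((ev EU).hom (p ^ N)) = 0
    rw [map_pow, hN, map_zero]
  refine TopCat.Presheaf.section_ext E.obj.left.left.sheaf ⊤ _ _ fun z hz => ?_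
  obtain ⟨w, rfl⟩ := q₁.left.surjective z
  letI := (q₁.left.stalkMap w).hom.toAlgebra
  haveI hfl : Module.Flat (E.obj.left.left.presheaf.stalk (q₁.left w)) (Q.left.presheaf.stalk w) :=
    Flat.stalkMap q₁.left w
  haveI : IsLocalHom (algebraMap (E.obj.left.left.presheaf.stalk (q₁.left w)) (Q.left.presheaf.stalk w)) :=
    inferInstanceAs (IsLocalHom (q₁.left.stalkMap w).hom)
  haveI := Module.FaithfullyFlat.of_flat_of_isLocalHom
    (A := E.obj.left.left.presheaf.stalk (q₁.left w)) (B := Q.left.presheaf.stalk w)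
  refine FaithfulSMul.algebraMap_injective (E.obj.left.left.presheaf.stalk (q₁.left w)) (Q.left.presheaf.stalk w) ?_
  change (q₁.left.stalkMap w).hom (E.obj.left.left.presheaf.germ ⊤ _ hz _) =
    (q₁.left.stalkMap w).hom (E.obj.left.left.presheaf.germ ⊤ _ hz 0)
  rw [map_zero, map_zero]
  refine (Scheme.Hom.germ_stalkMap_apply q₁.left ⊤ w hz _).trans ?_
  exact (congrArg _ hzero).trans (map_zero _)

end Groth.Agent.S10331
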