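import Groth.Statements.S10332
import Groth.Agent.Lib.AlgSp.QCohIntClosure

set_option autoImplicit false
set_option backward.isDefEq.respectTransparency false
universe u
open CategoryTheory CategoryTheory.Limits AlgebraicGeometry Opposite
open AlgSp
open GrothLib.AlgSp.QCohEt

namespace Groth.Agent.S10332

/-- For an algebraic space X over S and a quasi-coherent sheaf of O_X-algebras A on the small etale site
of X (a sheaf of commutative rings A with O_X -> A, quasi-coherent as an O_X-module), there is a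
quasi-coherent O_X-subalgebra A' of A whose sections over every affine object U of the site are
exactly the elements of A(U) integral over O_X(U). -/
theorem result {S : Scheme.{u}} (X : AlgSp.Space S)
    (A : AlgSp.EtSh X.obj CommRingCat.{u + 1}) (φ : AlgSp.OEt X.obj ⟶ A)
    [((SheafOfModules.restrictScalars
        ((sheafCompose (AlgSp.etTop X.obj) (forget₂ CommRingCat.{u + 1} RingCat.{u + 1})).map φ)).obj
      (SheafOfModules.unit
        ((sheafCompose (AlgSp.etTop X.obj) (forget₂ CommRingCat.{u + 1} RingCat.{u + 1})).obj A))).IsQuasicoherent] :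
    ∃ (A' : AlgSp.EtSh X.obj CommRingCat.{u + 1}) (ι : A' ⟶ A) (φ' : AlgSp.OEt X.obj ⟶ A'),
      φ' ≫ ι = φ ∧ (∀ E : AlgSp.EtOver X.obj, Function.Injective (ι.hom.app (op E))) ∧
      (∀ E : AlgSp.EtOver X.obj, IsAffine E.obj.left.left → ∀ x : A.obj.obj (op E),
        x ∈ Set.range (ι.hom.app (op E)) ↔ (φ.hom.app (op E)).hom.IsIntegralElem x) ∧
      ((SheafOfModules.restrictScalars
          ((sheafCompose (AlgSp.etTop X.obj) (forget₂ CommRingCat.{u + 1} RingCat.{u + 1})).map φ')).obj
        (SheafOfModules.unit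
          ((sheafCompose (AlgSp.etTop X.obj) (forget₂ CommRingCat.{u + 1} RingCat.{u + 1})).obj A'))).IsQuasicoherent := by
  classical
  have hgood : ∀ E : AlgSp.EtOver X.obj, IsAffine E.obj.left.left →
      Good (O := AlgSp.OEt X.obj) (algMod φ) (affEt X.obj) E := fun E hE => good_of_isQuasicoherent _ hE
  let P := intFam φ hgood
  let R : ∀ V : (AlgSp.EtOver X.obj)ᵒᵖ, Subring (A.obj.obj V) := fun V =>
    { carrier := {s | ∀ ⦃W : AlgSp.EtOver X.obj⦄ (w : W ⟶ V.unop), IsAffine W.obj.left.left →
        (φ.hom.app (op W)).hom.IsIntegralElem ((A.obj.map w.op).hom s)}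
      mul_mem' := fun {a b} ha hb W w hW => by
        rw [map_mul]; exact RingHom.IsIntegralElem.mul _ (ha w hW) (hb w hW)
      one_mem' := fun W w hW => by rw [map_one]; exact RingHom.isIntegralElem_one _
      add_mem' := fun {a b} ha hb W w hW => by
        rw [map_add]; exact RingHom.IsIntegralElem.add _ (ha w hW) (hb w hW)
      zero_mem' := fun W w hW => by rw [map_zero]; exact RingHom.isIntegralElem_zero _
      neg_mem' := fun {a} ha W w hW => by rw [map_neg]; exact RingHom.IsIntegralElem.neg _ (ha w hW) }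
  have hmap : ∀ {V V' : (AlgSp.EtOver X.obj)ᵒᵖ} (g : V ⟶ V') (s : A.obj.obj V), s ∈ R V → (A.obj.map g).hom s ∈ R V' :=
    fun {V V'} g s hs W w hW => by
      have h := hs (w ≫ g.unop) hW
      rw [op_comp, Functor.map_comp] at h
      exact h
  let B : (AlgSp.EtOver X.obj)ᵒᵖ ⥤ CommRingCat.{u + 1} :=
    { obj := fun V => CommRingCat.of (R V)
      map := fun {V V'} g => CommRingCat.ofHom ((A.obj.map g).hom.restrict (R V) (R V') (hmap g))
      map_id := fun V => CommRingCat.hom_ext (RingHom.ext fun s => Subtype.ext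
        (congrArg (fun q : A.obj.obj V ⟶ A.obj.obj V => q.hom s.1) (A.obj.map_id V)))
      map_comp := fun {V V' V''} g g' => CommRingCat.hom_ext (RingHom.ext fun s => Subtype.ext
        (congrArg (fun q : A.obj.obj V ⟶ A.obj.obj V'' => q.hom s.1) (A.obj.map_comp g g'))) }
  have hB : Presheaf.IsSheaf (AlgSp.etTop X.obj) B := by
    rw [Presheaf.isSheaf_iff_isSheaf_forget _ _ (CategoryTheory.forget CommRingCat.{u + 1})]
    have h := (Presheaf.isSheaf_iff_isSheaf_forget _ (P.sheaf hgood).val.presheaf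
      (CategoryTheory.forget AddCommGrpCat.{u + 1})).1 (P.sheaf hgood).isSheaf
    exact (Presheaf.isSheaf_of_iso_iff (NatIso.ofComponents (fun V => Iso.refl _) fun g => rfl)).1 h
  let A' : AlgSp.EtSh X.obj CommRingCat.{u + 1} := ⟨B, hB⟩
  let ι : A' ⟶ A := ⟨{ app := fun V => CommRingCat.ofHom (R V).subtype, naturality := fun V V' g => rfl }⟩
  have hφ : ∀ (V : (AlgSp.EtOver X.obj)ᵒᵖ) (r : (AlgSp.OEt X.obj).obj.obj V), (φ.hom.app V).hom r ∈ R V :=
    fun V r W w hW => by
      rw [← CommRingCat.comp_apply, ← φ.hom.naturality w.op, CommRingCat.comp_apply]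
      exact RingHom.isIntegralElem_map _
  let φ' : AlgSp.OEt X.obj ⟶ A' :=
    ⟨{ app := fun V => CommRingCat.ofHom ((φ.hom.app V).hom.codRestrict (R V) (hφ V))
       naturality := fun V V' g => CommRingCat.hom_ext (RingHom.ext fun r => Subtype.ext
         (congrArg (fun q : (AlgSp.OEt X.obj).obj.obj V ⟶ A.obj.obj V' => q.hom r) (φ.hom.naturality g))) }⟩
  have hrange : ∀ E : AlgSp.EtOver X.obj, IsAffine E.obj.left.left → ∀ x : A.obj.obj (op E),
      x ∈ R (op E) ↔ (φ.hom.app (op E)).hom.IsIntegralElem x := fun E hE x =>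
    (P.mem_submod (S := affEt X.obj) hE x)
  refine ⟨A', ι, φ', rfl, fun E => Subtype.val_injective, fun E hE x => ⟨?_, fun hx => ?_⟩, ?_⟩
  · rintro ⟨y, rfl⟩
    exact (hrange E hE _).1 y.2
  · exact ⟨⟨x, (hrange E hE x).2 hx⟩, rfl⟩
  · let m : algMod φ' ⟶ algMod φ :=
      ⟨PresheafOfModules.homMk
        { app := fun V => AddCommGrpCat.ofHom (R V).subtype.toAddMonoidHom
          naturality := fun V V' g => rfl }
        fun V r s => rfl⟩
    refine isQuasicoherent_of_good (algMod φ') fun E hE => P.good_of_range (S := affEt X.obj) m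
      (fun E => Subtype.val_injective) (fun E hE => ?_) hgood hE
    ext x
    exact ⟨fun ⟨y, hy⟩ => hy ▸ (hrange E hE _).1 y.2, fun hx => ⟨⟨x, (hrange E hE x).2 hx⟩, rfl⟩⟩

end Groth.Agent.S10332
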