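import Groth.Statements.S10333
import Groth.Agent.Lib.AlgSp.NormExists
import Groth.Agent.Lib.AlgSp.RedInduced
-- import your own Groth.Agent.* helpers here

set_option autoImplicit false
universe u
open CategoryTheory CategoryTheory.Limits AlgebraicGeometry
open AlgSp GrothLib.AlgSp
set_option backward.isDefEq.respectTransparency false

namespace Groth.Agent.S10333

/-- Let f : Y -> X be a morphism of algebraic spaces over S that is quasi-compact and quasi-separated,
and X' -> X the normalization of X in Y (an integral morphism through which f factors, initial among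
such factorizations). If Y is reduced then X' is reduced. -/
theorem result {S : Scheme.{u}} {Y X X' : AlgSp.Space S} (f : Y ⟶ X)
    (hqc : AlgSp.IsQuasiCompactMor f.hom) (hqs : AlgSp.IsQuasiSeparatedMor f.hom) (ν : X' ⟶ X) (f' : Y ⟶ X')
    (hn : AlgSp.IsRelNormalization f.hom ν.hom f'.hom) (hY : AlgSp.IsReducedSp Y.obj) :
    AlgSp.IsReducedSp X'.obj := by
  have h := univNorm_of_isRelNormalization X.property Y.property hqc hqs X'.property hn
  obtain ⟨Z, i, hZ, hi, hir, hZr⟩ := exists_isRedInduced_sp X'.property (T := Set.univ) isClosed_univ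
  haveI : Mono i := mono_of_repWith_mono (repWith_mono hi fun A B g hg => by
    have : IsClosedImmersion g := hg
    exact inferInstanceAs (Mono g))
  obtain ⟨W, w, we, ws, hW⟩ := hY
  haveI : IsReduced W.left := hW
  obtain ⟨T, fst, k, sqT⟩ := exists_isPullback_of_representable hi.1 (w ≫ f'.hom)
  haveI : IsClosedImmersion k.left := hi.2 _ _ _ sqT
  have hks : ∀ z : ↥W.left, ∃ t, k.left t = z := fun z => by
    have hz : Points.map (w ≫ f'.hom) (Points.schemeHomeo W z) ∈ Set.range (Points.map i) := by
      rw [hir]; trivial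
    obtain ⟨p, hp⟩ := hz
    obtain ⟨q, -, hq⟩ := exists_of_isPullback sqT hp
    obtain ⟨t, rfl⟩ := (Points.schemeHomeo T).surjective q
    rw [Points.map_yon_map_apply] at hq
    exact ⟨t, (Points.schemeHomeo W).injective hq⟩
  obtain ⟨σ, hσ⟩ := GrothLib.RedSub.exists_lift (𝟙 W.left) k.left (by
    rintro z -
    exact hks z)
  let σ' : W ⟶ T := Over.homMk σ (by rw [← Over.w k, ← Category.assoc, hσ, Category.id_comp])
  have hl : ((yon S).map σ' ≫ fst) ≫ i = w ≫ f'.hom := by
    rw [Category.assoc, sqT.w, ← Category.assoc, ← Functor.map_comp,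
      show σ' ≫ k = 𝟙 W from Over.OverMorphism.ext hσ, CategoryTheory.Functor.map_id, Category.id_comp]
  haveI := chart_isLocallySurjective we ws
  haveI : Epi w := (Sheaf.isLocallySurjective_iff_epi _).1 inferInstance
  have := IsRegularEpiCategory.regularEpiOfEpi (C := Sp S) w
  obtain ⟨g, hg⟩ := IsRegularEpi.exists_of_isKernelPair w (IsPullback.of_hasPullback w w)
    ((yon S).map σ' ≫ fst) (by
      rw [← cancel_mono i, Category.assoc, Category.assoc (pullback.snd w w), hl, pullback.condition_assoc])
  have hgi : g ≫ i = f'.hom := by rw [← cancel_epi w, ← Category.assoc, hg, hl]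
  have hiint : IsIntegralMor (i ≫ ν.hom) := isIntegralMor_iff.2 (repWith_comp
    (repWith_mono hi fun A B m hm => by
      have : IsClosedImmersion m := hm
      exact inferInstanceAs (IsIntegralHom m)) (isIntegralMor_iff.1 hn.2.1))
  obtain ⟨r, ⟨hr₁, hr₂⟩, -⟩ := hn.2.2 hZ (i ≫ ν.hom) g hiint (by rw [← Category.assoc, hgi, hn.1])
  have hri : r ≫ i = 𝟙 _ := h.hom_ext' X.property X'.property hn.2.1
    (by rw [← Category.assoc, hr₁, hgi, Category.comp_id]) (by rw [Category.assoc, hr₂]) (Category.id_comp _)
  haveI : IsIso i := ⟨r, by rw [← cancel_mono i, Category.assoc, hri, Category.comp_id, Category.id_comp], hri⟩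
  obtain ⟨U, a, ae, as', hU⟩ := hZr
  exact ⟨U, a ≫ i, repWith_comp ae (repWith_iso i), repWith_comp as' (repWith_iso i), hU⟩
end Groth.Agent.S10333
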