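import Groth.Statements.S10334
import Groth.Agent.Lib.AlgSp.IntPushDense

-- import your own Groth.Agent.* helpers here

set_option autoImplicit false
universe u
open CategoryTheory CategoryTheory.Limits AlgebraicGeometry Opposite
open AlgSp GrothLib.AlgSp
set_option backward.isDefEq.respectTransparency false

namespace Groth.Agent.S10334

variable {S : Scheme.{u}} {Y X : AlgSp.Space S} (f : Y ⟶ X) (h : AlgSp.RepWith IntUI f.hom)
  {A : Type (u + 2)} [Category.{u + 1} A] [∀ B, HasLimitsOfShape (StructuredArrow B (AlgSp.EtOver.bc h.1).op) A]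

/-- Sheaves for the induced topology are direct images. -/
theorem mem_essImage [(AlgSp.EtOver.bc h.1).IsCoverDense (AlgSp.etTop Y.obj)]
    [(AlgSp.EtOver.bc h.1).IsLocallyFull (AlgSp.etTop Y.obj)] [(AlgSp.EtOver.bc h.1).IsLocallyFaithful (AlgSp.etTop Y.obj)]
    (G : AlgSp.EtSh X.obj A)
    (hs : Presheaf.IsSheaf ((AlgSp.EtOver.bc h.1).inducedTopology (AlgSp.etTop Y.obj)) G.obj) :
    (AlgSp.pushEt h.1 A).essImage G := by
  let J := (AlgSp.EtOver.bc h.1).inducedTopology (AlgSp.etTop Y.obj)
  let G₀ : Sheaf J A := ⟨G.obj, hs⟩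
  let e := Functor.IsDenseSubsite.sheafEquiv J (AlgSp.etTop Y.obj) (AlgSp.EtOver.bc h.1) A
  let iso : (AlgSp.EtOver.bc h.1).op ⋙ (e.functor.obj G₀).obj ≅ G.obj := (sheafToPresheaf _ _).mapIso (e.unitIso.app G₀).symm
  exact ⟨e.functor.obj G₀, ⟨(fullyFaithfulSheafToPresheaf _ _).preimageIso iso⟩⟩


/-- Let f : Y -> X be an integral, universally injective morphism of algebraic spaces over S. A sheaf of
sets on the small etale site of X is isomorphic to a pushforward f_*F if and only if its value is a
one-element set on every etale scheme over X whose image misses f(|Y|); an abelian sheaf is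
isomorphic to a pushforward if and only if its value is zero on every such scheme. (The published
statement says 'restriction to the complement of f(|Y|) is a final object' and 'support contained in
f(|Y|)'; both conditions are written out on the etale schemes over the complement.) -/
theorem result {S : Scheme.{u}} {Y X : AlgSp.Space S} (f : Y ⟶ X)
    (hi : AlgSp.RepWith @IsIntegralHom f.hom) (hu : AlgSp.IsUnivInjectiveMor f.hom) :
    (∀ G : AlgSp.EtSh X.obj (Type (u + 1)),
      (AlgSp.pushEt hi.1 (Type (u + 1))).essImage G ↔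
        ∀ E : AlgSp.EtOver X.obj,
          Disjoint (Set.range (AlgSp.Points.map E.obj.hom)) (Set.range (AlgSp.Points.map f.hom)) →
            Nonempty (Unique (G.obj.obj (op E)))) ∧
    (∀ G : AlgSp.AbEt X.obj,
      (AlgSp.pushEt hi.1 AddCommGrpCat.{u + 1}).essImage G ↔
        ∀ E : AlgSp.EtOver X.obj,
          Disjoint (Set.range (AlgSp.Points.map E.obj.hom)) (Set.range (AlgSp.Points.map f.hom)) →
            Subsingleton ↥(G.obj.obj (op E))) := by
  have h := repWith_intUI hi hu
  haveI := IntPush.isCoverDense_bc f h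
  haveI := IntPush.isLocallyFull_bc f h
  haveI := IntPush.isLocallyFaithful_bc f h
  refine ⟨fun G => ⟨?_, fun hG => ?_⟩, fun G => ⟨?_, fun hG => ?_⟩⟩
  · rintro ⟨F, ⟨e⟩⟩ E hE
    obtain ⟨t⟩ := IntPush.unique_of_isEmpty f h F E ((IntPush.disjoint_iff_isEmpty f h E).1 hE)
    exact ⟨Types.isTerminalEquivUnique _ (t.ofIso (((sheafToPresheaf _ _).mapIso e).app (op E)))⟩
  · have hs := IntPush.isSheaf_induced f h G fun E hE => hG E ((IntPush.disjoint_iff_isEmpty f h E).2 hE)
    exact mem_essImage f h G hs
  · rintro ⟨F, ⟨e⟩⟩ E hE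
    obtain ⟨t⟩ := IntPush.unique_of_isEmpty f h F E ((IntPush.disjoint_iff_isEmpty f h E).1 hE)
    exact AddCommGrpCat.subsingleton_of_isZero
      ((t.ofIso (((sheafToPresheaf _ _).mapIso e).app (op E))).isZero)
  · refine mem_essImage f h G ?_
    rw [Presheaf.isSheaf_iff_isSheaf_forget _ _ (CategoryTheory.forget AddCommGrpCat.{u + 1})]
    exact IntPush.isSheaf_induced f h ((sheafCompose _ (CategoryTheory.forget AddCommGrpCat.{u + 1})).obj G)
      fun E hE => ⟨@uniqueOfSubsingleton ↥(G.obj.obj (op E))
        (hG E ((IntPush.disjoint_iff_isEmpty f h E).2 hE)) 0⟩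


end Groth.Agent.S10334
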