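import Groth.Statements.S10335
import Groth.Agent.S10320
import Groth.Agent.Lib.AlgSp.FibreDimBC
import Groth.Agent.Lib.AlgSp.FibreDimZero
import Groth.Agent.Lib.CMMor6.Algebra
import Groth.Agent.Lib.AlgMisc.SmoothRank
import Groth.Agent.Lib.FibreFlat.Stalk
-- import your own Groth.Agent.* helpers here

set_option autoImplicit false
universe u
open CategoryTheory CategoryTheory.Limits AlgebraicGeometry
open AlgSp GrothLib.AlgSp
set_option backward.isDefEq.respectTransparency false

namespace Groth.Agent.S10335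

/-- The dimensions at a point of a morphism locally of finite type are natural numbers. -/
theorem exists_nats {X Y : Scheme.{u}} (f : X ⟶ Y) [LocallyOfFiniteType f] (x : X) :
    ∃ e r : ℕ, ringKrullDim ↥((f.fiber (f x)).presheaf.stalk (f.asFiber x)) = e ∧
      Cardinal.toENat (Dual3.resTrdeg f x) = r := by
  let q := f.fiberToSpecResidueField (f x)
  haveI : LocallyOfFiniteType q := MorphismProperty.pullback_snd f _ inferInstance
  haveI : IsLocallyNoetherian (f.fiber (f x)) := LocallyOfFiniteType.isLocallyNoetherian (X := f.fiber (f x)) q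
  obtain ⟨e, he⟩ := Groth.Agent.Lib.AlgMisc.SmoothRank.exists_dim_eq_nat ((f.fiber (f x)).presheaf.stalk (f.asFiber x))
  have hd := Groth.Agent.S10320.scheme_formula f x
  change FlatMor.localDim (f.fiber (f x)) (f.asFiber x) = _ at hd
  rw [GrothLib.AffDom.localDim_eq (K := Y.residueField (f x)) q (f.asFiber x), he] at hd
  obtain ⟨n, hn, -⟩ := GrothLib.AffDom.exists_dim_closure (K := Y.residueField (f x)) q (f.asFiber x)
  rw [show GrothLib.AffDom.ptDim (f.asFiber x) = (n : WithBot ℕ∞) from hn] at hd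
  refine ⟨e, ?_⟩
  cases hr : Cardinal.toENat (Dual3.resTrdeg f x) with
  | top =>
    rw [hr, show (e : WithBot ℕ∞) = ((e : ℕ∞) : WithBot ℕ∞) from rfl, show (n : WithBot ℕ∞) = ((n : ℕ∞) : WithBot ℕ∞) from rfl,
      ← WithBot.coe_add, ← WithBot.coe_add, WithBot.coe_inj] at hd
    simp at hd
  | coe r => exact ⟨r, he, rfl⟩

/-- A nonempty scheme has a point whose local ring has dimension zero. -/
theorem exists_dim_zero (G : Scheme.{u}) [Nonempty G] : ∃ z : G, ringKrullDim (G.presheaf.stalk z) = 0 := by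
  obtain ⟨η, hη⟩ := QuasiSober.sober (α := G) (isIrreducible_irreducibleComponent (x := Classical.arbitrary G))
    isClosed_irreducibleComponent
  refine ⟨η, ?_⟩
  rw [ringKrullDim_stalk_eq_coheight, Order.coheight_eq_zero.2 fun y hy => ?_]
  · rfl
  · have h1 : irreducibleComponent (Classical.arbitrary G) ⊆ closure {y} := by
      rw [← hη.def]
      exact closure_minimal (Set.singleton_subset_iff.2 (Specializes.mem_closure hy)) isClosed_closure
    have h2 := (irreducibleComponent_mem_irreducibleComponents (Classical.arbitrary G)).2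
      isIrreducible_singleton.closure h1
    show η ⤳ y
    exact specializes_iff_mem_closure.2 (hη.def.symm ▸ h2 (subset_closure rfl))

/-- The map of fibres of a base change. -/
theorem exists_fibre_map {X Y X' Y' : Scheme.{u}} {f : X ⟶ Y} [LocallyOfFiniteType f] {g : Y' ⟶ Y}
    {f' : X' ⟶ Y'} {g' : X' ⟶ X} (hc : IsPullback g' f' f g) (v' : Y') :
    ∃ i : f'.fiber v' ⟶ f.fiber (g v'), i ≫ f.fiberι (g v') = f'.fiberι v' ≫ g' ∧ Flat i ∧ Surjective i ∧
      IsLocallyNoetherian (f'.fiber v') ∧ IsLocallyNoetherian (f.fiber (g v')) := by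
  obtain ⟨i, hi₁, hi⟩ := GrothLib.FibreBC.exists_isPullback_fiber hc v'
  haveI : Flat (Spec.map (g.residueFieldMap v')) := flat_to_field (k := Y.residueField (g v')) _
  haveI : Subsingleton ↥(Spec (Y.residueField (g v'))) := inferInstanceAs (Subsingleton (PrimeSpectrum (Y.residueField (g v'))))
  haveI : Surjective (Spec.map (g.residueFieldMap v')) :=
    ⟨fun _ => ⟨IsLocalRing.closedPoint (Y'.residueField v'), Subsingleton.elim _ _⟩⟩
  haveI : LocallyOfFiniteType f' := MorphismProperty.of_isPullback hc ‹LocallyOfFiniteType f›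
  haveI : LocallyOfFiniteType (f'.fiberToSpecResidueField v') := MorphismProperty.pullback_snd f' _ inferInstance
  haveI : LocallyOfFiniteType (f.fiberToSpecResidueField (g v')) := MorphismProperty.pullback_snd f _ inferInstance
  exact ⟨i, hi₁, MorphismProperty.of_isPullback hi.flip ‹Flat (Spec.map (g.residueFieldMap v'))›,
    MorphismProperty.of_isPullback hi.flip ‹Surjective (Spec.map (g.residueFieldMap v'))›,
    LocallyOfFiniteType.isLocallyNoetherian (f'.fiberToSpecResidueField v'),
    LocallyOfFiniteType.isLocallyNoetherian (f.fiberToSpecResidueField (g v'))⟩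

/-- The local ring of the fibre at any name of a point. -/
theorem dim_fibre_congr {X Y : Scheme.{u}} (f : X ⟶ Y) (x : X) (v : Y) (z : f.fiber v) (hz : f.fiberι v z = x) :
    ringKrullDim ↥((f.fiber (f x)).presheaf.stalk (f.asFiber x)) = ringKrullDim ↥((f.fiber v).presheaf.stalk z) := by
  obtain rfl : v = f x := by
    rw [← hz]
    exact (GrothLib.FibreFlat.fiberι_comp_apply f v z).symm
  obtain rfl : z = f.asFiber x := (f.fiberι _).isEmbedding.injective (hz.trans (f.fiberι_asFiber _).symm)
  rfl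

theorem scheme_le {X Y X' Y' : Scheme.{u}} {f : X ⟶ Y} [LocallyOfFiniteType f] {g : Y' ⟶ Y}
    {f' : X' ⟶ Y'} {g' : X' ⟶ X} (hc : IsPullback g' f' f g) (x' : X') :
    ringKrullDim ↥((f.fiber (f (g' x'))).presheaf.stalk (f.asFiber (g' x'))) ≤
      ringKrullDim ↥((f'.fiber (f' x')).presheaf.stalk (f'.asFiber x')) := by
  obtain ⟨i, hi, _, -, -, -⟩ := exists_fibre_map hc (f' x')
  rw [dim_fibre_congr f (g' x') _ (i (f'.asFiber x')) (by
    rw [← Scheme.Hom.comp_apply, hi, Scheme.Hom.comp_apply, Scheme.Hom.fiberι_asFiber])]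
  exact ringKrullDim_stalk_map_le_of_flat i _

theorem scheme_exists {X Y X' Y' : Scheme.{u}} {f : X ⟶ Y} [LocallyOfFiniteType f] {g : Y' ⟶ Y}
    {f' : X' ⟶ Y'} {g' : X' ⟶ X} (hc : IsPullback g' f' f g) (x' : X') :
    ∃ x'' : X', g' x'' = g' x' ∧ f' x'' = f' x' ∧
      ringKrullDim ↥((f'.fiber (f' x'')).presheaf.stalk (f'.asFiber x'')) =
        ringKrullDim ↥((f.fiber (f (g' x'))).presheaf.stalk (f.asFiber (g' x'))) := by
  obtain ⟨i, hi, hflat, _, _, _⟩ := exists_fibre_map hc (f' x')
  let q := i (f'.asFiber x')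
  haveI : Nonempty (i.fiber q) := by
    obtain ⟨z, -⟩ := (i.range_fiberι q).superset (show f'.asFiber x' ∈ i ⁻¹' {q} from rfl)
    exact ⟨z⟩
  obtain ⟨ζ, hζ⟩ := exists_dim_zero (i.fiber q)
  let z := i.fiberι q ζ
  have hzq : i z = q := GrothLib.FibreFlat.fiberι_comp_apply i q ζ
  have hq : f.fiberι _ q = g' x' := by
    rw [← Scheme.Hom.comp_apply, hi, Scheme.Hom.comp_apply, Scheme.Hom.fiberι_asFiber]
  have hg : g' (f'.fiberι (f' x') z) = g' x' := by
    rw [← Scheme.Hom.comp_apply, ← hi, Scheme.Hom.comp_apply, hzq, hq]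
  refine ⟨f'.fiberι (f' x') z, hg, GrothLib.FibreFlat.fiberι_comp_apply f' _ z, ?_⟩
  rw [dim_fibre_congr f' _ _ z rfl, dim_fibre_congr f (g' x') _ (i z) (by rw [hzq, hq])]
  letI := (i.stalkMap z).hom.toAlgebra
  haveI : IsLocalHom (algebraMap ((f.fiber (g (f' x'))).presheaf.stalk (i z)) ((f'.fiber (f' x')).presheaf.stalk z)) :=
    inferInstanceAs (IsLocalHom (i.stalkMap z).hom)
  haveI : Module.Flat ((f.fiber (g (f' x'))).presheaf.stalk (i z)) ((f'.fiber (f' x')).presheaf.stalk z) :=
    Flat.stalkMap i z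
  rw [GrothLib.CMMor6.ringKrullDim_eq_add (A := (f.fiber (g (f' x'))).presheaf.stalk (i z))]
  obtain ⟨hsurj, hker⟩ := GrothLib.FibreFlat.fiberι_stalkMap i q ζ
  have e : ringKrullDim (((f'.fiber (f' x')).presheaf.stalk z) ⧸
      (IsLocalRing.maximalIdeal ((f.fiber (g (f' x'))).presheaf.stalk (i z))).map (i.stalkMap z).hom) = 0 := by
    rw [← hζ]
    exact ringKrullDim_eq_of_ringEquiv ((Ideal.quotEquivOfEq hker.symm).trans
      (RingHom.quotientKerEquivOfSurjective hsurj))
  rw [show (algebraMap ((f.fiber (g (f' x'))).presheaf.stalk (i z)) ((f'.fiber (f' x')).presheaf.stalk z)) =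
    (i.stalkMap z).hom from rfl, e, add_zero]

variable {S : Scheme.{u}}

/-- The fibre local dimension on any chart diagram through the point. -/
theorem hasAtMor_fibreLocalDim_eq {F G : Sp S} (hF : IsAlgSpace F) (hG : IsAlgSpace G) {f : F ⟶ G}
    (hft : LocP @LocallyOfFiniteType f) {U V : Over S} {a : (yon S).obj U ⟶ F} {b : (yon S).obj V ⟶ G}
    {h : U ⟶ V} (ha : RepWith @Etale a) (hb : RepWith @Etale b) (c : a ≫ f = (yon S).map h ≫ b) (u : ↥U.left)
    {e : WithBot ℕ∞} (he : HasAtMor (fun _ _ h u => ringKrullDim ↥((h.fiber (h u)).presheaf.stalk (h.asFiber u)) = e) f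
      (Points.ofPt a u)) :
    ringKrullDim ↥((h.left.fiber (h.left u)).presheaf.stalk (h.left.asFiber u)) = e := by
  obtain ⟨U', V', a', b', h', u', ha', hb', c', hu', hq⟩ := he
  haveI : LocallyOfFiniteType h.left := hft a b h ha hb c
  haveI : LocallyOfFiniteType h'.left := hft a' b' h' ha' hb' c'
  have h₁ : FlatMor.fibreDimAt h.left u = FlatMor.fibreDimAt h'.left u' :=
    (hasAtMor_fibreDim_iff hF hG ha hb c u (fun z => z = FlatMor.fibreDimAt h'.left u')).1
      ⟨U', V', a', b', h', u', ha', hb', c', hu', rfl⟩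
  have h₂ : Dual3.resTrdeg h.left u = Dual3.resTrdeg h'.left u' :=
    (hasAtMor_resTrdeg_iff hF hG ha hb c u (fun z => z = Dual3.resTrdeg h'.left u')).1
      ⟨U', V', a', b', h', u', ha', hb', c', hu', rfl⟩
  obtain ⟨e₁, r₁, he₁, hr₁⟩ := exists_nats h.left u
  obtain ⟨e₂, r₂, he₂, hr₂⟩ := exists_nats h'.left u'
  rw [Groth.Agent.S10320.scheme_formula h.left u, Groth.Agent.S10320.scheme_formula h'.left u', h₂, he₁, he₂,
    hr₂] at h₁
  rw [← hq, he₁, he₂]
  have : e₁ + r₂ = e₂ + r₂ := by exact_mod_cast h₁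
  exact_mod_cast (by omega : e₁ = e₂)


/-- In a base change square of algebraic spaces with f : X -> Y locally of finite type and f' : X' -> Y'
its base change along g : Y' -> Y, take a point x' of X' over x. The fibre of f' has a local ring at
x' whose dimension exceeds the corresponding dimension for the fibre of f at x by exactly the
transcendence degree of x over f(x) minus that of x' over f'(x'), and this excess is never negative;
and for x in X and y' in Y' over the same point of Y some x' over both has excess zero. All four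
quantities are read on some chart diagram through the point. -/
theorem result {S : Scheme.{u}} {X Y Y' X' : AlgSp.Space S} (f : X ⟶ Y) (g : Y' ⟶ Y)
    (g' : X' ⟶ X) (f' : X' ⟶ Y') (sq : IsPullback g'.hom f'.hom f.hom g.hom)
    (hf : AlgSp.LocP @LocallyOfFiniteType f.hom) :
    (∀ (x' : AlgSp.Points X'.obj) (e e' : WithBot ℕ∞) (r r' : Cardinal.{u}),
      AlgSp.HasAtMor (fun _ _ h u => ringKrullDim ↥((h.fiber (h u)).presheaf.stalk (h.asFiber u)) = e) f.hom
          (AlgSp.Points.map g'.hom x') →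
      AlgSp.HasAtMor (fun _ _ h u => Dual3.resTrdeg h u = r) f.hom (AlgSp.Points.map g'.hom x') →
      AlgSp.HasAtMor (fun _ _ h u => ringKrullDim ↥((h.fiber (h u)).presheaf.stalk (h.asFiber u)) = e') f'.hom x' →
      AlgSp.HasAtMor (fun _ _ h u => Dual3.resTrdeg h u = r') f'.hom x' →
        e' + ((Cardinal.toENat r' : ℕ∞) : WithBot ℕ∞) = e + ((Cardinal.toENat r : ℕ∞) : WithBot ℕ∞) ∧ e ≤ e') ∧
    (∀ (x : AlgSp.Points X.obj) (y' : AlgSp.Points Y'.obj) (e : WithBot ℕ∞),
      AlgSp.Points.map f.hom x = AlgSp.Points.map g.hom y' →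
      AlgSp.HasAtMor (fun _ _ h u => ringKrullDim ↥((h.fiber (h u)).presheaf.stalk (h.asFiber u)) = e) f.hom x →
        ∃ x' : AlgSp.Points X'.obj, AlgSp.Points.map g'.hom x' = x ∧ AlgSp.Points.map f'.hom x' = y' ∧
          AlgSp.HasAtMor (fun _ _ h u => ringKrullDim ↥((h.fiber (h u)).presheaf.stalk (h.asFiber u)) = e)
            f'.hom x') := by
  refine ⟨fun x' e e' r r' he hr he' hr' => ?_, fun x y' e hxy he => ?_⟩
  · obtain ⟨U, V, U', V', a, b, a', b', h, h', p, q, u', ha, hb, ha', hb', c, c', cp, sW, rfl⟩ :=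
      exists_bc_charts X.property Y.property Y'.property sq x'
    haveI : LocallyOfFiniteType h.left := hf a b h ha hb c
    haveI : LocallyOfFiniteType h'.left := MorphismProperty.of_isPullback sW ‹LocallyOfFiniteType h.left›
    rw [Points.map_ofPt, cp, ofPt_map_comp] at he hr
    have er := (hasAtMor_resTrdeg_iff X.property Y.property ha hb c _ (fun z => z = r)).1 hr
    have er' := (hasAtMor_resTrdeg_iff X'.property Y'.property ha' hb' c' u' (fun z => z = r')).1 hr'
    have ee := hasAtMor_fibreLocalDim_eq X.property Y.property hf ha hb c _ he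
    have ee' := hasAtMor_fibreLocalDim_eq X'.property Y'.property
      (EtLocal.locP_of_isPullback EtLocal.lft X.property Y.property Y'.property sq hf) ha' hb' c' u' he'
    have hd := fibreDimAt_of_isPullback sW u'
    rw [Groth.Agent.S10320.scheme_formula h'.left u', Groth.Agent.S10320.scheme_formula h.left (p.left u'),
      er, er', ee, ee'] at hd
    exact ⟨hd, ee ▸ ee' ▸ scheme_le sW u'⟩
  · obtain ⟨x₀, hx₀, hy₀⟩ := exists_of_isPullback sq hxy
    obtain ⟨U, V, U', V', a, b, a', b', h, h', p, q, u', ha, hb, ha', hb', c, c', cp, sW, rfl⟩ :=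
      exists_bc_charts X.property Y.property Y'.property sq x₀
    haveI : LocallyOfFiniteType h.left := hf a b h ha hb c
    rw [Points.map_ofPt, cp, ofPt_map_comp] at hx₀
    subst hx₀
    have ee := hasAtMor_fibreLocalDim_eq X.property Y.property hf ha hb c _ he
    obtain ⟨u'', hp, hh, hd⟩ := scheme_exists sW u'
    refine ⟨Points.ofPt a' u'', ?_, ?_, U', V', a', b', h', u'', ha', hb', c', rfl, hd.trans ee⟩
    · rw [Points.map_ofPt, cp, ofPt_map_comp]
      exact congrArg _ hp
    · rw [← hy₀, Points.map_ofPt, Points.map_ofPt, c', ofPt_map_comp, ofPt_map_comp]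
      exact congrArg _ hh
end Groth.Agent.S10335
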