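import Groth.Agent.Lib.AlgSp.FpqcAffine
import Groth.Statements.S10539
-- import your own Groth.Agent.* helpers here

set_option autoImplicit false
universe u
open CategoryTheory CategoryTheory.Limits AlgebraicGeometry
open AlgSp

namespace Groth.Agent.S10539

/-- The property of morphisms of algebraic spaces over S given by f is integral (every base change to an
affine scheme is an affine scheme integral over it) is fpqc local on the base: for an fpqc covering
of an algebraic space Y by algebraic spaces Y_i, a morphism f : X ⟶ Y of algebraic spaces and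
cartesian squares X_i = Y_i ×_Y X, f has the property if and only if every X_i ⟶ Y_i has it. -/
theorem result (S : Scheme.{u}) :
    AlgSp.IsLocalOnBase (AlgSp.IsFpqcCover (S := S)) AlgSp.IsIntegralMor := by
  refine GrothLib.AlgSp.isLocalOnBase_fpqc_of (fun X Y X' Y' _ _ _ _ f g fst snd sq hf => GrothLib.AlgSp.isIntegralMor_iff.2
    (GrothLib.AlgSp.repWith_of_isPullback sq (GrothLib.AlgSp.isIntegralMor_iff.1 hf))) fun X Y hX hY f h => GrothLib.AlgSp.isIntegralMor_iff.2 ?_
  refine GrothLib.AlgSp.repWith_of_fpqcLoc_affine ?_ hX hY (h.mono hX hY fun _ _ _ _ hs => GrothLib.AlgSp.isIntegralMor_iff.1 hs)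
  intro A B k (hk : IsIntegralHom k)
  infer_instance

end Groth.Agent.S10539
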