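import Groth.Statements.S10336
import Groth.Agent.S10539
import Groth.Agent.S10540
import Groth.Agent.S10545
import Groth.Agent.Lib.AlgSp.FppfCover
-- import your own Groth.Agent.* helpers here

set_option autoImplicit false
universe u
open CategoryTheory CategoryTheory.Limits AlgebraicGeometry
open AlgSp GrothLib.AlgSp
set_option backward.isDefEq.respectTransparency false

namespace Groth.Agent.S10336

/-- Integrality, finiteness and finite local freeness of a morphism f : X -> Y of algebraic spaces over
S can be checked on the restrictions of f over the members of a Zariski covering of Y by open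
subspaces. -/
theorem result {S : Scheme.{u}} {X Y : AlgSp.Space S} (f : X ⟶ Y) {ι : Type u}
    (Yi : ι → AlgSp.Space S) (j : ∀ i, Yi i ⟶ Y) (hj : AlgSp.IsZarCover (fun i => (Yi i).obj) (fun i => (j i).hom))
    (Xi : ι → AlgSp.Sp S) (p : ∀ i, Xi i ⟶ X.obj) (q : ∀ i, Xi i ⟶ (Yi i).obj)
    (sq : ∀ i, IsPullback (p i) (q i) f.hom (j i).hom) :
    ((∀ i, AlgSp.IsIntegralMor (q i)) → AlgSp.IsIntegralMor f.hom) ∧
    ((∀ i, AlgSp.IsFiniteMor (q i)) → AlgSp.IsFiniteMor f.hom) ∧
    ((∀ i, AlgSp.IsFinLocFreeMor (q i)) → AlgSp.IsFinLocFreeMor f.hom) := by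
  have hXi : ∀ i, IsAlgSpace (Xi i) := fun i =>
    GrothLib.AlgSp.isAlgSpace_pullback Y.property.diag X.property (Yi i).property (sq i)
  have hc : IsFppfCover (fun i => (Yi i).obj) (fun i => (j i).hom) :=
    ⟨fun i => ⟨GrothLib.AlgSp.EtLocal.locP_of_repWith GrothLib.AlgSp.EtLocal.flat Y.property
        (GrothLib.AlgSp.repWith_mono (hj.1 i) fun _ _ g (_ : IsOpenImmersion g) => (inferInstance : Flat g)),
      GrothLib.AlgSp.EtLocal.locP_of_repWith GrothLib.AlgSp.EtLocal.lfp Y.property
        (GrothLib.AlgSp.repWith_mono (hj.1 i) fun _ _ g (_ : IsOpenImmersion g) =>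
          (inferInstance : LocallyOfFinitePresentation g))⟩, hj.2⟩
  have hc' := GrothLib.AlgSp.isFpqcCover_of_isFppfCover Y.property (fun i => (Yi i).property) hc
  exact ⟨fun h => (Groth.Agent.S10539.result S _ _ Y.property (fun i => (Yi i).property) hc' f.hom X.property
      Xi q p hXi sq).2 h,
    fun h => (Groth.Agent.S10540.result S _ _ Y.property (fun i => (Yi i).property) hc' f.hom X.property
      Xi q p hXi sq).2 h,
    fun h => (Groth.Agent.S10545.result S _ _ Y.property (fun i => (Yi i).property) hc' f.hom X.property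
      Xi q p hXi sq).2 h⟩

end Groth.Agent.S10336
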