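import Groth.Agent.Lib.AlgSp.DecentPoints
import Groth.Statements.S10338
-- import your own Groth.Agent.* helpers here

set_option autoImplicit false
universe u
open CategoryTheory CategoryTheory.Limits AlgebraicGeometry Topology TopologicalSpace
open AlgSp

namespace Groth.Agent.S10338

/-- For a decent algebraic space X over a scheme S the topological space |X| is Kolmogorov (T0). -/
theorem result {S : Scheme.{u}} (X : AlgSp.Space S) (hX : AlgSp.IsDecent X.obj) :
    T0Space (AlgSp.Points X.obj) := by
  exact GrothLib.AlgSp.t0Space_of_finite_fibres X.property (GrothLib.AlgSp.finiteFibres_of_isDecent X.property hX)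

end Groth.Agent.S10338
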