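import Groth.Statements.S1034
import Groth.Agent.Lib.DerCat.SeqColimit
import Groth.Agent.Lib.TriCat.Hocolim

set_option autoImplicit false
universe v v' u u'
open CategoryTheory CategoryTheory.Limits
open DerLim

namespace Groth.Agent.S1034

open CategoryTheory.Pretriangulated in
/-- Let D be a pretriangulated category with countable direct sums, A an abelian category with exact
colimits of shape ℕ, and H : D ⥤ A a homological functor that preserves countable direct sums. If L
(with maps iₙ : Kₙ ⟶ L) is a homotopy colimit of a system (Kₙ, fₙ), then H(L) is the colimit of the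
H(Kₙ): there is an isomorphism colimₙ H(Kₙ) ≅ H(L) compatible with the maps H(iₙ). -/
theorem result {D : Type u} [Category.{v} D] [Preadditive D] [Limits.HasZeroObject D] [HasShift D ℤ]
    [∀ n : ℤ, (shiftFunctor D n).Additive] [Pretriangulated D] [IsTriangulated D] [HasColimitsOfShape (Discrete ℕ) D]
    {A : Type u'} [Category.{v'} A] [Abelian A] [HasColimitsOfShape ℕ A] [HasExactColimitsOfShape ℕ A]
    (H : D ⥤ A) [H.IsHomological] [PreservesColimitsOfShape (Discrete ℕ) H]
    (K : ℕ → D) (f : ∀ n, K n ⟶ K (n + 1)) (L : D) (i : ∀ n, K n ⟶ L) (hL : DerLim.IsHocolim K f L i) :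
    ∃ e : colimit (Functor.ofSequence (fun n => H.map (f n))) ≅ H.obj L,
      ∀ n : ℕ, colimit.ι (Functor.ofSequence (fun n => H.map (f n))) n ≫ e.hom = H.map (i n) := by
  let F := Functor.ofSequence (fun n => H.map (f n))
  obtain ⟨c, hT⟩ := hL
  let K' : ℕ → D := fun n => (shiftFunctor D (1 : ℤ)).obj (K n)
  let f' : ∀ n, K' n ⟶ K' (n + 1) := fun n => (shiftFunctor D (1 : ℤ)).map (f n)
  let F' := Functor.ofSequence (fun n => H.map (f' n))
  have hcop : ∀ (G : ℕ → A), (∃ G' : ℕ → D, G = fun n => H.obj (G' n)) → HasCoproduct G := by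
    rintro G ⟨G', rfl⟩
    exact ⟨⟨⟨_, isColimitCofanMkObjOfIsColimit H G' _ (coproductIsCoproduct G')⟩⟩⟩
  have : HasCoproduct (fun j => H.obj (K j)) := hcop _ ⟨K, rfl⟩
  have : HasCoproduct (fun j => H.obj (K' j)) := hcop _ ⟨K', rfl⟩
  have : HasCoproduct F.obj := hcop _ ⟨K, rfl⟩
  let e : H.obj (∐ K) ≅ ∐ F.obj := PreservesCoproduct.iso H K
  have he : ∀ (G : ℕ → D) (g : ∀ n, G n ⟶ G (n + 1)) [HasCoproduct (fun n => H.obj (G n))],
      (PreservesCoproduct.iso H G).inv ≫ H.map (𝟙 _ - DerLim.shiftMap G g) =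
        (𝟙 _ - DerLim.shiftMap (fun n => H.obj (G n)) (fun n => H.map (g n))) ≫
          (PreservesCoproduct.iso H G).inv := by
    intro G g _
    refine Sigma.hom_ext _ _ fun n => ?_
    simp [DerLim.shiftMap, Preadditive.comp_sub, Preadditive.sub_comp]
  have hmap : ∀ n, F.map (homOfLE (Nat.le_succ n)) = H.map (f n) :=
    fun n => Functor.ofSequence_map_homOfLE_succ _ n
  have hm : Mono (H.map ((shiftFunctor D (1 : ℤ)).map (𝟙 (∐ K) - DerLim.shiftMap K f))) := by
    let s : (shiftFunctor D (1 : ℤ)).obj (∐ K) ≅ ∐ K' := PreservesCoproduct.iso _ K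
    have h1 : (shiftFunctor D (1 : ℤ)).map (𝟙 (∐ K) - DerLim.shiftMap K f) =
        s.hom ≫ (𝟙 _ - DerLim.shiftMap K' f') ≫ s.inv := by
      rw [← cancel_epi s.inv, Iso.inv_hom_id_assoc]
      refine Sigma.hom_ext _ _ fun n => ?_
      simp [s, K', f', DerLim.shiftMap, Preadditive.comp_sub, Preadditive.sub_comp]
    have h2 : H.map (𝟙 _ - DerLim.shiftMap K' f') =
        (PreservesCoproduct.iso H K').hom ≫
          (𝟙 _ - DerLim.shiftMap (fun n => H.obj (K' n)) (fun n => H.map (f' n))) ≫
            (PreservesCoproduct.iso H K').inv := by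
      rw [← he K' f', Iso.hom_inv_id_assoc]
    have : Mono (𝟙 _ - DerLim.shiftMap (fun n => H.obj (K' n)) (fun n => H.map (f' n))) :=
      GrothLib.DerCat.mono_one_sub_shiftMap _ _
    rw [h1, H.map_comp, H.map_comp, h2]
    infer_instance
  let g : (∐ F.obj) ⟶ H.obj L := e.inv ≫ H.map (Sigma.desc i)
  have hg : ∀ n, Sigma.ι F.obj n ≫ g = H.map (i n) := fun n => by
    refine (ι_comp_sigmaComparison_assoc H K n _).trans ?_
    rw [← H.map_comp, Sigma.ι_desc]
  have hx := H.map_distinguished_exact _ hT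
  have hc0 : H.map c = 0 := by
    rw [← cancel_mono (H.map ((shiftFunctor D (1 : ℤ)).map (𝟙 (∐ K) - DerLim.shiftMap K f))),
      zero_comp, ← H.map_comp]
    exact (congrArg H.map (Pretriangulated.comp_distTriang_mor_zero₃₁ _ hT)).trans (H.map_zero _ _)
  have hepi : Epi (H.map (Sigma.desc i)) :=
    (H.map_distinguished_exact _ (Pretriangulated.rot_of_distTriang _ hT)).epi_f hc0
  have hwH : H.map (𝟙 (∐ K) - DerLim.shiftMap K f) ≫ H.map (Sigma.desc i) = 0 := by
    rw [← H.map_comp]
    exact (congrArg H.map (Pretriangulated.comp_distTriang_mor_zero₁₂ _ hT)).trans (H.map_zero _ _)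
  let dlt := 𝟙 (∐ F.obj) - DerLim.shiftMap F.obj (fun n => F.map (homOfLE (Nat.le_succ n)))
  have hd : dlt ≫ e.inv = e.inv ≫ H.map (𝟙 (∐ K) - DerLim.shiftMap K f) := by
    simp only [dlt, hmap]
    exact (he K f).symm
  have hw : dlt ≫ g = 0 := by
    simp only [g]
    rw [reassoc_of% hd, hwH, comp_zero]
  have hcoker : IsColimit (CokernelCofork.ofπ g hw) := by
    have hxe : (ShortComplex.mk dlt g hw).Exact :=
      ShortComplex.exact_of_iso (ShortComplex.isoMk (S₁ := (Pretriangulated.shortComplexOfDistTriangle _ hT).map H)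
          (S₂ := ShortComplex.mk dlt g hw) e e (Iso.refl _) (by
        change e.hom ≫ dlt = H.map (𝟙 (∐ K) - DerLim.shiftMap K f) ≫ e.hom
        rw [← cancel_mono e.inv, Category.assoc, hd, Iso.hom_inv_id_assoc, Category.assoc,
          Iso.hom_inv_id, Category.comp_id]) (by
        change e.hom ≫ g = H.map (Sigma.desc i) ≫ 𝟙 _
        simp [g])) hx
    have : Epi (ShortComplex.mk dlt g hw).g := inferInstanceAs (Epi (e.inv ≫ H.map (Sigma.desc i)))
    exact hxe.gIsCokernel
  have hS := GrothLib.DerCat.telescope_shortExact F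
  have := hS.epi_g
  let E := hS.exact.gIsCokernel.coconePointUniqueUpToIso hcoker
  refine ⟨E, fun n => ?_⟩
  have h3 := hS.exact.gIsCokernel.comp_coconePointUniqueUpToIso_hom hcoker WalkingParallelPair.one
  have h4 : colimit.ι F n = Sigma.ι F.obj n ≫ Sigma.desc (fun n => colimit.ι F n) :=
    (Sigma.ι_desc _ _).symm
  rw [h4, Category.assoc]
  exact (congrArg (Sigma.ι F.obj n ≫ ·) h3).trans (hg n)

end Groth.Agent.S1034
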