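import Groth.Agent.Lib.AlgSp.DecentPoints
import Groth.Statements.S10341
-- import your own Groth.Agent.* helpers here

set_option autoImplicit false
universe u
open CategoryTheory CategoryTheory.Limits AlgebraicGeometry Topology TopologicalSpace
open AlgSp

namespace Groth.Agent.S10341

/-- Let X be an algebraic space over a scheme S and x a point of |X| such that for every affine scheme V
and every representable etale h_V ⟶ X the fibre of |V| → |X| over x is finite. If a : h_U ⟶ X is
representable etale from a scheme U and u, u' are points of U over x with u' specializing to u, then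
u = u'. -/
theorem result {S : Scheme.{u}} (X : AlgSp.Space S) (x : AlgSp.Points X.obj)
    (hx : ∀ (V : Over S) (b : (AlgSp.yon S).obj V ⟶ X.obj), IsAffine V.left → AlgSp.RepWith @Etale b →
      (AlgSp.Points.ofPt b ⁻¹' {x}).Finite)
    {U : Over S} (a : (AlgSp.yon S).obj U ⟶ X.obj) (ha : AlgSp.RepWith @Etale a) (u u' : ↥U.left)
    (hu : AlgSp.Points.ofPt a u = x) (hu' : AlgSp.Points.ofPt a u' = x) (hs : u' ⤳ u) : u = u' := by
  exact GrothLib.AlgSp.eq_of_specializes_of_finite_fibres X.property hx ha hu hu' hs

end Groth.Agent.S10341
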