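import Groth.Agent.Lib.AlgSp.DecentPoints
import Groth.Statements.S10343
-- import your own Groth.Agent.* helpers here

set_option autoImplicit false
universe u
open CategoryTheory CategoryTheory.Limits AlgebraicGeometry Topology TopologicalSpace
open AlgSp

namespace Groth.Agent.S10343

/-- Let X be an algebraic space over a scheme S and x' ⤳ x a specialization in |X|, where x' is
represented by a monomorphism Spec k ⟶ X which is representable quasi-compact. Then for every
representable etale a : h_U ⟶ X from a scheme U and every point u of U over x there is a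
generization u' of u in U mapping to x'. -/
theorem result {S : Scheme.{u}} (X : AlgSp.Space S) (x x' : AlgSp.Points X.obj)
    (h : x' ⤳ x)
    (hx' : ∃ p : AlgSp.FieldPt X.obj, AlgSp.Points.mk p = x' ∧ Mono p.toHom ∧ AlgSp.RepWith @QuasiCompact p.toHom)
    {U : Over S} (a : (AlgSp.yon S).obj U ⟶ X.obj) (ha : AlgSp.RepWith @Etale a) (u : ↥U.left)
    (hu : AlgSp.Points.ofPt a u = x) :
    ∃ u' : ↥U.left, u' ⤳ u ∧ AlgSp.Points.ofPt a u' = x' := by
  obtain ⟨p, rfl, -, hp⟩ := hx'
  exact GrothLib.AlgSp.exists_specializes_of_finite_fibres h
    (GrothLib.AlgSp.finite_fibre_of_qc_point X.property p hp) ha hu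

end Groth.Agent.S10343
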