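import Groth.Agent.Lib.AlgSp.DecentPoints
import Groth.Agent.Lib.AlgSp.Space
import Groth.Statements.S10344
-- import your own Groth.Agent.* helpers here

set_option autoImplicit false
universe u
open CategoryTheory CategoryTheory.Limits AlgebraicGeometry Topology TopologicalSpace
open AlgSp

namespace Groth.Agent.S10344

/-- Let S be a scheme, Y and X algebraic spaces over S, and f : Y ⟶ X a flat morphism, and let x' ⤳ x be
a specialization in |X|, where x' is represented by a monomorphism Spec k ⟶ X which is representable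
quasi-compact (for instance X decent). Then generalizations lift along f at x: every y ∈ |Y| over x
has a generization y' over x'. -/
theorem result {S : Scheme.{u}} {X Y : AlgSp.Space S} (f : Y ⟶ X)
    (hf : AlgSp.LocP @Flat f.hom) (x x' : AlgSp.Points X.obj) (h : x' ⤳ x)
    (hx' : ∃ p : AlgSp.FieldPt X.obj, AlgSp.Points.mk p = x' ∧ Mono p.toHom ∧ AlgSp.RepWith @QuasiCompact p.toHom)
    (y : AlgSp.Points Y.obj) (hy : AlgSp.Points.map f.hom y = x) :
    ∃ y' : AlgSp.Points Y.obj, y' ⤳ y ∧ AlgSp.Points.map f.hom y' = x' := by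
  obtain ⟨p, rfl, -, hp⟩ := hx'
  obtain ⟨V, q, qe, qs⟩ := X.property.atlas
  obtain ⟨U, r, α, re, hr, hrs⟩ := GrothLib.AlgSp.exists_chart_over Y.property X.property f.hom q qe
  obtain ⟨w, hw⟩ := GrothLib.AlgSp.surjective_ofPt_of_repWith (hrs qs) y
  haveI : Flat α.left := hf r q α re qe hr
  have hv : AlgSp.Points.ofPt q (α.left w) = x := by
    rw [← GrothLib.AlgSp.ofPt_map_comp, ← hr, ← AlgSp.Points.map_ofPt, hw, hy]
  obtain ⟨v', hv', hv'x⟩ := GrothLib.AlgSp.exists_specializes_of_finite_fibres h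
    (GrothLib.AlgSp.finite_fibre_of_qc_point X.property p hp) qe hv
  obtain ⟨w', hw', hαw'⟩ := Flat.generalizingMap α.left (a := w) (b := v') hv'
  refine ⟨AlgSp.Points.ofPt r w', hw ▸ hw'.map (AlgSp.Points.continuous_ofPt r), ?_⟩
  rw [AlgSp.Points.map_ofPt, hr, GrothLib.AlgSp.ofPt_map_comp, hαw', hv'x]

end Groth.Agent.S10344
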