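import Groth.Agent.Lib.AlgSp.PointProps
import Groth.Statements.S10347
-- import your own Groth.Agent.* helpers here

set_option autoImplicit false
universe u
open CategoryTheory CategoryTheory.Limits AlgebraicGeometry Topology TopologicalSpace
open AlgSp

namespace Groth.Agent.S10347

/-- For a locally quasi-finite morphism f : X ⟶ Y of algebraic spaces over a scheme S (locally
quasi-finite and locally of finite type, etale locally on source and target), dim X ≤ dim Y. -/
theorem result {S : Scheme.{u}} {X Y : AlgSp.Space S} (f : X ⟶ Y)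
    (hf : AlgSp.LocP (@LocallyQuasiFinite ⊓ @LocallyOfFiniteType) f.hom) :
    AlgSp.dim X.obj ≤ AlgSp.dim Y.obj := by
  refine iSup_le fun U₀ => iSup_le fun a₀ => iSup_le fun ha₀ => ?_
  obtain ⟨V, q, qe, qs⟩ := Y.property.atlas
  obtain ⟨U, p, α, pe, hp, hps⟩ := GrothLib.AlgSp.exists_chart_over X.property Y.property f.hom q qe
  have : LocallyQuasiFinite α.left := (hf p q α pe qe hp).1
  refine le_trans ?_ (le_iSup_of_le V (le_iSup_of_le q (le_iSup_of_le qe le_rfl)))
  letI := specializationOrder ↥U₀.left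
  letI := specializationOrder ↥V.left
  rw [GrothLib.EtFibre.topologicalKrullDim_eq_krullDim, GrothLib.EtFibre.topologicalKrullDim_eq_krullDim]
  refine iSup_le fun l => ?_
  obtain ⟨u, hu⟩ := GrothLib.AlgSp.surjective_ofPt_of_repWith (hps qs) (Points.ofPt a₀ l.head)
  obtain ⟨W, w₁, w₂, w, he₁, he₂, -, hw₁, hw₂⟩ := GrothLib.AlgSp.exists_common_chart X.property ha₀ pe hu.symm
  refine le_trans (WithBot.coe_le_coe.2 Order.length_le_coheight_head) (le_trans ?_ (Order.coheight_le_krullDim (α.left u)))
  have h1 := GrothLib.AlgSp.ringKrullDim_stalk_eq_of_etale w₁.left w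
  have h2 := GrothLib.AlgSp.ringKrullDim_stalk_eq_of_etale w₂.left w
  have h3 := GrothLib.AlgSp.ringKrullDim_stalk_le_of_lqf α.left u
  rw [hw₁] at h1
  rw [hw₂] at h2
  rw [ringKrullDim_stalk_eq_coheight, ringKrullDim_stalk_eq_coheight] at h1 h2 h3
  exact h1 ▸ h2 ▸ h3

end Groth.Agent.S10347
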