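import Groth.Agent.Lib.AlgSp.PointProps
import Groth.Statements.S10348
-- import your own Groth.Agent.* helpers here

set_option autoImplicit false
universe u
open CategoryTheory CategoryTheory.Limits AlgebraicGeometry Topology TopologicalSpace
open AlgSp

namespace Groth.Agent.S10348

/-- Let S be a scheme, X and Y algebraic spaces over S, and f : X ⟶ Y a morphism which is locally
quasi-finite; let x ∈ |X| have image y ∈ |Y|. Then the local ring of X at x has dimension at most
that of the local ring of Y at the point y (both dimensions read on etale charts through the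
points). -/
theorem result {S : Scheme.{u}} {X Y : AlgSp.Space S} (f : X ⟶ Y)
    (hf : AlgSp.LocP (@LocallyQuasiFinite ⊓ @LocallyOfFiniteType) f.hom) (x : AlgSp.Points X.obj)
    (d e : WithBot ℕ∞)
    (hx : AlgSp.HasAt (fun U u => ringKrullDim ↥(U.presheaf.stalk u) = d) X.obj x)
    (hy : AlgSp.HasAt (fun V v => ringKrullDim ↥(V.presheaf.stalk v) = e) Y.obj (AlgSp.Points.map f.hom x)) :
    d ≤ e := by
  obtain ⟨V, q, qe, qs⟩ := Y.property.atlas
  obtain ⟨U, p, α, pe, hp, hps⟩ := GrothLib.AlgSp.exists_chart_over X.property Y.property f.hom q qe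
  obtain ⟨u, rfl⟩ := GrothLib.AlgSp.surjective_ofPt_of_repWith (hps qs) x
  have : LocallyQuasiFinite α.left := (hf p q α pe qe hp).1
  rw [Points.map_ofPt, hp, GrothLib.AlgSp.ofPt_map_comp] at hy
  rw [← (GrothLib.AlgSp.hasAt_iff (Q := fun U u => ringKrullDim ↥(U.presheaf.stalk u) = d) X.property
    (fun A B k hk z => by rw [GrothLib.AlgSp.ringKrullDim_stalk_eq_of_etale k z]) pe u).1 hx,
    ← (GrothLib.AlgSp.hasAt_iff (Q := fun U u => ringKrullDim ↥(U.presheaf.stalk u) = e) Y.property
    (fun A B k hk z => by rw [GrothLib.AlgSp.ringKrullDim_stalk_eq_of_etale k z]) qe (α.left u)).1 hy]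
  exact GrothLib.AlgSp.ringKrullDim_stalk_le_of_lqf α.left u

end Groth.Agent.S10348
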