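import Groth.Agent.Lib.AlgSp.Decent
import Groth.Agent.Lib.AlgSp.FlatMono
import Groth.Agent.Lib.AlgSp.LocP
import Groth.Statements.S10352
-- import your own Groth.Agent.* helpers here

set_option autoImplicit false
universe u
open CategoryTheory CategoryTheory.Limits AlgebraicGeometry Topology TopologicalSpace
open AlgSp

namespace Groth.Agent.S10352

/-- Let S be a scheme, X and Y algebraic spaces over S, and f : X ⟶ Y an etale morphism. If Y is decent
then X is decent. -/
theorem result {S : Scheme.{u}} {X Y : AlgSp.Space S} (f : X ⟶ Y)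
    (hf : AlgSp.IsEtaleMor f.hom) (hY : AlgSp.IsDecent Y.obj) : AlgSp.IsDecent X.obj := by
  refine GrothLib.AlgSp.isDecent_of_fibres (ψ := f.hom) hY fun q P fst snd sq => ?_
  have hT := AlgSp.IsAlgSpace.yon_obj q.pt
  have hP := GrothLib.AlgSp.isAlgSpace_pullback Y.property.diag X.property hT sq
  have hl := GrothLib.AlgSp.EtLocal.etale.locP_of_isPullback X.property Y.property hT sq
    (GrothLib.AlgSp.locP_of_isEtaleMor Y.property hf)
  obtain ⟨W, ⟨hW⟩⟩ := (GrothLib.AlgSp.isRepresentable_of_etale_to_field hP (k := q.K) (str := q.str)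
    (GrothLib.AlgSp.isEtaleMor_of_locP hT hl)).has_representation
  exact (GrothLib.AlgSp.isDecent_yon W).of_iso (AlgSp.isoOfRepresentableBy hW)

end Groth.Agent.S10352
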