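import Groth.Statements.S10354
import Groth.Agent.Lib.AlgSp.GenericFinite
import Groth.Agent.Lib.AlgSp.DecentBridge
import Groth.Agent.Lib.AlgSp.FibreNoeth
import Groth.Agent.Lib.AlgSp.EtaleLocallyProps
import Groth.Agent.Lib.AlgSp.Diag
-- import your own Groth.Agent.* helpers here

set_option autoImplicit false
universe u
open CategoryTheory CategoryTheory.Limits AlgebraicGeometry Topology TopologicalSpace
open AlgSp GrothLib.AlgSp
set_option backward.isDefEq.respectTransparency false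

namespace Groth.Agent.S10354

open Topology in
theorem compactSpace_of_etale_finite_fibres {R U : Scheme.{u}} (f : R ⟶ U) [Etale f] [R.IsSeparated]
    [IsAffine U] [IsLocallyNoetherian U] (hfin : ∀ u : U, {r : R | f r = u}.Finite) : CompactSpace R := by
  haveI : IsNoetherian U := {}
  suffices h : ∀ Z : TopologicalSpace.Closeds U, ∃ O : R.Opens, IsCompact (O : Set R) ∧ f ⁻¹' (Z : Set U) ⊆ O by
    obtain ⟨O, hO, hle⟩ := h ⊤
    refine ⟨?_⟩
    rwa [show (Set.univ : Set R) = O from (Set.univ_subset_iff.1 fun r _ => hle (Set.mem_univ _)).symm]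
  intro Z
  induction Z using WellFoundedLT.induction with
  | _ Z ih =>
  rcases (Z : Set U).eq_empty_or_nonempty with hZ | hne
  · exact ⟨⊥, by simp, by simp [hZ]⟩
  by_cases hirr : IsPreirreducible (Z : Set U)
  swap
  · rw [isPreirreducible_iff_isClosed_union_isClosed] at hirr
    push Not at hirr
    obtain ⟨z₁, z₂, h₁, h₂, hle, hn₁, hn₂⟩ := hirr
    have l₁ : (Z ⊓ ⟨z₁, h₁⟩ : TopologicalSpace.Closeds U) < Z := lt_of_le_of_ne inf_le_left fun e =>
      hn₁ fun x hx => ((SetLike.ext_iff.1 e x).2 hx).2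
    have l₂ : (Z ⊓ ⟨z₂, h₂⟩ : TopologicalSpace.Closeds U) < Z := lt_of_le_of_ne inf_le_left fun e =>
      hn₂ fun x hx => ((SetLike.ext_iff.1 e x).2 hx).2
    obtain ⟨O₁, c₁, s₁⟩ := ih _ l₁
    obtain ⟨O₂, c₂, s₂⟩ := ih _ l₂
    refine ⟨O₁ ⊔ O₂, c₁.union c₂, fun r hr => ?_⟩
    rcases hle hr with h | h
    · exact Or.inl (s₁ ⟨hr, h⟩)
    · exact Or.inr (s₂ ⟨hr, h⟩)
  obtain ⟨η, hη⟩ := QuasiSober.sober (⟨hne, hirr⟩ : IsIrreducible (Z : Set U)) Z.2
  -- the closed subscheme
  let I := Scheme.IdealSheafData.vanishingIdeal Z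
  let ι := I.subschemeι
  have hι : Set.range ι = (Z : Set U) := by
    rw [Scheme.IdealSheafData.range_subschemeι]; exact Scheme.IdealSheafData.coe_support_vanishingIdeal Z
  haveI : IsAffine I.subscheme := isAffine_of_isAffineHom ι
  -- a quasi-compact open containing the generic fibre
  obtain ⟨t, ht, hcov⟩ : ∃ O : R.Opens, IsCompact (O : Set R) ∧ ∀ r, f r = η → r ∈ O := by
    have : ∀ r : R, ∃ O : R.Opens, IsAffineOpen O ∧ r ∈ O := fun r =>
      let ⟨O, hO, hr, _⟩ := exists_isAffineOpen_mem_and_subset (U := (⊤ : R.Opens)) (x := r) trivial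
      ⟨O, hO, hr⟩
    choose O hO hr using this
    refine ⟨⨆ r ∈ (hfin η).toFinset, O r, ?_, fun r h => ?_⟩
    · simp only [TopologicalSpace.Opens.coe_iSup]
      exact (hfin η).toFinset.finite_toSet.isCompact_biUnion fun r _ => (hO r).isCompact
    · exact TopologicalSpace.Opens.mem_iSup.2 ⟨r, TopologicalSpace.Opens.mem_iSup.2 ⟨(hfin η).mem_toFinset.2 h, hr r⟩⟩
  let R' := pullback f ι
  let π := pullback.snd f ι
  let j := pullback.fst f ι
  let O' : R'.Opens := j ⁻¹ᵁ t
  haveI : CompactSpace (O' : Scheme.{u}) := isCompact_iff_compactSpace.1 (QuasiCompact.isCompact_preimage (f := j) _ t.2 ht)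
  haveI : LocallyQuasiFinite π := locallyQuasiFinite_of_unramified _
  haveI : R'.IsSeparated := ⟨by rw [← terminal.comp_from j]; infer_instance⟩
  obtain ⟨η', hη'⟩ : η ∈ Set.range ι := hι.symm ▸ hη.mem
  have hgen : ∀ z : I.subscheme, η' ⤳ z := fun z => by
    rw [← ι.isEmbedding.isInducing.specializes_iff, hη', hη.specializes_iff_mem]
    exact hι.subset ⟨z, rfl⟩
  have hmax : ∀ z : I.subscheme, z ⤳ η' → z = η' := fun z h => (h.antisymm (hgen z)).eq
  obtain ⟨g, hg, huc⟩ := GrothLib.AlgSp.exists_universallyClosed_nhd_maximal (O'.ι ≫ π) hmax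
  haveI := huc g dvd_rfl
  let V := I.subscheme.basicOpen g
  -- the open `O'` is closed over `V`
  have key : ∀ r : R', π r ∈ V → r ∈ O' := by
    let m : ((O'.ι ≫ π) ⁻¹ᵁ V : (O' : Scheme.{u}).Opens).toScheme ⟶ (π ⁻¹ᵁ V : R'.Opens).toScheme :=
      IsOpenImmersion.lift (π ⁻¹ᵁ V).ι (((O'.ι ≫ π) ⁻¹ᵁ V).ι ≫ O'.ι) (by
        rw [Scheme.Opens.range_ι]
        rintro _ ⟨x, rfl⟩
        exact x.2)
    have hm : m ≫ (π ∣_ V) = (O'.ι ≫ π) ∣_ V := by
      rw [← cancel_mono V.ι, Category.assoc, morphismRestrict_ι, morphismRestrict_ι]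
      simp only [m, IsOpenImmersion.lift_fac_assoc, Category.assoc]
    haveI : UniversallyClosed (m ≫ (π ∣_ V)) := hm ▸ inferInstance
    haveI : IsSeparated π := inferInstanceAs (IsSeparated (pullback.snd f ι))
    haveI : UniversallyClosed m := UniversallyClosed.of_comp_of_isSeparated m (π ∣_ V)
    have hclosed := m.isClosedMap.isClosed_range
    intro r hr
    by_contra hrO
    let r₀ : (π ⁻¹ᵁ V : R'.Opens).toScheme := ⟨r, hr⟩
    have hr₀ : r₀ ∉ Set.range m := by
      rintro ⟨x, hx⟩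
      apply hrO
      have : (m ≫ (π ⁻¹ᵁ V).ι) x = r := by rw [Scheme.Hom.comp_apply, hx]; rfl
      rw [← this]
      simp only [m, IsOpenImmersion.lift_fac, Scheme.Hom.comp_apply]
      exact x.1.2
    let φ := (π ⁻¹ᵁ V).ι ≫ π
    haveI : Etale φ := inferInstance
    have hopen : IsOpen (φ '' (Set.range m)ᶜ) := φ.isOpenMap _ hclosed.isOpen_compl
    obtain ⟨x, hx, hxη⟩ := (hgen (φ r₀)).mem_open hopen ⟨r₀, hr₀, rfl⟩
    have hxO : x.1 ∈ O' := hcov _ (by
      rw [← hη', ← hxη]
      exact congrArg (fun m : R' ⟶ U => m x.1) pullback.condition)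
    refine hx ⟨⟨⟨x.1, hxO⟩, ?_⟩, ?_⟩
    · exact x.2
    · apply (π ⁻¹ᵁ V).ι.isOpenEmbedding.injective
      rw [← Scheme.Hom.comp_apply, IsOpenImmersion.lift_fac]
      rfl
  -- the rest of `Z`
  have hW : IsClosed (ι '' (V : Set I.subscheme)ᶜ) := ι.isClosedEmbedding.isClosedMap _ V.2.isClosed_compl
  have hlt : (⟨_, hW⟩ : TopologicalSpace.Closeds U) < Z := by
    refine lt_of_le_of_ne (fun x ⟨y, _, hy⟩ => hι.subset ⟨y, hy⟩) fun e => ?_
    obtain ⟨y, hy, he⟩ : η ∈ ι '' (V : Set I.subscheme)ᶜ := (SetLike.ext_iff.1 e η).2 hη.mem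
    exact hy ((ι.isEmbedding.injective (he.trans hη'.symm)) ▸ hg)
  obtain ⟨O₂, c₂, s₂⟩ := ih _ hlt
  refine ⟨t ⊔ O₂, ht.union c₂, fun r hr => ?_⟩
  obtain ⟨z, hz⟩ := hι.symm.subset hr
  obtain ⟨r', hr₁, hr₂⟩ := Scheme.Pullback.exists_preimage_pullback r z hz.symm
  by_cases hzV : z ∈ V
  · exact Or.inl (hr₁ ▸ key r' (show π r' ∈ V by rw [show π r' = z from hr₂]; exact hzV))
  · exact Or.inr (s₂ (show f r ∈ ι '' (V : Set I.subscheme)ᶜ from ⟨z, hzV, hz⟩))

theorem repWith_diag_of_atlas' {S : Scheme.{u}} {P : MorphismProperty Scheme.{u}} [P.IsStableUnderBaseChange]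
    (hP : FppfDescends P) {X : Sp S} (hX : IsAlgSpace X)
    (h : ∀ ⦃R U : Over S⦄ (p : (yon S).obj U ⟶ X) (t s : R ⟶ U), RepWith @Etale p →
      IsPullback ((yon S).map t) ((yon S).map s) p p → Mono (prod.lift t s).left →
      P (prod.lift t s).left) : RepWith P (Limits.diag X) := by
  obtain ⟨U, p, pe, ps⟩ := hX.atlas
  obtain ⟨R, t, s, sq⟩ := exists_isPullback_yon hX.diag p p
  have : Sheaf.IsLocallySurjective p := chart_isLocallySurjective pe ps
  have hb : Sheaf.IsLocallySurjective (prod.map p p) := isLocallySurjective_of_repWith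
    (repWith_prodMap (repWith_mono pe fun _ _ g (_ : Etale g) => inferInstance)
      (repWith_mono pe fun _ _ g (_ : Etale g) => inferInstance))
    (repWith_prodMap (repWith_mono pe fun _ _ g (_ : Etale g) => inferInstance)
      (repWith_mono pe fun _ _ g (_ : Etale g) => inferInstance))
    (repWith_prodMap ps ps)
  have sq' : IsPullback ((yon S).map t ≫ p) (prod.lift ((yon S).map t) ((yon S).map s))
      (Limits.diag X) (prod.map p p) := by
    refine isPullback_of_yon ?_ fun T a b hab => ?_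
    · apply prod.hom_ext
      · simp only [Limits.diag, Category.assoc, prod.comp_lift, prod.map_fst, Category.comp_id,
          prod.lift_fst, prod.lift_fst_assoc]
      · simp only [Limits.diag, Category.assoc, prod.comp_lift, prod.map_snd, Category.comp_id,
          prod.lift_snd, prod.lift_snd_assoc, sq.w]
    · have h1 := congrArg (fun x => x ≫ prod.fst) hab
      have h2 := congrArg (fun x => x ≫ prod.snd) hab
      simp only [Category.assoc, prod.lift_fst, prod.lift_snd, prod.map_fst, prod.map_snd,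
        Category.comp_id] at h1 h2
      refine ⟨sq.lift (b ≫ prod.fst) (b ≫ prod.snd) (by simp only [Category.assoc]; rw [← h1, h2]),
        ⟨?_, ?_⟩, ?_⟩
      · rw [sq.lift_fst_assoc, Category.assoc, h1]
      · apply prod.hom_ext <;>
          simp only [Category.assoc, prod.lift_fst, prod.lift_snd, IsPullback.lift_fst, IsPullback.lift_snd]
      · rintro c ⟨-, c₂⟩
        apply sq.hom_ext
        · rw [sq.lift_fst, ← c₂, Category.assoc, prod.lift_fst]
        · rw [sq.lift_snd, ← c₂, Category.assoc, prod.lift_snd]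
  refine repWith_of_base hX.diag (prod.map p p) sq' hP ?_
  have e : prod.lift ((yon S).map t) ((yon S).map s) =
      (yon S).map (prod.lift t s) ≫ prodComparison (yon S) U U := by
    simp only [prodComparison, prod.comp_lift, ← Functor.map_comp, prod.lift_fst, prod.lift_snd]
  rw [e]
  have : P.RespectsIso := MorphismProperty.IsStableUnderBaseChange.respectsIso
  refine (MorphismProperty.cancel_right_of_respectsIso (RepWith P) _ _).2 ((repWith_yon_map_iff P _).2 ?_)
  have hm : Mono (prod.lift t s) := ⟨fun a b hab => by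
    have ht : a ≫ t = b ≫ t := by
      simpa only [Category.assoc, prod.lift_fst] using congrArg (fun x => x ≫ (prod.fst : U ⨯ U ⟶ U)) hab
    have hs : a ≫ s = b ≫ s := by
      simpa only [Category.assoc, prod.lift_snd] using congrArg (fun x => x ≫ (prod.snd : U ⨯ U ⟶ U)) hab
    refine (yon S).map_injective (sq.hom_ext ?_ ?_) <;> rw [← Functor.map_comp, ← Functor.map_comp]
    · rw [ht]
    · rw [hs]⟩
  exact h p t s pe sq ((Over.forget S).map_mono (prod.lift t s))


/-- A locally Noetherian decent algebraic space X over a scheme S is quasi-separated over S (its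
diagonal X ⟶ X ×_S X is representable quasi-compact). (The published statement concludes
quasi-separatedness in the absolute sense, i.e. for the diagonal over the integers; this row
concludes the relative notion over S, which the absolute one implies.) -/
theorem result {S : Scheme.{u}} (X : AlgSp.Space S)
    (hN : AlgSp.IsLocNoethSp X.obj) (hX : AlgSp.IsDecent X.obj) : AlgSp.IsQuasiSeparatedSp X.obj := by
  refine repWith_diag_of_atlas' fppfDescends_quasiCompact X.property fun R U φ t s hφ sq hm => ?_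
  haveI : IsLocallyNoetherian U.left :=
    etaleLocally_chart (Q := IsLocallyNoetherian) (fun _ _ k h₁ h₂ => isLocallyNoetherian_of_etale k h₁ h₂)
      (fun _ _ k h₁ h₂ h₃ => isLocallyNoetherian_desc k h₁ h₂ h₃) hN φ hφ
  haveI : Etale t.left := hφ.2 _ _ _ sq.flip
  haveI : Etale s.left := hφ.2 _ _ _ sq
  haveI := hm
  let p₁ := (prod.fst : U ⨯ U ⟶ U).left
  let p₂ := (prod.snd : U ⨯ U ⟶ U).left
  let l := (prod.lift t s).left
  have hl₁ : l ≫ p₁ = t.left := by rw [← Over.comp_left, prod.lift_fst]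
  have hl₂ : l ≫ p₂ = s.left := by rw [← Over.comp_left, prod.lift_snd]
  show QuasiCompact l
  let W : U.left.affineOpens × U.left.affineOpens → (U ⨯ U).left.Opens := fun O => p₁ ⁻¹ᵁ O.1.1 ⊓ p₂ ⁻¹ᵁ O.2.1
  rw [IsZariskiLocalAtTarget.iff_of_iSup_eq_top (P := @QuasiCompact) W (top_le_iff.1 fun z _ => by
    obtain ⟨O₁, hO₁, h₁, -⟩ := exists_isAffineOpen_mem_and_subset (U := (⊤ : U.left.Opens)) (x := p₁ z) trivial
    obtain ⟨O₂, hO₂, h₂, -⟩ := exists_isAffineOpen_mem_and_subset (U := (⊤ : U.left.Opens)) (x := p₂ z) trivial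
    exact TopologicalSpace.Opens.mem_iSup.2 ⟨(⟨O₁, hO₁⟩, ⟨O₂, hO₂⟩), h₁, h₂⟩)]
  rintro ⟨⟨O₁, hO₁⟩, ⟨O₂, hO₂⟩⟩
  let D := W (⟨O₁, hO₁⟩, ⟨O₂, hO₂⟩)
  haveI : IsAffine (O₁ : Scheme.{u}) := hO₁
  haveI : IsAffine (O₂ : Scheme.{u}) := hO₂
  -- the target is separated
  let a₁ : (D : Scheme.{u}) ⟶ O₁ := IsOpenImmersion.lift O₁.ι (D.ι ≫ p₁) (by
    rw [Scheme.Opens.range_ι]; rintro _ ⟨x, rfl⟩; exact x.2.1)
  let a₂ : (D : Scheme.{u}) ⟶ O₂ := IsOpenImmersion.lift O₂.ι (D.ι ≫ p₂) (by
    rw [Scheme.Opens.range_ι]; rintro _ ⟨x, rfl⟩; exact x.2.2)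
  let A := pullback (terminal.from (O₁ : Scheme.{u})) (terminal.from (O₂ : Scheme.{u}))
  let μ : (D : Scheme.{u}) ⟶ A := pullback.lift a₁ a₂ (terminal.hom_ext _ _)
  haveI : Mono μ := ⟨fun {T} a b e => by
    have e₁ : a ≫ a₁ = b ≫ a₁ := by simpa [μ, A] using congrArg (fun m => m ≫ pullback.fst _ _) e
    have e₂ : a ≫ a₂ = b ≫ a₂ := by simpa [μ, A] using congrArg (fun m => m ≫ pullback.snd _ _) e
    have f₁ : a ≫ D.ι ≫ p₁ = b ≫ D.ι ≫ p₁ := by
      simpa [a₁] using congrArg (fun m => m ≫ O₁.ι) e₁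
    have f₂ : a ≫ D.ι ≫ p₂ = b ≫ D.ι ≫ p₂ := by
      simpa [a₂] using congrArg (fun m => m ≫ O₂.ι) e₂
    rw [← cancel_mono D.ι]
    have hw : (a ≫ D.ι) ≫ (U ⨯ U).hom = (b ≫ D.ι) ≫ (U ⨯ U).hom := by
      rw [← Over.w (prod.fst : U ⨯ U ⟶ U)]
      simp only [Category.assoc]
      rw [reassoc_of% f₁]
    let a' : Over.mk ((a ≫ D.ι) ≫ (U ⨯ U).hom) ⟶ U ⨯ U := Over.homMk (a ≫ D.ι) rfl
    let b' : Over.mk ((a ≫ D.ι) ≫ (U ⨯ U).hom) ⟶ U ⨯ U := Over.homMk (b ≫ D.ι) hw.symm
    have : a' = b' := prod.hom_ext (Over.OverMorphism.ext ((Category.assoc _ _ _).trans (f₁.trans (Category.assoc _ _ _).symm)))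
      (Over.OverMorphism.ext ((Category.assoc _ _ _).trans (f₂.trans (Category.assoc _ _ _).symm)))
    exact congrArg (fun m => m.left) this⟩
  haveI : A.IsSeparated := inferInstance
  haveI : (D : Scheme.{u}).IsSeparated := ⟨by rw [← terminal.comp_from μ]; infer_instance⟩
  haveI : QuasiSeparatedSpace ↥(D : Scheme.{u}) :=
    quasiSeparatedSpace_of_quasiSeparated (terminal.from (D : Scheme.{u}))
  haveI : Mono (l ∣_ D) := MorphismProperty.of_isPullback (P := MorphismProperty.monomorphisms Scheme.{u})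
    (isPullback_morphismRestrict l D).flip hm
  haveI : (l ⁻¹ᵁ D : Scheme.{u}).IsSeparated := ⟨by rw [← terminal.comp_from (l ∣_ D)]; infer_instance⟩
  let f : (l ⁻¹ᵁ D : Scheme.{u}) ⟶ O₂ := (l ∣_ D) ≫ a₂
  have hf : f ≫ O₂.ι = (l ⁻¹ᵁ D).ι ≫ s.left := by
    simp only [f, a₂, Category.assoc, IsOpenImmersion.lift_fac]
    rw [morphismRestrict_ι_assoc, hl₂]
  haveI : Etale (f ≫ O₂.ι) := by rw [hf]; infer_instance
  haveI : Etale f := Etale.of_comp f O₂.ι
  haveI : IsLocallyNoetherian (O₂ : Scheme.{u}) := isLocallyNoetherian_of_isOpenImmersion O₂.ι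
  haveI : CompactSpace ↥(l ⁻¹ᵁ D : Scheme.{u}) := compactSpace_of_etale_finite_fibres f fun v => by
    let q₀ := FieldPt.ofPt φ (O₂.ι v)
    obtain ⟨q, hq, hmq, hqc⟩ := hX (Points.ofPt φ (O₂.ι v))
    haveI := hmq
    obtain ⟨m, hm'⟩ := exists_hom_to_mono_fieldPt X.property q₀ q hq.symm
    haveI : IsAffine q₀.pt.left := inferInstanceAs (IsAffine (Spec (CommRingCat.of q₀.K)))
    haveI : IsAffine q.pt.left := inferInstanceAs (IsAffine (Spec (CommRingCat.of q.K)))
    have hq₀ : RepWith @QuasiCompact q₀.toHom := by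
      rw [← hm']
      haveI : IsAffineHom m.left := isAffineHom_of_isAffine _
      exact repWith_comp ((repWith_yon_map_iff @QuasiCompact m).2 inferInstance) hqc
    let i : Over.mk (O₁.ι ≫ U.hom) ⟶ U := Over.homMk O₁.ι rfl
    haveI : IsAffine (Over.mk (O₁.ι ≫ U.hom)).left := hO₁
    have hb : RepWith @Etale ((yon S).map i ≫ φ) :=
      repWith_comp ((repWith_yon_map_iff _ _).2 (inferInstanceAs (Etale O₁.ι))) hφ
    obtain ⟨V, c, d, sqV⟩ := exists_isPullback_yon X.property.diag q₀.toHom ((yon S).map i ≫ φ)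
    haveI := compact_pullback_of_qc q₀ hq₀ sqV
    obtain ⟨-, hW, -⟩ := discrete_fibre hb q₀ sqV
    haveI := hW
    haveI : Finite ↥V.left := finite_of_compact_of_discrete
    -- points over `v` lift to `V`
    let cU : q₀.pt ⟶ U := Over.homMk (U.left.fromSpecResidueField (O₂.ι v)) rfl
    have hcU : q₀.toHom = (yon S).map cU ≫ φ := FieldPt.toHom_ofPt _ _
    obtain ⟨ρ, hρ⟩ := (yon S).map_surjective (sq.lift ((yon S).map (d ≫ i)) ((yon S).map (c ≫ cU)) (by
      rw [Functor.map_comp, Functor.map_comp, Category.assoc, Category.assoc, ← hcU]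
      exact sqV.w.symm))
    refine ((Set.finite_range ρ.left).preimage (l ⁻¹ᵁ D).ι.isOpenEmbedding.injective.injOn).subset fun r hr => ?_
    let r₀ := (l ⁻¹ᵁ D).ι r
    have hs : s.left r₀ = O₂.ι v := by
      rw [← Scheme.Hom.comp_apply, ← hf, Scheme.Hom.comp_apply, show f r = v from hr]
    have ht : t.left r₀ ∈ O₁ := by rw [← hl₁]; exact r.2.1
    let P₀ := pullback s cU
    obtain ⟨z, hz₁, hz₂⟩ := Scheme.exists_preimage_of_isPullback (isPullback_left (IsPullback.of_hasPullback s cU))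
      r₀ (IsLocalRing.closedPoint _) (hs.trans (Scheme.fromSpecResidueField_apply _ _).symm)
    let z' : ↥(Over.mk (O₁.ι ≫ U.hom)).left := ⟨t.left r₀, ht⟩
    -- lift the point to `V`
    let P₁ := pullback (pullback.fst s cU ≫ t) i
    obtain ⟨y, hy₁, hy₂⟩ := Scheme.exists_preimage_of_isPullback
      (isPullback_left (IsPullback.of_hasPullback (pullback.fst s cU ≫ t) i)) z z'
      (by rw [Over.comp_left, Scheme.Hom.comp_apply, hz₁]; rfl)
    let e : P₁ ⟶ V := (yon S).preimage (sqV.lift ((yon S).map (pullback.fst _ _ ≫ pullback.snd s cU))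
      ((yon S).map (pullback.snd _ _)) (by
        rw [hcU, ← Functor.map_comp_assoc, ← Functor.map_comp_assoc, Category.assoc, ← pullback.condition,
          ← pullback.condition (f := pullback.fst s cU ≫ t) (g := i)]
        simp only [Functor.map_comp, Category.assoc]
        rw [sq.w]))
    have he : e ≫ ρ = pullback.fst _ _ ≫ pullback.fst s cU := by
      have ρ₁ : ρ ≫ t = d ≫ i := (yon S).map_injective (by rw [Functor.map_comp, hρ, sq.lift_fst])
      have ρ₂ : ρ ≫ s = c ≫ cU := (yon S).map_injective (by rw [Functor.map_comp, hρ, sq.lift_snd])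
      have e₁ : e ≫ c = pullback.fst _ _ ≫ pullback.snd s cU := (yon S).map_injective (by simp [e])
      have e₂ : e ≫ d = pullback.snd _ _ := (yon S).map_injective (by simp [e])
      apply (yon S).map_injective
      refine sq.hom_ext ?_ ?_ <;> rw [← Functor.map_comp, ← Functor.map_comp] <;> congr 1
      · rw [Category.assoc, ρ₁, reassoc_of% e₂, ← pullback.condition, Category.assoc]
      · rw [Category.assoc, ρ₂, reassoc_of% e₁, ← pullback.condition, Category.assoc]
    refine ⟨e.left y, ?_⟩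
    rw [← Scheme.Hom.comp_apply, ← Over.comp_left, he, Over.comp_left, Scheme.Hom.comp_apply, hy₁, hz₁]
  haveI : QuasiSeparatedSpace ↥(D : Scheme.{u}) := ‹_›
  exact inferInstanceAs (QuasiCompact (l ∣_ D))

end Groth.Agent.S10354
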