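import Groth.Agent.Lib.AlgSp.FiniteDiscrete
import Groth.Statements.S10355
-- import your own Groth.Agent.* helpers here

set_option autoImplicit false
universe u
open CategoryTheory CategoryTheory.Limits AlgebraicGeometry Topology TopologicalSpace
open AlgSp

namespace Groth.Agent.S10355

/-- A decent algebraic space X over a scheme S whose space of points is a single point is a scheme (the
underlying sheaf of X is representable). -/
theorem result {S : Scheme.{u}} (X : AlgSp.Space S)
    (hX : AlgSp.IsDecent X.obj) [Nonempty (AlgSp.Points X.obj)] [Subsingleton (AlgSp.Points X.obj)] :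
    X.obj.obj.IsRepresentable := by
  obtain ⟨U₀, a, ha, hs⟩ := X.property.atlas
  obtain ⟨x⟩ := (inferInstance : Nonempty (AlgSp.Points X.obj))
  obtain ⟨u₀, -⟩ := GrothLib.AlgSp.surjective_ofPt_of_repWith hs x
  obtain ⟨O, huO, hO, b, hb, -⟩ := GrothLib.AlgSp.exists_affine_subchart ha u₀
  let U : Over S := Over.mk (O.ι ≫ U₀.hom)
  haveI : IsAffine U.left := hO
  have hbs : AlgSp.RepWith @Surjective b := (GrothLib.AlgSp.repWith_surjective_iff hb.1).2
    fun y => ⟨AlgSp.Points.ofScheme U ⟨u₀, huO⟩, Subsingleton.elim _ _⟩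
  obtain ⟨p, -, hm, hq⟩ := hX (AlgSp.Points.ofPt b ⟨u₀, huO⟩)
  obtain ⟨R, t, s, sq⟩ := GrothLib.AlgSp.exists_isPullback_yon X.property.diag b b
  obtain ⟨W, c, d, sq₀⟩ := GrothLib.AlgSp.exists_isPullback_yon X.property.diag p.toHom b
  haveI := GrothLib.AlgSp.compact_pullback_of_qc p hq sq₀
  obtain ⟨h₁, h₂⟩ := GrothLib.AlgSp.finite_fibres_of_compact_pullback X.property hb p sq₀ sq
  haveI : Finite ↥U.left := Set.finite_univ_iff.1 (h₁.subset fun y _ => Subsingleton.elim _ _)
  haveI : Finite ↥R.left := Set.finite_univ_iff.1 (h₂.subset fun y _ => Subsingleton.elim _ _)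
  haveI : DiscreteTopology ↥U.left := GrothLib.BddFibre.discrete_of_specializes_eq fun y y' h =>
    (GrothLib.AlgSp.eq_of_specializes_of_finite_fibres X.property (GrothLib.AlgSp.finite_fibre_of_qc_point X.property p hq) hb
      (Subsingleton.elim _ _) (Subsingleton.elim _ _) h).symm
  haveI : IsSeparated U.hom := ⟨inferInstance⟩
  have key : ∀ (t' s' : R ⟶ U), IsPullback ((AlgSp.yon S).map t') ((AlgSp.yon S).map s') b b →
      IsFinite s'.left ∧ Flat s'.left ∧ LocallyOfFinitePresentation s'.left := by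
    intro t' s' sq'
    haveI : Etale s'.left := hb.2 _ _ _ sq'
    haveI : LocallyQuasiFinite s'.left := GrothLib.AlgSp.locallyQuasiFinite_of_unramified _
    haveI : IsSeparated s'.left := GrothLib.AlgSp.isSeparated_pullback_snd sq'
    exact ⟨GrothLib.AlgSp.isFinite_of_finite_discrete s'.left, inferInstance, inferInstance⟩
  obtain ⟨_, _, _⟩ := key t s sq
  obtain ⟨_, _, _⟩ := key s t sq.flip
  haveI : IsAffine R.left := isAffine_of_isAffineHom s.left
  obtain ⟨M, c', g, -, -, -, -, hc, hg⟩ := GrothLib.AlgSp.exists_mono_factor b sq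
  haveI := GrothLib.AlgSp.chart_isLocallySurjective hb hbs
  haveI : Epi b := Sheaf.epi_of_isLocallySurjective b
  haveI : Epi ((AlgSp.yon S).map c' ≫ g) := by rw [hc]; infer_instance
  haveI : Epi g := epi_of_epi ((AlgSp.yon S).map c') _
  haveI := isIso_of_mono_of_epi g
  exact (AlgSp.representableByOfIso (asIso g)).isRepresentable

end Groth.Agent.S10355
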