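import Groth.Agent.Lib.AlgSp.DecentOnePoint
import Groth.Statements.S10356
-- import your own Groth.Agent.* helpers here

set_option autoImplicit false
universe u
open CategoryTheory CategoryTheory.Limits AlgebraicGeometry Topology TopologicalSpace
open AlgSp

namespace Groth.Agent.S10356

/-- A reduced decent algebraic space X over a scheme S whose space of points is a single point is
isomorphic to h_{Spec k} for a field k over S. -/
theorem result {S : Scheme.{u}} (X : AlgSp.Space S)
    (hX : AlgSp.IsDecent X.obj) (hr : AlgSp.EtaleLocally (fun U => IsReduced U) X.obj)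
    [Nonempty (AlgSp.Points X.obj)] [Subsingleton (AlgSp.Points X.obj)] :
    ∃ (k : Type u) (_ : Field k) (str : Spec (CommRingCat.of k) ⟶ S),
      Nonempty ((AlgSp.yon S).obj (Over.mk str) ≅ X.obj) := by
  obtain ⟨U, a, ha, hs, hU⟩ := hr
  have : IsReduced U.left := hU
  obtain ⟨x⟩ := ‹Nonempty (AlgSp.Points X.obj)›
  obtain ⟨u, -⟩ := GrothLib.AlgSp.surjective_ofPt_of_repWith hs x
  have hfin := GrothLib.AlgSp.finiteFibres_of_isDecent X.property hX
  obtain ⟨O, huO, hO, b, hb, hbw⟩ := GrothLib.AlgSp.exists_affine_subchart ha u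
  have : Finite ↥(O : Scheme) := Set.finite_univ_iff.1
    ((hfin x _ b hO hb).subset fun w _ => Subsingleton.elim _ _)
  have : T1Space ↥(O : Scheme) := t1Space_iff_specializes_imp_eq.2 fun w v h =>
    (GrothLib.AlgSp.eq_of_specializes_of_finite_fibres X.property (hfin x) hb
      (Subsingleton.elim _ _) (Subsingleton.elim _ _) h).symm
  -- the open point
  let P : (O : Scheme).Opens := ⟨{⟨u, huO⟩}, isOpen_discrete _⟩
  have : Subsingleton ↥(P : Scheme) := inferInstanceAs (Subsingleton ({(⟨u, huO⟩ : O.1)} : Set O.1))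
  have : Nonempty ↥(P : Scheme) := ⟨⟨_, rfl⟩⟩
  have : IsReduced (P : Scheme) := isReduced_of_isOpenImmersion (P.ι ≫ O.ι)
  have : IsIntegral (P : Scheme) := (isIntegral_iff_irreducibleSpace_and_isReduced _).mpr ⟨⟨inferInstance⟩, inferInstance⟩
  letI := (isField_of_isIntegral_of_subsingleton (P : Scheme)).toField
  let T : Over S := Over.mk ((P : Scheme).isoSpec.inv ≫ (P.ι ≫ O.ι) ≫ U.hom)
  let i : T ⟶ U := Over.homMk ((P : Scheme).isoSpec.inv ≫ P.ι ≫ O.ι) (by simp [T])
  have : Etale i.left := inferInstanceAs (Etale ((P : Scheme).isoSpec.inv ≫ P.ι ≫ O.ι))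
  have hT : AlgSp.RepWith @Etale ((AlgSp.yon S).map i ≫ a) :=
    GrothLib.AlgSp.repWith_comp ((AlgSp.repWith_yon_map_iff _ _).2 this) ha
  let q : AlgSp.FieldPt X.obj :=
    ⟨Γ((P : Scheme), ⊤), T.hom, (AlgSp.J S).uliftYonedaEquiv.{u + 1} ((AlgSp.yon S).map i ≫ a)⟩
  have hq : q.toHom = (AlgSp.yon S).map i ≫ a := Equiv.symm_apply_apply _ _
  obtain ⟨k', _, str', e, -⟩ := GrothLib.AlgSp.exists_field_iso X.property hX q (hq.symm ▸ hT)
    (GrothLib.AlgSp.repWith_surjective_of_ofPt (GrothLib.AlgSp.representable_diag_iff.1 X.property.diag _)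
      fun y => ⟨IsLocalRing.closedPoint q.K, Subsingleton.elim _ _⟩)
  exact ⟨k', inferInstance, str', ⟨e⟩⟩

end Groth.Agent.S10356
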