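import Groth.Agent.Lib.AlgSp.DecentBridge
import Groth.Agent.Lib.AlgSp.BddFibres
import Groth.Agent.S10362
import Groth.Statements.S10357
-- import your own Groth.Agent.* helpers here

set_option autoImplicit false
universe u
open CategoryTheory CategoryTheory.Limits AlgebraicGeometry Topology TopologicalSpace
open AlgSp

namespace Groth.Agent.S10357

/-- Let S be a scheme, X a decent algebraic space over S, and Spec k ⟶ X a morphism over S from the
spectrum of a field whose image in S is a closed point s with k algebraic over κ(s). Then the image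
point of |X| is closed. Here Spec k ⟶ S is written as Spec k ⟶ Spec κ(s) ⟶ S for a ring map φ : κ(s)
→ k, integral since k is algebraic over κ(s). -/
theorem result {S : Scheme.{u}} (X : AlgSp.Space S)
    (hX : AlgSp.IsDecent X.obj) (s : ↥S) (hs : IsClosed ({s} : Set ↥S)) (k : Type u) [Field k]
    (φ : S.residueField s ⟶ CommRingCat.of k) (hφ : φ.hom.IsIntegral)
    (p : (AlgSp.yon S).obj (Over.mk (Spec.map φ ≫ S.fromSpecResidueField s)) ⟶ X.obj)
    (t : ↥(Spec (CommRingCat.of k))) :
    IsClosed ({AlgSp.Points.ofPt p t} : Set (AlgSp.Points X.obj)) := by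
  let q := GrothLib.AlgSp.fieldPtOfHom p
  haveI := (isClosed_singleton_iff_isClosedImmersion).mp hs
  haveI : IsIntegralHom (Spec.map φ) := IsIntegralHom.SpecMap_iff.2 hφ
  haveI hq : IsIntegralHom q.pt.hom := inferInstanceAs (IsIntegralHom (Spec.map φ ≫ S.fromSpecResidueField s))
  have ht : AlgSp.Points.ofPt p t = AlgSp.Points.mk q := by
    conv_lhs => rw [← GrothLib.AlgSp.toHom_fieldPtOfHom p]
    exact AlgSp.Points.ofPt_toHom q t
  rw [ht]
  obtain ⟨r, hr, hm, hrq⟩ := hX (AlgSp.Points.mk q)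
  have hqc := Groth.Agent.S10362.result X r q hm hrq hr.symm
  obtain ⟨ι, V, b, hV, hb, -, hopen⟩ := GrothLib.AlgSp.exists_affine_charts X.property
  refine ⟨hopen _ fun i => ?_⟩
  haveI := hV i
  obtain ⟨W, c, d, sq⟩ := GrothLib.AlgSp.exists_isPullback_yon X.property.diag q.toHom (b i)
  haveI := GrothLib.AlgSp.compact_pullback_of_qc q hqc sq
  obtain ⟨hc, hW, -⟩ := GrothLib.AlgSp.discrete_fibre (hb i) q sq
  haveI := hc
  haveI := hW
  haveI : Finite ↥W.left := finite_of_compact_of_discrete
  haveI : IsFinite c.left := (GrothLib.AlgSp.finite_of_finite_points (K := q.K) c.left).1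
  haveI : IsSeparated (V i).hom := ⟨inferInstance⟩
  haveI : IsIntegralHom (d.left ≫ (V i).hom) := by rw [Over.w d, ← Over.w c]; infer_instance
  haveI := IsIntegralHom.of_comp d.left (V i).hom
  have hr : AlgSp.Points.ofPt (b i) ⁻¹' {AlgSp.Points.mk q} = Set.range d.left := Set.ext fun v => ⟨fun hv => by
    obtain ⟨w, -, hw⟩ := (GrothLib.AlgSp.ofPt_eq_ofPt_iff sq (IsLocalRing.closedPoint q.K) v).1
      ((AlgSp.Points.ofPt_toHom q _).trans (Set.mem_singleton_iff.1 hv).symm)
    exact ⟨w, hw⟩, fun ⟨w, hw⟩ => hw ▸ Set.mem_singleton_iff.2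
      (((GrothLib.AlgSp.ofPt_eq_ofPt_iff sq (c.left w) (d.left w)).2 ⟨w, rfl, rfl⟩).symm.trans (AlgSp.Points.ofPt_toHom q _))⟩
  rw [Set.preimage_compl, isOpen_compl_iff, hr]
  exact d.left.isClosedMap.isClosed_range

end Groth.Agent.S10357
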