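import Groth.Agent.Lib.AlgSp.DecentBridge
import Groth.Agent.Lib.AlgSp.BddFibres
import Groth.Agent.S10362
import Groth.Statements.S10358
-- import your own Groth.Agent.* helpers here

set_option autoImplicit false
universe u
open CategoryTheory CategoryTheory.Limits AlgebraicGeometry Topology TopologicalSpace
open AlgSp

namespace Groth.Agent.S10358

theorem finite_over_base {S : Scheme.{u}} {X : AlgSp.Space S} (hX : AlgSp.IsDecent X.obj) (q : AlgSp.FieldPt X.obj)
    (hq : IsFinite q.str) {U : Over S} [IsAffine U.left] {φ : (AlgSp.yon S).obj U ⟶ X.obj} (hφ : AlgSp.RepWith @Etale φ)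
    {W : Over S} {c : W ⟶ q.pt} {d : W ⟶ U}
    (sq : IsPullback ((AlgSp.yon S).map c) ((AlgSp.yon S).map d) q.toHom φ) : IsFinite d.left := by
  obtain ⟨p, hp, hm, hpq⟩ := hX (AlgSp.Points.mk q)
  have := Groth.Agent.S10362.result X p q hm hpq hp.symm
  haveI := GrothLib.AlgSp.compact_pullback_of_qc q this sq
  obtain ⟨hc, hW, -⟩ := GrothLib.AlgSp.discrete_fibre hφ q sq
  haveI := hc
  haveI := hW
  haveI : Finite ↥W.left := finite_of_compact_of_discrete
  haveI : IsFinite c.left := (GrothLib.AlgSp.finite_of_finite_points (K := q.K) c.left).1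
  haveI : IsFinite q.pt.hom := hq
  haveI : IsSeparated U.hom := ⟨inferInstance⟩
  haveI : IsFinite (d.left ≫ U.hom) := by rw [Over.w d, ← Over.w c]; infer_instance
  exact IsFinite.of_comp d.left U.hom

theorem repWith_finite {S : Scheme.{u}} {X : AlgSp.Space S} (hX : AlgSp.IsDecent X.obj) (q : AlgSp.FieldPt X.obj)
    (hq : IsFinite q.str) : AlgSp.RepWith @IsFinite q.toHom := by
  obtain ⟨U, a, ha, hs⟩ := X.property.atlas
  obtain ⟨W, c, d, sq⟩ := GrothLib.AlgSp.exists_isPullback_yon X.property.diag q.toHom a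
  have := GrothLib.AlgSp.chart_isLocallySurjective ha hs
  refine GrothLib.AlgSp.repWith_of_base (GrothLib.AlgSp.representable_diag_iff.1 X.property.diag _) a sq
    GrothLib.AlgSp.fppfDescends_isFinite ((AlgSp.repWith_yon_map_iff _ _).2 ?_)
  refine (IsZariskiLocalAtTarget.iff_of_openCover (P := @IsFinite) U.left.affineCover).mpr fun i => ?_
  let j : Over.mk (U.left.affineCover.f i ≫ U.hom) ⟶ U := Over.homMk (U.left.affineCover.f i) rfl
  haveI : IsAffine (Over.mk (U.left.affineCover.f i ≫ U.hom)).left := inferInstanceAs (IsAffine (U.left.affineCover.X i))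
  have sq' := IsPullback.of_hasPullback d j
  have h := finite_over_base hX q hq (φ := (AlgSp.yon S).map j ≫ a)
    (GrothLib.AlgSp.repWith_comp ((AlgSp.repWith_yon_map_iff _ _).2 (inferInstanceAs (Etale (U.left.affineCover.f i)))) ha)
    (c := pullback.fst d j ≫ c) (d := pullback.snd d j) (by rw [Functor.map_comp]; exact GrothLib.AlgSp.isPullback_stack sq sq')
  change IsFinite (pullback.snd d.left j.left)
  rw [← (GrothLib.AlgSp.isPullback_left sq').isoPullback_inv_snd, MorphismProperty.cancel_left_of_respectsIso @IsFinite]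
  exact h

/-- Let S be a scheme, X a decent algebraic space over S, and Spec k ⟶ X a morphism over S from the
spectrum of a field whose image in S is a closed point s with k finite over κ(s) (Spec k ⟶ S written
through a ring map φ : κ(s) → k). Then Spec k ⟶ X is finite; if moreover φ is bijective (k = κ(s))
it is a closed immersion. -/
theorem result {S : Scheme.{u}} (X : AlgSp.Space S)
    (hX : AlgSp.IsDecent X.obj) (s : ↥S) (hs : IsClosed ({s} : Set ↥S)) (k : Type u) [Field k]
    (φ : S.residueField s ⟶ CommRingCat.of k) (hφ : φ.hom.Finite)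
    (p : (AlgSp.yon S).obj (Over.mk (Spec.map φ ≫ S.fromSpecResidueField s)) ⟶ X.obj) :
    AlgSp.RepWith @IsFinite p ∧
      (Function.Bijective φ.hom → AlgSp.RepWith @IsClosedImmersion p) := by
  let q := GrothLib.AlgSp.fieldPtOfHom p
  haveI := (isClosed_singleton_iff_isClosedImmersion).mp hs
  haveI : IsFinite (Spec.map φ) := (IsFinite.SpecMap_iff φ).2 hφ
  have h : AlgSp.RepWith @IsFinite p := GrothLib.AlgSp.toHom_fieldPtOfHom p ▸
    repWith_finite hX q (inferInstanceAs (IsFinite (Spec.map φ ≫ S.fromSpecResidueField s)))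
  refine ⟨h, fun hb => ⟨h.1, fun U W g fst snd sq => ?_⟩⟩
  haveI : IsIso φ := (ConcreteCategory.isIso_iff_bijective φ).2 hb
  haveI : Mono (Spec.map φ ≫ S.fromSpecResidueField s) := inferInstance
  haveI : Mono p := GrothLib.AlgSp.mono_of_yon fun T a b _ => by
    obtain ⟨a, rfl⟩ := (AlgSp.yon S).map_surjective a
    obtain ⟨b, rfl⟩ := (AlgSp.yon S).map_surjective b
    exact congrArg _ (Over.OverMorphism.ext ((cancel_mono (Spec.map φ ≫ S.fromSpecResidueField s)).1
      ((Over.w a).trans (Over.w b).symm)))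
  haveI : Mono ((AlgSp.yon S).map snd) :=
    MorphismProperty.of_isPullback (P := MorphismProperty.monomorphisms (AlgSp.Sp S)) sq ‹Mono p›
  haveI : Mono snd := (AlgSp.yon S).mono_of_mono_map ‹_›
  haveI : Mono snd.left := (Over.forget S).map_mono snd
  exact (IsClosedImmersion.iff_isFinite_and_mono _).2 ⟨h.2 g fst snd sq, ‹_›⟩

end Groth.Agent.S10358
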