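import Groth.Agent.Lib.AlgSp.DecentBridge
import Groth.Statements.S10359
-- import your own Groth.Agent.* helpers here

set_option autoImplicit false
universe u
open CategoryTheory CategoryTheory.Limits AlgebraicGeometry Topology TopologicalSpace
open AlgSp

namespace Groth.Agent.S10359

/-- On a decent algebraic space X over a scheme S every closed point x of |X| is represented by a closed
immersion Spec k ⟶ X, where k is a field. -/
theorem result {S : Scheme.{u}} (X : AlgSp.Space S)
    (hX : AlgSp.IsDecent X.obj) (x : AlgSp.Points X.obj) (hx : IsClosed ({x} : Set (AlgSp.Points X.obj))) :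
    ∃ p : AlgSp.FieldPt X.obj, AlgSp.Points.mk p = x ∧ AlgSp.RepWith @IsClosedImmersion p.toHom := by
  obtain ⟨p, rfl, hm, hq⟩ := hX x
  haveI := hm
  obtain ⟨U, a, ha, hs⟩ := X.property.atlas
  obtain ⟨W, c, d, sq⟩ := GrothLib.AlgSp.exists_isPullback_yon X.property.diag p.toHom a
  have := GrothLib.AlgSp.chart_isLocallySurjective ha hs
  refine ⟨p, rfl, GrothLib.AlgSp.repWith_of_base (GrothLib.AlgSp.representable_diag_iff.1 X.property.diag _) a sq
    GrothLib.AlgSp.fppfDescends_isClosedImmersion ((AlgSp.repWith_yon_map_iff _ _).2 ?_)⟩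
  obtain ⟨-, -, hr⟩ := GrothLib.AlgSp.mono_fibre_facts X.property p sq
  haveI := GrothLib.AlgSp.isPreimmersion_of_mono_fibre X.property p hq ha sq
  exact .of_isPreimmersion _ (hr ▸ hx.preimage (AlgSp.Points.continuous_ofPt a))

end Groth.Agent.S10359
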