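import Groth.Agent.Lib.AlgSp.DecentBridge
import Groth.Statements.S10363
-- import your own Groth.Agent.* helpers here

set_option autoImplicit false
universe u
open CategoryTheory CategoryTheory.Limits AlgebraicGeometry Topology TopologicalSpace
open AlgSp

namespace Groth.Agent.S10363

/-- Let X be an algebraic space over a scheme S and x ∈ |X|. If there is a family of etale maps U_i ⟶ X
from schemes, jointly surjective on points, each with finite fibre of |U_i| → |X| over x, then every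
etale V ⟶ X with V an affine scheme has finite fibre of |V| → |X| over x. (The converse implication
is immediate.) -/
theorem result {S : Scheme.{u}} (X : AlgSp.Space S)
    (x : AlgSp.Points X.obj) {ι : Type u} (U : ι → Over S) (φ : ∀ i, (AlgSp.yon S).obj (U i) ⟶ X.obj)
    (hφ : ∀ i, AlgSp.RepWith @Etale (φ i))
    (hsurj : ∀ y : AlgSp.Points X.obj, ∃ (i : ι) (v : ↥(U i).left), AlgSp.Points.ofPt (φ i) v = y)
    (hfin : ∀ i, (AlgSp.Points.ofPt (φ i) ⁻¹' {x}).Finite)
    {V : Over S} [IsAffine V.left] (ψ : (AlgSp.yon S).obj V ⟶ X.obj) (hψ : AlgSp.RepWith @Etale ψ) :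
    (AlgSp.Points.ofPt ψ ⁻¹' {x}).Finite := by
  choose i v hv using hsurj
  have key : ∀ w : ↥V.left, ∃ O : V.left.Opens, w ∈ O ∧ {w' : ↥V.left | w' ∈ O ∧ AlgSp.Points.ofPt ψ w' = x}.Finite := by
    intro w
    obtain ⟨W, c, d, sq⟩ := GrothLib.AlgSp.exists_isPullback_yon X.property.diag ψ (φ (i (AlgSp.Points.ofPt ψ w)))
    haveI : Etale c.left := (hφ _).2 _ _ _ sq.flip
    haveI : Etale d.left := hψ.2 _ _ _ sq
    haveI : LocallyQuasiFinite d.left := GrothLib.AlgSp.locallyQuasiFinite_of_unramified _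
    obtain ⟨r, hr, -⟩ := (GrothLib.AlgSp.ofPt_eq_ofPt_iff sq w _).1 (hv (AlgSp.Points.ofPt ψ w)).symm
    obtain ⟨A, hA, hdA, -⟩ := exists_isAffineOpen_mem_and_subset (U := (⊤ : (U (i (AlgSp.Points.ofPt ψ w))).left.Opens)) (x := d.left r) trivial
    obtain ⟨B, hB, hrB, hBA⟩ := exists_isAffineOpen_mem_and_subset (U := d.left ⁻¹ᵁ A) (x := r) hdA
    refine ⟨⟨c.left '' (B : Set ↥W.left), c.left.isOpenMap _ B.isOpen⟩, ⟨r, hrB, hr⟩, ?_⟩
    have hf : {r' : ↥W.left | r' ∈ B ∧ AlgSp.Points.ofPt (φ _) (d.left r') = x}.Finite := by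
      let g := d.left.resLE A B hBA
      haveI : IsAffine (B : Scheme.{u}) := hB
      haveI : IsAffine (A : Scheme.{u}) := hA
      haveI : LocallyQuasiFinite g := inferInstance
      haveI : QuasiCompact g := inferInstance
      refine (((g.finite_preimage ((hfin _).preimage A.ι.injective.injOn)).image B.ι)).subset ?_
      rintro r' ⟨hr', he⟩
      refine ⟨⟨r', hr'⟩, ?_, rfl⟩
      rw [Set.mem_preimage, Set.mem_preimage, Set.mem_preimage, Set.mem_singleton_iff, ← he]
      congr 1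
      rw [← Scheme.Hom.comp_apply, Scheme.Hom.resLE_comp_ι, Scheme.Hom.comp_apply]
      rfl
    refine (hf.image c.left).subset ?_
    rintro w' ⟨⟨r', hr', rfl⟩, he⟩
    exact ⟨r', ⟨hr', ((GrothLib.AlgSp.ofPt_eq_ofPt_iff sq _ _).2 ⟨r', rfl, rfl⟩).symm.trans he⟩, rfl⟩
  choose O hO hOf using key
  obtain ⟨s, hs⟩ := isCompact_univ.elim_finite_subcover (fun w => (O w : Set ↥V.left)) (fun w => (O w).isOpen)
    (fun w _ => Set.mem_iUnion.2 ⟨w, hO w⟩)
  refine ((s.finite_toSet).biUnion fun w _ => hOf w).subset fun w' hw' => ?_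
  obtain ⟨w, hw, hw''⟩ := Set.mem_iUnion₂.1 (hs (Set.mem_univ w'))
  exact Set.mem_iUnion₂.2 ⟨w, hw, hw'', hw'⟩

end Groth.Agent.S10363
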