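import Groth.Agent.Lib.AlgSp.Decent
import Groth.Statements.S10364
-- import your own Groth.Agent.* helpers here

set_option autoImplicit false
universe u
open CategoryTheory CategoryTheory.Limits AlgebraicGeometry Topology TopologicalSpace
open AlgSp

namespace Groth.Agent.S10364

/-- Let X be an algebraic space over a scheme S with a Zariski covering by open subspaces X_i ⟶ X. If
each X_i is decent then X is decent. -/
theorem result {S : Scheme.{u}} (X : AlgSp.Space S) {ι : Type u} (Xi : ι → AlgSp.Space S)
    (j : ∀ i, Xi i ⟶ X) (hj : AlgSp.IsZarCover (fun i => (Xi i).obj) (fun i => (j i).hom))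
    (hd : ∀ i, AlgSp.IsDecent (Xi i).obj) : AlgSp.IsDecent X.obj := by
  exact GrothLib.AlgSp.isDecent_of_openCover X.property _ _ hj hd

end Groth.Agent.S10364
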