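import Groth.Agent.Lib.AlgSp.SingletonSpace
import Groth.Statements.S10366
-- import your own Groth.Agent.* helpers here

set_option autoImplicit false
universe u
open CategoryTheory CategoryTheory.Limits AlgebraicGeometry Topology TopologicalSpace
open AlgSp

namespace Groth.Agent.S10366

/-- (1) ⇔ (2): an algebraic space Z over a scheme S is reduced with |Z| a single point if and only if
there is a surjective flat morphism Spec k ⟶ Z from the spectrum of a field. -/
theorem result {S : Scheme.{u}} (Z : AlgSp.Space S) :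
    (AlgSp.EtaleLocally (fun U => IsReduced U) Z.obj ∧ Nonempty (AlgSp.Points Z.obj) ∧ Subsingleton (AlgSp.Points Z.obj)) ↔
      ∃ (k : Type u) (_ : Field k) (str : Spec (CommRingCat.of k) ⟶ S) (p : (AlgSp.yon S).obj (Over.mk str) ⟶ Z.obj),
        AlgSp.LocP @Flat p ∧ AlgSp.IsSurjectiveMor p := by
  constructor
  · rintro ⟨hr, ⟨x⟩, hsub⟩
    haveI := hsub
    obtain ⟨q, rfl⟩ := AlgSp.Points.mk_surjective x
    exact ⟨q.K, q.field, q.str, q.toHom,
      GrothLib.AlgSp.locP_flat_of_reduced_singleton Z.property hr (AlgSp.IsAlgSpace.yon_obj _) q.toHom,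
      fun z => ⟨AlgSp.Points.ofScheme _ (IsLocalRing.closedPoint q.K), Subsingleton.elim _ _⟩⟩
  · rintro ⟨k, _, str, p, hpf, hps⟩
    obtain ⟨U, a, ha, hs⟩ := Z.property.atlas
    exact ⟨⟨U, a, ha, hs, GrothLib.AlgSp.isReduced_chart Z.property hpf hps ha⟩,
      GrothLib.AlgSp.subsingleton_points_of_point hps⟩

end Groth.Agent.S10366
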