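import Groth.Agent.Lib.AlgSp.SingletonSpace
import Groth.Statements.S10367
-- import your own Groth.Agent.* helpers here

set_option autoImplicit false
universe u
open CategoryTheory CategoryTheory.Limits AlgebraicGeometry Topology TopologicalSpace
open AlgSp

namespace Groth.Agent.S10367

/-- (2) ⇒ (3): if an algebraic space Z over a scheme S admits a surjective flat morphism Spec k ⟶ Z with
k a field, then it also admits such a morphism which is moreover locally of finite type. -/
theorem result {S : Scheme.{u}} (Z : AlgSp.Space S)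
    (k : Type u) [Field k] (str : Spec (CommRingCat.of k) ⟶ S) (p : (AlgSp.yon S).obj (Over.mk str) ⟶ Z.obj)
    (hpf : AlgSp.LocP @Flat p) (hps : AlgSp.IsSurjectiveMor p) :
    ∃ (k' : Type u) (_ : Field k') (str' : Spec (CommRingCat.of k') ⟶ S) (q : (AlgSp.yon S).obj (Over.mk str') ⟶ Z.obj),
      AlgSp.LocP @LocallyOfFiniteType q ∧ AlgSp.LocP @Flat q ∧ AlgSp.IsSurjectiveMor q := by
  obtain ⟨⟨z⟩, hsub⟩ := GrothLib.AlgSp.subsingleton_points_of_point hps
  haveI := hsub
  obtain ⟨U, a, ha, hs⟩ := Z.property.atlas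
  haveI := GrothLib.AlgSp.isReduced_chart Z.property hpf hps ha
  obtain ⟨u, -⟩ := GrothLib.AlgSp.surjective_ofPt_of_repWith hs z
  have hu : IsClosed ({u} : Set ↥U.left) := by
    rw [← closure_eq_iff_isClosed]
    refine Set.eq_singleton_iff_unique_mem.2 ⟨subset_closure rfl, fun y hy => ?_⟩
    have h : u ⤳ y := specializes_iff_mem_closure.2 hy
    exact ((show y ⤳ u from GrothLib.AlgSp.isMax_of_subsingleton_points Z.property ha y (show y ≤ u from h)).antisymm h).eq
  haveI := (isClosed_singleton_iff_isClosedImmersion).mp hu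
  let i : Over.mk (U.left.fromSpecResidueField u ≫ U.hom) ⟶ U := Over.homMk (U.left.fromSpecResidueField u) rfl
  refine ⟨U.left.residueField u, inferInstance, _, (AlgSp.yon S).map i ≫ a, ?_,
    GrothLib.AlgSp.locP_flat_of_reduced_singleton Z.property ⟨U, a, ha, hs, ‹_›⟩ (AlgSp.IsAlgSpace.yon_obj _) _,
    fun y => ⟨AlgSp.Points.ofScheme _ (IsLocalRing.closedPoint (U.left.residueField u)), Subsingleton.elim _ _⟩⟩
  exact GrothLib.AlgSp.EtLocal.locP_of_chart GrothLib.AlgSp.EtLocal.lft (h := i)
    (AlgSp.repWith_id _ _) (AlgSp.repWith_id _ _) ha (Category.id_comp _)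
    (inferInstanceAs (LocallyOfFiniteType (U.left.fromSpecResidueField u)))

end Groth.Agent.S10367
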