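import Groth.Agent.Lib.AlgSp.SingletonSpace
import Groth.Statements.S10368
-- import your own Groth.Agent.* helpers here

set_option autoImplicit false
universe u
open CategoryTheory CategoryTheory.Limits AlgebraicGeometry Topology TopologicalSpace
open AlgSp

namespace Groth.Agent.S10368

/-- An algebraic space Z over a scheme S is reduced, locally Noetherian and has |Z| a single point if
and only if there is a locally finitely presented, flat, surjective morphism Spec k ⟶ Z from the
spectrum of a field. -/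
theorem result {S : Scheme.{u}} (Z : AlgSp.Space S) :
    (AlgSp.EtaleLocally (fun U => IsReduced U) Z.obj ∧ AlgSp.IsLocNoethSp Z.obj ∧ Nonempty (AlgSp.Points Z.obj) ∧ Subsingleton (AlgSp.Points Z.obj)) ↔
      ∃ (k : Type u) (_ : Field k) (str : Spec (CommRingCat.of k) ⟶ S) (p : (AlgSp.yon S).obj (Over.mk str) ⟶ Z.obj),
        AlgSp.LocP @LocallyOfFinitePresentation p ∧ AlgSp.LocP @Flat p ∧ AlgSp.IsSurjectiveMor p := by
  constructor
  · rintro ⟨hr, hN, ⟨x⟩, hsub⟩
    haveI := hsub
    obtain ⟨U, a, ha, hs, hU⟩ := hN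
    haveI := hU
    haveI : IsReduced U.left := GrothLib.AlgSp.etaleLocally_chart (Q := fun U => IsReduced U)
      (fun _ _ k h₁ h₂ => GrothLib.AlgSp.isReduced_of_etale k h₁ h₂) (fun _ _ k h₁ h₂ h₃ => GrothLib.AlgSp.isReduced_desc k h₁ h₂ h₃) hr a ha
    obtain ⟨u, -⟩ := GrothLib.AlgSp.surjective_ofPt_of_repWith hs x
    have hu : IsClosed ({u} : Set ↥U.left) := by
      rw [← closure_eq_iff_isClosed]
      refine Set.eq_singleton_iff_unique_mem.2 ⟨subset_closure rfl, fun y hy => ?_⟩
      have h : u ⤳ y := specializes_iff_mem_closure.2 hy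
      exact ((show y ⤳ u from GrothLib.AlgSp.isMax_of_subsingleton_points Z.property ha y (show y ≤ u from h)).antisymm h).eq
    haveI := (isClosed_singleton_iff_isClosedImmersion).mp hu
    let i : Over.mk (U.left.fromSpecResidueField u ≫ U.hom) ⟶ U := Over.homMk (U.left.fromSpecResidueField u) rfl
    refine ⟨U.left.residueField u, inferInstance, _, (AlgSp.yon S).map i ≫ a, ?_,
      GrothLib.AlgSp.locP_flat_of_reduced_singleton Z.property ⟨U, a, ha, hs, ‹_›⟩ (AlgSp.IsAlgSpace.yon_obj _) _,
      fun y => ⟨AlgSp.Points.ofScheme _ (IsLocalRing.closedPoint (U.left.residueField u)), Subsingleton.elim _ _⟩⟩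
    exact GrothLib.AlgSp.EtLocal.locP_of_chart GrothLib.AlgSp.EtLocal.lfp (h := i)
      (AlgSp.repWith_id _ _) (AlgSp.repWith_id _ _) ha (Category.id_comp _)
      (LocallyOfFinitePresentation.iff_locallyOfFiniteType.2 (inferInstanceAs (LocallyOfFiniteType (U.left.fromSpecResidueField u))))
  · rintro ⟨k, _, str, p, hl, hpf, hps⟩
    obtain ⟨U, a, ha, hs⟩ := Z.property.atlas
    obtain ⟨hne, hsub⟩ := GrothLib.AlgSp.subsingleton_points_of_point hps
    have hred := GrothLib.AlgSp.isReduced_chart Z.property hpf hps ha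
    refine ⟨⟨U, a, ha, hs, hred⟩, ⟨U, a, ha, hs, ?_⟩, hne, hsub⟩
    have hrep := GrothLib.AlgSp.representable_of_source_scheme Z.property p
    obtain ⟨T, c, d, sq⟩ := GrothLib.AlgSp.exists_isPullback_yon Z.property.diag p a
    haveI : Flat d.left := (GrothLib.AlgSp.EtLocal.repWith_of_locP GrothLib.AlgSp.EtLocal.flat Z.property hrep hpf).2 _ _ _ sq
    haveI : LocallyOfFinitePresentation d.left := (GrothLib.AlgSp.EtLocal.repWith_of_locP GrothLib.AlgSp.EtLocal.lfp Z.property hrep hl).2 _ _ _ sq
    haveI : Surjective d.left := ((GrothLib.AlgSp.repWith_surjective_iff hrep).2 hps).2 _ _ _ sq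
    haveI : Etale c.left := ha.2 _ _ _ sq.flip
    haveI : IsLocallyNoetherian (Over.mk str).left := inferInstanceAs (IsLocallyNoetherian (Spec (CommRingCat.of k)))
    haveI : IsLocallyNoetherian T.left := LocallyOfFiniteType.isLocallyNoetherian c.left
    exact GrothLib.FppfSource.isLocallyNoetherian_of_fppf d.left

end Groth.Agent.S10368
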