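import Groth.Agent.Lib.AlgSp.SingletonSpace
import Groth.Statements.S10371
-- import your own Groth.Agent.* helpers here

set_option autoImplicit false
universe u
open CategoryTheory CategoryTheory.Limits AlgebraicGeometry Topology TopologicalSpace
open AlgSp

namespace Groth.Agent.S10371

/-- Two monomorphisms Z ⟶ X, Z' ⟶ X of algebraic spaces over a scheme S with image {x} in |X|, whose
sources admit a locally finitely presented, flat, surjective morphism from the spectrum of a field,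
are isomorphic over X. -/
theorem result {S : Scheme.{u}} (X : AlgSp.Space S) (x : AlgSp.Points X.obj)
    {Z Z' : AlgSp.Space S} (i : Z ⟶ X) (i' : Z' ⟶ X) [Mono i.hom] [Mono i'.hom]
    (hi : Set.range (AlgSp.Points.map i.hom) = {x}) (hi' : Set.range (AlgSp.Points.map i'.hom) = {x})
    (hZ : ∃ (k : Type u) (_ : Field k) (str : Spec (CommRingCat.of k) ⟶ S) (p : (AlgSp.yon S).obj (Over.mk str) ⟶ Z.obj),
        AlgSp.LocP @LocallyOfFinitePresentation p ∧ AlgSp.LocP @Flat p ∧ AlgSp.IsSurjectiveMor p)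
    (hZ' : ∃ (k : Type u) (_ : Field k) (str : Spec (CommRingCat.of k) ⟶ S) (p : (AlgSp.yon S).obj (Over.mk str) ⟶ Z'.obj),
        AlgSp.LocP @LocallyOfFinitePresentation p ∧ AlgSp.LocP @Flat p ∧ AlgSp.IsSurjectiveMor p) :
    ∃ e : Z' ≅ Z, e.hom ≫ i = i' := by
  obtain ⟨k, _, str, p, hl, hf, hs⟩ := hZ
  obtain ⟨k', _, str', p', hl', hf', hs'⟩ := hZ'
  have hP := GrothLib.AlgSp.isAlgSpace_pullback' X.property Z'.property Z.property i'.hom i.hom
  obtain ⟨⟨z⟩, -⟩ := GrothLib.AlgSp.subsingleton_points_of_point hs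
  obtain ⟨⟨z'⟩, -⟩ := GrothLib.AlgSp.subsingleton_points_of_point hs'
  haveI : Nonempty (AlgSp.Points (pullback i'.hom i.hom)) := by
    obtain ⟨w, -, -⟩ := GrothLib.AlgSp.exists_of_isPullback (IsPullback.of_hasPullback i'.hom i.hom) (x := z') (y := z)
      ((Set.mem_singleton_iff.1 (hi'.le ⟨z', rfl⟩)).trans (Set.mem_singleton_iff.1 (hi.le ⟨z, rfl⟩)).symm)
    exact ⟨w⟩
  haveI := GrothLib.AlgSp.isIso_of_mono_to_singleton Z'.property hP (pullback.fst i'.hom i.hom) hl' hf' hs'
  haveI := GrothLib.AlgSp.isIso_of_mono_to_singleton Z.property hP (pullback.snd i'.hom i.hom) hl hf hs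
  let e := (asIso (pullback.fst i'.hom i.hom)).symm ≪≫ asIso (pullback.snd i'.hom i.hom)
  refine ⟨⟨ObjectProperty.homMk e.hom, ObjectProperty.homMk e.inv, InducedCategory.Hom.ext e.hom_inv_id,
    InducedCategory.Hom.ext e.inv_hom_id⟩, InducedCategory.Hom.ext ?_⟩
  show e.hom ≫ i.hom = i'.hom
  simp only [e, Iso.trans_hom, Iso.symm_hom, asIso_inv, asIso_hom, Category.assoc]
  rw [← pullback.condition, IsIso.inv_hom_id_assoc]

end Groth.Agent.S10371
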