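import Groth.Agent.Lib.AlgSp.SingletonSpace
import Groth.Statements.S10372
-- import your own Groth.Agent.* helpers here

set_option autoImplicit false
universe u
open CategoryTheory CategoryTheory.Limits AlgebraicGeometry Topology TopologicalSpace
open AlgSp

namespace Groth.Agent.S10372

/-- A reduced, locally Noetherian algebraic space Z over a scheme S whose space of points is a single
point is regular (etale locally a regular scheme). -/
theorem result {S : Scheme.{u}} (Z : AlgSp.Space S)
    (hr : AlgSp.EtaleLocally (fun U => IsReduced U) Z.obj) (hN : AlgSp.IsLocNoethSp Z.obj)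
    [Nonempty (AlgSp.Points Z.obj)] [Subsingleton (AlgSp.Points Z.obj)] :
    AlgSp.EtaleLocally (fun U => IsLocallyNoetherian U ∧ ∀ u : ↥U, IsRegularLocalRing ↥(U.presheaf.stalk u)) Z.obj := by
  obtain ⟨U, a, ha, hs, hU⟩ := hN
  haveI := hU
  haveI : IsReduced U.left := GrothLib.AlgSp.etaleLocally_chart (Q := fun U => IsReduced U)
    (fun _ _ k h₁ h₂ => GrothLib.AlgSp.isReduced_of_etale k h₁ h₂) (fun _ _ k h₁ h₂ h₃ => GrothLib.AlgSp.isReduced_desc k h₁ h₂ h₃) hr a ha
  refine ⟨U, a, ha, hs, hU, fun u => ?_⟩
  have hf := GrothLib.AlgSp.isField_stalk Z.property ha u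
  haveI : IsNoetherianRing (U.left.presheaf.stalk u) := inferInstance
  refine IsRegularLocalRing.of_spanFinrank_maximalIdeal_le (R := U.left.presheaf.stalk u) ?_
  rw [IsLocalRing.isField_iff_maximalIdeal_eq.1 hf, Submodule.spanFinrank_bot, ringKrullDim_eq_zero_of_isField hf]
  rfl

end Groth.Agent.S10372
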