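import Groth.Agent.Lib.AlgSp.DecentBridge
import Groth.Statements.S10373
-- import your own Groth.Agent.* helpers here

set_option autoImplicit false
universe u
open CategoryTheory CategoryTheory.Limits AlgebraicGeometry Topology TopologicalSpace
open AlgSp

namespace Groth.Agent.S10373

/-- Let S be a scheme, Y and X algebraic spaces over S, and f : Y ⟶ X a morphism with Y reduced and
|f|(|Y|) ⊆ {x}, where x ∈ |X| is represented by a monomorphism Spec k ⟶ X which is representable
quasi-compact (for instance X decent). Then f factors through Spec k ⟶ X. -/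
theorem result {S : Scheme.{u}} {Y X : AlgSp.Space S} (f : Y ⟶ X)
    (x : AlgSp.Points X.obj) (p : AlgSp.FieldPt X.obj) (hp : AlgSp.Points.mk p = x) (hm : Mono p.toHom)
    (hq : AlgSp.RepWith @QuasiCompact p.toHom) (hY : AlgSp.EtaleLocally (fun U => IsReduced U) Y.obj)
    (hf : ∀ y : AlgSp.Points Y.obj, AlgSp.Points.map f.hom y = x) :
    ∃ g : Y.obj ⟶ (AlgSp.yon S).obj p.pt, g ≫ p.toHom = f.hom := by
  haveI := hm
  obtain ⟨U, q₀, qe₀, qs₀, hU⟩ := hY
  haveI := hU
  obtain ⟨V, a, ae, as⟩ := X.property.atlas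
  obtain ⟨R, e, α, sqR⟩ := GrothLib.AlgSp.exists_isPullback_yon X.property.diag (q₀ ≫ f.hom) a
  haveI hee : Etale e.left := ae.2 _ _ _ sqR.flip
  haveI : Surjective e.left := as.2 _ _ _ sqR.flip
  haveI : IsReduced R.left := GrothLib.AlgSp.isReduced_of_etale e.left inferInstance inferInstance
  obtain ⟨W, c, d, sqW⟩ := GrothLib.AlgSp.exists_isPullback_yon X.property.diag p.toHom a
  haveI := GrothLib.AlgSp.isPreimmersion_of_mono_fibre X.property p hq ae sqW
  obtain ⟨-, -, hr⟩ := GrothLib.AlgSp.mono_fibre_facts X.property p sqW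
  have hfac : ∀ y : ↥R.left, ∃ w, d.left w = α.left y := fun y => by
    have h := hf (AlgSp.Points.ofPt q₀ (e.left y))
    rw [AlgSp.Points.map_ofPt, ← GrothLib.AlgSp.ofPt_map_comp, sqR.w, GrothLib.AlgSp.ofPt_map_comp, ← hp] at h
    exact (show α.left y ∈ Set.range d.left from hr ▸ Set.mem_singleton_iff.2 h)
  haveI : Surjective (pullback.snd d.left α.left) := ⟨fun y => by
    obtain ⟨w, hw⟩ := hfac y
    obtain ⟨z, -, hz⟩ := Scheme.Pullback.exists_preimage_pullback w y hw
    exact ⟨z, hz⟩⟩
  haveI : IsClosedImmersion (pullback.snd d.left α.left) :=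
    .of_isPreimmersion _ (by rw [Set.range_eq_univ.2 (Scheme.Hom.surjective _)]; exact isClosed_univ)
  haveI := isIso_of_isClosedImmersion_of_surjective (pullback.snd d.left α.left)
  let m : R ⟶ W := Over.homMk (inv (pullback.snd d.left α.left) ≫ pullback.fst d.left α.left) (by
    rw [← Over.w d, Category.assoc, ← Category.assoc (pullback.fst _ _), pullback.condition, Category.assoc,
      IsIso.inv_hom_id_assoc, Over.w])
  have hm' : m ≫ d = α := Over.OverMorphism.ext (by
    show (inv (pullback.snd d.left α.left) ≫ pullback.fst d.left α.left) ≫ d.left = α.left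
    rw [Category.assoc, pullback.condition, IsIso.inv_hom_id_assoc])
  have hw : (AlgSp.yon S).map (m ≫ c) ≫ p.toHom = ((AlgSp.yon S).map e ≫ q₀) ≫ f.hom := by
    rw [Functor.map_comp, Category.assoc, sqW.w, ← Category.assoc, ← Functor.map_comp, hm', ← sqR.w, Category.assoc]
  have sqQ := IsPullback.of_hasPullback p.toHom f.hom
  have hch : Sheaf.IsLocallySurjective ((AlgSp.yon S).map e ≫ q₀) := GrothLib.AlgSp.chart_isLocallySurjective
    (GrothLib.AlgSp.repWith_comp ((AlgSp.repWith_yon_map_iff _ _).2 hee) qe₀)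
    (GrothLib.AlgSp.repWith_comp ((AlgSp.repWith_yon_map_iff _ _).2 ‹Surjective e.left›) qs₀)
  haveI : Epi ((AlgSp.yon S).map e ≫ q₀) := Sheaf.epi_of_isLocallySurjective _
  haveI : Epi (pullback.lift _ _ hw ≫ pullback.snd p.toHom f.hom) := by rw [pullback.lift_snd]; infer_instance
  haveI : Epi (pullback.snd p.toHom f.hom) := epi_of_epi (pullback.lift _ _ hw) _
  haveI := isIso_of_mono_of_epi (pullback.snd p.toHom f.hom)
  exact ⟨inv (pullback.snd p.toHom f.hom) ≫ pullback.fst p.toHom f.hom, by
    rw [Category.assoc, pullback.condition, IsIso.inv_hom_id_assoc]⟩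

end Groth.Agent.S10373
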