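import Groth.Statements.S10376
import Groth.Agent.Lib.AlgSp.NormExists
import Groth.Agent.Lib.AlgSp.UnramMono
-- import your own Groth.Agent.* helpers here

set_option autoImplicit false
universe u
open CategoryTheory CategoryTheory.Limits AlgebraicGeometry Topology TopologicalSpace
open AlgSp GrothLib.AlgSp
set_option backward.isDefEq.respectTransparency false

namespace Groth.Agent.S10376

/-- Let S be a scheme, Y and V algebraic spaces over S, j : V ⟶ Y a quasi-compact open immersion, and π
: Z ⟶ V an integral morphism. Then one can find an integral morphism ν : Y' ⟶ Y for which Z is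
isomorphic over V to the preimage in Y' of V: there is j' : Z ⟶ Y' making the square (j', π, ν, j)
cartesian. -/
theorem result {S : Scheme.{u}} {V Y Z : AlgSp.Space S} (j : V ⟶ Y)
    (hj : AlgSp.RepWith @IsOpenImmersion j.hom) (hjq : AlgSp.IsQuasiCompactMor j.hom) (π : Z ⟶ V)
    (hπ : AlgSp.IsIntegralMor π.hom) :
    ∃ (Y' : AlgSp.Space S) (ν : Y' ⟶ Y) (j' : Z ⟶ Y'), AlgSp.IsIntegralMor ν.hom ∧
      IsPullback j'.hom π.hom ν.hom j.hom := by
  have hπr := isIntegralMor_iff.1 hπ
  haveI := mono_of_openImmersion hj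
  let f : Z.obj ⟶ Y.obj := π.hom ≫ j.hom
  have hqc : IsQuasiCompactMor f := isQuasiCompactMor_comp Z.property V.property Y.property
    (isQuasiCompactMor_of_repWith (repWith_mono hπr fun A B m (hm : IsIntegralHom m) => inferInstance)) hjq
  have hqs : IsQuasiSeparatedMor f := by
    have hf : RepWith @QuasiSeparated f := repWith_comp
      (repWith_mono hπr fun A B m (hm : IsIntegralHom m) => inferInstance)
      (repWith_mono hj fun A B m (hm : IsOpenImmersion m) => inferInstance)
    exact (isQuasiSeparatedMor_iff_repWith hf.1).2 hf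
  obtain ⟨N, ν, φ, hN, h⟩ := exists_univNorm Y.property Z.property f hqc hqs
  have hje' : RepWith @Etale j.hom := repWith_mono hj fun A B m hm => by
    have : IsOpenImmersion m := hm
    exact inferInstanceAs (Etale m)
  have hje : IsEtaleMor j.hom := fun U φ hφ => repWith_comp hφ hje'
  have sqZ : IsPullback (𝟙 Z.obj) π.hom f j.hom := by
    have := isPullback_comp_mono j.hom (IsPullback.of_horiz_isIso ⟨by simp⟩ : IsPullback (𝟙 Z.obj) π.hom π.hom (𝟙 _))
    rwa [Category.id_comp] at this
  have sqN := IsPullback.of_hasPullback ν j.hom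
  have hNV : IsAlgSpace (pullback ν j.hom) := isAlgSpace_pullback' Y.property hN V.property _ _
  let φV : Z.obj ⟶ pullback ν j.hom := pullback.lift φ π.hom h.1
  have hV := (h.of_isPullback hje sqZ sqN (φ' := φV) (by rw [Category.id_comp]; exact pullback.lift_fst _ _ _)
    (pullback.lift_snd _ _ _)).isRelNormalization V.property
  have hZ : IsRelNormalization π.hom π.hom (𝟙 Z.obj) := ⟨Category.id_comp _, hπ, fun W _ π' g _ hg =>
    ⟨g, ⟨Category.id_comp _, hg⟩, fun g' hg' => by rw [← hg'.1, Category.id_comp]⟩⟩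
  obtain ⟨e, e₁, e₂⟩ := isRelNormalization_iso hZ hV Z.property hNV
  refine ⟨⟨N, hN⟩, ObjectProperty.homMk ν, ObjectProperty.homMk φ, h.2.1, ?_⟩
  rw [Category.id_comp] at e₁
  refine sqN.of_iso e.symm (Iso.refl _) (Iso.refl _) (Iso.refl _) ?_ ?_ (by simp) (by simp)
  · simp only [Iso.refl_hom, Category.comp_id, Iso.symm_hom]
    rw [Iso.eq_inv_comp, e₁, pullback.lift_fst]
    rfl
  · simp only [Iso.refl_hom, Category.comp_id, Iso.symm_hom]
    rw [Iso.eq_inv_comp, e₂]
end Groth.Agent.S10376
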