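import Groth.Agent.Lib.AlgSp.Decent
import Groth.Statements.S10382
-- import your own Groth.Agent.* helpers here

set_option autoImplicit false
universe u
open CategoryTheory CategoryTheory.Limits AlgebraicGeometry Topology TopologicalSpace
open AlgSp

namespace Groth.Agent.S10382

/-- The composition of two decent morphisms of algebraic spaces over a scheme S is decent. -/
theorem result {S : Scheme.{u}} {X Y Z : AlgSp.Space S} (f : X ⟶ Y) (g : Y ⟶ Z)
    (hf : AlgSp.IsDecentMor f.hom) (hg : AlgSp.IsDecentMor g.hom) : AlgSp.IsDecentMor (f ≫ g).hom := by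
  intro T F' ξ fst snd sq
  have sG := IsPullback.of_hasPullback g.hom ξ
  refine GrothLib.AlgSp.isDecent_of_fibres (ψ := sG.lift (fst ≫ f.hom) snd ?_) (hg ξ _ _ sG)
    fun q P p₁ p₂ sP => ?_
  · rw [Category.assoc]; exact sq.w
  · refine hf (q.toHom ≫ pullback.fst g.hom ξ) (p₁ ≫ fst) p₂ ?_
    refine sP.paste_horiz (IsPullback.of_bot (v₂₁ := pullback.snd g.hom ξ) (v₂₂ := g.hom) (h₃₁ := ξ) ?_ ?_ sG)
    · rw [sG.lift_snd]; exact sq
    · exact (sG.lift_fst _ _ _).symm

end Groth.Agent.S10382
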