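import Groth.Agent.Lib.AlgSp.DecentEtale
import Groth.Statements.S10385
-- import your own Groth.Agent.* helpers here

set_option autoImplicit false
universe u
open CategoryTheory CategoryTheory.Limits AlgebraicGeometry Topology TopologicalSpace
open AlgSp

namespace Groth.Agent.S10385

/-- Let S be a scheme, X and Y algebraic spaces over S, and f : X ⟶ Y a quasi-compact, etale and
surjective morphism. If each point of X can be represented by a monomorphism whose source is the
spectrum of a field, then so can each point of Y. -/
theorem result {S : Scheme.{u}} {X Y : AlgSp.Space S} (f : X ⟶ Y)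
    (hq : AlgSp.IsQuasiCompactMor f.hom) (he : AlgSp.IsEtaleMor f.hom) (hs : AlgSp.IsSurjectiveMor f.hom)
    (hX : ∀ x : AlgSp.Points X.obj, ∃ p : AlgSp.FieldPt X.obj, AlgSp.Points.mk p = x ∧ Mono p.toHom)
    (y : AlgSp.Points Y.obj) : ∃ q : AlgSp.FieldPt Y.obj, AlgSp.Points.mk q = y ∧ Mono q.toHom := by
  obtain ⟨x, rfl⟩ := hs y
  obtain ⟨p, rfl, hm⟩ := hX x
  exact GrothLib.AlgSp.exists_mono_point_of_qc_etale X.property Y.property hq he p

end Groth.Agent.S10385
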