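import Groth.Agent.Lib.AlgSp.Decent
import Groth.Statements.S10386
-- import your own Groth.Agent.* helpers here

set_option autoImplicit false
universe u
open CategoryTheory CategoryTheory.Limits AlgebraicGeometry Topology TopologicalSpace
open AlgSp

namespace Groth.Agent.S10386

/-- (3) ⇒ (1): let S be a scheme, X and Y algebraic spaces over S, and f : X ⟶ Y a morphism such that Z
×_Y X is decent for every affine scheme Z and every Z ⟶ Y. Then f is decent, i.e. T ×_Y X is decent
for every scheme T over Y. -/
theorem result {S : Scheme.{u}} {X Y : AlgSp.Space S} (f : X ⟶ Y)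
    (h : ∀ (Z : Over S) (g : (AlgSp.yon S).obj Z ⟶ Y.obj) (P : AlgSp.Sp S) (fst : P ⟶ X.obj)
      (snd : P ⟶ (AlgSp.yon S).obj Z), IsAffine Z.left → IsPullback fst snd f.hom g → AlgSp.IsDecent P) :
    AlgSp.IsDecentMor f.hom := by
  intro T F' g fst snd sq
  let W : T.left.affineCover.I₀ → Over S := fun i => Over.mk (T.left.affineCover.f i ≫ T.hom)
  let w : ∀ i, W i ⟶ T := fun i => Over.homMk (T.left.affineCover.f i) rfl
  have ho : ∀ i, RepWith @IsOpenImmersion ((yon S).map (w i)) := fun i =>
    (AlgSp.repWith_yon_map_iff _ _).2 (inferInstanceAs (IsOpenImmersion (T.left.affineCover.f i)))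
  refine GrothLib.AlgSp.isDecent_of_openCover
    (GrothLib.AlgSp.isAlgSpace_pullback Y.property.diag X.property (IsAlgSpace.yon_obj T) sq)
    (fun i => pullback snd ((yon S).map (w i))) (fun i => pullback.fst _ _) ⟨fun i => ?_, fun x => ?_⟩ fun i => ?_
  · exact GrothLib.AlgSp.repWith_of_isPullback (IsPullback.of_hasPullback snd ((yon S).map (w i))).flip (ho i)
  · obtain ⟨t, ht⟩ := (Points.schemeEquiv T).surjective (Points.map snd x)
    obtain ⟨z, hz⟩ := T.left.affineCover.covers t
    obtain ⟨v, hv, -⟩ := GrothLib.AlgSp.exists_of_isPullback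
      (IsPullback.of_hasPullback snd ((yon S).map (w (T.left.affineCover.idx t))))
      (x := x) (y := Points.ofScheme (W (T.left.affineCover.idx t)) z) (by
        rw [GrothLib.AlgSp.map_yon_ofPt]
        change _ = Points.ofScheme T _
        rw [← ht]; exact congrArg (Points.ofScheme T) hz.symm)
    exact ⟨T.left.affineCover.idx t, v, hv⟩
  · exact h (W i) ((yon S).map (w i) ≫ g) _ (pullback.fst _ _ ≫ fst) (pullback.snd _ _)
      (inferInstanceAs (IsAffine (T.left.affineCover.X i)))
      ((IsPullback.of_hasPullback snd ((yon S).map (w i))).flip.paste_vert sq.flip).flip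

end Groth.Agent.S10386
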