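import Groth.Agent.Lib.AlgSp.DecentEtale
import Groth.Statements.S10387
-- import your own Groth.Agent.* helpers here

set_option autoImplicit false
universe u
open CategoryTheory CategoryTheory.Limits AlgebraicGeometry Topology TopologicalSpace
open AlgSp

namespace Groth.Agent.S10387

/-- (5) ⇒ (1): let S be a scheme, X and Y algebraic spaces over S, f : X ⟶ Y a morphism, and V ⟶ Y a
surjective etale morphism from a scheme. If the base change V ×_Y X ⟶ V is a decent morphism, then f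
is decent. -/
theorem result {S : Scheme.{u}} {X Y : AlgSp.Space S} (f : X ⟶ Y) {V : Over S}
    (p : (AlgSp.yon S).obj V ⟶ Y.obj) (hp : AlgSp.RepWith @Etale p) (hps : AlgSp.RepWith @Surjective p)
    (X' : AlgSp.Sp S) (fst : X' ⟶ X.obj) (snd : X' ⟶ (AlgSp.yon S).obj V) (hsq : IsPullback fst snd f.hom p)
    (h : AlgSp.IsDecentMor snd) : AlgSp.IsDecentMor f.hom := by
  intro T F' g a b sqF
  refine GrothLib.AlgSp.isDecent_of_fibres (ψ := b) (GrothLib.AlgSp.isDecent_yon T) fun q Q a' b' sqQ => ?_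
  have sq := sqQ.paste_horiz sqF
  obtain ⟨W, w₁, w₂, sW⟩ := GrothLib.AlgSp.exists_isPullback_of_representable hp.1 (q.toHom ≫ g)
  obtain ⟨w₁, rfl⟩ := (AlgSp.yon S).map_surjective w₁
  haveI : Etale w₂.left := hp.2 _ _ _ sW
  haveI : Surjective w₂.left := hps.2 _ _ _ sW
  haveI : LocallyQuasiFinite w₂.left := GrothLib.AlgSp.locallyQuasiFinite_of_unramified _
  haveI : IsLocallyArtinian q.pt.left := inferInstanceAs (IsLocallyArtinian (Spec (CommRingCat.of q.K)))
  haveI : IsLocallyArtinian W.left := .of_locallyQuasiFinite w₂.left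
  obtain ⟨v, -⟩ := w₂.left.surjective (IsLocalRing.closedPoint q.K)
  let O : W.left.Opens := ⟨{v}, isOpen_discrete _⟩
  let L : Over S := Over.mk (O.ι ≫ W.hom)
  let o : L ⟶ W := Over.homMk O.ι rfl
  haveI : Finite ↥L.left := inferInstanceAs (Finite ({v} : Set W.left))
  haveI : Etale o.left := inferInstanceAs (Etale O.ι)
  haveI : Etale (o ≫ w₂).left := by rw [Over.comp_left]; infer_instance
  haveI : Surjective (o ≫ w₂).left :=
    ⟨fun t => ⟨⟨v, rfl⟩, Subsingleton.elim (α := PrimeSpectrum q.K) _ _⟩⟩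
  haveI : QuasiCompact (o ≫ w₂).left := GrothLib.AlgSp.quasiCompact_of_finite _
  have hQ := GrothLib.AlgSp.isAlgSpace_pullback Y.property.diag X.property (AlgSp.IsAlgSpace.yon_obj q.pt) sq
  have sqL := IsPullback.of_hasPullback b' ((AlgSp.yon S).map (o ≫ w₂))
  have hQL := GrothLib.AlgSp.isAlgSpace_pullback' (AlgSp.IsAlgSpace.yon_obj q.pt) hQ (AlgSp.IsAlgSpace.yon_obj L) b'
    ((AlgSp.yon S).map (o ≫ w₂))
  have hw : (AlgSp.yon S).map (o ≫ w₁) ≫ p = (AlgSp.yon S).map (o ≫ w₂) ≫ q.toHom ≫ g := by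
    rw [Functor.map_comp, Functor.map_comp, Category.assoc, Category.assoc, sW.w]
  have sqO := sqL.paste_horiz sq
  rw [← hw] at sqO
  let l := hsq.lift (pullback.fst b' ((AlgSp.yon S).map (o ≫ w₂)) ≫ a' ≫ a)
    (pullback.snd b' ((AlgSp.yon S).map (o ≫ w₂)) ≫ (AlgSp.yon S).map (o ≫ w₁))
    (sqO.w.trans (Category.assoc _ _ _).symm)
  have hsnd : IsPullback l (pullback.snd b' ((AlgSp.yon S).map (o ≫ w₂))) snd ((AlgSp.yon S).map (o ≫ w₁)) :=
    IsPullback.of_right (h₁₂ := fst) (h₂₂ := p) (v₁₃ := f.hom) (by rw [hsq.lift_fst]; exact sqO)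
      (hsq.lift_snd _ _ _) hsq
  have hc := GrothLib.AlgSp.repWith_of_isPullback sqL.flip
    ((AlgSp.repWith_yon_map_iff @Etale (o ≫ w₂)).2 inferInstance)
  exact GrothLib.AlgSp.isDecent_of_qc_etale_surjective hQL hQ
    (GrothLib.AlgSp.isQuasiCompactMor_of_repWith (GrothLib.AlgSp.repWith_of_isPullback sqL.flip
      ((AlgSp.repWith_yon_map_iff @QuasiCompact (o ≫ w₂)).2 inferInstance)))
    (GrothLib.AlgSp.isEtaleMor_of_locP hQ (GrothLib.AlgSp.EtLocal.etale.locP_of_repWith hQ hc))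
    (GrothLib.AlgSp.surjective_map_of_repWith (GrothLib.AlgSp.repWith_of_isPullback sqL.flip
      ((AlgSp.repWith_yon_map_iff @Surjective (o ≫ w₂)).2 inferInstance)))
    (h _ _ _ hsnd)

end Groth.Agent.S10387
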