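import Groth.Statements.S10388
import Groth.Agent.Lib.AlgSp.ValExt

set_option autoImplicit false
universe u
open CategoryTheory CategoryTheory.Limits AlgebraicGeometry Topology TopologicalSpace
open AlgSp

namespace Groth.Agent.S10388

/-- Let S be a scheme, X and Y algebraic spaces over S, and f : X ⟶ Y a quasi-compact decent morphism.
If f is universally closed, then the valuative criterion's existence part holds for f. (The
published statement is the equivalence of the two conditions; the converse implication holds for
every quasi-compact f and is not part of this row.) -/
theorem result {S : Scheme.{u}} {X Y : AlgSp.Space S} (f : X ⟶ Y)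
    (hq : AlgSp.IsQuasiCompactMor f.hom) (hd : AlgSp.IsDecentMor f.hom) (hc : AlgSp.IsUnivClosedMor f.hom) :
    AlgSp.ExistVC f.hom := by
  intro v
  refine GrothLib.AlgSp.hasLiftExt_of_isUnivClosedMor X.property Y.property hc v fun P fst snd sq => ?_
  have hP : IsAlgSpace P := GrothLib.AlgSp.isAlgSpace_pullback Y.property.diag X.property (IsAlgSpace.yon_obj _) sq
  exact GrothLib.AlgSp.finiteFibres_of_isDecent hP (hd v.bot fst snd sq) _

end Groth.Agent.S10388
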