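import Groth.Agent.Lib.AlgSp.DecentBridge
import Groth.Statements.S10389
-- import your own Groth.Agent.* helpers here

set_option autoImplicit false
universe u
open CategoryTheory CategoryTheory.Limits AlgebraicGeometry Topology TopologicalSpace
open AlgSp

namespace Groth.Agent.S10389

/-- Let W = X ×_Y Z be a fibre product of algebraic spaces over a scheme S with projections p, q, and
let x ∈ |X|, z ∈ |Z| lie over the same point y ∈ |Y|. If y is represented by a monomorphism Spec k ⟶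
Y from the spectrum of a field and g : Z ⟶ Y is quasi-finite at z, then the set of points of |W|
mapping to x and to z is finite. (Special case: Y decent and g etale.) -/
theorem result {S : Scheme.{u}} {X Y Z W : AlgSp.Space S} (f : X ⟶ Y)
    (g : Z ⟶ Y) (p : W ⟶ X) (q : W ⟶ Z) (hW : IsPullback p.hom q.hom f.hom g.hom) (x : AlgSp.Points X.obj)
    (z : AlgSp.Points Z.obj) (hxz : AlgSp.Points.map f.hom x = AlgSp.Points.map g.hom z)
    (hy : ∃ r : AlgSp.FieldPt Y.obj, AlgSp.Points.mk r = AlgSp.Points.map g.hom z ∧ Mono r.toHom)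
    (hg : AlgSp.HasAtMor (fun U _ h u => ∃ W : U.Opens, u ∈ W ∧ LocallyQuasiFinite (W.ι ≫ h) ∧ LocallyOfFiniteType (W.ι ≫ h)) g.hom z) :
    {w : AlgSp.Points W.obj | AlgSp.Points.map p.hom w = x ∧ AlgSp.Points.map q.hom w = z}.Finite := by
  obtain ⟨U, V, a, b, h, u, ha, hb, comm, rfl, O, huO, hlqf, hlft⟩ := hg
  obtain ⟨r, hr, hm⟩ := hy
  haveI := hm
  obtain ⟨V₀, c, d, sqV⟩ := GrothLib.AlgSp.exists_isPullback_yon Y.property.diag r.toHom b
  haveI : Etale c.left := hb.2 _ _ _ sqV.flip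
  haveI : LocallyQuasiFinite c.left := GrothLib.AlgSp.locallyQuasiFinite_of_unramified _
  obtain ⟨w₀, -, hw₀⟩ := (GrothLib.AlgSp.ofPt_eq_ofPt_iff sqV (IsLocalRing.closedPoint r.K) (h.left u)).1 (by
    rw [AlgSp.Points.ofPt_toHom, hr, AlgSp.Points.map_ofPt, comm, GrothLib.AlgSp.ofPt_map_comp])
  let jO : Over.mk (O.ι ≫ U.hom) ⟶ U := Over.homMk O.ι rfl
  haveI : LocallyQuasiFinite (jO ≫ h).left := hlqf
  haveI : LocallyOfFiniteType (jO ≫ h).left := hlft
  have sqT := IsPullback.of_hasPullback d (jO ≫ h)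
  let T := pullback d (jO ≫ h)
  haveI : LocallyQuasiFinite (pullback.fst d (jO ≫ h)).left :=
    MorphismProperty.of_isPullback (GrothLib.AlgSp.isPullback_left sqT).flip hlqf
  haveI : LocallyOfFiniteType (pullback.fst d (jO ≫ h)).left :=
    MorphismProperty.of_isPullback (GrothLib.AlgSp.isPullback_left sqT).flip hlft
  let τ : T ⟶ r.pt := pullback.fst d (jO ≫ h) ≫ c
  haveI : LocallyQuasiFinite τ.left := inferInstanceAs (LocallyQuasiFinite ((pullback.fst d (jO ≫ h)).left ≫ c.left))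
  haveI : LocallyOfFiniteType τ.left := inferInstanceAs (LocallyOfFiniteType ((pullback.fst d (jO ≫ h)).left ≫ c.left))
  haveI : IsLocallyArtinian r.pt.left := inferInstanceAs (IsLocallyArtinian (Spec (CommRingCat.of r.K)))
  haveI : IsLocallyArtinian T.left := .of_locallyQuasiFinite τ.left
  obtain ⟨t₀, -, ht₀⟩ := Scheme.Pullback.exists_preimage_pullback w₀ (⟨u, huO⟩ : (O : Scheme.{u})) (f := d.left) (g := (jO ≫ h).left) hw₀
  let e := (GrothLib.AlgSp.isPullback_left sqT).isoPullback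
  let t : ↥T.left := e.inv t₀
  have ht : jO.left ((pullback.snd d (jO ≫ h)).left t) = u := by
    show jO.left ((e.inv ≫ (pullback.snd d (jO ≫ h)).left) t₀) = u
    rw [IsPullback.isoPullback_inv_snd, ht₀]
    rfl
  haveI := (isClosed_singleton_iff_isClosedImmersion).mp (isClosed_discrete ({t} : Set ↥T.left))
  let jt : Over.mk (T.left.fromSpecResidueField t ≫ T.hom) ⟶ T := Over.homMk (T.left.fromSpecResidueField t) rfl
  let ζ := (AlgSp.yon S).map (jt ≫ pullback.snd d (jO ≫ h) ≫ jO) ≫ a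
  have hζ : ζ ≫ g.hom = (AlgSp.yon S).map (jt ≫ τ) ≫ r.toHom := by
    simp only [ζ, τ, Category.assoc, comm, Functor.map_comp]
    rw [sqV.w]
    simp only [← Functor.map_comp_assoc, Category.assoc, pullback.condition]
  obtain ⟨qx, rfl⟩ := AlgSp.Points.mk_surjective x
  obtain ⟨cx, hcx⟩ : ∃ cx : qx.pt ⟶ r.pt, (AlgSp.yon S).map cx ≫ r.toHom = qx.toHom ≫ f.hom := by
    obtain ⟨cx, hcx⟩ := GrothLib.AlgSp.exists_factor_mono_point Y.property r (qx.map f.hom) (hr.trans hxz.symm)
    exact ⟨cx, hcx.trans (AlgSp.FieldPt.toHom_map _ _)⟩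
  haveI : IsFinite (jt ≫ τ).left := by
    haveI : LocallyQuasiFinite (jt ≫ τ).left := inferInstanceAs (LocallyQuasiFinite (T.left.fromSpecResidueField t ≫ τ.left))
    haveI : LocallyOfFiniteType (jt ≫ τ).left := inferInstanceAs (LocallyOfFiniteType (T.left.fromSpecResidueField t ≫ τ.left))
    haveI : Finite ↥(Over.mk (T.left.fromSpecResidueField t ≫ T.hom)).left :=
      inferInstanceAs (Finite (PrimeSpectrum (T.left.residueField t)))
    exact (GrothLib.AlgSp.finite_of_finite_points (K := r.K) (jt ≫ τ).left).1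
  have sqP := IsPullback.of_hasPullback (jt ≫ τ) cx
  let P := pullback (jt ≫ τ) cx
  haveI : IsFinite (pullback.snd (jt ≫ τ) cx).left :=
    MorphismProperty.of_isPullback (GrothLib.AlgSp.isPullback_left sqP) ‹IsFinite (jt ≫ τ).left›
  haveI : Finite ↥qx.pt.left := GrothLib.AlgSp.finite_spec_field qx.K
  haveI : Finite ↥P.left :=
    Set.finite_univ_iff.1 ((pullback.snd (jt ≫ τ) cx).left.finite_preimage (Set.finite_univ (α := ↥qx.pt.left)))
  have hwm : ((AlgSp.yon S).map (pullback.snd (jt ≫ τ) cx) ≫ qx.toHom) ≫ f.hom =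
      ((AlgSp.yon S).map (pullback.fst (jt ≫ τ) cx) ≫ ζ) ≫ g.hom := by
    rw [Category.assoc, Category.assoc, hζ, ← hcx, ← Functor.map_comp_assoc, ← Functor.map_comp_assoc, pullback.condition]
  let m := hW.lift _ _ hwm
  refine (Set.finite_range (AlgSp.Points.ofPt m)).subset ?_
  rintro w ⟨hw₁, hw₂⟩
  obtain ⟨Ω₁, _, w₁, α, β, hαβ, hα, -⟩ := GrothLib.AlgSp.exists_common_field (f := p.hom) (g := qx.toHom) (x := w)
    (y := AlgSp.Points.ofScheme qx.pt (IsLocalRing.closedPoint qx.K))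
    (hw₁.trans (by rw [← AlgSp.Points.ofPt_eq_map_ofScheme, AlgSp.Points.ofPt_toHom]))
  obtain ⟨Ω, _, w₂, a', b', hab, -, -⟩ := GrothLib.AlgSp.exists_common_field (f := α ≫ q.hom) (g := ζ)
    (x := AlgSp.Points.ofScheme (Over.mk w₁) (IsLocalRing.closedPoint Ω₁))
    (y := AlgSp.Points.ofScheme _ (IsLocalRing.closedPoint (T.left.residueField t))) (by
      rw [← AlgSp.Points.ofPt_eq_map_ofScheme, ← AlgSp.Points.ofPt_eq_map_ofScheme, ← AlgSp.Points.map_ofPt, hα, hw₂,
        GrothLib.AlgSp.ofPt_map_comp]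
      congr 1
      simp only [Over.comp_left, Scheme.Hom.comp_apply]
      show u = jO.left ((pullback.snd d (jO ≫ h)).left (T.left.fromSpecResidueField t _))
      rw [Scheme.fromSpecResidueField_apply, ht])
  obtain ⟨a', rfl⟩ := (AlgSp.yon S).map_surjective a'
  obtain ⟨b', rfl⟩ := (AlgSp.yon S).map_surjective b'
  obtain ⟨β, rfl⟩ := (AlgSp.yon S).map_surjective β
  have e₁ : b' ≫ jt ≫ τ = (a' ≫ β) ≫ cx := (AlgSp.yon S).map_injective ((cancel_mono r.toHom).1 (by
    rw [Functor.map_comp, Category.assoc, ← hζ, ← Category.assoc, ← hab, Functor.map_comp, Functor.map_comp]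
    simp only [Category.assoc]
    rw [← hW.w, reassoc_of% hαβ, hcx]))
  let ε := pullback.lift b' (a' ≫ β) e₁
  have hε : (AlgSp.yon S).map ε ≫ m = (AlgSp.yon S).map a' ≫ α := hW.hom_ext
    (by rw [Category.assoc, Category.assoc, show m ≫ p.hom = _ from hW.lift_fst _ _ hwm]
        rw [← Functor.map_comp_assoc, pullback.lift_snd, Functor.map_comp_assoc, hαβ])
    (by rw [Category.assoc, Category.assoc, show m ≫ q.hom = _ from hW.lift_snd _ _ hwm]
        rw [← Functor.map_comp_assoc, pullback.lift_fst, ← hab])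
  refine ⟨ε.left (IsLocalRing.closedPoint Ω), ?_⟩
  refine (GrothLib.AlgSp.ofPt_map_comp ε m _).symm.trans ?_
  rw [hε, GrothLib.AlgSp.ofPt_map_comp, ← hα]
  congr 1
  exact Subsingleton.elim (α := PrimeSpectrum Ω₁) _ _

end Groth.Agent.S10389
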