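import Groth.Agent.Lib.AlgSp.FiniteDiscrete
import Groth.Agent.Lib.AlgSp.SingletonSpace
import Groth.Agent.Lib.AlgSp.Glue
import Groth.Statements.S10393
-- import your own Groth.Agent.* helpers here

set_option autoImplicit false
universe u
open CategoryTheory CategoryTheory.Limits AlgebraicGeometry Topology TopologicalSpace
open AlgSp

namespace Groth.Agent.S10393

theorem exists_iso_yon_of_mono_local {S : Scheme.{u}} {P : AlgSp.Sp S} (hP : AlgSp.IsAlgSpace P) [Nonempty (AlgSp.Points P)]
    {T : Over S} [Subsingleton ↥T.left] [IsAffine T.left] (f : P ⟶ (AlgSp.yon S).obj T) [Mono f] :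
    ∃ M : Over S, Nonempty ((AlgSp.yon S).obj M ≅ P) := by
  haveI : Subsingleton (AlgSp.Points ((AlgSp.yon S).obj T)) := (AlgSp.Points.schemeEquiv T).symm.subsingleton
  haveI : Subsingleton (AlgSp.Points P) := (GrothLib.AlgSp.injective_map_of_mono f).subsingleton
  obtain ⟨U₀, a, ha, hs⟩ := hP.atlas
  obtain ⟨u₀, -⟩ := GrothLib.AlgSp.surjective_ofPt_of_repWith hs (Classical.arbitrary (AlgSp.Points P))
  obtain ⟨O, huO, hO, b, hb, -⟩ := GrothLib.AlgSp.exists_affine_subchart ha u₀
  let U : Over S := Over.mk (O.ι ≫ U₀.hom)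
  haveI : IsAffine U.left := hO
  have hbs : AlgSp.RepWith @Surjective b := (GrothLib.AlgSp.repWith_surjective_iff hb.1).2
    fun y => ⟨AlgSp.Points.ofScheme U ⟨u₀, huO⟩, Subsingleton.elim _ _⟩
  obtain ⟨φ, hφ⟩ := (AlgSp.yon S).map_surjective (b ≫ f)
  -- the closed fibre
  obtain ⟨y⟩ : Nonempty ↥T.left := ⟨φ.left ⟨u₀, huO⟩⟩
  have hy : IsClosed ({y} : Set ↥T.left) := by
    rw [show ({y} : Set ↥T.left) = Set.univ from Set.eq_univ_of_forall fun z => Subsingleton.elim z y]
    exact isClosed_univ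
  haveI := (isClosed_singleton_iff_isClosedImmersion).mp hy
  let κ : Over S := Over.mk (T.left.fromSpecResidueField y ≫ T.hom)
  let i : κ ⟶ T := Over.homMk (T.left.fromSpecResidueField y) rfl
  have hQ := GrothLib.AlgSp.isAlgSpace_pullback' (AlgSp.IsAlgSpace.yon_obj T) hP (AlgSp.IsAlgSpace.yon_obj κ) f ((AlgSp.yon S).map i)
  haveI : Nonempty (AlgSp.Points (pullback f ((AlgSp.yon S).map i))) := by
    obtain ⟨q, -, -⟩ := GrothLib.AlgSp.exists_of_isPullback (IsPullback.of_hasPullback f ((AlgSp.yon S).map i))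
      (x := Classical.arbitrary (AlgSp.Points P))
      (y := AlgSp.Points.ofScheme κ (IsLocalRing.closedPoint (T.left.residueField y))) (Subsingleton.elim _ _)
    exact ⟨q⟩
  haveI : Mono (pullback.snd f ((AlgSp.yon S).map i)) := MorphismProperty.of_isPullback
    (P := MorphismProperty.monomorphisms (AlgSp.Sp S)) (IsPullback.of_hasPullback f ((AlgSp.yon S).map i)) ‹Mono f›
  haveI : IsIso (pullback.snd f ((AlgSp.yon S).map i)) := @GrothLib.AlgSp.isIso_of_mono_to_field_space _ _ hQ (by assumption)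
    (T.left.residueField y) _ _ (pullback.snd f ((AlgSp.yon S).map i)) (by assumption)
  -- the fibre in the chart
  let j : (AlgSp.yon S).obj κ ⟶ P := inv (pullback.snd f ((AlgSp.yon S).map i)) ≫ pullback.fst f ((AlgSp.yon S).map i)
  have sqj : IsPullback j (𝟙 _) f ((AlgSp.yon S).map i) :=
    IsPullback.of_iso (IsPullback.of_hasPullback f ((AlgSp.yon S).map i)) (asIso (pullback.snd f ((AlgSp.yon S).map i)))
      (Iso.refl _) (Iso.refl _) (Iso.refl _) (by simp [j]) (by simp) (by simp) (by simp)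
  obtain ⟨W, c, d, sqW⟩ := GrothLib.AlgSp.exists_isPullback_yon hP.diag b j
  haveI : Etale d.left := hb.2 _ _ _ sqW
  haveI : LocallyQuasiFinite d.left := GrothLib.AlgSp.locallyQuasiFinite_of_unramified _
  haveI : IsLocallyArtinian κ.left := inferInstanceAs (IsLocallyArtinian (Spec (CommRingCat.of (T.left.residueField y))))
  haveI : IsLocallyArtinian W.left := .of_locallyQuasiFinite d.left
  have sqU : IsPullback ((AlgSp.yon S).map c) ((AlgSp.yon S).map d) ((AlgSp.yon S).map φ) ((AlgSp.yon S).map i) := by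
    have := sqW.paste_vert sqj
    rw [Category.comp_id, ← hφ] at this
    exact this
  have sqU' := GrothLib.AlgSp.isPullback_left (GrothLib.AlgSp.isPullback_of_isPullback_yon sqU)
  haveI : IsClosedImmersion i.left := inferInstanceAs (IsClosedImmersion (T.left.fromSpecResidueField y))
  haveI : Surjective i.left := ⟨fun z => ⟨IsLocalRing.closedPoint _, Subsingleton.elim _ _⟩⟩
  haveI : IsClosedImmersion c.left := MorphismProperty.of_isPullback sqU'.flip ‹IsClosedImmersion i.left›
  haveI : Surjective c.left := MorphismProperty.of_isPullback sqU'.flip ‹Surjective i.left›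
  haveI : DiscreteTopology ↥U.left := discreteTopology_iff_forall_isOpen.2 fun A => by
    rw [← isClosed_compl_iff, ← Set.image_preimage_eq Aᶜ c.left.surjective]
    exact c.left.isClosedEmbedding.isClosedMap _ (isClosed_discrete _)
  haveI : Finite ↥U.left := finite_of_compact_of_discrete
  obtain ⟨R, t, s, sq⟩ := GrothLib.AlgSp.exists_isPullback_yon hP.diag b b
  have sqR : IsPullback ((AlgSp.yon S).map t) ((AlgSp.yon S).map s) ((AlgSp.yon S).map φ) ((AlgSp.yon S).map φ) := by
    rw [hφ]
    exact GrothLib.AlgSp.isPullback_of_yon (by rw [← Category.assoc, sq.w, Category.assoc]) fun W α β hab => by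
      rw [← Category.assoc, ← Category.assoc, cancel_mono] at hab
      exact ⟨sq.lift α β hab, ⟨sq.lift_fst _ _ _, sq.lift_snd _ _ _⟩,
        fun γ hγ => sq.hom_ext (by rw [sq.lift_fst, hγ.1]) (by rw [sq.lift_snd, hγ.2])⟩
  have sqR' := GrothLib.AlgSp.isPullback_left (GrothLib.AlgSp.isPullback_of_isPullback_yon sqR)
  have key : ∀ (t' s' : R ⟶ U), IsPullback ((AlgSp.yon S).map t') ((AlgSp.yon S).map s') b b →
      IsPullback t'.left s'.left φ.left φ.left →
      IsFinite s'.left ∧ Flat s'.left ∧ LocallyOfFinitePresentation s'.left := by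
    intro t' s' sq' sqL
    haveI : Etale s'.left := hb.2 _ _ _ sq'
    haveI : LocallyQuasiFinite s'.left := GrothLib.AlgSp.locallyQuasiFinite_of_unramified _
    haveI : IsAffineHom φ.left := isAffineHom_of_isAffine φ.left
    haveI : IsAffineHom s'.left := MorphismProperty.of_isPullback sqL ‹IsAffineHom φ.left›
    haveI : Finite ↥R.left := Set.finite_univ_iff.1 (s'.left.finite_preimage (Set.finite_univ (α := ↥U.left)))
    exact ⟨GrothLib.AlgSp.isFinite_of_finite_discrete s'.left, inferInstance, inferInstance⟩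
  obtain ⟨_, _, _⟩ := key t s sq sqR'
  obtain ⟨_, _, _⟩ := key s t sq.flip sqR'.flip
  haveI : IsAffine R.left := isAffine_of_isAffineHom s.left
  obtain ⟨M, c', g, -, -, -, -, hc, hg⟩ := GrothLib.AlgSp.exists_mono_factor b sq
  haveI := GrothLib.AlgSp.chart_isLocallySurjective hb hbs
  haveI : Epi b := Sheaf.epi_of_isLocallySurjective b
  haveI : Epi ((AlgSp.yon S).map c' ≫ g) := by rw [hc]; infer_instance
  haveI : Epi g := epi_of_epi ((AlgSp.yon S).map c') _
  haveI := isIso_of_mono_of_epi g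
  exact ⟨M, ⟨asIso g⟩⟩

theorem main {S : Scheme.{u}} {P : AlgSp.Sp S} (hP₀ : AlgSp.IsAlgSpace P) {Y : Over S} [DiscreteTopology ↥Y.left]
    (f : P ⟶ (AlgSp.yon S).obj Y) [Mono f] : P.obj.IsRepresentable := by
  let ι := {y : ↥Y.left // ∃ x, AlgSp.Points.map f x = AlgSp.Points.ofScheme Y y}
  let O : ι → Y.left.Opens := fun y => ⟨{y.1}, isOpen_discrete _⟩
  let T : ι → Over S := fun y => Over.mk ((O y).ι ≫ Y.hom)
  let jT : ∀ y, T y ⟶ Y := fun y => Over.homMk (O y).ι rfl
  have hmain : ∀ y : ι, ∃ (M : Over S) (g : (AlgSp.yon S).obj M ⟶ P), AlgSp.RepWith @IsOpenImmersion g ∧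
      ∀ x, AlgSp.Points.map f x = AlgSp.Points.ofScheme Y y.1 → x ∈ Set.range (AlgSp.Points.map g) := by
    intro y
    haveI : Subsingleton ↥(T y).left := inferInstanceAs (Subsingleton ({y.1} : Set _))
    haveI : IsAffine (T y).left := by
      obtain ⟨A, hA, hyA, -⟩ := exists_isAffineOpen_mem_and_subset (U := O y) (x := y.1) (Set.mem_singleton y.1)
      obtain ⟨B, hB, hyB, hBO⟩ := exists_isAffineOpen_mem_and_subset (U := O y) (x := y.1) (Set.mem_singleton y.1)
      have : B = O y := le_antisymm hBO fun z hz => (Set.mem_singleton_iff.1 hz) ▸ hyB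
      rw [this] at hB
      exact hB
    have hj : AlgSp.RepWith @IsOpenImmersion ((AlgSp.yon S).map (jT y)) :=
      (AlgSp.repWith_yon_map_iff _ _).2 (inferInstanceAs (IsOpenImmersion (O y).ι))
    have hP := GrothLib.AlgSp.isAlgSpace_pullback' (AlgSp.IsAlgSpace.yon_obj Y) hP₀ (AlgSp.IsAlgSpace.yon_obj (T y))
      f ((AlgSp.yon S).map (jT y))
    have hex : ∀ x, AlgSp.Points.map f x = AlgSp.Points.ofScheme Y y.1 →
        x ∈ Set.range (AlgSp.Points.map (pullback.fst f ((AlgSp.yon S).map (jT y)))) := fun x hx => by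
      haveI : Nonempty ↥(T y).left := inferInstanceAs (Nonempty ({y.1} : Set _))
      obtain ⟨z⟩ := (inferInstance : Nonempty ↥(T y).left)
      have hz : (jT y).left z = y.1 := by
        have hm : (jT y).left z ∈ Set.range (O y).ι := Set.mem_range_self (f := ⇑(O y).ι) z
        rw [Scheme.Opens.range_ι] at hm
        exact Set.mem_singleton_iff.1 hm
      obtain ⟨p, hp, -⟩ := GrothLib.AlgSp.exists_of_isPullback (IsPullback.of_hasPullback f ((AlgSp.yon S).map (jT y)))
        (x := x) (y := AlgSp.Points.ofScheme (T y) z) (hx.trans (by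
          rw [← AlgSp.Points.ofPt_eq_map_ofScheme, ← hz, ← Category.comp_id ((AlgSp.yon S).map (jT y)),
            GrothLib.AlgSp.ofPt_map_comp]))
      exact ⟨p, hp⟩
    obtain ⟨x, hx⟩ := y.2
    obtain ⟨p, -⟩ := hex x hx
    haveI : Nonempty (AlgSp.Points (pullback f ((AlgSp.yon S).map (jT y)))) := ⟨p⟩
    haveI : Mono (pullback.snd f ((AlgSp.yon S).map (jT y))) := MorphismProperty.of_isPullback
      (P := MorphismProperty.monomorphisms (AlgSp.Sp S)) (IsPullback.of_hasPullback f ((AlgSp.yon S).map (jT y))) ‹Mono f›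
    obtain ⟨M, ⟨e⟩⟩ := @exists_iso_yon_of_mono_local _ _ hP ⟨p⟩ (T y) ‹_› ‹_› (pullback.snd f ((AlgSp.yon S).map (jT y))) (by assumption)
    refine ⟨M, e.hom ≫ pullback.fst f ((AlgSp.yon S).map (jT y)),
      MorphismProperty.RespectsIso.precomp _ _ _
        (GrothLib.AlgSp.repWith_of_isPullback (IsPullback.of_hasPullback f ((AlgSp.yon S).map (jT y))).flip hj),
      fun x' hx' => ?_⟩
    obtain ⟨p', hp'⟩ := hex x' hx'
    exact ⟨AlgSp.Points.map e.inv p', by rw [← AlgSp.Points.map_comp, e.inv_hom_id_assoc]; exact hp'⟩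
  choose M g hg hcov using hmain
  obtain ⟨N, e, -, -⟩ := GrothLib.AlgSp.exists_iso_yon_of_openCover M g hg fun x => by
    obtain ⟨y, hy⟩ := (AlgSp.Points.schemeEquiv Y).surjective (AlgSp.Points.map f x)
    exact ⟨⟨y, x, hy.symm⟩, hcov _ x hy.symm⟩
  exact (AlgSp.representableByOfIso e).isRepresentable


/-- Let S be a scheme, Y a scheme over S whose underlying topological space is discrete (equivalently, Y
is a disjoint union of spectra of local rings of dimension zero), and X an algebraic space over S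
with a monomorphism X ⟶ Y over S. Then X is a scheme. -/
theorem result {S : Scheme.{u}} (Y : Over S) [DiscreteTopology ↥Y.left]
    (X : AlgSp.Space S) (f : X ⟶ (AlgSp.ofScheme S).obj Y) [Mono f.hom] : X.obj.obj.IsRepresentable := by
  exact @main _ _ X.property _ _ f.hom ‹Mono f.hom›

end Groth.Agent.S10393
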