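import Groth.Statements.S10397
import Groth.Agent.Lib.AlgSp.LocSepDecent
import Groth.Agent.Lib.AlgSp.SchematicDense
import Groth.Agent.Lib.AlgSp.Decent
import Groth.Agent.Lib.AlgSp.FlatMono
import Groth.Agent.Lib.AlgSp.Points

set_option autoImplicit false
universe u
open CategoryTheory CategoryTheory.Limits AlgebraicGeometry Topology TopologicalSpace
open AlgSp

namespace Groth.Agent.S10397

open Topology GrothLib.AlgSp in
theorem isDecent_of_dense {S : Scheme.{u}} {X : Sp S} (hX : IsAlgSpace X) {X' : Over S}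
    (j : (yon S).obj X' ⟶ X) (hd : Dense (Set.range (Points.ofPt j))) (hf : (irreducibleComponents ↥X'.left).Finite)
    (hq : ∀ x' : ↥X'.left, (∃ T ∈ irreducibleComponents ↥X'.left, IsGenericPoint x' T) →
      RepWith @QuasiCompact (FieldPt.ofPt j x').toHom) : IsDecent X := by
  classical
  refine isDecent_of_degGE_bounded hX fun U a hU ha x => ?_
  haveI := hU
  have hG : {x' : ↥X'.left | ∃ T ∈ irreducibleComponents ↥X'.left, IsGenericPoint x' T}.Finite := by
    refine (hf.biUnion (t := fun T => {x' | IsGenericPoint x' T}) fun T _ => ?_).subset fun x' ⟨T, hT, h⟩ =>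
      Set.mem_biUnion hT h
    exact Set.Subsingleton.finite fun _ h₁ _ h₂ => h₁.eq h₂
  have hN : ∀ x' ∈ hG.toFinset, ∃ N, Points.ofPt j x' ∉ degGE a N := fun x' hx' =>
    exists_not_mem_degGE hX ha (FieldPt.ofPt j x') (hq x' (hG.mem_toFinset.1 hx'))
  choose N hN using hN
  refine ⟨hG.toFinset.attach.sup fun x' => N x'.1 x'.2, fun hx => ?_⟩
  obtain ⟨_, hy, ⟨y, rfl⟩⟩ := hd.inter_open_nonempty _ (isOpen_degGE' hX ha _) ⟨x, hx⟩
  obtain ⟨T, hT, hyT⟩ : ∃ T ∈ irreducibleComponents ↥X'.left, y ∈ T :=
    ⟨_, irreducibleComponent_mem_irreducibleComponents y, mem_irreducibleComponent⟩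
  obtain ⟨η, hη⟩ := QuasiSober.sober hT.1 (isClosed_of_mem_irreducibleComponents _ hT)
  have hηG : η ∈ hG.toFinset := hG.mem_toFinset.2 ⟨T, hT, hη⟩
  have hη' := (Specializes.map (hη.specializes hyT) (Points.continuous_ofPt j)).mem_open (isOpen_degGE' hX ha _) hy
  exact hN η hηG (degGE_antitone (Finset.le_sup (f := fun x' : {x // x ∈ hG.toFinset} => N x'.1 x'.2)
    (Finset.mem_attach _ ⟨η, hηG⟩)) hη')

theorem finite_components_of_dense {α β : Type*} [TopologicalSpace α] [TopologicalSpace β] {e : α → β}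
    (he : Continuous e) (hd : Dense (Set.range e)) (hf : (irreducibleComponents α).Finite) :
    (irreducibleComponents β).Finite := by
  refine (hf.image fun T => closure (e '' T)).subset fun Z hZ => ?_
  have hcov : Z ⊆ ⋃ T ∈ irreducibleComponents α, closure (e '' T) := by
    intro z _
    have hc : IsClosed (⋃ T ∈ irreducibleComponents α, closure (e '' T)) :=
      hf.isClosed_biUnion fun _ _ => isClosed_closure
    refine closure_minimal ?_ hc (hd z)
    rintro _ ⟨a, rfl⟩
    exact Set.mem_biUnion (irreducibleComponent_mem_irreducibleComponents a)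
      (subset_closure ⟨a, mem_irreducibleComponent, rfl⟩)
  obtain ⟨u, hu, hZu⟩ := (isIrreducible_iff_sUnion_isClosed.1 hZ.1) (hf.image fun T => closure (e '' T)).toFinset
    (fun u hu => by
      obtain ⟨T, -, rfl⟩ := (Set.Finite.mem_toFinset _).1 hu
      exact isClosed_closure)
    (by simpa [Set.sUnion_image] using hcov)
  obtain ⟨T, hT, rfl⟩ := (Set.Finite.mem_toFinset _).1 hu
  exact ⟨T, hT, (hZ.eq_of_subset ((hT.1.image e he.continuousOn).closure) hZu).symm⟩

theorem finite_components_of_openEmbedding {α β : Type*} [TopologicalSpace α] [TopologicalSpace β] {e : α → β}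
    (he : Topology.IsOpenEmbedding e) (hf : (irreducibleComponents β).Finite) :
    (irreducibleComponents α).Finite := by
  refine (hf.image fun Z => e ⁻¹' Z).subset fun T hT => ?_
  obtain ⟨Z, hZ, hTZ⟩ := exists_mem_irreducibleComponents_subset_of_isIrreducible _ (hT.1.image e he.continuous.continuousOn)
  refine ⟨Z, hZ, (hT.eq_of_subset (hZ.1.preimage he ?_) (Set.image_subset_iff.1 hTZ)).symm⟩
  obtain ⟨a, ha⟩ := hT.1.1
  exact ⟨e a, hTZ ⟨a, ha, rfl⟩, a, rfl⟩

/-- (1) ⇔ (3): an algebraic space X over a scheme S is decent with |X| having finitely many irreducible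
components if and only if X has a dense open subscheme X' with finitely many irreducible components
whose generic points x'_j give quasi-compact morphisms Spec κ(x'_j) ⟶ X. -/
theorem result {S : Scheme.{u}} (X : AlgSp.Space S) :
    (AlgSp.IsDecent X.obj ∧ (irreducibleComponents (AlgSp.Points X.obj)).Finite) ↔
      ∃ (X' : Over S) (j : (AlgSp.yon S).obj X' ⟶ X.obj), AlgSp.RepWith @IsOpenImmersion j ∧
        Dense (Set.range (AlgSp.Points.ofPt j)) ∧ (irreducibleComponents ↥X'.left).Finite ∧
        ∀ x' : ↥X'.left, (∃ T ∈ irreducibleComponents ↥X'.left, IsGenericPoint x' T) →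
          AlgSp.RepWith @QuasiCompact (AlgSp.FieldPt.ofPt j x').toHom := by
  refine ⟨fun ⟨hd, hf⟩ => ?_, fun ⟨X', j, hj, hdense, hf, hq⟩ =>
    ⟨isDecent_of_dense X.property j hdense hf hq,
      finite_components_of_dense (Points.continuous_ofPt j) hdense hf⟩⟩
  obtain ⟨N, hN, hNd, hr⟩ := GrothLib.AlgSp.exists_dense_open_subscheme X.property hd
  obtain ⟨X', ⟨e⟩⟩ := hr.has_representation
  let i := isoOfRepresentableBy e
  let j : (yon S).obj X' ⟶ X.obj := i.hom ≫ GrothLib.AlgSp.openSubι X.obj N
  have hj : RepWith @IsOpenImmersion j :=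
    GrothLib.AlgSp.repWith_comp (GrothLib.AlgSp.repWith_iso _) (GrothLib.AlgSp.repWith_openSubι hN)
  haveI : Mono j := GrothLib.AlgSp.mono_of_openImmersion hj
  have hrange : Set.range (Points.ofPt j) = N := by
    rw [← GrothLib.AlgSp.range_openSubι (F := X.obj) (W := N)]
    ext y
    constructor
    · rintro ⟨t, rfl⟩
      refine ⟨Points.ofPt i.hom t, ?_⟩
      rw [Points.ofPt_eq_map_ofScheme, Points.ofPt_eq_map_ofScheme, ← Points.map_comp]
    · rintro ⟨y, rfl⟩
      obtain ⟨t, ht⟩ := (Points.schemeEquiv X').surjective (Points.map i.inv y)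
      refine ⟨t, ?_⟩
      rw [Points.ofPt_eq_map_ofScheme, show Points.ofScheme X' t = Points.map i.inv y from ht]
      rw [← Points.map_comp, ← Category.assoc, i.inv_hom_id, Category.id_comp]
  have hinj : Function.Injective (Points.ofPt j) := fun s t h => by
    rw [Points.ofPt_eq_map_ofScheme, Points.ofPt_eq_map_ofScheme] at h
    exact (Points.schemeEquiv X').injective (GrothLib.AlgSp.injective_map_of_mono j h)
  have hopen : IsOpenMap (Points.ofPt j) := GrothLib.AlgSp.isOpenMap_ofPt_of_repWith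
    (fun _ _ h hh => by have : IsOpenImmersion h := hh; exact h.isOpenEmbedding.isOpenMap) hj
  refine ⟨X', j, hj, hrange ▸ hNd, finite_components_of_openEmbedding
    (.of_continuous_injective_isOpenMap (Points.continuous_ofPt j) hinj hopen) hf, fun x' _ => ?_⟩
  obtain ⟨p, hp, hpm, hpq⟩ := hd (Points.mk (FieldPt.ofPt j x'))
  haveI := hpm
  haveI : Mono (FieldPt.ofPt j x').toHom := by
    rw [FieldPt.toHom_ofPt]
    refine @mono_comp _ _ _ _ _ _ (@Functor.map_mono _ _ _ _ (yon S) _ _ _ _ ?_) _ ‹Mono j›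
    exact (Over.forget S).mono_of_mono_map (inferInstanceAs (Mono (X'.left.fromSpecResidueField x')))
  obtain ⟨c, hc⟩ := GrothLib.AlgSp.exists_factor_mono_point X.property p (FieldPt.ofPt j x') hp
  obtain ⟨c', hc'⟩ := GrothLib.AlgSp.exists_factor_mono_point X.property (FieldPt.ofPt j x') p hp.symm
  haveI : IsIso ((yon S).map c) := ⟨(yon S).map c', by
    rw [← cancel_mono (FieldPt.ofPt j x').toHom, Category.assoc, hc', hc, Category.id_comp], by
    rw [← cancel_mono p.toHom, Category.assoc, hc, hc', Category.id_comp]⟩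
  rw [← hc]
  exact GrothLib.AlgSp.repWith_comp (GrothLib.AlgSp.repWith_iso _) hpq

end Groth.Agent.S10397
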