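import Groth.Agent.Lib.AlgSp.Generizations
import Groth.Statements.S10405
-- import your own Groth.Agent.* helpers here

set_option autoImplicit false
universe u
open CategoryTheory CategoryTheory.Limits AlgebraicGeometry Topology TopologicalSpace
open AlgSp

namespace Groth.Agent.S10405

/-- Let S be a scheme, X an algebraic space over S which is decent and locally Noetherian, and x ∈ |X|.
Then the set W of proper generizations of x (points x' ≠ x with x' ⤳ x), with the topology induced
from |X|, is a topological space which is Noetherian, spectral, sober and Jacobson. -/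
theorem result {S : Scheme.{u}} (X : AlgSp.Space S)
    (hd : AlgSp.IsDecent X.obj) (hN : AlgSp.IsLocNoethSp X.obj) (x : AlgSp.Points X.obj) :
    NoetherianSpace {x' : AlgSp.Points X.obj // x' ⤳ x ∧ x' ≠ x} ∧
      SpectralSpace {x' : AlgSp.Points X.obj // x' ⤳ x ∧ x' ≠ x} ∧
      QuasiSober {x' : AlgSp.Points X.obj // x' ⤳ x ∧ x' ≠ x} ∧
      JacobsonSpace {x' : AlgSp.Points X.obj // x' ⤳ x ∧ x' ≠ x} := by
  exact GrothLib.AlgSp.punctured_generizations X.property hd hN x

end Groth.Agent.S10405
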