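import Groth.Agent.Lib.AlgSp.MonoPoint
import Groth.Statements.S10407
-- import your own Groth.Agent.* helpers here

set_option autoImplicit false
universe u
open CategoryTheory CategoryTheory.Limits AlgebraicGeometry Topology TopologicalSpace
open AlgSp

namespace Groth.Agent.S10407

/-- (1) ⇒ (4): let X be an algebraic space over a scheme S, φ : U ⟶ X etale with U a scheme, and u, u' ∈
U points over the same x ∈ |X| such that, with R = U ×_X U, the map |R| → |U| ×_{|X|} |U| has finite
fibre over (u, u'). Then x is represented by a monomorphism Spec k ⟶ X with k a field. -/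
theorem result {S : Scheme.{u}} (X : AlgSp.Space S) {U : Over S}
    (φ : (AlgSp.yon S).obj U ⟶ X.obj) (hφ : AlgSp.RepWith @Etale φ) (u u' : ↥U.left)
    (he : AlgSp.Points.ofPt φ u = AlgSp.Points.ofPt φ u')
    (hfin : ∀ (R : Over S) (s t : R ⟶ U), IsPullback ((AlgSp.yon S).map t) ((AlgSp.yon S).map s) φ φ →
          {r : ↥R.left | s.left r = u ∧ t.left r = u'}.Finite) :
    ∃ p : AlgSp.FieldPt X.obj, AlgSp.Points.mk p = AlgSp.Points.ofPt φ u ∧ Mono p.toHom := by
  obtain ⟨R, t, s, sq⟩ := GrothLib.AlgSp.exists_isPullback_yon X.property.diag φ φ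
  exact GrothLib.AlgSp.exists_mono_point_of_fibre_finite X.property hφ sq u u' he (hfin R s t sq)

end Groth.Agent.S10407
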