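import Groth.Agent.Lib.AlgSp.DecentOnePoint
import Groth.Statements.S10409
-- import your own Groth.Agent.* helpers here

set_option autoImplicit false
universe u
open CategoryTheory CategoryTheory.Limits AlgebraicGeometry Topology TopologicalSpace
open AlgSp

namespace Groth.Agent.S10409

/-- (3) ⇔ (4): for an algebraic space X over a scheme S and x ∈ |X|, there is a monomorphism Spec k ⟶ X
representing x if and only if there is a morphism Spec k' ⟶ X representing x whose
self-fibre-product has etale and quasi-compact projections to Spec k'. -/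
theorem result {S : Scheme.{u}} (X : AlgSp.Space S)
    (x : AlgSp.Points X.obj) :
    (∃ p : AlgSp.FieldPt X.obj, AlgSp.Points.mk p = x ∧ Mono p.toHom) ↔
      ∃ q : AlgSp.FieldPt X.obj, AlgSp.Points.mk q = x ∧
        ∀ (P : AlgSp.Sp S) (fst snd : P ⟶ (AlgSp.yon S).obj q.pt), IsPullback fst snd q.toHom q.toHom →
          AlgSp.RepWith @Etale fst ∧ AlgSp.RepWith @QuasiCompact fst := by
  constructor
  · rintro ⟨p, hp, hm⟩
    refine ⟨p, hp, fun P fst snd sq => ?_⟩
    have e : fst = snd := (cancel_mono p.toHom).1 sq.w
    have : IsIso fst := ⟨sq.lift (𝟙 _) (𝟙 _) rfl,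
      sq.hom_ext (by rw [Category.assoc, sq.lift_fst, Category.comp_id, Category.id_comp])
        (by rw [Category.assoc, sq.lift_snd, Category.comp_id, Category.id_comp, e]),
      sq.lift_fst _ _ _⟩
    exact ⟨GrothLib.AlgSp.repWith_iso _, GrothLib.AlgSp.repWith_iso _⟩
  · rintro ⟨q, rfl, h⟩
    obtain ⟨R, t, s, sq⟩ := GrothLib.AlgSp.exists_isPullback_yon X.property.diag q.toHom q.toHom
    obtain ⟨hte, htq⟩ := h _ _ _ sq
    obtain ⟨hse, -⟩ := h _ _ _ sq.flip
    have : Etale t.left := (AlgSp.repWith_yon_map_iff _ _).1 hte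
    have : Etale s.left := (AlgSp.repWith_yon_map_iff _ _).1 hse
    have : QuasiCompact t.left := (AlgSp.repWith_yon_map_iff _ _).1 htq
    have : LocallyQuasiFinite t.left := GrothLib.AlgSp.locallyQuasiFinite_of_unramified _
    have : IsLocallyArtinian q.pt.left := inferInstanceAs (IsLocallyArtinian (Spec (CommRingCat.of q.K)))
    have : CompactSpace ↥q.pt.left := inferInstanceAs (CompactSpace (PrimeSpectrum q.K))
    have : IsLocallyArtinian R.left := .of_locallyQuasiFinite t.left
    have : CompactSpace ↥R.left := QuasiCompact.compactSpace_of_compactSpace t.left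
    exact GrothLib.AlgSp.exists_mono_point_of_finite X.property q
      ⟨R, t, s, sq, finite_of_compact_of_discrete, inferInstance, inferInstance⟩

end Groth.Agent.S10409
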