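import Groth.Statements.S1041
import Groth.Agent.Lib.OX.AffineApps

set_option autoImplicit false
universe u
open CategoryTheory CategoryTheory.Limits AlgebraicGeometry
attribute [local instance] HasDerivedCategory.standard
open Perf

namespace Groth.Agent.S1041

/-- Let X be an affine scheme, T ⊆ X a closed subset with quasi-compact complement, U a quasi-compact
open and F a perfect object of D(O_U) whose cohomology sheaves are supported on T ∩ U. Then F ⊕ F[1]
extends to X as a perfect complex whose cohomology sheaves are supported on T (through a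
representing complex restricted termwise; the binary direct sum in D(O_U) is assumed to exist, which
it does). -/
theorem result (X : Scheme.{u}) [IsAffine X] (T : Set X) (hT : IsClosed T) (hTc : IsCompact Tᶜ)
    (U : X.Opens) (hU : IsCompact (U : Set X))
    (F : DCoh.D (U : Scheme.{u})) (hF : DCoh.IsPerfect F)
    (hFT : ∀ i : ℤ, CohB1.support (DCoh.HD F i) ⊆ {x : ↥(U : Scheme.{u}) | U.ι.base x ∈ T}) [HasBinaryBiproduct F (F⟦(1 : ℤ)⟧)] :
    ∃ G : CochainComplex X.Modules ℤ, DCoh.IsPerfect (DCoh.toD X G) ∧ (∀ i : ℤ, CohB1.support (DCoh.HD (DCoh.toD X G) i) ⊆ T) ∧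
      Nonempty (DerivedCategory.Q.obj ((DCoh.restrictCx U).obj G) ≅ F ⊞ F⟦(1 : ℤ)⟧) := by
  let W : X.Opens := ⟨Tᶜ, hT.isOpen_compl⟩
  have hz : IsZero ((GrothLib.OX.resD (U.ι ⁻¹ᵁ W).ι).obj F) :=
    (GrothLib.OX.isZero_resD_iff_support _ F).2 fun i x hx hx' => by
      rw [Scheme.Opens.range_ι] at hx'
      exact hx' (hFT i hx)
  obtain ⟨K, hK, hKW, ⟨e⟩⟩ := GrothLib.OX.exists_extend_sum_shift (U := U) X.isoSpec.hom hU hF W hTc hz
  let P := DerivedCategory.Q.objPreimage K
  let eP : DerivedCategory.Q.obj P ≅ K := DerivedCategory.Q.objObjPreimageIso K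
  refine ⟨P, GrothLib.OX.isPerfect_of_iso hK eP.symm, fun i => ?_,
    ⟨((GrothLib.OX.resDFac U.ι).app P).symm ≪≫ (GrothLib.OX.resD U.ι).mapIso eP ≪≫ e⟩⟩
  refine ((GrothLib.OX.isZero_resD_iff_support W.ι _).1
    (hKW.of_iso ((GrothLib.OX.resD W.ι).mapIso eP)) i).trans ?_
  rw [Scheme.Opens.range_ι]
  exact (compl_compl T).le

end Groth.Agent.S1041
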