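import Groth.Agent.Lib.AlgSp.DecentBridge
import Groth.Statements.S10410
-- import your own Groth.Agent.* helpers here

set_option autoImplicit false
universe u
open CategoryTheory CategoryTheory.Limits AlgebraicGeometry Topology TopologicalSpace
open AlgSp

namespace Groth.Agent.S10410

/-- Let X be an algebraic space over a scheme S, x ∈ |X|, and φ : U ⟶ X etale with U a scheme. Then x
lies in the image of |U| and the fibres of |U| → |X| and |U ×_X U| → |X| over x are finite, if and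
only if x is represented by a monomorphism Spec k ⟶ X such that Spec k ×_X U is a nonempty scheme
finite over k. -/
theorem result {S : Scheme.{u}} (X : AlgSp.Space S) (x : AlgSp.Points X.obj)
    {U : Over S} (φ : (AlgSp.yon S).obj U ⟶ X.obj) (hφ : AlgSp.RepWith @Etale φ) :
    (x ∈ Set.range (AlgSp.Points.ofPt φ) ∧ (AlgSp.Points.ofPt φ ⁻¹' {x}).Finite ∧
        ∀ (R : Over S) (s t : R ⟶ U), IsPullback ((AlgSp.yon S).map t) ((AlgSp.yon S).map s) φ φ →
          (AlgSp.Points.ofPt ((AlgSp.yon S).map t ≫ φ) ⁻¹' {x}).Finite) ↔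
      ∃ p : AlgSp.FieldPt X.obj, AlgSp.Points.mk p = x ∧ Mono p.toHom ∧
        ∀ (T : Over S) (c : T ⟶ p.pt) (snd : (AlgSp.yon S).obj T ⟶ (AlgSp.yon S).obj U),
          IsPullback ((AlgSp.yon S).map c) snd p.toHom φ → Nonempty ↥T.left ∧ IsFinite c.left := by
  constructor
  · rintro ⟨⟨u, rfl⟩, hfin, hR⟩
    obtain ⟨R, t, s, sq⟩ := GrothLib.AlgSp.exists_isPullback_yon X.property.diag φ φ
    obtain ⟨p, hp, hm⟩ := GrothLib.AlgSp.exists_mono_point_of_fibre_finite X.property hφ sq u u rfl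
      ((hR R s t sq).subset fun r hr => by
        rw [Set.mem_preimage, GrothLib.AlgSp.ofPt_map_comp, hr.2]; rfl)
    refine ⟨p, hp, hm, fun T c snd sqT => ?_⟩
    obtain ⟨d, rfl⟩ := (AlgSp.yon S).map_surjective snd
    haveI := hm
    obtain ⟨hc, -, -⟩ := GrothLib.AlgSp.discrete_fibre hφ p sqT
    obtain ⟨-, -, hr⟩ := GrothLib.AlgSp.mono_fibre_facts X.property p sqT
    haveI := hc
    haveI := GrothLib.AlgSp.finite_of_mono_fibre X.property p sqT (hp ▸ hfin)
    obtain ⟨w, -⟩ : u ∈ Set.range d.left := hr ▸ (Set.mem_singleton_iff.2 hp.symm)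
    exact ⟨⟨w⟩, (GrothLib.AlgSp.finite_of_finite_points (K := p.K) c.left).1⟩
  · rintro ⟨p, rfl, hm, h⟩
    obtain ⟨T, c, d, sqT⟩ := GrothLib.AlgSp.exists_isPullback_yon X.property.diag p.toHom φ
    obtain ⟨hne, hfc⟩ := h T c _ sqT
    haveI := hm
    haveI := hfc
    haveI : CompactSpace ↥p.pt.left := inferInstanceAs (CompactSpace (PrimeSpectrum p.K))
    haveI : CompactSpace ↥T.left := QuasiCompact.compactSpace_of_compactSpace c.left
    obtain ⟨-, -, hr⟩ := GrothLib.AlgSp.mono_fibre_facts X.property p sqT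
    obtain ⟨w⟩ := hne
    obtain ⟨R₀, t₀, s₀, sq₀⟩ := GrothLib.AlgSp.exists_isPullback_yon X.property.diag φ φ
    refine ⟨⟨d.left w, Set.mem_singleton_iff.1 (show d.left w ∈ AlgSp.Points.ofPt φ ⁻¹' {AlgSp.Points.mk p} from hr ▸ ⟨w, rfl⟩)⟩,
      (GrothLib.AlgSp.finite_fibres_of_compact_pullback X.property hφ p sqT sq₀).1, fun R s t sq => ?_⟩
    exact (GrothLib.AlgSp.finite_fibres_of_compact_pullback X.property hφ p sqT sq).2

end Groth.Agent.S10410
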