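import Groth.Statements.S10411
import Groth.Agent.Lib.AlgSp.KernelGrpd
import Groth.Agent.Lib.AlgSp.OpenSub
import Groth.Agent.Lib.AlgSp.ClosedSub
import Groth.Agent.Lib.AlgSp.FlatMono
import Groth.Agent.Lib.AlgSp.LimitScheme
import Groth.Agent.Lib.AlgSp.ThickScheme
import Groth.Agent.Lib.AlgSp.Immersion
-- import your own Groth.Agent.* helpers here

set_option autoImplicit false
universe u
open CategoryTheory CategoryTheory.Limits AlgebraicGeometry Topology TopologicalSpace
open AlgSp GrothLib.AlgSp
set_option backward.isDefEq.respectTransparency false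

namespace Groth.Agent.S10411

theorem isRepresentable_of_finLocFree_kernelPair {S : Scheme.{u}} {F : Sp S} {U R : Over S} {t s : R ⟶ U}
    {a : (yon S).obj U ⟶ F} (sq : IsPullback ((yon S).map t) ((yon S).map s) a a)
    [Sheaf.IsLocallySurjective a] [IsFinite s.left] [Flat s.left] [LocallyOfFinitePresentation s.left]
    (hU : ∀ E : Set ↥U.left, E.Finite → ∃ V : U.left.Opens, IsAffineOpen V ∧ E ⊆ V) :
    F.obj.IsRepresentable := by
  let G := kerGrpd sq
  haveI : IsFinite G.s := ‹IsFinite s.left›
  haveI : Flat G.s := ‹Flat s.left›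
  haveI : LocallyOfFinitePresentation G.s := ‹LocallyOfFinitePresentation s.left›
  haveI : Mono G.j := GrothLib.GrpdQuot.mono_j_of_ext G fun _ _ h₁ h₂ => ker_ext sq h₁ h₂
  have hc : GrothLib.GrpdQuot.Covered G := GrothLib.GrpdQuot.covered_of_closed G fun Z _ hne => by
    obtain ⟨u, hu⟩ := hne
    obtain ⟨V, hV, hEV⟩ := hU _ (GrothLib.GrpdQuot.finite_orbit G u)
    exact ⟨u, hu, V, hV, fun r hr => hEV ⟨r, hr, rfl⟩⟩
  obtain ⟨M, m, ⟨hm₁, hm₂, hm₃⟩, hms, hpb, -⟩ := GrothLib.GrpdQuot.exists_fppf_quotient G hc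
  let m' : U ⟶ M := m
  haveI : Sheaf.IsLocallySurjective ((yon S).map m') := isLocallySurjective_of_repWith
    ((repWith_yon_map_iff _ _).2 hm₂) ((repWith_yon_map_iff _ _).2 hm₃) ((repWith_yon_map_iff _ _).2 hms)
  have hpb' : IsPullback t s m' m' := IsPullback.of_map (Over.forget S) (Over.OverMorphism.ext hpb.w) hpb
  obtain ⟨e, -⟩ := exists_iso_of_kernelPair ((yon S).map m') a (isPullback_yon hpb') sq
  exact (representableByOfIso e).isRepresentable


/-- Let S be a scheme, X and Y algebraic spaces over S, X ⟶ Y a surjective finite locally free morphism,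
and y ∈ |Y|. Then y lies in the schematic locus of Y (some open subspace of Y containing y is a
scheme) if and only if there is an affine open subscheme U ⊆ X containing the preimage of y. -/
theorem result {S : Scheme.{u}} {X Y : AlgSp.Space S} (f : X ⟶ Y)
    (hf : AlgSp.IsFinLocFreeMor f.hom) (hs : AlgSp.RepWith @Surjective f.hom) (y : AlgSp.Points Y.obj) :
    (∃ (Y' : AlgSp.Space S) (j : Y' ⟶ Y), AlgSp.RepWith @IsOpenImmersion j.hom ∧ Y'.obj.obj.IsRepresentable ∧
        y ∈ Set.range (AlgSp.Points.map j.hom)) ↔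
      ∃ (U : Over S) (a : (AlgSp.yon S).obj U ⟶ X.obj), IsAffine U.left ∧ AlgSp.RepWith @IsOpenImmersion a ∧
        AlgSp.Points.map f.hom ⁻¹' {y} ⊆ Set.range (AlgSp.Points.ofPt a) := by
  have hfin : RepWith @IsFinite f.hom := repWith_mono hf fun _ _ k (hk : Mor2.IsFinLocFree k) => hk.1
  constructor
  · rintro ⟨Y', j, hj, hr, hy⟩
    obtain ⟨M, ⟨rM⟩⟩ := hr.has_representation
    let e := isoOfRepresentableBy rM
    let jM := e.hom ≫ j.hom
    have hjM : RepWith @IsOpenImmersion jM := repWith_comp (repWith_iso _) hj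
    obtain ⟨m, rfl⟩ : ∃ m, Points.ofPt jM m = y := by
      obtain ⟨z, rfl⟩ := hy
      obtain ⟨m, hm⟩ := (Points.schemeHomeo M).surjective (Points.map e.inv z)
      refine ⟨m, ?_⟩
      rw [Points.ofPt_eq_map_ofScheme, Points.map_comp, show Points.ofScheme M m = Points.map e.inv z from hm,
        ← Points.map_comp e.inv, e.inv_hom_id, Points.map_id]
    obtain ⟨A, hA, hmA, -⟩ := exists_isAffineOpen_mem_and_subset (U := (⊤ : M.left.Opens)) (x := m) trivial
    let A' : Over S := Over.mk (A.ι ≫ M.hom)
    let ι : A' ⟶ M := Over.homMk A.ι rfl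
    haveI : IsAffine A'.left := hA
    let jA := (yon S).map ι ≫ jM
    have hjA : RepWith @IsOpenImmersion jA :=
      repWith_comp ((repWith_yon_map_iff _ _).2 (inferInstanceAs (IsOpenImmersion A.ι))) hjM
    obtain ⟨U, a, c, sq⟩ := exists_isPullback_of_representable hfin.1 jA
    haveI : IsFinite c.left := hfin.2 _ _ _ sq
    refine ⟨U, a, isAffine_of_isAffineHom c.left, repWith_of_isPullback sq.flip hjA, fun x hx => ?_⟩
    obtain ⟨z, hz, -⟩ := exists_of_isPullback sq (x := x) (y := Points.schemeHomeo A' (⟨m, hmA⟩ : A)) (by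
      rw [show Points.map f.hom x = Points.ofPt jM m from hx, Points.ofPt_eq_map_ofScheme, Points.map_comp _ jM,
        Points.map_yon_map_apply]; rfl)
    obtain ⟨u, rfl⟩ := (Points.schemeHomeo U).surjective z
    exact ⟨u, by rw [Points.ofPt_eq_map_ofScheme]; exact hz⟩
  · rintro ⟨U, a, hU, ha, hfib⟩
    haveI := hU
    have hra : Set.range (Points.ofPt a) = Set.range (Points.map a) := by
      rw [show Points.ofPt a = Points.map a ∘ Points.schemeHomeo U from funext fun t => Points.ofPt_eq_map_ofScheme a t,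
        Set.range_comp, (Points.schemeHomeo U).surjective.range_eq, Set.image_univ]
    let Z : Set (Points X.obj) := (Set.range (Points.map a))ᶜ
    let V : Set (Points Y.obj) := (Points.map f.hom '' Z)ᶜ
    have hV : IsOpen V := (isClosedMap_map_of_repWith (P := @IsFinite) (fun _ _ k (_ : IsFinite k) => k.isClosedMap)
      hfin _ (isClosed_compl_iff.2 (isOpen_range_openImmersion ha))).isOpen_compl
    have hyV : y ∈ V := by
      rintro ⟨x, hx, hxy⟩
      exact hx (hra ▸ hfib hxy)
    have hYV := isAlgSpace_openSub Y.property hV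
    refine ⟨⟨openSub Y.obj V, hYV⟩, ObjectProperty.homMk (openSubι Y.obj V), repWith_openSubι hV, ?_, by
      show y ∈ Set.range (Points.map (openSubι Y.obj V))
      rw [range_openSubι]; exact hyV⟩
    show (openSub Y.obj V).obj.IsRepresentable
    let jV := openSubι Y.obj V
    have hjV : RepWith @IsOpenImmersion jV := repWith_openSubι hV
    have sqP := IsPullback.of_hasPullback f.hom jV
    have hrange : Set.range (Points.map (pullback.fst f.hom jV)) ⊆ Set.range (Points.map a) := by
      rintro _ ⟨p, rfl⟩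
      by_contra hne
      have h1 : Points.map jV (Points.map (pullback.snd f.hom jV) p) ∈ V := by
        exact (Set.ext_iff.1 (range_openSubι (F := Y.obj) (W := V)) _).1 ⟨_, rfl⟩
      refine h1 ⟨_, hne, ?_⟩
      rw [← Points.map_comp, ← Points.map_comp, sqP.w]
    obtain ⟨l, hl⟩ := (exists_factor_iff ha _).2 hrange
    have hlr : RepWith @IsOpenImmersion l := by
      haveI : Mono a := mono_of_openImmersion ha
      have sql : IsPullback l (𝟙 _) a (pullback.fst f.hom jV) :=
        IsPullback.of_isLimit' ⟨by simp [hl]⟩ (PullbackCone.IsLimit.mk _ (fun s => s.snd)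
          (fun s => by rw [← cancel_mono a, Category.assoc, hl, s.condition]) (fun s => Category.comp_id _)
          (fun s m _ h₂ => by simpa using h₂))
      have sqa : IsPullback (𝟙 _) l (pullback.fst f.hom jV) a := sql.flip
      exact repWith_of_isPullback sqa (repWith_of_isPullback sqP.flip hjV)
    obtain ⟨W, fstW, sndW, sqW⟩ := exists_isPullback_of_representable hlr.1 (𝟙 ((yon S).obj U))
    haveI : IsIso fstW := sqW.isIso_fst_of_isIso
    haveI : IsOpenImmersion sndW.left := hlr.2 _ _ _ sqW
    let g := fstW ≫ pullback.snd f.hom jV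
    have sqg : IsPullback fstW g (pullback.snd f.hom jV) (𝟙 _) := IsPullback.of_horiz_isIso ⟨by simp [g]⟩
    have hg : RepWith finLocFree g := repWith_of_isPullback sqg (repWith_of_isPullback sqP hf)
    have hgs : RepWith @Surjective g :=
      repWith_comp (repWith_iso _) (repWith_of_isPullback sqP hs)
    haveI : Sheaf.IsLocallySurjective g := isLocallySurjective_of_repWith
      (repWith_mono hg fun _ _ k (hk : Mor2.IsFinLocFree k) => hk.2.1)
      (repWith_mono hg fun _ _ k (hk : Mor2.IsFinLocFree k) => hk.2.2) hgs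
    obtain ⟨R, t, s, sqR⟩ := exists_isPullback_yon hYV.diag g g
    obtain ⟨h1, h2, h3⟩ : finLocFree s.left := hg.2 _ _ _ sqR
    haveI := h1; haveI := h2; haveI := h3
    exact isRepresentable_of_finLocFree_kernelPair sqR fun E hE =>
      GrothLib.GrpdQuot.exists_affineOpen_of_finite sndW.left E hE
end Groth.Agent.S10411
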