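import Groth.Statements.S10412
import Groth.Agent.Lib.AlgSp.OpenSub
import Groth.Agent.Lib.AlgSp.FlatMono
-- import your own Groth.Agent.* helpers here

set_option autoImplicit false
universe u
open CategoryTheory CategoryTheory.Limits AlgebraicGeometry Topology TopologicalSpace
open AlgSp GrothLib.AlgSp
set_option backward.isDefEq.respectTransparency false

namespace Groth.Agent.S10412

theorem isPullback_comp_mono {S : Scheme.{u}} {P X Y Z W : Sp S} {fst : P ⟶ X} {snd : P ⟶ Y} {f : X ⟶ Z} {g : Y ⟶ Z}
    (j : Z ⟶ W) [Mono j] : IsPullback fst snd f g ↔ IsPullback fst snd (f ≫ j) (g ≫ j) := by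
  refine ⟨fun sq => ?_, fun sq => ?_⟩
  · exact isPullback_of_yon (by rw [← Category.assoc, sq.w, Category.assoc]) fun T p q h => by
      have h' : p ≫ f = q ≫ g := by rwa [← cancel_mono j, Category.assoc, Category.assoc]
      exact ⟨sq.lift p q h', ⟨sq.lift_fst _ _ _, sq.lift_snd _ _ _⟩, fun c hc => sq.hom_ext
        (by rw [hc.1, sq.lift_fst]) (by rw [hc.2, sq.lift_snd])⟩
  · have e : fst ≫ f = snd ≫ g := by rw [← cancel_mono j, Category.assoc, Category.assoc]; exact sq.w
    exact isPullback_of_yon e fun T p q h =>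
      ⟨sq.lift p q (by rw [← Category.assoc, h, Category.assoc]), ⟨sq.lift_fst _ _ _, sq.lift_snd _ _ _⟩,
        fun c hc => sq.hom_ext (by rw [hc.1, sq.lift_fst]) (by rw [hc.2, sq.lift_snd])⟩

/-- For an algebraic space X over a scheme S the following are equivalent: (1) X has a Zariski covering
by open subspaces X_i, each X_i admitting a surjective, etale and quasi-compact morphism U_i ⟶ X_i
with U_i a scheme; (2) there are etale morphisms U_i ⟶ X from schemes, jointly surjective, such that
for each i both projection morphisms from U_i ×_X U_i to U_i are quasi-compact. -/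
theorem result {S : Scheme.{u}} (X : AlgSp.Space S) :
    (∃ (ι : Type u) (Xi : ι → AlgSp.Space S) (j : ∀ i, Xi i ⟶ X) (U : ι → Over S)
        (a : ∀ i, (AlgSp.yon S).obj (U i) ⟶ (Xi i).obj),
        AlgSp.IsZarCover (fun i => (Xi i).obj) (fun i => (j i).hom) ∧
          ∀ i, AlgSp.RepWith @Etale (a i) ∧ AlgSp.RepWith @Surjective (a i) ∧ AlgSp.RepWith @QuasiCompact (a i)) ↔
      ∃ (ι : Type u) (U : ι → Over S) (φ : ∀ i, (AlgSp.yon S).obj (U i) ⟶ X.obj),
        (∀ i, AlgSp.RepWith @Etale (φ i)) ∧
          (∀ x : AlgSp.Points X.obj, ∃ (i : ι) (v : ↥(U i).left), AlgSp.Points.ofPt (φ i) v = x) ∧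
          ∀ (i : ι) (R : Over S) (s t : R ⟶ U i), IsPullback ((AlgSp.yon S).map t) ((AlgSp.yon S).map s) (φ i) (φ i) →
            QuasiCompact s.left ∧ QuasiCompact t.left := by
  constructor
  · rintro ⟨ι, Xi, j, U, a, ⟨hj, hcov⟩, ha⟩
    refine ⟨ι, U, fun i => a i ≫ (j i).hom, fun i => ?_, fun x => ?_, fun i R s t sq => ?_⟩
    · exact repWith_comp (ha i).1
        (repWith_mono (hj i) fun _ _ g (_ : IsOpenImmersion g) => (inferInstance : Etale g))
    · obtain ⟨i, y, rfl⟩ := hcov x
      obtain ⟨z, rfl⟩ := surjective_map_of_repWith (ha i).2.1 y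
      obtain ⟨v, rfl⟩ := (Points.schemeEquiv (U i)).surjective z
      refine ⟨i, v, ?_⟩
      rw [← Points.map_comp, Points.ofPt_eq_map_ofScheme]
      rfl
    · have := mono_of_openImmersion (hj i)
      have sq' : IsPullback ((AlgSp.yon S).map t) ((AlgSp.yon S).map s) (a i) (a i) :=
        (isPullback_comp_mono (j i).hom).2 sq
      exact ⟨(ha i).2.2.2 _ _ _ sq', (ha i).2.2.2 _ _ _ sq'.flip⟩
  · rintro ⟨ι, U, φ, hφ, hsurj, hqc⟩
    have hW : ∀ i, IsOpen (Set.range (Points.ofPt (φ i))) := fun i => (isOpenMap_ofPt_of_etale (hφ i)).isOpen_range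
    let Xi : ι → AlgSp.Space S := fun i =>
      ⟨openSub X.obj (Set.range (Points.ofPt (φ i))), isAlgSpace_openSub X.property (hW i)⟩
    let j : ∀ i, Xi i ⟶ X := fun i => ObjectProperty.homMk (openSubι X.obj (Set.range (Points.ofPt (φ i))))
    have hl : ∀ i, ∃ a : (AlgSp.yon S).obj (U i) ⟶ (Xi i).obj, a ≫ openSubι X.obj _ = φ i :=
      fun i => openSub_lift (φ i) fun t => ⟨t, rfl⟩
    choose a ha using hl
    refine ⟨ι, Xi, j, U, a, ⟨fun i => repWith_openSubι (hW i), fun x => ?_⟩, fun i => ?_⟩
    · obtain ⟨i, v, rfl⟩ := hsurj x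
      refine ⟨i, ?_⟩
      change _ ∈ Set.range (Points.map (openSubι X.obj _))
      rw [range_openSubι]
      exact ⟨v, rfl⟩
    · have hm := mono_openSubι X.obj (Set.range (Points.ofPt (φ i)))
      have sqm : IsPullback (𝟙 _) (a i) (φ i) (openSubι X.obj (Set.range (Points.ofPt (φ i)))) :=
        isPullback_of_yon (by rw [Category.id_comp, ha i]) fun T p q h => ⟨p, ⟨Category.comp_id p, by
          rw [← cancel_mono (openSubι X.obj (Set.range (Points.ofPt (φ i)))), Category.assoc, ha i, h]⟩,
          fun c hc => (Category.comp_id c).symm.trans hc.1⟩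
      have hae : RepWith @Etale (a i) := repWith_of_isPullback sqm (hφ i)
      have has : RepWith @Surjective (a i) := (repWith_surjective_iff hae.1).2 fun y => by
        have hy : Points.map (openSubι X.obj _) y ∈ Set.range (Points.ofPt (φ i)) := by
          exact range_openSubι.le ⟨y, rfl⟩
        obtain ⟨v, hv⟩ := hy
        refine ⟨_, injective_map_of_mono (openSubι X.obj (Set.range (Points.ofPt (φ i))))
          (a₁ := Points.map (a i) (Points.schemeEquiv (U i) v)) ?_⟩
        rw [← Points.map_comp, ha i, ← hv, Points.ofPt_eq_map_ofScheme]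
        rfl
      refine ⟨hae, has, ?_⟩
      obtain ⟨R, t, s, sq⟩ := exists_isPullback_yon (Xi i).property.diag (a i) (a i)
      have sq' : IsPullback ((AlgSp.yon S).map t) ((AlgSp.yon S).map s) (φ i) (φ i) := by
        rw [← ha i]
        exact (isPullback_comp_mono _).1 sq
      have := chart_isLocallySurjective hae has
      exact repWith_of_base hae.1 (a i) sq fppfDescends_quasiCompact
        ((repWith_yon_map_iff _ _).2 (hqc i R s t sq').1)

end Groth.Agent.S10412
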