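import Groth.Agent.Lib.AlgSp.Immersion
import Groth.Statements.S10413
-- import your own Groth.Agent.* helpers here

set_option autoImplicit false
universe u
open CategoryTheory CategoryTheory.Limits AlgebraicGeometry Topology TopologicalSpace
open AlgSp

namespace Groth.Agent.S10413

/-- Let S be a scheme, X and Y algebraic spaces over S, and X ⟶ Y a representable morphism. If every
point of Y can be represented by a monomorphism into Y from the spectrum of a field, then every
point of X can likewise be represented by such a monomorphism into X. -/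
theorem result {S : Scheme.{u}} {X Y : AlgSp.Space S} (f : X ⟶ Y) (hf : AlgSp.Representable f.hom)
    (hY : ∀ y : AlgSp.Points Y.obj, ∃ q : AlgSp.FieldPt Y.obj, AlgSp.Points.mk q = y ∧ Mono q.toHom)
    (x : AlgSp.Points X.obj) : ∃ p : AlgSp.FieldPt X.obj, AlgSp.Points.mk p = x ∧ Mono p.toHom := by
  obtain ⟨q, hq, hqm⟩ := hY (AlgSp.Points.map f.hom x)
  obtain ⟨T, fst, snd, sq⟩ := GrothLib.AlgSp.exists_isPullback_of_representable hf q.toHom
  obtain ⟨t, ht, -⟩ := GrothLib.AlgSp.exists_ofPt_of_map_eq sq (z := x) (t := IsLocalRing.closedPoint q.K) (by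
    rw [AlgSp.Points.ofPt_toHom, hq])
  have : Mono fst := ⟨fun {Z} u v h => sq.hom_ext h ((cancel_mono q.toHom).1 (by
    rw [Category.assoc, Category.assoc, ← sq.w, ← Category.assoc, h, Category.assoc]))⟩
  refine ⟨AlgSp.FieldPt.ofPt fst t, ht, ?_⟩
  rw [AlgSp.FieldPt.toHom_ofPt]
  let c : (AlgSp.FieldPt.ofPt fst t).pt ⟶ T := Over.homMk (T.left.fromSpecResidueField t) rfl
  have hc : Mono c := (Over.forget S).mono_of_mono_map (inferInstanceAs (Mono (T.left.fromSpecResidueField t)))
  have : Mono ((AlgSp.yon S).map c) := GrothLib.AlgSp.mono_of_yon fun W a b hab => by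
    obtain ⟨a, rfl⟩ := (AlgSp.yon S).map_surjective a
    obtain ⟨b, rfl⟩ := (AlgSp.yon S).map_surjective b
    rw [← Functor.map_comp, ← Functor.map_comp] at hab
    rw [(cancel_mono c).1 ((AlgSp.yon S).map_injective hab)]
  exact mono_comp ((AlgSp.yon S).map c) fst

end Groth.Agent.S10413
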