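import Groth.Agent.Lib.AlgSp.SingletonSpace
import Groth.Agent.Lib.AlgSp.BddFibres
import Groth.Statements.S10414
-- import your own Groth.Agent.* helpers here

set_option autoImplicit false
universe u
open CategoryTheory CategoryTheory.Limits AlgebraicGeometry Topology TopologicalSpace
open AlgSp

namespace Groth.Agent.S10414

/-- Let S be a scheme, X an algebraic space over S, x ∈ |X|, and Z_x ⟶ X the residual space of x (a
monomorphism with image {x} from a space which admits a locally finitely presented, flat, surjective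
morphism whose source is the spectrum of a field). Then Z_x is isomorphic to Spec k' for some field
k' if and only if the point x is represented by some monomorphism Spec k ⟶ X. (The decent case, in
which the right side holds at every point, is not part of this row.) -/
theorem result {S : Scheme.{u}} (X : AlgSp.Space S) (x : AlgSp.Points X.obj)
    {Z : AlgSp.Space S} (i : Z ⟶ X) [Mono i.hom] (hi : Set.range (AlgSp.Points.map i.hom) = {x})
    (hZ : ∃ (k : Type u) (_ : Field k) (str : Spec (CommRingCat.of k) ⟶ S) (p : (AlgSp.yon S).obj (Over.mk str) ⟶ Z.obj),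
        AlgSp.LocP @LocallyOfFinitePresentation p ∧ AlgSp.LocP @Flat p ∧ AlgSp.IsSurjectiveMor p) :
    (∃ (k : Type u) (_ : Field k) (str : Spec (CommRingCat.of k) ⟶ S), Nonempty (Z.obj ≅ (AlgSp.yon S).obj (Over.mk str))) ↔
      ∃ p : AlgSp.FieldPt X.obj, AlgSp.Points.mk p = x ∧ Mono p.toHom := by
  obtain ⟨k, _, str, p, hl, hf, hs⟩ := hZ
  constructor
  · rintro ⟨k', _, str', ⟨e⟩⟩
    let q := GrothLib.AlgSp.fieldPtOfHom (e.inv ≫ i.hom)
    refine ⟨q, ?_, by rw [GrothLib.AlgSp.toHom_fieldPtOfHom]; exact @mono_comp _ _ _ _ _ _ inferInstance _ ‹Mono i.hom›⟩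
    have : AlgSp.Points.mk q = AlgSp.Points.map i.hom (AlgSp.Points.ofPt e.inv (IsLocalRing.closedPoint k')) := by
      rw [← AlgSp.Points.ofPt_toHom q (IsLocalRing.closedPoint k'), AlgSp.Points.map_ofPt, GrothLib.AlgSp.toHom_fieldPtOfHom]
      rfl
    exact Set.mem_singleton_iff.1 (hi.le ⟨_, this.symm⟩)
  · rintro ⟨q, hq, hm⟩
    haveI := hm
    have hP := GrothLib.AlgSp.isAlgSpace_pullback' X.property Z.property (AlgSp.IsAlgSpace.yon_obj q.pt) i.hom q.toHom
    obtain ⟨⟨z⟩, -⟩ := GrothLib.AlgSp.subsingleton_points_of_point hs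
    haveI : Nonempty (AlgSp.Points (pullback i.hom q.toHom)) := by
      obtain ⟨w, -, -⟩ := GrothLib.AlgSp.exists_of_isPullback (IsPullback.of_hasPullback i.hom q.toHom) (x := z)
        (y := AlgSp.Points.ofScheme q.pt (IsLocalRing.closedPoint q.K)) (by
          rw [← AlgSp.Points.ofPt_eq_map_ofScheme, AlgSp.Points.ofPt_toHom, hq]
          exact Set.mem_singleton_iff.1 (hi.le ⟨z, rfl⟩))
      exact ⟨w⟩
    haveI := GrothLib.AlgSp.isIso_of_mono_to_singleton Z.property hP (pullback.fst i.hom q.toHom) hl hf hs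
    haveI := GrothLib.AlgSp.isIso_of_mono_to_field_space hP (pullback.snd i.hom q.toHom)
    exact ⟨q.K, q.field, q.str, ⟨(asIso (pullback.fst i.hom q.toHom)).symm ≪≫ asIso (pullback.snd i.hom q.toHom)⟩⟩

end Groth.Agent.S10414
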