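import Groth.Agent.Lib.AlgSp.FibreFactor
import Groth.Agent.Lib.AlgSp.ImmersionDescent
import Groth.Agent.Lib.RedSub.Basic
import Groth.Statements.S10416
-- import your own Groth.Agent.* helpers here

set_option autoImplicit false
universe u
open CategoryTheory CategoryTheory.Limits AlgebraicGeometry Topology TopologicalSpace
open AlgSp

namespace Groth.Agent.S10416

/-- Let S be a scheme, X a locally Noetherian algebraic space over S, x ∈ |X|, and i : Z_x ⟶ X the
residual space at x. Then x is closed in |X| if and only if i is a closed immersion. -/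
theorem result {S : Scheme.{u}} {X Z : AlgSp.Space S}
    (hX : AlgSp.IsLocNoethSp X.obj) (x : AlgSp.Points X.obj) (i : Z ⟶ X) [Mono i.hom]
    (hi : Set.range (AlgSp.Points.map i.hom) = {x}) (hZ : ∃ (k : Type u) (_ : Field k) (str : Spec (CommRingCat.of k) ⟶ S) (p : (AlgSp.yon S).obj (Over.mk str) ⟶ Z.obj),
        AlgSp.LocP @LocallyOfFinitePresentation p ∧ AlgSp.LocP @Flat p ∧ AlgSp.IsSurjectiveMor p) :
    IsClosed ({x} : Set (AlgSp.Points X.obj)) ↔ AlgSp.RepWith @IsClosedImmersion i.hom := by
  obtain ⟨k, _, str, p, hl, hf, hs⟩ := hZ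
  obtain ⟨U, a, ha, has, hU⟩ := hX
  haveI := hU
  constructor
  · intro hx
    let F : Closeds ↥U.left := ⟨AlgSp.Points.ofPt a ⁻¹' {x}, hx.preimage (AlgSp.Points.continuous_ofPt a)⟩
    let I := Scheme.IdealSheafData.vanishingIdeal F
    haveI := GrothLib.RedSub.isReduced_subscheme_vanishingIdeal F
    let C : Over S := Over.mk (I.subschemeι ≫ U.hom)
    let j : C ⟶ U := Over.homMk I.subschemeι rfl
    have hj : Set.range j.left = (F : Set ↥U.left) := by
      show Set.range I.subschemeι = _
      rw [Scheme.IdealSheafData.range_subschemeι, Scheme.IdealSheafData.coe_support_vanishingIdeal]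
    have hP := GrothLib.AlgSp.isAlgSpace_pullback' X.property Z.property (AlgSp.IsAlgSpace.yon_obj U) i.hom a
    have hCr : AlgSp.EtaleLocally (fun V => IsReduced V) ((AlgSp.yon S).obj C) :=
      ⟨C, 𝟙 _, AlgSp.repWith_id _ _, AlgSp.repWith_id _ _, GrothLib.RedSub.isReduced_subscheme_vanishingIdeal F⟩
    obtain ⟨g, hg⟩ := GrothLib.AlgSp.exists_factor_of_reduced X.property (AlgSp.IsAlgSpace.yon_obj C) Z.property
      ⟨U, a, ha, has, hU⟩ hCr ((AlgSp.yon S).map j ≫ a) x (fun y => by
        obtain ⟨w, rfl⟩ := (AlgSp.Points.schemeEquiv C).surjective y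
        show AlgSp.Points.map _ (AlgSp.Points.ofScheme C w) = x
        rw [← AlgSp.Points.ofPt_eq_map_ofScheme, GrothLib.AlgSp.ofPt_map_comp]
        exact Set.mem_singleton_iff.1 (show j.left w ∈ (F : Set ↥U.left) from hj ▸ ⟨w, rfl⟩)) i.hom (hi.ge rfl)
    let P := pullback i.hom a
    let l : (AlgSp.yon S).obj C ⟶ P := pullback.lift g ((AlgSp.yon S).map j) hg
    obtain ⟨W, c, hc, hcs⟩ := hP.atlas
    have hZr : AlgSp.EtaleLocally (fun V => IsReduced V) Z.obj := by
      obtain ⟨V, b, hb, hbs⟩ := Z.property.atlas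
      exact ⟨V, b, hb, hbs, GrothLib.AlgSp.isReduced_chart Z.property hf hs hb⟩
    haveI : IsReduced W.left := GrothLib.AlgSp.etaleLocally_chart (Q := fun V => IsReduced V)
      (fun _ _ k h₁ h₂ => GrothLib.AlgSp.isReduced_of_etale k h₁ h₂) (fun _ _ k h₁ h₂ h₃ => GrothLib.AlgSp.isReduced_desc k h₁ h₂ h₃) hZr
      (c ≫ pullback.fst i.hom a) (GrothLib.AlgSp.repWith_comp hc
        (GrothLib.AlgSp.repWith_of_isPullback (IsPullback.of_hasPullback i.hom a).flip ha))
    obtain ⟨d, hd⟩ := (AlgSp.yon S).map_surjective (c ≫ pullback.snd i.hom a)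
    obtain ⟨m, hm⟩ := GrothLib.AlgSp.exists_lift_of_range_subset d.left I.subschemeι (by
      rintro _ ⟨w, rfl⟩
      show d.left w ∈ Set.range j.left
      rw [hj]
      show AlgSp.Points.ofPt a (d.left w) ∈ ({x} : Set _)
      rw [← GrothLib.AlgSp.ofPt_map_comp, hd, Category.assoc, ← pullback.condition, ← Category.assoc, ← AlgSp.Points.map_ofPt]
      exact hi.le ⟨_, rfl⟩)
    let m' : W ⟶ C := Over.homMk m (by show m ≫ I.subschemeι ≫ U.hom = W.hom; rw [← Category.assoc, hm, Over.w d])
    have hlc : (AlgSp.yon S).map m' ≫ l = c := by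
      refine pullback.hom_ext ((cancel_mono i.hom).1 ?_) ?_
      · simp only [l, Category.assoc, pullback.lift_fst, hg, pullback.condition]
        rw [← Category.assoc, ← Functor.map_comp, ← Category.assoc c, ← hd]
        congr 2
        exact Over.OverMorphism.ext hm
      · simp only [l, Category.assoc, pullback.lift_snd]
        rw [← Functor.map_comp, ← hd]
        congr 1
        exact Over.OverMorphism.ext hm
    haveI := GrothLib.AlgSp.chart_isLocallySurjective hc hcs
    haveI : Epi c := Sheaf.epi_of_isLocallySurjective c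
    haveI : Epi ((AlgSp.yon S).map m' ≫ l) := by rw [hlc]; infer_instance
    haveI : Epi l := epi_of_epi ((AlgSp.yon S).map m') l
    haveI : Mono j := (Over.forget S).mono_of_mono_map (inferInstanceAs (Mono I.subschemeι))
    haveI : Mono ((AlgSp.yon S).map j) := GrothLib.AlgSp.mono_of_yon fun T α β h => by
      obtain ⟨α, rfl⟩ := (AlgSp.yon S).map_surjective α
      obtain ⟨β, rfl⟩ := (AlgSp.yon S).map_surjective β
      rw [← Functor.map_comp, ← Functor.map_comp] at h
      rw [(cancel_mono j).1 ((AlgSp.yon S).map_injective h)]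
    haveI : Mono (l ≫ pullback.snd i.hom a) := by rw [pullback.lift_snd]; infer_instance
    haveI : Mono l := mono_of_mono l (pullback.snd i.hom a)
    haveI := isIso_of_mono_of_epi l
    have sq : IsPullback g ((AlgSp.yon S).map j) i.hom a :=
      IsPullback.of_iso (IsPullback.of_hasPullback i.hom a) (asIso l).symm (Iso.refl _) (Iso.refl _) (Iso.refl _)
        (by rw [Iso.refl_hom, Iso.symm_hom, asIso_inv, Category.comp_id, IsIso.eq_inv_comp]; exact (pullback.lift_fst _ _ _)) (by rw [Iso.refl_hom, Iso.symm_hom, asIso_inv, Category.comp_id, IsIso.eq_inv_comp]; exact (pullback.lift_snd _ _ _)) (by simp) (by simp)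
    haveI := GrothLib.AlgSp.chart_isLocallySurjective ha has
    exact GrothLib.AlgSp.repWith_of_base_isImmersion a sq (fun _ _ _ (_ : IsClosedImmersion _) => inferInstance)
      GrothLib.AlgSp.fppfDescends_isClosedImmersion
      ((AlgSp.repWith_yon_map_iff _ _).2 (inferInstanceAs (IsClosedImmersion I.subschemeι)))
  · intro hci
    obtain ⟨R, c, d, sq⟩ := GrothLib.AlgSp.exists_isPullback_of_representable hci.1 a
    have : IsClosedImmersion d.left := hci.2 _ _ _ sq
    have h := GrothLib.AlgSp.preimage_range_map sq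
    rw [hi] at h
    rw [← (GrothLib.AlgSp.isOpenQuotientMap_ofPt ha has).isQuotientMap.isClosed_preimage, h]
    exact d.left.isClosedEmbedding.isClosed_range

end Groth.Agent.S10416
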