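import Groth.Agent.Lib.AlgSp.DecentBridge
import Groth.Statements.S10417
-- import your own Groth.Agent.* helpers here

set_option autoImplicit false
universe u
open CategoryTheory CategoryTheory.Limits AlgebraicGeometry Topology TopologicalSpace
open AlgSp

namespace Groth.Agent.S10417

/-- Let W = X ×_Y Z be a fibre product of algebraic spaces over a scheme S with projections p, q and let
x ∈ |X|, z ∈ |Z| lie over the same point of |Y|. If f : X ⟶ Y is of finite type and quasi-finite at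
x, then the set of points of |W| mapping to x and to z is finite. -/
theorem result {S : Scheme.{u}} {X Y Z W : AlgSp.Space S} (f : X ⟶ Y)
    (g : Z ⟶ Y) (p : W ⟶ X) (q : W ⟶ Z) (hW : IsPullback p.hom q.hom f.hom g.hom) (x : AlgSp.Points X.obj)
    (z : AlgSp.Points Z.obj) (hxz : AlgSp.Points.map f.hom x = AlgSp.Points.map g.hom z)
    (hft : AlgSp.IsFiniteTypeMor f.hom) (hf : AlgSp.HasAtMor (fun U _ h u => ∃ W : U.Opens, u ∈ W ∧ LocallyQuasiFinite (W.ι ≫ h) ∧ LocallyOfFiniteType (W.ι ≫ h)) f.hom x) :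
    {w : AlgSp.Points W.obj | AlgSp.Points.map p.hom w = x ∧ AlgSp.Points.map q.hom w = z}.Finite := by
  obtain ⟨U, V, a, b, h, u, ha, hb, comm, rfl, O, huO, hlqf, hlft⟩ := hf
  obtain ⟨qz, rfl⟩ := AlgSp.Points.mk_surjective z
  let P := pullback q.hom qz.toHom
  have hP := GrothLib.AlgSp.isAlgSpace_pullback' Z.property W.property (AlgSp.IsAlgSpace.yon_obj qz.pt) q.hom qz.toHom
  have sqP : IsPullback (pullback.fst q.hom qz.toHom ≫ p.hom) (pullback.snd q.hom qz.toHom) f.hom (qz.toHom ≫ g.hom) :=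
    (IsPullback.of_hasPullback q.hom qz.toHom).paste_horiz hW
  have hlP := GrothLib.AlgSp.EtLocal.locP_of_isPullback GrothLib.AlgSp.EtLocal.lft X.property Y.property
    (AlgSp.IsAlgSpace.yon_obj qz.pt) sqP hft.1
  haveI : CompactSpace ↥qz.pt.left := inferInstanceAs (CompactSpace (PrimeSpectrum qz.K))
  obtain ⟨U₀, c₀, hc₀, hc₀s, hU₀⟩ := hft.2 (AlgSp.IsAlgSpace.yon_obj qz.pt) (GrothLib.AlgSp.isQuasiCompactSp_yon qz.pt) _ _ _ sqP
  haveI : CompactSpace ↥U₀.left := hU₀
  obtain ⟨s₀, hs₀⟩ := (AlgSp.yon S).map_surjective (c₀ ≫ pullback.snd q.hom qz.toHom)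
  haveI : LocallyOfFiniteType s₀.left := hlP c₀ (𝟙 _) s₀ hc₀ (AlgSp.repWith_id _ _) (by rw [Category.comp_id, hs₀])
  haveI : IsLocallyNoetherian qz.pt.left := inferInstanceAs (IsLocallyNoetherian (Spec (CommRingCat.of qz.K)))
  haveI : IsLocallyNoetherian U₀.left := LocallyOfFiniteType.isLocallyNoetherian s₀.left
  haveI : IsNoetherian U₀.left := {}
  haveI : TopologicalSpace.NoetherianSpace (AlgSp.Points P) :=
    TopologicalSpace.noetherianSpace_of_surjective (AlgSp.Points.ofPt c₀) (AlgSp.Points.continuous_ofPt c₀)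
      (GrothLib.AlgSp.surjective_ofPt_of_repWith hc₀s)
  let A : Set (AlgSp.Points P) := AlgSp.Points.map (pullback.fst q.hom qz.toHom ≫ p.hom) ⁻¹' {AlgSp.Points.ofPt a u}
  -- the points over `x` are isolated
  let jO : Over.mk (O.ι ≫ U.hom) ⟶ U := Over.homMk O.ι rfl
  haveI : LocallyQuasiFinite (jO ≫ h).left := hlqf
  obtain ⟨Vk, ck, dk, sqV⟩ := GrothLib.AlgSp.exists_isPullback_yon Y.property.diag (qz.toHom ≫ g.hom) b
  haveI : Etale ck.left := hb.2 _ _ _ sqV.flip
  haveI : LocallyQuasiFinite ck.left := GrothLib.AlgSp.locallyQuasiFinite_of_unramified _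
  have sqT := IsPullback.of_hasPullback dk (jO ≫ h)
  haveI : LocallyQuasiFinite (pullback.fst dk (jO ≫ h)).left :=
    MorphismProperty.of_isPullback (GrothLib.AlgSp.isPullback_left sqT).flip hlqf
  haveI : IsLocallyArtinian qz.pt.left := inferInstanceAs (IsLocallyArtinian (Spec (CommRingCat.of qz.K)))
  haveI : IsLocallyArtinian Vk.left := .of_locallyQuasiFinite ck.left
  haveI : IsLocallyArtinian (pullback dk (jO ≫ h)).left := .of_locallyQuasiFinite (pullback.fst dk (jO ≫ h)).left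
  have sqS : IsPullback ((AlgSp.yon S).map (pullback.snd dk (jO ≫ h))) ((AlgSp.yon S).map (pullback.fst dk (jO ≫ h) ≫ ck))
      (((AlgSp.yon S).map jO ≫ a) ≫ f.hom) (qz.toHom ≫ g.hom) := by
    rw [Category.assoc, comm, ← Functor.map_comp_assoc, Functor.map_comp (AlgSp.yon S) (pullback.fst dk (jO ≫ h)) ck]
    exact (GrothLib.AlgSp.isPullback_stack sqV sqT).flip
  have hw : ((AlgSp.yon S).map (pullback.snd dk (jO ≫ h)) ≫ (AlgSp.yon S).map jO ≫ a) ≫ f.hom =
      (AlgSp.yon S).map (pullback.fst dk (jO ≫ h) ≫ ck) ≫ qz.toHom ≫ g.hom := by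
    rw [← sqS.w]; simp only [Category.assoc]
  let l := sqP.lift _ _ hw
  have sqL : IsPullback ((AlgSp.yon S).map (pullback.snd dk (jO ≫ h))) l ((AlgSp.yon S).map jO ≫ a)
      (pullback.fst q.hom qz.toHom ≫ p.hom) :=
    IsPullback.of_bot (by rw [show l ≫ pullback.snd q.hom qz.toHom = _ from sqP.lift_snd _ _ hw]; exact sqS)
      (sqP.lift_fst _ _ hw).symm sqP
  have hle : AlgSp.RepWith @Etale l := GrothLib.AlgSp.repWith_of_isPullback sqL
    (GrothLib.AlgSp.repWith_comp ((AlgSp.repWith_yon_map_iff _ _).2 (inferInstanceAs (Etale O.ι))) ha)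
  have hopen : ∀ π ∈ A, IsOpen ({π} : Set (AlgSp.Points P)) := by
    intro π hπ
    obtain ⟨w, -, hw₂⟩ := GrothLib.AlgSp.exists_of_isPullback sqL
      (x := AlgSp.Points.ofScheme (Over.mk (O.ι ≫ U.hom)) (⟨u, huO⟩ : (O : Scheme.{u}))) (y := π) (by
        rw [← AlgSp.Points.ofPt_eq_map_ofScheme, GrothLib.AlgSp.ofPt_map_comp]
        exact (Set.mem_singleton_iff.1 hπ).symm)
    obtain ⟨t, rfl⟩ := (AlgSp.Points.schemeEquiv _).surjective w
    have e : ({π} : Set (AlgSp.Points P)) = AlgSp.Points.ofPt l '' {t} := by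
      rw [Set.image_singleton, ← hw₂, AlgSp.Points.ofPt_eq_map_ofScheme]
      rfl
    rw [e]
    exact GrothLib.AlgSp.isOpenMap_ofPt_of_etale hle _ (isOpen_discrete _)
  haveI : DiscreteTopology ↥A := discreteTopology_iff_isOpen_singleton.2 fun π =>
    ⟨{π.1}, hopen π.1 π.2, Set.ext fun y => by simp [Subtype.ext_iff]⟩
  haveI : CompactSpace ↥A := TopologicalSpace.NoetherianSpace.compactSpace _
  haveI : Finite ↥A := finite_of_compact_of_discrete
  refine ((Set.toFinite A).image (AlgSp.Points.map (pullback.fst q.hom qz.toHom))).subset ?_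
  rintro w ⟨hw₁, hw₂⟩
  obtain ⟨π, hπ₁, -⟩ := GrothLib.AlgSp.exists_of_isPullback (IsPullback.of_hasPullback q.hom qz.toHom) (x := w)
    (y := AlgSp.Points.ofScheme qz.pt (IsLocalRing.closedPoint qz.K))
    (hw₂.trans (by rw [← AlgSp.Points.ofPt_eq_map_ofScheme, AlgSp.Points.ofPt_toHom]))
  refine ⟨π, ?_, hπ₁⟩
  show AlgSp.Points.map (pullback.fst q.hom qz.toHom ≫ p.hom) π ∈ ({AlgSp.Points.ofPt a u} : Set _)
  rw [AlgSp.Points.map_comp, hπ₁, hw₁]
  rfl

end Groth.Agent.S10417
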