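import Groth.Statements.S10418
import Groth.Agent.Lib.AlgSp.Strata
-- import your own Groth.Agent.* helpers here

set_option autoImplicit false
universe u
open CategoryTheory CategoryTheory.Limits AlgebraicGeometry Topology TopologicalSpace
open AlgSp

namespace Groth.Agent.S10418

open GrothLib.AlgSp

variable {S : Scheme.{u}} {X : AlgSp.Space S}

theorem setup {U : Over S} [IsAffine U.left] {a : (AlgSp.yon S).obj U ⟶ X.obj}
    (ha : AlgSp.RepWith @Etale a) (hs : AlgSp.RepWith @Surjective a) :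
    ∃ (Uo : ℕ → AlgSp.Space S) (j : ∀ p, Uo p ⟶ X) (k : ∀ p, Uo (p + 1) ⟶ Uo p)
      (T : ℕ → AlgSp.Space S) (i : ∀ p, T p ⟶ Uo p),
      (∀ p, AlgSp.RepWith @IsOpenImmersion (j p).hom) ∧ (∀ p, k p ≫ j p = j (p + 1)) ∧ IsIso (j 1) ∧
      (∀ p, Set.range (AlgSp.Points.map (j p).hom) = degGE a p) ∧
      (∀ p, AlgSp.IsRedInduced (Set.range (AlgSp.Points.map (k p).hom))ᶜ (i p).hom) ∧
      (∀ p, Set.range (AlgSp.Points.map (i p ≫ j p).hom) = degGE a p \ degGE a (p + 1)) ∧
      ∀ p, 1 ≤ p → ∃ (V : Over S) (f : (AlgSp.yon S).obj V ⟶ (Uo p).obj), V.left.IsSeparated ∧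
        (AlgSp.RepWith @QuasiCompact a → CompactSpace ↥V.left) ∧
        AlgSp.RepWith @Etale f ∧ AlgSp.RepWith @Surjective f ∧
        ∀ (P : AlgSp.Sp S) (fst : P ⟶ (T p).obj) (snd : P ⟶ (AlgSp.yon S).obj V),
          IsPullback fst snd (i p).hom f → IsIso fst := by
  let W := fun p => degGE a p
  have hW : ∀ p, IsOpen (W p) := fun p => isOpen_degGE' X.property ha p
  have hj : ∀ p, AlgSp.RepWith @IsOpenImmersion (openSubι X.obj (W p)) := fun p => repWith_openSubι (hW p)
  haveI : ∀ p, Mono (openSubι X.obj (W p)) := fun p => mono_openSubι _ _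
  have hk : ∀ p, ∃ k, k ≫ openSubι X.obj (W p) = openSubι X.obj (W (p + 1)) := fun p =>
    (exists_factor_iff (hj p) _).2 (by
      rw [range_openSubι, range_openSubι]
      exact degGE_succ_subset p)
  choose k hk using hk
  have hr : ∀ p, Set.range (AlgSp.Points.map (k p)) =
      AlgSp.Points.map (openSubι X.obj (W p)) ⁻¹' W (p + 1) := fun p => by
    ext z
    constructor
    · rintro ⟨y, rfl⟩
      exact (range_openSubι (W := W (p + 1))).subset ⟨y, by rw [← hk p, AlgSp.Points.map_comp]⟩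
    · intro hz
      obtain ⟨y, hy⟩ := (range_openSubι (W := W (p + 1))).ge (show AlgSp.Points.map (openSubι X.obj (W p)) z ∈ W (p + 1) from hz)
      exact ⟨y, injective_map_of_mono (openSubι X.obj (W p)) (by rw [← AlgSp.Points.map_comp, hk p, hy])⟩
  have hT : ∀ p, ∃ (Z : AlgSp.Sp S) (i : Z ⟶ openSub X.obj (W p)), AlgSp.IsAlgSpace Z ∧
      AlgSp.IsRedInduced (Set.range (AlgSp.Points.map (k p)))ᶜ i := fun p => by
    refine exists_isRedInduced_sp (isAlgSpace_openSub X.property (hW p)) ?_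
    rw [hr p]
    exact ((hW (p + 1)).preimage (AlgSp.Points.continuous_map _)).isClosed_compl
  choose Z i hZ hi using hT
  refine ⟨fun p => ⟨openSub X.obj (W p), isAlgSpace_openSub X.property (hW p)⟩,
    fun p => ObjectProperty.homMk (openSubι X.obj (W p)), fun p => ObjectProperty.homMk (k p),
    fun p => ⟨Z p, hZ p⟩, fun p => ObjectProperty.homMk (i p), hj,
    fun p => InducedCategory.Hom.ext (hk p), ?_, fun p => range_openSubι, hi, fun p => ?_, fun p hp => ?_⟩
  · have h1 : IsIso (openSubι X.obj (W 1)) := isIso_of_yon fun T β => by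
      obtain ⟨γ, hγ⟩ := openSub_lift (W := W 1) β fun t => by
        show _ ∈ degGE a 1
        rw [degGE_one, (surjective_ofPt_of_repWith hs).range_eq]
        trivial
      exact ⟨γ, hγ, fun γ' hγ' => (cancel_mono (openSubι X.obj (W 1))).1 (hγ'.trans hγ.symm)⟩
    let o : (⟨openSub X.obj (W 1), isAlgSpace_openSub X.property (hW 1)⟩ : AlgSp.Space S) ⟶ X :=
      ObjectProperty.homMk (openSubι X.obj (W 1))
    refine ⟨ObjectProperty.homMk (inv (openSubι X.obj (W 1))), InducedCategory.Hom.ext ?_,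
      InducedCategory.Hom.ext ?_⟩
    · exact IsIso.hom_inv_id (openSubι X.obj (W 1))
    · exact IsIso.inv_hom_id (openSubι X.obj (W 1))
  · show Set.range (AlgSp.Points.map (i p ≫ openSubι X.obj (W p))) = _
    rw [show AlgSp.Points.map (i p ≫ openSubι X.obj (W p)) = AlgSp.Points.map (openSubι X.obj (W p)) ∘
      AlgSp.Points.map (i p) from funext fun z => AlgSp.Points.map_comp _ _ z, Set.range_comp, (hi p).2.1, hr p,
      ← Set.preimage_compl, Set.image_preimage_eq_inter_range, range_openSubι, Set.inter_comm]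
    rfl
  · obtain ⟨m, rfl⟩ : ∃ m, p = m + 1 := ⟨p - 1, by omega⟩
    obtain ⟨V, f, h₁, h₂, h₃, h₄, h₅⟩ := exists_stratum X.property ha m
    refine ⟨V, f, h₁, h₂, h₃, h₄, fun P fst snd sq => h₅ (i (m + 1)) (fun z hz => ?_) fst snd sq⟩
    have h := (hi (m + 1)).2.1.subset (Set.mem_range_self z)
    rw [hr] at h
    exact h (by rw [AlgSp.Points.map_comp] at hz; exact hz)

end Groth.Agent.S10418

namespace Groth.Agent.S10418

/-- Let S be a scheme and X an algebraic space over S which is quasi-compact. There are open subspaces X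
= U_1 ⊇ U_2 ⊇ U_3 ⊇ ⋯ such that (1) with T_p = U_p ∖ U_{p+1} (reduced induced subspace structure)
there is a separated scheme V_p with a surjective etale f_p : V_p ⟶ U_p for which the map f_p⁻¹(T_p)
⟶ T_p is an isomorphism, and (2) every x ∈ |X| admitting a representative given by a quasi-compact
morphism from the spectrum of a field lies in T_p for some p. -/
theorem result {S : Scheme.{u}} (X : AlgSp.Space S)
    (hX : AlgSp.IsQuasiCompactSp X.obj) :
    ∃ (Uo : ℕ → AlgSp.Space S) (j : ∀ p, Uo p ⟶ X) (k : ∀ p, Uo (p + 1) ⟶ Uo p)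
      (T : ℕ → AlgSp.Space S) (i : ∀ p, T p ⟶ Uo p),
      (∀ p, AlgSp.RepWith @IsOpenImmersion (j p).hom) ∧ (∀ p, k p ≫ j p = j (p + 1)) ∧ IsIso (j 1) ∧
      (∀ p, AlgSp.IsRedInduced (Set.range (AlgSp.Points.map (k p).hom))ᶜ (i p).hom) ∧
      (∀ p, 1 ≤ p → ∃ (V : Over S) (f : (AlgSp.yon S).obj V ⟶ (Uo p).obj), V.left.IsSeparated ∧
        AlgSp.RepWith @Etale f ∧ AlgSp.RepWith @Surjective f ∧
        ∀ (P : AlgSp.Sp S) (fst : P ⟶ (T p).obj) (snd : P ⟶ (AlgSp.yon S).obj V),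
          IsPullback fst snd (i p).hom f → IsIso fst) ∧
      (∀ x : AlgSp.Points X.obj, (∃ q : AlgSp.FieldPt X.obj, AlgSp.Points.mk q = x ∧ AlgSp.RepWith @QuasiCompact q.toHom) →
        ∃ p, 1 ≤ p ∧ x ∈ Set.range (AlgSp.Points.map ((i p) ≫ (j p)).hom)) := by
  obtain ⟨U, a, hU, ha, hs⟩ := GrothLib.AlgSp.exists_affine_surjective_chart X.property hX
  haveI := hU
  obtain ⟨Uo, j, k, T, i, h₁, h₂, h₃, hr, h₄, hij, h₅⟩ := setup ha hs
  refine ⟨Uo, j, k, T, i, h₁, h₂, h₃, h₄, fun p hp => ?_, ?_⟩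
  · obtain ⟨V, f, a₁, -, a₂, a₃, a₄⟩ := h₅ p hp
    exact ⟨V, f, a₁, a₂, a₃, a₄⟩
  · rintro x ⟨q, rfl, hq⟩
    classical
    obtain ⟨N, hN⟩ := GrothLib.AlgSp.exists_not_mem_degGE X.property ha q hq
    have hex : ∃ n, AlgSp.Points.mk q ∉ GrothLib.AlgSp.degGE a n := ⟨N, hN⟩
    obtain ⟨h0, hmin⟩ := Nat.find_spec hex, fun m => Nat.find_min hex (m := m)
    have h2 : 2 ≤ Nat.find hex := by
      by_contra h
      have h1 : Nat.find hex ≤ 1 := by omega
      refine h0 (GrothLib.AlgSp.degGE_antitone h1 ?_)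
      rw [GrothLib.AlgSp.degGE_one, (GrothLib.AlgSp.surjective_ofPt_of_repWith hs).range_eq]
      trivial
    refine ⟨Nat.find hex - 1, by omega, (hij _).ge ⟨not_not.1 (hmin _ (by omega)), ?_⟩⟩
    rwa [show Nat.find hex - 1 + 1 = Nat.find hex by omega]

end Groth.Agent.S10418
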