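import Groth.Statements.S10422
import Mathlib.LinearAlgebra.TensorProduct.Finiteness
import Mathlib.RingTheory.Flat.Basic
import Mathlib.Order.Filter.Ultrafilter.Defs
import Mathlib.Order.Filter.FilterProduct
-- import your own Groth.Agent.* helpers here

set_option autoImplicit false
universe u
open Topology TopologicalSpace TensorProduct
open AlgSp
open scoped TensorProduct

namespace Groth.Agent.S10422

/-- Let A be a ring, k a field, (p_n) a sequence of primes of A which are pairwise distinct, and k →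
κ(p_n) field embeddings. Then the closure in Spec(A ⊗ A) of the image of ∐_{n ≠ m} Spec(κ(p_n) ⊗_k
κ(p_m)) meets the diagonal. Here κ(p_n) is any A-algebra K_n which is a field whose structure map
has kernel p_n and whose elements are quotients of images of elements of A. -/
theorem result (A : Type u) [CommRing A] (k : Type u) [Field k]
    (p : ℕ → PrimeSpectrum A) (hp : Function.Injective p) (K : ℕ → Type u) [∀ n, Field (K n)]
    [∀ n, Algebra A (K n)] [∀ n, Algebra k (K n)]
    (hker : ∀ n, RingHom.ker (algebraMap A (K n)) = (p n).asIdeal)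
    (hfrac : ∀ n (x : K n), ∃ a b : A, algebraMap A (K n) b ≠ 0 ∧ x * algebraMap A (K n) b = algebraMap A (K n) a) :
    (closure (⋃ (n : ℕ) (m : ℕ) (_ : n ≠ m),
        Set.range (PrimeSpectrum.comap
          (Algebra.TensorProduct.lift
            ((Algebra.TensorProduct.includeLeft (R := k) (S := ℤ) (A := K n) (B := K m)).toRingHom.toIntAlgHom.comp
              (Algebra.ofId A (K n)).toRingHom.toIntAlgHom)
            ((Algebra.TensorProduct.includeRight (R := k) (A := K n) (B := K m)).toRingHom.toIntAlgHom.comp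
              (Algebra.ofId A (K m)).toRingHom.toIntAlgHom)
            (fun _ _ => Commute.all _ _)).toRingHom)) ∩
      Set.range (PrimeSpectrum.comap (Algebra.TensorProduct.lmul' (S := A) ℤ).toRingHom)).Nonempty := by
  -- common field for finitely many of the `K n`
  have common : ∀ s : Finset ℕ, ∃ (Ω : Type u) (_ : Field Ω) (_ : Algebra k Ω),
      ∀ n ∈ s, Nonempty (K n →ₐ[k] Ω) := by
    intro s
    induction s using Finset.induction_on with
    | empty => exact ⟨k, inferInstance, inferInstance, by simp⟩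
    | @insert a s _ ih =>
      obtain ⟨Ω, _, _, hΩ⟩ := ih
      haveI : Nontrivial (Ω ⊗[k] K a) := (Algebra.TensorProduct.includeLeft_injective (R := k) (S := k)
        (A := Ω) (B := K a) (algebraMap k (K a)).injective).nontrivial
      obtain ⟨I, hI⟩ := Ideal.exists_maximal (Ω ⊗[k] K a)
      letI : Field ((Ω ⊗[k] K a) ⧸ I) := Ideal.Quotient.field I
      refine ⟨(Ω ⊗[k] K a) ⧸ I, inferInstance, inferInstance, fun n hn => ?_⟩
      rcases Finset.mem_insert.1 hn with rfl | hn
      · exact ⟨(Ideal.Quotient.mkₐ k I).comp Algebra.TensorProduct.includeRight⟩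
      · exact ⟨((Ideal.Quotient.mkₐ k I).comp Algebra.TensorProduct.includeLeft).comp (hΩ n hn).some⟩
  -- the limit prime along a non principal ultrafilter
  let U : Ultrafilter ℕ := Filter.hyperfilter ℕ
  let P : Ideal A :=
    { carrier := {a | ∀ᶠ n in (U : Filter ℕ), a ∈ (p n).asIdeal}
      add_mem' := fun {a b} ha hb => (ha.and hb).mono fun n h => (p n).asIdeal.add_mem h.1 h.2
      zero_mem' := Filter.Eventually.of_forall fun n => (p n).asIdeal.zero_mem
      smul_mem' := fun c a ha => ha.mono fun n h => (p n).asIdeal.mul_mem_left c h }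
  have hP : P.IsPrime := by
    refine ⟨fun h => ?_, fun {a b} hab => ?_⟩
    · have h1 : ∀ᶠ n in (U : Filter ℕ), (1 : A) ∈ (p n).asIdeal := (Ideal.eq_top_iff_one P).1 h
      obtain ⟨n, hn⟩ := h1.exists
      exact (p n).isPrime.ne_top ((Ideal.eq_top_iff_one _).2 hn)
    · exact Ultrafilter.eventually_or.1 (Filter.Eventually.mono (p := fun n => a * b ∈ (p n).asIdeal) hab
        fun n h => (p n).isPrime.mem_or_mem h)
  refine ⟨PrimeSpectrum.comap (Algebra.TensorProduct.lmul' (S := A) ℤ).toRingHom ⟨P, hP⟩, ?_, _, rfl⟩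
  rw [PrimeSpectrum.isTopologicalBasis_basic_opens.mem_closure_iff]
  rintro _ ⟨h, rfl⟩ hq
  by_contra hemp
  rw [Set.not_nonempty_iff_eq_empty] at hemp
  obtain ⟨s, hs⟩ := TensorProduct.exists_finset h
  have hμ : ∑ i ∈ s, i.1 * i.2 ∉ P := by
    have := hq
    rw [hs] at this
    simpa using this
  have hev : ∀ᶠ n in (U : Filter ℕ), ∑ i ∈ s, i.1 * i.2 ∉ (p n).asIdeal := Ultrafilter.eventually_not.2 hμ
  have hinf : {n | ∑ i ∈ s, i.1 * i.2 ∉ (p n).asIdeal}.Infinite := fun hfin =>
    Filter.notMem_hyperfilter_of_finite hfin hev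
  obtain ⟨t, htM, htc⟩ := hinf.exists_subset_card_eq (s.card + 1)
  obtain ⟨Ω, _, _, hΩ⟩ := common t
  let σ : ∀ n : t, K n.1 →ₐ[k] Ω := fun n => (hΩ n.1 n.2).some
  let v : t → s → Ω := fun n i => σ n (algebraMap A _ i.1.1)
  let w : t → s → Ω := fun n i => σ n (algebraMap A _ i.1.2)
  have hdiag : ∀ n : t, ∑ i, v n i * w n i ≠ 0 := fun n hn => by
    apply htM n.2
    rw [← hker, RingHom.mem_ker]
    apply (σ n).toRingHom.injective
    rw [map_zero, ← hn]
    simp only [v, w, map_sum, map_mul, AlgHom.toRingHom_eq_coe, RingHom.coe_coe]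
    exact (Finset.sum_coe_sort s fun i => σ n (algebraMap A _ i.1) * σ n (algebraMap A _ i.2)).symm
  have hoff : ∀ n m : t, n ≠ m → ∑ i, v n i * w m i = 0 := fun n m hnm => by
    by_contra hne
    have hne' : n.1 ≠ m.1 := fun e => hnm (Subtype.ext e)
    let ψ : K n.1 ⊗[k] K m.1 →ₐ[k] Ω := Algebra.TensorProduct.lift (σ n) (σ m) (fun _ _ => Commute.all _ _)
    let φ : A ⊗[ℤ] A →+* K n.1 ⊗[k] K m.1 := (Algebra.TensorProduct.lift
            ((Algebra.TensorProduct.includeLeft (R := k) (S := ℤ) (A := K n.1) (B := K m.1)).toRingHom.toIntAlgHom.comp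
              (Algebra.ofId A (K n.1)).toRingHom.toIntAlgHom)
            ((Algebra.TensorProduct.includeRight (R := k) (A := K n.1) (B := K m.1)).toRingHom.toIntAlgHom.comp
              (Algebra.ofId A (K m.1)).toRingHom.toIntAlgHom)
            (fun _ _ => Commute.all _ _)).toRingHom
    haveI : (RingHom.ker ψ.toRingHom).IsPrime := RingHom.ker_isPrime _
    have hmem : PrimeSpectrum.comap φ ⟨RingHom.ker ψ.toRingHom, inferInstance⟩ ∈
        ((PrimeSpectrum.basicOpen h : TopologicalSpace.Opens _) : Set _) := by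
      change φ h ∉ RingHom.ker ψ.toRingHom
      rw [RingHom.mem_ker]
      intro h0
      apply hne
      rw [← h0, hs]
      simp only [φ, ψ, map_sum, AlgHom.toRingHom_eq_coe, RingHom.coe_coe, Algebra.TensorProduct.lift_tmul, v, w]
      rw [Finset.sum_coe_sort s fun i => σ n (algebraMap A _ i.1) * σ m (algebraMap A _ i.2)]
      refine Finset.sum_congr rfl fun i _ => ?_
      simp
    exact Set.eq_empty_iff_forall_notMem.1 hemp _ ⟨hmem, Set.mem_iUnion₂.2 ⟨n.1, m.1, Set.mem_iUnion.2 ⟨hne', ⟨_, rfl⟩⟩⟩⟩
  have hli : LinearIndependent Ω v := by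
    rw [Fintype.linearIndependent_iff]
    intro c hc j
    have h1 : ∑ i, (∑ n, c n • v n) i * w j i = 0 := by rw [hc]; simp
    have h2 : ∑ i, (∑ n, c n • v n) i * w j i = c j * ∑ i, v j i * w j i := by
      simp only [Finset.sum_apply, Pi.smul_apply, smul_eq_mul, Finset.sum_mul]
      rw [Finset.sum_comm, Finset.sum_eq_single j]
      · simp [Finset.mul_sum, mul_assoc]
      · intro n _ hn
        simp only [mul_assoc, ← Finset.mul_sum, hoff n j hn, mul_zero]
      · simp
    exact (mul_eq_zero.1 (h2.symm.trans h1)).resolve_right (hdiag j)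
  have := hli.fintype_card_le_finrank
  simp [htc] at this

end Groth.Agent.S10422
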