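import Groth.Agent.Lib.AlgSp.MonoPoint
import Groth.Agent.Lib.AlgSp.DiagChart
import Groth.Statements.S10423
-- import your own Groth.Agent.* helpers here

set_option autoImplicit false
universe u
open CategoryTheory CategoryTheory.Limits AlgebraicGeometry Topology TopologicalSpace
open AlgSp

namespace Groth.Agent.S10423

/-- A morphism of algebraic spaces over a scheme S which is representable, or which is quasi-separated,
is decent (all its base changes to schemes are decent algebraic spaces). The implications through
reasonable and very reasonable morphisms are not part of this row. -/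
theorem result {S : Scheme.{u}} {X Y : AlgSp.Space S} (f : X ⟶ Y) :
    (AlgSp.Representable f.hom → AlgSp.IsDecentMor f.hom) ∧
      (AlgSp.IsQuasiSeparatedMor f.hom → AlgSp.IsDecentMor f.hom) := by
  refine ⟨fun hf T P g fst snd sq => ?_, fun hf T P g fst snd sq => ?_⟩
  · obtain ⟨W, f₁, f₂, sW⟩ := GrothLib.AlgSp.exists_isPullback_of_representable hf g
    exact (GrothLib.AlgSp.isDecent_yon W).of_iso (sW.isoIsPullback _ _ sq)
  · refine GrothLib.AlgSp.isDecent_of_fibres (ψ := snd) (GrothLib.AlgSp.isDecent_yon T)
      fun q Q fst' snd' sq' => ?_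
    have hQ := GrothLib.AlgSp.isAlgSpace_pullback Y.property.diag X.property (AlgSp.IsAlgSpace.yon_obj q.pt)
      (sq'.paste_horiz sq)
    refine GrothLib.AlgSp.isDecent_of_isQuasiSeparatedSp hQ
      (GrothLib.AlgSp.isQuasiSeparatedSp_of_mor (f := snd') ?_ ?_)
    · exact GrothLib.AlgSp.repWith_of_isPullback
        (GrothLib.AlgSp.isPullback_diagonal_of_isPullback (sq'.paste_horiz sq)) hf
    · have e : Limits.diag ((AlgSp.yon S).obj q.pt) =
          (AlgSp.yon S).map (Limits.diag q.pt) ≫ prodComparison (AlgSp.yon S) q.pt q.pt := by
        apply prod.hom_ext <;>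
          simp only [Limits.diag, prodComparison, Category.assoc, prod.lift_fst, prod.lift_snd,
            ← Functor.map_comp, CategoryTheory.Functor.map_id]
      have : Finite ↥q.pt.left := GrothLib.AlgSp.finite_spec_field q.K
      show AlgSp.RepWith @QuasiCompact (Limits.diag ((AlgSp.yon S).obj q.pt))
      rw [e]
      exact GrothLib.AlgSp.repWith_comp
        ((AlgSp.repWith_yon_map_iff _ _).2 (GrothLib.AlgSp.quasiCompact_of_finite _))
        (GrothLib.AlgSp.repWith_iso _)

end Groth.Agent.S10423
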