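import Groth.Agent.Lib.AlgSp.BddFibres
import Groth.Statements.S10428
-- import your own Groth.Agent.* helpers here

set_option autoImplicit false
universe u
open CategoryTheory CategoryTheory.Limits AlgebraicGeometry Topology TopologicalSpace
open AlgSp

namespace Groth.Agent.S10428

/-- Let X be an algebraic space over a scheme S and φ : U ⟶ X a morphism from a scheme with universally
bounded fibres. Then for some integer n, every fibre of |U| → |X| contains at most n elements. -/
theorem result {S : Scheme.{u}} (X : AlgSp.Space S) {U : Over S}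
    (φ : (AlgSp.yon S).obj U ⟶ X.obj) (hφ : W4dec.HasUnivBddFibres φ) :
    ∃ n : ℕ, ∀ x : AlgSp.Points X.obj, (AlgSp.Points.ofPt φ ⁻¹' {x}).encard ≤ n := by
  obtain ⟨n, hn⟩ := hφ
  refine ⟨n, fun x => ?_⟩
  obtain ⟨q, rfl⟩ := AlgSp.Points.mk_surjective x
  obtain ⟨T, c, d, sq⟩ := GrothLib.AlgSp.exists_isPullback_yon X.property.diag q.toHom φ
  have h := (GrothLib.AlgSp.fibreDegLE_iff_finiteOfDegLE (Field.toIsField q.K) c.left n).1
    (GrothLib.AlgSp.degFibresLE_iff.1 hn q T c _ sq)
  obtain ⟨hfin, -⟩ := GrothLib.BddFibre.finite_discrete_of_finiteOfDegLE _ (Field.toIsField q.K) h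
  have hsub : AlgSp.Points.ofPt φ ⁻¹' {AlgSp.Points.mk q} ⊆ Set.range d.left := fun v hv => by
    obtain ⟨r, -, hr⟩ := (GrothLib.AlgSp.ofPt_eq_ofPt_iff sq (IsLocalRing.closedPoint q.K) v).1
      ((AlgSp.Points.ofPt_toHom q _).trans (Set.mem_singleton_iff.1 hv).symm)
    exact ⟨r, hr⟩
  refine (Set.encard_le_encard hsub).trans ?_
  rw [← Set.image_univ]
  refine (Set.encard_image_le _ _).trans ?_
  rw [Set.encard_univ, ENat.card_eq_coe_natCard]
  exact_mod_cast GrothLib.BddFibre.natCard_le c.left (Field.toIsField q.K) h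

end Groth.Agent.S10428
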