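import Groth.Agent.Lib.AlgSp.BddFibres
import Groth.Statements.S10429
-- import your own Groth.Agent.* helpers here

set_option autoImplicit false
universe u
open CategoryTheory CategoryTheory.Limits AlgebraicGeometry Topology TopologicalSpace
open AlgSp

namespace Groth.Agent.S10429

theorem main {S : Scheme.{u}} {X : AlgSp.Sp S} (hX : AlgSp.IsAlgSpace X) {ι : Type u} (U : ι → Over S)
    (φ : ∀ i, (AlgSp.yon S).obj (U i) ⟶ X) (hφ : ∀ i, AlgSp.RepWith @Etale (φ i))
    (hsurj : ∀ x : AlgSp.Points X, ∃ (i : ι) (v : ↥(U i).left), AlgSp.Points.ofPt (φ i) v = x)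
    (hb : ∀ i, W4dec.HasUnivBddFibres (φ i)) {V : Over S} [IsAffine V.left] (ψ : (AlgSp.yon S).obj V ⟶ X)
    (hψ : AlgSp.RepWith @Etale ψ) : W4dec.HasUnivBddFibres ψ := by
  choose i v hv using hsurj
  have key : ∀ w : ↥V.left, ∃ (O : Over S) (e : O ⟶ V) (n : ℕ), IsAffine O.left ∧ Etale e.left ∧
      w ∈ Set.range e.left ∧ W4dec.DegFibresLE n ((AlgSp.yon S).map e ≫ ψ) := by
    intro w
    obtain ⟨W, c, d, sq⟩ := GrothLib.AlgSp.exists_isPullback_yon hX.diag ψ (φ (i (AlgSp.Points.ofPt ψ w)))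
    haveI : Etale c.left := (hφ _).2 _ _ _ sq.flip
    haveI : Etale d.left := hψ.2 _ _ _ sq
    obtain ⟨r, hr, -⟩ := (GrothLib.AlgSp.ofPt_eq_ofPt_iff sq w _).1 (hv (AlgSp.Points.ofPt ψ w)).symm
    obtain ⟨B, hB, hrB, -⟩ := exists_isAffineOpen_mem_and_subset (U := (⊤ : W.left.Opens)) (x := r) trivial
    haveI : IsAffine (B : Scheme.{u}) := hB
    let j : Over.mk (B.ι ≫ W.hom) ⟶ W := Over.homMk B.ι rfl
    haveI : CompactSpace ↥(Over.mk (B.ι ≫ W.hom)).left := inferInstanceAs (CompactSpace (B : Scheme.{u}))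
    haveI : Etale (j ≫ d).left := inferInstanceAs (Etale (B.ι ≫ d.left))
    haveI : LocallyQuasiFinite (j ≫ d).left := GrothLib.AlgSp.locallyQuasiFinite_of_unramified _
    obtain ⟨n, hn⟩ := GrothLib.BddFibre.univBounded_of_locallyQuasiFinite (j ≫ d).left
    obtain ⟨m, hm⟩ := hb (i (AlgSp.Points.ofPt ψ w))
    refine ⟨_, j ≫ c, n * m, ‹_›, inferInstanceAs (Etale (B.ι ≫ c.left)), ⟨⟨r, hrB⟩, hr⟩, ?_⟩
    rw [Functor.map_comp, Category.assoc, sq.w, ← Category.assoc, ← Functor.map_comp]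
    exact GrothLib.AlgSp.degFibresLE_comp hX _ _ hn hm
  choose O e n hO he hew hn using key
  obtain ⟨s, hs⟩ := isCompact_univ.elim_finite_subcover (fun w => Set.range (e w).left)
    (fun w => by haveI := he w; exact (e w).left.isOpenMap.isOpen_range) (fun w _ => Set.mem_iUnion.2 ⟨w, hew w⟩)
  let z : Fin s.card → ↥V.left := fun k => s.equivFin.symm k
  let P := ∐ fun k => (O (z k)).left
  let V' : Over S := Over.mk (Sigma.desc fun k => (O (z k)).hom : P ⟶ S)
  let E : V' ⟶ V := Over.homMk (Sigma.desc fun k => (e (z k)).left)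
    (Sigma.hom_ext _ _ fun k => by simp [V'])
  haveI : Surjective E.left := ⟨fun x => by
    obtain ⟨w, hw, u, hu⟩ := Set.mem_iUnion₂.1 (hs (Set.mem_univ x))
    obtain ⟨k, hk⟩ : ∃ k, z k = w := ⟨s.equivFin ⟨w, hw⟩, by simp [z]⟩
    subst hk
    refine ⟨Sigma.ι (fun k => (O (z k)).left) k u, ?_⟩
    rw [← Scheme.Hom.comp_apply]
    simp only [E, Over.homMk_left, colimit.ι_desc, Cofan.mk_ι_app]
    exact hu⟩
  haveI : Flat E.left := IsZariskiLocalAtSource.sigmaDesc fun k => (haveI := he (z k); (inferInstance : Flat (e (z k)).left))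
  let ι' : ∀ k, O (z k) ⟶ V' := fun k => Over.homMk (Sigma.ι (fun k => (O (z k)).left) k) (by simp [V'])
  refine ⟨_, GrothLib.AlgSp.degFibresLE_of_flat_surjective hX E ψ
    (GrothLib.AlgSp.degFibresLE_of_cover hX _ (fun k => O (z k)) ι' (fun k => inferInstanceAs
      (IsOpenImmersion (Sigma.ι (fun k => (O (z k)).left) k))) (fun x => ?_) (fun k => n (z k)) fun k => ?_)⟩
  · exact (sigmaOpenCover fun k => (O (z k)).left).exists_eq x
  · have h : ι' k ≫ E = e (z k) := Over.OverMorphism.ext (by simp [ι', E])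
    rw [← Category.assoc, ← Functor.map_comp, h]
    exact hn (z k)

/-- For an algebraic space X over a scheme S, if there are etale morphisms U_i ⟶ X from schemes with ∐
U_i ⟶ X surjective and each U_i ⟶ X with universally bounded fibres, then every etale morphism U ⟶ X
from an affine scheme has universally bounded fibres (the converse implication is immediate). -/
theorem result {S : Scheme.{u}} (X : AlgSp.Space S) {ι : Type u} (U : ι → Over S)
    (φ : ∀ i, (AlgSp.yon S).obj (U i) ⟶ X.obj) (hφ : ∀ i, AlgSp.RepWith @Etale (φ i))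
    (hsurj : ∀ x : AlgSp.Points X.obj, ∃ (i : ι) (v : ↥(U i).left), AlgSp.Points.ofPt (φ i) v = x)
    (hb : ∀ i, W4dec.HasUnivBddFibres (φ i)) {V : Over S} [IsAffine V.left] (ψ : (AlgSp.yon S).obj V ⟶ X.obj)
    (hψ : AlgSp.RepWith @Etale ψ) : W4dec.HasUnivBddFibres ψ := by
  exact main X.property U φ hφ hsurj hb ψ hψ

end Groth.Agent.S10429
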