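import Groth.Agent.Lib.AlgSp.DecentBridge
import Groth.Statements.S10430
-- import your own Groth.Agent.* helpers here

set_option autoImplicit false
universe u
open CategoryTheory CategoryTheory.Limits AlgebraicGeometry Topology TopologicalSpace
open AlgSp

namespace Groth.Agent.S10430

/-- If every etale morphism U ⟶ X from an affine scheme to the algebraic space X has universally bounded
fibres, then X is decent. -/
theorem result {S : Scheme.{u}} (X : AlgSp.Space S)
    (h : ∀ (U : Over S) (φ : (AlgSp.yon S).obj U ⟶ X.obj), IsAffine U.left → AlgSp.RepWith @Etale φ → W4dec.HasUnivBddFibres φ) :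
    AlgSp.IsDecent X.obj := by
  intro x
  obtain ⟨q, rfl⟩ := Quotient.exists_rep x
  exact GrothLib.AlgSp.exists_mono_qc_of_compact X.property q fun U φ hU hφ W c d sq => by
    obtain ⟨n, hn⟩ := h U φ hU hφ
    haveI := (hn q W c _ sq).1
    haveI : CompactSpace ↥q.pt.left := inferInstanceAs (CompactSpace (PrimeSpectrum q.K))
    exact QuasiCompact.compactSpace_of_compactSpace c.left

end Groth.Agent.S10430
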