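import Groth.Agent.Lib.AlgSp.BddFibres
import Groth.Agent.S10429
import Groth.Statements.S10431
-- import your own Groth.Agent.* helpers here

set_option autoImplicit false
universe u
open CategoryTheory CategoryTheory.Limits AlgebraicGeometry Topology TopologicalSpace
open AlgSp

namespace Groth.Agent.S10431

/-- Let S be a scheme, X and Y algebraic spaces over S, and X ⟶ Y a representable morphism. If every
etale morphism from an affine scheme to Y has universally bounded fibres, then so does every etale
morphism from an affine scheme to X. -/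
theorem result {S : Scheme.{u}} {X Y : AlgSp.Space S} (f : X ⟶ Y)
    (hf : AlgSp.Representable f.hom)
    (hY : ∀ (V : Over S) (ψ : (AlgSp.yon S).obj V ⟶ Y.obj), IsAffine V.left → AlgSp.RepWith @Etale ψ → W4dec.HasUnivBddFibres ψ)
    (U : Over S) (φ : (AlgSp.yon S).obj U ⟶ X.obj) (hU : IsAffine U.left) (hφ : AlgSp.RepWith @Etale φ) :
    W4dec.HasUnivBddFibres φ := by
  haveI := hU
  obtain ⟨ι, W, r, hW, hr, hrs, -⟩ := GrothLib.AlgSp.exists_affine_charts Y.property
  choose Z fst snd sq using fun i => GrothLib.AlgSp.exists_isPullback_of_representable hf (r i)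
  refine Groth.Agent.S10429.main X.property Z fst
    (fun i => GrothLib.AlgSp.repWith_of_isPullback (sq i).flip (hr i)) (fun x => ?_) (fun i => ?_) φ hφ
  · obtain ⟨i, w, hw⟩ := hrs (AlgSp.Points.map f.hom x)
    obtain ⟨p, hp, -⟩ := GrothLib.AlgSp.exists_of_isPullback (sq i) (x := x)
      (y := AlgSp.Points.ofScheme (W i) w) (by rw [← AlgSp.Points.ofPt_eq_map_ofScheme]; exact hw.symm)
    obtain ⟨t, rfl⟩ := (AlgSp.Points.schemeEquiv (Z i)).surjective p
    exact ⟨i, t, by rw [← hp, AlgSp.Points.ofPt_eq_map_ofScheme]; rfl⟩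
  · obtain ⟨n, hn⟩ := hY _ _ (hW i) (hr i)
    exact ⟨n, GrothLib.AlgSp.degFibresLE_baseChange (sq i).flip hn⟩

end Groth.Agent.S10431
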