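import Groth.Agent.Lib.AlgSp.BddFibres
import Groth.Agent.S10429
import Groth.Statements.S10432
-- import your own Groth.Agent.* helpers here

set_option autoImplicit false
universe u
open CategoryTheory CategoryTheory.Limits AlgebraicGeometry Topology TopologicalSpace
open AlgSp

namespace Groth.Agent.S10432

/-- Let X be an algebraic space over a scheme S with a Zariski covering by open subspaces X_i ⟶ X such
that every etale morphism from an affine scheme to X_i has universally bounded fibres. Then every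
etale morphism from an affine scheme to X has universally bounded fibres. -/
theorem result {S : Scheme.{u}} (X : AlgSp.Space S) {ι : Type u}
    (Xi : ι → AlgSp.Space S) (j : ∀ i, Xi i ⟶ X) (hj : AlgSp.IsZarCover (fun i => (Xi i).obj) (fun i => (j i).hom))
    (h : ∀ (i : ι) (V : Over S) (ψ : (AlgSp.yon S).obj V ⟶ (Xi i).obj), IsAffine V.left → AlgSp.RepWith @Etale ψ → W4dec.HasUnivBddFibres ψ)
    (U : Over S) (φ : (AlgSp.yon S).obj U ⟶ X.obj) (hU : IsAffine U.left) (hφ : AlgSp.RepWith @Etale φ) :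
    W4dec.HasUnivBddFibres φ := by
  haveI := hU
  choose κ W r hW hr hrs _ using fun i => GrothLib.AlgSp.exists_affine_charts (Xi i).property
  refine Groth.Agent.S10429.main X.property (ι := Σ i, κ i) (fun a => W a.1 a.2) (fun a => r a.1 a.2 ≫ (j a.1).hom)
    (fun a => GrothLib.AlgSp.repWith_comp (hr a.1 a.2)
      (GrothLib.AlgSp.repWith_mono (hj.1 a.1) fun _ _ g hg => (haveI : IsOpenImmersion g := hg; inferInstance)))
    (fun x => ?_) (fun a => ?_) φ hφ
  · obtain ⟨i, y, rfl⟩ := hj.2 x
    obtain ⟨k, w, rfl⟩ := hrs i y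
    exact ⟨⟨i, k⟩, w, (AlgSp.Points.map_ofPt _ _ _).symm⟩
  · obtain ⟨n, hn⟩ := h a.1 _ _ (hW a.1 a.2) (hr a.1 a.2)
    haveI : Mono (j a.1).hom := GrothLib.AlgSp.mono_of_repWith_mono
      (GrothLib.AlgSp.repWith_mono (hj.1 a.1) fun _ _ g hg => (haveI : IsOpenImmersion g := hg; MorphismProperty.monomorphisms.infer_property g))
    refine ⟨n + 1, GrothLib.AlgSp.degFibresLE_of_baseChange X.property
      (GrothLib.AlgSp.isPullback_snd_of_mono (j a.1).hom (r a.1 a.2)) ?_ hn⟩
    rintro _ ⟨w, rfl⟩
    exact ⟨AlgSp.Points.ofPt (r a.1 a.2) w, AlgSp.Points.map_ofPt _ _ _⟩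

end Groth.Agent.S10432
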