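import Groth.Statements.S10433
import Groth.Agent.S1447
import Groth.Agent.Lib.AlgSp.DegStrata
import Groth.Agent.Lib.AlgSp.RedInduced
import Groth.Agent.Lib.AlgSp.FppfDescent
-- import your own Groth.Agent.* helpers here

set_option autoImplicit false
universe u
open CategoryTheory CategoryTheory.Limits AlgebraicGeometry Topology TopologicalSpace
open AlgSp

namespace Groth.Agent.S10433

/-- Let S be a scheme, X an algebraic space over S, W a scheme over S, and W ⟶ X a morphism which is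
flat, separated, locally of finite presentation and locally quasi-finite, with universally bounded
fibres. Then X has closed subspaces, each reduced, ∅ = Z_{-1} ⊆ Z_0 ⊆ ⋯ ⊆ Z_n with |Z_n| = |X| such
that, putting X_r = Z_r ∖ Z_{r-1}, for every morphism g : T ⟶ X the second projection W ×_X T ⟶ T is
a finite locally free morphism of degree r exactly when g(|T|) ⊆ |X_r|. (Indexing: Zs 0 = Z_{-1}, Zs
(r+1) = Z_r.) -/
theorem result {S : Scheme.{u}} (X : AlgSp.Space S) {W : Over S}
    (w : (AlgSp.yon S).obj W ⟶ X.obj) (hfl : AlgSp.RepWith @Flat w) (hfp : AlgSp.RepWith @LocallyOfFinitePresentation w)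
    (hsep : AlgSp.RepWith @IsSeparated w) (hqf : AlgSp.RepWith @LocallyQuasiFinite w) (hb : W4dec.HasUnivBddFibres w) :
    ∃ (n : ℕ) (Zs : ℕ → AlgSp.Space S) (i : ∀ r, Zs r ⟶ X),
      (∀ r, AlgSp.IsRedInduced (Set.range (AlgSp.Points.map (i r).hom)) (i r).hom) ∧
      IsEmpty (AlgSp.Points (Zs 0).obj) ∧ Set.range (AlgSp.Points.map (i (n + 1)).hom) = Set.univ ∧
      (∀ r, Set.range (AlgSp.Points.map (i r).hom) ⊆ Set.range (AlgSp.Points.map (i (r + 1)).hom)) ∧
      ∀ (r : ℕ) (T : AlgSp.Space S) (g : T ⟶ X) (P : AlgSp.Sp S) (fst : P ⟶ (AlgSp.yon S).obj W) (snd : P ⟶ T.obj),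
        IsPullback fst snd w g.hom →
          (AlgSp.IsFinLocFreeOfDegMor r snd ↔
            Set.range (AlgSp.Points.map g.hom) ⊆
              Set.range (AlgSp.Points.map (i (r + 1)).hom) \ Set.range (AlgSp.Points.map (i r).hom)) := by
  obtain ⟨U, a, ae, as⟩ := X.property.atlas
  obtain ⟨W₀, w₀, k, sq₀⟩ := GrothLib.AlgSp.exists_isPullback_of_representable hfl.1 a
  haveI : Flat k.left := hfl.2 _ _ _ sq₀
  haveI : LocallyOfFinitePresentation k.left := hfp.2 _ _ _ sq₀
  haveI : IsSeparated k.left := hsep.2 _ _ _ sq₀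
  haveI : LocallyQuasiFinite k.left := hqf.2 _ _ _ sq₀
  obtain ⟨n, hn⟩ := hb
  -- the degree function on the chart
  obtain ⟨deg, hdn, hcl, hchar⟩ := Groth.Agent.S1447.result k.left n (fun K _ g => by
    let g' : Over.mk (g ≫ U.hom) ⟶ U := Over.homMk g rfl
    have sqT := IsPullback.of_hasPullback k g'
    have sqq := ((GrothLib.AlgSp.isPullback_yon sqT).paste_horiz sq₀).flip
    rw [← GrothLib.AlgSp.toHom_fieldPtOfHom ((AlgSp.yon S).map g' ≫ a)] at sqq
    obtain ⟨hc, hr⟩ := hn (GrothLib.AlgSp.fieldPtOfHom ((AlgSp.yon S).map g' ≫ a)) _ (pullback.snd k g') _ sqq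
    haveI hc' : IsFinite (pullback.snd k g').left := hc
    have sqL := GrothLib.AlgSp.isPullback_left sqT
    have e : pullback.snd k.left g = sqL.isoPullback.inv ≫ (pullback.snd k g').left :=
      (Iso.eq_inv_comp _).2 sqL.isoPullback_hom_snd
    haveI : IsFinite (pullback.snd k.left g) := by rw [e]; exact (MorphismProperty.cancel_left_of_respectsIso @IsFinite _ _).2 hc'
    haveI : Flat (pullback.snd k.left g) := MorphismProperty.pullback_snd _ _ ‹Flat k.left›
    show GrothLib.Weight.gRank (K := K) (pullback.snd k.left g) ≤ _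
    rw [GrothLib.Weight.gRank_of_isFinite _ (IsLocalRing.closedPoint K), e]
    refine (Nat.cast_le.2 ?_)
    refine le_of_eq_of_le ?_ (hr (IsLocalRing.closedPoint K))
    exact congrFun (Scheme.Hom.finrank_comp_left_of_isIso _ _) _)
  -- reading base changes of `w` over maps to the chart
  have key : ∀ (Z : Over S) (h : Z ⟶ U) (P : Over S) (p : (AlgSp.yon S).obj P ⟶ (AlgSp.yon S).obj W) (c : P ⟶ Z)
      (r : ℕ), IsPullback p ((AlgSp.yon S).map c) w ((AlgSp.yon S).map h ≫ a) →
        (AlgSp.finLocFreeOfDeg r c.left ↔ ∀ z : ↥Z.left, deg (h.left z) = r) := by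
    intro Z h P p c r sqP
    let l := sq₀.lift p ((AlgSp.yon S).map (c ≫ h)) (by rw [sqP.w, Functor.map_comp, Category.assoc])
    obtain ⟨l', hl'⟩ := (AlgSp.yon S).map_surjective l
    have sqL : IsPullback l ((AlgSp.yon S).map c) ((AlgSp.yon S).map k) ((AlgSp.yon S).map h) :=
      IsPullback.of_right (by rw [sq₀.lift_fst]; exact sqP) (by rw [sq₀.lift_snd, Functor.map_comp]) sq₀
    rw [← hl'] at sqL
    have sqO : IsPullback l' c k h := IsPullback.of_map (AlgSp.yon S) ((AlgSp.yon S).map_injective (by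
      rw [Functor.map_comp, Functor.map_comp]; exact sqL.w)) sqL
    have sqs := GrothLib.AlgSp.isPullback_left sqO
    rw [← sqs.isoPullback_hom_snd]
    refine ((AlgSp.finLocFreeOfDeg r).cancel_left_of_respectsIso _ _).trans ?_
    exact hchar Z.left h.left r
  -- the degree descends to the points of `X`
  have hwd : ∀ u u' : ↥U.left, AlgSp.Points.ofPt a u = AlgSp.Points.ofPt a u' → deg u = deg u' := by
    intro u u' he
    obtain ⟨R, t, s, sqR⟩ := GrothLib.AlgSp.exists_isPullback_yon X.property.diag a a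
    obtain ⟨r, hr₁, hr₂⟩ := (GrothLib.AlgSp.ofPt_eq_ofPt_iff sqR u u').1 he
    let ρ : Over.mk (R.left.fromSpecResidueField r ≫ R.hom) ⟶ R := Over.homMk (R.left.fromSpecResidueField r) rfl
    obtain ⟨P, p, c, sqP⟩ := GrothLib.AlgSp.exists_isPullback_of_representable hfl.1 ((AlgSp.yon S).map (ρ ≫ t) ≫ a)
    have hz : ∀ z, ρ.left z = r := fun z => Scheme.fromSpecResidueField_apply _ z
    have h1 := (key _ (ρ ≫ t) P p c (deg u) sqP).2 fun z => by rw [Over.comp_left, Scheme.Hom.comp_apply, hz, hr₁]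
    rw [show (AlgSp.yon S).map (ρ ≫ t) ≫ a = (AlgSp.yon S).map (ρ ≫ s) ≫ a by
      rw [Functor.map_comp, Functor.map_comp, Category.assoc, Category.assoc, sqR.w]] at sqP
    have h2 := (key _ (ρ ≫ s) P p c (deg u) sqP).1 h1 (IsLocalRing.closedPoint _)
    rw [Over.comp_left, Scheme.Hom.comp_apply, hz, hr₂] at h2
    exact h2.symm
  have hsur := GrothLib.AlgSp.surjective_ofPt_of_repWith as
  choose uu huu using hsur
  let d : AlgSp.Points X.obj → ℕ := fun x => deg (uu x)
  have hd : ∀ u, d (AlgSp.Points.ofPt a u) = deg u := fun u => hwd _ _ (huu _)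
  have hclosed : ∀ r : ℕ, IsClosed {x : AlgSp.Points X.obj | d x < r} := by
    intro r
    cases r with
    | zero => simp
    | succ r =>
      refine (GrothLib.AlgSp.isOpenQuotientMap_ofPt ae as).isQuotientMap.isClosed_preimage.1 ?_
      have : AlgSp.Points.ofPt a ⁻¹' {x | d x < r + 1} = {u | deg u ≤ r} := by
        ext u
        simp [hd, Nat.lt_succ_iff]
      rw [this]
      exact hcl r
  choose Z j hZ hj using fun r => GrothLib.AlgSp.exists_isRedInduced_sp X.property (hclosed r)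
  refine ⟨n, fun r => ⟨Z r, hZ r⟩, fun r => ObjectProperty.homMk (j r), ?_, ?_, ?_, ?_, ?_⟩
  · intro r
    show AlgSp.IsRedInduced (Set.range (AlgSp.Points.map (j r))) (j r)
    rw [(hj r).2.1]
    exact hj r
  · refine ⟨fun z => ?_⟩
    have h : AlgSp.Points.map (j 0) z ∈ Set.range (AlgSp.Points.map (j 0)) := ⟨z, rfl⟩
    rw [(hj 0).2.1] at h
    exact Nat.not_lt_zero _ h
  · show Set.range (AlgSp.Points.map (j (n + 1))) = Set.univ
    rw [(hj (n + 1)).2.1]
    exact Set.eq_univ_of_forall fun x => Nat.lt_succ_of_le (hdn _)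
  · intro r
    show Set.range (AlgSp.Points.map (j r)) ⊆ Set.range (AlgSp.Points.map (j (r + 1)))
    rw [(hj r).2.1, (hj (r + 1)).2.1]
    exact fun x (hx : d x < r) => Nat.lt_succ_of_lt hx
  intro r T g P fst snd sqP
  show _ ↔ _ ⊆ Set.range (AlgSp.Points.map (j (r + 1))) \ Set.range (AlgSp.Points.map (j r))
  rw [(hj r).2.1, (hj (r + 1)).2.1]
  constructor
  · intro hsnd x ⟨t, ht⟩
    obtain ⟨V, b, be, bs⟩ := T.property.atlas
    obtain ⟨v, rfl⟩ := GrothLib.AlgSp.surjective_ofPt_of_repWith bs t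
    obtain ⟨R, e₁, e₂, sqR⟩ := GrothLib.AlgSp.exists_isPullback_yon X.property.diag (b ≫ g.hom) a
    haveI : Surjective e₁.left := as.2 _ _ _ sqR.flip
    obtain ⟨z, rfl⟩ := e₁.left.surjective v
    obtain ⟨P', p, c, sqP'⟩ := GrothLib.AlgSp.exists_isPullback_of_representable hsnd.1 ((AlgSp.yon S).map e₁ ≫ b)
    have sqW := sqP'.paste_horiz sqP
    rw [Category.assoc, sqR.w] at sqW
    have h1 := (key R e₂ P' _ c r sqW).1 (hsnd.2 _ _ _ sqP') z
    have h2 : d x = r := by
      rw [← ht, AlgSp.Points.map_ofPt, ← GrothLib.AlgSp.ofPt_map_comp, sqR.w, GrothLib.AlgSp.ofPt_map_comp, hd]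
      exact h1
    exact ⟨by rw [Set.mem_setOf_eq, h2]; omega, by rw [Set.mem_setOf_eq, h2]; omega⟩
  · intro hsub
    have hd' : ∀ t, d (AlgSp.Points.map g.hom t) = r := fun t => by
      obtain ⟨h1, h2⟩ := hsub ⟨t, rfl⟩
      rw [Set.mem_setOf_eq] at h1 h2
      omega
    have hrep : AlgSp.Representable snd := (GrothLib.AlgSp.repWith_of_isPullback sqP hfl).1
    refine ⟨hrep, fun Z₁ P₁ g₁ fst₁ c₁ sq₁ => ?_⟩
    obtain ⟨R, e₁, e₂, sqR⟩ := GrothLib.AlgSp.exists_isPullback_yon X.property.diag (g₁ ≫ g.hom) a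
    have hes : Surjective e₁.left := as.2 _ _ _ sqR.flip
    have hee : Etale e₁.left := ae.2 _ _ _ sqR.flip
    have sqc := IsPullback.of_hasPullback c₁ e₁
    have sqA := ((GrothLib.AlgSp.isPullback_yon sqc).paste_horiz sq₁).paste_horiz sqP
    rw [Category.assoc, Category.assoc] at sqA
    rw [sqR.w] at sqA
    have h1 := (key R e₂ _ _ (pullback.snd c₁ e₁) r sqA).2 fun z => by
      rw [← hd, ← GrothLib.AlgSp.ofPt_map_comp, ← sqR.w, GrothLib.AlgSp.ofPt_map_comp, ← AlgSp.Points.map_ofPt]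
      exact hd' _
    exact GrothLib.AlgSp.fppfDescends_finLocFreeOfDeg r _ _ _ _ (GrothLib.AlgSp.isPullback_left sqc)
      (@inferInstance (Flat e₁.left) (by haveI := hee; infer_instance))
      (@inferInstance (LocallyOfFinitePresentation e₁.left) (by haveI := hee; infer_instance)) hes h1

end Groth.Agent.S10433
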