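import Groth.Statements.S10435
import Groth.Agent.Lib.AlgSp.BiratSp
import Groth.Agent.S9678
import Groth.Agent.S10339
import Groth.Agent.Lib.AlgSp.LocP
import Groth.Agent.Lib.AlgSp.EtaleLocallyProps
import Groth.Agent.Lib.AlgSp.FibreReduced
-- import your own Groth.Agent.* helpers here

set_option autoImplicit false
universe u
open CategoryTheory CategoryTheory.Limits AlgebraicGeometry Topology TopologicalSpace
open AlgSp GrothLib.AlgSp
set_option backward.isDefEq.respectTransparency false

namespace Groth.Agent.S10435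

/-- Take decent algebraic spaces X and Y over a scheme S, each with only finitely many irreducible
components in its space of points, and a birational f : X ⟶ Y. Suppose f is locally of finite type
with Y reduced, or else locally of finite presentation. Then X and Y contain dense open subspaces U
and V, which may be taken to be schemes, such that f carries U into V and induces an isomorphism U ⟶
V. -/
theorem result {S : Scheme.{u}} {X Y : AlgSp.Space S} (f : X ⟶ Y)
    (hX : AlgSp.IsDecent X.obj) (hY : AlgSp.IsDecent Y.obj)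
    (hXf : (irreducibleComponents (AlgSp.Points X.obj)).Finite)
    (hYf : (irreducibleComponents (AlgSp.Points Y.obj)).Finite)
    (hf : W4stk3decentspacesp2.IsBirational f.hom)
    (h : (AlgSp.LocP @LocallyOfFiniteType f.hom ∧ AlgSp.EtaleLocally (fun T => IsReduced T) Y.obj) ∨
      AlgSp.LocP @LocallyOfFinitePresentation f.hom) :
    ∃ (U V : Over S) (a : (AlgSp.yon S).obj U ⟶ X.obj) (b : (AlgSp.yon S).obj V ⟶ Y.obj) (g : U ⟶ V),
      AlgSp.RepWith @IsOpenImmersion a ∧ AlgSp.RepWith @IsOpenImmersion b ∧
        Dense (Set.range (AlgSp.Points.ofPt a)) ∧ Dense (Set.range (AlgSp.Points.ofPt b)) ∧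
          a ≫ f.hom = (AlgSp.yon S).map g ≫ b ∧ IsIso g.left := by
  obtain ⟨R, V₀, a, b, g, ha, hb, hab, hgX, hgY, hRf, hVf, hbij, hiso⟩ := exists_scheme_model hX hY hXf hYf hf
  have hae : RepWith @Etale a := repWith_mono ha fun _ _ k (_ : IsOpenImmersion k) => inferInstance
  have hbe : RepWith @Etale b := repWith_mono hb fun _ _ k (_ : IsOpenImmersion k) => inferInstance
  haveI : Mono b := mono_of_openImmersion hb
  have hchart : ∀ {P : MorphismProperty Scheme.{u}}, EtLocal P → LocP P f.hom → P g.left := by
    intro P hP hf'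
    haveI := hP.respectsIso
    have h1 : LocP P ((yon S).map g ≫ b) := hab ▸ hP.locP_comp (IsAlgSpace.yon_obj R) X.property Y.property
      (hP.locP_of_repWith X.property (repWith_mono hae fun _ _ k (hk : Etale k) => hP.of_etale k hk)) hf'
    have h2 := hP.repWith_of_locP Y.property (representable_of_source_scheme Y.property _) h1
    refine h2.2 b (𝟙 _) g ?_
    refine IsPullback.of_isLimit' ⟨by simp⟩ (PullbackCone.IsLimit.mk _ (fun t => t.fst) (fun t => Category.comp_id _)
      (fun t => ?_) (fun t m h₁ _ => by simpa using h₁))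
    rw [← cancel_mono b, Category.assoc]
    exact t.condition
  have hfib : (LocallyOfFiniteType g.left ∧ IsReduced V₀.left) ∨ LocallyOfFinitePresentation g.left := by
    rcases h with ⟨h₁, h₂⟩ | h₁
    · refine .inl ⟨hchart EtLocal.lft h₁, etaleLocally_chart (Q := fun T => IsReduced T) (fun A B k hk hB => ?_)
        (fun A B k hk hs hA => ?_) h₂ b hbe⟩
      · haveI := hk
        exact isReduced_of_etale k inferInstance hB
      · haveI := hk; haveI := hs; haveI := hA
        exact isReduced_of_flat_surjective k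
    · exact .inr (hchart EtLocal.lfp h₁)
  obtain ⟨U, V, hUV, hUd, hVd, hi⟩ := Groth.Agent.S9678.result g.left hRf hVf hbij hiso hfib
  let U' : Over S := Over.mk (U.ι ≫ R.hom)
  let V' : Over S := Over.mk (V.ι ≫ V₀.hom)
  let g' : U' ⟶ V' := Over.homMk (g.left.resLE V U hUV) (by
    change g.left.resLE V U hUV ≫ V.ι ≫ V₀.hom = U.ι ≫ R.hom
    rw [Scheme.Hom.resLE_comp_ι_assoc, Over.w g])
  have key : ∀ {Z : Space S} {T : Over S} (c : (yon S).obj T ⟶ Z.obj) (W : T.left.Opens),
      IsDecent Z.obj → RepWith @Etale c → (irreducibleComponents ↥T.left).Finite → Dense (W : Set ↥T.left) →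
      genericPoints (Points Z.obj) ⊆ Set.range (Points.ofPt c) →
      Dense (Set.range (Points.ofPt ((yon S).map (Over.homMk W.ι rfl : Over.mk (W.ι ≫ T.hom) ⟶ T) ≫ c))) := by
    intro Z T c W hZ hc hT hW hg
    haveI := Groth.Agent.S10339.result Z hZ
    refine dense_of_genericPoints_subset fun z hz => ?_
    obtain ⟨t, rfl⟩ := hg hz
    exact ⟨⟨t, genericPoints_subset_of_dense hT W.isOpen hW ((genPt_iff_ofPt hZ hc t).2 hz)⟩, ofPt_map_comp _ _ _⟩
  refine ⟨U', V', (yon S).map (Over.homMk U.ι rfl : U' ⟶ R) ≫ a, (yon S).map (Over.homMk V.ι rfl : V' ⟶ V₀) ≫ b, g',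
    repWith_comp ((repWith_yon_map_iff _ _).2 (inferInstanceAs (IsOpenImmersion U.ι))) ha,
    repWith_comp ((repWith_yon_map_iff _ _).2 (inferInstanceAs (IsOpenImmersion V.ι))) hb,
    key a U hX hae hRf hUd hgX, key b V hY hbe hVf hVd hgY, ?_, hi⟩
  rw [Category.assoc, hab, ← Category.assoc, ← Category.assoc, ← Functor.map_comp, ← Functor.map_comp]
  congr 2
  exact Over.OverMorphism.ext (Scheme.Hom.resLE_comp_ι _ _).symm
end Groth.Agent.S10435
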