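import Groth.Statements.S10436
import Groth.Agent.S10435
import Groth.Agent.S10339
import Groth.Agent.Lib.AlgSp.BiratSp
import Groth.Agent.Lib.AlgSp.Diag
import Groth.Agent.Lib.AlgSp.ClosedSub
import Groth.Agent.Lib.AlgSp.UnivClosed
import Groth.Agent.Lib.AlgSp.PointsUniv
import Groth.Agent.Lib.GrpdQuot.InvariantOpen
-- import your own Groth.Agent.* helpers here

set_option autoImplicit false
universe u
open CategoryTheory CategoryTheory.Limits AlgebraicGeometry Topology TopologicalSpace
open AlgSp GrothLib.AlgSp
set_option backward.isDefEq.respectTransparency false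

namespace Groth.Agent.S10436

/-- Take decent algebraic spaces X and Y over a scheme S, each with only finitely many irreducible
components in its space of points, and a birational f : X ⟶ Y. Suppose f is quasi-compact or
separated, and in addition that f is locally of finite type with Y reduced, or locally of finite
presentation. Then Y contains a dense open subspace V, which may be taken to be a scheme, such that
f⁻¹(V) ⟶ V is an isomorphism. -/
theorem result {S : Scheme.{u}} {X Y : AlgSp.Space S} (f : X ⟶ Y)
    (hX : AlgSp.IsDecent X.obj) (hY : AlgSp.IsDecent Y.obj)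
    (hXf : (irreducibleComponents (AlgSp.Points X.obj)).Finite)
    (hYf : (irreducibleComponents (AlgSp.Points Y.obj)).Finite)
    (hf : W4stk3decentspacesp2.IsBirational f.hom) (h₁ : AlgSp.IsQuasiCompactMor f.hom ∨ AlgSp.IsSeparatedMor f.hom)
    (h₂ : (AlgSp.LocP @LocallyOfFiniteType f.hom ∧ AlgSp.EtaleLocally (fun T => IsReduced T) Y.obj) ∨
      AlgSp.LocP @LocallyOfFinitePresentation f.hom) :
    ∃ (V : Over S) (b : (AlgSp.yon S).obj V ⟶ Y.obj), AlgSp.RepWith @IsOpenImmersion b ∧
      Dense (Set.range (AlgSp.Points.ofPt b)) ∧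
        ∀ ⦃P : AlgSp.Sp S⦄ (fst : P ⟶ X.obj) (snd : P ⟶ (AlgSp.yon S).obj V),
          IsPullback fst snd f.hom b → IsIso snd := by
  haveI := Groth.Agent.S10339.result X hX
  haveI := t0Space_of_isDecent X.property hX
  haveI := t0Space_of_isDecent Y.property hY
  obtain ⟨U, V, a, b, g, ha, hb, haD, hbD, hab, hi⟩ := Groth.Agent.S10435.result f hX hY hXf hYf hf h₂
  have hgX := genericPoints_subset_of_dense hXf (by
    rw [show Set.range (Points.ofPt a) = Set.range (Points.map a) from by
      rw [show Points.ofPt a = Points.map a ∘ Points.schemeHomeo U from funext fun t => Points.ofPt_eq_map_ofScheme a t,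
        Set.range_comp, (Points.schemeHomeo U).surjective.range_eq, Set.image_univ]]
    exact isOpen_range_openImmersion ha) haD
  have hbe : RepWith @Etale b := repWith_mono hb fun _ _ k (_ : IsOpenImmersion k) => inferInstance
  have hgY := genericPoints_subset_of_dense hYf (by
    rw [← Set.image_univ]; exact (isOpenMap_ofPt_of_etale hbe) _ isOpen_univ) hbD
  haveI : Mono a := mono_of_openImmersion ha
  haveI : Mono b := mono_of_openImmersion hb
  haveI : IsIso g := by
    haveI : IsIso ((Over.forget S).map g) := hi
    exact isIso_of_reflects_iso _ (Over.forget S)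
  have sq := IsPullback.of_hasPullback f.hom b
  let l := sq.lift a ((yon S).map g) hab
  have hla : l ≫ pullback.fst f.hom b = a := sq.lift_fst _ _ _
  have hls : l ≫ pullback.snd f.hom b = (yon S).map g := sq.lift_snd _ _ _
  haveI : Mono l := by
    haveI : Mono (l ≫ pullback.fst f.hom b) := by rw [hla]; infer_instance
    exact mono_of_mono l (pullback.fst f.hom b)
  have hfo : RepWith @IsOpenImmersion (pullback.fst f.hom b) := repWith_of_isPullback sq.flip hb
  haveI : Mono (pullback.fst f.hom b) := mono_of_openImmersion hfo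
  have hrl : ∀ p, p ∈ Set.range (Points.map l) ↔ Points.map (pullback.fst f.hom b) p ∈ Set.range (Points.map a) := by
    intro p
    constructor
    · rintro ⟨w, rfl⟩
      exact ⟨w, by rw [← Points.map_comp, hla]⟩
    · rintro ⟨w, hw⟩
      exact ⟨w, injective_map_of_mono (pullback.fst f.hom b) (by rw [← Points.map_comp, hla, hw])⟩
  have hrlo : IsOpen (Set.range (Points.map l)) := by
    rw [show Set.range (Points.map l) = Points.map (pullback.fst f.hom b) ⁻¹' Set.range (Points.map a) from
      Set.ext hrl]
    exact (isOpen_range_openImmersion ha).preimage (Points.continuous_map _)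
  have hga : ∀ x ∈ genericPoints (Points X.obj), x ∈ Set.range (Points.map a) := fun x hx => by
    obtain ⟨u, hu⟩ := hgX hx
    exact ⟨Points.schemeHomeo U u, by rw [← hu, Points.ofPt_eq_map_ofScheme]; rfl⟩
  obtain ⟨O, hO, hsub⟩ : ∃ O : V.left.Opens, (∀ v, Points.ofPt b v ∈ genericPoints (Points Y.obj) → v ∈ O) ∧
      ∀ p, Points.map (pullback.snd f.hom b) p ∈ Points.schemeHomeo V '' (O : Set ↥V.left) →
        p ∈ Set.range (Points.map l) := by
    rcases h₁ with hqc | hsep
    · let Z : Set ↥V.left := Points.schemeHomeo V ⁻¹' (Points.map (pullback.snd f.hom b) '' (Set.range (Points.map l))ᶜ)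
      refine ⟨⟨(closure Z)ᶜ, isClosed_closure.isOpen_compl⟩, fun v hv hvZ => ?_, fun p hp => ?_⟩
      · obtain ⟨A, hA, hvA, -⟩ := exists_isAffineOpen_mem_and_subset (U := (⊤ : V.left.Opens)) (x := v) trivial
        let A' : Over S := Over.mk (A.ι ≫ V.hom)
        let j : A' ⟶ V := Over.homMk A.ι rfl
        haveI : IsAffine A'.left := hA
        have sqA := IsPullback.of_hasPullback (pullback.snd f.hom b) ((yon S).map j)
        have hPA : IsAlgSpace (pullback (pullback.snd f.hom b) ((yon S).map j)) :=
          isAlgSpace_pullback' (IsAlgSpace.yon_obj V) (isAlgSpace_pullback' Y.property X.property (IsAlgSpace.yon_obj V) f.hom b)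
            (IsAlgSpace.yon_obj A') _ _
        obtain ⟨W, c, hW, hce, hcs⟩ := exists_affine_surjective_chart hPA
          (hqc (IsAlgSpace.yon_obj (S := S) A') (isQuasiCompactSp_yon A') _ _ _ (sqA.paste_horiz sq))
        haveI := hW
        obtain ⟨k, hk⟩ := (yon S).map_surjective (c ≫ pullback.snd _ _)
        haveI : QuasiCompact k.left := inferInstance
        have hZW := ((isClosed_compl_iff.2 hrlo).preimage (Points.continuous_map (pullback.fst (pullback.snd f.hom b) ((yon S).map j)))).preimage (Points.continuous_ofPt c)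
        have hcl : (⟨v, hvA⟩ : A'.left) ∈ closure (k.left '' (Points.ofPt c ⁻¹'
            (Points.map (pullback.fst (pullback.snd f.hom b) ((yon S).map j)) ⁻¹' (Set.range (Points.map l))ᶜ))) := by
          refine closure_mono ?_ (show (⟨v, hvA⟩ : A'.left) ∈ closure (A.ι ⁻¹' Z) by
            rw [← A.ι.isOpenEmbedding.isOpenMap.preimage_closure_eq_closure_preimage A.ι.continuous Z]
            exact hvZ)
          rintro q ⟨p, hp, hpq⟩
          obtain ⟨p', hp', hq'⟩ := exists_of_isPullback sqA (x := p) (y := Points.schemeHomeo A' q) (by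
            rw [Points.map_yon_map_apply]; exact hpq)
          obtain ⟨w, rfl⟩ := surjective_ofPt_of_repWith hcs p'
          refine ⟨w, ?_, ?_⟩
          · rw [Set.mem_preimage, Set.mem_preimage, hp']; exact hp
          · apply (Points.schemeHomeo A').injective
            rw [← hq', ← Points.map_yon_map_apply, hk, Points.map_comp, Points.ofPt_eq_map_ofScheme]
            rfl
        obtain ⟨w, hw, hwv⟩ := GrothLib.GrpdQuot.exists_specializes_of_mem_closure k.left _ hZW _ hcl
        have hwv' : j.left (k.left w) = v := (ringKrullDim_zero_iff_isMax v).1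
          ((mem_genericPoints_iff hY hbe v).1 hv) _ (hwv.map j.left.continuous)
        refine hw ((hrl _).2 (hga _ (eq_of_map_mem_genericPoints hX hY hf ?_)))
        rw [← Points.map_comp, ← Points.map_comp, sq.w, ← Category.assoc, sqA.w, Points.map_ofPt]
        simp only [← Category.assoc, ← hk, ← Functor.map_comp]
        rw [ofPt_map_comp]
        change Points.ofPt b (j.left (k.left w)) ∈ _
        rwa [hwv']
      · obtain ⟨v, hv, hvp⟩ := hp
        by_contra hne
        exact hv (subset_closure ⟨p, hne, hvp.symm⟩)
    · refine ⟨⊤, fun _ _ => trivial, fun p _ => ?_⟩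
      have hs : RepWith @IsClosedImmersion l := by
        haveI : IsIso ((yon S).map g) := inferInstance
        refine repWith_of_comp_diagonal l (pullback.snd f.hom b) ?_ (by rw [hls]; exact repWith_iso _)
        exact repWith_of_isPullback (isPullback_diagonal_of_isPullback sq) hsep
      by_contra hne
      have hopen := (isClosedEmbedding_of_closedImmersion hs).isClosed_range.isOpen_compl
      have hop := isOpenMap_map_of_repWith (P := @IsOpenImmersion) (fun _ _ k (_ : IsOpenImmersion k) => k.isOpenEmbedding.isOpenMap) hfo _ hopen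
      obtain ⟨_, ⟨q, hq, rfl⟩, hx⟩ := (dense_of_genericPoints_subset (W := genericPoints (Points X.obj)) subset_rfl).inter_open_nonempty _
        hop ⟨_, p, hne, rfl⟩
      exact hq ((hrl q).2 (hga _ hx))
  let V' : Over S := Over.mk (O.ι ≫ V.hom)
  let j : V' ⟶ V := Over.homMk O.ι rfl
  refine ⟨V', (yon S).map j ≫ b, repWith_comp ((repWith_yon_map_iff _ _).2 (inferInstanceAs (IsOpenImmersion O.ι))) hb, ?_,
    fun P fst snd hP => ?_⟩
  · haveI := Groth.Agent.S10339.result Y hY
    refine dense_of_genericPoints_subset fun y hy => ?_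
    obtain ⟨v, rfl⟩ := hgY hy
    exact ⟨⟨v, hO v hy⟩, ofPt_map_comp _ _ _⟩
  · have hw₁ : fst ≫ f.hom = (snd ≫ (yon S).map j) ≫ b := by rw [hP.w, Category.assoc]
    let m := sq.lift fst (snd ≫ (yon S).map j) hw₁
    obtain ⟨e, he⟩ := (exists_factor_iff ha fst).2 (by
      rintro _ ⟨p, rfl⟩
      have hm : Points.map m p ∈ Set.range (Points.map l) := hsub _ (by
        obtain ⟨t, ht⟩ := (Points.schemeHomeo V').surjective (Points.map snd p)
        refine ⟨j.left t, t.2, ?_⟩
        rw [← Points.map_comp, sq.lift_snd, Points.map_comp, ← ht, Points.map_yon_map_apply])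
      have := (hrl _).1 hm
      rwa [← Points.map_comp, sq.lift_fst] at this)
    have hm' : e ≫ (yon S).map g = snd ≫ (yon S).map j := by
      rw [← cancel_mono b, Category.assoc, ← hab, reassoc_of% he, Category.assoc, hP.w]
    let σ : (yon S).obj V' ⟶ P := hP.lift ((yon S).map j ≫ inv ((yon S).map g) ≫ a) (𝟙 _) (by
      simp only [Category.assoc, hab, IsIso.inv_hom_id_assoc, Category.id_comp])
    refine ⟨σ, hP.hom_ext ?_ ?_, hP.lift_snd _ _ _⟩
    · rw [Category.assoc, hP.lift_fst, ← reassoc_of% hm', IsIso.hom_inv_id_assoc, he, Category.id_comp]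
    · rw [Category.assoc, hP.lift_snd, Category.comp_id, Category.id_comp]
end Groth.Agent.S10436
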