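import Groth.Statements.S10437
import Groth.Agent.Lib.AlgSp.BiratSp
import Groth.Agent.S10383
import Groth.Agent.S10339
import Groth.Agent.S10338
import Groth.Agent.Lib.AlgSp.Decent
import Groth.Agent.Lib.AlgSp.FinIrred
-- import your own Groth.Agent.* helpers here

set_option autoImplicit false
universe u
open CategoryTheory CategoryTheory.Limits AlgebraicGeometry Topology TopologicalSpace
open AlgSp GrothLib.AlgSp
set_option backward.isDefEq.respectTransparency false

namespace Groth.Agent.S10437

/-- Take decent algebraic spaces X and Y over a scheme S, each with only finitely many irreducible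
components in its space of points, a birational f : X ⟶ Y, and an etale morphism V ⟶ Y from an
affine scheme V. Then X ×_Y V is decent, the spaces of points of X ×_Y V and of V have only finitely
many irreducible components, and the projection X ×_Y V ⟶ V is birational. -/
theorem result {S : Scheme.{u}} {X Y : AlgSp.Space S} (f : X ⟶ Y)
    (hX : AlgSp.IsDecent X.obj) (hY : AlgSp.IsDecent Y.obj)
    (hXf : (irreducibleComponents (AlgSp.Points X.obj)).Finite)
    (hYf : (irreducibleComponents (AlgSp.Points Y.obj)).Finite)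
    (hf : W4stk3decentspacesp2.IsBirational f.hom) {V : Over S} [IsAffine V.left] (b : (AlgSp.yon S).obj V ⟶ Y.obj)
    (hb : AlgSp.RepWith @Etale b) {P : AlgSp.Sp S} (fst : P ⟶ X.obj) (snd : P ⟶ (AlgSp.yon S).obj V)
    (hP : IsPullback fst snd f.hom b) :
    AlgSp.IsDecent P ∧ (irreducibleComponents (AlgSp.Points P)).Finite ∧
      (irreducibleComponents (AlgSp.Points ((AlgSp.yon S).obj V))).Finite ∧ W4stk3decentspacesp2.IsBirational snd := by
  have hPA : IsAlgSpace P := isAlgSpace_pullback Y.property.diag X.property (IsAlgSpace.yon_obj V) hP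
  let P' : Space S := ⟨P, hPA⟩
  let V' : Space S := ⟨(yon S).obj V, IsAlgSpace.yon_obj V⟩
  have hVd : IsDecent V'.obj := isDecent_yon V
  have hPd : IsDecent P'.obj := Groth.Agent.S10383.result (P := P') f (ObjectProperty.homMk b : V' ⟶ Y)
    (ObjectProperty.homMk fst) (ObjectProperty.homMk snd) hP hX hVd
  have hfst : IsEtaleMor fst := isEtaleMor_of_locP X.property (EtLocal.etale.locP_of_repWith X.property
    (repWith_of_isPullback hP.flip hb))
  have hfin : ∀ (Z : Space S), IsDecent Z.obj → (irreducibleComponents (Points Z.obj)).Finite →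
      (genericPoints (Points Z.obj)).Finite := fun Z hZ h => by
    haveI := Groth.Agent.S10338.result Z hZ
    exact Set.Finite.of_finite_image (h.subset (Set.image_subset_iff.2 fun z hz => hz))
      fun a _ b _ e => (isGenericPoint_closure (x := a)).eq (e.symm ▸ isGenericPoint_closure (x := b) :)
  have hfin' : ∀ (Z : Space S), IsDecent Z.obj → (genericPoints (Points Z.obj)).Finite →
      (irreducibleComponents (Points Z.obj)).Finite := fun Z hZ h => by
    haveI := Groth.Agent.S10339.result Z hZ
    refine (h.image fun z => closure {z}).subset fun T hT => ?_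
    obtain ⟨g, hg⟩ := QuasiSober.sober hT.1 (isClosed_of_mem_irreducibleComponents _ hT)
    exact ⟨g, (by show closure {g} ∈ irreducibleComponents _; rw [hg.def]; exact hT), hg.def⟩
  have hgV : ∀ v : ↥V.left, Points.schemeHomeo V v ∈ genericPoints (Points V'.obj) ↔
      Points.ofPt b v ∈ genericPoints (Points Y.obj) := by
    intro v
    rw [mem_genericPoints_iff hY hb v, ← mem_genericPoints_iff (X := V') hVd
      (a := 𝟙 _) (repWith_id _ V) v, Points.ofPt_eq_map_ofScheme, Points.map_id]
    rfl
  have hgP : ∀ p : Points P, p ∈ genericPoints (Points P'.obj) ↔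
      Points.map fst p ∈ genericPoints (Points X.obj) := by
    intro p
    have := isGenericPoint_component_iff_of_isEtaleMor X.property hX hPA hPd hfst p
    constructor
    · intro h
      obtain ⟨T, hT, hg⟩ := this.1 ⟨_, h, isGenericPoint_closure⟩
      show closure {Points.map fst p} ∈ irreducibleComponents _
      rw [hg.def]; exact hT
    · intro h
      obtain ⟨T, hT, hg⟩ := this.2 ⟨_, h, isGenericPoint_closure⟩
      show closure {p} ∈ irreducibleComponents _
      rw [hg.def]; exact hT
  have hmaps : Set.MapsTo (Points.map snd) (genericPoints (Points P'.obj)) (genericPoints (Points V'.obj)) := by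
    intro p hp
    obtain ⟨v, hv⟩ := (Points.schemeHomeo V).surjective (Points.map snd p)
    rw [← hv, hgV, Points.ofPt_eq_map_ofScheme, show Points.ofScheme V v = Points.map snd p from hv, ← Points.map_comp, ← hP.w, Points.map_comp]
    exact hf.bijOn.mapsTo ((hgP p).1 hp)
  -- the part over the spectrum of a local ring
  have hloc : ∀ v : ↥V.left, Points.ofPt b v ∈ genericPoints (Points Y.obj) →
      IsIso (pullback.snd snd ((yon S).map (Over.homMk (V.left.fromSpecStalk v) rfl :
        Over.mk (V.left.fromSpecStalk v ≫ V.hom) ⟶ V))) := fun v hv =>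
    isIso_baseChange_fromSpecStalk hX hY hf b hb v hv _ _ ((IsPullback.of_hasPullback _ _).paste_horiz hP)
  have hinj : ∀ v : ↥V.left, Points.ofPt b v ∈ genericPoints (Points Y.obj) → ∀ p p' : Points P,
      Points.map snd p = Points.schemeHomeo V v → Points.map snd p' = Points.schemeHomeo V v → p = p' := by
    intro v hv p p' h h'
    haveI := hloc v hv
    let c : Over.mk (V.left.fromSpecStalk v ≫ V.hom) ⟶ V := Over.homMk (V.left.fromSpecStalk v) rfl
    have sq := IsPullback.of_hasPullback snd ((yon S).map c)
    let t := Points.schemeHomeo (Over.mk (V.left.fromSpecStalk v ≫ V.hom)) (IsLocalRing.closedPoint (V.left.presheaf.stalk v))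
    have ht : Points.map ((yon S).map c) t = Points.schemeHomeo V v := by
      rw [Points.map_yon_map_apply]
      exact congrArg _ Scheme.fromSpecStalk_closedPoint
    obtain ⟨z, hz, hzt⟩ := exists_of_isPullback sq (h.trans ht.symm)
    obtain ⟨z', hz', hzt'⟩ := exists_of_isPullback sq (h'.trans ht.symm)
    rw [← hz, ← hz', (map_bijective_of_iso (asIso (pullback.snd snd ((yon S).map c)))).1 (hzt.trans hzt'.symm)]
  have hinjOn : Set.InjOn (Points.map snd) (genericPoints (Points P'.obj)) := by
    intro p hp p' _ e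
    obtain ⟨v, hv⟩ := (Points.schemeHomeo V).surjective (Points.map snd p)
    exact hinj v ((hgV v).1 (hv ▸ hmaps hp)) p p' hv.symm (e.symm.trans hv.symm)
  have hVgen : (genericPoints (Points V'.obj)).Finite := by
    refine (((hfin Y hY hYf).biUnion (t := fun y => Points.ofPt b ⁻¹' {y}) fun y _ =>
      finiteFibres_of_isDecent Y.property hY y V b inferInstance hb).image (Points.schemeHomeo V)).subset fun z hz => ?_
    obtain ⟨v, rfl⟩ := (Points.schemeHomeo V).surjective z
    exact ⟨v, Set.mem_biUnion ((hgV v).1 hz) rfl, rfl⟩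
  refine ⟨hPd, hfin' P' hPd (Set.Finite.of_finite_image (hVgen.subset hmaps.image_subset) hinjOn),
    hfin' V' hVd hVgen, ⟨⟨hmaps, hinjOn, fun z hz => ?_⟩, fun p hp => ?_⟩⟩
  · obtain ⟨v, rfl⟩ := (Points.schemeHomeo V).surjective z
    obtain ⟨x, hx, hxy⟩ := hf.bijOn.surjOn ((hgV v).1 hz)
    obtain ⟨p, hp, hp'⟩ := exists_of_isPullback hP (x := x) (y := Points.schemeHomeo V v) (by
      rw [hxy, Points.ofPt_eq_map_ofScheme]; rfl)
    exact ⟨p, (hgP p).2 (hp ▸ hx), hp'⟩
  obtain ⟨v, hv⟩ := (Points.schemeHomeo V).surjective (Points.map snd p)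
  have hvY := (hgV v).1 (hv ▸ hmaps hp)
  obtain ⟨U₀, V₀, a, b₀, g₀, u, ha, hb₀, hab, hau, hiso⟩ := hf.stalkIso _ ((hgP p).1 hp)
  obtain ⟨R, q₁, g, sqR⟩ := exists_isPullback_yon Y.property.diag (a ≫ f.hom) b
  let l := hP.lift ((yon S).map q₁ ≫ a) ((yon S).map g) (by rw [Category.assoc]; exact sqR.w)
  have sqA : IsPullback ((yon S).map q₁) l a fst := by
    refine IsPullback.of_bot ?_ (hP.lift_fst _ _ _).symm hP
    rw [hP.lift_snd]
    exact sqR
  have hl : RepWith @IsOpenImmersion l := repWith_of_isPullback sqA ha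
  haveI : Mono l := mono_of_openImmersion hl
  obtain ⟨z, -, hz⟩ := exists_of_isPullback sqA (x := Points.schemeHomeo U₀ u) (y := p) (by
    rw [← hau, Points.ofPt_eq_map_ofScheme]; rfl)
  obtain ⟨r, rfl⟩ := (Points.schemeHomeo R).surjective z
  refine ⟨R, V, l, 𝟙 _, g, r, hl, repWith_id _ V, by rw [Category.comp_id, hP.lift_snd], by
    rw [Points.ofPt_eq_map_ofScheme]; exact hz, ?_⟩
  have hrv : g.left r = v := by
    apply (Points.schemeHomeo V).injective
    rw [hv, ← hz, ← Points.map_comp, hP.lift_snd, Points.map_yon_map_apply]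
  haveI := hloc v hvY
  let Q₁ : Over S := Over.mk (V.left.fromSpecStalk v ≫ V.hom)
  let c : Q₁ ⟶ V := Over.homMk (V.left.fromSpecStalk v) rfl
  have sq := IsPullback.of_hasPullback snd ((yon S).map c)
  let s := inv (pullback.snd snd ((yon S).map c)) ≫ pullback.fst snd ((yon S).map c)
  have sqs : IsPullback s (𝟙 _) snd ((yon S).map c) :=
    sq.of_iso (asIso (pullback.snd snd ((yon S).map c))) (Iso.refl _) (Iso.refl _) (Iso.refl _)
      (by simp [s]) (by simp) (by simp) (by simp)
  have hdim := (ringKrullDim_zero_iff_isMax v).1 ((mem_genericPoints_iff hY hb v).1 hvY)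
  have hsp : ∀ w, Points.map s w = p := by
    intro w
    refine hinj v hvY _ p ?_ hv.symm
    obtain ⟨q, rfl⟩ := (Points.schemeHomeo Q₁).surjective w
    rw [← Points.map_comp, sqs.w, Category.id_comp, Points.map_yon_map_apply]
    refine congrArg _ (hdim _ ?_)
    have : V.left.fromSpecStalk v q ∈ Set.range (V.left.fromSpecStalk v) := ⟨q, rfl⟩
    rwa [Scheme.range_fromSpecStalk] at this
  obtain ⟨σ', hσ'⟩ := (exists_factor_iff hl s).2 (by
    rintro _ ⟨w, rfl⟩
    exact ⟨_, hz.trans (hsp w).symm⟩)
  obtain ⟨σ, rfl⟩ := (yon S).map_surjective σ'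
  have sqσ : IsPullback σ (𝟙 _) g c := by
    refine IsPullback.of_map (yon S) ((yon S).map_injective ?_) ?_
    · rw [Functor.map_comp, Functor.map_comp, ← show l ≫ snd = (yon S).map g from hP.lift_snd _ _ _,
        reassoc_of% hσ', sqs.w, CategoryTheory.Functor.map_id]
    · rw [CategoryTheory.Functor.map_id]
      refine IsPullback.of_isLimit' ⟨by rw [← show l ≫ snd = (yon S).map g from hP.lift_snd _ _ _,
        reassoc_of% hσ', sqs.w]⟩ (PullbackCone.IsLimit.mk _ (fun t => t.snd) (fun t => ?_)
        (fun t => Category.comp_id _) (fun t m _ h₂ => by simpa using h₂))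
      rw [← cancel_mono l, Category.assoc, hσ']
      have h₁ : (t.fst ≫ l) ≫ snd = t.snd ≫ (yon S).map c := by
        rw [Category.assoc, hP.lift_snd]; exact t.condition
      rw [← sqs.lift_fst (t.fst ≫ l) t.snd h₁]
      congr 1
      simpa using (sqs.lift_snd (t.fst ≫ l) t.snd h₁).symm
  refine isIso_stalkMap_of_section g.left σ.left (sqσ.map (Over.forget S)) ?_
  apply (Points.schemeHomeo R).injective
  refine injective_map_of_mono l ?_
  erw [← Points.map_yon_map_apply]
  rw [← Points.map_comp, hσ', hsp, hz]
end Groth.Agent.S10437
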