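import Groth.Statements.S10438
import Groth.Agent.S10437
import Groth.Agent.Lib.AlgSp.BiratSp
import Groth.Agent.Lib.AlgSp.AffineMor
import Groth.Agent.Lib.AlgSp.ImmersionDescent
import Groth.Agent.Lib.AlgSp.EtaleLocallyProps
import Groth.Agent.Lib.AlgSp.FibreReduced
import Groth.Agent.Lib.AlgSp.LocP
import Groth.Agent.Lib.AlgSp.GlobalFunctions
import Groth.Agent.Lib.AlgSp.NormBasic
-- import your own Groth.Agent.* helpers here

set_option autoImplicit false
universe u
open CategoryTheory CategoryTheory.Limits AlgebraicGeometry Topology TopologicalSpace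
open AlgSp GrothLib.AlgSp
set_option backward.isDefEq.respectTransparency false

namespace Groth.Agent.S10438

/-- Integral, reduced source, normal target, isomorphic at the minimal primes: an isomorphism. -/
theorem bijective_of_normal {A B : Type u} [CommRing A] [CommRing B] [_root_.IsReduced B] (f : A →+* B) (hint : f.IsIntegral)
    (hfinB : (minimalPrimes B).Finite)
    (hn : ∀ (p : Ideal A) [p.IsPrime], IsDomain (Localization.AtPrime p) ∧ IsIntegrallyClosed (Localization.AtPrime p))
    (hmaps : ∀ q ∈ minimalPrimes B, q.comap f ∈ minimalPrimes A)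
    (hinj : ∀ q ∈ minimalPrimes B, ∀ q' ∈ minimalPrimes B, q.comap f = q'.comap f → q = q')
    (hsurj : ∀ p ∈ minimalPrimes A, ∃ q ∈ minimalPrimes B, q.comap f = p)
    (hres : ∀ q ∈ minimalPrimes B, ∀ b : B, ∃ a s : A, s ∉ q.comap f ∧ f s * b - f a ∈ q) :
    Function.Bijective f := by
  classical
  -- a minimal prime below a prime is killed in the local ring
  have hker : ∀ (m : Ideal A) [m.IsPrime], ∀ p ∈ minimalPrimes A, p ≤ m → ∀ x ∈ p,
      algebraMap A (Localization.AtPrime m) x = 0 := by
    intro m _ p hp hle x hx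
    haveI := (hn m).1
    let P := RingHom.ker (algebraMap A (Localization.AtPrime m))
    haveI : P.IsPrime := RingHom.ker_isPrime _
    have hPm : P ≤ m := fun z hz => by
      by_contra hzm
      exact not_isUnit_zero (hz ▸ IsLocalization.map_units (Localization.AtPrime m) (⟨z, hzm⟩ : m.primeCompl))
    have hPp : P ≤ p := fun z hz => by
      obtain ⟨⟨t, ht⟩, e⟩ := (IsLocalization.map_eq_zero_iff m.primeCompl (Localization.AtPrime m) z).1 hz
      exact (hp.1.1.mem_or_mem (show t * z ∈ p by rw [show t * z = 0 from e]; exact p.zero_mem)).resolve_left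
        fun h => ht (hle h)
    exact (hp.2 ⟨inferInstance, bot_le⟩ hPp) hx
  have hinjf : Function.Injective f := by
    rw [injective_iff_map_eq_zero]
    intro a ha
    have hnil : IsNilpotent a := by
      rw [← mem_nilradical, nilradical_eq_sInf, Ideal.mem_sInf]
      intro P (hP : P.IsPrime)
      haveI := hP
      obtain ⟨p, hp, hpP⟩ := Ideal.exists_minimalPrimes_le (I := (⊥ : Ideal A)) (J := P) bot_le
      obtain ⟨q, hq, rfl⟩ := hsurj p hp
      exact hpP (show f a ∈ q by rw [ha]; exact q.zero_mem)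
    haveI : _root_.IsReduced A := isReduced_ofLocalizationMaximal A fun m _ => by
      haveI := (hn m).1; infer_instance
    exact hnil.eq_zero
  refine ⟨hinjf, fun b => ?_⟩
  let I : Ideal A :=
    { carrier := {s | f s * b ∈ f.range}
      add_mem' := fun {x y} hx hy => by
        show f (x + y) * b ∈ f.range
        rw [map_add, add_mul]; exact add_mem hx hy
      zero_mem' := by show f 0 * b ∈ f.range; simp
      smul_mem' := fun c x hx => by
        show f (c * x) * b ∈ f.range
        rw [map_mul, mul_assoc]; exact mul_mem ⟨c, rfl⟩ hx }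
  suffices htop : I = ⊤ by
    have : f 1 * b ∈ f.range := show (1 : A) ∈ I from htop ▸ Submodule.mem_top
    rw [map_one, one_mul] at this
    exact this
  by_contra hne
  obtain ⟨m, hm, hIm⟩ := Ideal.exists_le_maximal I hne
  haveI := hm
  haveI := (hn m).1
  haveI := (hn m).2
  obtain ⟨p, hp, hpm⟩ := Ideal.exists_minimalPrimes_le (I := (⊥ : Ideal A)) (J := m) bot_le
  obtain ⟨q, hq, hqp⟩ := hsurj p hp
  haveI : q.IsPrime := hq.1.1
  obtain ⟨a, s, hs, hmem⟩ := hres q hq b
  let L := Localization.AtPrime m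
  let K := FractionRing L
  let π := Ideal.Quotient.mk q
  let ι : A →+* FractionRing (B ⧸ q) := (algebraMap (B ⧸ q) _).comp (π.comp f)
  have hιu : ∀ t : m.primeCompl, IsUnit (ι t) := fun t => by
    refine IsUnit.mk0 _ fun h0 => t.2 (hpm ?_)
    rw [← hqp, Ideal.mem_comap, ← Ideal.Quotient.eq_zero_iff_mem]
    exact IsFractionRing.injective (B ⧸ q) (FractionRing (B ⧸ q)) (by simpa [ι, π] using h0)
  let φ : L →+* FractionRing (B ⧸ q) := IsLocalization.lift hιu
  have hφ : Function.Injective φ := by
    rw [injective_iff_map_eq_zero]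
    intro z hz
    obtain ⟨⟨x, t⟩, rfl⟩ := IsLocalization.mk'_surjective m.primeCompl z
    rw [IsLocalization.lift_mk'_spec, mul_zero] at hz
    have hx : x ∈ p := by
      rw [← hqp, Ideal.mem_comap, ← Ideal.Quotient.eq_zero_iff_mem]
      exact IsFractionRing.injective (B ⧸ q) (FractionRing (B ⧸ q)) (by simpa [ι, π] using hz)
    rw [IsLocalization.mk'_eq_zero_iff]
    exact (IsLocalization.map_eq_zero_iff m.primeCompl L x).1 (hker m p hp hpm x hx)
  let ψ : K →+* FractionRing (B ⧸ q) := IsFractionRing.lift hφ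
  have hψ : ∀ x, ψ (algebraMap L K (algebraMap A L x)) = algebraMap (B ⧸ q) _ (π (f x)) := fun x => by
    rw [IsFractionRing.lift_algebraMap]
    exact IsLocalization.lift_eq hιu x
  have hs0 : algebraMap L K (algebraMap A L s) ≠ 0 := fun h0 => hs (by
    have := hψ s
    rw [h0, map_zero] at this
    rw [Ideal.mem_comap, ← Ideal.Quotient.eq_zero_iff_mem]
    exact IsFractionRing.injective (B ⧸ q) (FractionRing (B ⧸ q)) (this.symm.trans (map_zero _).symm))
  let x : K := algebraMap L K (algebraMap A L a) / algebraMap L K (algebraMap A L s)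
  have hx : ψ x = algebraMap (B ⧸ q) _ (π b) := by
    rw [map_div₀, hψ, hψ, div_eq_iff, ← map_mul, ← map_mul, mul_comm b, eq_comm]
    · exact congrArg _ (Ideal.Quotient.eq.2 hmem)
    · intro h0
      exact hs0 (ψ.injective (by rw [hψ, map_zero]; exact h0))
  have hxint : IsIntegral L x := by
    obtain ⟨P, hPm, hP⟩ := hint b
    refine ⟨P.map (algebraMap A L), hPm.map _, ψ.injective ?_⟩
    rw [map_zero, Polynomial.eval₂_map, Polynomial.hom_eval₂, hx]
    have e : (ψ.comp ((algebraMap L K).comp (algebraMap A L))) = ι := RingHom.ext fun z => hψ z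
    rw [e]
    simp only [ι]
    rw [← Polynomial.hom_eval₂, ← Polynomial.hom_eval₂, hP, map_zero, map_zero]
  obtain ⟨y, hy⟩ := IsIntegrallyClosed.isIntegral_iff.1 hxint
  obtain ⟨⟨a₀, t⟩, rfl⟩ := IsLocalization.mk'_surjective m.primeCompl y
  have hq' : f t * b - f a₀ ∈ q := by
    rw [← Ideal.Quotient.eq, map_mul]
    apply IsFractionRing.injective (B ⧸ q) (FractionRing (B ⧸ q))
    rw [map_mul, ← hx, ← hy, ← hψ, ← map_mul, ← map_mul, IsLocalization.mk'_spec', hψ]
  -- avoid the other minimal primes
  let others := hfinB.toFinset.erase q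
  have hc : ¬ others.inf (fun q' => q'.comap f) ≤ m := fun hle => by
    obtain ⟨q', hq', hq'm⟩ := (Ideal.IsPrime.inf_le' (hm.isPrime)).1 hle
    rw [Finset.mem_erase, Set.Finite.mem_toFinset] at hq'
    refine hq'.1 (hinj q' hq'.2 q hq ?_)
    rw [hqp]
    refine le_antisymm (fun z hz => ?_) (fun z hz => ?_)
    · obtain ⟨⟨t', ht'⟩, e⟩ := (IsLocalization.map_eq_zero_iff m.primeCompl L z).1
        (hker m _ (hmaps q' hq'.2) hq'm z hz)
      exact (hp.1.1.mem_or_mem (show t' * z ∈ p by rw [show t' * z = 0 from e]; exact p.zero_mem)).resolve_left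
        fun h => ht' (hpm h)
    · obtain ⟨⟨t', ht'⟩, e⟩ := (IsLocalization.map_eq_zero_iff m.primeCompl L z).1 (hker m p hp hpm z hz)
      exact ((hmaps q' hq'.2).1.1.mem_or_mem (show t' * z ∈ q'.comap f by
        rw [show t' * z = 0 from e]; exact Ideal.zero_mem _)).resolve_left fun h => ht' (hq'm h)
  obtain ⟨c, hc, hcm⟩ := SetLike.not_le_iff_exists.1 hc
  have hzero : f c * (f t * b - f a₀) = 0 := by
    refine IsNilpotent.eq_zero ?_
    rw [← mem_nilradical, nilradical_eq_sInf, Ideal.mem_sInf]
    intro Q (hQ : Q.IsPrime)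
    haveI := hQ
    obtain ⟨q', hq', hq'Q⟩ := Ideal.exists_minimalPrimes_le (I := (⊥ : Ideal B)) (J := Q) bot_le
    refine hq'Q ?_
    by_cases e : q' = q
    · subst e; exact Ideal.mul_mem_left _ _ hq'
    · have hle : others.inf (fun q' => q'.comap f) ≤ q'.comap f :=
        Finset.inf_le (f := fun q' : Ideal B => q'.comap f) (by simp [others, e, hq'])
      exact Ideal.mul_mem_right _ _ (show f c ∈ q' from hle hc)
  have : c * (t : A) ∈ I := ⟨c * a₀, by rw [map_mul, map_mul]; linear_combination -hzero⟩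
  exact (hm.isPrime.mem_or_mem (hIm this)).elim hcm t.2

theorem mem_genericPoints_spec_iff {R : CommRingCat.{u}} (x : PrimeSpectrum R) :
    x ∈ genericPoints (PrimeSpectrum R) ↔ x.asIdeal ∈ minimalPrimes R := by
  constructor
  · intro h
    obtain ⟨p, hp, hpx⟩ := Ideal.exists_minimalPrimes_le (I := (⊥ : Ideal R)) (J := x.asIdeal) bot_le
    have hs : (⟨p, hp.1.1⟩ : PrimeSpectrum R) ⤳ x := (PrimeSpectrum.le_iff_specializes _ _).1 hpx
    have := (hs.antisymm (specializes_iff_closure_subset.2
      (h.2 isIrreducible_singleton.closure (specializes_iff_closure_subset.1 hs)))).eq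
    rwa [← this]
  · intro h
    have hmin : ∀ y, y ⤳ x → y = x := fun y hy => PrimeSpectrum.ext
      (le_antisymm ((PrimeSpectrum.le_iff_specializes _ _).2 hy)
        (h.2 ⟨y.2, bot_le⟩ ((PrimeSpectrum.le_iff_specializes _ _).2 hy)))
    have hT := irreducibleComponent_mem_irreducibleComponents x
    obtain ⟨η, hη⟩ := QuasiSober.sober hT.1 isClosed_irreducibleComponent
    show closure {x} ∈ irreducibleComponents _
    rw [← hmin η (hη.specializes mem_irreducibleComponent), hη.def]
    exact hT

theorem isIso_spec_of_birational {A B : CommRingCat.{u}} (φ : A ⟶ B) [AlgebraicGeometry.IsReduced (Spec B)]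
    [IsIntegralHom (Spec.map φ)] (hfin : (irreducibleComponents ↥(Spec B)).Finite)
    (hn : ∀ t : ↥(Spec A), IsDomain ((Spec A).presheaf.stalk t) ∧ IsIntegrallyClosed ((Spec A).presheaf.stalk t))
    (hbij : Set.BijOn (Spec.map φ) (genericPoints ↥(Spec B)) (genericPoints ↥(Spec A)))
    (hstalk : ∀ w ∈ genericPoints ↥(Spec B), IsIso ((Spec.map φ).stalkMap w)) : IsIso (Spec.map φ) := by
  haveI : _root_.IsReduced B := (affine_isReduced_iff B).1 inferInstance
  have hint : φ.hom.IsIntegral := IsIntegralHom.SpecMap_iff.1 inferInstance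
  have hφ : Function.Bijective φ.hom := by
    refine bijective_of_normal φ.hom hint ?_ (fun p hp => ?_) (fun q hq => ?_) (fun q hq q' hq' e => ?_)
      (fun p hp => ?_) (fun q hq b => ?_)
    · exact (minimalPrimes.equivIrreducibleComponents B).finite_iff.2 hfin.to_subtype |> fun h => Set.finite_coe_iff.1 h
    · obtain ⟨h1, h2⟩ := hn ⟨p, hp⟩
      let e := (StructureSheaf.stalkIso A ⟨p, hp⟩).toRingEquiv
      exact ⟨e.toMulEquiv.isDomain_iff.2 h1, @IsIntegrallyClosed.of_equiv _ _ _ _ e.symm h2⟩
    · exact (mem_genericPoints_spec_iff _).1 (hbij.mapsTo ((mem_genericPoints_spec_iff ⟨q, hq.1.1⟩).2 hq))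
    · exact congrArg PrimeSpectrum.asIdeal (hbij.injOn ((mem_genericPoints_spec_iff ⟨q, hq.1.1⟩).2 hq)
        ((mem_genericPoints_spec_iff ⟨q', hq'.1.1⟩).2 hq') (PrimeSpectrum.ext e))
    · obtain ⟨w, hw, hwp⟩ := hbij.surjOn ((mem_genericPoints_spec_iff ⟨p, hp.1.1⟩).2 hp)
      exact ⟨w.asIdeal, (mem_genericPoints_spec_iff w).1 hw, congrArg PrimeSpectrum.asIdeal hwp⟩
    · haveI := hq.1.1
      have hi := hstalk ⟨q, hq.1.1⟩ ((mem_genericPoints_spec_iff ⟨q, hq.1.1⟩).2 hq)
      have hb : Function.Bijective (Localization.localRingHom (q.comap φ.hom) q φ.hom rfl) := by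
        haveI : IsIso (CommRingCat.ofHom (Localization.localRingHom (q.comap φ.hom) q φ.hom rfl)) := ((MorphismProperty.isomorphisms CommRingCat.{u}).arrow_mk_iso_iff
          (Scheme.arrowStalkMapSpecIso φ ⟨q, hq.1.1⟩)).1 hi
        exact ConcreteCategory.bijective_of_isIso (CommRingCat.ofHom (Localization.localRingHom (q.comap φ.hom) q φ.hom rfl))
      obtain ⟨z, hz⟩ := hb.2 (algebraMap B _ b)
      obtain ⟨⟨a, s⟩, rfl⟩ := IsLocalization.mk'_surjective (q.comap φ.hom).primeCompl z
      rw [Localization.localRingHom_mk', IsLocalization.mk'_eq_iff_eq_mul, ← map_mul] at hz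
      obtain ⟨⟨c, hc⟩, e⟩ := (IsLocalization.eq_iff_exists q.primeCompl _).1 hz
      refine ⟨a, s, s.2, ?_⟩
      have h0 : c * (φ.hom s * b - φ.hom a) = 0 := by linear_combination -e
      exact (hq.1.1.mem_or_mem (show c * (φ.hom s * b - φ.hom a) ∈ q by rw [h0]; exact q.zero_mem)).resolve_left hc
  haveI : IsIso φ := (ConcreteCategory.isIso_iff_bijective φ).2 hφ
  infer_instance

theorem etaleLocally_normal_chart {S : Scheme.{u}} {X : Space S}
    (h : EtaleLocally (fun T => ∀ t : ↥T, IsDomain ↥(T.presheaf.stalk t) ∧ IsIntegrallyClosed ↥(T.presheaf.stalk t)) X.obj)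
    {U : Over S} (a : (yon S).obj U ⟶ X.obj) (ha : RepWith @Etale a) :
    ∀ t : ↥U.left, IsDomain ↥(U.left.presheaf.stalk t) ∧ IsIntegrallyClosed ↥(U.left.presheaf.stalk t) :=
  fun t => normal_of_chart h (EtOver.mk a ha) t

/-- Take decent algebraic spaces X and Y over a scheme S, each with only finitely many irreducible
components in its space of points, and f : X ⟶ Y integral as well as birational. If Y is normal
while X is reduced, f is an isomorphism. -/
theorem result {S : Scheme.{u}} {X Y : AlgSp.Space S} (f : X ⟶ Y)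
    (hX : AlgSp.IsDecent X.obj) (hY : AlgSp.IsDecent Y.obj)
    (hXf : (irreducibleComponents (AlgSp.Points X.obj)).Finite)
    (hYf : (irreducibleComponents (AlgSp.Points Y.obj)).Finite)
    (hi : AlgSp.IsIntegralMor f.hom) (hf : W4stk3decentspacesp2.IsBirational f.hom)
    (hYn : AlgSp.EtaleLocally (fun T => ∀ t : ↥T, IsDomain ↥(T.presheaf.stalk t) ∧
      IsIntegrallyClosed ↥(T.presheaf.stalk t)) Y.obj)
    (hXr : AlgSp.EtaleLocally (fun T => IsReduced T) X.obj) : IsIso f.hom := by
  have hrep := isIntegralMor_iff.1 hi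
  obtain ⟨A₀, a, hae, has⟩ := Y.property.atlas
  obtain ⟨W₀, p, g, sq⟩ := exists_isPullback_of_representable hrep.1 a
  haveI : IsIso g.left := by
    haveI : IsIntegralHom g.left := hrep.2 _ _ _ sq
    refine (IsZariskiLocalAtTarget.iff_of_iSup_eq_top (P := MorphismProperty.isomorphisms Scheme.{u})
      _ (iSup_affineOpens_eq_top A₀.left)).2 fun O => ?_
    haveI : IsAffine (O.1 : Scheme.{u}) := O.2
    let Aring : CommRingCat.{u} := Γ(O.1, ⊤)
    let κ : Spec Aring ⟶ A₀.left := O.1.toScheme.isoSpec.inv ≫ O.1.ι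
    let V : Over S := Over.mk (κ ≫ A₀.hom)
    let j : V ⟶ A₀ := Over.homMk κ rfl
    let b := (yon S).map j ≫ a
    have hb : RepWith @Etale b := repWith_comp
      ((repWith_yon_map_iff _ _).2 (inferInstanceAs (Etale κ))) hae
    obtain ⟨W₁, q₁, h₁, sq₁⟩ := exists_isPullback_of_representable hrep.1 b
    haveI : IsIntegralHom h₁.left := hrep.2 _ _ _ sq₁
    haveI : IsAffine V.left := inferInstanceAs (IsAffine (Spec Aring))
    haveI : IsAffine W₁.left := isAffine_of_isAffineHom h₁.left
    let Bring : CommRingCat.{u} := Γ(W₁.left, ⊤)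
    let W : Over S := Over.mk (W₁.left.isoSpec.inv ≫ W₁.hom)
    let ew : W ≅ W₁ := Over.isoMk W₁.left.isoSpec.symm rfl
    let q := (yon S).map ew.hom ≫ q₁
    let h : W ⟶ V := ew.hom ≫ h₁
    have sqh : IsPullback q ((yon S).map h) f.hom b :=
      sq₁.of_iso ((yon S).mapIso ew).symm (Iso.refl _) (Iso.refl _) (Iso.refl _) (by simp [q]) (by simp [h]) (by simp) (by simp)
    obtain ⟨hWd, hWf, hVf, hbir⟩ := Groth.Agent.S10437.result f hX hY hXf hYf hf b hb q ((yon S).map h) sqh
    haveI : IsIntegralHom h.left := inferInstanceAs (IsIntegralHom (ew.hom.left ≫ h₁.left))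
    have hqe : RepWith @Etale q := repWith_of_isPullback sqh.flip hb
    have hWr : IsReduced W.left := etaleLocally_chart (Q := fun T => IsReduced T) (fun A B k hk hB => by
        haveI := hk; exact isReduced_of_etale k inferInstance hB)
      (fun A B k hk hs hA => by haveI := hk; haveI := hs; haveI := hA; exact isReduced_of_flat_surjective k) hXr q hqe
    have hVn : ∀ t : ↥V.left, IsDomain ↥(V.left.presheaf.stalk t) ∧ IsIntegrallyClosed ↥(V.left.presheaf.stalk t) :=
      etaleLocally_normal_chart hYn b hb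
    obtain ⟨φ, hφ⟩ : ∃ φ : Aring ⟶ Bring, Spec.map φ = h.left := ⟨Spec.preimage h.left, Spec.map_preimage _⟩
    have hgW : ∀ w : ↥W.left, Points.schemeHomeo W w ∈ genericPoints (Points ((yon S).obj W)) ↔
        w ∈ genericPoints ↥W.left := fun w => by
      rw [genPt_iff_ofPt (X := ⟨_, IsAlgSpace.yon_obj W⟩) (isDecent_yon W) (a := 𝟙 _) (repWith_id _ W) w,
        Points.ofPt_eq_map_ofScheme, Points.map_id]
      rfl
    have hgV : ∀ v : ↥V.left, Points.schemeHomeo V v ∈ genericPoints (Points ((yon S).obj V)) ↔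
        v ∈ genericPoints ↥V.left := fun v => by
      rw [genPt_iff_ofPt (X := ⟨_, IsAlgSpace.yon_obj V⟩) (isDecent_yon V) (a := 𝟙 _) (repWith_id _ V) v,
        Points.ofPt_eq_map_ofScheme, Points.map_id]
      rfl
    have hbij : Set.BijOn h.left (genericPoints ↥W.left) (genericPoints ↥V.left) := by
      refine ⟨fun w hw => ?_, fun w hw w' hw' e => ?_, fun v hv => ?_⟩
      · rw [← hgV, ← Points.map_yon_map_apply]
        exact hbir.bijOn.mapsTo ((hgW w).2 hw)
      · refine (Points.schemeHomeo W).injective (hbir.bijOn.injOn ((hgW w).2 hw) ((hgW w').2 hw') ?_)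
        rw [Points.map_yon_map_apply, Points.map_yon_map_apply, e]
      · obtain ⟨z, hz, hzv⟩ := hbir.bijOn.surjOn ((hgV v).2 hv)
        obtain ⟨w, rfl⟩ := (Points.schemeHomeo W).surjective z
        rw [Points.map_yon_map_apply] at hzv
        exact ⟨w, (hgW w).1 hz, (Points.schemeHomeo V).injective hzv⟩
    have hstalk : ∀ w ∈ genericPoints ↥W.left, IsIso (h.left.stalkMap w) := by
      intro w hw
      obtain ⟨U₁, V₁, a₁, b₁, g₁, u₁, ha₁, hb₁, hab₁, hu₁, hiso⟩ := hbir.stalkIso _ ((hgW w).2 hw)
      obtain ⟨a₁, rfl⟩ := (yon S).map_surjective a₁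
      obtain ⟨b₁, rfl⟩ := (yon S).map_surjective b₁
      haveI : IsOpenImmersion a₁.left := (repWith_yon_map_iff _ _).1 ha₁
      haveI : IsOpenImmersion b₁.left := (repWith_yon_map_iff _ _).1 hb₁
      have hw₁ : a₁.left u₁ = w := by
        apply (Points.schemeHomeo W).injective
        rw [← hu₁, Points.ofPt_eq_map_ofScheme]
        exact (Points.map_yon_map_apply a₁ u₁).symm
      subst hw₁
      have hc : a₁.left ≫ h.left = g₁.left ≫ b₁.left := by
        rw [← Functor.map_comp, ← Functor.map_comp] at hab₁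
        exact congrArg (fun z => z.left) ((yon S).map_injective hab₁)
      haveI := hiso
      have key : ∀ m : U₁.left ⟶ V.left, m = g₁.left ≫ b₁.left → IsIso (m.stalkMap u₁) := by
        rintro m rfl; rw [Scheme.Hom.stalkMap_comp]; infer_instance
      have h2 := key _ hc
      rw [Scheme.Hom.stalkMap_comp] at h2
      haveI := h2
      exact IsIso.of_isIso_comp_right (h.left.stalkMap (a₁.left u₁)) (a₁.left.stalkMap u₁)
    haveI hh : IsIso h.left := by
      rw [← hφ]
      haveI : IsReduced (Spec Bring) := hWr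
      haveI : IsIntegralHom (Spec.map φ) := hφ ▸ inferInstanceAs (IsIntegralHom h.left)
      refine isIso_spec_of_birational φ ?_ ?_ ?_ ?_
      · have hfinW : (irreducibleComponents ↥W.left).Finite :=
          FinIrred.finite_components_of_surjective (Points.schemeHomeo W).symm.continuous (Points.schemeHomeo W).symm.surjective hWf
        exact hfinW
      · exact hVn
      · rw [hφ]; exact hbij
      · rw [hφ]; exact hstalk
    -- transfer to the restriction
    have : IsIso h₁.left := by
      have : IsIso (ew.hom.left ≫ h₁.left) := hh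
      exact IsIso.of_isIso_comp_left ew.hom.left h₁.left
    have hsame : IsPullback (sq.lift q₁ ((yon S).map h₁ ≫ (yon S).map j) (by rw [Category.assoc]; exact sq₁.w))
        ((yon S).map h₁) ((yon S).map g) ((yon S).map j) :=
      IsPullback.of_right (by rw [sq.lift_fst]; exact sq₁) (sq.lift_snd _ _ _) sq
    obtain ⟨l, hl⟩ := (yon S).map_surjective (sq.lift q₁ ((yon S).map h₁ ≫ (yon S).map j)
      (by rw [Category.assoc]; exact sq₁.w))
    rw [← hl] at hsame
    have sqs : IsPullback l.left h₁.left g.left j.left :=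
      (IsPullback.of_map (yon S) ((yon S).map_injective (by rw [Functor.map_comp, Functor.map_comp]; exact hsame.w))
        hsame).map (Over.forget S)
    have sqO : IsPullback l.left (h₁.left ≫ O.1.toScheme.isoSpec.inv) g.left O.1.ι :=
      sqs.of_iso (Iso.refl _) (Iso.refl _) O.1.toScheme.isoSpec.symm (Iso.refl _) (by simp) (by simp) (by simp)
        (by simp [j, κ])
    rw [← (isPullback_morphismRestrict g.left O.1).flip.isoIsPullback_hom_snd _ _ sqO]
    exact inferInstanceAs (IsIso _)
  haveI : IsIso g := by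
    haveI : IsIso ((Over.forget S).map g) := ‹IsIso g.left›
    exact isIso_of_reflects_iso _ (Over.forget S)
  haveI : Sheaf.IsLocallySurjective a := chart_isLocallySurjective hae has
  have hop : RepWith @IsOpenImmersion f.hom :=
    repWith_of_base hrep.1 a sq fppfDescends_isOpenImmersion (repWith_iso _)
  refine isIso_of_openImmersion_surjective hop fun y => ?_
  obtain ⟨u, rfl⟩ := surjective_ofPt_of_repWith has y
  obtain ⟨z, hz⟩ := (map_bijective_of_iso ((yon S).mapIso (asIso g))).2 (Points.schemeHomeo A₀ u)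
  refine ⟨Points.map p z, ?_⟩
  rw [← Points.map_comp, sq.w, Points.map_comp, show Points.map ((yon S).map g) z = Points.schemeHomeo A₀ u from hz,
    Points.ofPt_eq_map_ofScheme]
  rfl
end Groth.Agent.S10438
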