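import Groth.Statements.S10439
import Groth.Agent.S10339
-- import your own Groth.Agent.* helpers here

set_option autoImplicit false
universe u
open CategoryTheory CategoryTheory.Limits AlgebraicGeometry Topology TopologicalSpace
open AlgSp
set_option backward.isDefEq.respectTransparency false

namespace Groth.Agent.S10439

/-- A birational morphism between decent algebraic spaces over a scheme S, each with only finitely many
irreducible components, is dominant: the image of |X| is dense in |Y|. -/
theorem result {S : Scheme.{u}} {X Y : AlgSp.Space S} (f : X ⟶ Y)
    (hX : AlgSp.IsDecent X.obj) (hY : AlgSp.IsDecent Y.obj)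
    (hXf : (irreducibleComponents (AlgSp.Points X.obj)).Finite)
    (hYf : (irreducibleComponents (AlgSp.Points Y.obj)).Finite)
    (hf : W4stk3decentspacesp2.IsBirational f.hom) : AlgSp.IsDominantMor f.hom := by
  haveI := Groth.Agent.S10339.result Y hY
  refine fun y => ?_
  have hT := irreducibleComponent_mem_irreducibleComponents y
  obtain ⟨g, hg⟩ := QuasiSober.sober hT.1 (isClosed_of_mem_irreducibleComponents _ hT)
  have hgp : g ∈ genericPoints (Points Y.obj) := by
    show closure {g} ∈ irreducibleComponents _
    rw [hg.def]; exact hT
  obtain ⟨x, -, rfl⟩ := hf.bijOn.surjOn hgp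
  exact (closure_mono ((Set.singleton_subset_iff (s := Set.range (Points.map f.hom))).2 ⟨x, rfl⟩)) (hg.def.symm ▸ mem_irreducibleComponent)

end Groth.Agent.S10439
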