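import Groth.Statements.S10440
import Groth.Agent.Lib.AlgSp.ElemEtale
import Groth.Agent.Lib.AlgSp.LocP
import Groth.Agent.Lib.AlgSp.UnivExist
import Groth.Agent.Lib.Hensel.Local
import Groth.Agent.Lib.Hensel.Henselization
-- import your own Groth.Agent.* helpers here

set_option autoImplicit false
universe u
open CategoryTheory CategoryTheory.Limits AlgebraicGeometry Topology TopologicalSpace
open AlgSp GrothLib.AlgSp
set_option backward.isDefEq.respectTransparency false

namespace Groth.Agent.S10440

/-- For a decent algebraic space X over a scheme S and x ∈ |X|, let g : (U', u') ⟶ (U, u) be a morphism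
of elementary etale neighbourhoods of (X, x). If R is a henselization of O_{U', u'} then, through
the local ring map O_{U, u} ⟶ O_{U', u'} induced by g, R is a henselization of O_{U, u} as well.
(The published statement identifies the henselian local ring at x, defined as the colimit of global
sections over all elementary etale neighbourhoods, with the henselization of O_{U, u}; that ring is
not a separate construction here, and this row states the resulting independence of the
henselization from the chosen neighbourhood.) -/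
theorem result {S : Scheme.{u}} (X : AlgSp.Space S)
    (hX : AlgSp.IsDecent X.obj) (x : AlgSp.Points X.obj) {U U' : Over S}
    (a : (AlgSp.yon S).obj U ⟶ X.obj) (a' : (AlgSp.yon S).obj U' ⟶ X.obj) (g : U' ⟶ U) (u' : ↥U'.left)
    (hg : (AlgSp.yon S).map g ≫ a = a') (ha : AlgSp.IsElemEtaleNbhd a (g.left.base u') x)
    (ha' : AlgSp.IsElemEtaleNbhd a' u' x) (R : Type u) [CommRing R] [IsLocalRing R]
    [Algebra ↥(U'.left.presheaf.stalk u') R] [IsLocalHom (algebraMap ↥(U'.left.presheaf.stalk u') R)]
    [Hensel.IsHenselization ↥(U'.left.presheaf.stalk u') R] :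
    letI : Algebra ↥(U.left.presheaf.stalk (g.left.base u')) R :=
      ((algebraMap ↥(U'.left.presheaf.stalk u') R).comp (g.left.stalkMap u').hom).toAlgebra
    ∃ (_ : IsLocalHom (algebraMap ↥(U.left.presheaf.stalk (g.left.base u')) R)),
      Hensel.IsHenselization ↥(U.left.presheaf.stalk (g.left.base u')) R := by
  letI iR : Algebra ↥(U.left.presheaf.stalk (g.left.base u')) R :=
    ((algebraMap ↥(U'.left.presheaf.stalk u') R).comp (g.left.stalkMap u').hom).toAlgebra
  let U₀ := U.left
  let U₁ := U'.left
  let u : ↥U₀ := g.left u'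
  let φ : ↥(U₀.presheaf.stalk u) →+* ↥(U₁.presheaf.stalk u') := (g.left.stalkMap u').hom
  haveI het : Etale g.left := etale_of_comp_repWith X.property ha.etale (hg ▸ ha'.etale)
  -- residually trivial
  have hres : IsIso (g.left.residueFieldMap u') := by
    let k : (FieldPt.ofPt a' u').pt ⟶ (FieldPt.ofPt a u).pt :=
      Over.homMk (Spec.map (g.left.residueFieldMap u')) (by
        change Spec.map _ ≫ U.left.fromSpecResidueField _ ≫ U.hom = U'.left.fromSpecResidueField u' ≫ U'.hom
        rw [Scheme.Hom.SpecMap_residueFieldMap_fromSpecResidueField_assoc, Over.w])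
    have e : (FieldPt.ofPt a' u').toHom = (yon S).map k ≫ (FieldPt.ofPt a u).toHom := by
      rw [FieldPt.toHom_ofPt, FieldPt.toHom_ofPt, ← hg, ← Category.assoc, ← Category.assoc, ← Functor.map_comp, ← Functor.map_comp]
      congr 2
      exact Over.OverMorphism.ext (Scheme.Hom.SpecMap_residueFieldMap_fromSpecResidueField _ _).symm
    haveI := ha.mono
    haveI := ha'.mono
    haveI : Mono ((yon S).map k ≫ (FieldPt.ofPt a u).toHom) := e ▸ ha'.mono
    haveI : Mono ((yon S).map k) := mono_of_mono _ (FieldPt.ofPt a u).toHom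
    haveI : Mono k := (yon S).mono_of_mono_map ‹_›
    haveI hm : Mono (Spec.map (g.left.residueFieldMap u')) := inferInstanceAs (Mono ((Over.forget S).map k))
    haveI : Subsingleton ↥(Spec (U₀.residueField u)) := inferInstanceAs (Subsingleton (PrimeSpectrum (U₀.residueField u)))
    haveI : IsIntegral (Spec (U₀.residueField u)) :=
      inferInstanceAs (IsIntegral (Spec (CommRingCat.of (U₀.residueField u))))
    haveI : Surjective (Spec.map (g.left.residueFieldMap u')) :=
      ⟨fun _ => ⟨IsLocalRing.closedPoint (U₁.residueField u'), Subsingleton.elim _ _⟩⟩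
    haveI : IsIso (Spec.map (g.left.residueFieldMap u')) := Flat.isIso_of_surjective_of_mono _
    haveI : IsIso (Scheme.Spec.map (g.left.residueFieldMap u').op) := this
    haveI : IsIso (g.left.residueFieldMap u').op := isIso_of_fully_faithful Scheme.Spec _
    exact isIso_of_op _
  -- affine charts
  obtain ⟨V, hV, hu, -⟩ := exists_isAffineOpen_mem_and_subset (x := u) (U := (⊤ : U₀.Opens)) trivial
  obtain ⟨V', hV', hu', hVV⟩ := exists_isAffineOpen_mem_and_subset (x := u') (U := g.left ⁻¹ᵁ V) hu
  let A : Type u := Γ(U₀, V)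
  let B : Type u := Γ(U₁, V')
  let χ : A →+* B := (g.left.appLE V V' hVV).hom
  let γA : A →+* ↥(U₀.presheaf.stalk u) := (U₀.presheaf.germ V u hu).hom
  let γB : B →+* ↥(U₁.presheaf.stalk u') := (U₁.presheaf.germ V' u' hu').hom
  have hsq : φ.comp γA = γB.comp χ := by
    show (U₀.presheaf.germ V u hu ≫ g.left.stalkMap u').hom = (g.left.appLE V V' hVV ≫ U₁.presheaf.germ V' u' hu').hom
    rw [Scheme.Hom.germ_stalkMap, Scheme.Hom.appLE, Category.assoc, TopCat.Presheaf.germ_res]
  letI : Algebra A B := χ.toAlgebra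
  haveI : Algebra.Etale A B := (HasRingHomProperty.appLE @Etale g.left het ⟨V, hV⟩ ⟨V', hV'⟩ hVV)
  letI : Algebra B ↥(U₁.presheaf.stalk u') := γB.toAlgebra
  letI : Algebra A ↥(U₀.presheaf.stalk u) := γA.toAlgebra
  haveI : IsLocalization.AtPrime ↥(U₁.presheaf.stalk u') (hV'.primeIdealOf ⟨u', hu'⟩).asIdeal :=
    hV'.isLocalization_stalk ⟨u', hu'⟩
  haveI : IsLocalization.AtPrime ↥(U₀.presheaf.stalk u) (hV.primeIdealOf ⟨u, hu⟩).asIdeal :=
    hV.isLocalization_stalk ⟨u, hu⟩
  haveI hφ : IsLocalHom φ := inferInstanceAs (IsLocalHom (g.left.stalkMap u').hom)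
  haveI hloc : IsLocalHom ((algebraMap ↥(U₁.presheaf.stalk u') R).comp φ) := RingHom.isLocalHom_comp _ _
  refine ⟨hloc, ⟨Hensel.IsHenselization.henselian ↥(U₁.presheaf.stalk u'), ?_⟩⟩
  intro T _ _ f hf
  -- the unique extension to the stalk of the neighbourhood
  have hrb : Function.Bijective (IsLocalRing.ResidueField.map φ) := by
    show Function.Bijective (g.left.residueFieldMap u').hom
    exact ConcreteCategory.bijective_of_isIso _
  let e := RingEquiv.ofBijective _ hrb
  haveI := hf
  let σ₁ : ↥(U₁.presheaf.stalk u') →+* IsLocalRing.ResidueField T :=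
    (IsLocalRing.ResidueField.map f).comp (e.symm.toRingHom.comp (IsLocalRing.residue _))
  have hσ₁ : σ₁.comp φ = (IsLocalRing.residue T).comp f := by
    ext x
    show IsLocalRing.ResidueField.map f (e.symm (IsLocalRing.residue _ (φ x))) = _
    rw [show IsLocalRing.residue _ (φ x) = e (IsLocalRing.residue _ x) from rfl, e.symm_apply_apply]
    rfl
  letI : Algebra A T := (f.comp γA).toAlgebra
  obtain ⟨h, hh, huniq⟩ := GrothLib.Hensel.existsUnique_lift_residue (R := A) (S := T) (A := B) (σ₁.comp γB) (by
    show (σ₁.comp γB).comp χ = (IsLocalRing.residue T).comp (f.comp γA)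
    rw [RingHom.comp_assoc, ← hsq, ← RingHom.comp_assoc, hσ₁, RingHom.comp_assoc])
  have hunit : ∀ b : (hV'.primeIdealOf ⟨u', hu'⟩).asIdeal.primeCompl, IsUnit (h.toRingHom b) := by
    intro b
    refine (IsLocalRing.residue_ne_zero_iff_isUnit _).1 ?_
    rw [show IsLocalRing.residue T (h.toRingHom b) = σ₁ (algebraMap B _ b) from hh b]
    show IsLocalRing.ResidueField.map f (e.symm (IsLocalRing.residue _ (algebraMap B _ b))) ≠ 0
    exact (map_ne_zero_iff _ (RingHom.injective _)).2 ((map_ne_zero_iff _ e.symm.injective).2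
      ((IsLocalRing.residue_ne_zero_iff_isUnit _).2 (IsLocalization.map_units _ b)))
  let f' : ↥(U₁.presheaf.stalk u') →+* T := IsLocalization.lift (g := h.toRingHom) hunit
  have hf'B : ∀ b, f' (γB b) = h b := fun b => IsLocalization.lift_eq hunit b
  have hf'φ : f'.comp φ = f := by
    refine IsLocalization.ringHom_ext (hV.primeIdealOf ⟨u, hu⟩).asIdeal.primeCompl ?_
    refine RingHom.ext fun x => ?_
    show f' ((φ.comp γA) x) = f (γA x)
    rw [hsq]
    exact (hf'B (χ x)).trans (h.commutes x)
  haveI hf'loc : IsLocalHom f' := ⟨fun x hx => by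
    obtain ⟨y, hy⟩ := e.surjective (IsLocalRing.residue _ x)
    obtain ⟨y, rfl⟩ := IsLocalRing.residue_surjective y
    have h₀ : x - φ y ∈ IsLocalRing.maximalIdeal _ := by
      rw [← IsLocalRing.residue_eq_zero_iff, map_sub, sub_eq_zero]
      exact hy.symm
    by_contra hxu
    have hym : y ∈ IsLocalRing.maximalIdeal _ := by
      intro hyu
      exact (IsLocalRing.mem_maximalIdeal _).1
        (by simpa using Ideal.sub_mem _ ((IsLocalRing.mem_maximalIdeal x).2 hxu) h₀) (hyu.map φ)
    have hres0 : IsLocalRing.residue T (f' x) = σ₁ x := by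
      obtain ⟨⟨b, s⟩, hbs⟩ := IsLocalization.surj (hV'.primeIdealOf ⟨u', hu'⟩).asIdeal.primeCompl x
      have hs0 : σ₁ (γB s) ≠ 0 := by rw [show σ₁ (γB s) = IsLocalRing.residue T (h.toRingHom s) from (hh _).symm]; exact (IsLocalRing.residue_ne_zero_iff_isUnit _).2 (hunit s)
      apply mul_right_cancel₀ hs0
      rw [← map_mul σ₁, show σ₁ (γB s) = IsLocalRing.residue T (f' (γB s)) by rw [hf'B]; exact (hh _).symm,
        ← map_mul, ← map_mul, show x * γB s = γB b from hbs, hf'B]
      exact hh b
    refine (IsLocalRing.residue_ne_zero_iff_isUnit _).2 hx ?_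
    rw [hres0]
    show IsLocalRing.ResidueField.map f (e.symm (IsLocalRing.residue _ x)) = 0
    rw [← hy, e.symm_apply_apply, (IsLocalRing.residue_eq_zero_iff y).2 hym, map_zero]⟩
  obtain ⟨G, hG, hGu⟩ := Hensel.IsHenselization.universal (R := ↥(U₁.presheaf.stalk u')) (S := R) T f' hf'loc
  refine ⟨G, ?_, fun G' hG' => hGu G' ?_⟩
  · show G.comp ((algebraMap _ R).comp φ) = f
    rw [← RingHom.comp_assoc, hG, hf'φ]
  · -- any other extension agrees on the stalk
    let k : ↥(U₁.presheaf.stalk u') →+* T := G'.comp (algebraMap _ R)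
    have hk : k.comp φ = f := by rw [RingHom.comp_assoc]; exact hG'
    refine IsLocalization.ringHom_ext (hV'.primeIdealOf ⟨u', hu'⟩).asIdeal.primeCompl ?_
    refine RingHom.ext fun b => ?_
    show k (γB b) = f' (γB b)
    rw [hf'B]
    let kB : B →ₐ[A] T := { toRingHom := k.comp γB, commutes' := fun x => (by
      show k ((γB.comp χ) x) = f (γA x)
      rw [← hsq]
      exact RingHom.congr_fun hk (γA x)) }
    refine congrArg (fun m : B →ₐ[A] T => m b) (huniq kB fun c => ?_)
    show IsLocalRing.residue T (k (γB c)) = σ₁ (γB c)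
    generalize γB c = x
    obtain ⟨y, hy⟩ := e.surjective (IsLocalRing.residue _ x)
    obtain ⟨y, rfl⟩ := IsLocalRing.residue_surjective y
    have h₀ : x - φ y ∈ IsLocalRing.maximalIdeal _ := by
      rw [← IsLocalRing.residue_eq_zero_iff, map_sub, sub_eq_zero]
      exact hy.symm
    have hkm : ∀ z ∈ IsLocalRing.maximalIdeal ↥(U₁.presheaf.stalk u'), k z ∈ IsLocalRing.maximalIdeal T := by
      intro z hz
      letI := φ.toAlgebra
      haveI : Algebra.FormallyUnramified ↥(U₀.presheaf.stalk u) ↥(U₁.presheaf.stalk u') :=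
        FormallyUnramified.stalkMap g.left u'
      haveI : Algebra.EssFiniteType ↥(U₀.presheaf.stalk u) ↥(U₁.presheaf.stalk u') :=
        LocallyOfFiniteType.stalkMap g.left u'
      haveI : IsLocalHom (algebraMap ↥(U₀.presheaf.stalk u) ↥(U₁.presheaf.stalk u')) := hφ
      rw [← Algebra.FormallyUnramified.map_maximalIdeal (R := ↥(U₀.presheaf.stalk u))
        (S := ↥(U₁.presheaf.stalk u'))] at hz
      have hle : Ideal.map φ (IsLocalRing.maximalIdeal _) ≤ (IsLocalRing.maximalIdeal T).comap k := by
        rw [Ideal.map_le_iff_le_comap]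
        intro y hy
        show k (φ y) ∈ IsLocalRing.maximalIdeal T
        rw [show k (φ y) = f y from RingHom.congr_fun hk y]
        exact map_nonunit f y hy
      exact hle hz
    rw [show σ₁ x = IsLocalRing.residue T (f y) by
      show IsLocalRing.ResidueField.map f (e.symm (IsLocalRing.residue _ x)) = _
      rw [← hy, e.symm_apply_apply]; rfl, ← show k (φ y) = f y from RingHom.congr_fun hk y, ← sub_eq_zero,
      ← map_sub, ← map_sub, IsLocalRing.residue_eq_zero_iff]
    exact hkm _ h₀
end Groth.Agent.S10440
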