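import Groth.Statements.S10441
import Groth.Agent.Lib.AlgSp.ElemBranches
-- import your own Groth.Agent.* helpers here

set_option autoImplicit false
universe u
open CategoryTheory CategoryTheory.Limits AlgebraicGeometry Topology TopologicalSpace
open AlgSp GrothLib.AlgSp
set_option backward.isDefEq.respectTransparency false

namespace Groth.Agent.S10441

theorem encard_eq_one_iff (A : Type u) [CommRing A] :
    CAlgX.HasUniqueMinimalPrime A ↔ (minimalPrimes A).encard = 1 := by
  rw [Set.encard_eq_one]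
  constructor
  · rintro ⟨p, hp, huniq⟩
    exact ⟨p, Set.ext fun q => ⟨fun hq => huniq q hq, fun hq => by rw [Set.mem_singleton_iff] at hq; exact hq ▸ hp⟩⟩
  · rintro ⟨p, hp⟩
    exact ⟨p, by simp [hp], fun q hq => by simpa [hp] using hq⟩

/-- For a decent algebraic space X over a scheme S and x ∈ |X|, fix an elementary etale neighbourhood
(U₀, u₀) of (X, x) and a henselization R of O_{U₀, u₀} (a model of the henselian local ring at x).
The following are equivalent: (1) O_{U, u} has exactly one minimal prime whenever (U, u) is an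
elementary etale neighbourhood of (X, x); (2) a unique irreducible component of U passes through u
for all such (U, u); (3) O_{U, u} is unibranch for all such (U, u); (4) R has exactly one minimal
prime. -/
theorem result {S : Scheme.{u}} (X : AlgSp.Space S)
    (hX : AlgSp.IsDecent X.obj) (x : AlgSp.Points X.obj) {U₀ : Over S}
    (a₀ : (AlgSp.yon S).obj U₀ ⟶ X.obj) (u₀ : ↥U₀.left) (h₀ : AlgSp.IsElemEtaleNbhd a₀ u₀ x)
    (R : Type u) [CommRing R] [IsLocalRing R] [Algebra ↥(U₀.left.presheaf.stalk u₀) R]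
    [IsLocalHom (algebraMap ↥(U₀.left.presheaf.stalk u₀) R)] [Hensel.IsHenselization ↥(U₀.left.presheaf.stalk u₀) R] :
    ((∀ (U : Over S) (a : (AlgSp.yon S).obj U ⟶ X.obj) (u : ↥U.left), AlgSp.IsElemEtaleNbhd a u x →
        CAlgX.HasUniqueMinimalPrime ↥(U.left.presheaf.stalk u)) ↔
      (∀ (U : Over S) (a : (AlgSp.yon S).obj U ⟶ X.obj) (u : ↥U.left), AlgSp.IsElemEtaleNbhd a u x →
        {Z : Set ↥U.left | Z ∈ irreducibleComponents ↥U.left ∧ u ∈ Z}.encard = 1)) ∧
    ((∀ (U : Over S) (a : (AlgSp.yon S).obj U ⟶ X.obj) (u : ↥U.left), AlgSp.IsElemEtaleNbhd a u x →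
        {Z : Set ↥U.left | Z ∈ irreducibleComponents ↥U.left ∧ u ∈ Z}.encard = 1) ↔
      (∀ (U : Over S) (a : (AlgSp.yon S).obj U ⟶ X.obj) (u : ↥U.left), AlgSp.IsElemEtaleNbhd a u x →
        CAlg2.IsUnibranch ↥(U.left.presheaf.stalk u))) ∧
    ((∀ (U : Over S) (a : (AlgSp.yon S).obj U ⟶ X.obj) (u : ↥U.left), AlgSp.IsElemEtaleNbhd a u x →
        CAlg2.IsUnibranch ↥(U.left.presheaf.stalk u)) ↔ CAlgX.HasUniqueMinimalPrime R) := by
  have key := ElemBranches.forall_le_and_attained_iff X.property h₀ 1 le_rfl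
  have hN : ∀ {U : Over S} {a : (AlgSp.yon S).obj U ⟶ X.obj} {u : ↥U.left}, AlgSp.IsElemEtaleNbhd a u x →
      Brnch.numBranchesAt U.left u = (minimalPrimes R).encard :=
    fun h => ElemBranches.numBranchesAt_eq_card X.property h₀ h
  have hU : ∀ (A : Type u) [CommRing A], CAlgX.HasUniqueMinimalPrime A ↔ (minimalPrimes A).encard = 1 :=
    fun A _ => encard_eq_one_iff A
  have h1 : (∀ (U : Over S) (a : (AlgSp.yon S).obj U ⟶ X.obj) (u : ↥U.left), AlgSp.IsElemEtaleNbhd a u x →
      (minimalPrimes ↥(U.left.presheaf.stalk u)).encard = 1) ↔ (minimalPrimes R).encard = 1 := by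
    rw [← hN h₀]
    constructor
    · intro h
      exact key.1 ⟨fun U a u hu => (h U a u hu).le, U₀, a₀, u₀, h₀, h _ _ _ h₀⟩
    · intro e U a u hu
      exact le_antisymm ((key.2 e).1 U a u hu) (one_le_encard_minimalPrimes _)
  have h2 : (∀ (U : Over S) (a : (AlgSp.yon S).obj U ⟶ X.obj) (u : ↥U.left), AlgSp.IsElemEtaleNbhd a u x →
      CAlg2.IsUnibranch ↥(U.left.presheaf.stalk u)) ↔ (minimalPrimes R).encard = 1 := by
    constructor
    · intro h
      rw [← hN h₀]
      exact (Groth.Agent.S9235.result _).2 (h _ _ _ h₀)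
    · intro e U a u hu
      exact (Groth.Agent.S9235.result _).1 ((hN hu).trans e)
  simp only [encard_components_eq_minimalPrimes, hU]
  exact ⟨trivial, h1.trans h2.symm, h2⟩

end Groth.Agent.S10441
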