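import Groth.Statements.S10442
import Groth.Agent.Lib.AlgSp.ElemBranches
-- import your own Groth.Agent.* helpers here

set_option autoImplicit false
universe u
open CategoryTheory CategoryTheory.Limits AlgebraicGeometry Topology TopologicalSpace
open AlgSp GrothLib.AlgSp
set_option backward.isDefEq.respectTransparency false

namespace Groth.Agent.S10442

/-- For a decent algebraic space X over a scheme S, x ∈ |X| and n ≥ 1, fix an elementary etale
neighbourhood (U₀, u₀) of (X, x) and a henselization R of O_{U₀, u₀} (a model of the henselian local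
ring at x). The following are equivalent: (1) over all elementary etale neighbourhoods (U, u) of (X,
x), O_{U, u} has at most n minimal primes, with the value n attained; (2) the same for the number of
irreducible components of U through u; (3) the same for the branch number of U at u; (4) R has
exactly n minimal primes. -/
theorem result {S : Scheme.{u}} (X : AlgSp.Space S)
    (hX : AlgSp.IsDecent X.obj) (x : AlgSp.Points X.obj) (n : ℕ) (hn : 1 ≤ n) {U₀ : Over S}
    (a₀ : (AlgSp.yon S).obj U₀ ⟶ X.obj) (u₀ : ↥U₀.left) (h₀ : AlgSp.IsElemEtaleNbhd a₀ u₀ x)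
    (R : Type u) [CommRing R] [IsLocalRing R] [Algebra ↥(U₀.left.presheaf.stalk u₀) R]
    [IsLocalHom (algebraMap ↥(U₀.left.presheaf.stalk u₀) R)] [Hensel.IsHenselization ↥(U₀.left.presheaf.stalk u₀) R] :
    (((∀ (U : Over S) (a : (AlgSp.yon S).obj U ⟶ X.obj) (u : ↥U.left), AlgSp.IsElemEtaleNbhd a u x →
        (minimalPrimes ↥(U.left.presheaf.stalk u)).encard ≤ n) ∧
      (∃ (U : Over S) (a : (AlgSp.yon S).obj U ⟶ X.obj) (u : ↥U.left), AlgSp.IsElemEtaleNbhd a u x ∧
        (minimalPrimes ↥(U.left.presheaf.stalk u)).encard = n)) ↔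
     ((∀ (U : Over S) (a : (AlgSp.yon S).obj U ⟶ X.obj) (u : ↥U.left), AlgSp.IsElemEtaleNbhd a u x →
        {Z : Set ↥U.left | Z ∈ irreducibleComponents ↥U.left ∧ u ∈ Z}.encard ≤ n) ∧
      (∃ (U : Over S) (a : (AlgSp.yon S).obj U ⟶ X.obj) (u : ↥U.left), AlgSp.IsElemEtaleNbhd a u x ∧
        {Z : Set ↥U.left | Z ∈ irreducibleComponents ↥U.left ∧ u ∈ Z}.encard = n))) ∧
    (((∀ (U : Over S) (a : (AlgSp.yon S).obj U ⟶ X.obj) (u : ↥U.left), AlgSp.IsElemEtaleNbhd a u x →
        {Z : Set ↥U.left | Z ∈ irreducibleComponents ↥U.left ∧ u ∈ Z}.encard ≤ n) ∧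
      (∃ (U : Over S) (a : (AlgSp.yon S).obj U ⟶ X.obj) (u : ↥U.left), AlgSp.IsElemEtaleNbhd a u x ∧
        {Z : Set ↥U.left | Z ∈ irreducibleComponents ↥U.left ∧ u ∈ Z}.encard = n)) ↔
     ((∀ (U : Over S) (a : (AlgSp.yon S).obj U ⟶ X.obj) (u : ↥U.left), AlgSp.IsElemEtaleNbhd a u x →
        Brnch.numBranchesAt U.left u ≤ n) ∧
      (∃ (U : Over S) (a : (AlgSp.yon S).obj U ⟶ X.obj) (u : ↥U.left), AlgSp.IsElemEtaleNbhd a u x ∧
        Brnch.numBranchesAt U.left u = n))) ∧
    (((∀ (U : Over S) (a : (AlgSp.yon S).obj U ⟶ X.obj) (u : ↥U.left), AlgSp.IsElemEtaleNbhd a u x →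
        Brnch.numBranchesAt U.left u ≤ n) ∧
      (∃ (U : Over S) (a : (AlgSp.yon S).obj U ⟶ X.obj) (u : ↥U.left), AlgSp.IsElemEtaleNbhd a u x ∧
        Brnch.numBranchesAt U.left u = n)) ↔
     (minimalPrimes R).encard = n) := by
  have key := ElemBranches.forall_le_and_attained_iff X.property h₀ n hn
  have hN : ∀ {U : Over S} {a : (AlgSp.yon S).obj U ⟶ X.obj} {u : ↥U.left}, AlgSp.IsElemEtaleNbhd a u x →
      Brnch.numBranchesAt U.left u = (minimalPrimes R).encard :=
    fun h => ElemBranches.numBranchesAt_eq_card X.property h₀ h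
  simp only [encard_components_eq_minimalPrimes]
  have key' : ((∀ (U : Over S) (a : (AlgSp.yon S).obj U ⟶ X.obj) (u : ↥U.left), AlgSp.IsElemEtaleNbhd a u x →
        Brnch.numBranchesAt U.left u ≤ n) ∧
      (∃ (U : Over S) (a : (AlgSp.yon S).obj U ⟶ X.obj) (u : ↥U.left), AlgSp.IsElemEtaleNbhd a u x ∧
        Brnch.numBranchesAt U.left u = n)) ↔ (minimalPrimes R).encard = n := by
    refine ⟨fun ⟨_, U, a, u, h, e⟩ => (hN h).symm.trans e, fun e => ⟨fun U a u h => ((hN h).trans e).le,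
      U₀, a₀, u₀, h₀, (hN h₀).trans e⟩⟩
  refine ⟨trivial, key.trans ((Iff.of_eq (congrArg (fun t => t = (n : ℕ∞)) (hN h₀))).trans key'.symm), key'⟩

end Groth.Agent.S10442
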