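import Groth.Statements.S10444
import Groth.Agent.Lib.AlgSp.FibreIsolated
-- import your own Groth.Agent.* helpers here

set_option autoImplicit false
universe u
open CategoryTheory CategoryTheory.Limits AlgebraicGeometry Topology TopologicalSpace
open AlgSp GrothLib.AlgSp
set_option backward.isDefEq.respectTransparency false

namespace Groth.Agent.S10444

theorem dim0 (T : Type*) [TopologicalSpace T] [DiscreteTopology T] (h : Nonempty T) : topologicalKrullDim T = 0 := by
  obtain ⟨x⟩ := h
  exact le_antisymm (topologicalKrullDim_zero_of_discreteTopology T)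
    ((localDim_nonneg x).trans (localDim_le_topologicalKrullDim x))

/-- Take f : X ⟶ Y locally of finite type between algebraic spaces over a scheme S, a field-valued point
Spec k ⟶ Y whose class y ∈ |Y| lies in the image of |f|, the fibre product X_k = Spec k ×_Y X, and
the fibre F = |f|⁻¹(y) ⊆ |X| with the induced topology. Numbering the conditions (1) F finite, (2) F
discrete, (3) dim F = 0, (4) |X_k| finite, (5) |X_k| discrete, (6) dim |X_k| = 0, (7) dim X_k = 0,
(8) f quasi-finite at all points over y: (5) ⇔ (7) ⇔ (8); (5) ⇒ (6), with the converse when X_k is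
decent; (4) ⇒ (5) when X_k is decent; (4) ⇒ (1); (2) ⇒ (3); if Y is decent then (2) ⇔ (5); if X and
Y are decent then (3) ⇒ (2) and (1) ⇒ (2). (The published statement asserts (5) ⇔ (6) for every f
and (2) ⇔ (3) whenever Y is decent, and does not exclude an empty fibre; for the quotient of the
affine line over a field of characteristic zero by an infinite cyclic group of translations, mapping
to the point, the space of points is infinite and indiscrete, so (3) and (6) hold while (2) and (5)
fail, and for y outside the image (5) holds while (6) and (7) fail; hence the decency hypotheses on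
those two converses and the hypothesis that y is in the image. Finiteness of |X_k| for an arbitrary
field k in the class of y is not derived here from (1).) -/
theorem result {S : Scheme.{u}} {X Y : AlgSp.Space S} (f : X ⟶ Y)
    (hf : AlgSp.LocP @LocallyOfFiniteType f.hom) (r : AlgSp.FieldPt Y.obj)
    (hy : AlgSp.Points.mk r ∈ Set.range (AlgSp.Points.map f.hom)) (Xk : AlgSp.Space S) (fst : Xk ⟶ X)
    (snd : Xk.obj ⟶ (AlgSp.yon S).obj r.pt) (hsq : IsPullback fst.hom snd f.hom r.toHom) :
    (DiscreteTopology (AlgSp.Points Xk.obj) ↔ AlgSp.dim Xk.obj = 0) ∧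
    (AlgSp.dim Xk.obj = 0 ↔
      ∀ x : AlgSp.Points X.obj, AlgSp.Points.map f.hom x = AlgSp.Points.mk r → AlgSp.HasAtMor (fun U _ h u => ∃ W : U.Opens, u ∈ W ∧ LocallyQuasiFinite (W.ι ≫ h) ∧ LocallyOfFiniteType (W.ι ≫ h)) f.hom x) ∧
    (DiscreteTopology (AlgSp.Points Xk.obj) → topologicalKrullDim (AlgSp.Points Xk.obj) = 0) ∧
    (AlgSp.IsDecent Xk.obj → topologicalKrullDim (AlgSp.Points Xk.obj) = 0 →
      DiscreteTopology (AlgSp.Points Xk.obj)) ∧
    (AlgSp.IsDecent Xk.obj → Finite (AlgSp.Points Xk.obj) → DiscreteTopology (AlgSp.Points Xk.obj)) ∧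
    (Finite (AlgSp.Points Xk.obj) → (AlgSp.Points.map f.hom ⁻¹' {AlgSp.Points.mk r}).Finite) ∧
    (DiscreteTopology ↥(AlgSp.Points.map f.hom ⁻¹' {AlgSp.Points.mk r}) → topologicalKrullDim ↥(AlgSp.Points.map f.hom ⁻¹' {AlgSp.Points.mk r}) = 0) ∧
    (AlgSp.IsDecent Y.obj → (DiscreteTopology ↥(AlgSp.Points.map f.hom ⁻¹' {AlgSp.Points.mk r}) ↔ DiscreteTopology (AlgSp.Points Xk.obj))) ∧
    (AlgSp.IsDecent Y.obj → AlgSp.IsDecent X.obj →
      (topologicalKrullDim ↥(AlgSp.Points.map f.hom ⁻¹' {AlgSp.Points.mk r}) = 0 → DiscreteTopology ↥(AlgSp.Points.map f.hom ⁻¹' {AlgSp.Points.mk r})) ∧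
        ((AlgSp.Points.map f.hom ⁻¹' {AlgSp.Points.mk r}).Finite → DiscreteTopology ↥(AlgSp.Points.map f.hom ⁻¹' {AlgSp.Points.mk r}))) := by
  have hsnd := FibreIsolated.lft_snd hf hsq
  have hdisc := FibreIsolated.discrete_iff_forall hf hsq
  have hdim := FibreIsolated.dim_eq_zero_iff hf hsq hy
  have hne : Nonempty (AlgSp.Points Xk.obj) := by
    obtain ⟨x, hx⟩ := hy
    obtain ⟨z, -, -⟩ := exists_of_isPullback hsq (x := x)
      (y := AlgSp.Points.ofScheme r.pt (IsLocalRing.closedPoint r.K))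
      (by rw [hx, ← Points.ofPt_eq_map_ofScheme, Points.ofPt_toHom])
    exact ⟨z⟩
  have hneF : Nonempty ↥(AlgSp.Points.map f.hom ⁻¹' {AlgSp.Points.mk r}) := by
    obtain ⟨x, hx⟩ := hy
    exact ⟨⟨x, hx⟩⟩
  have hlift : ∀ y : ↥(AlgSp.Points.map f.hom ⁻¹' {AlgSp.Points.mk r}),
      ∃ z, AlgSp.Points.map fst.hom z = y.1 := fun y => by
    obtain ⟨z, hz, -⟩ := exists_of_isPullback hsq (x := y.1)
      (y := AlgSp.Points.ofScheme r.pt (IsLocalRing.closedPoint r.K))
      (by rw [show AlgSp.Points.map f.hom y.1 = _ from y.2, ← Points.ofPt_eq_map_ofScheme, Points.ofPt_toHom])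
    exact ⟨z, hz⟩
  have hF : AlgSp.IsDecent Y.obj → (DiscreteTopology ↥(AlgSp.Points.map f.hom ⁻¹' {AlgSp.Points.mk r}) ↔
      DiscreteTopology (AlgSp.Points Xk.obj)) := fun hd => by
    refine (discreteTopology_iff_isOpen_singleton.trans ⟨fun h x hx => ?_, fun h y => ?_⟩).trans hdisc.symm
    · obtain ⟨z, hz⟩ := hlift ⟨x, hx⟩
      subst hz
      exact (FibreIsolated.isOpen_iff_lqf hf hsq z).1
        ((FibreIsolated.isOpen_fibre_iff hf hsq hd _ z rfl).1 (h ⟨_, hx⟩))
    · obtain ⟨z, hz⟩ := hlift y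
      exact (FibreIsolated.isOpen_fibre_iff hf hsq hd y z hz).2
        ((FibreIsolated.isOpen_iff_lqf hf hsq z).2 (hz ▸ h y.1 y.2))
  refine ⟨hdisc.trans hdim.symm, hdim, fun h => dim0 _ hne, fun hd h => ?_,
    fun hd _ => FibreIsolated.discrete_of_finite Xk.property hd hsnd, fun _ => ?_,
    fun h => dim0 _ hneF, hF, fun hdY hdX => ?_⟩
  · exact hdisc.2 (hdim.1 (topologicalKrullDim_points Xk.property hd ▸ h))
  · refine (Set.finite_range (AlgSp.Points.map fst.hom)).subset fun x hx => ?_
    exact hlift ⟨x, hx⟩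
  · obtain ⟨q, Xq, fq, sq, h, hq, hsq', hh, hdec⟩ := FibreIsolated.exists_mono_fibre hdY f (AlgSp.Points.mk r)
    have hyq : AlgSp.Points.mk q ∈ Set.range (AlgSp.Points.map f.hom) := hq.symm ▸ hy
    refine ⟨fun h0 => ?_, fun hfin => ?_⟩
    · rw [← h.isHomeomorph.topologicalKrullDim_eq, topologicalKrullDim_points Xq.property (hdec hdX),
        FibreIsolated.dim_eq_zero_iff hf hsq' hyq, ← FibreIsolated.discrete_iff_forall hf hsq'] at h0
      exact h.discreteTopology
    · haveI := hfin.to_subtype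
      haveI : Finite (AlgSp.Points Xq.obj) := Finite.of_equiv _ h.symm.toEquiv
      haveI := FibreIsolated.discrete_of_finite Xq.property (hdec hdX) (FibreIsolated.lft_snd hf hsq')
      exact h.discreteTopology

end Groth.Agent.S10444
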