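import Groth.Statements.S10445
import Groth.Agent.Lib.AlgSp.FibreIsolated
-- import your own Groth.Agent.* helpers here

set_option autoImplicit false
universe u
open CategoryTheory CategoryTheory.Limits AlgebraicGeometry Topology TopologicalSpace
open AlgSp GrothLib.AlgSp
set_option backward.isDefEq.respectTransparency false

namespace Groth.Agent.S10445

/-- Take f : X ⟶ Y locally of finite type between algebraic spaces over a scheme S, a field-valued point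
Spec k ⟶ Y with class y, the fibre product X_k = Spec k ×_Y X, x ∈ |X| over y, x̃ ∈ |X_k| over x,
and F = |f|⁻¹(y) with the induced topology. Numbering the conditions (1) dim_x F = 0, (2) x isolated
in F, (3) x closed in F with no proper generization in F, (4) dim_{x̃} |X_k| = 0, (5) x̃ isolated in
|X_k|, (6) x̃ closed in |X_k| with no proper generization, (7) dim_{x̃}(X_k) = 0 (local dimension of
an etale chart), (8) f quasi-finite at x: (5) ⇔ (6) ⇔ (7) ⇔ (8); (4) ⇔ (5) when X_k is decent; (2) ⇔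
(5) and (3) ⇔ (6) when Y is decent; (1) ⇔ (2) when X and Y are decent. -/
theorem result {S : Scheme.{u}} {X Y : AlgSp.Space S} (f : X ⟶ Y)
    (hf : AlgSp.LocP @LocallyOfFiniteType f.hom) (r : AlgSp.FieldPt Y.obj) (Xk : AlgSp.Space S) (fst : Xk ⟶ X)
    (snd : Xk.obj ⟶ (AlgSp.yon S).obj r.pt) (hsq : IsPullback fst.hom snd f.hom r.toHom)
    (x : AlgSp.Points X.obj) (hx : x ∈ (AlgSp.Points.map f.hom ⁻¹' {AlgSp.Points.mk r})) (xt : AlgSp.Points Xk.obj)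
    (hxt : AlgSp.Points.map fst.hom xt = x) :
    ((IsOpen ({xt} : Set (AlgSp.Points Xk.obj)) ↔
      IsClosed ({xt} : Set (AlgSp.Points Xk.obj)) ∧ ∀ x' : AlgSp.Points Xk.obj, x' ⤳ xt → x' = xt) ∧
    (IsOpen ({xt} : Set (AlgSp.Points Xk.obj)) ↔ AlgSp.HasAt (fun U u => FlatMor.localDim ↥U u = 0) Xk.obj xt) ∧
    (AlgSp.HasAt (fun U u => FlatMor.localDim ↥U u = 0) Xk.obj xt ↔ AlgSp.HasAtMor (fun U _ h u => ∃ W : U.Opens, u ∈ W ∧ LocallyQuasiFinite (W.ι ≫ h) ∧ LocallyOfFiniteType (W.ι ≫ h)) f.hom x) ∧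
    (AlgSp.IsDecent Xk.obj →
      (FlatMor.localDim (AlgSp.Points Xk.obj) xt = 0 ↔ IsOpen ({xt} : Set (AlgSp.Points Xk.obj)))) ∧
    (AlgSp.IsDecent Y.obj →
      (IsOpen ({(⟨x, hx⟩ : ↥(AlgSp.Points.map f.hom ⁻¹' {AlgSp.Points.mk r}))} : Set ↥(AlgSp.Points.map f.hom ⁻¹' {AlgSp.Points.mk r})) ↔ IsOpen ({xt} : Set (AlgSp.Points Xk.obj))) ∧
      ((IsClosed ({(⟨x, hx⟩ : ↥(AlgSp.Points.map f.hom ⁻¹' {AlgSp.Points.mk r}))} : Set ↥(AlgSp.Points.map f.hom ⁻¹' {AlgSp.Points.mk r})) ∧ ∀ x' : ↥(AlgSp.Points.map f.hom ⁻¹' {AlgSp.Points.mk r}), x' ⤳ (⟨x, hx⟩ : ↥(AlgSp.Points.map f.hom ⁻¹' {AlgSp.Points.mk r})) → x' = (⟨x, hx⟩ : ↥(AlgSp.Points.map f.hom ⁻¹' {AlgSp.Points.mk r}))) ↔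
        IsClosed ({xt} : Set (AlgSp.Points Xk.obj)) ∧ ∀ x' : AlgSp.Points Xk.obj, x' ⤳ xt → x' = xt)) ∧
    (AlgSp.IsDecent Y.obj → AlgSp.IsDecent X.obj →
      (FlatMor.localDim ↥(AlgSp.Points.map f.hom ⁻¹' {AlgSp.Points.mk r}) (⟨x, hx⟩ : ↥(AlgSp.Points.map f.hom ⁻¹' {AlgSp.Points.mk r})) = 0 ↔ IsOpen ({(⟨x, hx⟩ : ↥(AlgSp.Points.map f.hom ⁻¹' {AlgSp.Points.mk r}))} : Set ↥(AlgSp.Points.map f.hom ⁻¹' {AlgSp.Points.mk r}))))) := by
  have hsnd := FibreIsolated.lft_snd hf hsq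
  refine ⟨FibreIsolated.isOpen_iff_closed_generic Xk.property hsnd xt,
    FibreIsolated.isOpen_iff_localDim Xk.property hsnd xt, hxt ▸ FibreIsolated.localDim_iff_lqf hf hsq xt,
    fun hd => FibreIsolated.localDim_points_iff Xk.property hd hsnd xt, fun hd => ?_, fun hdY hdX =>
      FibreIsolated.localDim_fibre_iff hf hdY hdX _ ⟨x, hx⟩⟩
  have key : ∀ (y : ↥(AlgSp.Points.map f.hom ⁻¹' {AlgSp.Points.mk r})) (z : AlgSp.Points Xk.obj),
      AlgSp.Points.map fst.hom z = y.1 → (IsOpen {y} ↔ IsOpen {z}) :=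
    fun y z e => FibreIsolated.isOpen_fibre_iff hf hsq hd y z e
  refine ⟨key _ _ hxt, ?_⟩
  rw [← FibreIsolated.isOpen_iff_closed_generic Xk.property hsnd xt, ← key ⟨x, hx⟩ xt hxt]
  obtain ⟨q, Xq, fq, sq, h, hq, hsq', hh, -⟩ := FibreIsolated.exists_mono_fibre hd f (AlgSp.Points.mk r)
  obtain ⟨z, hz⟩ := h.surjective ⟨x, hx⟩
  have h1 := FibreIsolated.isOpen_iff_closed_generic Xq.property (FibreIsolated.lft_snd hf hsq') z
  rw [← hz, ← Set.image_singleton (f := h), h.isOpen_image, h.isClosed_image, h1]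
  refine and_congr_right fun _ => ⟨fun H z' hz' => h.injective (H _ (hz'.map h.continuous)), fun H y hy => ?_⟩
  obtain ⟨z', rfl⟩ := h.surjective y
  exact congrArg h (H z' (by simpa using hy.map h.symm.continuous))

end Groth.Agent.S10445
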