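import Groth.Agent.Lib.AlgSp.PointsUniv
import Groth.Agent.Lib.AlgSp.DiagAffine
import Groth.Agent.Lib.AlgSp.Space
import Groth.Statements.S9920
-- import your own Groth.Agent.* helpers here

set_option autoImplicit false
universe u
open CategoryTheory CategoryTheory.Limits AlgebraicGeometry
open AlgSp

namespace Groth.Agent.S9920

/-- Over a base scheme S with quasi-separated underlying space, a morphism from a quasi-compact
algebraic space to an algebraic space quasi-separated over S is quasi-compact. (The published
statement takes the target quasi-separated in the absolute sense; this row takes it quasi-separated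
over S and S quasi-separated. With quasi-separatedness over S the hypothesis on S is needed: for S
quasi-compact but not quasi-separated, an affine chart of h_S is not quasi-compact over h_S.) -/
theorem result {S : Scheme.{u}} [QuasiSeparatedSpace ↥S]
    {X Y : AlgSp.Space S} (f : X ⟶ Y) (hX : AlgSp.IsQuasiCompactSp X.obj) (hY : AlgSp.IsQuasiSeparatedSp Y.obj) :
    AlgSp.IsQuasiCompactMor f.hom := by
  refine GrothLib.AlgSp.isQuasiCompactMor_of_affine fun T hT g P fst snd sq => ?_
  obtain ⟨U, p, pe, ps, hU⟩ := hX
  have : CompactSpace ↥U.left := hU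
  obtain ⟨R, t, s, sqR⟩ := GrothLib.AlgSp.exists_isPullback_yon Y.property.diag (p ≫ f.hom) g
  have hqc : QuasiCompact (prod.lift t s).left := GrothLib.AlgSp.prop_prodLift_of_repWith_diag hY sqR
  have : CompactSpace ↥(U ⨯ T).left := by
    have := QuasiCompact.compactSpace_of_compactSpace (pullback.fst U.hom T.hom)
    exact (Over.prodLeftIsoPullback U T).inv.homeomorph.compactSpace
  have : CompactSpace ↥R.left := QuasiCompact.compactSpace_of_compactSpace (prod.lift t s).left
  let r : (AlgSp.yon S).obj R ⟶ P := sq.lift ((AlgSp.yon S).map t ≫ p) ((AlgSp.yon S).map s) (by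
    rw [Category.assoc, sqR.w])
  have sqr : IsPullback r ((AlgSp.yon S).map t) fst p := by
    refine IsPullback.of_right (h₁₂ := snd) (h₂₂ := f.hom) (v₁₃ := g) ?_ (sq.lift_fst _ _ _) sq.flip
    rw [sq.lift_snd]
    exact sqR.flip
  exact ⟨R, r, GrothLib.AlgSp.repWith_of_isPullback sqr.flip pe,
    GrothLib.AlgSp.repWith_of_isPullback sqr.flip ps, inferInstanceAs (CompactSpace ↥R.left)⟩

end Groth.Agent.S9920
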