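import Groth.Statements.S9995
import Groth.Agent.Lib.AlgSp.FiniteNhd
import Groth.Agent.Lib.AlgSp.FieldFibreDim
-- import your own Groth.Agent.* helpers here

set_option autoImplicit false
universe u
open CategoryTheory CategoryTheory.Limits AlgebraicGeometry
open AlgSp

namespace Groth.Agent.S9995

/-- For a morphism f : X ⟶ Y of algebraic spaces of finite type and a point y of |Y|, the set of points
of |X| over y where f is quasi-finite is finite (in the neighbourhood sense, through some chart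
diagram). -/
theorem result {S : Scheme.{u}} {X Y : AlgSp.Space S} (f : X ⟶ Y)
    (hf : AlgSp.IsFiniteTypeMor f.hom) (y : AlgSp.Points Y.obj) :
    {x : AlgSp.Points X.obj | AlgSp.Points.map f.hom x = y ∧
      AlgSp.HasAtMor (fun U _ h u => ∃ W : U.Opens, u ∈ W ∧ LocallyQuasiFinite (W.ι ≫ h) ∧
        LocallyOfFiniteType (W.ι ≫ h)) f.hom x}.Finite := by
  obtain ⟨r, rfl⟩ := AlgSp.Points.mk_surjective y
  have hY' := AlgSp.IsAlgSpace.yon_obj r.pt
  obtain ⟨Xk, fst, snd, sq⟩ : ∃ (Xk : AlgSp.Sp S) (fst : Xk ⟶ X.obj) (snd : Xk ⟶ (AlgSp.yon S).obj r.pt),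
      IsPullback fst snd f.hom r.toHom := ⟨_, _, _, IsPullback.of_hasPullback _ _⟩
  have hXk : AlgSp.IsAlgSpace Xk := GrothLib.AlgSp.isAlgSpace_pullback Y.property.diag X.property hY' sq
  haveI : IsAffine r.pt.left := inferInstanceAs (IsAffine (Spec (CommRingCat.of r.K)))
  haveI : Subsingleton ↥r.pt.left := inferInstanceAs (Subsingleton (PrimeSpectrum r.K))
  obtain ⟨W, w, hW, we, ws⟩ := GrothLib.AlgSp.exists_affine_surjective_chart hXk
    (hf.2 hY' (GrothLib.AlgSp.isQuasiCompactSp_yon r.pt) r.toHom fst snd sq)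
  haveI := hW
  obtain ⟨k, hk⟩ := (AlgSp.yon S).map_surjective (w ≫ snd)
  have hlft := GrothLib.AlgSp.EtLocal.locP_of_isPullback .lft X.property Y.property hY' sq hf.1
  have hc : w ≫ snd = (AlgSp.yon S).map k ≫ 𝟙 _ := by rw [Category.comp_id, hk]
  haveI : LocallyOfFiniteType k.left := hlft w (𝟙 _) k we (AlgSp.repWith_id _ _) hc
  haveI : IsLocallyNoetherian r.pt.left := inferInstanceAs (IsLocallyNoetherian (Spec (CommRingCat.of r.K)))
  haveI : IsLocallyNoetherian W.left := LocallyOfFiniteType.isLocallyNoetherian k.left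
  haveI : IsNoetherian W.left := {}
  let D : Set ↥W.left := {z | IsOpen ({z} : Set ↥W.left)}
  have hD : D.Finite := by
    haveI : DiscreteTopology ↥D := discreteTopology_iff_isOpen_singleton.2 fun z => by
      have h1 : (Subtype.val : ↥D → ↥W.left) ⁻¹' {z.1} = {z} := Set.ext fun a => by simp [Subtype.ext_iff]
      exact h1 ▸ z.2.preimage continuous_subtype_val
    exact IsCompact.finite (TopologicalSpace.NoetherianSpace.isCompact D) (isDiscrete_iff_discreteTopology.2 ‹_›)
  refine (hD.image (fun z => AlgSp.Points.map fst (AlgSp.Points.ofPt w z))).subset ?_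
  rintro x ⟨hx, hq⟩
  obtain ⟨p, rfl, -⟩ := GrothLib.AlgSp.exists_of_isPullback sq (x := x)
    (y := AlgSp.Points.ofScheme r.pt (IsLocalRing.closedPoint r.K))
    (by rw [← AlgSp.Points.ofPt_eq_map_ofScheme, AlgSp.Points.ofPt_toHom, hx])
  obtain ⟨z, rfl⟩ := GrothLib.AlgSp.surjective_ofPt_of_repWith ws p
  refine ⟨z, ?_, rfl⟩
  have h1 := (GrothLib.AlgSp.hasAtMor_lqf_iff X.property Y.property hf.1 _).1 hq
  rw [← GrothLib.AlgSp.fibreDim_le_zero_baseChange X.property Y.property hY' sq hf.1,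
    GrothLib.AlgSp.hasAtMor_fibreDim_iff hXk hY' we (AlgSp.repWith_id _ _) hc z (fun d => d ≤ 0),
    GrothLib.AlgSp.fibreDimAt_eq_localDim_of_subsingleton] at h1
  exact (GrothLib.AlgSp.isOpen_singleton_iff_localDim z).2 h1

end Groth.Agent.S9995
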