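import Groth.Statements.S10446
import Groth.Agent.Lib.AlgSp.FibreIsolated
import Groth.Agent.Lib.AlgSp.GrpLocus
import Groth.Agent.Lib.AlgSp.DiagChart
import Groth.Agent.Lib.AlgSp.MonoPoint
import Groth.Agent.Lib.AlgSp.AffineMor
import Groth.Agent.S9995
import Groth.Agent.S10398
import Groth.Agent.S9920
import Groth.Agent.S10174
-- import your own Groth.Agent.* helpers here

set_option autoImplicit false
universe u
open CategoryTheory CategoryTheory.Limits AlgebraicGeometry Topology TopologicalSpace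
open AlgSp GrothLib.AlgSp
set_option backward.isDefEq.respectTransparency false

namespace Groth.Agent.S10446

theorem exists_qc_open {S : Scheme.{u}} {X : AlgSp.Sp S} (hX : AlgSp.IsAlgSpace X) (F : Set (AlgSp.Points X))
    (hF : F.Finite) : ∃ A : Set (AlgSp.Points X), IsOpen A ∧ IsCompact A ∧ F ⊆ A := by
  obtain ⟨U, a, ha, has⟩ := hX.atlas
  have key : ∀ x ∈ F, ∃ A : Set (AlgSp.Points X), IsOpen A ∧ IsCompact A ∧ x ∈ A := fun x _ => by
    obtain ⟨u, rfl⟩ := surjective_ofPt_of_repWith has x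
    obtain ⟨O, huO, hO, b, hb, hv⟩ := exists_affine_subchart ha u
    have hopen := isOpenMap_ofPt_of_etale hb
    haveI : CompactSpace ↥(Over.mk (O.ι ≫ U.hom)).left := isCompact_iff_compactSpace.1 hO.isCompact
    exact ⟨Set.range (AlgSp.Points.ofPt b), hopen.isOpen_range, isCompact_range (AlgSp.Points.continuous_ofPt b),
      (⟨u, huO⟩ : O.toScheme), hv _⟩
  choose A hA hAc hx using key
  haveI := hF.to_subtype
  exact ⟨⋃ x : F, A x.1 x.2, isOpen_iUnion fun x => hA _ _, isCompact_iUnion fun x => hAc _ _,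
    fun x h => Set.mem_iUnion.2 ⟨⟨x, h⟩, hx x h⟩⟩

theorem isQuasiSeparatedMor_mono_comp {S : Scheme.{u}} {X' X Y : AlgSp.Sp S} (j : X' ⟶ X) [Mono j] (f : X ⟶ Y)
    (hf : AlgSp.IsQuasiSeparatedMor f) : AlgSp.IsQuasiSeparatedMor (j ≫ f) := by
  refine repWith_of_isPullback (f := pullback.diagonal f) (g' := j)
    (g := pullback.map (j ≫ f) (j ≫ f) f f j j (𝟙 Y) (Category.comp_id _) (Category.comp_id _)) ⟨⟨?_⟩, ⟨?_⟩⟩ hf
  · apply pullback.hom_ext <;> simp
  · refine PullbackCone.IsLimit.mk _ (fun c => c.snd ≫ pullback.fst _ _) (fun c => ?_) (fun c => ?_)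
      (fun c m h1 h2 => ?_)
    · have := congrArg (fun k => k ≫ pullback.fst f f) c.condition
      simpa using this.symm
    · have h1 := congrArg (fun k => k ≫ pullback.fst f f) c.condition
      have h2 := congrArg (fun k => k ≫ pullback.snd f f) c.condition
      simp only [Category.assoc, pullback.diagonal_fst, pullback.diagonal_snd, pullback.lift_fst, pullback.lift_snd,
        Category.comp_id] at h1 h2
      apply pullback.hom_ext
      · simp
      · rw [← cancel_mono j]
        simp only [Category.assoc, pullback.diagonal_snd_assoc]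
        rw [← h2, h1]
    · rw [← h2]
      simp

/-- (1) ⇔ (3): let S be a scheme with quasi-separated underlying space, f : X ⟶ Y a quasi-separated
morphism of algebraic spaces over S that is locally of finite type, with Y quasi-separated over S,
and y ∈ |Y| a point of codimension 0. Then |f|⁻¹(y) is finite if and only if f restricts to a finite
morphism X' ⟶ Y' between an open subspace X' of X containing the whole fibre |f|⁻¹(y) and an open
subspace Y' of Y through y. (The published statement assumes Y quasi-separated in the absolute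
sense; this row assumes S has quasi-separated underlying space and Y quasi-separated over S. Its
condition on the finiteness of |Spec k ×_Y X| is not part of this row.) -/
theorem result {S : Scheme.{u}} [QuasiSeparatedSpace ↥S] {X Y : AlgSp.Space S}
    (f : X ⟶ Y) (hqs : AlgSp.IsQuasiSeparatedMor f.hom) (hft : AlgSp.LocP @LocallyOfFiniteType f.hom)
    (hY : AlgSp.IsQuasiSeparatedSp Y.obj) (y : AlgSp.Points Y.obj)
    (hy : AlgSp.HasAt (fun U u => ringKrullDim ↥(U.presheaf.stalk u) = 0) Y.obj y) :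
    (AlgSp.Points.map f.hom ⁻¹' {y}).Finite ↔
      ∃ (X' Y' : AlgSp.Space S) (i : X' ⟶ X) (j : Y' ⟶ Y) (f' : X' ⟶ Y'), AlgSp.RepWith @IsOpenImmersion i.hom ∧
        AlgSp.RepWith @IsOpenImmersion j.hom ∧ f' ≫ j = i ≫ f ∧ y ∈ Set.range (AlgSp.Points.map j.hom) ∧
          AlgSp.Points.map f.hom ⁻¹' {y} ⊆ Set.range (AlgSp.Points.map i.hom) ∧ AlgSp.IsFiniteMor f'.hom := by
  have hdY : AlgSp.IsDecent Y.obj := isDecent_of_isQuasiSeparatedSp Y.property hY
  constructor
  swap
  · rintro ⟨X', Y', i, j, f', hi, hj, hc, hyj, hsub, hfin⟩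
    obtain ⟨y', rfl⟩ := hyj
    have hrep : AlgSp.RepWith @IsFinite f'.hom := isFiniteMor_iff.1 hfin
    have hlft : AlgSp.LocP @LocallyOfFiniteType f'.hom :=
      EtLocal.lft.locP_of_repWith Y'.property (repWith_mono hrep fun _ _ g (_ : IsFinite g) => inferInstance)
    have hqf : AlgSp.LocP (@LocallyQuasiFinite ⊓ @LocallyOfFiniteType) f'.hom :=
      (EtLocal.lqf.inf EtLocal.lft).locP_of_repWith Y'.property (repWith_mono hrep fun _ _ g (_ : IsFinite g) =>
        ⟨inferInstance, inferInstance⟩)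
    have hqc : AlgSp.IsQuasiCompactMor f'.hom :=
      isQuasiCompactMor_of_repWith (repWith_mono hrep fun _ _ g (_ : IsFinite g) => inferInstance)
    have h1 : (AlgSp.Points.map f'.hom ⁻¹' {y'}).Finite := by
      refine (Groth.Agent.S9995.result f' ⟨hlft, hqc⟩ y').subset fun x hx => ⟨hx, ?_⟩
      exact (hasAtMor_lqf_iff X'.property Y'.property hlft x).2
        ((GrpLocus.lqf.iff_all X'.property Y'.property hlft).1 hqf x)
    refine (h1.image (AlgSp.Points.map i.hom)).subset fun x hx => ?_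
    obtain ⟨x', rfl⟩ := hsub hx
    refine ⟨x', ?_, rfl⟩
    haveI := mono_of_openImmersion hj
    refine injective_map_of_mono j.hom ?_
    rw [← AlgSp.Points.map_comp, show f'.hom ≫ j.hom = i.hom ≫ f.hom from congrArg (fun k => k.hom) hc,
      AlgSp.Points.map_comp]
    exact hx
  intro hfin
  have hdX : AlgSp.IsDecent X.obj :=
    isDecent_of_isQuasiSeparatedSp X.property (isQuasiSeparatedSp_of_mor hqs hY)
  have hqf : ∀ x : AlgSp.Points X.obj, AlgSp.Points.map f.hom x = y →
      AlgSp.HasAtMor (fun U _ h u => ∃ W : U.Opens, u ∈ W ∧ LocallyQuasiFinite (W.ι ≫ h) ∧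
        LocallyOfFiniteType (W.ι ≫ h)) f.hom x := by
    obtain ⟨q, Xq, fq, sq, h, hq, hsq', hh, hdec⟩ := FibreIsolated.exists_mono_fibre hdY f y
    haveI := hfin.to_subtype
    haveI : Finite (AlgSp.Points Xq.obj) := Finite.of_equiv _ h.symm.toEquiv
    haveI := FibreIsolated.discrete_of_finite Xq.property (hdec hdX) (FibreIsolated.lft_snd hft hsq')
    intro x hx
    exact (FibreIsolated.discrete_iff_forall hft hsq').1 inferInstance x (hx.trans hq.symm)
  obtain ⟨A, hA, hAc, hsub⟩ := exists_qc_open X.property _ hfin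
  let X₁ : AlgSp.Space S := ⟨_, isAlgSpace_openSub (F := X.obj) X.property hA⟩
  let j₁ : X₁ ⟶ X := ObjectProperty.homMk (openSubι X.obj A)
  have hj₁ : AlgSp.RepWith @IsOpenImmersion j₁.hom := repWith_openSubι hA
  haveI := mono_of_openImmersion hj₁
  have hX₁ : AlgSp.IsQuasiCompactSp X₁.obj := by
    refine (Groth.Agent.S10174.result X₁).2 (isCompact_univ_iff.1 ?_)
    have he : Topology.IsEmbedding (AlgSp.Points.map j₁.hom) :=
      (Topology.IsOpenEmbedding.of_continuous_injective_isOpenMap (AlgSp.Points.continuous_map _)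
        (injective_map_of_mono _)
        (isOpenMap_map_of_repWith (fun _ _ h (hh : IsOpenImmersion h) => h.isOpenEmbedding.isOpenMap) hj₁)).1
    rw [he.isCompact_iff, Set.image_univ]
    exact (range_openSubι (F := X.obj) (W := A)).symm ▸ hAc
  have hl₁ : AlgSp.LocP @LocallyOfFiniteType j₁.hom :=
    EtLocal.lft.locP_of_repWith X.property (repWith_mono hj₁ fun _ _ g (_ : IsOpenImmersion g) => inferInstance)
  have hft₁ : AlgSp.LocP @LocallyOfFiniteType (j₁ ≫ f).hom :=
    EtLocal.lft.locP_comp X₁.property X.property Y.property hl₁ hft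
  have hqf₁ : ∀ x : AlgSp.Points X₁.obj, AlgSp.Points.map (j₁ ≫ f).hom x = y →
      AlgSp.HasAtMor (fun U _ h u => ∃ W : U.Opens, u ∈ W ∧ LocallyQuasiFinite (W.ι ≫ h) ∧
        LocallyOfFiniteType (W.ι ≫ h)) (j₁ ≫ f).hom x := fun x hx => by
    obtain ⟨U, V, a, b, g, u, ha, hb, c, rfl⟩ := exists_chart_at X₁.property Y.property (j₁ ≫ f).hom x
    have ha' : AlgSp.RepWith @Etale (a ≫ j₁.hom) :=
      repWith_comp ha (repWith_mono hj₁ fun _ _ g (_ : IsOpenImmersion g) => inferInstance)
    have c' : (a ≫ j₁.hom) ≫ f.hom = (AlgSp.yon S).map g ≫ b := by rw [Category.assoc]; exact c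
    have h1 := (hasAtMor_lqf_iff X.property Y.property hft _).1
      (hqf (AlgSp.Points.ofPt (a ≫ j₁.hom) u) (by rw [← AlgSp.Points.map_ofPt, ← AlgSp.Points.map_comp]; exact hx))
    exact (hasAtMor_lqf_iff X₁.property Y.property hft₁ _).2
      ((hasAtMor_fibreDim_iff X₁.property Y.property ha hb c u (fun d => d ≤ 0)).2
        ((hasAtMor_fibreDim_iff X.property Y.property ha' hb c' u (fun d => d ≤ 0)).1 h1))
  obtain ⟨Y', X', j, fst, snd, hj, hy', sq, hfin'⟩ := Groth.Agent.S10398.result (j₁ ≫ f)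
    (isQuasiSeparatedMor_mono_comp j₁.hom f.hom hqs) ⟨hft₁, Groth.Agent.S9920.result (j₁ ≫ f) hX₁ hY⟩ y hy hqf₁
  have hsnd : AlgSp.RepWith @IsOpenImmersion snd.hom := repWith_of_isPullback sq hj
  refine ⟨X', Y', snd ≫ j₁, j, fst, repWith_comp hsnd hj₁, hj, ?_, hy', fun x hx => ?_, hfin'⟩
  · rw [Category.assoc]
    exact ObjectProperty.hom_ext _ sq.w
  · obtain ⟨x₁, hx₁⟩ : x ∈ Set.range (AlgSp.Points.map j₁.hom) :=
      (range_openSubι (F := X.obj) (W := A)).symm.subset (hsub hx)
    obtain ⟨z, hz⟩ := hy'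
    obtain ⟨p, -, hp⟩ := exists_of_isPullback sq (x := z) (y := x₁) (by
      rw [hz, show (j₁ ≫ f).hom = j₁.hom ≫ f.hom from rfl, AlgSp.Points.map_comp, hx₁]
      exact hx.symm)
    exact ⟨p, by rw [show (snd ≫ j₁).hom = snd.hom ≫ j₁.hom from rfl, AlgSp.Points.map_comp, hp, hx₁]⟩

end Groth.Agent.S10446
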