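import Groth.Agent.Lib.AlgSp.Dim
import Groth.Statements.S10448
-- import your own Groth.Agent.* helpers here

set_option autoImplicit false
universe u
open CategoryTheory CategoryTheory.Limits AlgebraicGeometry Topology TopologicalSpace
open AlgSp

namespace Groth.Agent.S10448

/-- For an integral morphism f : X ⟶ Y of algebraic spaces over a scheme S, the dimension of X is at
most the dimension of Y. -/
theorem result {S : Scheme.{u}} {X Y : AlgSp.Space S} (f : X ⟶ Y)
    (hf : AlgSp.IsIntegralMor f.hom) : AlgSp.dim X.obj ≤ AlgSp.dim Y.obj := by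
  obtain ⟨W, V, b, q, i, be, bs, qe, qs, -, hi⟩ :=
    GrothLib.AlgSp.exists_atlas_pair Y.property (GrothLib.AlgSp.isIntegralMor_iff.1 hf)
  rw [GrothLib.AlgSp.dim_eq_of_atlas X.property be bs, GrothLib.AlgSp.dim_eq_of_atlas Y.property qe qs]
  exact GrothLib.AlgSp.topologicalKrullDim_le_of_isIntegralHom i.left

end Groth.Agent.S10448
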