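import Groth.Agent.Lib.AlgSp.DimZero
import Groth.Statements.S10451
-- import your own Groth.Agent.* helpers here

set_option autoImplicit false
universe u
open CategoryTheory CategoryTheory.Limits AlgebraicGeometry Topology TopologicalSpace
open AlgSp

namespace Groth.Agent.S10451

/-- Let k be a field and X an algebraic space locally of finite type over k with dim X = 0. Then X is a
separated scheme and every quasi-compact open of X is affine. -/
theorem result (k : Type u) [Field k]
    (X : AlgSp.Space (Spec (CommRingCat.of k))) (p : X.obj ⟶ (AlgSp.yon (Spec (CommRingCat.of k))).obj (Over.mk (𝟙 _)))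
    (hp : AlgSp.LocP @LocallyOfFiniteType p) (hd : AlgSp.dim X.obj = 0) :
    ∃ (U : Over (Spec (CommRingCat.of k))) (_ : (AlgSp.yon (Spec (CommRingCat.of k))).obj U ≅ X.obj), U.left.IsSeparated ∧
      ∀ V : U.left.Opens, IsCompact (V : Set ↥U.left) → IsAffineOpen V := by
  exact GrothLib.AlgSp.exists_scheme_of_dim_zero X.property
    (GrothLib.AlgSp.isQuasiSeparatedSp_of_lft_field_dim_zero X.property hp hd) hd

end Groth.Agent.S10451
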