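import Groth.Agent.Lib.AlgSp.SchematicCodim
import Groth.Statements.S10453
-- import your own Groth.Agent.* helpers here

set_option autoImplicit false
universe u
open CategoryTheory CategoryTheory.Limits AlgebraicGeometry Topology TopologicalSpace
open AlgSp

namespace Groth.Agent.S10453

/-- Let X be a quasi-separated algebraic space over a quasi-separated scheme S and x a point of X of
codimension 0 (the local ring of X at x has dimension 0). Then some open subspace of X containing x
is a scheme. (The published statement allows any base scheme S and takes X quasi-separated in the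
absolute sense; this row asks S to be quasi-separated and X quasi-separated over S, which together
imply absolute quasi-separatedness.) -/
theorem result {S : Scheme.{u}} [QuasiSeparatedSpace S]
    (X : AlgSp.Space S) (hqs : AlgSp.IsQuasiSeparatedSp X.obj) (x : AlgSp.Points X.obj)
    (hx : AlgSp.HasAt (fun U u => ringKrullDim ↥(U.presheaf.stalk u) = 0) X.obj x) :
    ∃ (X' : AlgSp.Space S) (j : X' ⟶ X), AlgSp.RepWith @IsOpenImmersion j.hom ∧
      X'.obj.obj.IsRepresentable ∧ x ∈ Set.range (AlgSp.Points.map j.hom) := by
  obtain ⟨N, hN, hxN, hr⟩ := GrothLib.AlgSp.exists_schematic_nhd_of_codim_zero X.property hqs hx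
  refine ⟨⟨GrothLib.AlgSp.openSub X.obj N, GrothLib.AlgSp.isAlgSpace_openSub X.property hN⟩,
    ObjectProperty.homMk (GrothLib.AlgSp.openSubι X.obj N), GrothLib.AlgSp.repWith_openSubι hN, hr, ?_⟩
  show x ∈ Set.range (AlgSp.Points.map (GrothLib.AlgSp.openSubι X.obj N))
  rw [GrothLib.AlgSp.range_openSubι]
  exact hxN

end Groth.Agent.S10453
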