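import Groth.Statements.S10458
import Groth.Agent.S10400
import Groth.Agent.S10394
import Groth.Agent.S10381
import Groth.Agent.S10423
import Groth.Agent.S10339
import Groth.Agent.S10338
import Groth.Agent.S10277
import Groth.Agent.S10276
import Groth.Agent.Lib.AlgSp.RedInduced
import Groth.Agent.Lib.AlgSp.UnivClosed
import Groth.Agent.Lib.AlgSp.PointsUniv
import Groth.Agent.Lib.AlgSp.AffineMor
import Groth.Agent.Lib.AlgSp.ClosedSub
-- import your own Groth.Agent.* helpers here

set_option autoImplicit false
universe u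
open CategoryTheory CategoryTheory.Limits AlgebraicGeometry Topology TopologicalSpace
open AlgSp GrothLib.AlgSp
set_option backward.isDefEq.respectTransparency false

namespace Groth.Agent.S10458

/-- Suppose f : X ⟶ Y is a morphism of algebraic spaces over a scheme S that is proper and surjective,
with Y integral. Then there is an integral closed subspace X' of X such that the restriction X' ⟶ Y
is an alteration: proper and dominant with X' integral, and finite over some nonempty open subspace
of Y. -/
theorem result {S : Scheme.{u}} {X Y : AlgSp.Space S} (f : X ⟶ Y)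
    (hf : AlgSp.IsProperMor f.hom) (hs : AlgSp.IsSurjectiveMor f.hom) (hY : AlgSp.IsIntegralSp Y.obj) :
    ∃ (X' : AlgSp.Space S) (i : X' ⟶ X), AlgSp.RepWith @IsClosedImmersion i.hom ∧ AlgSp.IsIntegralSp X'.obj ∧
      AlgSp.IsProperMor (i ≫ f).hom ∧ AlgSp.IsDominantMor (i ≫ f).hom ∧
      ∃ (V : AlgSp.Space S) (j : V ⟶ Y), AlgSp.RepWith @IsOpenImmersion j.hom ∧ Nonempty (AlgSp.Points V.obj) ∧
        ∀ (P : AlgSp.Space S) (fst : P ⟶ V) (snd : P ⟶ X'), IsPullback fst.hom snd.hom j.hom (i ≫ f).hom →
          AlgSp.IsFiniteMor fst.hom := by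
  have hXd : IsDecent X.obj := Groth.Agent.S10381.result f
    ((Groth.Agent.S10423.result f).2 (isQuasiSeparatedMor_of_isSeparatedMor hf.1)) hY.2.1
  haveI := hY.2.2
  haveI := Groth.Agent.S10339.result Y hY.2.1
  haveI := Groth.Agent.S10338.result Y hY.2.1
  haveI := Groth.Agent.S10338.result X hXd
  let η : Points Y.obj := genericPoint (Points Y.obj)
  have hη : IsGenericPoint η Set.univ := genericPoint_spec _
  have hcomp : irreducibleComponents (Points Y.obj) = {Set.univ} := irreducibleComponents_eq_singleton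
  have hY0 : ∀ y : Points Y.obj, HasAt (fun U u => ringKrullDim ↥(U.presheaf.stalk u) = 0) Y.obj y ↔ y = η := by
    intro y
    rw [← Groth.Agent.S10394.result Y hY.2.1 y, hcomp]
    simp only [Set.mem_singleton_iff, exists_eq_left]
    exact ⟨fun h => h.eq hη, fun h => h ▸ hη⟩
  -- the fibre over the generic point
  obtain ⟨K, _, str, g, hg⟩ := exists_ofPt η
  have sqP := IsPullback.of_hasPullback f.hom g
  haveI : CompactSpace ↥(Over.mk str).left := inferInstanceAs (CompactSpace ↥(Spec (CommRingCat.of K)))
  haveI : CompactSpace (Points (pullback f.hom g)) := compactSpace_points_of_isQuasiCompactSp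
    (hf.2.1.2 (IsAlgSpace.yon_obj (S := S) (Over.mk str)) (isQuasiCompactSp_yon (Over.mk str)) g _ _ sqP)
  let F : Set (Points X.obj) := Set.range (Points.map (pullback.fst f.hom g))
  have hF : ∀ z, z ∈ F ↔ Points.map f.hom z = η := by
    intro z
    constructor
    · rintro ⟨p, rfl⟩
      rw [← Points.map_comp, sqP.w, Points.map_comp]
      obtain ⟨t, ht⟩ := (Points.schemeHomeo (Over.mk str)).surjective (Points.map (pullback.snd f.hom g) p)
      haveI : Subsingleton ↥(Spec (CommRingCat.of K)) := inferInstanceAs (Subsingleton (PrimeSpectrum K))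
      rw [← ht, ← hg, Points.ofPt_eq_map_ofScheme]
      congr 1
      rw [show t = IsLocalRing.closedPoint K from Subsingleton.elim (α := ↥(Spec (CommRingCat.of K))) _ _]
      rfl
    · intro hz
      obtain ⟨p, hp, -⟩ := exists_of_isPullback sqP (x := z)
        (y := Points.schemeHomeo (Over.mk str) (IsLocalRing.closedPoint K)) (by
          rw [hz, ← hg, Points.ofPt_eq_map_ofScheme]; rfl)
      exact ⟨p, hp⟩
  haveI : CompactSpace F := isCompact_iff_compactSpace.1 (isCompact_range (Points.continuous_map _))
  obtain ⟨z₀, hz₀⟩ := hs η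
  obtain ⟨⟨x, hxF⟩, -, hxc⟩ := (isClosed_univ (X := F)).exists_closed_singleton ⟨⟨z₀, (hF z₀).2 hz₀⟩, trivial⟩
  have hxmax : ∀ z, x ⤳ z → Points.map f.hom z = η → z = x := by
    intro z hxz hz
    have h' : (⟨x, hxF⟩ : F) ⤳ ⟨z, (hF z).2 hz⟩ := Topology.IsInducing.subtypeVal.specializes_iff.1 hxz
    have := h'.mem_closed hxc (Set.mem_singleton _)
    exact congrArg Subtype.val (Set.mem_singleton_iff.1 this)
  -- the reduced closed subspace on the closure of `x`
  obtain ⟨Z, i₀, hZ, hi, hir, hred⟩ := exists_isRedInduced_sp X.property (T := closure {x}) isClosed_closure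
  let X' : Space S := ⟨Z, hZ⟩
  let i : X' ⟶ X := ObjectProperty.homMk i₀
  have hprop : IsProperMor (i ≫ f).hom :=
    Groth.Agent.S10276.result i f (Groth.Agent.S10277.result i hi) hf
  have hX'd : IsDecent X'.obj := Groth.Agent.S10381.result i
    ((Groth.Agent.S10423.result i).1 hi.1) hXd
  haveI := Groth.Agent.S10338.result X' hX'd
  have hemb : Topology.IsEmbedding (Points.map i₀) := (isClosedEmbedding_of_closedImmersion hi).isEmbedding
  obtain ⟨x', hx'⟩ : x ∈ Set.range (Points.map i₀) := hir ▸ subset_closure rfl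
  have hgen : IsGenericPoint x' Set.univ := by
    rw [isGenericPoint_iff_specializes]
    intro z
    refine ⟨fun _ => trivial, fun _ => hemb.isInducing.specializes_iff.1 ?_⟩
    rw [hx', specializes_iff_mem_closure, ← hir]
    exact Set.mem_range_self _
  have hirr : IrreducibleSpace (Points X'.obj) :=
    (irreducibleSpace_def _).2 hgen.isIrreducible
  haveI := hirr
  have hfx : Points.map f.hom x = η := (hF x).1 hxF
  have hX'0 : ∀ z : Points X'.obj,
      HasAt (fun U u => ringKrullDim ↥(U.presheaf.stalk u) = 0) X'.obj z ↔ z = x' := by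
    intro z
    rw [← Groth.Agent.S10394.result X' hX'd z, irreducibleComponents_eq_singleton]
    simp only [Set.mem_singleton_iff, exists_eq_left]
    exact ⟨fun h => h.eq hgen, fun h => h ▸ hgen⟩
  have himg : ∀ z : Points X'.obj, Points.map (i ≫ f).hom z = η ↔ z = x' := by
    intro z
    change Points.map (i₀ ≫ f.hom) z = η ↔ _
    rw [Points.map_comp]
    constructor
    · intro h
      refine hemb.injective ((hxmax _ ?_ h).trans hx'.symm)
      rw [specializes_iff_mem_closure, ← hir]
      exact Set.mem_range_self _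
    · rintro rfl
      rw [hx', hfx]
  have hfin0 : ∀ (W : Sp S) (w : Points W),
      {y : Points W | y = w}.Finite := fun _ w => by simp
  obtain ⟨V, P₀, j, fst₀, snd₀, hj, hd, hsq, hfin⟩ := Groth.Agent.S10400.result (i ≫ f) hprop.2.1.1 hY.2.1
    ((hfin0 _ x').subset fun z hz => (hX'0 z).1 hz) ((hfin0 _ η).subset fun y hy => (hY0 y).1 hy)
    (fun z => by rw [hX'0, hY0, himg]) (.inr hprop.1)
  refine ⟨X', i, hi, ⟨hred, hX'd, hirr⟩, hprop, ?_, V, j, hj, ?_, ?_⟩
  · intro y
    refine closure_mono (Set.singleton_subset_iff.2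
      (show η ∈ Set.range (Points.map (i ≫ f).hom) from ⟨x', (himg x').2 rfl⟩)) ?_
    rw [hη.def]; trivial
  · obtain ⟨_, v, rfl⟩ : (Set.range (Points.map j.hom)).Nonempty := hd.nonempty
    exact ⟨v⟩
  · intro P fst snd sq
    rw [← sq.isoIsPullback_hom_fst _ _ hsq]
    rw [isFiniteMor_iff] at hfin ⊢
    exact repWith_comp (repWith_iso _) hfin
end Groth.Agent.S10458
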