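import Groth.Statements.S1046
import Groth.Agent.Lib.OX.RgammaZ

set_option autoImplicit false
universe u
open CategoryTheory CategoryTheory.Limits AlgebraicGeometry
attribute [local instance] HasDerivedCategory.standard
open Perf

namespace Groth.Agent.S1046

/-- Let U ⊆ X be an open subscheme with quasi-compact inclusion and T = X ∖ U. Assuming O_X-modules have
enough injectives (true, not recorded), for every bounded below E ∈ D(O_X) with quasi-coherent
cohomology sheaves, the derived sections with support RΓ_T(E) (right derived functor of F ↦ ker(F →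
j_*(F|_U))) has quasi-coherent cohomology sheaves, all supported on T. -/
theorem result (X : Scheme.{u}) (U : X.Opens) [QuasiCompact U.ι] [EnoughInjectives X.Modules]
    (E : DerivedCategory.Plus X.Modules) (hE : DCoh.IsQCohD E.obj) :
    DCoh.IsQCohD ((DCoh.RgammaZPlus U.ι).obj E).obj ∧
    ∀ i : ℤ, CohB1.support (DCoh.HD ((DCoh.RgammaZPlus U.ι).obj E).obj i) ⊆ (U : Set X)ᶜ := by
  have : CxOX.HasRgammaZ U.ι := GrothLib.KInj.hasRightDerivedFunctor _
  obtain ⟨n, hn⟩ := E.property
  have : E.IsGE n := (DerivedCategory.Plus.isGE_ι_obj_iff E n).1 hn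
  obtain ⟨L, hL, ⟨e⟩⟩ := DerivedCategory.Plus.exists_injective_nonempty_iso E n
  let K := (HomotopyCategory.Plus.quotient X.Modules).obj
    ((InjectiveObject.ι X.Modules).mapCochainComplexPlus.obj L)
  let I := ((InjectiveObject.ι X.Modules).mapHomologicalComplex (ComplexShape.up ℤ)).obj L.obj
  have h1 : IsIso ((DCoh.gammaZ U.ι).rightDerivedFunctorPlusUnit.app K) :=
    inferInstanceAs (IsIso ((DCoh.gammaZ U.ι).rightDerivedFunctorPlusUnit.app
      ((HomotopyCategory.Plus.quotient X.Modules).obj ((InjectiveObject.ι X.Modules).mapCochainComplexPlus.obj L))))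
  have h2 := GrothLib.OX.isIso_rgammaZ_unit U.ι (CochainComplex.IsKInjective.rightOrthogonal I)
  let r : ((DCoh.RgammaZPlus U.ι).obj E).obj ≅ (CxOX.RgammaZ U.ι).obj E.obj :=
    DerivedCategory.Plus.ι.mapIso (((DCoh.RgammaZPlus U.ι).mapIso e).symm ≪≫ (@asIso _ _ _ _ _ h1).symm) ≪≫
      (@asIso _ _ _ _ _ h2 : (CxOX.gammaZKh U.ι).obj ((HomotopyCategory.quotient _ _).obj I) ≅
        (CxOX.RgammaZ U.ι).obj (DerivedCategory.Qh.obj ((HomotopyCategory.quotient _ _).obj I))) ≪≫
      (CxOX.RgammaZ U.ι).mapIso (DerivedCategory.Plus.ι.mapIso e)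
  refine ⟨fun q => GrothLib.OX.isQCoh_of_iso ((DerivedCategory.homologyFunctor X.Modules q).mapIso r.symm) (GrothLib.OX.isQCohD_RgammaZ U.ι hE q), fun i => ?_⟩
  have h3 := (GrothLib.OX.isZero_resD_iff_support U.ι _).1
    ((GrothLib.OX.isZero_resD_RgammaZ U.ι E.obj).of_iso ((GrothLib.OX.resD U.ι).mapIso r)) i
  rwa [Scheme.Opens.range_ι] at h3

end Groth.Agent.S1046
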