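import Groth.Statements.S10460
import Groth.Agent.S10459
import Groth.Agent.Lib.AlgSp.DecentTop
import Groth.Agent.Lib.AlgSp.Dim
import Groth.Agent.Lib.Equidim6.CondT
import Groth.Agent.Lib.EtFibre.Basic
-- import your own Groth.Agent.* helpers here

set_option autoImplicit false
universe u
open CategoryTheory CategoryTheory.Limits AlgebraicGeometry Topology TopologicalSpace
open AlgSp GrothLib.AlgSp
set_option backward.isDefEq.respectTransparency false

namespace Groth.Agent.S10460

theorem localDim_le_dim {T : Type u} [TopologicalSpace T] (t : T) : FlatMor.localDim T t ≤ topologicalKrullDim T := by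
  unfold FlatMor.localDim
  refine (iInf_le _ ⟨(⊤ : TopologicalSpace.Opens T), trivial⟩).trans ?_
  exact Topology.IsInducing.topologicalKrullDim_le Topology.IsInducing.subtypeVal

/-- Let f : X ⟶ Y be a proper dominant morphism between integral algebraic spaces over a scheme S, with
Y locally Noetherian, and let r be the transcendence degree of the generic point of X over the
generic point of Y. Then dim X = dim Y + r. -/
theorem result {S : Scheme.{u}} {X Y : AlgSp.Space S} (f : X ⟶ Y)
    (hY : AlgSp.IsLocNoethSp Y.obj) (hXi : AlgSp.IsIntegralSp X.obj) (hYi : AlgSp.IsIntegralSp Y.obj)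
    (hd : AlgSp.IsDominantMor f.hom) (hp : AlgSp.IsProperMor f.hom)
    (x : AlgSp.Points X.obj) (hx : IsGenericPoint x (Set.univ : Set (AlgSp.Points X.obj))) (r : ℕ)
    (hr : AlgSp.HasAtMor (fun _ _ h u => Dual3.resTrdeg h u = (r : Cardinal.{u})) f.hom x) :
    AlgSp.dim X.obj = AlgSp.dim Y.obj + ((r : ℕ∞) : WithBot ℕ∞) := by
  refine le_antisymm (Groth.Agent.S10459.result f hY hXi hYi hd hp.2.1.1 x hx r hr) ?_
  obtain ⟨U, V, a, b, h, u, ha, hb, c, rfl, hu⟩ := hr
  haveI : LocallyOfFiniteType h.left := hp.2.1.1 a b h ha hb c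
  haveI := t0Space_of_isDecent X.property hXi.2.1
  haveI := quasiSober_of_isDecent X.property hXi.2.1
  haveI := t0Space_of_isDecent Y.property hYi.2.1
  haveI := quasiSober_of_isDecent Y.property hYi.2.1
  have hcl : IsClosedMap (Points.map f.hom) := hp.2.2 Y.property (𝟙 _) (𝟙 _) f.hom IsPullback.of_id_fst
  have hfc := Points.continuous_map f.hom
  have hη : ∀ y : Points Y.obj, Points.map f.hom (Points.ofPt a u) ⤳ y := fun y => by
    rw [specializes_iff_mem_closure]
    refine closure_minimal ?_ isClosed_closure (hd.closure_eq.ge (Set.mem_univ y))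
    rintro _ ⟨x', rfl⟩
    exact specializes_iff_mem_closure.1 ((hx.specializes (Set.mem_univ x')).map hfc)
  have hmax : ∀ z : U.left, z ⤳ u → z = u := fun z hz =>
    eq_of_specializes_ofPt X.property hXi.2.1 ha z u hz
      ((hz.map (Points.continuous_ofPt a)).antisymm (hx.specializes (Set.mem_univ _))).eq
  obtain ⟨n, hn, hfd⟩ := GrothLib.Equidim6.resTrdeg_eq_fibreDimAt_of_maximal h.left u hmax
  obtain rfl : n = r := Nat.cast_injective (R := Cardinal.{u}) (hn.symm.trans hu)
  let F := h.left.fiber (h.left u)
  have hF : ((n : ℕ∞) : WithBot ℕ∞) ≤ topologicalKrullDim ↥F := by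
    rw [show ((n : ℕ∞) : WithBot ℕ∞) = (n : WithBot ℕ∞) from rfl, ← hfd]
    exact localDim_le_dim _
  let φ : ↥F → Points X.obj := fun z => Points.ofPt a (h.left.fiberι (h.left u) z)
  have hφc : Continuous φ := (Points.continuous_ofPt a).comp (h.left.fiberι (h.left u)).continuous
  have hφη : ∀ z, Points.map f.hom (φ z) = Points.map f.hom (Points.ofPt a u) := fun z => by
    show Points.map f.hom (Points.ofPt a _) = _
    rw [Points.map_ofPt, Points.map_ofPt, c, ofPt_map_comp, ofPt_map_comp]
    congr 1
    exact (h.left.range_fiberι (h.left u)).le ⟨z, rfl⟩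
  letI := specializationOrder (Points X.obj)
  letI := specializationOrder (Points Y.obj)
  letI := specializationOrder ↥F
  have hφm : StrictMono φ := fun z z' hzz => lt_of_le_of_ne (Specializes.map hzz.le hφc) fun he => hzz.ne
    ((h.left.fiberι (h.left u)).isEmbedding.injective (eq_of_specializes_ofPt X.property hXi.2.1 ha _ _
      (Specializes.map hzz.le (h.left.fiberι (h.left u)).continuous) he.symm)).symm
  rw [GrothLib.EtFibre.topologicalKrullDim_eq_krullDim] at hF
  obtain ⟨q, hq⟩ := (Order.le_krullDim_iff (n := n)).1 hF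
  rw [← topologicalKrullDim_points X.property hXi.2.1, ← topologicalKrullDim_points Y.property hYi.2.1,
    GrothLib.EtFibre.topologicalKrullDim_eq_krullDim, GrothLib.EtFibre.topologicalKrullDim_eq_krullDim]
  let η := Points.map f.hom (Points.ofPt a u)
  have hY' : Order.krullDim (Points Y.obj) ≤ (Order.height η : WithBot ℕ∞) :=
    iSup_le fun p => WithBot.coe_le_coe.2 ((Order.length_le_height_last (p := p)).trans (Order.height_mono (hη _)))
  have key : ∀ i : Fin (q.length + 1), Order.height η + (i : ℕ) ≤ Order.height (φ (q i)) := by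
    intro i
    induction i using Fin.induction with
    | zero =>
      rw [Fin.val_zero, Nat.cast_zero, add_zero]
      show Order.height η ≤ Order.height (φ (q 0))
      rw [show η = Points.map f.hom (φ (q 0)) from (hφη _).symm]
      exact GrothLib.AlgSp.height_le_of_specializingMap hfc hcl.specializingMap _
    | succ i ih =>
      rw [Fin.val_succ, Nat.cast_add, Nat.cast_one, ← add_assoc]
      exact (add_le_add_left ih 1).trans (Order.height_add_one_le (hφm (q.step i)))
  refine (add_le_add hY' le_rfl).trans ?_
  rw [← WithBot.coe_add]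
  have := key (Fin.last q.length)
  rw [Fin.val_last] at this
  rw [← hq]
  exact (WithBot.coe_le_coe.2 this).trans (Order.height_le_krullDim _)

end Groth.Agent.S10460
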