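import Groth.Statements.S10461
import Groth.Agent.Lib.AlgSp.FpqcAffine
import Groth.Agent.Lib.AlgSp.OpenSub
import Groth.Agent.Lib.AlgSp.Glue
import Groth.Agent.Lib.AlgSp.FieldBase
import Groth.Agent.Lib.AlgSp.PointsUniv
import Groth.Agent.Lib.AlgSp.Immersion
import Mathlib.AlgebraicGeometry.Morphisms.UniversallyInjective
import Mathlib.FieldTheory.PurelyInseparable.Basic
-- import your own Groth.Agent.* helpers here

set_option autoImplicit false
universe u
open CategoryTheory CategoryTheory.Limits AlgebraicGeometry Topology TopologicalSpace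
open AlgSp GrothLib.AlgSp
set_option backward.isDefEq.respectTransparency false

namespace Groth.Agent.S10461

/-- Let k be a field, X an algebraic space over k and k'/k a purely inseparable field extension. If
X_{k'} is a scheme, then X is a scheme. -/
theorem result (k : Type u) [Field k] (X : AlgSp.Space (Spec (CommRingCat.of k)))
    (k' : Type u) [Field k'] [Algebra k k'] [IsPurelyInseparable k k']
    (h : (X.obj ⨯ (AlgSp.yon (Spec (CommRingCat.of k))).obj (Over.mk (Spec.map (CommRingCat.ofHom (algebraMap k k'))))).obj.IsRepresentable) : X.obj.obj.IsRepresentable := by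
  let B : Scheme.{u} := Spec (CommRingCat.of k)
  let c : Over.mk (Spec.map (CommRingCat.ofHom (algebraMap k k'))) ⟶ Over.mk (𝟙 B) :=
    Over.homMk (Spec.map (CommRingCat.ofHom (algebraMap k k'))) (Category.comp_id _)
  let F' := (yon B).obj (Over.mk (Spec.map (CommRingCat.ofHom (algebraMap k k'))))
  have hT : IsTerminal ((yon B).obj (Over.mk (𝟙 B))) := IsTerminal.isTerminalObj (yon B) _ Over.mkIdTerminal
  have sqX : IsPullback (prod.fst : X.obj ⨯ F' ⟶ X.obj) prod.snd (hT.from X.obj) ((yon B).map c) := by
    rw [hT.hom_ext ((yon B).map c) (hT.from F')]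
    exact IsPullback.of_is_product' (prodIsProd X.obj F') hT
  haveI : UniversallyOpen c.left := universallyOpen_to_field (Spec.map (CommRingCat.ofHom (algebraMap k k')))
  haveI : Flat c.left := flat_to_field (Spec.map (CommRingCat.ofHom (algebraMap k k')))
  haveI : Subsingleton ↥(Over.mk (𝟙 B)).left := inferInstanceAs (Subsingleton (PrimeSpectrum k))
  haveI : Nonempty ↥(Over.mk (Spec.map (CommRingCat.ofHom (algebraMap k k')))).left :=
    inferInstanceAs (Nonempty (PrimeSpectrum k'))
  haveI : Surjective c.left := ⟨fun x => ⟨Classical.arbitrary _, Subsingleton.elim _ _⟩⟩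
  haveI : UniversallyInjective c.left := by
    refine ((tfae_universallyInjective _).out 0 1).2 ?_
    intro K instK g₁ g₂ hg
    obtain ⟨φ₁, rfl⟩ := Spec.map_surjective g₁
    obtain ⟨φ₂, rfl⟩ := Spec.map_surjective g₂
    replace hg : Spec.map φ₁ ≫ Spec.map (CommRingCat.ofHom (algebraMap k k')) =
      Spec.map φ₂ ≫ Spec.map (CommRingCat.ofHom (algebraMap k k')) := hg
    simp only [← Spec.map_comp] at hg
    have h := congrArg CommRingCat.Hom.hom (Spec.map_injective hg)
    exact congrArg Spec.map (CommRingCat.hom_ext (IsPurelyInseparable.injective_comp_algebraMap k k' K h))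
  have hinj : Function.Injective (Points.map (prod.fst : X.obj ⨯ F' ⟶ X.obj)) :=
    injective_map_of_repWith (fun _ _ f (hf : UniversallyInjective f) => f.injective)
      (repWith_of_isPullback sqX.flip ((repWith_yon_map_iff _ _).2 ‹UniversallyInjective c.left›))
  have hopen : IsOpenMap (Points.map (prod.fst : X.obj ⨯ F' ⟶ X.obj)) :=
    isOpenMap_map_of_repWith (fun _ _ f (hf : UniversallyOpen f) => f.isOpenMap)
      (repWith_of_isPullback sqX.flip ((repWith_yon_map_iff _ _).2 ‹UniversallyOpen c.left›))
  have hsurj : ∀ x, ∃ x', Points.map (prod.fst : X.obj ⨯ F' ⟶ X.obj) x' = x := fun x => by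
    obtain ⟨y, hy⟩ : ∃ y, Points.map ((yon B).map c) y = Points.map (hT.from X.obj) x :=
      (surjective_map_yon_iff c).2 c.left.surjective _
    obtain ⟨x', hx', -⟩ := exists_of_isPullback sqX hy.symm
    exact ⟨x', hx'⟩
  obtain ⟨T, ⟨ρ⟩⟩ := h.has_representation
  let iT : (yon B).obj T ≅ X.obj ⨯ F' := isoOfRepresentableBy ρ
  have key : ∀ x : Points X.obj, ∃ (W : Over B) (f : (yon B).obj W ⟶ X.obj),
      RepWith @IsOpenImmersion f ∧ x ∈ Set.range (Points.map f) := by
    intro x
    obtain ⟨x', rfl⟩ := hsurj x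
    obtain ⟨p, hp⟩ : ∃ p, Points.map iT.hom p = x' :=
      ⟨Points.map iT.inv x', by rw [← Points.map_comp, iT.inv_hom_id]; exact Points.map_id _⟩
    obtain ⟨q, rfl⟩ := (Points.schemeEquiv T).surjective p
    obtain ⟨A, hA, hqA, -⟩ := exists_isAffineOpen_mem_and_subset (U := (⊤ : T.left.Opens)) (x := q) trivial
    let V : Over B := Over.mk (A.ι ≫ T.hom)
    haveI : IsAffine V.left := hA
    let i : V ⟶ T := Over.homMk A.ι rfl
    let g : (yon B).obj V ⟶ X.obj ⨯ F' := (yon B).map i ≫ iT.hom
    have hg : RepWith @IsOpenImmersion g :=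
      repWith_comp ((repWith_yon_map_iff _ _).2 (inferInstanceAs (IsOpenImmersion A.ι))) (repWith_iso _)
    let O := Points.map prod.fst '' Set.range (Points.map g)
    have hO : IsOpen O := hopen _ (isOpen_range_openImmersion hg)
    let sqW := IsPullback.of_hasPullback (openSubι X.obj O) (prod.fst : X.obj ⨯ F' ⟶ X.obj)
    have hW' : RepWith @IsOpenImmersion (pullback.snd (openSubι X.obj O) (prod.fst : X.obj ⨯ F' ⟶ X.obj)) :=
      repWith_of_isPullback sqW (repWith_openSubι hO)
    have hrange : Set.range (Points.map g) =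
        Set.range (Points.map (pullback.snd (openSubι X.obj O) (prod.fst : X.obj ⨯ F' ⟶ X.obj))) := by
      ext z
      constructor
      · intro hz
        obtain ⟨w, hw⟩ : Points.map prod.fst z ∈ Set.range (Points.map (openSubι X.obj O)) := by
          rw [range_openSubι]; exact ⟨z, hz, rfl⟩
        obtain ⟨y, -, hy⟩ := exists_of_isPullback sqW hw
        exact ⟨y, hy⟩
      · rintro ⟨y, rfl⟩
        have : Points.map (openSubι X.obj O) (Points.map (pullback.fst _ _) y) ∈ O :=
          (range_openSubι (F := X.obj) (W := O)).subset ⟨_, rfl⟩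
        rw [← Points.map_comp, sqW.w, Points.map_comp] at this
        obtain ⟨z, hz, hzy⟩ := this
        exact hinj hzy ▸ hz
    obtain ⟨eV, heV⟩ := exists_iso_of_range_eq hg hW' hrange
    have sqWX : IsPullback (pullback.fst (openSubι X.obj O) prod.fst)
        (pullback.snd (openSubι X.obj O) (prod.fst : X.obj ⨯ F' ⟶ X.obj) ≫ prod.snd)
        (openSubι X.obj O ≫ hT.from X.obj) ((yon B).map c) := sqW.paste_vert sqX
    have sqV : IsPullback (eV.hom ≫ pullback.fst (openSubι X.obj O) prod.fst) (g ≫ prod.snd)
        (openSubι X.obj O ≫ hT.from X.obj) ((yon B).map c) := by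
      refine sqWX.of_iso eV.symm (Iso.refl _) (Iso.refl _) (Iso.refl _) ?_ ?_ ?_ ?_ <;> simp [← heV]
    obtain ⟨l, hl⟩ := (yon B).map_surjective (g ≫ prod.snd)
    have hOs : IsAlgSpace (openSub X.obj O) := isAlgSpace_openSub X.property hO
    have hl' : IsQuasiAffineMor ((yon B).map l) := by
      intro Z hZ m
      obtain ⟨m, rfl⟩ := (yon B).map_surjective m
      haveI : IsAffine (pullback l m).left := by
        haveI : IsAffineHom l.left := by
          haveI : IsAffine (Over.mk (Spec.map (CommRingCat.ofHom (algebraMap k k')))).left :=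
            inferInstanceAs (IsAffine (Spec (CommRingCat.of k')))
          infer_instance
        haveI : IsAffineHom (pullback.snd l m).left :=
          MorphismProperty.of_isPullback (isPullback_left (IsPullback.of_hasPullback l m)) ‹IsAffineHom l.left›
        exact isAffine_of_isAffineHom (pullback.snd l m).left
      exact ⟨_, pullback.snd l m, _, (IsPullback.of_hasPullback l m).map (yon B), inferInstance⟩
    have hrep : Representable (openSubι X.obj O ≫ hT.from X.obj) := by
      refine representable_of_fpqcLoc_quasiAffine hOs (IsAlgSpace.yon_obj _) fun Z hZ m => ?_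
      obtain ⟨m, rfl⟩ := (yon B).map_surjective m
      let W₀ := pullback c m
      have sq₀ := isPullback_left (IsPullback.of_hasPullback c m)
      haveI : Flat (pullback.snd c m).left := MorphismProperty.of_isPullback sq₀ ‹Flat c.left›
      haveI : Surjective (pullback.snd c m).left := MorphismProperty.of_isPullback sq₀ ‹Surjective c.left›
      haveI : IsAffine W₀.left := by
        haveI : IsAffineHom c.left := inferInstanceAs (IsAffineHom (Spec.map (CommRingCat.ofHom (algebraMap k k'))))
        haveI : IsAffineHom (pullback.snd c m).left := MorphismProperty.of_isPullback sq₀ ‹IsAffineHom c.left›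
        exact isAffine_of_isAffineHom (pullback.snd c m).left
      refine ⟨1, fun _ => W₀, fun _ => pullback.snd c m, fun _ => ‹_›, fun _ => ‹_›,
        fun z => ⟨0, (pullback.snd c m).left.surjective z⟩, fun _ P p₁ p₂ sqP => ?_⟩
      rw [← Functor.map_comp, ← pullback.condition, Functor.map_comp] at sqP
      rw [← hl] at sqV
      obtain ⟨r, hr₁, hr₂⟩ : ∃ r : P ⟶ (yon B).obj V, r ≫ (eV.hom ≫ pullback.fst (openSubι X.obj O) prod.fst) = p₁ ∧
          r ≫ (yon B).map l = p₂ ≫ (yon B).map (pullback.fst c m) :=
        ⟨sqV.lift p₁ (p₂ ≫ (yon B).map (pullback.fst c m)) (by rw [sqP.w, Category.assoc]), sqV.lift_fst _ _ _,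
          sqV.lift_snd _ _ _⟩
      exact baseChanges_quasiAffine (IsAlgSpace.yon_obj _) (IsAlgSpace.yon_obj _)
        (isAlgSpace_pullback (IsAlgSpace.yon_obj _).diag hOs (IsAlgSpace.yon_obj _) sqP) (IsAlgSpace.yon_obj _)
        (IsPullback.of_right (hr₁.symm ▸ sqP) hr₂ sqV) hl'
    obtain ⟨W, fst, snd, sqF⟩ := exists_isPullback_of_representable hrep (𝟙 ((yon B).obj (Over.mk (𝟙 B))))
    haveI : IsIso fst := sqF.isIso_fst_of_isIso
    refine ⟨W, fst ≫ openSubι X.obj O, repWith_comp (repWith_iso _) (repWith_openSubι hO), ?_⟩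
    rw [← hp]
    obtain ⟨w, hw⟩ : Points.map prod.fst (Points.map iT.hom (Points.schemeEquiv T q)) ∈
        Set.range (Points.map (openSubι X.obj O)) := by
      rw [range_openSubι]
      refine ⟨_, ⟨Points.schemeEquiv V ⟨q, hqA⟩, ?_⟩, rfl⟩
      rw [Points.map_comp]
      congr 1
      exact map_yon_ofPt i _
    exact ⟨Points.map (inv fst) w, by rw [← Points.map_comp, IsIso.inv_hom_id_assoc, hw]⟩
  choose W f hf hx using key
  obtain ⟨U, a, -, as⟩ := X.property.atlas
  obtain ⟨M, eM, -⟩ := exists_iso_yon_of_openCover (fun u : U.left => W (Points.ofPt a u)) (fun u => f _)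
    (fun u => hf _) (fun x => by
      obtain ⟨u, rfl⟩ := surjective_ofPt_of_repWith as x
      exact ⟨u, hx _⟩)
  exact (representableByOfIso eM).isRepresentable

end Groth.Agent.S10461
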