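import Groth.Statements.S10462
import Groth.Agent.Lib.AlgSp.LimitBaseChange
import Groth.Agent.Lib.LimDescend.FgAlg
import Groth.Agent.Lib.AlgSp.OverMapLimits
import Groth.Agent.S10461
import Groth.Agent.Lib.AlgSp.OpenSub
import Mathlib.FieldTheory.PurelyInseparable.Basic
import Mathlib.RingTheory.Jacobson.Ring
-- import your own Groth.Agent.* helpers here

set_option autoImplicit false
universe u
open CategoryTheory CategoryTheory.Limits AlgebraicGeometry Topology TopologicalSpace
open AlgSp GrothLib.AlgSp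
set_option backward.isDefEq.respectTransparency false

namespace Groth.Agent.S10462

theorem isRepresentable_prod_of_hom {S : Scheme.{u}} (X : AlgSp.Space S) {T T' : Over S} (φ : T' ⟶ T)
    (h : (X.obj ⨯ (yon S).obj T).obj.IsRepresentable) : (X.obj ⨯ (yon S).obj T').obj.IsRepresentable := by
  obtain ⟨M, ⟨r⟩⟩ := h.has_representation
  let e := isoOfRepresentableBy r
  obtain ⟨q, hq⟩ := (yon S).map_surjective (e.hom ≫ prod.snd)
  have sq₁ : IsPullback (prod.map (𝟙 X.obj) ((yon S).map φ)) (prod.snd : X.obj ⨯ (yon S).obj T' ⟶ _)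
      prod.snd ((yon S).map φ) := by
    refine IsPullback.of_isLimit' ⟨prod.map_snd _ _⟩ (PullbackCone.IsLimit.mk _
      (fun s => prod.lift (s.fst ≫ prod.fst) s.snd) (fun s => ?_) (fun s => prod.lift_snd _ _) (fun s m h₁ h₂ => ?_))
    · apply Limits.prod.hom_ext
      · simp
      · simp [s.condition]
    · apply Limits.prod.hom_ext
      · rw [prod.lift_fst, ← h₁]; simp
      · rw [prod.lift_snd, h₂]
  have sq₂ : IsPullback (prod.map (𝟙 X.obj) ((yon S).map φ) ≫ e.inv) (prod.snd : X.obj ⨯ (yon S).obj T' ⟶ _)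
      ((yon S).map q) ((yon S).map φ) :=
    sq₁.of_iso (Iso.refl _) e.symm (Iso.refl _) (Iso.refl _) (by simp) (by simp) (by simp [hq]) (by simp)
  exact (representableByOfIso ((((IsPullback.of_hasPullback q φ).map (yon S)).isoIsPullback _ _ sq₂))).isRepresentable

/-- Purely inseparable descent in a tower over a field. -/
theorem isRepresentable_descend_purelyInseparable (k : Type u) [Field k] (X : AlgSp.Space (Spec (CommRingCat.of k)))
    (E L : Type u) [Field E] [Field L] [Algebra k E] [Algebra k L] [Algebra E L] [IsScalarTower k E L]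
    [IsPurelyInseparable E L]
    (h : (X.obj ⨯ (yon _).obj (Over.mk (Spec.map (CommRingCat.ofHom (algebraMap k L))))).obj.IsRepresentable) :
    (X.obj ⨯ (yon _).obj (Over.mk (Spec.map (CommRingCat.ofHom (algebraMap k E))))).obj.IsRepresentable := by
  let g : Spec (CommRingCat.of E) ⟶ Spec (CommRingCat.of k) := Spec.map (CommRingCat.ofHom (algebraMap k E))
  let Z := X.obj ⨯ (yon _).obj (Over.mk g)
  let π : Z ⟶ (yon _).obj (Over.mk g) := prod.snd
  haveI : IsIso (fibreMap π) := isIso_fibreMap π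
  let F := fibreSh π
  let hT : IsTerminal ((yon (Spec (CommRingCat.of k))).obj (Over.mk (𝟙 _))) :=
    IsTerminal.isTerminalObj (yon _) _ Over.mkIdTerminal
  have hZ : IsAlgSpace Z := isAlgSpace_pullback
    (IsAlgSpace.yon_obj (S := Spec (CommRingCat.of k)) (Over.mk (𝟙 _))).diag X.property (IsAlgSpace.yon_obj _)
    (IsPullback.of_is_product' (prodIsProd X.obj ((yon _).obj (Over.mk g))) hT)
  have hF : IsAlgSpace F := (isAlgSpace_jSh_iff g).1 (GrothLib.AlgSp.isAlgSpace_of_iso (asIso (fibreMap π)) hZ)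
  let t : Spec (CommRingCat.of L) ⟶ Spec (CommRingCat.of E) := Spec.map (CommRingCat.ofHom (algebraMap E L))
  haveI := isIso_jMk_id g (Over.mk t)
  let eQ := @asIso _ _ _ _ (jMk g (tautLift g (Over.mk t)) (𝟙 ((yon _).obj (Over.mk t)))) (isIso_jMk_id g (Over.mk t))
  let iL : (Over.map g).obj (Over.mk t) ≅ Over.mk (Spec.map (CommRingCat.ofHom (algebraMap k L))) :=
    Over.isoMk (Iso.refl _) (by
      change 𝟙 _ ≫ Spec.map _ = Spec.map _ ≫ Spec.map _
      rw [Category.id_comp, ← Spec.map_comp]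
      congr 1
      exact CommRingCat.hom_ext (IsScalarTower.algebraMap_eq k E L))
  have hprod : (F ⨯ (yon _).obj (Over.mk t)).obj.IsRepresentable := by
    apply isRepresentable_of_jSh g
    have sq₁ : IsPullback (jMap g (prod.fst : F ⨯ (yon _).obj (Over.mk t) ⟶ F) ≫ fibreMap π)
        (jMap g (prod.snd : F ⨯ (yon _).obj (Over.mk t) ⟶ _) ≫ eQ.inv) π ((yon _).map (tautLift g (Over.mk t))) :=
      (isPullback_jMap_prod g).of_iso (Iso.refl _) (asIso (fibreMap π)) eQ.symm (Iso.refl _) (by simp) (by simp)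
        (by simp [fibreMap_comp, F]) (by simp [eQ, jMk_jStr])
    have sq₂ : IsPullback (prod.map (𝟙 X.obj) ((yon _).map (tautLift g (Over.mk t))))
        (prod.snd : X.obj ⨯ (yon _).obj ((Over.map g).obj (Over.mk t)) ⟶ _) π ((yon _).map (tautLift g (Over.mk t))) := by
      refine IsPullback.of_isLimit' ⟨prod.map_snd _ _⟩ (PullbackCone.IsLimit.mk _
        (fun s => prod.lift (s.fst ≫ prod.fst) s.snd) (fun s => ?_) (fun s => prod.lift_snd _ _) (fun s m h₁ h₂ => ?_))
      · apply Limits.prod.hom_ext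
        · simp [π]
        · simp [π, s.condition]
      · apply Limits.prod.hom_ext
        · rw [prod.lift_fst, ← h₁]; simp
        · rw [prod.lift_snd, h₂]
    obtain ⟨M, ⟨r⟩⟩ := (isRepresentable_prod_of_hom X iL.hom h).has_representation
    exact (representableByOfIso (isoOfRepresentableBy r ≪≫ sq₂.isoIsPullback _ _ sq₁)).isRepresentable
  obtain ⟨M, ⟨r⟩⟩ := (isRepresentable_jSh g (Groth.Agent.S10461.result E ⟨F, hF⟩ L hprod)).has_representation
  exact (representableByOfIso (isoOfRepresentableBy r ≪≫ asIso (fibreMap π))).isRepresentable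


/-- Let k be a field and X a quasi-compact, quasi-separated algebraic space over k. Suppose the base
change X_K is a scheme for some field extension K of k. Then some finite separable extension k' of k
already makes the base change X_{k'} of X representable by a scheme. -/
theorem result (k : Type u) [Field k] (X : AlgSp.Space (Spec (CommRingCat.of k)))
    (hqc : AlgSp.IsQuasiCompactSp X.obj) (hqs : AlgSp.IsQuasiSeparatedSp X.obj)
    (K : Type u) [Field K] [Algebra k K] (h : (X.obj ⨯ (AlgSp.yon (Spec (CommRingCat.of k))).obj (Over.mk (Spec.map (CommRingCat.ofHom (algebraMap k K))))).obj.IsRepresentable) :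
    ∃ (k' : Type u) (_ : Field k') (_ : Algebra k k'), Module.Finite k k' ∧ Algebra.IsSeparable k k' ∧
      (X.obj ⨯ (AlgSp.yon (Spec (CommRingCat.of k))).obj (Over.mk (Spec.map (CommRingCat.ofHom (algebraMap k k'))))).obj.IsRepresentable := by
  let T₁ : Over (Spec (CommRingCat.of k)) := Over.mk (𝟙 _)
  let Tof : ∀ (L : Type u) [CommRing L] [Algebra k L], Over (Spec (CommRingCat.of k)) := fun L _ _ =>
    Over.mk (Spec.map (CommRingCat.ofHom (algebraMap k L)))
  -- the finitely generated stages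
  let J := GrothLib.LimDescend.Rel.FgSub k K
  let strS : ∀ s : J, (GrothLib.LimDescend.Rel.fgDiagram k K).obj (Opposite.op s) ⟶ Spec (CommRingCat.of k) := fun s =>
    Spec.map (CommRingCat.ofHom (algebraMap k ↥s.1))
  let D₀ : Jᵒᵖ ⥤ Over (Spec (CommRingCat.of k)) :=
    { obj := fun s => Tof ↥s.unop.1
      map := fun {s t} φ => Over.homMk ((GrothLib.LimDescend.Rel.fgDiagram k K).map φ) (by
        change Spec.map _ ≫ Spec.map _ = Spec.map _
        rw [← Spec.map_comp]
        rfl)
      map_id := fun s => Over.OverMorphism.ext ((GrothLib.LimDescend.Rel.fgDiagram k K).map_id s)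
      map_comp := fun φ ψ => Over.OverMorphism.ext ((GrothLib.LimDescend.Rel.fgDiagram k K).map_comp φ ψ) }
  let c₀ : Cone D₀ :=
    { pt := Tof K
      π := { app := fun s => Over.homMk ((GrothLib.LimDescend.Rel.fgCone k K).π.app s) (by
               change Spec.map _ ≫ Spec.map _ = Spec.map _
               rw [← Spec.map_comp]
               rfl)
             naturality := fun s t φ => Over.OverMorphism.ext ((GrothLib.LimDescend.Rel.fgCone k K).π.naturality φ) } }
  haveI : IsConnected Jᵒᵖ := IsCofiltered.isConnected _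
  have hc₀ : IsLimit c₀ := isLimitOfReflects (Over.forget _) (IsLimit.ofIsoLimit
    (GrothLib.LimDescend.Rel.isLimitFgCone k K) (Cone.ext (Iso.refl _) fun s => (Category.id_comp _).symm))
  let D := D₀ ⋙ yon (Spec (CommRingCat.of k))
  have hDa : ∀ (i j : Jᵒᵖ) (φ : i ⟶ j), IsAffineMor (D.map φ) := fun i j φ =>
    isAffineMor_iff.2 ((repWith_yon_map_iff _ _).2
      (inferInstanceAs (IsAffineHom ((GrothLib.LimDescend.Rel.fgDiagram k K).map φ))))
  let i₀ : Jᵒᵖ := Opposite.op ⟨⊥, Subalgebra.fg_bot⟩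
  haveI : IsIso (D₀.obj i₀).hom := by
    have hb : Function.Bijective (algebraMap k ↥(⊥ : Subalgebra k K)) :=
      ⟨(algebraMap k ↥(⊥ : Subalgebra k K)).injective, fun ⟨x, hx⟩ => by
        obtain ⟨a, rfl⟩ := Algebra.mem_bot.1 hx
        exact ⟨a, rfl⟩⟩
    haveI : IsIso (CommRingCat.ofHom (algebraMap k ↥(⊥ : Subalgebra k K))) :=
      (ConcreteCategory.isIso_iff_bijective _).2 hb
    exact inferInstanceAs (IsIso (Spec.map (CommRingCat.ofHom (algebraMap k ↥(⊥ : Subalgebra k K)))))
  let t₀ : D₀.obj i₀ ⟶ T₁ := Over.homMk (D₀.obj i₀).hom (Category.comp_id _)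
  haveI : IsIso t₀ := by
    haveI : IsIso ((Over.forget _).map t₀) := ‹IsIso (D₀.obj i₀).hom›
    exact isIso_of_reflects_iso _ (Over.forget _)
  have hT : IsTerminal ((yon _).obj T₁) := IsTerminal.isTerminalObj (yon _) _ Over.mkIdTerminal
  let g₀ : X.obj ⟶ D.obj i₀ := hT.from X.obj ≫ (yon _).map (inv t₀)
  have hD₀T : IsTerminal (D.obj i₀) := hT.ofIso ((yon _).mapIso (asIso t₀)).symm
  have sqX : IsPullback (prod.fst : X.obj ⨯ (yon _).obj (Tof K) ⟶ X.obj) prod.snd g₀ ((yon _).map (c₀.π.app i₀)) := by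
    rw [hD₀T.hom_ext g₀ (hD₀T.from X.obj), hD₀T.hom_ext ((yon _).map (c₀.π.app i₀)) (hD₀T.from _)]
    exact IsPullback.of_is_product' (prodIsProd _ _) hD₀T
  obtain ⟨i, φ, P, p, p', sqP, hP⟩ := exists_stage_baseChange_isRepresentable (D := D)
    (fun s => IsAlgSpace.yon_obj (D₀.obj s)) hDa (isLimitOfPreserves (yon _) hc₀) (i₀ := i₀) X.property hqc hqs
    g₀ (pX := prod.fst) (qX := prod.snd) sqX h
  have hP' : (X.obj ⨯ (yon _).obj (D₀.obj i)).obj.IsRepresentable := by
    have sq₂ : IsPullback (prod.fst : X.obj ⨯ (yon _).obj (D₀.obj i) ⟶ X.obj) prod.snd g₀ (D.map φ) := by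
      rw [hD₀T.hom_ext g₀ (hD₀T.from X.obj), hD₀T.hom_ext (D.map φ) (hD₀T.from _)]
      exact IsPullback.of_is_product' (prodIsProd _ _) hD₀T
    obtain ⟨M, ⟨rM⟩⟩ := hP.has_representation
    exact (representableByOfIso (isoOfRepresentableBy rM ≪≫ sqP.isoIsPullback _ _ sq₂)).isRepresentable
  -- a point of the stage
  let A := ↥i.unop.1
  haveI : Algebra.FiniteType k A := (Subalgebra.fg_iff_finiteType _).1 i.unop.2
  obtain ⟨m, hm⟩ := Ideal.exists_maximal A
  letI : Field (A ⧸ m) := Ideal.Quotient.field m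
  haveI : Module.Finite k (A ⧸ m) := by
    haveI : Algebra.FiniteType k (A ⧸ m) := .trans (S := A) inferInstance inferInstance
    exact finite_of_finite_type_of_isJacobsonRing k (A ⧸ m)
  have hk₁ : (X.obj ⨯ (yon _).obj (Tof (A ⧸ m))).obj.IsRepresentable :=
    isRepresentable_prod_of_hom X (Over.homMk (Spec.map (CommRingCat.ofHom (Ideal.Quotient.mk m))) (by
      change Spec.map _ ≫ Spec.map _ = Spec.map _
      rw [← Spec.map_comp]
      rfl) : Tof (A ⧸ m) ⟶ D₀.obj i) hP'
  let E := separableClosure k (A ⧸ m)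
  haveI : Algebra.IsAlgebraic k (A ⧸ m) := Algebra.IsAlgebraic.of_finite k _
  haveI : IsPurelyInseparable E (A ⧸ m) := separableClosure.isPurelyInseparable k (A ⧸ m)
  refine ⟨E, inferInstance, inferInstance, inferInstance, inferInstance, ?_⟩
  exact isRepresentable_descend_purelyInseparable k X E (A ⧸ m) hk₁
end Groth.Agent.S10462
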