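import Groth.Statements.S10463
import Groth.Agent.S10462
import Groth.Agent.Lib.AlgSp.Glue
import Groth.Agent.Lib.AlgSp.OpenSub
import Groth.Agent.Lib.AlgSp.PointsUniv
import Groth.Agent.Lib.AlgSp.Immersion
import Groth.Agent.Lib.AlgSp.LimitDescDiag
import Groth.Agent.Lib.AlgSp.FlatMono
-- import your own Groth.Agent.* helpers here

set_option autoImplicit false
universe u
open CategoryTheory CategoryTheory.Limits AlgebraicGeometry Topology TopologicalSpace
open AlgSp GrothLib.AlgSp
set_option backward.isDefEq.respectTransparency false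

namespace Groth.Agent.S10463

/-- Let k be a field with algebraic closure k̄ and X a quasi-separated algebraic space over k. If X_K is
a scheme for some field extension K of k, then X_{k̄} is a scheme. -/
theorem result (k : Type u) [Field k]
    (X : AlgSp.Space (Spec (CommRingCat.of k))) (hqs : AlgSp.IsQuasiSeparatedSp X.obj)
    (K : Type u) [Field K] [Algebra k K] (h : (X.obj ⨯ (AlgSp.yon (Spec (CommRingCat.of k))).obj (Over.mk (Spec.map (CommRingCat.ofHom (algebraMap k K))))).obj.IsRepresentable)
    (kbar : Type u) [Field kbar] [Algebra k kbar] [IsAlgClosure k kbar] :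
    (X.obj ⨯ (AlgSp.yon (Spec (CommRingCat.of k))).obj (Over.mk (Spec.map (CommRingCat.ofHom (algebraMap k kbar))))).obj.IsRepresentable := by
  let B : Scheme.{u} := Spec (CommRingCat.of k)
  let Tof : ∀ (L : Type u) [CommRing L] [Algebra k L], Over B := fun L _ _ =>
    Over.mk (Spec.map (CommRingCat.ofHom (algebraMap k L)))
  haveI : IsAlgClosed kbar := IsAlgClosure.isAlgClosed k
  have key : ∀ x : Points (X.obj ⨯ (yon B).obj (Tof kbar)), ∃ (W : Over B)
      (w : (yon B).obj W ⟶ X.obj ⨯ (yon B).obj (Tof kbar)),
      RepWith @IsOpenImmersion w ∧ x ∈ Set.range (Points.map w) := by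
    intro x
    obtain ⟨U, a, hU, hae, hx, -, -⟩ := exists_affine_chart_mem X.property isOpen_univ
      (x := Points.map prod.fst x) trivial (fun _ => True) (fun _ => ⟨⊤, trivial, trivial⟩)
    haveI := hU
    let N : Set (Points X.obj) := Set.range (Points.ofPt a)
    have hN : IsOpen N := by
      rw [show N = Points.ofPt a '' Set.univ from Set.image_univ.symm]
      exact isOpenMap_ofPt_of_etale hae _ isOpen_univ
    let j := openSubι X.obj N
    have hj : RepWith @IsOpenImmersion j := repWith_openSubι hN
    let X' : Space B := ⟨openSub X.obj N, isAlgSpace_openSub X.property hN⟩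
    have hqcN : IsQuasiCompactSp X'.obj := by
      have hc : IsCompact N := isCompact_range (Points.continuous_ofPt a)
      haveI : Mono j := mono_of_openImmersion hj
      have hemb : Topology.IsOpenEmbedding (Points.map j) :=
        Topology.IsOpenEmbedding.of_continuous_injective_isOpenMap (Points.continuous_map _) (injective_map_of_mono j)
          (isOpenMap_map_of_repWith (P := @IsOpenImmersion) (fun _ _ h (_ : IsOpenImmersion h) => h.isOpenEmbedding.isOpenMap) hj)
      haveI : CompactSpace (Points X'.obj) := ⟨by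
        rw [hemb.isEmbedding.isCompact_iff, Set.image_univ, range_openSubι]
        exact hc⟩
      exact isQuasiCompactSp_of_compactSpace_points X'.property
    have hqsN : IsQuasiSeparatedSp X'.obj := isQuasiSeparatedSp_of_mor (f := j)
      ((isQuasiSeparatedMor_iff_repWith hj.1).2
        (repWith_mono hj fun _ _ h (_ : IsOpenImmersion h) => (inferInstance : QuasiSeparated h))) hqs
    have sqN : ∀ (T : Over B), IsPullback (prod.map j (𝟙 ((yon B).obj T))) (prod.fst : X'.obj ⨯ _ ⟶ X'.obj)
        (prod.fst : X.obj ⨯ _ ⟶ X.obj) j := by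
      intro T
      refine IsPullback.of_isLimit' ⟨prod.map_fst _ _⟩ (PullbackCone.IsLimit.mk _
        (fun s => prod.lift s.snd (s.fst ≫ prod.snd)) (fun s => ?_) (fun s => prod.lift_fst _ _) (fun s m h₁ h₂ => ?_))
      · apply Limits.prod.hom_ext
        · simp [s.condition]
        · simp
      · apply Limits.prod.hom_ext
        · rw [prod.lift_fst, h₂]
        · rw [prod.lift_snd, ← h₁]; simp
    have hK : (X'.obj ⨯ (yon B).obj (Tof K)).obj.IsRepresentable := by
      obtain ⟨M, ⟨r⟩⟩ := h.has_representation
      let e := isoOfRepresentableBy r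
      have hm : RepWith @IsOpenImmersion (prod.map j (𝟙 ((yon B).obj (Tof K))) ≫ e.inv) :=
        repWith_comp (repWith_of_isPullback (sqN (Tof K)).flip hj) (repWith_iso _)
      obtain ⟨W, fst, snd, sq⟩ := exists_isPullback_of_representable hm.1 (𝟙 ((yon B).obj M))
      haveI : IsIso fst := sq.isIso_fst_of_isIso
      exact (representableByOfIso (asIso fst)).isRepresentable
    obtain ⟨k', _, _, _, _, hk'⟩ := Groth.Agent.S10462.result k X' hqcN hqsN K hK
    haveI : Algebra.IsAlgebraic k k' := Algebra.IsAlgebraic.of_finite k k'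
    let σ : k' →ₐ[k] kbar := IsAlgClosed.lift
    have hbar := Groth.Agent.S10462.isRepresentable_prod_of_hom X'
      (Over.homMk (Spec.map (CommRingCat.ofHom σ.toRingHom)) (by
        change Spec.map _ ≫ Spec.map _ = Spec.map _
        rw [← Spec.map_comp]
        congr 1
        exact CommRingCat.hom_ext σ.comp_algebraMap) : Tof kbar ⟶ Tof k') hk'
    obtain ⟨W, ⟨r⟩⟩ := hbar.has_representation
    let eW := isoOfRepresentableBy r
    refine ⟨W, eW.hom ≫ prod.map j (𝟙 _),
      repWith_comp (repWith_iso _) (repWith_of_isPullback (sqN (Tof kbar)).flip hj), ?_⟩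
    obtain ⟨y, hy⟩ : Points.map prod.fst x ∈ Set.range (Points.map j) := by
      rw [range_openSubι]; exact hx
    obtain ⟨z, hz, -⟩ := exists_of_isPullback (sqN (Tof kbar)) hy.symm
    exact ⟨Points.map eW.inv z, by rw [← Points.map_comp, eW.inv_hom_id_assoc, hz]⟩
  have hT : IsTerminal ((yon B).obj (Over.mk (𝟙 B))) := IsTerminal.isTerminalObj (yon B) _ Over.mkIdTerminal
  have hZ : IsAlgSpace (X.obj ⨯ (yon B).obj (Tof kbar)) := isAlgSpace_pullback
    (IsAlgSpace.yon_obj (S := B) (Over.mk (𝟙 _))).diag X.property (IsAlgSpace.yon_obj _)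
    (IsPullback.of_is_product' (prodIsProd _ _) hT)
  obtain ⟨A, c, -, hcs⟩ := hZ.atlas
  choose W w hw hxw using fun v : ↥A.left => key (Points.ofPt c v)
  obtain ⟨M, e, -⟩ := exists_iso_yon_of_openCover W w hw fun x => by
    obtain ⟨v, rfl⟩ := surjective_ofPt_of_repWith hcs x
    exact ⟨v, hxw v⟩
  exact (representableByOfIso e).isRepresentable
end Groth.Agent.S10463
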