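import Groth.Statements.S10465
import Groth.Agent.Lib.AlgSp.GeomConn
-- import your own Groth.Agent.* helpers here

set_option autoImplicit false
universe u
open CategoryTheory CategoryTheory.Limits AlgebraicGeometry Topology TopologicalSpace
open AlgSp GrothLib.AlgSp
set_option backward.isDefEq.respectTransparency false

namespace Groth.Agent.S10465

/-- For a field extension k'/k and an algebraic space X over k, geometric connectedness of X over k is
equivalent to geometric connectedness of its base change X_{k'} over k' (the base changes of X_{k'}
to extensions K of k' being the base changes X_K of X, geometric connectedness of X_{k'} over k'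
reads: |X_K| is connected for every field K over k'). -/
theorem result (k : Type u) [Field k] (X : AlgSp.Space (Spec (CommRingCat.of k))) (k' : Type u) [Field k'] [Algebra k k'] :
    (∀ (K : Type u) [Field K] [Algebra k K], ConnectedSpace (AlgSp.Points (X.obj ⨯ (AlgSp.yon (Spec (CommRingCat.of k))).obj (Over.mk (Spec.map (CommRingCat.ofHom (algebraMap k K))))))) ↔
      ∀ (K : Type u) [Field K] [Algebra k K] [Algebra k' K] [IsScalarTower k k' K],
        ConnectedSpace (AlgSp.Points (X.obj ⨯ (AlgSp.yon (Spec (CommRingCat.of k))).obj (Over.mk (Spec.map (CommRingCat.ofHom (algebraMap k K)))))) := by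
  refine ⟨fun h K _ _ _ _ => h K, fun h K _ _ => ?_⟩
  obtain ⟨m, hm⟩ := Ideal.exists_maximal (TensorProduct k k' K)
  let M := (TensorProduct k k' K) ⧸ m
  let _ : Field M := Ideal.Quotient.field m
  let iK : K →ₐ[k] M := (Ideal.Quotient.mkₐ k m).comp Algebra.TensorProduct.includeRight
  let _ : Algebra K M := iK.toRingHom.toAlgebra
  have : IsScalarTower k K M := IsScalarTower.of_algebraMap_eq fun a => (iK.commutes a).symm
  have := h M
  exact (GrothLib.AlgSp.surjective_bcTower K M X.property).connectedSpace (Points.continuous_map _)

end Groth.Agent.S10465
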