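import Groth.Statements.S10467
import Groth.Agent.Lib.AlgSp.GeomConn
-- import your own Groth.Agent.* helpers here

set_option autoImplicit false
universe u
open CategoryTheory CategoryTheory.Limits AlgebraicGeometry Topology TopologicalSpace
open AlgSp GrothLib.AlgSp
set_option backward.isDefEq.respectTransparency false

namespace Groth.Agent.S10467

/-- Let k be a separably closed field, K an extension field of k and X an algebraic space over k. Then
X_K ⟶ X induces a bijection of connected components. -/
theorem result (k : Type u) [Field k] [IsSepClosed k]
    (X : AlgSp.Space (Spec (CommRingCat.of k))) (K : Type u) [Field K] [Algebra k K] :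
    Function.Bijective (Continuous.connectedComponentsMap
      (AlgSp.Points.continuous_map (Limits.prod.fst : (X.obj ⨯ (AlgSp.yon (Spec (CommRingCat.of k))).obj (Over.mk (Spec.map (CommRingCat.ofHom (algebraMap k K))))) ⟶ X.obj))) := by
  obtain ⟨U, a, ha, hs⟩ := X.property.atlas
  have hq := (GrothLib.AlgSp.isOpenQuotientMap_ofPt ha hs).isQuotientMap
  have sq := GrothLib.AlgSp.isPullback_bcChartMap a K
  haveI : UniversallyOpen (FBase.bcπ U.hom K) := MorphismProperty.pullback_fst _ _ inferInstance
  have hop := GrothLib.AlgSp.isOpenMap_of_chart sq hq (FBase.bcπ U.hom K).isOpenMap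
  have hfib := GrothLib.AlgSp.isConnected_fibre_of_chart sq hq.surjective
    (fun w => GrothLib.FBase7.isConnected_preimage_singleton_of_isSepClosed U.hom K w)
  exact Topology.IsCoinducing.connectedComponentsMap_bijective
    (hop.isQuotientMap (Points.continuous_map _) (fun y => (hfib y).nonempty)).isCoinducing hfib

end Groth.Agent.S10467
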