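import Groth.Statements.S1047
import Groth.Agent.Lib.PCRing24.Main

set_option autoImplicit false
universe u
open CategoryTheory CategoryTheory.Limits
attribute [local instance] HasDerivedCategory.standard
open Perf

namespace Groth.Agent.S1047

/-- Let A be a commutative ring and R an A-algebra, not necessarily commutative, whose underlying
A-module is finite free. Restriction of scalars being exact (carried as instance hypotheses), if an
object M of D(R) becomes pseudo-coherent in D(A) after restriction of scalars (isomorphic to a
bounded above complex of finite free A-modules), then M is represented by a bounded above complex of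
finite free R-modules. (The source phrases this for right modules; we use left modules, which is the
same statement for the opposite algebra.) -/
theorem result (A : Type u) [CommRing A] (R : Type u) [Ring R] [Algebra A R]
    [Module.Finite A R] [Module.Free A R]
    [PreservesFiniteLimits (ModuleCat.restrictScalars.{u} (algebraMap A R))] [PreservesFiniteColimits (ModuleCat.restrictScalars.{u} (algebraMap A R))]
    (M : DerivedCategory (ModuleCat.{u} R))
    (hM : DRing.IsPseudoCoherent' A (((ModuleCat.restrictScalars.{u} (algebraMap A R)).mapDerivedCategory).obj M)) :
    ∃ (F : CochainComplex (ModuleCat.{u} R) ℤ) (b : ℤ), (∀ i : ℤ, b < i → IsZero (F.X i)) ∧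
      (∀ i : ℤ, Module.Finite R (F.X i) ∧ Module.Free R (F.X i)) ∧ Nonempty (DerivedCategory.Q.obj F ≅ M) := by
  exact GrothLib.PCRing24.exists_finiteFree_rep A R M hM

end Groth.Agent.S1047
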