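import Groth.Statements.S10471
import Groth.Agent.Lib.AlgSp.GaloisBC
-- import your own Groth.Agent.* helpers here

set_option autoImplicit false
universe u
open CategoryTheory CategoryTheory.Limits AlgebraicGeometry Topology TopologicalSpace
open AlgSp GrothLib.AlgSp
set_option backward.isDefEq.respectTransparency false

namespace Groth.Agent.S10471

/-- Let k be a field, K/k a (possibly infinite) Galois extension, X an algebraic space over k and V a
quasi-compact open of |X_K|. Then there is an open subgroup H of Gal(K/k) with σ(V) = V for all σ ∈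
H. -/
theorem result (k : Type u) [Field k] (X : AlgSp.Space (Spec (CommRingCat.of k))) (K : Type u) [Field K] [Algebra k K]
    [IsGalois k K] (V : Set (AlgSp.Points (X.obj ⨯ (AlgSp.yon (Spec (CommRingCat.of k))).obj (Over.mk (Spec.map (CommRingCat.ofHom (algebraMap k K))))))) (hV : IsOpen V) (hVc : IsCompact V) :
    ∃ H : Subgroup (K ≃ₐ[k] K), IsOpen (H : Set (K ≃ₐ[k] K)) ∧
      ∀ σ ∈ H, ∀ (g : (Over.mk (Spec.map (CommRingCat.ofHom (algebraMap k K))) : Over (Spec (CommRingCat.of k))) ⟶ Over.mk (Spec.map (CommRingCat.ofHom (algebraMap k K)))),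
        g.left = Spec.map (CommRingCat.ofHom (σ : K ≃ₐ[k] K).toRingHom) →
          AlgSp.Points.map (Limits.prod.map (𝟙 X.obj) ((AlgSp.yon (Spec (CommRingCat.of k))).map g)) '' V = V := by
  obtain ⟨E, hE, V', -, -, rfl⟩ := GrothLib.AlgSp.exists_finite_level_open K X.property V hV hVc
  refine ⟨E.fixingSubgroup, E.fixingSubgroup_isOpen, fun σ hσ g hg => ?_⟩
  obtain rfl : g = GrothLib.AlgSp.galField K σ := Over.OverMorphism.ext hg
  exact GrothLib.AlgSp.galTower_image_preimage K E hσ V'

end Groth.Agent.S10471
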