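import Groth.Statements.S10472
import Groth.Agent.Lib.AlgSp.GaloisBC
-- import your own Groth.Agent.* helpers here

set_option autoImplicit false
universe u
open CategoryTheory CategoryTheory.Limits AlgebraicGeometry Topology TopologicalSpace
open AlgSp GrothLib.AlgSp
set_option backward.isDefEq.respectTransparency false

namespace Groth.Agent.S10472

/-- Let k be a field, K/k a (possibly infinite) Galois extension, X an algebraic space over k and V a
quasi-compact open of |X_K|. Then there are a finite subextension k' of K/k and a quasi-compact open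
V' of |X_{k'}| with V the inverse image of V' in |X_K|. -/
theorem result (k : Type u) [Field k] (X : AlgSp.Space (Spec (CommRingCat.of k))) (K : Type u) [Field K] [Algebra k K]
    [IsGalois k K] (V : Set (AlgSp.Points (X.obj ⨯ (AlgSp.yon (Spec (CommRingCat.of k))).obj (Over.mk (Spec.map (CommRingCat.ofHom (algebraMap k K))))))) (hV : IsOpen V) (hVc : IsCompact V) :
    ∃ (k' : IntermediateField k K) (_ : FiniteDimensional k k')
      (g : (Over.mk (Spec.map (CommRingCat.ofHom (algebraMap k K))) : Over (Spec (CommRingCat.of k))) ⟶ Over.mk (Spec.map (CommRingCat.ofHom (algebraMap k k')))),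
      g.left = Spec.map (CommRingCat.ofHom (algebraMap k' K)) ∧
      ∃ V' : Set (AlgSp.Points (X.obj ⨯ (AlgSp.yon (Spec (CommRingCat.of k))).obj (Over.mk (Spec.map (CommRingCat.ofHom (algebraMap k k')))))), IsOpen V' ∧ IsCompact V' ∧
        AlgSp.Points.map (Limits.prod.map (𝟙 X.obj) ((AlgSp.yon (Spec (CommRingCat.of k))).map g)) ⁻¹' V' = V := by
  obtain ⟨E, hE, V', h1, h2, h3⟩ := GrothLib.AlgSp.exists_finite_level_open K X.property V hV hVc
  exact ⟨E, hE, GrothLib.AlgSp.fieldHom E K, rfl, V', h1, h2, h3⟩

end Groth.Agent.S10472
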