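import Groth.Agent.Lib.AlgSp.GeomReduced
import Groth.Statements.S10473
-- import your own Groth.Agent.* helpers here

set_option autoImplicit false
universe u
open CategoryTheory CategoryTheory.Limits AlgebraicGeometry Topology TopologicalSpace
open AlgSp

namespace Groth.Agent.S10473

/-- (2) ⇔ (3): let k be a field, X an algebraic space over k and x a point of X. Then some etale
neighbourhood (U, u) of (X, x) with U a scheme is geometrically reduced at u, if and only if every
such etale neighbourhood is geometrically reduced at its point over x. -/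
theorem result (k : Type u) [Field k] (X : AlgSp.Space (Spec (CommRingCat.of k))) (x : AlgSp.Points X.obj) :
    (∃ (U : Over (Spec (CommRingCat.of k))) (a : (AlgSp.yon (Spec (CommRingCat.of k))).obj U ⟶ X.obj) (u : ↥U.left),
      AlgSp.RepWith @Etale a ∧ AlgSp.Points.ofPt a u = x ∧ FBase.IsGeomReducedAt U.hom u) ↔
      ∀ (U : Over (Spec (CommRingCat.of k))) (a : (AlgSp.yon (Spec (CommRingCat.of k))).obj U ⟶ X.obj) (u : ↥U.left),
        AlgSp.RepWith @Etale a → AlgSp.Points.ofPt a u = x → FBase.IsGeomReducedAt U.hom u := by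
  refine ⟨fun ⟨U', a', u', ha', hu', h⟩ U a u ha hu => ?_, fun h => ?_⟩
  · exact (GrothLib.AlgSp.isGeomReducedAt_chart_iff X.property ha' ha (hu'.trans hu.symm)).1 h
  · obtain ⟨U, a, ha, hs⟩ := X.property.atlas
    obtain ⟨u, rfl⟩ := GrothLib.AlgSp.surjective_ofPt_of_repWith hs x
    exact ⟨U, a, u, ha, rfl, h U a u ha rfl⟩

end Groth.Agent.S10473
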