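import Groth.Statements.S1048
import Groth.Agent.Lib.DQEquiv25.Equiv

set_option autoImplicit false
universe u
open CategoryTheory CategoryTheory.Limits AlgebraicGeometry
attribute [local instance] HasDerivedCategory.standard
open Perf

namespace Groth.Agent.S1048

/-- Let the scheme X be quasi-compact with affine diagonal (intersections of affine opens are affine).
Granting that quasi-coherent modules contain zero and are closed under kernels, cokernels and finite
products in all O_X-modules, with exact inclusion (true facts, carried as instance hypotheses; they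
make QCoh(O_X) an abelian category), the induced functor D(QCoh(O_X)) ⥤ D(O_X) is full and faithful,
and an object of D(O_X) lies in its essential image if and only if its cohomology sheaves are
quasi-coherent. -/
theorem result (X : Scheme.{u}) [CompactSpace ↥X]
    (hdiag : ∀ U V : X.Opens, IsAffineOpen U → IsAffineOpen V → IsAffineOpen (U ⊓ V))
    [ObjectProperty.ContainsZero (fun M : X.Modules => Coh.IsQCoh M)] [ObjectProperty.IsClosedUnderKernels (fun M : X.Modules => Coh.IsQCoh M)]
    [ObjectProperty.IsClosedUnderCokernels (fun M : X.Modules => Coh.IsQCoh M)] [ObjectProperty.IsClosedUnderFiniteProducts (fun M : X.Modules => Coh.IsQCoh M)]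
    [PreservesFiniteLimits (ObjectProperty.ι (fun M : X.Modules => Coh.IsQCoh M))] [PreservesFiniteColimits (ObjectProperty.ι (fun M : X.Modules => Coh.IsQCoh M))] :
    (ObjectProperty.ι (fun M : X.Modules => Coh.IsQCoh M)).mapDerivedCategory.Full ∧ (ObjectProperty.ι (fun M : X.Modules => Coh.IsQCoh M)).mapDerivedCategory.Faithful ∧
    ∀ K : DCoh.D X, DCoh.IsQCohD K ↔ ∃ M, Nonempty ((ObjectProperty.ι (fun M : X.Modules => Coh.IsQCoh M)).mapDerivedCategory.obj M ≅ K) := by
  obtain ⟨κ, _, V, hV, -, hcov⟩ := GrothLib.QCoh.exists_finite_affine_cover (U := (⊤ : X.Opens))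
    (by simpa using isCompact_univ)
  let e := Fintype.equivFin κ
  let W : Fin (Fintype.card κ) → X.Opens := fun l => V (e.symm l)
  have hW : ∀ l, IsAffineOpen (W l) := fun l => hV _
  let j := fun l => (hW l).fromSpec
  haveI : ∀ l, IsAffineHom (j l) := fun l => ⟨fun U hU => by
    refine (Scheme.Hom.isAffineOpen_iff_of_isOpenImmersion (j l)).1 ?_
    rw [Scheme.Hom.image_preimage_eq_opensRange_inf, IsAffineOpen.opensRange_fromSpec]
    exact hdiag _ _ (hW l) hU⟩
  have hc : ∀ x : X, ∃ l, x ∈ Set.range (j l) := fun x => by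
    obtain ⟨i, hi⟩ := TopologicalSpace.Opens.mem_iSup.1 (hcov (Set.mem_univ x))
    refine ⟨e i, ?_⟩
    rw [IsAffineOpen.range_fromSpec]
    simpa [W] using hi
  let P := fun l => GrothLib.DQEquiv25.pushQD (j l)
  let adj : ∀ l, GrothLib.DQEquiv25.resQD (j l) ⊣ P l := fun l => GrothLib.DQEquiv25.adjQD (j l)
  haveI : ∀ l, IsIso (adj l).counit := fun l => GrothLib.DQEquiv25.isIso_counit (j l)
  have hw := fun l N => GrothLib.DQEquiv25.nonempty_TD_pushQD (j l) N
  have hb := GrothLib.DQEquiv25.bijective_TD j P adj hw hc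
  refine ⟨⟨fun {A B} => (hb A B).2⟩, ⟨fun {A B} => (hb A B).1⟩, fun K => ⟨fun hK => ?_, fun ⟨M, ⟨i⟩⟩ => ?_⟩⟩
  · exact GrothLib.DQEquiv25.exists_preimage j P adj hw hc K hK
  · intro q
    exact GrothLib.OX.isQCoh_of_iso ((DerivedCategory.homologyFunctor X.Modules q).mapIso i)
      (GrothLib.DQEquiv25.isQCohD_TD M q)

end Groth.Agent.S1048
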