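import Groth.Agent.Lib.AlgSp.GeomReduced
import Groth.Statements.S10481
-- import your own Groth.Agent.* helpers here

set_option autoImplicit false
universe u
open CategoryTheory CategoryTheory.Limits AlgebraicGeometry Topology TopologicalSpace
open AlgSp

namespace Groth.Agent.S10481

/-- Let k be a field, f : X ⟶ Y a morphism of algebraic spaces over k and x a point of X at which f is
etale. Then X is geometrically reduced at x if and only if Y is geometrically reduced at the image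
of x. -/
theorem result (k : Type u) [Field k] {X Y : AlgSp.Space (Spec (CommRingCat.of k))} (f : X ⟶ Y)
    (x : AlgSp.Points X.obj)
    (he : AlgSp.HasAtMor (fun U _ h u => ∃ W : U.Opens, u ∈ W ∧ Etale (W.ι ≫ h)) f.hom x) :
    (∃ (U : Over (Spec (CommRingCat.of k))) (a : (AlgSp.yon (Spec (CommRingCat.of k))).obj U ⟶ X.obj) (u : ↥U.left),
      AlgSp.RepWith @Etale a ∧ AlgSp.Points.ofPt a u = x ∧ FBase.IsGeomReducedAt U.hom u) ↔ (∃ (U : Over (Spec (CommRingCat.of k))) (a : (AlgSp.yon (Spec (CommRingCat.of k))).obj U ⟶ Y.obj) (u : ↥U.left),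
      AlgSp.RepWith @Etale a ∧ AlgSp.Points.ofPt a u = (AlgSp.Points.map f.hom x) ∧ FBase.IsGeomReducedAt U.hom u) := by
  obtain ⟨U, V, a, b, h, u, ha, hb, c, rfl, W, hu, hW⟩ := he
  let i : Over.mk (W.ι ≫ U.hom) ⟶ U := Over.homMk W.ι rfl
  have ha' : AlgSp.RepWith @Etale ((AlgSp.yon _).map i ≫ a) :=
    GrothLib.AlgSp.repWith_comp ((AlgSp.repWith_yon_map_iff @Etale i).2 (inferInstanceAs (Etale W.ι))) ha
  have : Etale (i ≫ h).left := hW
  have e₁ : AlgSp.Points.ofPt ((AlgSp.yon _).map i ≫ a) (⟨u, hu⟩ : W) = AlgSp.Points.ofPt a u :=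
    GrothLib.AlgSp.ofPt_map_comp i a _
  have e₂ : AlgSp.Points.map f.hom (AlgSp.Points.ofPt a u) = AlgSp.Points.ofPt b (h.left u) := by
    rw [Points.map_ofPt, c, GrothLib.AlgSp.ofPt_map_comp]
  rw [← e₁, GrothLib.AlgSp.geomReducedAt_iff X.property ha', e₁, e₂,
    GrothLib.AlgSp.geomReducedAt_iff Y.property hb]
  exact GrothLib.AlgSp.isGeomReducedAt_hom_iff_of_etale (i ≫ h) _

end Groth.Agent.S10481
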