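import Groth.Agent.Lib.AlgSp.Dim
import Groth.Agent.Lib.AlgSp.LocP
import Groth.Statements.S10482
-- import your own Groth.Agent.* helpers here

set_option autoImplicit false
universe u
open CategoryTheory CategoryTheory.Limits AlgebraicGeometry Topology TopologicalSpace
open AlgSp

namespace Groth.Agent.S10482

/-- (1) ⇔ (2): let k be a field and X an algebraic space over k. Then X is locally quasi-finite over k
if and only if X is locally of finite type over k of dimension at most 0. (The published statement
says dimension 0; dimension at most 0 is used so that the empty space, whose dimension is the bottom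
element, is covered by both sides.) -/
theorem result (k : Type u) [Field k] (X : AlgSp.Space (Spec (CommRingCat.of k))) (p : X.obj ⟶ (AlgSp.yon (Spec (CommRingCat.of k))).obj (Over.mk (𝟙 _))) :
    AlgSp.LocP (@LocallyQuasiFinite ⊓ @LocallyOfFiniteType : MorphismProperty Scheme.{u}) p ↔ AlgSp.LocP @LocallyOfFiniteType p ∧ AlgSp.dim X.obj ≤ 0 := by
  obtain ⟨U, a, ha, hs⟩ := X.property.atlas
  let h : U ⟶ Over.mk (𝟙 _) := (AlgSp.yon _).preimage (a ≫ p)
  have c : a ≫ p = (AlgSp.yon _).map h ≫ 𝟙 _ := by simp [h]
  rw [GrothLib.AlgSp.dim_eq_of_atlas X.property ha hs]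
  constructor
  · intro hp
    have hh := hp a (𝟙 _) h ha (AlgSp.repWith_id _ _) c
    have := hh.2
    exact ⟨GrothLib.AlgSp.locP_mono (fun _ _ _ g => g.2) hp,
      (GrothLib.AlgSp.locallyQuasiFinite_field_iff (k := k) h.left).1 hh.1⟩
  · rintro ⟨hp, hd⟩
    have hl : LocallyOfFiniteType h.left := hp a (𝟙 _) h ha (AlgSp.repWith_id _ _) c
    exact GrothLib.AlgSp.EtLocal.locP_of_chart (GrothLib.AlgSp.EtLocal.inf .lqf .lft) ha hs
      (AlgSp.repWith_id _ _) c ⟨(GrothLib.AlgSp.locallyQuasiFinite_field_iff (k := k) h.left).2 hd, hl⟩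

end Groth.Agent.S10482
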