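import Groth.Statements.S10483
import Groth.Agent.Lib.AlgSp.DimZero
import Groth.Agent.Lib.AlgSp.FiniteDiscrete
import Groth.Agent.S10482
import Groth.Agent.Lib.AlgSp.LocP
-- import your own Groth.Agent.* helpers here

set_option autoImplicit false
universe u
open CategoryTheory CategoryTheory.Limits AlgebraicGeometry Topology TopologicalSpace
open AlgSp GrothLib.AlgSp
set_option backward.isDefEq.respectTransparency false

namespace Groth.Agent.S10483

/-- (1) ⇔ (5): let k be a field and X an algebraic space over k. Then X is locally quasi-finite over k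
if and only if X decomposes as a disjoint union of spectra of finite-dimensional Artinian local
k-algebras: X is a scheme every point of which has an affine open neighbourhood with Artinian local
coordinate ring, finite over k. -/
theorem result (k : Type u) [Field k] (X : AlgSp.Space (Spec (CommRingCat.of k))) (p : X.obj ⟶ (AlgSp.yon (Spec (CommRingCat.of k))).obj (Over.mk (𝟙 _))) :
    AlgSp.LocP (@LocallyQuasiFinite ⊓ @LocallyOfFiniteType : MorphismProperty Scheme.{u}) p ↔
      ∃ (U : Over (Spec (CommRingCat.of k))) (_ : (AlgSp.yon (Spec (CommRingCat.of k))).obj U ≅ X.obj), ∀ u : ↥U.left, ∃ V : U.left.Opens,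
        u ∈ V ∧ IsAffineOpen V ∧ IsArtinianRing ↥Γ(U.left, V) ∧ IsLocalRing ↥Γ(U.left, V) ∧
          IsFinite (V.ι ≫ U.hom) := by
  constructor
  · intro hp
    obtain ⟨hl, hd⟩ := (Groth.Agent.S10482.result k X p).1 hp
    obtain ⟨U, e⟩ : ∃ U : Over (Spec (CommRingCat.of k)), Nonempty ((AlgSp.yon _).obj U ≅ X.obj) := by
      obtain ⟨U, a, ha, hs⟩ := X.property.atlas
      rw [GrothLib.AlgSp.dim_eq_of_atlas X.property ha hs] at hd
      rcases isEmpty_or_nonempty ↥U.left with hE | hne
      · obtain ⟨R, t, s, sq⟩ := GrothLib.AlgSp.exists_isPullback_yon X.property.diag a a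
        haveI : IsEmpty ↥R.left := ⟨fun r => hE.false (t.left r)⟩
        haveI : IsIso ((Over.forget _).map t) := inferInstanceAs (IsIso t.left)
        haveI : IsIso t := isIso_of_reflects_iso t (Over.forget _)
        have hts : t = s := Over.OverMorphism.ext (isInitialOfIsEmpty.hom_ext _ _)
        haveI : Mono a := ⟨fun {T} α β h => by
          subst hts
          exact (sq.lift_fst α β h).symm.trans (sq.lift_snd α β h)⟩
        haveI := GrothLib.AlgSp.chart_isLocallySurjective ha hs
        haveI : Epi a := Sheaf.epi_of_isLocallySurjective a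
        haveI := isIso_of_mono_of_epi a
        exact ⟨U, ⟨asIso a⟩⟩
      · have h0 : AlgSp.dim X.obj = 0 := by
          rw [GrothLib.AlgSp.dim_eq_of_atlas X.property ha hs]
          refine le_antisymm hd ?_
          show (0 : WithBot ℕ∞) ≤ Order.krullDim _
          haveI : Nonempty (TopologicalSpace.IrreducibleCloseds ↥U.left) :=
            ⟨⟨closure {hne.some}, isIrreducible_singleton.closure, isClosed_closure⟩⟩
          exact Order.krullDim_nonneg
        haveI : QuasiSeparatedSpace ↥(Spec (CommRingCat.of k)) := inferInstance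
        obtain ⟨U', e, -, -⟩ := GrothLib.AlgSp.exists_scheme_of_dim_zero X.property
          (GrothLib.AlgSp.isQuasiSeparatedSp_of_lft_field_dim_zero X.property hl h0) h0
        exact ⟨U', ⟨e⟩⟩
    obtain ⟨e⟩ := e
    refine ⟨U, e, fun v => ?_⟩
    obtain ⟨h, hh⟩ := (AlgSp.yon (Spec (CommRingCat.of k))).map_surjective (e.hom ≫ p)
    have h1 := hp e.hom (𝟙 _) h (GrothLib.AlgSp.repWith_iso _) (AlgSp.repWith_id _ _) (by rw [Category.comp_id, hh])
    have h2 : h.left = U.hom := by rw [← Over.w h]; exact (Category.comp_id _).symm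
    rw [h2] at h1
    haveI := h1.1
    haveI := h1.2
    haveI : IsLocallyArtinian U.left := .of_locallyQuasiFinite U.hom
    let V : U.left.Opens := ⟨{v}, isOpen_discrete _⟩
    obtain ⟨A, hA, hvA, hAV⟩ := exists_isAffineOpen_mem_and_subset (U := V) (x := v) (Set.mem_singleton v)
    have hAV' : A = V := le_antisymm hAV fun y hy => (Set.mem_singleton_iff.1 hy) ▸ hvA
    have hV : IsAffineOpen V := hAV' ▸ hA
    haveI : IsAffine (V : Scheme.{u}) := hV
    haveI hsub : Subsingleton ↥(V : Scheme.{u}) := inferInstanceAs (Subsingleton ({v} : Set _))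
    haveI : Nonempty ↥(V : Scheme.{u}) := ⟨⟨v, Set.mem_singleton v⟩⟩
    haveI : IsArtinianRing Γ(U.left, V) := IsLocallyArtinian.isArtinianRing_presheaf_obj ⟨V, hV⟩
    haveI : Nonempty V := ⟨⟨v, Set.mem_singleton v⟩⟩
    refine ⟨V, Set.mem_singleton v, hV, inferInstance, ?_, ?_⟩
    · haveI : Nonempty (PrimeSpectrum Γ(U.left, V)) := ⟨hV.isoSpec.hom.base ⟨v, Set.mem_singleton v⟩⟩
      haveI : Nontrivial Γ(U.left, V) :=
        PrimeSpectrum.nonempty_iff_nontrivial.1 inferInstance
      haveI : Subsingleton (PrimeSpectrum Γ(U.left, V)) := hV.isoSpec.inv.homeomorph.injective.subsingleton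
      exact IsLocalRing.of_unique_max_ideal ⟨_, (Ideal.exists_maximal Γ(U.left, V)).choose_spec,
        fun I hI => congrArg PrimeSpectrum.asIdeal (Subsingleton.elim (⟨I, hI.isPrime⟩ : PrimeSpectrum _)
          ⟨_, (Ideal.exists_maximal Γ(U.left, V)).choose_spec.isPrime⟩)⟩
    · haveI : DiscreteTopology ↥(Spec (CommRingCat.of k)) := inferInstanceAs (DiscreteTopology (PrimeSpectrum k))
      exact GrothLib.AlgSp.isFinite_of_finite_discrete _
  · rintro ⟨U, e, he⟩
    choose V hv hV hA hL hfin using he
    have hc : TopologicalSpace.IsOpenCover V :=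
      eq_top_iff.2 fun v _ => TopologicalSpace.Opens.mem_iSup.2 ⟨v, hv v⟩
    obtain ⟨h, hh⟩ := (AlgSp.yon (Spec (CommRingCat.of k))).map_surjective (e.hom ≫ p)
    have h2 : h.left = U.hom := by rw [← Over.w h]; exact (Category.comp_id _).symm
    refine GrothLib.AlgSp.EtLocal.locP_of_chart (GrothLib.AlgSp.EtLocal.inf .lqf .lft) (a := e.hom) (h := h)
      (GrothLib.AlgSp.repWith_iso _) (GrothLib.AlgSp.repWith_iso _) (AlgSp.repWith_id _ _)
      (by rw [Category.comp_id, hh]) ?_
    rw [h2]
    exact ⟨(IsZariskiLocalAtSource.iff_of_openCover (P := @LocallyQuasiFinite)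
        (U.left.openCoverOfIsOpenCover V hc)).2 fun i => (haveI := hfin i; inferInstanceAs (LocallyQuasiFinite ((V i).ι ≫ U.hom))),
      (IsZariskiLocalAtSource.iff_of_openCover (P := @LocallyOfFiniteType)
        (U.left.openCoverOfIsOpenCover V hc)).2 fun i => (haveI := hfin i; inferInstanceAs (LocallyOfFiniteType ((V i).ι ≫ U.hom)))⟩

end Groth.Agent.S10483
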