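import Groth.Statements.S10484
import Groth.Agent.S10393
import Groth.Agent.Lib.AlgSp.MonoArtinian
import Groth.Agent.Lib.AlgSp.LocP
-- import your own Groth.Agent.* helpers here

set_option autoImplicit false
universe u
open CategoryTheory CategoryTheory.Limits AlgebraicGeometry Topology TopologicalSpace
open AlgSp GrothLib.AlgSp
set_option backward.isDefEq.respectTransparency false

namespace Groth.Agent.S10484

/-- For a field k, local quasi-finiteness over k passes from the target Y of a monomorphism f : X ⟶ Y of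
algebraic spaces over k to its source X. -/
theorem result (k : Type u) [Field k] {X Y : AlgSp.Space (Spec (CommRingCat.of k))} (f : X ⟶ Y)
    [Mono f.hom] (q : Y.obj ⟶ (AlgSp.yon (Spec (CommRingCat.of k))).obj (Over.mk (𝟙 _))) (hq : AlgSp.LocP (@LocallyQuasiFinite ⊓ @LocallyOfFiniteType : MorphismProperty Scheme.{u}) q) :
    AlgSp.LocP (@LocallyQuasiFinite ⊓ @LocallyOfFiniteType : MorphismProperty Scheme.{u}) (f.hom ≫ q) := by
  obtain ⟨V, b, hb, hbs⟩ := Y.property.atlas
  obtain ⟨h, hh⟩ := (AlgSp.yon (Spec (CommRingCat.of k))).map_surjective (b ≫ q)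
  have h1 := hq b (𝟙 _) h hb (AlgSp.repWith_id _ _) (by rw [Category.comp_id, hh])
  haveI := h1.1
  haveI := h1.2
  haveI : IsLocallyArtinian (Over.mk (𝟙 (Spec (CommRingCat.of k)))).left :=
    inferInstanceAs (IsLocallyArtinian (Spec (CommRingCat.of k)))
  haveI : IsLocallyArtinian V.left := .of_locallyQuasiFinite h.left
  have sq := IsPullback.of_hasPullback f.hom b
  haveI : Mono (pullback.snd f.hom b) := MorphismProperty.of_isPullback
    (P := MorphismProperty.monomorphisms (AlgSp.Sp _)) sq ‹Mono f.hom›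
  haveI := Groth.Agent.S10393.main
    (GrothLib.AlgSp.isAlgSpace_pullback' Y.property X.property (IsAlgSpace.yon_obj V) f.hom b) (pullback.snd f.hom b)
  let W := (pullback f.hom b).obj.reprX
  let e : (AlgSp.yon _).obj W ≅ pullback f.hom b := AlgSp.isoOfRepresentableBy (pullback f.hom b).obj.representableBy
  obtain ⟨m, hm⟩ := (AlgSp.yon (Spec (CommRingCat.of k))).map_surjective (e.hom ≫ pullback.snd f.hom b)
  have sq' : IsPullback (e.hom ≫ pullback.fst f.hom b) ((AlgSp.yon _).map m) f.hom b := by
    rw [hm]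
    exact IsPullback.of_iso sq e.symm (Iso.refl _) (Iso.refl _) (Iso.refl _) (by simp) (by simp) (by simp) (by simp)
  haveI : Mono ((AlgSp.yon (Spec (CommRingCat.of k))).map m) := by rw [hm]; infer_instance
  haveI : Mono m := (AlgSp.yon _).mono_of_mono_map this
  haveI : Mono m.left := (Over.forget _).map_mono m
  have h2 := GrothLib.AlgSp.lqf_lft_of_mono_locallyArtinian m.left
  refine GrothLib.AlgSp.EtLocal.locP_of_chart (GrothLib.AlgSp.EtLocal.inf .lqf .lft)
    (GrothLib.AlgSp.repWith_of_isPullback sq'.flip hb) (GrothLib.AlgSp.repWith_of_isPullback sq'.flip hbs)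
    (AlgSp.repWith_id _ _) (h := m ≫ h) (by
      rw [← Category.assoc, sq'.w, Category.assoc, ← hh, ← Functor.map_comp, Category.comp_id]) ?_
  haveI := h2.1
  haveI := h2.2
  exact ⟨inferInstanceAs (LocallyQuasiFinite (m.left ≫ h.left)), inferInstanceAs (LocallyOfFiniteType (m.left ≫ h.left))⟩

end Groth.Agent.S10484
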