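import Groth.Statements.S10487
import Groth.Agent.Lib.AlgSp.GenericAffine
-- import your own Groth.Agent.* helpers here

set_option autoImplicit false
universe u
open CategoryTheory CategoryTheory.Limits AlgebraicGeometry Topology TopologicalSpace
open AlgSp GrothLib.AlgSp
set_option backward.isDefEq.respectTransparency false

namespace Groth.Agent.S10487

/-- (3) ⇔ (5): let f : X ⟶ Y be a dominant morphism locally of finite type between integral algebraic
spaces over a scheme S, with generic points x and y. Then there are nonempty affine opens U ⊂ X and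
V ⊂ Y with f(U) ⊂ V and f|_U : U ⟶ V finite, if and only if x is the only point of X mapping to y. -/
theorem result {S : Scheme.{u}} {X Y : AlgSp.Space S} (hXi : AlgSp.IsIntegralSp X.obj) (hYi : AlgSp.IsIntegralSp Y.obj)
    (f : X ⟶ Y) (hft : AlgSp.LocP @LocallyOfFiniteType f.hom) (hd : AlgSp.IsDominantMor f.hom)
    (x : AlgSp.Points X.obj) (hx : IsGenericPoint x (Set.univ : Set (AlgSp.Points X.obj)))
    (y : AlgSp.Points Y.obj) (hy : IsGenericPoint y (Set.univ : Set (AlgSp.Points Y.obj))) :
    (∃ (U V : Over S) (a : (AlgSp.yon S).obj U ⟶ X.obj) (b : (AlgSp.yon S).obj V ⟶ Y.obj) (g : U ⟶ V),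
      IsAffine U.left ∧ IsAffine V.left ∧ Nonempty ↥U.left ∧
        AlgSp.RepWith @IsOpenImmersion a ∧ AlgSp.RepWith @IsOpenImmersion b ∧
          a ≫ f.hom = (AlgSp.yon S).map g ≫ b ∧ IsFinite g.left) ↔ (∀ x' : AlgSp.Points X.obj, AlgSp.Points.map f.hom x' = y → x' = x) := by
  have hxy := map_generic_eq Y.property hYi.2.1 hd hx hy
  constructor
  · rintro ⟨U, V, a, b, g, -, -, hne, ha, hb, c, hg⟩
    exact (qf_generic_iff_unique X.property Y.property hXi.2.1 hYi.2.1 hft hx hxy).1
      (hasAtMor_lqf_of_finite_opens hft ha hb c hx)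
  · intro h
    exact exists_finite_affine_opens f hXi.2.1 hYi.2.1 hft hx hy hxy h

end Groth.Agent.S10487
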