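import Groth.Agent.Lib.AlgSp.Space
import Groth.Agent.Lib.WeilExt.Extend
import Groth.Statements.S10489
-- import your own Groth.Agent.* helpers here

set_option autoImplicit false
universe u
open CategoryTheory CategoryTheory.Limits AlgebraicGeometry Topology TopologicalSpace
open AlgSp

namespace Groth.Agent.S10489

/-- Let k be a field and X an algebraic space which is smooth over k. Then X is regular as an algebraic
space. -/
theorem result (k : Type u) [Field k] (X : AlgSp.Space (Spec (CommRingCat.of k))) (p : X.obj ⟶ (AlgSp.yon (Spec (CommRingCat.of k))).obj (Over.mk (𝟙 _))) (hp : AlgSp.LocP @Smooth p) :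
    AlgSp.EtaleLocally (fun U => IsLocallyNoetherian U ∧ ∀ u : ↥U, IsRegularLocalRing ↥(U.presheaf.stalk u)) X.obj := by
  obtain ⟨U, a, ha, hs⟩ := X.property.atlas
  let h : U ⟶ Over.mk (𝟙 _) := (AlgSp.yon _).preimage (a ≫ p)
  have : Smooth h.left := hp a (𝟙 _) h ha (AlgSp.repWith_id _ _) (by simp [h])
  exact ⟨U, a, ha, hs, LocallyOfFiniteType.isLocallyNoetherian (Y := Spec (CommRingCat.of k)) h.left,
    fun u => GrothLib.WeilExt.isRegularLocalRing_stalk_of_smooth (S := Spec (CommRingCat.of k)) h.left
      (fun s => GrothLib.WeilExt.isRegularLocalRing_stalk_spec k s) u⟩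

end Groth.Agent.S10489
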