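import Groth.Statements.S1049
import Groth.Agent.Lib.CohDer20.Basic
import Groth.Agent.S1104
import Groth.Agent.Lib.QCoh.SupportExact
import Groth.Agent.Lib.DerCat.MapHomology

set_option autoImplicit false
set_option maxHeartbeats 1000000
set_option linter.style.haveILetI false
set_option backward.isDefEq.respectTransparency false
universe u
open CategoryTheory CategoryTheory.Limits AlgebraicGeometry
attribute [local instance] HasDerivedCategory.standard
open Perf

namespace Groth.Agent.S1049

/-- Let X be a Noetherian scheme. Granting that coherent modules contain zero and are closed under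
kernels, cokernels and finite products in all O_X-modules, with exact inclusion (true on a
Noetherian scheme, carried as instance hypotheses; they make Coh(O_X) an abelian category), the
induced functor D(Coh(O_X)) ⥤ D(O_X) is fully faithful on bounded objects, and a bounded object of
D(O_X) with coherent cohomology sheaves is isomorphic to the image of a bounded object of
D(Coh(O_X)). -/
theorem result (X : Scheme.{u}) [IsNoetherian X]
    [ObjectProperty.ContainsZero (fun M : X.Modules => Coh.IsCoh M)] [ObjectProperty.IsClosedUnderKernels (fun M : X.Modules => Coh.IsCoh M)]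
    [ObjectProperty.IsClosedUnderCokernels (fun M : X.Modules => Coh.IsCoh M)] [ObjectProperty.IsClosedUnderFiniteProducts (fun M : X.Modules => Coh.IsCoh M)]
    [PreservesFiniteLimits (ObjectProperty.ι (fun M : X.Modules => Coh.IsCoh M))] [PreservesFiniteColimits (ObjectProperty.ι (fun M : X.Modules => Coh.IsCoh M))] :
    (∀ (M N : DerivedCategory (ObjectProperty.FullSubcategory (fun M : X.Modules => Coh.IsCoh M))) (a b : ℤ), M.IsGE a → M.IsLE b → N.IsGE a → N.IsLE b →
      Function.Bijective (fun φ : M ⟶ N => (ObjectProperty.ι (fun M : X.Modules => Coh.IsCoh M)).mapDerivedCategory.map φ)) ∧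
    ∀ (K : DCoh.D X) (a b : ℤ), K.IsGE a → K.IsLE b → DCoh.IsCohD K →
      ∃ M : DerivedCategory (ObjectProperty.FullSubcategory (fun M : X.Modules => Coh.IsCoh M)), M.IsGE a ∧ M.IsLE b ∧
        Nonempty ((ObjectProperty.ι (fun M : X.Modules => Coh.IsCoh M)).mapDerivedCategory.obj M ≅ K) := by
  haveI hZ : ObjectProperty.ContainsZero (fun M : X.Modules => Coh.IsQCoh M) :=
    inferInstanceAs (QCohCat.isQCoh X).ContainsZero
  haveI hK : ObjectProperty.IsClosedUnderKernels (fun M : X.Modules => Coh.IsQCoh M) :=
    inferInstanceAs (QCohCat.isQCoh X).IsClosedUnderKernels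
  haveI hC : ObjectProperty.IsClosedUnderCokernels (fun M : X.Modules => Coh.IsQCoh M) :=
    inferInstanceAs (QCohCat.isQCoh X).IsClosedUnderCokernels
  haveI hP : ObjectProperty.IsClosedUnderFiniteProducts (fun M : X.Modules => Coh.IsQCoh M) :=
    inferInstanceAs (QCohCat.isQCoh X).IsClosedUnderFiniteProducts
  haveI := (GrothLib.CohDer20.exactι X).1
  haveI := (GrothLib.CohDer20.exactι X).2
  let cI := GrothLib.CohDer20.cI X
  let qI := GrothLib.CohDer20.qI X
  let jI := ObjectProperty.ι (fun M : X.Modules => Coh.IsCoh M)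
  haveI : PreservesFiniteLimits cI := ⟨fun J _ _ => by
    haveI : PreservesLimitsOfShape J (cI ⋙ qI) := inferInstanceAs (PreservesLimitsOfShape J jI)
    exact preservesLimitsOfShape_of_reflects_of_preserves cI qI⟩
  haveI : PreservesFiniteColimits cI := ⟨fun J _ _ => by
    haveI : PreservesColimitsOfShape J (cI ⋙ qI) := inferInstanceAs (PreservesColimitsOfShape J jI)
    exact preservesColimitsOfShape_of_reflects_of_preserves cI qI⟩
  haveI : cI.Additive := Functor.additive_of_preserves_binary_products _
  haveI : qI.Additive := Functor.additive_of_preserves_binary_products _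
  obtain ⟨hfull, hfaith, himg⟩ := Groth.Agent.S1104.result X
  haveI := hfull
  haveI := hfaith
  obtain ⟨hff, hes⟩ := GrothLib.CohDer20.main X
  let c : cI.mapDerivedCategory ⋙ qI.mapDerivedCategory ≅ jI.mapDerivedCategory :=
    GrothLib.DerCat.mapDerivedCompIso cI qI jI (Iso.refl _)
  refine ⟨fun M N a b _ hMb _ hNb => ?_, fun K a b hKa hKb hK => ?_⟩
  · have hb : Function.Bijective fun φ : M ⟶ N => (cI.mapDerivedCategory ⋙ qI.mapDerivedCategory).map φ :=
      Function.Bijective.comp (g := fun ψ : cI.mapDerivedCategory.obj M ⟶ cI.mapDerivedCategory.obj N =>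
          qI.mapDerivedCategory.map ψ) (f := fun φ : M ⟶ N => cI.mapDerivedCategory.map φ)
        ⟨qI.mapDerivedCategory.map_injective, qI.mapDerivedCategory.map_surjective⟩
        (hff M N b hMb hNb)
    have he : (fun φ : M ⟶ N => jI.mapDerivedCategory.map φ) =
        (fun ψ => (c.app M).inv ≫ ψ ≫ (c.app N).hom) ∘
          fun φ => (cI.mapDerivedCategory ⋙ qI.mapDerivedCategory).map φ := by
      funext φ
      exact ((Iso.inv_comp_eq _).2 (c.hom.naturality φ)).symm
    rw [he]
    exact ((Iso.homCongr (c.app M) (c.app N)).bijective).comp hb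
  · obtain ⟨K', ⟨i⟩⟩ := (himg K).1 fun q => (hK q).1
    have hh : ∀ q, qI.obj ((DerivedCategory.homologyFunctor _ q).obj K') ≅
        (DerivedCategory.homologyFunctor X.Modules q).obj K := fun q =>
      ((GrothLib.DerTrunc.homologyMapIso qI q).app K').symm ≪≫
        (DerivedCategory.homologyFunctor X.Modules q).mapIso i
    haveI := hKa
    haveI := hKb
    haveI : K'.IsLE b := (DerivedCategory.isLE_iff K' b).2 fun q hq => by
      have h0 := ((DerivedCategory.isLE_iff K b).1 hKb q hq).of_iso (hh q)
      exact (IsZero.iff_id_eq_zero _).2 (qI.map_injective (h0.eq_of_src _ _))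
    obtain ⟨M, hM, ⟨j⟩⟩ := hes K' b ‹_› fun q => GrothLib.QCoh.isCoh_of_iso (hh q).symm (hK q)
    let t : jI.mapDerivedCategory.obj M ≅ K :=
      (c.app M).symm ≪≫ qI.mapDerivedCategory.mapIso j ≪≫ i
    refine ⟨M, (DerivedCategory.isGE_iff M a).2 fun q hq => ?_, hM, ⟨t⟩⟩
    have h0 := ((DerivedCategory.isGE_iff K a).1 hKa q hq).of_iso
      (((GrothLib.DerTrunc.homologyMapIso jI q).app M).symm ≪≫
        (DerivedCategory.homologyFunctor X.Modules q).mapIso t)
    exact (IsZero.iff_id_eq_zero _).2 (jI.map_injective (h0.eq_of_src _ _))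

end Groth.Agent.S1049
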