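import Groth.Statements.S10490
import Groth.Agent.S1550
import Groth.Agent.Lib.AlgSp.Points
import Groth.Agent.Lib.AlgSp.Space
-- import your own Groth.Agent.* helpers here

set_option autoImplicit false
universe u
open CategoryTheory CategoryTheory.Limits AlgebraicGeometry Topology TopologicalSpace
open AlgSp GrothLib.AlgSp
set_option backward.isDefEq.respectTransparency false

namespace Groth.Agent.S10490

/-- Let k be a field and X an algebraic space smooth over k. Then the points of X which are images of
morphisms Spec k' ⟶ X over k with k' a finite separable extension of k form a dense subset of |X|. -/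
theorem result (k : Type u) [Field k] (X : AlgSp.Space (Spec (CommRingCat.of k))) (p : X.obj ⟶ (AlgSp.yon (Spec (CommRingCat.of k))).obj (Over.mk (𝟙 _))) (hp : AlgSp.LocP @Smooth p) :
    Dense {x : AlgSp.Points X.obj | ∃ (k' : Type u) (_ : Field k') (_ : Algebra k k'),
      Module.Finite k k' ∧ Algebra.IsSeparable k k' ∧
        ∃ v : X.obj.obj.obj (Opposite.op (Over.mk (Spec.map (CommRingCat.ofHom (algebraMap k k'))))),
          AlgSp.Points.mk ⟨k', Spec.map (CommRingCat.ofHom (algebraMap k k')), v⟩ = x} := by
  rw [dense_iff_inter_open]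
  intro O hO hne
  obtain ⟨U, a, ha, hs⟩ := X.property.atlas
  obtain ⟨x, hx⟩ := hne
  obtain ⟨u, rfl⟩ := GrothLib.AlgSp.surjective_ofPt_of_repWith hs x
  obtain ⟨h, hh⟩ := (AlgSp.yon (Spec (CommRingCat.of k))).map_surjective (a ≫ p)
  have h1 := hp a (𝟙 _) h ha (GrothLib.AlgSp.repWith_iso _) (by rw [Category.comp_id, hh])
  have h2 : h.left = U.hom := by rw [← Over.w h]; exact (Category.comp_id _).symm
  haveI hsm : Smooth U.hom := h2 ▸ h1
  letI : U.left.Over (Spec (CommRingCat.of k)) := ⟨U.hom⟩
  haveI : Smooth (U.left ↘ Spec (CommRingCat.of k)) := hsm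
  obtain ⟨w, hwO, -, hfin, hsep⟩ := (dense_iff_inter_open.1 (Groth.Agent.S1550.result k U.left)) _
    (hO.preimage (Points.continuous_ofPt a)) ⟨u, hx⟩
  letI := Curv2.resAlgebra k U.left w
  have hm : Spec.map (CommRingCat.ofHom (algebraMap k (U.left.residueField w))) =
      U.left.fromSpecResidueField w ≫ U.hom := by
    show Spec.map (CommRingCat.ofHom (Curv2.resMap k U.left w)) = _
    rw [Groth.Agent.S1550.resMap_eq, GrothLib.AffDom.SpecMap_toRes]
    rfl
  let T : Over (Spec (CommRingCat.of k)) :=
    Over.mk (Spec.map (CommRingCat.ofHom (algebraMap k (U.left.residueField w))))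
  let i : T ⟶ U := Over.homMk (U := T) (V := U) (U.left.fromSpecResidueField w) hm.symm
  refine ⟨Points.ofPt a w, hwO, U.left.residueField w, inferInstance, inferInstance, hfin, hsep,
    (J (Spec (CommRingCat.of k))).uliftYonedaEquiv.{u + 1} ((AlgSp.yon (Spec (CommRingCat.of k))).map i ≫ a), ?_⟩
  let m : AlgSp.FieldPt X.obj := ⟨U.left.residueField w, Spec.map (CommRingCat.ofHom (algebraMap k (U.left.residueField w))),
    (J (Spec (CommRingCat.of k))).uliftYonedaEquiv.{u + 1} ((AlgSp.yon (Spec (CommRingCat.of k))).map i ≫ a)⟩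
  have hm' : m.toHom = (AlgSp.yon (Spec (CommRingCat.of k))).map i ≫ a := Equiv.symm_apply_apply _ _
  show Points.mk m = Points.ofPt a w
  rw [← Points.ofPt_toHom m (IsLocalRing.closedPoint (U.left.residueField w)), hm', GrothLib.AlgSp.ofPt_map_comp]
  exact congrArg _ (Scheme.fromSpecResidueField_apply _ _)

end Groth.Agent.S10490
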