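import Groth.Agent.Lib.AlgSp.Points
import Groth.Agent.Lib.AlgSp.DecentPoints
import Groth.Statements.S10491
-- import your own Groth.Agent.* helpers here

set_option autoImplicit false
universe u
open CategoryTheory CategoryTheory.Limits AlgebraicGeometry Topology TopologicalSpace
open AlgSp

namespace Groth.Agent.S10491

/-- Let X be an algebraic space over a scheme S which is locally Noetherian, and T ⊂ |X| a closed
subset. Then every point of |X| has a neighbourhood meeting only finitely many irreducible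
components of T. -/
theorem result {S : Scheme.{u}} (X : AlgSp.Space S)
    (hX : AlgSp.IsLocNoethSp X.obj) (T : Set (AlgSp.Points X.obj)) (hT : IsClosed T) :
    LocallyFinite (fun Z : ↥(irreducibleComponents ↥T) => ((↑) : ↥T → AlgSp.Points X.obj) '' (Z : Set ↥T)) := by
  obtain ⟨U, a, ha, hs, hN⟩ := hX
  haveI : IsLocallyNoetherian U.left := hN
  intro x
  obtain ⟨u, rfl⟩ := GrothLib.AlgSp.surjective_ofPt_of_repWith hs x
  obtain ⟨A, hA, huA, -⟩ := exists_isAffineOpen_mem_and_subset (U := (⊤ : U.left.Opens)) (x := u) trivial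
  have := IsLocallyNoetherian.component_noetherian (X := U.left) ⟨A, hA⟩
  haveI : NoetherianSpace (A : Set ↥U.left) := noetherianSpace_of_isAffineOpen A hA
  let O : Set (AlgSp.Points X.obj) := AlgSp.Points.ofPt a '' (A : Set ↥U.left)
  have hO : IsOpen O := GrothLib.AlgSp.isOpenMap_ofPt_of_etale ha _ A.2
  refine ⟨O, hO.mem_nhds ⟨u, huA, rfl⟩, ?_⟩
  let O' : Set ↥T := ((↑) : ↥T → AlgSp.Points X.obj) ⁻¹' O
  have hO' : IsOpen O' := hO.preimage continuous_subtype_val
  haveI : NoetherianSpace ↥O' := by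
    let B : Set (A : Set ↥U.left) := {z | AlgSp.Points.ofPt a z.1 ∈ T}
    let φ : ↥B → ↥O' := fun z => ⟨⟨AlgSp.Points.ofPt a z.1.1, z.2⟩, z.1.1, z.1.2, rfl⟩
    refine noetherianSpace_of_surjective φ ?_ ?_
    · exact ((((AlgSp.Points.continuous_ofPt a).comp continuous_subtype_val).comp continuous_subtype_val).subtype_mk _).subtype_mk _
    · rintro ⟨⟨y, hy⟩, z, hz, hzy⟩
      exact ⟨⟨⟨z, hz⟩, show AlgSp.Points.ofPt a z ∈ T from hzy ▸ hy⟩, Subtype.ext (Subtype.ext hzy)⟩
  have hfin := NoetherianSpace.finite_irreducibleComponents (α := ↥O')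
  let G : Set (Set ↥T) := (fun C => closure (Subtype.val '' C)) '' irreducibleComponents ↥O'
  refine Set.Finite.subset ((hfin.image _ : G.Finite).preimage Subtype.val_injective.injOn) ?_
  rintro ⟨Z, hZ⟩ ⟨y, ⟨z, hzZ, rfl⟩, hzO⟩
  show Z ∈ G
  have hZo : (Z ∩ O').Nonempty := ⟨z, hzZ, hzO⟩
  have hirr : IsIrreducible ((Subtype.val : ↥O' → ↥T) ⁻¹' Z) :=
    ⟨⟨⟨z, hzO⟩, hzZ⟩, hZ.1.isPreirreducible.preimage hO'.isOpenEmbedding_subtypeVal⟩
  obtain ⟨C, hC, hCsub⟩ : ∃ C ∈ irreducibleComponents ↥O', (Subtype.val : ↥O' → ↥T) ⁻¹' Z ⊆ C := by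
    obtain ⟨C, hC, hsub, hm⟩ := exists_preirreducible _ hirr.isPreirreducible
    exact ⟨C, ⟨⟨hirr.nonempty.mono hsub, hC⟩, fun D hD hle => (hm D hD.isPreirreducible hle).le⟩, hsub⟩
  refine ⟨C, hC, ?_⟩
  have hle : Z ⊆ closure (Subtype.val '' C) :=
    (subset_closure_inter_of_isPreirreducible_of_isOpen hZ.1.isPreirreducible hO' hZo).trans
      (closure_mono fun w hw => ⟨⟨w, hw.2⟩, hCsub hw.1, rfl⟩)
  exact subset_antisymm (hZ.2 (hC.1.image _ continuous_subtype_val.continuousOn).closure hle) hle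

end Groth.Agent.S10491
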