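import Groth.Statements.S9821
import Groth.Agent.Lib.NormalExt.Basic

set_option autoImplicit false
universe u
open CategoryTheory CategoryTheory.Limits AlgebraicGeometry TopologicalSpace Opposite
open Props

namespace Groth.Agent.S9821

/-- An integral scheme is normal if and only if the coordinate ring of every nonempty affine open is an
integrally closed domain. -/
theorem result (X : Scheme.{u}) [IsIntegral X] :
    Pi1.IsNormalScheme X ↔ ∀ (U : X.Opens) [Nonempty U], IsAffineOpen U → IsIntegrallyClosed Γ(X, U) := by
    refine ⟨fun h U _ hU => GrothLib.NormalExt.isIntegrallyClosed_Γ (fun x => (h x).2) U hU, fun h x => ⟨inferInstance, ?_⟩⟩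
    obtain ⟨U, hU, hx, -⟩ := exists_isAffineOpen_mem_and_subset (TopologicalSpace.Opens.mem_top x)
    haveI : Nonempty U := ⟨⟨x, hx⟩⟩
    haveI := h U hU
    letI := X.presheaf.algebra_section_stalk ⟨x, hx⟩
    haveI := hU.isLocalization_stalk ⟨x, hx⟩
    exact isIntegrallyClosed_of_isLocalization (X.presheaf.stalk x) (hU.primeIdealOf ⟨x, hx⟩).asIdeal.primeCompl
      (fun a ha => mem_nonZeroDivisors_of_ne_zero fun e => ha (by rw [e]; exact zero_mem _))

end Groth.Agent.S9821
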