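import Groth.Statements.S10492
import Groth.Agent.S9821
import Groth.Agent.S10394
import Groth.Agent.S10338
import Groth.Agent.Lib.AlgSp.DecentPoints
import Groth.Agent.Lib.AlgSp.DimFormulaSpace
import Groth.Agent.Lib.AlgSp.GlobalFunctions
-- import your own Groth.Agent.* helpers here

set_option autoImplicit false
universe u
open CategoryTheory CategoryTheory.Limits AlgebraicGeometry Topology TopologicalSpace
open AlgSp GrothLib.AlgSp
set_option backward.isDefEq.respectTransparency false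

namespace Groth.Agent.S10492

/-- Let X be a normal integral algebraic space over a scheme S. Each point x of X lies in the image of
some etale morphism U ⟶ X from an affine scheme U that is normal and integral. -/
theorem result {S : Scheme.{u}} (X : AlgSp.Space S)
    (hXi : AlgSp.IsIntegralSp X.obj)
    (hXn : AlgSp.EtaleLocally (fun U => ∀ u : ↥U, IsDomain ↥(U.presheaf.stalk u) ∧
      IsIntegrallyClosed ↥(U.presheaf.stalk u)) X.obj)
    (x : AlgSp.Points X.obj) :
    ∃ (U : Over S) (a : (AlgSp.yon S).obj U ⟶ X.obj), AlgSp.RepWith @Etale a ∧ IsAffine U.left ∧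
      IsIntegral U.left ∧ IsIntegrallyClosed ↥Γ(U.left, ⊤) ∧ x ∈ Set.range (AlgSp.Points.ofPt a) := by
  classical
  obtain ⟨U₀, a₀, ha₀, hs₀, -⟩ := hXi.1
  obtain ⟨u₀, rfl⟩ := GrothLib.AlgSp.surjective_ofPt_of_repWith hs₀ x
  obtain ⟨O, hu₀, hO, b, hb, hbo⟩ := GrothLib.AlgSp.exists_affine_subchart ha₀ u₀
  let U₁ : Over S := Over.mk (O.ι ≫ U₀.hom)
  haveI : IsAffine U₁.left := hO
  let v : ↥U₁.left := ⟨u₀, hu₀⟩
  have hn : Pi1.IsNormalScheme U₁.left := fun w => GrothLib.AlgSp.normal_of_chart hXn (EtOver.mk b hb) w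
  haveI : ∀ w : ↥U₁.left, _root_.IsReduced (U₁.left.presheaf.stalk w) := fun w => by
    haveI := (hn w).1; infer_instance
  haveI : IsReduced U₁.left := isReduced_of_isReduced_stalk _
  haveI := Groth.Agent.S10338.result X hXi.2.1
  haveI := hXi.2.2
  -- generic points of components map to the generic point
  have hgen : ∀ (Z : Set ↥U₁.left) (η : ↥U₁.left), Z ∈ irreducibleComponents ↥U₁.left → IsGenericPoint η Z →
      IsGenericPoint (Points.ofPt b η) (Set.univ : Set (Points X.obj)) := by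
    intro Z η hZ hη
    obtain ⟨T, hT, hgT⟩ := (Groth.Agent.S10394.result X hXi.2.1 (Points.ofPt b η)).2 ⟨U₁, b, η, hb, rfl,
      GrothLib.AlgSp.ringKrullDim_stalk_eq_zero_of_component (hη.def ▸ hZ)⟩
    rwa [Set.Subset.antisymm (Set.subset_univ T) (hT.2 (IrreducibleSpace.isIrreducible_univ _) (Set.subset_univ T))] at hgT
  have hgp : ∀ Z : irreducibleComponents ↥U₁.left, ∃ η, IsGenericPoint η (Z : Set ↥U₁.left) := fun Z =>
    QuasiSober.sober Z.2.1 (isClosed_of_mem_irreducibleComponents _ Z.2)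
  choose gp hgp using hgp
  haveI : Finite (irreducibleComponents ↥U₁.left) := by
    rcases isEmpty_or_nonempty (irreducibleComponents ↥U₁.left) with h | ⟨⟨Z₀⟩⟩
    · infer_instance
    have hfin := GrothLib.AlgSp.finiteFibres_of_isDecent X.property hXi.2.1 (Points.ofPt b (gp Z₀)) U₁ b
      (inferInstanceAs (IsAffine U₁.left)) hb
    haveI := hfin.to_subtype
    refine Finite.of_injective (fun Z => (⟨gp Z, (hgen Z.1 _ Z.2 (hgp Z)).eq (hgen Z₀.1 _ Z₀.2 (hgp Z₀))⟩ :
      ↥(Points.ofPt b ⁻¹' {Points.ofPt b (gp Z₀)}))) fun Z Z' h => Subtype.ext ?_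
    have e : gp Z = gp Z' := congrArg (fun s : ↥(Points.ofPt b ⁻¹' {Points.ofPt b (gp Z₀)}) => (s : ↥U₁.left)) h
    rw [← (hgp Z).def, ← (hgp Z').def, e]
  let Z₁ : irreducibleComponents ↥U₁.left := ⟨irreducibleComponent v, irreducibleComponent_mem_irreducibleComponents v⟩
  have huniq : ∀ Z : irreducibleComponents ↥U₁.left, v ∈ (Z : Set ↥U₁.left) → Z = Z₁ := by
    intro Z hZ
    haveI := (hn v).1
    let ξ := U₁.left.fromSpecStalk v (⊥ : PrimeSpectrum (U₁.left.presheaf.stalk v))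
    have key : ∀ Z' : irreducibleComponents ↥U₁.left, v ∈ (Z' : Set ↥U₁.left) → gp Z' = ξ := by
      intro Z' hZ'
      have hs : gp Z' ⤳ v := (hgp Z').specializes hZ'
      obtain ⟨p, hp⟩ : gp Z' ∈ Set.range (U₁.left.fromSpecStalk v) := by
        rw [Scheme.range_fromSpecStalk]; exact hs
      have h1 : ξ ⤳ gp Z' := by
        rw [← hp]
        exact ((PrimeSpectrum.le_iff_specializes ⊥ p).1 bot_le).map (U₁.left.fromSpecStalk v).continuous
      have h2 : (Z' : Set ↥U₁.left) ⊆ closure {ξ} := by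
        rw [← (hgp Z').def]
        exact closure_minimal (Set.singleton_subset_iff.2 h1.mem_closure) isClosed_closure
      exact (hgp Z').eq ((Set.Subset.antisymm h2 (Z'.2.2 isIrreducible_singleton.closure h2)).symm : closure {ξ} = _)
    refine Subtype.ext ?_
    rw [← (hgp Z).def, ← (hgp Z₁).def, key Z hZ, key Z₁ mem_irreducibleComponent]
  let C : Set ↥U₁.left := ⋃ Z ∈ {Z : irreducibleComponents ↥U₁.left | Z ≠ Z₁}, (Z : Set ↥U₁.left)
  have hC : IsClosed C :=
    (Set.toFinite _).isClosed_biUnion fun Z _ => isClosed_of_mem_irreducibleComponents _ Z.2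
  have hvC : v ∉ C := by
    simp only [C, Set.mem_iUnion, not_exists]
    exact fun Z hZ hvZ => hZ (huniq Z hvZ)
  have hCsub : Cᶜ ⊆ (Z₁ : Set ↥U₁.left) := by
    intro w hw
    by_contra h
    refine hw (Set.mem_biUnion (x := (⟨irreducibleComponent w, irreducibleComponent_mem_irreducibleComponents w⟩ :
      irreducibleComponents ↥U₁.left)) (fun e => h ?_) mem_irreducibleComponent)
    rw [← e]
    exact mem_irreducibleComponent
  obtain ⟨W, hW, hvW, hWC⟩ := exists_isAffineOpen_mem_and_subset (U := (⟨Cᶜ, hC.isOpen_compl⟩ : U₁.left.Opens))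
    (x := v) hvC
  haveI : Nonempty ↥(W : U₁.left.Opens) := ⟨⟨v, hvW⟩⟩
  haveI hWirr : IrreducibleSpace ↥(W : U₁.left.Opens) := by
    have h := Z₁.2.1.isPreirreducible.open_subset W.isOpen (hWC.trans hCsub)
    exact { toPreirreducibleSpace := Subtype.preirreducibleSpace h, toNonempty := ⟨⟨v, hvW⟩⟩ }
  haveI : IrreducibleSpace ↥(W : Scheme.{u}) := hWirr
  haveI : IsReduced (W : Scheme.{u}) := isReduced_of_isOpenImmersion W.ι
  haveI : IsIntegral (W : Scheme.{u}) := isIntegral_of_irreducibleSpace_of_isReduced _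
  haveI : IsAffine (W : Scheme.{u}) := hW
  haveI hne : Nonempty ↥(⊤ : (W : Scheme.{u}).Opens) := ⟨⟨⟨v, hvW⟩, trivial⟩⟩
  let U₂ : Over S := Over.mk (W.ι ≫ U₁.hom)
  let i : U₂ ⟶ U₁ := Over.homMk W.ι rfl
  refine ⟨U₂, (AlgSp.yon S).map i ≫ b,
    GrothLib.AlgSp.repWith_comp ((repWith_yon_map_iff _ i).2 (inferInstanceAs (Etale W.ι))) hb,
    hW, inferInstanceAs (IsIntegral (W : Scheme.{u})), ?_, ⟨(⟨v, hvW⟩ : W), ?_⟩⟩
  · have hWn : Pi1.IsNormalScheme (W : Scheme.{u}) := fun w => ?_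
    · have h9 := (Groth.Agent.S9821.result (W : Scheme.{u})).1 hWn
      exact @h9 (⊤ : (W : Scheme.{u}).Opens) hne (isAffineOpen_top _)
    have e := (W.stalkIso w).commRingCatIsoToRingEquiv
    haveI := (hn w.1).1
    haveI := (hn w.1).2
    exact ⟨e.injective.isDomain e.toRingHom, IsIntegrallyClosed.of_equiv e.symm⟩
  · rw [GrothLib.AlgSp.ofPt_map_comp]
    exact hbo v

end Groth.Agent.S10492
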