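import Groth.Statements.S10495
import Groth.Agent.Lib.AlgSp.GlobalFunctions
-- import your own Groth.Agent.* helpers here

set_option autoImplicit false
universe u
open CategoryTheory CategoryTheory.Limits AlgebraicGeometry Topology TopologicalSpace
open AlgSp

namespace Groth.Agent.S10495

/-- Let X be a normal integral algebraic space over a scheme S. Then Γ(X, O_X) is a normal domain. -/
theorem result {S : Scheme.{u}} (X : AlgSp.Space S)
    (hXi : AlgSp.IsIntegralSp X.obj)
    (hXn : AlgSp.EtaleLocally (fun U => ∀ u : ↥U, IsDomain ↥(U.presheaf.stalk u) ∧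
      IsIntegrallyClosed ↥(U.presheaf.stalk u)) X.obj) :
    IsDomain ↥(AlgSp.gsectEt (AlgSp.OEt X.obj)) ∧ IsIntegrallyClosed ↥(AlgSp.gsectEt (AlgSp.OEt X.obj)) := by
  exact ⟨GrothLib.AlgSp.isDomain_gsectEt hXi, GrothLib.AlgSp.isIntegrallyClosed_gsectEt hXi hXn⟩
end Groth.Agent.S10495
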