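import Groth.Statements.S10496
import Groth.Agent.Lib.AlgSp.ClosedSub
-- import your own Groth.Agent.* helpers here

set_option autoImplicit false
universe u
open CategoryTheory CategoryTheory.Limits AlgebraicGeometry Topology TopologicalSpace
open AlgSp

namespace Groth.Agent.S10496

/-- Let X be a decent algebraic space over a scheme S. For every irreducible closed subset T of |X|
there is an integral closed subspace Z of X with |Z| = T. -/
theorem result {S : Scheme.{u}} (X : AlgSp.Space S)
    (hX : AlgSp.IsDecent X.obj) (T : Set (AlgSp.Points X.obj)) (hT : IsClosed T) (hTi : IsIrreducible T) :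
    ∃ (Z : AlgSp.Space S) (i : Z ⟶ X), AlgSp.RepWith @IsClosedImmersion i.hom ∧ AlgSp.IsIntegralSp Z.obj ∧
      Set.range (AlgSp.Points.map i.hom) = T := by
  obtain ⟨Z, i, hZ, hi⟩ := GrothLib.AlgSp.exists_isRedInduced_sp X.property hT
  refine ⟨⟨Z, hZ⟩, ObjectProperty.homMk i, hi.1, ⟨hi.2.2, GrothLib.AlgSp.isDecent_of_representable hi.1.1 hX, ?_⟩, hi.2.1⟩
  have he := GrothLib.AlgSp.isClosedEmbedding_of_closedImmersion hi.1
  have hr : IsIrreducible (Set.range (AlgSp.Points.map i)) := hi.2.1.symm ▸ hTi
  haveI : IrreducibleSpace ↥(Set.range (AlgSp.Points.map i)) := irreducibleSpace_def _ |>.2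
    ⟨@Set.univ_nonempty _ hr.nonempty.to_subtype,
      (Subtype.preirreducibleSpace hr.isPreirreducible).isPreirreducible_univ⟩
  refine irreducibleSpace_def _ |>.2 ?_
  have := (IrreducibleSpace.isIrreducible_univ ↥(Set.range (AlgSp.Points.map i))).image
    he.toIsEmbedding.toHomeomorph.symm he.toIsEmbedding.toHomeomorph.symm.continuous.continuousOn
  rwa [Set.image_univ, he.toIsEmbedding.toHomeomorph.symm.surjective.range_eq] at this

end Groth.Agent.S10496
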