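import Groth.Statements.S10498
import Groth.Agent.Lib.Hensel.Branches

set_option autoImplicit false
set_option backward.isDefEq.respectTransparency false
universe u
open TensorProduct
open Hensel
open scoped TensorProduct

namespace Groth.Agent.S10498

/-- (1) ⇔ (2): let k be a field, A a local k-algebra and R a strict henselization of A. Then A is
geometrically reduced over k (K ⊗_k A reduced for every field extension K of k) if and only if R is
geometrically reduced over k. -/
theorem result (k : Type u) [Field k]
    (A : Type u) [CommRing A] [IsLocalRing A] [Algebra k A]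
    (R : Type u) [CommRing R] [IsLocalRing R] [Algebra A R] [IsLocalHom (algebraMap A R)]
    [Hensel.IsStrictHenselization A R] [Algebra k R] [IsScalarTower k A R] :
    (∀ (K : Type u) [Field K] [Algebra k K], IsReduced (TensorProduct k K A)) ↔
      ∀ (K : Type u) [Field K] [Algebra k K], IsReduced (TensorProduct k K R) := by
  have hS := GrothLib.Hensel.IsStrictHenselization.etaleStages (A := A) (S := R)
  haveI : Module.Flat A R := GrothLib.Hensel.IsStrictHenselization.flat
  constructor
  · intro h K _ _
    haveI := h K
    let M := A ⊗[k] K
    haveI : IsReduced M := isReduced_of_injective (Algebra.TensorProduct.comm k A K).toRingEquiv.toRingHom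
      (Algebra.TensorProduct.comm k A K).injective
    let P := ∀ p : PrimeSpectrum M, p.asIdeal.ResidueField
    have hP : GrothLib.Hensel.AbsFlat P := fun a ↦ by
      choose b hb using fun p ↦ GrothLib.Hensel.absFlat_of_field p.asIdeal.ResidueField (a p)
      exact ⟨b, funext hb⟩
    have hinj : Function.Injective (IsScalarTower.toAlgHom A M P) := by
      refine (injective_iff_map_eq_zero _).mpr fun m hm ↦ IsReduced.eq_zero m ?_
      rw [← mem_nilradical, nilradical_eq_sInf, Ideal.mem_sInf]
      exact fun {q} (hq : q.IsPrime) ↦ (Ideal.algebraMap_residueField_eq_zero (I := q)).mp (congrFun hm (⟨q, hq⟩ : PrimeSpectrum M))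
    haveI := (hS.absFlat_tensor hP).isReduced
    let j : R ⊗[A] M →ₐ[A] R ⊗[A] P := Algebra.TensorProduct.map (AlgHom.id A R) (IsScalarTower.toAlgHom A M P)
    have hj : Function.Injective j :=
      Module.Flat.lTensor_preserves_injective_linearMap (M := R) (IsScalarTower.toAlgHom A M P).toLinearMap hinj
    haveI : IsReduced (R ⊗[A] M) := isReduced_of_injective j.toRingHom hj
    let e : TensorProduct k K R ≃+* R ⊗[A] M := (Algebra.TensorProduct.comm k K R).toRingEquiv.trans
      (Algebra.TensorProduct.cancelBaseChange k A A R K).symm.toRingEquiv
    exact isReduced_of_injective e.toRingHom e.injective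
  · intro h K _ _
    haveI := h K
    haveI : Module.FaithfullyFlat A R := GrothLib.Hensel.IsStrictHenselization.faithfullyFlat
    let j := Algebra.TensorProduct.map (AlgHom.id k K) (IsScalarTower.toAlgHom k A R)
    have hj : Function.Injective j := Module.Flat.lTensor_preserves_injective_linearMap (M := K)
      (IsScalarTower.toAlgHom k A R).toLinearMap (FaithfulSMul.algebraMap_injective A R)
    exact isReduced_of_injective j.toRingHom hj

end Groth.Agent.S10498
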