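import Groth.Statements.S10501
import Groth.Agent.Lib.AlgSp.GeomConn
-- import your own Groth.Agent.* helpers here

set_option autoImplicit false
universe u
open CategoryTheory CategoryTheory.Limits AlgebraicGeometry Topology TopologicalSpace
open AlgSp GrothLib.AlgSp
set_option backward.isDefEq.respectTransparency false

namespace Groth.Agent.S10501

/-- Over a separably closed field k, an algebraic space X is geometrically connected if and only if it
is connected. -/
theorem result (k : Type u) [Field k] [IsSepClosed k]
    (X : AlgSp.Space (Spec (CommRingCat.of k))) :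
    (∀ (K : Type u) [Field K] [Algebra k K], ConnectedSpace (AlgSp.Points (X.obj ⨯ (AlgSp.yon (Spec (CommRingCat.of k))).obj (Over.mk (Spec.map (CommRingCat.ofHom (algebraMap k K))))))) ↔ ConnectedSpace (AlgSp.Points X.obj) := by
  refine ⟨fun h => ?_, fun h K _ _ => ?_⟩
  · have := h k
    exact (GrothLib.AlgSp.surjective_map_fst_bc k X.property).connectedSpace (Points.continuous_map _)
  · obtain ⟨U, a, ha, hs⟩ := X.property.atlas
    have hq := (GrothLib.AlgSp.isOpenQuotientMap_ofPt ha hs).isQuotientMap
    have sq := GrothLib.AlgSp.isPullback_bcChartMap a K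
    haveI : UniversallyOpen (FBase.bcπ U.hom K) := MorphismProperty.pullback_fst _ _ inferInstance
    have hop := GrothLib.AlgSp.isOpenMap_of_chart sq hq (FBase.bcπ U.hom K).isOpenMap
    have hfib := GrothLib.AlgSp.isConnected_fibre_of_chart sq hq.surjective
      (fun w => GrothLib.FBase7.isConnected_preimage_singleton_of_isSepClosed U.hom K w)
    have h2 := GrothLib.FBase7.isConnected_preimage_of_open hop (Points.continuous_map _)
      (fun y => (hfib y).nonempty) hfib isConnected_univ
    rw [Set.preimage_univ] at h2
    exact connectedSpace_iff_univ.2 h2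

end Groth.Agent.S10501
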