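import Groth.Agent.Lib.AlgSp.FppfCover
import Groth.Statements.S10506
-- import your own Groth.Agent.* helpers here

set_option autoImplicit false
universe u
open CategoryTheory CategoryTheory.Limits AlgebraicGeometry
open AlgSp

namespace Groth.Agent.S10506

/-- The base change of an fpqc covering of an algebraic space `X` by algebraic spaces along a morphism
of algebraic spaces `X' ⟶ X` is an fpqc covering of `X'`; the base changes `X' ×_X X_i ⟶ X'` are
given as pullback squares of sheaves whose corners `X'_i` are algebraic spaces. -/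
theorem result {S : Scheme.{u}} {X X' : AlgSp.Space S} (a : X' ⟶ X) {ι : Type u}
    (Xi : ι → AlgSp.Space S) (g : ∀ i, Xi i ⟶ X) (Xi' : ι → AlgSp.Space S) (q : ∀ i, Xi' i ⟶ X')
    (p : ∀ i, Xi' i ⟶ Xi i) (sq : ∀ i, IsPullback (q i).hom (p i).hom a.hom (g i).hom)
    (h : AlgSp.IsFpqcCover (fun i => (Xi i).obj) (fun i => (g i).hom)) :
    AlgSp.IsFpqcCover (fun i => (Xi' i).obj) (fun i => (q i).hom) := by
  refine ⟨fun i => GrothLib.AlgSp.EtLocal.flat.locP_of_isPullback (Xi i).property X.property X'.property (sq i).flip (h.1 i),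
    fun Z hZ k => ?_⟩
  obtain ⟨m, W, c, h₁, h₂, h₃, h₄⟩ := h.2 Z hZ (k ≫ a.hom)
  refine ⟨m, W, c, h₁, h₂, h₃, fun j => ?_⟩
  obtain ⟨i, l, hl⟩ := h₄ j
  exact ⟨i, (sq i).lift ((AlgSp.yon S).map (c j) ≫ k) l (by rw [Category.assoc]; exact hl.symm),
    (sq i).lift_fst _ _ _⟩

end Groth.Agent.S10506
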