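import Groth.Agent.Lib.AlgSp.FppfCover
import Groth.Statements.S10507
-- import your own Groth.Agent.* helpers here

set_option autoImplicit false
universe u
open CategoryTheory CategoryTheory.Limits AlgebraicGeometry
open AlgSp

namespace Groth.Agent.S10507

/-- If `{X_i ⟶ X}` is an fpqc covering of the algebraic space `X` by algebraic spaces and each `X_i` has
an fpqc covering `{X_ij ⟶ X_i}` by algebraic spaces, then the composites `X_ij ⟶ X_i ⟶ X`, indexed
by the pairs `(i, j)`, form an fpqc covering of `X`. -/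
theorem result {S : Scheme.{u}} (X : AlgSp.Space S) {ι : Type u}
    (Xi : ι → AlgSp.Space S) (g : ∀ i, Xi i ⟶ X) (κ : ι → Type u) (Xij : ∀ i, κ i → AlgSp.Space S)
    (gij : ∀ i j, Xij i j ⟶ Xi i)
    (h : AlgSp.IsFpqcCover (fun i => (Xi i).obj) (fun i => (g i).hom))
    (hij : ∀ i, AlgSp.IsFpqcCover (fun j => (Xij i j).obj) (fun j => (gij i j).hom)) :
    AlgSp.IsFpqcCover (fun r : Σ i, κ i => (Xij r.1 r.2).obj) (fun r => (gij r.1 r.2 ≫ g r.1).hom) := by
  refine ⟨fun r => GrothLib.AlgSp.EtLocal.flat.locP_comp (Xij r.1 r.2).property (Xi r.1).property X.property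
    ((hij r.1).1 r.2) (h.1 r.1), fun Z hZ k => ?_⟩
  obtain ⟨m, W, c, hW, hc, hcov, hl⟩ := h.2 Z hZ k
  choose i l hl using hl
  choose n V d hV hd hdcov hdl using fun j => (hij (i j)).2 (W j) (hW j) (l j)
  let e := finSigmaFinEquiv (n := n)
  refine ⟨∑ j, n j, fun r => V (e.symm r).1 (e.symm r).2, fun r => d (e.symm r).1 (e.symm r).2 ≫ c (e.symm r).1,
    fun r => hV _ _, fun r => ?_, fun z => ?_, fun r => ?_⟩
  · rw [Over.comp_left]
    exact MorphismProperty.comp_mem _ _ _ (hd _ _) (hc _)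
  · obtain ⟨j, w, rfl⟩ := hcov z
    obtain ⟨j', v, rfl⟩ := hdcov j w
    have key : ∀ (r : Σ j, Fin (n j)), r = ⟨j, j'⟩ →
        (c j).left ((d j j').left v) ∈ Set.range (d r.1 r.2 ≫ c r.1).left := by
      rintro _ rfl
      exact ⟨v, rfl⟩
    exact ⟨e ⟨j, j'⟩, key _ (e.symm_apply_apply _)⟩
  · obtain ⟨q, l', hl'⟩ := hdl (e.symm r).1 (e.symm r).2
    refine ⟨⟨_, q⟩, l', ?_⟩
    simp only [ObjectProperty.FullSubcategory.comp_hom, Functor.map_comp, Category.assoc]
    rw [← Category.assoc, hl', Category.assoc, hl]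

end Groth.Agent.S10507
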