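import Groth.Agent.Lib.AlgSp.FppfCover
import Groth.Statements.S10508
-- import your own Groth.Agent.* helpers here

set_option autoImplicit false
universe u
open CategoryTheory CategoryTheory.Limits AlgebraicGeometry
open AlgSp

namespace Groth.Agent.S10508

/-- Let `X` be an algebraic space over `S`, `{X_i ⟶ X}` a family of morphisms of algebraic spaces and
`h_U ⟶ X` a representable etale, representable surjective map from a scheme `U` over `S`, with
pullback squares of sheaves exhibiting algebraic spaces `U_i` as `U ×_X X_i`. Then `{X_i ⟶ X}` is an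
fpqc covering of `X` if and only if `{U_i ⟶ h_U}` is an fpqc covering of `h_U`. -/
theorem result {S : Scheme.{u}} (X : AlgSp.Space S) {ι : Type u}
    (Xi : ι → AlgSp.Space S) (g : ∀ i, Xi i ⟶ X) {U : Over S} (p : (AlgSp.yon S).obj U ⟶ X.obj)
    (hp : AlgSp.RepWith @Etale p) (hps : AlgSp.RepWith @Surjective p)
    (Ui : ι → AlgSp.Space S) (q : ∀ i, (Ui i).obj ⟶ (AlgSp.yon S).obj U) (p' : ∀ i, Ui i ⟶ Xi i)
    (sq : ∀ i, IsPullback (q i) (p' i).hom p (g i).hom) :
    AlgSp.IsFpqcCover (fun i => (Xi i).obj) (fun i => (g i).hom) ↔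
      AlgSp.IsFpqcCover (fun i => (Ui i).obj) q := by
  constructor
  · intro h
    refine ⟨fun i => GrothLib.AlgSp.EtLocal.flat.locP_of_isPullback (Xi i).property X.property (AlgSp.IsAlgSpace.yon_obj U)
      (sq i).flip (h.1 i), fun Z hZ k => ?_⟩
    obtain ⟨m, W, c, h₁, h₂, h₃, h₄⟩ := h.2 Z hZ (k ≫ p)
    refine ⟨m, W, c, h₁, h₂, h₃, fun j => ?_⟩
    obtain ⟨i, l, hl⟩ := h₄ j
    exact ⟨i, (sq i).lift ((AlgSp.yon S).map (c j) ≫ k) l (by rw [Category.assoc]; exact hl.symm),
      (sq i).lift_fst _ _ _⟩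
  · intro h
    have pf : AlgSp.RepWith @Flat p := GrothLib.AlgSp.repWith_mono hp fun _ _ e (_ : Etale e) => inferInstance
    have pp : AlgSp.RepWith @LocallyOfFinitePresentation p :=
      GrothLib.AlgSp.repWith_mono hp fun _ _ e (_ : Etale e) => inferInstance
    refine ⟨fun i => GrothLib.AlgSp.locP_flat_of_fpqcLoc (Xi i).property X.property (GrothLib.AlgSp.fpqcLoc_of_atlas
      (GrothLib.AlgSp.baseChanges_locP GrothLib.AlgSp.EtLocal.flat) (Xi i).property X.property pf pp hps (sq i).flip (h.1 i)),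
      fun Z hZ k => ?_⟩
    obtain ⟨T, a, b, sqT⟩ := GrothLib.AlgSp.exists_isPullback_of_representable hp.1 k
    have : Flat b.left := pf.2 _ _ _ sqT
    have : LocallyOfFinitePresentation b.left := pp.2 _ _ _ sqT
    have : Surjective b.left := hps.2 _ _ _ sqT
    obtain ⟨V, d, hV, hd, -, hds⟩ := GrothLib.AlgSp.exists_affine_refinement b
    obtain ⟨m, W, c, h₁, h₂, h₃, h₄⟩ := h.2 V hV ((AlgSp.yon S).map d ≫ a)
    refine ⟨m, W, fun j => c j ≫ d ≫ b, h₁, fun j => ?_, fun z => ?_, fun j => ?_⟩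
    · rw [Over.comp_left]
      exact MorphismProperty.comp_mem _ _ _ (h₂ j) hd
    · obtain ⟨v, rfl⟩ := hds.surj z
      obtain ⟨j, w, rfl⟩ := h₃ v
      exact ⟨j, w, rfl⟩
    · obtain ⟨i, l, hl⟩ := h₄ j
      refine ⟨i, l ≫ (p' i).hom, ?_⟩
      rw [Category.assoc, ← (sq i).w, reassoc_of% hl, sqT.w]
      simp

end Groth.Agent.S10508
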