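import Groth.Statements.S10509
import Groth.Agent.Lib.Torsor21.SmoothSection
import Groth.Agent.Lib.AlgSp.LocP
import Groth.Agent.Lib.AlgSp.Points
import Groth.Agent.Lib.AlgSp.Space
-- import your own Groth.Agent.* helpers here

set_option autoImplicit false
universe u
open CategoryTheory CategoryTheory.Limits AlgebraicGeometry
open AlgSp GrothLib.AlgSp
set_option backward.isDefEq.respectTransparency false

namespace Groth.Agent.S10509

/-- A smooth covering of an algebraic space `X` over `S` by algebraic spaces can be refined by an etale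
covering of `X` by algebraic spaces: there is an etale covering `{U_j ⟶ X}` each member of which
factors through some member of the given smooth covering. -/
theorem result {S : Scheme.{u}} (X : AlgSp.Space S) {ι : Type u}
    (Xi : ι → AlgSp.Space S) (g : ∀ i, Xi i ⟶ X)
    (h : AlgSp.IsSmCover (fun i => (Xi i).obj) (fun i => (g i).hom)) :
    ∃ (κ : Type u) (U : κ → AlgSp.Space S) (c : ∀ j, U j ⟶ X),
      AlgSp.IsEtCover (fun j => (U j).obj) (fun j => (c j).hom) ∧
      ∀ j, ∃ (i : ι) (r : U j ⟶ Xi i), r ≫ g i = c j := by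
  obtain ⟨hg, hcov⟩ := h
  obtain ⟨U, a, ha, hs⟩ := X.property.atlas
  have hW : ∀ i, ∃ (W : Over S) (w : (AlgSp.yon S).obj W ⟶ (Xi i).obj) (h : W ⟶ U), RepWith @Etale w ∧
      w ≫ (g i).hom = (AlgSp.yon S).map h ≫ a ∧ ∀ (u : ↥U.left) (y : AlgSp.Points (Xi i).obj),
        AlgSp.Points.map (g i).hom y = AlgSp.Points.ofPt a u → ∃ v, h.left v = u := fun i => by
    obtain ⟨W, p, hpe, hps⟩ := (isAlgSpace_pullback' X.property (Xi i).property (IsAlgSpace.yon_obj U) (g i).hom a).atlas
    obtain ⟨h, hh⟩ := (AlgSp.yon S).map_surjective (p ≫ pullback.snd (g i).hom a)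
    refine ⟨W, p ≫ pullback.fst _ _, h,
      repWith_comp hpe (repWith_of_isPullback (IsPullback.of_hasPullback (g i).hom a).flip ha),
      by rw [hh, Category.assoc, Category.assoc, pullback.condition], fun u y e => ?_⟩
    rw [Points.ofPt_eq_map_ofScheme] at e
    obtain ⟨r, -, hr⟩ := exists_of_isPullback (IsPullback.of_hasPullback (g i).hom a) e
    obtain ⟨r, rfl⟩ := surjective_map_of_repWith hps r
    obtain ⟨v, rfl⟩ := (Points.schemeEquiv W).surjective r
    refine ⟨v, (Points.schemeEquiv U).injective ?_⟩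
    rw [← Points.map_comp, ← hh] at hr
    exact (map_yon_ofPt h v).symm.trans hr
  choose W w h hw hwe hwp using hW
  have hsm : ∀ i, Smooth (h i).left := fun i => hg i (w i) a (h i) (hw i) ha (hwe i)
  let σ : (∐ fun i => (W i).left) ⟶ U.left := Sigma.desc fun i => (h i).left
  haveI : Smooth σ := IsZariskiLocalAtSource.sigmaDesc hsm
  haveI : Surjective σ := ⟨fun u => by
    obtain ⟨i, y, hy⟩ := hcov (AlgSp.Points.ofPt a u)
    obtain ⟨v, hv⟩ := hwp i u y hy
    refine ⟨Sigma.ι (fun i => (W i).left) i v, ?_⟩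
    rw [← Scheme.Hom.comp_apply, Sigma.ι_desc, hv]⟩
  obtain ⟨V, p, hp⟩ := GrothLib.Torsor21.exists_etale_sections σ
  rw [Scheme.etalePrecoverage, Scheme.ofArrows_mem_precoverage_iff] at hp
  obtain ⟨hpj, hpe⟩ := hp
  let T : ↥U.left × ι → Over S := fun q =>
    Over.mk (pullback.fst (p q.1) (Sigma.ι (fun i => (W i).left) q.2) ≫ p q.1 ≫ σ ≫ U.hom)
  let t : ∀ q, T q ⟶ U := fun q =>
    Over.homMk (pullback.fst (p q.1) (Sigma.ι (fun i => (W i).left) q.2) ≫ p q.1 ≫ σ) (by simp [T])
  have hT : ∀ q, RepWith @Etale ((AlgSp.yon S).map (t q) ≫ a) := fun q => repWith_comp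
    ((repWith_yon_map_iff _ _).2 (show Etale (pullback.fst _ _ ≫ p q.1 ≫ σ) by
      have := hpe q.1; infer_instance)) ha
  refine ⟨↥U.left × ι, fun q => (AlgSp.ofScheme S).obj (T q),
    fun q => ObjectProperty.homMk ((AlgSp.yon S).map (t q) ≫ a), ⟨fun q => ?_, fun x => ?_⟩, fun q => ?_⟩
  · exact isEtaleMor_of_locP X.property (EtLocal.etale.locP_of_repWith X.property (hT q))
  · obtain ⟨z, rfl⟩ := surjective_map_of_repWith hs x
    obtain ⟨u, rfl⟩ := (Points.schemeEquiv U).surjective z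
    obtain ⟨s, v, hv⟩ := hpj u
    obtain ⟨i, y, hy⟩ := (sigmaOpenCover fun i => (W i).left).exists_eq (p s v)
    obtain ⟨z, hz, -⟩ := Scheme.Pullback.exists_preimage_pullback (f := p s)
      (g := Sigma.ι (fun i => (W i).left) i) v y hy.symm
    refine ⟨⟨s, i⟩, Points.schemeEquiv (T ⟨s, i⟩) z, ?_⟩
    change Points.map ((AlgSp.yon S).map (t ⟨s, i⟩) ≫ a) _ = _
    rw [Points.map_comp]
    congr 1
    refine (map_yon_ofPt (t ⟨s, i⟩) z).trans ?_
    congr 1
    change (pullback.fst (p s) (Sigma.ι (fun i => (W i).left) i) ≫ p s ≫ σ) z = u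
    rw [Scheme.Hom.comp_apply, hz]
    exact hv
  · let r : T q ⟶ W q.2 := Over.homMk (pullback.snd (p q.1) (Sigma.ι (fun i => (W i).left) q.2)) (by
      change pullback.snd (p q.1) _ ≫ (W q.2).hom = pullback.fst (p q.1) _ ≫ p q.1 ≫ σ ≫ U.hom
      rw [pullback.condition_assoc, Sigma.ι_desc_assoc, Over.w])
    refine ⟨q.2, ObjectProperty.homMk ((AlgSp.yon S).map r ≫ w q.2), ObjectProperty.hom_ext _ ?_⟩
    change ((AlgSp.yon S).map r ≫ w q.2) ≫ (g q.2).hom = (AlgSp.yon S).map (t q) ≫ a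
    rw [Category.assoc, hwe, ← Functor.map_comp_assoc]
    congr 2
    ext
    change pullback.snd (p q.1) _ ≫ (h q.2).left = pullback.fst (p q.1) _ ≫ p q.1 ≫ σ
    rw [pullback.condition_assoc, Sigma.ι_desc]

end Groth.Agent.S10509
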