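import Groth.Statements.S1051
import Groth.Agent.Lib.TriCat.HomVanish

set_option autoImplicit false
universe v u
open CategoryTheory
open CohDer

namespace Groth.Agent.S1051

open CategoryTheory.Pretriangulated in
/-- Let X be a chain complex in a triangulated category D and n a natural number; consider the finite
complex Xₙ → Xₙ₋₁ → … → X₀. If every morphism Xᵢ[i - j - 2] ⟶ Xⱼ with j + 2 < i ≤ n vanishes, then
there is a Postnikov system for it: objects Yₖ (k ≤ n), an isomorphism Y₀ ⟶ X₀, and for each k < n a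
distinguished triangle Yₖ₊₁ ⟶ Xₖ₊₁ ⟶ Yₖ ⟶ Yₖ₊₁[1] such that Xₖ₊₁ ⟶ Yₖ ⟶ Xₖ is the differential of X. -/
theorem result {D : Type u} [Category.{v} D] [Preadditive D] [Limits.HasZeroObject D] [HasShift D ℤ]
    [∀ n : ℤ, (shiftFunctor D n).Additive] [Pretriangulated D] [IsTriangulated D]
    (X : ChainComplex D ℕ) (n : ℕ)
    (hX : ∀ i j : ℕ, j + 2 < i → i ≤ n → ∀ φ : (shiftFunctor D ((i : ℤ) - j - 2)).obj (X.X i) ⟶ X.X j, φ = 0) :
    ∃ (Y : ℕ → D) (a : ∀ k, Y k ⟶ X.X k) (b : ∀ k, X.X (k + 1) ⟶ Y k) (c : ∀ k, Y k ⟶ (shiftFunctor D (1 : ℤ)).obj (Y (k + 1))),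
      IsIso (a 0) ∧ ∀ k, k < n → Triangle.mk (a (k + 1)) (b k) (c k) ∈ distinguishedTriangles ∧ b k ≫ a k = X.d (k + 1) k := by
  let Inv : ∀ k, (Yk : D) → (Yk ⟶ X.X k) → Prop := fun k Yk ak =>
    (k < n → ∃ bk : X.X (k + 1) ⟶ Yk, bk ≫ ak = X.d (k + 1) k) ∧
    (∀ i : ℕ, k + 2 < i → i ≤ n → GrothLib.TriCat.HomZero ((X.X i)⟦(i : ℤ) - k - 2⟧) Yk) ∧
    (k + 2 ≤ n → ∀ ψ : X.X (k + 2) ⟶ Yk, ψ ≫ ak = 0 → ψ = 0)
  have step : ∀ (k : ℕ) (Yk : D) (ak : Yk ⟶ X.X k), Inv k Yk ak →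
      ∃ (Y' : D) (a' : Y' ⟶ X.X (k + 1)) (bk : X.X (k + 1) ⟶ Yk) (ck : Yk ⟶ Y'⟦(1 : ℤ)⟧),
        Inv (k + 1) Y' a' ∧
          (k < n → Triangle.mk a' bk ck ∈ distinguishedTriangles ∧ bk ≫ ak = X.d (k + 1) k) := by
    rintro k Yk ak ⟨h1, h2, h3⟩
    by_cases hk : k < n
    · obtain ⟨bk, hb⟩ := h1 hk
      obtain ⟨Y', a', ck, hT⟩ := distinguished_cocone_triangle₁ bk
      refine ⟨Y', a', bk, ck, ⟨?_, ?_, ?_⟩, fun _ => ⟨hT, hb⟩⟩
      · intro hk1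
        have hz : X.d (k + 2) (k + 1) ≫ bk = 0 :=
          h3 (by omega) _ (by rw [Category.assoc, hb, X.d_comp_d])
        obtain ⟨g, hg⟩ := Triangle.coyoneda_exact₂ _ hT (X.d (k + 2) (k + 1)) hz
        exact ⟨g, hg.symm⟩
      · intro i hi hin
        exact GrothLib.TriCat.homZero_obj₁ hT (hX i (k + 1) hi hin)
          ((GrothLib.TriCat.homZero_shift_neg_one _ _ (by push_cast; ring)).2 (h2 i (by omega) hin))
      · intro hk3 ψ hψ
        refine GrothLib.TriCat.eq_zero_of_homZero_shift hT ?_ ψ hψ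
        have hh : GrothLib.TriCat.HomZero ((X.X (k + 1 + 2))⟦(0 : ℤ)⟧) (Yk⟦(-1 : ℤ)⟧) :=
          (GrothLib.TriCat.homZero_shift_neg_one _ _ (by push_cast; ring)).2 (h2 _ (by omega) hk3)
        exact hh.of_iso ((shiftFunctorZero D ℤ).app _) (Iso.refl _)
    · exact ⟨X.X (k + 1), 𝟙 _, 0, 0, ⟨fun h => absurd h (by omega),
        fun i hi hin => absurd hin (by omega), fun h => absurd h (by omega)⟩, fun h => absurd h hk⟩
  choose Y' a' b' c' hi' hp' using step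
  have base : Inv 0 (X.X 0) (𝟙 _) :=
    ⟨fun _ => ⟨_, Category.comp_id _⟩, fun i hi hin => hX i 0 hi hin,
      fun _ ψ h => by rwa [Category.comp_id] at h⟩
  let St := fun k => {p : Σ Yk : D, Yk ⟶ X.X k // Inv k p.1 p.2}
  let st : ∀ k, St k := fun k => Nat.rec (motive := St) ⟨⟨X.X 0, 𝟙 _⟩, base⟩
    (fun k s => ⟨⟨Y' k s.1.1 s.1.2 s.2, a' k s.1.1 s.1.2 s.2⟩, hi' k s.1.1 s.1.2 s.2⟩) k
  exact ⟨fun k => (st k).1.1, fun k => (st k).1.2, fun k => b' k _ _ (st k).2,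
    fun k => c' k _ _ (st k).2, inferInstanceAs (IsIso (𝟙 (X.X 0))), fun k => hp' k _ _ (st k).2⟩

end Groth.Agent.S1051
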