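import Groth.Agent.Lib.AlgSp.FppfCover
import Groth.Statements.S10510
-- import your own Groth.Agent.* helpers here

set_option autoImplicit false
universe u
open CategoryTheory CategoryTheory.Limits AlgebraicGeometry
open AlgSp

namespace Groth.Agent.S10510

/-- An fppf covering `{X_i ⟶ X}` of an algebraic space `X` over `S` by algebraic spaces is jointly
surjective as a family of maps of fppf sheaves: every `h_T ⟶ X` from a scheme `T` over `S` lifts,
locally for the fppf topology on `T`, through members of the family. -/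
theorem result {S : Scheme.{u}} (X : AlgSp.Space S) {ι : Type u}
    (Xi : ι → AlgSp.Space S) (g : ∀ i, Xi i ⟶ X)
    (h : AlgSp.IsFppfCover (fun i => (Xi i).obj) (fun i => (g i).hom))
    (T : Over S) (t : (AlgSp.yon S).obj T ⟶ X.obj) :
    ∃ (κ : Type u) (Tk : κ → Over S) (c : ∀ k, Tk k ⟶ T),
      Sieve.ofArrows Tk c ∈ AlgSp.J S T ∧
      ∀ k, ∃ (i : ι) (l : (AlgSp.yon S).obj (Tk k) ⟶ (Xi i).obj), l ≫ (g i).hom = (AlgSp.yon S).map (c k) ≫ t := by
  have key := fun a => GrothLib.AlgSp.exists_affine_family_of_cover X.property (fun i => (Xi i).property) h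
    (GrothLib.AlgSp.affPiece T a) (inferInstanceAs (IsAffine (T.left.affineCover.X a))) ((AlgSp.yon S).map (GrothLib.AlgSp.affPieceι T a) ≫ t)
  choose m W c hW hfl hfp hcov hl using key
  refine ⟨Σ a, ULift.{u} (Fin (m a)), fun r => W r.1 r.2.down, fun r => c r.1 r.2.down ≫ GrothLib.AlgSp.affPieceι T r.1, ?_, fun r => ?_⟩
  · refine GrothLib.AlgSp.ofArrows_mem _ _ (fun r => ?_) (fun r => ?_) fun x => ?_
    · have := hfl r.1 r.2.down
      exact inferInstanceAs (Flat ((c r.1 r.2.down).left ≫ T.left.affineCover.f r.1))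
    · have := hfp r.1 r.2.down
      exact inferInstanceAs (LocallyOfFinitePresentation ((c r.1 r.2.down).left ≫ T.left.affineCover.f r.1))
    · obtain ⟨a, y, rfl⟩ := T.left.affineCover.exists_eq x
      obtain ⟨j, w, rfl⟩ := hcov a y
      exact ⟨⟨a, ⟨j⟩⟩, w, rfl⟩
  · obtain ⟨i, l, e⟩ := hl r.1 r.2.down
    exact ⟨i, l, by rw [e, Functor.map_comp, Category.assoc]⟩

end Groth.Agent.S10510
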