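import Groth.Statements.S10511
import Groth.Agent.Lib.AlgSp.LocP
import Groth.Agent.Lib.AlgSp.PointsUniv
import Groth.Agent.Lib.AlgSp.OverMapSpace
-- import your own Groth.Agent.* helpers here

set_option autoImplicit false
universe u
open CategoryTheory CategoryTheory.Limits AlgebraicGeometry
open AlgSp GrothLib.AlgSp
set_option backward.isDefEq.respectTransparency false

namespace Groth.Agent.S10511

/-- Let `X` be an algebraic space over `S` and `P` a property of sheaves over `X` such that, for every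
algebraic space `U` over `X` and every fppf covering `{U_i ⟶ U}` by algebraic spaces, `P` holds for
`U` as soon as it holds for all the iterated fibre products `U_{i_0} ×_U ⋯ ×_U U_{i_n}` (`n ≥ 0`,
taken in fppf sheaves) over `X`. If `P` holds for every sheaf over `X` that is isomorphic to an
affine scheme and flat and locally of finite presentation over `X`, then `P` holds for `X`. -/
theorem result {S : Scheme.{u}} (X : AlgSp.Space S)
    (P : ∀ ⦃U : AlgSp.Sp S⦄, (U ⟶ X.obj) → Prop)
    (hP : ∀ ⦃U : AlgSp.Sp S⦄ (a : U ⟶ X.obj), AlgSp.IsAlgSpace U →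
      ∀ ⦃ι : Type u⦄ (Ui : ι → AlgSp.Sp S) (g : ∀ i, Ui i ⟶ U), (∀ i, AlgSp.IsAlgSpace (Ui i)) →
      AlgSp.IsFppfCover Ui g →
      (∀ (n : ℕ) (c : Fin (n + 1) → ι),
        P (WidePullback.base (fun k : Fin (n + 1) => g (c k)) ≫ a)) → P a)
    (haff : ∀ ⦃U : AlgSp.Sp S⦄ (a : U ⟶ X.obj) (T : Over S) (e : U ≅ (AlgSp.yon S).obj T), IsAffine T.left →
      AlgSp.LocP @Flat a → AlgSp.LocP @LocallyOfFinitePresentation a → P a) :
    P (𝟙 X.obj) := by
  haveI : MorphismProperty.ContainsIdentities (@LocallyOfFinitePresentation : MorphismProperty Scheme.{u}) :=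
    ⟨fun _ => inferInstance⟩
  have key : ∀ ⦃U : AlgSp.Sp S⦄ (a : U ⟶ X.obj), IsAlgSpace U →
      ∀ {ι : Type u} (Ui : ι → AlgSp.Sp S) (g : ∀ i, Ui i ⟶ U), (∀ i, IsAlgSpace (Ui i)) →
      IsFppfCover Ui g →
      ∀ (Good : MorphismProperty (Sp S)), (∀ i, Good (g i)) →
      (∀ {A A' : Sp S} (e : A ≅ A') (m : A' ⟶ U), Good m → Good (e.hom ≫ m)) →
      (∀ {A A' R : Sp S} (m : A ⟶ U) (m' : A' ⟶ U) (r : R ⟶ A) (r' : R ⟶ A'), IsPullback r r' m m' →
        Good m → Good m' → Good (r ≫ m)) →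
      (∀ {A : Sp S} (m : A ⟶ U), Good m → P (m ≫ a)) → P a := by
    intro U a hU ι Ui g hUi hcov Good hg hiso hpb hgood
    refine hP a hU Ui g hUi hcov fun n c => hgood _ ?_
    induction n with
    | zero =>
      have hπ : WidePullback.π (fun k : Fin 1 => g (c k)) 0 ≫ g (c 0) = WidePullback.base (fun k : Fin 1 => g (c k)) :=
        WidePullback.π_arrow _ 0
      let e : widePullback U _ (fun k : Fin 1 => g (c k)) ≅ Ui (c 0) :=
        ⟨WidePullback.π _ 0, WidePullback.lift (g (c 0))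
          (fun k => eqToHom (congrArg (fun k => Ui (c k)) (Subsingleton.elim 0 k)))
          (fun k => by obtain rfl : k = 0 := Subsingleton.elim _ _; simp),
          WidePullback.hom_ext _ _ _ (fun k => by
            obtain rfl : k = 0 := Subsingleton.elim _ _
            simp) (by simp), by simp⟩
      rw [← hπ]
      exact hiso e _ (hg (c 0))
    | succ n ih =>
      let g' := fun k : Fin (n + 2) => g (c k)
      let q : widePullback U _ g' ⟶ widePullback U _ (fun k : Fin (n + 1) => g (c k.castSucc)) :=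
        WidePullback.lift (WidePullback.base g') (fun k => WidePullback.π g' k.castSucc)
          (fun k => WidePullback.π_arrow g' k.castSucc)
      have hq : q ≫ WidePullback.base _ = WidePullback.base g' := WidePullback.lift_base _ _ _ _
      let base₁ := WidePullback.base (fun k : Fin (n + 1) => g (c k.castSucc))
      have hw : q ≫ base₁ = WidePullback.π g' (Fin.last (n + 1)) ≫ g (c (Fin.last (n + 1))) :=
        hq.trans (WidePullback.π_arrow g' _).symm
      have sq : IsPullback q (WidePullback.π g' (Fin.last (n + 1))) base₁ (g (c (Fin.last (n + 1)))) := by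
        refine IsPullback.of_isLimit (PullbackCone.IsLimit.mk hw
          (fun s => WidePullback.lift (s.fst ≫ base₁)
            (Fin.lastCases (motive := fun k => s.pt ⟶ Ui (c k)) s.snd (fun k => s.fst ≫ WidePullback.π _ k))
            (Fin.lastCases (by simp only [Fin.lastCases_last]; exact s.condition.symm)
              (fun k => by
                simp only [Fin.lastCases_castSucc, Category.assoc]
                exact congrArg (s.fst ≫ ·) (WidePullback.π_arrow (fun k : Fin (n + 1) => g (c k.castSucc)) k))))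
          (fun s => ?_) (fun s => ?_) (fun s m h₁ h₂ => ?_))
        · refine WidePullback.hom_ext _ _ _ (fun k => ?_) ?_
          · simp [q, g']
          · rw [Category.assoc, hq, WidePullback.lift_base]
        · simp [g']
        · refine WidePullback.hom_ext _ _ _ (fun k => ?_) ?_
          · rw [WidePullback.lift_π]
            induction k using Fin.lastCases with
            | last => rw [Fin.lastCases_last]; exact h₂
            | cast k =>
              rw [Fin.lastCases_castSucc, ← h₁, Category.assoc]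
              exact congrArg (m ≫ ·) (show q ≫ WidePullback.π _ k = WidePullback.π g' k.castSucc by simp [q]).symm
          · rw [WidePullback.lift_base, ← h₁, Category.assoc]
            exact congrArg (m ≫ ·) hq.symm
      rw [← hq]
      exact hpb _ _ _ _ sq (ih fun k => c k.castSucc) (hg _)
  have hle : ∀ {A : Sp S} {T U : Over S} (e : A ≅ (yon S).obj T) (j : T ⟶ U) [IsOpenImmersion j.left]
      (a : (yon S).obj U ⟶ X.obj), LocP @Flat a → LocP @LocallyOfFinitePresentation a →
      LocP @Flat ((yon S).map j ≫ a) ∧ LocP @LocallyOfFinitePresentation ((yon S).map j ≫ a) := by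
    intro A T U e j _ a h₁ h₂
    exact ⟨EtLocal.locP_comp .flat (IsAlgSpace.yon_obj _) (IsAlgSpace.yon_obj _) X.property
        (EtLocal.locP_of_repWith .flat (IsAlgSpace.yon_obj _) ((repWith_yon_map_iff _ _).2 inferInstance)) h₁,
      EtLocal.locP_comp .lfp (IsAlgSpace.yon_obj _) (IsAlgSpace.yon_obj _) X.property
        (EtLocal.locP_of_repWith .lfp (IsAlgSpace.yon_obj _) ((repWith_yon_map_iff _ _).2 inferInstance)) h₂⟩
  -- covers by affine opens
  have cover : ∀ (U : Over S), ∃ (Ti : ↥U.left → Over S) (j : ∀ x, Ti x ⟶ U),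
      (∀ x, IsAffine (Ti x).left) ∧ (∀ x, IsOpenImmersion (j x).left) ∧
        IsFppfCover (fun x => (yon S).obj (Ti x)) (fun x => (yon S).map (j x)) := by
    intro U
    choose A hA hxA using fun x : ↥U.left =>
      let ⟨A, hA, hxA, _⟩ := exists_isAffineOpen_mem_and_subset (U := (⊤ : U.left.Opens)) (x := x) trivial
      (⟨A, hA, hxA⟩ : ∃ A : U.left.Opens, IsAffineOpen A ∧ x ∈ A)
    refine ⟨fun x => Over.mk ((A x).ι ≫ U.hom), fun x => Over.homMk (A x).ι rfl, hA,
      fun x => inferInstanceAs (IsOpenImmersion (A x).ι), fun x => ⟨?_, ?_⟩, fun y => ?_⟩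
    · exact EtLocal.locP_of_repWith .flat (IsAlgSpace.yon_obj _)
        ((repWith_yon_map_iff _ _).2 (inferInstanceAs (Flat (A x).ι)))
    · exact EtLocal.locP_of_repWith .lfp (IsAlgSpace.yon_obj _)
        ((repWith_yon_map_iff _ _).2 (inferInstanceAs (LocallyOfFinitePresentation (A x).ι)))
    · obtain ⟨x, rfl⟩ := (Points.schemeEquiv U).surjective y
      exact ⟨x, Points.schemeEquiv _ ⟨x, hxA x⟩,
        map_yon_ofPt (Over.homMk (A x).ι rfl : Over.mk ((A x).ι ≫ U.hom) ⟶ U) _⟩
  have pb : ∀ {U A A' : Over S} (m : A ⟶ U) (m' : A' ⟶ U) {R : Sp S} {r : R ⟶ (yon S).obj A}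
      {r' : R ⟶ (yon S).obj A'}, IsPullback r r' ((yon S).map m) ((yon S).map m') →
      ∃ e : R ≅ (yon S).obj (pullback m m'), e.hom ≫ (yon S).map (pullback.fst m m') = r := fun m m' R r r' sq =>
    ⟨sq.isoIsPullback _ _ ((IsPullback.of_hasPullback m m').map (yon S)), sq.isoIsPullback_hom_fst _ _ _⟩
  -- separated schemes
  have hsch_sep : ∀ {A₀ : Sp S} (U : Over S), U.left.IsSeparated → ∀ (eU : A₀ ≅ (yon S).obj U) (a : A₀ ⟶ X.obj),
      LocP @Flat a → LocP @LocallyOfFinitePresentation a → P a := by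
    intro A₀ U hsepU eU a h₁ h₂
    have hA₀ := isAlgSpace_of_iso eU (IsAlgSpace.yon_obj _)
    obtain ⟨Ti, j, hTi, hj, hcov⟩ := cover U
    have hcov' : IsFppfCover (fun x => (yon S).obj (Ti x)) (fun x => (yon S).map (j x) ≫ eU.inv) := by
      refine ⟨fun x => ⟨EtLocal.locP_comp .flat (IsAlgSpace.yon_obj _) (IsAlgSpace.yon_obj _) hA₀ (hcov.1 x).1
        (EtLocal.locP_of_repWith .flat hA₀ (repWith_iso _)),
        EtLocal.locP_comp .lfp (IsAlgSpace.yon_obj _) (IsAlgSpace.yon_obj _) hA₀ (hcov.1 x).2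
        (EtLocal.locP_of_repWith .lfp hA₀ (repWith_iso _))⟩, fun y => ?_⟩
      obtain ⟨i, z, hz⟩ := hcov.2 (Points.map eU.hom y)
      exact ⟨i, z, by rw [Points.map_comp, hz, ← Points.map_comp, eU.hom_inv_id]; exact Points.map_id _⟩
    refine key a hA₀ _ _ (fun _ => IsAlgSpace.yon_obj _) hcov'
      (fun A B m => ∃ (T : Over S) (e : A ≅ (yon S).obj T) (i : (yon S).obj T ⟶ B), IsAffine T.left ∧
        RepWith @IsOpenImmersion i ∧ e.hom ≫ i = m)
      (fun x => ⟨Ti x, Iso.refl _, _, hTi x, repWith_comp ((repWith_yon_map_iff _ _).2 (hj x)) (repWith_iso _),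
        Category.id_comp _⟩) ?_ ?_ ?_
    · rintro A A' e m ⟨T, e', i, hT, hi, rfl⟩
      exact ⟨T, e ≪≫ e', i, hT, hi, by simp⟩
    · rintro A A' R m m' r r' sq ⟨T, e, i, hT, hi, rfl⟩ ⟨T', e', i', hT', hi', rfl⟩
      obtain ⟨i₁, hi₁⟩ := (yon S).map_surjective (i ≫ eU.hom)
      obtain ⟨i₂, hi₂⟩ := (yon S).map_surjective (i' ≫ eU.hom)
      have sq' : IsPullback (r ≫ e.hom) (r' ≫ e'.hom) ((yon S).map i₁) ((yon S).map i₂) := by
        rw [hi₁, hi₂]
        exact sq.of_iso (Iso.refl _) e e' eU (by simp) (by simp) (by simp) (by simp)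
      obtain ⟨ε, hε⟩ := pb i₁ i₂ sq'
      haveI : IsOpenImmersion i₁.left := (repWith_yon_map_iff _ _).1 (hi₁ ▸ repWith_comp hi (repWith_iso _))
      haveI : IsOpenImmersion i₂.left := (repWith_yon_map_iff _ _).1 (hi₂ ▸ repWith_comp hi' (repWith_iso _))
      haveI : IsOpenImmersion (pullback.fst i₁ i₂).left :=
        MorphismProperty.of_isPullback (isPullback_left (IsPullback.of_hasPullback i₁ i₂)).flip ‹IsOpenImmersion i₂.left›
      haveI := hsepU
      haveI : IsAffine (pullback i₁ i₂).left := by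
        let t := terminal.from U.left
        haveI : IsAffine (pullback (i₁.left ≫ t) (i₂.left ≫ t)) := inferInstance
        haveI : IsAffine (pullback i₁.left i₂.left) :=
          isAffine_of_isAffineHom (pullback.mapDesc i₁.left i₂.left t)
        exact .of_isIso (isPullback_left (IsPullback.of_hasPullback i₁ i₂)).isoPullback.hom
      refine ⟨pullback i₁ i₂, ε, (yon S).map (pullback.fst i₁ i₂) ≫ i, ‹_›,
        repWith_comp ((repWith_yon_map_iff _ _).2 ‹IsOpenImmersion (pullback.fst i₁ i₂).left›) hi, ?_⟩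
      rw [reassoc_of% hε]
    · rintro A m ⟨T, e, i, hT, hi, rfl⟩
      obtain ⟨j', hj'⟩ := (yon S).map_surjective (i ≫ eU.hom)
      haveI : IsOpenImmersion j'.left := (repWith_yon_map_iff _ _).1 (hj' ▸ repWith_comp hi (repWith_iso _))
      obtain ⟨f₁, f₂⟩ := hle e j' (eU.inv ≫ a)
        (EtLocal.locP_comp .flat (IsAlgSpace.yon_obj _) hA₀ X.property
          (EtLocal.locP_of_repWith .flat hA₀ (repWith_iso _)) h₁)
        (EtLocal.locP_comp .lfp (IsAlgSpace.yon_obj _) hA₀ X.property
          (EtLocal.locP_of_repWith .lfp hA₀ (repWith_iso _)) h₂)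
      rw [hj', Category.assoc, Iso.hom_inv_id_assoc] at f₁ f₂
      rw [Category.assoc]
      exact haff _ T e hT
        (EtLocal.locP_comp .flat (isAlgSpace_of_iso e (IsAlgSpace.yon_obj _)) (IsAlgSpace.yon_obj _) X.property
          (EtLocal.locP_of_repWith .flat (IsAlgSpace.yon_obj _) (repWith_iso _)) f₁)
        (EtLocal.locP_comp .lfp (isAlgSpace_of_iso e (IsAlgSpace.yon_obj _)) (IsAlgSpace.yon_obj _) X.property
          (EtLocal.locP_of_repWith .lfp (IsAlgSpace.yon_obj _) (repWith_iso _)) f₂)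
  -- all schemes
  have hsch : ∀ {A : Sp S} (U : Over S) (e : A ≅ (yon S).obj U) (a : A ⟶ X.obj),
      LocP @Flat a → LocP @LocallyOfFinitePresentation a → P a := by
    intro A U e a h₁ h₂
    have hA := isAlgSpace_of_iso e (IsAlgSpace.yon_obj _)
    obtain ⟨Ti, j, hTi, hj, hcov⟩ := cover U
    have hcov' : IsFppfCover (fun x => (yon S).obj (Ti x)) (fun x => (yon S).map (j x) ≫ e.inv) := by
      refine ⟨fun x => ⟨EtLocal.locP_comp .flat (IsAlgSpace.yon_obj _) (IsAlgSpace.yon_obj _) hA (hcov.1 x).1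
        (EtLocal.locP_of_repWith .flat hA (repWith_iso _)),
        EtLocal.locP_comp .lfp (IsAlgSpace.yon_obj _) (IsAlgSpace.yon_obj _) hA (hcov.1 x).2
        (EtLocal.locP_of_repWith .lfp hA (repWith_iso _))⟩, fun y => ?_⟩
      obtain ⟨i, z, hz⟩ := hcov.2 (Points.map e.hom y)
      exact ⟨i, z, by rw [Points.map_comp, hz, ← Points.map_comp, e.hom_inv_id]; exact Points.map_id _⟩
    refine key a hA _ _ (fun _ => IsAlgSpace.yon_obj _) hcov'
      (fun A' B m => ∃ (T : Over S) (e' : A' ≅ (yon S).obj T) (i : (yon S).obj T ⟶ B), T.left.IsSeparated ∧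
        RepWith @IsOpenImmersion i ∧ e'.hom ≫ i = m)
      (fun x => ⟨Ti x, Iso.refl _, _, (have := hTi x; inferInstance),
        repWith_comp ((repWith_yon_map_iff _ _).2 (hj x)) (repWith_iso _), Category.id_comp _⟩) ?_ ?_ ?_
    · rintro A A' e m ⟨T, e', i, hT, hi, rfl⟩
      exact ⟨T, e ≪≫ e', i, hT, hi, by simp⟩
    · rintro B B' R m m' r r' sq ⟨T, e₁, i, hT, hi, rfl⟩ ⟨T', e₂, i', hT', hi', rfl⟩
      have sq' : IsPullback (r ≫ e₁.hom) (r' ≫ e₂.hom) i i' :=
        sq.of_iso (Iso.refl _) e₁ e₂ (Iso.refl _) (by simp) (by simp) (by simp) (by simp)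
      obtain ⟨V, fst, snd, sqV⟩ := exists_isPullback_of_representable hi'.1 i
      haveI : IsOpenImmersion snd.left := hi'.2 _ _ _ sqV
      let ε := sq'.isoIsPullback _ _ sqV.flip
      haveI : T.left.IsSeparated := hT
      refine ⟨V, ε, (yon S).map snd ≫ i, ?_, repWith_comp ((repWith_yon_map_iff _ _).2 ‹_›) hi, ?_⟩
      · refine ⟨?_⟩
        rw [← terminal.comp_from snd.left]
        infer_instance
      · rw [IsPullback.isoIsPullback_hom_fst_assoc, Category.assoc]
    · rintro B m ⟨T, e', i, hT, hi, rfl⟩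
      obtain ⟨j', hj'⟩ := (yon S).map_surjective (i ≫ e.hom)
      haveI : IsOpenImmersion j'.left := (repWith_yon_map_iff _ _).1 (hj' ▸ repWith_comp hi (repWith_iso _))
      obtain ⟨f₁, f₂⟩ := hle e' j' (e.inv ≫ a)
        (EtLocal.locP_comp .flat (IsAlgSpace.yon_obj _) hA X.property
          (EtLocal.locP_of_repWith .flat hA (repWith_iso _)) h₁)
        (EtLocal.locP_comp .lfp (IsAlgSpace.yon_obj _) hA X.property
          (EtLocal.locP_of_repWith .lfp hA (repWith_iso _)) h₂)
      rw [hj', Category.assoc, Iso.hom_inv_id_assoc] at f₁ f₂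
      have hB := isAlgSpace_of_iso e' (IsAlgSpace.yon_obj _)
      rw [Category.assoc]
      exact hsch_sep T hT e' _
        (EtLocal.locP_comp .flat hB (IsAlgSpace.yon_obj _) X.property
          (EtLocal.locP_of_repWith .flat (IsAlgSpace.yon_obj _) (repWith_iso _)) f₁)
        (EtLocal.locP_comp .lfp hB (IsAlgSpace.yon_obj _) X.property
          (EtLocal.locP_of_repWith .lfp (IsAlgSpace.yon_obj _) (repWith_iso _)) f₂)
  obtain ⟨U, p, pe, ps⟩ := X.property.atlas
  have hflat : ∀ {A : Sp S} {m : A ⟶ X.obj}, RepWith @Etale m → LocP @Flat m ∧ LocP @LocallyOfFinitePresentation m :=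
    fun h => ⟨EtLocal.locP_of_repWith .flat X.property (repWith_mono h fun _ _ g (hg : Etale g) => inferInstance),
      EtLocal.locP_of_repWith .lfp X.property (repWith_mono h fun _ _ g (hg : Etale g) => inferInstance)⟩
  refine key (𝟙 X.obj) X.property (fun _ : PUnit.{u + 1} => (yon S).obj U) (fun _ => p) (fun _ => IsAlgSpace.yon_obj _)
    ⟨fun _ => hflat pe, fun x => ⟨⟨⟩, ?_⟩⟩
    (fun A B m => (∃ T : Over S, Nonempty (A ≅ (yon S).obj T)) ∧ RepWith @Etale m)
    (fun _ => ⟨⟨U, ⟨Iso.refl _⟩⟩, pe⟩) ?_ ?_ ?_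
  · obtain ⟨u, hu⟩ := surjective_ofPt_of_repWith ps x
    exact ⟨_, (Points.ofPt_eq_map_ofScheme p u).symm.trans hu⟩
  · rintro A A' e m ⟨⟨T, ⟨e'⟩⟩, hm⟩
    exact ⟨⟨T, ⟨e ≪≫ e'⟩⟩, repWith_comp (repWith_iso _) hm⟩
  · rintro A A' R m m' r r' sq ⟨⟨T, ⟨e⟩⟩, hm⟩ ⟨⟨T', ⟨e'⟩⟩, hm'⟩
    have hr : RepWith @Etale r := repWith_of_isPullback sq.flip hm'
    refine ⟨?_, repWith_comp hr hm⟩
    obtain ⟨V, fst, snd, sqV⟩ := exists_isPullback_of_representable (repWith_comp hr (repWith_iso e.hom)).1 (𝟙 _)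
    haveI : IsIso fst := sqV.isIso_fst_of_isIso
    exact ⟨V, ⟨(asIso fst).symm⟩⟩
  · rintro A m ⟨⟨T, ⟨e⟩⟩, hm⟩
    rw [Category.comp_id]
    exact hsch T e _ (hflat hm).1 (hflat hm).2

end Groth.Agent.S10511
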