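import Groth.Statements.S10512
import Groth.Agent.Lib.AlgSp.EtPoints
import Groth.Agent.Lib.AlgSp.Immersion
-- import your own Groth.Agent.* helpers here

set_option autoImplicit false
universe u
open CategoryTheory CategoryTheory.Limits AlgebraicGeometry
open AlgSp

namespace Groth.Agent.S10512

/-- For a morphism `f : Y ⟶ X` of algebraic spaces over `S`, the functor from the small etale site of
`Y` (scheme objects) to the big etale site `(Spaces/X)_{etale}` sending `h_U ⟶ Y` to `h_U ⟶ Y ⟶ X`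
is cocontinuous; for `f = 𝟙` this is the cocontinuity of the inclusion of the small etale site of
`X` into its big etale site. (Stated for the small etale site with scheme objects, which defines the
same topos as the one with algebraic-space objects.) -/
theorem result {S : Scheme.{u}} {X Y : AlgSp.Space S} (f : Y ⟶ X) :
    (AlgSp.EtOver.toEtSpOver Y ⋙ ObjectProperty.ι (fun E : Over Y => AlgSp.IsEtaleMor E.hom.hom) ⋙
        Over.map f).IsCocontinuous (AlgSp.etTop Y.obj) (AlgSp.spacesTopOver AlgSp.IsEtaleMor X) := by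
  have key : ∀ (Z : AlgSp.Space S) (Q : Sieve Z), (AlgSp.spacesPre S AlgSp.IsEtaleMor).Saturate Z Q →
      ∀ (T : Over S) (h : (AlgSp.ofScheme S).obj T ⟶ Z) (t : ↥T.left),
        ∃ (T' : Over S) (c : T' ⟶ T), Etale c.left ∧ t ∈ Set.range c.left ∧ Q ((AlgSp.ofScheme S).map c ≫ h) := by
    intro Z Q hQ
    induction hQ with
    | of Z R hR =>
      intro T h t
      obtain ⟨hP, hx⟩ := hR
      obtain ⟨Y₁, g, hg, y, hy⟩ := hx (AlgSp.Points.ofPt h.hom t)
      obtain ⟨V, b, hb, hbs⟩ := Y₁.property.atlas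
      obtain ⟨v, rfl⟩ := GrothLib.AlgSp.surjective_ofPt_of_repWith hbs y
      have hq : AlgSp.RepWith @Etale (b ≫ g.hom) := hP g hg b hb
      obtain ⟨W, fst, c, sq⟩ := GrothLib.AlgSp.exists_isPullback_of_representable hq.1 h.hom
      obtain ⟨d, rfl⟩ := (AlgSp.yon S).map_surjective fst
      have hc : Etale c.left := hq.2 _ _ _ sq
      obtain ⟨w, -, hw⟩ := (GrothLib.AlgSp.ofPt_eq_ofPt_iff sq v t).1 ((AlgSp.Points.map_ofPt b g.hom v).symm.trans hy)
      refine ⟨W, c, hc, ⟨w, hw⟩, ?_⟩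
      let k : (AlgSp.ofScheme S).obj W ⟶ Y₁ := ObjectProperty.homMk ((AlgSp.yon S).map d ≫ b)
      exact ⟨Y₁, k, g, hg, ObjectProperty.hom_ext _ ((Category.assoc _ _ _).trans sq.w)⟩
    | top Z =>
      intro T h t
      exact ⟨T, 𝟙 T, (inferInstanceAs (Etale (𝟙 T.left))), ⟨t, rfl⟩, trivial⟩
    | pullback Z Q hQ Y₁ g ih =>
      intro T h t
      obtain ⟨T', c, hc, ht, hQ'⟩ := ih T (h ≫ g) t
      refine ⟨T', c, hc, ht, ?_⟩
      show Q ((_ ≫ h) ≫ g)
      rw [Category.assoc]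
      exact hQ'
    | transitive Z Q R hQ hR ih ihR =>
      intro T h t
      obtain ⟨T', c, hc, ⟨t', rfl⟩, hQ'⟩ := ih T h t
      obtain ⟨T'', c', hc', ⟨t'', rfl⟩, hR'⟩ := ihR hQ' T' (𝟙 _) t'
      haveI := hc
      haveI := hc'
      refine ⟨T'', c' ≫ c, (inferInstanceAs (Etale (c'.left ≫ c.left))), ⟨t'', rfl⟩, ?_⟩
      have h2 : R (((AlgSp.ofScheme S).map c' ≫ 𝟙 _) ≫ (AlgSp.ofScheme S).map c ≫ h) := hR'
      rw [Category.comp_id, ← Functor.map_comp_assoc] at h2
      exact h2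
  let G := AlgSp.EtOver.toEtSpOver Y ⋙ ObjectProperty.ι (fun E : Over Y => AlgSp.IsEtaleMor E.hom.hom) ⋙ Over.map f
  refine ⟨fun {E Q} hQ => ?_⟩
  have hQ' := key _ _ ((GrothendieckTopology.mem_over_iff _ _).1 hQ) E.obj.left (𝟙 _)
  choose T' c hc hrange hmem using hQ'
  have hrep : ∀ t, AlgSp.RepWith @Etale ((AlgSp.yon S).map (c t) ≫ E.obj.hom) := fun t =>
    GrothLib.AlgSp.repWith_comp ((AlgSp.repWith_yon_map_iff _ _).2 (hc t)) E.property
  let Z' : ↥E.obj.left.left → AlgSp.EtOver Y.obj := fun t => AlgSp.EtOver.mk _ (hrep t)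
  let g' : ∀ t, Z' t ⟶ E := fun t => AlgSp.EtOver.homMk (c t) rfl
  refine GrothendieckTopology.superset_covering _ ?_ (AlgSp.ofArrows_mem_etTop Z' g' fun t => ⟨t, hrange t⟩)
  rw [Sieve.generate_le_iff]
  rintro _ _ ⟨t⟩
  show Q (G.map (g' t))
  obtain ⟨W, a, b, ha, hw⟩ := hmem t
  have e : (G.map (g' t)).left = b ≫ a.left := (Category.comp_id ((AlgSp.ofScheme S).map (c t))).symm.trans hw
  have e' : G.map (g' t) = Over.homMk b (by
      exact (congrArg (b ≫ ·) (Over.w a)).symm.trans ((Category.assoc _ _ _).symm.trans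
        ((congrArg (· ≫ _) e.symm).trans (Over.w (G.map (g' t)))))) ≫ a := Over.OverMorphism.ext e
  rw [e']
  exact Q.downward_closed ha _
end Groth.Agent.S10512
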