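import Groth.Statements.S10513
import Groth.Agent.Lib.AlgSp.Space
-- import your own Groth.Agent.* helpers here

set_option autoImplicit false
universe u
open CategoryTheory CategoryTheory.Limits AlgebraicGeometry
open AlgSp

namespace Groth.Agent.S10513

/-- For a morphism `f : Y ⟶ X` of algebraic spaces over `S`, the functor from the small etale site of
`Y` (scheme objects) to the big etale site `(Spaces/X)_{etale}` sending `h_U ⟶ Y` to `h_U ⟶ Y ⟶ X`
is continuous (precomposition with it carries sheaves of types to sheaves); for `f = 𝟙` this is the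
continuity of the inclusion of the small etale site of `X` into its big etale site. (Stated for the
small etale site with scheme objects, which defines the same topos as the one with algebraic-space
objects.) -/
theorem result {S : Scheme.{u}} {X Y : AlgSp.Space S} (f : Y ⟶ X) :
    (AlgSp.EtOver.toEtSpOver Y ⋙ ObjectProperty.ι (fun E : Over Y => AlgSp.IsEtaleMor E.hom.hom) ⋙
        Over.map f).IsContinuous (AlgSp.etTop Y.obj) (AlgSp.spacesTopOver AlgSp.IsEtaleMor X) := by
  let G := AlgSp.EtOver.toEtSpOver Y ⋙ ObjectProperty.ι (fun E : Over Y => AlgSp.IsEtaleMor E.hom.hom) ⋙ Over.map f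
  haveI : PreservesLimitsOfShape WalkingCospan G := by
    have h0 : ∀ {E₁ E₂ E₀ : AlgSp.EtOver Y.obj} (g₁ : E₁ ⟶ E₀) (g₂ : E₂ ⟶ E₀), PreservesLimit (cospan g₁ g₂) G := by
      intro E₁ E₂ E₀ g₁ g₂
      refine preservesLimit_of_preserves_limit_cone (AlgSp.EtOver.pullbackIsLimit g₁ g₂) ?_
      refine (isLimitMapConePullbackConeEquiv _ _).symm ?_
      have h1 : IsPullback (pullback.fst g₁.hom.left g₂.hom.left) (pullback.snd g₁.hom.left g₂.hom.left) g₁.hom.left g₂.hom.left :=
        IsPullback.of_hasPullback _ _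
      have h2 := h1.map (AlgSp.yon S)
      have hw : G.map (AlgSp.EtOver.pullbackFst g₁ g₂) ≫ G.map g₁ = G.map (AlgSp.EtOver.pullbackSnd g₁ g₂) ≫ G.map g₂ := by
        rw [← G.map_comp, ← G.map_comp]
        exact congrArg G.map (AlgSp.EtOver.hom_ext _ _ h1.w)
      have hw' : (G.map (AlgSp.EtOver.pullbackFst g₁ g₂)).left ≫ (G.map g₁).left =
          (G.map (AlgSp.EtOver.pullbackSnd g₁ g₂)).left ≫ (G.map g₂).left := congrArg CommaMorphism.left hw
      have h3 : IsPullback (G.map (AlgSp.EtOver.pullbackFst g₁ g₂)).left (G.map (AlgSp.EtOver.pullbackSnd g₁ g₂)).left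
          (G.map g₁).left (G.map g₂).left :=
        IsPullback.of_map (ObjectProperty.ι (AlgSp.IsAlgSpace (S := S))) hw' h2
      exact (IsPullback.of_map (Over.forget X) hw h3).isLimit
    exact ⟨fun {K} => haveI := h0 (K.map WalkingCospan.Hom.inl) (K.map WalkingCospan.Hom.inr)
      preservesLimit_of_iso_diagram _ (diagramIsoCospan K).symm⟩
  refine ⟨fun ⟨F, H⟩ => ?_⟩
  rw [isSheaf_iff_isSheaf_of_type] at H
  unfold AlgSp.etTop
  rw [← Precoverage.toGrothendieck_toCoverage, Presieve.isSheaf_coverage]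
  intro E R hR
  haveI : (AlgSp.etPre Y.obj).PullbacksPreservedBy G := ⟨fun _ _ _ => inferInstance⟩
  haveI : G.PreservesPairwisePullbacks R := (AlgSp.etPre Y.obj).preservesPairwisePullbacks_of_mem hR
  haveI : R.HasPairwisePullbacks := (AlgSp.etPre Y.obj).hasPairwisePullbacks_of_mem hR
  rw [Presieve.IsSheafFor.comp_iff_of_preservesPairwisePullbacks, Presieve.isSheafFor_iff_generate]
  refine H _ ((GrothendieckTopology.mem_over_iff _ _).2 ?_)
  obtain ⟨ι, Z, g, rfl⟩ := R.exists_eq_ofArrows
  have hcov := (AlgSp.ofArrows_mem_etPre_iff Z g).1 hR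
  let R' : Presieve (G.obj E).left := Presieve.ofArrows (fun i => (G.obj (Z i)).left) (fun i => (G.map (g i)).left)
  refine GrothendieckTopology.superset_covering (AlgSp.spacesTop S AlgSp.IsEtaleMor) ?_
    (Precoverage.generate_mem_toGrothendieck (J := AlgSp.spacesPre S AlgSp.IsEtaleMor) (R := R') ⟨?_, fun x => ?_⟩)
  · rw [Sieve.generate_le_iff]
    rintro _ _ ⟨i⟩
    rw [Presieve.map_ofArrows]
    exact ⟨G.obj (Z i), G.map (g i), 𝟙 _, Sieve.le_generate _ _ _ ⟨i⟩, (Category.id_comp _).symm⟩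
  · rintro _ _ ⟨i⟩
    exact AlgSp.isEtaleMor_of_repWith _ ((AlgSp.repWith_yon_map_iff _ _).2 (AlgSp.EtOver.etale_left (g i)))
  · obtain ⟨t, rfl⟩ := (AlgSp.Points.schemeEquiv E.obj.left).surjective x
    obtain ⟨i, z, hz⟩ := hcov t
    refine ⟨_, _, ⟨i⟩, AlgSp.Points.ofScheme (Z i).obj.left z, ?_⟩
    exact (AlgSp.Points.map_yon_map_apply (g i).hom.left z).trans (congrArg (AlgSp.Points.ofScheme E.obj.left) hz)
end Groth.Agent.S10513
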