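import Groth.Statements.S10514
import Groth.Agent.Lib.AlgSp.FppfCover
import Groth.Agent.Lib.FppfPh.Main
-- import your own Groth.Agent.* helpers here

set_option autoImplicit false
universe u
open CategoryTheory CategoryTheory.Limits AlgebraicGeometry
open AlgSp

namespace Groth.Agent.S10514

/-- An fppf covering of an algebraic space `X` over `S` by algebraic spaces is a ph covering of `X`: its
members are locally of finite type and every morphism from an affine scheme `Z` to `X` admits a
standard ph covering of `Z` whose members lift through members of the family. -/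
theorem result {S : Scheme.{u}} (X : AlgSp.Space S) {ι : Type u}
    (Xi : ι → AlgSp.Space S) (g : ∀ i, Xi i ⟶ X)
    (h : AlgSp.IsFppfCover (fun i => (Xi i).obj) (fun i => (g i).hom)) :
    AlgSp.IsPhCover (fun i => (Xi i).obj) (fun i => (g i).hom) := by
  refine ⟨fun i => GrothLib.AlgSp.locP_mono (P := @LocallyOfFinitePresentation) (Q := @LocallyOfFiniteType) (fun _ _ g (_ : LocallyOfFinitePresentation g) => inferInstance) (h.1 i).2, fun Z hZ k => ?_⟩
  obtain ⟨m, W, c, hW, hfl, hfp, hcov, hl⟩ :=
    GrothLib.AlgSp.exists_affine_family_of_cover X.property (fun i => (Xi i).property) h Z hZ k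
  let E : PreZeroHypercover.{0} Z.left := ⟨Fin m, fun j => (W j).left, fun j => (c j).left⟩
  obtain ⟨F, hF, hr⟩ := GrothLib.HTop.phGood_of_isPhCover (GrothLib.FppfPh.isPhCover_of_fppf E hfl hfp hcov) (𝟙 Z.left)
  refine ⟨F, hF, fun j => ?_⟩
  obtain ⟨t, q, hq⟩ := hr j
  have hq' : q ≫ (c t).left = F.f j := hq.trans (Category.comp_id _)
  obtain ⟨i, l, hl⟩ := hl t
  let r : Over.mk (F.f j ≫ Z.hom) ⟶ W t := Over.homMk q (by
    change q ≫ (W t).hom = F.f j ≫ Z.hom
    rw [← hq', Category.assoc, Over.w])
  refine ⟨i, (AlgSp.yon S).map r ≫ l, ?_⟩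
  rw [Category.assoc, hl, ← Category.assoc, ← Functor.map_comp]
  exact congrArg (fun e => (AlgSp.yon S).map e ≫ k) (Over.OverMorphism.ext hq')

end Groth.Agent.S10514
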