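import Groth.Statements.S10517
import Groth.Agent.Lib.AlgSp.LocP
import Groth.Agent.Lib.HTop.PhBind
-- import your own Groth.Agent.* helpers here

set_option autoImplicit false
universe u
open CategoryTheory CategoryTheory.Limits AlgebraicGeometry
open AlgSp

namespace Groth.Agent.S10517

/-- If `{X_i ⟶ X}` is a ph covering of the algebraic space `X` by algebraic spaces and each `X_i` has a
ph covering `{X_ij ⟶ X_i}` by algebraic spaces, then the composites `X_ij ⟶ X_i ⟶ X`, indexed by the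
pairs `(i, j)`, form a ph covering of `X`. -/
theorem result {S : Scheme.{u}} (X : AlgSp.Space S) {ι : Type u}
    (Xi : ι → AlgSp.Space S) (g : ∀ i, Xi i ⟶ X) (κ : ι → Type u) (Xij : ∀ i, κ i → AlgSp.Space S)
    (gij : ∀ i j, Xij i j ⟶ Xi i)
    (h : AlgSp.IsPhCover (fun i => (Xi i).obj) (fun i => (g i).hom))
    (hij : ∀ i, AlgSp.IsPhCover (fun j => (Xij i j).obj) (fun j => (gij i j).hom)) :
    AlgSp.IsPhCover (fun r : Σ i, κ i => (Xij r.1 r.2).obj) (fun r => (gij r.1 r.2 ≫ g r.1).hom) := by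
  refine ⟨fun r => GrothLib.AlgSp.EtLocal.lft.locP_comp (Xij r.1 r.2).property (Xi r.1).property X.property
    ((hij r.1).1 r.2) (h.1 r.1), fun Z hZ k => ?_⟩
  obtain ⟨E, hE, hl⟩ := h.2 Z hZ k
  choose i l hl using hl
  choose F hF hl' using fun j => (hij (i j)).2 (Over.mk (E.f j ≫ Z.hom)) (hE.isAffine_obj j) (l j)
  choose i' l' hl' using hl'
  obtain ⟨F', hF', hr⟩ := GrothLib.HTop.exists_standardPh_bind E hE F hF
  refine ⟨F', hF', fun m => ?_⟩
  obtain ⟨⟨j, t⟩, q, hq⟩ := hr m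
  have hq' : q ≫ (F j).f t ≫ E.f j = F'.f m := hq.trans (Category.comp_id _)
  let r : Over.mk (F'.f m ≫ Z.hom) ⟶ Over.mk ((F j).f t ≫ (Over.mk (E.f j ≫ Z.hom)).hom) := Over.homMk q (by
    change q ≫ (F j).f t ≫ E.f j ≫ Z.hom = F'.f m ≫ Z.hom
    rw [← hq', Category.assoc, Category.assoc])
  refine ⟨⟨i j, i' j t⟩, (AlgSp.yon S).map r ≫ l' j t, ?_⟩
  change ((AlgSp.yon S).map r ≫ l' j t) ≫ (gij (i j) (i' j t)).hom ≫ (g (i j)).hom = _
  rw [Category.assoc, reassoc_of% (hl' j t), hl j, ← Category.assoc, ← Category.assoc, ← Functor.map_comp, ← Functor.map_comp]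
  exact congrArg (fun e => (AlgSp.yon S).map e ≫ k) (Over.OverMorphism.ext ((Category.assoc _ _ _).trans hq'))

end Groth.Agent.S10517
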