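import Groth.Statements.S1053
import Mathlib.Algebra.Homology.DerivedCategory.TStructure
import Mathlib.Algebra.Homology.DerivedCategory.KProjective

set_option autoImplicit false
universe w v u
open CategoryTheory CategoryTheory.Limits
open CohDer

namespace Groth.Agent.S1053

/-- Let P and K be cochain complexes in an abelian category with P bounded, consisting of projective
objects and zero in degrees below n, and with Hⁱ(K) = 0 for all i ≥ n. Then every morphism P ⟶ K in
the homotopy category and every morphism P ⟶ K in the derived category is zero. -/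
theorem result {A : Type u} [Category.{v} A] [Abelian A] [HasDerivedCategory.{w} A]
    (P K : CochainComplex A ℤ) (n b : ℤ) [P.IsStrictlyGE n] [P.IsStrictlyLE b] (hP : ∀ i : ℤ, Projective (P.X i))
    (hK : ∀ i : ℤ, n ≤ i → IsZero (K.homology i)) :
    (∀ φ : (HomotopyCategory.quotient A (ComplexShape.up ℤ)).obj P ⟶ (HomotopyCategory.quotient A (ComplexShape.up ℤ)).obj K, φ = 0) ∧
    (∀ φ : DerivedCategory.Q.obj P ⟶ DerivedCategory.Q.obj K, φ = 0) := by
  have : P.IsKProjective := CochainComplex.isKProjective_of_projective P b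
  have hKle : (DerivedCategory.Q.obj K).IsLE (n - 1) := by
    rw [DerivedCategory.isLE_iff]
    intro i hi
    exact (hK i (by omega)).of_iso ((DerivedCategory.homologyFunctorFactors A i).app K)
  obtain ⟨K', hK', ⟨e⟩⟩ := (DerivedCategory.Q.obj K).exists_iso_Q_obj_of_isLE (n - 1)
  have hD' : ∀ φ : DerivedCategory.Qh.obj ((HomotopyCategory.quotient A (ComplexShape.up ℤ)).obj P) ⟶
      DerivedCategory.Qh.obj ((HomotopyCategory.quotient A (ComplexShape.up ℤ)).obj K'), φ = 0 := by
    intro φ
    obtain ⟨ψ, rfl⟩ := (CochainComplex.IsKProjective.Qh_map_bijective P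
      ((HomotopyCategory.quotient A (ComplexShape.up ℤ)).obj K')).2 φ
    obtain ⟨ψ, rfl⟩ := (HomotopyCategory.quotient A (ComplexShape.up ℤ)).map_surjective ψ
    have : ψ = 0 := HomologicalComplex.hom_ext _ _ fun i => by
      by_cases hi : n ≤ i
      · exact (K'.isZero_of_isStrictlyLE (n - 1) i (by omega)).eq_of_tgt _ _
      · exact (P.isZero_of_isStrictlyGE n i (by omega)).eq_of_src _ _
    rw [this, Functor.map_zero, Functor.map_zero]
  let eP := (DerivedCategory.quotientCompQhIso A).app P
  let eK' := (DerivedCategory.quotientCompQhIso A).app K'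
  have hD : ∀ φ : DerivedCategory.Q.obj P ⟶ DerivedCategory.Q.obj K, φ = 0 := fun φ => by
    rw [← cancel_epi eP.hom, Limits.comp_zero, ← cancel_mono (e.hom ≫ eK'.inv), Limits.zero_comp]
    exact hD' _
  refine ⟨fun φ => (CochainComplex.IsKProjective.Qh_map_bijective P _).1 ?_, hD⟩
  rw [Functor.map_zero, ← cancel_epi eP.inv,
    ← cancel_mono ((DerivedCategory.quotientCompQhIso A).app K).hom, Limits.comp_zero,
    Limits.zero_comp]
  exact hD _

end Groth.Agent.S1053
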