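import Groth.Agent.Lib.AlgSp.FpqcProps
import Groth.Statements.S10530
-- import your own Groth.Agent.* helpers here

set_option autoImplicit false
universe u
open CategoryTheory CategoryTheory.Limits AlgebraicGeometry
open AlgSp

namespace Groth.Agent.S10530

/-- The property of morphisms of algebraic spaces over S given by f is flat (on etale charts) is fpqc
local on the base: for an fpqc covering of an algebraic space Y by algebraic spaces Y_i, a morphism
f : X ⟶ Y of algebraic spaces and cartesian squares X_i = Y_i ×_Y X, f has the property if and only
if every X_i ⟶ Y_i has it. -/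
theorem result (S : Scheme.{u}) :
    AlgSp.IsLocalOnBase (AlgSp.IsFpqcCover (S := S)) (AlgSp.LocP @Flat) := by
  exact GrothLib.AlgSp.isLocalOnBase_fpqc_of (GrothLib.AlgSp.baseChanges_locP GrothLib.AlgSp.EtLocal.flat) fun X Y hX hY f h => GrothLib.AlgSp.locP_flat_of_fpqcLoc hX hY h

end Groth.Agent.S10530
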