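import Groth.Statements.S1054
import Groth.Agent.Lib.OX.QCohPull

set_option autoImplicit false
universe u
open CategoryTheory CategoryTheory.Limits AlgebraicGeometry Opposite
attribute [local instance] HasDerivedCategory.standard
open Perf

namespace Groth.Agent.S1054

/-- Let f : Y ⟶ X be a morphism of schemes and assume the derived pullback Lf^* exists. If K ∈ D(O_X)
has quasi-coherent cohomology sheaves, so does Lf^*K. -/
theorem result {Y X : Scheme.{u}} (f : Y ⟶ X) [DCoh.HasLpull f] (K : DCoh.D X) (hK : DCoh.IsQCohD K) :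
    DCoh.IsQCohD ((DCoh.Lpull f).obj K) := by
  obtain ⟨P, hP, ⟨e⟩⟩ := GrothLib.OX.exists_kflat_rep K
  obtain ⟨v⟩ := GrothLib.OX.lpull_value f P hP
  intro i
  exact GrothLib.OX.isQCoh_of_iso ((GrothLib.OX.hdIso _ i).symm ≪≫
      (DerivedCategory.homologyFunctor _ i).mapIso (v.symm ≪≫ (DCoh.Lpull f).mapIso e))
    (GrothLib.OX.isQCoh_homology_pullCx f hP
      (fun j => GrothLib.OX.isQCoh_of_iso ((DerivedCategory.homologyFunctor _ j).mapIso e.symm ≪≫ GrothLib.OX.hdIso P j) (hK j)) i)

end Groth.Agent.S1054
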