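import Groth.Agent.Lib.AlgSp.SourceLocal
import Groth.Statements.S10548
-- import your own Groth.Agent.* helpers here

set_option autoImplicit false
universe u
open CategoryTheory CategoryTheory.Limits AlgebraicGeometry
open AlgSp

namespace Groth.Agent.S10548

/-- The property of morphisms of algebraic spaces over S given by f is flat (on etale charts) is fpqc
local on the source: for a morphism f : X ⟶ Y of algebraic spaces and a fpqc covering of X by
algebraic spaces X_i, f has the property if and only if every composite X_i ⟶ X ⟶ Y has it. -/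
theorem result (S : Scheme.{u}) :
    AlgSp.IsLocalOnSource (AlgSp.IsFpqcCover (S := S)) (AlgSp.LocP @Flat) := by
  exact GrothLib.AlgSp.isLocalOnSource_of (C := @Flat) GrothLib.AlgSp.EtLocal.flat (fun _ _ c (_ : Etale c) => inferInstance)
    GrothLib.AlgSp.EtLocal.flat (fun _ _ _ h => h) GrothLib.AlgSp.srcDescends_flat fun ι X Xi g hX hXi hc => ⟨hc.1, fun x => by
      obtain ⟨U, p, pe, ps⟩ := hX.atlas
      obtain ⟨u, rfl⟩ := GrothLib.AlgSp.surjective_ofPt_of_repWith ps x
      obtain ⟨_, ⟨O, hO, rfl⟩, huO, -⟩ :=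
        U.left.isBasis_affineOpens.exists_subset_of_mem_open (Set.mem_univ u) isOpen_univ
      let O : U.left.Opens := O
      let Z : Over S := Over.mk (O.ι ≫ U.hom)
      let j : Z ⟶ U := Over.homMk O.ι rfl
      obtain ⟨m, W, c, hW, hfl, hcov, hl⟩ := hc.2 Z hO ((AlgSp.yon S).map j ≫ p)
      obtain ⟨n, w, hw⟩ := hcov ⟨u, huO⟩
      obtain ⟨i, l, hl⟩ := hl n
      refine ⟨i, AlgSp.Points.ofPt l w, ?_⟩
      rw [AlgSp.Points.map_ofPt, hl, GrothLib.AlgSp.ofPt_map_comp, hw, GrothLib.AlgSp.ofPt_map_comp]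
      rfl⟩

end Groth.Agent.S10548
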