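import Groth.Agent.Lib.AlgSp.SourceLocal
import Groth.Statements.S10549
-- import your own Groth.Agent.* helpers here

set_option autoImplicit false
universe u
open CategoryTheory CategoryTheory.Limits AlgebraicGeometry
open AlgSp

namespace Groth.Agent.S10549

/-- The property of morphisms of algebraic spaces over S given by f is locally of finite presentation
(on etale charts) is fppf local on the source: for a morphism f : X ⟶ Y of algebraic spaces and a
fppf covering of X by algebraic spaces X_i, f has the property if and only if every composite X_i ⟶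
X ⟶ Y has it. -/
theorem result (S : Scheme.{u}) :
    AlgSp.IsLocalOnSource (AlgSp.IsFppfCover (S := S)) (AlgSp.LocP @LocallyOfFinitePresentation) := by
  exact GrothLib.AlgSp.isLocalOnSource_of (C := @Flat ⊓ @LocallyOfFinitePresentation) (GrothLib.AlgSp.EtLocal.flat.inf GrothLib.AlgSp.EtLocal.lfp) (fun _ _ c (_ : Etale c) => ⟨inferInstance, inferInstance⟩) GrothLib.AlgSp.EtLocal.lfp (fun _ _ _ h => h.2)
    (GrothLib.AlgSp.srcDescends_fppf GrothLib.FppfSource.fppfSourceDescends_lfp) fun ι X Xi g _ _ hc => GrothLib.AlgSp.fppfCover_props hc

end Groth.Agent.S10549
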