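import Groth.Agent.Lib.AlgSp.SourceLocal
import Groth.Statements.S10550
-- import your own Groth.Agent.* helpers here

set_option autoImplicit false
universe u
open CategoryTheory CategoryTheory.Limits AlgebraicGeometry
open AlgSp

namespace Groth.Agent.S10550

/-- The property of morphisms of algebraic spaces over S given by f is locally of finite type (on etale
charts) is fppf local on the source: for a morphism f : X ⟶ Y of algebraic spaces and a fppf
covering of X by algebraic spaces X_i, f has the property if and only if every composite X_i ⟶ X ⟶ Y
has it. -/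
theorem result (S : Scheme.{u}) :
    AlgSp.IsLocalOnSource (AlgSp.IsFppfCover (S := S)) (AlgSp.LocP @LocallyOfFiniteType) := by
  exact GrothLib.AlgSp.isLocalOnSource_of (C := @Flat ⊓ @LocallyOfFinitePresentation) (GrothLib.AlgSp.EtLocal.flat.inf GrothLib.AlgSp.EtLocal.lfp) (fun _ _ c (_ : Etale c) => ⟨inferInstance, inferInstance⟩) GrothLib.AlgSp.EtLocal.lft (fun _ _ c h => by
      have : LocallyOfFinitePresentation c := h.2
      infer_instance)
    (GrothLib.AlgSp.srcDescends_fppf GrothLib.FppfSource.fppfSourceDescends_lft) fun ι X Xi g _ _ hc => GrothLib.AlgSp.fppfCover_props hc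

end Groth.Agent.S10550
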