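import Groth.Agent.Lib.AlgSp.SourceLocal
import Groth.Statements.S10551
-- import your own Groth.Agent.* helpers here

set_option autoImplicit false
universe u
open CategoryTheory CategoryTheory.Limits AlgebraicGeometry
open AlgSp

namespace Groth.Agent.S10551

/-- The property of morphisms of algebraic spaces over S given by f is open (the induced map on spaces
of points is open) is fppf local on the source: for a morphism f : X ⟶ Y of algebraic spaces and a
fppf covering of X by algebraic spaces X_i, f has the property if and only if every composite X_i ⟶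
X ⟶ Y has it. -/
theorem result (S : Scheme.{u}) :
    AlgSp.IsLocalOnSource (AlgSp.IsFppfCover (S := S)) AlgSp.IsOpenMor := by
  intro ι X Xi g hX hXi hc Y f hY
  obtain ⟨hg, hs⟩ := GrothLib.AlgSp.fppfCover_props hc
  refine ⟨fun h i => ?_, fun h => GrothLib.AlgSp.isOpenMap_of_cover_source hs h⟩
  have hgi : IsOpenMap (AlgSp.Points.map (g i)) :=
    GrothLib.AlgSp.isUnivOpenMor_of_flat_lfp (hXi i) hX (hg i) hX (𝟙 _) (𝟙 _) _ IsPullback.of_id_fst
  change IsOpenMap (AlgSp.Points.map (g i ≫ f))
  rw [show AlgSp.Points.map (g i ≫ f) = AlgSp.Points.map f ∘ AlgSp.Points.map (g i) from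
    funext fun x => AlgSp.Points.map_comp _ _ x]
  exact IsOpenMap.comp h hgi

end Groth.Agent.S10551
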