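import Groth.Agent.Lib.AlgSp.SourceLocal
import Groth.Agent.Lib.AlgSp.UnivClosed
import Groth.Statements.S10552
-- import your own Groth.Agent.* helpers here

set_option autoImplicit false
universe u
open CategoryTheory CategoryTheory.Limits AlgebraicGeometry
open AlgSp

namespace Groth.Agent.S10552

/-- The property of morphisms of algebraic spaces over S given by f is universally open (every base
change along a morphism from an algebraic space is open on points) is fppf local on the source: for
a morphism f : X ⟶ Y of algebraic spaces and a fppf covering of X by algebraic spaces X_i, f has the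
property if and only if every composite X_i ⟶ X ⟶ Y has it. -/
theorem result (S : Scheme.{u}) :
    AlgSp.IsLocalOnSource (AlgSp.IsFppfCover (S := S)) AlgSp.IsUnivOpenMor := by
  intro ι X Xi g hX hXi hc Y f hY
  obtain ⟨hg, hs⟩ := GrothLib.AlgSp.fppfCover_props hc
  refine ⟨fun h i => ?_, fun h => GrothLib.AlgSp.isUnivOpenMor_of_cover_source hs h⟩
  have : MorphismProperty.IsStableUnderComposition (AlgSp.IsOpenMor (S := S)) :=
    ⟨fun a b (ha : IsOpenMap _) (hb : IsOpenMap _) => by
      change IsOpenMap (AlgSp.Points.map (a ≫ b))
      rw [show AlgSp.Points.map (a ≫ b) = AlgSp.Points.map b ∘ AlgSp.Points.map a from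
        funext fun x => AlgSp.Points.map_comp _ _ x]
      exact hb.comp ha⟩
  exact GrothLib.AlgSp.univSp_comp hX hY (GrothLib.AlgSp.isUnivOpenMor_of_flat_lfp (hXi i) hX (hg i)) h

end Groth.Agent.S10552
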