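import Groth.Agent.Lib.AlgSp.SourceLocal
import Groth.Statements.S10553
-- import your own Groth.Agent.* helpers here

set_option autoImplicit false
universe u
open CategoryTheory CategoryTheory.Limits AlgebraicGeometry
open AlgSp

namespace Groth.Agent.S10553

/-- The property of morphisms of algebraic spaces over S given by f is smooth (on etale charts) is
smooth local on the source: for a morphism f : X ⟶ Y of algebraic spaces and a smooth covering of X
by algebraic spaces X_i, f has the property if and only if every composite X_i ⟶ X ⟶ Y has it. -/
theorem result (S : Scheme.{u}) :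
    AlgSp.IsLocalOnSource (AlgSp.IsSmCover (S := S)) (AlgSp.LocP @Smooth) := by
  exact GrothLib.AlgSp.isLocalOnSource_of (C := @Smooth) GrothLib.AlgSp.EtLocal.smooth (fun _ _ c (_ : Etale c) => inferInstance) GrothLib.AlgSp.EtLocal.smooth
    (fun _ _ _ h => h) (GrothLib.AlgSp.srcDescends_mono (fun _ _ c (_ : Smooth c) => ⟨inferInstance, inferInstance⟩)
      (GrothLib.AlgSp.srcDescends_fppf GrothLib.FppfSource.fppfSourceDescends_smooth)) fun ι X Xi g _ _ hc => hc

end Groth.Agent.S10553
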