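import Groth.Agent.Lib.AlgSp.SourceLocal
import Groth.Statements.S10554
-- import your own Groth.Agent.* helpers here

set_option autoImplicit false
universe u
open CategoryTheory CategoryTheory.Limits AlgebraicGeometry
open AlgSp

namespace Groth.Agent.S10554

/-- The property of morphisms of algebraic spaces over S given by f is etale (composition with every
representable etale map from a scheme is representable etale) is etale local on the source: for a
morphism f : X ⟶ Y of algebraic spaces and a etale covering of X by algebraic spaces X_i, f has the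
property if and only if every composite X_i ⟶ X ⟶ Y has it. -/
theorem result (S : Scheme.{u}) :
    AlgSp.IsLocalOnSource (AlgSp.IsEtCover (S := S)) AlgSp.IsEtaleMor := by
  intro ι X Xi g hX hXi hc Y f hY
  have hg : ∀ i, AlgSp.LocP @Etale (g i) := fun i => GrothLib.AlgSp.locP_of_isEtaleMor hX (hc.1 i)
  exact ⟨fun h i => GrothLib.AlgSp.isEtaleMor_of_locP hY
      (GrothLib.AlgSp.EtLocal.etale.locP_comp (hXi i) hX hY (hg i) (GrothLib.AlgSp.locP_of_isEtaleMor hY h)),
    fun h => GrothLib.AlgSp.isEtaleMor_of_locP hY (GrothLib.AlgSp.locP_of_cover_source (C := @Etale) GrothLib.AlgSp.EtLocal.etale (fun _ _ _ h => h) GrothLib.AlgSp.EtLocal.etale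
      (GrothLib.AlgSp.srcDescends_etale GrothLib.AlgSp.etaleSourceDescends_etale) hX hY hXi hg hc.2
      fun i => GrothLib.AlgSp.locP_of_isEtaleMor hY (h i))⟩

end Groth.Agent.S10554
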