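import Groth.Agent.Lib.AlgSp.LocSurjSource
import Groth.Agent.Lib.FppfSource.Scheme
import Groth.Statements.S10557
-- import your own Groth.Agent.* helpers here

set_option autoImplicit false
universe u
open CategoryTheory CategoryTheory.Limits AlgebraicGeometry
open AlgSp

namespace Groth.Agent.S10557

/-- Let g : X ⟶ Y and h : Y ⟶ Z be morphisms of algebraic spaces over S with g a surjection of fppf
sheaves (locally surjective for the fppf topology). For P one of flat, locally of finite type,
locally of finite presentation (checked on etale charts): if the composite X ⟶ Z has P then h has P. -/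
theorem result {S : Scheme.{u}} {X Y Z : AlgSp.Space S} (g : X ⟶ Y) (h : Y ⟶ Z)
    (hg : Sheaf.IsLocallySurjective g.hom) :
    (AlgSp.LocP @Flat (g ≫ h).hom → AlgSp.LocP @Flat h.hom) ∧
    (AlgSp.LocP @LocallyOfFiniteType (g ≫ h).hom → AlgSp.LocP @LocallyOfFiniteType h.hom) ∧
    (AlgSp.LocP @LocallyOfFinitePresentation (g ≫ h).hom →
      AlgSp.LocP @LocallyOfFinitePresentation h.hom) := by
  have := hg
  refine ⟨fun h' => ?_, fun h' => ?_, fun h' => ?_⟩
  · exact GrothLib.AlgSp.locP_of_locallySurjective .flat (fun _ _ c hc _ => hc)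
      (fun _ _ _ s p k hs hk => @GrothLib.Misc6.flat_of_retract _ _ _ s p hs k hk)
      (GrothLib.AlgSp.srcDescends_mono (fun _ _ c hc => hc.1) GrothLib.AlgSp.srcDescends_flat)
      X.property Y.property Z.property g.hom h.hom h'
  · exact GrothLib.AlgSp.locP_of_locallySurjective .lft
      (fun _ _ c _ hc => (inferInstance : LocallyOfFiniteType c))
      (fun _ _ _ s p k hs hk => @GrothLib.AlgSp.lft_of_retract _ _ _ s p hs k hk)
      (GrothLib.AlgSp.srcDescends_fppf GrothLib.FppfSource.fppfSourceDescends_lft)
      X.property Y.property Z.property g.hom h.hom h'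
  · exact GrothLib.AlgSp.locP_of_locallySurjective .lfp (fun _ _ c _ hc => hc)
      (fun _ _ _ s p k hs hk => @GrothLib.AlgSp.lfp_of_retract _ _ _ s p hs k hk)
      (GrothLib.AlgSp.srcDescends_fppf GrothLib.FppfSource.fppfSourceDescends_lfp)
      X.property Y.property Z.property g.hom h.hom h'

end Groth.Agent.S10557
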