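import Groth.Agent.Lib.AlgSp.SourceLocal
import Groth.Statements.S10559
-- import your own Groth.Agent.* helpers here

set_option autoImplicit false
universe u
open CategoryTheory CategoryTheory.Limits AlgebraicGeometry
open AlgSp

namespace Groth.Agent.S10559

/-- Let f : X ⟶ Y and q : Y ⟶ B be morphisms of algebraic spaces over S. If f is surjective and smooth
and f ≫ q is smooth, then q is smooth; if f is surjective and etale and f ≫ q is etale, then q is
etale. (The syntomic case of the published statement is not included.) -/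
theorem result {S : Scheme.{u}} {X Y B : AlgSp.Space S} (f : X ⟶ Y) (q : Y ⟶ B)
    (hs : AlgSp.IsSurjectiveMor f.hom) :
    (AlgSp.LocP @Smooth f.hom → AlgSp.LocP @Smooth (f ≫ q).hom → AlgSp.LocP @Smooth q.hom) ∧
    (AlgSp.IsEtaleMor f.hom → AlgSp.IsEtaleMor (f ≫ q).hom → AlgSp.IsEtaleMor q.hom) := by
  exact ⟨fun hf h => GrothLib.AlgSp.locP_of_surjective_source (C := @Smooth) GrothLib.AlgSp.EtLocal.smooth
      (fun _ _ c (_ : Etale c) => inferInstance) GrothLib.AlgSp.EtLocal.smooth
      (GrothLib.AlgSp.srcDescends_mono (fun _ _ c (_ : Smooth c) => ⟨inferInstance, inferInstance⟩)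
        (GrothLib.AlgSp.srcDescends_fppf GrothLib.FppfSource.fppfSourceDescends_smooth)) X.property Y.property B.property hf hs h,
    fun hf h => GrothLib.AlgSp.isEtaleMor_of_locP B.property (GrothLib.AlgSp.locP_of_surjective_source (C := @Etale) GrothLib.AlgSp.EtLocal.etale (fun _ _ _ h => h) GrothLib.AlgSp.EtLocal.etale
      (GrothLib.AlgSp.srcDescends_etale GrothLib.AlgSp.etaleSourceDescends_etale) X.property Y.property B.property
      (GrothLib.AlgSp.locP_of_isEtaleMor Y.property hf) hs (GrothLib.AlgSp.locP_of_isEtaleMor B.property h))⟩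

end Groth.Agent.S10559
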