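import Groth.Statements.S1056
import Groth.Agent.Lib.PerfDesc25.Amp
import Groth.Agent.Lib.QCohDesc.Basic
import Groth.Agent.Lib.OX.PerfectEnvelope
import Groth.Agent.Lib.OX.PullbackFlat
-- import your own Groth.Agent.* helpers here

set_option autoImplicit false
universe u
open CategoryTheory CategoryTheory.Limits AlgebraicGeometry Opposite
attribute [local instance] HasDerivedCategory.standard
open Perf

namespace Groth.Agent.S1056

/-- Let f : X' → X be a flat, surjective, quasi-compact morphism of schemes (an fpqc covering by a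
single morphism), and assume Lf^* exists. Then an object E of D(𝒪_X) is perfect if and only if Lf^*E
is perfect. -/
theorem result {X' X : Scheme.{u}} (f : X' ⟶ X) [Flat f] [Surjective f] [QuasiCompact f] [DCoh.HasLpull f] (E : DCoh.D X) :
    DCoh.IsPerfect E ↔ DCoh.IsPerfect ((DCoh.Lpull f).obj E) := by
  refine ⟨fun h => GrothLib.OX.isPerfect_lpull f h, fun h => ?_⟩
  obtain ⟨P, hP, ⟨e⟩⟩ := GrothLib.OX.exists_kflat_rep E
  obtain ⟨v⟩ := GrothLib.OX.lpull_value f P hP
  refine GrothLib.OX.isPerfect_of_iso ?_ e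
  have h' : DCoh.IsPerfect (DerivedCategory.Q.obj ((GrothLib.OX.pullCxF f).obj P)) :=
    GrothLib.OX.isPerfect_of_iso h ((DCoh.Lpull f).mapIso e.symm ≪≫ v)
  refine GrothLib.PerfDesc25.isPerfect_of_pullCx f hP (fun i => ?_) h'
  have := GrothLib.OX.preservesFiniteLimits_pullback_of_flat f
  have hq : Coh.IsQCoh (DCoh.HD (DerivedCategory.Q.obj ((GrothLib.OX.pullCxF f).obj P)) i) :=
    GrothLib.OX.isQCohD_of_isPerfect h' i
  have hq' : ((Scheme.Modules.pullback f).obj (P.homology i)).IsQuasicoherent :=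
    GrothLib.OX.isQCoh_of_iso (GrothLib.OX.hdIso ((GrothLib.OX.pullCxF f).obj P) i ≪≫ (P.sc i).mapHomologyIso (Scheme.Modules.pullback f)) hq
  exact GrothLib.OX.isQCoh_of_iso (GrothLib.OX.hdIso P i).symm
    (GrothLib.QCohDesc.isQuasicoherent_of_pullback f _ hq')

end Groth.Agent.S1056
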