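import Groth.Agent.Lib.AlgSp.SourceLocal
import Groth.Statements.S10560
-- import your own Groth.Agent.* helpers here

set_option autoImplicit false
universe u
open CategoryTheory CategoryTheory.Limits AlgebraicGeometry
open AlgSp

namespace Groth.Agent.S10560

/-- Let f : X ⟶ Y and q : Y ⟶ B be morphisms of algebraic spaces over S with f surjective, flat and
locally of finite presentation. If f ≫ q is smooth then q is smooth; if f ≫ q is etale then q is
etale. -/
theorem result {S : Scheme.{u}} {X Y B : AlgSp.Space S} (f : X ⟶ Y) (q : Y ⟶ B)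
    (hs : AlgSp.IsSurjectiveMor f.hom) (hfl : AlgSp.LocP @Flat f.hom)
    (hfp : AlgSp.LocP @LocallyOfFinitePresentation f.hom) :
    (AlgSp.LocP @Smooth (f ≫ q).hom → AlgSp.LocP @Smooth q.hom) ∧
    (AlgSp.IsEtaleMor (f ≫ q).hom → AlgSp.IsEtaleMor q.hom) := by
  have hg : AlgSp.LocP (@Flat ⊓ @LocallyOfFinitePresentation) f.hom :=
    fun U V a b k ha hb w => ⟨hfl a b k ha hb w, hfp a b k ha hb w⟩
  exact ⟨fun h => GrothLib.AlgSp.locP_of_surjective_source (C := @Flat ⊓ @LocallyOfFinitePresentation) (GrothLib.AlgSp.EtLocal.flat.inf GrothLib.AlgSp.EtLocal.lfp) (fun _ _ c (_ : Etale c) => ⟨inferInstance, inferInstance⟩) GrothLib.AlgSp.EtLocal.smooth (GrothLib.AlgSp.srcDescends_fppf GrothLib.FppfSource.fppfSourceDescends_smooth)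
      X.property Y.property B.property hg hs h,
    fun h => GrothLib.AlgSp.isEtaleMor_of_locP B.property (GrothLib.AlgSp.locP_of_surjective_source (C := @Flat ⊓ @LocallyOfFinitePresentation) (GrothLib.AlgSp.EtLocal.flat.inf GrothLib.AlgSp.EtLocal.lfp) (fun _ _ c (_ : Etale c) => ⟨inferInstance, inferInstance⟩) GrothLib.AlgSp.EtLocal.etale
      GrothLib.AlgSp.srcDescends_fppf_etale X.property Y.property B.property hg hs (GrothLib.AlgSp.locP_of_isEtaleMor B.property h))⟩

end Groth.Agent.S10560
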