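import Groth.Agent.Lib.AlgSp.EtaleLocallyProps
import Groth.Statements.S10562
-- import your own Groth.Agent.* helpers here

set_option autoImplicit false
universe u
open CategoryTheory CategoryTheory.Limits AlgebraicGeometry
open AlgSp

namespace Groth.Agent.S10562

/-- Let f : X ⟶ Y be a morphism of algebraic spaces over S which is locally of finite presentation, flat
and surjective. If X is locally Noetherian then Y is locally Noetherian. -/
theorem result {S : Scheme.{u}} {X Y : AlgSp.Space S} (f : X ⟶ Y)
    (hfp : AlgSp.LocP @LocallyOfFinitePresentation f.hom) (hfl : AlgSp.LocP @Flat f.hom)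
    (hs : AlgSp.IsSurjectiveMor f.hom) (hX : AlgSp.IsLocNoethSp X.obj) :
    AlgSp.IsLocNoethSp Y.obj := by
  refine GrothLib.AlgSp.etaleLocally_of_surjective (C := @Flat ⊓ @LocallyOfFinitePresentation)
    (GrothLib.AlgSp.EtLocal.flat.inf GrothLib.AlgSp.EtLocal.lfp) (fun _ _ c (_ : Etale c) => ⟨inferInstance, inferInstance⟩)
    (fun _ _ k hk hB => GrothLib.AlgSp.isLocallyNoetherian_of_etale k hk hB) ?_ X.property Y.property
    (fun U V a b k ha hb w => ⟨hfl a b k ha hb w, hfp a b k ha hb w⟩) hs hX
  rintro A B k ⟨(_ : Flat k), (_ : LocallyOfFinitePresentation k)⟩ hs' hA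
  exact GrothLib.FppfSource.isLocallyNoetherian_of_fppf k

end Groth.Agent.S10562
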