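import Groth.Agent.Lib.AlgSp.EtaleLocallyProps
import Groth.Statements.S10564
-- import your own Groth.Agent.* helpers here

set_option autoImplicit false
universe u
open CategoryTheory CategoryTheory.Limits AlgebraicGeometry
open AlgSp

namespace Groth.Agent.S10564

/-- For a smooth morphism f : X ⟶ Y of algebraic spaces over S, reducedness of Y implies reducedness of
X, and when f is moreover surjective, reducedness of X implies reducedness of Y. -/
theorem result {S : Scheme.{u}} {X Y : AlgSp.Space S} (f : X ⟶ Y) (hf : AlgSp.LocP @Smooth f.hom) :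
    (AlgSp.IsReducedSp Y.obj → AlgSp.IsReducedSp X.obj) ∧
    (AlgSp.IsSurjectiveMor f.hom → AlgSp.IsReducedSp X.obj → AlgSp.IsReducedSp Y.obj) := by
  refine ⟨fun h => GrothLib.AlgSp.isReducedSp_of_smooth X.property Y.property hf h, fun hs hX =>
    GrothLib.AlgSp.etaleLocally_of_surjective (C := @Smooth) GrothLib.AlgSp.EtLocal.smooth (fun _ _ c (_ : Etale c) => inferInstance)
      (fun _ _ k hk hB => GrothLib.AlgSp.isReduced_of_etale k hk hB) ?_ X.property Y.property hf hs hX⟩
  intro A B k hk hs' hA
  have : Smooth k := hk
  exact Groth.Agent.S9840.result k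

end Groth.Agent.S10564
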