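import Groth.Agent.Lib.AlgSp.SmoothLocalFormal
import Groth.Statements.S10567
-- import your own Groth.Agent.* helpers here

set_option autoImplicit false
universe u
open CategoryTheory CategoryTheory.Limits AlgebraicGeometry
open AlgSp

namespace Groth.Agent.S10567

/-- A property P of morphisms of algebraic spaces over S that is smooth local on the source, smooth
local on the base, and stable under postcomposition with smooth morphisms (whenever g : Y ⟶ Z is
smooth and f : X ⟶ Y has P, the composite f ≫ g has P) is smooth local on source-and-target. -/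
theorem result {S : Scheme.{u}} (P : MorphismProperty (AlgSp.Sp S))
    (h1 : AlgSp.IsLocalOnSource (AlgSp.IsSmCover (S := S)) P)
    (h2 : AlgSp.IsLocalOnBase (AlgSp.IsSmCover (S := S)) P)
    (h3 : ∀ ⦃X Y Z : AlgSp.Space S⦄ (f : X ⟶ Y) (g : Y ⟶ Z), P f.hom → AlgSp.LocP @Smooth g.hom → P (f ≫ g).hom) :
    AlgSp.IsSmoothLocalST P := by
  refine ⟨fun X Y Z hX hY hZ f g hf hg => ?_, fun X Y X' Y' hX hY hX' hY' f g f' g' sq hg hf => ?_,
    fun X Y hX hY f => ⟨fun h x => ⟨X, Y, 𝟙 X, 𝟙 Y, f, x, hX, hY, GrothLib.AlgSp.locP_smooth_id hX, GrothLib.AlgSp.locP_smooth_id hY,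
      (Category.id_comp f).trans (Category.comp_id f).symm, AlgSp.Points.map_id x, h⟩, fun H => ?_⟩⟩
  · refine (h1 (ι := ULift.{u} Bool) (fun i => if i.down then X else Y)
      (fun ⟨i⟩ => match i with | true => f | false => 𝟙 Y) hY ?_ ⟨?_, fun y => ⟨⟨false⟩, y, AlgSp.Points.map_id y⟩⟩ g hZ).1 hg
      ⟨true⟩
    · rintro ⟨_ | _⟩
      · exact hY
      · exact hX
    · rintro ⟨_ | _⟩
      · exact GrothLib.AlgSp.locP_smooth_id hY
      · exact hf
  · refine (h2 (ι := ULift.{u} Bool) (fun i => if i.down then Y' else Y)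
      (fun ⟨i⟩ => match i with | true => g | false => 𝟙 Y) hY ?_ ⟨?_, fun y => ⟨⟨false⟩, y, AlgSp.Points.map_id y⟩⟩
      f hX (fun i => if i.down then X' else X) (fun ⟨i⟩ => match i with | true => f' | false => f)
      (fun ⟨i⟩ => match i with | true => g' | false => 𝟙 X) ?_ ?_).1 hf ⟨true⟩
    · rintro ⟨_ | _⟩
      · exact hY
      · exact hY'
    · rintro ⟨_ | _⟩
      · exact GrothLib.AlgSp.locP_smooth_id hY
      · exact hg
    · rintro ⟨_ | _⟩
      · exact hX
      · exact hX'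
    · rintro ⟨_ | _⟩
      · exact IsPullback.of_id_fst
      · exact sq
  · obtain ⟨U₀, p₀, pe, ps⟩ := hX.atlas
    choose U V a b h v hU hV ha hb hw hv hh using fun (u : ↥U₀.left) => H (AlgSp.Points.ofPt p₀ u)
    refine (h1 (ι := ↥U₀.left) U a hX hU ⟨ha, fun x => ?_⟩ f hY).2 fun u => ?_
    · obtain ⟨u, rfl⟩ := GrothLib.AlgSp.surjective_ofPt_of_repWith ps x
      exact ⟨u, v u, hv u⟩
    · rw [hw u]
      exact h3 (X := ⟨U u, hU u⟩) (Y := ⟨V u, hV u⟩) (Z := ⟨Y, hY⟩) (ObjectProperty.homMk (h u))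
        (ObjectProperty.homMk (b u)) (hh u) (hb u)

end Groth.Agent.S10567
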