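import Groth.Agent.Lib.AlgSp.SmoothLocalFormal
import Groth.Statements.S10568
-- import your own Groth.Agent.* helpers here

set_option autoImplicit false
universe u
open CategoryTheory CategoryTheory.Limits AlgebraicGeometry
open AlgSp AlgSp.IsEtaleSmoothLocalST

namespace Groth.Agent.S10568

/-- A property P of morphisms of algebraic spaces over S, local on source-and-target in the etale-smooth
sense, is (1) etale local on the source, (2) smooth local on the base, (3) stable under
postcomposition with etale morphisms: whenever g : Y ⟶ Z is etale and f : X ⟶ Y has P, the composite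
f ≫ g has P, and (4) conversely, if g : Y ⟶ Z is etale and f ≫ g has P then f has P. -/
theorem result {S : Scheme.{u}} {P : MorphismProperty (AlgSp.Sp S)}
    (hP : AlgSp.IsEtaleSmoothLocalST P) :
    AlgSp.IsLocalOnSource (AlgSp.IsEtCover (S := S)) P ∧
    AlgSp.IsLocalOnBase (AlgSp.IsSmCover (S := S)) P ∧
    (∀ ⦃X Y Z : AlgSp.Space S⦄ (f : X ⟶ Y) (g : Y ⟶ Z), P f.hom → AlgSp.IsEtaleMor g.hom → P (f ≫ g).hom) ∧
    (∀ ⦃X Y Z : AlgSp.Space S⦄ (f : X ⟶ Y) (g : Y ⟶ Z), AlgSp.IsEtaleMor g.hom → P (f ≫ g).hom → P f.hom) := by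
  refine ⟨GrothLib.AlgSp.etaleSmoothLocal_source hP, GrothLib.AlgSp.etaleSmoothLocal_base hP, fun X Y Z f g hf hg =>
    GrothLib.AlgSp.etaleSmoothLocal_postcomp hP X.property Y.property Z.property hf hg, fun X Y Z f g hg h => ?_⟩
  have sq := IsPullback.of_hasPullback (f ≫ g).hom g.hom
  have hW := GrothLib.AlgSp.isAlgSpace_pullback' Z.property X.property Y.property (f ≫ g).hom g.hom
  let e := sq.lift (𝟙 X.obj) f.hom (Category.id_comp _)
  have hg' := GrothLib.AlgSp.locP_of_isEtaleMor Z.property hg
  have he : AlgSp.IsEtaleMor e := by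
    refine GrothLib.AlgSp.isEtaleMor_of_locP hW (GrothLib.AlgSp.EtLocal.etale.locP_cancel
      (fun A B C a b hab hb => by
        have : Etale (a ≫ b) := hab
        have : Etale b := hb
        exact Etale.of_comp a b) X.property hW X.property (g := pullback.fst (f ≫ g).hom g.hom) ?_
      (GrothLib.AlgSp.EtLocal.etale.locP_of_isPullback Y.property Z.property X.property sq.flip hg'))
    rw [sq.lift_fst]
    exact GrothLib.AlgSp.locP_id GrothLib.AlgSp.EtLocal.etale (fun _ _ _ h => h) X.property
  have h2 := hP.precomp X.property hW Y.property e (pullback.snd _ _) he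
    (hP.baseChange X.property Z.property hW Y.property (f ≫ g).hom g.hom _ _ sq
      (GrothLib.AlgSp.locP_smooth_of_isEtaleMor Z.property hg) h)
  rwa [show e ≫ pullback.snd _ _ = f.hom from sq.lift_snd _ _ _] at h2

end Groth.Agent.S10568
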