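import Groth.Statements.S1057
import Groth.Agent.Lib.RelAmp22.FFDesc

set_option autoImplicit false
universe u
open CategoryTheory CategoryTheory.Limits AlgebraicGeometry Opposite
attribute [local instance] HasDerivedCategory.standard
open Perf

namespace Groth.Agent.S1057

/-- For a covering by a single flat, surjective, quasi-compact morphism f : X' ⟶ X: assuming Lf^*
exists, an object E of D(O_X) with quasi-coherent cohomology sheaves is m-pseudo-coherent if and
only if Lf^*E is m-pseudo-coherent. -/
theorem result {X' X : Scheme.{u}} (f : X' ⟶ X) [Flat f] [Surjective f] [QuasiCompact f] [DCoh.HasLpull f] (E : DCoh.D X) (hE : DCoh.IsQCohD E) (m : ℤ) :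
    DCoh.IsPseudoCoherentD m E ↔ DCoh.IsPseudoCoherentD m ((DCoh.Lpull f).obj E) := by
  refine ⟨fun h => GrothLib.OX.isPseudoCoherent_lpull f h, fun h => ?_⟩
  obtain ⟨P, hP, ⟨e⟩⟩ := GrothLib.OX.exists_kflat_rep E
  obtain ⟨v⟩ := GrothLib.OX.lpull_value f P hP
  exact GrothLib.OX.isPseudoCoherentD_of_iso (GrothLib.RelAmp22.isPC_of_ff f hP
    (fun i => haveI := hE i; GrothLib.QCoh.isQuasicoherent_of_iso ((DerivedCategory.homologyFunctor _ i).mapIso e.symm))
    (GrothLib.OX.isPseudoCoherentD_of_iso h ((DCoh.Lpull f).mapIso e.symm ≪≫ v))) e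

end Groth.Agent.S1057
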