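import Groth.Statements.S10570
import Groth.Agent.Lib.AlgSp.EtSmLocality
-- import your own Groth.Agent.* helpers here

set_option autoImplicit false
universe u
open CategoryTheory CategoryTheory.Limits AlgebraicGeometry
open AlgSp

namespace Groth.Agent.S10570

/-- A property P of morphisms of algebraic spaces over S that is etale local on the source, smooth local
on the base, and stable under postcomposition with open immersions (if f : X ⟶ Y has P and j : Y ⟶ Z
is an open immersion then f ≫ j has P) is local on source-and-target in the etale-smooth sense. -/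
theorem result {S : Scheme.{u}} (P : MorphismProperty (AlgSp.Sp S))
    (h1 : AlgSp.IsLocalOnSource (AlgSp.IsEtCover (S := S)) P)
    (h2 : AlgSp.IsLocalOnBase (AlgSp.IsSmCover (S := S)) P)
    (h3 : ∀ ⦃X Y Z : AlgSp.Space S⦄ (f : X ⟶ Y) (j : Y ⟶ Z), P f.hom → AlgSp.RepWith @IsOpenImmersion j.hom → P (f ≫ j).hom) :
    AlgSp.IsEtaleSmoothLocalST P := by
  refine ⟨fun X Y Z hX hY hZ f g hf hg => ?_, fun X Y X' Y' hX hY hX' hY' f g f' g' sq hg hf => ?_,
    fun X Y hX hY f => ⟨fun h x => ⟨Y, X, X, 𝟙 Y, 𝟙 X, f, 𝟙 X, x, hY, hX, hX, GrothLib.AlgSp.locP_smooth_id hY,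
      IsPullback.of_id_fst, GrothLib.AlgSp.isEtaleMor_id hX, by rw [Category.id_comp]; exact AlgSp.Points.map_id x,
      by rw [Category.id_comp]; exact h⟩, fun H => GrothLib.AlgSp.etSm_locality h1 h2 h3 hX hY f H⟩⟩
  · refine (h1 (ι := ULift.{u} Bool) (fun i => if i.down then X else Y)
      (fun ⟨i⟩ => match i with | true => f | false => 𝟙 Y) hY ?_ ⟨?_, fun y => ⟨⟨false⟩, y, AlgSp.Points.map_id y⟩⟩ g hZ).1 hg
      ⟨true⟩
    · rintro ⟨_ | _⟩
      · exact hY
      · exact hX
    · rintro ⟨_ | _⟩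
      · exact GrothLib.AlgSp.isEtaleMor_id hY
      · exact hf
  · refine (h2 (ι := ULift.{u} Bool) (fun i => if i.down then Y' else Y)
      (fun ⟨i⟩ => match i with | true => g | false => 𝟙 Y) hY ?_ ⟨?_, fun y => ⟨⟨false⟩, y, AlgSp.Points.map_id y⟩⟩
      f hX (fun i => if i.down then X' else X) (fun ⟨i⟩ => match i with | true => f' | false => f)
      (fun ⟨i⟩ => match i with | true => g' | false => 𝟙 X) ?_ ?_).1 hf ⟨true⟩
    · rintro ⟨_ | _⟩
      · exact hY
      · exact hY'
    · rintro ⟨_ | _⟩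
      · exact GrothLib.AlgSp.locP_smooth_id hY
      · exact hg
    · rintro ⟨_ | _⟩
      · exact hX
      · exact hX'
    · rintro ⟨_ | _⟩
      · exact IsPullback.of_id_fst
      · exact sq

end Groth.Agent.S10570
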