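import Groth.Statements.S10571
import Groth.Agent.Lib.AlgSp.SigmaChart
import Groth.Agent.Lib.AlgSp.Coproduct
import Groth.Agent.Lib.AlgSp.Space
import Mathlib.CategoryTheory.Sites.LeftExact
import Mathlib.CategoryTheory.Extensive
-- import your own Groth.Agent.* helpers here

set_option autoImplicit false
universe u
open CategoryTheory CategoryTheory.Limits AlgebraicGeometry
open AlgSp

namespace Groth.Agent.S10571

/-- Suppose a property P of morphisms between algebraic spaces over S satisfies: (1) if finitely many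
morphisms X_i ⟶ Y_i have P then so does the induced morphism ∐ X_i ⟶ ∐ Y_i, (2) f : X ⟶ Y has P
exactly when, for each affine scheme Z and each h_Z ⟶ Y, the base change h_Z ×_Y X ⟶ h_Z has P, and
(3) for every surjective flat morphism of affine schemes Z' ⟶ Z over S and every f : X ⟶ h_Z, if the
base change h_{Z'} ×_{h_Z} X ⟶ h_{Z'} has P then f has P. Under these hypotheses, P is local on the
base for the fpqc topology. (The published statement asks (1) only for two morphisms; its proof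
applies (1) to a disjoint union indexed by a finite set that may be empty, and with (1) for two
morphisms only the property that holds for no morphism satisfies all three hypotheses without being
fpqc local on the base, as the empty covering of the empty algebraic space shows. This row asks (1)
for all finite families, the empty one included.) -/
theorem result {S : Scheme.{u}} (P : MorphismProperty (AlgSp.Sp S))
    (h1 : ∀ ⦃ι : Type u⦄ [Finite ι] (Xi Yi : ι → AlgSp.Sp S) (fi : ∀ i, Xi i ⟶ Yi i)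
      (cX : Cofan Xi) (cY : Cofan Yi) (hcX : IsColimit cX) (hcY : IsColimit cY) (m : cX.pt ⟶ cY.pt),
      (∀ i, AlgSp.IsAlgSpace (Xi i)) → (∀ i, AlgSp.IsAlgSpace (Yi i)) →
      AlgSp.IsAlgSpace cX.pt → AlgSp.IsAlgSpace cY.pt →
      (∀ i, cX.inj i ≫ m = fi i ≫ cY.inj i) → (∀ i, P (fi i)) → P m)
    (h2 : ∀ ⦃X Y : AlgSp.Sp S⦄, AlgSp.IsAlgSpace X → AlgSp.IsAlgSpace Y → ∀ (f : X ⟶ Y),
      P f ↔ ∀ (Z : Over S), IsAffine Z.left → ∀ (g : (AlgSp.yon S).obj Z ⟶ Y) (W : AlgSp.Sp S)
        (fst : W ⟶ X) (snd : W ⟶ (AlgSp.yon S).obj Z), AlgSp.IsAlgSpace W → IsPullback fst snd f g → P snd)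
    (h3 : ∀ ⦃Z Z' : Over S⦄ (c : Z' ⟶ Z), IsAffine Z.left → IsAffine Z'.left → Surjective c.left → Flat c.left →
      ∀ ⦃X X' : AlgSp.Sp S⦄ (f : X ⟶ (AlgSp.yon S).obj Z) (fst : X' ⟶ X) (f' : X' ⟶ (AlgSp.yon S).obj Z'),
        AlgSp.IsAlgSpace X → AlgSp.IsAlgSpace X' → IsPullback fst f' f ((AlgSp.yon S).map c) → P f' → P f) :
    AlgSp.IsLocalOnBase (AlgSp.IsFpqcCover (S := S)) P := by
  intro ι Y Yi g hY hYi hg X f hX Xi p q hXi sq
  refine ⟨fun hf i => (h2 (hXi i) (hYi i) (p i)).2 fun Z hZ k W fst snd hW sqW =>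
    (h2 hX hY f).1 hf Z hZ (k ≫ g i) W (fst ≫ q i) snd hW (sqW.paste_horiz (sq i)), fun hp => ?_⟩
  refine (h2 hX hY f).2 fun Z hZ k W fst snd hW sqW => ?_
  obtain ⟨m, T, c, hT, hfl, hcov, hl⟩ := hg.2 Z hZ k
  let V : ULift.{u} (Fin m) → Over S := fun j => T j.down
  let D : GrothLib.AlgSp.sigmaOver V ⟶ Z := Over.homMk (Sigma.desc fun j => (c j.down).left)
    (Sigma.hom_ext (f := fun j => (V j).left) _ _ fun j => by
      refine (Sigma.ι_desc_assoc (f := fun j => (V j).left) (fun j => (c j.down).left) j Z.hom).trans ?_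
      exact (Over.w (c j.down)).trans (Sigma.ι_desc (f := fun j => (V j).left) (fun j => (V j).hom) j).symm)
  have hD : ∀ j, GrothLib.AlgSp.sigmaι V j ≫ D = c j.down := fun j => Over.OverMorphism.ext (Sigma.ι_desc _ _)
  have : ∀ j, IsAffine (V j).left := fun j => hT j.down
  have : IsAffine (GrothLib.AlgSp.sigmaOver V).left := inferInstanceAs (IsAffine (∐ fun j => (V j).left))
  have hDs : Surjective D.left := ⟨fun z => by
    obtain ⟨j, w, rfl⟩ := hcov z
    exact ⟨(GrothLib.AlgSp.sigmaι V ⟨j⟩).left w, by rw [← Scheme.Hom.comp_apply, ← Over.comp_left, hD]⟩⟩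
  have hDf : Flat D.left := by
    change Flat (Sigma.desc fun j : ULift.{u} (Fin m) => (c j.down).left)
    rw [IsZariskiLocalAtSource.iff_of_openCover (P := @Flat) (sigmaOpenCover _)]
    intro j
    change Flat (Sigma.ι (fun j => (V j).left) j ≫ _)
    rw [Sigma.ι_desc]
    exact hfl j.down
  refine h3 D hZ inferInstance hDs hDf snd (pullback.fst snd ((AlgSp.yon S).map D)) (pullback.snd _ _) hW
    (GrothLib.AlgSp.isAlgSpace_pullback' (AlgSp.IsAlgSpace.yon_obj Z) hW (AlgSp.IsAlgSpace.yon_obj _) _ _)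
    (IsPullback.of_hasPullback _ _) ?_
  let cY : Cofan fun j => (AlgSp.yon S).obj (V j) :=
    Cofan.mk ((AlgSp.yon S).obj (GrothLib.AlgSp.sigmaOver V)) fun j => (AlgSp.yon S).map (GrothLib.AlgSp.sigmaι V j)
  have hcY : IsColimit cY := mkCofanColimit cY (fun s => (GrothLib.AlgSp.exists_hom_of_sigma V s.inj).choose)
    (fun s j => (GrothLib.AlgSp.exists_hom_of_sigma V s.inj).choose_spec.1 j)
    (fun s m hm => (GrothLib.AlgSp.exists_hom_of_sigma V s.inj).choose_spec.2 m hm)
  let X' := pullback snd ((AlgSp.yon S).map D)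
  have hX' := GrothLib.AlgSp.isAlgSpace_pullback' (AlgSp.IsAlgSpace.yon_obj Z) hW (AlgSp.IsAlgSpace.yon_obj (GrothLib.AlgSp.sigmaOver V))
    snd ((AlgSp.yon S).map D)
  let Xj : ULift.{u} (Fin m) → AlgSp.Sp S := fun j => pullback (pullback.snd snd ((AlgSp.yon S).map D)) (cY.inj j)
  have hXj : ∀ j, AlgSp.IsAlgSpace (Xj j) := fun j =>
    GrothLib.AlgSp.isAlgSpace_pullback' (AlgSp.IsAlgSpace.yon_obj _) hX' (AlgSp.IsAlgSpace.yon_obj _) _ _
  let cX : Cofan Xj := Cofan.mk X' fun j => pullback.fst _ _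
  let α : Discrete.functor Xj ⟶ Discrete.functor fun j => (AlgSp.yon S).obj (V j) :=
    Discrete.natTrans fun j => pullback.snd _ _
  obtain ⟨hcX⟩ := ((FinitaryExtensive.isVanKampen_finiteCoproducts hcY) cX α
    (pullback.snd snd ((AlgSp.yon S).map D)) (NatTrans.ext (funext fun j => pullback.condition.symm))
    (NatTrans.equifibered_of_discrete α)).2 fun j => IsPullback.of_hasPullback _ _
  refine h1 Xj (fun j => (AlgSp.yon S).obj (V j)) (fun j => pullback.snd _ _) cX cY hcX hcY _
    hXj (fun j => AlgSp.IsAlgSpace.yon_obj _) hX' (AlgSp.IsAlgSpace.yon_obj _)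
    (fun j => pullback.condition) fun j => ?_
  obtain ⟨i, l, hl⟩ := hl j.down
  have sqj := ((IsPullback.of_hasPullback (pullback.snd snd ((AlgSp.yon S).map D)) (cY.inj j)).paste_horiz
    (IsPullback.of_hasPullback snd ((AlgSp.yon S).map D))).paste_horiz sqW
  have e : (cY.inj j ≫ (AlgSp.yon S).map D) ≫ k = l ≫ g i := by
    change ((AlgSp.yon S).map (GrothLib.AlgSp.sigmaι V j) ≫ (AlgSp.yon S).map D) ≫ k = _
    rw [← Functor.map_comp, hD]
    exact hl.symm
  rw [e] at sqj
  refine (h2 (hXi i) (hYi i) (p i)).1 (hp i) (V j) (hT j.down) l (Xj j)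
    ((sq i).lift _ _ (sqj.w.trans (Category.assoc _ _ _).symm)) _ (hXj j) ?_
  refine IsPullback.of_right ?_ ((sq i).lift_snd _ _ _) (sq i)
  rw [(sq i).lift_fst]
  exact sqj

end Groth.Agent.S10571
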