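import Groth.Statements.S10573
import Groth.Agent.Lib.AlgSp.Fpqc
import Groth.Agent.Lib.AlgSp.PointsUniv
-- import your own Groth.Agent.* helpers here

set_option autoImplicit false
universe u
open CategoryTheory CategoryTheory.Limits AlgebraicGeometry
open AlgSp

namespace Groth.Agent.S10573

/-- Let {g_i : T_i ⟶ T} be a family of algebraic spaces over S forming an fpqc covering, and let W_i ⊂
|T_i| be open subsets (open subspaces) such that for all i, j the two projections T_i ×_T T_j ⟶ T_i,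
T_j pull W_i and W_j back to the same subset of |T_i ×_T T_j|. Then there is a unique open subset W
⊂ |T| with g_i⁻¹(W) = W_i for every i. -/
theorem result {S : Scheme.{u}} {ι : Type u} {T : AlgSp.Space S}
    (Ti : ι → AlgSp.Space S) (g : ∀ i, Ti i ⟶ T)
    (hg : AlgSp.IsFpqcCover (fun i => (Ti i).obj) (fun i => (g i).hom))
    (Wi : ∀ i, Set (AlgSp.Points (Ti i).obj)) (hW : ∀ i, IsOpen (Wi i))
    (hc : ∀ i j, AlgSp.Points.map (pullback.fst (g i).hom (g j).hom) ⁻¹' Wi i =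
      AlgSp.Points.map (pullback.snd (g i).hom (g j).hom) ⁻¹' Wi j) :
    ∃! W : TopologicalSpace.Opens (AlgSp.Points T.obj), ∀ i, AlgSp.Points.map (g i).hom ⁻¹' (W : Set (AlgSp.Points T.obj)) = Wi i := by
  obtain ⟨κ, C, r, hC, hre, hs, hq⟩ := GrothLib.AlgSp.exists_affine_charts T.property
  have hsurj : ∀ x, ∃ i y, AlgSp.Points.map (g i).hom y = x := by
    intro x
    obtain ⟨a, w, rfl⟩ := hs x
    obtain ⟨m, V, c, hV, hfl, hcov, hl⟩ := hg.2 (C a) (hC a) (r a)
    obtain ⟨j, v, rfl⟩ := hcov w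
    obtain ⟨i, l, hl⟩ := hl j
    refine ⟨i, AlgSp.Points.ofPt l v, ?_⟩
    rw [AlgSp.Points.map_ofPt, hl, GrothLib.AlgSp.ofPt_map_comp]
  let A : Set (AlgSp.Points T.obj) := ⋃ i, AlgSp.Points.map (g i).hom '' Wi i
  have hA : ∀ i, AlgSp.Points.map (g i).hom ⁻¹' A = Wi i := fun i => by
    refine Set.Subset.antisymm (fun x hx => ?_) fun x hx => Set.mem_iUnion.2 ⟨i, x, hx, rfl⟩
    obtain ⟨j, y, hy, hxy⟩ := Set.mem_iUnion.1 hx
    obtain ⟨z, rfl, hz⟩ := GrothLib.AlgSp.exists_of_isPullback (IsPullback.of_hasPullback (g i).hom (g j).hom) hxy.symm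
    exact (hc i j).symm.subset (show AlgSp.Points.map (pullback.snd (g i).hom (g j).hom) z ∈ Wi j from hz ▸ hy)
  have hAo : IsOpen A := by
    refine hq A fun a => ?_
    obtain ⟨m, V, c, hV, hfl, hcov, hl⟩ := hg.2 (C a) (hC a) (r a)
    have := hC a
    refine GrothLib.AlgSp.isOpen_of_family V c hV hfl hcov fun j => ?_
    obtain ⟨i, l, hl⟩ := hl j
    have e : (c j).left ⁻¹' (AlgSp.Points.ofPt (r a) ⁻¹' A) = AlgSp.Points.ofPt l ⁻¹' Wi i := by
      ext v
      rw [Set.mem_preimage, Set.mem_preimage, Set.mem_preimage, ← GrothLib.AlgSp.ofPt_map_comp, ← hl,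
        ← AlgSp.Points.map_ofPt, ← hA i, Set.mem_preimage]
    rw [e]
    exact (hW i).preimage (AlgSp.Points.continuous_ofPt l)
  refine ⟨⟨A, hAo⟩, hA, fun W' hW' => TopologicalSpace.Opens.ext (Set.ext fun x => ?_)⟩
  obtain ⟨i, y, rfl⟩ := hsurj x
  exact (Set.ext_iff.1 ((hW' i).trans (hA i).symm) y :)

end Groth.Agent.S10573
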