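import Groth.Statements.S10577
import Groth.Agent.Lib.AlgSp.QCohPushFin
-- import your own Groth.Agent.* helpers here

set_option autoImplicit false
universe u
open CategoryTheory CategoryTheory.Limits AlgebraicGeometry
open AlgSp GrothLib.AlgSp GrothLib.AlgSp.QCohEt
set_option backward.isDefEq.respectTransparency false

namespace Groth.Agent.S10577

/-- Let f : X ⟶ Y be a finite morphism of algebraic spaces over S and F a quasi-coherent O_X-module (on
the small etale site). Then F is of finite type exactly when its direct image f_*F is of finite type
as an O_Y-module. (A finite morphism is representable; the row carries representability of f as an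
explicit hypothesis because the direct image functor is defined for representable morphisms.) -/
theorem result {S : Scheme.{u}} {X Y : AlgSp.Space S} (f : X ⟶ Y)
    (hrep : AlgSp.Representable f.hom) (hfin : AlgSp.IsFiniteMor f.hom)
    (F : AlgSp.ModEt X.obj) [F.IsQuasicoherent] :
    F.IsFiniteType ↔ ((AlgSp.pushModEt hrep).obj F).IsFiniteType := by
  have haff := isAffineMor_of_isFiniteMor hfin
  constructor
  · intro hF
    exact isFiniteType_of_good _ (fun E hE => good_push hrep haff F hE) fun E hE =>
      haveI := hE
      (finite_push hrep hfin F E hE).2 (finite_sec_of_isFiniteType F (isAffine_bcObj hrep haff E))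
  · intro hF
    haveI := isQuasicoherent_push hrep haff F
    refine isFiniteType_of_good F (fun E hE => good_of_isQuasicoherent F hE) fun E hE => ?_
    exact of_bc hrep X.property Y.property F
      (fun E => Module.Finite (Ob (OEt X.obj) E) (Sec (O := OEt X.obj) F E)) haff
      (fun {E W} g hE hW h => finite_base_change (affEt X.obj) g hW (good_of_isQuasicoherent F hE))
      (fun {E} hE T hT h => finite_of_cover (affEt X.obj) hE (good_of_isQuasicoherent F hE) hT h)
      (fun E hE => (finite_push hrep hfin F E hE).1 (finite_sec_of_isFiniteType _ hE)) hE

end Groth.Agent.S10577
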