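import Groth.Statements.S10578
import Groth.Agent.Lib.AlgSp.QCohPushFin
-- import your own Groth.Agent.* helpers here

set_option autoImplicit false
universe u
open CategoryTheory CategoryTheory.Limits AlgebraicGeometry
open AlgSp GrothLib.AlgSp GrothLib.AlgSp.QCohEt
set_option backward.isDefEq.respectTransparency false

namespace Groth.Agent.S10578

/-- Let f : X ⟶ Y be a morphism of algebraic spaces over S which is finite and of finite presentation,
and F a quasi-coherent O_X-module (on the small etale site). Then F is of finite presentation
exactly when its direct image f_*F is of finite presentation as an O_Y-module. (Representability of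
f, implied by finiteness, is carried as an explicit hypothesis because the direct image functor is
defined for representable morphisms.) -/
theorem result {S : Scheme.{u}} {X Y : AlgSp.Space S} (f : X ⟶ Y)
    (hrep : AlgSp.Representable f.hom) (hfin : AlgSp.IsFiniteMor f.hom) (hfp : AlgSp.IsFinitePresentationMor f.hom)
    (F : AlgSp.ModEt X.obj) [F.IsQuasicoherent] :
    F.IsFinitePresentation ↔ ((AlgSp.pushModEt hrep).obj F).IsFinitePresentation := by
  have haff := isAffineMor_of_isFiniteMor hfin
  constructor
  · intro hF
    exact isFinitePresentation_of_good _ (fun E hE => good_push hrep haff F hE) fun E hE =>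
      haveI := hE
      (fp_push hrep Y.property hfin hfp.1 F E hE).2 (fp_sec_of_isFinitePresentation F (isAffine_bcObj hrep haff E))
  · intro hF
    refine isFinitePresentation_of_good F (fun E hE => good_of_isQuasicoherent F hE) fun E hE => ?_
    exact of_bc hrep X.property Y.property F
      (fun E => Module.FinitePresentation (Ob (OEt X.obj) E) (Sec (O := OEt X.obj) F E)) haff
      (fun {E W} g hE hW h => fp_base_change (affEt X.obj) g hW (good_of_isQuasicoherent F hE))
      (fun {E} hE T hT h => fp_of_cover (affEt X.obj) hE (good_of_isQuasicoherent F hE) hT h)
      (fun E hE => (fp_push hrep Y.property hfin hfp.1 F E hE).1 (fp_sec_of_isFinitePresentation _ hE)) hE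

end Groth.Agent.S10578
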