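import Groth.Statements.S10579
import Groth.Agent.Lib.AlgSp.LqfPoint
import Groth.Agent.Lib.AlgSp.FlatPoint
import Groth.Agent.Lib.AlgSp.ElemBranches
import Groth.Agent.S9236
-- import your own Groth.Agent.* helpers here

set_option autoImplicit false
universe u
open CategoryTheory CategoryTheory.Limits AlgebraicGeometry
open AlgSp GrothLib.AlgSp
set_option backward.isDefEq.respectTransparency false

namespace Groth.Agent.S10579

/-- Let f : X ⟶ Y be a morphism of algebraic spaces over S and x ∈ |X|. If X is geometrically unibranch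
at x and f is flat at x, then Y is geometrically unibranch at the image point f(x). Here an
algebraic space is geometrically unibranch at a point when for every etale chart from a scheme U and
every point u of U over it the local ring of U at u is geometrically unibranch. -/
theorem result {S : Scheme.{u}} {X Y : AlgSp.Space S} (f : X ⟶ Y) (x : AlgSp.Points X.obj)
    (hf : AlgSp.IsFlatAtMor f.hom x)
    (hX : ∀ (U : Over S) (a : (AlgSp.yon S).obj U ⟶ X.obj) (v : ↥U.left), AlgSp.RepWith @Etale a →
      AlgSp.Points.ofPt a v = x → CAlg2.IsGeomUnibranch ↥(U.left.presheaf.stalk v))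
    (V : Over S) (b : (AlgSp.yon S).obj V ⟶ Y.obj) (w : ↥V.left) (hb : AlgSp.RepWith @Etale b)
    (hw : AlgSp.Points.ofPt b w = AlgSp.Points.map f.hom x) :
    CAlg2.IsGeomUnibranch ↥(V.left.presheaf.stalk w) := by
  obtain ⟨U, V₀, a, b₀, h, u, ha, hb₀, c, hu⟩ := exists_chart_at X.property Y.property f.hom x
  have hflat : (h.left.stalkMap u).hom.Flat := hf a b₀ h u ha hb₀ c hu
  have e : Brnch.numGeomBranchesAt V.left w = Brnch.numGeomBranchesAt V₀.left (h.left u) := by
    refine numGeomBranchesAt_eq_of_ofPt_eq Y b hb w b₀ hb₀ _ ?_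
    rw [hw, ← hu, Points.map_ofPt, c, ofPt_map_comp]
  have hU : Brnch.numGeomBranchesAt U.left u = 1 := (Groth.Agent.S9236.result _).2 (hX U a u ha hu)
  rw [← Groth.Agent.S9236.result]
  change Brnch.numGeomBranchesAt V.left w = 1
  rw [e]
  refine le_antisymm ?_ ((one_le_encard_minimalPrimes _).trans (encard_minimalPrimes_le_numGeomBranchesAt (h.left u)))
  rw [GrothLib.BrnchNhd.numGeomBranchesAt_eq]
  refine iSup_le fun W => iSup_le fun g => iSup_le fun w' => iSup_le fun hw' => ?_
  rw [encard_components_eq_minimalPrimes]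
  obtain ⟨hg, hgw⟩ := hw'
  obtain ⟨p, hp₁, hp₂⟩ := Scheme.Pullback.exists_preimage_pullback u w' hgw.symm
  have sq := pullback.condition (f := h.left) (g := g)
  have hfl : ((pullback.snd h.left g ≫ g).stalkMap p).hom.Flat :=
    (flat_stalk_congr sq).1 (flat_stalk_comp (pullback.fst h.left g) h.left p (Flat.stalkMap _ p) (hp₁.symm ▸ hflat))
  have hs := flat_stalk_left (pullback.snd h.left g) g p hfl
  letI := ((pullback.snd h.left g).stalkMap p).hom.toAlgebra
  haveI : Module.Flat ↥(W.presheaf.stalk (pullback.snd h.left g p)) ↥((pullback h.left g).presheaf.stalk p) := hs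
  haveI : IsLocalHom (algebraMap ↥(W.presheaf.stalk (pullback.snd h.left g p))
      ↥((pullback h.left g).presheaf.stalk p)) := (pullback.snd h.left g).toLRSHom.prop p
  rw [← hp₂, ← hU, ← hp₁, GrothLib.BrnchNhd.numGeomBranchesAt_eq]
  refine (ElemBranches.encard_le_of_flat (A := ↥(W.presheaf.stalk (pullback.snd h.left g p)))
    (B := ↥((pullback h.left g).presheaf.stalk p))).trans ?_
  rw [← encard_components_eq_minimalPrimes]
  exact le_iSup_of_le _ (le_iSup_of_le (pullback.fst h.left g) (le_iSup_of_le p (le_iSup_of_le ⟨inferInstance, rfl⟩ le_rfl)))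

end Groth.Agent.S10579
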