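import Groth.Statements.S1058
import Groth.Agent.Lib.TorBC25.BCFinal

set_option autoImplicit false
universe u
open CategoryTheory CategoryTheory.Limits AlgebraicGeometry Opposite
attribute [local instance] HasDerivedCategory.standard
open Perf
open GrothLib.TorBC25

namespace Groth.Agent.S1058

/-- Flat base change for derived direct images: let f : X ⟶ S be quasi-compact and quasi-separated, g :
S' ⟶ S flat, and X' = X ×_S S' with projections g' : X' ⟶ X and f' : X' ⟶ S'. Assume the derived
functors Rf_*, Rg_*, Lg^*, Rf'_*, R(g')_* and L(g')^* exist, with adjunctions Lg^* ⊣ Rg_* and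
L(g')^* ⊣ R(g')_* given as data. Then there is an identification e of the composite derived direct
image R(g')_* followed by Rf_* with Rf'_* followed by Rg_* such that, for every object E of D(O_X)
with quasi-coherent cohomology sheaves, the base-change morphism Lg^* Rf_* E ⟶ Rf'_* L(g')^* E built
from the two adjunctions and e is an isomorphism. The published statement assumes only that X and S'
are Tor independent over S; it is stated here for g flat, in which case Tor independence holds. -/
theorem result {X S S' : Scheme.{u}} (f : X ⟶ S) [QuasiCompact f] [QuasiSeparated f] (g : S' ⟶ S) [Flat g]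
    [DCoh.HasRpush f] [DCoh.HasRpush g] [DCoh.HasLpull g] [DCoh.HasRpush (pullback.snd f g)]
    [DCoh.HasRpush (pullback.fst f g)] [DCoh.HasLpull (pullback.fst f g)]
    (adjg : DCoh.Lpull g ⊣ DCoh.Rpush g) (adjg' : DCoh.Lpull (pullback.fst f g) ⊣ DCoh.Rpush (pullback.fst f g)) :
    ∃ e : DCoh.Rpush (pullback.fst f g) ⋙ DCoh.Rpush f ≅ DCoh.Rpush (pullback.snd f g) ⋙ DCoh.Rpush g,
      ∀ E : DCoh.D X, DCoh.IsQCohD E → IsIso (DCoh.baseChangeApp adjg adjg' e E) :=
  exists_baseChangeApp (IsPullback.of_hasPullback f g) adjg adjg' (BC_of_torIndep _ fun U hU U' hU' e V _ hV i hi =>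
    @subsingleton_tor_of_flat _ _ _ _ _ (g.appLE U U' e).hom.toModule _ (f.appLE U V hV).hom.toModule
      (g.flat_appLE hU hU' e) i hi)

end Groth.Agent.S1058
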