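import Groth.Agent.Lib.AlgSp.SourceLocalScheme
import Groth.Statements.S10580
-- import your own Groth.Agent.* helpers here

set_option autoImplicit false
universe u
open CategoryTheory CategoryTheory.Limits AlgebraicGeometry
open AlgSp

namespace Groth.Agent.S10580

/-- Let P be a property of morphisms of schemes and P_spaces the induced property of morphisms of
algebraic spaces over S (P on every etale chart diagram). For τ one of fpqc, fppf, smooth, etale: if
P is τ local on the source for morphisms of schemes, then P_spaces is τ local on the source for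
morphisms of algebraic spaces. (The published statement assumes P etale local on the
source-and-target, which is what makes the chart-wise property the right notion; the implication
itself holds for every P and is stated that way. The syntomic case is not included. τ-locality on
the source for schemes is taken in the form that includes invariance of P under isomorphisms, which
the published definition requires implicitly.) -/
theorem result (S : Scheme.{u}) (P : MorphismProperty Scheme.{u}) :
    (P.IsLocalAtSource Scheme.fpqcPrecoverage → AlgSp.IsLocalOnSource (AlgSp.IsFpqcCover (S := S)) (AlgSp.LocP P)) ∧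
    (P.IsLocalAtSource Scheme.fppfPrecoverage → AlgSp.IsLocalOnSource (AlgSp.IsFppfCover (S := S)) (AlgSp.LocP P)) ∧
    (P.IsLocalAtSource (Scheme.precoverage @Smooth) → AlgSp.IsLocalOnSource (AlgSp.IsSmCover (S := S)) (AlgSp.LocP P)) ∧
    (P.IsLocalAtSource Scheme.etalePrecoverage → AlgSp.IsLocalOnSource (AlgSp.IsEtCover (S := S)) (AlgSp.LocP P)) := by
  refine ⟨fun h => ?_, fun h => ?_, fun h => ?_, fun h => ?_⟩
  · exact GrothLib.AlgSp.isLocalOnSource_locP_fpqc
  · have h' : P.IsLocalAtSource (Scheme.precoverage (@Flat ⊓ @LocallyOfFinitePresentation)) := h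
    have : (@Flat ⊓ @LocallyOfFinitePresentation : MorphismProperty Scheme.{u}).ContainsIdentities :=
      ⟨fun X => ⟨inferInstanceAs (Flat (𝟙 X)), inferInstanceAs (LocallyOfFinitePresentation (𝟙 X))⟩⟩
    exact GrothLib.AlgSp.isLocalOnSource_locP_precoverage (Q := @Flat ⊓ @LocallyOfFinitePresentation)
      (GrothLib.AlgSp.EtLocal.inf .flat .lfp)
      (fun _ _ c (_ : Etale c) => ⟨inferInstance, inferInstance⟩)
      (fun _ _ Xi g _ _ h => GrothLib.AlgSp.fppfCover_props h)
  · have : MorphismProperty.ContainsIdentities (@Smooth : MorphismProperty Scheme.{u}) :=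
      ⟨fun X => (inferInstance : Smooth (𝟙 X))⟩
    exact GrothLib.AlgSp.isLocalOnSource_locP_precoverage (Q := @Smooth) .smooth
      (fun _ _ c (_ : Etale c) => inferInstance) (fun _ _ Xi g _ _ h => h)
  · have h' : P.IsLocalAtSource (Scheme.precoverage @Etale) := h
    exact GrothLib.AlgSp.isLocalOnSource_locP_precoverage (Q := @Etale) .etale (fun _ _ c hc => hc)
      (fun _ _ Xi g hX _ h => ⟨fun i => GrothLib.AlgSp.locP_of_isEtaleMor hX (h.1 i), h.2⟩)

end Groth.Agent.S10580
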