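import Groth.Statements.S10581
import Groth.Agent.Lib.AlgSp.FlatMonoSpace
import Groth.Agent.Lib.AlgSp.Space
-- import your own Groth.Agent.* helpers here

set_option autoImplicit false
universe u
open CategoryTheory CategoryTheory.Limits AlgebraicGeometry
open AlgSp

namespace Groth.Agent.S10581

/-- If a morphism of algebraic spaces is both flat and a monomorphism, then it is representable by
schemes. Flatness is the etale-local condition on charts; the monomorphism condition is taken in
fppf sheaves. -/
theorem result {S : Scheme.{u}} {X Y : AlgSp.Space S} (f : X ⟶ Y)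
    (hflat : AlgSp.LocP @Flat f.hom) [Mono f.hom] : AlgSp.Representable f.hom := by
  intro T g
  let P := pullback f.hom g
  have sq : IsPullback (pullback.fst f.hom g) (pullback.snd f.hom g) f.hom g := IsPullback.of_hasPullback _ _
  have hT := AlgSp.IsAlgSpace.yon_obj T
  have hP : AlgSp.IsAlgSpace P := GrothLib.AlgSp.isAlgSpace_pullback Y.property.diag X.property hT sq
  have hPflat : AlgSp.LocP @Flat (pullback.snd f.hom g) :=
    GrothLib.AlgSp.EtLocal.locP_of_isPullback .flat X.property Y.property hT sq hflat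
  have key : ∀ i : T.left.affineCover.I₀, ∃ (M : Over S) (m : (AlgSp.yon S).obj M ⟶ P),
      AlgSp.RepWith @IsOpenImmersion m ∧ ∀ (z : AlgSp.Points P) (v : ↥(T.left.affineCover.X i)),
        AlgSp.Points.map (pullback.snd f.hom g) z = AlgSp.Points.ofPt ((AlgSp.yon S).map (Over.homMk
          (U := Over.mk (T.left.affineCover.f i ≫ T.hom)) (V := T) (T.left.affineCover.f i) rfl)) v →
        z ∈ Set.range (AlgSp.Points.map m) := by
    intro i
    let Ti : Over S := Over.mk (T.left.affineCover.f i ≫ T.hom)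
    haveI : IsAffine Ti.left := inferInstanceAs (IsAffine (T.left.affineCover.X i))
    let o : Ti ⟶ T := Over.homMk (T.left.affineCover.f i) rfl
    have ho : AlgSp.RepWith @IsOpenImmersion ((AlgSp.yon S).map o) :=
      (AlgSp.repWith_yon_map_iff _ o).2 (inferInstanceAs (IsOpenImmersion (T.left.affineCover.f i)))
    have sqi : IsPullback (pullback.fst (pullback.snd f.hom g) ((AlgSp.yon S).map o))
        (pullback.snd (pullback.snd f.hom g) ((AlgSp.yon S).map o)) (pullback.snd f.hom g) ((AlgSp.yon S).map o) :=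
      IsPullback.of_hasPullback _ _
    haveI : Mono (pullback.snd f.hom g) := inferInstance
    haveI : Mono (pullback.snd (pullback.snd f.hom g) ((AlgSp.yon S).map o)) := inferInstance
    obtain ⟨M, ⟨e⟩⟩ := GrothLib.AlgSp.exists_iso_yon_of_flat_mono
      (GrothLib.AlgSp.isAlgSpace_pullback hT.diag hP (AlgSp.IsAlgSpace.yon_obj Ti) sqi)
      (pullback.snd (pullback.snd f.hom g) ((AlgSp.yon S).map o))
      (GrothLib.AlgSp.EtLocal.locP_of_isPullback .flat hP hT (AlgSp.IsAlgSpace.yon_obj Ti) sqi hPflat)
    refine ⟨M, e.hom ≫ pullback.fst _ _, GrothLib.AlgSp.repWith_comp (GrothLib.AlgSp.repWith_iso _)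
      (GrothLib.AlgSp.repWith_of_isPullback sqi.flip ho), fun z v hz => ?_⟩
    rw [AlgSp.Points.ofPt_eq_map_ofScheme] at hz
    obtain ⟨q, hq, -⟩ := GrothLib.AlgSp.exists_of_isPullback sqi hz
    exact ⟨AlgSp.Points.map e.inv q, by rw [← AlgSp.Points.map_comp, e.inv_hom_id_assoc, hq]⟩
  choose M m hm hr using key
  obtain ⟨M₀, e, -, -⟩ := GrothLib.AlgSp.exists_iso_yon_of_openCover M m hm fun z => by
    let y := AlgSp.Points.toScheme T (AlgSp.Points.map (pullback.snd f.hom g) z)
    obtain ⟨i, v, hv⟩ := T.left.affineCover.exists_eq y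
    refine ⟨i, hr i z v ?_⟩
    have e := AlgSp.Points.toScheme_ofPt (T := Over.mk (T.left.affineCover.f i ≫ T.hom)) (T' := T)
      (Over.homMk (T.left.affineCover.f i) rfl) v
    exact ((AlgSp.Points.ofScheme_toScheme T (AlgSp.Points.map (pullback.snd f.hom g) z)).symm.trans
      (congrArg (AlgSp.Points.ofScheme T) (hv.symm.trans e.symm))).trans (AlgSp.Points.ofScheme_toScheme T _)
  refine ⟨M₀, (AlgSp.yon S).preimage (e.hom ≫ pullback.snd f.hom g), e.hom ≫ pullback.fst f.hom g, ?_⟩
  refine sq.of_iso e.symm (Iso.refl _) (Iso.refl _) (Iso.refl _) ?_ ?_ ?_ ?_ <;>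
    simp

end Groth.Agent.S10581
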