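import Groth.Agent.Lib.AlgSp.ThickTop
import Groth.Agent.Lib.AlgSp.OpenSub
import Groth.Statements.S10583
-- import your own Groth.Agent.* helpers here

set_option autoImplicit false
universe u
open CategoryTheory CategoryTheory.Limits AlgebraicGeometry
open AlgSp

namespace Groth.Agent.S10583

/-- Let i : X ⟶ X' be a thickening of algebraic spaces (representable, every base change to a scheme a
surjective closed immersion) and let u : U ⟶ X be an open immersion. Then there is an open immersion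
u' : U' ⟶ X' with U = X ×_{X'} U' (a pullback square), and any two open subspaces of X' with this
property are isomorphic over X'. -/
theorem result {S : Scheme.{u}} {X X' U : AlgSp.Space S} (i : X ⟶ X')
    (hi : AlgSp.IsThickMor i.hom)
    (u : U ⟶ X) (hu : AlgSp.RepWith @IsOpenImmersion u.hom) :
    (∃ (U' : AlgSp.Space S) (u' : U' ⟶ X') (k : U ⟶ U'),
      AlgSp.RepWith @IsOpenImmersion u'.hom ∧ IsPullback u.hom k.hom i.hom u'.hom) ∧
    (∀ (U₁ U₂ : AlgSp.Space S) (u₁ : U₁ ⟶ X') (u₂ : U₂ ⟶ X') (k₁ : U ⟶ U₁) (k₂ : U ⟶ U₂),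
      AlgSp.RepWith @IsOpenImmersion u₁.hom → IsPullback u.hom k₁.hom i.hom u₁.hom →
      AlgSp.RepWith @IsOpenImmersion u₂.hom → IsPullback u.hom k₂.hom i.hom u₂.hom →
      ∃ e : U₁ ≅ U₂, e.hom ≫ u₂ = u₁) := by
  have hh := GrothLib.AlgSp.homeo_of_thick hi X'.property
  let R := Set.range (AlgSp.Points.map u.hom)
  let A := AlgSp.Points.map i.hom '' R
  have hA : IsOpen A := hh.isOpenMap _ (GrothLib.AlgSp.isOpen_range_openImmersion hu)
  have key : ∀ {U₁ : AlgSp.Sp S} (u₁ : U₁ ⟶ X'.obj) (P : AlgSp.Sp S) (p : P ⟶ X.obj) (q : P ⟶ U₁),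
      IsPullback p q i.hom u₁ → Set.range (AlgSp.Points.map p) =
        AlgSp.Points.map i.hom ⁻¹' Set.range (AlgSp.Points.map u₁) := by
    intro U₁ u₁ P p q sq
    ext x
    constructor
    · rintro ⟨z, rfl⟩
      exact ⟨AlgSp.Points.map q z, by rw [← AlgSp.Points.map_comp, ← AlgSp.Points.map_comp, sq.w]⟩
    · rintro ⟨y, hy⟩
      obtain ⟨z, hz, -⟩ := GrothLib.AlgSp.exists_of_isPullback sq (x := x) (y := y) hy.symm
      exact ⟨z, hz⟩
  constructor
  · have sq := IsPullback.of_hasPullback i.hom (GrothLib.AlgSp.openSubι X'.obj A)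
    have ho : AlgSp.RepWith @IsOpenImmersion (pullback.fst i.hom (GrothLib.AlgSp.openSubι X'.obj A)) :=
      GrothLib.AlgSp.repWith_of_isPullback sq.flip (GrothLib.AlgSp.repWith_openSubι hA)
    obtain ⟨e, he⟩ := GrothLib.AlgSp.exists_iso_of_range_eq hu ho (by
      rw [key _ _ _ _ sq, GrothLib.AlgSp.range_openSubι, Set.preimage_image_eq _ hh.bijective.1])
    refine ⟨⟨_, GrothLib.AlgSp.isAlgSpace_openSub X'.property hA⟩, ObjectProperty.homMk (GrothLib.AlgSp.openSubι X'.obj A),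
      ObjectProperty.homMk (e.hom ≫ pullback.snd _ _), GrothLib.AlgSp.repWith_openSubι hA, ?_⟩
    exact sq.of_iso e.symm (Iso.refl _) (Iso.refl _) (Iso.refl _) (by simp [← he]) (by simp) (by simp) (by simp)
  · intro U₁ U₂ u₁ u₂ k₁ k₂ h₁ s₁ h₂ s₂
    obtain ⟨e, he⟩ := GrothLib.AlgSp.exists_iso_of_range_eq h₁ h₂ (by
      rw [← Set.image_preimage_eq (Set.range (AlgSp.Points.map u₁.hom)) hh.bijective.2,
        ← key _ _ _ _ s₁, key _ _ _ _ s₂, Set.image_preimage_eq _ hh.bijective.2])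
    exact ⟨ObjectProperty.isoMk _ e, ObjectProperty.hom_ext _ he⟩

end Groth.Agent.S10583
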