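import Groth.Statements.S10586
import Groth.Agent.Lib.AlgSp.ThickScheme
import Groth.Agent.Lib.AlgSp.UHEtaleSpace
-- import your own Groth.Agent.* helpers here

set_option autoImplicit false
universe u
open CategoryTheory CategoryTheory.Limits AlgebraicGeometry
open AlgSp GrothLib.AlgSp
set_option backward.isDefEq.respectTransparency false

namespace Groth.Agent.S10586

/-- Let i : X ⟶ X' be a thickening of algebraic spaces over S (representable, every base change to a
scheme a surjective closed immersion). Then base change along i is an equivalence from the small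
etale site of X' (schemes etale over X') to the small etale site of X. -/
theorem result {S : Scheme.{u}} {X X' : AlgSp.Space S} (i : X ⟶ X')
    (hi : AlgSp.IsThickMor i.hom) :
    (AlgSp.EtOver.bc hi.1).IsEquivalence := by
  haveI := mono_of_thick hi
  have hX' := X'.property
  have hiUH : IsIntUH i.hom := by
    refine ⟨repWith_mono hi fun A B g hg => ?_, isUnivInjectiveMor_of_mono i.hom,
      (homeo_of_thick hi hX').bijective.2⟩
    haveI : IsClosedImmersion g := hg.1
    exact inferInstanceAs (IsIntegralHom g)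
  have het : ∀ E : EtOver X'.obj, IsEtaleMor E.obj.hom := fun E => isEtaleMor_of_repWith _ E.property
  have key : ∀ (E E' : EtOver X'.obj) (φ : EtOver.bcObj hi.1 E ⟶ EtOver.bcObj hi.1 E'),
      ∃! ψ : (yon S).obj E.obj.left ⟶ (yon S).obj E'.obj.left, ψ ≫ E'.obj.hom = E.obj.hom ∧
        (yon S).map (EtOver.bcπ hi.1 E) ≫ ψ = (yon S).map φ.hom.left ≫ (yon S).map (EtOver.bcπ hi.1 E') :=
    fun E E' φ => existsUnique_lift_hom hX' (IsAlgSpace.yon_obj _) (IsAlgSpace.yon_obj _) (IsAlgSpace.yon_obj _)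
      hiUH (het E') (EtOver.isPullback_bcObj hi.1 E) (EtOver.isPullback_bcObj hi.1 E') _ (EtOver.w φ)
  have hfaith : (EtOver.bc hi.1).Faithful := ⟨fun {E E'} g g' hg => by
    apply EtOver.hom_ext
    apply (yon S).map_injective
    refine (key E E' ((EtOver.bc hi.1).map g)).unique ⟨EtOver.w g, ?_⟩ ⟨EtOver.w g', ?_⟩
    · rw [← Functor.map_comp, ← Functor.map_comp]
      exact congrArg (yon S).map (EtOver.bcMap_snd hi.1 g).symm
    · rw [hg, ← Functor.map_comp, ← Functor.map_comp]
      exact congrArg (yon S).map (EtOver.bcMap_snd hi.1 g').symm⟩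
  have hfull : (EtOver.bc hi.1).Full := ⟨fun {E E'} φ => by
    obtain ⟨ψ, ⟨h₁, h₂⟩, -⟩ := key E E' φ
    obtain ⟨g, rfl⟩ := (yon S).map_surjective ψ
    refine ⟨EtOver.homMk g h₁, EtOver.hom_ext _ _ (hi.1.hom_ext ?_ ?_)⟩
    · exact (EtOver.map_bcMap_fst hi.1 _).trans (EtOver.w φ).symm
    · refine (EtOver.bcMap_snd hi.1 _).trans ((yon S).map_injective ?_)
      rw [Functor.map_comp, Functor.map_comp]
      exact h₂⟩
  have hsurj : (EtOver.bc hi.1).EssSurj := ⟨fun F => by
    obtain ⟨Q, q, c, hQ, hq, sq⟩ := exists_etale_space_lift X.property hX' (IsAlgSpace.yon_obj _) hiUH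
      (isEtaleMor_of_repWith _ F.property)
    obtain ⟨M, ⟨e⟩⟩ := exists_scheme_of_thick hQ (repWith_of_isPullback sq.flip.flip hi : IsThickMor c)
    have he : RepWith @Etale (e.hom ≫ q) := hq e.hom (repWith_iso e.hom)
    let E : EtOver X'.obj := EtOver.mk (e.hom ≫ q) he
    have sqM : IsPullback F.obj.hom (c ≫ e.inv) i.hom E.obj.hom :=
      sq.of_iso (Iso.refl _) (Iso.refl _) e.symm (Iso.refl _) (by simp) (by simp) (by simp) (by simp [E])
    obtain ⟨θ, hθ⟩ : ∃ θ : (yon S).obj ((EtOver.bc hi.1).obj E).obj.left ≅ (yon S).obj F.obj.left,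
        θ.hom ≫ F.obj.hom = ((EtOver.bc hi.1).obj E).obj.hom :=
      ⟨(EtOver.isPullback_bcObj hi.1 E).isoIsPullback _ _ sqM,
        IsPullback.isoIsPullback_hom_fst _ _ _ _⟩
    obtain ⟨a, ha⟩ := (yon S).map_surjective θ.hom
    obtain ⟨b, hb⟩ := (yon S).map_surjective θ.inv
    refine ⟨E, ⟨{
      hom := EtOver.homMk a (by rw [ha, hθ])
      inv := EtOver.homMk b (by rw [hb, Iso.inv_comp_eq, hθ])
      hom_inv_id := EtOver.hom_ext _ _ ((yon S).map_injective (by
        refine Eq.trans ?_ ((yon S).map_id _).symm; exact ((yon S).map_comp a b).trans (by rw [ha, hb, θ.hom_inv_id])))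
      inv_hom_id := EtOver.hom_ext _ _ ((yon S).map_injective (by
        refine Eq.trans ?_ ((yon S).map_id _).symm; exact ((yon S).map_comp b a).trans (by rw [ha, hb, θ.inv_hom_id]))) }⟩⟩⟩
  exact Functor.IsEquivalence.mk
end Groth.Agent.S10586
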