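import Groth.Statements.S10588
import Groth.Agent.Lib.AlgSp.ThickMor
-- import your own Groth.Agent.* helpers here

set_option autoImplicit false
universe u
open CategoryTheory CategoryTheory.Limits AlgebraicGeometry
open AlgSp

namespace Groth.Agent.S10588

/-- Consider a morphism (f, f') from the thickening X ⊂ X' to the thickening Y ⊂ Y' of algebraic spaces
over S, meaning: i : X ⟶ X' and j : Y ⟶ Y' are thickenings (representable, every base change to a
scheme a surjective closed immersion) and i ≫ f' = f ≫ j. Then f is affine exactly when f' is, and f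
is integral if and only if f' is integral. -/
theorem result {S : Scheme.{u}} {X X' Y Y' : AlgSp.Space S} (i : X ⟶ X') (j : Y ⟶ Y')
    (f : X ⟶ Y) (f' : X' ⟶ Y')
    (hi : AlgSp.IsThickMor i.hom)
    (hj : AlgSp.IsThickMor j.hom) (w : i ≫ f' = f ≫ j) :
    (AlgSp.IsAffineMor f.hom ↔ AlgSp.IsAffineMor f'.hom) ∧
    (AlgSp.IsIntegralMor f.hom ↔ AlgSp.IsIntegralMor f'.hom) := by
  have w' : i.hom ≫ f'.hom = f.hom ≫ j.hom := congrArg InducedCategory.Hom.hom w
  exact ⟨GrothLib.AlgSp.isAffineMor_thick_iff X'.property Y'.property hi hj w',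
    GrothLib.AlgSp.isIntegralMor_thick_iff X'.property Y'.property hi hj w'⟩
end Groth.Agent.S10588
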