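import Groth.Statements.S1059
import Groth.Agent.Lib.OX.FibreRank
import Groth.Agent.S0923

set_option autoImplicit false
universe u
open CategoryTheory CategoryTheory.Limits AlgebraicGeometry Opposite
attribute [local instance] HasDerivedCategory.standard
open Perf

namespace Groth.Agent.S1059

/-- Let E be a perfect object of D(O_X). Assuming the derived pullbacks to the points Spec κ(x) ⟶ X
exist, the function x ↦ χ_E(x) = Σᵢ (-1)ⁱ dim_{κ(x)} Hⁱ(E ⊗^L κ(x)) is locally constant on X. -/
theorem result (X : Scheme.{u}) [∀ x : X, DCoh.HasLpull (X.fromSpecResidueField x)]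
    (E : DCoh.D X) (hE : DCoh.IsPerfect E) :
    IsLocallyConstant (fun x : X => PerfD.eulerChar E x) := by
  exact GrothLib.OX.isLocallyConstant_eulerChar ((Groth.Agent.S0923.result E).1 hE)

end Groth.Agent.S1059
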