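import Groth.Agent.Lib.AlgSp.ThickChart
import Groth.Agent.S1309
import Groth.Agent.S1310
import Groth.Agent.S1312
import Groth.Statements.S10591
-- import your own Groth.Agent.* helpers here

set_option autoImplicit false
universe u
open CategoryTheory CategoryTheory.Limits AlgebraicGeometry
open AlgSp

namespace Groth.Agent.S10591

/-- Consider a morphism (f, f') from the thickening X ⊂ X' to the thickening Y ⊂ Y' of algebraic spaces
over S, meaning: i : X ⟶ X' and j : Y ⟶ Y' are thickenings (representable, every base change to a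
scheme a surjective closed immersion) and i ≫ f' = f ≫ j. Assume moreover that the square is
cartesian (X = Y ×_{Y'} X') and that i is a finite order thickening (for one n, on every affine
etale scheme chart of X' the (n+1)-st power of the ideal of the base change of X vanishes). Then f
is locally of finite type of relative dimension d, resp. locally of finite type, resp. locally
quasi-finite, resp. unramified, if and only if f' is (relative dimension d at a point: some chart
diagram through the point has fibre of local dimension d there) (all in the etale-local sense,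
locally quasi-finite and unramified including locally of finite type). -/
theorem result {S : Scheme.{u}} {X X' Y Y' : AlgSp.Space S} (i : X ⟶ X') (j : Y ⟶ Y')
    (f : X ⟶ Y) (f' : X' ⟶ Y')
    (hi : AlgSp.IsThickMor i.hom)
    (hj : AlgSp.IsThickMor j.hom) (w : i ≫ f' = f ≫ j)
    (hcart : IsPullback i.hom f.hom f'.hom j.hom)
    (hfo : AlgSp.IsFinThickMor i.hom) (d : ℕ) :
    ((AlgSp.LocP @LocallyOfFiniteType f.hom ∧
        ∀ x, AlgSp.HasAtMor (fun _ _ h u => FlatMor.fibreDimAt h u = (d : WithBot ℕ∞)) f.hom x) ↔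
      (AlgSp.LocP @LocallyOfFiniteType f'.hom ∧
        ∀ x', AlgSp.HasAtMor (fun _ _ h u => FlatMor.fibreDimAt h u = (d : WithBot ℕ∞)) f'.hom x')) ∧
    (AlgSp.LocP @LocallyOfFiniteType f.hom ↔ AlgSp.LocP @LocallyOfFiniteType f'.hom) ∧
    (AlgSp.LocP (@LocallyQuasiFinite ⊓ @LocallyOfFiniteType) f.hom ↔
      AlgSp.LocP (@LocallyQuasiFinite ⊓ @LocallyOfFiniteType) f'.hom) ∧
    (AlgSp.LocP (@LocallyOfFiniteType ⊓ @FormallyUnramified) f.hom ↔
      AlgSp.LocP (@LocallyOfFiniteType ⊓ @FormallyUnramified) f'.hom) := by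
  obtain ⟨c⟩ := GrothLib.AlgSp.exists_thick_charts X'.property Y'.property hj hcart
  obtain ⟨n, -, hn⟩ := hfo
  obtain ⟨W, k, jW, h'', hk, e, sq, hW⟩ := GrothLib.AlgSp.exists_finiteOrder_factor c.sq c.thickV n
    (GrothLib.AlgSp.ker_pow_eq_bot_of_powZero hi hn c.ae' c.sqU)
  have hl : LocallyOfFiniteType c.h.left ↔ LocallyOfFiniteType c.h'.left := by
    rw [Groth.Agent.S1309.result c.iU.left jW c.h.left h'' hW sq, ← e]
    exact ⟨fun _ => inferInstance, fun _ => locallyOfFiniteType_of_comp h'' k⟩
  refine ⟨and_congr (GrothLib.AlgSp.locP_thick_iff GrothLib.AlgSp.EtLocal.lft c hl)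
    (GrothLib.AlgSp.fibreDim_thick_iff c _), GrothLib.AlgSp.locP_thick_iff GrothLib.AlgSp.EtLocal.lft c hl,
    GrothLib.AlgSp.locP_thick_iff (GrothLib.AlgSp.EtLocal.lqf.inf GrothLib.AlgSp.EtLocal.lft) c ?_,
    GrothLib.AlgSp.locP_thick_iff (GrothLib.AlgSp.EtLocal.lft.inf GrothLib.AlgSp.EtLocal.formallyUnramified) c ?_⟩
  · constructor
    · rintro ⟨h1, h2⟩
      have : LocallyOfFiniteType c.h.left := h2
      have : LocallyOfFiniteType c.h'.left := hl.1 h2
      exact ⟨(Groth.Agent.S1312.result _ _ _ _ c.thickV c.sq).1 h1, this⟩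
    · rintro ⟨h1, h2⟩
      have : LocallyOfFiniteType c.h'.left := h2
      have : LocallyOfFiniteType c.h.left := hl.2 h2
      exact ⟨(Groth.Agent.S1312.result _ _ _ _ c.thickV c.sq).2 h1, this⟩
  · refine and_congr hl ?_
    rw [Groth.Agent.S1310.result c.iU.left jW c.h.left h'' hW sq, ← e]
    exact ⟨fun h => MorphismProperty.comp_mem _ _ _ h inferInstance, fun _ => FormallyUnramified.of_comp h'' k⟩

end Groth.Agent.S10591
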