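import Groth.Agent.Lib.AlgSp.ThickGlobal
import Groth.Agent.S10591
import Groth.Statements.S10592
-- import your own Groth.Agent.* helpers here

set_option autoImplicit false
universe u
open CategoryTheory CategoryTheory.Limits AlgebraicGeometry
open AlgSp

namespace Groth.Agent.S10592

/-- Consider a morphism (f, f') from the thickening X ⊂ X' to the thickening Y ⊂ Y' of algebraic spaces
over S, meaning: i : X ⟶ X' and j : Y ⟶ Y' are thickenings (representable, every base change to a
scheme a surjective closed immersion) and i ≫ f' = f ≫ j. Assume moreover that the square is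
cartesian (X = Y ×_{Y'} X') and that i is a finite order thickening (for one n, on every affine
etale scheme chart of X' the (n+1)-st power of the ideal of the base change of X vanishes). Then f
is a closed immersion, resp. proper, resp. finite, resp. an immersion, if and only if f' is
(immersions of algebraic spaces being the representable ones). -/
theorem result {S : Scheme.{u}} {X X' Y Y' : AlgSp.Space S} (i : X ⟶ X') (j : Y ⟶ Y')
    (f : X ⟶ Y) (f' : X' ⟶ Y')
    (hi : AlgSp.IsThickMor i.hom)
    (hj : AlgSp.IsThickMor j.hom) (w : i ≫ f' = f ≫ j)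
    (hcart : IsPullback i.hom f.hom f'.hom j.hom)
    (hfo : AlgSp.IsFinThickMor i.hom) :
    (AlgSp.RepWith @IsClosedImmersion f.hom ↔ AlgSp.RepWith @IsClosedImmersion f'.hom) ∧
    (AlgSp.IsProperMor f.hom ↔ AlgSp.IsProperMor f'.hom) ∧
    (AlgSp.IsFiniteMor f.hom ↔ AlgSp.IsFiniteMor f'.hom) ∧
    (AlgSp.RepWith @IsImmersion f.hom ↔ AlgSp.RepWith @IsImmersion f'.hom) := by
  have hl := (Groth.Agent.S10591.result i j f f' hi hj w hcart hfo 0).2.1
  have hX' := X'.property
  have hY' := Y'.property
  exact ⟨GrothLib.AlgSp.closedImmersion_thick_iff hX' hY' hj hcart hl.1,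
    GrothLib.AlgSp.proper_thick_iff hX' hY' hj hcart hl,
    GrothLib.AlgSp.finite_thick_iff hX' hY' hj hcart hl,
    GrothLib.AlgSp.immersion_thick_iff hX' hY' hj hcart hl.1⟩

end Groth.Agent.S10592
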