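import Groth.Agent.Lib.AlgSp.ThickChart
import Groth.Agent.Lib.AlgSp.DeformScheme
import Groth.Statements.S10595
-- import your own Groth.Agent.* helpers here

set_option autoImplicit false
universe u
open CategoryTheory CategoryTheory.Limits AlgebraicGeometry
open AlgSp

namespace Groth.Agent.S10595

/-- Let iB : B ⟶ B' be a finite order thickening of algebraic spaces over S (a thickening such that for
one n the (n+1)-st power of the ideal vanishes on every affine etale scheme chart), f' : X' ⟶ Y' a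
morphism of algebraic spaces over B' (via g' : Y' ⟶ B') with X' flat over B', and f : X ⟶ Y, g : Y ⟶
B its base change to B (both squares to iB cartesian, iX ≫ f' = f ≫ iY). If f is flat, then f' is
flat and g' : Y' ⟶ B' is flat at every point of Y' in the image of f'. -/
theorem result {S : Scheme.{u}} {X X' Y Y' B B' : AlgSp.Space S} (iX : X ⟶ X') (iY : Y ⟶ Y') (iB : B ⟶ B')
    (f : X ⟶ Y) (f' : X' ⟶ Y') (g : Y ⟶ B) (g' : Y' ⟶ B')
    (hcX : IsPullback iX.hom (f ≫ g).hom (f' ≫ g').hom iB.hom) (hcY : IsPullback iY.hom g.hom g'.hom iB.hom)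
    (w : iX ≫ f' = f ≫ iY)
    (hB : AlgSp.IsFinThickMor iB.hom) (hflat : AlgSp.LocP @Flat (f' ≫ g').hom)
    (hf : AlgSp.LocP @Flat f.hom) :
    AlgSp.LocP @Flat f'.hom ∧
    ∀ x' : AlgSp.Points X'.obj, AlgSp.IsFlatAtMor g'.hom (AlgSp.Points.map f'.hom x') := by
  obtain ⟨c, c₁, k, k', sqY, sqX, e, ek⟩ := GrothLib.AlgSp.exists_deform_charts X'.property Y'.property B'.property
    hB.choose_spec.1 hcX hcY (congrArg (fun m => m.hom) w)
  have hc := c₁.isNilpotent hB
  have : Flat (c.h'.left ≫ k'.left) := hflat _ _ _ c.ae' c₁.be' e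
  have : Flat c.h.left := hf _ _ _ c.ae c.be c.comm
  rw [Over.comp_left, Over.comp_left] at sqX
  have hf' : AlgSp.LocP @Flat f'.hom := GrothLib.AlgSp.EtLocal.locP_of_chart GrothLib.AlgSp.EtLocal.flat c.ae' c.as'
    c.be' c.comm' (GrothLib.AlgSp.flat_of_deform hc sqX sqY c.sq.w)
  exact ⟨hf', fun x' => GrothLib.AlgSp.isFlatAtMor_of_flat_comp X'.property Y'.property hf' hflat x'⟩

end Groth.Agent.S10595
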