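import Groth.Agent.Lib.AlgSp.ThickChart
import Groth.Agent.Lib.AlgSp.DeformScheme
import Groth.Agent.S1309
import Groth.Agent.S1310
import Groth.Agent.S1312
import Groth.Statements.S10596
-- import your own Groth.Agent.* helpers here

set_option autoImplicit false
universe u
open CategoryTheory CategoryTheory.Limits AlgebraicGeometry
open AlgSp

namespace Groth.Agent.S10596

/-- Let iB : B ⟶ B' be a finite order thickening of algebraic spaces over S (a thickening such that for
one n the (n+1)-st power of the ideal vanishes on every affine etale scheme chart), f' : X' ⟶ Y' a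
morphism of algebraic spaces over B' (via g' : Y' ⟶ B') with X' flat over B', and f : X ⟶ Y, g : Y ⟶
B its base change to B (both squares to iB cartesian, iX ≫ f' = f ≫ iY). Then f is locally of finite
type of relative dimension d, resp. flat, resp. locally of finite type, locally quasi-finite,
locally of finite presentation, smooth, unramified, etale, if and only if f' is (etale-local sense;
locally quasi-finite and unramified include locally of finite type). -/
theorem result {S : Scheme.{u}} {X X' Y Y' B B' : AlgSp.Space S} (iX : X ⟶ X') (iY : Y ⟶ Y') (iB : B ⟶ B')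
    (f : X ⟶ Y) (f' : X' ⟶ Y') (g : Y ⟶ B) (g' : Y' ⟶ B')
    (hcX : IsPullback iX.hom (f ≫ g).hom (f' ≫ g').hom iB.hom) (hcY : IsPullback iY.hom g.hom g'.hom iB.hom)
    (w : iX ≫ f' = f ≫ iY)
    (hB : AlgSp.IsFinThickMor iB.hom) (hflat : AlgSp.LocP @Flat (f' ≫ g').hom) (d : ℕ) :
    ((AlgSp.LocP @LocallyOfFiniteType f.hom ∧
        ∀ x, AlgSp.HasAtMor (fun _ _ h u => FlatMor.fibreDimAt h u = (d : WithBot ℕ∞)) f.hom x) ↔
      (AlgSp.LocP @LocallyOfFiniteType f'.hom ∧
        ∀ x', AlgSp.HasAtMor (fun _ _ h u => FlatMor.fibreDimAt h u = (d : WithBot ℕ∞)) f'.hom x')) ∧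
    (AlgSp.LocP @Flat f.hom ↔ AlgSp.LocP @Flat f'.hom) ∧
    (AlgSp.LocP @LocallyOfFiniteType f.hom ↔ AlgSp.LocP @LocallyOfFiniteType f'.hom) ∧
    (AlgSp.LocP (@LocallyQuasiFinite ⊓ @LocallyOfFiniteType) f.hom ↔
      AlgSp.LocP (@LocallyQuasiFinite ⊓ @LocallyOfFiniteType) f'.hom) ∧
    (AlgSp.LocP @LocallyOfFinitePresentation f.hom ↔ AlgSp.LocP @LocallyOfFinitePresentation f'.hom) ∧
    (AlgSp.LocP @Smooth f.hom ↔ AlgSp.LocP @Smooth f'.hom) ∧
    (AlgSp.LocP (@LocallyOfFiniteType ⊓ @FormallyUnramified) f.hom ↔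
      AlgSp.LocP (@LocallyOfFiniteType ⊓ @FormallyUnramified) f'.hom) ∧
    (AlgSp.IsEtaleMor f.hom ↔ AlgSp.IsEtaleMor f'.hom) := by
  obtain ⟨c, c₁, k, k', sqY, sqX, e, ek⟩ := GrothLib.AlgSp.exists_deform_charts X'.property Y'.property B'.property
    hB.choose_spec.1 hcX hcY (congrArg (fun m => m.hom) w)
  have hc := c₁.isNilpotent hB
  have : Flat (c.h'.left ≫ k'.left) := hflat _ _ _ c.ae' c₁.be' e
  rw [Over.comp_left, Over.comp_left] at sqX
  have hY : MoreMor.IsFiniteOrderThickening c.jV.left := by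
    obtain ⟨hth, n, hn⟩ := hc
    have : IsClosedImmersion c₁.jV.left := hth.1
    refine ⟨c.thickV, n, ?_⟩
    rw [GrothLib.FSchSys.ker_eq_comap_of_isPullback sqY, ← GrothLib.FSchSys.comap_pow, hn]
    simp [Scheme.IdealSheafData.zero_eq_bot]
  have hl := Groth.Agent.S1309.result c.iU.left c.jV.left c.h.left c.h'.left hY c.sq
  have hfu := Groth.Agent.S1310.result c.iU.left c.jV.left c.h.left c.h'.left hY c.sq
  have hflt : Flat c.h.left ↔ Flat c.h'.left :=
    ⟨fun _ => GrothLib.AlgSp.flat_of_deform hc sqX sqY c.sq.w,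
      fun h => MorphismProperty.of_isPullback (P := @Flat) c.sq h⟩
  have hlfp : LocallyOfFinitePresentation c.h.left ↔ LocallyOfFinitePresentation c.h'.left :=
    ⟨fun _ => GrothLib.AlgSp.lfp_of_deform hc sqX sqY c.sq.w,
      fun h => MorphismProperty.of_isPullback (P := @LocallyOfFinitePresentation) c.sq h⟩
  refine ⟨and_congr (GrothLib.AlgSp.locP_thick_iff GrothLib.AlgSp.EtLocal.lft c hl)
    (GrothLib.AlgSp.fibreDim_thick_iff c _), GrothLib.AlgSp.locP_thick_iff GrothLib.AlgSp.EtLocal.flat c hflt,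
    GrothLib.AlgSp.locP_thick_iff GrothLib.AlgSp.EtLocal.lft c hl,
    GrothLib.AlgSp.locP_thick_iff (GrothLib.AlgSp.EtLocal.lqf.inf GrothLib.AlgSp.EtLocal.lft) c ?_,
    GrothLib.AlgSp.locP_thick_iff GrothLib.AlgSp.EtLocal.lfp c hlfp,
    GrothLib.AlgSp.locP_thick_iff GrothLib.AlgSp.EtLocal.smooth c
      ⟨fun _ => GrothLib.AlgSp.smooth_of_deform hc sqX sqY c.sq.w,
        fun h => MorphismProperty.of_isPullback (P := @Smooth) c.sq h⟩,
    GrothLib.AlgSp.locP_thick_iff (GrothLib.AlgSp.EtLocal.lft.inf GrothLib.AlgSp.EtLocal.formallyUnramified) c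
      (and_congr hl hfu), ?_⟩
  · constructor
    · rintro ⟨h1, h2⟩
      have : LocallyOfFiniteType c.h.left := h2
      have : LocallyOfFiniteType c.h'.left := hl.1 h2
      exact ⟨(Groth.Agent.S1312.result _ _ _ _ c.thickV c.sq).1 h1, this⟩
    · rintro ⟨h1, h2⟩
      have : LocallyOfFiniteType c.h'.left := h2
      have : LocallyOfFiniteType c.h.left := hl.2 h2
      exact ⟨(Groth.Agent.S1312.result _ _ _ _ c.thickV c.sq).2 h1, this⟩
  · rw [GrothLib.AlgSp.isEtaleMor_iff_locP Y.property, GrothLib.AlgSp.isEtaleMor_iff_locP Y'.property]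
    refine GrothLib.AlgSp.locP_thick_iff GrothLib.AlgSp.EtLocal.etale c ⟨fun h => ?_,
      fun h => MorphismProperty.of_isPullback (P := @Etale) c.sq h⟩
    have := hflt.1 inferInstance
    have := hlfp.1 inferInstance
    have := hfu.1 inferInstance
    exact Etale.of_formallyUnramified_of_flat _

end Groth.Agent.S10596
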