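import Groth.Agent.Lib.AlgSp.ThickChart
import Groth.Agent.Lib.AlgSp.DeformScheme
import Groth.Agent.Lib.DiagGrp.KernelFP
import Groth.Agent.S1312
import Groth.Agent.S1314
import Groth.Statements.S10599
-- import your own Groth.Agent.* helpers here

set_option autoImplicit false
universe u
open CategoryTheory CategoryTheory.Limits AlgebraicGeometry
open AlgSp

namespace Groth.Agent.S10599

/-- Let iB : B ⟶ B' be a thickening of algebraic spaces over S (representable, every base change to a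
scheme a surjective closed immersion), f' : X' ⟶ Y' a morphism of algebraic spaces over B' (via g' :
Y' ⟶ B') with Y' locally of finite type over B' and X' flat and locally of finite presentation over
B', and f : X ⟶ Y, g : Y ⟶ B its base change to B (both squares to iB cartesian, iX ≫ f' = f ≫ iY).
Then f is locally of finite type of relative dimension d, resp. flat, resp. locally quasi-finite,
smooth, unramified, etale, if and only if f' is (etale-local sense; locally quasi-finite and
unramified include locally of finite type). -/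
theorem result {S : Scheme.{u}} {X X' Y Y' B B' : AlgSp.Space S} (iX : X ⟶ X') (iY : Y ⟶ Y') (iB : B ⟶ B')
    (f : X ⟶ Y) (f' : X' ⟶ Y') (g : Y ⟶ B) (g' : Y' ⟶ B')
    (hcX : IsPullback iX.hom (f ≫ g).hom (f' ≫ g').hom iB.hom) (hcY : IsPullback iY.hom g.hom g'.hom iB.hom)
    (w : iX ≫ f' = f ≫ iY)
    (hB : AlgSp.IsThickMor iB.hom)
    (hg' : AlgSp.LocP @LocallyOfFiniteType g'.hom)
    (hflat : AlgSp.LocP @Flat (f' ≫ g').hom) (hfp : AlgSp.LocP @LocallyOfFinitePresentation (f' ≫ g').hom) (d : ℕ) :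
    ((AlgSp.LocP @LocallyOfFiniteType f.hom ∧
        ∀ x, AlgSp.HasAtMor (fun _ _ h u => FlatMor.fibreDimAt h u = (d : WithBot ℕ∞)) f.hom x) ↔
      (AlgSp.LocP @LocallyOfFiniteType f'.hom ∧
        ∀ x', AlgSp.HasAtMor (fun _ _ h u => FlatMor.fibreDimAt h u = (d : WithBot ℕ∞)) f'.hom x')) ∧
    (AlgSp.LocP @Flat f.hom ↔ AlgSp.LocP @Flat f'.hom) ∧
    (AlgSp.LocP (@LocallyQuasiFinite ⊓ @LocallyOfFiniteType) f.hom ↔
      AlgSp.LocP (@LocallyQuasiFinite ⊓ @LocallyOfFiniteType) f'.hom) ∧
    (AlgSp.LocP @Smooth f.hom ↔ AlgSp.LocP @Smooth f'.hom) ∧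
    (AlgSp.LocP (@LocallyOfFiniteType ⊓ @FormallyUnramified) f.hom ↔
      AlgSp.LocP (@LocallyOfFiniteType ⊓ @FormallyUnramified) f'.hom) ∧
    (AlgSp.IsEtaleMor f.hom ↔ AlgSp.IsEtaleMor f'.hom) := by
  obtain ⟨c, c₁, k, k', sqY, sqX, e, ek⟩ := GrothLib.AlgSp.exists_deform_charts X'.property Y'.property B'.property
    hB hcX hcY (congrArg (fun m => m.hom) w)
  have : Flat (c.h'.left ≫ k'.left) := hflat _ _ _ c.ae' c₁.be' e
  have : LocallyOfFinitePresentation (c.h'.left ≫ k'.left) := hfp _ _ _ c.ae' c₁.be' e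
  have : LocallyOfFiniteType k'.left := hg' _ _ _ c.be' c₁.be' ek
  rw [Over.comp_left, Over.comp_left] at sqX
  have : LocallyOfFinitePresentation c.h'.left := GrothLib.DiagGrp.lfp_of_comp_of_lft c.h'.left k'.left ‹_› ‹_›
  have : LocallyOfFiniteType c.h'.left := inferInstance
  have : LocallyOfFiniteType c.h.left := MorphismProperty.of_isPullback (P := @LocallyOfFiniteType) c.sq ‹_›
  have : IsClosedImmersion c.jV.left := c.thickV.1
  have : Surjective c.jV.left := c.thickV.2
  have hlqf := Groth.Agent.S1312.result _ _ _ _ c.thickV c.sq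
  have hfu := Groth.Agent.S1314.result _ _ _ _ c.thickV c.sq
  have hflt : Flat c.h.left ↔ Flat c.h'.left :=
    ⟨fun _ => GrothLib.AlgSp.flat_of_deform_fp c₁.thickV sqX sqY c.sq.w,
      fun h => MorphismProperty.of_isPullback (P := @Flat) c.sq h⟩
  refine ⟨and_congr (GrothLib.AlgSp.locP_thick_iff GrothLib.AlgSp.EtLocal.lft c (iff_of_true ‹_› ‹_›))
    (GrothLib.AlgSp.fibreDim_thick_iff c _), GrothLib.AlgSp.locP_thick_iff GrothLib.AlgSp.EtLocal.flat c hflt,
    GrothLib.AlgSp.locP_thick_iff (GrothLib.AlgSp.EtLocal.lqf.inf GrothLib.AlgSp.EtLocal.lft) c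
      (and_congr hlqf (iff_of_true ‹_› ‹_›)),
    GrothLib.AlgSp.locP_thick_iff GrothLib.AlgSp.EtLocal.smooth c ⟨fun h => ?_,
      fun h => MorphismProperty.of_isPullback (P := @Smooth) c.sq h⟩,
    GrothLib.AlgSp.locP_thick_iff (GrothLib.AlgSp.EtLocal.lft.inf GrothLib.AlgSp.EtLocal.formallyUnramified) c
      (and_congr (iff_of_true ‹_› ‹_›) hfu), ?_⟩
  · have := hflt.1 inferInstance
    exact GrothLib.AlgSp.smooth_of_flat_of_thickening c.sq
  · rw [GrothLib.AlgSp.isEtaleMor_iff_locP Y.property, GrothLib.AlgSp.isEtaleMor_iff_locP Y'.property]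
    refine GrothLib.AlgSp.locP_thick_iff GrothLib.AlgSp.EtLocal.etale c ⟨fun h => ?_,
      fun h => MorphismProperty.of_isPullback (P := @Etale) c.sq h⟩
    have := hflt.1 inferInstance
    have := hfu.1 inferInstance
    exact Etale.of_formallyUnramified_of_flat _

end Groth.Agent.S10599
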