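import Groth.Agent.Lib.AlgSp.ThickGlobal
import Groth.Agent.S10599
import Groth.Agent.Lib.DiagGrp.KernelFP
import Groth.Statements.S10600
-- import your own Groth.Agent.* helpers here

set_option autoImplicit false
universe u
open CategoryTheory CategoryTheory.Limits AlgebraicGeometry
open AlgSp

namespace Groth.Agent.S10600

/-- Let iB : B ⟶ B' be a thickening of algebraic spaces over S (representable, every base change to a
scheme a surjective closed immersion), f' : X' ⟶ Y' a morphism of algebraic spaces over B' (via g' :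
Y' ⟶ B') with Y' locally of finite type over B' and X' flat and locally of finite presentation over
B', and f : X ⟶ Y, g : Y ⟶ B its base change to B (both squares to iB cartesian, iX ≫ f' = f ≫ iY).
Then f is an isomorphism, resp. an open immersion, resp. a monomorphism, resp. finite locally free,
resp. finite locally free of degree d, if and only if f' is. -/
theorem result {S : Scheme.{u}} {X X' Y Y' B B' : AlgSp.Space S} (iX : X ⟶ X') (iY : Y ⟶ Y') (iB : B ⟶ B')
    (f : X ⟶ Y) (f' : X' ⟶ Y') (g : Y ⟶ B) (g' : Y' ⟶ B')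
    (hcX : IsPullback iX.hom (f ≫ g).hom (f' ≫ g').hom iB.hom) (hcY : IsPullback iY.hom g.hom g'.hom iB.hom)
    (w : iX ≫ f' = f ≫ iY)
    (hB : AlgSp.IsThickMor iB.hom)
    (hg' : AlgSp.LocP @LocallyOfFiniteType g'.hom)
    (hflat : AlgSp.LocP @Flat (f' ≫ g').hom) (hfp : AlgSp.LocP @LocallyOfFinitePresentation (f' ≫ g').hom) :
    (IsIso f.hom ↔ IsIso f'.hom) ∧
    (AlgSp.RepWith @IsOpenImmersion f.hom ↔ AlgSp.RepWith @IsOpenImmersion f'.hom) ∧
    (Mono f.hom ↔ Mono f'.hom) ∧
    (AlgSp.IsFinLocFreeMor f.hom ↔ AlgSp.IsFinLocFreeMor f'.hom) ∧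
    (∀ d : ℕ, AlgSp.IsFinLocFreeOfDegMor d f.hom ↔ AlgSp.IsFinLocFreeOfDegMor d f'.hom) := by
  have w' : iX.hom ≫ f'.hom = f.hom ≫ iY.hom := congrArg (fun m => m.hom) w
  have hX' := X'.property
  have hY' := Y'.property
  have hc : IsPullback iX.hom f.hom f'.hom iY.hom := IsPullback.of_bot hcX w' hcY
  have hj : AlgSp.IsThickMor iY.hom := GrothLib.AlgSp.repWith_of_isPullback hcY.flip hB
  obtain ⟨-, hfl, -, -, -, het⟩ := Groth.Agent.S10599.result iX iY iB f f' g g' hcX hcY w hB hg' hflat hfp 0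
  have hft' : AlgSp.LocP @LocallyOfFiniteType f'.hom := GrothLib.AlgSp.EtLocal.locP_of_comp GrothLib.AlgSp.EtLocal.lft
    (fun A B C a b h => locallyOfFiniteType_of_comp a b) hX' hY' B'.property
    (GrothLib.AlgSp.locP_mono (fun A B a (h : LocallyOfFinitePresentation a) => (inferInstance : LocallyOfFiniteType a)) hfp)
  have hft : AlgSp.LocP @LocallyOfFiniteType f.hom :=
    GrothLib.AlgSp.EtLocal.locP_of_isPullback GrothLib.AlgSp.EtLocal.lft hX' hY' Y.property hc hft'
  have hlfp' : AlgSp.LocP @LocallyOfFinitePresentation f'.hom := by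
    intro U V a b h ha hb comm
    obtain ⟨c, c₁, k, k', sqY, sqX, e, ek⟩ := GrothLib.AlgSp.exists_deform_charts hX' hY' B'.property hB hcX hcY w'
    refine GrothLib.AlgSp.EtLocal.locP_of_chart GrothLib.AlgSp.EtLocal.lfp c.ae' c.as' c.be' c.comm' ?_ a b h ha hb comm
    exact GrothLib.DiagGrp.lfp_of_comp_of_lft c.h'.left k'.left (hfp _ _ _ c.ae' c₁.be' e)
      (hg' _ _ _ c.be' c₁.be' ek)
  have hflf := GrothLib.AlgSp.finLocFree_thick_iff hX' hY' hj hc (iff_of_true hft hft') hfl.1 (fun _ => hlfp')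
  refine ⟨GrothLib.AlgSp.isIso_thick_iff hX' hY' hj hc het.1,
    GrothLib.AlgSp.openImmersion_thick_iff hX' hY' hj hc het.1, ?_,
    hflf, fun d => GrothLib.AlgSp.finLocFreeOfDeg_thick_iff hX' hY' hj hc hflf d⟩
  exact ⟨fun hm => GrothLib.AlgSp.mono_thick hX' hY' hj hc hft hft' hm,
    fun hm => MorphismProperty.of_isPullback (P := MorphismProperty.monomorphisms _) hc hm⟩

end Groth.Agent.S10600
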