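import Groth.Statements.S10602
import Groth.Agent.Lib.AlgSp.SmoothLifting
import Groth.Agent.Lib.AlgSp.LqfPoint
-- import your own Groth.Agent.* helpers here

set_option autoImplicit false
universe u
open CategoryTheory CategoryTheory.Limits AlgebraicGeometry
open AlgSp GrothLib.AlgSp
set_option backward.isDefEq.respectTransparency false

namespace Groth.Agent.S10602

/-- Take a morphism f : X ⟶ Y of algebraic spaces over S that is locally of finite type, with Y locally
Noetherian. Then f is smooth if and only if for every surjection π : B' → B of Artinian local rings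
whose kernel is principal and killed by the maximal ideal of B', every structure map Spec B' ⟶ S,
every α : Spec B ⟶ X and every β : Spec B' ⟶ Y locally of finite type with α ≫ f = Spec(π) ≫ β,
there is γ : Spec B' ⟶ X with Spec(π) ≫ γ = α and γ ≫ f = β. (The published statement asks for lifts
only against β of finite type, which can be vacuous when Y is not quasi-separated; this row asks for
lifts against every β locally of finite type.) -/
theorem result {S : Scheme.{u}} {X Y : AlgSp.Space S} (f : X ⟶ Y)
    (hY : AlgSp.IsLocNoethSp Y.obj) (hft : AlgSp.LocP @LocallyOfFiniteType f.hom) :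
    AlgSp.LocP @Smooth f.hom ↔
      ∀ (B' B : Type u) [CommRing B'] [CommRing B] [IsLocalRing B'] [IsLocalRing B]
        [IsArtinianRing B'] [IsArtinianRing B] (π : B' →+* B), Function.Surjective π →
        (∃ t : B', RingHom.ker π = Ideal.span {t} ∧ ∀ a ∈ IsLocalRing.maximalIdeal B', a * t = 0) →
        ∀ (s : Spec (CommRingCat.of B') ⟶ S)
          (α : (AlgSp.yon S).obj (Over.mk (Spec.map (CommRingCat.ofHom π) ≫ s)) ⟶ X.obj)
          (β : (AlgSp.yon S).obj (Over.mk s) ⟶ Y.obj),
          AlgSp.LocP @LocallyOfFiniteType β →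
          α ≫ f.hom = (AlgSp.yon S).map
            (Over.homMk (Spec.map (CommRingCat.ofHom π)) :
              Over.mk (Spec.map (CommRingCat.ofHom π) ≫ s) ⟶ Over.mk s) ≫ β →
          ∃ γ : (AlgSp.yon S).obj (Over.mk s) ⟶ X.obj,
            (AlgSp.yon S).map (Over.homMk (Spec.map (CommRingCat.ofHom π)) :
              Over.mk (Spec.map (CommRingCat.ofHom π) ≫ s) ⟶ Over.mk s) ≫ γ = α ∧ γ ≫ f.hom = β := by
  refine ⟨fun hs B' B _ _ _ _ _ _ π hπ ht s α β _ hc => ?_, fun H U V a b h ha hb c => ?_⟩
  · have hk : RingHom.ker π ^ 2 = ⊥ := by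
      obtain ⟨t, ht, hm⟩ := ht
      have htm : t ∈ IsLocalRing.maximalIdeal B' :=
        IsLocalRing.le_maximalIdeal (RingHom.ker_ne_top π) (ht ▸ Ideal.mem_span_singleton_self t)
      rw [ht, Ideal.span_singleton_pow, Ideal.span_singleton_eq_bot, pow_two]
      exact hm t htm
    obtain ⟨U, V, a, b, h, u, ha, hb, c, hu⟩ := exists_chart_at X.property Y.property f.hom
      (Points.ofPt α (IsLocalRing.closedPoint B))
    refine exists_lift_of_smooth_at X.property Y.property
      ⟨U, V, a, b, h, u, ha, hb, c, hu, ⊤, trivial, ?_⟩ B' B π hπ hk s α β rfl hc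
    haveI : Smooth h.left := hs a b h ha hb c
    infer_instance
  have hQ : ∀ {T T' : Over S} (i : T ⟶ T') (β : (yon S).obj T' ⟶ Y.obj), IsClosedImmersion i.left →
      LocP @LocallyOfFiniteType β → LocP @LocallyOfFiniteType ((yon S).map i ≫ β) := fun {T T'} i β hi hβ =>
    EtLocal.locP_comp EtLocal.lft (IsAlgSpace.yon_obj T) (IsAlgSpace.yon_obj T') Y.property
      (EtLocal.locP_of_repWith EtLocal.lft (IsAlgSpace.yon_obj T') ((repWith_yon_map_iff _ i).2
        (haveI := hi; inferInstanceAs (LocallyOfFiniteType i.left)))) hβ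
  have hclosed : ∀ (O : U.left.Opens) (z : ↥U.left) (hz : z ∈ O), IsClosed ({⟨z, hz⟩} : Set O) →
      ∃ W : U.left.Opens, z ∈ W ∧ Smooth (W.ι ≫ h.left) := by
    intro O z hz hcl
    let r : Spec (U.left.residueField z) ⟶ O.toScheme := IsOpenImmersion.lift O.ι (U.left.fromSpecResidueField z) (by
      rw [Scheme.range_fromSpecResidueField, Scheme.Opens.range_ι]
      exact Set.singleton_subset_iff.2 hz)
    have hr : r ≫ O.ι = U.left.fromSpecResidueField z := IsOpenImmersion.lift_fac _ _ _
    haveI : IsPreimmersion (r ≫ O.ι) := hr ▸ inferInstance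
    haveI : IsPreimmersion r := .of_comp r O.ι
    haveI : IsClosedImmersion r := IsClosedImmersion.of_isPreimmersion r (by
      have : Set.range r = ({⟨z, hz⟩} : Set O) := by
        refine Set.Subset.antisymm ?_ ?_
        · rintro _ ⟨p, rfl⟩
          refine O.ι.isOpenEmbedding.injective ?_
          have h1 : O.ι (r p) ∈ Set.range (U.left.fromSpecResidueField z) := ⟨p, by rw [← hr]; rfl⟩
          rw [Scheme.range_fromSpecResidueField] at h1
          exact h1
        · rintro _ rfl
          refine ⟨IsLocalRing.closedPoint (U.left.residueField z), O.ι.isOpenEmbedding.injective ?_⟩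
          show (r ≫ O.ι) _ = _
          rw [hr, Scheme.fromSpecResidueField_apply]
          rfl
      rw [this]; exact hcl)
    haveI hrft : LocallyOfFiniteType (U.left.fromSpecResidueField z) := hr ▸ inferInstance
    haveI : IsLocallyNoetherian V.left :=
      etaleLocally_chart (fun _ _ => isLocallyNoetherian_of_etale) (fun _ _ => isLocallyNoetherian_desc) hY b hb
    haveI : LocallyOfFiniteType h.left := hft a b h ha hb c
    refine exists_smooth_nhd_of_lift X.property Y.property hY hft ha hb c z (Q := fun β => LocP @LocallyOfFiniteType β)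
      hQ (fun B' B _ _ _ _ _ _ π hπ ht s α β _ hβ hc => H B' B π hπ ht s α β hβ hc) ?_
    intro A' _ _ _ g hg t hgt
    refine EtLocal.locP_comp EtLocal.lft (IsAlgSpace.yon_obj _) (IsAlgSpace.yon_obj V) Y.property
      (EtLocal.locP_of_repWith EtLocal.lft (IsAlgSpace.yon_obj V) ((repWith_yon_map_iff _ _).2 ?_))
      (EtLocal.locP_of_repWith EtLocal.lft Y.property (repWith_mono hb fun A B m hm => by
        have : Etale m := hm
        exact inferInstanceAs (LocallyOfFiniteType m)))
    show LocallyOfFiniteType t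
    -- the composite with the residue field is of finite type
    have hker : RingHom.ker g = IsLocalRing.maximalIdeal (U.left.presheaf.stalk z) :=
      IsLocalRing.eq_maximalIdeal (RingHom.ker_isMaximal_of_surjective g hg)
    let gb : U.left.residueField z →+* IsLocalRing.ResidueField A' :=
      Ideal.Quotient.lift _ g fun y hy => RingHom.mem_ker.1 (hker ▸ hy)
    haveI : IsClosedImmersion (Spec.map (CommRingCat.ofHom gb)) :=
      IsClosedImmersion.spec_of_surjective _ fun y => by
        obtain ⟨w, rfl⟩ := hg y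
        exact ⟨Ideal.Quotient.mk _ w, rfl⟩
    have hgb : Spec.map (CommRingCat.ofHom g) ≫ U.left.fromSpecStalk z =
        Spec.map (CommRingCat.ofHom gb) ≫ U.left.fromSpecResidueField z := by
      show _ = _ ≫ Spec.map (U.left.residue z) ≫ U.left.fromSpecStalk z
      rw [← Spec.map_comp_assoc]
      rfl
    have h₀ : LocallyOfFiniteType (Spec.map (CommRingCat.ofHom (IsLocalRing.residue A')) ≫ t) := by
      rw [← hgt, reassoc_of% hgb]
      infer_instance
    obtain ⟨_, ⟨R, hR, rfl⟩, htR, -⟩ := V.left.isBasis_affineOpens.exists_subset_of_mem_open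
      (Set.mem_univ (t (IsLocalRing.closedPoint A'))) isOpen_univ
    haveI : Subsingleton ↥(Spec (CommRingCat.of A')) := inferInstanceAs (Subsingleton (PrimeSpectrum A'))
    obtain ⟨φ, hφ⟩ := Spec.map_surjective (IsOpenImmersion.lift hR.fromSpec t (by
      rintro _ ⟨p, rfl⟩
      rw [hR.range_fromSpec, Subsingleton.elim p (IsLocalRing.closedPoint A')]
      exact htR))
    have hφt : Spec.map φ ≫ hR.fromSpec = t := by rw [hφ, IsOpenImmersion.lift_fac]
    rw [← hφt, ← Spec.map_comp_assoc] at h₀
    haveI := h₀
    have h₁ : LocallyOfFiniteType (Spec.map (φ ≫ CommRingCat.ofHom (IsLocalRing.residue A'))) :=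
      locallyOfFiniteType_of_comp _ hR.fromSpec
    rw [HasRingHomProperty.Spec_iff (P := @LocallyOfFiniteType)] at h₁
    haveI : LocallyOfFiniteType (Spec.map φ) := (HasRingHomProperty.Spec_iff (P := @LocallyOfFiniteType)).2
      (GrothLib.ThickFT6.finiteType_of_nilpotent φ.hom (IsLocalRing.residue A') IsLocalRing.residue_surjective
        (by
          rw [IsLocalRing.ker_residue, ← IsLocalRing.jacobson_eq_maximalIdeal (⊥ : Ideal A') bot_ne_top]
          exact IsArtinianRing.isNilpotent_jacobson_bot)
        (IsNoetherian.noetherian _) h₁)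
    rw [← hφt]
    infer_instance
  have hall : ∀ u : ↥U.left, ∃ W : U.left.Opens, u ∈ W ∧ Smooth (W.ι ≫ h.left) := by
    intro u
    by_contra hu
    obtain ⟨_, ⟨O, hO, rfl⟩, huO, -⟩ := U.left.isBasis_affineOpens.exists_subset_of_mem_open
      (Set.mem_univ u) isOpen_univ
    let O' : U.left.Opens := O
    let C : Set (O' : Set ↥U.left) := {p : (O' : Set ↥U.left) | ¬ ∃ W : U.left.Opens, (p : ↥U.left) ∈ W ∧ Smooth (W.ι ≫ h.left)}
    have hC : IsClosed C := by
      rw [← isOpen_compl_iff, isOpen_iff_forall_mem_open]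
      intro p hp
      obtain ⟨W, hpW, hW⟩ := not_not.1 hp
      exact ⟨Subtype.val ⁻¹' (W : Set ↥U.left), fun q hq => not_not.2 ⟨W, hq, hW⟩,
        W.2.preimage continuous_subtype_val, hpW⟩
    haveI : CompactSpace ↥(O' : Set ↥U.left) := isCompact_iff_compactSpace.1 hO.isCompact
    obtain ⟨z, hzC, hz⟩ := hC.exists_closed_singleton ⟨⟨u, huO⟩, hu⟩
    exact hzC (hclosed O' z.1 z.2 hz)
  choose W hW hWs using hall
  exact IsZariskiLocalAtSource.of_openCover (P := @Smooth)
    (U.left.openCoverOfIsOpenCover W (top_le_iff.1 fun u _ => TopologicalSpace.Opens.mem_iSup.2 ⟨u, hW u⟩)) hWs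
end Groth.Agent.S10602
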