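import Groth.Agent.Lib.AlgSp.FpqcProps
import Groth.Statements.S10605
-- import your own Groth.Agent.* helpers here

set_option autoImplicit false
universe u
open CategoryTheory CategoryTheory.Limits AlgebraicGeometry
open AlgSp

namespace Groth.Agent.S10605

/-- The property of a morphism of algebraic spaces over S of being a thickening (representable, every
base change to a scheme a surjective closed immersion) is local on the base for the fpqc topology.
(The published statement also claims the same for first order thickenings; this row states only the
thickening clause.) -/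
theorem result {S : Scheme.{u}} :
    AlgSp.IsLocalOnBase (S := S) AlgSp.IsFpqcCover
      AlgSp.IsThickMor := by
  refine GrothLib.AlgSp.isLocalOnBase_fpqc_of (GrothLib.AlgSp.baseChanges_repWith _) fun X Y hX hY f h => ?_
  have h1 : AlgSp.RepWith @IsClosedImmersion f := GrothLib.AlgSp.repWith_isClosedImmersion_of_fpqcLoc hX hY
    (h.mono hX hY fun _ _ s _ hs => GrothLib.AlgSp.repWith_mono hs fun A B g hg => hg.1)
  have h2 : AlgSp.RepWith @Surjective f := (GrothLib.AlgSp.repWith_surjective_iff h1.1).2
    (GrothLib.AlgSp.isSurjectiveMor_of_fpqcLoc hY (h.mono hX hY fun _ _ s _ hs =>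
      GrothLib.AlgSp.surjective_map_of_repWith (GrothLib.AlgSp.repWith_mono hs fun A B g hg => hg.2)))
  exact GrothLib.AlgSp.repWith_inf_iff.2 ⟨h1, h2⟩

end Groth.Agent.S10605
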