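import Groth.Statements.S10606
import Groth.Agent.Lib.AlgSp.PureMono
import Groth.Agent.Lib.AlgSp.Descent

set_option autoImplicit false
universe u
open CategoryTheory CategoryTheory.Limits AlgebraicGeometry
open AlgSp

namespace Groth.Agent.S10606

theorem exists_lift_spec {S : Scheme.{u}} {X Y : AlgSp.Space S} (f : X ⟶ Y)
    (hqc : AlgSp.IsQuasiCompactMor f.hom) [Mono f.hom]
    (hinj : ∀ (T : Over S) (g : (AlgSp.yon S).obj T ⟶ Y.obj) (P : AlgSp.Sp S) (fst : P ⟶ X.obj)
      (snd : P ⟶ (AlgSp.yon S).obj T), IsPullback fst snd f.hom g →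
      ∀ s : Γ(T.left, ⊤),
        (∀ (W : Over S) (a : (AlgSp.yon S).obj W ⟶ P) (c : W ⟶ T),
          a ≫ snd = (AlgSp.yon S).map c → c.left.appTop s = 0) → s = 0)
    {A : CommRingCat.{u}} (str : Spec A ⟶ S) (g : (AlgSp.yon S).obj (Over.mk str) ⟶ Y.obj) :
    ∃ l, l ≫ f.hom = g := by
  have sq := IsPullback.of_hasPullback f.hom g
  have hP := GrothLib.AlgSp.isAlgSpace_pullback' Y.property X.property (IsAlgSpace.yon_obj (Over.mk str)) f.hom g
  haveI : Mono (pullback.snd f.hom g) := inferInstance
  have hqcT : IsQuasiCompactSp ((AlgSp.yon S).obj (Over.mk str)) := by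
    haveI : CompactSpace ↥(Over.mk str).left := inferInstanceAs (CompactSpace ↥(Spec A))
    exact GrothLib.AlgSp.isQuasiCompactSp_yon _
  have hc : IsQuasiCompactSp (pullback f.hom g) :=
    hqc (IsAlgSpace.yon_obj _) hqcT g (pullback.fst f.hom g) (pullback.snd f.hom g) sq
  haveI := GrothLib.AlgSp.exists_section_of_pure hP hc str (pullback.snd f.hom g) fun C φ s hs => by
    let t : Over.mk (Spec.map φ ≫ str) ⟶ Over.mk str := Over.homMk (Spec.map φ) rfl
    refine hinj (Over.mk (Spec.map φ ≫ str)) ((AlgSp.yon S).map t ≫ g) _ _ _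
      (IsPullback.of_hasPullback f.hom ((AlgSp.yon S).map t ≫ g)) s fun W a c hac => ?_
    refine hs W (pullback.lift (a ≫ pullback.fst _ _) ((AlgSp.yon S).map (c ≫ t)) ?_) c ?_
    · rw [Category.assoc, pullback.condition, ← Category.assoc, hac, Functor.map_comp, Category.assoc]
    · rw [pullback.lift_snd]
  exact ⟨inv (pullback.snd f.hom g) ≫ pullback.fst f.hom g, by
    rw [Category.assoc, pullback.condition, IsIso.inv_hom_id_assoc]⟩

/-- Let f : X ⟶ Y be a monomorphism of algebraic spaces over S that is quasi-compact, and suppose that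
for every T ⟶ Y the map from the structure sheaf of T to the direct image of the structure sheaf of
X ×_Y T is injective. Then f must be an isomorphism. The injectivity is spelled out on sections: for
every scheme T over S, every T ⟶ Y, every pullback square with corner P = X ×_Y T and every global
function s on T, if the pullback of s along every morphism from a scheme to P vanishes, then s = 0
(this is injectivity on global sections over every scheme etale over every base, which is the
sheaf-level injectivity). -/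
theorem result {S : Scheme.{u}} {X Y : AlgSp.Space S} (f : X ⟶ Y)
    (hqc : AlgSp.IsQuasiCompactMor f.hom) [Mono f.hom]
    (hinj : ∀ (T : Over S) (g : (AlgSp.yon S).obj T ⟶ Y.obj) (P : AlgSp.Sp S) (fst : P ⟶ X.obj)
      (snd : P ⟶ (AlgSp.yon S).obj T), IsPullback fst snd f.hom g →
      ∀ s : Γ(T.left, ⊤),
        (∀ (W : Over S) (a : (AlgSp.yon S).obj W ⟶ P) (c : W ⟶ T),
          a ≫ snd = (AlgSp.yon S).map c → c.left.appTop s = 0) → s = 0) :
    IsIso f.hom := by
  obtain ⟨V, q, qe, qs⟩ := Y.property.atlas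
  let 𝒰 := V.left.affineCover
  let U : 𝒰.I₀ → Over S := fun i => Over.mk (𝒰.f i ≫ V.hom)
  let j : ∀ i, U i ⟶ V := fun i => Over.homMk (𝒰.f i) rfl
  have hl : ∀ i, ∃ l, l ≫ f.hom = (AlgSp.yon S).map (j i) ≫ q := fun i =>
    exists_lift_spec f hqc hinj (U i).hom ((AlgSp.yon S).map (j i) ≫ q)
  choose l hl using hl
  obtain ⟨L, hL, -⟩ := GrothLib.AlgSp.exists_hom_of_sigma U l
  obtain ⟨J', hJ, -⟩ := GrothLib.AlgSp.exists_hom_of_sigma U fun i => (AlgSp.yon S).map (j i)
  obtain ⟨c, rfl⟩ := (AlgSp.yon S).map_surjective J'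
  have hcomm : L ≫ f.hom = (AlgSp.yon S).map c ≫ q := by
    obtain ⟨w, -, hu⟩ := GrothLib.AlgSp.exists_hom_of_sigma U fun i => (AlgSp.yon S).map (j i) ≫ q
    rw [hu (L ≫ f.hom) fun i => by rw [← Category.assoc, hL, hl],
      hu ((AlgSp.yon S).map c ≫ q) fun i => by rw [← Category.assoc, hJ]]
  haveI : Sheaf.IsLocallySurjective q := GrothLib.AlgSp.isLocallySurjective_of_repWith
    (GrothLib.AlgSp.repWith_mono qe fun _ _ g h => by haveI := h; infer_instance)
    (GrothLib.AlgSp.repWith_mono qe fun _ _ g h => by haveI := h; infer_instance) qs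
  haveI : Epi q := inferInstance
  haveI : Epi ((AlgSp.yon S).map c) := by
    have hcc : ∀ i, GrothLib.AlgSp.sigmaι U i ≫ c = j i := fun i => (AlgSp.yon S).map_injective (by
      rw [Functor.map_comp]; exact hJ i)
    haveI : Surjective c.left := ⟨fun v => by
      obtain ⟨u, hu⟩ := 𝒰.covers v
      refine ⟨(GrothLib.AlgSp.sigmaι U (𝒰.idx v)).left u, ?_⟩
      rw [← Scheme.Hom.comp_apply, ← Over.comp_left, hcc]
      exact hu⟩
    haveI : Etale c.left := IsZariskiLocalAtSource.of_openCover (P := @Etale)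
      (sigmaOpenCover fun i => (U i).left) fun i => by
        have e : (sigmaOpenCover fun i => (U i).left).f i ≫ c.left = (j i).left := by
          rw [← hcc i]; rfl
        rw [e]
        exact inferInstanceAs (Etale (𝒰.f i))
    haveI := GrothLib.AlgSp.TrivLocus.isLocallySurjective_of_etale c
    infer_instance
  haveI : Epi f.hom := by
    haveI : Epi (L ≫ f.hom) := by rw [hcomm]; exact epi_comp _ _
    exact epi_of_epi L f.hom
  exact isIso_of_mono_of_epi f.hom

end Groth.Agent.S10606
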