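import Groth.Statements.S10608
import Groth.Agent.Lib.AlgSp.SmoothLifting
import Groth.Agent.Lib.AlgSp.LqfPoint
-- import your own Groth.Agent.* helpers here

set_option autoImplicit false
universe u
open CategoryTheory CategoryTheory.Limits AlgebraicGeometry
open AlgSp GrothLib.AlgSp
set_option backward.isDefEq.respectTransparency false

namespace Groth.Agent.S10608

/-- Take a morphism f : X ⟶ Y of algebraic spaces over S that is locally of finite type, with Y locally
Noetherian, and let x be a point of X. The following are equivalent: (1) f is smooth at x (in some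
chart diagram through x the chart morphism is smooth on an open neighbourhood); (2) for every
surjection π : B' → B of local rings with kernel of square zero, every structure map Spec B' ⟶ S,
every α : Spec B ⟶ X sending the closed point to x and every β : Spec B' ⟶ Y with α ≫ f = Spec(π) ≫
β there is γ : Spec B' ⟶ X with Spec(π) ≫ γ = α and γ ≫ f = β; (3) the same for π ranging over
surjections of Artinian local rings with kernel principal and killed by the maximal ideal. Stated as
(1) ↔ (2) and (1) ↔ (3). -/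
theorem result {S : Scheme.{u}} {X Y : AlgSp.Space S} (f : X ⟶ Y)
    (hY : AlgSp.IsLocNoethSp Y.obj) (hft : AlgSp.LocP @LocallyOfFiniteType f.hom) (x : AlgSp.Points X.obj) :
    (AlgSp.HasAtMor (fun U _ h u => ∃ W : U.Opens, u ∈ W ∧ Smooth (W.ι ≫ h)) f.hom x ↔
      ∀ (B' B : Type u) [CommRing B'] [CommRing B] [IsLocalRing B'] [IsLocalRing B] (π : B' →+* B),
        Function.Surjective π → RingHom.ker π ^ 2 = ⊥ →
        ∀ (s : Spec (CommRingCat.of B') ⟶ S)
          (α : (AlgSp.yon S).obj (Over.mk (Spec.map (CommRingCat.ofHom π) ≫ s)) ⟶ X.obj)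
          (β : (AlgSp.yon S).obj (Over.mk s) ⟶ Y.obj),
          AlgSp.Points.ofPt α (IsLocalRing.closedPoint B) = x →
          α ≫ f.hom = (AlgSp.yon S).map
            (Over.homMk (Spec.map (CommRingCat.ofHom π)) :
              Over.mk (Spec.map (CommRingCat.ofHom π) ≫ s) ⟶ Over.mk s) ≫ β →
          ∃ γ : (AlgSp.yon S).obj (Over.mk s) ⟶ X.obj,
            (AlgSp.yon S).map (Over.homMk (Spec.map (CommRingCat.ofHom π)) :
              Over.mk (Spec.map (CommRingCat.ofHom π) ≫ s) ⟶ Over.mk s) ≫ γ = α ∧ γ ≫ f.hom = β) ∧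
    (AlgSp.HasAtMor (fun U _ h u => ∃ W : U.Opens, u ∈ W ∧ Smooth (W.ι ≫ h)) f.hom x ↔
      ∀ (B' B : Type u) [CommRing B'] [CommRing B] [IsLocalRing B'] [IsLocalRing B]
        [IsArtinianRing B'] [IsArtinianRing B] (π : B' →+* B), Function.Surjective π →
        (∃ t : B', RingHom.ker π = Ideal.span {t} ∧ ∀ a ∈ IsLocalRing.maximalIdeal B', a * t = 0) →
        ∀ (s : Spec (CommRingCat.of B') ⟶ S)
          (α : (AlgSp.yon S).obj (Over.mk (Spec.map (CommRingCat.ofHom π) ≫ s)) ⟶ X.obj)
          (β : (AlgSp.yon S).obj (Over.mk s) ⟶ Y.obj),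
          AlgSp.Points.ofPt α (IsLocalRing.closedPoint B) = x →
          α ≫ f.hom = (AlgSp.yon S).map
            (Over.homMk (Spec.map (CommRingCat.ofHom π)) :
              Over.mk (Spec.map (CommRingCat.ofHom π) ≫ s) ⟶ Over.mk s) ≫ β →
          ∃ γ : (AlgSp.yon S).obj (Over.mk s) ⟶ X.obj,
            (AlgSp.yon S).map (Over.homMk (Spec.map (CommRingCat.ofHom π)) :
              Over.mk (Spec.map (CommRingCat.ofHom π) ≫ s) ⟶ Over.mk s) ≫ γ = α ∧ γ ≫ f.hom = β) := by
  have key : ∀ (B' B : Type u) [CommRing B'] [CommRing B] [IsLocalRing B'] [IsLocalRing B] (π : B' →+* B),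
      (∃ t : B', RingHom.ker π = Ideal.span {t} ∧ ∀ a ∈ IsLocalRing.maximalIdeal B', a * t = 0) →
      RingHom.ker π ^ 2 = ⊥ := by
    intro B' B _ _ _ _ π ⟨t, ht, hm⟩
    have htm : t ∈ IsLocalRing.maximalIdeal B' :=
      IsLocalRing.le_maximalIdeal (RingHom.ker_ne_top π) (ht ▸ Ideal.mem_span_singleton_self t)
    rw [ht, Ideal.span_singleton_pow, Ideal.span_singleton_eq_bot, pow_two]
    exact hm t htm
  have h31 : (∀ (B' B : Type u) [CommRing B'] [CommRing B] [IsLocalRing B'] [IsLocalRing B]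
      [IsArtinianRing B'] [IsArtinianRing B] (π : B' →+* B), Function.Surjective π →
      (∃ t : B', RingHom.ker π = Ideal.span {t} ∧ ∀ a ∈ IsLocalRing.maximalIdeal B', a * t = 0) →
      ∀ (s : Spec (CommRingCat.of B') ⟶ S)
        (α : (yon S).obj (Over.mk (Spec.map (CommRingCat.ofHom π) ≫ s)) ⟶ X.obj)
        (β : (yon S).obj (Over.mk s) ⟶ Y.obj),
        Points.ofPt α (IsLocalRing.closedPoint B) = x →
        α ≫ f.hom = (yon S).map (Over.homMk (Spec.map (CommRingCat.ofHom π)) :
          Over.mk (Spec.map (CommRingCat.ofHom π) ≫ s) ⟶ Over.mk s) ≫ β →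
        ∃ γ : (yon S).obj (Over.mk s) ⟶ X.obj, (yon S).map (Over.homMk (Spec.map (CommRingCat.ofHom π)) :
          Over.mk (Spec.map (CommRingCat.ofHom π) ≫ s) ⟶ Over.mk s) ≫ γ = α ∧ γ ≫ f.hom = β) →
      HasAtMor (fun U _ h u => ∃ W : U.Opens, u ∈ W ∧ Smooth (W.ι ≫ h)) f.hom x := by
    intro H
    obtain ⟨U, V, a, b, h, u, ha, hb, c, rfl⟩ := exists_chart_at X.property Y.property f.hom x
    refine ⟨U, V, a, b, h, u, ha, hb, c, rfl, ?_⟩
    exact exists_smooth_nhd_of_lift X.property Y.property hY hft ha hb c u (Q := fun _ => True)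
      (fun _ _ _ _ => trivial)
      (fun B' B _ _ _ _ _ _ π hπ ht s α β hα _ hc => H B' B π hπ ht s α β hα hc)
      (fun _ _ _ _ _ _ _ _ => trivial)
  refine ⟨⟨fun h B' B _ _ _ _ π hπ hk s α β hα hc =>
      exists_lift_of_smooth_at X.property Y.property h B' B π hπ hk s α β hα hc,
    fun H => h31 fun B' B _ _ _ _ _ _ π hπ ht => H B' B π hπ (key B' B π ht)⟩,
    fun h B' B _ _ _ _ _ _ π hπ ht s α β hα hc =>
      exists_lift_of_smooth_at X.property Y.property h B' B π hπ (key B' B π ht) s α β hα hc, h31⟩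
end Groth.Agent.S10608
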