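import Groth.Agent.Lib.AlgSp.FlatLocusBC
import Groth.Statements.S10609
-- import your own Groth.Agent.* helpers here

set_option autoImplicit false
universe u
open CategoryTheory CategoryTheory.Limits AlgebraicGeometry
open AlgSp

namespace Groth.Agent.S10609

/-- Let f : X ⟶ Y and h : Y ⟶ Z be morphisms of algebraic spaces over S with X locally of finite
presentation and flat over Z and Y locally of finite type over Z. Then the set of points of X at
which f is flat is open in the space of points of X, and its formation commutes with base change: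
for Z' ⟶ Z and pullback squares Y' = Y ×_Z Z', X' = X ×_Y Y', the set of points of X' at which X' ⟶
Y' is flat is the inverse image of that set under the map on points of X' ⟶ X. -/
theorem result {S : Scheme.{u}} {X Y Z : AlgSp.Space S} (f : X ⟶ Y) (h : Y ⟶ Z)
    (hfp : AlgSp.LocP @LocallyOfFinitePresentation (f ≫ h).hom) (hfl : AlgSp.LocP @Flat (f ≫ h).hom)
    (hft : AlgSp.LocP @LocallyOfFiniteType h.hom) :
    IsOpen {x : AlgSp.Points X.obj | AlgSp.IsFlatAtMor f.hom x} ∧
    ∀ (X' Y' Z' : AlgSp.Space S) (g : Z' ⟶ Z) (f' : X' ⟶ Y') (h' : Y' ⟶ Z') (pX : X' ⟶ X) (pY : Y' ⟶ Y),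
      IsPullback pY.hom h'.hom h.hom g.hom → IsPullback pX.hom f'.hom f.hom pY.hom →
      {x' : AlgSp.Points X'.obj | AlgSp.IsFlatAtMor f'.hom x'} =
        AlgSp.Points.map pX.hom ⁻¹' {x : AlgSp.Points X.obj | AlgSp.IsFlatAtMor f.hom x} := by
  obtain ⟨U, V, W, a, b, c, u, v, ae, as, be, bs, ce, e₁, e₂, e⟩ :=
    GrothLib.AlgSp.exists_chart_triple X.property Y.property Z.property f.hom h.hom
  have : LocallyOfFinitePresentation (u.left ≫ v.left) := hfp _ _ _ ae ce e
  have : Flat (u.left ≫ v.left) := hfl _ _ _ ae ce e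
  have : LocallyOfFiniteType v.left := hft _ _ _ be ce e₂
  have hu : LocallyOfFinitePresentation u.left :=
    GrothLib.DiagGrp.lfp_of_comp_of_lft u.left v.left ‹_› ‹_›
  refine ⟨?_, fun X' Y' Z' g f' h' pX pY hY hX => ?_⟩
  · rw [← (GrothLib.AlgSp.isOpenQuotientMap_ofPt ae as).isQuotientMap.isOpen_preimage]
    have : Points.ofPt a ⁻¹' {x | AlgSp.IsFlatAtMor f.hom x} = {x | (u.left.stalkMap x).hom.Flat} :=
      Set.ext fun x => GrothLib.AlgSp.isFlatAtMor_iff_chart ae be e₁ x
    rw [this]
    exact GrothLib.FibreFlat.isOpen_flat_stalkMap u.left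
  · ext x
    have sq : IsPullback pX.hom (f'.hom ≫ h'.hom) (f.hom ≫ h.hom) g.hom := hX.paste_vert hY
    obtain ⟨W', c', m, hc', ec, H⟩ := GrothLib.AlgSp.exists_bc_chart_point X'.property Z.property Z'.property
      sq ae as ce e
    obtain ⟨x₀, a', ha', ha'f, ha's, rfl⟩ := H x
    have sY : IsPullback pY.hom h'.hom h.hom g.hom := hY
    have sQ := IsPullback.of_hasPullback h'.hom c'
    have sQ' : IsPullback (pullback.fst h'.hom c' ≫ pY.hom) (pullback.snd h'.hom c') h.hom
        ((AlgSp.yon S).map m ≫ c) := by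
      rw [← ec]; exact sQ.paste_horiz sY
    obtain ⟨b', hb', hb's, hb'f⟩ := GrothLib.AlgSp.etale_chart_baseChange be ce e₂ m sQ'
    have hw : (pullback.fst (u ≫ v) m ≫ u) ≫ v = pullback.snd (u ≫ v) m ≫ m := by
      rw [Category.assoc]; exact pullback.condition
    let φ : pullback (u ≫ v) m ⟶ pullback v m := pullback.lift _ _ hw
    have eb : AlgSp.RepWith @Etale (b' ≫ pullback.fst h'.hom c') :=
      GrothLib.AlgSp.repWith_comp hb' (GrothLib.AlgSp.repWith_of_isPullback sQ.flip hc')
    have hφ : a' ≫ f'.hom = (AlgSp.yon S).map φ ≫ b' ≫ pullback.fst h'.hom c' := by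
      refine hY.hom_ext ?_ ?_
      · rw [Category.assoc, ← hX.w, ← Category.assoc, ha'f, Category.assoc, e₁, Category.assoc, Category.assoc,
          hb'f, ← Category.assoc, ← Category.assoc, ← Functor.map_comp, ← Functor.map_comp, pullback.lift_fst]
      · rw [Category.assoc, ha's, Category.assoc, Category.assoc, sQ.w, ← Category.assoc b', hb's,
          ← Category.assoc, ← Functor.map_comp, pullback.lift_snd]
    have sk := GrothLib.AlgSp.isPullback_left (IsPullback.of_hasPullback v m)
    have sp : IsPullback (pullback.fst (u ≫ v) m).left φ.left u.left (pullback.fst v m).left := by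
      refine IsPullback.of_bot ?_ ?_ sk
      · rw [← Over.comp_left, pullback.lift_snd, ← Over.comp_left]
        exact GrothLib.AlgSp.isPullback_left (IsPullback.of_hasPullback (u ≫ v) m)
      · rw [← Over.comp_left, ← Over.comp_left, pullback.lift_fst]
    have hpt : AlgSp.Points.map pX.hom (AlgSp.Points.ofPt a' x₀) =
        AlgSp.Points.ofPt a ((pullback.fst (u ≫ v) m).left x₀) := by
      rw [AlgSp.Points.map_ofPt, ha'f, GrothLib.AlgSp.ofPt_map_comp]
    show AlgSp.IsFlatAtMor f'.hom _ ↔ AlgSp.IsFlatAtMor f.hom _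
    rw [hpt, GrothLib.AlgSp.isFlatAtMor_iff_chart ha' eb hφ, GrothLib.AlgSp.isFlatAtMor_iff_chart ae be e₁]
    exact (GrothLib.AlgSp.flat_stalk_bc_iff sp sk x₀).symm

end Groth.Agent.S10609
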