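import Groth.Statements.S10612
import Groth.Agent.Lib.AlgSp.NormExists
-- import your own Groth.Agent.* helpers here

set_option autoImplicit false
universe u
open CategoryTheory CategoryTheory.Limits AlgebraicGeometry
open AlgSp GrothLib.AlgSp
set_option backward.isDefEq.respectTransparency false

namespace Groth.Agent.S10612

/-- Normalization commutes with smooth base change. Let f₁ : Y₁ ⟶ X₁ be a quasi-compact and
quasi-separated morphism of algebraic spaces over S, φ : X₂ ⟶ X₁ a smooth morphism, Y₂ = X₂ ×_{X₁}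
Y₁ with projection f₂ : Y₂ ⟶ X₂, and Y₁ ⟶ X₁' ⟶ X₁ the normalization of X₁ in Y₁. Then the base
change P = X₂ ×_{X₁} X₁' ⟶ X₂ together with the induced morphism Y₂ ⟶ P is the normalization of X₂
in Y₂ (all fibre products as pullback squares of fppf sheaves with algebraic corners). -/
theorem result {S : Scheme.{u}} {X₁ X₂ Y₁ Y₂ X₁' P : AlgSp.Space S}
    (f₁ : Y₁ ⟶ X₁) (φ : X₂ ⟶ X₁) (f₂ : Y₂ ⟶ X₂) (ψ : Y₂ ⟶ Y₁) (hsq : IsPullback ψ.hom f₂.hom f₁.hom φ.hom)
    (hqc : AlgSp.IsQuasiCompactMor f₁.hom) (hqs : AlgSp.IsQuasiSeparatedMor f₁.hom) (hφ : AlgSp.LocP @Smooth φ.hom)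
    (ν₁ : X₁' ⟶ X₁) (f₁' : Y₁ ⟶ X₁') (hn : AlgSp.IsRelNormalization f₁.hom ν₁.hom f₁'.hom)
    (ν₂ : P ⟶ X₂) (ρ : P ⟶ X₁') (hP : IsPullback ρ.hom ν₂.hom ν₁.hom φ.hom)
    (f₂' : Y₂ ⟶ P) (w₁ : f₂' ≫ ν₂ = f₂) (w₂ : f₂' ≫ ρ = ψ ≫ f₁') :
    AlgSp.IsRelNormalization f₂.hom ν₂.hom f₂'.hom := by
  have hX₁ := X₁.property
  have hX₂ := X₂.property
  have hY₁ := Y₁.property
  have h := univNorm_of_isRelNormalization hX₁ hY₁ hqc hqs X₁'.property hn
  have hc : f₂'.hom ≫ ν₂.hom = f₂.hom := congrArg InducedCategory.Hom.hom w₁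
  have hb : f₂'.hom ≫ ρ.hom = ψ.hom ≫ f₁'.hom := congrArg InducedCategory.Hom.hom w₂
  have hν : IsIntegralMor ν₂.hom := isIntegralMor_iff.2 (repWith_of_isPullback hP (isIntegralMor_iff.1 h.2.1))
  obtain ⟨ι, W, r, hW, hr, hcov, -⟩ := exists_affine_charts hX₁
  choose κ W' r' hW' hr' hcov' _h using fun i =>
    exists_affine_charts (isAlgSpace_pullback' hX₁ hX₂ (IsAlgSpace.yon_obj (W i)) φ.hom (r i))
  have hfe : ∀ i, RepWith @Etale (pullback.fst φ.hom (r i)) := fun i =>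
    repWith_of_isPullback (IsPullback.of_hasPullback φ.hom (r i)).flip (hr i)
  refine (univNorm_of_cover hX₂ hc hν (ι := Σ i, κ i) (fun p => W' p.1 p.2)
    (fun p => r' p.1 p.2 ≫ pullback.fst φ.hom (r p.1)) (fun p => repWith_comp (hr' p.1 p.2) (hfe p.1)) ?_ ?_
    ).isRelNormalization hX₂
  · intro x
    obtain ⟨i, w, hw⟩ := hcov (Points.map φ.hom x)
    rw [Points.ofPt_eq_map_ofScheme] at hw
    obtain ⟨z, hz, -⟩ := exists_of_isPullback (IsPullback.of_hasPullback φ.hom (r i)) hw.symm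
    obtain ⟨j, w', hw'⟩ := hcov' i z
    exact ⟨⟨i, j⟩, w', by rw [← Points.map_ofPt, hw', hz]⟩
  intro p T t hT ht
  obtain ⟨i, j⟩ := p
  refine IsGoodAt.of_isPullback hsq hP hb ?_
  obtain ⟨g, hg⟩ := (yon S).map_surjective (r' i j ≫ pullback.snd φ.hom (r i))
  have hgc : (r' i j ≫ pullback.fst φ.hom (r i)) ≫ φ.hom = (yon S).map g ≫ r i := by
    rw [hg, Category.assoc, pullback.condition, Category.assoc]
  have hgs : Smooth g.left := hφ _ (r i) g (repWith_comp (hr' i j) (hfe i)) (hr i) hgc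
  have e : ((yon S).map t ≫ r' i j ≫ pullback.fst φ.hom (r i)) ≫ φ.hom = (yon S).map (t ≫ g) ≫ r i := by
    rw [Category.assoc, hgc, Functor.map_comp, Category.assoc]
  rw [e]
  -- the base change to the chart
  obtain ⟨M, bM, μ, sqM⟩ := exists_isPullback_of_representable (isIntegralMor_iff.1 h.2.1).1 (r i)
  have sqF := IsPullback.of_hasPullback f₁.hom (r i)
  have hF := isAlgSpace_pullback' hX₁ hY₁ (IsAlgSpace.yon_obj (W i)) f₁.hom (r i)
  have hwN : (pullback.fst f₁.hom (r i) ≫ f₁'.hom) ≫ ν₁.hom = pullback.snd f₁.hom (r i) ≫ r i := by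
    rw [Category.assoc, h.1, sqF.w]
  obtain ⟨φ', h₁, h₂⟩ : ∃ q : pullback f₁.hom (r i) ⟶ (yon S).obj M,
      q ≫ bM = pullback.fst f₁.hom (r i) ≫ f₁'.hom ∧ q ≫ (yon S).map μ = pullback.snd f₁.hom (r i) :=
    ⟨sqM.lift _ _ hwN, sqM.lift_fst _ _ _, sqM.lift_snd _ _ _⟩
  have hV := IsAlgSpace.yon_obj (S := S) (W i)
  have h' := (h.of_isPullback (isEtaleMor_of_repWith _ (hr i)) sqF sqM h₁ h₂).isRelNormalization hV
  haveI := hW i
  obtain ⟨M₀, μ₀, φ₀, hu, hgood⟩ := exists_univNorm_affine_smooth hF (pullback.snd f₁.hom (r i))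
    (isQuasiCompactMor_of_isPullback' sqF hqc) (isQuasiSeparatedMor_of_isPullback' sqF hqs)
  obtain ⟨e', he₁, he₂⟩ := isRelNormalization_iso (hu.isRelNormalization hV) h'
    (IsAlgSpace.yon_obj M₀) (IsAlgSpace.yon_obj M)
  have hs : Smooth (t ≫ g).left := by
    haveI := ht
    haveI := hgs
    exact inferInstanceAs (Smooth (t.left ≫ g.left))
  refine IsGoodAt.comp sqF sqM h₁ h₂ ?_
  have sq : IsPullback e'.inv ((yon S).map μ) ((yon S).map μ₀) (𝟙 _) := IsPullback.of_horiz_isIso ⟨by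
    rw [Category.comp_id, ← he₂, e'.inv_hom_id_assoc]⟩
  exact IsGoodAt.of_isPullback (IsPullback.of_horiz_isIso ⟨by rw [Category.comp_id, Category.id_comp]⟩ :
      IsPullback (𝟙 _) (pullback.snd f₁.hom (r i)) (pullback.snd f₁.hom (r i)) (𝟙 _)) sq
    (by rw [Category.id_comp, ← he₁, Category.assoc, e'.hom_inv_id, Category.comp_id])
    (by rw [Category.comp_id]; exact hgood hT _ hs)

end Groth.Agent.S10612
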