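import Groth.Agent.Lib.AlgSp.UnramMono
import Groth.Statements.S10613
-- import your own Groth.Agent.* helpers here

set_option autoImplicit false
universe u
open CategoryTheory CategoryTheory.Limits AlgebraicGeometry
open AlgSp

namespace Groth.Agent.S10613

/-- For a morphism f : X ⟶ Y of algebraic spaces over S, these four conditions on f are equivalent: (a)
unramified plus monomorphism; (b) unramified plus universally injective; (c) a monomorphism that is
locally of finite type; (d) universally injective, locally of finite type and formally unramified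
(lifting sense). In that case f is representable by schemes, separated and locally quasi-finite.
(Unramified is the etale-local condition locally of finite type and formally unramified on charts;
monomorphisms are taken in fppf sheaves.) -/
theorem result {S : Scheme.{u}} {X Y : AlgSp.Space S} (f : X ⟶ Y) :
    ((AlgSp.LocP (@LocallyOfFiniteType ⊓ @FormallyUnramified) f.hom ∧ Mono f.hom) ↔
      (AlgSp.LocP (@LocallyOfFiniteType ⊓ @FormallyUnramified) f.hom ∧ AlgSp.IsUnivInjectiveMor f.hom)) ∧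
    ((AlgSp.LocP (@LocallyOfFiniteType ⊓ @FormallyUnramified) f.hom ∧ Mono f.hom) ↔
      (AlgSp.LocP @LocallyOfFiniteType f.hom ∧ Mono f.hom)) ∧
    ((AlgSp.LocP (@LocallyOfFiniteType ⊓ @FormallyUnramified) f.hom ∧ Mono f.hom) ↔
      (AlgSp.IsUnivInjectiveMor f.hom ∧ AlgSp.LocP @LocallyOfFiniteType f.hom ∧ AlgSp.IsFormallyUnramifiedMor f.hom)) ∧
    (AlgSp.LocP @LocallyOfFiniteType f.hom ∧ Mono f.hom →
      AlgSp.Representable f.hom ∧ AlgSp.IsSeparatedMor f.hom ∧
        AlgSp.LocP (@LocallyQuasiFinite ⊓ @LocallyOfFiniteType) f.hom) := by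
  have hX := X.property
  have hY := Y.property
  have lft : AlgSp.LocP (@LocallyOfFiniteType ⊓ @FormallyUnramified) f.hom → AlgSp.LocP @LocallyOfFiniteType f.hom :=
    fun h => GrothLib.AlgSp.locP_mono (fun A B g hg => hg.1) h
  have fu : AlgSp.LocP (@LocallyOfFiniteType ⊓ @FormallyUnramified) f.hom → AlgSp.IsFormallyUnramifiedMor f.hom :=
    fun h => (GrothLib.AlgSp.fu_iff_locP hX hY).2 (GrothLib.AlgSp.locP_mono (fun A B g hg => hg.2) h)
  refine ⟨?_, ?_, ?_, ?_⟩
  · exact ⟨fun ⟨h, h'⟩ => have := h'; ⟨h, GrothLib.AlgSp.isUnivInjectiveMor_of_mono _⟩,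
      fun ⟨h, h'⟩ => ⟨h, (GrothLib.AlgSp.mono_of_unramified_univInjective hX hY h h')⟩⟩
  · exact ⟨fun ⟨h, h'⟩ => ⟨lft h, h'⟩, fun ⟨h, h'⟩ => have := h'; ⟨GrothLib.AlgSp.unramified_of_mono h, h'⟩⟩
  · refine ⟨fun ⟨h, h'⟩ => have := h'; ⟨GrothLib.AlgSp.isUnivInjectiveMor_of_mono _, lft h, fu h⟩,
      fun ⟨h₁, h₂, h₃⟩ => ?_⟩
    have hu : AlgSp.LocP (@LocallyOfFiniteType ⊓ @FormallyUnramified) f.hom := fun U V a b h ha hb c =>
      ⟨h₂ a b h ha hb c, (GrothLib.AlgSp.fu_iff_locP hX hY).1 h₃ a b h ha hb c⟩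
    exact ⟨hu, GrothLib.AlgSp.mono_of_unramified_univInjective hX hY hu h₁⟩
  · rintro ⟨h, h'⟩
    have := h'
    exact ⟨GrothLib.AlgSp.representable_of_lft_mono hX hY h, GrothLib.AlgSp.isSeparatedMor_of_mono,
      GrothLib.AlgSp.locP_lqf_of_unramified (GrothLib.AlgSp.unramified_of_mono h)⟩

end Groth.Agent.S10613
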