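import Groth.Agent.Lib.AlgSp.UnramMono
import Groth.Statements.S10614
-- import your own Groth.Agent.* helpers here

set_option autoImplicit false
universe u
open CategoryTheory CategoryTheory.Limits AlgebraicGeometry
open AlgSp

namespace Groth.Agent.S10614

/-- For a morphism f : X ⟶ Y of algebraic spaces over S, being a closed immersion (representable by
closed immersions) is equivalent to each of: (a) universally closed plus unramified plus
monomorphism; (b) universally closed plus unramified plus universally injective; (c) a universally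
closed monomorphism that is locally of finite type; (d) universally closed, universally injective,
locally of finite type and formally unramified (lifting sense). (Unramified is the etale-local
condition locally of finite type and formally unramified on charts; monomorphisms are taken in fppf
sheaves.) -/
theorem result {S : Scheme.{u}} {X Y : AlgSp.Space S} (f : X ⟶ Y) :
    (AlgSp.RepWith @IsClosedImmersion f.hom ↔
      (AlgSp.IsUnivClosedMor f.hom ∧ AlgSp.LocP (@LocallyOfFiniteType ⊓ @FormallyUnramified) f.hom ∧ Mono f.hom)) ∧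
    (AlgSp.RepWith @IsClosedImmersion f.hom ↔
      (AlgSp.IsUnivClosedMor f.hom ∧ AlgSp.LocP (@LocallyOfFiniteType ⊓ @FormallyUnramified) f.hom ∧ AlgSp.IsUnivInjectiveMor f.hom)) ∧
    (AlgSp.RepWith @IsClosedImmersion f.hom ↔
      (AlgSp.IsUnivClosedMor f.hom ∧ AlgSp.LocP @LocallyOfFiniteType f.hom ∧ Mono f.hom)) ∧
    (AlgSp.RepWith @IsClosedImmersion f.hom ↔
      (AlgSp.IsUnivClosedMor f.hom ∧ AlgSp.IsUnivInjectiveMor f.hom ∧ AlgSp.LocP @LocallyOfFiniteType f.hom ∧
        AlgSp.IsFormallyUnramifiedMor f.hom)) := by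
  have hX := X.property
  have hY := Y.property
  rw [GrothLib.AlgSp.isClosedImmersion_iff hX hY]
  have lft : AlgSp.LocP (@LocallyOfFiniteType ⊓ @FormallyUnramified) f.hom → AlgSp.LocP @LocallyOfFiniteType f.hom :=
    fun h => GrothLib.AlgSp.locP_mono (fun A B g hg => hg.1) h
  have fu : AlgSp.LocP (@LocallyOfFiniteType ⊓ @FormallyUnramified) f.hom → AlgSp.IsFormallyUnramifiedMor f.hom :=
    fun h => (GrothLib.AlgSp.fu_iff_locP hX hY).2 (GrothLib.AlgSp.locP_mono (fun A B g hg => hg.2) h)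
  refine ⟨?_, ?_, ?_, ?_⟩
  · exact ⟨fun ⟨a, b, c⟩ => have := b; ⟨a, GrothLib.AlgSp.unramified_of_mono c, b⟩,
      fun ⟨a, b, c⟩ => ⟨a, c, lft b⟩⟩
  · exact ⟨fun ⟨a, b, c⟩ => have := b; ⟨a, GrothLib.AlgSp.unramified_of_mono c,
      GrothLib.AlgSp.isUnivInjectiveMor_of_mono _⟩,
      fun ⟨a, b, c⟩ => ⟨a, GrothLib.AlgSp.mono_of_unramified_univInjective hX hY b c, lft b⟩⟩
  · exact ⟨fun ⟨a, b, c⟩ => ⟨a, c, b⟩, fun ⟨a, b, c⟩ => ⟨a, c, b⟩⟩
  · refine ⟨fun ⟨a, b, c⟩ => have := b; ⟨a, GrothLib.AlgSp.isUnivInjectiveMor_of_mono _, c,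
      fu (GrothLib.AlgSp.unramified_of_mono c)⟩, fun ⟨a, h₁, h₂, h₃⟩ => ?_⟩
    have hu : AlgSp.LocP (@LocallyOfFiniteType ⊓ @FormallyUnramified) f.hom := fun U V a b h ha hb c =>
      ⟨h₂ a b h ha hb c, (GrothLib.AlgSp.fu_iff_locP hX hY).1 h₃ a b h ha hb c⟩
    exact ⟨a, GrothLib.AlgSp.mono_of_unramified_univInjective hX hY hu h₁, h₂⟩

end Groth.Agent.S10614
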