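import Groth.Agent.Lib.AlgSp.FormalLiftSpace
import Groth.Statements.S10618
-- import your own Groth.Agent.* helpers here

set_option autoImplicit false
universe u
open CategoryTheory CategoryTheory.Limits AlgebraicGeometry
open AlgSp

namespace Groth.Agent.S10618

/-- Let a : F ⟶ G and b : G ⟶ H be morphisms of fppf sheaves on (Sch/S) with b formally unramified. If a
≫ b is formally unramified, resp. formally etale, resp. formally smooth, then so is a. (The
published statement is for transformations of arbitrary presheaves of sets on (Sch/S)_fppf; this row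
takes fppf sheaves, the case of algebraic spaces.) -/
theorem result {S : Scheme.{u}} {F G H : AlgSp.Sp S} (a : F ⟶ G) (b : G ⟶ H)
    (hb : AlgSp.IsFormallyUnramifiedMor b) :
    (AlgSp.IsFormallyUnramifiedMor (a ≫ b) → AlgSp.IsFormallyUnramifiedMor a) ∧
    (AlgSp.IsFormallyEtaleMor (a ≫ b) → AlgSp.IsFormallyEtaleMor a) ∧
    (AlgSp.IsFormallySmoothMor (a ≫ b) → AlgSp.IsFormallySmoothMor a) := by
  exact ⟨GrothLib.AlgSp.fu_of_comp, GrothLib.AlgSp.fe_of_comp hb, GrothLib.AlgSp.fs_of_comp hb⟩

end Groth.Agent.S10618
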