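import Groth.Agent.Lib.AlgSp.FormalLiftSpace
import Groth.Statements.S10625
-- import your own Groth.Agent.* helpers here

set_option autoImplicit false
universe u
open CategoryTheory CategoryTheory.Limits AlgebraicGeometry
open AlgSp

namespace Groth.Agent.S10625

/-- Take a formally etale morphism f : X ⟶ Y of algebraic spaces over S and let j : T ⟶ T' be a first
order thickening of algebraic spaces (not necessarily affine schemes) with a : T ⟶ X, b : T' ⟶ Y and
a ≫ f = j ≫ b. Then there is exactly one l : T' ⟶ X with j ≫ l = a and l ≫ f = b. -/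
theorem result {S : Scheme.{u}} {X Y : AlgSp.Space S} (f : X ⟶ Y)
    (hf : AlgSp.IsFormallyEtaleMor f.hom) {T T' : AlgSp.Space S} (j : T ⟶ T') (hj : AlgSp.IsFOThickMor j.hom)
    (a : T ⟶ X) (b : T' ⟶ Y) (w : a ≫ f = j ≫ b) :
    ∃! l : T' ⟶ X, j ≫ l = a ∧ l ≫ f = b := by
  obtain ⟨l, ⟨h1, h2⟩, hu⟩ := GrothLib.AlgSp.existsUnique_lift_thick hf T'.property hj a.hom b.hom
    (congrArg InducedCategory.Hom.hom w)
  refine ⟨ObjectProperty.homMk l, ⟨?_, ?_⟩, fun l' hl' => ?_⟩
  · ext : 1; exact h1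
  · ext : 1; exact h2
  · ext : 1
    exact hu l'.hom ⟨congrArg InducedCategory.Hom.hom hl'.1, congrArg InducedCategory.Hom.hom hl'.2⟩

end Groth.Agent.S10625
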