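import Groth.Agent.Lib.AlgSp.FormalLiftSpace
import Groth.Statements.S10628
-- import your own Groth.Agent.* helpers here

set_option autoImplicit false
universe u
open CategoryTheory CategoryTheory.Limits AlgebraicGeometry
open AlgSp

namespace Groth.Agent.S10628

/-- Take a formally smooth morphism f : X ⟶ Y of algebraic spaces over S, and let p : U ⟶ X and q : V ⟶
Y be etale morphisms of algebraic spaces with ψ : U ⟶ V such that ψ ≫ q = p ≫ f. Then ψ is formally
smooth. -/
theorem result {S : Scheme.{u}} {X Y U V : AlgSp.Space S} (f : X ⟶ Y)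
    (hf : AlgSp.IsFormallySmoothMor f.hom) (p : U ⟶ X) (q : V ⟶ Y) (hp : AlgSp.IsEtaleMor p.hom) (hq : AlgSp.IsEtaleMor q.hom)
    (ψ : U ⟶ V) (w : ψ ≫ q = p ≫ f) : AlgSp.IsFormallySmoothMor ψ.hom := by
  refine GrothLib.AlgSp.fs_of_comp
    (GrothLib.AlgSp.fu_of_fe (GrothLib.AlgSp.fe_of_isEtaleMor V.property Y.property hq)) ?_
  have e : ψ.hom ≫ q.hom = p.hom ≫ f.hom := congrArg InducedCategory.Hom.hom w
  rw [e]
  exact GrothLib.AlgSp.fs_comp
    (GrothLib.AlgSp.fs_of_fe (GrothLib.AlgSp.fe_of_isEtaleMor U.property X.property hp)) hf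

end Groth.Agent.S10628
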