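import Groth.Agent.Lib.AlgSp.FormalLiftSpace
import Groth.Statements.S10631
-- import your own Groth.Agent.* helpers here

set_option autoImplicit false
universe u
open CategoryTheory CategoryTheory.Limits AlgebraicGeometry
open AlgSp

namespace Groth.Agent.S10631

/-- Consider morphisms Z ⟶ Y ⟶ X of algebraic spaces over S. If (i : Z ⟶ Z', h' : Z' ⟶ Y) is, over Y, a
universal first order thickening of Z and g : Y ⟶ X is formally etale, then (i, h' ≫ g) is, over X,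
a universal first order thickening of Z. -/
theorem result {S : Scheme.{u}} {Z Z' Y X : AlgSp.Space S} (hZ : Z ⟶ Y) (g : Y ⟶ X)
    (i : Z ⟶ Z') (h' : Z' ⟶ Y) (HU : AlgSp.IsUnivFOThick hZ.hom i.hom h'.hom) (hg : AlgSp.IsFormallyEtaleMor g.hom) :
    AlgSp.IsUnivFOThick (hZ ≫ g).hom i.hom (h' ≫ g).hom := by
  obtain ⟨hi, hih, hu⟩ := HU
  refine ⟨hi, ?_, fun T T' hT hT' j a b hj w => ?_⟩
  · show i.hom ≫ h'.hom ≫ g.hom = hZ.hom ≫ g.hom
    rw [← hih, Category.assoc]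
  have w' : j ≫ b = a ≫ hZ.hom ≫ g.hom := w
  obtain ⟨b', ⟨hb, hbg⟩, hbu⟩ := GrothLib.AlgSp.existsUnique_lift_thick hg hT' hj (a ≫ hZ.hom) b
    (by rw [Category.assoc, w'])
  obtain ⟨a', ⟨h1, h2⟩, hau⟩ := hu hT hT' j a b' hj hb
  refine ⟨a', ⟨h1, ?_⟩, fun a'' h => hau a'' ⟨h.1, ?_⟩⟩
  · show a' ≫ h'.hom ≫ g.hom = b
    rw [← Category.assoc, h2, hbg]
  · refine hbu _ ⟨?_, ?_⟩
    · rw [← Category.assoc, h.1, Category.assoc, hih]
    · rw [Category.assoc]; exact h.2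

end Groth.Agent.S10631
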