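import Groth.Agent.Lib.AlgSp.WhereUnramInj
import Groth.Agent.Lib.AlgSp.UnivClosed
import Groth.Statements.S10641
-- import your own Groth.Agent.* helpers here

set_option autoImplicit false
universe u
open CategoryTheory CategoryTheory.Limits AlgebraicGeometry
open AlgSp

namespace Groth.Agent.S10641

/-- For morphisms f : X ⟶ Y, p : X ⟶ Z and q : Y ⟶ Z of algebraic spaces over S with f ≫ q = p, where p
is universally closed and locally of finite type and q is separated, there is an open subspace W of
Z with the following property: a morphism of algebraic spaces g : Z' ⟶ Z factors through W exactly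
when the base change X' ⟶ Y' of f along g is a closed immersion (representable, and a closed
immersion on every represented pullback). Here the base change of f along g is any f' : X' ⟶ Y'
obtained from pullback squares Y' = Y ×_Z Z' and X' = X ×_Y Y' of algebraic spaces over S, and W ⊂ Z
is given as a representable open immersion w : W ⟶ Z. -/
theorem result {S : Scheme.{u}} {X Y Z : AlgSp.Space S}
    (f : X ⟶ Y) (p : X ⟶ Z) (q : Y ⟶ Z) (hc : f ≫ q = p)
    (hp1 : AlgSp.LocP @LocallyOfFiniteType p.hom) (hp2 : AlgSp.IsUnivClosedMor p.hom)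
    (hq : AlgSp.IsSeparatedMor q.hom) :
    ∃ (W : AlgSp.Space S) (w : W ⟶ Z), AlgSp.RepWith @IsOpenImmersion w.hom ∧
      ∀ (Z' : AlgSp.Space S) (g : Z' ⟶ Z),
        (∃ k : Z' ⟶ W, k ≫ w = g) ↔
          ∀ (Y' : AlgSp.Space S) (gY : Y' ⟶ Y) (q' : Y' ⟶ Z'),
            IsPullback gY.hom q'.hom q.hom g.hom →
            ∀ (X' : AlgSp.Space S) (gX : X' ⟶ X) (f' : X' ⟶ Y'),
              IsPullback gX.hom f'.hom f.hom gY.hom →
                AlgSp.RepWith @IsClosedImmersion f'.hom := by
  have hfq : f.hom ≫ q.hom = p.hom := congrArg (fun k => k.hom) hc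
  have hf : AlgSp.IsUnivClosedMor f.hom :=
    GrothLib.AlgSp.univClosed_of_comp_separated X.property Y.property Z.property (g := q.hom) (hfq.symm ▸ hp2) hq
  let XX : AlgSp.Space S :=
    ⟨pullback f.hom f.hom, GrothLib.AlgSp.isAlgSpace_pullback' Y.property X.property X.property _ _⟩
  let pr0 : XX ⟶ X := ObjectProperty.homMk (pullback.fst f.hom f.hom)
  let pr1 : XX ⟶ X := ObjectProperty.homMk (pullback.snd f.hom f.hom)
  have hXX : IsPullback pr0.hom pr1.hom f.hom f.hom := IsPullback.of_hasPullback _ _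
  have hcl : AlgSp.IsUnivClosedMor (pr1 ≫ p).hom :=
    GrothLib.AlgSp.isUnivClosedMor_comp X.property Z.property (GrothLib.AlgSp.univSp_of_isPullback hXX hf) hp2
  obtain ⟨W, w, hw, hW⟩ := GrothLib.AlgSp.exists_open_where_unramified_univInjective f p q hc XX pr0 pr1 hXX hp1
    (hcl Z.property (𝟙 _) (𝟙 _) _ IsPullback.of_id_fst)
  have hfl : AlgSp.LocP @LocallyOfFiniteType f.hom :=
    GrothLib.AlgSp.EtLocal.locP_of_comp .lft (fun _ _ _ f g h => locallyOfFiniteType_of_comp f g)
      X.property Y.property Z.property (g := q.hom) (hfq.symm ▸ hp1)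
  refine ⟨W, w, hw, fun Z' g => (hW Z' g).trans ⟨fun h Y' gY q' sq1 X' gX f' sq2 => ?_,
    fun h Y' gY q' sq1 X' gX f' sq2 => ?_⟩⟩
  · obtain ⟨hu, hi⟩ := h Y' gY q' sq1 X' gX f' sq2
    have := GrothLib.AlgSp.mono_of_unramified_univInjective X'.property Y'.property hu hi
    exact GrothLib.AlgSp.repWith_isClosedImmersion_of X'.property Y'.property
      (GrothLib.AlgSp.univSp_of_isPullback sq2 hf)
      (GrothLib.AlgSp.EtLocal.lft.locP_of_isPullback X.property Y.property Y'.property sq2 hfl)
  · obtain ⟨-, hm, hl⟩ := (GrothLib.AlgSp.isClosedImmersion_iff X'.property Y'.property).1 (h Y' gY q' sq1 X' gX f' sq2)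
    exact ⟨GrothLib.AlgSp.unramified_of_mono hl, GrothLib.AlgSp.isUnivInjectiveMor_of_mono _⟩

end Groth.Agent.S10641
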