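import Groth.Agent.Lib.AlgSp.WhereLocus
import Groth.Agent.S10609
import Groth.Statements.S10642
-- import your own Groth.Agent.* helpers here

set_option autoImplicit false
universe u
open CategoryTheory CategoryTheory.Limits AlgebraicGeometry
open AlgSp

namespace Groth.Agent.S10642

/-- For morphisms f : X ⟶ Y, p : X ⟶ Z and q : Y ⟶ Z of algebraic spaces over S with f ≫ q = p, where p
is flat, closed and locally of finite presentation and q is locally of finite type, there is an open
subspace W of Z with the following property: a morphism of algebraic spaces g : Z' ⟶ Z factors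
through W exactly when the base change X' ⟶ Y' of f along g is flat. Here the base change of f along
g is any f' : X' ⟶ Y' obtained from pullback squares Y' = Y ×_Z Z' and X' = X ×_Y Y' of algebraic
spaces over S, and W ⊂ Z is given as a representable open immersion w : W ⟶ Z. -/
theorem result {S : Scheme.{u}} {X Y Z : AlgSp.Space S}
    (f : X ⟶ Y) (p : X ⟶ Z) (q : Y ⟶ Z) (hc : f ≫ q = p)
    (hp1 : AlgSp.LocP @LocallyOfFinitePresentation p.hom) (hp2 : AlgSp.LocP @Flat p.hom)
    (hp3 : AlgSp.IsClosedMor p.hom) (hq : AlgSp.LocP @LocallyOfFiniteType q.hom) :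
    ∃ (W : AlgSp.Space S) (w : W ⟶ Z), AlgSp.RepWith @IsOpenImmersion w.hom ∧
      ∀ (Z' : AlgSp.Space S) (g : Z' ⟶ Z),
        (∃ k : Z' ⟶ W, k ≫ w = g) ↔
          ∀ (Y' : AlgSp.Space S) (gY : Y' ⟶ Y) (q' : Y' ⟶ Z'),
            IsPullback gY.hom q'.hom q.hom g.hom →
            ∀ (X' : AlgSp.Space S) (gX : X' ⟶ X) (f' : X' ⟶ Y'),
              IsPullback gX.hom f'.hom f.hom gY.hom →
                AlgSp.LocP @Flat f'.hom := by
  have hfq : f.hom ≫ q.hom = p.hom := congrArg (fun k => k.hom) hc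
  obtain ⟨hU, hbc⟩ := Groth.Agent.S10609.result f q (by rw [hc]; exact hp1) (by rw [hc]; exact hp2) hq
  obtain ⟨W, w, hw, hW⟩ := GrothLib.AlgSp.exists_open_where p hp3 hU
  refine ⟨W, w, hw, fun Z' g => (hW Z' g).trans ⟨fun h Y' gY q' sq1 X' gX f' sq2 => ?_, fun h x z e => ?_⟩⟩
  · refine GrothLib.AlgSp.locP_flat_of_forall fun x' => ?_
    refine (hbc X' Y' Z' g f' q' gX gY sq1 sq2).symm.subset ?_
    refine h _ (AlgSp.Points.map (f'.hom ≫ q'.hom) x') ?_
    rw [← hfq, ← Points.map_comp, ← Points.map_comp, ← Category.assoc, sq2.w, Category.assoc, sq1.w, Category.assoc]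
  · let Y' : AlgSp.Space S := ⟨pullback q.hom g.hom, GrothLib.AlgSp.isAlgSpace_pullback' Z.property Y.property Z'.property _ _⟩
    let gY : Y' ⟶ Y := ObjectProperty.homMk (pullback.fst q.hom g.hom)
    let q' : Y' ⟶ Z' := ObjectProperty.homMk (pullback.snd q.hom g.hom)
    let X' : AlgSp.Space S := ⟨pullback f.hom gY.hom, GrothLib.AlgSp.isAlgSpace_pullback' Y.property X.property Y'.property _ _⟩
    let gX : X' ⟶ X := ObjectProperty.homMk (pullback.fst f.hom gY.hom)
    let f' : X' ⟶ Y' := ObjectProperty.homMk (pullback.snd f.hom gY.hom)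
    have sq2 : IsPullback gX.hom f'.hom f.hom gY.hom := IsPullback.of_hasPullback _ _
    have sq1 : IsPullback gY.hom q'.hom q.hom g.hom := IsPullback.of_hasPullback _ _
    obtain ⟨x', hx', -⟩ := GrothLib.AlgSp.exists_of_isPullback (sq2.paste_vert sq1) (x := x) (y := z) (hfq.symm ▸ e)
    rw [← hx']
    exact (hbc X' Y' Z' g f' q' gX gY sq1 sq2).subset
      (GrothLib.AlgSp.isFlatAtMor_of_locP (h Y' gY q' sq1 X' gX f' sq2) x')

end Groth.Agent.S10642
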