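import Groth.Agent.Lib.AlgSp.WhereLocus
import Groth.Agent.Lib.AlgSp.LocPPoints
import Groth.Agent.S10609
import Groth.Statements.S10643
-- import your own Groth.Agent.* helpers here

set_option autoImplicit false
universe u
open CategoryTheory CategoryTheory.Limits AlgebraicGeometry
open AlgSp

namespace Groth.Agent.S10643

/-- For morphisms f : X ⟶ Y, p : X ⟶ Z and q : Y ⟶ Z of algebraic spaces over S with f ≫ q = p, where p
is flat, closed and locally of finite presentation and q is closed and locally of finite type, there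
is an open subspace W of Z with the following property: a morphism of algebraic spaces g : Z' ⟶ Z
factors through W exactly when the base change X' ⟶ Y' of f along g is flat and surjective (on
points). Here the base change of f along g is any f' : X' ⟶ Y' obtained from pullback squares Y' = Y
×_Z Z' and X' = X ×_Y Y' of algebraic spaces over S, and W ⊂ Z is given as a representable open
immersion w : W ⟶ Z. -/
theorem result {S : Scheme.{u}} {X Y Z : AlgSp.Space S}
    (f : X ⟶ Y) (p : X ⟶ Z) (q : Y ⟶ Z) (hc : f ≫ q = p)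
    (hp1 : AlgSp.LocP @LocallyOfFinitePresentation p.hom) (hp2 : AlgSp.LocP @Flat p.hom)
    (hp3 : AlgSp.IsClosedMor p.hom) (hq1 : AlgSp.LocP @LocallyOfFiniteType q.hom)
    (hq2 : AlgSp.IsClosedMor q.hom) :
    ∃ (W : AlgSp.Space S) (w : W ⟶ Z), AlgSp.RepWith @IsOpenImmersion w.hom ∧
      ∀ (Z' : AlgSp.Space S) (g : Z' ⟶ Z),
        (∃ k : Z' ⟶ W, k ≫ w = g) ↔
          ∀ (Y' : AlgSp.Space S) (gY : Y' ⟶ Y) (q' : Y' ⟶ Z'),
            IsPullback gY.hom q'.hom q.hom g.hom →
            ∀ (X' : AlgSp.Space S) (gX : X' ⟶ X) (f' : X' ⟶ Y'),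
              IsPullback gX.hom f'.hom f.hom gY.hom →
                (AlgSp.IsSurjectiveMor f'.hom ∧ AlgSp.LocP @Flat f'.hom) := by
  have hfq : f.hom ≫ q.hom = p.hom := congrArg (fun k => k.hom) hc
  obtain ⟨hU, hbc⟩ := Groth.Agent.S10609.result f q (by rw [hc]; exact hp1) (by rw [hc]; exact hp2) hq1
  have hf : AlgSp.LocP @LocallyOfFinitePresentation f.hom := by
    obtain ⟨U, V, T, a, b, c, u, v, ae, as, be, bs, ce, e₁, e₂, e⟩ :=
      GrothLib.AlgSp.exists_chart_triple X.property Y.property Z.property f.hom q.hom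
    exact GrothLib.AlgSp.EtLocal.locP_of_chart .lfp ae as be e₁
      (GrothLib.DiagGrp.lfp_of_comp_of_lft u.left v.left (hp1 a c (u ≫ v) ae ce (by rw [← hfq]; exact e))
        (hq1 b c v be ce e₂))
  have hO : IsOpen (AlgSp.Points.map f.hom '' {x | AlgSp.IsFlatAtMor f.hom x}) := by
    obtain ⟨V, b, hb, hbs⟩ := Y.property.atlas
    obtain ⟨U, a, h, ha, c, has⟩ := GrothLib.AlgSp.exists_chart_over X.property Y.property f.hom b hb
    have : LocallyOfFinitePresentation h.left := hf a b h ha hb c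
    let O : U.left.Opens := ⟨{u | (h.left.stalkMap u).hom.Flat}, GrothLib.FibreFlat.isOpen_flat_stalkMap h.left⟩
    have : Flat (O.ι ≫ h.left) := Flat.of_stalkMap _ fun u =>
      GrothLib.AlgSp.flat_stalk_comp O.ι h.left u (Flat.stalkMap O.ι u) u.2
    have e : AlgSp.Points.map f.hom '' {x | AlgSp.IsFlatAtMor f.hom x} =
        AlgSp.Points.ofPt b '' Set.range (O.ι ≫ h.left) := by
      ext y
      constructor
      · rintro ⟨x, hx, rfl⟩
        obtain ⟨u, rfl⟩ := GrothLib.AlgSp.surjective_ofPt_of_repWith (has hbs) x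
        refine ⟨_, ⟨⟨u, (GrothLib.AlgSp.isFlatAtMor_iff_chart ha hb c u).1 hx⟩, rfl⟩, ?_⟩
        rw [Points.map_ofPt, c, GrothLib.AlgSp.ofPt_map_comp, Scheme.Hom.comp_apply]
        rfl
      · rintro ⟨_, ⟨u, rfl⟩, rfl⟩
        refine ⟨AlgSp.Points.ofPt a (O.ι u), (GrothLib.AlgSp.isFlatAtMor_iff_chart ha hb c _).2 u.2, ?_⟩
        rw [Points.map_ofPt, c, GrothLib.AlgSp.ofPt_map_comp, Scheme.Hom.comp_apply]
    rw [e]
    exact GrothLib.AlgSp.isOpenMap_ofPt_of_etale hb _ (O.ι ≫ h.left).isOpenMap.isOpen_range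
  let P : Set (AlgSp.Points Z.obj) := (AlgSp.Points.map p.hom '' {x | AlgSp.IsFlatAtMor f.hom x}ᶜ ∪
    AlgSp.Points.map q.hom '' (AlgSp.Points.map f.hom '' {x | AlgSp.IsFlatAtMor f.hom x})ᶜ)ᶜ
  have hP : IsOpen P := ((hp3 _ hU.isClosed_compl).union (hq2 _ hO.isClosed_compl)).isOpen_compl
  let W : AlgSp.Space S := ⟨GrothLib.AlgSp.openSub Z.obj P, GrothLib.AlgSp.isAlgSpace_openSub Z.property hP⟩
  refine ⟨W, ObjectProperty.homMk (GrothLib.AlgSp.openSubι Z.obj P), GrothLib.AlgSp.repWith_openSubι hP,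
    fun Z' g => ⟨?_, fun h => ?_⟩⟩
  · rintro ⟨k, hk⟩ Y' gY q' sq1 X' gX f' sq2
    have hg : ∀ z, AlgSp.Points.map g.hom z ∈ P := fun z => by
      have hk' : k.hom ≫ GrothLib.AlgSp.openSubι Z.obj P = g.hom := congrArg (fun m => m.hom) hk
      rw [← hk', Points.map_comp]
      exact GrothLib.AlgSp.range_openSubι.subset ⟨_, rfl⟩
    refine ⟨fun y' => ?_, GrothLib.AlgSp.locP_flat_of_forall fun x' => ?_⟩
    · obtain ⟨x, hx, e⟩ : AlgSp.Points.map gY.hom y' ∈ AlgSp.Points.map f.hom '' {x | AlgSp.IsFlatAtMor f.hom x} :=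
        by_contra fun hn => hg (AlgSp.Points.map q'.hom y') (Or.inr ⟨_, hn, by
          rw [← Points.map_comp, ← Points.map_comp, sq1.w]⟩)
      obtain ⟨x', -, hx'⟩ := GrothLib.AlgSp.exists_of_isPullback sq2 e
      exact ⟨x', hx'⟩
    · refine (hbc X' Y' Z' g f' q' gX gY sq1 sq2).symm.subset ?_
      by_contra hn
      refine hg (AlgSp.Points.map (f'.hom ≫ q'.hom) x') (Or.inl ⟨_, hn, ?_⟩)
      rw [← hfq, ← Points.map_comp, ← Points.map_comp, ← Category.assoc, sq2.w, Category.assoc, sq1.w, Category.assoc]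
  · let Y' : AlgSp.Space S := ⟨pullback q.hom g.hom, GrothLib.AlgSp.isAlgSpace_pullback' Z.property Y.property Z'.property _ _⟩
    let gY : Y' ⟶ Y := ObjectProperty.homMk (pullback.fst q.hom g.hom)
    let q' : Y' ⟶ Z' := ObjectProperty.homMk (pullback.snd q.hom g.hom)
    let X' : AlgSp.Space S := ⟨pullback f.hom gY.hom, GrothLib.AlgSp.isAlgSpace_pullback' Y.property X.property Y'.property _ _⟩
    let gX : X' ⟶ X := ObjectProperty.homMk (pullback.fst f.hom gY.hom)
    let f' : X' ⟶ Y' := ObjectProperty.homMk (pullback.snd f.hom gY.hom)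
    have sq2 : IsPullback gX.hom f'.hom f.hom gY.hom := IsPullback.of_hasPullback _ _
    have sq1 : IsPullback gY.hom q'.hom q.hom g.hom := IsPullback.of_hasPullback _ _
    obtain ⟨hs, hfl⟩ := h Y' gY q' sq1 X' gX f' sq2
    have hall : ∀ x', AlgSp.IsFlatAtMor f.hom (AlgSp.Points.map gX.hom x') := fun x' =>
      (hbc X' Y' Z' g f' q' gX gY sq1 sq2).subset (GrothLib.AlgSp.isFlatAtMor_of_locP hfl x')
    obtain ⟨k, hk⟩ := GrothLib.AlgSp.exists_factor_openSub g.hom (W := P) fun z hz => by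
      rcases hz with ⟨x, hx, e⟩ | ⟨y, hy, e⟩
      · obtain ⟨x', hx', -⟩ := GrothLib.AlgSp.exists_of_isPullback (sq2.paste_vert sq1) (x := x) (y := z)
          (hfq.symm ▸ e)
        exact hx (hx' ▸ hall x')
      · obtain ⟨y', hy', -⟩ := GrothLib.AlgSp.exists_of_isPullback sq1 (x := y) (y := z) e
        obtain ⟨x', rfl⟩ := hs y'
        refine hy ⟨_, hall x', ?_⟩
        rw [← hy', ← Points.map_comp, ← Points.map_comp, sq2.w]
    exact ⟨ObjectProperty.homMk k, InducedCategory.Hom.ext hk⟩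

end Groth.Agent.S10643
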