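import Groth.Agent.S10643
import Groth.Agent.S10641
import Groth.Agent.Lib.AlgSp.FlatMono
import Groth.Agent.Lib.AlgSp.LocP
import Mathlib.AlgebraicGeometry.Morphisms.FlatMono
import Groth.Statements.S10644
-- import your own Groth.Agent.* helpers here

set_option autoImplicit false
universe u
open CategoryTheory CategoryTheory.Limits AlgebraicGeometry
open AlgSp

namespace Groth.Agent.S10644

/-- For morphisms f : X ⟶ Y, p : X ⟶ Z and q : Y ⟶ Z of algebraic spaces over S with f ≫ q = p, where p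
is flat, universally closed and locally of finite presentation and q is closed, separated and
locally of finite type, there is an open subspace W of Z with the following property: a morphism of
algebraic spaces g : Z' ⟶ Z factors through W exactly when the base change X' ⟶ Y' of f along g is
an isomorphism. Here the base change of f along g is any f' : X' ⟶ Y' obtained from pullback squares
Y' = Y ×_Z Z' and X' = X ×_Y Y' of algebraic spaces over S, and W ⊂ Z is given as a representable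
open immersion w : W ⟶ Z. -/
theorem result {S : Scheme.{u}} {X Y Z : AlgSp.Space S}
    (f : X ⟶ Y) (p : X ⟶ Z) (q : Y ⟶ Z) (hc : f ≫ q = p)
    (hp1 : AlgSp.LocP @LocallyOfFinitePresentation p.hom) (hp2 : AlgSp.LocP @Flat p.hom)
    (hp3 : AlgSp.IsUnivClosedMor p.hom) (hq1 : AlgSp.LocP @LocallyOfFiniteType q.hom)
    (hq2 : AlgSp.IsClosedMor q.hom) (hq3 : AlgSp.IsSeparatedMor q.hom) :
    ∃ (W : AlgSp.Space S) (w : W ⟶ Z), AlgSp.RepWith @IsOpenImmersion w.hom ∧
      ∀ (Z' : AlgSp.Space S) (g : Z' ⟶ Z),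
        (∃ k : Z' ⟶ W, k ≫ w = g) ↔
          ∀ (Y' : AlgSp.Space S) (gY : Y' ⟶ Y) (q' : Y' ⟶ Z'),
            IsPullback gY.hom q'.hom q.hom g.hom →
            ∀ (X' : AlgSp.Space S) (gX : X' ⟶ X) (f' : X' ⟶ Y'),
              IsPullback gX.hom f'.hom f.hom gY.hom →
                IsIso f'.hom := by
  have hpc : AlgSp.IsClosedMor p.hom := hp3 Z.property (𝟙 _) (𝟙 _) _ IsPullback.of_id_fst
  obtain ⟨W₁, w₁, hw₁, hW₁⟩ := Groth.Agent.S10643.result f p q hc hp1 hp2 hpc hq1 hq2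
  obtain ⟨W₂, w₂, hw₂, hW₂⟩ := Groth.Agent.S10641.result f p q hc
    (GrothLib.AlgSp.locP_mono (fun _ _ g (hg : LocallyOfFinitePresentation g) =>
      (inferInstance : LocallyOfFiniteType g)) hp1) hp3 hq3
  let W : AlgSp.Space S :=
    ⟨pullback w₁.hom w₂.hom, GrothLib.AlgSp.isAlgSpace_pullback' Z.property W₁.property W₂.property _ _⟩
  let e₁ : W ⟶ W₁ := ObjectProperty.homMk (pullback.fst w₁.hom w₂.hom)
  let e₂ : W ⟶ W₂ := ObjectProperty.homMk (pullback.snd w₁.hom w₂.hom)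
  have he : e₁ ≫ w₁ = e₂ ≫ w₂ := InducedCategory.Hom.ext pullback.condition
  refine ⟨W, e₁ ≫ w₁, ?_, fun Z' g => ⟨?_, fun h => ?_⟩⟩
  · exact GrothLib.AlgSp.repWith_comp
      (GrothLib.AlgSp.repWith_of_isPullback (IsPullback.of_hasPullback w₁.hom w₂.hom).flip hw₂) hw₁
  · rintro ⟨k, hk⟩ Y' gY q' sq1 X' gX f' sq2
    obtain ⟨hs, hfl⟩ := (hW₁ Z' g).1 ⟨k ≫ e₁, by rw [Category.assoc, hk]⟩ Y' gY q' sq1 X' gX f' sq2
    have hcl := (hW₂ Z' g).1 ⟨k ≫ e₂, by rw [Category.assoc, ← he, hk]⟩ Y' gY q' sq1 X' gX f' sq2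
    have hfp : AlgSp.LocP @LocallyOfFinitePresentation f.hom := by
      obtain ⟨U, V, T, a, b, c, u, v, ae, as, be, bs, ce, e₁, e₂, e⟩ :=
        GrothLib.AlgSp.exists_chart_triple X.property Y.property Z.property f.hom q.hom
      exact GrothLib.AlgSp.EtLocal.locP_of_chart .lfp ae as be e₁
        (GrothLib.DiagGrp.lfp_of_comp_of_lft u.left v.left
          (hp1 a c (u ≫ v) ae ce (by
            have e' : f.hom ≫ q.hom = p.hom := congrArg (fun k => k.hom) hc
            rw [← e']; exact e)) (hq1 b c v be ce e₂))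
    have hfp' := GrothLib.AlgSp.EtLocal.lfp.locP_of_isPullback X.property Y.property Y'.property sq2 hfp
    refine GrothLib.AlgSp.isIso_of_openImmersion_surjective ?_ hs
    refine GrothLib.AlgSp.repWith_mono (GrothLib.AlgSp.repWith_inf_iff.2 ⟨hcl, GrothLib.AlgSp.repWith_inf_iff.2
      ⟨GrothLib.AlgSp.EtLocal.repWith_of_locP .flat Y'.property hcl.1 hfl,
        GrothLib.AlgSp.EtLocal.repWith_of_locP .lfp Y'.property hcl.1 hfp'⟩⟩) fun A B m hm => ?_
    obtain ⟨h₁, h₂, h₃⟩ := hm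
    exact IsOpenImmersion.of_flat_of_mono m
  · have hiso : ∀ (Y' : AlgSp.Space S) (gY : Y' ⟶ Y) (q' : Y' ⟶ Z'), IsPullback gY.hom q'.hom q.hom g.hom →
        ∀ (X' : AlgSp.Space S) (gX : X' ⟶ X) (f' : X' ⟶ Y'), IsPullback gX.hom f'.hom f.hom gY.hom →
          IsIso f'.hom := h
    obtain ⟨k₁, hk₁⟩ := (hW₁ Z' g).2 fun Y' gY q' sq1 X' gX f' sq2 => by
      have := hiso Y' gY q' sq1 X' gX f' sq2
      refine ⟨fun y => ⟨AlgSp.Points.map (inv f'.hom) y, ?_⟩,
        GrothLib.AlgSp.EtLocal.locP_of_repWith .flat Y'.property (GrothLib.AlgSp.repWith_iso _)⟩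
      rw [← Points.map_comp, IsIso.inv_hom_id, Points.map_id]
    obtain ⟨k₂, hk₂⟩ := (hW₂ Z' g).2 fun Y' gY q' sq1 X' gX f' sq2 => by
      have := hiso Y' gY q' sq1 X' gX f' sq2
      exact GrothLib.AlgSp.repWith_iso _
    refine ⟨ObjectProperty.homMk (pullback.lift k₁.hom k₂.hom (congrArg (fun m => m.hom) (hk₁.trans hk₂.symm))),
      InducedCategory.Hom.ext ?_⟩
    change pullback.lift k₁.hom k₂.hom _ ≫ pullback.fst w₁.hom w₂.hom ≫ w₁.hom = g.hom
    rw [pullback.lift_fst_assoc]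
    exact congrArg (fun m => m.hom) hk₁

end Groth.Agent.S10644
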