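import Groth.Statements.S10668
import Groth.Agent.Lib.AlgSp.LciLocus
import Groth.Agent.Lib.LCI6.LocusBaseChange
-- import your own Groth.Agent.* helpers here

set_option autoImplicit false
universe u
open CategoryTheory CategoryTheory.Limits AlgebraicGeometry
open AlgSp GrothLib.AlgSp
set_option backward.isDefEq.respectTransparency false

namespace Groth.Agent.S10668

/-- For morphisms f : X ⟶ Y, p : X ⟶ Z and q : Y ⟶ Z of algebraic spaces over S with f ≫ q = p and p, q
both flat and locally of finite presentation, any morphism of algebraic spaces g : Z' ⟶ Z and any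
base change f' : X' ⟶ Y' of f along g (pullback squares Y' = Y ×_Z Z', X' = X ×_Y Y'), the set of
points of |X'| at which f' is Koszul (a local complete intersection morphism on some open subspace
through the point) is the inverse image under |X'| ⟶ |X| of the set of points at which f is Koszul.
(The published statement also records that the points at which f is Koszul form an open subspace of
X; with the open-neighbourhood form of being Koszul at a point used here that set is a union of
images of open subspaces, and this row states only its compatibility with base change.) -/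
theorem result {S : Scheme.{u}} {X Y Z : AlgSp.Space S} (f : X ⟶ Y) (p : X ⟶ Z) (q : Y ⟶ Z) (hc : f ≫ q = p)
    (hp1 : AlgSp.LocP @Flat p.hom) (hp2 : AlgSp.LocP @LocallyOfFinitePresentation p.hom)
    (hq1 : AlgSp.LocP @Flat q.hom) (hq2 : AlgSp.LocP @LocallyOfFinitePresentation q.hom)
    {Z' Y' X' : AlgSp.Space S} (g : Z' ⟶ Z) (gY : Y' ⟶ Y) (q' : Y' ⟶ Z') (hY : IsPullback gY.hom q'.hom q.hom g.hom)
    (gX : X' ⟶ X) (f' : X' ⟶ Y') (hX : IsPullback gX.hom f'.hom f.hom gY.hom) :
    {x' | AlgSp.LocPNear AlgSp.lci f'.hom x'} =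
      AlgSp.Points.map gX.hom ⁻¹' {x | AlgSp.LocPNear AlgSp.lci f.hom x} := by
  have hXa := X.property
  have hYa := Y.property
  have hZa := Z.property
  obtain ⟨W, r, hr, hrs⟩ := hZa.atlas
  obtain ⟨V, b₀, hb₀, hb₀s⟩ := (isAlgSpace_pullback' hZa hYa (IsAlgSpace.yon_obj W) q.hom r).atlas
  obtain ⟨k, hk⟩ := (yon S).map_surjective (b₀ ≫ pullback.snd q.hom r)
  let b := b₀ ≫ pullback.fst q.hom r
  have hb : RepWith @Etale b :=
    repWith_comp hb₀ (repWith_of_isPullback (IsPullback.of_hasPullback q.hom r).flip hr)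
  obtain ⟨U, a₀, ha₀, ha₀s⟩ := (isAlgSpace_pullback' hYa hXa (IsAlgSpace.yon_obj V) f.hom b).atlas
  obtain ⟨h, hh⟩ := (yon S).map_surjective (a₀ ≫ pullback.snd f.hom b)
  let a := a₀ ≫ pullback.fst f.hom b
  have ha : RepWith @Etale a :=
    repWith_comp ha₀ (repWith_of_isPullback (IsPullback.of_hasPullback f.hom b).flip hb)
  have cf : a ≫ f.hom = (yon S).map h ≫ b := by
    rw [Category.assoc, pullback.condition, hh, Category.assoc]
  have cq : b ≫ q.hom = (yon S).map k ≫ r := by
    rw [Category.assoc, pullback.condition, hk, Category.assoc]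
  have cp : a ≫ p.hom = (yon S).map (h ≫ k) ≫ r := by
    have e : p.hom = f.hom ≫ q.hom := (congrArg (fun m : X ⟶ Z => m.hom) hc).symm
    rw [e, ← Category.assoc, cf, Category.assoc, cq, Functor.map_comp, Category.assoc]
  haveI : Flat (h.left ≫ k.left) := hp1 a r (h ≫ k) ha hr cp
  haveI : LocallyOfFinitePresentation (h.left ≫ k.left) := hp2 a r (h ≫ k) ha hr cp
  haveI : Flat k.left := hq1 b r k hb hr cq
  haveI : LocallyOfFinitePresentation k.left := hq2 b r k hb hr cq
  obtain ⟨W', r₀, hr₀, hr₀s⟩ := (isAlgSpace_pullback' hZa Z'.property (IsAlgSpace.yon_obj W) g.hom r).atlas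
  obtain ⟨l, hl⟩ := (yon S).map_surjective (r₀ ≫ pullback.snd g.hom r)
  let r' := r₀ ≫ pullback.fst g.hom r
  have hr' : RepWith @Etale r' :=
    repWith_comp hr₀ (repWith_of_isPullback (IsPullback.of_hasPullback g.hom r).flip hr)
  have hr's : RepWith @Surjective r' :=
    repWith_comp hr₀s (repWith_of_isPullback (IsPullback.of_hasPullback g.hom r).flip hrs)
  have hlr : r' ≫ g.hom = (yon S).map l ≫ r := by
    rw [Category.assoc, pullback.condition, hl, Category.assoc]
  obtain ⟨V', pV, k', b', sV, eV, cV, hb', hb's⟩ :=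
    exists_chart_baseChange hY hb₀ hb₀s hk hr' hr's l hlr
  obtain ⟨U', pU, h', a', sU, eU, cU, ha', ha's⟩ :=
    exists_chart_baseChange hX ha₀ ha₀s hh hb' hb's pV eV
  ext x'
  obtain ⟨u', rfl⟩ := surjective_ofPt_of_repWith ha's x'
  rw [Set.mem_setOf_eq, Set.mem_preimage, Set.mem_setOf_eq, locPNear_lci_iff X'.property Y'.property,
    locPNear_lci_iff hXa hYa, mem_lciLocus_iff X'.property Y'.property ha' hb' cU u', Points.map_ofPt, eU,
    ofPt_map_comp, mem_lciLocus_iff hXa hYa ha hb cf]
  exact GrothLib.LCI6.inLocus_baseChange h.left k.left l.left pV.left k'.left sV pU.left h'.left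
    (sU.paste_vert sV) sU.w u'
end Groth.Agent.S10668
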