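import Groth.Statements.S10645
import Groth.Agent.S10668
import Groth.Agent.Lib.AlgSp.LciLocus
import Groth.Agent.Lib.AlgSp.Space
-- import your own Groth.Agent.* helpers here

set_option autoImplicit false
universe u
open CategoryTheory CategoryTheory.Limits AlgebraicGeometry
open AlgSp GrothLib.AlgSp
set_option backward.isDefEq.respectTransparency false

namespace Groth.Agent.S10645

/-- For morphisms f : X ⟶ Y, p : X ⟶ Z and q : Y ⟶ Z of algebraic spaces over S with f ≫ q = p, where p
is flat, closed and locally of finite presentation and q is flat and also locally of finite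
presentation, there is an open subspace W of Z with the following property: a morphism of algebraic
spaces g : Z' ⟶ Z factors through W exactly when the base change X' ⟶ Y' of f along g is a local
complete intersection (Koszul) morphism, i.e. Koszul at every point etale locally on source and
target. Here the base change of f along g is any f' : X' ⟶ Y' obtained from pullback squares Y' = Y
×_Z Z' and X' = X ×_Y Y' of algebraic spaces over S, and W ⊂ Z is given as a representable open
immersion w : W ⟶ Z. -/
theorem result {S : Scheme.{u}} {X Y Z : AlgSp.Space S}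
    (f : X ⟶ Y) (p : X ⟶ Z) (q : Y ⟶ Z) (hc : f ≫ q = p)
    (hp1 : AlgSp.LocP @Flat p.hom) (hp2 : AlgSp.LocP @LocallyOfFinitePresentation p.hom)
    (hp3 : AlgSp.IsClosedMor p.hom) (hq1 : AlgSp.LocP @Flat q.hom)
    (hq2 : AlgSp.LocP @LocallyOfFinitePresentation q.hom) :
    ∃ (W : AlgSp.Space S) (w : W ⟶ Z), AlgSp.RepWith @IsOpenImmersion w.hom ∧
      ∀ (Z' : AlgSp.Space S) (g : Z' ⟶ Z),
        (∃ k : Z' ⟶ W, k ≫ w = g) ↔
          ∀ (Y' : AlgSp.Space S) (gY : Y' ⟶ Y) (q' : Y' ⟶ Z'),
            IsPullback gY.hom q'.hom q.hom g.hom →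
            ∀ (X' : AlgSp.Space S) (gX : X' ⟶ X) (f' : X' ⟶ Y'),
              IsPullback gX.hom f'.hom f.hom gY.hom →
                AlgSp.IsLCIMor f'.hom := by
  let O : Set (Points Z.obj) := (Points.map p.hom '' (lciLocus f.hom)ᶜ)ᶜ
  have hO : IsOpen O := (hp3 _ (isOpen_lciLocus f.hom).isClosed_compl).isOpen_compl
  have hr := range_openSubι (F := Z.obj) (W := O)
  have he : p.hom = f.hom ≫ q.hom := (congrArg (fun m : X ⟶ Z => m.hom) hc).symm
  refine ⟨⟨openSub Z.obj O, isAlgSpace_openSub Z.property hO⟩, ObjectProperty.homMk (openSubι Z.obj O),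
    repWith_openSubι hO, fun Z' g => ⟨fun ⟨k, hk⟩ Y' gY q' hY X' gX f' hX => ?_, fun hall => ?_⟩⟩
  · refine (isLCIMor_iff X'.property Y'.property).2 fun x' => ?_
    rw [← locPNear_lci_iff X'.property Y'.property]
    refine (Groth.Agent.S10668.result f p q hc hp1 hp2 hq1 hq2 g gY q' hY gX f' hX).ge ?_
    show LocPNear lci f.hom (Points.map gX.hom x')
    rw [locPNear_lci_iff X.property Y.property]
    have h₁ : Points.map p.hom (Points.map gX.hom x') = Points.map g.hom (Points.map q'.hom (Points.map f'.hom x')) := by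
      rw [he, Points.map_comp, ← Points.map_comp gX.hom f.hom, hX.w, Points.map_comp, ← Points.map_comp gY.hom q.hom,
        hY.w, Points.map_comp]
    have hg : g.hom = k.hom ≫ openSubι Z.obj O := (congrArg (fun m : Z' ⟶ Z => m.hom) hk).symm
    have h₂ : Points.map p.hom (Points.map gX.hom x') ∈ O := by
      rw [h₁, hg, Points.map_comp]
      exact hr.le ⟨_, rfl⟩
    by_contra hn
    exact h₂ ⟨_, hn, rfl⟩
  · obtain ⟨k, hk⟩ := (exists_factor_iff (repWith_openSubι hO) g.hom).2 (by
      rintro _ ⟨z', rfl⟩
      refine hr.ge fun ⟨x, hx, hxz⟩ => hx ?_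
      rw [he, Points.map_comp] at hxz
      obtain ⟨y', hy₁, -⟩ := exists_of_isPullback (IsPullback.of_hasPullback q.hom g.hom) hxz
      obtain ⟨x', hx₁, -⟩ := exists_of_isPullback (IsPullback.of_hasPullback f.hom (pullback.fst q.hom g.hom)) hy₁.symm
      let Y' : AlgSp.Space S := ⟨pullback q.hom g.hom, isAlgSpace_pullback' Z.property Y.property Z'.property _ _⟩
      let gY : Y' ⟶ Y := ObjectProperty.homMk (pullback.fst q.hom g.hom)
      let q' : Y' ⟶ Z' := ObjectProperty.homMk (pullback.snd q.hom g.hom)
      let X' : AlgSp.Space S := ⟨pullback f.hom gY.hom, isAlgSpace_pullback' Y.property X.property Y'.property _ _⟩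
      let gX : X' ⟶ X := ObjectProperty.homMk (pullback.fst f.hom gY.hom)
      let f' : X' ⟶ Y' := ObjectProperty.homMk (pullback.snd f.hom gY.hom)
      have hY : IsPullback gY.hom q'.hom q.hom g.hom := IsPullback.of_hasPullback q.hom g.hom
      have hX : IsPullback gX.hom f'.hom f.hom gY.hom := IsPullback.of_hasPullback f.hom gY.hom
      have hl := (isLCIMor_iff X'.property Y'.property).1 (hall Y' gY q' hY X' gX f' hX) x'
      rw [← locPNear_lci_iff X'.property Y'.property] at hl
      have h₃ : LocPNear lci f.hom (Points.map gX.hom x') :=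
        (Groth.Agent.S10668.result f p q hc hp1 hp2 hq1 hq2 g gY q' hY gX f' hX).le hl
      rw [locPNear_lci_iff X.property Y.property] at h₃
      rw [← hx₁]
      exact h₃)
    exact ⟨ObjectProperty.homMk k, ObjectProperty.hom_ext _ hk⟩
end Groth.Agent.S10645
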