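import Groth.Statements.S10646
import Groth.Agent.Lib.AlgSp.NormLocus
-- import your own Groth.Agent.* helpers here

set_option autoImplicit false
universe u
open CategoryTheory CategoryTheory.Limits AlgebraicGeometry
open AlgSp GrothLib.AlgSp
set_option backward.isDefEq.respectTransparency false

namespace Groth.Agent.S10646

/-- For a separated morphism f : X ⟶ Y of finite type between algebraic spaces over S, with X ⟶ Y' ⟶ Y
(f' followed by ν) the normalization of Y in X, there is an open subspace U' of Y' (a representable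
open immersion j : U' ⟶ Y') such that for the inverse image P = X ×_{Y'} U' the projection P ⟶ U' is
an isomorphism and the image of |P| in |X| consists exactly of those points of |X| where f is
quasi-finite (some etale chart diagram through the point on which the top arrow is locally
quasi-finite and locally of finite type on an open neighbourhood). -/
theorem result {S : Scheme.{u}} {X Y Y' : AlgSp.Space S} (f : X ⟶ Y) (ν : Y' ⟶ Y) (f' : X ⟶ Y')
    (hf1 : AlgSp.IsFiniteTypeMor f.hom) (hf2 : AlgSp.IsSeparatedMor f.hom)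
    (hn : AlgSp.IsRelNormalization f.hom ν.hom f'.hom) :
    ∃ (U' : AlgSp.Space S) (j : U' ⟶ Y'), AlgSp.RepWith @IsOpenImmersion j.hom ∧
      ∀ (P : AlgSp.Space S) (fst : P ⟶ X) (snd : P ⟶ U'), IsPullback fst.hom snd.hom f'.hom j.hom →
        IsIso snd.hom ∧
          Set.range (AlgSp.Points.map fst.hom) = {x | AlgSp.HasAtMor (fun U _ h u => ∃ W : U.Opens, u ∈ W ∧ LocallyQuasiFinite (W.ι ≫ h) ∧ LocallyOfFiniteType (W.ι ≫ h)) f.hom x} := by
  have hqc : IsQuasiCompactMor f.hom := hf1.2
  have h := univNorm_of_isRelNormalization Y.property X.property hqc (isQuasiSeparatedMor_of_isSeparatedMor hf2)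
    Y'.property hn
  obtain ⟨C, c, ce, cs⟩ := X.property.atlas
  let ι := {u : ↥C.left // HasAtMor QfAt f.hom (Points.ofPt c u)}
  choose MA A d kX t hde hsq hmem hall using fun i : ι => exists_norm_piece X.property Y.property hf2 h i.2
  let O : Set (Points Y'.obj) := ⋃ i, Set.range (Points.ofPt (d i))
  have hO : IsOpen O := isOpen_iUnion fun i => by
    have := isOpenMap_ofPt_of_etale (hde i) _ isOpen_univ
    rwa [Set.image_univ] at this
  have hj : RepWith @IsOpenImmersion (openSubι Y'.obj O) := repWith_openSubι hO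
  have hU := isAlgSpace_openSub Y'.property hO
  refine ⟨⟨openSub Y'.obj O, hU⟩, ObjectProperty.homMk (openSubι Y'.obj O), hj, fun P fst snd sq => ?_⟩
  have sq' : IsPullback fst.hom snd.hom f'.hom (openSubι Y'.obj O) := sq
  haveI := mono_openSubι Y'.obj O
  refine ⟨?_, ?_⟩
  · have hdl : ∀ i, ∃ e : (yon S).obj (MA i) ⟶ openSub Y'.obj O, e ≫ openSubι Y'.obj O = d i := fun i =>
      (exists_factor_iff hj (d i)).2 (by
        rintro _ ⟨y, rfl⟩
        obtain ⟨w, rfl⟩ := (Points.schemeEquiv (MA i)).surjective y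
        rw [range_openSubι]
        exact Set.mem_iUnion.2 ⟨i, w, Points.ofPt_eq_map_ofScheme (d i) w⟩)
    choose e he using hdl
    refine isIso_of_pieces Y'.property hU hj sq' MA A d kX t hde hsq e he fun x => ?_
    obtain ⟨i, m, hm⟩ := Set.mem_iUnion.1 (range_openSubι.le ⟨x, rfl⟩ : Points.map (openSubι Y'.obj O) x ∈ O)
    refine ⟨i, m, injective_map_of_mono (openSubι Y'.obj O) ?_⟩
    rw [Points.map_ofPt, he]
    exact hm
  · ext x
    constructor
    · rintro ⟨p, rfl⟩
      obtain ⟨i, m, hm⟩ := Set.mem_iUnion.1 (show Points.map f'.hom (Points.map fst.hom p) ∈ O by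
        rw [← Points.map_comp, sq'.w, Points.map_comp]
        exact range_openSubι.le ⟨_, rfl⟩)
      rw [Points.ofPt_eq_map_ofScheme] at hm
      obtain ⟨q, hq, -⟩ := exists_of_isPullback (hsq i) hm.symm
      obtain ⟨a, rfl⟩ := (Points.schemeEquiv (A i)).surjective q
      rw [← hq]
      exact Points.ofPt_eq_map_ofScheme (kX i) a ▸ hall i a
    · intro hx
      obtain ⟨z, rfl⟩ := surjective_ofPt_of_repWith cs x
      obtain ⟨a, ha⟩ := hmem ⟨z, hx⟩
      have hr : Points.map f'.hom (Points.ofPt c z) ∈ Set.range (Points.map (openSubι Y'.obj O)) := by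
        rw [range_openSubι]
        refine Set.mem_iUnion.2 ⟨⟨z, hx⟩, (t ⟨z, hx⟩).hom.left a, ?_⟩
        rw [← ha, Points.map_ofPt, (hsq ⟨z, hx⟩).w, ofPt_map_comp]
      obtain ⟨q, hq⟩ := hr
      obtain ⟨p, hp, -⟩ := exists_of_isPullback sq' hq.symm
      exact ⟨p, hp⟩

end Groth.Agent.S10646
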