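import Groth.Statements.S9955
import Groth.Agent.Lib.AlgSp.DiscreteFibres
-- import your own Groth.Agent.* helpers here

set_option autoImplicit false
universe u
open CategoryTheory CategoryTheory.Limits AlgebraicGeometry
open AlgSp

namespace Groth.Agent.S9955

/-- A morphism locally of finite type is locally quasi-finite if and only if all its fibres over
field-valued points have discrete spaces of points. -/
theorem result {S : Scheme.{u}} {X Y : AlgSp.Space S} (f : X ⟶ Y)
    (hf : AlgSp.LocP @LocallyOfFiniteType f.hom) :
    AlgSp.LocP ((@LocallyQuasiFinite : MorphismProperty Scheme.{u}) ⊓ @LocallyOfFiniteType) f.hom ↔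
      ∀ (k : Type u) [Field k] (str : Spec (CommRingCat.of k) ⟶ S) (y : (AlgSp.yon S).obj (Over.mk str) ⟶ Y.obj)
        (P : AlgSp.Sp S) (fst : P ⟶ X.obj) (snd : P ⟶ (AlgSp.yon S).obj (Over.mk str)),
        IsPullback fst snd f.hom y → DiscreteTopology (AlgSp.Points P) := by
  constructor
  · intro hq k _ str y P fst snd sq
    have hP := GrothLib.AlgSp.isAlgSpace_pullback Y.property.diag X.property (AlgSp.IsAlgSpace.yon_obj _) sq
    obtain ⟨W, p, pe, ps⟩ := hP.atlas
    obtain ⟨α, hα⟩ := (AlgSp.yon S).map_surjective (p ≫ snd)
    have h := GrothLib.AlgSp.EtLocal.locP_of_isPullback (GrothLib.AlgSp.EtLocal.lqf.inf GrothLib.AlgSp.EtLocal.lft)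
      X.property Y.property (AlgSp.IsAlgSpace.yon_obj _) sq hq p (𝟙 _) α pe (AlgSp.repWith_id _ _)
      (by rw [Category.comp_id, hα])
    haveI : LocallyQuasiFinite α.left := h.1
    haveI : DiscreteTopology W.left := by
      have := α.left.isDiscrete_preimage_singleton (IsLocalRing.closedPoint k)
      exact isDiscrete_univ_iff.1 (this.mono fun w _ =>
        show α.left w = IsLocalRing.closedPoint k from Subsingleton.elim (α := PrimeSpectrum k) _ _)
    exact GrothLib.AlgSp.discreteTopology_points_of_chart pe ps
  · intro hd U V a b h hae hbe w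
    haveI : LocallyOfFiniteType h.left := hf a b h hae hbe w
    refine ⟨locallyQuasiFinite_iff_isDiscrete_preimage_singleton.2 fun v => ?_, inferInstanceAs (LocallyOfFiniteType h.left)⟩
    let c : Over.mk (V.left.fromSpecResidueField v ≫ V.hom) ⟶ V := Over.homMk (V.left.fromSpecResidueField v) rfl
    let y := (AlgSp.yon S).map c ≫ b
    have sqP := IsPullback.of_hasPullback f.hom y
    haveI := hd (V.left.residueField v) _ y _ _ _ sqP
    have sqV := IsPullback.of_hasPullback f.hom b
    let u : (AlgSp.yon S).obj U ⟶ pullback f.hom b := sqV.lift a ((AlgSp.yon S).map h) w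
    have hu : AlgSp.RepWith @Etale u := GrothLib.AlgSp.etale_of_comp_etale
      (GrothLib.AlgSp.repWith_of_isPullback sqV.flip hbe) (by rw [sqV.lift_fst]; exact hae)
    let m : pullback f.hom y ⟶ pullback f.hom b := sqV.lift (pullback.fst _ _) (pullback.snd _ _ ≫ (AlgSp.yon S).map c)
      (by rw [Category.assoc]; exact pullback.condition)
    have sqm : IsPullback m (pullback.snd f.hom y) (pullback.snd f.hom b) ((AlgSp.yon S).map c) := by
      refine IsPullback.of_right ?_ (sqV.lift_snd _ _ _) sqV
      rw [sqV.lift_fst]
      exact sqP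
    have sQ := IsPullback.of_hasPullback h c
    have hQw : ((AlgSp.yon S).map (pullback.fst h c) ≫ u) ≫ pullback.snd f.hom b =
        (AlgSp.yon S).map (pullback.snd h c) ≫ (AlgSp.yon S).map c := by
      rw [Category.assoc, sqV.lift_snd, ← Functor.map_comp, ← Functor.map_comp, pullback.condition]
    let q : (AlgSp.yon S).obj (pullback h c) ⟶ pullback f.hom y := sqm.lift _ _ hQw
    have sqq : IsPullback ((AlgSp.yon S).map (pullback.fst h c)) q u m := by
      refine IsPullback.of_bot ?_ (sqm.lift_fst _ _ hQw).symm sqm
      rw [show q ≫ pullback.snd f.hom y = _ from sqm.lift_snd _ _ hQw, sqV.lift_snd]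
      exact GrothLib.AlgSp.isPullback_yon sQ
    haveI hfq : LocallyOfFiniteType (pullback.snd h c).left :=
      MorphismProperty.of_isPullback (GrothLib.AlgSp.isPullback_left sQ) ‹LocallyOfFiniteType h.left›
    haveI : DiscreteTopology (pullback h c).left :=
      @GrothLib.AlgSp.discreteTopology_chart S _ (GrothLib.AlgSp.isAlgSpace_pullback' Y.property X.property
        (AlgSp.IsAlgSpace.yon_obj _) f.hom y) _ (V.left.residueField v) _ _ (pullback.snd h c).left hfq _
        (GrothLib.AlgSp.repWith_of_isPullback sqq hu)
    have sql := GrothLib.AlgSp.isPullback_left sQ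
    haveI : IsPreimmersion (pullback.fst h c).left :=
      MorphismProperty.of_isPullback sql.flip (inferInstanceAs (IsPreimmersion (V.left.fromSpecResidueField v)))
    have hr : h.left ⁻¹' {v} = (pullback.fst h c).left '' Set.univ := by
      ext x
      constructor
      · intro hx
        obtain ⟨z, hz, -⟩ := Scheme.exists_preimage_of_isPullback sql x
          (IsLocalRing.closedPoint (V.left.residueField v)) (by
            rw [Set.mem_singleton_iff.1 hx]
            exact (Scheme.fromSpecResidueField_apply _ _).symm)
        exact ⟨z, trivial, hz⟩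
      · rintro ⟨z, -, rfl⟩
        rw [Set.mem_preimage, Set.mem_singleton_iff, ← Scheme.Hom.comp_apply, sql.w, Scheme.Hom.comp_apply]
        exact Scheme.fromSpecResidueField_apply _ _
    rw [hr]
    exact (isDiscrete_univ_iff.2 ‹_›).image (pullback.fst h c).left.isEmbedding.isInducing

end Groth.Agent.S9955
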