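import Groth.Statements.S10649
import Groth.Agent.S9955
import Groth.Agent.Lib.AlgSp.ThickGlobal
import Groth.Agent.Lib.AlgSp.UnivClosed
import Groth.Agent.Lib.AlgSp.AffineMor
-- import your own Groth.Agent.* helpers here

set_option autoImplicit false
universe u
open CategoryTheory CategoryTheory.Limits AlgebraicGeometry
open AlgSp

namespace Groth.Agent.S10649

/-- The following conditions on a morphism f : X ⟶ Y of algebraic spaces over S are equivalent: (1)
finiteness of f; (2) f is locally quasi-finite as well as proper (locally quasi-finite and locally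
of finite type etale locally); (3) f is proper and for every field k and every k-point Spec k ⟶ Y
the fibre X_k (any pullback of f along it in fppf sheaves) has discrete space of points; (4) f is
universally closed, separated and locally of finite type, and every such fibre X_k has discrete
space of points. -/
theorem result {S : Scheme.{u}} {X Y : AlgSp.Space S} (f : X ⟶ Y) :
    [AlgSp.IsFiniteMor f.hom,
      AlgSp.IsProperMor f.hom ∧ AlgSp.LocP (@LocallyQuasiFinite ⊓ @LocallyOfFiniteType) f.hom,
      AlgSp.IsProperMor f.hom ∧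
        ∀ (k : AlgSp.FieldPt Y.obj) (Xk : AlgSp.Sp S) (fst : Xk ⟶ X.obj) (snd : Xk ⟶ (AlgSp.yon S).obj k.pt),
          IsPullback fst snd f.hom k.toHom → DiscreteTopology (AlgSp.Points Xk),
      AlgSp.IsUnivClosedMor f.hom ∧ AlgSp.IsSeparatedMor f.hom ∧ AlgSp.LocP @LocallyOfFiniteType f.hom ∧
        ∀ (k : AlgSp.FieldPt Y.obj) (Xk : AlgSp.Sp S) (fst : Xk ⟶ X.obj) (snd : Xk ⟶ (AlgSp.yon S).obj k.pt),
          IsPullback fst snd f.hom k.toHom → DiscreteTopology (AlgSp.Points Xk)].TFAE := by
  tfae_have 1 → 2 := fun h => by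
    have h' := GrothLib.AlgSp.isFiniteMor_iff.1 h
    exact ⟨GrothLib.AlgSp.isProperMor_of_finite Y.property h',
      GrothLib.AlgSp.EtLocal.locP_of_repWith (GrothLib.AlgSp.EtLocal.lqf.inf GrothLib.AlgSp.EtLocal.lft) Y.property
        (GrothLib.AlgSp.repWith_mono h' fun A B g (hg : IsFinite g) =>
          ⟨(inferInstance : LocallyQuasiFinite g), (inferInstance : LocallyOfFiniteType g)⟩)⟩
  tfae_have 2 → 3 := fun h => ⟨h.1, fun k Xk a b sq =>
    (Groth.Agent.S9955.result f h.1.2.1.1).1 h.2 k.K k.str k.toHom Xk a b sq⟩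
  tfae_have 3 → 4 := fun h => ⟨h.1.2.2, h.1.1, h.1.2.1.1, h.2⟩
  tfae_have 4 → 1 := fun h => by
    obtain ⟨huc, hsep, hlft, hd⟩ := h
    have hp : AlgSp.IsProperMor f.hom :=
      ⟨hsep, ⟨hlft, GrothLib.AlgSp.isQuasiCompactMor_of_isUnivClosedMor X.property Y.property huc⟩, huc⟩
    refine GrothLib.AlgSp.isFiniteMor_iff.2 (GrothLib.AlgSp.repWith_isFinite_of_proper_lqf X.property Y.property hp
      ((Groth.Agent.S9955.result f hlft).2 fun k _ str y P a b sq => ?_))
    refine hd ⟨k, str, (AlgSp.J S).uliftYonedaEquiv y⟩ P a b ?_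
    rw [show (AlgSp.FieldPt.toHom (F := Y.obj) ⟨k, str, (AlgSp.J S).uliftYonedaEquiv y⟩) = y from
      Equiv.symm_apply_apply _ _]
    exact sq
  tfae_finish

end Groth.Agent.S10649
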