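import Groth.Statements.S10650
import Groth.Agent.Lib.AlgSp.FiniteNhd
-- import your own Groth.Agent.* helpers here

set_option autoImplicit false
universe u
open CategoryTheory CategoryTheory.Limits AlgebraicGeometry
open AlgSp

namespace Groth.Agent.S10650

/-- For a proper morphism f : X ⟶ Y of algebraic spaces over S and a point y of |Y| such that f is
quasi-finite at every point of |X| lying over y (for each such point some etale chart diagram
through it has top arrow locally quasi-finite and locally of finite type on an open neighbourhood),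
there is an open subspace V of Y containing y such that the base change X ×_Y V ⟶ V is finite. -/
theorem result {S : Scheme.{u}} {X Y : AlgSp.Space S} (f : X ⟶ Y) (y : AlgSp.Points Y.obj)
    (hf : AlgSp.IsProperMor f.hom)
    (hq : ∀ x : AlgSp.Points X.obj, AlgSp.Points.map f.hom x = y →
      AlgSp.HasAtMor (fun U _ h u => ∃ W : U.Opens, u ∈ W ∧ LocallyQuasiFinite (W.ι ≫ h) ∧ LocallyOfFiniteType (W.ι ≫ h)) f.hom x) :
    ∃ (V : AlgSp.Space S) (j : V ⟶ Y), AlgSp.RepWith @IsOpenImmersion j.hom ∧
      y ∈ Set.range (AlgSp.Points.map j.hom) ∧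
        ∀ (P : AlgSp.Space S) (fst : P ⟶ X) (snd : P ⟶ V), IsPullback fst.hom snd.hom f.hom j.hom →
          AlgSp.IsFiniteMor snd.hom := by
  obtain ⟨V, j, hj, hy, h⟩ := GrothLib.AlgSp.exists_open_finite_nhd X.property Y.property hf y fun x hx =>
    (GrothLib.AlgSp.hasAtMor_lqf_iff X.property Y.property hf.2.1.1 x).1 (hq x hx)
  exact ⟨V, ObjectProperty.homMk j, hj, hy, fun P fst snd sq => h P.obj fst.hom snd.hom sq⟩

end Groth.Agent.S10650
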