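import Groth.Statements.S10651
import Groth.Agent.S10281
import Groth.Agent.S10650
import Groth.Agent.S10444
import Groth.Agent.Lib.AlgSp.SchImage
import Groth.Agent.Lib.AlgSp.ProperSub
import Groth.Agent.Lib.AlgSp.FibreIsolated
import Groth.Agent.Lib.AlgSp.MonoPoint
import Groth.Agent.Lib.AlgSp.DiagChart
import Groth.Agent.Lib.AlgSp.ClosedSub
import Groth.Agent.Lib.AlgSp.NormBasic
-- import your own Groth.Agent.* helpers here

set_option autoImplicit false
universe u
open CategoryTheory CategoryTheory.Limits AlgebraicGeometry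
open AlgSp GrothLib.AlgSp
set_option backward.isDefEq.respectTransparency false

namespace Groth.Agent.S10651

/-- Consider morphisms h : X ⟶ Y, f : X ⟶ B, g : Y ⟶ B of algebraic spaces over S with h ≫ g = f, a
point b of |B| and a field point k of B in the class of b. Assume f is proper, g is separated and
locally of finite type, and either (a) for the fibres X_k ⟶ Y_k of h over k (pullbacks in fppf
sheaves) the image of |X_k| in |Y_k| is finite, or (b) the image in |Y| of the fibre of |X| ⟶ |B|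
over b is finite and B is decent. Then over some open subspace B' of B containing b the base change
X_{B'} ⟶ Y_{B'} of h lands in a closed subspace Z of Y_{B'} that is finite over B' (it factors
through Z). -/
theorem result {S : Scheme.{u}} {X Y B : AlgSp.Space S} (h : X ⟶ Y) (f : X ⟶ B) (g : Y ⟶ B) (hc : h ≫ g = f)
    (b : AlgSp.Points B.obj) (k : AlgSp.FieldPt B.obj) (hk : AlgSp.Points.mk k = b)
    (hf : AlgSp.IsProperMor f.hom) (hg1 : AlgSp.IsSeparatedMor g.hom) (hg2 : AlgSp.LocP @LocallyOfFiniteType g.hom)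
    (h3 : (∀ (Yk : AlgSp.Sp S) (gY : Yk ⟶ Y.obj) (sY : Yk ⟶ (AlgSp.yon S).obj k.pt),
            IsPullback gY sY g.hom k.toHom →
            ∀ (Xk : AlgSp.Sp S) (gX : Xk ⟶ X.obj) (hk' : Xk ⟶ Yk), IsPullback gX hk' h.hom gY →
              (Set.range (AlgSp.Points.map hk')).Finite) ∨
          ((AlgSp.Points.map h.hom '' (AlgSp.Points.map f.hom ⁻¹' {b})).Finite ∧ AlgSp.IsDecent B.obj)) :
    ∃ (B' : AlgSp.Space S) (j : B' ⟶ B), AlgSp.RepWith @IsOpenImmersion j.hom ∧
      b ∈ Set.range (AlgSp.Points.map j.hom) ∧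
        ∀ (YB : AlgSp.Space S) (gY : YB ⟶ Y) (sY : YB ⟶ B'), IsPullback gY.hom sY.hom g.hom j.hom →
          ∀ (XB : AlgSp.Space S) (gX : XB ⟶ X) (hB : XB ⟶ YB), IsPullback gX.hom hB.hom h.hom gY.hom →
            ∃ (Z : AlgSp.Space S) (i : Z ⟶ YB) (e : XB ⟶ Z), AlgSp.RepWith @IsClosedImmersion i.hom ∧
              AlgSp.IsFiniteMor (i ≫ sY).hom ∧ e ≫ i = hB := by
  obtain ⟨Z₀, i₀, hZ₀, hsch⟩ := exists_isSchImage_sp X.property Y.property h.hom
  let Z : Space S := ⟨Z₀, hZ₀⟩
  let i : Z ⟶ Y := ObjectProperty.homMk i₀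
  obtain ⟨l₀, hl₀⟩ := hsch.2.1
  let h' : X ⟶ Z := ObjectProperty.homMk l₀
  have fac : h' ≫ i = h := ObjectProperty.hom_ext _ hl₀
  obtain ⟨hprop, hsurj⟩ := Groth.Agent.S10281.result h f g hc hf hg1 hg2 i hsch h' fac
  haveI : Mono i.hom := mono_of_closedImmersion hsch.1
  have hhf : h.hom ≫ g.hom = f.hom := congrArg InducedCategory.Hom.hom hc
  have hq : ∀ x : Points Z.obj, Points.map (i ≫ g).hom x = b →
      HasAtMor (fun U _ h u => ∃ W : U.Opens, u ∈ W ∧ LocallyQuasiFinite (W.ι ≫ h) ∧ LocallyOfFiniteType (W.ι ≫ h)) (i ≫ g).hom x := by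
    intro x hx
    have main : ∀ (r : FieldPt B.obj), Points.mk r = b → ∀ (Zk : Space S) (fst : Zk ⟶ Z) (snd : Zk.obj ⟶ (yon S).obj r.pt),
        IsPullback fst.hom snd (i ≫ g).hom r.toHom → Finite (Points Zk.obj) →
          HasAtMor (fun U _ h u => ∃ W : U.Opens, u ∈ W ∧ LocallyQuasiFinite (W.ι ≫ h) ∧ LocallyOfFiniteType (W.ι ≫ h)) (i ≫ g).hom x := by
      intro r hr Zk fst snd sq hfin
      have hqs : IsQuasiSeparatedSp Zk.obj := by
        refine isQuasiSeparatedSp_of_mor (isQuasiSeparatedMor_of_isPullback' sq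
          (isQuasiSeparatedMor_of_isSeparatedMor hprop.1)) ((repWith_diag_yon_iff _ _).2 ?_)
        haveI : Finite ↥r.pt.left := finite_spec_field r.K
        exact quasiCompact_of_finite _
      have hd := isDecent_of_isQuasiSeparatedSp Zk.property hqs
      obtain ⟨h57, h78, -, -, h45, -⟩ := Groth.Agent.S10444.result (i ≫ g) hprop.2.1.1 r ⟨x, by rw [hx, hr]⟩ Zk fst snd sq
      exact h78.1 (h57.1 (h45 hd hfin)) x (by rw [hx, hr])
    rcases h3 with ha | ⟨hfinb, hd⟩
    · obtain ⟨Yk, gY, sY, sqY⟩ : ∃ (Yk : Sp S) (gY : Yk ⟶ Y.obj) (sY : Yk ⟶ (yon S).obj k.pt),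
          IsPullback gY sY g.hom k.toHom := ⟨_, _, _, IsPullback.of_hasPullback _ _⟩
      have hYk : IsAlgSpace Yk := isAlgSpace_pullback B.property.diag Y.property (IsAlgSpace.yon_obj _) sqY
      obtain ⟨Zk₀, zY, zk, sqZ⟩ : ∃ (Zk : Sp S) (zY : Zk ⟶ Z.obj) (zk : Zk ⟶ Yk), IsPullback zY zk i.hom gY :=
        ⟨_, _, _, IsPullback.of_hasPullback _ _⟩
      let Zk : Space S := ⟨Zk₀, isAlgSpace_pullback Y.property.diag Z.property hYk sqZ⟩
      obtain ⟨Xk, xZ, xk, sqX⟩ : ∃ (Xk : Sp S) (xZ : Xk ⟶ X.obj) (xk : Xk ⟶ Zk₀), IsPullback xZ xk h'.hom zY :=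
        ⟨_, _, _, IsPullback.of_hasPullback _ _⟩
      haveI : Mono zk := sqZ.mono_snd_of_mono
      have hfin : Finite (Points Zk.obj) := by
        have hr := ha Yk gY sY sqY Xk xZ (xk ≫ zk) (by
          have := sqX.paste_vert sqZ
          rwa [show h'.hom ≫ i.hom = h.hom from hl₀] at this)
        have hs : IsSurjectiveMor xk := surjective_map_of_isPullback sqX hsurj
        have hsub : Set.range (Points.map zk) ⊆ Set.range (Points.map (xk ≫ zk)) := by
          rintro _ ⟨z, rfl⟩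
          obtain ⟨y, rfl⟩ := hs z
          exact ⟨y, Points.map_comp _ _ _⟩
        exact Set.finite_univ_iff.1 (((hr.subset hsub).preimage (injective_map_of_mono zk).injOn).subset
          (fun z _ => ⟨z, rfl⟩))
      exact main k hk Zk (ObjectProperty.homMk zY) (zk ≫ sY) (sqZ.paste_vert sqY) hfin
    · obtain ⟨q, Zq, fq, sq, e, hqk, hsq, -, -⟩ := GrothLib.AlgSp.FibreIsolated.exists_mono_fibre hd (i ≫ g) b
      refine main q hqk Zq fq sq hsq ?_
      have hfs : (Points.map (i ≫ g).hom ⁻¹' {b}).Finite := by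
        refine (hfinb.preimage (injective_map_of_mono i.hom).injOn).subset ?_
        intro z hz
        obtain ⟨y, rfl⟩ := hsurj z
        refine ⟨y, ?_, ?_⟩
        · show Points.map f.hom y = b
          rw [← hhf, ← hl₀, Category.assoc, Points.map_comp]
          exact hz
        · rw [← hl₀, Points.map_comp]; rfl
      haveI := hfs.to_subtype
      exact Finite.of_equiv _ e.symm.toEquiv
  obtain ⟨B', j, hj, hbj, hfinite⟩ := Groth.Agent.S10650.result (i ≫ g) b hprop hq
  refine ⟨B', j, hj, hbj, fun YB gY sY sqY XB gX hB sqX => ?_⟩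
  let ZB : Space S := ⟨pullback i.hom gY.hom, isAlgSpace_pullback' Y.property Z.property YB.property _ _⟩
  have sqZ := IsPullback.of_hasPullback i.hom gY.hom
  let iB : ZB ⟶ YB := ObjectProperty.homMk (pullback.snd i.hom gY.hom)
  let zB : ZB ⟶ Z := ObjectProperty.homMk (pullback.fst i.hom gY.hom)
  refine ⟨ZB, iB, ObjectProperty.homMk (sqZ.lift (gX.hom ≫ h'.hom) hB.hom (by
    rw [Category.assoc]
    exact (congrArg (gX.hom ≫ ·) hl₀).trans sqX.w)), repWith_of_isPullback sqZ hsch.1,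
    hfinite ZB zB (iB ≫ sY) (sqZ.paste_vert sqY), ObjectProperty.hom_ext _ ?_⟩
  exact sqZ.lift_snd _ _ _

end Groth.Agent.S10651
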