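import Groth.Statements.S10655
import Groth.Agent.Lib.AlgSp.FlatDense
import Groth.Agent.Lib.AlgSp.SchDenseSp
import Groth.Agent.Lib.SecHomeo6.Basic
import Groth.Agent.S0449
import Groth.Agent.Lib.AlgSp.FppfDescent
-- import your own Groth.Agent.* helpers here

set_option autoImplicit false
universe u
open CategoryTheory CategoryTheory.Limits AlgebraicGeometry
open AlgSp

namespace Groth.Agent.S10655

/-- For a separated flat morphism f : X ⟶ Y of algebraic spaces over S which is locally of finite type,
and an open subspace j : V ⟶ Y which is quasi-compact and scheme theoretically dense (on some etale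
surjective scheme chart its inverse image is a schematically dense open): if the base change X ×_Y V
⟶ V is an isomorphism then f is a representable open immersion. -/
theorem result {S : Scheme.{u}} {X Y V : AlgSp.Space S} (f : X ⟶ Y) (j : V ⟶ Y)
    (hf1 : AlgSp.IsSeparatedMor f.hom) (hf2 : AlgSp.LocP @LocallyOfFiniteType f.hom) (hf3 : AlgSp.LocP @Flat f.hom)
    (hj1 : AlgSp.IsQuasiCompactMor j.hom) (hj2 : AlgSp.IsSchDense j.hom)
    (P : AlgSp.Space S) (fst : P ⟶ X) (snd : P ⟶ V) (hP : IsPullback fst.hom snd.hom f.hom j.hom)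
    (hV : IsIso snd.hom) :
    AlgSp.RepWith @IsOpenImmersion f.hom := by
  haveI : IsIso snd.hom := (inferInstance : IsIso snd.hom)
  have hji : AlgSp.RepWith @IsOpenImmersion j.hom := hj2.1
  have hsnd : ∀ x, AlgSp.HasAtMor (fun _ _ h u => FlatMor.fibreDimAt h u ≤ ((0 : ℕ) : WithBot ℕ∞)) snd.hom x := by
    intro x
    have hl : AlgSp.LocP @LocallyOfFiniteType snd.hom := GrothLib.AlgSp.EtLocal.locP_of_repWith .lft V.property
      (GrothLib.AlgSp.repWith_iso snd.hom)
    have hq : AlgSp.LocP @LocallyQuasiFinite snd.hom := GrothLib.AlgSp.EtLocal.locP_of_repWith .lqf V.property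
      (GrothLib.AlgSp.repWith_iso snd.hom)
    obtain ⟨U, T, a, b, k, u, ha, hb, c, rfl⟩ := GrothLib.AlgSp.exists_chart_at P.property V.property snd.hom x
    haveI : LocallyOfFiniteType k.left := hl a b k ha hb c
    exact ⟨U, T, a, b, k, u, ha, hb, c, rfl, (GrothLib.AlgSp.lqf_iff_fibreDimAt k.left).1 (hq a b k ha hb c) u⟩
  have hdense : Dense (Set.range (AlgSp.Points.map j.hom)) := by
    obtain ⟨T, b, hb, hbs⟩ := Y.property.atlas
    obtain ⟨O, l, sqO, hO⟩ := GrothLib.AlgSp.exists_preimage_openOver hji b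
    have hd := GrothLib.SecHomeo6.dense_of_isSchematicallyDense O
      (GrothLib.AlgSp.isSchematicallyDense_of_chart hj2 hb sqO)
    rw [hO] at hd
    have h1 := (GrothLib.AlgSp.surjective_ofPt_of_repWith hbs).denseRange.dense_image
      (AlgSp.Points.continuous_ofPt b) hd
    exact h1.mono (Set.image_preimage_subset _ _)
  have hr : AlgSp.Representable f.hom := GrothLib.AlgSp.representable_of_lqf_separated X.property Y.property
    (GrothLib.AlgSp.locP_lqf_of_fibreDim X.property Y.property hf2 fun x =>
      GrothLib.AlgSp.fibreDim_le_of_flat_dense X.property Y.property hf3 hf2 V.property hji hdense hP 0 hsnd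
        (Or.inr hj1) x) hf1
  have hfl := GrothLib.AlgSp.EtLocal.repWith_of_locP .flat Y.property hr hf3
  have hft := GrothLib.AlgSp.EtLocal.repWith_of_locP .lft Y.property hr hf2
  have hsep := (GrothLib.AlgSp.isSeparatedMor_iff_repWith hr).1 hf1
  obtain ⟨T, b, hb, hbs⟩ := Y.property.atlas
  haveI : Sheaf.IsLocallySurjective b := GrothLib.AlgSp.chart_isLocallySurjective hb hbs
  obtain ⟨W, w, k, sq⟩ := GrothLib.AlgSp.exists_isPullback_of_representable hr b
  refine GrothLib.AlgSp.repWith_of_base hr b sq GrothLib.AlgSp.fppfDescends_isOpenImmersion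
    ((AlgSp.repWith_yon_map_iff _ k).2 ?_)
  obtain ⟨O, l, sqO, hO⟩ := GrothLib.AlgSp.exists_preimage_openOver hji b
  haveI : Flat k.left := hfl.2 _ _ _ sq
  haveI : LocallyOfFiniteType k.left := hft.2 _ _ _ sq
  haveI : IsSeparated k.left := hsep.2 _ _ _ sq
  haveI : QuasiCompact O.ι := (GrothLib.AlgSp.repWith_quasiCompact_of_isQuasiCompactMor hji.1 hj1).2 _ _ _ sqO
  haveI : IsSchemeTheoreticallyDominant O.ι :=
    ⟨(GrothLib.AlgSp.isSchematicallyDense_iff_ker O).1 (GrothLib.AlgSp.isSchematicallyDense_of_chart hj2 hb sqO)⟩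
  haveI : IsIso (k.left ∣_ O) := by
    have hp : IsPullback (pullback.fst k (GrothLib.AlgSp.openOverι O)) (pullback.snd k (GrothLib.AlgSp.openOverι O))
      k (GrothLib.AlgSp.openOverι O) := IsPullback.of_hasPullback _ _
    have sqA := (GrothLib.AlgSp.isPullback_yon hp).paste_horiz sq
    rw [← sqO.w] at sqA
    let m := hP.lift ((AlgSp.yon S).map (pullback.fst k (GrothLib.AlgSp.openOverι O)) ≫ w)
      ((AlgSp.yon S).map (pullback.snd k (GrothLib.AlgSp.openOverι O)) ≫ l) (by rw [sqA.w, Category.assoc])
    have sqB : IsPullback m ((AlgSp.yon S).map (pullback.snd k (GrothLib.AlgSp.openOverι O))) snd.hom l :=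
      IsPullback.of_right (by rw [hP.lift_fst]; exact sqA) (hP.lift_snd _ _ _) hP
    haveI : IsIso (pullback.snd k (GrothLib.AlgSp.openOverι O)) := by
      haveI := sqB.isIso_snd_of_isIso
      exact isIso_of_reflects_iso _ (AlgSp.yon S)
    haveI hsi : IsIso (pullback.snd k (GrothLib.AlgSp.openOverι O)).left :=
      inferInstanceAs (IsIso ((Over.forget S).map _))
    have hl := GrothLib.AlgSp.isPullback_left hp
    have hiso : IsIso (pullback.snd k.left O.ι) := by
      have e : pullback.snd k.left O.ι = hl.isoPullback.inv ≫ (pullback.snd k (GrothLib.AlgSp.openOverι O)).left :=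
        (Iso.eq_inv_comp _).2 hl.isoPullback_hom_snd
      rw [e]; exact @IsIso.comp_isIso _ _ _ _ _ _ _ inferInstance hsi
    rw [show k.left ∣_ O = (pullbackRestrictIsoRestrict k.left O).inv ≫ pullback.snd k.left O.ι from rfl]
    infer_instance
  exact Groth.Agent.S0449.result k.left O

end Groth.Agent.S10655
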