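import Groth.Statements.S10652
import Groth.Agent.S0451
import Groth.Agent.Lib.AlgSp.SchDenseSp
import Groth.Agent.Lib.AlgSp.LocP
import Groth.Agent.Lib.AlgSp.LciLocus
import Groth.Agent.Lib.AlgSp.WhereUnramInj
import Groth.Agent.S10655
-- import your own Groth.Agent.* helpers here

set_option autoImplicit false
universe u
open CategoryTheory CategoryTheory.Limits AlgebraicGeometry
open AlgSp GrothLib.AlgSp
set_option backward.isDefEq.respectTransparency false

namespace Groth.Agent.S10652

/-- For a flat morphism f : X ⟶ Y of algebraic spaces over S which is locally of finite type, and an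
open subspace j : V ⟶ Y which is quasi-compact (as a morphism) and scheme theoretically dense (on
some etale surjective scheme chart its inverse image is a schematically dense open): if the base
change X ×_Y V ⟶ V is locally of finite presentation then so is f. -/
theorem result {S : Scheme.{u}} {X Y V : AlgSp.Space S} (f : X ⟶ Y) (j : V ⟶ Y)
    (hf1 : AlgSp.LocP @LocallyOfFiniteType f.hom) (hf2 : AlgSp.LocP @Flat f.hom)
    (hj1 : AlgSp.IsQuasiCompactMor j.hom) (hj2 : AlgSp.IsSchDense j.hom)
    (P : AlgSp.Space S) (fst : P ⟶ X) (snd : P ⟶ V) (hP : IsPullback fst.hom snd.hom f.hom j.hom)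
    (hV : AlgSp.LocP @LocallyOfFinitePresentation snd.hom) :
    AlgSp.LocP @LocallyOfFinitePresentation f.hom := by
  obtain ⟨U, T, a, b, h, ha, has, hb, hbs, c⟩ := exists_chart_diagram X.property Y.property f.hom
  haveI : LocallyOfFiniteType h.left := hf1 a b h ha hb c
  haveI : Flat h.left := hf2 a b h ha hb c
  have hji : RepWith @IsOpenImmersion j.hom := hj2.1
  obtain ⟨O, l, sqO, -⟩ := exists_preimage_openOver hji b
  haveI : QuasiCompact O.ι := (repWith_quasiCompact_of_isQuasiCompactMor hji.1 hj1).2 _ _ _ sqO
  haveI : IsSchemeTheoreticallyDominant O.ι :=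
    ⟨(isSchematicallyDense_iff_ker O).1 (isSchematicallyDense_of_chart hj2 hb sqO)⟩
  have sqh := IsPullback.of_hasPullback h (openOverι O)
  let m := hP.lift ((yon S).map (pullback.fst h (openOverι O)) ≫ a) ((yon S).map (pullback.snd h (openOverι O)) ≫ l)
    (by rw [Category.assoc, c, ← Category.assoc, ← Functor.map_comp, sqh.w, Functor.map_comp, Category.assoc,
      ← sqO.w, Category.assoc])
  have hfo : RepWith @IsOpenImmersion fst.hom := repWith_of_isPullback hP.flip hji
  have hm : RepWith @Etale m := by
    have hma : RepWith @Etale (m ≫ fst.hom) := by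
      rw [hP.lift_fst]
      haveI : IsOpenImmersion (pullback.fst h (openOverι O)).left :=
        MorphismProperty.of_isPullback (isPullback_left sqh).flip (inferInstanceAs (IsOpenImmersion O.ι))
      exact repWith_comp ((repWith_yon_map_iff _ _).2 (inferInstance : Etale (pullback.fst h (openOverι O)).left)) ha
    haveI : Mono fst.hom := mono_of_openImmersion hfo
    exact repWith_of_comp_diagonal (P := @Etale) m fst.hom (repWith_iso _) hma
  have hl : RepWith @Etale l := repWith_of_isPullback sqO.flip hb
  haveI hk : LocallyOfFinitePresentation (pullback.snd h (openOverι O)).left :=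
    hV m l (pullback.snd h (openOverι O)) hm hl (hP.lift_snd _ _ _)
  haveI : LocallyOfFinitePresentation (h.left ∣_ O) := by
    have hl' := isPullback_left sqh
    rw [show h.left ∣_ O = (pullbackRestrictIsoRestrict h.left O).inv ≫ pullback.snd h.left O.ι from rfl,
      show pullback.snd h.left O.ι = hl'.isoPullback.inv ≫ (pullback.snd h (openOverι O)).left from
        (Iso.eq_inv_comp _).2 hl'.isoPullback_hom_snd]
    infer_instance
  exact EtLocal.lfp.locP_of_chart ha has hb c (Groth.Agent.S0451.result h.left O)
end Groth.Agent.S10652
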