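import Groth.Statements.S10654
import Groth.Agent.Lib.AlgSp.FlatDense
-- import your own Groth.Agent.* helpers here

set_option autoImplicit false
universe u
open CategoryTheory CategoryTheory.Limits AlgebraicGeometry
open AlgSp

namespace Groth.Agent.S10654

/-- For a flat proper morphism f : X ⟶ Y of algebraic spaces over S and an open subspace j : V ⟶ Y with
|V| dense in |Y| such that the base change X ×_Y V ⟶ V is finite: f is finite over all of Y,
provided either j is quasi-compact or f is locally of finite presentation. -/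
theorem result {S : Scheme.{u}} {X Y V : AlgSp.Space S} (f : X ⟶ Y) (j : V ⟶ Y)
    (hf1 : AlgSp.LocP @Flat f.hom) (hf2 : AlgSp.IsProperMor f.hom)
    (hj1 : AlgSp.RepWith @IsOpenImmersion j.hom) (hj2 : Dense (Set.range (AlgSp.Points.map j.hom)))
    (P : AlgSp.Space S) (fst : P ⟶ X) (snd : P ⟶ V) (hP : IsPullback fst.hom snd.hom f.hom j.hom)
    (hV : AlgSp.IsFiniteMor snd.hom)
    (h : AlgSp.LocP @LocallyOfFinitePresentation f.hom ∨ AlgSp.IsQuasiCompactMor j.hom) :
    AlgSp.IsFiniteMor f.hom := by
  have hft := hf2.2.1.1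
  have hP' : AlgSp.RepWith @IsFinite snd.hom := GrothLib.AlgSp.isFiniteMor_iff.1 hV
  have hsnd : ∀ x, AlgSp.HasAtMor (fun _ _ h u => FlatMor.fibreDimAt h u ≤ ((0 : ℕ) : WithBot ℕ∞)) snd.hom x := by
    intro x
    have hl : AlgSp.LocP @LocallyOfFiniteType snd.hom := GrothLib.AlgSp.EtLocal.locP_of_repWith .lft V.property
      (GrothLib.AlgSp.repWith_mono hP' fun A B m (hm : IsFinite m) => inferInstance)
    have hq : AlgSp.LocP @LocallyQuasiFinite snd.hom := GrothLib.AlgSp.EtLocal.locP_of_repWith .lqf V.property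
      (GrothLib.AlgSp.repWith_mono hP' fun A B m (hm : IsFinite m) => inferInstance)
    obtain ⟨U, T, a, b, k, u, ha, hb, c, rfl⟩ := GrothLib.AlgSp.exists_chart_at P.property V.property snd.hom x
    haveI : LocallyOfFiniteType k.left := hl a b k ha hb c
    exact ⟨U, T, a, b, k, u, ha, hb, c, rfl, (GrothLib.AlgSp.lqf_iff_fibreDimAt k.left).1 (hq a b k ha hb c) u⟩
  refine GrothLib.AlgSp.isFiniteMor_iff.2 (GrothLib.AlgSp.repWith_isFinite_of_proper_lqf X.property Y.property hf2
    (GrothLib.AlgSp.locP_lqf_of_fibreDim X.property Y.property hft fun x => ?_))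
  exact GrothLib.AlgSp.fibreDim_le_of_flat_dense X.property Y.property hf1 hft V.property hj1 hj2 hP 0 hsnd h x

end Groth.Agent.S10654
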