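import Groth.Agent.Lib.AlgSp.Space
import Groth.Statements.S10659
-- import your own Groth.Agent.* helpers here

set_option autoImplicit false
universe u
open CategoryTheory CategoryTheory.Limits AlgebraicGeometry
open AlgSp

namespace Groth.Agent.S10659

/-- For a property P of morphisms of schemes that is etale local on the target (local for the etale
precoverage) and a representable morphism f : X ⟶ Y of algebraic spaces over S: if for one scheme V
with a representable etale surjective b : h_V ⟶ Y and one pullback square of f along b with corner
h_W the projection W ⟶ V has P, then f has P etale locally on the target in the representable sense,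
i.e. every such projection along every etale h_V ⟶ Y has P. (The published statement also asserts
the converse direction and that, for X and Y representable, the condition is equivalent to f having
P; this row states only that one surjective etale chart suffices.) -/
theorem result {S : Scheme.{u}} (P : MorphismProperty Scheme.{u}) [P.IsLocalAtTarget Scheme.etalePrecoverage]
    {X Y : AlgSp.Space S} (f : X ⟶ Y) (hf : AlgSp.Representable f.hom)
    {V W : Over S} (b : (AlgSp.yon S).obj V ⟶ Y.obj) (hb1 : AlgSp.RepWith @Etale b) (hb2 : AlgSp.RepWith @Surjective b)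
    (fst : (AlgSp.yon S).obj W ⟶ X.obj) (snd : W ⟶ V)
    (sq : IsPullback fst ((AlgSp.yon S).map snd) f.hom b) (hP : P snd.left) :
    AlgSp.RepLocT P f.hom := by
  refine ⟨hf, fun V' W' b' fst' snd' hb' sq' => ?_⟩
  obtain ⟨R, a, c, sR⟩ := GrothLib.AlgSp.exists_isPullback_yon Y.property.diag b b'
  have hae : Etale a.left := hb'.2 _ _ _ sR.flip
  have hce : Etale c.left := hb1.2 _ _ _ sR
  have hcs : Surjective c.left := hb2.2 _ _ _ sR
  have hR : Presieve.singleton c.left ∈ Scheme.etalePrecoverage V'.left :=
    (Scheme.singleton_mem_precoverage_iff _ _).2 ⟨fun y => hcs.surj y, hce⟩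
  have hcov : Presieve.ofArrows (fun k : Bool => bif k then R.left else V.left)
      (fun k => Bool.rec (motive := fun k => (bif k then R.left else V.left) ⟶ V.left) (𝟙 _) a.left k) ∈
        Scheme.etalePrecoverage V.left := by
    rw [Scheme.etalePrecoverage, Scheme.ofArrows_mem_precoverage_iff]
    exact ⟨fun y => ⟨false, y, rfl⟩, fun k => by cases k <;> first | exact hae | exact (inferInstance : Etale (𝟙 V.left))⟩
  refine MorphismProperty.IsLocalAtTarget.of_forall_pullbackSnd hR fun {U g} _ hg => ?_
  cases hg
  have h₁ : P (pullback.snd snd.left a.left) :=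
    MorphismProperty.IsLocalAtTarget.pullbackSnd hcov (Presieve.ofArrows.mk true) hP
  let A : Over S := Over.mk (pullback.snd snd.left a.left ≫ R.hom)
  let B : Over S := Over.mk (pullback.snd snd'.left c.left ≫ R.hom)
  let a₁ : A ⟶ W := Over.homMk (pullback.fst _ _) (by
    change pullback.fst snd.left a.left ≫ W.hom = pullback.snd snd.left a.left ≫ R.hom
    rw [← Over.w snd, pullback.condition_assoc, Over.w a])
  let a₂ : A ⟶ R := Over.homMk (pullback.snd _ _) rfl
  let b₁ : B ⟶ W' := Over.homMk (pullback.fst _ _) (by
    change pullback.fst snd'.left c.left ≫ W'.hom = pullback.snd snd'.left c.left ≫ R.hom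
    rw [← Over.w snd', pullback.condition_assoc, Over.w c])
  let b₂ : B ⟶ R := Over.homMk (pullback.snd _ _) rfl
  have sA : IsPullback a₁ a₂ snd a :=
    IsPullback.of_map_of_faithful (Over.forget S) (IsPullback.of_hasPullback snd.left a.left)
  have sB : IsPullback b₁ b₂ snd' c :=
    IsPullback.of_map_of_faithful (Over.forget S) (IsPullback.of_hasPullback snd'.left c.left)
  have s₁ := (GrothLib.AlgSp.isPullback_yon sA).paste_horiz sq
  have s₂ := (GrothLib.AlgSp.isPullback_yon sB).paste_horiz sq'
  rw [sR.w] at s₁
  let e : A ≅ B := (yon S).preimageIso (s₁.isoIsPullback _ _ s₂)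
  have he : e.hom ≫ b₂ = a₂ := (yon S).map_injective (by
    rw [Functor.map_comp]
    simp only [e, Functor.preimageIso_hom, Functor.map_preimage]
    exact s₁.isoIsPullback_hom_snd _ _ s₂)
  have : IsIso e.hom.left := inferInstanceAs (IsIso ((Over.forget S).map e.hom))
  refine (P.cancel_left_of_respectsIso e.hom.left _).1 ?_
  rw [show e.hom.left ≫ pullback.snd snd'.left c.left = pullback.snd snd.left a.left from congrArg (fun k => k.left) he]
  exact h₁

end Groth.Agent.S10659
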