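import Groth.Statements.S1066
import Groth.Statements.S1066
import Groth.Agent.Lib.BCFlat25.Main

set_option autoImplicit false
universe u
open CategoryTheory CategoryTheory.Limits AlgebraicGeometry Opposite
attribute [local instance] HasDerivedCategory.standard
open Perf

namespace Groth.Agent.S1066

/-- In the case of a single module and in weak form: let f : X ⟶ S be quasi-compact and quasi-separated,
E ∈ D(O_X) with quasi-coherent cohomology sheaves, G a quasi-coherent O_X-module flat over S, and g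
: S' ⟶ S any morphism, with X' = X ×_S S', projections g' : X' ⟶ X and f' : X' ⟶ S'. Assuming the
derived functors exist, Lg^*Rf_*(E ⊗^L G) and Rf'_*(L(g')^*E ⊗^L (g')^*G) are isomorphic in
D(O_{S'}). (The source proves the canonical base change map is an isomorphism; here only the
existence of an isomorphism is asserted.) -/
theorem result {X S S' : Scheme.{u}} (f : X ⟶ S) [QuasiCompact f] [QuasiSeparated f] (g : S' ⟶ S)
    (E : DCoh.D X) (hE : DCoh.IsQCohD E) (G : X.Modules) (hG : Coh.IsQCoh G) (hflat : FlatMod.IsFlatOver f G)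
    [DCoh.HasLTensorMod G] [DCoh.HasRpush f] [DCoh.HasLpull g]
    [DCoh.HasLpull (pullback.fst f g)] [DCoh.HasRpush (pullback.snd f g)]
    [DCoh.HasLTensorMod ((Scheme.Modules.pullback (pullback.fst f g)).obj G)] :
    Nonempty ((DCoh.Lpull g).obj ((DCoh.Rpush f).obj ((DCoh.LTensorMod G).obj E)) ≅
      (DCoh.Rpush (pullback.snd f g)).obj ((DCoh.LTensorMod ((Scheme.Modules.pullback (pullback.fst f g)).obj G)).obj ((DCoh.Lpull (pullback.fst f g)).obj E))) := by
  haveI := GrothLib.OX.hasLTensorMod G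
  let g' := pullback.fst f g
  let f' := pullback.snd f g
  have h : IsPullback g' f' f g := IsPullback.of_hasPullback f g
  haveI : G.IsQuasicoherent := hG
  obtain ⟨_, ⟨a⟩⟩ := GrothLib.TorBC25.exists_adjRR g
  obtain ⟨P, hP, ⟨e⟩⟩ := GrothLib.OX.exists_kflat_rep E
  have hq : DCoh.IsQCohD (DerivedCategory.Q.obj P) := GrothLib.BCFlat25.isQCohD_iso e.symm hE
  have hi := GrothLib.BCFlat25.bcg h G hflat _ a P hP hq
  obtain ⟨v⟩ := GrothLib.OX.ltensor_value G P hP
  obtain ⟨w⟩ := GrothLib.OX.lpull_value g' P hP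
  obtain ⟨v'⟩ := GrothLib.OX.ltensor_value ((Scheme.Modules.pullback g').obj G) _ (GrothLib.OX.isKFlat_pullback g' hP)
  let q := DerivedCategory.quotientCompQhIso X.Modules
  let q' := DerivedCategory.quotientCompQhIso (pullback f g).Modules
  refine ⟨(DCoh.Lpull g).mapIso ((DCoh.Rpush f).mapIso ((DCoh.LTensorMod G).mapIso e.symm ≪≫ v ≪≫ (q.app _).symm) ≪≫
    (GrothLib.OX.rpushIsoRres f).app _) ≪≫ @asIso _ _ _ _ _ hi ≪≫
    (GrothLib.OX.rpushIsoRres f').symm.app _ ≪≫ (DCoh.Rpush f').mapIso (q'.app _ ≪≫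
      DerivedCategory.Q.mapIso (GrothLib.BCFlat25.tPIso g' G P) ≪≫ v'.symm ≪≫
      (DCoh.LTensorMod ((Scheme.Modules.pullback g').obj G)).mapIso (w.symm ≪≫ (DCoh.Lpull g').mapIso e))⟩

end Groth.Agent.S1066
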