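import Groth.Statements.S10661
import Groth.Agent.S10660
import Groth.Agent.S5003
import Groth.Agent.S8905
import Groth.Agent.Lib.AlgSp.EtaleLocallyProps
-- import your own Groth.Agent.* helpers here

set_option autoImplicit false
universe u
open CategoryTheory CategoryTheory.Limits AlgebraicGeometry
open AlgSp GrothLib.AlgSp
set_option backward.isDefEq.respectTransparency false

namespace Groth.Agent.S10661

/-- For an immersion i : Z ⟶ X of algebraic spaces over S with X locally Noetherian (some etale
surjective chart is a locally Noetherian scheme), the three conditions Koszul-regular immersion,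
H_1-regular immersion and quasi-regular immersion on i are equivalent. -/
theorem result {S : Scheme.{u}} {Z X : AlgSp.Space S} (i : Z ⟶ X) (hi : AlgSp.RepWith @IsImmersion i.hom)
    (hX : AlgSp.IsLocNoethSp X.obj) :
    (AlgSp.IsRegImmMor RegImm.Kind.koszul i.hom ↔ AlgSp.IsRegImmMor RegImm.Kind.h1 i.hom) ∧
      (AlgSp.IsRegImmMor RegImm.Kind.h1 i.hom ↔ AlgSp.IsRegImmMor RegImm.Kind.quasi i.hom) := by
  have key : AlgSp.IsRegImmMor RegImm.Kind.quasi i.hom → AlgSp.IsRegImmMor RegImm.Kind.koszul i.hom :=
    fun h => ⟨h.1, fun V W b fst snd hb sq => by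
      haveI : IsLocallyNoetherian V.left := etaleLocally_chart (fun _ _ k e => isLocallyNoetherian_of_etale k e)
        (fun _ _ k e s => isLocallyNoetherian_desc k e s) hX b hb
      exact (Groth.Agent.S8905.result snd.left).1 ((Groth.Agent.S5003.result snd.left).2 (h.2 b fst snd hb sq))⟩
  have imp := Groth.Agent.S10660.result i hi
  exact ⟨⟨imp.1, fun h => key (imp.2 h)⟩, ⟨imp.2, fun h => imp.1 (key h)⟩⟩
end Groth.Agent.S10661
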