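import Groth.Statements.S10662
import Groth.Agent.Lib.RegImmFlat29.Basic
import Groth.Agent.Lib.AlgSp.Rep
import Groth.Agent.Lib.AlgSp.Space
import Groth.Agent.Lib.AlgSp.ImmersionDescent
import Groth.Agent.Lib.AlgSp.EtaleLocallyProps

set_option autoImplicit false
universe u
open CategoryTheory CategoryTheory.Limits AlgebraicGeometry
open AlgSp

namespace Groth.Agent.S10662

/-- Let k be one of the kinds Koszul-regular, H_1-regular, quasi-regular; let i : Z ⟶ X be a regular
immersion of algebraic spaces over S of kind k and g : X' ⟶ X a flat morphism of algebraic spaces.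
Then the base change Z ×_X X' ⟶ X' (any pullback square of algebraic spaces) is a regular immersion
of kind k. -/
theorem result {S : Scheme.{u}} (k : RegImm.Kind) (hk : k = RegImm.Kind.koszul ∨ k = RegImm.Kind.h1 ∨ k = RegImm.Kind.quasi)
    {Z X X' : AlgSp.Space S} (i : Z ⟶ X) (g : X' ⟶ X)
    (hi : AlgSp.IsRegImmMor k i.hom) (hg : AlgSp.LocP @Flat g.hom)
    (P : AlgSp.Space S) (fst : P ⟶ Z) (i' : P ⟶ X') (sq : IsPullback fst.hom i'.hom i.hom g.hom) :
    AlgSp.IsRegImmMor k i'.hom := by
  have hk' : k ≠ RegImm.Kind.regular := by rcases hk with rfl | rfl | rfl <;> decide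
  refine ⟨(GrothLib.AlgSp.repWith_top_iff.1
    (GrothLib.AlgSp.repWith_of_isPullback sq (GrothLib.AlgSp.repWith_top_iff.2 hi.1))), fun V W b fst₀ snd hb sq₀ => ?_⟩
  obtain ⟨U, a, ae, as⟩ := X.property.atlas
  obtain ⟨V', p, α, pe, hp, ps⟩ :=
    GrothLib.AlgSp.exists_chart_over (IsAlgSpace.yon_obj V) X.property (b ≫ g.hom) a ae
  obtain ⟨c, rfl⟩ := (yon S).map_surjective p
  haveI : Etale c.left := (repWith_yon_map_iff @Etale c).1 pe
  haveI : Surjective c.left := (repWith_yon_map_iff @Surjective c).1 (ps as)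
  haveI : Flat α.left := hg ((yon S).map c ≫ b) a α (GrothLib.AlgSp.repWith_comp pe hb) ae
    ((Category.assoc _ _ _).trans hp)
  obtain ⟨W₀, fst₁, w₀, sq₁⟩ := GrothLib.AlgSp.exists_isPullback_of_representable hi.1 a
  have hw₀ : RegImm.IsRegularImmersion k w₀.left := hi.2 a fst₁ w₀ ae sq₁
  have sq₂ := IsPullback.of_hasPullback w₀ α
  have hw₂ : RegImm.IsRegularImmersion k (pullback.snd w₀ α).left :=
    GrothLib.RegImmFlat29.isRegularImmersion_baseChange hk' (GrothLib.AlgSp.isPullback_left sq₂) hw₀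
  have big := (GrothLib.AlgSp.isPullback_yon sq₂).paste_horiz sq₁
  rw [← hp] at big
  have sqX := sq₀.paste_horiz sq
  let l := sqX.lift ((yon S).map (pullback.fst w₀ α) ≫ fst₁) ((yon S).map (pullback.snd w₀ α ≫ c))
    ((congrArg (fun t => t) big.w).trans (by rw [Functor.map_comp]; exact (Category.assoc _ _ _).symm))
  obtain ⟨l', hl'⟩ := (yon S).map_surjective l
  have hlf : (yon S).map l' ≫ fst₀ ≫ fst.hom = (yon S).map (pullback.fst w₀ α) ≫ fst₁ := by
    rw [hl']; exact sqX.lift_fst _ _ _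
  have hls : (yon S).map l' ≫ (yon S).map snd = (yon S).map (pullback.snd w₀ α) ≫ (yon S).map c := by
    rw [hl', ← Functor.map_comp]; exact sqX.lift_snd _ _ _
  have sq₃ : IsPullback ((yon S).map l') ((yon S).map (pullback.snd w₀ α)) ((yon S).map snd) ((yon S).map c) :=
    IsPullback.of_right (by rw [hlf]; exact big) hls sqX
  exact GrothLib.RegImmFlat29.isRegularImmersion_of_fppf hk'
    (GrothLib.AlgSp.isPullback_left (GrothLib.AlgSp.isPullback_of_isPullback_yon sq₃)) hw₂

end Groth.Agent.S10662
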