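import Groth.Statements.S10663
import Groth.Agent.S8654
import Groth.Agent.Lib.RegImmComp29.Basic
import Groth.Agent.Lib.AlgSp.Rep

set_option autoImplicit false
universe u
open CategoryTheory CategoryTheory.Limits AlgebraicGeometry
open AlgSp

namespace Groth.Agent.S10663

/-- For immersions i : Z ⟶ Y and j : Y ⟶ X of algebraic spaces over S, the composite i ≫ j is
Koszul-regular when i and j both are; likewise for H_1-regular; and it is quasi-regular when i is
H_1-regular and j quasi-regular. -/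
theorem result {S : Scheme.{u}} {Z Y X : AlgSp.Space S} (i : Z ⟶ Y) (j : Y ⟶ X)
    (hi : AlgSp.RepWith @IsImmersion i.hom) (hj : AlgSp.RepWith @IsImmersion j.hom) :
    (AlgSp.IsRegImmMor RegImm.Kind.koszul i.hom → AlgSp.IsRegImmMor RegImm.Kind.koszul j.hom →
        AlgSp.IsRegImmMor RegImm.Kind.koszul (i ≫ j).hom) ∧
      (AlgSp.IsRegImmMor RegImm.Kind.h1 i.hom → AlgSp.IsRegImmMor RegImm.Kind.h1 j.hom →
        AlgSp.IsRegImmMor RegImm.Kind.h1 (i ≫ j).hom) ∧
      (AlgSp.IsRegImmMor RegImm.Kind.h1 i.hom → AlgSp.IsRegImmMor RegImm.Kind.quasi j.hom →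
        AlgSp.IsRegImmMor RegImm.Kind.quasi (i ≫ j).hom) := by
  have main : ∀ (k k' : RegImm.Kind), (∀ {A B C : Scheme.{u}} (a : B ⟶ A) (c : C ⟶ B),
      RegImm.IsRegularImmersion k a → RegImm.IsRegularImmersion k' c → RegImm.IsRegularImmersion k (c ≫ a)) →
      AlgSp.IsRegImmMor k' i.hom → AlgSp.IsRegImmMor k j.hom → AlgSp.IsRegImmMor k (i ≫ j).hom := by
    intro k k' hcomp h₁ h₂
    refine ⟨(GrothLib.AlgSp.repWith_comp (P := @IsImmersion) hi hj).1, fun V W b fst snd hb sq => ?_⟩
    let b' := hj.rep.fst b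
    have hb' : AlgSp.RepWith @Etale b' := MorphismProperty.of_isPullback (hj.rep.isPullback b).flip hb
    have hw : (fst ≫ i.hom) ≫ j.hom = (AlgSp.yon S).map snd ≫ b :=
      (Category.assoc _ _ _).trans sq.w
    let l : W ⟶ hj.rep.pullback b := hj.rep.lift (fst ≫ i.hom) snd hw
    have hl : (AlgSp.yon S).map l ≫ b' = fst ≫ i.hom := hj.rep.lift_fst _ _ _
    have hsnd : l ≫ hj.rep.snd b = snd := hj.rep.lift_snd _ _ _
    have sq₁ : IsPullback fst ((AlgSp.yon S).map l) i.hom b' := by
      refine IsPullback.of_bot ?_ hl.symm (hj.rep.isPullback b)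
      rw [← Functor.map_comp, hsnd]
      exact sq
    have e : snd.left = l.left ≫ (hj.rep.snd b).left := by rw [← Over.comp_left, hsnd]
    show RegImm.IsRegularImmersion k snd.left
    rw [e]
    exact hcomp _ _ (h₂.2 b b' (hj.rep.snd b) hb (hj.rep.isPullback b)) (h₁.2 b' fst l hb' sq₁)
  exact ⟨main _ _ (fun a c => Groth.Agent.S8654.result a c),
    main _ _ (fun a c => GrothLib.RegImmComp29.isRegularImmersion_comp _ _ GrothLib.RegImmComp29.flatStable_h1
      GrothLib.RegImmComp29.flatStable_h1 GrothLib.RegImmComp29.appendStable_h1 a c),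
    main _ _ (fun a c => GrothLib.RegImmComp29.isRegularImmersion_comp _ _ GrothLib.RegImmComp29.flatStable_quasi
      GrothLib.RegImmComp29.flatStable_h1 GrothLib.RegImmComp29.appendStable_quasi a c)⟩

end Groth.Agent.S10663
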