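import Groth.Agent.Lib.AlgSp.UnivExist
import Groth.Agent.Lib.LCI6.Koszul
import Groth.Agent.Lib.LCI6.InLocus
import Groth.Statements.S10665
-- import your own Groth.Agent.* helpers here

set_option autoImplicit false
universe u
open CategoryTheory CategoryTheory.Limits AlgebraicGeometry
open AlgSp

namespace Groth.Agent.S10665

/-- A Koszul-regular immersion between algebraic spaces over S (representable, Koszul-regular immersion
on every etale scheme chart of the target) is a local complete intersection morphism (Koszul at
every point, etale locally on source and target). -/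
theorem result {S : Scheme.{u}} {X Y : AlgSp.Space S} (i : X ⟶ Y) (hi : AlgSp.IsRegImmMor RegImm.Kind.koszul i.hom) :
    AlgSp.IsLCIMor i.hom := by
  intro U V a b h ha hb w
  obtain ⟨W, fst, snd, sq⟩ := GrothLib.AlgSp.exists_isPullback_of_representable hi.1 b
  obtain ⟨m, hm⟩ := (AlgSp.yon S).map_surjective (sq.lift a ((AlgSp.yon S).map h) w)
  have : Etale m.left := by
    refine GrothLib.AlgSp.etale_of_comp_repWith X.property (GrothLib.AlgSp.repWith_of_isPullback sq.flip hb) ?_
    rw [hm, sq.lift_fst]
    exact ha
  have e : h = m ≫ snd := (AlgSp.yon S).map_injective (by rw [Functor.map_comp, hm, sq.lift_snd])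
  have hr : RegImm.IsRegularImmersion RegImm.Kind.koszul snd.left := hi.2 b fst snd hb sq
  have := hr.1
  intro x
  rw [GrothLib.LCI6.isKoszulAt_iff_inLocus, e, Over.comp_left]
  exact GrothLib.LCI6.inLocus_comp (GrothLib.LCI6.inLocus_of_smooth m.left x)
    ((GrothLib.LCI6.isRegularImmersion_iff_inLocus snd.left).1 hr _)

end Groth.Agent.S10665
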