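import Groth.Statements.S10667
import Groth.Agent.Lib.AlgSp.LciLocus
import Groth.Agent.S8662
-- import your own Groth.Agent.* helpers here

set_option autoImplicit false
universe u
open CategoryTheory CategoryTheory.Limits AlgebraicGeometry
open AlgSp GrothLib.AlgSp
set_option backward.isDefEq.respectTransparency false

namespace Groth.Agent.S10667

open GrothLib.LCI6 in
/-- LCI at all points descends along a finite flat jointly surjective family of affine schemes. -/
theorem forall_inLocus_of_flat_cover {X V : Scheme.{u}} [IsAffine V] (f : X ⟶ V) {ι : Type u} [Finite ι]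
    (B : ι → Scheme.{u}) [∀ k, IsAffine (B k)] (κ : ∀ k, B k ⟶ V) (hκ : ∀ k, Flat (κ k))
    (hs : ∀ v : V, ∃ k, v ∈ Set.range (κ k))
    (h : ∀ k z, InLocus (pullback.snd f (κ k)) z) (x : X) : InLocus f x := by
  let g : ∐ B ⟶ V := Sigma.desc κ
  haveI : IsAffine (∐ B) := inferInstance
  haveI : Flat g := by
    rw [IsZariskiLocalAtSource.iff_of_openCover (P := @Flat) (sigmaOpenCover B)]
    intro k
    show Flat (Sigma.ι B k ≫ g)
    rw [Sigma.ι_desc]
    exact hκ k
  haveI : Surjective g := ⟨fun v => by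
    obtain ⟨k, b, rfl⟩ := hs v
    exact ⟨Sigma.ι B k b, by rw [← Scheme.Hom.comp_apply, Sigma.ι_desc]⟩⟩
  have sq := IsPullback.of_hasPullback f g
  have hK : ∀ z, InLocus (pullback.snd f g) z := fun z => by
    obtain ⟨b, hb⟩ := (sigmaOpenCover B).covers (pullback.snd f g z)
    let k := (sigmaOpenCover B).idx (pullback.snd f g z)
    let m : pullback f (κ k) ⟶ pullback f g :=
      pullback.lift (pullback.fst f (κ k)) (pullback.snd f (κ k) ≫ Sigma.ι B k)
        (by rw [pullback.condition, Category.assoc, Sigma.ι_desc])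
    have sqm : IsPullback m (pullback.snd f (κ k)) (pullback.snd f g) (Sigma.ι B k) :=
      IsPullback.of_right (by rw [pullback.lift_fst, Sigma.ι_desc]; exact IsPullback.of_hasPullback f (κ k))
        (pullback.lift_snd _ _ _) sq
    haveI hι : IsOpenImmersion (Sigma.ι B k) := inferInstance
    haveI : IsOpenImmersion m := MorphismProperty.of_isPullback sqm.flip hι
    obtain ⟨z', hz', -⟩ := Scheme.exists_preimage_of_isPullback sqm z b hb.symm
    have h2 : InLocus (pullback.snd f (κ k) ≫ Sigma.ι B k) z' := inLocus_comp (h k z') (inLocus_of_smooth (Sigma.ι B k) _)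
    rw [← sqm.w] at h2
    exact hz' ▸ (inLocus_openImmersion_comp_iff m _).1 h2
  exact (inLocus_iff_of_isKoszul f).1
    (Groth.Agent.S8662.result f g (pullback.snd f g) (pullback.fst f g) sq ((inLocus_iff_of_isKoszul _).2 hK)) x


/-- The property of being a local complete intersection morphism of algebraic spaces over S is fpqc
local on the base: for an fpqc covering of an algebraic space Y by algebraic spaces Y_i and pullback
squares X_i = X ×_Y Y_i, a morphism f : X ⟶ Y is a local complete intersection morphism if and only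
if every base change X_i ⟶ Y_i is. -/
theorem result {S : Scheme.{u}} : AlgSp.IsLocalOnBase (AlgSp.IsFpqcCover (S := S)) AlgSp.IsLCIMor := by
  classical
  intro ι Y Yi g hY hYi hg X f hX Xi p q hXi sq
  obtain ⟨V, b, hb, hbs⟩ := hY.atlas
  obtain ⟨U, a₀, ha₀, ha₀s⟩ := (isAlgSpace_pullback' hY hX (IsAlgSpace.yon_obj V) f b).atlas
  obtain ⟨h, hh⟩ := (yon S).map_surjective (a₀ ≫ pullback.snd f b)
  let a := a₀ ≫ pullback.fst f b
  have ha : RepWith @Etale a :=
    repWith_comp ha₀ (repWith_of_isPullback (IsPullback.of_hasPullback f b).flip hb)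
  have has : RepWith @Surjective a :=
    repWith_comp ha₀s (repWith_of_isPullback (IsPullback.of_hasPullback f b).flip hbs)
  have cf : a ≫ f = (yon S).map h ≫ b := by
    rw [Category.assoc, pullback.condition, hh, Category.assoc]
  have hchart : ∀ i, ∃ (V' U' : Over S) (c : (yon S).obj V' ⟶ pullback (g i) b) (κ : V' ⟶ V) (pU : U' ⟶ U)
      (h' : U' ⟶ V') (a' : (yon S).obj U' ⟶ Xi i), RepWith @Etale c ∧ RepWith @Surjective c ∧
      (yon S).map κ = c ≫ pullback.snd (g i) b ∧ IsPullback pU.left h'.left h.left κ.left ∧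
      RepWith @Etale (c ≫ pullback.fst (g i) b) ∧
      a' ≫ p i = (yon S).map h' ≫ c ≫ pullback.fst (g i) b ∧ RepWith @Etale a' ∧ RepWith @Surjective a' := by
    intro i
    obtain ⟨V', c, hc, hcs⟩ := (isAlgSpace_pullback' hY (hYi i) (IsAlgSpace.yon_obj V) (g i) b).atlas
    obtain ⟨κ, hκ⟩ := (yon S).map_surjective (c ≫ pullback.snd (g i) b)
    have hbe := repWith_comp hc (repWith_of_isPullback (IsPullback.of_hasPullback (g i) b).flip hb)
    have hbs' := repWith_comp hcs (repWith_of_isPullback (IsPullback.of_hasPullback (g i) b).flip hbs)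
    obtain ⟨U', pU, h', a', s, -, c', ha', ha's⟩ := exists_chart_baseChange (sq i) ha₀ ha₀s hh hbe hbs' κ (by
      rw [Category.assoc, pullback.condition, hκ, Category.assoc])
    exact ⟨V', U', c, κ, pU, h', a', hc, hcs, hκ, s, hbe, c', ha', ha's⟩
  choose V' U' c κ pU h' a' hc hcs hκ hs hbe c' ha' ha's using hchart
  have hflat : ∀ i, Flat (κ i).left := fun i => hg.1 i (c i ≫ pullback.fst (g i) b) b (κ i) (hbe i) hb (by
    rw [Category.assoc, pullback.condition, hκ, Category.assoc])
  constructor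
  · intro hf i
    haveI := hflat i
    refine isLCIMor_of_chart (hXi i) (hYi i) (ha' i) (ha's i) (hbe i) (c' i) fun u' => ?_
    exact GrothLib.LCI6.inLocus_baseChange_flat (hs i)
      ((GrothLib.LCI6.isKoszulAt_iff_inLocus _ _).1 (hf a b h ha hb cf _))
  · intro hp
    have hloc : ∀ i (z : ↥(U' i).left), GrothLib.LCI6.InLocus (h' i).left z := fun i z =>
      (GrothLib.LCI6.isKoszulAt_iff_inLocus _ _).1 (hp i (a' i) _ (h' i) (ha' i) (hbe i) (c' i) z)
    refine isLCIMor_of_chart hX hY ha has hb cf fun u => ?_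
    obtain ⟨V₀, hV₀, hu, -⟩ := GrothLib.LCI6.exists_affine_le (x := h.left u) (O := (⊤ : V.left.Opens)) trivial
    haveI : IsAffine (V₀ : Scheme) := hV₀
    let Z : Over S := Over.mk (V₀.ι ≫ V.hom)
    let incl : Z ⟶ V := Over.homMk V₀.ι rfl
    obtain ⟨m, W, cc, hW, hccf, hcov, hl⟩ := hg.2 Z hV₀ ((yon S).map incl ≫ b)
    choose idx l hl using hl
    let mm : ∀ j, (yon S).obj (W j) ⟶ pullback (g (idx j)) b := fun j =>
      pullback.lift (l j) ((yon S).map (cc j ≫ incl)) (by rw [hl j, Functor.map_comp, Category.assoc])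
    let K : Fin m → Type u := fun j =>
      {B : (V' (idx j)).left.Opens // IsAffineOpen B ∧ B ≤ (κ (idx j)).left ⁻¹ᵁ V₀}
    have hcovj : ∀ j, ∃ t : Finset (K j), ∀ w : ↥(W j).left,
        ∃ B ∈ t, Points.ofPt (mm j) w ∈ Points.ofPt (c (idx j)) '' (B.1 : Set ↥(V' (idx j)).left) := by
      intro j
      haveI : IsAffine (W j).left := hW j
      obtain ⟨t, ht⟩ := isCompact_univ.elim_finite_subcover
        (fun B : K j => Points.ofPt (mm j) ⁻¹' (Points.ofPt (c (idx j)) '' (B.1 : Set ↥(V' (idx j)).left)))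
        (fun B => (isOpenMap_ofPt_of_repWith (fun A A' e (he : Etale e) => e.isOpenMap) (hc (idx j)) _ B.1.2).preimage
          (Points.continuous_ofPt _))
        (fun w _ => by
          obtain ⟨v', hv'⟩ := surjective_ofPt_of_repWith (hcs (idx j)) (Points.ofPt (mm j) w)
          have e := congrArg (Points.map (pullback.snd (g (idx j)) b)) hv'
          rw [Points.map_ofPt, Points.map_ofPt, ← hκ, pullback.lift_snd] at e
          have e' : (κ (idx j)).left v' = V₀.ι ((cc j).left w) :=
            (Points.schemeEquiv V).injective (((map_yon_ofPt (κ (idx j)) v').symm.trans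
              (Points.ofPt_eq_map_ofScheme _ _).symm).trans (e.trans ((Points.ofPt_eq_map_ofScheme _ _).trans
                (map_yon_ofPt (cc j ≫ incl) w))))
          obtain ⟨B, hB, hv, hle⟩ := GrothLib.LCI6.exists_affine_le (x := v')
            (O := (κ (idx j)).left ⁻¹ᵁ V₀) (by
              show (κ (idx j)).left v' ∈ V₀
              rw [e']; exact ((cc j).left w).2)
          exact Set.mem_iUnion.2 ⟨⟨B, hB, hle⟩, v', hv, hv'⟩)
      exact ⟨t, fun w => by simpa using ht (Set.mem_univ w)⟩
    choose t ht using hcovj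
    let ιT : Type u := Σ j : ULift.{u} (Fin m), ↥(t j.down)
    let B : ιT → Scheme.{u} := fun k => (k.2.1.1 : Scheme)
    haveI : ∀ k, IsAffine (B k) := fun k => k.2.1.2.1
    let κB : ∀ k, B k ⟶ (V₀ : Scheme) := fun k => (κ (idx k.1.down)).left.resLE V₀ k.2.1.1 k.2.1.2.2
    have hκB : ∀ k, κB k ≫ V₀.ι = k.2.1.1.ι ≫ (κ (idx k.1.down)).left := fun k => Scheme.Hom.resLE_comp_ι _ _
    have key : GrothLib.LCI6.InLocus (h.left ∣_ V₀) ⟨u, hu⟩ := by
      refine forall_inLocus_of_flat_cover (h.left ∣_ V₀) B κB (fun k => ?_) (fun v => ?_) (fun k z => ?_) _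
      · haveI := hflat (idx k.1.down)
        exact inferInstanceAs (Flat ((κ (idx k.1.down)).left.resLE V₀ k.2.1.1 k.2.1.2.2))
      · obtain ⟨j, w, hw⟩ := hcov v
        obtain ⟨Bk, hBk, v', hv', hvw⟩ := ht j w
        refine ⟨⟨⟨j⟩, Bk, hBk⟩, ⟨v', hv'⟩, V₀.ι.isOpenEmbedding.injective ?_⟩
        rw [← Scheme.Hom.comp_apply, hκB]
        have e := congrArg (Points.map (pullback.snd (g (idx j)) b)) hvw
        rw [Points.map_ofPt, Points.map_ofPt, ← hκ, pullback.lift_snd] at e
        have e' : (κ (idx j)).left v' = V₀.ι ((cc j).left w) :=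
          (Points.schemeEquiv V).injective (((map_yon_ofPt (κ (idx j)) v').symm.trans
            (Points.ofPt_eq_map_ofScheme _ _).symm).trans (e.trans ((Points.ofPt_eq_map_ofScheme _ _).trans
              (map_yon_ofPt (cc j ≫ incl) w))))
        exact e'.trans (congrArg _ hw)
      · have s₁ : IsPullback (pullback.fst (h.left ∣_ V₀) (κB k) ≫ (h.left ⁻¹ᵁ V₀).ι)
            (pullback.snd (h.left ∣_ V₀) (κB k)) h.left (κB k ≫ V₀.ι) :=
          (IsPullback.of_hasPullback (h.left ∣_ V₀) (κB k)).paste_horiz (isPullback_morphismRestrict h.left V₀).flip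
        rw [hκB] at s₁
        let n := (hs (idx k.1.down)).lift (pullback.fst (h.left ∣_ V₀) (κB k) ≫ (h.left ⁻¹ᵁ V₀).ι)
          (pullback.snd (h.left ∣_ V₀) (κB k) ≫ k.2.1.1.ι) (by rw [s₁.w, Category.assoc])
        have s₂ : IsPullback n (pullback.snd (h.left ∣_ V₀) (κB k)) (h' (idx k.1.down)).left k.2.1.1.ι :=
          IsPullback.of_right (by rw [(hs _).lift_fst]; exact s₁) ((hs _).lift_snd _ _ _) (hs (idx k.1.down))
        exact GrothLib.LCI6.inLocus_baseChange_flat s₂ (hloc _ _)
    have h2 : GrothLib.LCI6.InLocus ((h.left ∣_ V₀) ≫ V₀.ι) ⟨u, hu⟩ :=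
      GrothLib.LCI6.inLocus_comp key (GrothLib.LCI6.inLocus_of_smooth V₀.ι _)
    rw [morphismRestrict_ι] at h2
    exact (GrothLib.LCI6.inLocus_openImmersion_comp_iff _ h.left).1 h2
end Groth.Agent.S10667
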