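import Groth.Statements.S10669
import Groth.Agent.Lib.AlgSp.PointProps
import Groth.Agent.Lib.AlgSp.FibreReduced
import Groth.Agent.Lib.RedSpec6.DVR
import Mathlib.RingTheory.Support
import Groth.Agent.Lib.EtaEtale.Basic
-- import your own Groth.Agent.* helpers here

set_option autoImplicit false
universe u
open CategoryTheory CategoryTheory.Limits AlgebraicGeometry
open AlgSp GrothLib.AlgSp
set_option backward.isDefEq.respectTransparency false

namespace Groth.Agent.S10669

theorem isOpen_reduced_prime (R : Type u) [CommRing R] [IsNoetherianRing R] :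
    IsOpen {x : PrimeSpectrum R | _root_.IsReduced (Localization.AtPrime x.asIdeal)} := by
  have h : {x : PrimeSpectrum R | _root_.IsReduced (Localization.AtPrime x.asIdeal)} = (Module.support R ↥(nilradical R))ᶜ := by
    ext x
    rw [Set.mem_compl_iff, Module.notMem_support_iff', Set.mem_setOf_eq]
    constructor
    · intro h n
      haveI : IsReduced (Localization.AtPrime x.asIdeal) := h
      obtain ⟨⟨r, hr⟩, hrn⟩ := (IsLocalization.map_eq_zero_iff x.asIdeal.primeCompl (Localization.AtPrime x.asIdeal) _).1
        (((mem_nilradical.1 n.2).map (algebraMap R (Localization.AtPrime x.asIdeal))).eq_zero)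
      exact ⟨r, hr, Subtype.ext hrn⟩
    · intro h
      refine ⟨fun z hz => ?_⟩
      obtain ⟨a, s, rfl⟩ := IsLocalization.exists_mk'_eq x.asIdeal.primeCompl z
      obtain ⟨k, hk⟩ := hz
      rw [← IsLocalization.mk'_pow, IsLocalization.mk'_eq_zero_iff] at hk
      obtain ⟨u, hu⟩ := hk
      have hn : (u : R) * a ∈ nilradical R := by
        refine mem_nilradical.2 ⟨k + 1, ?_⟩
        rw [mul_pow, pow_succ, pow_succ a k]
        linear_combination ((u : R) ^ k * a) * hu
      obtain ⟨r, hr, hra⟩ := h ⟨_, hn⟩
      rw [IsLocalization.mk'_eq_zero_iff]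
      exact ⟨⟨r, hr⟩ * u, by rw [Submonoid.coe_mul, mul_assoc]; exact congrArg Subtype.val hra⟩
  rw [h]
  haveI : Module.Finite R ↥(nilradical R) := Module.Finite.of_fg (IsNoetherian.noetherian _)
  exact (Module.isClosed_support (R := R) (M := ↥(nilradical R))).isOpen_compl

theorem isOpen_reduced_stalk (W : Scheme.{u}) [IsLocallyNoetherian W] :
    IsOpen {u : W | _root_.IsReduced (W.presheaf.stalk u)} := by
  refine isOpen_iff_forall_mem_open.2 fun u hu => ?_
  obtain ⟨V, hV, huV, -⟩ := exists_isAffineOpen_mem_and_subset (x := u) (U := ⊤) trivial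
  let g := hV.fromSpec
  obtain ⟨p, rfl⟩ : u ∈ Set.range g := by rw [hV.range_fromSpec]; exact huV
  haveI : IsNoetherianRing Γ(W, V) := IsLocallyNoetherian.component_noetherian ⟨V, hV⟩
  have e : g ⁻¹' {u | _root_.IsReduced (W.presheaf.stalk u)} =
      {p : PrimeSpectrum Γ(W, V) | _root_.IsReduced (Localization.AtPrime p.asIdeal)} := by
    ext p
    show _root_.IsReduced (W.presheaf.stalk (g p)) ↔ _
    rw [← isReduced_stalk_iff_of_etale g p]
    let E := (Spec.stalkIso Γ(W, V) p).commRingCatIsoToRingEquiv
    exact ⟨fun _ => isReduced_of_injective E.symm.toRingHom E.symm.injective,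
      fun (_ : _root_.IsReduced (Localization.AtPrime p.asIdeal)) => isReduced_of_injective E.toRingHom E.injective⟩
  refine ⟨g '' (g ⁻¹' {u | _root_.IsReduced (W.presheaf.stalk u)}), Set.image_preimage_subset _ _, ?_, ⟨p, hu, rfl⟩⟩
  exact (Scheme.Hom.isOpenEmbedding g).isOpenMap _ (e ▸ isOpen_reduced_prime Γ(W, V))

/-- A field-valued point computes reducedness of the fibre over it. -/
theorem isReduced_fiber_of_point {W B : Scheme.{u}} (f : W ⟶ B) {K : Type u} [Field K]
    (g : Spec (CommRingCat.of K) ⟶ B) [IsReduced (pullback f g)] (b : B) (hb : g (IsLocalRing.closedPoint K) = b) :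
    IsReduced (f.fiber b) := by
  subst hb
  let φ := Scheme.descResidueField (Scheme.stalkClosedPointTo g)
  have hg : Spec.map φ ≫ B.fromSpecResidueField _ = g := Scheme.descResidueField_stalkClosedPointTo_fromSpecResidueField K B g
  let q : pullback f g ⟶ f.fiber (g (IsLocalRing.closedPoint K)) :=
    pullback.lift (pullback.fst f g) (pullback.snd f g ≫ Spec.map φ) (by rw [Category.assoc, hg]; exact pullback.condition)
  have sq : IsPullback q (pullback.snd f g) (pullback.snd f (B.fromSpecResidueField _)) (Spec.map φ) :=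
    IsPullback.of_right (by rw [pullback.lift_fst, hg]; exact IsPullback.of_hasPullback f g)
      (pullback.lift_snd _ _ _) (IsPullback.of_hasPullback f (B.fromSpecResidueField _))
  haveI : IsIntegral (Spec (B.residueField (g (IsLocalRing.closedPoint K)))) :=
    inferInstanceAs (IsIntegral (Spec (CommRingCat.of (B.residueField (g (IsLocalRing.closedPoint K))))))
  haveI : Subsingleton ↥(Spec (B.residueField (g (IsLocalRing.closedPoint K)))) :=
    inferInstanceAs (Subsingleton (PrimeSpectrum (B.residueField _)))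
  haveI : Flat (Spec.map φ) := inferInstance
  haveI : Surjective (Spec.map φ) := ⟨fun _ => ⟨IsLocalRing.closedPoint K, Subsingleton.elim _ _⟩⟩
  haveI : Flat q := MorphismProperty.of_isPullback sq.flip ‹Flat (Spec.map φ)›
  haveI : Surjective q := MorphismProperty.of_isPullback sq.flip ‹Surjective (Spec.map φ)›
  exact isReduced_of_flat_surjective q

/-- The chart of a base change. -/
theorem reduced_chart_of_isPullback {S : Scheme.{u}} {X P : Sp S} {Y T U : Over S} {a : (yon S).obj U ⟶ X}
    (ha : RepWith @Etale a) (has : RepWith @Surjective a) {s : X ⟶ (yon S).obj Y} {η : U ⟶ Y}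
    (hη : (yon S).map η = a ≫ s) (m : T ⟶ Y) {fst : P ⟶ X} {snd : P ⟶ (yon S).obj T}
    (sq : IsPullback fst snd s ((yon S).map m)) :
    (EtaleLocally (fun W => IsReduced W) P → IsReduced (pullback η.left m.left)) ∧
      (IsReduced (pullback η.left m.left) → EtaleLocally (fun W => IsReduced W) P) := by
  let Z : Over S := Over.mk (pullback.fst η.left m.left ≫ U.hom)
  let z₁ : Z ⟶ U := Over.homMk (pullback.fst η.left m.left) rfl
  let z₂ : Z ⟶ T := Over.homMk (pullback.snd η.left m.left) (by
    show pullback.snd η.left m.left ≫ T.hom = pullback.fst η.left m.left ≫ U.hom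
    rw [← Over.w η, ← Over.w m, pullback.condition_assoc])
  have sqy := isPullback_yon (S := S)
    (IsPullback.of_map_of_faithful (Over.forget S) (IsPullback.of_hasPullback η.left m.left) :
      IsPullback z₁ z₂ η m)
  let c : (yon S).obj Z ⟶ P := sq.lift ((yon S).map z₁ ≫ a) ((yon S).map z₂) (by
    rw [Category.assoc, ← hη]; exact sqy.w)
  have sqc : IsPullback ((yon S).map z₁) c a fst := by
    refine IsPullback.of_bot (h₂₁ := fst) (v₂₂ := s) ?_ (sq.lift_fst _ _ _).symm sq
    rw [sq.lift_snd, ← hη]
    exact sqy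
  have hce : RepWith @Etale c := repWith_of_isPullback sqc ha
  refine ⟨fun h => ?_, fun h => ⟨Z, c, hce, repWith_of_isPullback sqc has, h⟩⟩
  exact etaleLocally_chart (fun _ _ e => isReduced_of_etale e) (fun _ _ e => isReduced_desc e) h c hce

theorem not_reduced_hasAt_iff {S : Scheme.{u}} {F : Sp S} (hF : IsAlgSpace F) {U : Over S}
    {a : (yon S).obj U ⟶ F} (ha : RepWith @Etale a) (u : ↥U.left) :
    HasAt (fun A u => ¬ _root_.IsReduced (A.presheaf.stalk u)) F (Points.ofPt a u) ↔
      ¬ _root_.IsReduced (U.left.presheaf.stalk u) :=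
  hasAt_iff hF (fun A B k hk x => by
    haveI := hk
    exact not_congr (isReduced_stalk_iff_of_etale k x)) ha u


/-- For a discrete valuation ring R with residue field κ and fraction field K and an algebraic space X
over Spec R whose structure morphism s (to the terminal sheaf h_{Spec R}) is flat and proper: if the
special fibre X ×_{Spec R} Spec κ is reduced (some etale surjective scheme chart is reduced), then X
is reduced and so is the generic fibre X ×_{Spec R} Spec K. -/
theorem result (R : Type u) [CommRing R] [IsDomain R] [IsDiscreteValuationRing R]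
    {X : AlgSp.Space (Spec (CommRingCat.of R))}
    (s : X.obj ⟶ (AlgSp.yon (Spec (CommRingCat.of R))).obj (Over.mk (𝟙 _)))
    (hs1 : AlgSp.IsProperMor s) (hs2 : AlgSp.LocP @Flat s)
    (h0 : ∀ (X0 : AlgSp.Sp (Spec (CommRingCat.of R))) (fst : X0 ⟶ X.obj)
      (snd : X0 ⟶ (AlgSp.yon (Spec (CommRingCat.of R))).obj
        (Over.mk (Spec.map (CommRingCat.ofHom (IsLocalRing.residue R))))),
      IsPullback fst snd s ((AlgSp.yon (Spec (CommRingCat.of R))).map
        (Over.homMk (Spec.map (CommRingCat.ofHom (IsLocalRing.residue R))) (Category.comp_id _) :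
          Over.mk (Spec.map (CommRingCat.ofHom (IsLocalRing.residue R))) ⟶ Over.mk (𝟙 _))) →
      AlgSp.EtaleLocally (fun U => IsReduced U) X0) :
    AlgSp.EtaleLocally (fun U => IsReduced U) X.obj ∧
      ∀ (Xη : AlgSp.Sp (Spec (CommRingCat.of R))) (fst : Xη ⟶ X.obj)
        (snd : Xη ⟶ (AlgSp.yon (Spec (CommRingCat.of R))).obj
          (Over.mk (Spec.map (CommRingCat.ofHom (algebraMap R (FractionRing R)))))),
        IsPullback fst snd s ((AlgSp.yon (Spec (CommRingCat.of R))).map
          (Over.homMk (Spec.map (CommRingCat.ofHom (algebraMap R (FractionRing R)))) (Category.comp_id _) :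
            Over.mk (Spec.map (CommRingCat.ofHom (algebraMap R (FractionRing R)))) ⟶ Over.mk (𝟙 _))) →
        AlgSp.EtaleLocally (fun U => IsReduced U) Xη := by
  classical
  obtain ⟨U, a, ha, has⟩ := X.property.atlas
  obtain ⟨η, hη⟩ := (yon (Spec (CommRingCat.of R))).map_surjective (a ≫ s)
  let T₁ : Over (Spec (CommRingCat.of R)) := Over.mk (𝟙 _)
  have hη' : η.left = U.hom := by simpa using Over.w η
  have hid : RepWith @Etale (𝟙 ((yon (Spec (CommRingCat.of R))).obj T₁)) := repWith_iso (Iso.refl _).hom
  haveI hflat : Flat U.hom := hη' ▸ hs2 a (𝟙 _) η ha hid (by rw [Category.comp_id, hη])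
  haveI hlft : LocallyOfFiniteType U.hom := hη' ▸ hs1.2.1.1 a (𝟙 _) η ha hid (by rw [Category.comp_id, hη])
  haveI : IsLocallyNoetherian U.left := LocallyOfFiniteType.isLocallyNoetherian U.hom
  let pκ : Over.mk (Spec.map (CommRingCat.ofHom (IsLocalRing.residue R))) ⟶ T₁ :=
    Over.homMk (Spec.map (CommRingCat.ofHom (IsLocalRing.residue R))) (Category.comp_id _)
  have sq₀ := IsPullback.of_hasPullback s ((yon (Spec (CommRingCat.of R))).map pκ)
  have hred₀ := (reduced_chart_of_isPullback ha has hη pκ sq₀).1 (h0 _ _ _ sq₀)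
  haveI : IsReduced (pullback U.hom (Spec.map (CommRingCat.ofHom (IsLocalRing.residue R)))) := hη' ▸ hred₀
  have hspec : IsReduced (U.hom.fiber (IsLocalRing.closedPoint R)) :=
    isReduced_fiber_of_point (K := IsLocalRing.ResidueField R) U.hom
      (Spec.map (CommRingCat.ofHom (IsLocalRing.residue R))) _
      (by rw [← IsLocalRing.comap_closedPoint (IsLocalRing.residue R)]; rfl)
  let N : Set (Points X.obj) := {x | HasAt (fun A u => ¬ _root_.IsReduced (A.presheaf.stalk u)) X.obj x}
  have hN : IsClosed N := by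
    rw [← (isOpenQuotientMap_ofPt ha has).isQuotientMap.isClosed_preimage]
    convert (isOpen_reduced_stalk U.left).isClosed_compl using 1
    ext u
    exact not_reduced_hasAt_iff X.property ha u
  have hcl : IsClosedMap (Points.map s) :=
    hs1.2.2 (IsAlgSpace.yon_obj _) (𝟙 _) (𝟙 _) s IsPullback.of_id_fst
  have hC : IsClosed (Points.schemeHomeo T₁ ⁻¹' (Points.map s '' N)) :=
    (hcl _ hN).preimage (Points.schemeHomeo T₁).continuous
  have hmap : ∀ u, Points.map s (Points.ofPt a u) = Points.schemeHomeo T₁ (U.hom u) := fun u => by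
    rw [Points.map_ofPt, ← hη, ← hη']
    exact (Points.ofPt_eq_map_ofScheme _ u).trans (Points.map_yon_map_apply η u)
  have hstalk : ∀ u : U.left, _root_.IsReduced (U.left.presheaf.stalk u) := by
    by_contra hne
    push_neg at hne
    obtain ⟨u, hu⟩ := hne
    have hmem : U.hom u ∈ Points.schemeHomeo T₁ ⁻¹' (Points.map s '' N) :=
      ⟨Points.ofPt a u, (not_reduced_hasAt_iff X.property ha u).2 hu, hmap u⟩
    have hc : (IsLocalRing.closedPoint R : ↥T₁.left) ∈ Points.schemeHomeo T₁ ⁻¹' (Points.map s '' N) :=
      (IsLocalRing.specializes_closedPoint (U.hom u)).mem_closed hC hmem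
    obtain ⟨x, hx, he⟩ := hc
    obtain ⟨v, rfl⟩ := surjective_ofPt_of_repWith has x
    exact (not_reduced_hasAt_iff X.property ha v).1 hx (GrothLib.RedSpec6.isReduced_stalk_of_special U.hom hspec v
      ((Points.schemeHomeo T₁).injective ((hmap v).symm.trans he)))
  haveI : IsReduced U.left := isReduced_of_isReduced_stalk _
  refine ⟨⟨U, a, ha, has, inferInstance⟩, fun Xη fst snd sq => (reduced_chart_of_isPullback ha has hη _ sq).2 ?_⟩
  obtain ⟨ϖ, hϖ⟩ := IsDiscreteValuationRing.exists_irreducible R
  haveI := GrothLib.EtaEtale.isLocalization_away_fractionRing hϖ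
  haveI : IsOpenImmersion (Spec.map (CommRingCat.ofHom (algebraMap R (FractionRing R)))) :=
    IsOpenImmersion.of_isLocalization ϖ
  exact isReduced_of_isOpenImmersion (f := pullback.fst η.left (Spec.map (CommRingCat.ofHom (algebraMap R (FractionRing R)))))
end Groth.Agent.S10669
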