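import Groth.Statements.S1067
import Groth.Agent.Lib.KSix19.ProjPush.Generate
import Groth.Agent.Lib.KSix19.ProjPush.Perfect
import Groth.Agent.Lib.Chow.Prod
-- import your own Groth.Agent.* helpers here

set_option autoImplicit false
universe u
open CategoryTheory CategoryTheory.Limits AlgebraicGeometry
attribute [local instance] HasDerivedCategory.standard
open Perf

namespace Groth.Agent.S1067

/-- Let R be a ring and X = P^n_R. The object O_X ⊕ O_X(-1) ⊕ … ⊕ O_X(-n) generates D_QCoh(O_X): if K ∈
D(O_X) has quasi-coherent cohomology sheaves and every morphism O_X(-d)[m] ⟶ K with 0 ≤ d ≤ n and m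
∈ ℤ is zero, then K = 0. -/
theorem result (n : ℕ) (R : Type u) [CommRing R]
    (K : DCoh.D (CohB1.ProjSpace n R)) (hK : DCoh.IsQCohD K)
    (h : ∀ (d : ℕ), d ≤ n → ∀ (m : ℤ) (φ : (DCoh.inD (CohB1.ProjSpace n R) (Twist.twistProjSpace n R (-(d : ℤ))))⟦m⟧ ⟶ K), φ = 0) :
    IsZero K := by
  have hall := GrothLib.KSix19.ProjPush.thick_twist_neg n R
    (GrothLib.KSix19.ProjPush.thick_homOrth K) (fun d hd => h d hd)
  haveI : AlgebraicGeometry.IsProper (CohB1.ProjSpace.toSpec n R) := GrothLib.Chow.isProper_toSpec n R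
  haveI : CompactSpace (CohB1.ProjSpace n R) :=
    AlgebraicGeometry.QuasiCompact.compactSpace_of_compactSpace (CohB1.ProjSpace.toSpec n R)
  haveI : (CohB1.ProjSpace n R).IsSeparated :=
    inferInstanceAs (AlgebraicGeometry.Proj (CohB1.polyGrading n R)).IsSeparated
  haveI : QuasiSeparatedSpace (CohB1.ProjSpace n R) := by infer_instance
  haveI : CompactSpace (AlgebraicGeometry.Proj (CohB1.polyGrading n R)) :=
    inferInstanceAs (CompactSpace (CohB1.ProjSpace n R))
  refine GrothLib.KSix19.ProjPush.isZero_of_hom_tw _ (GrothLib.KSix19.ProjPush.coordSect n R)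
    (GrothLib.KSix19.ProjPush.exists_mem_locus n R) (GrothLib.KSix19.ProjPush.isAffineOpen_locus n R) hK
    fun p m φ => ?_
  obtain ⟨e⟩ := GrothLib.KSix19.ProjPush.nonempty_nTwist_iso n R p
  let g := (CategoryTheory.SingleFunctors.shiftIso
      (DerivedCategory.singleFunctors (CohB1.ProjSpace n R).Modules) (-m) m 0 (by omega)).app
        (Twist.twistProjSpace n R (-(p : ℤ))) ≪≫
    ((DerivedCategory.singleFunctor (CohB1.ProjSpace n R).Modules m).mapIso e).symm
  exact (CategoryTheory.cancel_epi g.hom).1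
    ((hall p (-m) (g.hom ≫ φ)).trans CategoryTheory.Limits.comp_zero.symm)

end Groth.Agent.S1067
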