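import Groth.Statements.S10670
import Groth.Agent.Lib.AlgSp.ConnBaseExt
-- import your own Groth.Agent.* helpers here

set_option autoImplicit false
universe u
open CategoryTheory CategoryTheory.Limits AlgebraicGeometry
open AlgSp GrothLib.AlgSp
set_option backward.isDefEq.respectTransparency false

namespace Groth.Agent.S10670

/-- For morphisms f : X ⟶ Y and g : Y' ⟶ Y between algebraic spaces over S, f' : X' ⟶ Y' the base change
of f along g, an algebraically closed field point k' of Y' and an algebraically closed field point k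
of Y whose class in |Y| is the image of the class of k', the fibres X'_{k'} and X_k (pullbacks in
fppf sheaves) have the same number of connected components of their spaces of points, counted in ℕ∞.
With g the identity this says the number of geometric connected components of the fibre over a point
of |Y| is well defined. -/
theorem result {S : Scheme.{u}} {X Y X' Y' : AlgSp.Space S} (f : X ⟶ Y) (g : Y' ⟶ Y) (gX : X' ⟶ X) (f' : X' ⟶ Y')
    (hsq : IsPullback gX.hom f'.hom f.hom g.hom)
    (k' : AlgSp.FieldPt Y'.obj) (hk' : k'.IsGeometric) (k : AlgSp.FieldPt Y.obj) (hk : k.IsGeometric)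
    (hkk : AlgSp.Points.mk k = AlgSp.Points.map g.hom (AlgSp.Points.mk k'))
    (Xk' : AlgSp.Sp S) (a' : Xk' ⟶ X'.obj) (b' : Xk' ⟶ (AlgSp.yon S).obj k'.pt) (h' : IsPullback a' b' f'.hom k'.toHom)
    (Xk : AlgSp.Sp S) (a : Xk ⟶ X.obj) (b : Xk ⟶ (AlgSp.yon S).obj k.pt) (h : IsPullback a b f.hom k.toHom) :
    ENat.card (_root_.ConnectedComponents (AlgSp.Points Xk')) = ENat.card (_root_.ConnectedComponents (AlgSp.Points Xk)) := by
  have sq' := h'.paste_horiz hsq
  rw [Points.map_mk] at hkk
  have e : Points.map k.toHom (Points.ofScheme k.pt (IsLocalRing.closedPoint k.K)) =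
      Points.map (k'.toHom ≫ g.hom) (Points.ofScheme k'.pt (IsLocalRing.closedPoint k'.K)) := by
    rw [← Points.ofPt_eq_map_ofScheme, ← Points.ofPt_eq_map_ofScheme, ← Points.map_ofPt, Points.ofPt_toHom,
      Points.ofPt_toHom]
    exact hkk
  obtain ⟨Ω, _, w, σ, σ', hσ, -, -⟩ := GrothLib.AlgSp.exists_common_field e
  obtain ⟨s, rfl⟩ := (AlgSp.yon S).map_surjective σ
  obtain ⟨s', rfl⟩ := (AlgSp.yon S).map_surjective σ'
  have sqΩ := IsPullback.of_hasPullback f.hom ((AlgSp.yon S).map s ≫ k.toHom)
  haveI : IsAlgClosed k.K := hk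
  haveI : IsAlgClosed k'.K := hk'
  obtain ⟨d, -, sd⟩ := GrothLib.AlgSp.exists_baseExt s rfl h sqΩ
  obtain ⟨d', -, sd'⟩ := GrothLib.AlgSp.exists_baseExt s' hσ.symm sq' sqΩ
  rw [← GrothLib.AlgSp.card_connectedComponents_baseExt s
      (GrothLib.AlgSp.isAlgSpace_pullback Y.property.diag X.property (IsAlgSpace.yon_obj _) h) sd,
    GrothLib.AlgSp.card_connectedComponents_baseExt s'
      (GrothLib.AlgSp.isAlgSpace_pullback Y.property.diag X.property (IsAlgSpace.yon_obj _) sq') sd']

end Groth.Agent.S10670
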