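import Groth.Statements.S10676
import Groth.Agent.Lib.AlgSp.SplitMany
-- import your own Groth.Agent.* helpers here

set_option autoImplicit false
universe u
open CategoryTheory CategoryTheory.Limits AlgebraicGeometry
open AlgSp GrothLib.AlgSp
set_option backward.isDefEq.respectTransparency false

namespace Groth.Agent.S10676

/-- For a separated morphism f : X ⟶ Y of algebraic spaces over S which is locally of finite type, a
point y of |Y| and a finite set xs of points of |X| mapping to y at each of which f is quasi-finite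
(some etale chart diagram through the point has top arrow locally quasi-finite and locally of finite
type on an open neighbourhood), assuming moreover that f is quasi-compact or Y is decent: there are
an etale morphism of algebraic spaces a : U ⟶ Y and a point u of |U| over y such that for the base
change P = U ×_Y X there is an open and closed subspace V ⊂ P, finite over U, such that every point
of |V| over u maps into xs and no point of |P| outside |V| lying over u maps into xs. -/
theorem result {S : Scheme.{u}} {X Y : AlgSp.Space S} (f : X ⟶ Y) (y : AlgSp.Points Y.obj)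
    (xs : Finset (AlgSp.Points X.obj)) (hxs : ∀ x ∈ xs, AlgSp.Points.map f.hom x = y)
    (hf1 : AlgSp.LocP @LocallyOfFiniteType f.hom) (hf2 : AlgSp.IsSeparatedMor f.hom)
    (hf3 : ∀ x ∈ xs, AlgSp.HasAtMor (fun U _ h u => ∃ W : U.Opens, u ∈ W ∧ LocallyQuasiFinite (W.ι ≫ h) ∧ LocallyOfFiniteType (W.ι ≫ h)) f.hom x)
    (hf4 : AlgSp.IsQuasiCompactMor f.hom ∨ AlgSp.IsDecent Y.obj) :
    ∃ (U : AlgSp.Space S) (a : U ⟶ Y) (u : AlgSp.Points U.obj), AlgSp.IsEtaleMor a.hom ∧ AlgSp.Points.map a.hom u = y ∧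
      ∀ (P : AlgSp.Space S) (prX : P ⟶ X) (prU : P ⟶ U), IsPullback prX.hom prU.hom f.hom a.hom →
        ∃ (V : AlgSp.Space S) (jV : V ⟶ P), AlgSp.RepWith @IsOpenImmersion jV.hom ∧ AlgSp.RepWith @IsClosedImmersion jV.hom ∧
          AlgSp.IsFiniteMor (jV ≫ prU).hom ∧
          (∀ v : AlgSp.Points V.obj, AlgSp.Points.map (jV ≫ prU).hom v = u → AlgSp.Points.map (jV ≫ prX).hom v ∈ xs) ∧
          ∀ w : AlgSp.Points P.obj, w ∉ Set.range (AlgSp.Points.map jV.hom) → AlgSp.Points.map prU.hom w = u →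
            AlgSp.Points.map prX.hom w ∉ xs := by
  classical
  have hX := X.property
  have hY := Y.property
  obtain ⟨V₁, q₁, qe₁, qs₁⟩ := hY.atlas
  obtain ⟨v₁, rfl⟩ := surjective_ofPt_of_repWith qs₁ y
  obtain ⟨Ov, hv₁, hOv, q, qe, hq⟩ := exists_affine_subchart qe₁ v₁
  let V : Over S := Over.mk (Ov.ι ≫ V₁.hom)
  let v : ↥V.left := (⟨v₁, hv₁⟩ : Ov)
  haveI : IsAffine V.left := hOv
  have hqv : Points.ofPt q v = Points.ofPt q₁ v₁ := hq v
  have sqP := IsPullback.of_hasPullback f.hom q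
  have hV := IsAlgSpace.yon_obj V
  have hP := isAlgSpace_pullback' hY hX hV f.hom q
  have hl : LocP @LocallyOfFiniteType (pullback.snd f.hom q) := EtLocal.locP_of_isPullback EtLocal.lft hX hY hV sqP hf1
  have sep : IsSeparatedMor (pullback.snd f.hom q) :=
    repWith_of_isPullback (isPullback_diagonal_of_isPullback sqP) hf2
  let Z : Set (Points (pullback f.hom q)) :=
    {z | Points.map (pullback.fst f.hom q) z ∈ xs ∧ Points.map (pullback.snd f.hom q) z = Points.ofScheme V v}
  have hZq : ∀ z ∈ Z, HasAtMor (fun _ _ h u => FlatMor.fibreDimAt h u ≤ 0) (pullback.snd f.hom q) z := fun z hz =>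
    (fibreDim_le_zero_baseChange hX hY hV sqP hf1 z).2 ((hasAtMor_lqf_iff hX hY hf1 _).1 (hf3 _ hz.1))
  have hZ : Z.Finite := by
    rcases hf4 with hqc | hd
    · exact (finite_qf_fibre_of_qc hP hl (isQuasiCompactMor_of_isPullback' sqP hqc) v).subset
        fun z hz => ⟨hz.2, hZq z hz⟩
    · exact (xs.finite_toSet.biUnion fun x _ => finite_baseChange_fibre hY hd qe sqP x).subset
        fun z hz => Set.mem_biUnion hz.1 rfl
  obtain ⟨V', A, ψ, g, kP, u, hψe, hg, hψu, hkq, hA, hclop⟩ :=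
    exists_finite_split_many hP hl sep v hZ (fun z hz => hz.2) hZq
  have hψe' : RepWith @Etale ((yon S).map ψ ≫ q) := repWith_comp ((repWith_yon_map_iff _ ψ).2 hψe) qe
  have hψp : Points.map ((yon S).map ψ) (Points.ofScheme V' u) = Points.ofScheme V v :=
    (map_yon_ofPt ψ u).trans (congrArg (Points.ofScheme V) hψu)
  refine ⟨⟨(yon S).obj V', IsAlgSpace.yon_obj V'⟩, ObjectProperty.homMk ((yon S).map ψ ≫ q),
    Points.ofScheme V' u, isEtaleMor_of_repWith _ hψe', ?_, fun P prX prU sq => ?_⟩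
  · show Points.map ((yon S).map ψ ≫ q) (Points.ofScheme V' u) = _
    rw [Points.map_comp, hψp, ← Points.ofPt_eq_map_ofScheme]
    exact hqv
  have sq' : IsPullback prX.hom prU.hom f.hom ((yon S).map ψ ≫ q) := sq
  have w₁ : prX.hom ≫ f.hom = (prU.hom ≫ (yon S).map ψ) ≫ q := by rw [sq'.w, Category.assoc]
  obtain ⟨c, hc₁, hc₂⟩ : ∃ c, c ≫ pullback.fst f.hom q = prX.hom ∧
      c ≫ pullback.snd f.hom q = prU.hom ≫ (yon S).map ψ :=
    ⟨sqP.lift _ _ w₁, sqP.lift_fst _ _ _, sqP.lift_snd _ _ _⟩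
  have sqc : IsPullback c prU.hom (pullback.snd f.hom q) ((yon S).map ψ) :=
    IsPullback.of_right (by rw [hc₁]; exact sq') hc₂ sqP
  obtain ⟨k, hk₁, hk₂⟩ : ∃ k, k ≫ c = kP ∧ k ≫ prU.hom = (yon S).map g :=
    ⟨sqc.lift kP ((yon S).map g) (by rw [hkq, Functor.map_comp]), sqc.lift_fst _ _ _, sqc.lift_snd _ _ _⟩
  obtain ⟨hko, hkc, hw⟩ := hclop sqc k hk₁ hk₂
  refine ⟨⟨(yon S).obj A, IsAlgSpace.yon_obj A⟩, ObjectProperty.homMk k, hko, hkc, ?_, fun z hz => ?_,
    fun w hn hwu hwx => hn ?_⟩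
  · show IsFiniteMor (k ≫ prU.hom)
    rw [hk₂]
    exact isFiniteMor_iff.2 ((repWith_yon_map_iff _ g).2 hg)
  · obtain ⟨a, rfl⟩ := (Points.schemeEquiv A).surjective z
    show Points.map (k ≫ prX.hom) (Points.ofScheme A a) ∈ xs
    have ha : g.left a = u := by
      refine (Points.schemeEquiv V').injective ((map_yon_ofPt g a).symm.trans ?_)
      rw [← hk₂]
      exact hz
    rw [← hc₁, ← Category.assoc, hk₁, Points.map_comp, ← Points.ofPt_eq_map_ofScheme]
    exact (hA a ha).1
  · refine hw w hwu ⟨?_, ?_⟩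
    · rw [← Points.map_comp, hc₁]
      exact hwx
    · rw [← Points.map_comp, hc₂, Points.map_comp]
      exact (congrArg (Points.map ((yon S).map ψ)) hwu).trans hψp

end Groth.Agent.S10676
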