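import Groth.Statements.S10677
import Groth.Agent.Lib.AlgSp.NormSplit
-- import your own Groth.Agent.* helpers here

set_option autoImplicit false
universe u
open CategoryTheory CategoryTheory.Limits AlgebraicGeometry
open AlgSp GrothLib.AlgSp
set_option backward.isDefEq.respectTransparency false

namespace Groth.Agent.S10677

/-- For a separated morphism f : X ⟶ Y of algebraic spaces over S which is locally of finite type and a
point x of |X| with image y at which f is quasi-finite (some etale chart diagram through x has top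
arrow locally quasi-finite and locally of finite type on an open neighbourhood), there are an etale
morphism a : U ⟶ Y and a point u of |U| over y such that for the base change P = U ×_Y X there is an
open and closed subspace V ⊂ P, finite over U, containing a point mapping to x in |X| and to u in
|U|. -/
theorem result {S : Scheme.{u}} {X Y : AlgSp.Space S} (f : X ⟶ Y) (x : AlgSp.Points X.obj)
    (hf1 : AlgSp.LocP @LocallyOfFiniteType f.hom) (hf2 : AlgSp.IsSeparatedMor f.hom)
    (hf3 : AlgSp.HasAtMor (fun U _ h u => ∃ W : U.Opens, u ∈ W ∧ LocallyQuasiFinite (W.ι ≫ h) ∧ LocallyOfFiniteType (W.ι ≫ h)) f.hom x) :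
    ∃ (U : AlgSp.Space S) (a : U ⟶ Y) (u : AlgSp.Points U.obj), AlgSp.IsEtaleMor a.hom ∧
      AlgSp.Points.map a.hom u = AlgSp.Points.map f.hom x ∧
      ∀ (P : AlgSp.Space S) (prX : P ⟶ X) (prU : P ⟶ U), IsPullback prX.hom prU.hom f.hom a.hom →
        ∃ (V : AlgSp.Space S) (jV : V ⟶ P), AlgSp.RepWith @IsOpenImmersion jV.hom ∧ AlgSp.RepWith @IsClosedImmersion jV.hom ∧
          AlgSp.IsFiniteMor (jV ≫ prU).hom ∧
          ∃ v : AlgSp.Points V.obj, AlgSp.Points.map (jV ≫ prX).hom v = x ∧ AlgSp.Points.map (jV ≫ prU).hom v = u := by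
  obtain ⟨U₀, V, a, b, h, u, ha, hb, c, rfl, W, hu, hWq, hWl⟩ := hf3
  have sqP := IsPullback.of_hasPullback f.hom b
  have hP := isAlgSpace_pullback' Y.property X.property (IsAlgSpace.yon_obj V) f.hom b
  have sep : IsSeparatedMor (pullback.snd f.hom b) :=
    repWith_of_isPullback (isPullback_diagonal_of_isPullback sqP) hf2
  let W' : Over S := Over.mk (W.ι ≫ U₀.hom)
  let iW : W' ⟶ U₀ := Over.homMk W.ι rfl
  have hiW : RepWith @Etale ((yon S).map iW) := (repWith_yon_map_iff _ iW).2 (inferInstanceAs (Etale W.ι))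
  have hw : ((yon S).map iW ≫ a) ≫ f.hom = (yon S).map (iW ≫ h) ≫ b := by
    rw [Category.assoc, c, Functor.map_comp, Category.assoc]
  have ha' : RepWith @Etale (sqP.lift _ _ hw) := repWith_etale_lift X.property hP (repWith_comp hiW ha) _
    (repWith_of_isPullback sqP.flip hb) _ (sqP.lift_fst _ _ hw)
  obtain ⟨V', A, v, kP, g, x, hv, hg, hkq, hx, -, -, hclop⟩ :=
    exists_finite_split hP _ sep ha' (iW ≫ h) (sqP.lift_snd _ _ hw) hWq hWl (⟨u, hu⟩ : W)
  have hx' : Points.ofPt (kP ≫ pullback.fst f.hom b) x = Points.ofPt a u := by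
    rw [← Points.map_ofPt, hx, Points.map_ofPt, sqP.lift_fst, ofPt_map_comp]
    rfl
  have hve : RepWith @Etale ((yon S).map v ≫ b) := repWith_comp ((repWith_yon_map_iff _ v).2 hv) hb
  refine ⟨⟨(yon S).obj V', IsAlgSpace.yon_obj V'⟩, ObjectProperty.homMk ((yon S).map v ≫ b),
    Points.ofPt ((yon S).map g) x, isEtaleMor_of_repWith _ hve, ?_, fun P prX prU sq => ?_⟩
  · show Points.map ((yon S).map v ≫ b) (Points.ofPt ((yon S).map g) x) = _
    rw [Points.map_ofPt, ← Category.assoc, ← Functor.map_comp, ← hkq, Category.assoc, ← sqP.w, ← Category.assoc,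
      ← Points.map_ofPt, hx']
  have sq' : IsPullback prX.hom prU.hom f.hom ((yon S).map v ≫ b) := sq
  have w₁ : prX.hom ≫ f.hom = (prU.hom ≫ (yon S).map v) ≫ b := by rw [sq'.w, Category.assoc]
  have sqc : IsPullback (sqP.lift _ _ w₁) prU.hom (pullback.snd f.hom b) ((yon S).map v) :=
    IsPullback.of_right (by rw [sqP.lift_fst]; exact sq') (sqP.lift_snd _ _ w₁) sqP
  obtain ⟨k, hk₁, hk₂⟩ : ∃ k, k ≫ sqP.lift _ _ w₁ = kP ∧ k ≫ prU.hom = (yon S).map g :=
    ⟨sqc.lift kP ((yon S).map g) (by rw [hkq, Functor.map_comp]), sqc.lift_fst _ _ _, sqc.lift_snd _ _ _⟩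
  obtain ⟨hko, hkc⟩ := hclop sqc k hk₁ hk₂
  refine ⟨⟨(yon S).obj A, IsAlgSpace.yon_obj A⟩, ObjectProperty.homMk k, hko, hkc, ?_,
    Points.ofPt (𝟙 _) x, ?_, ?_⟩
  · show IsFiniteMor (k ≫ prU.hom)
    rw [hk₂]
    exact isFiniteMor_iff.2 ((repWith_yon_map_iff _ g).2 hg)
  · show Points.map (k ≫ prX.hom) (Points.ofPt (𝟙 _) x) = _
    rw [Points.map_ofPt, Category.id_comp, ← sqP.lift_fst _ _ w₁, ← Category.assoc, hk₁, hx']
  · show Points.map (k ≫ prU.hom) (Points.ofPt (𝟙 _) x) = _
    rw [Points.map_ofPt, Category.id_comp, hk₂]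
end Groth.Agent.S10677
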