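import Groth.Statements.S10679
import Groth.Agent.Lib.AlgSp.FieldFibreDim
import Groth.Agent.Lib.AlgSp.DecentPoints
import Groth.Agent.Lib.AlgSp.GorPoint
import Groth.Agent.S0404
-- import your own Groth.Agent.* helpers here

set_option autoImplicit false
universe u
open CategoryTheory CategoryTheory.Limits AlgebraicGeometry
open AlgSp

namespace Groth.Agent.S10679

/-- For a flat morphism f : X ⟶ Y of algebraic spaces over S which is of finite presentation, the fibre
dimension function on |Y|, y ↦ dimension of X_k for a field point k in the class of y, is lower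
semi-continuous: for every d the set of y such that every fibre X_k over y (k a field point in the
class of y, X_k any pullback in fppf sheaves) has dimension greater than d is open. -/
theorem result {S : Scheme.{u}} {X Y : AlgSp.Space S} (f : X ⟶ Y)
    (hf1 : AlgSp.LocP @Flat f.hom) (hf2 : AlgSp.IsFinitePresentationMor f.hom) (d : WithBot ℕ∞) :
    IsOpen {y : AlgSp.Points Y.obj | ∀ (k : AlgSp.FieldPt Y.obj), AlgSp.Points.mk k = y →
      ∀ (Xk : AlgSp.Sp S) (fst : Xk ⟶ X.obj) (snd : Xk ⟶ (AlgSp.yon S).obj k.pt),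
        IsPullback fst snd f.hom k.toHom → d < AlgSp.dim Xk} := by
  have hlfp : AlgSp.LocP @LocallyOfFinitePresentation f.hom := hf2.1
  have hlft : AlgSp.LocP @LocallyOfFiniteType f.hom := fun U V a b h ha hb c => by
    haveI := hlfp a b h ha hb c
    infer_instance
  -- fibre dimension along the fibre inclusion
  have hfib : ∀ {A B : Scheme.{u}} (g : A ⟶ B) (w : B) (u' : g.fiber w),
      FlatMor.fibreDimAt g (g.fiberι w u') = FlatMor.localDim ↥(g.fiber w) u' := by
    intro A B g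
    have key : ∀ (x : A) (w : B), g x = w → ∀ u' : g.fiber w, g.fiberι w u' = x →
        FlatMor.fibreDimAt g x = FlatMor.localDim ↥(g.fiber w) u' := by
      rintro x w rfl u' e
      obtain rfl : u' = g.asFiber x :=
        (g.fiberι (g x)).isEmbedding.injective (e.trans (g.fiberι_asFiber x).symm)
      rfl
    intro w u'
    refine key _ w ?_ u' rfl
    have hm : g.fiberι w u' ∈ Set.range (g.fiberι w) := ⟨u', rfl⟩
    rwa [Scheme.Hom.range_fiberι] at hm
  rw [isOpen_iff_forall_mem_open]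
  intro y hy
  obtain ⟨x, hx, hxd⟩ : ∃ x : AlgSp.Points X.obj, AlgSp.Points.map f.hom x = y ∧
      ¬ AlgSp.HasAtMor (fun _ _ h u => FlatMor.fibreDimAt h u ≤ d) f.hom x := by
    obtain ⟨k, rfl⟩ := AlgSp.Points.mk_surjective y
    have h1 := hy k rfl _ _ _ (IsPullback.of_hasPullback f.hom k.toHom)
    rw [lt_iff_not_ge] at h1
    by_contra hc
    push Not at hc
    exact h1 ((GrothLib.AlgSp.dim_fieldFibre_le_iff X.property Y.property hlft k
      (IsPullback.of_hasPullback f.hom k.toHom) d).2 hc)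
  obtain ⟨V, q, qe, qs⟩ := Y.property.atlas
  obtain ⟨v₀, hv₀⟩ := GrothLib.AlgSp.surjective_ofPt_of_repWith qs y
  obtain ⟨O, hvO, hO, q₀, q₀e, hq₀⟩ := GrothLib.AlgSp.exists_affine_subchart qe v₀
  let v : ↥(Over.mk (O.ι ≫ V.hom)).left := ⟨v₀, hvO⟩
  have hv : AlgSp.Points.ofPt q₀ v = y := (hq₀ v).trans hv₀
  obtain ⟨U, p, α, w, pe, hp, hw, hαw⟩ :=
    GrothLib.AlgSp.exists_chart_over_point X.property Y.property f.hom q₀ q₀e x v (by rw [hv, hx])
  obtain ⟨P, hP, hwP, -⟩ := exists_isAffineOpen_mem_and_subset (U := (⊤ : U.left.Opens)) (x := w) trivial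
  let i : Over.mk (P.ι ≫ U.hom) ⟶ U := Over.homMk P.ι rfl
  have p₀e : AlgSp.RepWith @Etale ((AlgSp.yon S).map i ≫ p) :=
    GrothLib.AlgSp.repWith_comp ((AlgSp.repWith_yon_map_iff _ _).2 (inferInstanceAs (Etale P.ι))) pe
  have hp₀ : ((AlgSp.yon S).map i ≫ p) ≫ f.hom = (AlgSp.yon S).map (i ≫ α) ≫ q₀ := by
    rw [Category.assoc, hp, Functor.map_comp, Category.assoc]
  haveI : IsAffine (P.ι ≫ U.hom |> Over.mk).left := hP
  haveI : IsAffine (Over.mk (O.ι ≫ V.hom)).left := hO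
  haveI : Flat (i ≫ α).left := hf1 _ _ _ p₀e q₀e hp₀
  haveI : LocallyOfFinitePresentation (i ≫ α).left := hlfp _ _ _ p₀e q₀e hp₀
  have hiff : ∀ (e : WithBot ℕ∞) u, AlgSp.HasAtMor (fun _ _ h u => FlatMor.fibreDimAt h u ≤ e) f.hom
      (AlgSp.Points.ofPt ((AlgSp.yon S).map i ≫ p) u) ↔ FlatMor.fibreDimAt (i ≫ α).left u ≤ e := fun e u =>
    GrothLib.AlgSp.hasAtMor_fibreDim_iff X.property Y.property p₀e q₀e hp₀ u (fun z => z ≤ e)
  obtain ⟨W, hWdef⟩ : ∃ W, W = {t | d < topologicalKrullDim ((i ≫ α).left.fiber t)} := ⟨_, rfl⟩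
  refine ⟨AlgSp.Points.ofPt q₀ '' W, ?_, ?_, ?_⟩
  · rintro _ ⟨t, ht, rfl⟩ k hk Xk fst snd sq
    rw [hWdef, Set.mem_setOf_eq, lt_iff_not_ge, GrothLib.AlgSp.topologicalKrullDim_le_iff_localDim,
      not_forall] at ht
    obtain ⟨z, hz⟩ := ht
    rw [lt_iff_not_ge, GrothLib.AlgSp.dim_fieldFibre_le_iff X.property Y.property hlft k sq]
    intro hall
    apply hz
    rw [← hfib]
    refine (hiff d _).1 (hall _ ?_)
    rw [AlgSp.Points.map_ofPt, hp₀, GrothLib.AlgSp.ofPt_map_comp, hk]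
    congr 1
    have hm : (i ≫ α).left.fiberι t z ∈ Set.range ((i ≫ α).left.fiberι t) := ⟨z, rfl⟩
    rwa [Scheme.Hom.range_fiberι] at hm
  · exact GrothLib.AlgSp.isOpenMap_ofPt_of_etale q₀e _ (hWdef ▸ Groth.Agent.S0404.result (i ≫ α).left d)
  · refine ⟨v, ?_, hv⟩
    rw [hWdef, Set.mem_setOf_eq, lt_iff_not_ge, GrothLib.AlgSp.topologicalKrullDim_le_iff_localDim]
    intro hall
    apply hxd
    let w₀ : ↥(Over.mk (P.ι ≫ U.hom)).left := ⟨w, hwP⟩
    have hw₀ : AlgSp.Points.ofPt ((AlgSp.yon S).map i ≫ p) w₀ = x := by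
      rw [GrothLib.AlgSp.ofPt_map_comp]
      exact hw
    rw [← hw₀, hiff]
    have e1 : (i ≫ α).left w₀ = v := hαw
    have h2 := hall
    rw [← e1] at h2
    exact h2 _

end Groth.Agent.S10679
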