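import Groth.Statements.S1068
import Groth.Agent.Lib.TorBC25.SplitsGlobal
-- import your own Groth.Agent.* helpers here

set_option autoImplicit false
universe u
open CategoryTheory CategoryTheory.Limits AlgebraicGeometry Opposite
attribute [local instance] HasDerivedCategory.standard
open Perf

namespace Groth.Agent.S1068

/-- Let f : X ⟶ S be proper, flat and of finite presentation, with global functions on every fibre X_s
reduced to κ(s) (pullback along X_s ⟶ Spec κ(s) is an isomorphism on global sections). Then every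
point s of S has an open neighbourhood V over which, writing f_V : f⁻¹V ⟶ V and assuming Rf_{V,*}
exists and binary direct sums in D(O_V) are available, Rf_{V,*}O_{f⁻¹V} ≅ O_V ⊕ P for some perfect P
∈ D(O_V) of tor amplitude in [1, b] for some b. -/
theorem result {X S : Scheme.{u}} (f : X ⟶ S) [IsProper f] [Flat f]
    [LocallyOfFinitePresentation f] (h : ∀ s : S, IsIso (f.fiberToSpecResidueField s).appTop) (s : S) :
    ∃ V : S.Opens, s ∈ V ∧ ∀ [DCoh.HasRpush (f ∣_ V)] [∀ A B : DCoh.D (V : Scheme.{u}), HasBinaryBiproduct A B],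
      ∃ (P : DCoh.D (V : Scheme.{u})) (b : ℤ), DCoh.IsPerfect P ∧ DCoh.HasTorAmplitudeIn 1 b P ∧
        Nonempty ((DCoh.Rpush (f ∣_ V)).obj (DCoh.inD (f ⁻¹ᵁ V : Scheme.{u}) (Coh.structureModule (f ⁻¹ᵁ V : Scheme.{u}))) ≅
          DCoh.inD (V : Scheme.{u}) (Coh.structureModule (V : Scheme.{u})) ⊞ P) := by
  obtain ⟨V, hV, hsV, -⟩ := exists_isAffineOpen_mem_and_subset (x := s) (U := ⊤) trivial
  refine ⟨V, hsV, ?_⟩
  intro _ _
  obtain ⟨P, b, hP, hb, ⟨e⟩⟩ := GrothLib.TorBC25.exists_split f h hV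
  exact ⟨P, b, hP, hb, ⟨(GrothLib.OX.rpushIsoRres (f ∣_ V)).app _ ≪≫ e⟩⟩

end Groth.Agent.S1068
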