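import Groth.Statements.S10680
import Groth.Agent.Lib.AlgSp.FieldFibreDim
import Groth.Agent.S10308
-- import your own Groth.Agent.* helpers here

set_option autoImplicit false
universe u
open CategoryTheory CategoryTheory.Limits AlgebraicGeometry
open AlgSp

namespace Groth.Agent.S10680

/-- For a proper morphism f : X ⟶ Y between algebraic spaces over S the fibre dimension function on |Y|
is upper semi-continuous: for every d the set of y such that every fibre X_k over y (k a field point
in the class of y, X_k any pullback in fppf sheaves) has dimension less than d is open. -/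
theorem result {S : Scheme.{u}} {X Y : AlgSp.Space S} (f : X ⟶ Y) (hf : AlgSp.IsProperMor f.hom) (d : WithBot ℕ∞) :
    IsOpen {y : AlgSp.Points Y.obj | ∀ (k : AlgSp.FieldPt Y.obj), AlgSp.Points.mk k = y →
      ∀ (Xk : AlgSp.Sp S) (fst : Xk ⟶ X.obj) (snd : Xk ⟶ (AlgSp.yon S).obj k.pt),
        IsPullback fst snd f.hom k.toHom → AlgSp.dim Xk < d} := by
  have hcl : IsClosedMap (AlgSp.Points.map f.hom) :=
    hf.2.2 Y.property (𝟙 _) (𝟙 _) f.hom (IsPullback.of_horiz_isIso ⟨by simp⟩)
  have hlft : AlgSp.LocP @LocallyOfFiniteType f.hom := hf.2.1.1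
  -- transfer between all fibres and one fibre
  have hiff : ∀ (e : WithBot ℕ∞) (y : AlgSp.Points Y.obj),
      (∀ (k : AlgSp.FieldPt Y.obj), AlgSp.Points.mk k = y →
        ∀ (Xk : AlgSp.Sp S) (fst : Xk ⟶ X.obj) (snd : Xk ⟶ (AlgSp.yon S).obj k.pt),
          IsPullback fst snd f.hom k.toHom → AlgSp.dim Xk ≤ e) ↔
      ∀ x : AlgSp.Points X.obj, AlgSp.Points.map f.hom x = y →
        AlgSp.HasAtMor (fun _ _ h u => FlatMor.fibreDimAt h u ≤ e) f.hom x := by
    intro e y
    constructor
    · intro h
      obtain ⟨k, rfl⟩ := AlgSp.Points.mk_surjective y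
      exact (GrothLib.AlgSp.dim_fieldFibre_le_iff X.property Y.property hlft k
        (IsPullback.of_hasPullback f.hom k.toHom) e).1 (h k rfl _ _ _ (IsPullback.of_hasPullback _ _))
    · intro h k hk Xk fst snd sq
      subst hk
      exact (GrothLib.AlgSp.dim_fieldFibre_le_iff X.property Y.property hlft k sq e).2 h
  have hopen : ∀ n : ℕ, IsOpen {y : AlgSp.Points Y.obj |
      ∀ (k : AlgSp.FieldPt Y.obj), AlgSp.Points.mk k = y →
        ∀ (Xk : AlgSp.Sp S) (fst : Xk ⟶ X.obj) (snd : Xk ⟶ (AlgSp.yon S).obj k.pt),
          IsPullback fst snd f.hom k.toHom → AlgSp.dim Xk ≤ (n : WithBot ℕ∞)} := by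
    intro n
    have h0 := (hcl _ (Groth.Agent.S10308.result f hlft n).isClosed_compl).isOpen_compl
    convert h0 using 1
    ext y
    show (∀ k, _) ↔ y ∉ _
    rw [hiff]
    constructor
    · rintro h ⟨x, hx, rfl⟩
      exact hx (h x rfl)
    · intro h x hx
      exact by_contra fun hc => h ⟨x, hc, hx⟩
  induction d using WithBot.recBotCoe with
  | bot =>
    convert isOpen_empty
    refine Set.eq_empty_of_forall_notMem fun y hy => ?_
    obtain ⟨k, rfl⟩ := AlgSp.Points.mk_surjective y
    exact not_lt_bot (hy k rfl _ _ _ (IsPullback.of_hasPullback _ _))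
  | coe d =>
    induction d using ENat.recTopCoe with
    | top =>
      have hu := isOpen_iUnion hopen
      convert hu using 1
      ext y
      simp only [Set.mem_iUnion, Set.mem_setOf_eq]
      constructor
      · intro hy
        obtain ⟨k, rfl⟩ := AlgSp.Points.mk_surjective y
        have h1 := hy k rfl _ _ _ (IsPullback.of_hasPullback f.hom k.toHom)
        obtain ⟨n, hn⟩ : ∃ n : ℕ, AlgSp.dim (pullback f.hom k.toHom) ≤ (n : WithBot ℕ∞) := by
          revert h1
          generalize AlgSp.dim (pullback f.hom k.toHom) = e
          intro h1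
          induction e using WithBot.recBotCoe with
          | bot => exact ⟨0, bot_le⟩
          | coe e =>
            induction e using ENat.recTopCoe with
            | top => exact absurd h1 (lt_irrefl _)
            | coe m => exact ⟨m, le_rfl⟩
        refine ⟨n, (hiff _ _).2 fun x hx => ?_⟩
        exact (GrothLib.AlgSp.dim_fieldFibre_le_iff X.property Y.property hlft k
          (IsPullback.of_hasPullback f.hom k.toHom) _).1 hn x hx
      · rintro ⟨n, hn⟩ k hk Xk fst snd sq
        exact (hn k hk Xk fst snd sq).trans_lt (WithBot.coe_lt_coe.2 (ENat.coe_lt_top n))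
    | coe n =>
      cases n with
      | zero =>
        have h0 := hcl.isClosed_range.isOpen_compl
        convert h0 using 1
        ext y
        show _ ↔ y ∉ _
        constructor
        · intro hy
          obtain ⟨k, rfl⟩ := AlgSp.Points.mk_surjective y
          refine (GrothLib.AlgSp.dim_fieldFibre_eq_bot_iff X.property Y.property hlft k
            (IsPullback.of_hasPullback f.hom k.toHom)).1 ?_
          have h1 := hy k rfl _ _ _ (IsPullback.of_hasPullback f.hom k.toHom)
          revert h1
          generalize AlgSp.dim (pullback f.hom k.toHom) = e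
          intro h1
          induction e using WithBot.recBotCoe with
          | bot => rfl
          | coe e => exact absurd h1 (by simp)
        · intro hy k hk Xk fst snd sq
          subst hk
          rw [(GrothLib.AlgSp.dim_fieldFibre_eq_bot_iff X.property Y.property hlft k sq).2 hy]
          exact WithBot.bot_lt_coe _
      | succ m =>
        convert hopen m using 1
        ext y
        have he : ∀ e : WithBot ℕ∞, e < (((m + 1 : ℕ) : ℕ∞) : WithBot ℕ∞) ↔ e ≤ ((m : ℕ∞) : WithBot ℕ∞) := by
          intro e
          induction e using WithBot.recBotCoe with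
          | bot => simp
          | coe e =>
            rw [WithBot.coe_lt_coe, WithBot.coe_le_coe, Nat.cast_succ, ENat.lt_add_one_iff (ENat.coe_ne_top m)]
        constructor
        · exact fun hy k hk Xk fst snd sq => (he _).1 (hy k hk Xk fst snd sq)
        · exact fun hy k hk Xk fst snd sq => (he _).2 (hy k hk Xk fst snd sq)

end Groth.Agent.S10680
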