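import Groth.Statements.S10681
import Groth.Agent.Lib.AlgSp.ConnBaseExt
-- import your own Groth.Agent.* helpers here

set_option autoImplicit false
universe u
open CategoryTheory CategoryTheory.Limits AlgebraicGeometry
open AlgSp GrothLib.AlgSp
set_option backward.isDefEq.respectTransparency false

namespace Groth.Agent.S10681

/-- For a morphism f : X ⟶ Y between algebraic spaces over S and a geometric point ȳ of Y (an
algebraically closed field point), the geometric fibre X_ȳ (pullback in fppf sheaves) has connected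
space of points if and only if for every scheme V with a representable etale a : h_V ⟶ Y and every
point v of V through which ȳ factors, the fibre of X ×_Y V ⟶ V over v (pullback along the residue
field point of v) has connected space of points. -/
theorem result {S : Scheme.{u}} {X Y : AlgSp.Space S} (f : X ⟶ Y) (yb : AlgSp.FieldPt Y.obj) (hyb : yb.IsGeometric)
    (Xyb : AlgSp.Sp S) (fst : Xyb ⟶ X.obj) (snd : Xyb ⟶ (AlgSp.yon S).obj yb.pt) (h : IsPullback fst snd f.hom yb.toHom) :
    ConnectedSpace (AlgSp.Points Xyb) ↔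
      ∀ (V : Over S) (a : (AlgSp.yon S).obj V ⟶ Y.obj), AlgSp.RepWith @Etale a →
        ∀ (v : ↥V.left) (c : yb.pt ⟶ V), (AlgSp.yon S).map c ≫ a = yb.toHom → c.left (IsLocalRing.closedPoint yb.K) = v →
          ∀ (Xv : AlgSp.Sp S) (fst' : Xv ⟶ X.obj)
            (snd' : Xv ⟶ (AlgSp.yon S).obj (Over.mk (V.left.fromSpecResidueField v ≫ V.hom))),
            IsPullback fst' snd' f.hom ((AlgSp.yon S).map (Over.homMk (V.left.fromSpecResidueField v) rfl :
              Over.mk (V.left.fromSpecResidueField v ≫ V.hom) ⟶ V) ≫ a) →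
            ConnectedSpace (AlgSp.Points Xv) := by
  haveI : IsAlgClosed yb.K := hyb
  have key : ∀ (V : Over S) (v : ↥V.left) (c : yb.pt ⟶ V), c.left (IsLocalRing.closedPoint yb.K) = v →
      ∃ φ : V.left.residueField v ⟶ CommRingCat.of yb.K, Spec.map φ ≫ V.left.fromSpecResidueField v = c.left := by
    intro V v c hv
    subst hv
    exact ⟨_, Scheme.descResidueField_stalkClosedPointTo_fromSpecResidueField _ _ c.left⟩
  refine ⟨fun hconn V a _ v c hc hv Xv fst' snd' sq' => ?_, fun H => ?_⟩
  · obtain ⟨φ, hφ⟩ := key V v c hv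
    let Tv : Over S := Over.mk (V.left.fromSpecResidueField v ≫ V.hom)
    let c₀ : yb.pt ⟶ Tv := Over.homMk (U := yb.pt) (V := Tv) (Spec.map φ) (by
      show Spec.map φ ≫ V.left.fromSpecResidueField v ≫ V.hom = yb.str
      rw [← Category.assoc, hφ]; exact Over.w c)
    have hc₀ : c₀ ≫ (Over.homMk (U := Tv) (V := V) (V.left.fromSpecResidueField v) rfl) = c :=
      Over.OverMorphism.ext hφ
    obtain ⟨d, -, sd⟩ := GrothLib.AlgSp.exists_baseExt c₀ (g' := yb.toHom)
      (by rw [← Category.assoc, ← Functor.map_comp, hc₀, hc]) sq' h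
    haveI : Nonempty ↥yb.pt.left := inferInstanceAs (Nonempty (PrimeSpectrum yb.K))
    haveI : Surjective c₀.left := GrothLib.AlgSp.surjective_to_field c₀
    exact GrothLib.AlgSp.connectedSpace_of_baseExt
      (GrothLib.AlgSp.isAlgSpace_pullback Y.property.diag X.property (IsAlgSpace.yon_obj _) sq') sd
  · obtain ⟨E₀, ⟨c, hc⟩⟩ := GrothLib.AlgSp.nonempty_liftsTo yb Y.property hyb
    have ha : RepWith @Etale E₀.obj.hom := E₀.property
    let V : Over S := E₀.obj.left
    let a : (AlgSp.yon S).obj V ⟶ Y.obj := E₀.obj.hom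
    let v : ↥V.left := c.left (IsLocalRing.closedPoint yb.K)
    obtain ⟨φ, hφ⟩ := key V v c rfl
    let κ : Type u := V.left.residueField v
    letI : Algebra κ yb.K := φ.hom.toAlgebra
    let L : Type u := separableClosure κ yb.K
    haveI : IsSepClosed L := IsSepClosure.sep_closed κ
    let strv : Spec (CommRingCat.of κ) ⟶ S := V.left.fromSpecResidueField v ≫ V.hom
    let Tv : Over S := Over.mk strv
    let iv : Tv ⟶ V := Over.homMk (U := Tv) (V := V) (V.left.fromSpecResidueField v) rfl
    let g₀ : (AlgSp.yon S).obj Tv ⟶ Y.obj := (AlgSp.yon S).map iv ≫ a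
    have sq₀ := IsPullback.of_hasPullback f.hom g₀
    have hP := GrothLib.AlgSp.isAlgSpace_pullback' Y.property X.property (IsAlgSpace.yon_obj Tv) f.hom g₀
    haveI hL : ConnectedSpace (Points (pullback (pullback.snd f.hom g₀)
        ((AlgSp.yon S).map (Over.homMk (U := Over.mk (Spec.map (CommRingCat.ofHom (algebraMap κ L)) ≫ strv))
          (V := Over.mk strv) (Spec.map (CommRingCat.ofHom (algebraMap κ L))) rfl)))) := by
      refine GrothLib.AlgSp.connectedSpace_fibre_of_finite hP (pullback.snd f.hom g₀) L fun E hE => ?_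
      haveI := hE
      haveI : Algebra.IsSeparable κ E := Algebra.isSeparable_tower_bot_of_isSeparable κ E L
      let φE : V.left.residueField v ⟶ CommRingCat.of E := CommRingCat.ofHom (algebraMap κ E)
      let b := Module.finBasis κ E
      obtain ⟨U, g, hg, u, ψ, heq, hb⟩ := GrothLib.Weight.exists_etale_nbhd v φE (Set.range b) (Set.finite_range b)
        (by intro x _; exact Algebra.IsSeparable.isSeparable κ x)
      have hs : g u = v := by
        have h1 := congrArg (fun m : Spec (CommRingCat.of E) ⟶ V.left => m (IsLocalRing.closedPoint E)) heq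
        simpa only [Scheme.Hom.comp_apply, Scheme.fromSpecResidueField_apply] using h1
      have hφE := GrothLib.Chev28.eq_residueFieldMap_comp g u v φE ψ hs heq
      have hk : ∀ x : κ, algebraMap κ E x ∈ Set.range ψ.hom := fun x =>
        ⟨_, (congrArg (fun m : V.left.residueField v ⟶ CommRingCat.of E => m.hom x) hφE).symm⟩
      haveI : IsIso ψ := by
        refine (ConcreteCategory.isIso_iff_bijective ψ).2 ⟨ψ.hom.injective, fun x => ?_⟩
        rw [← b.sum_repr x]
        suffices Hs : ∑ i, (b.repr x i) • b i ∈ ψ.hom.fieldRange from Hs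
        refine sum_mem fun i _ => ?_
        rw [Algebra.smul_def]
        exact mul_mem (hk _) (hb ⟨i, rfl⟩)
      let V' : Over S := Over.mk (g ≫ V.hom)
      let γ : V' ⟶ V := Over.homMk (U := V') (V := V) g rfl
      let j : E →+* yb.K := (algebraMap L yb.K).comp (algebraMap E L)
      have hj : φE ≫ CommRingCat.ofHom j = φ := by
        ext x
        show j (algebraMap κ E x) = algebraMap κ yb.K x
        simp only [j, RingHom.comp_apply]
        rw [← IsScalarTower.algebraMap_apply, ← IsScalarTower.algebraMap_apply]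
      let c' : yb.pt ⟶ V' := Over.homMk (U := yb.pt) (V := V')
        (Spec.map (CommRingCat.ofHom j) ≫ Spec.map ψ ≫ U.fromSpecResidueField u) (by
          show (Spec.map (CommRingCat.ofHom j) ≫ Spec.map ψ ≫ U.fromSpecResidueField u) ≫ g ≫ V.hom = yb.str
          rw [Category.assoc, ← Category.assoc (Spec.map ψ ≫ U.fromSpecResidueField u), heq, Category.assoc,
            ← Category.assoc, ← Spec.map_comp, hj, ← Category.assoc, hφ]
          exact Over.w c)
      have hc' : c' ≫ γ = c := Over.OverMorphism.ext (by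
        show (Spec.map (CommRingCat.ofHom j) ≫ Spec.map ψ ≫ U.fromSpecResidueField u) ≫ g = c.left
        rw [Category.assoc, heq, ← Category.assoc, ← Spec.map_comp, hj, hφ])
      let Tu : Over S := Over.mk (U.fromSpecResidueField u ≫ V'.hom)
      let iu : Tu ⟶ V' := Over.homMk (U := Tu) (V := V') (U.fromSpecResidueField u) rfl
      let a' : (AlgSp.yon S).obj V' ⟶ Y.obj := (AlgSp.yon S).map γ ≫ a
      have squ := IsPullback.of_hasPullback f.hom ((AlgSp.yon S).map iu ≫ a')
      haveI := H V' a' (GrothLib.AlgSp.repWith_comp ((repWith_yon_map_iff _ γ).2 hg) ha) u c'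
        (by rw [← Category.assoc, ← Functor.map_comp, hc']; exact hc)
        (by
          show (Spec.map (CommRingCat.ofHom j) ≫ Spec.map ψ ≫ U.fromSpecResidueField u) _ = u
          rw [Scheme.Hom.comp_apply, Scheme.Hom.comp_apply, Scheme.fromSpecResidueField_apply])
        _ _ _ squ
      let TE : Over S := Over.mk (Spec.map φE ≫ strv)
      let e : TE ⟶ Tv := Over.homMk (U := TE) (V := Tv) (Spec.map φE) rfl
      have hr : Spec.map (inv ψ) ≫ Spec.map φE ≫ V.left.fromSpecResidueField v = U.fromSpecResidueField u ≫ g := by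
        rw [← heq, Category.assoc, ← Category.assoc, ← Spec.map_comp, IsIso.hom_inv_id, Spec.map_id, Category.id_comp]
      let r : Tu ⟶ TE := Over.homMk (U := Tu) (V := TE) (Spec.map (inv ψ)) (by
        show Spec.map (inv ψ) ≫ Spec.map φE ≫ V.left.fromSpecResidueField v ≫ V.hom =
          U.fromSpecResidueField u ≫ g ≫ V.hom
        simp only [← Category.assoc] at hr ⊢
        rw [hr])
      have hre : r ≫ e ≫ iv = iu ≫ γ := Over.OverMorphism.ext hr
      have sqE := (IsPullback.of_hasPullback (pullback.snd f.hom g₀) ((AlgSp.yon S).map e)).paste_horiz sq₀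
      obtain ⟨d, -, sd⟩ := GrothLib.AlgSp.exists_baseExt r (g' := (AlgSp.yon S).map iu ≫ a') (by
        simp only [g₀, a', ← Category.assoc, ← Functor.map_comp]
        rw [Category.assoc r, hre]) sqE squ
      haveI : Nonempty ↥Tu.left := inferInstanceAs (Nonempty (PrimeSpectrum (U.residueField u)))
      haveI : Surjective r.left := GrothLib.AlgSp.surjective_to_field r
      exact GrothLib.AlgSp.connectedSpace_of_baseExt
        (GrothLib.AlgSp.isAlgSpace_pullback' (IsAlgSpace.yon_obj Tv) hP (IsAlgSpace.yon_obj TE) _ _) sd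
    let TL : Over S := Over.mk (Spec.map (CommRingCat.ofHom (algebraMap κ L)) ≫ strv)
    let eL : TL ⟶ Tv := Over.homMk (U := TL) (V := Tv) (Spec.map (CommRingCat.ofHom (algebraMap κ L))) rfl
    have hLK : CommRingCat.ofHom (algebraMap κ L) ≫ CommRingCat.ofHom (algebraMap L yb.K) = φ := by
      ext x
      show algebraMap L yb.K (algebraMap κ L x) = algebraMap κ yb.K x
      rw [← IsScalarTower.algebraMap_apply]
    let cK : yb.pt ⟶ TL := Over.homMk (U := yb.pt) (V := TL) (Spec.map (CommRingCat.ofHom (algebraMap L yb.K))) (by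
      show Spec.map (CommRingCat.ofHom (algebraMap L yb.K)) ≫ Spec.map (CommRingCat.ofHom (algebraMap κ L)) ≫
        V.left.fromSpecResidueField v ≫ V.hom = yb.str
      rw [← Category.assoc, ← Spec.map_comp, hLK, ← Category.assoc, hφ]
      exact Over.w c)
    have hcK : cK ≫ eL ≫ iv = c := Over.OverMorphism.ext (by
      show Spec.map (CommRingCat.ofHom (algebraMap L yb.K)) ≫ Spec.map (CommRingCat.ofHom (algebraMap κ L)) ≫
        V.left.fromSpecResidueField v = c.left
      rw [← Category.assoc, ← Spec.map_comp, hLK, hφ])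
    have sqL := (IsPullback.of_hasPullback (pullback.snd f.hom g₀) ((AlgSp.yon S).map eL)).paste_horiz sq₀
    obtain ⟨d, -, sd⟩ := GrothLib.AlgSp.exists_baseExt cK (g' := yb.toHom) (by
      simp only [g₀, ← Category.assoc, ← Functor.map_comp]
      rw [Category.assoc cK, hcK]
      exact hc) sqL h
    haveI : GeometricallyConnected cK.left := GrothLib.AlgSp.geometricallyConnected_SpecMap L yb.K
    haveI : UniversallyOpen cK.left :=
      inferInstanceAs (UniversallyOpen (Spec.map (CommRingCat.ofHom (algebraMap L yb.K))))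
    exact GrothLib.AlgSp.connectedSpace_baseExt
      (GrothLib.AlgSp.isAlgSpace_pullback' (IsAlgSpace.yon_obj Tv) hP (IsAlgSpace.yon_obj TL) _ _) sd

end Groth.Agent.S10681
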