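import Groth.Statements.S10682
import Groth.Agent.Lib.AlgSp.GeomReducedLocus
import Groth.Agent.S2549
import Groth.Agent.Lib.AlgSp.PointProps
-- import your own Groth.Agent.* helpers here

set_option autoImplicit false
universe u
open CategoryTheory CategoryTheory.Limits AlgebraicGeometry
open AlgSp GrothLib.AlgSp
set_option backward.isDefEq.respectTransparency false

namespace Groth.Agent.S10682

/-- For a flat proper morphism f : X ⟶ Y between algebraic spaces over S which is of finite
presentation, the set of points y of |Y| at which the fibre of f is geometrically reduced is open in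
|Y|; here the fibre of f at y being geometrically reduced means: for every field point k of Y in the
class of y and every field homomorphism k ⟶ k', the base change X_{k'} (pullback in fppf sheaves) is
reduced (some etale surjective scheme chart is reduced). -/
theorem result {S : Scheme.{u}} {X Y : AlgSp.Space S} (f : X ⟶ Y)
    (hf1 : AlgSp.LocP @Flat f.hom) (hf2 : AlgSp.IsProperMor f.hom) (hf3 : AlgSp.IsFinitePresentationMor f.hom) :
    IsOpen {y : AlgSp.Points Y.obj | ∀ (k : AlgSp.FieldPt Y.obj), AlgSp.Points.mk k = y →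
        ∀ (k' : Type u) [Field k'] (φ : k.K →+* k') (Xk' : AlgSp.Sp S) (a : Xk' ⟶ X.obj)
          (b : Xk' ⟶ (AlgSp.yon S).obj (Over.mk (Spec.map (CommRingCat.ofHom φ) ≫ k.str))),
          IsPullback a b f.hom ((AlgSp.yon S).map (Over.homMk (Spec.map (CommRingCat.ofHom φ)) rfl :
            Over.mk (Spec.map (CommRingCat.ofHom φ) ≫ k.str) ⟶ k.pt) ≫ k.toHom) →
          AlgSp.EtaleLocally (fun U => IsReduced U) Xk'} := by
  obtain ⟨V, a, hae, has⟩ := Y.property.atlas
  have sqV := IsPullback.of_hasPullback f.hom a
  have hV : IsAlgSpace ((yon S).obj V) := ((ofScheme S).obj V).property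
  have hXV : IsAlgSpace (pullback f.hom a) := isAlgSpace_pullback' Y.property X.property hV f.hom a
  obtain ⟨W, b, hbe, hbs⟩ := hXV.atlas
  obtain ⟨g, hg⟩ := (yon S).map_surjective (b ≫ pullback.snd f.hom a)
  have hloc : ∀ {P : MorphismProperty Scheme.{u}}, EtLocal P → (∀ ⦃A B : Scheme.{u}⦄ (h : A ⟶ B), Etale h → P h) →
      LocP P f.hom → P g.left := fun {P} hP hE hPf => by
    haveI := EtLocal.respectsIso hP
    haveI := hP.baseChange
    refine (repWith_yon_map_iff _ g).1 (EtLocal.repWith_of_locP hP hV (representable_yon_map _) ?_)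
    rw [hg]
    exact EtLocal.locP_comp hP ((ofScheme S).obj W).property hXV hV
      (EtLocal.locP_of_repWith hP hXV (repWith_mono hbe fun A B h he => hE h he))
      (EtLocal.locP_of_isPullback hP X.property Y.property hV sqV hPf)
  haveI : Flat g.left := hloc EtLocal.flat (fun _ _ h (_ : Etale h) => inferInstance) hf1
  haveI : LocallyOfFinitePresentation g.left :=
    hloc EtLocal.lfp (fun _ _ h (_ : Etale h) => inferInstance) hf3.1
  let good : Set ↥W.left :=
    {w | FBase.IsGeomReducedAt (g.left.fiberToSpecResidueField (g.left w)) (g.left.asFiber w)}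
  have hgood : IsOpen good := Groth.Agent.S2549.result g.left
  have hsat : ∀ w w' : ↥W.left, Points.ofPt b w = Points.ofPt b w' → w' ∈ good → w ∈ good := by
    intro w w' hww hw'
    obtain ⟨R, w₁, w₂, r, he₁, he₂, hc, rfl, rfl⟩ := exists_common_chart hXV hbe hbe hww
    haveI := he₁
    haveI := he₂
    have e : w₁ ≫ g = w₂ ≫ g := (yon S).map_injective (by
      rw [Functor.map_comp, Functor.map_comp, hg, reassoc_of% hc])
    have e' : w₁.left ≫ g.left = w₂.left ≫ g.left := congrArg (fun m => m.left) e
    have h₂ := (isGeomReducedAt_fiber_of_etale w₂.left g.left r).2 hw'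
    refine (isGeomReducedAt_fiber_of_etale w₁.left g.left r).1 ?_
    exact Eq.mpr (congrArg (fun m : R.left ⟶ V.left =>
      FBase.IsGeomReducedAt (m.fiberToSpecResidueField (m r)) (m.asFiber r)) e') h₂
  have hclosed : IsClosedMap (Points.map (pullback.snd f.hom a)) := hf2.2.2 hV a _ _ sqV
  have hpre := preimage_geomRedLocus f a b hbe hbs g hg
  have hbad : Points.schemeHomeo V ⁻¹' (Points.map (pullback.snd f.hom a) '' (Points.ofPt b '' good)ᶜ) =
      (Points.ofPt a ⁻¹' geomRedLocus f)ᶜ := by
    rw [hpre]
    ext v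
    rw [Set.mem_compl_iff, Set.mem_setOf_eq, geometricallyReduced_fiber_iff]
    push_neg
    constructor
    · rintro ⟨x, hx, hxv⟩
      obtain ⟨w, rfl⟩ := surjective_ofPt_of_repWith hbs x
      refine ⟨w, ?_, fun hw => hx ⟨w, hw, rfl⟩⟩
      rw [Points.map_ofPt, ← hg, Points.ofPt_eq_map_ofScheme] at hxv
      erw [Points.map_yon_map_apply] at hxv
      exact (Points.schemeHomeo V).injective hxv
    · rintro ⟨w, rfl, hw⟩
      refine ⟨Points.ofPt b w, fun ⟨w', hw', e⟩ => hw (hsat w w' e.symm hw'), ?_⟩
      rw [Points.map_ofPt, ← hg, Points.ofPt_eq_map_ofScheme]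
      exact Points.map_yon_map_apply _ _
  have hopen : IsOpen (Points.ofPt a ⁻¹' geomRedLocus f) := by
    rw [← isClosed_compl_iff, ← hbad]
    exact (hclosed _ ((isOpenMap_ofPt_of_etale hbe _ hgood).isClosed_compl)).preimage
      (Points.schemeHomeo V).continuous
  have h := isOpenMap_ofPt_of_etale hae _ hopen
  rwa [Set.image_preimage_eq _ (surjective_ofPt_of_repWith has)] at h

end Groth.Agent.S10682
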