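import Groth.Statements.S10686
import Groth.Agent.Lib.AlgSp.FibreReduced
import Groth.Agent.Lib.AlgSp.Decent
-- import your own Groth.Agent.* helpers here

set_option autoImplicit false
universe u
open CategoryTheory CategoryTheory.Limits AlgebraicGeometry
open AlgSp GrothLib.AlgSp
set_option backward.isDefEq.respectTransparency false

namespace Groth.Agent.S10686

/-- For a morphism f : X ⟶ Y between algebraic spaces over S and a point y of |Y|, write X_k for the
fibre (pullback in fppf sheaves) over a field point k of Y and call X_k geometrically reduced when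
for every field homomorphism k ⟶ k' the base change X_{k'} is reduced (some etale surjective scheme
chart reduced). The following are equivalent: (1) X_k is geometrically reduced for some k in the
class of y; (2) X_k is geometrically reduced for every k in the class of y; (3) X_k is reduced for
every k in the class of y. -/
theorem result {S : Scheme.{u}} {X Y : AlgSp.Space S} (f : X ⟶ Y) (y : AlgSp.Points Y.obj) :
    [∃ (k : AlgSp.FieldPt Y.obj), AlgSp.Points.mk k = y ∧
        ∀ (k' : Type u) [Field k'] (φ : k.K →+* k') (Xk' : AlgSp.Sp S) (a : Xk' ⟶ X.obj)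
          (b : Xk' ⟶ (AlgSp.yon S).obj (Over.mk (Spec.map (CommRingCat.ofHom φ) ≫ k.str))),
          IsPullback a b f.hom ((AlgSp.yon S).map (Over.homMk (Spec.map (CommRingCat.ofHom φ)) rfl :
            Over.mk (Spec.map (CommRingCat.ofHom φ) ≫ k.str) ⟶ k.pt) ≫ k.toHom) →
          AlgSp.EtaleLocally (fun U => IsReduced U) Xk',
      ∀ (k : AlgSp.FieldPt Y.obj), AlgSp.Points.mk k = y →
        ∀ (k' : Type u) [Field k'] (φ : k.K →+* k') (Xk' : AlgSp.Sp S) (a : Xk' ⟶ X.obj)
          (b : Xk' ⟶ (AlgSp.yon S).obj (Over.mk (Spec.map (CommRingCat.ofHom φ) ≫ k.str))),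
          IsPullback a b f.hom ((AlgSp.yon S).map (Over.homMk (Spec.map (CommRingCat.ofHom φ)) rfl :
            Over.mk (Spec.map (CommRingCat.ofHom φ) ≫ k.str) ⟶ k.pt) ≫ k.toHom) →
          AlgSp.EtaleLocally (fun U => IsReduced U) Xk',
      ∀ (k : AlgSp.FieldPt Y.obj), AlgSp.Points.mk k = y →
        ∀ (Xk : AlgSp.Sp S) (a : Xk ⟶ X.obj) (b : Xk ⟶ (AlgSp.yon S).obj k.pt), IsPullback a b f.hom k.toHom →
          AlgSp.EtaleLocally (fun U => IsReduced U) Xk].TFAE := by
  have key : ∀ (k : AlgSp.FieldPt Y.obj), AlgSp.Points.mk k = y →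
      ∀ (k' : Type u) [Field k'] (φ : k.K →+* k'), Points.ofPt
        ((yon S).map (Over.homMk (Spec.map (CommRingCat.ofHom φ)) rfl :
            Over.mk (Spec.map (CommRingCat.ofHom φ) ≫ k.str) ⟶ k.pt) ≫ k.toHom) (IsLocalRing.closedPoint k') = y := by
    intro k hk k' _ φ
    rw [GrothLib.AlgSp.ofPt_map_comp, Points.ofPt_toHom]
    exact hk
  tfae_have 3 → 2 := by
    intro h k hk k' _ φ P a b sq
    let g := (yon S).map (Over.homMk (Spec.map (CommRingCat.ofHom φ)) rfl :
            Over.mk (Spec.map (CommRingCat.ofHom φ) ≫ k.str) ⟶ k.pt) ≫ k.toHom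
    let m : AlgSp.FieldPt Y.obj := ⟨k', Spec.map (CommRingCat.ofHom φ) ≫ k.str, (J S).uliftYonedaEquiv.{u + 1} g⟩
    have hm : m.toHom = g := Equiv.symm_apply_apply _ _
    refine h m ?_ P a b (hm.symm ▸ sq)
    rw [← key k hk k' φ, ← Points.ofPt_toHom m (IsLocalRing.closedPoint k'), hm]
  tfae_have 2 → 1 := by
    intro h
    obtain ⟨k, hk⟩ := Points.mk_surjective y
    exact ⟨k, hk, h k hk⟩
  tfae_have 1 → 3 := by
    rintro ⟨k₀, hk₀, h₀⟩ k hk Xk a b sq
    refine GrothLib.AlgSp.geomReduced_of_common_point X.property Y.property k₀.toHom h₀ k.toHom ?_ sq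
    rw [Points.ofPt_toHom, Points.ofPt_toHom, hk₀, hk]
  tfae_finish

end Groth.Agent.S10686
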