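import Groth.Statements.S10683
import Groth.Agent.S10686
import Groth.Agent.S1301
import Groth.Agent.Lib.AlgSp.LimitDesc
import Groth.Agent.Lib.AlgSp.EtaleLocallyProps
import Groth.Agent.Lib.AlgSp.SourceLocal
import Groth.Agent.Lib.AlgSp.LocP
-- import your own Groth.Agent.* helpers here

set_option autoImplicit false
universe u
open CategoryTheory CategoryTheory.Limits AlgebraicGeometry
open AlgSp GrothLib.AlgSp
set_option backward.isDefEq.respectTransparency false

namespace Groth.Agent.S10683

/-- For a quasi-compact morphism f : X ⟶ Y between algebraic spaces over S which is locally of finite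
presentation, the set E of points of |Y| at which the fibre of f is geometrically reduced is etale
locally constructible: for every affine scheme V with a representable etale a : h_V ⟶ Y, the inverse
image of E in V is a constructible subset. Here the fibre of f at y being geometrically reduced
means: for every field point k of Y in the class of y and every field homomorphism k ⟶ k', the base
change X_{k'} (pullback in fppf sheaves) is reduced (some etale surjective scheme chart is reduced). -/
theorem result {S : Scheme.{u}} {X Y : AlgSp.Space S} (f : X ⟶ Y)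
    (hf1 : AlgSp.IsQuasiCompactMor f.hom) (hf2 : AlgSp.LocP @LocallyOfFinitePresentation f.hom)
    (V : Over S) (hV : IsAffine V.left) (a : (AlgSp.yon S).obj V ⟶ Y.obj) (ha : AlgSp.RepWith @Etale a) :
    Topology.IsConstructible ((AlgSp.Points.ofPt a) ⁻¹' {y : AlgSp.Points Y.obj | ∀ (k : AlgSp.FieldPt Y.obj), AlgSp.Points.mk k = y →
        ∀ (k' : Type u) [Field k'] (φ : k.K →+* k') (Xk' : AlgSp.Sp S) (a : Xk' ⟶ X.obj)
          (b : Xk' ⟶ (AlgSp.yon S).obj (Over.mk (Spec.map (CommRingCat.ofHom φ) ≫ k.str))),
          IsPullback a b f.hom ((AlgSp.yon S).map (Over.homMk (Spec.map (CommRingCat.ofHom φ)) rfl :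
            Over.mk (Spec.map (CommRingCat.ofHom φ) ≫ k.str) ⟶ k.pt) ≫ k.toHom) →
          AlgSp.EtaleLocally (fun U => IsReduced U) Xk'}) := by
  haveI := hV
  let XV := pullback f.hom a
  have hXV : IsAlgSpace XV := isAlgSpace_pullback' Y.property X.property ((ofScheme S).obj V).property f.hom a
  have sqV := IsPullback.of_hasPullback f.hom a
  have hXc : IsQuasiCompactSp XV := hf1 ((ofScheme S).obj V).property (isQuasiCompactSp_yon V) a _ _ sqV
  obtain ⟨W, b, hW, hbe, hbs⟩ := exists_affine_atlas_of_qc hXc
  haveI := hW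
  obtain ⟨g, hg⟩ := (yon S).map_surjective (b ≫ pullback.snd f.hom a)
  haveI : QuasiCompact g.left := quasiCompact_of_compactSpace g.left
  haveI : LocallyOfFinitePresentation g.left := (repWith_yon_map_iff _ g).1
    (EtLocal.repWith_of_locP EtLocal.lfp ((ofScheme S).obj V).property (representable_yon_map _) (by
    rw [hg]
    exact EtLocal.locP_comp EtLocal.lfp ((ofScheme S).obj W).property hXV ((ofScheme S).obj V).property
      (EtLocal.locP_of_repWith EtLocal.lfp hXV (repWith_mono hbe fun _ _ h (_ : Etale h) => (inferInstance : LocallyOfFinitePresentation h)))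
      (EtLocal.locP_of_isPullback EtLocal.lfp X.property Y.property ((ofScheme S).obj V).property sqV hf2)))
  have h := Groth.Agent.S1301.result g.left
  haveI : QuasiSeparatedSpace ↥V.left := inferInstance
  refine (Topology.IsLocallyConstructible.isConstructible ?_)
  convert h using 1
  ext v
  let k : FieldPt Y.obj := ⟨(V.left.residueField v), V.left.fromSpecResidueField v ≫ V.hom,
    (J S).uliftYonedaEquiv.{u + 1} ((yon S).map (Over.homMk (V.left.fromSpecResidueField v) rfl) ≫ a)⟩
  have hk₀ : k.toHom = (yon S).map (Over.homMk (V.left.fromSpecResidueField v) rfl :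
      k.pt ⟶ V) ≫ a := Equiv.symm_apply_apply _ _
  have hk : Points.mk k = Points.ofPt a v := by
    rw [← Points.ofPt_toHom k (IsLocalRing.closedPoint _), hk₀, ofPt_map_comp]
    exact congrArg _ (Scheme.fromSpecResidueField_apply v _)
  have key : ∀ (k' : Type u) [Field k'] (φ : k.K →+* k') (P : Sp S) (p : P ⟶ X.obj)
      (p' : P ⟶ (yon S).obj (Over.mk (Spec.map (CommRingCat.ofHom φ) ≫ k.str))),
      IsPullback p p' f.hom ((yon S).map (Over.homMk (Spec.map (CommRingCat.ofHom φ)) rfl :
            Over.mk (Spec.map (CommRingCat.ofHom φ) ≫ k.str) ⟶ k.pt) ≫ k.toHom) →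
      ∀ (Z : Scheme.{u}) (z₁ : Z ⟶ W.left) (z₂ : Z ⟶ Spec (CommRingCat.of k')),
        IsPullback z₁ z₂ g.left (Spec.map (CommRingCat.ofHom φ) ≫ V.left.fromSpecResidueField v) →
        (EtaleLocally (fun U => IsReduced U) P ↔ IsReduced Z) := by
    intro k' _ φ P p p' sqP Z z₁ z₂ sqZ
    let T : Over S := Over.mk (Spec.map (CommRingCat.ofHom φ) ≫ k.str)
    let m : T ⟶ V := Over.homMk (Spec.map (CommRingCat.ofHom φ) ≫ V.left.fromSpecResidueField v) (Category.assoc _ _ _)
    have hm : (yon S).map m ≫ a = (yon S).map (Over.homMk (Spec.map (CommRingCat.ofHom φ)) rfl : T ⟶ k.pt) ≫ k.toHom := by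
      rw [hk₀, ← Category.assoc, ← Functor.map_comp]
      congr 2
    let Z' : Over S := Over.mk (z₂ ≫ T.hom)
    let z₁' : Z' ⟶ W := Over.homMk z₁ (by
      rw [← Over.w g, ← Category.assoc, sqZ.w, Category.assoc]
      exact congrArg (z₂ ≫ ·) (Over.w m))
    let z₂' : Z' ⟶ T := Over.homMk z₂ rfl
    have sqy : IsPullback ((yon S).map z₁') ((yon S).map z₂') ((yon S).map g) ((yon S).map m) :=
      isPullback_yon (IsPullback.of_map (Over.forget S) (Over.OverMorphism.ext sqZ.w) sqZ)
    let π : P ⟶ XV := sqV.lift p (p' ≫ (yon S).map m) (by rw [Category.assoc, hm]; exact sqP.w)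
    have sqπ : IsPullback π p' (pullback.snd f.hom a) ((yon S).map m) :=
      IsPullback.of_right (by rw [sqV.lift_fst]; exact hm ▸ sqP) (sqV.lift_snd _ _ _) sqV
    let c : (yon S).obj Z' ⟶ P := sqπ.lift ((yon S).map z₁' ≫ b) ((yon S).map z₂') (by
      rw [Category.assoc, ← hg]; exact sqy.w)
    have sqc : IsPullback ((yon S).map z₁') c b π := by
      refine IsPullback.of_bot (h₂₁ := π) (v₂₂ := pullback.snd f.hom a) ?_ (sqπ.lift_fst _ _ _).symm sqπ
      rw [sqπ.lift_snd, ← hg]
      exact sqy
    have hce : RepWith @Etale c := repWith_of_isPullback sqc hbe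
    have hcs : RepWith @Surjective c := repWith_of_isPullback sqc hbs
    exact ⟨fun hP => etaleLocally_chart (fun _ _ e => isReduced_of_etale e) (fun _ _ e => isReduced_desc e) hP c hce,
      fun hZ => ⟨Z', c, hce, hcs, hZ⟩⟩
  change _ ↔ GeometricallyReduced (g.left.fiberToSpecResidueField v)
  constructor
  · intro hy
    refine GeometricallyReduced.mk fun K _ y₀ Z z₁ z₂ sq => ?_
    obtain ⟨φ, rfl⟩ := Spec.map_surjective y₀
    let T : Over S := Over.mk (Spec.map φ ≫ k.str)
    exact (key K φ.hom _ _ _ (IsPullback.of_hasPullback f.hom _) Z (z₁ ≫ g.left.fiberι v) z₂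
      (sq.paste_horiz (IsPullback.of_hasPullback g.left (V.left.fromSpecResidueField v)))).1
      (hy k hk K φ.hom _ _ _ (IsPullback.of_hasPullback f.hom _))
  · intro hgr
    refine ((Groth.Agent.S10686.result f (Points.ofPt a v)).out 0 1).1 ?_
    refine ⟨k, hk, fun k' _ φ P p p' sq => ?_⟩
    have sqf := IsPullback.of_hasPullback (g.left.fiberToSpecResidueField v) (Spec.map (CommRingCat.ofHom φ))
    exact (key k' φ P p p' sq _ _ _ (sqf.paste_horiz
      (IsPullback.of_hasPullback g.left (V.left.fromSpecResidueField v)))).2 (hgr.geometrically_isReduced _ _ _ sqf)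

end Groth.Agent.S10683
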