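import Groth.Statements.S10689
import Groth.Agent.Lib.CurveStk.Gor

set_option autoImplicit false
universe u
open CategoryTheory CategoryTheory.Limits AlgebraicGeometry
open AlgSp

namespace Groth.Agent.S10689

set_option backward.isDefEq.respectTransparency false


/-- For a flat morphism f : X ⟶ Y between algebraic spaces over S which is locally of finite
presentation, the set W of points of |X| at which f is Gorenstein (in every etale chart diagram
through the point the top arrow is flat there with Gorenstein local ring of its fibre) is open in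
|X|, and for any morphism of algebraic spaces g : Y' ⟶ Y with base change f' : X' ⟶ Y' and
projection g' : X' ⟶ X the corresponding set for f' is the inverse image of W under |g'|. -/
theorem result {S : Scheme.{u}} {X Y : AlgSp.Space S} (f : X ⟶ Y)
    (hf1 : AlgSp.LocP @Flat f.hom) (hf2 : AlgSp.LocP @LocallyOfFinitePresentation f.hom) :
    IsOpen {x : AlgSp.Points X.obj | AlgSp.LocPAt (fun h u => Dual3.IsGorensteinAt h u) f.hom x} ∧
      ∀ (X' Y' : AlgSp.Space S) (g : Y' ⟶ Y) (g' : X' ⟶ X) (f' : X' ⟶ Y'), IsPullback g'.hom f'.hom f.hom g.hom →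
        {x' : AlgSp.Points X'.obj | AlgSp.LocPAt (fun h u => Dual3.IsGorensteinAt h u) f'.hom x'} =
          AlgSp.Points.map g'.hom ⁻¹' {x : AlgSp.Points X.obj | AlgSp.LocPAt (fun h u => Dual3.IsGorensteinAt h u) f.hom x} := by
  have key : ∀ {A B : AlgSp.Sp S} (_ : AlgSp.IsAlgSpace A) (_ : AlgSp.IsAlgSpace B) {h : A ⟶ B}
      (_ : AlgSp.LocP GrothLib.CurveStk.FlatLFP h) (x : AlgSp.Points A),
      AlgSp.LocPAt (fun h u => Dual3.IsGorensteinAt h u) h x ↔
        AlgSp.HasAtMor (fun _ _ g u => Dual3.IsGorensteinAt g u) h x := by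
    intro A B hA hB h hh x
    constructor
    · intro hp
      obtain ⟨V, b, hb, hbs⟩ := hB.atlas
      obtain ⟨U, a, k, ha, c, has⟩ := GrothLib.AlgSp.exists_chart_over hA hB h b hb
      obtain ⟨u, rfl⟩ := GrothLib.AlgSp.surjective_ofPt_of_repWith (has hbs) x
      exact ⟨U, V, a, b, k, u, ha, hb, c, rfl, hp a b k u ha hb c rfl⟩
    · intro hx U V a b k u ha hb c hu
      subst hu
      exact (GrothLib.CurveStk.hasAtMor_iff GrothLib.CurveStk.ptProp_gor hA hB hh ha hb c u).1 hx
  have hf : AlgSp.LocP GrothLib.CurveStk.FlatLFP f.hom :=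
    fun _ _ a b h ha hb c => ⟨hf1 a b h ha hb c, hf2 a b h ha hb c⟩
  simp only [key X.property Y.property hf]
  refine ⟨GrothLib.CurveStk.isOpen_hasAtMor GrothLib.CurveStk.ptProp_gor X.property Y.property hf,
    fun X' Y' g g' f' sq => ?_⟩
  have hf' := GrothLib.CurveStk.etLocal_flatLFP.locP_of_isPullback X.property Y.property Y'.property sq hf
  ext x'
  exact (key X'.property Y'.property hf' x').trans
    (GrothLib.CurveStk.preimage_hasAtMor GrothLib.CurveStk.ptProp_gor X.property Y.property X'.property
      Y'.property hf sq x')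

end Groth.Agent.S10689
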