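import Groth.Statements.S10692
import Groth.Agent.Lib.AlgSp.FieldFibreDim
import Groth.Agent.Lib.AlgSp.Strata
import Groth.Agent.Lib.AlgSp.PointsUniv
import Groth.Agent.S10679
import Groth.Agent.S10680
-- import your own Groth.Agent.* helpers here

set_option autoImplicit false
universe u
open CategoryTheory CategoryTheory.Limits AlgebraicGeometry
open AlgSp

namespace Groth.Agent.S10692

/-- For a proper flat morphism f : X ⟶ Y between algebraic spaces over S which is of finite
presentation, the fibre dimension function on |Y| is locally constant: for every d the set of y such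
that every fibre X_k over y (k a field point in the class of y, X_k any pullback in fppf sheaves)
has dimension exactly d is open. -/
theorem result {S : Scheme.{u}} {X Y : AlgSp.Space S} (f : X ⟶ Y) (hf1 : AlgSp.IsProperMor f.hom)
    (hf2 : AlgSp.LocP @Flat f.hom) (hf3 : AlgSp.IsFinitePresentationMor f.hom) (d : WithBot ℕ∞) :
    IsOpen {y : AlgSp.Points Y.obj | ∀ (k : AlgSp.FieldPt Y.obj), AlgSp.Points.mk k = y →
      ∀ (Xk : AlgSp.Sp S) (fst : Xk ⟶ X.obj) (snd : Xk ⟶ (AlgSp.yon S).obj k.pt),
        IsPullback fst snd f.hom k.toHom → AlgSp.dim Xk = d} := by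
  have key : ∀ (d e₁ : WithBot ℕ∞), (∀ e : WithBot ℕ∞, e = d ↔ e < e₁) →
      IsOpen {y : AlgSp.Points Y.obj | ∀ (k : AlgSp.FieldPt Y.obj), AlgSp.Points.mk k = y →
        ∀ (Xk : AlgSp.Sp S) (fst : Xk ⟶ X.obj) (snd : Xk ⟶ (AlgSp.yon S).obj k.pt),
          IsPullback fst snd f.hom k.toHom → AlgSp.dim Xk = d} := by
    intro d e₁ he
    simp only [he]
    exact Groth.Agent.S10680.result f hf1 e₁
  induction d using WithBot.recBotCoe with
  | bot =>
    refine key ⊥ 0 fun e => ?_
    induction e using WithBot.recBotCoe with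
    | bot => simp
    | coe e => simp
  | coe d =>
    induction d using ENat.recTopCoe with
    | top =>
      convert isOpen_empty
      refine Set.eq_empty_of_forall_notMem fun y hy => ?_
      obtain ⟨k, rfl⟩ := AlgSp.Points.mk_surjective y
      obtain ⟨Xk, fst, snd, sq⟩ : ∃ (Xk : AlgSp.Sp S) (fst : Xk ⟶ X.obj) (snd : Xk ⟶ (AlgSp.yon S).obj k.pt),
          IsPullback fst snd f.hom k.toHom := ⟨_, _, _, IsPullback.of_hasPullback f.hom k.toHom⟩
      have hXk : AlgSp.IsAlgSpace Xk :=
        GrothLib.AlgSp.isAlgSpace_pullback Y.property.diag X.property (AlgSp.IsAlgSpace.yon_obj _) sq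
      haveI : CompactSpace ↥k.pt.left := inferInstanceAs (CompactSpace ↥(Spec (CommRingCat.of k.K)))
      have hqc : AlgSp.IsQuasiCompactSp Xk :=
        hf3.2.1 (AlgSp.IsAlgSpace.yon_obj _) (GrothLib.AlgSp.isQuasiCompactSp_yon k.pt) k.toHom fst snd sq
      obtain ⟨U, a, hU, ha, hs⟩ := GrothLib.AlgSp.exists_affine_surjective_chart hXk hqc
      obtain ⟨c, hc⟩ := (AlgSp.yon S).map_surjective (a ≫ snd)
      have hsnd : AlgSp.LocP @LocallyOfFiniteType snd :=
        GrothLib.AlgSp.EtLocal.locP_of_isPullback .lft X.property Y.property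
          (AlgSp.IsAlgSpace.yon_obj _) sq hf1.2.1.1
      haveI : LocallyOfFiniteType c.left := hsnd a (𝟙 _) c ha
        (GrothLib.AlgSp.repWith_iso (𝟙 _)) (by rw [hc, Category.comp_id])
      -- finite type algebras over a field have finite dimension
      haveI : IsAffine U.left := hU
      obtain ⟨φ, hφ⟩ : ∃ φ : CommRingCat.of k.K ⟶ Γ(U.left, ⊤), φ.hom.FiniteType :=
        ⟨(Scheme.ΓSpecIso (CommRingCat.of k.K)).inv ≫ (show U.left ⟶ Spec (CommRingCat.of k.K) from c.left).appTop,
          RingHom.FiniteType.comp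
            ((HasRingHomProperty.iff_of_isAffine (P := @LocallyOfFiniteType)).1
              (inferInstance : LocallyOfFiniteType c.left))
            (RingHom.FiniteType.of_surjective _
              (Scheme.ΓSpecIso (CommRingCat.of k.K)).commRingCatIsoToRingEquiv.symm.surjective)⟩
      algebraize [φ.hom]
      haveI : Algebra.FiniteType k.K Γ(U.left, ⊤) := hφ
      obtain ⟨n, g, hg⟩ := Algebra.FiniteType.iff_quotient_mvPolynomial''.1 ‹Algebra.FiniteType k.K Γ(U.left, ⊤)›
      have hle : ringKrullDim Γ(U.left, ⊤) ≤ (n : WithBot ℕ∞) :=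
        (ringKrullDim_le_of_surjective g.toRingHom hg).trans (by simp)
      have h0 := hy k rfl Xk fst snd sq
      rw [GrothLib.AlgSp.dim_eq_of_atlas hXk ha hs,
        IsHomeomorph.topologicalKrullDim_eq U.left.isoSpec.hom.homeomorph U.left.isoSpec.hom.homeomorph.isHomeomorph,
        show topologicalKrullDim ↥(Spec Γ(U.left, ⊤)) = ringKrullDim Γ(U.left, ⊤) from
          PrimeSpectrum.topologicalKrullDim_eq_ringKrullDim _] at h0
      rw [h0] at hle
      exact absurd (WithBot.coe_le_coe.1 hle) (not_le.2 (ENat.coe_lt_top n))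
    | coe n =>
      have h1 := Groth.Agent.S10680.result f hf1 (((n + 1 : ℕ) : ℕ∞) : WithBot ℕ∞)
      obtain ⟨e₀, he₀⟩ : ∃ e₀ : WithBot ℕ∞, ∀ e : WithBot ℕ∞,
          e = ((n : ℕ∞) : WithBot ℕ∞) ↔ e < (((n + 1 : ℕ) : ℕ∞) : WithBot ℕ∞) ∧ e₀ < e := by
        refine ⟨if n = 0 then ⊥ else (((n - 1 : ℕ) : ℕ∞) : WithBot ℕ∞), fun e => ?_⟩
        induction e using WithBot.recBotCoe with
        | bot => simp
        | coe e =>
          induction e using ENat.recTopCoe with
          | top =>
            exact ⟨fun h => absurd (WithBot.coe_inj.1 h).symm (ENat.coe_ne_top n),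
              fun h => absurd (WithBot.coe_lt_coe.1 h.1) not_top_lt⟩
          | coe m =>
            simp only [WithBot.coe_inj, Nat.cast_inj, WithBot.coe_lt_coe, Nat.cast_lt]
            split_ifs with hn
            · simp only [WithBot.bot_lt_coe, and_true]; omega
            · simp only [WithBot.coe_lt_coe, Nat.cast_lt]; omega
      convert h1.inter (Groth.Agent.S10679.result f hf2 hf3 e₀) using 1
      ext y
      constructor
      · exact fun hy => ⟨fun k hk Xk fst snd sq => ((he₀ _).1 (hy k hk Xk fst snd sq)).1,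
          fun k hk Xk fst snd sq => ((he₀ _).1 (hy k hk Xk fst snd sq)).2⟩
      · exact fun hy k hk Xk fst snd sq => (he₀ _).2 ⟨hy.1 k hk Xk fst snd sq, hy.2 k hk Xk fst snd sq⟩

end Groth.Agent.S10692
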