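import Groth.Statements.S10698
import Groth.Agent.Lib.AlgSp.ClosedImmPieces
import Groth.Agent.Lib.AlgSp.ElemDistSquare
-- import your own Groth.Agent.* helpers here

set_option autoImplicit false
universe u
open CategoryTheory CategoryTheory.Limits AlgebraicGeometry
open AlgSp GrothLib.AlgSp
set_option backward.isDefEq.respectTransparency false

namespace Groth.Agent.S10698

/-- Let `g : X → Y` be a morphism of algebraic spaces over `S` and `(U ⊂ X, f : V → X)` an elementary
distinguished square. Suppose `U → Y` and `V → Y` are both separated, that the canonical morphism `c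
: U ×_X V → U ×_Y V` (between chosen fibre products `PX`, `PY`) is closed on points, and that the
canonical morphism `d : V ×_X V → V ×_Y V` (between chosen fibre products `QX`, `QY`) is
representable and a closed immersion. Then `g` is separated. (The published statement omits the
condition on `V ×_X V → V ×_Y V`; its proof identifies the piece of `X ×_Y X` over `V ×_Y V` with
`V`, which is `V ×_X V`, and without that condition the affine line with doubled origin over a
field, with `U` the complement of the two origins and `V` the disjoint union of the two standard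
charts, satisfies every other hypothesis and is not separated. With it, the diagonal of `g` is a
closed immersion over each of the four pieces `U ×_Y U`, `U ×_Y V`, `V ×_Y U`, `V ×_Y V` of an etale
cover of `X ×_Y X`; for `c`, which is an immersion because `U → X` is an open immersion and `U → Y`
is separated, closedness on points suffices.) -/
theorem result {S : Scheme.{u}} {U V X Y PX PY QX QY : AlgSp.Space S} (g : X ⟶ Y)
    (j : U ⟶ X) (f : V ⟶ X) (hsq : AlgSp.IsElemDistSq j.hom f.hom)
    (hU : AlgSp.IsSeparatedMor (j ≫ g).hom) (hV : AlgSp.IsSeparatedMor (f ≫ g).hom)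
    (pX : PX ⟶ U) (qX : PX ⟶ V) (hPX : IsPullback pX.hom qX.hom j.hom f.hom)
    (pY : PY ⟶ U) (qY : PY ⟶ V) (hPY : IsPullback pY.hom qY.hom (j ≫ g).hom (f ≫ g).hom)
    (c : PX ⟶ PY) (hc₁ : c ≫ pY = pX) (hc₂ : c ≫ qY = qX) (hcl : AlgSp.IsClosedMor c.hom)
    (rX₁ rX₂ : QX ⟶ V) (hQX : IsPullback rX₁.hom rX₂.hom f.hom f.hom)
    (rY₁ rY₂ : QY ⟶ V) (hQY : IsPullback rY₁.hom rY₂.hom (f ≫ g).hom (f ≫ g).hom)
    (d : QX ⟶ QY) (hd₁ : d ≫ rY₁ = rX₁) (hd₂ : d ≫ rY₂ = rX₂)
    (hdcl : AlgSp.RepWith @IsClosedImmersion d.hom) : AlgSp.IsSeparatedMor g.hom := by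
  have hj := hsq.1
  haveI : Mono j.hom := mono_of_openImmersion hj
  have hX := X.property
  have hY := Y.property
  have hG := isAlgSpace_pullback' hY hX hX g.hom g.hom
  have hje : RepWith @Etale j.hom := repWith_mono hj fun A B m hm => by
    have : IsOpenImmersion m := hm
    exact inferInstanceAs (Etale m)
  -- `c` is a closed immersion
  have hc₁' : c.hom ≫ pY.hom = pX.hom := congrArg InducedCategory.Hom.hom hc₁
  have hc₂' : c.hom ≫ qY.hom = qX.hom := congrArg InducedCategory.Hom.hom hc₂
  have hd₁' : d.hom ≫ rY₁.hom = rX₁.hom := congrArg InducedCategory.Hom.hom hd₁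
  have hd₂' : d.hom ≫ rY₂.hom = rX₂.hom := congrArg InducedCategory.Hom.hom hd₂
  have hci : RepWith @IsClosedImmersion c.hom := by
    refine repWith_closedImmersion_of_closed_range (repWith_immersion_graph (π := qY.hom) ?_ ?_) hcl.isClosed_range
    · rw [hc₂']
      exact repWith_of_isPullback hPX hj
    · exact repWith_of_isPullback (isPullback_diagonal_of_isPullback hPY) hU
  -- the pieces
  let D : ULift.{u} Bool → Sp S := fun b => cond b.down U.obj V.obj
  have hD : ∀ b, IsAlgSpace (D b) := fun b => match b with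
    | ⟨true⟩ => U.property
    | ⟨false⟩ => V.property
  let δ : ∀ b, D b ⟶ X.obj := fun b => match b with
    | ⟨true⟩ => j.hom
    | ⟨false⟩ => f.hom
  have hδ : ∀ b, LocP @Etale (δ b) := fun b => match b with
    | ⟨true⟩ => EtLocal.locP_of_repWith EtLocal.etale hX hje
    | ⟨false⟩ => locP_of_isEtaleMor hX hsq.2.1
  have hδs : ∀ x : Points X.obj, ∃ b z, Points.map (δ b) z = x := by
    intro x
    by_cases hx : x ∈ Set.range (Points.map j.hom)
    · obtain ⟨y, rfl⟩ := hx
      exact ⟨⟨true⟩, y, rfl⟩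
    · obtain ⟨-, -, T₀, P₀, i, p₁, p₂, ⟨-, hi, -⟩, sqP, hp₁⟩ := hsq
      haveI := hp₁
      have hx' : x ∈ Set.range (Points.map i) := by rw [hi]; exact hx
      obtain ⟨t, rfl⟩ := hx'
      refine ⟨⟨false⟩, Points.map p₂ (Points.map (inv p₁) t), ?_⟩
      show Points.map f.hom _ = _
      rw [← Points.map_comp, ← sqP.w, ← Points.map_comp, IsIso.inv_hom_id_assoc]
  let J := ULift.{u} Bool × ULift.{u} Bool
  let Q : J → Sp S := fun p => pullback (δ p.1 ≫ g.hom) (δ p.2 ≫ g.hom)
  have hQ : ∀ p, IsAlgSpace (Q p) := fun p => isAlgSpace_pullback' hY (hD p.1) (hD p.2) _ _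
  choose q hq₁ hq₂ using fun p : J =>
    (⟨pullback.lift (pullback.fst (δ p.1 ≫ g.hom) (δ p.2 ≫ g.hom) ≫ δ p.1) (pullback.snd _ _ ≫ δ p.2)
      (by simp only [Category.assoc]; exact pullback.condition), pullback.lift_fst _ _ _, pullback.lift_snd _ _ _⟩ :
      ∃ q : Q p ⟶ pullback g.hom g.hom, q ≫ pullback.fst g.hom g.hom = pullback.fst _ _ ≫ δ p.1 ∧
        q ≫ pullback.snd g.hom g.hom = pullback.snd _ _ ≫ δ p.2)
  have hqe : ∀ p, IsEtaleMor (q p) := by
    intro p
    have sq₀ := IsPullback.of_hasPullback g.hom g.hom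
    have sqM := IsPullback.of_hasPullback (δ p.1 ≫ g.hom) g.hom
    have hM := isAlgSpace_pullback' hY (hD p.1) hX (δ p.1 ≫ g.hom) g.hom
    obtain ⟨α, hα₁, hα₂⟩ : ∃ α, α ≫ pullback.fst g.hom g.hom = pullback.fst (δ p.1 ≫ g.hom) g.hom ≫ δ p.1 ∧
        α ≫ pullback.snd g.hom g.hom = pullback.snd (δ p.1 ≫ g.hom) g.hom :=
      ⟨sq₀.lift _ _ (by rw [Category.assoc]; exact sqM.w), sq₀.lift_fst _ _ _, sq₀.lift_snd _ _ _⟩
    have sqα : IsPullback (pullback.fst (δ p.1 ≫ g.hom) g.hom) α (δ p.1) (pullback.fst g.hom g.hom) :=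
      IsPullback.of_bot (by rw [hα₂]; exact sqM) hα₁.symm sq₀
    obtain ⟨β, hβ₁, hβ₂⟩ : ∃ β : Q p ⟶ _, β ≫ pullback.fst (δ p.1 ≫ g.hom) g.hom = pullback.fst _ _ ∧
        β ≫ pullback.snd (δ p.1 ≫ g.hom) g.hom = pullback.snd _ _ ≫ δ p.2 :=
      ⟨sqM.lift _ _ (by rw [Category.assoc]; exact pullback.condition), sqM.lift_fst _ _ _, sqM.lift_snd _ _ _⟩
    have sqβ : IsPullback (pullback.snd (δ p.1 ≫ g.hom) (δ p.2 ≫ g.hom)) β (δ p.2) (pullback.snd (δ p.1 ≫ g.hom) g.hom) :=
      IsPullback.of_bot (by rw [hβ₁]; exact (IsPullback.of_hasPullback _ _).flip) hβ₂.symm sqM.flip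
    have e : q p = β ≫ α := pullback.hom_ext (by rw [hq₁, Category.assoc, hα₁, reassoc_of% hβ₁])
      (by rw [hq₂, Category.assoc, hα₂, hβ₂])
    rw [e]
    exact isEtaleMor_of_locP hG (EtLocal.locP_comp EtLocal.etale (hQ p) hM hG
      (EtLocal.etale.locP_of_isPullback (hD p.2) hX hM sqβ (hδ p.2))
      (EtLocal.etale.locP_of_isPullback (hD p.1) hX hG sqα (hδ p.1)))
  let A : J → Sp S := fun p => pullback (δ p.1) (δ p.2)
  choose m hm₁ hm₂ using fun p : J =>
    (⟨pullback.lift (pullback.fst (δ p.1) (δ p.2)) (pullback.snd _ _)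
      (by rw [← Category.assoc, pullback.condition, Category.assoc]), pullback.lift_fst _ _ _, pullback.lift_snd _ _ _⟩ :
      ∃ m : A p ⟶ Q p, m ≫ pullback.fst _ _ = pullback.fst _ _ ∧ m ≫ pullback.snd _ _ = pullback.snd _ _)
  have sqp : ∀ p, IsPullback (pullback.fst (δ p.1) (δ p.2) ≫ δ p.1) (m p) (pullback.diagonal g.hom) (q p) := by
    intro p
    have hs : ∀ s : PullbackCone (pullback.diagonal g.hom) (q p),
        (s.snd ≫ pullback.fst _ _) ≫ δ p.1 = s.fst ∧ (s.snd ≫ pullback.snd _ _) ≫ δ p.2 = s.fst := fun s => by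
      have h1 := congrArg (· ≫ pullback.fst g.hom g.hom) s.condition
      have h2 := congrArg (· ≫ pullback.snd g.hom g.hom) s.condition
      simp only [Category.assoc, pullback.diagonal_fst, Category.comp_id, hq₁] at h1
      simp only [Category.assoc, pullback.diagonal_snd, Category.comp_id, hq₂] at h2
      exact ⟨(Category.assoc _ _ _).trans h1.symm, (Category.assoc _ _ _).trans h2.symm⟩
    refine IsPullback.of_isLimit' ⟨?_⟩ (PullbackCone.IsLimit.mk _
      (fun s => pullback.lift (s.snd ≫ pullback.fst _ _) (s.snd ≫ pullback.snd _ _)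
        ((hs s).1.trans (hs s).2.symm)) (fun s => ?_) (fun s => ?_) (fun s l _ h₂ => ?_))
    · apply pullback.hom_ext
      · simp only [Category.assoc, pullback.diagonal_fst, Category.comp_id, hq₁, reassoc_of% hm₁]
      · simp only [Category.assoc, pullback.diagonal_snd, Category.comp_id, hq₂, reassoc_of% hm₂, pullback.condition]
    · rw [← Category.assoc, pullback.lift_fst, (hs s).1]
    · apply pullback.hom_ext
      · simp only [Category.assoc, hm₁, pullback.lift_fst]
      · simp only [Category.assoc, hm₂, pullback.lift_snd]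
    · apply pullback.hom_ext
      · simp only [pullback.lift_fst, ← h₂, Category.assoc, hm₁]
      · simp only [pullback.lift_snd, ← h₂, Category.assoc, hm₂]
  refine repWith_closedImmersion_of_pieces hG (representable_diagonal hX g.hom) Q hQ q hqe ?_ A _ m sqp ?_
  · intro x
    obtain ⟨b₁, z₁, hz₁⟩ := hδs (Points.map (pullback.fst g.hom g.hom) x)
    obtain ⟨b₂, z₂, hz₂⟩ := hδs (Points.map (pullback.snd g.hom g.hom) x)
    have sq₀ := IsPullback.of_hasPullback g.hom g.hom
    obtain ⟨z, hz, hz'⟩ := exists_of_isPullback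
      (IsPullback.of_hasPullback (pullback.fst g.hom g.hom) (δ b₁)) hz₁.symm
    obtain ⟨w, hw, hw'⟩ := exists_of_isPullback
      (IsPullback.of_hasPullback (pullback.fst (pullback.fst g.hom g.hom) (δ b₁) ≫ pullback.snd g.hom g.hom) (δ b₂))
      (x := z) (y := z₂) (by rw [Points.map_comp, hz, hz₂])
    refine ⟨(b₁, b₂), Points.map (pullback.lift
      (pullback.fst (pullback.fst (pullback.fst g.hom g.hom) (δ b₁) ≫ pullback.snd g.hom g.hom) (δ b₂) ≫ pullback.snd _ _)
      (pullback.snd (pullback.fst (pullback.fst g.hom g.hom) (δ b₁) ≫ pullback.snd g.hom g.hom) (δ b₂)) ?_) w, ?_⟩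
    · simp only [Category.assoc]
      rw [← reassoc_of% (pullback.condition (f := pullback.fst g.hom g.hom) (g := δ b₁)), sq₀.w,
        ← reassoc_of% (pullback.condition
          (f := pullback.fst (pullback.fst g.hom g.hom) (δ b₁) ≫ pullback.snd g.hom g.hom) (g := δ b₂))]
    · rw [← Points.map_comp, ← hz, ← hw, ← Points.map_comp]
      refine congrArg (fun k => Points.map k w) (pullback.hom_ext ?_ ?_)
      · simp only [Category.assoc, hq₁, pullback.lift_fst_assoc, pullback.condition]
      · simp only [Category.assoc, hq₂, pullback.lift_snd_assoc]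
        first
          | exact pullback.condition
          | exact pullback.condition.symm
  rintro ⟨⟨_ | _⟩, ⟨_ | _⟩⟩
  · -- `V, V`
    have sqA := IsPullback.of_hasPullback f.hom f.hom
    have sqB := IsPullback.of_hasPullback (f.hom ≫ g.hom) (f.hom ≫ g.hom)
    have e : (sqA.isoIsPullback _ _ hQX).hom ≫ d.hom ≫ (IsPullback.isoIsPullback _ _ hQY sqB).hom = m (⟨false⟩, ⟨false⟩) := by
      apply pullback.hom_ext
      · refine Eq.trans ?_ (hm₁ (⟨false⟩, ⟨false⟩)).symm
        simp only [Category.assoc, IsPullback.isoIsPullback_hom_fst, hd₁']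
        rfl
      · refine Eq.trans ?_ (hm₂ (⟨false⟩, ⟨false⟩)).symm
        simp only [Category.assoc, IsPullback.isoIsPullback_hom_snd, hd₂']
        rfl
    rw [← e]
    exact repWith_comp (repWith_iso _) (repWith_comp hdcl (repWith_iso _))
  · -- `V, U`
    have sqA := IsPullback.of_hasPullback f.hom j.hom
    have sqB := IsPullback.of_hasPullback (f.hom ≫ g.hom) (j.hom ≫ g.hom)
    have e : (sqA.isoIsPullback _ _ hPX.flip).hom ≫ c.hom ≫ (IsPullback.isoIsPullback _ _ hPY.flip sqB).hom = m (⟨false⟩, ⟨true⟩) := by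
      apply pullback.hom_ext
      · refine Eq.trans ?_ (hm₁ (⟨false⟩, ⟨true⟩)).symm
        simp only [Category.assoc, IsPullback.isoIsPullback_hom_fst, hc₂']
        rfl
      · refine Eq.trans ?_ (hm₂ (⟨false⟩, ⟨true⟩)).symm
        simp only [Category.assoc, IsPullback.isoIsPullback_hom_snd, hc₁']
        rfl
    rw [← e]
    exact repWith_comp (repWith_iso _) (repWith_comp hci (repWith_iso _))
  · -- `U, V`
    have sqA := IsPullback.of_hasPullback j.hom f.hom
    have sqB := IsPullback.of_hasPullback (j.hom ≫ g.hom) (f.hom ≫ g.hom)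
    have e : (sqA.isoIsPullback _ _ hPX).hom ≫ c.hom ≫ (IsPullback.isoIsPullback _ _ hPY sqB).hom = m (⟨true⟩, ⟨false⟩) := by
      apply pullback.hom_ext
      · refine Eq.trans ?_ (hm₁ (⟨true⟩, ⟨false⟩)).symm
        simp only [Category.assoc, IsPullback.isoIsPullback_hom_fst, hc₁']
        rfl
      · refine Eq.trans ?_ (hm₂ (⟨true⟩, ⟨false⟩)).symm
        simp only [Category.assoc, IsPullback.isoIsPullback_hom_snd, hc₂']
        rfl
    rw [← e]
    exact repWith_comp (repWith_iso _) (repWith_comp hci (repWith_iso _))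
  · -- `U, U`
    have e : pullback.fst j.hom j.hom ≫ pullback.diagonal (j.hom ≫ g.hom) = m (⟨true⟩, ⟨true⟩) := by
      apply pullback.hom_ext
      · refine Eq.trans ?_ (hm₁ (⟨true⟩, ⟨true⟩)).symm
        simp only [Category.assoc, pullback.diagonal_fst, Category.comp_id]
        rfl
      · refine Eq.trans ?_ (hm₂ (⟨true⟩, ⟨true⟩)).symm
        simp only [Category.assoc, pullback.diagonal_snd, Category.comp_id,
          fst_eq_snd_of_mono_eq j.hom]
        rfl
    haveI : IsIso (pullback.fst j.hom j.hom) := inferInstance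
    rw [← e]
    exact repWith_comp (repWith_iso _) hU
end Groth.Agent.S10698
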