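import Groth.Statements.S10699
import Groth.Agent.Lib.AlgSp.PinchDesc
import Groth.Agent.Lib.Pushout6.Exists

set_option autoImplicit false
set_option backward.isDefEq.respectTransparency false
universe u
open CategoryTheory CategoryTheory.Limits AlgebraicGeometry
open AlgSp

namespace Groth.Agent.S10699

/-- Let `t : X → X'` be a thickening of schemes over `S` and `a : X → Y` an affine morphism of schemes
over `S`, and let `Y'` be a pushout of `t` and `a` in the category of schemes over `S`. Then `Y'`
remains a pushout when the square is viewed among algebraic spaces over `S`. -/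
theorem result {S : Scheme.{u}} {X X' Y Y' : Over S} (t : X ⟶ X') (a : X ⟶ Y)
    (a' : X' ⟶ Y') (b : Y ⟶ Y') (ht : MoreMor.IsThickening t.left) [IsAffineHom a.left]
    (hpo : IsPushout t a a' b) :
    IsPushout ((AlgSp.ofScheme S).map t) ((AlgSp.ofScheme S).map a) ((AlgSp.ofScheme S).map a')
      ((AlgSp.ofScheme S).map b) := by
  haveI : IsClosedImmersion t.left := ht.1
  haveI : Surjective t.left := ht.2
  refine GrothLib.AlgSp.PinchDesc.isPushout_ofScheme t a a' b
    (GrothLib.Pushout6.covered_of_thickening t.left a.left t.left.surjective) (hpo.map (Over.forget S))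
    fun Z _ => ?_
  obtain ⟨W, q, qe, qs⟩ := Z.property.atlas
  refine ⟨W, q, qe, qs, fun {X₁ Y₁ C₁} i' j' _ _ _ _ hi hj _ _ _ => ?_⟩
  haveI : IsClosedImmersion i'.left := MorphismProperty.of_isPullback hi inferInstance
  haveI : Surjective i'.left := MorphismProperty.of_isPullback hi ‹Surjective t.left›
  haveI : IsAffineHom j'.left := MorphismProperty.of_isPullback hj inferInstance
  exact GrothLib.Pushout6.covered_of_thickening i'.left j'.left i'.left.surjective

end Groth.Agent.S10699
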