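import Groth.Statements.S10700
import Groth.Agent.Lib.AlgSp.PinchAtlas
import Groth.Agent.Lib.Pushout6.ExistsQA
import Groth.Agent.Lib.AlgSp.SourceDescent

set_option autoImplicit false
set_option backward.isDefEq.respectTransparency false
universe u
open CategoryTheory CategoryTheory.Limits AlgebraicGeometry
open AlgSp

namespace Groth.Agent.S10700

/-- Let `i : Z → X` be a closed immersion and `j : Z → Y` an integral morphism of schemes over `S` such
that every fibre of `j` is contained in `i⁻¹(U)` for some affine open `U` of `X`, and let `P` be a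
pushout of `i` and `j` in the category of schemes over `S`. Then `P` remains a pushout when the
square is viewed among algebraic spaces over `S`. -/
theorem result {S : Scheme.{u}} {Z X Y P : Over S} (i : Z ⟶ X) (j : Z ⟶ Y)
    [IsClosedImmersion i.left] [IsIntegralHom j.left]
    (haff : ∀ y : ↥Y.left, ∃ U : X.left.Opens, IsAffineOpen U ∧ j.left ⁻¹' {y} ⊆ i.left ⁻¹' (U : Set ↥X.left))
    (a : X ⟶ P) (b : Y ⟶ P) (hpo : IsPushout i j a b) :
    IsPushout ((AlgSp.ofScheme S).map i) ((AlgSp.ofScheme S).map j) ((AlgSp.ofScheme S).map a)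
      ((AlgSp.ofScheme S).map b) := by
  refine GrothLib.AlgSp.PinchDesc.isPushout_ofScheme i j a b
    (GrothLib.Pushout6.covered_of_integral i.left j.left haff) (hpo.map (Over.forget S)) fun Z _ => ?_
  obtain ⟨W, q, hW, qe, qs⟩ := GrothLib.AlgSp.PinchDesc.exists_sep_atlas Z.property
  refine ⟨W, q, qe, qs, fun {X₁ Y₁ C₁} i' j' fX gY hc tX hi hj hfX hgY sq => ?_⟩
  haveI := hfX
  haveI : IsClosedImmersion i'.left := MorphismProperty.of_isPullback hi inferInstance
  haveI : IsIntegralHom j'.left := MorphismProperty.of_isPullback hj inferInstance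
  haveI := GrothLib.AlgSp.PinchDesc.isSeparated_of_isPullback sq
  haveI : LocallyQuasiFinite fX.left := GrothLib.AlgSp.locallyQuasiFinite_of_unramified fX.left
  refine GrothLib.Pushout6.covered_of_integral_qa i'.left j'.left fun y' => ?_
  obtain ⟨U, hU, hy⟩ := haff (gY.left y')
  refine GrothLib.Pushout6.exists_qa_of_lqf i'.left j'.left fX.left y' hU fun z hz => ?_
  have h₁ : fX.left (i'.left z) = i.left (hc.left z) := (congr($(hi.w) z)).symm
  have h₂ : j.left (hc.left z) = gY.left y' := (congr($(hj.w) z)).trans (congrArg gY.left hz)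
  rw [h₁]
  exact hy h₂

end Groth.Agent.S10700
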