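import Groth.Statements.S10701
import Groth.Agent.Lib.AlgSp.ThickPushout

set_option autoImplicit false
set_option backward.isDefEq.respectTransparency false
universe u
open CategoryTheory CategoryTheory.Limits AlgebraicGeometry
open AlgSp

namespace Groth.Agent.S10701

/-- Let `t : X → X'` be a thickening of algebraic spaces over `S` and `f : X → Y` an affine morphism of
algebraic spaces over `S`. Then there is a pushout `Y' = Y ⨿_X X'` in the category of algebraic
spaces over `S`, and `Y → Y'` is a thickening. (The accompanying description of the structure sheaf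
of `Y'` on the small etale site as the fibre product of the structure sheaves of `Y` and `X'` over
that of `X` is not restated here.) -/
theorem result {S : Scheme.{u}} {X X' Y : AlgSp.Space S} (t : X ⟶ X')
    (ht : AlgSp.IsThickMor t.hom) (f : X ⟶ Y) (hf : AlgSp.IsAffineMor f.hom) :
    ∃ (Y' : AlgSp.Space S) (f' : X' ⟶ Y') (t' : Y ⟶ Y'), IsPushout t f f' t' ∧ AlgSp.IsThickMor t'.hom := by
  obtain ⟨V, v, ve, vs⟩ := Y.property.atlas
  obtain ⟨c, -⟩ := GrothLib.AlgSp.ThickPushout.exists_chart ht hf v ve vs
  obtain ⟨Y', f', t', M, a, b, π, hpo, -, -, -, -, -, ht'⟩ := GrothLib.AlgSp.ThickPushout.exists_pushout ht hf c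
  exact ⟨Y', f', t', hpo, ht'⟩

end Groth.Agent.S10701
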