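import Groth.Agent.Lib.AlgSp.GpdBasic
import Groth.Agent.Lib.AlgSp.GpdFormal
import Groth.Agent.Lib.AlgSp.BootstrapFamily
import Groth.Statements.S10702
-- import your own Groth.Agent.* helpers here

set_option autoImplicit false
universe u
open CategoryTheory CategoryTheory.Limits AlgebraicGeometry
open AlgSp

namespace Groth.Agent.S10702

/-- Consider a commutative diagram of algebraic spaces over `S` with top row `A → C → E`, bottom row `B
→ D → F` and vertical maps `A → B`, `C → D`, `E → F`. If the left square and the outer rectangle are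
cartesian and `B → D` is surjective etale, then the right square is cartesian. -/
theorem result {S : Scheme.{u}} {A B C D E F : AlgSp.Space S} (ac : A ⟶ C) (ab : A ⟶ B)
    (cd : C ⟶ D) (bd : B ⟶ D) (ce : C ⟶ E) (df : D ⟶ F) (ef : E ⟶ F)
    (hl : IsPullback ac.hom ab.hom cd.hom bd.hom) (hcomm : cd ≫ df = ce ≫ ef)
    (hout : IsPullback (ac ≫ ce).hom ab.hom ef.hom (bd ≫ df).hom) (hsurj : AlgSp.IsSurjectiveMor bd.hom)
    (het : AlgSp.IsEtaleMor bd.hom) : IsPullback ce.hom cd.hom ef.hom df.hom := by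
  have w : ce.hom ≫ ef.hom = cd.hom ≫ df.hom := (congrArg (fun k => k.hom) hcomm).symm
  obtain ⟨V, v, ve, vs⟩ := B.property.atlas
  have hbd : Sheaf.IsLocallySurjective bd.hom := by
    refine GrothLib.AlgSp.isLocallySurjective_of_point_lifts fun T g t => ?_
    obtain ⟨Q, q₁, q₂, sQ⟩ := GrothLib.AlgSp.exists_isPullback_yon D.property.diag (v ≫ bd.hom) g
    have het' : Etale q₂.left := (het v ve).2 _ _ _ sQ
    obtain ⟨y, hy⟩ := hsurj (Points.ofPt g t)
    obtain ⟨v', hv'⟩ := GrothLib.AlgSp.surjective_ofPt_of_repWith vs y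
    have e : Points.map (v ≫ bd.hom) (Points.ofScheme V v') = Points.map g (Points.ofScheme T t) := by
      rw [← Points.ofPt_eq_map_ofScheme, ← Points.ofPt_eq_map_ofScheme, ← Points.map_ofPt, hv', hy]
    obtain ⟨z, -, hz⟩ := GrothLib.AlgSp.exists_of_isPullback sQ e
    obtain ⟨r, rfl⟩ := (Points.schemeEquiv Q).surjective z
    refine ⟨Q, q₂, (yon S).map q₁ ≫ v, inferInstance, inferInstance, ⟨r, ?_⟩, ?_⟩
    · exact (Points.schemeEquiv T).injective ((GrothLib.AlgSp.map_yon_ofPt q₂ r).symm.trans hz)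
    · rw [Category.assoc]; exact sQ.w
  have : Epi bd.hom := (Sheaf.isLocallySurjective_iff_epi bd.hom).1 hbd
  have hu : ∀ {T : Over S} (c c' : (yon S).obj T ⟶ C.obj), c ≫ ce.hom = c' ≫ ce.hom → c ≫ cd.hom = c' ≫ cd.hom →
      c = c' := by
    intro T c c' h₁ h₂
    obtain ⟨Q, hQ, hll⟩ := GrothLib.AlgSp.exists_lift_cover bd.hom (c ≫ cd.hom)
    refine GrothLib.AlgSp.yon_hom_ext_cover hQ fun T' k hk => ?_
    obtain ⟨y, hy⟩ := hll k hk
    have e₁ : ((yon S).map k ≫ c) ≫ cd.hom = y ≫ bd.hom := by rw [Category.assoc, hy]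
    have e₂ : ((yon S).map k ≫ c') ≫ cd.hom = y ≫ bd.hom := by rw [Category.assoc, ← h₂, hy]
    have ea : hl.lift _ _ e₁ = hl.lift _ _ e₂ := by
      apply hout.hom_ext
      · change hl.lift _ _ e₁ ≫ ac.hom ≫ ce.hom = hl.lift _ _ e₂ ≫ ac.hom ≫ ce.hom
        rw [← Category.assoc, ← Category.assoc, hl.lift_fst, hl.lift_fst, Category.assoc, Category.assoc, h₁]
      · rw [hl.lift_snd, hl.lift_snd]
    rw [← hl.lift_fst _ _ e₁, ← hl.lift_fst _ _ e₂, ea]
  let φ : C.obj ⟶ pullback ef.hom df.hom := pullback.lift ce.hom cd.hom w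
  have hφ₁ : φ ≫ pullback.fst ef.hom df.hom = ce.hom := pullback.lift_fst _ _ _
  have hφ₂ : φ ≫ pullback.snd ef.hom df.hom = cd.hom := pullback.lift_snd _ _ _
  have : Mono φ := GrothLib.AlgSp.mono_of_yon fun T c c' h => hu c c'
    (by rw [← hφ₁, reassoc_of% h]) (by rw [← hφ₂, reassoc_of% h])
  have : Sheaf.IsLocallySurjective φ := ⟨fun {T} x => by
    let ξ := (AlgSp.J S).uliftYonedaEquiv.{u + 1}.symm x
    obtain ⟨Q, hQ, hlift⟩ := GrothLib.AlgSp.exists_lift_cover bd.hom (ξ ≫ pullback.snd _ _)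
    refine GrothendieckTopology.superset_covering _ ?_ hQ
    intro T' k hk
    obtain ⟨y, hy⟩ := hlift k hk
    have e : ((yon S).map k ≫ ξ ≫ pullback.fst _ _) ≫ ef.hom = y ≫ (bd ≫ df).hom := by
      change _ = y ≫ bd.hom ≫ df.hom
      rw [Category.assoc, Category.assoc, pullback.condition, reassoc_of% hy]
    refine ⟨(AlgSp.J S).uliftYonedaEquiv.{u + 1} (hout.lift _ _ e ≫ ac.hom), ?_⟩
    rw [← GrothendieckTopology.uliftYonedaEquiv_comp]
    have e' : (hout.lift _ _ e ≫ ac.hom) ≫ φ = (yon S).map k ≫ ξ := by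
      apply pullback.hom_ext
      · rw [Category.assoc, hφ₁, Category.assoc, Category.assoc]
        exact hout.lift_fst _ _ e
      · rw [Category.assoc, hφ₂, Category.assoc, Category.assoc, hl.w, ← Category.assoc, hout.lift_snd, hy]
    rw [e', ← GrothendieckTopology.uliftYonedaEquiv_naturality, Equiv.apply_symm_apply]
    ⟩
  have : Epi φ := (Sheaf.isLocallySurjective_iff_epi φ).1 inferInstance
  have : IsIso φ := isIso_of_mono_of_epi φ
  exact IsPullback.of_iso_pullback ⟨w⟩ (asIso φ) hφ₁ hφ₂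

end Groth.Agent.S10702
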