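import Groth.Statements.S10704
import Groth.Agent.Lib.AlgSp.PointProps
import Groth.Agent.Lib.AlgSp.FlatPoint
import Groth.Agent.Lib.AlgSp.OpenSub
import Groth.Agent.S10505
import Groth.Agent.S10507
import Mathlib.RingTheory.Flat.Localization
-- import your own Groth.Agent.* helpers here

set_option autoImplicit false
universe u
open CategoryTheory CategoryTheory.Limits AlgebraicGeometry
open AlgSp GrothLib.AlgSp
set_option backward.isDefEq.respectTransparency false

namespace Groth.Agent.S10704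

/-- The localisation of a scheme along the preimage of a closed set is flat if the map is flat there. -/
theorem exists_flat_piece {W V : Scheme.{u}} [IsAffine W] [IsAffine V] (h : W ⟶ V) (C : Set V) (hC : IsClosed C)
    (hf : ∀ w : W, h w ∈ C → (h.stalkMap w).hom.Flat) :
    ∃ (T : Scheme.{u}) (t : T ⟶ W), IsAffine T ∧ Flat (t ≫ h) ∧ ∀ w : W, h w ∈ C → w ∈ Set.range t := by
  let ψ : Spec Γ(W, ⊤) ⟶ Spec Γ(V, ⊤) := Spec.map h.appTop
  have hψ : ψ = W.isoSpec.inv ≫ h ≫ V.isoSpec.hom := by
    rw [← Scheme.isoSpec_hom_naturality, Iso.inv_hom_id_assoc]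
  let A : Type u := Γ(V, ⊤)
  let B : Type u := Γ(W, ⊤)
  let φ : A →+* B := h.appTop.hom
  obtain ⟨s, hs⟩ := (PrimeSpectrum.isClosed_iff_zeroLocus _).1 (hC.preimage (h.continuous.comp W.isoSpec.inv.continuous))
  let J : Ideal B := Ideal.span s
  let M : Submonoid B := (⊥ : Submonoid (B ⧸ J)).comap (Ideal.Quotient.mk J).toMonoidHom
  let B' := Localization M
  letI : Algebra A B := φ.toAlgebra
  let t : Spec (CommRingCat.of B') ⟶ W := Spec.map (CommRingCat.ofHom (algebraMap B B')) ≫ W.isoSpec.inv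
  have hrange : ∀ p : PrimeSpectrum B, J ≤ p.asIdeal → p ∈ Set.range (PrimeSpectrum.comap (algebraMap B B')) := by
    intro p hp
    rw [PrimeSpectrum.localization_comap_range B' M]
    refine Set.disjoint_left.2 fun b hb hbp => p.2.ne_top ((Ideal.eq_top_iff_one _).2 ?_)
    have hb1 : Ideal.Quotient.mk J b = 1 := hb
    have h1 : b - 1 ∈ J := by rw [← Ideal.Quotient.eq_zero_iff_mem, map_sub, hb1, map_one, sub_self]
    have h2 := p.asIdeal.sub_mem hbp (hp h1)
    rwa [sub_sub_cancel] at h2
  have hmax : ∀ (m : Ideal B') [m.IsMaximal], J ≤ m.comap (algebraMap B B') := by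
    intro m hm
    let q := m.comap (algebraMap B B')
    haveI : q.IsPrime := Ideal.IsPrime.comap _
    by_contra hle
    have hdis : Disjoint (M : Set B) (q : Set B) := ((IsLocalization.isPrime_iff_isPrime_disjoint M B' m).1 hm.isPrime).2
    have hne : q ⊔ J ≠ ⊤ := by
      intro htop
      obtain ⟨a, ha, b, hb, hab⟩ := Submodule.mem_sup.1 ((Ideal.eq_top_iff_one _).1 htop)
      refine Set.disjoint_left.1 hdis (show a ∈ M from ?_) ha
      show Ideal.Quotient.mk J a = 1
      rw [← map_one (Ideal.Quotient.mk J), ← hab, map_add, Ideal.Quotient.eq_zero_iff_mem.2 hb, add_zero]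
    obtain ⟨n, hn, hqn⟩ := Ideal.exists_le_maximal _ hne
    obtain ⟨n', hn'⟩ := hrange ⟨n, hn.isPrime⟩ (le_sup_right.trans hqn)
    have hle' : m ≤ n'.asIdeal := by
      rw [← IsLocalization.map_comap M B' m, Ideal.map_le_iff_le_comap,
        show n'.asIdeal.comap (algebraMap B B') = n from congrArg PrimeSpectrum.asIdeal hn']
      exact le_sup_left.trans hqn
    have heq : m = n'.asIdeal := hm.eq_of_le n'.2.ne_top hle'
    apply hle
    rw [heq, show n'.asIdeal.comap (algebraMap B B') = n from congrArg PrimeSpectrum.asIdeal hn']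
    exact le_sup_right.trans hqn
  have hzero : ∀ p : PrimeSpectrum B, J ≤ p.asIdeal ↔ h (W.isoSpec.inv p) ∈ C := fun p => by
    refine (PrimeSpectrum.mem_zeroLocus p (J : Set B)).symm.trans ?_
    rw [PrimeSpectrum.zeroLocus_span, ← hs]
    rfl
  refine ⟨Spec (CommRingCat.of B'), t, inferInstance, ?_, fun w hw => ?_⟩
  · haveI : Module.Flat A B' := by
      refine Module.flat_of_isLocalized_maximal B' B' (fun m _ => Localization.AtPrime m)
        (fun m _ => Algebra.linearMap B' (Localization.AtPrime m)) fun m _ => ?_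
      let q := m.comap (algebraMap B B')
      haveI : q.IsPrime := Ideal.IsPrime.comap _
      let p : PrimeSpectrum B := ⟨q, inferInstance⟩
      have h₁ : (ψ.stalkMap p).hom.Flat := by
        rw [flat_stalk_congr hψ]
        exact flat_stalk_comp _ _ _ (Flat.stalkMap _ _)
          (flat_stalk_comp _ _ _ (hf _ ((hzero p).1 (hmax m))) (Flat.stalkMap _ _))
      have h₂ := (RingHom.Flat.respectsIso.arrow_mk_iso_iff (Scheme.arrowStalkMapSpecIso h.appTop p)).1 h₁
      haveI : IsLocalization.AtPrime (Localization.AtPrime m) q :=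
        IsLocalization.isLocalization_isLocalization_atPrime_isLocalization M (Localization.AtPrime m) m
      let e : Localization.AtPrime q ≃ₐ[B] Localization.AtPrime m := IsLocalization.algEquiv q.primeCompl _ _
      have h₃ : (algebraMap A (Localization.AtPrime m)).Flat := by
        have e₁ : algebraMap A (Localization.AtPrime m) = e.toRingEquiv.toRingHom.comp
            ((Localization.localRingHom (q.comap φ) q φ rfl).comp (algebraMap A (Localization.AtPrime (q.comap φ)))) := by
          ext a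
          show _ = e (Localization.localRingHom _ _ φ rfl (algebraMap A _ a))
          rw [Localization.localRingHom_to_map, e.commutes]
          exact (IsScalarTower.algebraMap_apply A B (Localization.AtPrime m) a)
        rw [e₁]
        exact RingHom.Flat.comp (RingHom.Flat.comp
          (RingHom.flat_algebraMap_iff.2 (IsLocalization.flat _ (q.comap φ).primeCompl)) h₂)
          (RingHom.Flat.of_bijective e.bijective)
      exact RingHom.flat_algebraMap_iff.1 h₃
    have hfl : Flat (Spec.map (CommRingCat.ofHom (algebraMap A B'))) :=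
      (HasRingHomProperty.Spec_iff (P := @Flat)).2 (RingHom.flat_algebraMap_iff.2 ‹_›)
    have e : t ≫ h = Spec.map (CommRingCat.ofHom (algebraMap A B')) ≫ V.isoSpec.inv := by
      show (Spec.map (CommRingCat.ofHom (algebraMap B B')) ≫ W.isoSpec.inv) ≫ h = _
      rw [Category.assoc, ← Scheme.isoSpec_inv_naturality, ← Category.assoc, ← Spec.map_comp]
      rfl
    rw [e]
    haveI := hfl
    infer_instance
  · obtain ⟨p', hp'⟩ := hrange (W.isoSpec.hom w) ((hzero _).2 (by
      show h ((W.isoSpec.hom ≫ W.isoSpec.inv) w) ∈ C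
      rw [Iso.hom_inv_id]; exact hw))
    refine ⟨p', ?_⟩
    show W.isoSpec.inv (PrimeSpectrum.comap (algebraMap B B') p') = w
    rw [hp', ← Scheme.Hom.comp_apply, Iso.hom_inv_id]
    rfl

/-- The complement of a finitely presented closed subscheme of an affine scheme is covered by finitely many
affine open subschemes. -/
theorem exists_affine_compl {Z V : Scheme.{u}} [IsAffine V] (z : Z ⟶ V) [IsClosedImmersion z]
    [LocallyOfFinitePresentation z] :
    ∃ (n : ℕ) (D : Fin n → V.Opens), (∀ l, IsAffineOpen (D l)) ∧ (∀ l, Disjoint (D l : Set V) (Set.range z)) ∧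
      ∀ v : V, v ∉ Set.range z → ∃ l, v ∈ D l := by
  have hc : IsCompact (Set.range z)ᶜ := by
    let z' : Z ⟶ Spec Γ(V, ⊤) := z ≫ V.isoSpec.hom
    haveI hz' : IsClosedImmersion z' := inferInstanceAs (IsClosedImmersion (z ≫ V.isoSpec.hom))
    haveI : LocallyOfFinitePresentation z' := inferInstanceAs (LocallyOfFinitePresentation (z ≫ V.isoSpec.hom))
    obtain ⟨I, e, he⟩ := IsClosedImmersion.Spec_iff.1 hz'
    have hfp : LocallyOfFinitePresentation (e.inv ≫ z') := inferInstance
    have he' : e.inv ≫ z' = Spec.map (CommRingCat.ofHom (Ideal.Quotient.mk I)) := by rw [he, Iso.inv_hom_id_assoc]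
    rw [he', HasRingHomProperty.Spec_iff (P := @LocallyOfFinitePresentation), CommRingCat.hom_ofHom] at hfp
    letI : Algebra Γ(V, ⊤) (Γ(V, ⊤) ⧸ I) := (Ideal.Quotient.mk I).toAlgebra
    haveI : Algebra.FinitePresentation Γ(V, ⊤) (Γ(V, ⊤) ⧸ I) := hfp
    have hI : I.FG := by
      have := Algebra.FinitePresentation.ker_fG_of_surjective (Algebra.ofId Γ(V, ⊤) (Γ(V, ⊤) ⧸ I))
        Ideal.Quotient.mk_surjective
      rw [show RingHom.ker (Algebra.ofId Γ(V, ⊤) (Γ(V, ⊤) ⧸ I)).toRingHom = RingHom.ker (Ideal.Quotient.mk I) from rfl,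
        Ideal.mk_ker] at this
      exact this
    have hr : Set.range z' = PrimeSpectrum.zeroLocus (I : Set Γ(V, ⊤)) := by
      have h₀ : Set.range z' = Set.range (PrimeSpectrum.comap (Ideal.Quotient.mk I)) := by
        rw [he, Scheme.Hom.comp_base, TopCat.coe_comp, Set.range_comp,
          Set.range_eq_univ.2 e.hom.surjective, Set.image_univ]
        rfl
      rw [h₀, range_comap_of_surjective _ _ Ideal.Quotient.mk_surjective, Ideal.mk_ker]
    have h₁ : IsCompact (Set.range z')ᶜ :=
      (PrimeSpectrum.isCompact_isOpen_iff_ideal.2 ⟨I, hI, by rw [hr]⟩).1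
    have h₂ : (Set.range z)ᶜ = V.isoSpec.inv '' (Set.range z')ᶜ := by
      have hb : Function.Bijective V.isoSpec.inv :=
        ⟨V.isoSpec.inv.isOpenEmbedding.injective, V.isoSpec.inv.surjective⟩
      rw [Set.image_compl_eq hb, ← Set.range_comp]
      congr 1
      apply congrArg Set.range
      funext x
      show z x = V.isoSpec.inv (V.isoSpec.hom (z x))
      rw [← Scheme.Hom.comp_apply, Iso.hom_inv_id]
      rfl
    rw [h₂]
    exact h₁.image V.isoSpec.inv.continuous
  have hcl : IsClosed (Set.range z) := z.isClosedEmbedding.isClosed_range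
  have h : ∀ v : ↥((Set.range z)ᶜ : Set V), ∃ D : V.Opens, IsAffineOpen D ∧ (v : V) ∈ D ∧ (D : Set V) ⊆ (Set.range z)ᶜ := by
    intro v
    obtain ⟨D, hD, hv, hle⟩ := exists_isAffineOpen_mem_and_subset (x := (v : V)) (U := ⟨_, hcl.isOpen_compl⟩) v.2
    exact ⟨D, hD, hv, hle⟩
  choose D hD hv hle using h
  obtain ⟨s, hs⟩ := hc.elim_finite_subcover (fun v => (D v : Set V)) (fun v => (D v).2)
    (fun v hv' => Set.mem_iUnion.2 ⟨⟨v, hv'⟩, hv _⟩)
  refine ⟨s.card, fun l => D (s.equivFin.symm l).1, fun l => hD _,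
    fun l => Set.disjoint_left.2 fun _ hx => hle _ hx, fun v hv' => ?_⟩
  obtain ⟨w, hw, hvw⟩ := Set.mem_iUnion₂.1 (hs hv')
  exact ⟨s.equivFin ⟨w, hw⟩, by show v ∈ D (s.equivFin.symm (s.equivFin ⟨w, hw⟩)).1; rw [Equiv.symm_apply_apply]; exact hvw⟩

/-- A finite jointly surjective family of flat maps from affine schemes to an affine scheme. -/
theorem isFpqcCover_of_affine_family {S : Scheme.{u}} {V : Over S} [IsAffine V.left] {ι : Type u} [Finite ι]
    (T : ι → Over S) (hT : ∀ l, IsAffine (T l).left) (t : ∀ l, T l ⟶ V) (ht : ∀ l, Flat (t l).left)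
    (hsurj : ∀ v : ↥V.left, ∃ l, v ∈ Set.range (t l).left) :
    IsFpqcCover (fun l => (yon S).obj (T l)) (fun l => (yon S).map (t l)) := by
  refine ⟨fun l => EtLocal.locP_of_repWith EtLocal.flat (IsAlgSpace.yon_obj _)
    ((repWith_yon_map_iff _ _).2 (ht l)), fun Z hZ h => ?_⟩
  obtain ⟨η, rfl⟩ := (yon S).map_surjective h
  obtain ⟨m, ⟨e⟩⟩ := Finite.exists_equiv_fin ι
  refine ⟨m, fun j => Over.mk (pullback.fst η.left (t (e.symm j)).left ≫ Z.hom),
    fun j => Over.homMk (pullback.fst η.left (t (e.symm j)).left) rfl, fun j => ?_, fun j => ?_, fun z => ?_, fun j => ?_⟩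
  · haveI := hT (e.symm j)
    exact inferInstanceAs (IsAffine (pullback η.left (t (e.symm j)).left))
  · haveI := ht (e.symm j)
    exact inferInstanceAs (Flat (pullback.fst η.left (t (e.symm j)).left))
  · obtain ⟨l, v, hv⟩ := hsurj (η.left z)
    obtain ⟨l, rfl⟩ := e.symm.surjective l
    obtain ⟨p, hp, -⟩ := Scheme.Pullback.exists_preimage_pullback (f := η.left) (g := (t (e.symm l)).left) z v hv.symm
    exact ⟨l, p, hp⟩
  · refine ⟨e.symm j, (yon S).map (Over.homMk (pullback.snd η.left (t (e.symm j)).left) ?_), ?_⟩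
    · show pullback.snd _ _ ≫ (T (e.symm j)).hom = pullback.fst _ _ ≫ Z.hom
      rw [← Over.w (t (e.symm j)), ← Over.w η, pullback.condition_assoc]
    · rw [← Functor.map_comp, ← Functor.map_comp]
      congr 1
      exact Over.OverMorphism.ext pullback.condition.symm


/-- Let `f : Y → X` be a quasi-compact quasi-separated morphism of algebraic spaces over `S`, `i : Z →
X` a closed immersion of finite presentation such that `f⁻¹Z → Z` is an isomorphism and `f` is flat
at every point of `|f⁻¹Z|`, and let `U ⊂ X` be the open subspace complementary to `Z`. Then there is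
an fpqc covering `{X_k → X}` refining the family `{U → X, Y → X}`: every `X_k → X` factors through
`U` or through `Y`. -/
theorem result {S : Scheme.{u}} {X Y Z FZ U : AlgSp.Space S} (f : Y ⟶ X)
    (hqc : AlgSp.IsQuasiCompactMor f.hom) (hqs : AlgSp.IsQuasiSeparatedMor f.hom) (i : Z ⟶ X)
    (hi : AlgSp.RepWith @IsClosedImmersion i.hom) (hifp : AlgSp.LocP @LocallyOfFinitePresentation i.hom)
    (iY : FZ ⟶ Y) (fZ : FZ ⟶ Z) (hFZ : IsPullback iY.hom fZ.hom f.hom i.hom) [IsIso fZ]
    (hflat : ∀ y ∈ Set.range (AlgSp.Points.map iY.hom), AlgSp.IsFlatAtMor f.hom y) (j : U ⟶ X)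
    (hj : AlgSp.RepWith @IsOpenImmersion j.hom)
    (hU : Set.range (AlgSp.Points.map j.hom) = (Set.range (AlgSp.Points.map i.hom))ᶜ) :
    ∃ (ι : Type u) (W : ι → AlgSp.Space S) (w : ∀ k, W k ⟶ X),
      AlgSp.IsFpqcCover (fun k => (W k).obj) (fun k => (w k).hom) ∧
        ∀ k, (∃ l : W k ⟶ U, l ≫ j = w k) ∨ (∃ l : W k ⟶ Y, l ≫ f = w k) := by
  classical
  obtain ⟨U₀, a₀, ha₀, has₀⟩ := X.property.atlas
  let ι₀ := U₀.left.affineCover.I₀
  let V : ι₀ → Over S := fun k => Over.mk (U₀.left.affineCover.f k ≫ U₀.hom)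
  let v : ∀ k, V k ⟶ U₀ := fun k => Over.homMk (U₀.left.affineCover.f k) rfl
  haveI : ∀ k, IsAffine (V k).left := fun k => inferInstanceAs (IsAffine (U₀.left.affineCover.X k))
  haveI : ∀ k, Etale (v k).left := fun k => inferInstanceAs (Etale (U₀.left.affineCover.f k))
  let a : ∀ k, (yon S).obj (V k) ⟶ X.obj := fun k => (yon S).map (v k) ≫ a₀
  have hae : ∀ k, RepWith @Etale (a k) := fun k => repWith_comp ((repWith_yon_map_iff _ _).2 inferInstance) ha₀
  have hfam : ∀ k, ∃ (ι : Type u) (_ : Finite ι) (T : ι → Over S) (t : ∀ l, T l ⟶ V k),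
      (∀ l, IsAffine (T l).left) ∧ (∀ l, Flat (t l).left) ∧ (∀ w : ↥(V k).left, ∃ l, w ∈ Set.range (t l).left) ∧
      ∀ l, (∃ m : (yon S).obj (T l) ⟶ U.obj, m ≫ j.hom = (yon S).map (t l) ≫ a k) ∨
        (∃ m : (yon S).obj (T l) ⟶ Y.obj, m ≫ f.hom = (yon S).map (t l) ≫ a k) := by
    intro k
    obtain ⟨ZV, z₁, z, sqz⟩ := exists_isPullback_of_representable hi.1 (a k)
    haveI : IsClosedImmersion z.left := hi.2 _ _ _ sqz
    haveI : LocallyOfFinitePresentation z.left :=
      (EtLocal.repWith_of_locP EtLocal.lfp X.property hi.1 hifp).2 _ _ _ sqz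
    have hCiff : ∀ w : ↥(V k).left, w ∈ Set.range z.left ↔ Points.ofPt (a k) w ∈ Set.range (Points.map i.hom) := by
      intro w
      constructor
      · rintro ⟨p, rfl⟩
        refine ⟨Points.ofPt z₁ p, ?_⟩
        rw [Points.map_ofPt, sqz.w, ofPt_map_comp]
      · rintro ⟨x, hx⟩
        rw [Points.ofPt_eq_map_ofScheme (a k)] at hx
        obtain ⟨p, -, hp⟩ := exists_of_isPullback sqz hx
        obtain ⟨p, rfl⟩ := (Points.schemeEquiv ZV).surjective p
        exact ⟨p, (Points.schemeEquiv (V k)).injective ((map_yon_ofPt z p).symm.trans hp)⟩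
    obtain ⟨n, D, hDa, hDd, hDc⟩ := exists_affine_compl z.left
    have hYV : IsAlgSpace (pullback f.hom (a k)) :=
      isAlgSpace_pullback' X.property Y.property (IsAlgSpace.yon_obj _) f.hom (a k)
    have hqcV : IsQuasiCompactSp (pullback f.hom (a k)) :=
      hqc (IsAlgSpace.yon_obj _) ⟨V k, 𝟙 _, repWith_iso (Iso.refl _).hom, repWith_iso (Iso.refl _).hom,
        inferInstance⟩ (a k) _ _ (IsPullback.of_hasPullback f.hom (a k))
    obtain ⟨W, c, hce, hcs, hWc⟩ := hqcV
    haveI : CompactSpace ↥W.left := hWc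
    let 𝒲 := W.left.affineCover.finiteSubcover
    obtain ⟨η, hη⟩ := (yon S).map_surjective (c ≫ pullback.snd f.hom (a k))
    let cY : (yon S).obj W ⟶ Y.obj := c ≫ pullback.fst f.hom (a k)
    have hcY : RepWith @Etale cY :=
      repWith_comp hce (repWith_of_isPullback (IsPullback.of_hasPullback f.hom (a k)).flip (hae k))
    have hpiece : ∀ l : 𝒲.I₀, ∃ (T : Scheme.{u}) (t : T ⟶ 𝒲.X l), IsAffine T ∧ Flat (t ≫ 𝒲.f l ≫ η.left) ∧
        ∀ w : 𝒲.X l, (𝒲.f l ≫ η.left) w ∈ Set.range z.left → w ∈ Set.range t := by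
      intro l
      haveI : IsAffine (𝒲.X l) := inferInstanceAs (IsAffine (W.left.affineCover.X _))
      refine exists_flat_piece (𝒲.f l ≫ η.left) _ z.left.isClosedEmbedding.isClosed_range fun w hw => ?_
      obtain ⟨x, hx⟩ := (hCiff _).1 hw
      let y := Points.ofPt cY (𝒲.f l w)
      have hy : Points.map f.hom y = Points.map i.hom x := by
        rw [hx, Points.map_ofPt, Category.assoc, pullback.condition, ← Category.assoc, ← hη, ofPt_map_comp]
        rfl
      obtain ⟨q, hq, -⟩ := exists_of_isPullback hFZ hy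
      refine flat_stalk_comp _ _ _ (Flat.stalkMap (𝒲.f l) w) (hflat y ⟨q, hq⟩ cY (a k) η _ hcY (hae k) ?_ rfl)
      rw [Category.assoc, pullback.condition, hη, Category.assoc]
    choose T t hTa htf htr using hpiece
    let TD : Fin n → Over S := fun l => Over.mk ((D l).ι ≫ (V k).hom)
    let TW : 𝒲.I₀ → Over S := fun l => Over.mk ((t l ≫ 𝒲.f l) ≫ W.hom)
    refine ⟨ULift.{u} (Fin n) ⊕ 𝒲.I₀, inferInstance, Sum.elim (fun l => TD l.down) TW,
      fun l => match l with
        | Sum.inl l => Over.homMk (D l.down).ι rfl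
        | Sum.inr l => (Over.homMk (t l ≫ 𝒲.f l) rfl : TW l ⟶ W) ≫ η,
      ?_, ?_, fun w => ?_, ?_⟩
    · rintro (l | l)
      · exact hDa l.down
      · exact hTa l
    · rintro (l | l)
      · exact inferInstanceAs (Flat (D l.down).ι)
      · show Flat ((t l ≫ 𝒲.f l) ≫ η.left)
        rw [Category.assoc]
        exact htf l
    · by_cases hw : w ∈ Set.range z.left
      · obtain ⟨x, hx⟩ := (hCiff w).1 hw
        obtain ⟨q, hq⟩ := (map_bijective_of_iso ((ObjectProperty.ι (IsAlgSpace (S := S))).mapIso (asIso fZ))).2 x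
        replace hq : Points.map fZ.hom q = x := hq
        have hy : Points.map f.hom (Points.map iY.hom q) = Points.map (a k) (Points.ofScheme (V k) w) := by
          rw [← Points.map_comp, hFZ.w, Points.map_comp, hq, hx, Points.ofPt_eq_map_ofScheme]
        obtain ⟨p, -, hp⟩ := exists_of_isPullback (IsPullback.of_hasPullback f.hom (a k)) hy
        obtain ⟨w', rfl⟩ := surjective_ofPt_of_repWith hcs p
        obtain ⟨w'', hw''⟩ := 𝒲.covers w'
        have he : η.left w' = w := by
          apply (Points.schemeEquiv (V k)).injective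
          show Points.ofScheme (V k) (η.left w') = Points.ofScheme (V k) w
          rw [← hp, Points.map_ofPt, ← hη]
          exact (map_yon_ofPt η w').symm.trans (Points.ofPt_eq_map_ofScheme _ _).symm
        have hmem : (𝒲.f (𝒲.idx w') ≫ η.left) w'' = w := by
          rw [Scheme.Hom.comp_apply, hw'', he]
        obtain ⟨p', hp'⟩ := htr _ w'' (hmem ▸ hw)
        refine ⟨Sum.inr (𝒲.idx w'), p', ?_⟩
        show η.left (𝒲.f _ (t _ p')) = w
        rw [hp', hw'', he]
      · obtain ⟨l, hl⟩ := hDc w hw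
        exact ⟨Sum.inl ⟨l⟩, ⟨w, hl⟩, rfl⟩
    · rintro (l | l)
      · refine Or.inl ((exists_factor_iff hj _).2 ?_)
        rintro _ ⟨p, rfl⟩
        obtain ⟨p, rfl⟩ := (Points.schemeEquiv (TD l.down)).surjective p
        show Points.map ((yon S).map (Over.homMk (D l.down).ι rfl : TD l.down ⟶ V k) ≫ a k) (Points.ofScheme (TD l.down) p) ∈ _
        rw [← Points.ofPt_eq_map_ofScheme, ofPt_map_comp, hU]
        exact fun hmem => Set.disjoint_left.1 (hDd l.down) p.2 ((hCiff _).2 hmem)
      · refine Or.inr ⟨(yon S).map (Over.homMk (t l ≫ 𝒲.f l) rfl : TW l ⟶ W) ≫ cY, ?_⟩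
        show (_ ≫ cY) ≫ f.hom = (yon S).map (_ ≫ η) ≫ a k
        rw [Functor.map_comp, hη]
        simp only [cY, Category.assoc, pullback.condition]
  choose ι hι T t hTa htf hts hlift using hfam
  let WS : ∀ k, ι k → AlgSp.Space S := fun k l => ⟨(yon S).obj (T k l), IsAlgSpace.yon_obj _⟩
  let VS : ι₀ → AlgSp.Space S := fun k => ⟨(yon S).obj (V k), IsAlgSpace.yon_obj _⟩
  let aS : ∀ k, VS k ⟶ X := fun k => ObjectProperty.homMk (a k)
  let tS : ∀ k l, WS k l ⟶ VS k := fun k l => ObjectProperty.homMk ((yon S).map (t k l))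
  have hV : IsFpqcCover (fun k => (VS k).obj) (fun k => (aS k).hom) := by
    refine Groth.Agent.S10505.result X VS aS ⟨fun k => ⟨EtLocal.locP_of_repWith EtLocal.flat X.property
      (repWith_mono (hae k) fun _ _ g (hg : Etale g) => inferInstance),
      EtLocal.locP_of_repWith EtLocal.lfp X.property
      (repWith_mono (hae k) fun _ _ g (hg : Etale g) => inferInstance)⟩, fun x => ?_⟩
    obtain ⟨u, rfl⟩ := surjective_ofPt_of_repWith has₀ x
    obtain ⟨p, hp⟩ := U₀.left.affineCover.covers u
    refine ⟨U₀.left.affineCover.idx u, Points.ofScheme (V _) p, ?_⟩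
    show Points.map (a _) _ = _
    rw [← Points.ofPt_eq_map_ofScheme, ofPt_map_comp]
    exact congrArg _ hp
  have hk : ∀ k, IsFpqcCover (fun l => (WS k l).obj) (fun l => (tS k l).hom) := fun k =>
    haveI := hι k
    isFpqcCover_of_affine_family (T k) (hTa k) (t k) (htf k) (hts k)
  refine ⟨Σ k, ι k, fun r => WS r.1 r.2, fun r => tS r.1 r.2 ≫ aS r.1,
    Groth.Agent.S10507.result X VS aS ι WS tS hV hk, fun r => ?_⟩
  rcases hlift r.1 r.2 with ⟨m, hm⟩ | ⟨m, hm⟩
  · exact Or.inl ⟨ObjectProperty.homMk m, ObjectProperty.hom_ext _ hm⟩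
  · exact Or.inr ⟨ObjectProperty.homMk m, ObjectProperty.hom_ext _ hm⟩
end Groth.Agent.S10704
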