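import Groth.Statements.S10705
import Groth.Agent.S10704
import Groth.Agent.S10506
import Groth.Agent.S10532
import Groth.Agent.Lib.AlgSp.Space
-- import your own Groth.Agent.* helpers here

set_option autoImplicit false
universe u
open CategoryTheory CategoryTheory.Limits AlgebraicGeometry
open AlgSp GrothLib.AlgSp
set_option backward.isDefEq.respectTransparency false

namespace Groth.Agent.S10705

/-- Let `f : Y → X` be a quasi-compact quasi-separated morphism of algebraic spaces over `S`, `i : Z →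
X` a closed immersion of finite presentation such that `f⁻¹Z → Z` is an isomorphism and `f` is flat
at every point of `|f⁻¹Z|`, and let `U ⊂ X` be the open subspace complementary to `Z`. Let `a : X₁ →
X₂` be a morphism of algebraic spaces over `X`. If the base change of `a` to `U` and the base change
of `a` to `Y` are isomorphisms, then `a` is an isomorphism: the formal glueing functor reflects
isomorphisms. -/
theorem result {S : Scheme.{u}} {X Y Z FZ U : AlgSp.Space S} (f : Y ⟶ X)
    (hqc : AlgSp.IsQuasiCompactMor f.hom) (hqs : AlgSp.IsQuasiSeparatedMor f.hom) (i : Z ⟶ X)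
    (hi : AlgSp.RepWith @IsClosedImmersion i.hom) (hifp : AlgSp.LocP @LocallyOfFinitePresentation i.hom)
    (iY : FZ ⟶ Y) (fZ : FZ ⟶ Z) (hFZ : IsPullback iY.hom fZ.hom f.hom i.hom) [IsIso fZ]
    (hflat : ∀ y ∈ Set.range (AlgSp.Points.map iY.hom), AlgSp.IsFlatAtMor f.hom y) (j : U ⟶ X)
    (hj : AlgSp.RepWith @IsOpenImmersion j.hom)
    (hU : Set.range (AlgSp.Points.map j.hom) = (Set.range (AlgSp.Points.map i.hom))ᶜ)
    {X₁ X₂ QU QU₁ QY QY₁ : AlgSp.Space S} (p₂ : X₂ ⟶ X) (a : X₁ ⟶ X₂)
    (qU : QU ⟶ X₂) (rU : QU ⟶ U) (hQU : IsPullback qU.hom rU.hom p₂.hom j.hom) (aU : QU₁ ⟶ QU)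
    (bU : QU₁ ⟶ X₁) (hQU₁ : IsPullback bU.hom aU.hom a.hom qU.hom) [IsIso aU] (qY : QY ⟶ X₂) (rY : QY ⟶ Y)
    (hQY : IsPullback qY.hom rY.hom p₂.hom f.hom) (aY : QY₁ ⟶ QY) (bY : QY₁ ⟶ X₁)
    (hQY₁ : IsPullback bY.hom aY.hom a.hom qY.hom) [IsIso aY] : IsIso a := by
  classical
  obtain ⟨ι, W, w, hw, hfac⟩ := Groth.Agent.S10704.result f hqc hqs i hi hifp iY fZ hFZ hflat j hj hU
  let W₂ : ι → AlgSp.Space S := fun k => ⟨pullback p₂.hom (w k).hom,
    isAlgSpace_pullback' X.property X₂.property (W k).property p₂.hom (w k).hom⟩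
  let q : ∀ k, W₂ k ⟶ X₂ := fun k => ObjectProperty.homMk (pullback.fst p₂.hom (w k).hom)
  let r : ∀ k, W₂ k ⟶ W k := fun k => ObjectProperty.homMk (pullback.snd p₂.hom (w k).hom)
  have hcov := Groth.Agent.S10506.result p₂ W w W₂ q r (fun k => IsPullback.of_hasPullback p₂.hom (w k).hom) hw
  have haU : IsIso aU.hom := (ObjectProperty.ι (IsAlgSpace (S := S))).map_isIso aU
  have haY : IsIso aY.hom := (ObjectProperty.ι (IsAlgSpace (S := S))).map_isIso aY
  have key : ∀ k, IsIso (pullback.snd a.hom (q k).hom) := by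
    intro k
    have gen : ∀ {Q Q₁ B : AlgSp.Space S} (g : B ⟶ X) (qQ : Q ⟶ X₂) (rQ : Q ⟶ B) (aQ : Q₁ ⟶ Q) (bQ : Q₁ ⟶ X₁),
        IsPullback qQ.hom rQ.hom p₂.hom g.hom → IsPullback bQ.hom aQ.hom a.hom qQ.hom → IsIso aQ.hom →
        (∃ l : W k ⟶ B, l ≫ g = w k) → IsIso (pullback.snd a.hom (q k).hom) := by
      intro Q Q₁ B g qQ rQ aQ bQ hQ hQ₁ hiso ⟨l, hl⟩
      let m : (W₂ k).obj ⟶ Q.obj := hQ.lift (q k).hom ((r k).hom ≫ l.hom) (by
        rw [Category.assoc]
        exact pullback.condition.trans (congrArg (pullback.snd p₂.hom (w k).hom ≫ ·) (congrArg (·.hom) hl).symm))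
      have hm : m ≫ qQ.hom = (q k).hom := hQ.lift_fst _ _ _
      have sq := IsPullback.of_hasPullback a.hom (q k).hom
      have e : pullback.snd a.hom (q k).hom ≫ m = hQ₁.lift (pullback.fst a.hom (q k).hom)
          (pullback.snd a.hom (q k).hom ≫ m) (by rw [Category.assoc, hm]; exact pullback.condition) ≫ aQ.hom :=
        (hQ₁.lift_snd _ _ _).symm
      have sq' : IsPullback (hQ₁.lift (pullback.fst a.hom (q k).hom)
          (pullback.snd a.hom (q k).hom ≫ m) (by rw [Category.assoc, hm]; exact pullback.condition))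
          (pullback.snd a.hom (q k).hom) aQ.hom m :=
        IsPullback.of_right (by rw [hQ₁.lift_fst, hm]; exact sq) e.symm hQ₁
      exact sq'.isIso_snd_of_isIso
    rcases hfac k with h | h
    · exact gen j qU rU aU bU hQU hQU₁ haU h
    · exact gen f qY rY aY bY hQY hQY₁ haY h
  have : MorphismProperty.isomorphisms (AlgSp.Sp S) a.hom :=
    (Groth.Agent.S10532.result S (fun k => (W₂ k).obj) (fun k => (q k).hom) X₂.property (fun k => (W₂ k).property)
      hcov a.hom X₁.property (fun k => pullback a.hom (q k).hom) (fun k => pullback.snd a.hom (q k).hom)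
      (fun k => pullback.fst a.hom (q k).hom)
      (fun k => isAlgSpace_pullback' X₂.property X₁.property (W₂ k).property a.hom (q k).hom)
      (fun k => IsPullback.of_hasPullback a.hom (q k).hom)).2 key
  haveI : IsIso ((ObjectProperty.ι (IsAlgSpace (S := S))).map a) := this
  exact isIso_of_fully_faithful (ObjectProperty.ι (IsAlgSpace (S := S))) a
end Groth.Agent.S10705
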