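import Groth.Statements.S10706
import Groth.Agent.Lib.AlgSp.GlueFlat
import Groth.Agent.Lib.AlgSp.Space
import Groth.Agent.Lib.AlgSp.Points

set_option autoImplicit false
set_option backward.isDefEq.respectTransparency false

universe u
open CategoryTheory CategoryTheory.Limits AlgebraicGeometry TensorProduct
open AlgSp

namespace Groth.Agent.S10706

open GrothLib.AlgSp

private theorem exists_spec_iso {R : CommRingCat.{u}} (W : Over (Spec R)) [IsAffine W.left] :
    ∃ (B : Type u) (_ : CommRing B) (_ : Algebra R B),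
      Nonempty (Over.mk (Spec.map (CommRingCat.ofHom (algebraMap R B))) ≅ W) := by
  let φ : R ⟶ Γ(W.left, ⊤) := Spec.preimage (W.left.isoSpec.inv ≫ W.hom)
  letI : Algebra R Γ(W.left, ⊤) := φ.hom.toAlgebra
  refine ⟨Γ(W.left, ⊤), inferInstance, inferInstance, ⟨Over.isoMk W.left.isoSpec.symm ?_⟩⟩
  exact (Spec.map_preimage (W.left.isoSpec.inv ≫ W.hom)).symm

private theorem exists_affine_nhd {T : Scheme.{u}} (P : Over T) (p : ↥P.left) :
    ∃ (W : Over T) (j : W ⟶ P), IsAffine W.left ∧ IsOpenImmersion j.left ∧ p ∈ Set.range j.left := by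
  obtain ⟨V, hV, hp, -⟩ := AlgebraicGeometry.exists_isAffineOpen_mem_and_subset (x := p) (U := ⊤) trivial
  refine ⟨Over.mk (V.ι ≫ P.hom), Over.homMk V.ι, hV, ?_, ?_⟩
  · change IsOpenImmersion V.ι
    infer_instance
  · exact ⟨⟨p, hp⟩, rfl⟩

private theorem repWith_yon_map {T : Scheme.{u}} {A B : Over T} {j : A ⟶ B} (hj : Etale j.left) :
    AlgSp.RepWith @Etale ((AlgSp.yon T).map j) :=
  repWith_mk (P := @Etale) fun V g => by
    obtain ⟨φ, rfl⟩ := (AlgSp.yon T).map_surjective g
    exact ⟨_, _, pullback.snd j φ, isPullback_yon (IsPullback.of_hasPullback j φ),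
      MorphismProperty.of_isPullback (isPullback_left (IsPullback.of_hasPullback j φ)) hj⟩

private theorem exists_ringHom {R : CommRingCat.{u}} {A B : Type u} [CommRing A] [CommRing B] [Algebra R A] [Algebra R B]
    (j : Over.mk (Spec.map (CommRingCat.ofHom (algebraMap R B))) ⟶ Over.mk (Spec.map (CommRingCat.ofHom (algebraMap R A))))
    (hj : Etale j.left) :
    ∃ ψ : A →ₐ[R] B, ψ.toRingHom.Flat ∧ ∀ q : PrimeSpectrum B, j.left q = PrimeSpectrum.comap ψ.toRingHom q := by
  let φ : CommRingCat.of A ⟶ CommRingCat.of B := Spec.preimage j.left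
  have hφ : Spec.map φ = j.left := Spec.map_preimage _
  have hw : CommRingCat.ofHom (algebraMap R A) ≫ φ = CommRingCat.ofHom (algebraMap R B) := by
    apply Spec.map_injective
    rw [Spec.map_comp, hφ]
    exact Over.w j
  refine ⟨{ φ.hom with commutes' := fun r => congrArg (fun k => k.hom r) hw }, ?_, ?_⟩
  · have : Etale (Spec.map φ) := hφ ▸ hj
    have h : Flat (Spec.map φ) := inferInstance
    exact (HasRingHomProperty.Spec_iff (P := @Flat)).mp h
  · intro q
    rw [← hφ]
    rfl

/-- Let `(R → R', f)` be a glueing pair and `Y` an algebraic space over `Spec R`. The following are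
equivalent: (1) there is an etale covering of `Y` by affine schemes `Spec A_k` with every `A_k`
glueable as an `R`-module; (2) for every affine scheme `Spec A` etale over `Y`, the `R`-module `A`
is glueable. -/
theorem result (R : Type u) [CommRing R] (R' : Type u) [CommRing R'] [Algebra R R']
    (f : R) (hRR' : EtGlue.IsGlueingPair R R' f) (Y : AlgSp.Space (Spec (CommRingCat.of R))) :
    (∃ (ι : Type u) (A : ι → Type u) (_ : ∀ k, CommRing (A k)) (_ : ∀ k, Algebra R (A k))
        (g : ∀ k, (AlgSp.yon (Spec (CommRingCat.of R))).obj (Over.mk (Spec.map (CommRingCat.ofHom (algebraMap R (A k)))) : Over (Spec (CommRingCat.of R))) ⟶ Y.obj),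
        (∀ k, AlgSp.RepWith @Etale (g k)) ∧ (∀ y : AlgSp.Points Y.obj, ∃ k, y ∈ Set.range (AlgSp.Points.map (g k))) ∧
          ∀ k, EtGlue.IsGlueable R R' f (A k)) ↔
      (∀ (A : Type u) [CommRing A] [Algebra R A]
      (g : (AlgSp.yon (Spec (CommRingCat.of R))).obj (Over.mk (Spec.map (CommRingCat.ofHom (algebraMap R A))) : Over (Spec (CommRingCat.of R))) ⟶ Y.obj),
      AlgSp.RepWith @Etale g → EtGlue.IsGlueable R R' f A) := by
  constructor
  · intro h A _ _ g hg
    obtain ⟨ι, B, hB, hBalg, gk, hgk, hcov, hglue⟩ := h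
    let T : Over (Spec (CommRingCat.of R)) := Over.mk (Spec.map (CommRingCat.ofHom (algebraMap R A)))
    have key : ∀ a : PrimeSpectrum A, ∃ (C : Type u) (_ : CommRing C) (_ : Algebra R C) (ψ : A →ₐ[R] C),
        ψ.toRingHom.Flat ∧ EtGlue.IsGlueable R R' f C ∧ a ∈ Set.range (PrimeSpectrum.comap ψ.toRingHom) := by
      intro a
      obtain ⟨k, z, hz⟩ := hcov (AlgSp.Points.ofPt g (a : ↥T.left))
      obtain ⟨P, fst, snd, sq, hsnd⟩ : ∃ (P : Over (Spec (CommRingCat.of R)))
          (fst : (AlgSp.yon (Spec (CommRingCat.of R))).obj P ⟶ _) (snd : P ⟶ T),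
          IsPullback fst ((AlgSp.yon (Spec (CommRingCat.of R))).map snd) (gk k) g ∧ Etale snd.left := by
        obtain ⟨P, fst, snd, sq⟩ := exists_isPullback_of_representable (hgk k).1 g
        exact ⟨P, fst, snd, sq, (hgk k).2 g fst snd sq⟩
      obtain ⟨fst, rfl⟩ := (AlgSp.yon (Spec (CommRingCat.of R))).map_surjective fst
      have hfst : Etale fst.left := hg.2 (gk k) ((AlgSp.yon (Spec (CommRingCat.of R))).map snd) fst sq.flip
      obtain ⟨b, rfl⟩ := (AlgSp.Points.schemeEquiv _).surjective z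
      have hz' : AlgSp.Points.ofPt (gk k) b = AlgSp.Points.ofPt g (a : ↥T.left) := (AlgSp.Points.ofPt_eq_map_ofScheme (gk k) b).trans hz
      obtain ⟨p, hp1, hp2⟩ := (ofPt_eq_ofPt_iff sq b (a : ↥T.left)).mp hz'
      obtain ⟨W, j, hW, hj, w, hw⟩ := exists_affine_nhd P p
      obtain ⟨C, iC, iA, ⟨e⟩⟩ := exists_spec_iso W
      have hj' : Etale j.left := inferInstance
      have he : Etale e.hom.left := inferInstance
      obtain ⟨ψ, hψ, hψ'⟩ := exists_ringHom (R := CommRingCat.of R) (A := A) (e.hom ≫ j ≫ snd) (by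
        simp only [Over.comp_left]
        infer_instance)
      obtain ⟨χ, hχ, -⟩ := exists_ringHom (R := CommRingCat.of R) (A := B k) (e.hom ≫ j ≫ fst) (by
        simp only [Over.comp_left]
        infer_instance)
      refine ⟨C, iC, iA, ψ, hψ, ?_, ?_⟩
      · letI := χ.toRingHom.toAlgebra
        haveI : IsScalarTower R (B k) C := IsScalarTower.of_algebraMap_eq fun r => (χ.commutes r).symm
        haveI : Module.Flat (B k) C := hχ
        exact GlueFlat.isGlueable_of_flat R R' f (B k) C (hglue k)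
      · refine ⟨e.inv.left w, ?_⟩
        rw [← hψ']
        simp only [Over.comp_left, Scheme.Hom.comp_apply]
        rw [← Scheme.Hom.comp_apply e.inv.left, ← Over.comp_left, e.inv_hom_id]
        change snd.left (j.left w) = _
        rw [hw, hp2]
    choose C iC iA ψ hψ hglueC hmem using key
    letI := fun a => (ψ a).toRingHom.toAlgebra
    haveI : ∀ a, IsScalarTower R A (C a) := fun a => IsScalarTower.of_algebraMap_eq fun r => ((ψ a).commutes r).symm
    haveI : ∀ a, Module.Flat A (C a) := fun a => hψ a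
    exact GlueFlat.isGlueable_of_cover R R' f A C (fun a => ⟨a, hmem a⟩) hglueC
  · intro h
    obtain ⟨U, p, pe, ps⟩ := Y.property.atlas
    have key : ∀ t : ↥U.left, ∃ (A : Type u) (_ : CommRing A) (_ : Algebra R A)
        (g : (AlgSp.yon (Spec (CommRingCat.of R))).obj (Over.mk (Spec.map (CommRingCat.ofHom (algebraMap R A)))) ⟶ Y.obj),
        AlgSp.RepWith @Etale g ∧ AlgSp.Points.ofPt p t ∈ Set.range (AlgSp.Points.map g) := by
      intro t
      obtain ⟨W, j, hW, hj, w, hw⟩ := exists_affine_nhd U t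
      obtain ⟨A, iA, iR, ⟨e⟩⟩ := exists_spec_iso W
      refine ⟨A, iA, iR, (AlgSp.yon (Spec (CommRingCat.of R))).map (e.hom ≫ j) ≫ p, ?_, ?_⟩
      · refine repWith_comp ?_ pe
        refine repWith_yon_map ?_
        simp only [Over.comp_left]
        infer_instance
      · refine ⟨AlgSp.Points.schemeEquiv _ (e.inv.left w), ?_⟩
        refine (AlgSp.Points.ofPt_eq_map_ofScheme _ _).symm.trans ?_
        rw [ofPt_map_comp]
        congr 1
        simp only [Over.comp_left, Scheme.Hom.comp_apply]
        rw [← Scheme.Hom.comp_apply e.inv.left, ← Over.comp_left, e.inv_hom_id]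
        exact hw
    choose A iA iR g hg hmem using key
    refine ⟨↥U.left, A, iA, iR, g, hg, ?_, fun t => h (A t) (g t) (hg t)⟩
    intro y
    obtain ⟨t, rfl⟩ := surjective_ofPt_of_repWith ps y
    exact ⟨t, hmem t⟩

end Groth.Agent.S10706
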