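import Groth.Statements.S10707
import Groth.Agent.Lib.AlgSp.GlueHom
import Groth.Agent.Lib.AlgSp.Space
import Groth.Agent.Lib.AlgSp.Points

set_option autoImplicit false
set_option backward.isDefEq.respectTransparency false

universe u
open CategoryTheory CategoryTheory.Limits AlgebraicGeometry TensorProduct
open AlgSp

namespace Groth.Agent.S10707

open GrothLib.AlgSp GrothLib.AlgSp.GlueHom

private theorem exists_spec_iso {R : CommRingCat.{u}} (W : Over (Spec R)) [IsAffine W.left] :
    ∃ (B : Type u) (_ : CommRing B) (_ : Algebra R B),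
      Nonempty (Over.mk (Spec.map (CommRingCat.ofHom (algebraMap R B))) ≅ W) := by
  let φ : R ⟶ Γ(W.left, ⊤) := Spec.preimage (W.left.isoSpec.inv ≫ W.hom)
  letI : Algebra R Γ(W.left, ⊤) := φ.hom.toAlgebra
  refine ⟨Γ(W.left, ⊤), inferInstance, inferInstance, ⟨Over.isoMk W.left.isoSpec.symm ?_⟩⟩
  exact (Spec.map_preimage (W.left.isoSpec.inv ≫ W.hom)).symm

private theorem exists_affine_nhd {T : Scheme.{u}} (P : Over T) (p : ↥P.left) :
    ∃ (W : Over T) (j : W ⟶ P), IsAffine W.left ∧ IsOpenImmersion j.left ∧ p ∈ Set.range j.left := by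
  obtain ⟨V, hV, hp, -⟩ := AlgebraicGeometry.exists_isAffineOpen_mem_and_subset (x := p) (U := ⊤) trivial
  refine ⟨Over.mk (V.ι ≫ P.hom), Over.homMk V.ι, hV, ?_, ?_⟩
  · change IsOpenImmersion V.ι
    infer_instance
  · exact ⟨⟨p, hp⟩, rfl⟩

private theorem repWith_yon_map {T : Scheme.{u}} {A B : Over T} {j : A ⟶ B} (hj : Etale j.left) :
    AlgSp.RepWith @Etale ((AlgSp.yon T).map j) :=
  repWith_mk (P := @Etale) fun V g => by
    obtain ⟨φ, rfl⟩ := (AlgSp.yon T).map_surjective g
    exact ⟨_, _, pullback.snd j φ, isPullback_yon (IsPullback.of_hasPullback j φ),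
      MorphismProperty.of_isPullback (isPullback_left (IsPullback.of_hasPullback j φ)) hj⟩

private theorem exists_ringHom {R : CommRingCat.{u}} {A B : Type u} [CommRing A] [CommRing B] [Algebra R A] [Algebra R B]
    (j : Over.mk (Spec.map (CommRingCat.ofHom (algebraMap R B))) ⟶ Over.mk (Spec.map (CommRingCat.ofHom (algebraMap R A))))
    (hj : Etale j.left) :
    ∃ ψ : A →ₐ[R] B, ψ.toRingHom.Flat ∧ ∀ q : PrimeSpectrum B, j.left q = PrimeSpectrum.comap ψ.toRingHom q := by
  let φ : CommRingCat.of A ⟶ CommRingCat.of B := Spec.preimage j.left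
  have hφ : Spec.map φ = j.left := Spec.map_preimage _
  have hw : CommRingCat.ofHom (algebraMap R A) ≫ φ = CommRingCat.ofHom (algebraMap R B) := by
    apply Spec.map_injective
    rw [Spec.map_comp, hφ]
    exact Over.w j
  refine ⟨{ φ.hom with commutes' := fun r => congrArg (fun k => k.hom r) hw }, ?_, ?_⟩
  · have : Etale (Spec.map φ) := hφ ▸ hj
    have h : Flat (Spec.map φ) := inferInstance
    exact (HasRingHomProperty.Spec_iff (P := @Flat)).mp h
  · intro q
    rw [← hφ]
    rfl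


/-- Field points of the base lift to one of the two parts. -/
private theorem exists_field_hom {R R' : Type u} [CommRing R] [CommRing R'] [Algebra R R'] {f : R}
    (hRR' : EtGlue.IsGlueingPair R R' f) (P : Over (Spec (CommRingCat.of R))) (K : Type u) [Field K]
    (hP : P.left = Spec (CommRingCat.of K)) :
    Nonempty (P ⟶ Over.mk (Spec.map (CommRingCat.ofHom (algebraMap R (Localization.Away f))))) ∨
      Nonempty (P ⟶ Over.mk (Spec.map (CommRingCat.ofHom (algebraMap R R')))) := by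
  obtain ⟨PL, _, Ph⟩ := P
  change PL = _ at hP
  subst hP
  let ρ₀ : CommRingCat.of R ⟶ CommRingCat.of K := Spec.preimage Ph
  letI : Algebra R K := ρ₀.hom.toAlgebra
  have hρ₀ : Spec.map ρ₀ = Ph := Spec.map_preimage _
  rcases exists_residue_hom hRR' R K (Algebra.ofId R K) with ⟨χ, hχ⟩ | ⟨χ, hχ⟩
  · refine Or.inl ⟨Over.homMk (Spec.map (CommRingCat.ofHom χ)) ?_⟩
    change Spec.map _ ≫ Spec.map _ = _
    rw [← Spec.map_comp]
    refine Eq.trans ?_ hρ₀
    congr 1
    ext r
    exact hχ r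
  · refine Or.inr ⟨Over.homMk (Spec.map (CommRingCat.ofHom
      (χ.comp (Algebra.TensorProduct.includeRight : R' →ₐ[R] R ⊗[R] R').toRingHom))) ?_⟩
    change Spec.map _ ≫ Spec.map _ = _
    rw [← Spec.map_comp]
    refine Eq.trans ?_ hρ₀
    congr 1
    ext r
    change χ ((1 : R) ⊗ₜ[R] algebraMap R R' r) = ρ₀.hom r
    rw [Algebra.algebraMap_eq_smul_one, TensorProduct.tmul_smul, TensorProduct.smul_tmul', Algebra.smul_def, mul_one]
    exact hχ r

/-- Two maps to an etale chart agreeing in the space on both parts agree near a point where they are equal. -/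
private theorem exists_nhd {R R' : Type u} [CommRing R] [CommRing R'] [Algebra R R'] {f : R}
    (hRR' : EtGlue.IsGlueingPair R R' f) {Z : AlgSp.Sp (Spec (CommRingCat.of R))}
    {W : Over (Spec (CommRingCat.of R))} [IsAffine W.left] {q : (AlgSp.yon _).obj W ⟶ Z}
    (qe : AlgSp.RepWith @Etale q) {C : Type u} [CommRing C] [Algebra R C] (hCg : EtGlue.IsGlueable R R' f C)
    (k l : specOver R C ⟶ W)
    (hD : ∀ {D : Type u} [CommRing D] [Algebra R D] (ψ : C →ₐ[R] D),
      (Nonempty (specOver R D ⟶ Over.mk (Spec.map (CommRingCat.ofHom (algebraMap R (Localization.Away f))))) ∨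
        Nonempty (specOver R D ⟶ Over.mk (Spec.map (CommRingCat.ofHom (algebraMap R R'))))) →
      (AlgSp.yon _).map (specHom ψ ≫ k) ≫ q = (AlgSp.yon _).map (specHom ψ ≫ l) ≫ q)
    (K : Type u) [Field K] (ρ₁ : CommRingCat.of C ⟶ CommRingCat.of K)
    (hkl : Spec.map ρ₁ ≫ k.left = Spec.map ρ₁ ≫ l.left) :
    ∃ h : C, ρ₁.hom h ≠ 0 ∧ specHom (IsScalarTower.toAlgHom R C (Localization.Away h)) ≫ k =
      specHom (IsScalarTower.toAlgHom R C (Localization.Away h)) ≫ l := by
  letI : Algebra R K := (CommRingCat.ofHom (algebraMap R C) ≫ ρ₁).hom.toAlgebra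
  let ρ : C →ₐ[R] K := { ρ₁.hom with commutes' := fun _ => rfl }
  let I : Ideal C := Ideal.span (Set.range fun w => (ringMap k).hom w - (ringMap l).hom w)
  have hIρ : ∀ x ∈ I, ρ x = 0 := by
    have hle : I ≤ RingHom.ker ρ.toRingHom := Ideal.span_le.mpr (by
      rintro _ ⟨y, rfl⟩
      change ρ (_ - _) = 0
      rw [map_sub, sub_eq_zero]
      have h2 : Spec.map (ringMap k ≫ ρ₁) = Spec.map (ringMap l ≫ ρ₁) := by
        rw [Spec.map_comp, Spec.map_comp, ringMap, ringMap, Spec.map_preimage, Spec.map_preimage, reassoc_of% hkl]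
      exact congrArg (fun v => v.hom y) (Spec.map_injective h2))
    exact fun x hx => hle hx
  let νU : specOver R (Localization.Away (algebraMap R C f)) ⟶ specOver R (Localization.Away f) :=
    specHom ({ Localization.awayMap (algebraMap R C) f with
      commutes' := fun x => (IsLocalization.map_eq _ x).trans (IsScalarTower.algebraMap_apply R C _ x).symm })
  obtain ⟨h, hh, hann⟩ := exists_notMem_annihilator hRR' C K hCg I ρ hIρ
    (exists_idempotent qe (IsScalarTower.toAlgHom R C (Localization.Away (algebraMap R C f))) k l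
      (hD _ (Or.inl ⟨νU⟩)))
    (exists_idempotent qe (Algebra.TensorProduct.includeLeft : C →ₐ[R] C ⊗[R] R') k l
      (hD _ (Or.inr ⟨specHom Algebra.TensorProduct.includeRight⟩)))
  refine ⟨h, hh, ?_⟩
  rw [comp_eq_iff]
  intro y
  rw [← sub_eq_zero, ← map_sub]
  exact (IsLocalization.map_eq_zero_iff (Submonoid.powers h) _ _).mpr
    ⟨⟨h, Submonoid.mem_powers h⟩, hann _ (Ideal.subset_span ⟨y, rfl⟩)⟩

/-- Let `(R → R', f)` be a glueing pair, `X = Spec R`, `U = Spec R_f`, `X' = Spec R'`, and let `Y`, `Z`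
be algebraic spaces over `X` glueable for `(R → R', f)`. Two morphisms `a, b : Y → Z` over `X` whose
base changes to `U` agree and whose base changes to `X'` agree are equal. -/
theorem result (R : Type u) [CommRing R] (R' : Type u) [CommRing R'] [Algebra R R']
    (f : R) (hRR' : EtGlue.IsGlueingPair R R' f) {Y Z YU YX' : AlgSp.Space (Spec (CommRingCat.of R))}
    (hY : (∀ (A : Type u) [CommRing A] [Algebra R A]
      (g : (AlgSp.yon (Spec (CommRingCat.of R))).obj (Over.mk (Spec.map (CommRingCat.ofHom (algebraMap R A))) : Over (Spec (CommRingCat.of R))) ⟶ Y.obj),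
      AlgSp.RepWith @Etale g → EtGlue.IsGlueable R R' f A))
    (hZ : (∀ (A : Type u) [CommRing A] [Algebra R A]
      (g : (AlgSp.yon (Spec (CommRingCat.of R))).obj (Over.mk (Spec.map (CommRingCat.ofHom (algebraMap R A))) : Over (Spec (CommRingCat.of R))) ⟶ Z.obj),
      AlgSp.RepWith @Etale g → EtGlue.IsGlueable R R' f A))
    (a b : Y ⟶ Z) (πZ : Z.obj ⟶ (AlgSp.yon (Spec (CommRingCat.of R))).obj (Over.mk (𝟙 _)))
    (inU : (Over.mk (Spec.map (CommRingCat.ofHom (algebraMap R (Localization.Away f)))) : Over (Spec (CommRingCat.of R))) ⟶ Over.mk (𝟙 _))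
    (uY : YU ⟶ Y) (vY : YU.obj ⟶ (AlgSp.yon (Spec (CommRingCat.of R))).obj (Over.mk (Spec.map (CommRingCat.ofHom (algebraMap R (Localization.Away f)))) : Over (Spec (CommRingCat.of R))))
    (hYU : IsPullback uY.hom vY (a.hom ≫ πZ) ((AlgSp.yon (Spec (CommRingCat.of R))).map inU))
    (inX' : (Over.mk (Spec.map (CommRingCat.ofHom (algebraMap R R'))) : Over (Spec (CommRingCat.of R))) ⟶ Over.mk (𝟙 _))
    (uY' : YX' ⟶ Y) (vY' : YX'.obj ⟶ (AlgSp.yon (Spec (CommRingCat.of R))).obj (Over.mk (Spec.map (CommRingCat.ofHom (algebraMap R R'))) : Over (Spec (CommRingCat.of R))))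
    (hYX' : IsPullback uY'.hom vY' (a.hom ≫ πZ) ((AlgSp.yon (Spec (CommRingCat.of R))).map inX'))
    (haU : uY ≫ a = uY ≫ b) (haX' : uY' ≫ a = uY' ≫ b) : a = b := by
  apply ObjectProperty.hom_ext
  let S : Scheme.{u} := Spec (CommRingCat.of R)
  -- agreement over the two parts
  have hagree₁ : ∀ {P : Over S} (_ : P ⟶ Over.mk (Spec.map (CommRingCat.ofHom (algebraMap R (Localization.Away f)))))
      (y : (AlgSp.yon S).obj P ⟶ Y.obj), y ≫ a.hom = y ≫ b.hom := by
    intro P ν y
    obtain ⟨y', rfl⟩ := exists_lift_of_agree hYU ν y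
    have h := congrArg (fun z => z.hom) haU
    simp only [ObjectProperty.FullSubcategory.comp_hom] at h
    rw [Category.assoc, Category.assoc, h]
  have hagree₂ : ∀ {P : Over S} (_ : P ⟶ Over.mk (Spec.map (CommRingCat.ofHom (algebraMap R R'))))
      (y : (AlgSp.yon S).obj P ⟶ Y.obj), y ≫ a.hom = y ≫ b.hom := by
    intro P ν y
    obtain ⟨y', rfl⟩ := exists_lift_of_agree hYX' ν y
    have h := congrArg (fun z => z.hom) haX'
    simp only [ObjectProperty.FullSubcategory.comp_hom] at h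
    rw [Category.assoc, Category.assoc, h]
  obtain ⟨U, p, pe, ps⟩ := Y.property.atlas
  haveI : Epi p := (Sheaf.isLocallySurjective_iff_epi p).1 (chart_isLocallySurjective pe ps)
  rw [← cancel_epi p]
  -- every point of the chart has an etale neighbourhood where the maps agree
  have key : ∀ t : ↥U.left, ∃ (T : Over S) (c : T ⟶ U), Etale c.left ∧ t ∈ Set.range c.left ∧
      (AlgSp.yon S).map c ≫ p ≫ a.hom = (AlgSp.yon S).map c ≫ p ≫ b.hom := by
    intro t
    -- an affine chart of `Z` around the image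
    obtain ⟨W₀, q₀, q₀e, q₀s⟩ := Z.property.atlas
    obtain ⟨w₀, hw₀⟩ := surjective_ofPt_of_repWith q₀s (AlgSp.Points.ofPt (p ≫ a.hom) t)
    obtain ⟨W, jW, hW, hjW, w, hw⟩ := exists_affine_nhd W₀ w₀
    let q : (AlgSp.yon S).obj W ⟶ Z.obj := (AlgSp.yon S).map jW ≫ q₀
    have qe : AlgSp.RepWith @Etale q := by
      have : Etale jW.left := inferInstance
      exact repWith_comp (repWith_yon_map this) q₀e
    obtain ⟨T₁, f₁, s₁, sq₁⟩ := exists_isPullback_of_representable qe.1 (p ≫ a.hom)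
    have hs₁ : Etale s₁.left := qe.2 _ f₁ s₁ sq₁
    obtain ⟨f₁, rfl⟩ := (AlgSp.yon S).map_surjective f₁
    obtain ⟨T₂, f₂, s₂, sq₂⟩ := exists_isPullback_of_representable qe.1 ((AlgSp.yon S).map s₁ ≫ p ≫ b.hom)
    have hs₂ : Etale s₂.left := qe.2 _ f₂ s₂ sq₂
    obtain ⟨f₂, rfl⟩ := (AlgSp.yon S).map_surjective f₂
    obtain ⟨r, hr₁, hr₂⟩ := (ofPt_eq_ofPt_iff sq₁ w t).mp (by
      rw [ofPt_map_comp, hw, hw₀])
    -- a field point of `W` over both images
    let P₁ : Over S := Over.mk (T₁.left.fromSpecResidueField r ≫ T₁.hom)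
    let i₁ : P₁ ⟶ T₁ := Over.homMk (T₁.left.fromSpecResidueField r)
    have hP₁ : ((AlgSp.yon S).map (i₁ ≫ s₁) ≫ p) ≫ a.hom = ((AlgSp.yon S).map (i₁ ≫ s₁) ≫ p) ≫ b.hom := by
      rcases exists_field_hom hRR' P₁ ↥(T₁.left.residueField r) rfl with ⟨⟨ν⟩⟩ | ⟨⟨ν⟩⟩
      · exact hagree₁ ν _
      · exact hagree₂ ν _
    obtain ⟨ℓ', hl₁, hl₂⟩ := sq₂.exists_lift ((AlgSp.yon S).map (i₁ ≫ f₁)) ((AlgSp.yon S).map i₁) (by
      rw [Functor.map_comp, Category.assoc, sq₁.w, ← Category.assoc, ← Functor.map_comp, ← Category.assoc, hP₁,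
        Functor.map_comp]
      simp only [Category.assoc])
    obtain ⟨ℓ, rfl⟩ := (AlgSp.yon S).map_surjective ℓ'
    rw [← Functor.map_comp] at hl₁ hl₂
    replace hl₁ := (AlgSp.yon S).map_injective hl₁
    replace hl₂ := (AlgSp.yon S).map_injective hl₂
    let pt : ↥P₁.left := (IsLocalRing.closedPoint ↥(T₁.left.residueField r))
    obtain ⟨Q, jQ, hQ, hjQ, z, hz⟩ := exists_affine_nhd T₂ (ℓ.left pt)
    obtain ⟨C, iC, iR, ⟨e⟩⟩ := exists_spec_iso Q
    obtain ⟨j, hj, hje⟩ : ∃ j : specOver R C ⟶ T₂, IsOpenImmersion j.left ∧ j = e.hom ≫ jQ := by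
      refine ⟨_, ?_, rfl⟩
      have : IsOpenImmersion e.hom.left := inferInstance
      simp only [Over.comp_left]
      infer_instance
    obtain ⟨k, hk'⟩ : ∃ k : specOver R C ⟶ W, k = j ≫ s₂ ≫ f₁ := ⟨_, rfl⟩
    obtain ⟨l, hl'⟩ : ∃ l : specOver R C ⟶ W, l = j ≫ f₂ := ⟨_, rfl⟩
    obtain ⟨toU, htoU'⟩ : ∃ toU : specOver R C ⟶ U, toU = j ≫ s₂ ≫ s₁ := ⟨_, rfl⟩
    have htoU : Etale toU.left := by
      rw [htoU']
      simp only [Over.comp_left]
      infer_instance
    have hCg : EtGlue.IsGlueable R R' f C :=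
      hY C ((AlgSp.yon S).map toU ≫ p) (repWith_comp (repWith_yon_map htoU) pe)
    have hk : (AlgSp.yon S).map k ≫ q = ((AlgSp.yon S).map toU ≫ p) ≫ a.hom := by
      simp only [hk', htoU', Functor.map_comp, Category.assoc]
      rw [sq₁.w]
    have hl : (AlgSp.yon S).map l ≫ q = ((AlgSp.yon S).map toU ≫ p) ≫ b.hom := by
      simp only [hl', htoU', Functor.map_comp, Category.assoc]
      rw [sq₂.w]
    obtain ⟨m, hm⟩ : ∃ m : P₁.left ⟶ (specOver R C).left, m ≫ j.left = ℓ.left := by
      refine ⟨IsOpenImmersion.lift j.left ℓ.left ?_, IsOpenImmersion.lift_fac _ _ _⟩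
      rintro _ ⟨x, rfl⟩
      haveI : Subsingleton ↥(Spec (T₁.left.residueField r)) :=
        inferInstanceAs (Subsingleton (PrimeSpectrum (T₁.left.residueField r)))
      have : x = pt := @Subsingleton.elim ↥(Spec (T₁.left.residueField r)) _ x pt
      refine ⟨e.inv.left z, ?_⟩
      rw [this, hje]
      simp only [Over.comp_left, Scheme.Hom.comp_apply]
      rw [← Scheme.Hom.comp_apply e.inv.left, ← Over.comp_left, e.inv_hom_id]
      exact hz
    have hℓ₁ : ℓ.left ≫ f₂.left = i₁.left ≫ f₁.left := congrArg (fun v => v.left) hl₁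
    have hℓ₂ : ℓ.left ≫ s₂.left = i₁.left := congrArg (fun v => v.left) hl₂
    obtain ⟨ρ₁, hρ₁⟩ : ∃ ρ₁ : CommRingCat.of C ⟶ T₁.left.residueField r, Spec.map ρ₁ = m :=
      ⟨_, Spec.map_preimage m⟩
    obtain ⟨h, hh, h4⟩ := exists_nhd hRR' qe hCg k l (fun {D} _ _ ψ ν => by
      rw [Functor.map_comp (AlgSp.yon S) (specHom ψ) k, Functor.map_comp (AlgSp.yon S) (specHom ψ) l,
        Category.assoc, Category.assoc, hk, hl]
      simp only [← Category.assoc]
      rcases ν with ⟨⟨ν⟩⟩ | ⟨⟨ν⟩⟩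
      · exact hagree₁ ν _
      · exact hagree₂ ν _) ↥(T₁.left.residueField r) ρ₁ (by
      rw [hρ₁, hk', hl']
      simp only [Over.comp_left]
      rw [reassoc_of% hm, reassoc_of% hm, reassoc_of% hℓ₂, hℓ₁])
    refine ⟨specOver R (Localization.Away h), specHom (IsScalarTower.toAlgHom R C (Localization.Away h)) ≫ toU,
      ?_, ?_, ?_⟩
    · haveI : IsOpenImmersion (specHom (IsScalarTower.toAlgHom R C (Localization.Away h))).left :=
        IsOpenImmersion.of_isLocalization (R := CommRingCat.of C) (S := Localization.Away h) h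
      simp only [Over.comp_left]
      infer_instance
    · obtain ⟨χ, hχ⟩ : ∃ χ : Localization.Away h →+* ↥(T₁.left.residueField r),
          χ.comp (algebraMap C (Localization.Away h)) = ρ₁.hom :=
        ⟨_, IsLocalization.Away.lift_comp h (isUnit_iff_ne_zero.mpr hh)⟩
      refine ⟨Spec.map (CommRingCat.ofHom χ) pt, ?_⟩
      have h1 : Spec.map (CommRingCat.ofHom χ) ≫
          (specHom (IsScalarTower.toAlgHom R C (Localization.Away h))).left = m := by
        change Spec.map _ ≫ Spec.map _ = _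
        rw [← Spec.map_comp, ← hρ₁]
        congr 1
        exact CommRingCat.hom_ext hχ
      have h3 : Spec.map (CommRingCat.ofHom χ) ≫
          (specHom (IsScalarTower.toAlgHom R C (Localization.Away h)) ≫ toU).left = i₁.left ≫ s₁.left := by
        rw [Over.comp_left, reassoc_of% h1, htoU']
        simp only [Over.comp_left]
        rw [reassoc_of% hm, reassoc_of% hℓ₂]
      exact ((Scheme.Hom.comp_apply _ _ pt).symm.trans (congrArg (fun v => v pt) h3)).trans
        ((congrArg s₁.left (T₁.left.fromSpecResidueField_apply r pt)).trans hr₂)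
    · have h5 := congrArg (fun v => (AlgSp.yon S).map v ≫ q) h4
      simp only [Functor.map_comp, Category.assoc, hk, hl] at h5
      simpa only [Functor.map_comp, Category.assoc] using h5
  choose T c hc hcov hagree using key
  obtain ⟨v, -, huniq⟩ := exists_hom_of_cover T c (fun t => by have := hc t; infer_instance)
    (fun t => by have := hc t; infer_instance) (fun x => ⟨x, hcov x⟩) (fun t => (AlgSp.yon S).map (c t) ≫ p ≫ a.hom)
    (fun i j Z gi gj hg => by rw [← Functor.map_comp_assoc, hg, Functor.map_comp_assoc])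
  exact (huniq (p ≫ a.hom) fun _ => rfl).trans (huniq (p ≫ b.hom) fun t => (hagree t).symm).symm

end Groth.Agent.S10707
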