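import Groth.Statements.S10708
import Groth.Agent.Lib.AlgSp.ElemChain
import Groth.Agent.Lib.AlgSp.EtaleLocallyProps
import Groth.Agent.Lib.AlgSp.SigmaChart
-- import your own Groth.Agent.* helpers here

set_option autoImplicit false
universe u
open CategoryTheory CategoryTheory.Limits AlgebraicGeometry
open AlgSp GrothLib.AlgSp
set_option backward.isDefEq.respectTransparency false

namespace Groth.Agent.S10708

/-- Let `X` be a Noetherian algebraic space over a quasi-separated base scheme `S` (quasi-compact,
quasi-separated over `S`, locally Noetherian) and `U ⊂ X` a dense open subspace different from `X`.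
Then one can find an etale morphism `V → X` from an affine scheme `V` for which `W = U ∪ Im(V → X)`,
an open subspace, properly contains `U`, the pair `(U ⊂ W, V → W)` forms an elementary distinguished
square, and `U ×_W V → U` has dense image. (The base scheme is taken quasi-separated so that
quasi-separatedness over `S` is the absolute notion.) -/
theorem result {S : Scheme.{u}} [QuasiSeparatedSpace S] {X U : AlgSp.Space S}
    (hqc : AlgSp.IsQuasiCompactSp X.obj) (hqs : AlgSp.IsQuasiSeparatedSp X.obj) (hN : AlgSp.IsLocNoethSp X.obj)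
    (j : U ⟶ X) (hj : AlgSp.RepWith @IsOpenImmersion j.hom) (hdense : Dense (Set.range (AlgSp.Points.map j.hom)))
    (hne : Set.range (AlgSp.Points.map j.hom) ≠ Set.univ) :
    ∃ (V : Over S) (_ : IsAffine V.left) (W : AlgSp.Space S) (jW : W ⟶ X) (jU : U ⟶ W) (φ : (AlgSp.ofScheme S).obj V ⟶ W)
      (P : AlgSp.Space S) (p : P ⟶ U) (q : P ⟶ (AlgSp.ofScheme S).obj V),
      AlgSp.RepWith @Etale (φ ≫ jW).hom ∧ AlgSp.RepWith @IsOpenImmersion jW.hom ∧ jU ≫ jW = j ∧
        Set.range (AlgSp.Points.map jW.hom) =
          Set.range (AlgSp.Points.map j.hom) ∪ Set.range (AlgSp.Points.map (φ ≫ jW).hom) ∧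
        Set.range (AlgSp.Points.map jW.hom) ≠ Set.range (AlgSp.Points.map j.hom) ∧
        AlgSp.IsElemDistSq jU.hom φ.hom ∧ IsPullback p.hom q.hom jU.hom φ.hom ∧ AlgSp.IsDominantMor p.hom := by
  classical
  have hU : IsOpen (Set.range (Points.map j.hom)) := isOpen_range_openImmersion hj
  haveI := mono_of_openImmersion hj
  -- the first step which enlarges the open
  have hfirst : ∀ {A : Set (Points X.obj)}, Relation.ReflTransGen ElemStep A Set.univ → A ≠ Set.univ →
      ∃ (W : Set (Points X.obj)) (V : Over S) (f : (yon S).obj V ⟶ X.obj), IsElemStep A W V f ∧ W ≠ A := by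
    intro A h
    induction h using Relation.ReflTransGen.head_induction_on with
    | refl => exact fun h => absurd rfl h
    | @head A B hAB _ ih =>
      intro hA
      by_cases hB : B = A
      · subst hB; exact ih hA
      · obtain ⟨-, V, f, hs⟩ := hAB
        exact ⟨B, V, f, hs, hB⟩
  have hreach := elemReach_union (elemReach_univ X.property hqc hqs) hU
  rw [Set.empty_union, Set.univ_union] at hreach
  obtain ⟨W₀, V₁, f₁, ⟨hV₁, hf₁, hW₀, hlift⟩, hWne⟩ := hfirst hreach hne
  -- an affine atlas of `U`
  have hUc : IsCompact (Set.range (Points.map j.hom)) := by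
    obtain ⟨B, b, hB, hbe, hbs⟩ := exists_affine_surjective_chart X.property hqc
    haveI := hB
    haveI : IsLocallyNoetherian B.left := etaleLocally_chart (fun _ _ e => isLocallyNoetherian_of_etale e)
      (fun _ _ e => isLocallyNoetherian_desc e) hN b hbe
    haveI : IsNoetherian B.left := ⟨⟩
    have h : IsCompact (Points.ofPt b ⁻¹' Set.range (Points.map j.hom)) := TopologicalSpace.NoetherianSpace.isCompact _
    rw [← Set.image_preimage_eq (Set.range (Points.map j.hom)) (surjective_ofPt_of_repWith hbs)]
    exact h.image (Points.continuous_ofPt b)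
  have hUqc : IsQuasiCompactSp U.obj := isQuasiCompactSp_of_openImmersion U.property hj hUc
  obtain ⟨U₀, a, hU₀, hae, has⟩ := exists_affine_surjective_chart U.property hUqc
  let a' := a ≫ j.hom
  have hae' : RepWith @Etale a' :=
    repWith_comp hae (repWith_mono hj fun _ _ h (_ : IsOpenImmersion h) => (inferInstance : Etale h))
  have har : Set.range (Points.ofPt a') = Set.range (Points.map j.hom) := by
    rw [show Points.ofPt a' = Points.map j.hom ∘ Points.ofPt a from funext fun t => (Points.map_ofPt a j.hom t).symm,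
      Set.range_comp, (surjective_ofPt_of_repWith has).range_eq, Set.image_univ]
  -- the disjoint union of the two charts
  let Y : ULift.{u} Bool → Over S := fun b => cond b.down V₁ U₀
  let g : ∀ b, (yon S).obj (Y b) ⟶ X.obj := fun b => match b with
    | ⟨true⟩ => f₁
    | ⟨false⟩ => a'
  have hge : ∀ b, RepWith @Etale (g b) := fun b => match b with
    | ⟨true⟩ => hf₁
    | ⟨false⟩ => hae'
  haveI : ∀ b, IsAffine (Y b).left := fun b => match b with
    | ⟨true⟩ => hV₁
    | ⟨false⟩ => hU₀
  let V : Over S := sigmaOver Y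
  let inj : ∀ b, Y b ⟶ V := sigmaι Y
  obtain ⟨f, hf, -⟩ := exists_hom_of_sigma Y g
  have hfe : RepWith @Etale f := repWith_sigma X.property.diag Y g f hf @Etale hge
  have hV : IsAffine V.left := inferInstanceAs (IsAffine (∐ fun b => (Y b).left))
  have hsurj : ∀ v : ↥V.left, ∃ b y, (inj b).left y = v := fun v => by
    obtain ⟨b, y, hy⟩ := (sigmaOpenCover fun b => (Y b).left).exists_eq v
    exact ⟨b, y, hy⟩
  have hstep : IsElemStep (Set.range (Points.map j.hom)) W₀ V f := by
    refine ⟨hV, hfe, ?_, fun T γ hγ => ?_⟩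
    · rw [hW₀]
      ext x
      constructor
      · rintro (h | ⟨v, rfl⟩)
        · exact Or.inl h
        · exact Or.inr ⟨(inj ⟨true⟩).left v, by rw [← ofPt_map_comp, hf ⟨true⟩]⟩
      · rintro (h | ⟨v, rfl⟩)
        · exact Or.inl h
        · obtain ⟨⟨b⟩, y, rfl⟩ := hsurj v
          rw [← ofPt_map_comp, hf]
          cases b
          · exact Or.inl (har.subset (Set.mem_range_self y))
          · exact Or.inr (Set.mem_range_self y)
    · obtain ⟨l, hl, hu⟩ := hlift T γ hγ
      refine ⟨l ≫ inj ⟨true⟩, (congrArg (· ≫ f) ((yon S).map_comp _ _)).trans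
        ((Category.assoc _ _ _).trans ((congrArg ((yon S).map l ≫ ·) (hf ⟨true⟩)).trans hl)), fun l' hl' => ?_⟩
      have hr : Set.range l'.left ⊆ Set.range (inj ⟨true⟩).left := by
        rintro _ ⟨t, rfl⟩
        obtain ⟨⟨b⟩, y, hy⟩ := hsurj (l'.left t)
        cases b
        · refine absurd ?_ (hγ t).2
          rw [← hl', ofPt_map_comp, ← hy, ← ofPt_map_comp, hf]
          exact har.subset (Set.mem_range_self y)
        · exact ⟨y, hy⟩
      haveI : IsOpenImmersion (inj ⟨true⟩).left :=
        inferInstanceAs (IsOpenImmersion (Sigma.ι (fun b => (Y b).left) ⟨true⟩))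
      let m : T ⟶ Y ⟨true⟩ := Over.homMk (IsOpenImmersion.lift (inj ⟨true⟩).left l'.left hr) (by
        rw [← Over.w (inj ⟨true⟩), IsOpenImmersion.lift_fac_assoc, Over.w])
      have hm : m ≫ inj ⟨true⟩ = l' := Over.OverMorphism.ext (IsOpenImmersion.lift_fac _ _ _)
      rw [← hm, hu m]
      show (yon S).map m ≫ f₁ = γ
      rw [← hl', ← hm, Functor.map_comp, Category.assoc, hf ⟨true⟩]
  have hWo : IsOpen W₀ := by
    rw [hW₀]; exact hU.union (isOpenMap_ofPt_of_etale hf₁).isOpen_range
  have hjW := repWith_openSubι (F := X.obj) hWo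
  obtain ⟨k, hk⟩ := (exists_factor_iff hjW j.hom).2 (by rw [range_openSubι, hW₀]; exact Set.subset_union_left)
  have hWa := isAlgSpace_openSub X.property hWo
  obtain ⟨f', hf'f, hf', hsq⟩ := exists_elemDistSq_of_step hU hstep hWa
    (repWith_openImmersion_of_comp hjW hj hk) hjW range_openSubι (by rw [hk])
  let W : AlgSp.Space S := ⟨openSub X.obj W₀, hWa⟩
  have hPa : IsAlgSpace (pullback k f') := isAlgSpace_pullback' hWa U.property ((ofScheme S).obj V).property k f'
  refine ⟨V, hV, W, ObjectProperty.homMk (openSubι X.obj W₀), ObjectProperty.homMk k, ObjectProperty.homMk f',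
    ⟨pullback k f', hPa⟩, ObjectProperty.homMk (pullback.fst k f'), ObjectProperty.homMk (pullback.snd k f'),
    ?_, hjW, InducedCategory.Hom.ext hk, ?_, ?_, hsq, IsPullback.of_hasPullback k f', ?_⟩
  · show RepWith @Etale (f' ≫ openSubι X.obj W₀)
    rw [hf'f]; exact hfe
  · show Set.range (Points.map (openSubι X.obj W₀)) = _ ∪ Set.range (Points.map (f' ≫ openSubι X.obj W₀))
    rw [range_openSubι, hf'f, hstep.2.2.1]
    congr 1
    ext x
    constructor
    · rintro ⟨v, rfl⟩; exact ⟨Points.schemeHomeo V v, (Points.ofPt_eq_map_ofScheme _ _).symm⟩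
    · rintro ⟨z, rfl⟩
      obtain ⟨v, rfl⟩ := (Points.schemeHomeo V).surjective z
      exact ⟨v, Points.ofPt_eq_map_ofScheme _ _⟩
  · show Set.range (Points.map (openSubι X.obj W₀)) ≠ _
    rw [range_openSubι]; exact hWne
  · refine Function.Surjective.denseRange fun u => ?_
    obtain ⟨y, rfl⟩ := surjective_ofPt_of_repWith has u
    obtain ⟨q, hq, -⟩ := exists_of_isPullback (IsPullback.of_hasPullback k f') (x := Points.ofPt a y)
      (y := Points.schemeHomeo V ((inj ⟨false⟩).left y)) (by
        haveI := mono_of_openImmersion hjW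
        apply injective_map_of_mono (openSubι X.obj W₀)
        rw [← Points.map_comp, ← Points.map_comp, hk, hf'f, Points.map_ofPt]
        refine Eq.trans ?_ (Points.ofPt_eq_map_ofScheme f ((inj ⟨false⟩).left y))
        rw [← ofPt_map_comp, hf ⟨false⟩])
    exact ⟨q, hq⟩

end Groth.Agent.S10708
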