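import Groth.Statements.S10714
import Groth.Agent.Lib.AlgSp.ThickPushoutProps

set_option autoImplicit false
set_option backward.isDefEq.respectTransparency false
universe u
open CategoryTheory CategoryTheory.Limits AlgebraicGeometry
open AlgSp

namespace Groth.Agent.S10714

/-- Let `t : X → X'` be a thickening and `f : X → Y` an affine morphism of algebraic spaces over `S`
with pushout `Y' = Y ⨿_X X'`, and let `w : W' → Y'` be flat. Then `W'` is the pushout, in the
category of algebraic spaces over `S`, of its base changes `W' ×_{Y'} Y` and `W' ×_{Y'} X'` along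
their common base change to `X`: the counit of the glueing adjunction at `W'` is an isomorphism. -/
theorem result {S : Scheme.{u}} {X X' Y Y' W' WY WX' WX : AlgSp.Space S}
    (t : X ⟶ X') (ht : AlgSp.IsThickMor t.hom) (f : X ⟶ Y) (hf : AlgSp.IsAffineMor f.hom) (f' : X' ⟶ Y')
    (t' : Y ⟶ Y') (hY' : IsPushout t f f' t') (w : W' ⟶ Y') (hw : AlgSp.LocP @Flat w.hom) (aY : WY ⟶ W')
    (bY : WY ⟶ Y) (hWY : IsPullback aY.hom bY.hom w.hom t'.hom) (aX' : WX' ⟶ W') (bX' : WX' ⟶ X')
    (hWX' : IsPullback aX'.hom bX'.hom w.hom f'.hom) (cY : WX ⟶ WY) (cX' : WX ⟶ WX') (bX : WX ⟶ X)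
    (hWX₁ : IsPullback cY.hom bX.hom bY.hom f.hom) (hWX₂ : IsPullback cX'.hom bX.hom bX'.hom t.hom)
    (hcomm : cY ≫ aY = cX' ≫ aX') :
    IsPushout cY cX' aY aX' := by
  obtain ⟨V₀, v₀, ve₀, vs₀⟩ := Y.property.atlas
  obtain ⟨c, -⟩ := GrothLib.AlgSp.ThickPushout.exists_chart ht hf v₀ ve₀ vs₀
  obtain ⟨M, a, b, π, hP, πe, πs, sqX, sqY, -⟩ := GrothLib.AlgSp.ThickPushout.exists_structure ht hf hY' c
  haveI := (c.thick_i ht).1
  haveI := (c.thick_i ht).2
  haveI := c.affine_j hf
  have hC := c.covered ht hf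
  -- an atlas of `W'` over the chart
  have sqP := IsPullback.of_hasPullback w.hom π
  obtain ⟨N, p, pe, ps⟩ :=
    (GrothLib.AlgSp.isAlgSpace_pullback' Y'.property W'.property (AlgSp.IsAlgSpace.yon_obj M) w.hom π).atlas
  obtain ⟨n, hn⟩ := (AlgSp.yon S).map_surjective (p ≫ pullback.snd w.hom π)
  obtain ⟨πN, hπN⟩ : ∃ πN, πN = p ≫ pullback.fst w.hom π := ⟨_, rfl⟩
  have πNe : AlgSp.RepWith @Etale πN :=
    hπN ▸ GrothLib.AlgSp.repWith_comp pe (GrothLib.AlgSp.repWith_of_isPullback sqP.flip πe)
  have πNs : AlgSp.RepWith @Surjective πN :=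
    hπN ▸ GrothLib.AlgSp.repWith_comp ps (GrothLib.AlgSp.repWith_of_isPullback sqP.flip πs)
  have hN : πN ≫ w.hom = (AlgSp.yon S).map n ≫ π := by rw [hπN, hn, Category.assoc, pullback.condition, Category.assoc]
  haveI : Flat n.left := hw πN π n πNe πe hN
  -- base changes
  haveI : IsAffineHom a.left :=
    GrothLib.Pushout6.prop_left @IsAffineHom hC hP (GrothLib.Pushout6.isAffineHom_inl hC)
  haveI : IsClosedImmersion b.left := GrothLib.Pushout6.isClosedImmersion_right hC hP
  have pX := GrothLib.AlgSp.isPullback_left (IsPullback.of_hasPullback n a)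
  have pY := GrothLib.AlgSp.isPullback_left (IsPullback.of_hasPullback n b)
  have pC := GrothLib.AlgSp.isPullback_left (IsPullback.of_hasPullback c.i (pullback.snd n a))
  have hab : c.i ≫ a = c.j ≫ b := Over.OverMorphism.ext hP.w
  obtain ⟨j₀, hj₀a, hj₀b⟩ : ∃ j₀ : pullback c.i (pullback.snd n a) ⟶ pullback n b,
      j₀ ≫ pullback.fst n b = pullback.snd c.i (pullback.snd n a) ≫ pullback.fst n a ∧
      j₀ ≫ pullback.snd n b = pullback.fst c.i (pullback.snd n a) ≫ c.j := by
    refine ⟨pullback.lift _ _ ?_, pullback.lift_fst _ _ _, pullback.lift_snd _ _ _⟩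
    rw [Category.assoc, pullback.condition, ← pullback.condition_assoc, hab, Category.assoc]
  have hsq := GrothLib.Pushout6.isPushout_baseChange (𝟙 M.left) n.left hC hP (Or.inl inferInstance)
    (IsPullback.of_vert_isIso ⟨by simp⟩ : IsPullback n.left (𝟙 _) (𝟙 M.left) n.left) pX.flip pY.flip pC
    (congrArg (fun z => z.left) hj₀b) (congrArg (fun z => z.left) hj₀a.symm)
  haveI : IsClosedImmersion (pullback.snd c.i (pullback.snd n a)).left :=
    MorphismProperty.of_isPullback pC inferInstance
  haveI : Surjective (pullback.snd c.i (pullback.snd n a)).left :=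
    MorphismProperty.of_isPullback pC ‹Surjective c.i.left›
  haveI : IsAffineHom j₀.left := by
    haveI : IsAffineHom (pullback.fst n a).left := MorphismProperty.of_isPullback pX.flip inferInstance
    haveI : IsClosedImmersion (pullback.fst n b).left := MorphismProperty.of_isPullback pY.flip inferInstance
    have h1 : j₀.left ≫ (pullback.fst n b).left =
        (pullback.snd c.i (pullback.snd n a)).left ≫ (pullback.fst n a).left := congrArg (fun z => z.left) hj₀a
    haveI : IsAffineHom (j₀.left ≫ (pullback.fst n b).left) := by rw [h1]; infer_instance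
    exact IsAffineHom.of_comp j₀.left (pullback.fst n b).left
  obtain ⟨u'', hu₁, hu₂⟩ := hWX'.exists_lift ((AlgSp.yon S).map (pullback.fst n a) ≫ πN)
    ((AlgSp.yon S).map (pullback.snd n a) ≫ c.u') (by
      rw [Category.assoc, hN, Category.assoc, sqX.w, ← Functor.map_comp_assoc, ← Functor.map_comp_assoc,
        pullback.condition])
  obtain ⟨v'', hv₁, hv₂⟩ := hWY.exists_lift ((AlgSp.yon S).map (pullback.fst n b) ≫ πN)
    ((AlgSp.yon S).map (pullback.snd n b) ≫ c.v) (by
      rw [Category.assoc, hN, Category.assoc, sqY.w, ← Functor.map_comp_assoc, ← Functor.map_comp_assoc,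
        pullback.condition])
  obtain ⟨uC, hC₁, hC₂⟩ := hWX₂.exists_lift ((AlgSp.yon S).map (pullback.snd c.i (pullback.snd n a)) ≫ u'')
    ((AlgSp.yon S).map (pullback.fst c.i (pullback.snd n a)) ≫ c.u) (by
      rw [Category.assoc, hu₂, Category.assoc, c.sqi.w, ← Functor.map_comp_assoc, ← Functor.map_comp_assoc,
        pullback.condition])
  have hw' : cX' ≫ aX' = cY ≫ aY := hcomm.symm
  have hcomm' : cY.hom ≫ aY.hom = cX'.hom ≫ aX'.hom := congrArg (fun z => z.hom) hcomm
  refine (GrothLib.AlgSp.PushoutAtlas.isPushout_of_atlas cX' cY aX' aY hw' (pullback.snd c.i (pullback.snd n a))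
    j₀ (pullback.fst n a) (pullback.fst n b) hsq πN πNe πNs uC u'' v'' hC₁ ?_ ?_ ?_).flip
  · apply hWY.hom_ext
    · rw [Category.assoc, hcomm', ← Category.assoc, hC₁, Category.assoc, hu₁, Category.assoc, hv₁,
        ← Functor.map_comp_assoc, ← Functor.map_comp_assoc, hj₀a]
    · rw [Category.assoc, hWX₁.w, ← Category.assoc, hC₂, Category.assoc, c.sqj.w, Category.assoc, hv₂,
        ← Functor.map_comp_assoc, ← Functor.map_comp_assoc, hj₀b]
  · refine IsPullback.of_right ?_ hu₁ hWX'.flip
    rw [hu₂, hN]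
    exact (GrothLib.AlgSp.isPullback_yon (IsPullback.of_hasPullback n a)).flip.paste_horiz sqX
  · refine IsPullback.of_right ?_ hv₁ hWY.flip
    rw [hv₂, hN]
    exact (GrothLib.AlgSp.isPullback_yon (IsPullback.of_hasPullback n b)).flip.paste_horiz sqY

end Groth.Agent.S10714
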