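import Groth.Statements.S10716
import Groth.Agent.Lib.AlgSp.SigmaChart
import Groth.Agent.Lib.AlgSp.PointsUniv
import Groth.Agent.Lib.AlgSp.ThickPres
import Groth.Agent.Lib.AlgSp.Strata
-- import your own Groth.Agent.* helpers here

set_option autoImplicit false
universe w v u
open CategoryTheory CategoryTheory.Limits AlgebraicGeometry
open AlgSp GrothLib.AlgSp
set_option backward.isDefEq.respectTransparency false

namespace Groth.Agent.S10716

/-- Let `D : I ⥤ Over S` be a diagram of schemes over `S` with a cocone `c` such that (1) `c` is a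
colimit in the category of schemes, (2) the coprojections are jointly surjective, (3) for every
etale `U → c.pt` and every cocone of cartesian squares `U_i = D_i ×_{c.pt} U`, `U` is the colimit of
the `U_i` in the category of schemes, and (4) every equifibered system of separated etale morphisms
`U_i → D_i` (all transition squares cartesian) comes from some etale `U → c.pt` by base change. Then
the image of `c` in algebraic spaces over `S` is a colimit there. -/
theorem result {S : Scheme.{u}} {I : Type v} [Category.{w} I] (D : I ⥤ Over S) (c : Cocone D)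
    (h₁ : IsColimit ((Over.forget S).mapCocone c))
    (h₂ : ∀ x : ↥c.pt.left, ∃ (i : I) (y : ↥(D.obj i).left), (c.ι.app i).left y = x)
    (h₃ : ∀ (D' : I ⥤ Over S) (α : D' ⟶ D) (c' : Cocone D') (a : c'.pt ⟶ c.pt), Etale a.left →
      (∀ i, IsPullback (c'.ι.app i) (α.app i) a (c.ι.app i)) → Nonempty (IsColimit ((Over.forget S).mapCocone c')))
    (h₄ : ∀ (D' : I ⥤ Over S) (α : D' ⟶ D), NatTrans.Equifibered α → (∀ i, Etale (α.app i).left) →
      (∀ i, IsSeparated (α.app i).left) →
      ∃ (c' : Cocone D') (a : c'.pt ⟶ c.pt), Etale a.left ∧ ∀ i, IsPullback (c'.ι.app i) (α.app i) a (c.ι.app i)) :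
    Nonempty (IsColimit ((AlgSp.ofScheme S).mapCocone c)) := by
  -- descent data along separated etale atlases
  have key : ∀ (s : Cocone (D ⋙ AlgSp.ofScheme S)), ∃ g : (yon S).obj c.pt ⟶ s.pt.obj,
      ∀ i, (yon S).map (c.ι.app i) ≫ g = (s.ι.app i).hom := by
    intro s
    let Y := s.pt
    let φ : ∀ i, (yon S).obj (D.obj i) ⟶ Y.obj := fun i => (s.ι.app i).hom
    have hφ : ∀ {i j : I} (g : i ⟶ j), (yon S).map (D.map g) ≫ φ j = φ i := fun g =>
      congrArg InducedCategory.Hom.hom (s.w g)
    obtain ⟨ι, V, r, hV, hr, hcov, -⟩ := exists_affine_charts Y.property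
    obtain ⟨q, hq, -⟩ := exists_hom_of_sigma V r
    have hqe : RepWith @Etale q := repWith_sigma Y.property.diag V r q hq @Etale hr
    have hqs : RepWith @Surjective q := repWith_surjective_of_ofPt hqe.1 fun x => by
      obtain ⟨i, v, rfl⟩ := hcov x
      exact ⟨(sigmaι V i).left v, by rw [← hq i, ofPt_map_comp]⟩
    haveI hZsep : IsSeparated (sigmaOver V).hom := isSeparated_sigmaOver V fun i => by
      haveI := hV i
      haveI : IsSeparated ((V i).hom ≫ terminal.from S) := by
        rw [terminal.comp_from]; infer_instance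
      exact IsSeparated.of_comp (V i).hom (terminal.from S)
    choose U' z' α' sq' using fun i => exists_isPullback_of_representable hqe.1 (φ i)
    obtain ⟨z, hz⟩ : ∃ z : ∀ i, U' i ⟶ sigmaOver V, ∀ i, (yon S).map (z i) = z' i :=
      ⟨fun i => (yon S).preimage (z' i), fun i => (yon S).map_preimage _⟩
    have sqz : ∀ i, IsPullback ((yon S).map (z i)) ((yon S).map (α' i)) q (φ i) := fun i => (hz i).symm ▸ sq' i
    have hm : ∀ {i j : I} (g : i ⟶ j), ∃ m : U' i ⟶ U' j, m ≫ z j = z i ∧ m ≫ α' j = α' i ≫ D.map g := by
      intro i j g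
      refine ⟨(yon S).preimage ((sqz j).lift ((yon S).map (z i)) ((yon S).map (α' i ≫ D.map g))
        (by rw [(sqz i).w, Functor.map_comp, Category.assoc, hφ])), ?_, ?_⟩
      all_goals apply (yon S).map_injective; simp
    choose m hm₁ hm₂ using @hm
    have hext : ∀ {T : Over S} (i : I) (u v : T ⟶ U' i), u ≫ z i = v ≫ z i → u ≫ α' i = v ≫ α' i → u = v :=
      fun i u v h₁ h₂ => (yon S).map_injective ((sqz i).hom_ext
        (by rw [← Functor.map_comp, ← Functor.map_comp, h₁]) (by rw [← Functor.map_comp, ← Functor.map_comp, h₂]))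
    let D' : I ⥤ Over S :=
      { obj := U'
        map := fun g => m g
        map_id := fun i => hext i _ _ (by rw [hm₁, Category.id_comp]) (by
          rw [hm₂, D.map_id, Category.comp_id, Category.id_comp])
        map_comp := fun {i j l} g g' => hext l _ _ (by rw [hm₁, Category.assoc, hm₁, hm₁]) (by
          rw [hm₂, D.map_comp, Category.assoc, hm₂, reassoc_of% (hm₂ g)]) }
    let α : D' ⟶ D := { app := α', naturality := fun i j g => hm₂ g }
    have heq : NatTrans.Equifibered α := fun i j g => by
      refine IsPullback.of_map (yon S) (hm₂ g) ?_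
      refine IsPullback.of_right ?_ (by rw [← Functor.map_comp, ← Functor.map_comp]; exact congrArg _ (hm₂ g))
        (sqz j)
      rw [← Functor.map_comp, show D'.map g ≫ z j = z i from hm₁ g, hφ]
      exact sqz i
    have hαe : ∀ i, Etale (α.app i).left := fun i => hqe.2 _ _ _ (sqz i)
    have hαs : ∀ i, IsSeparated (α.app i).left := fun i => by
      let fD := Over.mkIdTerminal.from (D.obj i)
      let fZ := Over.mkIdTerminal.from (sigmaOver V)
      haveI : IsSeparated fZ.left := by
        have e : fZ.left = (sigmaOver V).hom := by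
          have := Over.w fZ
          exact (Category.comp_id _).symm.trans this
        rw [e]; exact hZsep
      haveI : IsSeparated (pullback.fst fD fZ).left :=
        MorphismProperty.of_isPullback (isPullback_left (IsPullback.of_hasPullback fD fZ)).flip ‹IsSeparated fZ.left›
      let p : U' i ⟶ pullback fD fZ := pullback.lift (α' i) (z i) (Over.mkIdTerminal.hom_ext _ _)
      haveI : Mono p := ⟨fun u v h => hext i u v
        (by simpa [p] using congrArg (fun t => t ≫ pullback.snd fD fZ) h)
        (by simpa [p] using congrArg (fun t => t ≫ pullback.fst fD fZ) h)⟩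
      haveI : Mono p.left := inferInstanceAs (Mono ((Over.forget S).map p))
      have e : (α' i).left = p.left ≫ (pullback.fst fD fZ).left := by
        rw [← Over.comp_left, pullback.lift_fst]
      show IsSeparated (α' i).left
      rw [e]; infer_instance
    obtain ⟨c', a, hae, hsq⟩ := h₄ D' α heq hαe hαs
    obtain ⟨hc'⟩ := h₃ D' α c' a hae hsq
    -- the map to the atlas
    let cz : Cocone (D' ⋙ Over.forget S) :=
      { pt := (sigmaOver V).left
        ι := { app := fun i => (z i).left
               naturality := fun i j g => (congrArg (fun t : U' i ⟶ sigmaOver V => t.left) (hm₁ g)).trans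
                 (Category.comp_id _).symm } }
    have hzl : ∀ i, (c'.ι.app i).left ≫ hc'.desc cz = (z i).left := fun i => hc'.fac cz i
    let zU : c'.pt ⟶ sigmaOver V := Over.homMk (hc'.desc cz) (hc'.hom_ext fun i => by
      show (c'.ι.app i).left ≫ hc'.desc cz ≫ (sigmaOver V).hom = (c'.ι.app i).left ≫ c'.pt.hom
      rw [reassoc_of% (hzl i), Over.w]
      exact (Over.w (c'.ι.app i)).symm)
    have hzU : ∀ i, c'.ι.app i ≫ zU = z i := fun i => Over.OverMorphism.ext (hzl i)
    haveI : Etale a.left := hae
    haveI : Surjective a.left := ⟨fun x => by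
      obtain ⟨i, y, rfl⟩ := h₂ x
      haveI : Surjective (α' i).left := hqs.2 _ _ _ (sqz i)
      obtain ⟨w, rfl⟩ := (α' i).left.surjective y
      exact ⟨(c'.ι.app i).left w, congrArg (fun t : U' i ⟶ c.pt => t.left w) (hsq i).w⟩⟩
    -- the relation
    let R := pullback a a
    let D'' : I ⥤ Over S :=
      { obj := fun i => pullback (α' i) (α' i)
        map := fun {i j} g => pullback.map _ _ _ _ (m g) (m g) (D.map g) (hm₂ g).symm (hm₂ g).symm
        map_id := fun i => by
          ext1 <;> simp [show m (𝟙 i) = 𝟙 _ from D'.map_id i]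
        map_comp := fun {i j l} g g' => by
          ext1 <;> simp [show m (g ≫ g') = m g ≫ m g' from D'.map_comp g g'] }
    let α'' : D'' ⟶ D :=
      { app := fun i => pullback.fst (α' i) (α' i) ≫ α' i
        naturality := fun i j g => by simp [D'', hm₂] }
    let c'' : Cocone D'' :=
      { pt := R
        ι :=
          { app := fun i => pullback.map _ _ _ _ (c'.ι.app i) (c'.ι.app i) (c.ι.app i) (hsq i).w.symm (hsq i).w.symm
            naturality := fun i j g => by
              apply pullback.hom_ext <;> simp [D'', R] <;> exact congrArg _ (c'.w g) } }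
    have hsq'' : ∀ i, IsPullback (c''.ι.app i) (α''.app i) (pullback.fst a a ≫ a) (c.ι.app i) := fun i => by
      have big : IsPullback (pullback.fst (α' i) (α' i) ≫ c'.ι.app i) (pullback.snd (α' i) (α' i)) a
          (c'.ι.app i ≫ a) := by
        have := (IsPullback.of_hasPullback (α' i) (α' i)).paste_horiz (hsq i)
        rwa [← (hsq i).w] at this
      have A : IsPullback (c''.ι.app i) (pullback.snd (α' i) (α' i)) (pullback.snd a a) (c'.ι.app i) := by
        refine IsPullback.of_right ?_ (by simp [c'']) (IsPullback.of_hasPullback a a)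
        simpa [c''] using big
      have := A.paste_vert (hsq i)
      rw [← pullback.condition] at this
      convert this using 1
      simp [α'', pullback.condition, D', α]
    haveI : Etale (pullback.fst a a).left :=
      MorphismProperty.of_isPullback (isPullback_left (IsPullback.of_hasPullback a a)).flip hae
    obtain ⟨hc''⟩ := h₃ D'' α'' c'' (pullback.fst a a ≫ a)
      (inferInstanceAs (Etale ((pullback.fst a a).left ≫ a.left))) hsq''
    obtain ⟨W, t₁, t₂, sqW⟩ := exists_isPullback_yon Y.property.diag q q
    have hk' : ∀ i, ∃ k : pullback (α' i) (α' i) ⟶ W, k ≫ t₁ = pullback.fst _ _ ≫ z i ∧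
        k ≫ t₂ = pullback.snd _ _ ≫ z i := by
      intro i
      refine ⟨(yon S).preimage (sqW.lift ((yon S).map (pullback.fst _ _ ≫ z i))
        ((yon S).map (pullback.snd _ _ ≫ z i)) (by
          rw [Functor.map_comp, Functor.map_comp, Category.assoc, Category.assoc, (sqz i).w,
            ← Functor.map_comp_assoc, ← Functor.map_comp_assoc, pullback.condition])), ?_, ?_⟩
      all_goals apply (yon S).map_injective; simp
    choose k' hk₁ hk₂ using hk'
    have hextW : ∀ {T : Over S} (u v : T ⟶ W), u ≫ t₁ = v ≫ t₁ → u ≫ t₂ = v ≫ t₂ → u = v :=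
      fun u v h₁ h₂ => (yon S).map_injective (sqW.hom_ext
        (by rw [← Functor.map_comp, ← Functor.map_comp, h₁]) (by rw [← Functor.map_comp, ← Functor.map_comp, h₂]))
    have hk'n : ∀ {i j : I} (g : i ⟶ j), D''.map g ≫ k' j = k' i := fun {i j} g => hextW _ _
      (by simp [D'', hk₁, hm₁]) (by simp [D'', hk₂, hm₁])
    let cW : Cocone (D'' ⋙ Over.forget S) :=
      { pt := W.left
        ι := { app := fun i => (k' i).left
               naturality := fun i j g => (congrArg (fun t : D''.obj i ⟶ W => t.left) (hk'n g)).trans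
                 (Category.comp_id _).symm } }
    have hkl : ∀ i, (c''.ι.app i).left ≫ hc''.desc cW = (k' i).left := fun i => hc''.fac cW i
    let k : R ⟶ W := Over.homMk (hc''.desc cW) (hc''.hom_ext fun i => by
      show (c''.ι.app i).left ≫ hc''.desc cW ≫ W.hom = (c''.ι.app i).left ≫ R.hom
      rw [reassoc_of% (hkl i), Over.w]
      exact (Over.w (c''.ι.app i)).symm)
    have hk : ∀ i, c''.ι.app i ≫ k = k' i := fun i => Over.OverMorphism.ext (hkl i)
    have e₁ : k ≫ t₁ = pullback.fst a a ≫ zU := Over.OverMorphism.ext (hc''.hom_ext fun i => by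
      show (c''.ι.app i).left ≫ (k ≫ t₁).left = (c''.ι.app i).left ≫ (pullback.fst a a ≫ zU).left
      rw [← Over.comp_left, ← Over.comp_left, reassoc_of% (hk i), hk₁]
      simp [c'', hzU])
    have e₂ : k ≫ t₂ = pullback.snd a a ≫ zU := Over.OverMorphism.ext (hc''.hom_ext fun i => by
      show (c''.ι.app i).left ≫ (k ≫ t₂).left = (c''.ι.app i).left ≫ (pullback.snd a a ≫ zU).left
      rw [← Over.comp_left, ← Over.comp_left, reassoc_of% (hk i), hk₂]
      simp [c'', hzU])
    haveI := chart_isLocallySurjective ((repWith_yon_map_iff @Etale a).2 hae)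
      ((repWith_yon_map_iff @Surjective a).2 inferInstance)
    haveI := IsRegularEpiCategory.regularEpiOfEpi (C := Sp S) ((yon S).map a)
    obtain ⟨g, hg⟩ := IsRegularEpi.exists_of_isKernelPair ((yon S).map a)
      ((IsPullback.of_hasPullback a a).map (yon S)) ((yon S).map zU ≫ q) (by
        rw [← Functor.map_comp_assoc, ← Functor.map_comp_assoc, ← e₁, ← e₂, Functor.map_comp, Functor.map_comp,
          Category.assoc, Category.assoc, sqW.w])
    refine ⟨g, fun i => ?_⟩
    haveI := chart_isLocallySurjective ((repWith_yon_map_iff @Etale (α' i)).2 (hαe i))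
      ((repWith_yon_map_iff @Surjective (α' i)).2 (hqs.2 _ _ _ (sqz i)))
    rw [← cancel_epi ((yon S).map (α' i)), ← Functor.map_comp_assoc]
    rw [show α' i ≫ c.ι.app i = c'.ι.app i ≫ a from (hsq i).w.symm, Functor.map_comp, Category.assoc, hg,
      ← Functor.map_comp_assoc, hzU]
    exact (sqz i).w
  have uniq : ∀ {Y : AlgSp.Space S} (g g' : (yon S).obj c.pt ⟶ Y.obj),
      (∀ i, (yon S).map (c.ι.app i) ≫ g = (yon S).map (c.ι.app i) ≫ g') → g = g' := by
    intro Y g g' h
    obtain ⟨E, fst, snd, sq⟩ := exists_isPullback_of_representable Y.property.diag (prod.lift g g')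
    have hl : ∀ i, ∃ l : D.obj i ⟶ E, l ≫ snd = c.ι.app i := fun i => by
      refine ⟨(yon S).preimage (sq.lift ((yon S).map (c.ι.app i) ≫ g) ((yon S).map (c.ι.app i)) ?_), ?_⟩
      · ext <;> simp [h i]
      · apply (yon S).map_injective; simp
    choose l hl using hl
    haveI : Mono ((yon S).map snd) :=
      ⟨fun u v h => sq.hom_ext ((cancel_mono (Limits.diag Y.obj)).1 (by
        rw [Category.assoc, Category.assoc, sq.w, reassoc_of% h])) h⟩
    have hln : ∀ {i j : I} (g : i ⟶ j), D.map g ≫ l j = l i := fun {i j} g => (yon S).map_injective (by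
      rw [← cancel_mono ((yon S).map snd), ← Functor.map_comp, ← Functor.map_comp, Category.assoc, hl, hl, c.w])
    let cE : Cocone (D ⋙ Over.forget S) :=
      { pt := E.left
        ι := { app := fun i => (l i).left
               naturality := fun i j g => (congrArg (fun t : D.obj i ⟶ E => t.left) (hln g)).trans
                 (Category.comp_id _).symm } }
    have hE : ∀ i, (c.ι.app i).left ≫ h₁.desc cE = (l i).left := fun i => h₁.fac cE i
    have hs : h₁.desc cE ≫ snd.left = 𝟙 _ := h₁.hom_ext fun i => by
      show (c.ι.app i).left ≫ h₁.desc cE ≫ snd.left = (c.ι.app i).left ≫ 𝟙 _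
      rw [reassoc_of% (hE i), ← Over.comp_left, hl, Category.comp_id]
    let t : c.pt ⟶ E := Over.homMk (h₁.desc cE) (by rw [← Over.w snd, reassoc_of% hs])
    have ht : t ≫ snd = 𝟙 _ := Over.OverMorphism.ext hs
    have e : prod.lift g g' = ((yon S).map t ≫ fst) ≫ Limits.diag Y.obj := by
      rw [Category.assoc, sq.w, ← Functor.map_comp_assoc, ht, CategoryTheory.Functor.map_id, Category.id_comp]
    have e₁ := congrArg (fun m => m ≫ (prod.fst : Y.obj ⨯ Y.obj ⟶ _)) e
    have e₂ := congrArg (fun m => m ≫ (prod.snd : Y.obj ⨯ Y.obj ⟶ _)) e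
    simp only [prod.lift_fst, prod.lift_snd, Category.assoc, Category.comp_id] at e₁ e₂
    rw [e₁, e₂]
  choose g hg using key
  exact ⟨{
    desc := fun s => ObjectProperty.homMk (g s)
    fac := fun s i => ObjectProperty.hom_ext _ (hg s i)
    uniq := fun s m hm => ObjectProperty.hom_ext _ (uniq m.hom (g s) fun i =>
      (congrArg InducedCategory.Hom.hom (hm i)).trans (hg s i).symm) }⟩

end Groth.Agent.S10716
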