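import Groth.Statements.S10719
import Groth.Agent.Lib.AlgSp.FpqcSheaf
-- import your own Groth.Agent.* helpers here

set_option autoImplicit false
universe w v u
open CategoryTheory CategoryTheory.Limits AlgebraicGeometry
open AlgSp GrothLib.AlgSp
set_option backward.isDefEq.respectTransparency false

namespace Groth.Agent.S10719

section Helpers

variable {S : Scheme.{u}} {B : AlgSp.Space S} {I : Type v} [Category.{w} I] {D : I ⥤ Over B} {c : Cocone D}

theorem hom_ext_pullback_cover {ι : Type u} {T : Sp S} {Ti : ι → Sp S} {g : ∀ i, Ti i ⟶ T}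
    (hg : IsFpqcCover Ti g) {F Q : Sp S} (_hF : IsAlgSpace F) (hQ : IsAlgSpace Q) (f : F ⟶ T) {β β' : F ⟶ Q}
    (h : ∀ i, pullback.snd (g i) f ≫ β = pullback.snd (g i) f ≫ β') : β = β' := by
  refine hom_ext fun Z p => ?_
  obtain ⟨κ, O, j, hO, hj, hcov⟩ := exists_affine_open_cover Z
  refine (exists_hom_of_etale O j (fun a => have := hj a; inferInstance) hcov
    (fun a => (AlgSp.yon S).map (j a) ≫ p ≫ β') fun a a' W k k' e => by
      rw [← Functor.map_comp_assoc, ← Functor.map_comp_assoc, e]).unique (fun a => ?_) fun a => rfl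
  obtain ⟨κ', W, cW, hc, hl⟩ := haveI := hO a; exists_lifts_affine hg (O a) ((AlgSp.yon S).map (j a) ≫ p ≫ f)
  refine hom_ext_fpqc hQ.diag hc fun w => ?_
  obtain ⟨i, l, e⟩ := hl w
  let r := pullback.lift l ((AlgSp.yon S).map (cW w) ≫ (AlgSp.yon S).map (j a) ≫ p)
    (by rw [e, Category.assoc, Category.assoc])
  have hr : r ≫ pullback.snd (g i) f = (AlgSp.yon S).map (cW w) ≫ (AlgSp.yon S).map (j a) ≫ p := pullback.lift_snd _ _ _
  simp only [← reassoc_of% hr, h i]

variable {U : Over B}

/-- Base change of a diagram along a map to the vertex of a cocone. -/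
noncomputable def bcDiag (u : U ⟶ c.pt) : I ⥤ Over B where
  obj i := Over.mk (Y := (⟨pullback u.left.hom (c.ι.app i).left.hom,
      isAlgSpace_pullback' c.pt.left.property U.left.property (D.obj i).left.property _ _⟩ : AlgSp.Space S))
    (ObjectProperty.homMk (pullback.snd _ _ ≫ (D.obj i).hom.hom))
  map {i j} f := Over.homMk (ObjectProperty.homMk (pullback.map _ _ _ _ (𝟙 _) (D.map f).left.hom (𝟙 _)
      (by simp) (by rw [Category.comp_id]; exact (congrArg (fun e => e.left.hom) (c.w f)).symm))) (by
      refine ObjectProperty.hom_ext _ ?_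
      refine (pullback.lift_snd_assoc _ _ _ _).trans ?_
      rw [Category.assoc]
      exact congrArg (pullback.snd _ _ ≫ ·) (congrArg InducedCategory.Hom.hom (Over.w (D.map f))))
  map_id i := Over.OverMorphism.ext (ObjectProperty.hom_ext _ (pullback.hom_ext (by simp [pullback.map]) (by simp [pullback.map])))
  map_comp f f' := Over.OverMorphism.ext (ObjectProperty.hom_ext _
    (pullback.hom_ext (by simp [pullback.map]) (by simp [pullback.map])))

/-- The projection to the diagram. -/
noncomputable def bcα (u : U ⟶ c.pt) : bcDiag u ⟶ D where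
  app i := Over.homMk (ObjectProperty.homMk (pullback.snd _ _)) rfl
  naturality i j f := Over.OverMorphism.ext (ObjectProperty.hom_ext _ (pullback.lift_snd _ _ _))

/-- The projection to the base. -/
noncomputable def bcι (u : U ⟶ c.pt) : bcDiag u ⟶ (Functor.const I).obj U where
  app i := Over.homMk (ObjectProperty.homMk (pullback.fst _ _)) (by
    refine ObjectProperty.hom_ext _ ?_
    change pullback.fst _ _ ≫ U.hom.hom = pullback.snd _ _ ≫ (D.obj i).hom.hom
    rw [← congrArg InducedCategory.Hom.hom (Over.w u), ← congrArg InducedCategory.Hom.hom (Over.w (c.ι.app i))]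
    exact (Category.assoc _ _ _).symm.trans ((congrArg (· ≫ c.pt.hom.hom) pullback.condition).trans
      (Category.assoc _ _ _)))
  naturality i j f := Over.OverMorphism.ext (ObjectProperty.hom_ext _
    ((pullback.lift_fst _ _ _).trans (Category.comp_id _) |>.trans (Category.comp_id _).symm))

end Helpers

/-- Let `B` be an algebraic space over `S`, `D : I ⥤ Over B` a diagram of algebraic spaces over `B` with
a cocone `c`, and `{U_a → c.pt}` an fpqc covering (by algebraic spaces over `B`). If (1) for every
`a`, every cocone of cartesian squares `D_i ×_{c.pt} U_a → U_a` is a colimit in algebraic spaces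
over `B`, and (2) the same holds for every fibre product `U_a ×_{c.pt} U_b`, then `c` is a colimit
in algebraic spaces over `B`. -/
theorem result {S : Scheme.{u}} {B : AlgSp.Space S} {I : Type v} [Category.{w} I] (D : I ⥤ Over B)
    (c : Cocone D) {κ : Type u} (Ua : κ → Over B) (ua : ∀ a, Ua a ⟶ c.pt)
    (hcov : AlgSp.IsFpqcCover (fun a => (Ua a).left.obj) (fun a => (ua a).left.hom))
    (h₁ : ∀ (a : κ) (Da : I ⥤ Over B) (α : Da ⟶ D) (ι : Da ⟶ (Functor.const I).obj (Ua a)),
      (∀ i, IsPullback (ι.app i).left.hom (α.app i).left.hom (ua a).left.hom (c.ι.app i).left.hom) →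
        Nonempty (IsColimit (Cocone.mk (Ua a) ι)))
    (h₂ : ∀ (a b : κ) (Uab : Over B) (pa : Uab ⟶ Ua a) (pb : Uab ⟶ Ua b),
      IsPullback pa.left.hom pb.left.hom (ua a).left.hom (ua b).left.hom →
      ∀ (Dab : I ⥤ Over B) (α : Dab ⟶ D) (ι : Dab ⟶ (Functor.const I).obj Uab),
        (∀ i, IsPullback (ι.app i).left.hom (α.app i).left.hom (pa ≫ ua a).left.hom (c.ι.app i).left.hom) →
          Nonempty (IsColimit (Cocone.mk Uab ι))) :
    Nonempty (IsColimit c) := by
  have hex : ∀ {U : Over B} (u : U ⟶ c.pt), ∃ (Du : I ⥤ Over B) (α : Du ⟶ D)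
      (ι : Du ⟶ (Functor.const I).obj U),
      ∀ i, IsPullback (ι.app i).left.hom (α.app i).left.hom u.left.hom (c.ι.app i).left.hom := fun u =>
    ⟨bcDiag u, bcα u, bcι u, fun i => IsPullback.of_hasPullback _ _⟩
  have hm : ∀ (a : κ) (s : Cocone D), ∃ m : Ua a ⟶ s.pt,
      ∀ i, (bcι (c := c) (ua a)).app i ≫ m = (bcα (ua a)).app i ≫ s.ι.app i := fun a s => by
    obtain ⟨hc⟩ := h₁ a _ (bcα (ua a)) (bcι (ua a)) fun i => IsPullback.of_hasPullback _ _
    exact ⟨hc.desc (Cocone.mk s.pt (bcα (ua a) ≫ s.ι)), fun i => hc.fac _ i⟩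
  choose m hm using hm
  have hglue : ∀ s : Cocone D, ∃ β : c.pt.left.obj ⟶ s.pt.left.obj,
      ∀ a, (ua a).left.hom ≫ β = (m a s).left.hom := fun s =>
    exists_hom_of_isFpqcCover hcov s.pt.left.property (b := fun a => (m a s).left.hom) fun a b => by
      let P : AlgSp.Space S := ⟨pullback (ua a).left.hom (ua b).left.hom,
        isAlgSpace_pullback' c.pt.left.property (Ua a).left.property (Ua b).left.property _ _⟩
      let Uab : Over B := Over.mk (Y := P) (ObjectProperty.homMk (pullback.fst _ _ ≫ (Ua a).hom.hom))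
      let pa : Uab ⟶ Ua a := Over.homMk (ObjectProperty.homMk (pullback.fst _ _)) rfl
      let pb : Uab ⟶ Ua b := Over.homMk (ObjectProperty.homMk (pullback.snd _ _)) (by
        refine ObjectProperty.hom_ext _ ?_
        change pullback.snd _ _ ≫ (Ua b).hom.hom = pullback.fst _ _ ≫ (Ua a).hom.hom
        rw [← congrArg InducedCategory.Hom.hom (Over.w (ua a)), ← congrArg InducedCategory.Hom.hom (Over.w (ua b))]
        exact (Category.assoc _ _ _).symm.trans ((congrArg (· ≫ c.pt.hom.hom) pullback.condition.symm).trans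
          (Category.assoc _ _ _)))
      obtain ⟨hc⟩ := h₂ a b Uab pa pb (IsPullback.of_hasPullback _ _) _ (bcα (pa ≫ ua a)) (bcι (pa ≫ ua a))
        fun i => IsPullback.of_hasPullback _ _
      suffices pa ≫ m a s = pb ≫ m b s from congrArg (fun e => e.left.hom) this
      refine hc.hom_ext fun i => ?_
      have key : ∀ (d : κ) (q : Uab ⟶ Ua d), q ≫ ua d = pa ≫ ua a →
          (bcι (c := c) (pa ≫ ua a)).app i ≫ q ≫ m d s = (bcα (pa ≫ ua a)).app i ≫ s.ι.app i := fun d q hq => by
        let l : (bcDiag (c := c) (pa ≫ ua a)).obj i ⟶ (bcDiag (c := c) (ua d)).obj i :=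
          Over.homMk (ObjectProperty.homMk (pullback.map _ _ _ _ q.left.hom (𝟙 _) (𝟙 _)
            (by rw [Category.comp_id]; exact congrArg (fun e => e.left.hom) hq.symm) (by simp))) (by
            refine ObjectProperty.hom_ext _ ?_
            refine (pullback.lift_snd_assoc _ _ _ _).trans ?_
            rw [Category.comp_id]
            rfl)
        have e₁ : l ≫ (bcι (ua d)).app i = (bcι (pa ≫ ua a)).app i ≫ q :=
          Over.OverMorphism.ext (ObjectProperty.hom_ext _ (pullback.lift_fst _ _ _))
        have e₂ : l ≫ (bcα (ua d)).app i = (bcα (pa ≫ ua a)).app i :=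
          Over.OverMorphism.ext (ObjectProperty.hom_ext _ ((pullback.lift_snd _ _ _).trans (Category.comp_id _)))
        rw [← Category.assoc, ← e₁, Category.assoc, hm, ← Category.assoc, e₂]
      refine (key a pa rfl).trans (key b pb ?_).symm
      exact Over.OverMorphism.ext (ObjectProperty.hom_ext _ pullback.condition.symm)
  choose β hβ using hglue
  refine ⟨{
    desc := fun s => Over.homMk (ObjectProperty.homMk (β s)) (ObjectProperty.hom_ext _ ?_)
    fac := fun s i => ?_
    uniq := fun s m' hm' => ?_ }⟩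
  · change β s ≫ s.pt.hom.hom = c.pt.hom.hom
    refine hom_ext_isFpqcCover hcov B.property fun a => ?_
    rw [← Category.assoc, hβ s a]
    exact (congrArg InducedCategory.Hom.hom (Over.w (m a s))).trans (congrArg InducedCategory.Hom.hom (Over.w (ua a))).symm
  · refine Over.OverMorphism.ext (ObjectProperty.hom_ext _ ?_)
    change (c.ι.app i).left.hom ≫ β s = (s.ι.app i).left.hom
    refine hom_ext_pullback_cover hcov (D.obj i).left.property s.pt.left.property (c.ι.app i).left.hom fun a => ?_
    rw [← pullback.condition_assoc, hβ s a]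
    exact congrArg (fun e => e.left.hom) (hm a s i)
  · refine Over.OverMorphism.ext (ObjectProperty.hom_ext _ ?_)
    change m'.left.hom = β s
    refine hom_ext_isFpqcCover hcov s.pt.left.property fun a => ?_
    rw [hβ s a]
    obtain ⟨hc⟩ := h₁ a _ (bcα (ua a)) (bcι (ua a)) fun i => IsPullback.of_hasPullback _ _
    suffices ua a ≫ m' = m a s from congrArg (fun e => e.left.hom) this
    refine hc.hom_ext fun i => ?_
    change (bcι (ua a)).app i ≫ ua a ≫ m' = (bcι (ua a)).app i ≫ m a s
    rw [hm a s i, ← hm' i, ← Category.assoc, ← Category.assoc]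
    congr 1
    exact Over.OverMorphism.ext (ObjectProperty.hom_ext _ pullback.condition)

end Groth.Agent.S10719
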