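import Groth.Statements.S1072
import Mathlib

set_option autoImplicit false
universe v v' u u'
open CategoryTheory CategoryTheory.Limits
open CohDer

namespace Groth.Agent.S1072

/-- Let A be an abelian category, W a class of morphisms admitting both left and right calculus of
fractions, and L : A ⥤ D a localization functor for W. Then D admits the structure of an abelian
category and L is exact (preserves finite limits and finite colimits). -/
theorem result {A : Type u} [Category.{v} A] [Abelian A]
    (W : MorphismProperty A) [W.HasLeftCalculusOfFractions] [W.HasRightCalculusOfFractions]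
    {D : Type u'} [Category.{v'} D] (L : A ⥤ D) [L.IsLocalization W] :
    Nonempty (Abelian D) ∧ PreservesFiniteLimits L ∧ PreservesFiniteColimits L := by
  letI : Preadditive D := Localization.preadditive L W
  haveI : L.Additive := Localization.functor_additive L W
  haveI : L.EssSurj := Localization.essSurj L W
  -- `L` preserves monomorphisms and epimorphisms
  have hmono : ∀ {X Y : A} (f : X ⟶ Y), Mono f → Mono (L.map f) := by
    intro X Y f hf
    refine Preadditive.mono_of_cancel_zero _ fun {Z} a ha => ?_
    obtain ⟨φ, hφ⟩ := Localization.exists_rightFraction L W ((L.objObjPreimageIso Z).hom ≫ a)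
    have h1 : L.map (φ.f ≫ f) = L.map 0 := by
      rw [Functor.map_comp, Functor.map_zero,
        ← φ.map_s_comp_map L (Localization.inverts L W), ← hφ]
      simp [ha]
    obtain ⟨Z', s, hs, fac⟩ := (MorphismProperty.map_eq_iff_precomp L W _ _).1 h1
    have h2 : s ≫ φ.f = 0 := by
      rw [← cancel_mono f, Category.assoc, fac, comp_zero, zero_comp]
    have h3 : L.map φ.f = 0 := by
      rw [← L.map_zero]
      exact (MorphismProperty.map_eq_iff_precomp L W _ _).2 ⟨Z', s, hs, by rw [h2, comp_zero]⟩
    haveI : IsIso (L.map φ.s) := Localization.inverts L W _ φ.hs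
    rw [← cancel_epi (L.objObjPreimageIso Z).hom, comp_zero, hφ, ← cancel_epi (L.map φ.s),
      φ.map_s_comp_map L (Localization.inverts L W), h3, comp_zero]
  have hepi : ∀ {X Y : A} (f : X ⟶ Y), Epi f → Epi (L.map f) := by
    intro X Y f hf
    refine Preadditive.epi_of_cancel_zero _ fun {Z} a ha => ?_
    obtain ⟨φ, hφ⟩ := Localization.exists_leftFraction L W (a ≫ (L.objObjPreimageIso Z).inv)
    have h1 : L.map (f ≫ φ.f) = L.map 0 := by
      rw [Functor.map_comp, Functor.map_zero,
        ← φ.map_comp_map_s L (Localization.inverts L W), ← hφ]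
      simp [reassoc_of% ha]
    obtain ⟨Z', s, hs, fac⟩ := (MorphismProperty.map_eq_iff_postcomp L W _ _).1 h1
    have h2 : φ.f ≫ s = 0 := by
      rw [← cancel_epi f, ← Category.assoc, fac, comp_zero, zero_comp]
    have h3 : L.map φ.f = 0 := by
      rw [← L.map_zero]
      exact (MorphismProperty.map_eq_iff_postcomp L W _ _).2 ⟨Z', s, hs, by rw [h2, zero_comp]⟩
    haveI : IsIso (L.map φ.s) := Localization.inverts L W _ φ.hs
    rw [← cancel_mono (L.objObjPreimageIso Z).inv, zero_comp, hφ, ← cancel_mono (L.map φ.s),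
      φ.map_comp_map_s L (Localization.inverts L W), h3, zero_comp]
  -- monos/epis with killed cokernel/kernel become isomorphisms
  have hmiso : ∀ {X Y : A} (f : X ⟶ Y), Mono f → IsZero (L.obj (cokernel f)) → IsIso (L.map f) := by
    intro X Y f hf hz
    haveI := hmono f hf
    obtain ⟨Z', s, hs, fac⟩ := (MorphismProperty.map_eq_iff_precomp L W (cokernel.π f) 0).1
      (hz.eq_of_tgt _ _)
    rw [comp_zero] at fac
    let u : Z' ⟶ X := (Abelian.monoIsKernelOfCokernel _ (colimit.isColimit _)).lift
      (KernelFork.ofι s fac)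
    have hu : u ≫ f = s := Fork.IsLimit.lift_ι _
    haveI : IsIso (L.map s) := Localization.inverts L W _ hs
    haveI : IsSplitEpi (L.map f) := IsSplitEpi.mk'
      ⟨inv (L.map s) ≫ L.map u, by rw [Category.assoc, ← L.map_comp, hu, IsIso.inv_hom_id]⟩
    exact isIso_of_mono_of_isSplitEpi _
  have heiso : ∀ {X Y : A} (f : X ⟶ Y), Epi f → IsZero (L.obj (kernel f)) → IsIso (L.map f) := by
    intro X Y f hf hz
    haveI := hepi f hf
    obtain ⟨Z', s, hs, fac⟩ := (MorphismProperty.map_eq_iff_postcomp L W (kernel.ι f) 0).1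
      (hz.eq_of_src _ _)
    rw [zero_comp] at fac
    let u : Y ⟶ Z' := (Abelian.epiIsCokernelOfKernel _ (limit.isLimit _)).desc
      (CokernelCofork.ofπ s fac)
    have hu : f ≫ u = s := (Abelian.epiIsCokernelOfKernel _ (limit.isLimit _)).fac (CokernelCofork.ofπ s fac) WalkingParallelPair.one
    haveI : IsIso (L.map s) := Localization.inverts L W _ hs
    haveI : IsSplitMono (L.map f) := IsSplitMono.mk'
      ⟨L.map u ≫ inv (L.map s), by rw [← Category.assoc, ← L.map_comp, hu, IsIso.hom_inv_id]⟩
    exact isIso_of_epi_of_isSplitMono _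
  let P : ObjectProperty A := fun X => IsZero (L.obj X)
  haveI : P.IsSerreClass :=
    { exists_zero := (HasZeroObject.zero (C := A)).imp fun Z hZ => ⟨hZ, L.map_isZero hZ⟩
      prop_of_mono := fun {X Y} f _ hY => by
        haveI := hmono f inferInstance
        exact IsZero.of_mono (L.map f) hY
      prop_of_epi := fun {X Y} f _ hX => by
        haveI := hepi f inferInstance
        exact IsZero.of_epi (L.map f) hX
      prop_X₂_of_shortExact := fun {S} hS h₁ h₃ => by
        haveI := hS.mono_f
        haveI := hmiso S.f inferInstance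
          (h₃.of_iso (L.mapIso ((cokernelIsCokernel S.f).coconePointUniqueUpToIso hS.gIsCokernel)))
        exact h₁.of_iso (asIso (L.map S.f)).symm }
  have hW' : P.isoModSerre.IsInvertedBy L := by
    intro X Y f hf
    have h1 : IsZero (L.obj (kernel (Abelian.factorThruImage f))) := by
      refine IsZero.of_iso hf.1 (L.mapIso ?_)
      exact (kernelCompMono (Abelian.factorThruImage f) (Abelian.image.ι f)).symm ≪≫
        kernelIsoOfEq (Abelian.image.fac f)
    have h2 : IsZero (L.obj (cokernel (Abelian.image.ι f))) := by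
      refine IsZero.of_iso hf.2 (L.mapIso ?_)
      exact (cokernelEpiComp (Abelian.factorThruImage f) (Abelian.image.ι f)).symm ≪≫
        cokernelIsoOfEq (Abelian.image.fac f)
    haveI := heiso _ inferInstance h1
    haveI := hmiso _ inferInstance h2
    rw [← Abelian.image.fac f, L.map_comp]
    infer_instance
  have hle : W ≤ P.isoModSerre := by
    intro X Y f hf
    haveI : IsIso (L.map f) := Localization.inverts L W _ hf
    refine ⟨?_, ?_⟩
    · haveI := hmono (kernel.ι f) inferInstance
      refine IsZero.of_mono_eq_zero (L.map (kernel.ι f)) ?_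
      rw [← cancel_mono (L.map f), ← L.map_comp, kernel.condition, L.map_zero, zero_comp]
    · haveI := hepi (cokernel.π f) inferInstance
      refine IsZero.of_epi_eq_zero (L.map (cokernel.π f)) ?_
      rw [← cancel_epi (L.map f), ← L.map_comp, cokernel.condition, L.map_zero, comp_zero]
  let W' := P.isoModSerre
  have hQ : W.IsInvertedBy W'.Q := fun X Y f hf => W'.Q_inverts f (hle f hf)
  let G := Localization.lift W'.Q hQ L
  let H := Localization.lift L hW' W'.Q
  let eG : L ⋙ G ≅ W'.Q := Localization.fac _ _ _
  let eH : W'.Q ⋙ H ≅ L := Localization.fac _ _ _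
  letI : Localization.Lifting W'.Q W' (W'.Q ⋙ 𝟭 _) (𝟭 _) := ⟨Iso.refl _⟩
  letI : Localization.Lifting W'.Q W' (W'.Q ⋙ H ⋙ G) (H ⋙ G) := ⟨Iso.refl _⟩
  letI : Localization.Lifting L W (L ⋙ 𝟭 _) (𝟭 _) := ⟨Iso.refl _⟩
  letI : Localization.Lifting L W (L ⋙ G ⋙ H) (G ⋙ H) := ⟨Iso.refl _⟩
  let E : W'.Localization ≌ D := CategoryTheory.Equivalence.mk H G
    (Localization.liftNatIso W'.Q W' (W'.Q ⋙ 𝟭 _) (W'.Q ⋙ H ⋙ G) _ _
      (Functor.rightUnitor _ ≪≫ eG.symm ≪≫ Functor.isoWhiskerRight eH.symm G ≪≫
        Functor.associator _ _ _))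
    (Localization.liftNatIso L W (L ⋙ G ⋙ H) (L ⋙ 𝟭 _) _ _
      ((Functor.associator _ _ _).symm ≪≫ Functor.isoWhiskerRight eG H ≪≫ eH ≪≫
        (Functor.rightUnitor _).symm))
  haveI : L.IsLocalization P.isoModSerre :=
    Functor.IsLocalization.of_equivalence_target W'.Q W' L E eH
  exact ⟨⟨ObjectProperty.SerreClassLocalization.abelian L P⟩, ObjectProperty.SerreClassLocalization.preservesFiniteLimits L P,
    ObjectProperty.SerreClassLocalization.preservesFiniteColimits L P⟩

end Groth.Agent.S1072
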