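import Groth.Statements.S10721
import Groth.Agent.Lib.Glue.RingTransfer
-- import your own Groth.Agent.* helpers here

set_option autoImplicit false
universe u
open TensorProduct
attribute [local instance] Algebra.TensorProduct.rightAlgebra
open EtAlg

namespace Groth.Agent.S10721

/-- Glueing along a glueing pair detects closed immersions of affine schemes, stated for coordinate
rings. Let `(R → R', f)` be a glueing pair and `φ : A → B` a homomorphism of `R`-algebras with `A`,
`B` glueable as `R`-modules (so `Spec A`, `Spec B` are affine and glueable over `Spec R`). Then `φ`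
is surjective (a closed immersion on spectra) if and only if `A_f → B_f` and `R' ⊗_R A → R' ⊗_R B`
are surjective. -/
theorem result (R : Type u) [CommRing R] (R' : Type u) [CommRing R'] [Algebra R R'] (f : R)
    (hRR' : EtGlue.IsGlueingPair R R' f) (A B : Type u) [CommRing A] [Algebra R A] [CommRing B] [Algebra R B]
    (hA : EtGlue.IsGlueable R R' f A) (hB : EtGlue.IsGlueable R R' f B) (φ : A →ₐ[R] B) :
    Function.Surjective φ ↔
      Function.Surjective (Localization.awayMap φ.toRingHom (algebraMap R A f)) ∧ Function.Surjective (Algebra.TensorProduct.map (AlgHom.id R R') φ).toRingHom := by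
  letI : Algebra A B := φ.toRingHom.toAlgebra
  haveI : IsScalarTower R A B := IsScalarTower.of_algebraMap_eq fun r => (φ.commutes r).symm
  show Function.Surjective (algebraMap A B) ↔ Function.Surjective (Localization.awayMap (algebraMap A B) (algebraMap R A f)) ∧ Function.Surjective (Algebra.TensorProduct.map (AlgHom.id R R') (IsScalarTower.toAlgHom R A B)).toRingHom
  rw [Glue.awayMap_iff RingHom.surjective_respectsIso, Glue.map_iff (A := A) (B := B) RingHom.surjective_respectsIso]
  exact ⟨fun h => ⟨RingHom.surjective_isStableUnderBaseChange.tensorProduct _ h,
      RingHom.surjective_isStableUnderBaseChange.tensorProduct _ h⟩,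
    fun h => Glue.surjective_algebraMap (Glue.quotPowBijective_tensor hRR'.1 A) _ h.2 h.1⟩

end Groth.Agent.S10721
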