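import Groth.Statements.S10726
import Groth.Agent.Lib.AlgSp.GlueHomExists

set_option autoImplicit false
set_option backward.isDefEq.respectTransparency false

universe u
open CategoryTheory CategoryTheory.Limits AlgebraicGeometry TensorProduct
open AlgSp

namespace Groth.Agent.S10726

open GrothLib.AlgSp GrothLib.AlgSp.GlueHom

/-- Affine charts around the points of a scheme. -/
private theorem exists_affine_piece {R : Type u} [CommRing R] (U : Over (Spec (CommRingCat.of R))) (x : ↥U.left) :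
    ∃ (A : Type u) (_ : CommRing A) (_ : Algebra R A) (j : specOver R A ⟶ U),
      Etale j.left ∧ x ∈ Set.range j.left := by
  obtain ⟨W, j, hW, hj, w, hw⟩ := exists_affine_nhd U x
  obtain ⟨A, _, _, ⟨e⟩⟩ := exists_specOver_iso W
  refine ⟨A, inferInstance, inferInstance, e.hom ≫ j, ?_, e.inv.left w, ?_⟩
  · rw [Over.comp_left]
    infer_instance
  · rw [← Scheme.Hom.comp_apply e.inv.left, ← Over.comp_left, e.inv_hom_id_assoc]
    exact hw


/-- Let `(R → R', f)` be a glueing pair, `X = Spec R`, `U = Spec R_f`, `X' = Spec R'`, `U' = U ×_X X'`,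
and let `Y`, `Z` be algebraic spaces over `X`, glueable for `(R → R', f)`, with `Z` having affine
diagonal over `X`. Then morphisms `a : U ×_X Y → U ×_X Z` over `U` and `b : X' ×_X Y → X' ×_X Z`
over `X'` that induce the same morphism over `U'` are induced by a unique morphism `Y → Z` over `X`.
(The published statement asks both spaces to have affine diagonal over `X`; this row asks it only of
`Z`, which is all the argument uses.) -/
theorem result (R : Type u) [CommRing R] (R' : Type u) [CommRing R'] [Algebra R R']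
    (f : R) (hRR' : EtGlue.IsGlueingPair R R' f) {Y Z YU ZU YX ZX YU' ZU' : AlgSp.Space (Spec (CommRingCat.of R))}
    (hY : (∀ (A : Type u) [CommRing A] [Algebra R A]
      (g : (AlgSp.yon (Spec (CommRingCat.of R))).obj (Over.mk (Spec.map (CommRingCat.ofHom (algebraMap R A))) : Over (Spec (CommRingCat.of R))) ⟶ Y.obj),
      AlgSp.RepWith @Etale g → EtGlue.IsGlueable R R' f A))
    (hZ : (∀ (A : Type u) [CommRing A] [Algebra R A]
      (g : (AlgSp.yon (Spec (CommRingCat.of R))).obj (Over.mk (Spec.map (CommRingCat.ofHom (algebraMap R A))) : Over (Spec (CommRingCat.of R))) ⟶ Z.obj),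
      AlgSp.RepWith @Etale g → EtGlue.IsGlueable R R' f A))
    (hZd : AlgSp.IsAffineMor (Limits.diag Z.obj)) (πY : Y.obj ⟶ (AlgSp.yon (Spec (CommRingCat.of R))).obj (Over.mk (𝟙 _)))
    (πZ : Z.obj ⟶ (AlgSp.yon (Spec (CommRingCat.of R))).obj (Over.mk (𝟙 _)))
    (inU : (Over.mk (Spec.map (CommRingCat.ofHom (algebraMap R (Localization.Away f)))) : Over (Spec (CommRingCat.of R))) ⟶ Over.mk (𝟙 _))
    (inX : (Over.mk (Spec.map (CommRingCat.ofHom (algebraMap R R'))) : Over (Spec (CommRingCat.of R))) ⟶ Over.mk (𝟙 _))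
    (uY : YU ⟶ Y) (sY : YU.obj ⟶ (AlgSp.yon (Spec (CommRingCat.of R))).obj (Over.mk (Spec.map (CommRingCat.ofHom (algebraMap R (Localization.Away f)))) : Over (Spec (CommRingCat.of R))))
    (hYU : IsPullback uY.hom sY πY ((AlgSp.yon (Spec (CommRingCat.of R))).map inU))
    (uZ : ZU ⟶ Z) (sZ : ZU.obj ⟶ (AlgSp.yon (Spec (CommRingCat.of R))).obj (Over.mk (Spec.map (CommRingCat.ofHom (algebraMap R (Localization.Away f)))) : Over (Spec (CommRingCat.of R))))
    (hZU : IsPullback uZ.hom sZ πZ ((AlgSp.yon (Spec (CommRingCat.of R))).map inU))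
    (xY : YX ⟶ Y) (rY : YX.obj ⟶ (AlgSp.yon (Spec (CommRingCat.of R))).obj (Over.mk (Spec.map (CommRingCat.ofHom (algebraMap R R'))) : Over (Spec (CommRingCat.of R))))
    (hYX : IsPullback xY.hom rY πY ((AlgSp.yon (Spec (CommRingCat.of R))).map inX))
    (xZ : ZX ⟶ Z) (rZ : ZX.obj ⟶ (AlgSp.yon (Spec (CommRingCat.of R))).obj (Over.mk (Spec.map (CommRingCat.ofHom (algebraMap R R'))) : Over (Spec (CommRingCat.of R))))
    (hZX : IsPullback xZ.hom rZ πZ ((AlgSp.yon (Spec (CommRingCat.of R))).map inX))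
    (mY₁ : YU' ⟶ YU) (mY₂ : YU' ⟶ YX) (hYU' : IsPullback mY₁.hom mY₂.hom uY.hom xY.hom)
    (mZ₁ : ZU' ⟶ ZU) (mZ₂ : ZU' ⟶ ZX) (hZU' : IsPullback mZ₁.hom mZ₂.hom uZ.hom xZ.hom)
    (a : YU ⟶ ZU) (ha : a.hom ≫ sZ = sY) (b : YX ⟶ ZX) (hb : b.hom ≫ rZ = rY) (c : YU' ⟶ ZU')
    (hc₁ : c ≫ mZ₁ = mY₁ ≫ a) (hc₂ : c ≫ mZ₂ = mY₂ ≫ b) :
    ∃! φ : Y ⟶ Z, uY ≫ φ = a ≫ uZ ∧ xY ≫ φ = b ≫ xZ := by
  let S : Scheme.{u} := Spec (CommRingCat.of R)
  have inU_hom : ∀ {D : Type u} [CommRing D] [Algebra R D] (j : specOver R D ⟶ specOver R (Localization.Away f)),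
      IsUnit (algebraMap R D f) := by
    intro D _ _ j
    obtain ⟨σ, -⟩ := exists_algHom j
    rw [← σ.commutes]
    exact (IsLocalization.Away.algebraMap_isUnit f).map σ
  have eqU : ∀ {D : Type u} [CommRing D] [Algebra R D] (σ σ' : specOver R D ⟶ specOver R (Localization.Away f)),
      σ = σ' := by
    intro D _ _ σ σ'
    obtain ⟨g, rfl⟩ := exists_algHom σ
    obtain ⟨g', rfl⟩ := exists_algHom σ'
    exact congrArg specHom (AlgHom.coe_ringHom_injective
      (IsLocalization.ringHom_ext (Submonoid.powers f) (RingHom.ext fun r => (g.commutes r).trans (g'.commutes r).symm)))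
  have liftU : ∀ {D : Type u} [CommRing D] [Algebra R D], IsUnit (algebraMap R D f) →
      ∀ y : (AlgSp.yon S).obj (specOver R D) ⟶ Y.obj, ∃ z : (AlgSp.yon S).obj (specOver R D) ⟶ YU.obj, z ≫ uY.hom = y := by
    intro D _ _ h y
    exact exists_lift_of_agree hYU (specHom ({ IsLocalization.Away.lift f (g := algebraMap R D) h with
      commutes' := fun r => IsLocalization.Away.lift_eq f h r } : Localization.Away f →ₐ[R] D)) y
  -- a chart of `Y` and a family of affine pieces
  obtain ⟨U, p, pe, ps⟩ := Y.property.atlas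
  haveI : Sheaf.IsLocallySurjective p := chart_isLocallySurjective pe ps
  haveI : Epi p := (Sheaf.isLocallySurjective_iff_epi p).1 inferInstance
  choose A iA iRA j hj hjmem using exists_affine_piece U
  obtain ⟨y, hy⟩ : ∃ y : ∀ x, (AlgSp.yon S).obj (specOver R (A x)) ⟶ Y.obj, ∀ x, y x = (AlgSp.yon S).map (j x) ≫ p :=
    ⟨fun x => (AlgSp.yon S).map (j x) ≫ p, fun x => rfl⟩
  have hye : ∀ x, AlgSp.RepWith @Etale (y x) := fun x => by
    rw [hy]; exact repWith_comp (repWith_yon_map (hj x)) pe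
  have hAg : ∀ x, EtGlue.IsGlueable R R' f (A x) := fun x =>
    hY (A x) (y x) (hye x)
  -- solutions on affine pieces
  have key : ∀ x, ∃ φA : (AlgSp.yon S).obj (specOver R (A x)) ⟶ Z.obj,
      (∀ {D : Type u} [CommRing D] [Algebra R D] (ψ : A x →ₐ[R] D) (z : (AlgSp.yon S).obj (specOver R D) ⟶ YU.obj),
        z ≫ uY.hom = (AlgSp.yon S).map (specHom ψ) ≫ y x →
        (AlgSp.yon S).map (specHom ψ) ≫ φA = z ≫ a.hom ≫ uZ.hom) ∧
      (∀ {D : Type u} [CommRing D] [Algebra R D] (ψ : A x →ₐ[R] D) (z : (AlgSp.yon S).obj (specOver R D) ⟶ YX.obj),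
        z ≫ xY.hom = (AlgSp.yon S).map (specHom ψ) ≫ y x →
        (AlgSp.yon S).map (specHom ψ) ≫ φA = z ≫ b.hom ≫ xZ.hom) := by
    intro x
    let ι₁ : A x →ₐ[R] Localization.Away (algebraMap R (A x) f) := IsScalarTower.toAlgHom R (A x) _
    let ι₂ : A x →ₐ[R] A x ⊗[R] R' := Algebra.TensorProduct.includeLeft
    obtain ⟨lU, hlU⟩ := liftU (isUnit_away (A x)) ((AlgSp.yon S).map (specHom ι₁) ≫ y x)
    let νX : specOver R (A x ⊗[R] R') ⟶ specOver R R' :=
      specHom (Algebra.TensorProduct.includeRight : R' →ₐ[R] A x ⊗[R] R')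
    obtain ⟨lX, hlX, hlX'⟩ := hYX.exists_lift ((AlgSp.yon S).map (specHom ι₂) ≫ y x) ((AlgSp.yon S).map νX) (by
      obtain ⟨z, hz⟩ := (AlgSp.yon S).map_surjective (((AlgSp.yon S).map (specHom ι₂) ≫ y x) ≫ πY)
      rw [← hz, ← Functor.map_comp]
      congr 1
      apply Over.OverMorphism.ext
      have h₁ := Over.w z
      have h₂ := Over.w (νX ≫ inX)
      simp only [Over.mk_hom, Category.comp_id] at h₁ h₂
      exact h₁.trans h₂.symm)
    obtain ⟨φA, hφU, hφX⟩ := exists_hom_affine hRR' hZd (hAg x) (lU ≫ a.hom ≫ uZ.hom) (lX ≫ b.hom ≫ xZ.hom) (by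
      intro D _ _ g₁ g₂ hg
      obtain ⟨m, hm₁, hm₂⟩ := hYU'.exists_lift ((AlgSp.yon S).map (specHom g₁) ≫ lU)
        ((AlgSp.yon S).map (specHom g₂) ≫ lX) (by
          rw [Category.assoc, Category.assoc, hlU, hlX, ← Functor.map_comp_assoc, ← Functor.map_comp_assoc,
            ← specHom_comp, ← specHom_comp, hg])
      have h₁ := congrArg (fun v => v.hom) hc₁
      have h₂ := congrArg (fun v => v.hom) hc₂
      simp only [ObjectProperty.FullSubcategory.comp_hom] at h₁ h₂
      rw [← Category.assoc _ lU, ← hm₁, ← Category.assoc _ lX, ← hm₂, Category.assoc, Category.assoc, ← reassoc_of% h₁,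
        ← reassoc_of% h₂, hZU'.w])
    refine ⟨φA, ?_, ?_⟩
    · intro D _ _ ψ z hz
      obtain ⟨ν, hν⟩ := (AlgSp.yon S).map_surjective (z ≫ sY)
      obtain ⟨σ₀, hσ₀⟩ := exists_awayHom ψ (inU_hom ν)
      have hzl : z = (AlgSp.yon S).map (specHom σ₀) ≫ lU := by
        refine hYU.hom_ext ?_ ?_
        · rw [Category.assoc, hlU, ← Functor.map_comp_assoc, ← specHom_comp, hσ₀]
          exact hz
        · obtain ⟨ν', hν'⟩ := (AlgSp.yon S).map_surjective (((AlgSp.yon S).map (specHom σ₀) ≫ lU) ≫ sY)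
          rw [← hν, ← hν', eqU ν ν']
      rw [hzl, Category.assoc, ← hφU, ← Functor.map_comp_assoc, ← specHom_comp, hσ₀]
    · intro D _ _ ψ z hz
      obtain ⟨ν, hν⟩ := (AlgSp.yon S).map_surjective (z ≫ rY)
      obtain ⟨r', hr'⟩ := exists_algHom ν
      let σ₀ : A x ⊗[R] R' →ₐ[R] D := Algebra.TensorProduct.lift ψ r' (fun _ _ => Commute.all _ _)
      have hσ₀ : σ₀.comp ι₂ = ψ := Algebra.TensorProduct.lift_comp_includeLeft ψ r' (fun _ _ => Commute.all _ _)
      have hσ₀' : σ₀.comp Algebra.TensorProduct.includeRight = r' :=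
        Algebra.TensorProduct.lift_comp_includeRight ψ r' (fun _ _ => Commute.all _ _)
      have hzl : z = (AlgSp.yon S).map (specHom σ₀) ≫ lX := by
        refine hYX.hom_ext ?_ ?_
        · rw [Category.assoc, hlX, ← Functor.map_comp_assoc, ← specHom_comp, hσ₀]
          exact hz
        · rw [Category.assoc, hlX', ← Functor.map_comp, ← hν, ← hr']
          rw [← hσ₀']
          exact congrArg _ (specHom_comp _ _)
      rw [hzl, Category.assoc, ← hφX, ← Functor.map_comp_assoc, ← specHom_comp, hσ₀]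
  choose φA hφU hφX using key
  -- agreement of the pieces
  have agree : ∀ (x x' : ↥U.left) (T : Over S) (g : T ⟶ specOver R (A x)) (g' : T ⟶ specOver R (A x')),
      (AlgSp.yon S).map g ≫ y x = (AlgSp.yon S).map g' ≫ y x' →
      (AlgSp.yon S).map g ≫ φA x = (AlgSp.yon S).map g' ≫ φA x' := by
    intro x x' T g g' hg
    obtain ⟨V, t₁, t₂, sq⟩ := exists_isPullback_of_representable (hye x).1 (y x')
    have ht₂ : Etale t₂.left := (hye x).2 _ t₁ t₂ sq
    obtain ⟨t₁, rfl⟩ := (AlgSp.yon S).map_surjective t₁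
    obtain ⟨l, hl₁, hl₂⟩ := sq.exists_lift _ _ hg
    rw [← hl₁, ← hl₂, Category.assoc, Category.assoc]
    congr 1
    choose C iC iRC k hk hkmem using exists_affine_piece V
    obtain ⟨v, -, huniq⟩ := exists_hom_of_cover (fun z => specOver R (C z)) k (fun t => by have := hk t; infer_instance)
      (fun t => by have := hk t; infer_instance) (fun z => ⟨z, hkmem z⟩)
      (fun z => (AlgSp.yon S).map (k z) ≫ (AlgSp.yon S).map t₂ ≫ φA x')
      (fun i j Z gi gj hg => by rw [← Functor.map_comp_assoc, hg, Functor.map_comp_assoc])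
    refine (huniq _ fun z => ?_).trans (huniq _ fun _ => rfl).symm
    obtain ⟨ψ₁, hψ₁⟩ := exists_algHom (k z ≫ t₁)
    obtain ⟨ψ₂, hψ₂⟩ := exists_algHom (k z ≫ t₂)
    have hyy : (AlgSp.yon S).map (specHom ψ₁) ≫ y x = (AlgSp.yon S).map (specHom ψ₂) ≫ y x' := by
      rw [hψ₁, hψ₂, Functor.map_comp, Functor.map_comp, Category.assoc, Category.assoc, sq.w]
    have hC : EtGlue.IsGlueable R R' f (C z) := by
      refine glueable_of_etale (hAg x') (specHom ψ₂) ?_
      rw [hψ₂, Over.comp_left]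
      have := hk z
      infer_instance
    rw [← Functor.map_comp_assoc, ← Functor.map_comp_assoc, ← hψ₁, ← hψ₂]
    refine eq_of_agree hRR' Z hC _ _ fun {D} _ _ ψ hD => ?_
    rw [← Functor.map_comp_assoc, ← Functor.map_comp_assoc, ← specHom_comp, ← specHom_comp]
    have hyy' : (AlgSp.yon S).map (specHom (ψ.comp ψ₁)) ≫ y x = (AlgSp.yon S).map (specHom (ψ.comp ψ₂)) ≫ y x' := by
      rw [specHom_comp, specHom_comp, Functor.map_comp, Functor.map_comp, Category.assoc, Category.assoc, hyy]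
    rcases hD with hD | ⟨⟨r'⟩⟩
    · obtain ⟨w, hw⟩ := liftU hD ((AlgSp.yon S).map (specHom (ψ.comp ψ₁)) ≫ y x)
      rw [hφU x (ψ.comp ψ₁) w hw, hφU x' (ψ.comp ψ₂) w (hw.trans hyy')]
    · obtain ⟨w, hw⟩ := exists_lift_of_agree hYX (specHom r') ((AlgSp.yon S).map (specHom (ψ.comp ψ₁)) ≫ y x)
      rw [hφX x (ψ.comp ψ₁) w hw, hφX x' (ψ.comp ψ₂) w (hw.trans hyy')]
  -- glue on the chart, then descend
  have hjcov : ∀ u : ↥U.left, ∃ x y, (j x).left y = u := fun u => ⟨u, hjmem u⟩
  obtain ⟨L, hL, hLuniq⟩ := exists_hom_of_cover (fun x => specOver R (A x)) j (fun t => by have := hj t; infer_instance)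
    (fun t => by have := hj t; infer_instance) hjcov φA (fun i k T gi gk hg => agree i k T gi gk (by
      simp only [hy, ← Functor.map_comp_assoc, hg]))
  obtain ⟨R₀, s₀, t₀, sq₀⟩ := exists_isPullback_of_representable pe.1 p
  obtain ⟨s₀, rfl⟩ := (AlgSp.yon S).map_surjective s₀
  have hker : (AlgSp.yon S).map s₀ ≫ L = (AlgSp.yon S).map t₀ ≫ L := by
    have key : ∀ z : ↥R₀.left, ∃ (T : Over S) (c : T ⟶ R₀), Etale c.left ∧ z ∈ Set.range c.left ∧
        (AlgSp.yon S).map c ≫ (AlgSp.yon S).map s₀ ≫ L = (AlgSp.yon S).map c ≫ (AlgSp.yon S).map t₀ ≫ L := by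
      intro z
      obtain ⟨x, v, hv⟩ := hjcov (s₀.left z)
      obtain ⟨x', v', hv'⟩ := hjcov (t₀.left z)
      obtain ⟨z₁, hz₁, -⟩ := Scheme.Pullback.exists_preimage_pullback (f := s₀.left) (g := (j x).left) z v hv.symm
      have sqa := isPullback_left (IsPullback.of_hasPullback s₀ (j x))
      let q₁ := pullback.fst s₀ (j x)
      let za : ↥(pullback s₀ (j x)).left := sqa.isoPullback.inv z₁
      have hza : q₁.left za = z := by
        simp only [q₁, za]
        rw [← Scheme.Hom.comp_apply, IsPullback.isoPullback_inv_fst]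
        exact hz₁
      have hv'' : (q₁ ≫ t₀).left za = (j x').left v' := by rw [Over.comp_left, Scheme.Hom.comp_apply, hza, hv']
      obtain ⟨z₂, hz₂, -⟩ := Scheme.Pullback.exists_preimage_pullback (f := (q₁ ≫ t₀).left) (g := (j x').left) za v' hv''
      have sqb := isPullback_left (IsPullback.of_hasPullback (q₁ ≫ t₀) (j x'))
      let q₂ := pullback.fst (q₁ ≫ t₀) (j x')
      refine ⟨pullback (q₁ ≫ t₀) (j x'), q₂ ≫ q₁, ?_, ⟨sqb.isoPullback.inv z₂, ?_⟩, ?_⟩
      · haveI : Etale q₁.left := MorphismProperty.of_isPullback sqa.flip (hj x)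
        haveI : Etale q₂.left := MorphismProperty.of_isPullback sqb.flip (hj x')
        rw [Over.comp_left]
        infer_instance
      · rw [Over.comp_left, Scheme.Hom.comp_apply]
        simp only [q₂]
        rw [← Scheme.Hom.comp_apply, ← Scheme.Hom.comp_apply, IsPullback.isoPullback_inv_fst_assoc,
          Scheme.Hom.comp_apply, hz₂, hza]
      · have e₁ : (q₂ ≫ q₁) ≫ s₀ = (q₂ ≫ pullback.snd s₀ (j x)) ≫ j x := by
          simp only [Category.assoc, q₁, pullback.condition]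
        have e₂ : (q₂ ≫ q₁) ≫ t₀ = pullback.snd (q₁ ≫ t₀) (j x') ≫ j x' := by
          simp only [Category.assoc, q₂, pullback.condition]
        rw [← Functor.map_comp_assoc, ← Functor.map_comp_assoc, e₁, e₂,
          Functor.map_comp (AlgSp.yon S) (q₂ ≫ pullback.snd s₀ (j x)) (j x),
          Functor.map_comp (AlgSp.yon S) (pullback.snd (q₁ ≫ t₀) (j x')) (j x'), Category.assoc, Category.assoc, hL, hL]
        refine agree x x' _ _ _ ?_
        simp only [hy, ← Functor.map_comp_assoc]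
        rw [← e₁, ← e₂, Functor.map_comp _ (q₂ ≫ q₁) s₀, Functor.map_comp _ (q₂ ≫ q₁) t₀, Category.assoc,
          Category.assoc, sq₀.w]
    choose T c hc hmem heq using key
    obtain ⟨v, -, huniq⟩ := exists_hom_of_cover T c (fun t => by have := hc t; infer_instance)
      (fun t => by have := hc t; infer_instance) (fun z => ⟨z, hmem z⟩)
      (fun t => (AlgSp.yon S).map (c t) ≫ (AlgSp.yon S).map t₀ ≫ L)
      (fun i j Z gi gj hg => by rw [← Functor.map_comp_assoc, hg, Functor.map_comp_assoc])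
    exact (huniq _ heq).trans (huniq _ fun _ => rfl).symm
  haveI := IsRegularEpiCategory.regularEpiOfEpi p
  obtain ⟨φ₀, hφ₀⟩ := IsRegularEpi.exists_of_isKernelPair p sq₀ L hker
  let φ : Y ⟶ Z := ObjectProperty.homMk φ₀
  have hφy : ∀ x, y x ≫ φ₀ = φA x := fun x => by rw [hy, Category.assoc, hφ₀, hL]
  -- maps out of a space over `Y` are determined on the pieces
  have ext_pieces : ∀ {F : AlgSp.Sp S} (π : F ⟶ Y.obj) (h₁ h₂ : F ⟶ Z.obj),
      (∀ (x : ↥U.left) {D : Type u} [CommRing D] [Algebra R D] (ψ : A x →ₐ[R] D)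
        (z : (AlgSp.yon S).obj (specOver R D) ⟶ F), z ≫ π = (AlgSp.yon S).map (specHom ψ) ≫ y x →
        z ≫ h₁ = z ≫ h₂) → h₁ = h₂ := by
    intro F π h₁ h₂ H
    refine hom_ext fun T z => ?_
    obtain ⟨V, t₁, t₂, sq⟩ := exists_isPullback_of_representable pe.1 (z ≫ π)
    have ht₂ : Etale t₂.left := pe.2 _ t₁ t₂ sq
    have ht₂s : Surjective t₂.left := ps.2 _ t₁ t₂ sq
    obtain ⟨t₁, rfl⟩ := (AlgSp.yon S).map_surjective t₁
    have key : ∀ w : ↥V.left, ∃ (T' : Over S) (c : T' ⟶ T), Etale c.left ∧ t₂.left w ∈ Set.range c.left ∧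
        (AlgSp.yon S).map c ≫ z ≫ h₁ = (AlgSp.yon S).map c ≫ z ≫ h₂ := by
      intro w
      obtain ⟨x, v, hv⟩ := hjcov (t₁.left w)
      obtain ⟨w₁, hw₁, -⟩ := Scheme.Pullback.exists_preimage_pullback (f := t₁.left) (g := (j x).left) w v hv.symm
      have sqa := isPullback_left (IsPullback.of_hasPullback t₁ (j x))
      obtain ⟨D, _, _, k, hk, d, hd⟩ := exists_affine_piece (pullback t₁ (j x)) (sqa.isoPullback.inv w₁)
      obtain ⟨ψ, hψ⟩ := exists_algHom (k ≫ pullback.snd t₁ (j x))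
      refine ⟨specOver R D, k ≫ pullback.fst t₁ (j x) ≫ t₂, ?_, ⟨d, ?_⟩, ?_⟩
      · haveI : Etale (pullback.fst t₁ (j x)).left := MorphismProperty.of_isPullback sqa.flip (hj x)
        simp only [Over.comp_left]
        infer_instance
      · simp only [Over.comp_left, Scheme.Hom.comp_apply]
        rw [hd, ← Scheme.Hom.comp_apply sqa.isoPullback.inv, IsPullback.isoPullback_inv_fst, hw₁]
      · rw [← Category.assoc, ← Category.assoc]
        refine H x ψ _ ?_
        simp only [hy]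
        rw [← Functor.map_comp_assoc, hψ, Category.assoc k (pullback.snd t₁ (j x)) (j x), ← pullback.condition (f := t₁)]
        simp only [Functor.map_comp, Category.assoc]
        rw [sq.w]
    choose T' c hc hmem heq using key
    obtain ⟨v, -, huniq⟩ := exists_hom_of_cover T' c (fun t => by have := hc t; infer_instance)
      (fun t => by have := hc t; infer_instance)
      (fun u => by obtain ⟨w, rfl⟩ := ht₂s.surj u; exact ⟨w, hmem w⟩)
      (fun t => (AlgSp.yon S).map (c t) ≫ z ≫ h₂)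
      (fun i j Z gi gj hg => by rw [← Functor.map_comp_assoc, hg, Functor.map_comp_assoc])
    exact (huniq _ heq).trans (huniq _ fun _ => rfl).symm
  refine ⟨φ, ⟨?_, ?_⟩, ?_⟩
  · apply ObjectProperty.hom_ext
    refine ext_pieces uY.hom _ _ fun x {D} _ _ ψ z hz => ?_
    change z ≫ uY.hom ≫ φ₀ = _
    rw [reassoc_of% hz, hφy, hφU x ψ z hz]
    rfl
  · apply ObjectProperty.hom_ext
    refine ext_pieces xY.hom _ _ fun x {D} _ _ ψ z hz => ?_
    change z ≫ xY.hom ≫ φ₀ = _
    rw [reassoc_of% hz, hφy, hφX x ψ z hz]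
    rfl
  · rintro φ' ⟨hu, hx⟩
    apply ObjectProperty.hom_ext
    change φ'.hom = φ₀
    rw [← cancel_epi p, hφ₀]
    refine hLuniq _ fun x => ?_
    refine eq_of_agree hRR' Z (hAg x) _ _ fun {D} _ _ ψ hD => ?_
    rcases hD with hD | ⟨⟨r'⟩⟩
    · obtain ⟨w, hw⟩ := liftU hD ((AlgSp.yon S).map (specHom ψ) ≫ y x)
      rw [hφU x ψ w hw, show (AlgSp.yon S).map (j x) ≫ p ≫ φ'.hom = y x ≫ φ'.hom from by rw [hy, Category.assoc],
        ← Category.assoc, ← hw, Category.assoc]
      exact congrArg (w ≫ ·) (congrArg (fun v => v.hom) hu)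
    · obtain ⟨w, hw⟩ := exists_lift_of_agree hYX (specHom r') ((AlgSp.yon S).map (specHom ψ) ≫ y x)
      rw [hφX x ψ w hw, show (AlgSp.yon S).map (j x) ≫ p ≫ φ'.hom = y x ≫ φ'.hom from by rw [hy, Category.assoc],
        ← Category.assoc, ← hw, Category.assoc]
      exact congrArg (w ≫ ·) (congrArg (fun v => v.hom) hx)

end Groth.Agent.S10726
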