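import Groth.Statements.S10728
import Groth.Agent.Lib.AlgSp.SigmaChart
import Groth.Agent.Lib.AlgSp.PointsUniv
import Groth.Agent.Lib.AlgSp.ThickPres
import Groth.Agent.Lib.AlgSp.Strata
import Groth.Agent.Lib.AlgSp.UnivClosed
import Groth.Agent.Lib.AlgSp.UnramMono
import Groth.Agent.Lib.AlgSp.EtSmLocality
import Groth.Agent.Lib.AlgSp.Quotient
-- import your own Groth.Agent.* helpers here

set_option autoImplicit false
universe w v u
open CategoryTheory CategoryTheory.Limits AlgebraicGeometry
open AlgSp GrothLib.AlgSp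
set_option backward.isDefEq.respectTransparency false

namespace Groth.Agent.S10728

/-- Let `B` be an algebraic space over `S`, `P` the property 'separated over `B`' on algebraic spaces
over `B`, `D` a diagram in the full subcategory it defines and `c` a cocone on `D` that is a colimit
there. Assume the coprojections are jointly surjective, that for every separated etale `U → c.pt`
every cocone of cartesian squares `D_i ×_{c.pt} U → U` is a colimit in that subcategory, and that
every system of separated etale `U_i → D_i` with cartesian transition squares arises from some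
separated etale `U → c.pt` by base change. Then `c` is also a colimit when viewed among all
algebraic spaces over `B`. -/
theorem result {S : Scheme.{u}} {B : AlgSp.Space S} (P : ObjectProperty (Over B))
    (hP : ∀ T : Over B, P T ↔ AlgSp.IsSeparatedMor T.hom.hom) {I : Type v} [Category.{w} I]
    (D : I ⥤ P.FullSubcategory) (c : Cocone D) (h₂ : IsColimit c)
    (h₃ : ∀ x : AlgSp.Points c.pt.obj.left.obj, ∃ (i : I) (y : AlgSp.Points (D.obj i).obj.left.obj),
      AlgSp.Points.map (c.ι.app i).hom.left.hom y = x)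
    (h₄ : ∀ (D' : I ⥤ P.FullSubcategory) (α : D' ⟶ D) (c' : Cocone D') (a : c'.pt ⟶ c.pt),
      AlgSp.IsEtaleMor a.hom.left.hom → AlgSp.IsSeparatedMor a.hom.left.hom →
      (∀ i, IsPullback (c'.ι.app i).hom.left.hom (α.app i).hom.left.hom a.hom.left.hom (c.ι.app i).hom.left.hom) →
        Nonempty (IsColimit c'))
    (h₅ : ∀ (D' : I ⥤ P.FullSubcategory) (α : D' ⟶ D),
      (∀ ⦃i j : I⦄ (g : i ⟶ j), IsPullback (D'.map g).hom.left.hom (α.app i).hom.left.hom (α.app j).hom.left.hom
        (D.map g).hom.left.hom) →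
      (∀ i, AlgSp.IsEtaleMor (α.app i).hom.left.hom) → (∀ i, AlgSp.IsSeparatedMor (α.app i).hom.left.hom) →
        ∃ (c' : Cocone D') (a : c'.pt ⟶ c.pt), AlgSp.IsEtaleMor a.hom.left.hom ∧ AlgSp.IsSeparatedMor a.hom.left.hom ∧
          ∀ i, IsPullback (c'.ι.app i).hom.left.hom (α.app i).hom.left.hom a.hom.left.hom (c.ι.app i).hom.left.hom) :
    Nonempty (IsColimit (P.ι.mapCocone c)) := by
  have hh : ∀ {T T' : P.FullSubcategory} (u v : T ⟶ T'), u.hom.left.hom = v.hom.left.hom → u = v :=
    fun u v h => ObjectProperty.hom_ext _ (Over.OverMorphism.ext (ObjectProperty.hom_ext _ h))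
  have mkHom : ∀ {T T' : P.FullSubcategory} (f : T.obj.left.obj ⟶ T'.obj.left.obj),
      f ≫ T'.obj.hom.hom = T.obj.hom.hom → ∃ u : T ⟶ T', u.hom.left.hom = f := fun {T T'} f hf =>
    ⟨ObjectProperty.homMk (Over.homMk (ObjectProperty.homMk f) (ObjectProperty.hom_ext _ hf)), rfl⟩
  have hsepbc : ∀ {F G H Q : Sp S} {f : F ⟶ G} {g : H ⟶ G} {fst : Q ⟶ F} {snd : Q ⟶ H},
      IsPullback fst snd f g → IsSeparatedMor f → IsSeparatedMor snd := fun sq h =>
    repWith_of_isPullback (isPullback_diagonal_of_isPullback sq) h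
  -- the descended maps
  have key : ∀ (s : Cocone (D ⋙ P.ι)), ∃ g : c.pt.obj ⟶ s.pt,
      ∀ i, (c.ι.app i).hom ≫ g = s.ι.app i := by
    intro s
    let Y := s.pt.left
    let φ : ∀ i, (D.obj i).obj.left.obj ⟶ Y.obj := fun i => (s.ι.app i).left.hom
    have hφB : ∀ i, φ i ≫ s.pt.hom.hom = (D.obj i).obj.hom.hom := fun i =>
      congrArg InducedCategory.Hom.hom (Over.w (s.ι.app i))
    have hφ : ∀ {i j : I} (g : i ⟶ j), (D.map g).hom.left.hom ≫ φ j = φ i := fun g =>
      congrArg (fun m => m.left.hom) (s.w g)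
    obtain ⟨ι, V, r, hV, hr, hcov, -⟩ := exists_affine_charts Y.property
    obtain ⟨q, hq, -⟩ := exists_hom_of_sigma V r
    have hqe : RepWith @Etale q := repWith_sigma Y.property.diag V r q hq @Etale hr
    have hqs : RepWith @Surjective q := repWith_surjective_of_ofPt hqe.1 fun x => by
      obtain ⟨i, v, rfl⟩ := hcov x
      exact ⟨(sigmaι V i).left v, by rw [← hq i, ofPt_map_comp]⟩
    have hqE : IsEtaleMor q := isEtaleMor_of_locP Y.property (EtLocal.locP_of_repWith .etale Y.property hqe)
    have hqS : Function.Surjective (Points.map q) := fun x => by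
      obtain ⟨v, rfl⟩ := surjective_ofPt_of_repWith hqs x
      exact ⟨_, (Points.ofPt_eq_map_ofScheme q v).symm⟩
    haveI hZsep : IsSeparated (sigmaOver V).hom := isSeparated_sigmaOver V fun i => by
      haveI := hV i
      haveI : IsSeparated ((V i).hom ≫ terminal.from S) := by
        rw [terminal.comp_from]; infer_instance
      exact IsSeparated.of_comp (V i).hom (terminal.from S)
    have hqB : IsSeparatedMor (q ≫ s.pt.hom.hom) := by
      have hT : IsTerminal ((yon S).obj (Over.mk (𝟙 S))) := IsTerminal.isTerminalObj (yon S) _ Over.mkIdTerminal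
      refine isSeparatedMor_of_comp (g := hT.from B.obj) ?_
      rw [hT.hom_ext ((q ≫ s.pt.hom.hom) ≫ hT.from B.obj) ((yon S).map (Over.mkIdTerminal.from (sigmaOver V)))]
      have e : (Over.mkIdTerminal.from (sigmaOver V)).left = (sigmaOver V).hom :=
        (Category.comp_id _).symm.trans (Over.w (Over.mkIdTerminal.from (sigmaOver V)))
      exact (isSeparatedMor_iff_repWith (representable_of_source_scheme (IsAlgSpace.yon_obj _) _)).2
        ((repWith_yon_map_iff _ _).2 (by rw [e]; exact hZsep))
    have hqsep : IsSeparatedMor q := isSeparatedMor_of_comp hqB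
    let Z : P.FullSubcategory := ⟨Over.mk (Y := (⟨(yon S).obj (sigmaOver V), IsAlgSpace.yon_obj _⟩ : Space S))
      (ObjectProperty.homMk (q ≫ s.pt.hom.hom)), (hP _).2 hqB⟩
    have hUsp : ∀ i, IsAlgSpace (pullback q (φ i)) := fun i =>
      isAlgSpace_pullback' Y.property (IsAlgSpace.yon_obj _) (D.obj i).obj.left.property q (φ i)
    let U : I → P.FullSubcategory := fun i =>
      ⟨Over.mk (Y := (⟨pullback q (φ i), hUsp i⟩ : Space S))
        (ObjectProperty.homMk (pullback.snd q (φ i) ≫ (D.obj i).obj.hom.hom)),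
        (hP _).2 (isSeparatedMor_comp (hsepbc (IsPullback.of_hasPullback q (φ i)) hqsep)
          ((hP _).1 (D.obj i).property))⟩
    have hα : ∀ i, ∃ α : U i ⟶ D.obj i, α.hom.left.hom = pullback.snd q (φ i) := fun i =>
      mkHom (T := U i) (T' := D.obj i) (pullback.snd q (φ i)) rfl
    choose α' hα' using hα
    have hz : ∀ i, ∃ z : U i ⟶ Z, z.hom.left.hom = pullback.fst q (φ i) := fun i =>
      mkHom (T := U i) (T' := Z) (pullback.fst q (φ i)) (by
        show pullback.fst q (φ i) ≫ q ≫ s.pt.hom.hom = pullback.snd q (φ i) ≫ (D.obj i).obj.hom.hom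
        rw [pullback.condition_assoc, hφB])
    choose z hz' using hz
    have hm : ∀ {i j : I} (g : i ⟶ j), ∃ m : U i ⟶ U j,
        m.hom.left.hom ≫ pullback.fst q (φ j) = pullback.fst q (φ i) ∧
        m.hom.left.hom ≫ pullback.snd q (φ j) = pullback.snd q (φ i) ≫ (D.map g).hom.left.hom := by
      intro i j g
      obtain ⟨m, hm⟩ := mkHom (T := U i) (T' := U j)
        (pullback.lift (pullback.fst q (φ i)) (pullback.snd q (φ i) ≫ (D.map g).hom.left.hom)
          (by rw [Category.assoc, hφ, pullback.condition])) (by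
          show pullback.lift _ _ _ ≫ pullback.snd q (φ j) ≫ (D.obj j).obj.hom.hom =
            pullback.snd q (φ i) ≫ (D.obj i).obj.hom.hom
          rw [pullback.lift_snd_assoc, Category.assoc]
          exact congrArg (pullback.snd q (φ i) ≫ ·) (congrArg InducedCategory.Hom.hom (Over.w (D.map g).hom)))
      exact ⟨m, by rw [hm, pullback.lift_fst], by rw [hm, pullback.lift_snd]⟩
    choose m hm₁ hm₂ using @hm
    let D' : I ⥤ P.FullSubcategory :=
      { obj := U
        map := fun g => m g
        map_id := fun i => hh _ _ (pullback.hom_ext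
          (by rw [hm₁]; exact (Category.id_comp _).symm)
          (by rw [hm₂, D.map_id]; exact (Category.comp_id _).trans (Category.id_comp _).symm))
        map_comp := fun {i j l} g g' => hh _ _ (pullback.hom_ext
          (by
            show _ = ((m g).hom.left.hom ≫ (m g').hom.left.hom) ≫ _
            rw [hm₁, Category.assoc, hm₁, hm₁])
          (by
            show _ = ((m g).hom.left.hom ≫ (m g').hom.left.hom) ≫ _
            rw [hm₂, Category.assoc, hm₂, reassoc_of% (hm₂ g), D.map_comp]
            rfl)) }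
    let α : D' ⟶ D := { app := α', naturality := fun i j g => hh _ _ (by
      show (m g).hom.left.hom ≫ (α' j).hom.left.hom = (α' i).hom.left.hom ≫ (D.map g).hom.left.hom
      rw [hα', hα', hm₂]) }
    have heq : ∀ ⦃i j : I⦄ (g : i ⟶ j), IsPullback (D'.map g).hom.left.hom (α.app i).hom.left.hom
        (α.app j).hom.left.hom (D.map g).hom.left.hom := by
      intro i j g
      show IsPullback (m g).hom.left.hom (α' i).hom.left.hom (α' j).hom.left.hom (D.map g).hom.left.hom
      rw [hα', hα']
      refine IsPullback.of_right ?_ (hm₂ g) (IsPullback.of_hasPullback q (φ j))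
      rw [hm₁, hφ]
      exact IsPullback.of_hasPullback q (φ i)
    have hαE : ∀ i, IsEtaleMor (α.app i).hom.left.hom := fun i => by
      show IsEtaleMor (α' i).hom.left.hom
      rw [hα']
      exact isEtaleMor_pullback_map (IsAlgSpace.yon_obj _) Y.property (D.obj i).obj.left.property
        (IsPullback.of_hasPullback q (φ i)) hqE
    have hαsep : ∀ i, IsSeparatedMor (α.app i).hom.left.hom := fun i => by
      show IsSeparatedMor (α' i).hom.left.hom
      rw [hα']
      exact hsepbc (IsPullback.of_hasPullback q (φ i)) hqsep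
    obtain ⟨c', a, hae, hasep, hsq⟩ := h₅ D' α heq hαE hαsep
    obtain ⟨hc'⟩ := h₄ D' α c' a hae hasep hsq
    -- the map to the atlas
    let cz : Cocone D' :=
      { pt := Z
        ι := { app := z
               naturality := fun i j g => hh _ _ (by
                show (m g).hom.left.hom ≫ (z j).hom.left.hom = (z i).hom.left.hom ≫ 𝟙 _
                rw [hz', hz', hm₁, Category.comp_id]) } }
    let zU := hc'.desc cz
    have hzU : ∀ i, (c'.ι.app i).hom.left.hom ≫ zU.hom.left.hom = pullback.fst q (φ i) := fun i =>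
      (congrArg (fun t : U i ⟶ Z => t.hom.left.hom) (hc'.fac cz i)).trans (hz' i)
    let a₀ := a.hom.left.hom
    have hsurj : Function.Surjective (Points.map a₀) := fun x => by
      obtain ⟨i, y, rfl⟩ := h₃ x
      obtain ⟨v, hv⟩ := hqS (Points.map (φ i) y)
      obtain ⟨w, -, hw⟩ := exists_of_isPullback (IsPullback.of_hasPullback q (φ i)) hv
      refine ⟨Points.map (c'.ι.app i).hom.left.hom w, ?_⟩
      rw [← Points.map_comp]
      have := (hsq i).w
      rw [show (α.app i).hom.left.hom = pullback.snd q (φ i) from hα' i] at this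
      rw [this, Points.map_comp, hw]
    -- the relation
    have hRsp : IsAlgSpace (pullback a₀ a₀) := isAlgSpace_pullback' c.pt.obj.left.property
      c'.pt.obj.left.property c'.pt.obj.left.property a₀ a₀
    let R : P.FullSubcategory := ⟨Over.mk (Y := (⟨pullback a₀ a₀, hRsp⟩ : Space S))
      (ObjectProperty.homMk ((pullback.fst a₀ a₀ ≫ a₀) ≫ c.pt.obj.hom.hom)),
      (hP _).2 (isSeparatedMor_comp (isSeparatedMor_comp (hsepbc (IsPullback.of_hasPullback a₀ a₀).flip hasep) hasep)
        ((hP _).1 c.pt.property))⟩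
    have hU''sp : ∀ i, IsAlgSpace (pullback (pullback.snd q (φ i)) (pullback.snd q (φ i))) := fun i =>
      isAlgSpace_pullback' (D.obj i).obj.left.property (hUsp i) (hUsp i) _ _
    let U'' : I → P.FullSubcategory := fun i =>
      ⟨Over.mk (Y := (⟨pullback (pullback.snd q (φ i)) (pullback.snd q (φ i)), hU''sp i⟩ : Space S))
        (ObjectProperty.homMk ((pullback.fst _ _ ≫ pullback.snd q (φ i)) ≫ (D.obj i).obj.hom.hom)),
        (hP _).2 (isSeparatedMor_comp (isSeparatedMor_comp
          (hsepbc (IsPullback.of_hasPullback _ _).flip (hsepbc (IsPullback.of_hasPullback q (φ i)) hqsep))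
          (hsepbc (IsPullback.of_hasPullback q (φ i)) hqsep)) ((hP _).1 (D.obj i).property))⟩
    let u'' : ∀ {i j : I} (g : i ⟶ j), (U'' i).obj.left.obj ⟶ (U'' j).obj.left.obj := fun {i j} g =>
      pullback.map _ _ _ _ (m g).hom.left.hom (m g).hom.left.hom (D.map g).hom.left.hom (hm₂ g).symm (hm₂ g).symm
    have hm'' : ∀ {i j : I} (g : i ⟶ j), ∃ n : U'' i ⟶ U'' j, n.hom.left.hom = u'' g := fun {i j} g =>
      mkHom (T := U'' i) (T' := U'' j) (u'' g) (by
        show u'' g ≫ (pullback.fst _ _ ≫ pullback.snd q (φ j)) ≫ (D.obj j).obj.hom.hom =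
          (pullback.fst _ _ ≫ pullback.snd q (φ i)) ≫ (D.obj i).obj.hom.hom
        simp only [u'', Category.assoc, pullback.lift_fst_assoc, reassoc_of% (hm₂ g)]
        congr 2
        exact congrArg InducedCategory.Hom.hom (Over.w (D.map g).hom))
    choose m'' hm'' using @hm''
    let D'' : I ⥤ P.FullSubcategory :=
      { obj := U''
        map := fun g => m'' g
        map_id := fun i => hh _ _ (by
          rw [hm'']
          show u'' (𝟙 i) = 𝟙 _
          apply pullback.hom_ext <;>
            simp [u'', show (m (𝟙 i)).hom.left.hom = 𝟙 _ from congrArg (fun t : U i ⟶ U i => t.hom.left.hom) (D'.map_id i)] <;> exact Category.comp_id _)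
        map_comp := fun {i j l} g g' => hh _ _ (by
          rw [hm'']
          show u'' (g ≫ g') = (m'' g).hom.left.hom ≫ (m'' g').hom.left.hom
          rw [hm'', hm'']
          apply pullback.hom_ext <;>
            simp [u'', show (m (g ≫ g')).hom.left.hom = (m g).hom.left.hom ≫ (m g').hom.left.hom from
              congrArg (fun t : U i ⟶ U l => t.hom.left.hom) (D'.map_comp g g')]) }
    have hα'' : ∀ i, ∃ t : U'' i ⟶ D.obj i, t.hom.left.hom = pullback.fst _ _ ≫ pullback.snd q (φ i) := fun i =>
      mkHom (T := U'' i) (T' := D.obj i) (pullback.fst _ _ ≫ pullback.snd q (φ i)) rfl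
    choose α'' hα'' using hα''
    let αN : D'' ⟶ D := { app := α'', naturality := fun i j g => hh _ _ (by
      show (m'' g).hom.left.hom ≫ (α'' j).hom.left.hom = (α'' i).hom.left.hom ≫ (D.map g).hom.left.hom
      rw [hm'', hα'', hα'']
      simp [u'', hm₂]) }
    have hsq₀ : ∀ i, IsPullback (c'.ι.app i).hom.left.hom (pullback.snd q (φ i)) a₀ (c.ι.app i).hom.left.hom :=
      fun i => hα' i ▸ hsq i
    let e'' : ∀ i, (U'' i).obj.left.obj ⟶ R.obj.left.obj := fun i =>
      pullback.map _ _ _ _ (c'.ι.app i).hom.left.hom (c'.ι.app i).hom.left.hom (c.ι.app i).hom.left.hom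
        (hsq₀ i).w.symm (hsq₀ i).w.symm
    have hι'' : ∀ i, ∃ t : U'' i ⟶ R, t.hom.left.hom = e'' i := fun i => mkHom (T := U'' i) (T' := R) (e'' i) (by
      show e'' i ≫ (pullback.fst a₀ a₀ ≫ a₀) ≫ c.pt.obj.hom.hom =
        (pullback.fst _ _ ≫ pullback.snd q (φ i)) ≫ (D.obj i).obj.hom.hom
      simp only [e'', Category.assoc, pullback.lift_fst_assoc, reassoc_of% (hsq₀ i).w]
      congr 2
      exact congrArg InducedCategory.Hom.hom (Over.w (c.ι.app i).hom))
    choose ι'' hι'' using hι''
    let c'' : Cocone D'' :=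
      { pt := R
        ι :=
          { app := ι''
            naturality := fun i j g => hh _ _ (by
              show (m'' g).hom.left.hom ≫ (ι'' j).hom.left.hom = (ι'' i).hom.left.hom ≫ 𝟙 _
              rw [hm'', hι'', hι'', Category.comp_id]
              apply pullback.hom_ext <;> simp [u'', e''] <;>
                exact congrArg _ (congrArg (fun t : U i ⟶ c'.pt => t.hom.left.hom) (c'.w g))) } }
    obtain ⟨a'', ha''⟩ : ∃ a'' : R ⟶ c.pt, a''.hom.left.hom = pullback.fst a₀ a₀ ≫ a₀ :=
      mkHom (T := R) (T' := c.pt) (pullback.fst a₀ a₀ ≫ a₀) rfl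
    have hsq'' : ∀ i, IsPullback (c''.ι.app i).hom.left.hom (αN.app i).hom.left.hom a''.hom.left.hom
        (c.ι.app i).hom.left.hom := fun i => by
      show IsPullback (ι'' i).hom.left.hom (α'' i).hom.left.hom a''.hom.left.hom (c.ι.app i).hom.left.hom
      rw [hι'', hα'', ha'']
      let sn := pullback.snd q (φ i)
      have big : IsPullback (pullback.fst sn sn ≫ (c'.ι.app i).hom.left.hom) (pullback.snd sn sn) a₀
          ((c'.ι.app i).hom.left.hom ≫ a₀) := by
        have := (IsPullback.of_hasPullback sn sn).paste_horiz (hsq₀ i)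
        rwa [← (hsq₀ i).w] at this
      have A : IsPullback (e'' i) (pullback.snd sn sn) (pullback.snd a₀ a₀) (c'.ι.app i).hom.left.hom := by
        refine IsPullback.of_right ?_ (by simp [e'', sn]) (IsPullback.of_hasPullback a₀ a₀)
        simpa [e'', sn] using big
      have := A.paste_vert (hsq₀ i)
      convert this using 1 <;> exact pullback.condition
    have ha''e : IsEtaleMor a''.hom.left.hom := by
      rw [ha'']
      exact isEtaleMor_of_locP c.pt.obj.left.property (EtLocal.locP_comp .etale hRsp c'.pt.obj.left.property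
        c.pt.obj.left.property
        (EtLocal.etale.locP_of_isPullback c'.pt.obj.left.property c.pt.obj.left.property c'.pt.obj.left.property
          (IsPullback.of_hasPullback a₀ a₀).flip (locP_of_isEtaleMor c.pt.obj.left.property hae))
        (locP_of_isEtaleMor c.pt.obj.left.property hae))
    have ha''sep : IsSeparatedMor a''.hom.left.hom := by
      rw [ha'']
      exact isSeparatedMor_comp (hsepbc (IsPullback.of_hasPullback a₀ a₀).flip hasep) hasep
    obtain ⟨hc''⟩ := h₄ D'' αN c'' a'' ha''e ha''sep hsq''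
    have hWsp : IsAlgSpace (pullback q q) :=
      isAlgSpace_pullback' Y.property (IsAlgSpace.yon_obj _) (IsAlgSpace.yon_obj _) q q
    let W : P.FullSubcategory := ⟨Over.mk (Y := (⟨pullback q q, hWsp⟩ : Space S))
      (ObjectProperty.homMk (pullback.fst q q ≫ q ≫ s.pt.hom.hom)),
      (hP _).2 (isSeparatedMor_comp (hsepbc (IsPullback.of_hasPullback q q).flip hqsep) hqB)⟩
    let k₀ : ∀ i, (U'' i).obj.left.obj ⟶ W.obj.left.obj := fun i =>
      pullback.lift (pullback.fst _ _ ≫ pullback.fst q (φ i)) (pullback.snd _ _ ≫ pullback.fst q (φ i)) (by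
        rw [Category.assoc, Category.assoc, pullback.condition, pullback.condition_assoc])
    have hk' : ∀ i, ∃ t : U'' i ⟶ W, t.hom.left.hom = k₀ i := fun i => mkHom (T := U'' i) (T' := W) (k₀ i) (by
      show k₀ i ≫ pullback.fst q q ≫ q ≫ s.pt.hom.hom =
        (pullback.fst _ _ ≫ pullback.snd q (φ i)) ≫ (D.obj i).obj.hom.hom
      rw [← Category.assoc, pullback.lift_fst, Category.assoc, pullback.condition_assoc, hφB]
      simp only [Category.assoc])
    choose k' hk' using hk'
    let cW : Cocone D'' :=
      { pt := W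
        ι := { app := k'
               naturality := fun i j g => hh _ _ (by
                show (m'' g).hom.left.hom ≫ (k' j).hom.left.hom = (k' i).hom.left.hom ≫ 𝟙 _
                rw [hm'', hk', hk', Category.comp_id]
                apply pullback.hom_ext <;> simp [u'', k₀, hm₁]) } }
    let k := hc''.desc cW
    have hk : ∀ i, e'' i ≫ k.hom.left.hom = k₀ i := fun i => by
      rw [← hι'', ← hk']
      exact congrArg (fun t : U'' i ⟶ W => t.hom.left.hom) (hc''.fac cW i)
    have hb₁ : ∀ (p : pullback a₀ a₀ ⟶ c'.pt.obj.left.obj), p ≫ a₀ = pullback.fst a₀ a₀ ≫ a₀ →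
        ∀ (π : pullback q q ⟶ (yon S).obj (sigmaOver V)), π ≫ q = pullback.fst q q ≫ q →
        (∀ i, e'' i ≫ p ≫ zU.hom.left.hom = k₀ i ≫ π) → p ≫ zU.hom.left.hom = k.hom.left.hom ≫ π := by
      intro p hp π hπ he
      obtain ⟨u₁, hu₁⟩ := mkHom (T := R) (T' := Z) (p ≫ zU.hom.left.hom) (by
        show (p ≫ zU.hom.left.hom) ≫ q ≫ s.pt.hom.hom = (pullback.fst a₀ a₀ ≫ a₀) ≫ c.pt.obj.hom.hom
        rw [Category.assoc, show zU.hom.left.hom ≫ q ≫ s.pt.hom.hom = c'.pt.obj.hom.hom from
          congrArg InducedCategory.Hom.hom (Over.w zU.hom), show c'.pt.obj.hom.hom = a₀ ≫ c.pt.obj.hom.hom from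
          (congrArg InducedCategory.Hom.hom (Over.w a.hom)).symm, ← Category.assoc, hp])
      obtain ⟨u₂, hu₂⟩ := mkHom (T := W) (T' := Z) π (by
        show π ≫ q ≫ s.pt.hom.hom = pullback.fst q q ≫ q ≫ s.pt.hom.hom
        rw [← Category.assoc, hπ, Category.assoc])
      have : u₁ = k ≫ u₂ := hc''.hom_ext fun i => hh _ _ (by
        show (ι'' i).hom.left.hom ≫ u₁.hom.left.hom = (ι'' i).hom.left.hom ≫ k.hom.left.hom ≫ u₂.hom.left.hom
        rw [hι'', hu₁, hu₂, he, reassoc_of% (hk i)])
      rw [← hu₁, ← hu₂]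
      exact congrArg (fun t : R ⟶ Z => t.hom.left.hom) this
    have e₁ := hb₁ (pullback.fst a₀ a₀) rfl (pullback.fst q q) rfl (fun i => by simp [e'', k₀, hzU])
    have e₂ := hb₁ (pullback.snd a₀ a₀) pullback.condition.symm (pullback.snd q q) pullback.condition.symm
      (fun i => by simp [e'', k₀, hzU])
    haveI : Sheaf.IsLocallySurjective a₀ := by
      obtain ⟨T, b, be, bs⟩ := c'.pt.obj.left.property.atlas
      have hbe : RepWith @Etale (b ≫ a₀) := hae b be
      have hbs : RepWith @Surjective (b ≫ a₀) := repWith_surjective_of_ofPt hbe.1 fun x => by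
        obtain ⟨y, rfl⟩ := hsurj x
        obtain ⟨v, rfl⟩ := surjective_ofPt_of_repWith bs y
        exact ⟨v, (Points.map_ofPt _ _ _).symm⟩
      haveI : Epi (b ≫ a₀) :=
        (Sheaf.isLocallySurjective_iff_epi _).1 (chart_isLocallySurjective hbe hbs)
      exact (Sheaf.isLocallySurjective_iff_epi _).2 (epi_of_epi b a₀)
    haveI := IsRegularEpiCategory.regularEpiOfEpi (C := Sp S) a₀
    obtain ⟨g, hg⟩ := IsRegularEpi.exists_of_isKernelPair a₀
      (IsPullback.of_hasPullback a₀ a₀) (zU.hom.left.hom ≫ q) (by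
        rw [← Category.assoc, e₁, ← Category.assoc, e₂, Category.assoc, Category.assoc, pullback.condition])
    have hgB : g ≫ s.pt.hom.hom = c.pt.obj.hom.hom := by
      haveI : Epi a₀ := (Sheaf.isLocallySurjective_iff_epi _).1 inferInstance
      rw [← cancel_epi a₀, reassoc_of% hg]
      exact (congrArg InducedCategory.Hom.hom (Over.w zU.hom)).trans
        (congrArg InducedCategory.Hom.hom (Over.w a.hom)).symm
    refine ⟨Over.homMk (ObjectProperty.homMk g) (ObjectProperty.hom_ext _ hgB),
      fun i => Over.OverMorphism.ext (ObjectProperty.hom_ext _ ?_)⟩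
    show (c.ι.app i).hom.left.hom ≫ g = φ i
    haveI : Epi (pullback.snd q (φ i)) := by
      haveI := chart_isLocallySurjective hqe hqs
      exact (Sheaf.isLocallySurjective_iff_epi _).1
        (isLocallySurjective_of_isPullback (IsPullback.of_hasPullback q (φ i)))
    rw [← cancel_epi (pullback.snd q (φ i)), ← Category.assoc, ← (hsq₀ i).w, Category.assoc, hg,
      reassoc_of% (hzU i), pullback.condition]
  have uniq : ∀ {Y : Over B} (g g' : c.pt.obj ⟶ Y),
      (∀ i, (c.ι.app i).hom ≫ g = (c.ι.app i).hom ≫ g') → g = g' := by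
    intro Y g g' h
    let d := prod.lift g.left.hom g'.left.hom
    let n := pullback.snd (Limits.diag Y.left.obj) d
    have hEsp : IsAlgSpace (pullback (Limits.diag Y.left.obj) d) :=
      isAlgSpace_pullback' (isAlgSpace_prod Y.left.property Y.left.property) Y.left.property c.pt.obj.left.property _ _
    haveI : Mono n := inferInstance
    let E : P.FullSubcategory := ⟨Over.mk (Y := (⟨pullback (Limits.diag Y.left.obj) d, hEsp⟩ : Space S))
      (ObjectProperty.homMk (n ≫ c.pt.obj.hom.hom)),
      (hP _).2 (isSeparatedMor_comp isSeparatedMor_of_mono ((hP _).1 c.pt.property))⟩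
    obtain ⟨n', hn'⟩ := mkHom (T := E) (T' := c.pt) n rfl
    haveI : Mono n' := ⟨fun u v huv => hh _ _ (by
      rw [← cancel_mono n, ← hn']
      exact congrArg (fun t => t.hom.left.hom) huv)⟩
    have hl : ∀ i, ∃ l : D.obj i ⟶ E, l ≫ n' = c.ι.app i := fun i => by
      have hgi : (c.ι.app i).hom.left.hom ≫ g.left.hom = (c.ι.app i).hom.left.hom ≫ g'.left.hom :=
        congrArg (fun t => t.left.hom) (h i)
      obtain ⟨l, hl⟩ := mkHom (T := D.obj i) (T' := E)
        (pullback.lift ((c.ι.app i).hom.left.hom ≫ g.left.hom) (c.ι.app i).hom.left.hom (by ext <;> simp [d, hgi])) (by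
          show pullback.lift _ _ _ ≫ n ≫ c.pt.obj.hom.hom = (D.obj i).obj.hom.hom
          rw [pullback.lift_snd_assoc]
          exact congrArg InducedCategory.Hom.hom (Over.w (c.ι.app i).hom))
      refine ⟨l, hh _ _ ?_⟩
      show l.hom.left.hom ≫ n'.hom.left.hom = (c.ι.app i).hom.left.hom
      rw [hl, hn']
      exact pullback.lift_snd _ _ _
    choose l hl using hl
    let cE : Cocone D :=
      { pt := E
        ι := { app := l
               naturality := fun i j u => by
                rw [← cancel_mono n', Category.assoc, Category.assoc, hl]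
                exact (c.w u).trans ((hl i).symm.trans (congrArg (l i ≫ ·) (Category.id_comp n').symm)) } }
    have ht : h₂.desc cE ≫ n' = 𝟙 _ := h₂.hom_ext fun i => by
      rw [h₂.fac_assoc, Category.comp_id]
      exact hl i
    have hs : (h₂.desc cE).hom.left.hom ≫ n = 𝟙 _ := by
      rw [← hn']
      exact congrArg (fun t : c.pt ⟶ c.pt => t.hom.left.hom) ht
    have e : d = ((h₂.desc cE).hom.left.hom ≫ pullback.fst (Limits.diag Y.left.obj) d) ≫ Limits.diag Y.left.obj := by
      rw [Category.assoc, pullback.condition, reassoc_of% hs]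
    have e₁ := congrArg (fun m => m ≫ (prod.fst : Y.left.obj ⨯ Y.left.obj ⟶ _)) e
    have e₂ := congrArg (fun m => m ≫ (prod.snd : Y.left.obj ⨯ Y.left.obj ⟶ _)) e
    simp only [d, prod.lift_fst, prod.lift_snd, Category.assoc, Category.comp_id] at e₁ e₂
    exact Over.OverMorphism.ext (ObjectProperty.hom_ext _ (e₁.trans e₂.symm))
  choose g hg using key
  exact ⟨{
    desc := g
    fac := fun s i => hg s i
    uniq := fun s m hm => uniq m (g s) fun i => (hm i).trans (hg s i).symm }⟩

end Groth.Agent.S10728
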