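import Groth.Statements.S10730
import Groth.Agent.S10719
import Groth.Agent.Lib.AlgSp.EtSmLocality
import Groth.Agent.Lib.AlgSp.PointsUniv
import Groth.Agent.Lib.AlgSp.OpenSub
import Groth.Agent.Lib.AlgSp.FppfCover
import Groth.Agent.Lib.AlgSp.LocPPoints

set_option autoImplicit false
universe w v u
open CategoryTheory CategoryTheory.Limits AlgebraicGeometry
open AlgSp GrothLib.AlgSp
open Groth.Agent.S10719 (bcDiag bcα bcι)
set_option backward.isDefEq.respectTransparency false

namespace Groth.Agent.S10730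

section Helpers

variable {S : Scheme.{u}}

theorem isFpqcCover_of_etale {ι : Type u} {X : Sp S} (hX : IsAlgSpace X) {Y : ι → Sp S} (hY : ∀ i, IsAlgSpace (Y i))
    {g : ∀ i, Y i ⟶ X} (he : ∀ i, IsEtaleMor (g i)) (hs : ∀ x, ∃ i, x ∈ Set.range (Points.map (g i))) :
    IsFpqcCover Y g :=
  isFpqcCover_of_isFppfCover hX hY ⟨fun i => ⟨locP_mono (fun _ _ k (_ : Etale k) => (inferInstance : Flat k))
    (locP_of_isEtaleMor hX (he i)), locP_mono (fun _ _ k (_ : Etale k) => (inferInstance : LocallyOfFinitePresentation k))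
    (locP_of_isEtaleMor hX (he i))⟩, hs⟩

theorem isEtaleMor_id' (X : Sp S) : IsEtaleMor (𝟙 X) := fun _ φ h => by rw [Category.comp_id]; exact h

theorem isEtaleMor_comp' {X Y Z : Sp S} (hY : IsAlgSpace Y) (hZ : IsAlgSpace Z) (hX : IsAlgSpace X) {f : X ⟶ Y}
    {g : Y ⟶ Z} (hf : IsEtaleMor f) (hg : IsEtaleMor g) : IsEtaleMor (f ≫ g) :=
  isEtaleMor_of_locP hZ (EtLocal.etale.locP_comp hX hY hZ (locP_of_isEtaleMor hY hf) (locP_of_isEtaleMor hZ hg))

theorem hom_ext_charts {X Y : Sp S} (hX : IsAlgSpace X) (hY : IsAlgSpace Y) {f g : X ⟶ Y}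
    (h : ∀ (W : Over S) (r : (yon S).obj W ⟶ X), IsAffine W.left → RepWith @Etale r → r ≫ f = r ≫ g) : f = g := by
  obtain ⟨ι, W, r, hW, hr, hs, -⟩ := exists_affine_charts hX
  refine hom_ext_isFpqcCover (isFpqcCover_of_etale hX (fun i => IsAlgSpace.yon_obj (W i))
    (fun i => isEtaleMor_of_locP hX (EtLocal.etale.locP_of_repWith hX (hr i))) fun x => ?_) hY
    fun i => h _ _ (hW i) (hr i)
  obtain ⟨i, w, hw⟩ := hs x
  exact ⟨i, Points.ofScheme _ w, by rw [← Points.ofPt_eq_map_ofScheme]; exact hw⟩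

variable {B : AlgSp.Space S} {I : Type v} [Category.{w} I] {D : I ⥤ Over B}

/-- An object over `B` from an object over the vertex. -/
noncomputable def ov (c : Cocone D) {U : Sp S} (hU : IsAlgSpace U) (u : U ⟶ c.pt.left.obj) : Over B :=
  Over.mk (Y := (⟨U, hU⟩ : AlgSp.Space S)) (ObjectProperty.homMk (u ≫ c.pt.hom.hom))

/-- Its map to the vertex. -/
noncomputable def ovHom (c : Cocone D) {U : Sp S} (hU : IsAlgSpace U) (u : U ⟶ c.pt.left.obj) : ov c hU u ⟶ c.pt :=
  Over.homMk (ObjectProperty.homMk u) rfl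

variable (c : Cocone D)

/-- Morphisms of etale spaces over the vertex are determined by the base-change systems. -/
def HomLift : Prop :=
  ∀ (U U' : Sp S) (hU : IsAlgSpace U), IsAlgSpace U' → ∀ (u : U ⟶ c.pt.left.obj) (u' : U' ⟶ c.pt.left.obj),
    IsEtaleMor u → IsEtaleMor u' →
    ∀ f : ∀ i, ((bcDiag (ovHom c hU u)).obj i).left.obj ⟶ U',
      (∀ i, f i ≫ u' = pullback.snd u (c.ι.app i).left.hom ≫ (c.ι.app i).left.hom) →
      (∀ ⦃i j⦄ (g : i ⟶ j), ((bcDiag (ovHom c hU u)).map g).left.hom ≫ f j = f i) →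
      ∃! m : U ⟶ U', m ≫ u' = u ∧ ∀ i, pullback.fst u (c.ι.app i).left.hom ≫ m = f i

theorem bc_map_fst {U : Over B} (u : U ⟶ c.pt) {i j : I} (g : i ⟶ j) :
    ((bcDiag u).map g).left.hom ≫ pullback.fst u.left.hom (c.ι.app j).left.hom = pullback.fst _ _ :=
  (pullback.lift_fst _ _ _).trans (Category.comp_id _)

theorem bc_map_snd {U : Over B} (u : U ⟶ c.pt) {i j : I} (g : i ⟶ j) :
    ((bcDiag u).map g).left.hom ≫ pullback.snd u.left.hom (c.ι.app j).left.hom =
      pullback.snd _ _ ≫ (D.map g).left.hom :=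
  pullback.lift_snd _ _ _

variable {c}

theorem w_over {i : I} : (c.ι.app i).left.hom ≫ c.pt.hom.hom = (D.obj i).hom.hom :=
  congrArg InducedCategory.Hom.hom (Over.w (c.ι.app i))

theorem HomLift.ext (hl : HomLift c) {U U' : Sp S} (hU : IsAlgSpace U) (hU' : IsAlgSpace U') {u : U ⟶ c.pt.left.obj}
    {u' : U' ⟶ c.pt.left.obj} (hu : IsEtaleMor u) (hu' : IsEtaleMor u') {m m' : U ⟶ U'} (hm : m ≫ u' = u)
    (hm' : m' ≫ u' = u)
    (h : ∀ i, pullback.fst u (c.ι.app i).left.hom ≫ m = pullback.fst u (c.ι.app i).left.hom ≫ m') : m = m' := by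
  refine (hl U U' hU hU' u u' hu hu' (fun i => pullback.fst u (c.ι.app i).left.hom ≫ m) (fun i => ?_) ?_).unique
    ⟨hm, fun i => rfl⟩ ⟨hm', fun i => (h i).symm⟩
  · rw [Category.assoc, hm, pullback.condition]
  · intro i j g
    rw [← Category.assoc]
    exact congrArg (· ≫ m) (bc_map_fst c (ovHom c hU u) g)

/-- Jointly surjective onto the systems implies jointly surjective. -/
theorem HomLift.surjective (hl : HomLift c) {κ : Type*} {U : κ → Sp S} (_hU : ∀ a, IsAlgSpace (U a))
    (u : ∀ a, U a ⟶ c.pt.left.obj) (ho : ∀ a, IsOpen (Set.range (Points.map (u a))))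
    (h : ∀ i (d : Points (D.obj i).left.obj), ∃ a, Points.map (c.ι.app i).left.hom d ∈ Set.range (Points.map (u a)))
    (x : Points c.pt.left.obj) : ∃ a, x ∈ Set.range (Points.map (u a)) := by
  let W : Set (Points c.pt.left.obj) := ⋃ a, Set.range (Points.map (u a))
  have hW : IsOpen W := isOpen_iUnion ho
  have hj := repWith_openSubι (F := c.pt.left.obj) hW
  have hje : IsEtaleMor (openSubι c.pt.left.obj W) := fun _ φ hφ => repWith_comp hφ
    (repWith_mono hj fun _ _ k (_ : IsOpenImmersion k) => (inferInstance : Etale k))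
  haveI := mono_of_openImmersion hj
  have hf : ∀ i, ∃ f : pullback (𝟙 c.pt.left.obj) (c.ι.app i).left.hom ⟶ openSub c.pt.left.obj W,
      f ≫ openSubι c.pt.left.obj W = pullback.snd _ _ ≫ (c.ι.app i).left.hom := fun i => by
    refine (exists_factor_iff hj _).2 ?_
    rw [range_openSubι]
    rintro _ ⟨p, rfl⟩
    rw [Points.map_comp]
    exact Set.mem_iUnion.2 (h i _)
  choose f hf using hf
  obtain ⟨m, ⟨hm, -⟩, -⟩ := hl _ _ c.pt.left.property (isAlgSpace_openSub c.pt.left.property hW) (𝟙 _)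
    (openSubι c.pt.left.obj W) (isEtaleMor_id' _) hje f hf fun i j g => by
      rw [← cancel_mono (openSubι c.pt.left.obj W), Category.assoc, hf, hf, ← Category.assoc]
      refine (congrArg (· ≫ _) (bc_map_snd c (ovHom c c.pt.left.property (𝟙 _)) g)).trans ?_
      rw [Category.assoc]
      exact congrArg (pullback.snd _ _ ≫ ·) (congrArg (fun e => e.left.hom) (c.w g))
  have : x ∈ W := by
    rw [← range_openSubι (W := W)]
    exact ⟨Points.map m x, by rw [← Points.map_comp, hm, Points.map_id]⟩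
  exact Set.mem_iUnion.1 this

variable (c)

/-- Maps from etale spaces over the vertex to affine schemes over an etale chart of the base. -/
def AffineLift : Prop :=
  ∀ (B' Zs : Over S) (b : (yon S).obj B' ⟶ B.obj) (z : Zs ⟶ B'), IsAffine B'.left → IsAffine Zs.left →
    RepWith @Etale b → ∀ (U : Sp S) (hU : IsAlgSpace U) (u : U ⟶ c.pt.left.obj), IsEtaleMor u →
    ∀ x : U ⟶ (yon S).obj B', x ≫ b = u ≫ c.pt.hom.hom →
    ∀ φ : ∀ i, ((bcDiag (ovHom c hU u)).obj i).left.obj ⟶ (yon S).obj Zs,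
      (∀ i, φ i ≫ (yon S).map z = pullback.fst u (c.ι.app i).left.hom ≫ x) →
      (∀ ⦃i j⦄ (g : i ⟶ j), ((bcDiag (ovHom c hU u)).map g).left.hom ≫ φ j = φ i) →
      ∃! g : U ⟶ (yon S).obj Zs, g ≫ (yon S).map z = x ∧ ∀ i, pullback.fst u (c.ι.app i).left.hom ≫ g = φ i

variable {c}

/-- Affine charts of a space over affine charts of the base. -/
theorem exists_charts (Y : AlgSp.Space S) (hYB : Y.obj ⟶ B.obj) :
    ∃ (κ : Type u) (Bk : κ → Over S) (bk : ∀ a, (yon S).obj (Bk a) ⟶ B.obj) (Q : Type u) (Zq : Q → Over S)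
      (π : Q → κ) (zq : ∀ q, Zq q ⟶ Bk (π q)) (yq : ∀ q, (yon S).obj (Zq q) ⟶ Y.obj),
      (∀ q, IsAffine (Zq q).left) ∧ (∀ a, RepWith @Etale (bk a)) ∧ (∀ a, IsAffine (Bk a).left) ∧
      (∀ q, IsEtaleMor (yq q)) ∧ (∀ q, yq q ≫ hYB = (yon S).map (zq q) ≫ bk (π q)) ∧
      ∀ y, ∃ q w, Points.map (yq q) w = y := by
  have hY : IsAlgSpace Y.obj := Y.property
  obtain ⟨κ, Bk, bk, hBk, hbk, hbs, -⟩ := exists_affine_charts B.property
  have hov : ∀ a, ∃ (O : Over S) (p : (yon S).obj O ⟶ Y.obj) (α : O ⟶ Bk a), RepWith @Etale p ∧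
      p ≫ hYB = (yon S).map α ≫ bk a ∧
      ∀ y, Points.map hYB y ∈ Set.range (Points.ofPt (bk a)) → y ∈ Set.range (Points.ofPt p) := fun a => by
    let P := pullback hYB (bk a)
    obtain ⟨O, p, pe, ps⟩ := (isAlgSpace_pullback' B.property hY (IsAlgSpace.yon_obj (Bk a)) hYB (bk a)).atlas
    refine ⟨O, p ≫ pullback.fst hYB (bk a), (yon S).preimage (p ≫ pullback.snd hYB (bk a)),
      repWith_comp pe (repWith_of_isPullback (IsPullback.of_hasPullback hYB (bk a)).flip (hbk a)), ?_, ?_⟩
    · rw [Functor.map_preimage, Category.assoc, Category.assoc, pullback.condition]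
    · rintro y ⟨w, hw⟩
      obtain ⟨q, hq, -⟩ := exists_of_isPullback (IsPullback.of_hasPullback hYB (bk a)) (x := y)
        (y := Points.ofScheme _ w) (by rw [← Points.ofPt_eq_map_ofScheme]; exact hw.symm)
      obtain ⟨o, ho⟩ := surjective_ofPt_of_repWith ps q
      exact ⟨o, by rw [← hq, ← ho, Points.map_ofPt]⟩
  choose O p α pe hpα hpc using hov
  let 𝒰 := fun a => (O a).left.affineCover
  let Q := Σ a, (𝒰 a).I₀
  let Zq : Q → Over S := fun q => Over.mk ((𝒰 q.1).f q.2 ≫ (O q.1).hom)
  let jq : ∀ q : Q, Zq q ⟶ O q.1 := fun q => Over.homMk ((𝒰 q.1).f q.2) rfl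
  let yq : ∀ q : Q, (yon S).obj (Zq q) ⟶ Y.obj := fun q => (yon S).map (jq q) ≫ p q.1
  let zq : ∀ q : Q, Zq q ⟶ Bk q.1 := fun q => jq q ≫ α q.1
  have hZa : ∀ q, IsAffine (Zq q).left := fun q => inferInstanceAs (IsAffine ((𝒰 q.1).X q.2))
  have hyq : ∀ q, IsEtaleMor (yq q) := fun q => isEtaleMor_of_locP hY (EtLocal.etale.locP_of_repWith hY
    (repWith_comp ((repWith_yon_map_iff _ _).2 (inferInstanceAs (Etale ((𝒰 q.1).f q.2)))) (pe q.1)))
  have hyz : ∀ q, yq q ≫ hYB = (yon S).map (zq q) ≫ bk q.1 := fun q => by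
    rw [Functor.map_comp, Category.assoc, Category.assoc, hpα]
  have hys : ∀ y : Points Y.obj, ∃ q w, Points.map (yq q) w = y := fun y => by
    obtain ⟨a, w, hw⟩ := hbs (Points.map hYB y)
    obtain ⟨o, rfl⟩ := hpc a y ⟨w, hw⟩
    obtain ⟨i, t, rfl⟩ := (𝒰 a).exists_eq o
    exact ⟨⟨a, i⟩, Points.ofScheme _ t, by rw [← Points.ofPt_eq_map_ofScheme, ofPt_map_comp]; rfl⟩
  exact ⟨κ, Bk, bk, Q, Zq, fun q => q.1, zq, yq, hZa, hbk, hBk, hyq, hyz, hys⟩

variable {Y : AlgSp.Space S} {hYB : Y.obj ⟶ B.obj} {κ : Type u} {Bk : κ → Over S} {bk : ∀ a, (yon S).obj (Bk a) ⟶ B.obj}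
  {Q : Type u} {Zq : Q → Over S} {π : Q → κ} {zq : ∀ q, Zq q ⟶ Bk (π q)} {yq : ∀ q, (yon S).obj (Zq q) ⟶ Y.obj}

theorem uniq (hl : HomLift c) (ha : AffineLift c) (hZa : ∀ q, IsAffine (Zq q).left) (hbk : ∀ a, RepWith @Etale (bk a))
    (hBk : ∀ a, IsAffine (Bk a).left) (hyq : ∀ q, IsEtaleMor (yq q))
    (hyz : ∀ q, yq q ≫ hYB = (yon S).map (zq q) ≫ bk (π q)) (hys : ∀ y, ∃ q w, Points.map (yq q) w = y)
    (P : Sp S) (hP : IsAlgSpace P) (u : P ⟶ c.pt.left.obj) (hu : IsEtaleMor u) (β β' : P ⟶ Y.obj)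
    (hβ : β ≫ hYB = u ≫ c.pt.hom.hom) (hβ' : β' ≫ hYB = u ≫ c.pt.hom.hom)
    (he : ∀ i, pullback.fst u (c.ι.app i).left.hom ≫ β = pullback.fst u (c.ι.app i).left.hom ≫ β') : β = β' := by
  have hY : IsAlgSpace Y.obj := Y.property
  have hA : ∀ (γ : P ⟶ Y.obj) q, IsAlgSpace (pullback γ (yq q)) ∧ IsEtaleMor (pullback.fst γ (yq q)) := fun γ q =>
    have h := isAlgSpace_pullback' hY hP (IsAlgSpace.yon_obj (Zq q)) γ (yq q)
    ⟨h, isEtaleMor_pullback_map (IsAlgSpace.yon_obj (Zq q)) hY hP
      (IsPullback.of_hasPullback γ (yq q)).flip (hyq q)⟩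
  refine hom_ext_isFpqcCover (isFpqcCover_of_etale hP (fun q => (hA β q).1) (fun q => (hA β q).2) fun x => ?_) hY
    fun q => ?_
  · obtain ⟨q, w, hw⟩ := hys (Points.map β x)
    obtain ⟨t, ht, -⟩ := exists_of_isPullback (IsPullback.of_hasPullback β (yq q)) hw.symm
    exact ⟨q, t, ht⟩
  have he₁ := isEtaleMor_comp' hP c.pt.left.property (hA β q).1 (hA β q).2 hu
  have he₂ := isEtaleMor_comp' hP c.pt.left.property (hA β' q).1 (hA β' q).2 hu
  let a := pullback.fst β (yq q) ≫ u
  have hr : ∀ i, (pullback.fst a (c.ι.app i).left.hom ≫ pullback.fst β (yq q)) ≫ u =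
      pullback.snd a (c.ι.app i).left.hom ≫ (c.ι.app i).left.hom := fun i => by
    rw [Category.assoc]; exact pullback.condition
  have hs : ∀ i, (pullback.fst a (c.ι.app i).left.hom ≫ pullback.fst β (yq q)) ≫ β' =
      (pullback.fst a (c.ι.app i).left.hom ≫ pullback.snd β (yq q)) ≫ yq q := fun i => by
    rw [← pullback.lift_fst _ _ (hr i), Category.assoc, ← he i, ← Category.assoc, pullback.lift_fst,
      Category.assoc, Category.assoc, pullback.condition]
  obtain ⟨m, ⟨hm₁, hm₂⟩, -⟩ := hl _ _ (hA β q).1 (hA β' q).1 a (pullback.fst β' (yq q) ≫ u) he₁ he₂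
    (fun i => pullback.lift (pullback.fst a (c.ι.app i).left.hom ≫ pullback.fst β (yq q))
      (pullback.fst a (c.ι.app i).left.hom ≫ pullback.snd β (yq q)) (hs i))
    (fun i => by rw [pullback.lift_fst_assoc]; exact hr i) (fun i j g => by
      apply pullback.hom_ext
      · rw [Category.assoc, pullback.lift_fst, pullback.lift_fst, ← Category.assoc]
        exact congrArg (· ≫ _) (bc_map_fst c (ovHom c (hA β q).1 a) g)
      · rw [Category.assoc, pullback.lift_snd, pullback.lift_snd, ← Category.assoc]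
        exact congrArg (· ≫ _) (bc_map_fst c (ovHom c (hA β q).1 a) g))
  have hm₃ : m ≫ pullback.fst β' (yq q) = pullback.fst β (yq q) := hl.ext (hA β q).1 hP he₁ hu
    (by rw [Category.assoc, hm₁]) rfl fun i => by rw [← Category.assoc, hm₂, pullback.lift_fst]
  let x := pullback.snd β (yq q) ≫ (yon S).map (zq q)
  have hx : x ≫ bk (π q) = a ≫ c.pt.hom.hom := by
    rw [Category.assoc, ← hyz, ← pullback.condition_assoc, hβ, Category.assoc]
  let E := pullback c.pt.hom.hom (bk (π q))
  have hE : IsAlgSpace E := isAlgSpace_pullback' B.property c.pt.left.property (IsAlgSpace.yon_obj _) _ _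
  have hEe : IsEtaleMor (pullback.fst c.pt.hom.hom (bk (π q))) :=
    isEtaleMor_pullback_map (IsAlgSpace.yon_obj _) B.property c.pt.left.property
      (IsPullback.of_hasPullback _ (bk (π q))).flip
      (isEtaleMor_of_locP B.property (EtLocal.etale.locP_of_repWith B.property (hbk (π q))))
  have hx' : (m ≫ pullback.snd β' (yq q) ≫ (yon S).map (zq q)) ≫ bk (π q) = a ≫ c.pt.hom.hom := by
    rw [Category.assoc, Category.assoc, ← hyz, ← pullback.condition_assoc, hβ', ← hm₁, Category.assoc,
      Category.assoc]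
  have hxx : m ≫ pullback.snd β' (yq q) ≫ (yon S).map (zq q) = x := by
    have h := hl.ext (hA β q).1 hE he₁ hEe (m := pullback.lift a _ hx'.symm) (m' := pullback.lift a _ hx.symm)
      (pullback.lift_fst _ _ _) (pullback.lift_fst _ _ _) fun i => by
        apply pullback.hom_ext
        · rw [Category.assoc, pullback.lift_fst, Category.assoc, pullback.lift_fst]
        · rw [Category.assoc, pullback.lift_snd, Category.assoc, pullback.lift_snd, ← Category.assoc _ m,
            hm₂, pullback.lift_snd_assoc, Category.assoc]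
    simpa only [pullback.lift_snd] using congrArg (· ≫ pullback.snd _ _) h
  have h := (ha (Bk (π q)) (Zq q) (bk (π q)) (zq q) (hBk (π q)) (hZa q) (hbk (π q)) _ (hA β q).1 a he₁ x hx
    (fun i => pullback.fst a (c.ι.app i).left.hom ≫ pullback.snd β (yq q))
    (fun i => by rw [Category.assoc]) (fun i j g => by
      rw [← Category.assoc]
      exact congrArg (· ≫ _) (bc_map_fst c (ovHom c (hA β q).1 a) g))).unique
    (y₁ := pullback.snd β (yq q)) ⟨rfl, fun i => rfl⟩ (y₂ := m ≫ pullback.snd β' (yq q))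
    ⟨by rw [Category.assoc, hxx], fun i => by rw [← Category.assoc, hm₂, pullback.lift_snd]⟩
  rw [pullback.condition, h, Category.assoc, ← pullback.condition, ← Category.assoc, hm₃]

theorem piece (hl : HomLift c) (ha : AffineLift c)
    (h₁ : ∀ (s : Cocone D) (Z : Sp S) (hZ : IsAlgSpace Z) (y : Z ⟶ s.pt.left.obj), IsEtaleMor y →
      ∃ (U : Sp S) (hU : IsAlgSpace U) (u : U ⟶ c.pt.left.obj), IsEtaleMor u ∧
        ∃ ι : ∀ i, ((bcDiag (ovHom s hZ y)).obj i).left.obj ⟶ U,
          (∀ i, IsPullback (ι i) (pullback.snd y (s.ι.app i).left.hom) u (c.ι.app i).left.hom) ∧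
          ∀ ⦃i j⦄ (g : i ⟶ j), ((bcDiag (ovHom s hZ y)).map g).left.hom ≫ ι j = ι i)
    (s : Cocone D) {B' Zs : Over S} (b : (yon S).obj B' ⟶ B.obj) (z : Zs ⟶ B') (hB' : IsAffine B'.left)
    (hZs : IsAffine Zs.left) (hb : RepWith @Etale b) (y : (yon S).obj Zs ⟶ s.pt.left.obj) (hy : IsEtaleMor y)
    (hyz : y ≫ s.pt.hom.hom = (yon S).map z ≫ b) :
    ∃ (U : Sp S) (hU : IsAlgSpace U) (u : U ⟶ c.pt.left.obj), IsEtaleMor u ∧
      ∃ (ι : ∀ i, pullback y (s.ι.app i).left.hom ⟶ U) (g : U ⟶ (yon S).obj Zs),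
        (∀ i, IsPullback (ι i) (pullback.snd y (s.ι.app i).left.hom) u (c.ι.app i).left.hom) ∧
        (g ≫ y) ≫ s.pt.hom.hom = u ≫ c.pt.hom.hom ∧
        ∀ i, ι i ≫ g = pullback.fst y (s.ι.app i).left.hom := by
  obtain ⟨U, hU, u, hu, ι, hι, hn⟩ := h₁ s _ (IsAlgSpace.yon_obj Zs) y hy
  have hnat : ∀ ⦃i j⦄ (g : i ⟶ j), ((bcDiag (ovHom c hU u)).map g).left.hom ≫ (hι j).isoPullback.inv =
      (hι i).isoPullback.inv ≫ ((bcDiag (ovHom s (IsAlgSpace.yon_obj Zs) y)).map g).left.hom :=
    fun i j g => (hι j).hom_ext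
      (by
        rw [Category.assoc, (hι j).isoPullback_inv_fst, Category.assoc]
        exact (bc_map_fst c (ovHom c hU u) g).trans ((congrArg _ (hn g)).trans (hι i).isoPullback_inv_fst).symm)
      (by
        rw [Category.assoc, (hι j).isoPullback_inv_snd, Category.assoc]
        exact (bc_map_snd c (ovHom c hU u) g).trans
          (((congrArg _ (bc_map_snd s (ovHom s (IsAlgSpace.yon_obj Zs) y) g)).trans
            (Category.assoc _ _ _).symm).trans (congrArg (· ≫ _) (hι i).isoPullback_inv_snd)).symm)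
  let φ : ∀ i, pullback u (c.ι.app i).left.hom ⟶ (yon S).obj Zs := fun i =>
    (hι i).isoPullback.inv ≫ pullback.fst y (s.ι.app i).left.hom
  let E := pullback c.pt.hom.hom b
  have hE : IsAlgSpace E := isAlgSpace_pullback' B.property c.pt.left.property (IsAlgSpace.yon_obj _) _ _
  have hEe : IsEtaleMor (pullback.fst c.pt.hom.hom b) :=
    isEtaleMor_pullback_map (IsAlgSpace.yon_obj _) B.property c.pt.left.property
      (IsPullback.of_hasPullback _ b).flip
      (isEtaleMor_of_locP B.property (EtLocal.etale.locP_of_repWith B.property hb))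
  have hφB : ∀ i, (pullback.snd u (c.ι.app i).left.hom ≫ (c.ι.app i).left.hom) ≫ c.pt.hom.hom =
      (φ i ≫ (yon S).map z) ≫ b := fun i => by
    rw [Category.assoc, w_over, Category.assoc, ← hyz, Category.assoc, pullback.condition_assoc]
    have : (s.ι.app i).left.hom ≫ s.pt.hom.hom = (D.obj i).hom.hom := w_over
    rw [this, (hι i).isoPullback_inv_snd_assoc]
  obtain ⟨m, ⟨hm₁, hm₂⟩, -⟩ := hl U E hU hE u (pullback.fst _ _) hu hEe
    (fun i => pullback.lift _ _ (hφB i)) (fun i => pullback.lift_fst _ _ _) (fun i j g => by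
      apply pullback.hom_ext
      · rw [Category.assoc, pullback.lift_fst, pullback.lift_fst, ← Category.assoc]
        refine (congrArg (· ≫ _) (bc_map_snd c (ovHom c hU u) g)).trans ?_
        rw [Category.assoc]
        exact congrArg (pullback.snd _ _ ≫ ·) (congrArg (fun e => e.left.hom) (c.w g))
      · rw [Category.assoc, pullback.lift_snd, pullback.lift_snd]
        dsimp only [φ]
        rw [Category.assoc, Category.assoc]
        rw [reassoc_of% (hnat g)]
        have k : ((bcDiag (ovHom s (IsAlgSpace.yon_obj Zs) y)).map g).left.hom ≫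
            pullback.fst y (s.ι.app j).left.hom = pullback.fst y (s.ι.app i).left.hom :=
          bc_map_fst s (ovHom s (IsAlgSpace.yon_obj Zs) y) g
        rw [reassoc_of% k])
  obtain ⟨g, ⟨hg₁, hg₂⟩, -⟩ := ha B' Zs b z hB' hZs hb U hU u hu
    (m ≫ pullback.snd _ _) (by rw [Category.assoc, ← pullback.condition, ← Category.assoc, hm₁]) φ
    (fun i => by rw [← Category.assoc, hm₂, pullback.lift_snd]) (fun i j g => by
      simp only [φ]
      rw [reassoc_of% (hnat g)]
      exact congrArg ((hι i).isoPullback.inv ≫ ·) (bc_map_fst s (ovHom s (IsAlgSpace.yon_obj Zs) y) g))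
  refine ⟨U, hU, u, hu, ι, g, hι, ?_, fun i => ?_⟩
  · rw [Category.assoc, hyz, reassoc_of% hg₁, ← pullback.condition, ← Category.assoc, hm₁]
  · rw [← cancel_epi (hι i).isoPullback.inv, ← Category.assoc, (hι i).isoPullback_inv_fst]
    exact hg₂ i

theorem isColimit_of_lifts (hl : HomLift c) (ha : AffineLift c)
    (h₁ : ∀ (s : Cocone D) (Z : Sp S) (hZ : IsAlgSpace Z) (y : Z ⟶ s.pt.left.obj), IsEtaleMor y →
      ∃ (U : Sp S) (hU : IsAlgSpace U) (u : U ⟶ c.pt.left.obj), IsEtaleMor u ∧
        ∃ ι : ∀ i, ((bcDiag (ovHom s hZ y)).obj i).left.obj ⟶ U,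
          (∀ i, IsPullback (ι i) (pullback.snd y (s.ι.app i).left.hom) u (c.ι.app i).left.hom) ∧
          ∀ ⦃i j⦄ (g : i ⟶ j), ((bcDiag (ovHom s hZ y)).map g).left.hom ≫ ι j = ι i) :
    Nonempty (IsColimit c) := by
  suffices key : ∀ s : Cocone D, ∃! β : c.pt.left.obj ⟶ s.pt.left.obj, β ≫ s.pt.hom.hom = c.pt.hom.hom ∧
      ∀ i, (c.ι.app i).left.hom ≫ β = (s.ι.app i).left.hom by
    choose β hβ hu using key
    exact ⟨{
      desc := fun s => Over.homMk (ObjectProperty.homMk (β s)) (ObjectProperty.hom_ext _ (hβ s).1)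
      fac := fun s i => Over.OverMorphism.ext (ObjectProperty.hom_ext _ ((hβ s).2 i))
      uniq := fun s m hm => Over.OverMorphism.ext (ObjectProperty.hom_ext _
        (hu s m.left.hom ⟨congrArg InducedCategory.Hom.hom (Over.w m), fun i => congrArg (fun e => e.left.hom) (hm i)⟩)) }⟩
  intro s
  obtain ⟨κ, Bk, bk, Q, Zq, π, zq, yq, hZa, hbk, hBk, hyq, hyz, hys⟩ := exists_charts s.pt.left s.pt.hom.hom
  have hY : IsAlgSpace s.pt.left.obj := s.pt.left.property
  let hYB : s.pt.left.obj ⟶ B.obj := s.pt.hom.hom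
  have hpiece := fun q => piece hl ha h₁ s (bk (π q)) (zq q) (hBk _) (hZa q) (hbk _) (yq q) (hyq q) (hyz q)
  choose U hU u hu ι g hι hgB hιg using hpiece
  have hcov : IsFpqcCover U u := isFpqcCover_of_etale c.pt.left.property hU hu fun x => by
    refine hl.surjective hU u (fun q => (isOpenMap_map_of_isEtaleMor (hU q) c.pt.left.property (hu q)).isOpen_range) (fun i d => ?_) x
    obtain ⟨q, w, hw⟩ := hys (Points.map (s.ι.app i).left.hom d)
    obtain ⟨t, -, ht⟩ := exists_of_isPullback (IsPullback.of_hasPullback (yq q) (s.ι.app i).left.hom) hw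
    exact ⟨q, Points.map (ι q i) t, by rw [← Points.map_comp, (hι q i).w, Points.map_comp, ht]⟩
  -- on a piece, both maps to the target agree
  have hloc : ∀ (q : Q) i, ι q i ≫ g q ≫ yq q =
      pullback.snd (yq q) (s.ι.app i).left.hom ≫ (s.ι.app i).left.hom := fun q i => by
    rw [← Category.assoc, hιg, pullback.condition]
  obtain ⟨β, hβ⟩ := exists_hom_of_isFpqcCover hcov hY (b := fun q => g q ≫ yq q) fun q q' => by
    have hP := isAlgSpace_pullback' c.pt.left.property (hU q) (hU q') (u q) (u q')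
    refine uniq hl ha hZa hbk hBk hyq hyz hys _ hP (pullback.fst _ _ ≫ u q) (isEtaleMor_comp' (hU q) c.pt.left.property hP
      (isEtaleMor_pullback_map (hU q') c.pt.left.property (hU q) (IsPullback.of_hasPullback _ _).flip (hu q'))
      (hu q)) _ _ (by rw [Category.assoc, hgB, Category.assoc])
      (by rw [Category.assoc, hgB, ← Category.assoc, pullback.condition]) fun i => ?_
    have e₁ : (pullback.fst (pullback.fst (u q) (u q') ≫ u q) (c.ι.app i).left.hom ≫ pullback.fst (u q) (u q')) ≫ u q =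
        pullback.snd (pullback.fst (u q) (u q') ≫ u q) (c.ι.app i).left.hom ≫ (c.ι.app i).left.hom := by
      rw [Category.assoc]; exact pullback.condition
    have e₂ : (pullback.fst (pullback.fst (u q) (u q') ≫ u q) (c.ι.app i).left.hom ≫ pullback.snd (u q) (u q')) ≫ u q' =
        pullback.snd (pullback.fst (u q) (u q') ≫ u q) (c.ι.app i).left.hom ≫ (c.ι.app i).left.hom := by
      rw [Category.assoc, ← pullback.condition]; exact pullback.condition
    obtain ⟨l₁, hl₁, hl₁'⟩ := (hι q i).exists_lift _ _ e₁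
    obtain ⟨l₂, hl₂, hl₂'⟩ := (hι q' i).exists_lift _ _ e₂
    rw [← Category.assoc, ← hl₁, Category.assoc, hloc, reassoc_of% hl₁', ← Category.assoc, ← hl₂, Category.assoc,
      hloc, reassoc_of% hl₂']
  refine ⟨β, ⟨hom_ext_isFpqcCover hcov B.property fun q => ?_, fun i => ?_⟩, fun β' ⟨hB', hD'⟩ => ?_⟩
  · rw [← Category.assoc, hβ, hgB]
  · refine Groth.Agent.S10719.hom_ext_pullback_cover hcov (D.obj i).left.property hY (c.ι.app i).left.hom fun q => ?_
    rw [← pullback.condition_assoc, hβ, ← (hι q i).isoPullback_inv_fst, Category.assoc, hloc,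
      ← (hι q i).isoPullback_inv_snd, Category.assoc]
  · have hB : β ≫ hYB = c.pt.hom.hom := hom_ext_isFpqcCover hcov B.property fun q => by
      rw [← Category.assoc, hβ, hgB]
    refine uniq hl ha hZa hbk hBk hyq hyz hys _ c.pt.left.property (𝟙 _) (isEtaleMor_id' _) β' β (by rw [Category.id_comp]; exact hB')
      (by rw [Category.id_comp]; exact hB) fun i => ?_
    have hD : (c.ι.app i).left.hom ≫ β = (s.ι.app i).left.hom :=
      Groth.Agent.S10719.hom_ext_pullback_cover hcov (D.obj i).left.property hY (c.ι.app i).left.hom fun q => by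
        rw [← pullback.condition_assoc, hβ, ← (hι q i).isoPullback_inv_fst, Category.assoc, hloc,
          ← (hι q i).isoPullback_inv_snd, Category.assoc]
    have e : pullback.fst (𝟙 c.pt.left.obj) (c.ι.app i).left.hom =
        pullback.snd _ _ ≫ (c.ι.app i).left.hom := by
      rw [← pullback.condition, Category.comp_id]
    rw [e, Category.assoc, Category.assoc, hD', hD]

end Helpers

/-- Let `B` be an algebraic space over `S`, `D : I ⥤ Over B` a diagram of algebraic spaces over `B` and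
`c` a cocone. Assume (1) the base change functor from algebraic spaces etale over `c.pt` to systems
of algebraic spaces etale over the `D_i` with cartesian transition squares is an equivalence: every
such system is the base change of some etale `U → c.pt`, and every morphism between the base-change
systems of two etale `U, U' → c.pt` comes from a unique morphism `U → U'` over `c.pt`; and (2) for
every affine scheme `B'` etale over `B`, affine scheme `Z` over `B'`, affine scheme `U` etale over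
`c.pt ×_B B'` and cocone of morphisms `U ×_{c.pt} D_i → Z` over `B'`, there is a unique `U → Z` over
`B'` inducing it. Then `c` is a colimit in algebraic spaces over `B`. -/
theorem result {S : Scheme.{u}} {B : AlgSp.Space S} {I : Type v} [Category.{w} I]
    (D : I ⥤ Over B) (c : Cocone D)
    (h₁ : ∀ (D' : I ⥤ Over B) (α : D' ⟶ D),
      (∀ ⦃i j : I⦄ (g : i ⟶ j), IsPullback (D'.map g).left.hom (α.app i).left.hom (α.app j).left.hom (D.map g).left.hom) →
      (∀ i, AlgSp.IsEtaleMor (α.app i).left.hom) →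
        ∃ (c' : Cocone D') (a : c'.pt ⟶ c.pt), AlgSp.IsEtaleMor a.left.hom ∧
          ∀ i, IsPullback (c'.ι.app i).left.hom (α.app i).left.hom a.left.hom (c.ι.app i).left.hom)
    (h₁' : ∀ (U U' : Over B) (u : U ⟶ c.pt) (u' : U' ⟶ c.pt), AlgSp.IsEtaleMor u.left.hom → AlgSp.IsEtaleMor u'.left.hom →
      ∀ (DU DU' : I ⥤ Over B) (αU : DU ⟶ D) (αU' : DU' ⟶ D) (ιU : DU ⟶ (Functor.const I).obj U)
        (ιU' : DU' ⟶ (Functor.const I).obj U'),
        (∀ i, IsPullback (ιU.app i).left.hom (αU.app i).left.hom u.left.hom (c.ι.app i).left.hom) →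
        (∀ i, IsPullback (ιU'.app i).left.hom (αU'.app i).left.hom u'.left.hom (c.ι.app i).left.hom) →
        ∀ (β : DU ⟶ DU'), β ≫ αU' = αU →
          ∃! m : U ⟶ U', m ≫ u' = u ∧ ∀ i, ιU.app i ≫ m = β.app i ≫ ιU'.app i)
    (h₂ : ∀ (B' Zs Us : Over S) (b : (AlgSp.yon S).obj B' ⟶ B.obj) (z : Zs ⟶ B') {XB : AlgSp.Space S}
      (x₁ : XB ⟶ c.pt.left) (x₂ : XB.obj ⟶ (AlgSp.yon S).obj B') (uu : (AlgSp.yon S).obj Us ⟶ XB.obj)
      (DU : I ⥤ AlgSp.Space S) (αU : DU ⟶ D ⋙ Over.forget B)
      (ιU : DU ⟶ (Functor.const I).obj ((AlgSp.ofScheme S).obj Us))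
      (φ : DU ⟶ (Functor.const I).obj ((AlgSp.ofScheme S).obj Zs)),
      IsAffine B'.left → IsAffine Zs.left → IsAffine Us.left → AlgSp.RepWith @Etale b →
      IsPullback x₁.hom x₂ c.pt.hom.hom b → AlgSp.RepWith @Etale uu →
      (∀ i, IsPullback (ιU.app i).hom (αU.app i).hom (uu ≫ x₁.hom) (c.ι.app i).left.hom) →
      (∀ i, (φ.app i).hom ≫ (AlgSp.yon S).map z = (ιU.app i).hom ≫ uu ≫ x₂) →
        ∃! fz : Us ⟶ Zs, (AlgSp.yon S).map fz ≫ (AlgSp.yon S).map z = uu ≫ x₂ ∧
          ∀ i, (ιU.app i).hom ≫ (AlgSp.yon S).map fz = (φ.app i).hom) :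
    Nonempty (IsColimit c) := by
  have hl : HomLift c := fun U U' hU hU' u u' hu hu' f hf hn => by
    let β : bcDiag (ovHom c hU u) ⟶ bcDiag (ovHom c hU' u') :=
      { app := fun i => Over.homMk (ObjectProperty.homMk (pullback.lift (f i) (pullback.snd _ _) (hf i)))
          (ObjectProperty.hom_ext _ (pullback.lift_snd_assoc _ _ _ _))
        naturality := fun i j g => Over.OverMorphism.ext (ObjectProperty.hom_ext _ (pullback.hom_ext
          (by
            change (((bcDiag (ovHom c hU u)).map g).left.hom ≫ pullback.lift _ _ (hf j)) ≫ pullback.fst _ _ =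
              (pullback.lift _ _ (hf i) ≫ ((bcDiag (ovHom c hU' u')).map g).left.hom) ≫ pullback.fst _ _
            rw [Category.assoc, pullback.lift_fst, hn g, Category.assoc]
            exact ((congrArg _ (bc_map_fst c (ovHom c hU' u') g)).trans (pullback.lift_fst _ _ _)).symm)
          (by
            change (((bcDiag (ovHom c hU u)).map g).left.hom ≫ pullback.lift _ _ (hf j)) ≫ pullback.snd _ _ =
              (pullback.lift _ _ (hf i) ≫ ((bcDiag (ovHom c hU' u')).map g).left.hom) ≫ pullback.snd _ _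
            rw [Category.assoc, pullback.lift_snd, Category.assoc]
            exact (bc_map_snd c (ovHom c hU u) g).trans ((congrArg _ (bc_map_snd c (ovHom c hU' u') g)).trans
              (pullback.lift_snd_assoc _ _ _ _)).symm))) }
    obtain ⟨m, ⟨hm, hmi⟩, hu'⟩ := h₁' (ov c hU u) (ov c hU' u') (ovHom c hU u) (ovHom c hU' u') hu hu' _ _
      (bcα _) (bcα _) (bcι _) (bcι _) (fun i => IsPullback.of_hasPullback _ _) (fun i => IsPullback.of_hasPullback _ _)
      β (NatTrans.ext (funext fun i => Over.OverMorphism.ext (ObjectProperty.hom_ext _ (pullback.lift_snd _ _ _))))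
    refine ⟨m.left.hom, ⟨congrArg (fun e => e.left.hom) hm, fun i =>
      (congrArg (fun e => e.left.hom) (hmi i)).trans (pullback.lift_fst _ _ _)⟩, fun m' ⟨h, h'⟩ => ?_⟩
    let M : ov c hU u ⟶ ov c hU' u' := Over.homMk (ObjectProperty.homMk m') (ObjectProperty.hom_ext _
      (show m' ≫ u' ≫ c.pt.hom.hom = u ≫ c.pt.hom.hom by rw [← Category.assoc, h]))
    exact congrArg (fun e => e.left.hom) (hu' M ⟨Over.OverMorphism.ext (ObjectProperty.hom_ext _ h), fun i =>
      Over.OverMorphism.ext (ObjectProperty.hom_ext _ ((h' i).trans (pullback.lift_fst _ _ _).symm))⟩)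
  have ha : AffineLift c := fun B' Zs b z hB' hZs hb U hU u hu x hx φ hφ hn => by
    let E := pullback c.pt.hom.hom b
    have hE : IsAlgSpace E := isAlgSpace_pullback' B.property c.pt.left.property (IsAlgSpace.yon_obj _) _ _
    let XB : AlgSp.Space S := ⟨E, hE⟩
    let x₁ : XB ⟶ c.pt.left := ObjectProperty.homMk (pullback.fst _ _)
    have hx₁ : IsEtaleMor (pullback.fst c.pt.hom.hom b) :=
      isEtaleMor_pullback_map (IsAlgSpace.yon_obj _) B.property c.pt.left.property
        (IsPullback.of_hasPullback _ b).flip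
        (isEtaleMor_of_locP B.property (EtLocal.etale.locP_of_repWith B.property hb))
    let Good : ∀ {W : Over S}, ((yon S).obj W ⟶ U) → ((yon S).obj W ⟶ (yon S).obj Zs) → Prop := fun {W} r g =>
      g ≫ (yon S).map z = r ≫ x ∧ ∀ i {T : Sp S} (l : T ⟶ pullback u (c.ι.app i).left.hom)
        (w : T ⟶ (yon S).obj W), l ≫ pullback.fst _ _ = w ≫ r → w ≫ g = l ≫ φ i
    have one : ∀ (W : Over S) (r : (yon S).obj W ⟶ U), IsAffine W.left → RepWith @Etale r → ∃! g, Good r g := by
      intro W r hW hr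
      let uu : (yon S).obj W ⟶ E := pullback.lift (r ≫ u) (r ≫ x) (by rw [Category.assoc, Category.assoc, hx])
      have h₀ : LocP @Etale (uu ≫ pullback.fst c.pt.hom.hom b) := by
        rw [pullback.lift_fst]
        exact EtLocal.etale.locP_comp (IsAlgSpace.yon_obj W) hU c.pt.left.property
          (EtLocal.etale.locP_of_repWith hU hr) (locP_of_isEtaleMor c.pt.left.property hu)
      have huu : RepWith @Etale uu := EtLocal.repWith_of_locP .etale hE (representable_of_source_scheme hE _)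
        (EtLocal.locP_cancel EtLocal.etale (fun _ _ _ f g h hg => by
          haveI : Etale (f ≫ g) := h
          haveI : Etale g := hg
          exact Etale.of_comp f g) (IsAlgSpace.yon_obj W) hE c.pt.left.property h₀
          (locP_of_isEtaleMor c.pt.left.property hx₁))
      let a := uu ≫ pullback.fst c.pt.hom.hom b
      have hψ : ∀ i, (pullback.fst a (c.ι.app i).left.hom ≫ r) ≫ u =
          pullback.snd a (c.ι.app i).left.hom ≫ (c.ι.app i).left.hom := fun i => by
        have : a = r ≫ u := pullback.lift_fst _ _ _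
        rw [Category.assoc, ← this]
        exact pullback.condition
      let ψ := fun i => pullback.lift (pullback.fst a (c.ι.app i).left.hom ≫ r) (pullback.snd a _) (hψ i)
      let U₁ := ovHom c (IsAlgSpace.yon_obj W) a
      have hψn : ∀ ⦃i j⦄ (g : i ⟶ j), ((bcDiag U₁).map g).left.hom ≫ ψ j =
          ψ i ≫ ((bcDiag (ovHom c hU u)).map g).left.hom := fun i j g => by
        apply pullback.hom_ext
        · rw [Category.assoc, pullback.lift_fst, ← Category.assoc, Category.assoc (ψ i)]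
          exact (congrArg (· ≫ r) (bc_map_fst c U₁ g)).trans
            ((congrArg _ (bc_map_fst c (ovHom c hU u) g)).trans (pullback.lift_fst _ _ _)).symm
        · rw [Category.assoc, pullback.lift_snd, Category.assoc]
          exact (bc_map_snd c U₁ g).trans ((congrArg _ (bc_map_snd c (ovHom c hU u) g)).trans
            (pullback.lift_snd_assoc _ _ _ _)).symm
      let DU : I ⥤ AlgSp.Space S := bcDiag U₁ ⋙ Over.forget B
      let αU : DU ⟶ D ⋙ Over.forget B := Functor.whiskerRight (bcα U₁) (Over.forget B)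
      let ιU : DU ⟶ (Functor.const I).obj ((AlgSp.ofScheme S).obj W) :=
        { app := fun i => ObjectProperty.homMk (pullback.fst a (c.ι.app i).left.hom)
          naturality := fun i j g => ObjectProperty.hom_ext _ ((bc_map_fst c U₁ g).trans (Category.comp_id _).symm) }
      let φU : DU ⟶ (Functor.const I).obj ((AlgSp.ofScheme S).obj Zs) :=
        { app := fun i => ObjectProperty.homMk (ψ i ≫ φ i)
          naturality := fun i j g => ObjectProperty.hom_ext _ (by
            change ((bcDiag U₁).map g).left.hom ≫ ψ j ≫ φ j = (ψ i ≫ φ i) ≫ 𝟙 _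
            rw [Category.comp_id, reassoc_of% (hψn g), hn g]) }
      obtain ⟨fz, ⟨hf₁, hf₂⟩, hfu⟩ := h₂ B' Zs W b z x₁ (pullback.snd _ _) uu DU αU ιU φU hB' hZs hW hb
        (IsPullback.of_hasPullback _ _) huu (fun i => IsPullback.of_hasPullback _ _) (fun i => by
          change (ψ i ≫ φ i) ≫ (yon S).map z = pullback.fst a _ ≫ uu ≫ pullback.snd _ _
          rw [Category.assoc, hφ, pullback.lift_fst_assoc, pullback.lift_snd, Category.assoc])
      refine ⟨(yon S).map fz, ⟨by rw [hf₁, pullback.lift_snd], fun i T l w hlw => ?_⟩, fun g hg => ?_⟩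
      · have hl : w ≫ a = (l ≫ pullback.snd _ _) ≫ (c.ι.app i).left.hom := by
          rw [show a = r ≫ u from pullback.lift_fst _ _ _, ← Category.assoc, ← hlw, Category.assoc,
            pullback.condition, Category.assoc]
        have he : pullback.lift w _ hl ≫ ψ i = l := by
          apply pullback.hom_ext
          · rw [Category.assoc, pullback.lift_fst, pullback.lift_fst_assoc, hlw]
          · rw [Category.assoc, pullback.lift_snd, pullback.lift_snd]
        calc w ≫ (yon S).map fz = (pullback.lift w _ hl ≫ pullback.fst a _) ≫ (yon S).map fz := by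
              rw [pullback.lift_fst]
          _ = pullback.lift w _ hl ≫ ψ i ≫ φ i := by
              rw [Category.assoc]; exact congrArg (_ ≫ ·) (hf₂ i)
          _ = l ≫ φ i := by rw [← Category.assoc, he]
      · obtain ⟨g, rfl⟩ := (yon S).map_surjective g
        exact congrArg _ (hfu g ⟨by rw [hg.1, pullback.lift_snd], fun i => hg.2 i (ψ i) (pullback.fst a _)
          (pullback.lift_fst _ _ _)⟩)
    obtain ⟨κ, W, r, hW, hr, hs, -⟩ := exists_affine_charts hU
    choose g hg hgu using fun k => one (W k) (r k) (hW k) (hr k)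
    have hcov : IsFpqcCover (fun k => (yon S).obj (W k)) r := isFpqcCover_of_etale hU (fun k => IsAlgSpace.yon_obj _)
      (fun k => isEtaleMor_of_locP hU (EtLocal.etale.locP_of_repWith hU (hr k))) fun p => by
        obtain ⟨k, w, hw⟩ := hs p
        exact ⟨k, Points.ofScheme _ w, by rw [← Points.ofPt_eq_map_ofScheme]; exact hw⟩
    obtain ⟨G, hG⟩ := exists_hom_of_isFpqcCover hcov (IsAlgSpace.yon_obj Zs) (b := g) fun k k' => by
      refine hom_ext_charts (isAlgSpace_pullback' hU (IsAlgSpace.yon_obj _) (IsAlgSpace.yon_obj _) (r k) (r k'))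
        (IsAlgSpace.yon_obj _) fun O o hO ho => ?_
      have hro : RepWith @Etale (o ≫ pullback.fst (r k) (r k') ≫ r k) :=
        repWith_comp ho (repWith_comp (repWith_of_isPullback (IsPullback.of_hasPullback _ _).flip (hr k')) (hr k))
      have e₂ : o ≫ pullback.snd (r k) (r k') ≫ r k' = o ≫ pullback.fst (r k) (r k') ≫ r k := by
        rw [pullback.condition]
      refine (one O _ hO hro).unique
        ⟨by rw [Category.assoc, Category.assoc, (hg k).1]; simp only [Category.assoc], fun i T l w e => ?_⟩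
        ⟨by rw [Category.assoc, Category.assoc, (hg k').1, ← e₂]; simp only [Category.assoc], fun i T l w e => ?_⟩
      · rw [← Category.assoc o, ← Category.assoc w]
        exact (hg k).2 i l _ (by rw [e]; simp only [Category.assoc])
      · rw [← Category.assoc o, ← Category.assoc w]
        exact (hg k').2 i l _ (by rw [e, ← e₂]; simp only [Category.assoc])
    refine ⟨G, ⟨hom_ext_isFpqcCover hcov (IsAlgSpace.yon_obj B') fun k => by rw [← Category.assoc, hG, (hg k).1],
      fun i => ?_⟩, fun G' ⟨h, h'⟩ => hom_ext_isFpqcCover hcov (IsAlgSpace.yon_obj Zs) fun k => ?_⟩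
    · refine Groth.Agent.S10719.hom_ext_pullback_cover hcov (isAlgSpace_pullback' c.pt.left.property hU
        (D.obj i).left.property _ _) (IsAlgSpace.yon_obj Zs) (pullback.fst u (c.ι.app i).left.hom) fun k => ?_
      rw [← pullback.condition_assoc, hG]
      exact (hg k).2 i _ _ pullback.condition.symm
    · rw [hG]
      exact hgu k _ ⟨by rw [Category.assoc, h], fun i T l w e => by rw [← Category.assoc, ← e, Category.assoc, h']⟩
  refine isColimit_of_lifts hl ha fun s Z hZ y hy => ?_
  have sq : ∀ i, IsPullback (pullback.fst y (s.ι.app i).left.hom) (pullback.snd y _) y (s.ι.app i).left.hom :=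
    fun i => IsPullback.of_hasPullback _ _
  have hcart : ∀ ⦃i j : I⦄ (g : i ⟶ j), IsPullback ((bcDiag (ovHom s hZ y)).map g).left.hom
      (pullback.snd y (s.ι.app i).left.hom) (pullback.snd y (s.ι.app j).left.hom) (D.map g).left.hom := fun i j g => by
    refine IsPullback.of_right ?_ (bc_map_snd s (ovHom s hZ y) g) (sq j)
    have hs' : (D.map g).left.hom ≫ (s.ι.app j).left.hom = (s.ι.app i).left.hom :=
      congrArg (fun e => e.left.hom) (s.w g)
    rw [hs']
    exact (bc_map_fst s (ovHom s hZ y) g).symm ▸ sq i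
  obtain ⟨c', a, hea, hsq⟩ := h₁ _ (bcα (ovHom s hZ y)) hcart fun i =>
    isEtaleMor_pullback_map hZ s.pt.left.property (D.obj i).left.property (sq i) hy
  refine ⟨c'.pt.left.obj, c'.pt.left.property, a.left.hom, hea, fun i => (c'.ι.app i).left.hom, hsq, fun i j g => ?_⟩
  exact congrArg (fun e => e.left.hom) (c'.w g)

end Groth.Agent.S10730
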