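import Groth.Statements.S1074
import Groth.Agent.Lib.OX.BVdB

set_option autoImplicit false
universe u
open CategoryTheory CategoryTheory.Limits AlgebraicGeometry
attribute [local instance] HasDerivedCategory.standard
open Perf

namespace Groth.Agent.S1074

/-- Let X be a quasi-compact and quasi-separated scheme and T ⊆ X a closed subset whose complement is
quasi-compact and nonempty. Then there is a perfect object P of D(O_X) with quasi-coherent
cohomology sheaves supported on T such that an object E of D(O_X) with quasi-coherent cohomology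
sheaves supported on T is zero if and only if every morphism P[n] → E, n ∈ ℤ, is zero. The case T =
X is a separate statement. -/
theorem result (X : Scheme.{u}) [CompactSpace ↥X] [QuasiSeparatedSpace ↥X]
    (T : Set X) (hT : IsClosed T) (hTc : IsCompact Tᶜ) (hTne : Tᶜ.Nonempty) :
    ∃ P : DCoh.D X, DCoh.IsPerfect P ∧ DCoh.IsQCohD P ∧ (∀ i : ℤ, CohB1.support (DCoh.HD P i) ⊆ T) ∧
      ∀ E : DCoh.D X, DCoh.IsQCohD E → (∀ i : ℤ, CohB1.support (DCoh.HD E i) ⊆ T) →
        (IsZero E ↔ ∀ (n : ℤ) (φ : P⟦n⟧ ⟶ E), φ = 0) := by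
  open GrothLib.OX in
  obtain ⟨P, hP, hPW, hgen⟩ := hasGen_of_qcqs X ⟨Tᶜ, hT.isOpen_compl⟩ hTc
  have hiff : ∀ E : DCoh.D X, IsZero ((GrothLib.OX.resD (AlgebraicGeometry.Scheme.Opens.ι (⟨Tᶜ, hT.isOpen_compl⟩ : X.Opens))).obj E) ↔
      ∀ i : ℤ, CohB1.support (DCoh.HD E i) ⊆ T := fun E => by
    rw [GrothLib.OX.isZero_resD_iff_support, AlgebraicGeometry.Scheme.Opens.range_ι]
    exact forall_congr' fun q => by rw [show ((⟨Tᶜ, hT.isOpen_compl⟩ : X.Opens) : Set X) = Tᶜ from rfl, compl_compl]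
  exact ⟨P, hP, GrothLib.OX.isQCohD_of_isPerfect hP, (hiff P).1 hPW,
    fun E hE hET => ⟨fun h n φ => h.eq_of_tgt _ _, fun h => hgen E hE ((hiff E).2 hET) h⟩⟩

end Groth.Agent.S1074
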