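import Groth.Statements.S10741
import Groth.Agent.Lib.AlgSp.QCohCharts
-- import your own Groth.Agent.* helpers here

set_option autoImplicit false
universe u
open CategoryTheory CategoryTheory.Limits AlgebraicGeometry Opposite
open AlgSp GrothLib.AlgSp GrothLib.AlgSp.QCohEt
set_option backward.isDefEq.respectTransparency false

namespace Groth.Agent.S10741

/-- (2) ⇒ (3): let X be a locally Noetherian algebraic space over S and M an O_X-module on the small
etale site of X which is quasi-coherent and of finite type. Then M is of finite presentation. (The
converse holds on any ringed site; on a locally Noetherian space these modules are the coherent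
ones. The characterisations through pullback to etale scheme charts are not included.) -/
theorem result {S : Scheme.{u}} (X : AlgSp.Space S)
    (hX : AlgSp.IsLocNoethSp X.obj) (M : AlgSp.ModEt X.obj) [M.IsQuasicoherent] [M.IsFiniteType] :
    M.IsFinitePresentation := by
  exact isFinitePresentation_of_finite hX M (fun E hE => good_of_isQuasicoherent M hE)
    (fun E hE => finite_sec_of_isFiniteType M hE)

end Groth.Agent.S10741
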