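import Groth.Statements.S10742
import Groth.Agent.Lib.AlgSp.QCohCharts
-- import your own Groth.Agent.* helpers here

set_option autoImplicit false
universe u
open CategoryTheory CategoryTheory.Limits AlgebraicGeometry Opposite
open AlgSp GrothLib.AlgSp GrothLib.AlgSp.QCohEt
set_option backward.isDefEq.respectTransparency false

namespace Groth.Agent.S10742

/-- Let X be a locally Noetherian algebraic space over S and φ : M ⟶ N a morphism of coherent
O_X-modules on the small etale site of X (coherent meaning of finite presentation, X being locally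
Noetherian). Then the kernel and the cokernel of φ are coherent. -/
theorem result {S : Scheme.{u}} (X : AlgSp.Space S)
    (hX : AlgSp.IsLocNoethSp X.obj) {M N : AlgSp.ModEt X.obj} [M.IsFinitePresentation] [N.IsFinitePresentation]
    (φ : M ⟶ N) :
    (kernel φ).IsFinitePresentation ∧ (cokernel φ).IsFinitePresentation := by
  let T : ShortComplex (AlgSp.ModEt X.obj) := ShortComplex.mk (kernel.ι φ) φ (kernel.condition φ)
  let T' : ShortComplex (AlgSp.ModEt X.obj) := ShortComplex.mk φ (cokernel.π φ) (cokernel.condition φ)
  have hT : T.Exact := ShortComplex.exact_of_f_is_kernel _ (kernelIsKernel φ)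
  have hT' : T'.Exact := ShortComplex.exact_of_g_is_cokernel _ (cokernelIsCokernel φ)
  haveI : Mono T.f := inferInstanceAs (Mono (kernel.ι φ))
  haveI : Epi T'.g := inferInstanceAs (Epi (cokernel.π φ))
  have hk : ∀ E : AlgSp.EtOver X.obj, IsAffine E.obj.left.left → Good (O := OEt X.obj) (kernel φ) (affEt X.obj) E :=
    fun E hE => good_left (affEt X.obj) hT hE (good_of_isQuasicoherent M hE) (good_of_isQuasicoherent N hE)
  have hc : ∀ E : AlgSp.EtOver X.obj, IsAffine E.obj.left.left → Good (O := OEt X.obj) (cokernel φ) (affEt X.obj) E :=
    fun E hE => good_right (affEt X.obj) hT' hE (good_of_isQuasicoherent M hE) (good_of_isQuasicoherent N hE)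
  refine ⟨isFinitePresentation_of_finite hX _ hk fun E hE => ?_, isFinitePresentation_of_finite hX _ hc fun E hE => ?_⟩
  · haveI := isNoetherianRing_ob hX hE
    haveI := finite_sec_of_isFiniteType M hE
    exact Module.Finite.of_injective (app (O := OEt X.obj) (kernel.ι φ) E) (app_injective _ E)
  · haveI := finite_sec_of_isFiniteType N hE
    exact Module.Finite.of_surjective (app (O := OEt X.obj) (cokernel.π φ) E)
      (surjective_app_of_epi (affEt X.obj) _ hE (good_of_isQuasicoherent N hE) (hc E hE))

end Groth.Agent.S10742
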