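import Groth.Statements.S10743
import Groth.Agent.Lib.AlgSp.QCohFPEt
import Groth.Agent.Lib.AlgSp.QCohExt
import Groth.Agent.Lib.AlgSp.QCohColimit
-- import your own Groth.Agent.* helpers here

set_option autoImplicit false
universe u
open CategoryTheory CategoryTheory.Limits AlgebraicGeometry Opposite
open AlgSp GrothLib.AlgSp GrothLib.AlgSp.QCohEt
set_option backward.isDefEq.respectTransparency false

namespace Groth.Agent.S10743

/-- Let X be a locally Noetherian algebraic space over S and 0 ⟶ M₁ ⟶ M₂ ⟶ M₃ ⟶ 0 a short exact sequence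
of O_X-modules on the small etale site of X with M₁ and M₃ coherent (of finite presentation, X being
locally Noetherian). Then M₂ is coherent. -/
theorem result {S : Scheme.{u}} (X : AlgSp.Space S)
    (hX : AlgSp.IsLocNoethSp X.obj) (T : ShortComplex (AlgSp.ModEt X.obj)) (hT : T.ShortExact)
    [T.X₁.IsFinitePresentation] [T.X₃.IsFinitePresentation] :
    T.X₂.IsFinitePresentation := by
  haveI := hT.epi_g
  haveI := hT.mono_f
  refine isFinitePresentation_of_finite hX _ (fun E hE => good_middle (affEt X.obj) hT.exact hE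
      (fun Z _ hZ => good_of_isQuasicoherent _ hZ) (good_of_isQuasicoherent _ hE)) fun E hE => ?_
  haveI := finite_sec_of_isFiniteType T.X₁ hE
  haveI := finite_sec_of_isFiniteType T.X₃ hE
  haveI := isNoetherianRing_ob hX hE
  haveI : Module.Finite (Ob (OEt X.obj) E) (LinearMap.ker (app (O := OEt X.obj) T.g E)) := by
    have he : LinearMap.ker (app (O := OEt X.obj) T.g E) = LinearMap.range (app (O := OEt X.obj) T.f E) := by
      ext x
      refine ⟨fun hx => exact_app hT.exact E x hx, ?_⟩
      rintro ⟨k, rfl⟩
      exact congrArg (fun ψ => app ψ E k) T.zero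
    rw [he]
    infer_instance
  haveI : Module.Finite (Ob (OEt X.obj) E) (Sec (O := OEt X.obj) T.X₂ E ⧸ LinearMap.ker (app (O := OEt X.obj) T.g E)) :=
    Module.Finite.of_injective (Submodule.liftQ _ (app (O := OEt X.obj) T.g E) le_rfl)
      (LinearMap.ker_eq_bot.1 (Submodule.ker_liftQ_eq_bot _ _ _ le_rfl))
  exact Module.Finite.of_submodule_quotient (LinearMap.ker (app (O := OEt X.obj) T.g E))

end Groth.Agent.S10743
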