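import Groth.Statements.S10747
import Groth.Agent.Lib.AlgSp.QCohCharts
-- import your own Groth.Agent.* helpers here

set_option autoImplicit false
universe u
open CategoryTheory CategoryTheory.Limits AlgebraicGeometry Opposite
open AlgSp GrothLib.AlgSp GrothLib.AlgSp.QCohEt
set_option backward.isDefEq.respectTransparency false

namespace Groth.Agent.S10747

/-- Let X be a Noetherian algebraic space over S (quasi-compact, quasi-separated, locally Noetherian)
and M a coherent O_X-module on the small etale site of X (of finite presentation, X being locally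
Noetherian). Then every increasing sequence N₁ ≤ N₂ ≤ … of subobjects of M whose underlying modules
are quasi-coherent is eventually constant. -/
theorem result {S : Scheme.{u}} (X : AlgSp.Space S)
    (hqc : AlgSp.IsQuasiCompactSp X.obj) (hqs : AlgSp.IsQuasiSeparatedSp X.obj) (hN : AlgSp.IsLocNoethSp X.obj)
    (M : AlgSp.ModEt X.obj) [M.IsFinitePresentation] (N : ℕ →o Subobject M)
    (hq : ∀ n, (Subobject.underlying.obj (N n)).IsQuasicoherent) :
    ∃ n, ∀ m, n ≤ m → N m = N n := by
  obtain ⟨U, p, pe, ps, hc⟩ := hqc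
  haveI := hc
  have hrange : ∀ x : AlgSp.Points X.obj, ∃ u, AlgSp.Points.ofPt p u = x := surjective_ofPt_of_repWith ps
  have hcompact : IsCompact (Set.univ : Set (AlgSp.Points X.obj)) := by
    rw [← Set.range_eq_univ.2 hrange]
    exact isCompact_range (AlgSp.Points.continuous_ofPt p)
  obtain ⟨k, E, hE, hcov⟩ := exists_finite_charts X.property hcompact
  let R : ℕ → ∀ i, Submodule (Ob (OEt X.obj) (E i)) (Sec (O := OEt X.obj) M (E i)) :=
    fun m i => LinearMap.range (app (O := OEt X.obj) (N m).arrow (E i))
  have hmono : ∀ i m m', m ≤ m' → R m i ≤ R m' i := by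
    rintro i m m' h _ ⟨y, rfl⟩
    refine ⟨app (O := OEt X.obj) (Subobject.ofLE _ _ (N.monotone h)) (E i) y, ?_⟩
    rw [← app_comp, Subobject.ofLE_arrow]
  have hstab : ∀ i, ∃ n₀, ∀ m, n₀ ≤ m → R n₀ i = R m i := by
    intro i
    haveI := isNoetherianRing_ob hN (hE i)
    haveI := finite_sec_of_isFiniteType M (hE i)
    exact monotone_stabilizes_iff_noetherian.2 inferInstance ⟨fun m => R m i, hmono i⟩
  choose n₀ hn₀ using hstab
  refine ⟨Finset.univ.sup n₀, fun m hm => ?_⟩
  let f := Subobject.ofLE _ _ (N.monotone hm)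
  haveI := hq m
  haveI : IsIso f := by
    refine isIso_of_charts X.property E hE (fun x => hcov x trivial) f (fun i => good_of_isQuasicoherent _ (hE i)) ?_
    intro i y
    have h0 : n₀ i ≤ Finset.univ.sup n₀ := Finset.le_sup (Finset.mem_univ i)
    have hy : app (O := OEt X.obj) (N m).arrow (E i) y ∈ R (Finset.univ.sup n₀) i := by
      rw [← hn₀ i _ h0, hn₀ i m (h0.trans hm)]
      exact ⟨y, rfl⟩
    obtain ⟨z, hz⟩ := hy
    refine ⟨z, app_injective (N m).arrow (E i) ?_⟩
    rw [← app_comp, Subobject.ofLE_arrow]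
    exact hz
  exact (Subobject.eq_of_comm (asIso f) (Subobject.ofLE_arrow _)).symm

end Groth.Agent.S10747
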