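import Groth.Statements.S10749
import Groth.Agent.Lib.AlgSp.QCohAffColim
import Groth.Agent.Lib.AlgSp.EtModGroth
import Groth.Agent.Lib.AlgSp.AffineMor

set_option autoImplicit false
set_option backward.isDefEq.respectTransparency false
universe u
open CategoryTheory CategoryTheory.Limits AlgebraicGeometry Opposite
open AlgSp

namespace Groth.Agent.S10749

/-- Let f : X ⟶ Y be an affine morphism of algebraic spaces over a quasi-separated scheme S with Y
Noetherian (quasi-compact, quasi-separated, locally Noetherian). Then every quasi-coherent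
O_X-module M on the small etale site of X is a filtered colimit of O_X-modules of finite
presentation. -/
theorem result {S : Scheme.{u}} [QuasiSeparatedSpace ↥S]
    {X Y : AlgSp.Space S} (f : X ⟶ Y) (haff : AlgSp.IsAffineMor f.hom) (hqc : AlgSp.IsQuasiCompactSp Y.obj)
    (hqs : AlgSp.IsQuasiSeparatedSp Y.obj) (hN : AlgSp.IsLocNoethSp Y.obj) (M : AlgSp.ModEt X.obj)
    [M.IsQuasicoherent] :
    ∃ (J : Type (u + 1)) (_ : SmallCategory J) (_ : IsFiltered J) (D : J ⥤ AlgSp.ModEt X.obj)
      (ι : D ⟶ (Functor.const J).obj M),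
      (∀ j, (D.obj j).IsFinitePresentation) ∧ Nonempty (IsColimit (Cocone.mk M ι)) := by
  classical
  have hrep : Representable f.hom := (GrothLib.AlgSp.isAffineMor_iff.1 haff).1
  haveI : (SheafOfModules.pushforward.{u + 1} (AlgSp.bcRingHom hrep)).IsRightAdjoint :=
    GrothLib.AlgSp.EtColim.isRightAdjoint_pushModEt hrep
  obtain ⟨U, a, hU, ha, hs⟩ := GrothLib.AlgSp.exists_affine_atlas_of_qc hqc
  haveI := hU
  exact ⟨GrothLib.AlgSp.QCohEt.PIdx f hrep a ha M, inferInstance,
    GrothLib.AlgSp.QCohEt.isFiltered_pIdx f hrep haff a ha hs hqs hN M,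
    GrothLib.AlgSp.QCohEt.presSystem f hrep a ha M,
    (GrothLib.AlgSp.QCohEt.presCocone f hrep a ha M).ι,
    fun j => GrothLib.AlgSp.QCohEt.isFinitePresentation_presSystem f hrep haff a ha hs hqs hN M j,
    GrothLib.AlgSp.QCohEt.nonempty_isColimit_presCocone f hrep haff a ha hs hqs hN M⟩

end Groth.Agent.S10749
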