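import Groth.Statements.S1075
import Groth.Agent.Lib.HoCat.KInjective
import Mathlib.Algebra.Homology.DerivedCategory.KInjective
import Mathlib.Algebra.Homology.DerivedCategory.TStructure
import Mathlib.Algebra.Homology.Factorizations.CM5a

set_option autoImplicit false
universe w v u
open CategoryTheory CategoryTheory.Limits
open CohDer

namespace Groth.Agent.S1075

section Aux

open HomologicalComplex

variable {A : Type u} [Category.{v} A] [Abelian A]

/-- Homotopies into a product, componentwise. -/
noncomputable def homotopyPi {T : Type} (I : T → CochainComplex A ℤ) [HasProduct I]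
    [∀ n, PreservesLimit (Discrete.functor I) (eval A (ComplexShape.up ℤ) n)]
    {Z : CochainComplex A ℤ} {f g : Z ⟶ ∏ᶜ I} (H : ∀ t, Homotopy (f ≫ Pi.π I t) (g ≫ Pi.π I t)) :
    Homotopy f g :=
  let hl : ∀ n, IsLimit (Fan.mk ((∏ᶜ I).X n) (fun t => (Pi.π I t).f n)) := fun n =>
    isLimitFanMkObjOfIsLimit (eval A (ComplexShape.up ℤ) n) _ _ (productIsProduct I)
  { hom := fun i j => Fan.IsLimit.lift (hl j) fun t => (H t).hom i j
    zero := fun i j hij => Fan.IsLimit.hom_ext (hl j) _ _ fun t => by
      rw [Fan.IsLimit.fac, (H t).zero i j hij, zero_comp]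
    comm := fun i => Fan.IsLimit.hom_ext (hl i) _ _ fun t => by
      have e := (H t).comm i
      have hfac : ∀ a b, (Fan.IsLimit.lift (hl b) fun t => (H t).hom a b) ≫ (Pi.π I t).f b =
          (H t).hom a b := fun a b => Fan.IsLimit.fac (hl b) _ t
      simp only [HomologicalComplex.comp_f] at e
      simp only [fan_mk_proj, Preadditive.add_comp] at e ⊢
      rw [e]
      simp [dNext, prevD, hfac]
      rw [← Hom.comm, reassoc_of% hfac] }

/-- The image in the derived category of a product of K-injective complexes is a product. -/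
noncomputable def isLimitFanQ [HasDerivedCategory.{w} A] {T : Type} (I : T → CochainComplex A ℤ) [HasProduct I]
    [∀ n, PreservesLimit (Discrete.functor I) (eval A (ComplexShape.up ℤ) n)]
    (hI : ∀ t, (I t).IsKInjective) :
    IsLimit (Fan.mk (DerivedCategory.Qh.obj ((HomotopyCategory.quotient A _).obj (∏ᶜ I)))
      (fun t => DerivedCategory.Qh.map ((HomotopyCategory.quotient A _).map (Pi.π I t)))) := by
  have hP : (∏ᶜ I).IsKInjective := GrothLib.HoCat.isKInjective_pi I hI
  let q := HomotopyCategory.quotient A (ComplexShape.up ℤ)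
  have : DerivedCategory.Qh.EssSurj :=
    Localization.essSurj (DerivedCategory.Qh (C := A)) (HomotopyCategory.subcategoryAcyclic A).trW
  have hb : ∀ (X : DerivedCategory A),
      Function.Bijective fun (φ : X ⟶ DerivedCategory.Qh.obj (q.obj (∏ᶜ I))) (t : T) =>
        φ ≫ DerivedCategory.Qh.map (q.map (Pi.π I t)) := by
    intro X
    obtain ⟨Z, ⟨e⟩⟩ : ∃ Z : CochainComplex A ℤ, Nonempty (DerivedCategory.Qh.obj (q.obj Z) ≅ X) :=
      ⟨(DerivedCategory.Qh.objPreimage X).as, ⟨DerivedCategory.Qh.objObjPreimageIso X⟩⟩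
    refine ⟨fun φ φ' h => ?_, fun ψ => ?_⟩
    · obtain ⟨a, ha⟩ := (CochainComplex.IsKInjective.Qh_map_bijective (q.obj Z) (∏ᶜ I)).2 (e.hom ≫ φ)
      obtain ⟨a', ha'⟩ := (CochainComplex.IsKInjective.Qh_map_bijective (q.obj Z) (∏ᶜ I)).2 (e.hom ≫ φ')
      obtain ⟨f, rfl⟩ := q.map_surjective a
      obtain ⟨f', rfl⟩ := q.map_surjective a'
      have H : ∀ t, Homotopy (f ≫ Pi.π I t) (f' ≫ Pi.π I t) := fun t => by
        have := hI t
        refine HomotopyCategory.homotopyOfEq _ _
          ((CochainComplex.IsKInjective.Qh_map_bijective (q.obj Z) (I t)).1 ?_)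
        have h' := congrArg (fun x => e.hom ≫ x) (congrFun h t)
        dsimp only at h'
        rw [← Category.assoc, ← Category.assoc, ← ha, ← ha'] at h'
        simp only [Functor.map_comp]
        exact h'
      rw [← cancel_epi e.hom, ← ha, ← ha']
      exact congrArg DerivedCategory.Qh.map (HomotopyCategory.eq_of_homotopy _ _ (homotopyPi I H))
    · have := hI
      choose a ha using fun t => (CochainComplex.IsKInjective.Qh_map_bijective (q.obj Z) (I t)).2
        (e.hom ≫ ψ t)
      choose f hf using fun t => q.map_surjective (a t)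
      refine ⟨e.inv ≫ DerivedCategory.Qh.map (q.map (Pi.lift f)), funext fun t => ?_⟩
      dsimp only
      rw [Category.assoc, ← Functor.map_comp, ← q.map_comp, Pi.lift_π, hf, ha, e.inv_hom_id_assoc]
  exact Fan.IsLimit.mk _ (fun s => ((hb s.pt).2 s.proj).choose)
    (fun s t => congrFun ((hb s.pt).2 s.proj).choose_spec t)
    (fun s m hm => (hb s.pt).1 (funext fun t =>
      (hm t).trans (congrFun ((hb s.pt).2 s.proj).choose_spec t).symm))

end Aux

/-- In D(A), for A abelian with enough injectives and countable products, every sequence of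
bounded-below objects has a product, so derived limits of such sequences exist. -/
theorem result {A : Type u} [Category.{v} A] [Abelian A] [HasDerivedCategory.{w} A]
    [HasLimitsOfShape (Discrete ℕ) A] [EnoughInjectives A]
    (K : ℕ → DerivedCategory A) (hK : ∀ n, ∃ a : ℤ, (K n).IsGE a) : HasProduct K := by
  have hrep : ∀ n, ∃ I : CochainComplex A ℤ, I.IsKInjective ∧
      Nonempty (K n ≅ DerivedCategory.Qh.obj ((HomotopyCategory.quotient A _).obj I)) := fun n => by
    obtain ⟨a, ha⟩ := hK n
    obtain ⟨L, hL, ⟨e⟩⟩ := (K n).exists_iso_Q_obj_of_isGE a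
    obtain ⟨I, i, hi, hI, hIa⟩ := CochainComplex.Plus.modelCategoryQuillen.exists_quasiIso_injective L a
    exact ⟨I, CochainComplex.isKInjective_of_injective I a, ⟨e ≪≫ asIso (DerivedCategory.Q.map i) ≪≫
      ((DerivedCategory.quotientCompQhIso A).app I).symm⟩⟩
  choose I hI e using hrep
  have : HasLimit (Discrete.functor fun n =>
      DerivedCategory.Qh.obj ((HomotopyCategory.quotient A _).obj (I n))) := ⟨⟨⟨_, isLimitFanQ I hI⟩⟩⟩
  exact hasLimit_of_iso (F := Discrete.functor fun n =>
    DerivedCategory.Qh.obj ((HomotopyCategory.quotient A _).obj (I n))) (G := Discrete.functor K)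
    (Discrete.natIso fun n => (e n.as).some.symm)

end Groth.Agent.S1075
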