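import Groth.Statements.S10751
import Groth.Agent.Lib.AlgSp.PushAffVanish
import Groth.Agent.Lib.AlgSp.PullEtExact
import Groth.Agent.Lib.AcyN18.Adj

set_option autoImplicit false
set_option backward.isDefEq.respectTransparency false
universe u
open CategoryTheory CategoryTheory.Limits AlgebraicGeometry Opposite
open AlgSp CategoryTheory.Abelian GrothLib.ExtAdj

namespace Groth.Agent.S10751

/-- Let f : X ⟶ Y be an affine morphism of algebraic spaces over S; such a morphism is representable,
and the representability is carried as a hypothesis. Let M be a quasi-coherent O_X-module on the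
small etale site of X. Then for every i ≥ 0 the groups H^i(X, M) and H^i(Y, f_* M) are isomorphic
(existence of an isomorphism of abelian groups only; the canonical comparison map is not named
here). -/
theorem result {S : Scheme.{u}} {X Y : AlgSp.Space S}
    (f : X ⟶ Y) (hf : AlgSp.Representable f.hom) (haff : AlgSp.IsAffineMor f.hom) (M : AlgSp.ModEt X.obj)
    [M.IsQuasicoherent] (i : ℕ) :
    Nonempty (AlgSp.HModEt X.obj M i ≃+ AlgSp.HModEt Y.obj ((AlgSp.pushModEt hf).obj M) i) := by
  obtain ⟨hfl, hfc, hadd⟩ := GrothLib.AlgSp.preservesFiniteLimits_pullEt hf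
  haveI := hfl
  haveI := hfc
  haveI := hadd
  have hb := (GrothLib.AcyN18.adjMap_range (pullPushAdjEt hf AddCommGrpCat.{u + 1})
    ((constantSheaf (etTop Y.obj) AddCommGrpCat.{u + 1}).obj (AddCommGrpCat.of (ULift ℤ))) i
    ((toAbEt X.obj).obj M) fun q _ => GrothLib.AlgSp.QCohEt.isZero_rpush_of_acyclic hf haff q _
      (GrothLib.AlgSp.QCohEt.acyclic_of_isQuasicoherent M)).1
  obtain ⟨e⟩ := GrothLib.AlgSp.nonempty_pullConstIso hf X.property Y.property (AddCommGrpCat.of (ULift ℤ))
  let pre : HModEt X.obj M i →+ Ext ((pullEt hf AddCommGrpCat.{u + 1}).obj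
      ((constantSheaf (etTop Y.obj) AddCommGrpCat.{u + 1}).obj (AddCommGrpCat.of (ULift ℤ)))) ((toAbEt X.obj).obj M) i :=
    AddMonoidHom.mk' (fun x => (Ext.mk₀ e.hom).comp x (zero_add i)) fun _ _ => Ext.comp_add _ _ _ _
  have hpre : Function.Bijective pre := Function.bijective_iff_has_inverse.2
    ⟨fun z => (Ext.mk₀ e.inv).comp z (zero_add i), fun z => by simp [pre], fun z => by simp [pre]⟩
  exact ⟨(AddEquiv.ofBijective pre hpre).trans (AddEquiv.ofBijective _ hb).symm⟩

end Groth.Agent.S10751
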