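import Groth.Statements.S10755
import Groth.Agent.Lib.AlgSp.QCohSupport
-- import your own Groth.Agent.* helpers here

set_option autoImplicit false
universe u
open CategoryTheory CategoryTheory.Limits AlgebraicGeometry Opposite
open AlgSp GrothLib.AlgSp GrothLib.AlgSp.QCohEt
set_option backward.isDefEq.respectTransparency false

namespace Groth.Agent.S10755

/-- Functions on affine objects of a locally noetherian space form a noetherian ring. -/
theorem isNoetherian_Γ {S : Scheme.{u}} {X : AlgSp.Sp S} (hX : AlgSp.IsLocNoethSp X) {E : AlgSp.EtOver X}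
    (hE : IsAffine E.obj.left.left) : IsNoetherianRing Γ(E.obj.left.left, ⊤) := by
  haveI := isNoetherianRing_ob hX hE
  exact isNoetherianRing_of_ringEquiv (Ob (OEt X) E) (ULift.ringEquiv : ULift.{u + 1} Γ(E.obj.left.left, ⊤) ≃+* _)


/-- Let X be a Noetherian algebraic space over S (quasi-compact, quasi-separated, locally Noetherian), M
a coherent O_X-module on the small etale site of X (of finite presentation, X being locally
Noetherian), I a quasi-coherent sheaf of ideals on X and i : Z ⟶ X the closed subspace cut out by I.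
Then I^n M = 0 for some n ≥ 0 (on every affine object U of the site the ideal I^n(U) annihilates
every section of M over U) if and only if the support of M is contained in |Z| set-theoretically
(the stalk of M at every geometric point of X whose image in |X| is not in |Z| vanishes). -/
theorem result {S : Scheme.{u}} (X : AlgSp.Space S)
    (hqc : AlgSp.IsQuasiCompactSp X.obj) (hqs : AlgSp.IsQuasiSeparatedSp X.obj) (hN : AlgSp.IsLocNoethSp X.obj)
    (M : AlgSp.ModEt X.obj) [M.IsFinitePresentation] (I : AlgSp.IdealEt X.obj) (hI : I.IsQCoh)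
    {Z : AlgSp.Space S} (i : Z ⟶ X) (hZ : AlgSp.IsCutOutBy I i.hom) :
    (∃ n : ℕ, ∀ (E : AlgSp.EtOver X.obj) (hE : IsAffine E.obj.left.left) (s : AlgSp.sectModEt M E),
        (I ^ n).ideal E hE ≤ AlgSp.annSect s) ↔
      ∀ x : AlgSp.FieldPt X.obj, x.IsGeometric → AlgSp.Points.mk x ∉ Set.range (AlgSp.Points.map i.hom) →
        IsZero (AlgSp.stalkEt x ((AlgSp.toAbEt X.obj).obj M)) := by
  classical
  let T := Set.range (AlgSp.Points.map i.hom)
  obtain ⟨hi, hIeq⟩ := hZ
  have hz : ∀ (E : AlgSp.EtOver X.obj) (hE : IsAffine E.obj.left.left),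
      E.obj.left.left.zeroLocus (U := ⊤) (I.ideal E hE : Set Γ(E.obj.left.left, ⊤)) =
        {w | AlgSp.Points.ofPt E.obj.hom w ∈ T} := fun E hE => by
    rw [← hIeq]
    exact range_bcπ_closed hi E hE
  constructor
  · rintro ⟨n, hn⟩ x hx hxT
    rw [isZero_stalkEt_iff X _ x hx]
    intro U l σ
    obtain ⟨O, hO, hu, -⟩ := exists_isAffineOpen_mem_and_subset (x := l.1.left (IsLocalRing.closedPoint x.K))
      (U := (⊤ : U.obj.left.left.Opens)) trivial
    obtain ⟨m, hm⟩ := exists_liftsTo_map x hx (opensInc U O) l (⟨_, hu⟩ : O) rfl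
    haveI : IsAffine (opensObj U O).obj.left.left := hO
    have h0 : ¬ AlgSp.annSect (M := M) (E := opensObj U O) (mres (O := OEt X.obj) M (opensInc U O) σ) ≤
        AlgSp.primeAtPt _ (m.1.left (IsLocalRing.closedPoint x.K)) := by
      intro hle
      haveI := isNoetherian_Γ hN (E := opensObj U O) hO
      have hmem := (prime_iff T (opensObj U O) (I.ideal (opensObj U O) hO)
        ((isNoetherianRing_iff_ideal_fg _).1 inferInstance _) (hz (opensObj U O) hO) _).2
        ⟨n, fun a ha => hn (opensObj U O) hO _ ha⟩ _ hle
      rw [ofPt_closedPoint_of_lift x m] at hmem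
      exact hxT hmem
    have h := germ_zero_of_not_le M x hx m _ h0
    have hm' : (etPoint X x hx).fiber.map (opensInc U O) m = l := hm
    rw [← hm']
    exact ((etPoint X x hx).toPresheafFiber_w_apply (opensInc U O) m ((AlgSp.toAbEt X.obj).obj M).obj σ).symm.trans h
  · intro hsupp
    obtain ⟨U, p, pe, ps, hc⟩ := hqc
    haveI := hc
    have hrange : ∀ x : AlgSp.Points X.obj, ∃ u, AlgSp.Points.ofPt p u = x := surjective_ofPt_of_repWith ps
    have hcompact : IsCompact (Set.univ : Set (AlgSp.Points X.obj)) := by
      rw [← Set.range_eq_univ.2 hrange]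
      exact isCompact_range (AlgSp.Points.continuous_ofPt p)
    obtain ⟨k, E, hE, hcov⟩ := exists_finite_charts X.property hcompact
    have hloc : ∀ i, ∃ n, ∀ s : Sec (O := OEt X.obj) M (E i), I.ideal (E i) (hE i) ^ n ≤ AlgSp.annSect (M := M) (E := E i) s := by
      intro i
      haveI := hE i
      haveI := isNoetherian_Γ hN (hE i)
      haveI := finite_sec_of_isFiniteType M (hE i)
      obtain ⟨t, ht⟩ := (Module.Finite.fg_top : (⊤ : Submodule (Ob (OEt X.obj) (E i)) (Sec (O := OEt X.obj) M (E i))).FG)
      have hgen : ∀ s : Sec (O := OEt X.obj) M (E i), ∃ n, I.ideal (E i) (hE i) ^ n ≤ AlgSp.annSect (M := M) (E := E i) s := by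
        intro s
        refine (prime_iff T (E i) (I.ideal (E i) (hE i)) ((isNoetherianRing_iff_ideal_fg _).1 inferInstance _) (hz _ (hE i)) _).1
          fun w hw => ?_
        by_contra hwT
        obtain ⟨q, hq, l, hl, hqx⟩ := exists_geometric_liftsTo (E i) w
        have := hsupp q hq (hqx ▸ hwT)
        rw [isZero_stalkEt_iff X _ q hq] at this
        exact not_le_of_germ M q hq (hE i) l s (this (E i) l s) (hl ▸ hw)
      choose n hn using hgen
      refine ⟨t.sup n, fun s => ?_⟩
      have hs : s ∈ Submodule.span (Ob (OEt X.obj) (E i)) (t : Set (Sec (O := OEt X.obj) M (E i))) := ht ▸ Submodule.mem_top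
      intro a ha
      show (show Ob (OEt X.obj) (E i) from AlgSp.upΓ (E i) a) • s = 0
      induction hs using Submodule.span_induction with
      | mem y hy => exact hn y (Ideal.pow_le_pow_right (Finset.le_sup hy) ha)
      | zero => exact smul_zero _
      | add x y _ _ hx hy => rw [smul_add, hx, hy, add_zero]
      | smul c x _ hx => rw [smul_comm, hx, smul_zero]
    choose n hn using hloc
    refine ⟨Finset.univ.sup n, fun F hF s a ha => ?_⟩
    show (show Ob (OEt X.obj) F from AlgSp.upΓ F a) • (show Sec (O := OEt X.obj) M F from s) = 0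
    obtain ⟨C, hC, hC'⟩ := covering_of_points X.property E F fun _ => hcov _ trivial
    refine sec_ext (O := OEt X.obj) M hC fun Z z hz' => ?_
    obtain ⟨W, b, c, i, g, hW, rfl⟩ := hC' z hz'
    rw [map_zero, mres_comp]
    suffices h : mres (O := OEt X.obj) M c ((show Ob (OEt X.obj) F from AlgSp.upΓ F a) • (show Sec (O := OEt X.obj) M F from s)) = 0 by
      rw [h, map_zero]
    rw [mres_smul]
    have ha1 : c.hom.left.left.appTop.hom a ∈ (I ^ Finset.univ.sup n).ideal W hW :=
      (I ^ Finset.univ.sup n).map_le c hF hW (Ideal.mem_map_of_mem _ ha)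
    have ha2 : c.hom.left.left.appTop.hom a ∈ (I.ideal (E i) (hE i) ^ Finset.univ.sup n).map g.hom.left.left.appTop.hom := by
      rw [Ideal.map_pow]
      exact Ideal.pow_right_mono (hI g (hE i) hW) _ ha1
    have hkill : ∀ b ∈ (I.ideal (E i) (hE i) ^ Finset.univ.sup n).map g.hom.left.left.appTop.hom,
        ∀ y : Sec (O := OEt X.obj) M W, (show Ob (OEt X.obj) W from AlgSp.upΓ W b) • y = 0 := by
      intro b hb y
      obtain ⟨d, rfl⟩ := (good_of_isQuasicoherent M (hE i) (Over.mk g) hW).2 y
      induction d using TensorProduct.induction_on with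
      | zero => rw [map_zero, smul_zero]
      | add p q hp hq => rw [map_add, smul_add, hp, hq, add_zero]
      | tmul r m =>
        rw [theta_tmul, LinearMap.id_apply]
        show (show Ob (OEt X.obj) W from AlgSp.upΓ W b) • ((show Ob (OEt X.obj) W from r) • mres (O := OEt X.obj) M g m) = 0
        rw [smul_comm]
        suffices h : (show Ob (OEt X.obj) W from AlgSp.upΓ W b) • mres (O := OEt X.obj) M g m = 0 by rw [h, smul_zero]
        induction hb using Submodule.span_induction with
        | mem b hb =>
          obtain ⟨e, he, rfl⟩ := hb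
          have h1 : mres (O := OEt X.obj) M g ((show Ob (OEt X.obj) (E i) from AlgSp.upΓ (E i) e) • m) = 0 :=
            (congrArg _ (hn i m (Ideal.pow_le_pow_right (Finset.le_sup (Finset.mem_univ i)) he))).trans (map_zero _)
          rw [mres_smul] at h1
          exact h1
        | zero => exact (congrArg (fun v : Ob (OEt X.obj) W => v • mres (O := OEt X.obj) M g m) (map_zero (AlgSp.upΓ W))).trans (zero_smul _ _)
        | add x y _ _ hx hy =>
          exact (congrArg (fun v : Ob (OEt X.obj) W => v • mres (O := OEt X.obj) M g m) (map_add (AlgSp.upΓ W) x y)).trans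
            ((add_smul (show Ob (OEt X.obj) W from AlgSp.upΓ W x) (show Ob (OEt X.obj) W from AlgSp.upΓ W y) _).trans
              ((congrArg₂ (fun p q => p + q) hx hy).trans (add_zero _)))
        | smul x y _ hy =>
          exact (congrArg (fun v : Ob (OEt X.obj) W => v • mres (O := OEt X.obj) M g m) (map_mul (AlgSp.upΓ W) x y)).trans
            ((mul_smul (show Ob (OEt X.obj) W from AlgSp.upΓ W x) (show Ob (OEt X.obj) W from AlgSp.upΓ W y) _).trans
              ((congrArg _ hy).trans (smul_zero _)))
    exact hkill _ ha2 _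

end Groth.Agent.S10755
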