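import Groth.Statements.S10756
import Groth.Agent.Lib.AlgSp.ClosedPushEssImage
import Groth.Agent.Lib.AlgSp.QCohPushFin
-- import your own Groth.Agent.* helpers here

set_option autoImplicit false
universe u
open CategoryTheory CategoryTheory.Limits AlgebraicGeometry Opposite
open AlgSp GrothLib.AlgSp GrothLib.AlgSp.QCohEt
set_option backward.isDefEq.respectTransparency false

namespace Groth.Agent.S10756

open TensorProduct

variable {S : Scheme.{u}} {Z X : AlgSp.Space S} (i : Z ⟶ X) (hi : AlgSp.RepWith @IsClosedImmersion i.hom)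

/-- Finiteness through the surjection of functions. -/
theorem finite_of_semilinear (E : AlgSp.EtOver X.obj) [IsAffine E.obj.left.left] {G : AlgSp.ModEt Z.obj}
    {N : Type (u + 1)} [AddCommGroup N] [Module (Ob (OEt X.obj) E) N]
    (f : Sec (O := OEt Z.obj) G (AlgSp.EtOver.bcObj hi.1 E) →+ N) (hf : Function.Surjective f)
    (hl : ∀ (a : Ob (OEt X.obj) E) (x), f (bcF hi.1 E a • x) = a • f x)
    (s : Finset (Sec (O := OEt Z.obj) G (AlgSp.EtOver.bcObj hi.1 E)))
    (hs : Submodule.span (Ob (OEt Z.obj) (AlgSp.EtOver.bcObj hi.1 E)) (↑s : Set (Sec (O := OEt Z.obj) G (AlgSp.EtOver.bcObj hi.1 E))) = ⊤) :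
    Module.Finite (Ob (OEt X.obj) E) N := by
  classical
  refine ⟨⟨s.image f, eq_top_iff.2 ?_⟩⟩
  rintro y -
  obtain ⟨x, rfl⟩ := hf y
  have hx : x ∈ Submodule.span (Ob (OEt Z.obj) (AlgSp.EtOver.bcObj hi.1 E)) (s : Set _) := hs ▸ Submodule.mem_top
  refine Submodule.span_induction (p := fun t _ => f t ∈ Submodule.span (Ob (OEt X.obj) E) (↑(s.image f) : Set N))
    (fun t ht => Submodule.subset_span (Finset.mem_image_of_mem f ht)) ?_ (fun a b _ _ ha hb => ?_) (fun r t _ ht => ?_) hx
  · rw [map_zero]; exact zero_mem _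
  · rw [map_add]; exact add_mem ha hb
  · obtain ⟨a, rfl⟩ := bcF_surjective i hi E r
    rw [hl]; exact Submodule.smul_mem _ a ht

/-- Sections of the module on base changes are finite when those of its direct image are. -/
theorem finite_bc (G : AlgSp.ModEt Z.obj) {M : AlgSp.ModEt X.obj} (φ : (AlgSp.pushModEt hi.1).obj G ≅ M)
    (N : AlgSp.EtOver X.obj) [h : Module.Finite (Ob (OEt X.obj) N) (Sec (O := OEt X.obj) M N)] :
    Module.Finite (Ob (OEt Z.obj) (AlgSp.EtOver.bcObj hi.1 N))
      (Sec (O := OEt Z.obj) G (AlgSp.EtOver.bcObj hi.1 N)) := by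
  classical
  let g : Sec (O := OEt X.obj) M N →ₗ[Ob (OEt X.obj) N] Sec (O := OEt X.obj) ((AlgSp.pushModEt hi.1).obj G) N :=
    app (O := OEt X.obj) φ.inv N
  obtain ⟨s, hs⟩ := h.fg_top
  refine ⟨⟨s.image fun m => (show Sec (O := OEt Z.obj) G (AlgSp.EtOver.bcObj hi.1 N) from g m), eq_top_iff.2 ?_⟩⟩
  rintro (x : Sec (O := OEt X.obj) ((AlgSp.pushModEt hi.1).obj G) N) -
  obtain ⟨m, rfl⟩ : ∃ m, g m = x := ⟨app (O := OEt X.obj) φ.hom N x, by
    rw [← app_comp, φ.hom_inv_id]; rfl⟩
  have hm : m ∈ Submodule.span (Ob (OEt X.obj) N) (s : Set (Sec (O := OEt X.obj) M N)) := hs ▸ Submodule.mem_top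
  refine Submodule.span_induction (p := fun t _ => (show Sec (O := OEt Z.obj) G (AlgSp.EtOver.bcObj hi.1 N) from g t) ∈
      Submodule.span (Ob (OEt Z.obj) (AlgSp.EtOver.bcObj hi.1 N)) (↑(s.image fun m =>
        (show Sec (O := OEt Z.obj) G (AlgSp.EtOver.bcObj hi.1 N) from g m)) : Set _))
    (fun t ht => Submodule.subset_span (Finset.mem_image_of_mem _ ht)) ?_ (fun a b _ _ ha hb => ?_) (fun a t _ ht => ?_) hm
  · rw [map_zero]; exact zero_mem _
  · rw [map_add]; exact add_mem ha hb
  · rw [map_smul]; exact Submodule.smul_mem _ (bcF hi.1 N a) ht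


/-- Take a closed immersion i : Z ⟶ X between algebraic spaces over S that are both locally Noetherian,
and write I for the quasi-coherent sheaf of ideals cutting out Z. Then the direct image i_* carries
coherent O_Z-modules (of finite presentation) to coherent O_X-modules annihilated by I (on every
affine object U of the small etale site of X, the ideal I(U) annihilates all sections over U), and
every coherent O_X-module annihilated by I is isomorphic to i_* G for some coherent O_Z-module G.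
(Together with the full faithfulness of i_* on modules, a separate result, this is the equivalence
between coherent O_Z-modules and coherent O_X-modules annihilated by I.) -/
theorem result {S : Scheme.{u}} {Z X : AlgSp.Space S} (i : Z ⟶ X)
    (hi : AlgSp.RepWith @IsClosedImmersion i.hom) (hX : AlgSp.IsLocNoethSp X.obj) (hZN : AlgSp.IsLocNoethSp Z.obj)
    (I : AlgSp.IdealEt X.obj) (hI : I.IsQCoh) (hZ : AlgSp.IsCutOutBy I i.hom) :
    (∀ (G : AlgSp.ModEt Z.obj), G.IsFinitePresentation →
        ((AlgSp.pushModEt hi.1).obj G).IsFinitePresentation ∧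
          ∀ (E : AlgSp.EtOver X.obj) (hE : IsAffine E.obj.left.left)
            (s : AlgSp.sectModEt ((AlgSp.pushModEt hi.1).obj G) E), I.ideal E hE ≤ AlgSp.annSect s) ∧
      ∀ (M : AlgSp.ModEt X.obj), M.IsFinitePresentation →
        (∀ (E : AlgSp.EtOver X.obj) (hE : IsAffine E.obj.left.left) (s : AlgSp.sectModEt M E),
            I.ideal E hE ≤ AlgSp.annSect s) →
          ∃ G : AlgSp.ModEt Z.obj, G.IsFinitePresentation ∧ Nonempty ((AlgSp.pushModEt hi.1).obj G ≅ M) := by
  obtain ⟨hi', rfl⟩ := hZ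
  have haff := isAffineMor_closed i hi
  refine ⟨fun G hG => ⟨?_, fun E hE s => killed_push i hi G E hE s⟩, fun M hM hk => ?_⟩
  · haveI := hG
    refine isFinitePresentation_of_finite hX _ (fun E hE => good_push hi.1 haff G hE) fun E hE => ?_
    haveI := hE
    haveI := isAffine_bcObj hi.1 haff E
    haveI := fp_sec_of_isFinitePresentation G (E := AlgSp.EtOver.bcObj hi.1 E) inferInstance
    obtain ⟨s, hs⟩ := Module.Finite.fg_top (R := Ob (OEt Z.obj) (AlgSp.EtOver.bcObj hi.1 E))
      (M := Sec (O := OEt Z.obj) G (AlgSp.EtOver.bcObj hi.1 E))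
    exact finite_of_semilinear i hi E (AddMonoidHom.id (Sec (O := OEt Z.obj) G (AlgSp.EtOver.bcObj hi.1 E)))
      Function.surjective_id (fun a x => rfl) s hs
  · haveI := hM
    obtain ⟨G, ⟨φ⟩⟩ := exists_push_iso (i := i) (hi := hi) (F := M) hk
    haveI := isQuasicoherent_of_push i hi G φ
    refine ⟨G, isFinitePresentation_of_finite hZN G (fun B hB => good_of_isQuasicoherent G hB) fun B hB => ?_, ⟨φ⟩⟩
    obtain ⟨T, hT, hT'⟩ := exists_bc_affine_cover i hi B
    refine finite_of_cover (affEt Z.obj) hB (good_of_isQuasicoherent G hB) hT fun W w hW hw => ?_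
    obtain ⟨N, hN, w₁, k, rfl⟩ := hT' w hw
    haveI := fp_sec_of_isFinitePresentation M hN
    haveI : Module.Finite (Ob (OEt Z.obj) (AlgSp.EtOver.bcObj hi.1 N))
        (Sec (O := OEt Z.obj) G (AlgSp.EtOver.bcObj hi.1 N)) := finite_bc i hi G φ N
    let V : Over (AlgSp.EtOver.bcObj hi.1 N) := Over.mk w₁
    let κ : Sec (O := OEt Z.obj) G (AlgSp.EtOver.bcObj hi.1 N) →ₗ[Ob (OEt Z.obj) (AlgSp.EtOver.bcObj hi.1 N)] _ := LinearMap.id
    have hb := good_bcObj i hi G φ N V hW
    haveI : Module.Finite (Ob (OEt Z.obj) V.left) (Ov (OEt Z.obj) V ⊗[Ob (OEt Z.obj) (AlgSp.EtOver.bcObj hi.1 N)]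
        Sec (O := OEt Z.obj) G (AlgSp.EtOver.bcObj hi.1 N)) :=
      inferInstanceAs (Module.Finite (Ov (OEt Z.obj) V) _)
    exact Module.Finite.of_surjective (thetaL κ V) hb.2

end Groth.Agent.S10756
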