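import Groth.Statements.S10757
import Groth.Agent.Lib.AlgSp.QCohStalk
-- import your own Groth.Agent.* helpers here

set_option autoImplicit false
universe u
open CategoryTheory CategoryTheory.Limits AlgebraicGeometry Opposite
open AlgSp GrothLib.AlgSp GrothLib.AlgSp.QCohEt
set_option backward.isDefEq.respectTransparency false

namespace Groth.Agent.S10757

/-- Let X be a locally Noetherian algebraic space over S, φ : G ⟶ F a morphism of coherent O_X-modules
on the small etale site of X (of finite presentation, X being locally Noetherian) and x̄ a geometric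
point of X. If the map φ_x̄ on stalks at x̄ (of the underlying abelian sheaves) is injective, then
there is an open subspace X' ⊂ X containing the image of x̄ such that φ|_{X'} is injective: φ is
injective on sections over every scheme etale over X whose image in |X| lies in |X'|. (The case of
the map F ⟶ 0 gives the corresponding statement for the vanishing of a stalk; the analogous
statement for surjectivity is not included.) -/
theorem result {S : Scheme.{u}} (X : AlgSp.Space S)
    (hX : AlgSp.IsLocNoethSp X.obj) {G F : AlgSp.ModEt X.obj} [G.IsFinitePresentation] [F.IsFinitePresentation]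
    (φ : G ⟶ F) (xbar : AlgSp.FieldPt X.obj) (hx : xbar.IsGeometric)
    (hinj : Mono ((AlgSp.stalkEtFunctor AddCommGrpCat.{u + 1} xbar).map ((AlgSp.toAbEt X.obj).map φ))) :
    ∃ (X' : AlgSp.Space S) (j : X' ⟶ X), AlgSp.RepWith @IsOpenImmersion j.hom ∧
      AlgSp.Points.mk xbar ∈ Set.range (AlgSp.Points.map j.hom) ∧
        ∀ E : AlgSp.EtOver X.obj, Set.range (AlgSp.Points.ofPt E.obj.hom) ⊆ Set.range (AlgSp.Points.map j.hom) →
          Mono (φ.val.app (op E)) := by
  obtain ⟨W, hW, hxW, hm⟩ := exists_nbhd_mono hX φ xbar hx hinj
  obtain ⟨X', j, hj, hr⟩ := exists_space (X := X) hW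
  refine ⟨X', j, hj, hr.symm ▸ hxW, fun E hE => ?_⟩
  rw [ModuleCat.mono_iff_injective]
  exact hm E (hr ▸ hE)

end Groth.Agent.S10757
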