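import Groth.Statements.S10759
import Groth.Agent.Lib.AlgSp.QCohSupport
-- import your own Groth.Agent.* helpers here

set_option autoImplicit false
universe u
open CategoryTheory CategoryTheory.Limits AlgebraicGeometry Opposite
open AlgSp GrothLib.AlgSp GrothLib.AlgSp.QCohEt
set_option backward.isDefEq.respectTransparency false

namespace Groth.Agent.S10759

/-- Functions on affine objects of a locally noetherian space form a noetherian ring. -/
theorem isNoetherian_Γ {S : Scheme.{u}} {X : AlgSp.Sp S} (hX : AlgSp.IsLocNoethSp X) {E : AlgSp.EtOver X}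
    (hE : IsAffine E.obj.left.left) : IsNoetherianRing Γ(E.obj.left.left, ⊤) := by
  haveI := isNoetherianRing_ob hX hE
  exact isNoetherianRing_of_ringEquiv (Ob (OEt X) E) (ULift.ringEquiv : ULift.{u + 1} Γ(E.obj.left.left, ⊤) ≃+* _)


/-- Let X be a Noetherian algebraic space over S (quasi-compact, quasi-separated, locally Noetherian)
and F a coherent O_X-module on the small etale site of X (of finite presentation, X being locally
Noetherian) with Supp(F) = Z ∪ Z' for closed subsets Z, Z' of |X| (the support being the set of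
points over which the stalk of F at a geometric point is nonzero). Then there is a short exact
sequence 0 ⟶ G' ⟶ F ⟶ G ⟶ 0 of coherent modules with Supp(G') ⊂ Z' and Supp(G) ⊂ Z: a monomorphism
G' ⟶ F with G' and its cokernel coherent, the stalks of G' vanishing at geometric points outside Z'
and those of the cokernel vanishing at geometric points outside Z. -/
theorem result {S : Scheme.{u}} (X : AlgSp.Space S)
    (hqc : AlgSp.IsQuasiCompactSp X.obj) (hqs : AlgSp.IsQuasiSeparatedSp X.obj) (hN : AlgSp.IsLocNoethSp X.obj)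
    (F : AlgSp.ModEt X.obj) [F.IsFinitePresentation] (Z Z' : Set (AlgSp.Points X.obj)) (hZ : IsClosed Z)
    (hZ' : IsClosed Z')
    (hsupp : ∀ x : AlgSp.FieldPt X.obj, x.IsGeometric →
      (AlgSp.Points.mk x ∈ Z ∪ Z' ↔ ¬ IsZero (AlgSp.stalkEt x ((AlgSp.toAbEt X.obj).obj F)))) :
    ∃ (G' : AlgSp.ModEt X.obj) (a : G' ⟶ F), Mono a ∧ G'.IsFinitePresentation ∧
      (cokernel a).IsFinitePresentation ∧
        (∀ x : AlgSp.FieldPt X.obj, x.IsGeometric → AlgSp.Points.mk x ∉ Z' →
          IsZero (AlgSp.stalkEt x ((AlgSp.toAbEt X.obj).obj G'))) ∧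
        (∀ x : AlgSp.FieldPt X.obj, x.IsGeometric → AlgSp.Points.mk x ∉ Z →
          IsZero (AlgSp.stalkEt x ((AlgSp.toAbEt X.obj).obj (cokernel a)))) := by
  classical
  have hI : ∀ W : AlgSp.EtOver X.obj, IsAffine W.obj.left.left →
      ∃ I : Ideal Γ(W.obj.left.left, ⊤), I.FG ∧
        W.obj.left.left.zeroLocus (U := ⊤) (I : Set Γ(W.obj.left.left, ⊤)) =
          {w | AlgSp.Points.ofPt W.obj.hom w ∈ Z'} := by
    intro W hW
    haveI := hW
    haveI := isNoetherian_Γ hN hW
    let V : W.obj.left.left.Opens :=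
      ⟨(AlgSp.Points.ofPt W.obj.hom ⁻¹' Z')ᶜ, (hZ'.preimage (AlgSp.Points.continuous_ofPt _)).isOpen_compl⟩
    let P : Set Γ(W.obj.left.left, ⊤) := {a | W.obj.left.left.basicOpen a ≤ V}
    refine ⟨Ideal.span P, (isNoetherianRing_iff_ideal_fg _).1 inferInstance _, ?_⟩
    rw [Scheme.zeroLocus_span]
    ext x
    rw [Scheme.mem_zeroLocus_iff, Set.mem_setOf_eq]
    constructor
    · intro h
      by_contra hx
      obtain ⟨f, hf, hxf⟩ := (isAffineOpen_top W.obj.left.left).exists_basicOpen_le (V := V) ⟨x, hx⟩ trivial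
      exact h f hf hxf
    · intro hx a ha hxa
      exact ha hxa hx
  let P : SubFam (O := OEt X.obj) F (affEt X.obj) :=
    { P := torsion F Z'
      map_mem := fun g _ _ s hs => torsion_map F Z' g s hs
      gen := fun g hE hW => torsion_gen F Z' hI g hE hW }
  obtain ⟨G', a, hm, hrange, hgood, -⟩ := exists_submodule P fun E hE => good_of_isQuasicoherent F hE
  haveI := hm
  haveI hG'q := isQuasicoherent_of_good G' hgood
  let T : ShortComplex (AlgSp.ModEt X.obj) := ShortComplex.mk a (cokernel.π a) (cokernel.condition a)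
  haveI : Epi T.g := inferInstanceAs (Epi (cokernel.π a))
  have hc : ∀ E : AlgSp.EtOver X.obj, IsAffine E.obj.left.left → Good (O := OEt X.obj) (cokernel a) (affEt X.obj) E :=
    fun E hE => good_right (affEt X.obj) (T := T) (ShortComplex.exact_of_g_is_cokernel _ (cokernelIsCokernel a)) hE
      (hgood E hE) (good_of_isQuasicoherent F hE)
  haveI := isQuasicoherent_of_good _ hc
  refine ⟨G', a, hm, isFinitePresentation_of_finite hN G' hgood (fun E hE => ?_),
    isFinitePresentation_of_finite hN _ hc (fun E hE => ?_), fun x hx hxZ => ?_, fun x hx hxZ => ?_⟩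
  · haveI := isNoetherianRing_ob hN hE
    haveI := finite_sec_of_isFiniteType F hE
    exact Module.Finite.of_injective (app (O := OEt X.obj) a E) (app_injective _ E)
  · haveI := finite_sec_of_isFiniteType F hE
    exact Module.Finite.of_surjective (app (O := OEt X.obj) (cokernel.π a) E)
      (surjective_app_of_epi (affEt X.obj) _ hE (good_of_isQuasicoherent F hE) (hc E hE))
  · rw [isZero_stalkEt_iff X _ x hx]
    intro U l σ
    obtain ⟨O, hO, hu, -⟩ := exists_isAffineOpen_mem_and_subset (x := l.1.left (IsLocalRing.closedPoint x.K))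
      (U := (⊤ : U.obj.left.left.Opens)) trivial
    obtain ⟨m, hm'⟩ := exists_liftsTo_map x hx (opensInc U O) l (⟨_, hu⟩ : O) rfl
    let s := mres (O := OEt X.obj) G' (opensInc U O) σ
    have h0 : ¬ AlgSp.annSect (M := G') (E := opensObj U O) s ≤ AlgSp.primeAtPt _ (m.1.left (IsLocalRing.closedPoint x.K)) := by
      intro hle
      have hmem : app (O := OEt X.obj) a (opensObj U O) s ∈ torsion F Z' (opensObj U O) := (hrange (opensObj U O) hO).le ⟨s, rfl⟩
      refine hxZ (ofPt_closedPoint_of_lift x m ▸ hmem _ (le_trans (fun b hb => ?_) hle))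
      show (show Ob (OEt X.obj) (opensObj U O) from AlgSp.upΓ (opensObj U O) b) • s = 0
      apply app_injective (O := OEt X.obj) a (opensObj U O)
      exact ((app (O := OEt X.obj) a (opensObj U O)).map_smul _ s).trans (hb.trans (map_zero _).symm)
    have h := germ_zero_of_not_le G' x hx m _ h0
    have hm'' : (etPoint X x hx).fiber.map (opensInc U O) m = l := hm'
    rw [← hm'']
    exact ((etPoint X x hx).toPresheafFiber_w_apply (opensInc U O) m ((AlgSp.toAbEt X.obj).obj G').obj σ).symm.trans h
  · rw [isZero_stalkEt_iff X _ x hx]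
    intro U l σ
    obtain ⟨O₁, hO₁, hu₁, -⟩ := exists_isAffineOpen_mem_and_subset (x := l.1.left (IsLocalRing.closedPoint x.K))
      (U := (⊤ : U.obj.left.left.Opens)) trivial
    obtain ⟨O, hO, hu, hsub⟩ := exists_isAffineOpen_mem_and_subset (x := (⟨_, hu₁⟩ : O₁))
      (U := (⟨(AlgSp.Points.ofPt (opensObj U O₁).obj.hom ⁻¹' Z)ᶜ,
        (hZ.preimage (AlgSp.Points.continuous_ofPt _)).isOpen_compl⟩ : (opensObj U O₁).obj.left.left.Opens))
      (by
        show AlgSp.Points.ofPt (opensObj U O₁).obj.hom (⟨_, hu₁⟩ : O₁) ∉ Z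
        rw [ofPt_comp (opensInc U O₁) (⟨_, hu₁⟩ : O₁)]
        exact fun h => hxZ (ofPt_closedPoint_of_lift x l ▸ h))
    let W := opensObj (opensObj U O₁) O
    have hWaff : IsAffine W.obj.left.left := hO
    let g : W ⟶ U := opensInc (opensObj U O₁) O ≫ opensInc U O₁
    obtain ⟨m, hm'⟩ := exists_liftsTo_map x hx g l (⟨_, hu⟩ : O) rfl
    obtain ⟨f, hf⟩ := surjective_app_of_epi (affEt X.obj) (cokernel.π a) (E := W) hWaff (good_of_isQuasicoherent F hWaff) (hc W hWaff)
      (mres (O := OEt X.obj) (cokernel a) g σ)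
    have hf' : f ∈ torsion F Z' W := by
      intro w hw
      by_contra hwZ
      have hwZ2 : AlgSp.Points.ofPt W.obj.hom w ∉ Z := by
        rw [ofPt_comp (opensInc (opensObj U O₁) O) w]
        exact hsub w.2
      obtain ⟨q, hq, l', hl', hqx⟩ := exists_geometric_liftsTo W w
      have h0 : IsZero (AlgSp.stalkEt q ((AlgSp.toAbEt X.obj).obj F)) := by
        by_contra hne
        exact ((hsupp q hq).2 hne).elim (hqx ▸ hwZ2) (hqx ▸ hwZ)
      rw [isZero_stalkEt_iff X _ q hq] at h0
      exact not_le_of_germ F q hq hWaff l' f (h0 W l' f) (hl' ▸ hw)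
    obtain ⟨y, rfl⟩ := (hrange W hWaff).ge hf'
    have hzero : mres (O := OEt X.obj) (cokernel a) g σ = 0 := by
      rw [← hf, ← app_comp, cokernel.condition]
      rfl
    have hm'' : (etPoint X x hx).fiber.map g m = l := hm'
    rw [← hm'']
    exact ((etPoint X x hx).toPresheafFiber_w_apply g m ((AlgSp.toAbEt X.obj).obj (cokernel a)).obj σ).symm.trans
      ((congrArg _ hzero).trans (map_zero _))

end Groth.Agent.S10759
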