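import Groth.Statements.S10761
import Groth.Agent.Lib.AlgSp.ProperSub
-- import your own Groth.Agent.* helpers here

set_option autoImplicit false
universe u
open CategoryTheory CategoryTheory.Limits AlgebraicGeometry
open AlgSp

namespace Groth.Agent.S10761

/-- Let X' = Y' ×_Y X be a cartesian square of algebraic spaces over S (g' : X' ⟶ X and f' : X' ⟶ Y' the
projections) with f : X ⟶ Y locally of finite type, let i : Z ⟶ X be a closed subspace with Z ⟶ Y
proper, and let Z' ⟶ X' be its base change (a cartesian square Z' = Z ×_X X'). Then Z' ⟶ Y' is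
proper and the image of |Z'| in |X'| is the inverse image of the image of |Z| under |g'|; that is,
the inverse image of a closed subset proper over Y is proper over Y'. -/
theorem result {S : Scheme.{u}} {X Y X' Y' Z Z' : AlgSp.Space S}
    (f : X ⟶ Y) (g : Y' ⟶ Y) (f' : X' ⟶ Y') (g' : X' ⟶ X)
    (hsq : IsPullback g'.hom f'.hom f.hom g.hom)
    (hf : AlgSp.LocP @LocallyOfFiniteType f.hom)
    (i : Z ⟶ X) (hi : AlgSp.RepWith @IsClosedImmersion i.hom) (hZ : AlgSp.IsProperMor (i ≫ f).hom)
    (i' : Z' ⟶ X') (q : Z' ⟶ Z) (hsq' : IsPullback q.hom i'.hom i.hom g'.hom) :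
    AlgSp.IsProperMor (i' ≫ f').hom ∧
      Set.range (AlgSp.Points.map i'.hom) = AlgSp.Points.map g'.hom ⁻¹' Set.range (AlgSp.Points.map i.hom) := by
  refine ⟨GrothLib.AlgSp.isProperMor_of_isPullback Z.property Y.property Y'.property
    (hsq'.paste_vert hsq) hZ, ?_⟩
  rw [← Set.image_univ, ← Set.image_univ, GrothLib.AlgSp.preimage_image_of_isPullback hsq', Set.preimage_univ]

end Groth.Agent.S10761
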