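import Groth.Statements.S10762
import Groth.Agent.Lib.AlgSp.ProperSub
-- import your own Groth.Agent.* helpers here

set_option autoImplicit false
universe u
open CategoryTheory CategoryTheory.Limits AlgebraicGeometry
open AlgSp

namespace Groth.Agent.S10762

/-- Let B be an algebraic space over S, let a : X ⟶ B and b : Y ⟶ B be locally of finite type with b
separated, and let f : X ⟶ Y be a morphism over B. If i : Z ⟶ X is a closed subspace with Z ⟶ B
proper, then the image of |Z| under |f| is a closed subset of |Y| which underlies a closed subspace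
Z' ⟶ Y with Z' ⟶ B proper. -/
theorem result {S : Scheme.{u}} {X Y B Z : AlgSp.Space S}
    (a : X ⟶ B) (b : Y ⟶ B) (f : X ⟶ Y) (hcomm : f ≫ b = a)
    (ha : AlgSp.LocP @LocallyOfFiniteType a.hom) (hb : AlgSp.LocP @LocallyOfFiniteType b.hom)
    (hbs : AlgSp.IsSeparatedMor b.hom)
    (i : Z ⟶ X) (hi : AlgSp.RepWith @IsClosedImmersion i.hom) (hZ : AlgSp.IsProperMor (i ≫ a).hom) :
    IsClosed (AlgSp.Points.map f.hom '' Set.range (AlgSp.Points.map i.hom)) ∧
      ∃ (Z' : AlgSp.Space S) (i' : Z' ⟶ Y), AlgSp.RepWith @IsClosedImmersion i'.hom ∧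
        Set.range (AlgSp.Points.map i'.hom) = AlgSp.Points.map f.hom '' Set.range (AlgSp.Points.map i.hom) ∧
        AlgSp.IsProperMor (i' ≫ b).hom := by
  subst hcomm
  have hp : AlgSp.IsProperMor ((i ≫ f).hom ≫ b.hom) := by
    rw [show (i ≫ f).hom ≫ b.hom = (i ≫ f ≫ b).hom from Category.assoc i.hom f.hom b.hom]
    exact hZ
  have hg : AlgSp.IsUnivClosedMor (i ≫ f).hom := (GrothLib.AlgSp.isProperMor_of_comp Z.property Y.property B.property hp hbs).2.2
  obtain ⟨hc, Z', i', hZ', hi', hr, hp'⟩ :=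
    GrothLib.AlgSp.exists_closed_image Z.property Y.property B.property hg hp hb
  rw [← GrothLib.AlgSp.range_map_comp]
  exact ⟨hc, ⟨Z', hZ'⟩, ObjectProperty.homMk i', hi', hr, hp'⟩

end Groth.Agent.S10762
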