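import Groth.Statements.S10765
import Groth.Agent.Lib.AlgSp.ProperUnion
-- import your own Groth.Agent.* helpers here

set_option autoImplicit false
universe u
open CategoryTheory CategoryTheory.Limits AlgebraicGeometry
open AlgSp

namespace Groth.Agent.S10765

/-- Let f : X ⟶ Y be a morphism of algebraic spaces over S that is locally of finite type and let i_k :
Z_k ⟶ X, for k ranging over a finite index set, be closed subspaces with each Z_k ⟶ Y proper. Then
there is a closed subspace W ⟶ X whose image in |X| is the union of the images of the |Z_k| and with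
W ⟶ Y proper; that is, a finite union of closed subsets proper over Y is proper over Y. -/
theorem result {S : Scheme.{u}} {X Y : AlgSp.Space S}
    (f : X ⟶ Y) (hf : AlgSp.LocP @LocallyOfFiniteType f.hom)
    {n : ℕ} (Z : Fin n → AlgSp.Space S) (i : ∀ k, Z k ⟶ X)
    (hi : ∀ k, AlgSp.RepWith @IsClosedImmersion (i k).hom) (hZ : ∀ k, AlgSp.IsProperMor (i k ≫ f).hom) :
    ∃ (W : AlgSp.Space S) (j : W ⟶ X), AlgSp.RepWith @IsClosedImmersion j.hom ∧
      Set.range (AlgSp.Points.map j.hom) = ⋃ k, Set.range (AlgSp.Points.map (i k).hom) ∧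
      AlgSp.IsProperMor (j ≫ f).hom := by
  have hc : IsClosed (⋃ k, Set.range (AlgSp.Points.map (i k).hom)) := isClosed_iUnion_of_finite fun k =>
    GrothLib.AlgSp.isClosed_range_of_isUnivClosedMor X.property
      (GrothLib.AlgSp.isUnivClosedMor_of_closedImmersion (hi k))
  obtain ⟨W, j, hW, hj, hr, -⟩ := GrothLib.AlgSp.exists_isRedInduced_sp X.property hc
  refine ⟨⟨W, hW⟩, ObjectProperty.homMk j, hj, hr, ?_⟩
  change AlgSp.IsProperMor (j ≫ f.hom)
  have sq := fun k => IsPullback.of_hasPullback (i k).hom j
  refine GrothLib.AlgSp.isProperMor_of_family hW Y.property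
    (fun k => GrothLib.AlgSp.isAlgSpace_pullback' X.property (Z k).property hW (i k).hom j)
    (fun k => pullback.snd (i k).hom j) (fun w => ?_)
    (fun k => GrothLib.AlgSp.univSp_of_isPullback (sq k) (GrothLib.AlgSp.isUnivClosedMor_of_closedImmersion (hi k)))
    (GrothLib.AlgSp.EtLocal.locP_comp GrothLib.AlgSp.EtLocal.lft hW X.property Y.property
      (GrothLib.AlgSp.isProperMor_of_repWith_isClosedImmersion X.property hj).2.1.1 hf) (fun k => ?_)
  · obtain ⟨k, x, hx⟩ := Set.mem_iUnion.1 (hr.le ⟨w, rfl⟩)
    obtain ⟨p, -, hp⟩ := GrothLib.AlgSp.exists_of_isPullback (sq k) hx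
    exact ⟨k, p, hp⟩
  · rw [← Category.assoc, ← (sq k).w, Category.assoc]
    exact GrothLib.AlgSp.isProperMor_comp (GrothLib.AlgSp.isAlgSpace_pullback' X.property (Z k).property hW _ _)
      (Z k).property Y.property
      (GrothLib.AlgSp.isProperMor_of_repWith_isClosedImmersion (Z k).property
        (GrothLib.AlgSp.repWith_of_isPullback (sq k).flip hj)) (hZ k)

end Groth.Agent.S10765
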