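import Groth.Statements.S10767
import Groth.Agent.Lib.AlgSp.ElemChain
-- import your own Groth.Agent.* helpers here

set_option autoImplicit false
universe u
open CategoryTheory CategoryTheory.Limits AlgebraicGeometry
open AlgSp GrothLib.AlgSp
set_option backward.isDefEq.respectTransparency false

namespace Groth.Agent.S10767

/-- Take a quasi-compact, quasi-separated algebraic space X over S, a family B of objects of the site of
algebraic spaces etale over X, and a property P of such objects. Assume (1) every member of B is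
quasi-compact and quasi-separated, (2) a quasi-compact open subspace of a member of B is in B, (3)
every object isomorphic to an affine scheme is in B and satisfies P, and (4) for every elementary
distinguished square (U ⊂ W, V ⟶ W) with W in B, U quasi-compact, V affine and any fibre product U
×_W V, whenever P is true of U, V and U ×_W V it is true of W. Then every member of B has property
P. Quasi-separatedness is relative to S with S quasi-separated. -/
theorem result {S : Scheme.{u}} [QuasiSeparatedSpace ↥S] (X : AlgSp.Space S)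
    (hXc : AlgSp.IsQuasiCompactSp X.obj) (hXs : AlgSp.IsQuasiSeparatedSp X.obj)
    (B P : AlgSp.EtSpOver X → Prop)
    (h1 : ∀ W, B W → AlgSp.IsQuasiCompactSp W.obj.left.obj ∧ AlgSp.IsQuasiSeparatedSp W.obj.left.obj)
    (h2 : ∀ (W U : AlgSp.EtSpOver X) (j : U ⟶ W), B W → AlgSp.RepWith @IsOpenImmersion j.hom.left.hom →
      AlgSp.IsQuasiCompactSp U.obj.left.obj → B U)
    (h3 : ∀ (V : AlgSp.EtSpOver X) (T : Over S), IsAffine T.left →
      Nonempty ((AlgSp.yon S).obj T ≅ V.obj.left.obj) → B V ∧ P V)
    (h4 : ∀ (W U V UV : AlgSp.EtSpOver X) (j : U ⟶ W) (f : V ⟶ W) (p : UV ⟶ U) (q : UV ⟶ V),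
      B W → AlgSp.IsQuasiCompactSp U.obj.left.obj →
      (∃ T : Over S, IsAffine T.left ∧ Nonempty ((AlgSp.yon S).obj T ≅ V.obj.left.obj)) →
      AlgSp.IsElemDistSq j.hom.left.hom f.hom.left.hom →
      IsPullback p.hom.left.hom q.hom.left.hom j.hom.left.hom f.hom.left.hom →
      P U → P V → P UV → P W) :
    ∀ W : AlgSp.EtSpOver X, B W → P W := by
  classical
  have hoe : ∀ {Y Z : Sp S} {m : Y ⟶ Z}, RepWith @IsOpenImmersion m → IsEtaleMor m := fun {Y Z m} hm T φ hφ =>
    repWith_comp hφ (repWith_mono hm fun _ _ h (_ : IsOpenImmersion h) => (inferInstance : Etale h))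
  let mkE : ∀ (U : EtSpOver X) (Y : Sp S), IsAlgSpace Y → ∀ m : Y ⟶ U.obj.left.obj, IsEtaleMor m → EtSpOver X :=
    fun U Y hY m hm => ⟨Over.mk (Y := (⟨Y, hY⟩ : AlgSp.Space S)) (ObjectProperty.homMk (m ≫ U.obj.hom.hom)),
      fun T φ hφ => by
        show RepWith @Etale (φ ≫ m ≫ U.obj.hom.hom)
        rw [← Category.assoc]
        exact U.property (φ ≫ m) (hm φ hφ)⟩
  let mkH : ∀ (U' U : EtSpOver X) (m : U'.obj.left.obj ⟶ U.obj.left.obj),
      m ≫ U.obj.hom.hom = U'.obj.hom.hom → (U' ⟶ U) := fun U' U m hm =>
    ObjectProperty.homMk (Over.homMk (ObjectProperty.homMk m) (InducedCategory.Hom.ext hm))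
  have hBsub : ∀ (U : EtSpOver X) (Y : Sp S) (hY : IsAlgSpace Y) (m : Y ⟶ U.obj.left.obj)
      (hm : RepWith @IsOpenImmersion m), B U → IsQuasiCompactSp Y → B (mkE U Y hY m (hoe hm)) :=
    fun U Y hY m hm hU hYc => h2 U _ (mkH (mkE U Y hY m (hoe hm)) U m rfl) hU hm hYc
  -- glueing along one elementary square
  have hglue : ∀ (U : EtSpOver X), B U → ∀ (Y : Sp S) (hY : IsAlgSpace Y) (k : Y ⟶ U.obj.left.obj)
      (hk : RepWith @IsOpenImmersion k), IsQuasiCompactSp Y → ∀ (V : Over S), IsAffine V.left →
      ∀ (f' : (yon S).obj V ⟶ U.obj.left.obj) (hf' : RepWith @Etale f'), IsElemDistSq k f' →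
      P (mkE U Y hY k (hoe hk)) →
      (B (mkE U _ ((ofScheme S).obj V).property f' (isEtaleMor_of_repWith _ hf')) →
        ∀ (Q : EtSpOver X) (c : Q.obj.left.obj ⟶ (yon S).obj V), RepWith @IsOpenImmersion c →
          Set.range (Points.map c) = Points.map f' ⁻¹' Set.range (Points.map k) → B Q → P Q) →
      P U := by
    intro U hU Y hY k hk hYc V hV f' hf' hsq hP hUV
    let U₁ := mkE U Y hY k (hoe hk)
    let V₁ := mkE U _ ((ofScheme S).obj V).property f' (isEtaleMor_of_repWith _ hf')
    obtain ⟨hBV, hPV⟩ := h3 V₁ V hV ⟨Iso.refl _⟩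
    have sq := IsPullback.of_hasPullback k f'
    have hs : RepWith @IsOpenImmersion (pullback.snd k f') := repWith_of_isPullback sq hk
    have hPa : IsAlgSpace (pullback k f') := isAlgSpace_pullback' U.obj.left.property hY ((ofScheme S).obj V).property k f'
    have hrange : Set.range (Points.map (pullback.snd k f')) = Points.map f' ⁻¹' Set.range (Points.map k) := by
      ext z
      constructor
      · rintro ⟨q, rfl⟩
        exact ⟨Points.map (pullback.fst k f') q, by rw [← Points.map_comp, pullback.condition, Points.map_comp]⟩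
      · rintro ⟨y, hy⟩
        obtain ⟨q, -, hq⟩ := exists_of_isPullback sq hy
        exact ⟨q, hq⟩
    have hPc : IsQuasiCompactSp (pullback k f') := by
      refine isQuasiCompactSp_of_openImmersion hPa hs ?_
      rw [hrange]
      haveI := hV
      haveI := compactSpace_points_of_isQuasiCompactSp hYc
      have hc := isCompact_preimage_chart U.obj.left.property (h1 U hU).2 f' (isOpen_range_openImmersion hk)
        (isCompact_range (Points.continuous_map k))
      convert hc.image (Points.schemeHomeo V).continuous using 1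
      ext z
      obtain ⟨v, rfl⟩ := (Points.schemeHomeo V).surjective z
      rw [(Points.schemeHomeo V).injective.mem_set_image, Set.mem_preimage, Set.mem_preimage,
        Points.ofPt_eq_map_ofScheme]
      rfl
    let Q := mkE V₁ _ hPa (pullback.snd k f') (hoe hs)
    have hBQ : B Q := hBsub V₁ _ hPa _ hs hBV hPc
    refine h4 U U₁ V₁ Q (mkH _ _ k rfl) (mkH _ _ f' rfl) (mkH Q U₁ (pullback.fst k f') ?_)
      (mkH Q V₁ (pullback.snd k f') rfl) hU hYc ⟨V, hV, ⟨Iso.refl _⟩⟩ hsq sq hP hPV
      (hUV hBV Q (pullback.snd k f') hs hrange hBQ)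
    change pullback.fst k f' ≫ k ≫ U.obj.hom.hom = pullback.snd k f' ≫ f' ≫ U.obj.hom.hom
    rw [← Category.assoc, ← Category.assoc, pullback.condition]
  -- empty objects
  have hempty : ∀ (U : EtSpOver X), IsEmpty (Points U.obj.left.obj) → P U := by
    intro U hU
    obtain ⟨U₀, a, -, -⟩ := U.obj.left.property.atlas
    let V : Over S := Over.mk (⊥ : S.Opens).ι
    haveI : IsEmpty ↥V.left := ⟨fun v => v.2⟩
    obtain ⟨g, -⟩ : ∃ g : V ⟶ U₀, True :=
      ⟨Over.homMk ((isInitialOfIsEmpty (X := V.left)).to _) ((isInitialOfIsEmpty (X := V.left)).hom_ext _ _), trivial⟩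
    haveI : IsIso ((yon S).map g ≫ a) := isIso_of_yon fun T b => by
      haveI : IsEmpty ↥T.left := ⟨fun t => hU.false (Points.ofPt b t)⟩
      obtain ⟨l, hl⟩ := exists_map_of_isEmpty ((yon S).map g ≫ a) b
      refine ⟨(yon S).map l, hl, fun l' _ => ?_⟩
      obtain ⟨l', rfl⟩ := (yon S).map_surjective l'
      exact congrArg _ (Over.OverMorphism.ext ((isInitialOfIsEmpty (X := T.left)).hom_ext _ _))
    exact (h3 U V (isAffineOpen_bot S) ⟨asIso ((yon S).map g ≫ a)⟩).2
  -- quasi-compact opens of affine schemes
  have haff : ∀ (n : ℕ) (U : EtSpOver X), B U → ∀ (A : Over S), IsAffine A.left →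
      ∀ (c : U.obj.left.obj ⟶ (yon S).obj A), RepWith @IsOpenImmersion c → ∀ s : Finset Γ(A.left, ⊤), s.card ≤ n →
      Points.schemeHomeo A ⁻¹' Set.range (Points.map c) = (⋃ g ∈ s, (A.left.basicOpen g : Set ↥A.left)) → P U := by
    intro n
    induction n with
    | zero =>
      intro U hU A hA c hc s hs hr
      refine hempty U ⟨fun x => ?_⟩
      obtain ⟨v, hv⟩ := (Points.schemeHomeo A).surjective (Points.map c x)
      have : v ∈ Points.schemeHomeo A ⁻¹' Set.range (Points.map c) := ⟨x, hv.symm⟩
      rw [hr, Finset.card_eq_zero.1 (Nat.le_zero.1 hs)] at this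
      simp at this
    | succ n ih =>
      intro U hU A hA c hc s hs hr
      haveI := hA
      rcases s.eq_empty_or_nonempty with rfl | ⟨g, hg⟩
      · exact ih U hU A hA c hc ∅ (Nat.zero_le _) hr
      let O : Set (Points ((yon S).obj A)) :=
        Points.schemeHomeo A '' (⋃ h ∈ s.erase g, (A.left.basicOpen h : Set ↥A.left))
      have hOo : IsOpen O := (Points.schemeHomeo A).isOpenMap _ (isOpen_biUnion fun h _ => (A.left.basicOpen h).2)
      have hOc : IsCompact O := ((s.erase g).finite_toSet.isCompact_biUnion fun h _ =>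
        ((isAffineOpen_top A.left).basicOpen h).isCompact).image (Points.schemeHomeo A).continuous
      have hOsub : O ⊆ Set.range (Points.map c) := by
        rintro _ ⟨v, hv, rfl⟩
        show v ∈ Points.schemeHomeo A ⁻¹' Set.range (Points.map c)
        rw [hr]
        exact Set.biUnion_subset_biUnion_left (Finset.erase_subset g s) hv
      have hcd : IsOpen (Points.map c ⁻¹' O) := hOo.preimage (Points.continuous_map c)
      let k := openSubι U.obj.left.obj (Points.map c ⁻¹' O)
      have hk := repWith_openSubι (F := U.obj.left.obj) hcd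
      have hY := isAlgSpace_openSub U.obj.left.property hcd
      have hkr : Set.range (Points.map (k ≫ c)) = O := by
        rw [show Points.map (k ≫ c) = Points.map c ∘ Points.map k from funext fun z => Points.map_comp _ _ z,
          Set.range_comp, range_openSubι, Set.image_preimage_eq_iff.2 hOsub]
      have hYc : IsQuasiCompactSp (openSub U.obj.left.obj (Points.map c ⁻¹' O)) :=
        isQuasiCompactSp_of_openImmersion hY (repWith_comp hk hc) (by rw [hkr]; exact hOc)
      let V : Over S := Over.mk ((A.left.basicOpen g).ι ≫ A.hom)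
      let ι : V ⟶ A := Over.homMk (A.left.basicOpen g).ι rfl
      have hV : IsAffine V.left := (isAffineOpen_top A.left).basicOpen g
      have hι : RepWith @IsOpenImmersion ((yon S).map ι) :=
        (repWith_yon_map_iff _ ι).2 (inferInstanceAs (IsOpenImmersion (A.left.basicOpen g).ι))
      have hιr : Set.range (Points.ofPt ((yon S).map ι)) = Points.schemeHomeo A '' (A.left.basicOpen g : Set ↥A.left) := by
        ext z
        constructor
        · rintro ⟨v, rfl⟩
          exact ⟨v.1, v.2, (by rw [Points.ofPt_eq_map_ofScheme]; exact (Points.map_yon_map_apply ι v).symm)⟩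
        · rintro ⟨v, hv, rfl⟩
          exact ⟨⟨v, hv⟩, by rw [Points.ofPt_eq_map_ofScheme]; exact Points.map_yon_map_apply ι ⟨v, hv⟩⟩
      have hsplit : (⋃ g' ∈ s, (A.left.basicOpen g' : Set ↥A.left)) =
          (A.left.basicOpen g : Set ↥A.left) ∪ ⋃ h ∈ s.erase g, (A.left.basicOpen h : Set ↥A.left) := by
        conv_lhs => rw [← Finset.insert_erase hg]
        exact Finset.set_biUnion_insert g _ _
      have hstep : IsElemStep O (Set.range (Points.map c)) V ((yon S).map ι) := by
        refine ⟨hV, repWith_mono hι fun _ _ h (_ : IsOpenImmersion h) => (inferInstance : Etale h), ?_, fun T γ hγ => ?_⟩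
        · rw [hιr, ← Set.image_union, Set.union_comm, ← hsplit, ← hr,
            Set.image_preimage_eq _ (Points.schemeHomeo A).surjective]
        · obtain ⟨γ, rfl⟩ := (yon S).map_surjective γ
          have hin : Set.range γ.left ⊆ Set.range (A.left.basicOpen g).ι := by
            rintro _ ⟨t, rfl⟩
            rw [Scheme.Opens.range_ι]
            obtain ⟨h₁, h₂⟩ := hγ t
            rw [Points.ofPt_eq_map_ofScheme] at h₁ h₂
            erw [Points.map_yon_map_apply] at h₁ h₂
            have h₃ : γ.left t ∈ Points.schemeHomeo A ⁻¹' Set.range (Points.map c) := h₁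
            rw [hr, hsplit] at h₃
            exact h₃.resolve_right fun h => h₂ ⟨_, h, rfl⟩
          let l : T ⟶ V := Over.homMk (IsOpenImmersion.lift (A.left.basicOpen g).ι γ.left hin) (by
            change _ ≫ _ ≫ A.hom = _
            rw [IsOpenImmersion.lift_fac_assoc, Over.w])
          have hl : l ≫ ι = γ := Over.OverMorphism.ext (IsOpenImmersion.lift_fac _ _ _)
          refine ⟨l, (Functor.map_comp _ _ _).symm.trans (congrArg _ hl), fun l' hl' => ?_⟩
          have e := (yon S).map_injective ((Functor.map_comp _ _ _).trans hl')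
          rw [← hl] at e
          exact Over.OverMorphism.ext ((cancel_mono (A.left.basicOpen g).ι).1 (congrArg (fun z => z.left) e))
      obtain ⟨f', hf'c, hf', hsq⟩ := exists_elemDistSq_of_step hOo hstep U.obj.left.property hk hc rfl hkr
      refine hglue U hU _ hY k hk hYc V hV f' hf' hsq (ih _ (hBsub U _ hY k hk hU hYc) A hA (k ≫ c)
        (repWith_comp hk hc) (s.erase g) (by rw [Finset.card_erase_of_mem hg]; omega) ?_) ?_
      · rw [hkr]
        exact (Points.schemeHomeo A).injective.preimage_image _
      intro hBV Q d hd hdr hBQ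
      refine ih Q hBQ A hA (d ≫ (yon S).map ι) (repWith_comp hd hι) ((s.erase g).image (g * ·))
        (Finset.card_image_le.trans (by rw [Finset.card_erase_of_mem hg]; omega)) ?_
      haveI : Mono c := mono_of_openImmersion hc
      ext v
      have hVmap : ∀ z : Points ((yon S).obj V), Points.map ((yon S).map ι) z ∈ Points.schemeHomeo A '' (A.left.basicOpen g : Set ↥A.left) :=
        fun z => by
          obtain ⟨w, rfl⟩ := (Points.schemeHomeo V).surjective z
          rw [Points.map_yon_map_apply]
          exact ⟨_, w.2, rfl⟩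
      constructor
      · rintro ⟨q, hq⟩
        rw [Points.map_comp] at hq
        obtain ⟨y, hy⟩ := hdr.subset (Set.mem_range_self q)
        have hvO : Points.schemeHomeo A v ∈ O := by
          rw [← hkr, ← hq, ← hf'c, Points.map_comp, ← hy, ← Points.map_comp]
          exact Set.mem_range_self y
        obtain ⟨w, hw, hwe⟩ := hvO
        obtain ⟨w', hw', hwe'⟩ := hVmap (Points.map d q)
        rw [hq] at hwe'
        obtain rfl := (Points.schemeHomeo A).injective hwe
        obtain rfl := (Points.schemeHomeo A).injective hwe'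
        obtain ⟨h, hh, hwh⟩ := Set.mem_iUnion₂.1 hw
        refine Set.mem_iUnion₂.2 ⟨g * h, Finset.mem_image_of_mem _ hh, ?_⟩
        rw [Scheme.basicOpen_mul]
        exact ⟨hw', hwh⟩
      · intro hv
        obtain ⟨_, hm, hv⟩ := Set.mem_iUnion₂.1 hv
        obtain ⟨h, hh, rfl⟩ := Finset.mem_image.1 hm
        rw [Scheme.basicOpen_mul] at hv
        obtain ⟨y, hy⟩ := hkr.ge ⟨v, Set.mem_iUnion₂.2 ⟨h, hh, hv.2⟩, rfl⟩
        let z := Points.schemeHomeo V ⟨v, hv.1⟩
        have hz : Points.map ((yon S).map ι) z = Points.schemeHomeo A v := Points.map_yon_map_apply ι _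
        obtain ⟨q, hq⟩ := hdr.ge (show z ∈ Points.map f' ⁻¹' Set.range (Points.map k) from
          ⟨y, injective_map_of_mono c (by rw [← Points.map_comp, hy, ← Points.map_comp, hf'c, hz])⟩)
        exact ⟨q, by rw [Points.map_comp, hq, hz]⟩
  -- quasi-compact opens of a member
  intro W hW
  obtain ⟨hWc, hWs⟩ := h1 W hW
  have hreach := elemReach_univ W.obj.left.property hWc hWs
  have hopens : ∀ O, Relation.ReflTransGen ElemStep ∅ O → ∀ (U : EtSpOver X) (j : U.obj.left.obj ⟶ W.obj.left.obj),
      RepWith @IsOpenImmersion j → Set.range (Points.map j) = O → B U → P U := by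
    intro O h
    induction h with
    | refl =>
      intro U j _ hr _
      exact hempty U ⟨fun x => Set.eq_empty_iff_forall_notMem.1 hr _ (Set.mem_range_self x)⟩
    | @tail A' O' hA hAO ih =>
      intro U j hj hr hU
      haveI := mono_of_openImmersion hj
      obtain ⟨hA'o, V, f, hs⟩ := hAO
      haveI := hs.1
      have hsub : A' ⊆ Set.range (Points.map j) := by rw [hr, hs.2.2.1]; exact Set.subset_union_left
      have hpre := hA'o.preimage (Points.continuous_map j)
      let k := openSubι U.obj.left.obj (Points.map j ⁻¹' A')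
      have hk := repWith_openSubι (F := U.obj.left.obj) hpre
      have hY := isAlgSpace_openSub U.obj.left.property hpre
      have hkr : Set.range (Points.map (k ≫ j)) = A' := by
        rw [show Points.map (k ≫ j) = Points.map j ∘ Points.map k from funext fun z => Points.map_comp _ _ z,
          Set.range_comp, range_openSubι, Set.image_preimage_eq_iff.2 hsub]
      have hYc : IsQuasiCompactSp (openSub U.obj.left.obj (Points.map j ⁻¹' A')) :=
        isQuasiCompactSp_of_openImmersion hY (repWith_comp hk hj) (by
          rw [hkr]; exact isCompact_of_reach hA isCompact_empty)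
      obtain ⟨f', -, hf', hsq⟩ := exists_elemDistSq_of_step hA'o hs U.obj.left.property hk hj hr hkr
      refine hglue U hU _ hY k hk hYc V hs.1 f' hf' hsq
        (ih _ (k ≫ j) (repWith_comp hk hj) hkr (hBsub U _ hY k hk hU hYc)) ?_
      intro hBV Q d hd hdr hBQ
      haveI := compactSpace_points_of_isQuasiCompactSp (h1 Q hBQ).1
      have hC : IsCompact (Points.schemeHomeo V ⁻¹' Set.range (Points.map d)) :=
        (Points.schemeHomeo V).isCompact_preimage.2 (isCompact_range (Points.continuous_map d))
      have hCo : IsOpen (Points.schemeHomeo V ⁻¹' Set.range (Points.map d)) :=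
        (isOpen_range_openImmersion hd).preimage (Points.schemeHomeo V).continuous
      obtain ⟨t, ht, hte⟩ : ∃ t : Finset Γ(V.left, ⊤), True ∧
          Points.schemeHomeo V ⁻¹' Set.range (Points.map d) = ⋃ g ∈ t, (V.left.basicOpen g : Set ↥V.left) := by
        have hb : ∀ v : Points.schemeHomeo V ⁻¹' Set.range (Points.map d), ∃ g : Γ(V.left, ⊤),
            v.1 ∈ V.left.basicOpen g ∧
              (V.left.basicOpen g : Set ↥V.left) ⊆ Points.schemeHomeo V ⁻¹' Set.range (Points.map d) := fun v => by
          obtain ⟨_, ⟨_, ⟨g, rfl⟩, rfl⟩, h₁, h₂⟩ :=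
            (isBasis_basicOpen V.left).exists_subset_of_mem_open v.2 hCo
          exact ⟨g, h₁, h₂⟩
        choose g hg₁ hg₂ using hb
        obtain ⟨t, ht⟩ := hC.elim_finite_subcover (fun v => (V.left.basicOpen (g v) : Set ↥V.left))
          (fun v => (V.left.basicOpen (g v)).2) fun v hv => Set.mem_iUnion.2 ⟨⟨v, hv⟩, hg₁ ⟨v, hv⟩⟩
        refine ⟨t.image g, trivial, ?_⟩
        rw [Finset.set_biUnion_finset_image]
        exact Set.Subset.antisymm ht (Set.iUnion₂_subset fun v _ => hg₂ v)
      exact haff t.card Q hBQ V hs.1 d hd t le_rfl hte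
  exact hopens _ hreach W (𝟙 W.obj.left.obj) (repWith_iso _) (Set.range_eq_univ.2 fun x => ⟨x, Points.map_id x⟩) hW

end Groth.Agent.S10767
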