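import Groth.Statements.S10768
import Groth.Agent.Lib.AlgSp.ElemChain
-- import your own Groth.Agent.* helpers here

set_option autoImplicit false
universe u
open CategoryTheory CategoryTheory.Limits AlgebraicGeometry
open AlgSp GrothLib.AlgSp
set_option backward.isDefEq.respectTransparency false

namespace Groth.Agent.S10768

/-- Let X be a quasi-compact and quasi-separated algebraic space over S, W ⊂ X a quasi-compact open
subspace, and P a property of open subspaces of X (pairs of an algebraic space and a representable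
open immersion into X). Assume (1) W has property P, and (2) given any elementary distinguished
square (W₁ ⊂ W₂, V ⟶ W₂) where W₁ ⊂ W₂ are quasi-compact open subspaces of X containing W and V is
affine, P for W₁ implies P for W₂. Then P holds for X (with its identity). Quasi-separatedness is
relative to S with S quasi-separated. -/
theorem result {S : Scheme.{u}} [QuasiSeparatedSpace ↥S] (X : AlgSp.Space S)
    (hXc : AlgSp.IsQuasiCompactSp X.obj) (hXs : AlgSp.IsQuasiSeparatedSp X.obj)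
    (P : ∀ U : AlgSp.Space S, (U ⟶ X) → Prop)
    (W : AlgSp.Space S) (jW : W ⟶ X) (hjW : AlgSp.RepWith @IsOpenImmersion jW.hom)
    (hWc : AlgSp.IsQuasiCompactSp W.obj) (h1 : P W jW)
    (h2 : ∀ (W₁ W₂ V : AlgSp.Space S) (j₁ : W₁ ⟶ X) (j₂ : W₂ ⟶ X) (k : W₁ ⟶ W₂) (m : W ⟶ W₁) (f : V ⟶ W₂),
      AlgSp.RepWith @IsOpenImmersion j₁.hom → AlgSp.RepWith @IsOpenImmersion j₂.hom →
      k ≫ j₂ = j₁ → m ≫ j₁ = jW →
      AlgSp.IsQuasiCompactSp W₁.obj → AlgSp.IsQuasiCompactSp W₂.obj →
      (∃ T : Over S, IsAffine T.left ∧ Nonempty ((AlgSp.yon S).obj T ≅ V.obj)) →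
      AlgSp.IsElemDistSq k.hom f.hom → P W₁ j₁ → P W₂ j₂) :
    P X (𝟙 X) := by
  haveI := compactSpace_points_of_isQuasiCompactSp hWc
  have hWr : IsCompact (Set.range (Points.map jW.hom)) := isCompact_range (Points.continuous_map _)
  let Q : Set (Points X.obj) → Prop := fun O => ∃ (W₁ : AlgSp.Space S) (j₁ : W₁ ⟶ X) (m : W ⟶ W₁),
    RepWith @IsOpenImmersion j₁.hom ∧ Set.range (Points.map j₁.hom) = O ∧ m ≫ j₁ = jW ∧
      IsQuasiCompactSp W₁.obj ∧ P W₁ j₁
  have hstep : ∀ {O O' : Set (Points X.obj)}, ElemStep O O' → Q O →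
      ∀ (W₂ : AlgSp.Space S) (j₂ : W₂ ⟶ X), RepWith @IsOpenImmersion j₂.hom → Set.range (Points.map j₂.hom) = O' →
        IsQuasiCompactSp W₂.obj → ∃ m : W ⟶ W₂, m ≫ j₂ = jW ∧ P W₂ j₂ := by
    rintro O O' ⟨hO, V, f, hs⟩ ⟨W₁, j₁, m, hj₁, hr₁, hm, hc₁, hP⟩ W₂ j₂ hj₂ hr₂ hc₂
    obtain ⟨k, hk⟩ := (exists_factor_iff hj₂ j₁.hom).2 (by
      rw [hr₁, hr₂, hs.2.2.1]
      exact Set.subset_union_left)
    have hko := repWith_openImmersion_of_comp hj₂ hj₁ hk
    obtain ⟨f', -, -, hsq⟩ := exists_elemDistSq_of_step hO hs W₂.property hko hj₂ hr₂ (by rw [hk, hr₁])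
    let k' : W₁ ⟶ W₂ := ObjectProperty.homMk k
    have hk' : k' ≫ j₂ = j₁ := InducedCategory.Hom.ext hk
    exact ⟨m ≫ k', by rw [Category.assoc, hk', hm],
      h2 W₁ W₂ ((ofScheme S).obj V) j₁ j₂ k' m (ObjectProperty.homMk f') hj₁ hj₂ hk' hm hc₁ hc₂
        ⟨V, hs.1, ⟨Iso.refl _⟩⟩ hsq hP⟩
  have hreach := elemReach_union (elemReach_univ X.property hXc hXs) (isOpen_range_openImmersion hjW)
  rw [Set.empty_union, Set.univ_union] at hreach
  have hQ : ∀ O, Relation.ReflTransGen ElemStep (Set.range (Points.map jW.hom)) O → Q O := by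
    intro O h
    induction h with
    | refl => exact ⟨W, jW, 𝟙 W, hjW, rfl, Category.id_comp _, hWc, h1⟩
    | @tail A B hA hAB ih =>
      have hB := hAB.isOpen
      let W₂ : AlgSp.Space S := ⟨openSub X.obj B, isAlgSpace_openSub X.property hB⟩
      have hc₂ : IsQuasiCompactSp W₂.obj := isQuasiCompactSp_of_openImmersion W₂.property (repWith_openSubι hB) (by
        rw [range_openSubι]; exact isCompact_of_reach (hA.tail hAB) hWr)
      obtain ⟨m, hm, hP⟩ := hstep hAB ih W₂ (ObjectProperty.homMk (openSubι X.obj B)) (repWith_openSubι hB)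
        range_openSubι hc₂
      exact ⟨W₂, ObjectProperty.homMk (openSubι X.obj B), m, repWith_openSubι hB, range_openSubι, hm, hc₂, hP⟩
  obtain ⟨m, -, hP⟩ := hstep (elemStep_refl X.property isOpen_univ) (hQ _ hreach) X (𝟙 X) (repWith_iso (𝟙 X.obj))
    (Set.range_eq_univ.2 fun x => ⟨x, Points.map_id x⟩) hXc
  exact hP

end Groth.Agent.S10768
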