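import Groth.Statements.S10769
import Groth.Agent.Lib.AlgSp.QCohSigmaBig
import Groth.Agent.Lib.AlgSp.ModDerived
import Groth.Agent.Lib.AlgSp.EtModGroth
import Groth.Agent.Lib.HoCat.DerivedCoproduct
import Groth.Agent.Lib.DerCat.HomologyCoproduct

set_option autoImplicit false
set_option backward.isDefEq.respectTransparency false
universe w u
open CategoryTheory CategoryTheory.Limits AlgebraicGeometry
attribute [local instance] HasDerivedCategory.standard
open AlgSp

namespace Groth.Agent.S10769

open HomologicalComplex

/-- Homology commutes with exact coproducts of complexes. -/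
theorem nonempty_homology_sigma_iso {A : Type*} [Category A] [Abelian A] {J : Type w}
    [HasColimitsOfShape (Discrete J) A] [HasExactColimitsOfShape (Discrete J) A]
    (K : J → CochainComplex A ℤ) (i : ℤ) :
    Nonempty ((∐ K).homology i ≅ ∐ fun j => (K j).homology i) := by
  let c := ComplexShape.up ℤ
  let F := Discrete.functor K
  let d : ∀ k k', F ⋙ eval A c k ⟶ F ⋙ eval A c k' := fun k k' =>
    Discrete.natTrans fun j => (F.obj j).d k k'
  let S : ShortComplex (Discrete J ⥤ A) := ShortComplex.mk (d (c.prev i) i) (d i (c.next i))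
    (by ext j; exact (F.obj j).d_comp_d _ _ _)
  let e : S.map (colim (J := Discrete J) (C := A)) ≅ (∐ K).sc i :=
    ShortComplex.isoMk (preservesColimitIso (eval A c (c.prev i)) F).symm
      (preservesColimitIso (eval A c i) F).symm (preservesColimitIso (eval A c (c.next i)) F).symm
      (by
        refine colimit.hom_ext fun j => ?_
        simp only [Iso.symm_hom, ShortComplex.map_f, S]
        erw [ι_preservesColimitIso_inv_assoc]
        erw [ι_colimMap_assoc]
        erw [ι_preservesColimitIso_inv]
        simp [d]
        exact (colimit.ι F j).comm _ _)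
      (by
        refine colimit.hom_ext fun j => ?_
        simp only [Iso.symm_hom, ShortComplex.map_g, S]
        erw [ι_preservesColimitIso_inv_assoc]
        erw [ι_colimMap_assoc]
        erw [ι_preservesColimitIso_inv]
        simp [d]
        exact (colimit.ι F j).comm _ _)
  let e' : ∀ j : Discrete J, S.map ((evaluation (Discrete J) A).obj j) ≅ (K j.as).sc i := fun j =>
    ShortComplex.isoMk (Iso.refl _) (Iso.refl _) (Iso.refl _)
      ((Category.id_comp _).trans (Category.comp_id _).symm)
      ((Category.id_comp _).trans (Category.comp_id _).symm)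
  let f : S.homology ≅ Discrete.functor fun j => (K j).homology i :=
    Discrete.natIso fun j => (S.mapHomologyIso ((evaluation (Discrete J) A).obj j)).symm ≪≫
      ShortComplex.homologyMapIso (e' j)
  exact ⟨(ShortComplex.homologyMapIso e).symm ≪≫ S.mapHomologyIso colim ≪≫ colim.mapIso f⟩

open GrothLib.AlgSp.QCohEt GrothLib.AlgSp.ModDer in
theorem result {S : Scheme.{u}} (X : AlgSp.Space S) {ι : Type (u + 1)}
    (E : ι → AlgSp.DModEt X.obj) [HasCoproduct E]
    (hE : ∀ i, DCoh.IsQCohDMod (AlgSp.OEtRing X.obj) (E i)) :
    DCoh.IsQCohDMod (AlgSp.OEtRing X.obj) (∐ E) := by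
  intro q
  let A := ModEt X.obj
  haveI : HasFiniteBiproducts A := Abelian.hasFiniteBiproducts
  haveI : AB4OfSize.{u + 1} A := AB4.of_AB5 _
  haveI : HasExactColimitsOfShape (Discrete ι) A := AB4OfSize.ofShape ι
  haveI : HasColimitsOfShape (Discrete ι) (DerivedCategory A) := GrothLib.HoCat.derivedCategory_hasColimitsOfShape
  let L : ι → CochainComplex A ℤ := fun k => DerivedCategory.Q.objPreimage (E k)
  let e : ∀ k, DerivedCategory.Q.obj (L k) ≅ E k := fun k => DerivedCategory.Q.objObjPreimageIso (E k)
  let hc := isColimitCofanMkObjOfIsColimit DerivedCategory.Q L (Sigma.ι L) (coproductIsCoproduct L)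
  haveI : HasCoproduct fun k => DerivedCategory.Q.obj (L k) := ⟨⟨⟨_, hc⟩⟩⟩
  let iso : DerivedCategory.Q.obj (∐ L) ≅ ∐ E :=
    (IsColimit.coconePointUniqueUpToIso hc (coproductIsCoproduct _)) ≪≫ Limits.Sigma.mapIso e
  let η := DerivedCategory.homologyFunctorFactors A q
  obtain ⟨h⟩ := nonempty_homology_sigma_iso L q
  refine isQuasicoherent_of_iso
    (h.symm ≪≫ (η.app (∐ L)).symm ≪≫ (DerivedCategory.homologyFunctor A q).mapIso iso) ?_
  refine isQuasicoherent_of_good _ fun V hV => good_sigma_big (O := OEt X.obj) (affEt X.obj) _ hV fun k => ?_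
  have hk : SheafOfModules.IsQuasicoherent (R := OEtRing X.obj) ((L k).homology q : ModEt X.obj) :=
    isQuasicoherent_of_iso ((DerivedCategory.homologyFunctor A q).mapIso (e k).symm ≪≫ η.app (L k)) (hE k q)
  haveI := hk
  exact good_of_isQuasicoherent _ hV

end Groth.Agent.S10769
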