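import Groth.Statements.S1077
import Groth.Agent.Lib.AbLength.Basic
import Mathlib

set_option autoImplicit false
universe v u
open CategoryTheory CategoryTheory.Limits
open CohDer

namespace Groth.Agent.S1077

open GrothLib.AbLength

theorem wellFounded_Iic {α : Type*} [Lattice α] [IsModularLattice α] [OrderBot α] :
    ∀ (n : ℕ) (F : Fin (n + 1) → α), F 0 = ⊥ → (∀ i : Fin n, F i.castSucc ⋖ F i.succ) →
      WellFoundedLT (Set.Iic (F (Fin.last n))) ∧ WellFoundedGT (Set.Iic (F (Fin.last n))) := by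
  intro n
  induction n with
  | zero =>
    intro F h0 _
    have hsub : Subsingleton (Set.Iic (F (Fin.last 0))) := ⟨fun a b => Subtype.ext
      ((le_bot_iff.1 (a.2.trans h0.le)).trans (le_bot_iff.1 (b.2.trans h0.le)).symm)⟩
    exact ⟨inferInstance, inferInstance⟩
  | succ n ih =>
    intro F h0 hc
    obtain ⟨h1, h2⟩ := ih (F ∘ Fin.castSucc) h0 fun i => hc i.castSucc
    have hcov : F (Fin.last n).castSucc ⋖ F (Fin.last (n + 1)) := hc (Fin.last n)
    set s := F (Fin.last n).castSucc with hs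
    set t := F (Fin.last (n + 1))
    have : Finite (Set.Icc s t) := (hcov.Icc_eq ▸ Set.toFinite _ : (Set.Icc s t).Finite).to_subtype
    have h1' : WellFoundedLT (Set.Iic s) := h1
    have h2' : WellFoundedGT (Set.Iic s) := h2
    let f : Set.Iic t → Set.Iic s × Set.Icc s t := fun x =>
      (⟨x.1 ⊓ s, Set.mem_Iic.2 inf_le_right⟩, ⟨x.1 ⊔ s, le_sup_right, sup_le x.2 hcov.le⟩)
    have hf : StrictMono f := fun x y hxy => by
      have := strictMono_inf_prod_sup (z := s) (show x.1 < y.1 from hxy)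
      exact this
    exact ⟨hf.wellFoundedLT, hf.wellFoundedGT⟩

/-- An object X of an abelian category is Artinian and Noetherian if and only if there is a finite chain
of subobjects ⊥ = F₀ ≤ F₁ ≤ … ≤ Fₙ = ⊤ of X whose successive quotients Fᵢ₊₁/Fᵢ are simple. -/
theorem result {A : Type u} [Category.{v} A] [Abelian A] (X : A) :
    (IsArtinianObject X ∧ IsNoetherianObject X) ↔
      ∃ (n : ℕ) (F : Fin (n + 1) → Subobject X) (hF : Monotone F), F 0 = ⊥ ∧ F (Fin.last n) = ⊤ ∧
        ∀ i : Fin n, Simple (cokernel (Subobject.ofLE (F (Fin.castSucc i)) (F (Fin.succ i)) (hF (Fin.castSucc_lt_succ (i := i)).le))) := by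
  constructor
  · rintro ⟨hA, hN⟩
    obtain ⟨a, h0, n, hn, hc⟩ :=
      exists_covBy_seq_of_wellFoundedLT_wellFoundedGT_of_le (bot_le : (⊥ : Subobject X) ≤ ⊤)
    have hm : Monotone fun i : Fin (n + 1) => a i :=
      Fin.monotone_iff_le_succ.2 fun i => (hc i i.isLt).le
    exact ⟨n, fun i => a i, hm, h0, hn, fun i => (simple_cokernel_ofLE_iff _).2 (hc i i.isLt)⟩
  · rintro ⟨n, F, hF, h0, hn, hs⟩
    obtain ⟨h1, h2⟩ := wellFounded_Iic n F h0 fun i => (simple_cokernel_ofLE_iff _).1 (hs i)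
    let f : Subobject X → Set.Iic (F (Fin.last n)) := fun x => ⟨x, by rw [Set.mem_Iic, hn]; exact le_top⟩
    have hf : StrictMono f := fun x y h => h
    exact ⟨⟨hf.wellFoundedLT⟩, ⟨hf.wellFoundedGT⟩⟩

end Groth.Agent.S1077
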