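import Groth.Statements.S10772
import Groth.Agent.Lib.AlgSp.PCohSite
import Groth.Agent.Lib.AlgSp.ModDerived
import Groth.Agent.Lib.AlgSp.PerfectUpperBound
import Groth.Agent.Lib.AlgSp.QCohPushFin
import Groth.Agent.Lib.AlgSp.IdealEtLib
import Groth.Agent.Lib.KInj.Derived

set_option autoImplicit false
universe u
open CategoryTheory CategoryTheory.Limits AlgebraicGeometry
attribute [local instance] HasDerivedCategory.standard
open AlgSp
open GrothLib GrothLib.AlgSp GrothLib.AlgSp.QCohEt GrothLib.AlgSp.PCohStep Opposite HomologicalComplex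
set_option backward.isDefEq.respectTransparency false

noncomputable section

namespace Groth.Agent.S10772

variable {S : Scheme.{u}} {X : AlgSp.Sp S}

/-- A complex which sees morphisms into `E` as homotopy classes of maps. -/
structure Rep (E : AlgSp.DModEt X) where
  K : CochainComplex (AlgSp.ModEt X) ℤ
  e : DerivedCategory.Q.obj K ≅ E
  surj : ∀ (Z : CochainComplex (AlgSp.ModEt X) ℤ) (φ : DerivedCategory.Q.obj Z ⟶ E),
    ∃ f : Z ⟶ K, φ = DerivedCategory.Q.map f ≫ e.hom
  inj : ∀ (Z : CochainComplex (AlgSp.ModEt X) ℤ) (f : Z ⟶ K), DerivedCategory.Q.map f ≫ e.hom = 0 →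
    Nonempty (Homotopy f 0)

theorem rep_aux {C H D : Type*} [Category C] [Category H] [Category D] [HasZeroMorphisms H] [HasZeroMorphisms D]
    (Q : C ⥤ D) (π : C ⥤ H) [π.Full] (L : H ⥤ D) [L.PreservesZeroMorphisms] (G : D ⥤ H) (i : π ⋙ L ≅ Q)
    (adj : L ⊣ G) (E : D) [IsIso (adj.counit.app E)] (K : C) (eK : π.obj K ≅ G.obj E) :
    ∃ e : Q.obj K ≅ E, (∀ (Z : C) (φ : Q.obj Z ⟶ E), ∃ f : Z ⟶ K, φ = Q.map f ≫ e.hom) ∧
      ∀ (Z : C) (f : Z ⟶ K), Q.map f ≫ e.hom = 0 → π.map f = 0 := by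
  let e : Q.obj K ≅ E := (i.app K).symm ≪≫ L.mapIso eK ≪≫ asIso (adj.counit.app E)
  have key : ∀ (Z : C) (f : Z ⟶ K),
      Q.map f ≫ e.hom = i.inv.app Z ≫ (adj.homEquiv (π.obj Z) E).symm (π.map f ≫ eK.hom) := fun Z f => by
    simp [e, Adjunction.homEquiv_counit]
  refine ⟨e, fun Z φ => ?_, fun Z f hf => ?_⟩
  · obtain ⟨f, hf⟩ := π.map_surjective (adj.homEquiv (π.obj Z) E (i.hom.app Z ≫ φ) ≫ eK.inv)
    refine ⟨f, ?_⟩
    rw [key, hf, Category.assoc, Iso.inv_hom_id, Category.comp_id, Equiv.symm_apply_apply, Iso.inv_hom_id_app_assoc]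
  · rw [key] at hf
    have h1 : (adj.homEquiv (π.obj Z) E).symm (π.map f ≫ eK.hom) = 0 :=
      (cancel_epi (i.inv.app Z)).1 (hf.trans comp_zero.symm)
    have h2 : π.map f ≫ eK.hom = 0 := by
      apply (adj.homEquiv _ E).symm.injective
      rw [h1, Adjunction.homEquiv_counit, Functor.map_zero, zero_comp]
    exact (cancel_mono eK.hom).1 (h2.trans zero_comp.symm)

theorem exists_rep (E : AlgSp.DModEt X) : Nonempty (Rep E) := by
  obtain ⟨e, h1, h2⟩ := rep_aux DerivedCategory.Q (HomotopyCategory.quotient (AlgSp.ModEt X) (ComplexShape.up ℤ))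
    DerivedCategory.Qh (KInj.res (AlgSp.ModEt X)) (DerivedCategory.quotientCompQhIso (AlgSp.ModEt X))
    (KInj.resAdj (AlgSp.ModEt X)) E ((KInj.res (AlgSp.ModEt X)).obj E).as (Iso.refl _)
  exact ⟨⟨_, e, h1, fun Z f hf => ⟨HomotopyCategory.homotopyOfEq f 0 ((h2 Z f hf).trans (Functor.map_zero _ _ _).symm)⟩⟩⟩

theorem sections_rep {E : AlgSp.DModEt X} (hE : DCoh.IsQCohDMod (AlgSp.OEtRing X) E) (R : Rep E)
    {U : AlgSp.EtOver X} (hU : IsAffine U.obj.left.left) (j : ℤ) :
    Function.Surjective (app (O := OEt X) (R.K.homologyπ j) U) ∧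
      ∀ c : Sec (O := OEt X) (R.K.cycles j) U, app (O := OEt X) (R.K.homologyπ j) U c = 0 →
        ∃ w : Sec (O := OEt X) (R.K.X (j - 1)) U,
          app (O := OEt X) (R.K.d (j - 1) j) U w = app (O := OEt X) (R.K.iCycles j) U c := by
  let GU := (ModDer.G X).obj U
  let S₀ : CochainComplex (AlgSp.ModEt X) ℤ := (HomologicalComplex.single _ (ComplexShape.up ℤ) j).obj GU
  let φ : (S₀ ⟶ R.K) → ((DerivedCategory.singleFunctor (AlgSp.ModEt X) j).obj GU ⟶ E) := fun f =>
    (DerivedCategory.singleFunctorIsoCompQ (AlgSp.ModEt X) j).hom.app GU ≫ DerivedCategory.Q.map f ≫ R.e.hom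
  let c₀ : GU ≅ S₀.homology j :=
    (DerivedCategory.singleFunctorCompHomologyFunctorIso (AlgSp.ModEt X) j).symm.app GU ≪≫
      (DerivedCategory.homologyFunctor _ j).mapIso ((DerivedCategory.singleFunctorIsoCompQ _ j).app GU) ≪≫ fac j S₀
  let a : GU ≅ GU := c₀ ≪≫ singleObjHomologySelfIso (ComplexShape.up ℤ) j GU
  let t := (fac j R.K).symm ≪≫ (DerivedCategory.homologyFunctor _ j).mapIso R.e
  have hth : ∀ f : S₀ ⟶ R.K, SiteDer.theta (φ f) =
      a.hom ≫ ((singleObjCyclesSelfIso (ComplexShape.up ℤ) j GU).inv ≫ cyclesMap f j) ≫ R.K.homologyπ j ≫ t.hom := by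
    intro f
    have h1 : (singleObjCyclesSelfIso (ComplexShape.up ℤ) j GU).inv ≫ S₀.homologyπ j =
        (singleObjHomologySelfIso (ComplexShape.up ℤ) j GU).inv := by
      rw [Iso.inv_comp_eq, ← homologyπ_singleObjHomologySelfIso_hom, Category.assoc, Iso.hom_inv_id, Category.comp_id]
    simp only [a, Iso.trans_hom, Category.assoc]
    rw [← homologyπ_naturality_assoc, reassoc_of% h1, Iso.hom_inv_id_assoc]
    show _ = c₀.hom ≫ homologyMap f j ≫ (fac j R.K).inv ≫ _
    rw [← reassoc_of% (fac_inv_naturality j f)]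
    simp only [c₀, φ, SiteDer.theta, Iso.trans_hom, Category.assoc, Functor.mapIso_hom, Iso.hom_inv_id_assoc,
      Functor.map_comp, Iso.app_hom, Iso.symm_hom, fac, HQ, Iso.app_inv, Iso.hom_inv_id_app_assoc]
  constructor
  · intro y
    let h : GU ⟶ R.K.homology j := (ModGen.sec _ U).symm y
    obtain ⟨ψ, hψ⟩ := (ModDer.theta_bijective hU hE j).2 (a.hom ≫ h ≫ t.hom)
    obtain ⟨f, hf⟩ := R.surj S₀
      ((DerivedCategory.singleFunctorIsoCompQ (AlgSp.ModEt X) j).inv.app GU ≫ ψ)
    have hφ : φ f = ψ := by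
      simp only [φ]
      rw [← hf, Iso.hom_inv_id_app_assoc]
    have e := (hth f).symm.trans ((congrArg SiteDer.theta hφ).trans hψ)
    rw [cancel_epi, ← Category.assoc, cancel_mono] at e
    let z := (singleObjCyclesSelfIso (ComplexShape.up ℤ) j GU).inv ≫ cyclesMap f j
    refine ⟨ModGen.sec _ U z, ?_⟩
    refine ((ModGen.sec_comp U z (R.K.homologyπ j)).symm.trans ?_)
    rw [e]
    exact Equiv.apply_symm_apply _ _
  · intro c hc
    let h : GU ⟶ R.K.cycles j := (ModGen.sec _ U).symm c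
    have hh : h ≫ R.K.homologyπ j = 0 := by
      apply (ModGen.sec _ U).injective
      rw [ModGen.sec_comp, ModGen.sec_zero, Equiv.apply_symm_apply]
      exact hc
    let f : S₀ ⟶ R.K := mkHomFromSingle (h ≫ R.K.iCycles j) (fun k _ => by rw [Category.assoc, iCycles_d, comp_zero])
    have h1 : (singleObjCyclesSelfIso (ComplexShape.up ℤ) j GU).inv ≫ cyclesMap f j = h := by
      rw [← cancel_mono (R.K.iCycles j), Category.assoc, cyclesMap_i, singleObjCyclesSelfIso_inv_iCycles_assoc,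
        mkHomFromSingle_f, Iso.inv_hom_id_assoc]
    have h2 : φ f = 0 := by
      refine (ModDer.theta_bijective hU hE j).1 ?_
      show SiteDer.theta (φ f) = SiteDer.theta 0
      rw [hth, h1, reassoc_of% hh, zero_comp, comp_zero]
      simp [SiteDer.theta]
    obtain ⟨H⟩ := R.inj S₀ f ((cancel_epi ((DerivedCategory.singleFunctorIsoCompQ (AlgSp.ModEt X) j).hom.app GU)).1
      (h2.trans comp_zero.symm))
    let w : GU ⟶ R.K.X (j - 1) := (singleObjXSelf (ComplexShape.up ℤ) j GU).inv ≫ H.hom j (j - 1)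
    have hw : w ≫ R.K.d (j - 1) j = h ≫ R.K.iCycles j := by
      have e := H.comm j
      rw [dNext_eq H.hom (show (ComplexShape.up ℤ).Rel j (j + 1) from rfl),
        prevD_eq H.hom (show (ComplexShape.up ℤ).Rel (j - 1) j from by simp),
        (isZero_single_obj_X (ComplexShape.up ℤ) j GU (j + 1) (by omega)).eq_of_src (H.hom (j + 1) j) 0,
        comp_zero, zero_add, zero_f, add_zero, mkHomFromSingle_f] at e
      simp only [w, Category.assoc]
      rw [← e, Iso.inv_hom_id_assoc]
    refine ⟨ModGen.sec _ U w, ?_⟩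
    refine (ModGen.sec_comp U w (R.K.d (j - 1) j)).symm.trans ?_
    rw [hw, ModGen.sec_comp, Equiv.apply_symm_apply]
    rfl

/-- The restricted complex on the slice over an affine object. -/
theorem sections_slice {E : AlgSp.DModEt X} (hE : DCoh.IsQCohDMod (AlgSp.OEtRing X) E) (R : Rep E)
    {V : AlgSp.EtOver X} (hV : IsAffine V.obj.left.left) (j : ℤ) :
    let L := ((AlgSp.resModEt V).mapHomologicalComplex (ComplexShape.up ℤ)).obj R.K
    Function.Surjective (app (O := (OEt X).over V) (L.homologyπ j) (Over.mk (𝟙 V))) ∧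
      ∀ c : Sec (O := (OEt X).over V) (L.cycles j) (Over.mk (𝟙 V)),
        app (O := (OEt X).over V) (L.homologyπ j) (Over.mk (𝟙 V)) c = 0 →
          ∃ w : Sec (O := (OEt X).over V) (L.X (j - 1)) (Over.mk (𝟙 V)),
            app (O := (OEt X).over V) (L.toCycles (j - 1) j) (Over.mk (𝟙 V)) w = c := by
  intro L
  obtain ⟨hs, hx⟩ := sections_rep hE R hV j
  let D₀ := (R.K.sc j).leftHomologyData
  let D : (L.sc j).LeftHomologyData := D₀.map (AlgSp.resModEt V)
  let top := Over.mk (𝟙 V)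
  have eK : R.K.homologyπ j ≫ D₀.homologyIso.hom = D₀.cyclesIso.hom ≫ D₀.π :=
    D₀.homologyπ_comp_homologyIso_hom
  have eL : L.homologyπ j ≫ D.homologyIso.hom = D.cyclesIso.hom ≫ (AlgSp.resModEt V).map D₀.π :=
    D.homologyπ_comp_homologyIso_hom
  constructor
  · intro y
    obtain ⟨z, hz⟩ := hs (app (O := OEt X) D₀.homologyIso.inv V
      (show Sec (O := OEt X) D₀.H V from app (O := (OEt X).over V) D.homologyIso.hom top y))
    refine ⟨app (O := (OEt X).over V) D.cyclesIso.inv top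
      (show Sec (O := (OEt X).over V) D.K top from app (O := OEt X) D₀.cyclesIso.hom V z), ?_⟩
    refine app_injective (O := (OEt X).over V) D.homologyIso.hom top ?_
    refine (app_comp (O := (OEt X).over V) (L.homologyπ j) D.homologyIso.hom top _).symm.trans ?_
    rw [eL]
    refine (app_comp (O := (OEt X).over V) D.cyclesIso.hom _ top _).trans ?_
    rw [← app_comp (O := (OEt X).over V) D.cyclesIso.inv D.cyclesIso.hom, Iso.inv_hom_id]
    show app (O := OEt X) D₀.π V (app (O := OEt X) D₀.cyclesIso.hom V z) = _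
    rw [← app_comp, ← eK, app_comp]
    refine (congrArg (app (O := OEt X) D₀.homologyIso.hom V) hz).trans ?_
    refine (app_comp (O := OEt X) D₀.homologyIso.inv D₀.homologyIso.hom V _).symm.trans ?_
    rw [Iso.inv_hom_id]
    rfl
  · intro c hc
    let c' : Sec (O := OEt X) D₀.K V := app (O := (OEt X).over V) D.cyclesIso.hom top c
    have hc' : app (O := OEt X) D₀.π V c' = 0 := by
      refine ((app_comp (O := (OEt X).over V) D.cyclesIso.hom ((AlgSp.resModEt V).map D₀.π) top c).symm.trans ?_)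
      rw [← eL]
      refine (app_comp (O := (OEt X).over V) (L.homologyπ j) D.homologyIso.hom top c).trans ?_
      refine (congrArg (app (O := (OEt X).over V) D.homologyIso.hom top) hc).trans ?_
      exact map_zero _
    obtain ⟨w, hw⟩ := hx (app (O := OEt X) D₀.cyclesIso.inv V c') (by
      refine app_injective (O := OEt X) D₀.homologyIso.hom V (Eq.trans ?_ (map_zero _).symm)
      refine (app_comp (O := OEt X) (R.K.homologyπ j) D₀.homologyIso.hom V _).symm.trans ?_
      rw [eK]
      refine (app_comp (O := OEt X) D₀.cyclesIso.hom D₀.π V _).trans ?_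
      refine Eq.trans (congrArg (app (O := OEt X) D₀.π V) ?_) hc'
      refine (app_comp (O := OEt X) D₀.cyclesIso.inv D₀.cyclesIso.hom V c').symm.trans ?_
      rw [Iso.inv_hom_id]
      rfl)

    refine ⟨w, app_injective (O := (OEt X).over V) (L.iCycles j) top ?_⟩
    refine (app_comp (O := (OEt X).over V) (L.toCycles (j - 1) j) (L.iCycles j) top _).symm.trans ?_
    rw [toCycles_i]
    have eiK : D₀.cyclesIso.inv ≫ R.K.iCycles j = D₀.i :=
      (Iso.inv_comp_eq _).2 D₀.cyclesIso_hom_comp_i.symm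
    have eiL : D.cyclesIso.hom ≫ (AlgSp.resModEt V).map D₀.i = L.iCycles j := D.cyclesIso_hom_comp_i
    refine hw.trans ?_
    refine (app_comp (O := OEt X) D₀.cyclesIso.inv (R.K.iCycles j) V c').symm.trans ?_
    rw [eiK]
    refine Eq.trans ?_ (congrArg (fun k => app (O := (OEt X).over V) k top c) eiL)
    exact (app_comp (O := (OEt X).over V) D.cyclesIso.hom ((AlgSp.resModEt V).map D₀.i) top c).symm


theorem finite_of_pseudoCoherent (hN : AlgSp.IsLocNoethSp X) {m i : ℤ} (hi : m ≤ i) {E : AlgSp.DModEt X}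
    (hE : AlgSp.IsPseudoCoherentEtD m E) (hq : (DCoh.HDMod (AlgSp.OEtRing X) E i).IsQuasicoherent) :
    (DCoh.HDMod (AlgSp.OEtRing X) E i).IsFiniteType := by
  let M := DCoh.HDMod (AlgSp.OEtRing X) E i
  haveI : M.IsQuasicoherent := hq
  refine QCohEt.isFiniteType_of_good M (fun W hW => good_of_isQuasicoherent M hW) fun W hW => ?_
  obtain ⟨ι, V, g, hg, hV⟩ := hE W
  have hT : Sieve.ofArrows V g ∈ etTop X W := Precoverage.generate_mem_toGrothendieck hg
  refine finite_of_cover (O := OEt X) (affEt X) hW (good_of_isQuasicoherent M hW) hT fun Z z hZ hz => ?_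
  obtain ⟨_, a, _, ⟨k⟩, rfl⟩ := hz
  obtain ⟨P, α, hP, hiso, hepi⟩ := hV k
  let Z' : Over (V k) := Over.mk a
  haveI : Epi ((DerivedCategory.homologyFunctor (AlgSp.ModEtOn (V k)) i).map α) := by
    rcases eq_or_lt_of_le hi with rfl | h
    · exact hepi
    · haveI := hiso i h
      infer_instance
  obtain ⟨e⟩ := DerTrunc.nonempty_homology_mapDerivedCategory (AlgSp.resModEt (V k)) E i
  let π : P.homology i ⟶ (AlgSp.resModEt (V k)).obj M :=
    (fac i P).inv ≫ (DerivedCategory.homologyFunctor (AlgSp.ModEtOn (V k)) i).map α ≫ e.hom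
  haveI : Epi π := inferInstance
  haveI : IsNoetherianRing (Ob ((OEt X).over (V k)) Z') := isNoetherianRing_ob hN hZ
  haveI := finite_homology (O := (OEt X).over (V k)) (affSlice (affEt X) (V k)) (E := Z') hZ P hP.2 i
  have hs := surjective_app_of_epi (O := (OEt X).over (V k)) (affSlice (affEt X) (V k)) π (E := Z') hZ
    (good_homology (O := (OEt X).over (V k)) (affSlice (affEt X) (V k)) (E := Z') hZ P
      (fun n => good_finFreeSummand (O := (OEt X).over (V k)) (affSlice (affEt X) (V k)) (E := Z') hZ (hP.2 n)) i)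
    (good_slice M (V₀ := Z') (good_of_isQuasicoherent M hZ))
  exact (Module.Finite.of_surjective (app (O := (OEt X).over (V k)) π Z') hs :)

theorem isLE_of_pseudoCoherent (hX : AlgSp.IsAlgSpace X) (hc : AlgSp.IsQuasiCompactSp X) {m : ℤ} {K : AlgSp.DModEt X}
    (hK : AlgSp.IsPseudoCoherentEtD m K) : ∃ d : ℤ, K.IsLE d := by
  classical
  haveI := compactSpace_points_of_isQuasiCompactSp hc
  obtain ⟨U, a, ha, has⟩ := hX.atlas
  obtain ⟨ι, V, g, hg, hV⟩ := hK (AlgSp.EtOver.mk a ha)
  have hcov : ∀ x : AlgSp.Points X, ∃ i, x ∈ Set.range (AlgSp.Points.ofPt (V i).obj.hom) := fun x => by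
    obtain ⟨u, rfl⟩ := surjective_ofPt_of_repWith has x
    obtain ⟨i, v, hv⟩ := (ofArrows_mem_etPre_iff V g).1 hg u
    refine ⟨i, v, ?_⟩
    rw [← EtOver.w (g i)]
    exact (ofPt_map_comp _ _ _).trans (congrArg (AlgSp.Points.ofPt a) hv)
  obtain ⟨s, hs⟩ := isCompact_univ.elim_finite_subcover (fun i => Set.range (AlgSp.Points.ofPt (V i).obj.hom))
    (fun i => (isOpenMap_ofPt_of_etale (V i).property).isOpen_range) fun x _ => Set.mem_iUnion.2 (hcov x)
  choose P α hP hiso hepi using hV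
  choose l b hb using fun i => (hP i).1
  obtain ⟨d, hd⟩ := Finset.exists_le (insert m (s.image b))
  refine ⟨d, (DerivedCategory.isLE_iff K d).2 fun q hq => ?_⟩
  let M := DCoh.HDMod (AlgSp.OEtRing X) K q
  have hz : ∀ i ∈ s, IsZero ((AlgSp.resModEt (V i)).obj M) := fun i hi => by
    obtain ⟨h⟩ := DerTrunc.nonempty_homology_mapDerivedCategory (AlgSp.resModEt (V i)) K q
    haveI := hiso i q ((hd _ (Finset.mem_insert_self _ _)).trans_lt hq)
    refine IsZero.of_iso ?_ (h.symm ≪≫ (asIso ((DerivedCategory.homologyFunctor (AlgSp.ModEtOn (V i)) q).map (α i))).symm ≪≫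
      (DerivedCategory.homologyFunctorFactors (AlgSp.ModEtOn (V i)) q).app (P i))
    exact ShortComplex.isZero_homology_of_isZero_X₂ _
      (hb i q (Or.inr ((hd _ (Finset.mem_insert_of_mem (Finset.mem_image_of_mem b hi))).trans_lt hq)))
  have h0 : ∀ (Z : AlgSp.EtOver X) (x : Sec (O := OEt X) M Z), x = 0 := fun Z x => by
    refine sec_ext_fam (O := OEt X) M (n := ULift.{u} (Fin s.card))
      (W := fun k => EtOver.prodObj Z (V (s.equivFin.symm k.down).1))
      (fun k => EtOver.prodFst Z (V (s.equivFin.symm k.down).1)) (ofArrows_mem_etTop _ _ fun w => ?_) fun k => ?_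
    · obtain ⟨i, hi, v, hv⟩ : ∃ i ∈ s, ∃ v, AlgSp.Points.ofPt (V i).obj.hom v = AlgSp.Points.ofPt Z.obj.hom w := by
        simpa using hs (Set.mem_univ (AlgSp.Points.ofPt Z.obj.hom w))
      have he : AlgSp.Points.map Z.obj.hom (AlgSp.Points.ofScheme _ w) =
          AlgSp.Points.map (V i).obj.hom (AlgSp.Points.ofScheme _ v) := by
        rw [← Points.ofPt_eq_map_ofScheme, ← Points.ofPt_eq_map_ofScheme, hv]
      obtain ⟨q, hq, -⟩ := exists_of_isPullback ((V i).property.1.isPullback Z.obj.hom).flip he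
      obtain ⟨z, rfl⟩ := (AlgSp.Points.schemeEquiv _).surjective q
      obtain ⟨k, hk⟩ : ∃ k : ULift.{u} (Fin s.card), (s.equivFin.symm k.down).1 = i :=
        ⟨⟨s.equivFin ⟨i, hi⟩⟩, by rw [Equiv.symm_apply_apply]⟩
      subst hk
      exact ⟨k, z, (AlgSp.Points.schemeEquiv Z.obj.left).injective
        ((map_yon_ofPt (EtOver.prodFst Z (V (s.equivFin.symm k.down).1)).hom.left z).symm.trans hq)⟩
    · rw [map_zero]
      have hi := (s.equivFin.symm k.down).2
      generalize (s.equivFin.symm k.down).1 = i at hi ⊢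
      exact congrArg (fun k : (AlgSp.resModEt (V i)).obj M ⟶ (AlgSp.resModEt (V i)).obj M =>
        k.val.app (op (Over.mk (EtOver.prodSnd Z (V i)))) (mres (O := OEt X) M (EtOver.prodFst Z (V i)) x))
        ((hz i hi).eq_of_src (𝟙 _) 0)
  rw [IsZero.iff_id_eq_zero]
  exact SheafOfModules.hom_ext (PresheafOfModules.hom_ext fun W => ModuleCat.hom_ext (LinearMap.ext fun x =>
    h0 W.unop x))

theorem pseudoCoherentAt_affine (hN : AlgSp.IsLocNoethSp X) {E : AlgSp.DModEt X}
    (hE : DCoh.IsQCohDMod (AlgSp.OEtRing X) E) {m b : ℤ}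
    (hft : ∀ i : ℤ, m ≤ i → (DCoh.HDMod (AlgSp.OEtRing X) E i).IsFiniteType) (hb : E.IsLE b)
    {V : AlgSp.EtOver X} (hV : IsAffine V.obj.left.left) :
    ∃ (P : CochainComplex (AlgSp.ModEtOn V) ℤ) (α : DCoh.toDMod (AlgSp.OEtOn V) P ⟶ (AlgSp.resDEt V).obj E),
      DCoh.IsStrictlyPerfectMod (AlgSp.OEtOn V) P ∧
      (∀ j : ℤ, m < j → IsIso ((DerivedCategory.homologyFunctor (AlgSp.ModEtOn V) j).map α)) ∧
      Epi ((DerivedCategory.homologyFunctor (AlgSp.ModEtOn V) m).map α) := by
  obtain ⟨R⟩ := exists_rep E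
  let F := AlgSp.resModEt V
  let L := (F.mapHomologicalComplex (ComplexShape.up ℤ)).obj R.K
  let top : Over V := Over.mk (𝟙 V)
  let eH : ∀ j, L.homology j ≅ F.obj (DCoh.HDMod (AlgSp.OEtRing X) E j) := fun j =>
    (R.K.sc j).mapHomologyIso F ≪≫ F.mapIso ((fac j R.K).symm ≪≫ (DerivedCategory.homologyFunctor _ j).mapIso R.e)
  haveI := isNoetherianRing_ob hN hV
  haveI : IsNoetherianRing (Ob ((OEt X).over V) top) := isNoetherianRing_ob hN hV
  haveI hq : ∀ j, (DCoh.HDMod (AlgSp.OEtRing X) E j).IsQuasicoherent := hE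
  obtain ⟨P, α, hP, hiso, hepi⟩ := QCohEt.exists_approx (O := (OEt X).over V) (affSlice (affEt X) V)
    (top := top) Over.mkIdTerminal (affCovers_slice V) hV L m b
    (fun j => good_of_isIso' (O := (OEt X).over V) (affSlice (affEt X) V) (E := top) hV (eH j).symm
      (good_slice _ (good_of_isQuasicoherent _ hV)))
    (fun j hj => by
      haveI := hft j hj
      haveI : Module.Finite (Ob ((OEt X).over V) top)
          (Sec (O := (OEt X).over V) (F.obj (DCoh.HDMod (AlgSp.OEtRing X) E j)) top) :=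
        finite_sec_of_isFiniteType (DCoh.HDMod (AlgSp.OEtRing X) E j) hV
      exact Module.Finite.of_injective (app (O := (OEt X).over V) (eH j).hom top)
        (app_injective (O := (OEt X).over V) (eH j).hom top))
    (fun j hj => (F.map_isZero (DerivedCategory.isZero_of_isLE E b j hj)).of_iso (eH j))
    (fun j => (sections_slice hE R hV j).1) (fun j => (sections_slice hE R hV j).2)
  let e : DerivedCategory.Q.obj L ≅ (AlgSp.resDEt V).obj E :=
    (F.mapDerivedCategoryFactors.app R.K).symm ≪≫ (AlgSp.resDEt V).mapIso R.e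
  refine ⟨P, DerivedCategory.Q.map α ≫ e.hom, hP, fun j hj => ?_, ?_⟩
  · have h := hiso j hj
    rw [Functor.map_comp]
    exact @IsIso.comp_isIso _ _ _ _ _ _ _ h inferInstance
  · rw [Functor.map_comp]
    exact @epi_comp _ _ _ _ _ _ hepi _ inferInstance

/-- Let X be a Noetherian algebraic space over S (quasi-compact, quasi-separated, locally Noetherian)
and E an object of D(O_X) (modules on the small etale site) with quasi-coherent cohomology sheaves.
For an integer m the following are equivalent: (1) H^i(E) is coherent (here: of finite type, the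
cohomology sheaves being quasi-coherent on a locally Noetherian space) for i ≥ m and H^i(E) = 0 for
all large i; (2) E is m-pseudo-coherent. In particular E is pseudo-coherent exactly when it is
bounded above with coherent cohomology sheaves. -/
theorem result {S : Scheme.{u}} (X : AlgSp.Space S)
    (hXc : AlgSp.IsQuasiCompactSp X.obj) (hXs : AlgSp.IsQuasiSeparatedSp X.obj) (hXn : AlgSp.IsLocNoethSp X.obj)
    (E : AlgSp.DModEt X.obj) (hE : DCoh.IsQCohDMod (AlgSp.OEtRing X.obj) E) (m : ℤ) :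
    AlgSp.IsPseudoCoherentEtD m E ↔
      (∀ i : ℤ, m ≤ i → (DCoh.HDMod (AlgSp.OEtRing X.obj) E i).IsFiniteType) ∧ ∃ b : ℤ, E.IsLE b := by
  refine ⟨fun h => ⟨fun i hi => finite_of_pseudoCoherent hXn hi h (hE i),
    isLE_of_pseudoCoherent X.property hXc h⟩, ?_⟩
  rintro ⟨hft, b, hb⟩ U
  refine ⟨ULift.{u + 1} {O : U.obj.left.left.Opens // IsAffineOpen O}, fun O => opensObj U O.down.1,
    fun O => opensInc U O.down.1, (ofArrows_mem_etPre_iff _ _).2 fun x => ?_,
    fun O => pseudoCoherentAt_affine hXn hE hft hb O.down.2⟩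
  obtain ⟨O, hO, hxO, -⟩ := exists_isAffineOpen_mem_and_subset (U := ⊤) (x := x) trivial
  exact ⟨⟨⟨O, hO⟩⟩, ⟨x, hxO⟩, rfl⟩

end Groth.Agent.S10772
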