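import Groth.Statements.S10786
import Groth.Agent.Lib.AlgSp.ModCartan

set_option autoImplicit false
set_option backward.isDefEq.respectTransparency false
universe u
open CategoryTheory CategoryTheory.Limits AlgebraicGeometry
attribute [local instance] HasDerivedCategory.standard
open AlgSp

namespace Groth.Agent.S10786

/-- Part (3): for the inverse system of cohomology sheaves: let X be an algebraic space over S and (M_n,
t_n : M_{n+1} ⟶ M_n) an inverse system of quasi-coherent O_X-modules (on the small etale site) whose
transition maps are epimorphisms. Then H^p(U, lim M_n) = 0 for every p > 0 and every affine object U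
of the small etale site. (The published statement asks this only for affine open subspaces U of X;
this row asks it for every affine object U of the small etale site.) -/
theorem result {S : Scheme.{u}} (X : AlgSp.Space S)
    (M : ℕ → AlgSp.ModEt X.obj) (t : ∀ n, M (n + 1) ⟶ M n) (hM : ∀ n, (M n).IsQuasicoherent)
    (ht : ∀ n, Epi (t n)) (U : AlgSp.EtOver X.obj) (hU : IsAffine U.obj.left.left) (p : ℤ) (hp : 0 < p) :
    Subsingleton (AlgSp.HEtDOn U (DCoh.inDMod (AlgSp.OEtRing X.obj) (limit (Functor.ofOpSequence t))) p) := by
  exact GrothLib.AlgSp.QCohEt.subsingleton_HEtDOn_of_acyclic hU _ (GrothLib.AlgSp.QCohEt.acyclic_limit t hM ht) p hp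

end Groth.Agent.S10786
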