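import Groth.Statements.S10787
import Mathlib
import Groth.Agent.Lib.InjColim.Basic
-- import your own Groth.Agent.* helpers here

set_option autoImplicit false
universe u
open CategoryTheory CategoryTheory.Limits
open CAlg

namespace Groth.Agent.S10787

/-- Let A be a Noetherian ring and J an injective A-module (an injective object of QCoh of the affine
scheme Spec A, through the equivalence with A-modules). Then J is a filtered colimit of A-modules
each of which is a finite module over some Artinian A-algebra B, the A-module structure being
restricted from B; these are the modules underlying pushforwards to Spec A of coherent sheaves on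
spectra of Artinian rings. -/
theorem result (A : Type u) [CommRing A] [IsNoetherianRing A]
    (J : Type u) [AddCommGroup J] [Module A J] [Module.Injective A J] :
    ∃ (ι : Type u) (_ : SmallCategory ι) (_ : IsFiltered ι) (D : ι ⥤ ModuleCat.{u} A)
      (c : Cocone D) (_ : IsColimit c), Nonempty (c.pt ≅ ModuleCat.of A J) ∧
      ∀ i : ι, ∃ (B : Type u) (_ : CommRing B) (_ : Algebra A B) (_ : IsArtinianRing B)
        (_ : Module B (D.obj i)) (_ : IsScalarTower A B (D.obj i)), Module.Finite B (D.obj i) := by
  exact GrothLib.InjColim.exists_filtered_artinian ‹Module.Injective A J›

end Groth.Agent.S10787
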