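import Groth.Statements.S10788
import Groth.Agent.Lib.AlgSp.QCohMV
-- import your own Groth.Agent.* helpers here

set_option autoImplicit false
universe u
open CategoryTheory CategoryTheory.Limits AlgebraicGeometry
attribute [local instance] HasDerivedCategory.standard
open AlgSp GrothLib.AlgSp GrothLib.AlgSp.QCohEt
set_option backward.isDefEq.respectTransparency false

namespace Groth.Agent.S10788

set_option maxHeartbeats 4000000 in
theorem shortExact_mv {S : Scheme.{u}} {X : AlgSp.Space S} {U V : AlgSp.EtOver X.obj} (hmv : MVPair U V)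
    {F : AlgSp.ModEt X.obj}
    (ηU : (𝟭 (AlgSp.ModEt X.obj)).obj F ⟶ (AlgSp.resModEt U ⋙ AlgSp.pushOnModEt U).obj F)
    (ηV : (𝟭 (AlgSp.ModEt X.obj)).obj F ⟶ (AlgSp.resModEt V ⋙ AlgSp.pushOnModEt V).obj F)
    (gU : (AlgSp.resModEt U ⋙ AlgSp.pushOnModEt U).obj F ⟶
      (AlgSp.resModEt (AlgSp.EtOver.prodObj U V) ⋙ AlgSp.pushOnModEt (AlgSp.EtOver.prodObj U V)).obj F)
    (gV : (AlgSp.resModEt V ⋙ AlgSp.pushOnModEt V).obj F ⟶
      (AlgSp.resModEt (AlgSp.EtOver.prodObj U V) ⋙ AlgSp.pushOnModEt (AlgSp.EtOver.prodObj U V)).obj F)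
    (hU : ∀ (W : AlgSp.EtOver X.obj) (x : Sec (O := OEt X.obj) F W),
      app (O := OEt X.obj) ηU W x = mres (O := OEt X.obj) F (prod.snd : U ⨯ W ⟶ W) x)
    (hV : ∀ (W : AlgSp.EtOver X.obj) (x : Sec (O := OEt X.obj) F W),
      app (O := OEt X.obj) ηV W x = mres (O := OEt X.obj) F (prod.snd : V ⨯ W ⟶ W) x)
    (hgU : ∀ (W : AlgSp.EtOver X.obj) (x : Sec (O := OEt X.obj) F (U ⨯ W)),
      app (O := OEt X.obj) gU W x = mres (O := OEt X.obj) F (fstW U V W) x)
    (hgV : ∀ (W : AlgSp.EtOver X.obj) (x : Sec (O := OEt X.obj) F (V ⨯ W)),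
      app (O := OEt X.obj) gV W x = mres (O := OEt X.obj) F (sndW U V W) x) :
    ∃ h : biprod.lift ηU ηV ≫ biprod.desc gU (-gV) = 0, (ShortComplex.mk _ _ h).ShortExact := by
  let f := biprod.lift ηU ηV
  let g := biprod.desc gU (-gV)
  have hfg : f ≫ g = 0 := by
    rw [biprod.lift_desc, Preadditive.comp_neg, add_neg_eq_zero]
    refine SheafOfModules.hom_ext (PresheafOfModules.hom_ext fun W => ModuleCat.hom_ext (LinearMap.ext fun x => ?_))
    show app (O := OEt X.obj) gU W.unop (app (O := OEt X.obj) ηU W.unop x) =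
      app (O := OEt X.obj) gV W.unop (app (O := OEt X.obj) ηV W.unop x)
    rw [hU, hV, hgU, hgV, ← mres_comp, ← mres_comp, prod.map_snd, prod.map_snd]
  refine ⟨hfg, ?_⟩
  let s : ShortComplex (AlgSp.ModEt X.obj) := ShortComplex.mk f g hfg
  have fst_f : ∀ (W : AlgSp.EtOver X.obj) x, app (O := OEt X.obj) biprod.fst W (app (O := OEt X.obj) f W x) =
      app (O := OEt X.obj) ηU W x := fun W x =>
    congrArg (fun φ => app (O := OEt X.obj) φ W x) (biprod.lift_fst ηU ηV)
  have snd_f : ∀ (W : AlgSp.EtOver X.obj) x, app (O := OEt X.obj) biprod.snd W (app (O := OEt X.obj) f W x) =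
      app (O := OEt X.obj) ηV W x := fun W x =>
    congrArg (fun φ => app (O := OEt X.obj) φ W x) (biprod.lift_snd ηU ηV)
  have g_app : ∀ (W : AlgSp.EtOver X.obj) m, app (O := OEt X.obj) g W m =
      mres (O := OEt X.obj) F (fstW U V W) (app (O := OEt X.obj) biprod.fst W m) -
        mres (O := OEt X.obj) F (sndW U V W) (app (O := OEt X.obj) biprod.snd W m) := fun W m => by
    have e : g = biprod.fst ≫ gU - biprod.snd ≫ gV := by
      show biprod.desc gU (-gV) = _
      rw [biprod.desc_eq, Preadditive.comp_neg, sub_eq_add_neg]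
    rw [← hgU, ← hgV]
    exact congrArg (fun φ => app (O := OEt X.obj) φ W m) e
  haveI : Mono f := by
    refine Preadditive.mono_of_cancel_zero _ fun {P} k hk => ?_
    refine SheafOfModules.hom_ext (PresheafOfModules.hom_ext fun W => ModuleCat.hom_ext (LinearMap.ext fun x => ?_))
    have h0 : app (O := OEt X.obj) f W.unop (app (O := OEt X.obj) k W.unop x) = 0 :=
      congrArg (fun φ => app (O := OEt X.obj) φ W.unop x) hk
    refine eq_of_mv F hmv (app (O := OEt X.obj) k W.unop x) 0 ?_ ?_
    · rw [← hU, ← hU, ← fst_f, h0, map_zero, map_zero]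
    · rw [← hV, ← hV, ← snd_f, h0, map_zero, map_zero]
  haveI : Epi g := by
    refine epi_of_surjective (O := OEt X.obj) (affEt X.obj) affCovers_affEt g fun W _ t =>
      ⟨overSieve U V W, hmv.cover W, fun Z z hz => ?_⟩
    obtain ⟨a, b, hab⟩ := exists_local_split_mv F hmv t z hz
    refine ⟨app (O := OEt X.obj) biprod.inl Z a + app (O := OEt X.obj) biprod.inr Z b, ?_⟩
    refine Eq.trans ?_ hab
    rw [map_add]
    have e1 : app (O := OEt X.obj) g Z (app (O := OEt X.obj) biprod.inl Z a) = mres (O := OEt X.obj) F (fstW U V Z) a :=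
      (congrArg (fun φ => app (O := OEt X.obj) φ Z a) (biprod.inl_desc gU (-gV))).trans (hgU Z a)
    have e2 : app (O := OEt X.obj) g Z (app (O := OEt X.obj) biprod.inr Z b) = - mres (O := OEt X.obj) F (sndW U V Z) b :=
      (congrArg (fun φ => app (O := OEt X.obj) φ Z b) (biprod.inr_desc gU (-gV))).trans (congrArg Neg.neg (hgV Z b))
    rw [e1, e2, ← sub_eq_add_neg]
  have hex : s.Exact := by
    rw [ShortComplex.exact_iff_epi_kernel_lift]
    refine epi_of_surjective (O := OEt X.obj) (affEt X.obj) affCovers_affEt _ fun W _ κ =>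
      ⟨⊤, GrothendieckTopology.top_mem _ _, fun Z z _ => ?_⟩
    let m := app (O := OEt X.obj) (kernel.ι g) Z (mres (O := OEt X.obj) (kernel g) z κ)
    have hm : app (O := OEt X.obj) g Z m = 0 :=
      congrArg (fun φ => app (O := OEt X.obj) φ Z (mres (O := OEt X.obj) (kernel g) z κ)) (kernel.condition g)
    rw [g_app, sub_eq_zero] at hm
    obtain ⟨y, hy1, hy2⟩ := exists_glue_mv F hmv _ _ hm
    refine ⟨y, app_injective (O := OEt X.obj) (kernel.ι g) Z ?_⟩
    have h1 : app (O := OEt X.obj) (kernel.ι g) Z (app (O := OEt X.obj) (kernel.lift g f hfg) Z y) =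
        app (O := OEt X.obj) f Z y :=
      congrArg (fun φ => app (O := OEt X.obj) φ Z y) (kernel.lift_ι g f hfg)
    refine h1.trans (Eq.trans ?_ (show m = _ from rfl))
    have hdec : ∀ n, app (O := OEt X.obj) (biprod.inl (Y := (AlgSp.resModEt V ⋙ AlgSp.pushOnModEt V).obj F)) Z
        (app (O := OEt X.obj) (biprod.fst (Y := (AlgSp.resModEt V ⋙ AlgSp.pushOnModEt V).obj F)) Z n) +
        app (O := OEt X.obj) (biprod.inr (X := (AlgSp.resModEt U ⋙ AlgSp.pushOnModEt U).obj F)) Z
          (app (O := OEt X.obj) (biprod.snd (X := (AlgSp.resModEt U ⋙ AlgSp.pushOnModEt U).obj F)) Z n) = n := fun n =>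
      congrArg (fun φ => app (O := OEt X.obj) φ Z n) biprod.total
    rw [← hdec (app (O := OEt X.obj) f Z y), ← hdec m, fst_f, snd_f, hU, hV, hy1, hy2]
  exact ShortComplex.ShortExact.mk' hex ‹Mono f› ‹Epi g›


/-- Part (1): for squares whose two parts are schemes: let X be an algebraic space over S and let U, V
be objects of the small etale site of X (schemes with representable etale structure maps to X) such
that (U ⊂ X, V ⟶ X) is an elementary distinguished square; write U ×_X V for their product in the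
site. Then for every O_X-module F the sequence 0 ⟶ F ⟶ j_{U,*}F|_U ⊕ j_{V,*}F|_V ⟶ j_{U ×_X
V,*}F|_{U ×_X V} ⟶ 0 is short exact, where the first map is given by the two adjunction units and
the second by the restriction along U ×_X V ⟶ U minus the restriction along U ×_X V ⟶ V. Only
squares whose open part and etale part are both schemes are covered. -/
theorem result {S : Scheme.{u}} (X : AlgSp.Space S)
    (U V : AlgSp.EtOver X.obj) (hsq : AlgSp.IsElemDistSq U.obj.hom V.obj.hom) (F : AlgSp.ModEt X.obj) :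
    ∃ h : biprod.lift ((AlgSp.resPushAdjEt U).unit.app F) ((AlgSp.resPushAdjEt V).unit.app F) ≫
        biprod.desc ((AlgSp.pushResNatTrans (AlgSp.EtOver.prodFst U V)).app F)
          (-((AlgSp.pushResNatTrans (AlgSp.EtOver.prodSnd U V)).app F)) = 0,
      (ShortComplex.mk _ _ h).ShortExact := by
  refine shortExact_mv (mvPair_of_elemDistSq X hsq) _ _ _ _ (fun W x => ?_) (fun W x => ?_) (fun W x => rfl)
    (fun W x => rfl)
  · show mres (O := OEt X.obj) F ((Over.forgetAdjStar U).counit.app W) x = _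
    rw [Over.forgetAdjStar_counit_app]; rfl
  · show mres (O := OEt X.obj) F ((Over.forgetAdjStar V).counit.app W) x = _
    rw [Over.forgetAdjStar_counit_app]; rfl

end Groth.Agent.S10788
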