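import Groth.Statements.S10789
import Groth.Agent.S10788
import Groth.Agent.Lib.AlgSp.QCohMVDual
-- import your own Groth.Agent.* helpers here

set_option autoImplicit false
universe u
open CategoryTheory CategoryTheory.Limits AlgebraicGeometry
attribute [local instance] HasDerivedCategory.standard
open AlgSp GrothLib.AlgSp GrothLib.AlgSp.QCohEt
set_option backward.isDefEq.respectTransparency false

namespace Groth.Agent.S10789

theorem homEquiv_counit {S : Scheme.{u}} {X : AlgSp.Sp S} (U : AlgSp.EtOver X) [(AlgSp.resModEt U).IsRightAdjoint]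
    (F : AlgSp.ModEt X) :
    (AlgSp.shriekResAdj U).homEquiv F F ((Adjunction.ofIsRightAdjoint (AlgSp.resModEt U)).counit.app F) =
      (AlgSp.resPushAdjEt U).unit.app F := by
  rw [AlgSp.shriekResAdj, Adjunction.comp_homEquiv]
  show (AlgSp.resPushAdjEt U).homEquiv _ _ ((Adjunction.ofIsRightAdjoint (AlgSp.resModEt U)).homEquiv _ _
    ((Adjunction.ofIsRightAdjoint (AlgSp.resModEt U)).counit.app F)) = _
  have h : (Adjunction.ofIsRightAdjoint (AlgSp.resModEt U)).homEquiv ((AlgSp.resModEt U).obj F) F
      ((Adjunction.ofIsRightAdjoint (AlgSp.resModEt U)).counit.app F) = 𝟙 _ :=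
    ((Adjunction.ofIsRightAdjoint (AlgSp.resModEt U)).homEquiv_unit _ _ _).trans
      ((Adjunction.ofIsRightAdjoint (AlgSp.resModEt U)).right_triangle_components F)
  exact (congrArg ((AlgSp.resPushAdjEt U).homEquiv _ _) h).trans (Adjunction.homEquiv_id _ _)


/-- Part (1): for squares whose two parts are schemes: let X be an algebraic space over S and let U, V
be objects of the small etale site of X (schemes with representable etale structure maps to X) such
that (U ⊂ X, V ⟶ X) is an elementary distinguished square; write U ×_X V for their product in the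
site. Granting that restriction of O_X-modules to each of U, V and U ×_X V has a left adjoint j_!
(extension by zero, which exists), for every O_X-module F the sequence 0 ⟶ j_{U ×_X V,!}F|_{U ×_X V}
⟶ j_{U,!}F|_U ⊕ j_{V,!}F|_V ⟶ F ⟶ 0 is short exact, where the second map is given by the two
adjunction counits and the first by the extension map along U ×_X V ⟶ U and minus the extension map
along U ×_X V ⟶ V. Only squares whose open part and etale part are both schemes are covered. -/
theorem result {S : Scheme.{u}} (X : AlgSp.Space S)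
    (U V : AlgSp.EtOver X.obj) (hsq : AlgSp.IsElemDistSq U.obj.hom V.obj.hom)
    [(AlgSp.resModEt U).IsRightAdjoint] [(AlgSp.resModEt V).IsRightAdjoint]
    [(AlgSp.resModEt (AlgSp.EtOver.prodObj U V)).IsRightAdjoint] (F : AlgSp.ModEt X.obj) :
    ∃ h : biprod.lift ((AlgSp.shriekResNatTrans (AlgSp.EtOver.prodFst U V)).app F)
          (-((AlgSp.shriekResNatTrans (AlgSp.EtOver.prodSnd U V)).app F)) ≫
        biprod.desc ((Adjunction.ofIsRightAdjoint (AlgSp.resModEt U)).counit.app F)
          ((Adjunction.ofIsRightAdjoint (AlgSp.resModEt V)).counit.app F) = 0,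
      (ShortComplex.mk _ _ h).ShortExact := by
  haveI : (AlgSp.resModEt (AlgSp.EtOver.prodObj U V) ⋙ AlgSp.pushOnModEt (AlgSp.EtOver.prodObj U V)).Additive :=
    inferInstance
  exact shortExact_dual (AlgSp.shriekResAdj U) (AlgSp.shriekResAdj V) (AlgSp.shriekResAdj (AlgSp.EtOver.prodObj U V))
    (AlgSp.pushResNatTrans (AlgSp.EtOver.prodFst U V)) (AlgSp.pushResNatTrans (AlgSp.EtOver.prodSnd U V))
    (fun G => (AlgSp.resPushAdjEt U).unit.app G) (fun G => (AlgSp.resPushAdjEt V).unit.app G)
    (fun h => (AlgSp.resPushAdjEt U).unit.naturality h) (fun h => (AlgSp.resPushAdjEt V).unit.naturality h)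
    (fun G => Groth.Agent.S10788.result X U V hsq G) F _ _ (homEquiv_counit U F) (homEquiv_counit V F)

end Groth.Agent.S10789
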