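import Groth.Statements.S1686
import Groth.Agent.Lib.Dim.Scheme
import Groth.Agent.Lib.NoethTop.KrullDim
import Groth.Agent.Lib.BlowUp.EffCartier
import Mathlib.RingTheory.KrullDimension.NonZeroDivisors

set_option autoImplicit false
universe u
open CategoryTheory CategoryTheory.Limits AlgebraicGeometry TopologicalSpace
open SDiv

namespace Groth.Agent.S1686

/-- Let D be the closed subscheme of an effective Cartier divisor on a scheme S and d a point of D with
image s in S. If the local dimension of S at s is finite, then the local dimension of D at d is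
strictly smaller. -/
theorem result (S : Scheme.{u}) (𝓘 : S.IdealSheafData) (h𝓘 : BlowUp.IsEffCartierIdeal 𝓘) (d : ↥𝓘.subscheme)
    (hfin : FlatMor.localDim ↥S (𝓘.subschemeι d) ≠ ⊤) :
    FlatMor.localDim ↥𝓘.subscheme d < FlatMor.localDim ↥S (𝓘.subschemeι d) := by
  obtain ⟨U, hdU, hU⟩ := GrothLib.NoethTop.exists_localDim_eq (𝓘.subschemeι d)
  obtain ⟨V, hdV, hVU, f, hf, hI⟩ := GrothLib.BlowUp.exists_cartierOn_le h𝓘 hdU
  have hW : IsAffineOpen (𝓘.subschemeι ⁻¹ᵁ V.1) := V.2.preimage _
  have hsurj : Function.Surjective (𝓘.subschemeι.app V.1).hom :=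
    𝓘.subschemeι_app_surjective V
  let e : (Γ(S, V.1) ⧸ Ideal.span {f}) ≃+* Γ(𝓘.subscheme, 𝓘.subschemeι ⁻¹ᵁ V.1) :=
    (Ideal.quotEquivOfEq (hI.symm.trans (𝓘.ker_subschemeι_app V).symm)).trans (RingHom.quotientKerEquivOfSurjective hsurj)
  have h1 : FlatMor.localDim ↥𝓘.subscheme d ≤ ringKrullDim (Γ(S, V.1) ⧸ Ideal.span {f}) := by
    rw [ringKrullDim_eq_of_ringEquiv e, ← GrothLib.Dim.topologicalKrullDim_affineOpen hW]
    exact GrothLib.NoethTop.localDim_le _ hdV
  have h2 : ringKrullDim Γ(S, V.1) ≤ FlatMor.localDim ↥S (𝓘.subschemeι d) := by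
    rw [← hU, ← GrothLib.Dim.topologicalKrullDim_affineOpen V.2]
    exact (Topology.IsEmbedding.inclusion (show (V.1 : Set ↥S) ⊆ U from hVU)).isInducing.topologicalKrullDim_le
  have h3 := (ringKrullDim_quotient_succ_le_of_nonZeroDivisor hf).trans h2
  refine h1.trans_lt ?_
  have hbot : FlatMor.localDim ↥S (𝓘.subschemeι d) ≠ ⊥ := by
    intro hb
    have : Nontrivial Γ(S, V.1) := (S.presheaf.germ V.1 _ hdV).hom.domain_nontrivial
    rw [hb, le_bot_iff] at h2
    have h0 := ringKrullDim_nonneg_of_nontrivial (R := Γ(S, V.1))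
    rw [h2] at h0
    simp at h0
  generalize FlatMor.localDim ↥S (𝓘.subschemeι d) = n at h3 hbot hfin
  generalize ringKrullDim (Γ(S, V.1) ⧸ Ideal.span {f}) = m at h3
  induction m with
  | bot => exact bot_lt_iff_ne_bot.2 hbot
  | coe m =>
    induction n with
    | bot => exact absurd rfl hbot
    | coe n =>
      have h4 : m + 1 ≤ n := by exact_mod_cast h3
      have hn : n ≠ ⊤ := fun h => hfin (by rw [h]; rfl)
      exact WithBot.coe_lt_coe.2 ((ENat.add_one_le_iff' hn).1 h4)

end Groth.Agent.S1686
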