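import Groth.Statements.S10796
import Groth.Agent.Lib.AlgSp.CartierSub
import Groth.Agent.Lib.AlgSp.GorPoint
-- import your own Groth.Agent.* helpers here

set_option autoImplicit false
universe u
open CategoryTheory CategoryTheory.Limits AlgebraicGeometry Topology TopologicalSpace
open AlgSp
set_option backward.isDefEq.respectTransparency false

namespace Groth.Agent.S10796

/-- For algebraic spaces X and Y over a scheme S, a morphism f : X ⟶ Y and an effective Cartier divisor
D ⟶ Y (one-chart sense), assume that no weakly associated point of X (weakly associated point of the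
structure sheaf O_X on the small etale site of X) is mapped into |D|. Then the inverse image of D
under f is an effective Cartier divisor on X: for every pullback square of D ⟶ Y along f, the
projection to X is an effective Cartier divisor (one-chart sense). -/
theorem result {S : Scheme.{u}} (X Y D P : AlgSp.Space S) (f : X ⟶ Y)
    (i : D ⟶ Y) (hD : AlgSp.IsEffCartierSub i.hom) [(AlgSp.unitModEt X.obj).IsQuasicoherent]
    (h : ∀ x ∈ AlgSp.WeakAssEt (AlgSp.unitModEt X.obj),
      AlgSp.Points.map f.hom x ∉ Set.range (AlgSp.Points.map i.hom))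
    (fst : P ⟶ D) (snd : P ⟶ X) (hP : IsPullback fst.hom snd.hom i.hom f.hom) :
    AlgSp.IsEffCartierSub snd.hom := by
  open GrothLib.AlgSp in
  classical
  have hi := hD.1
  refine isEffCartierSub_of_nbhds X.property (repWith_of_isPullback hP hi) fun z => ?_
  obtain ⟨U, hU, a, u, g₀, I, p, ae, hu, hg₀, hgI, sqI⟩ := exists_affine_nbhd_cartier Y.property hD (AlgSp.Points.map fst.hom z)
  haveI := hU
  obtain ⟨U₁, b₁, α₁, w₁, be₁, hb₁, hw₁, -⟩ := exists_chart_over_point X.property Y.property f.hom a ae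
    (AlgSp.Points.map snd.hom z) u
    (by rw [hu, ← AlgSp.Points.map_comp, hP.w, AlgSp.Points.map_comp])
  obtain ⟨O, hO, hwO, -⟩ := exists_isAffineOpen_mem_and_subset (x := w₁) (U := (⊤ : U₁.left.Opens)) trivial
  let E := opensObj (AlgSp.EtOver.mk b₁ be₁) O
  let W : Over S := Over.mk (O.ι ≫ U₁.hom)
  haveI hW : IsAffine W.left := hO
  let j : W ⟶ U₁ := Over.homMk O.ι rfl
  let b : (AlgSp.yon S).obj W ⟶ X.obj := (AlgSp.yon S).map j ≫ b₁
  let α : W ⟶ U := j ≫ α₁
  have be : AlgSp.RepWith @Etale b :=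
    repWith_comp ((repWith_yon_map_iff @Etale j).2 (inferInstanceAs (Etale O.ι))) be₁
  have hb : b ≫ f.hom = (AlgSp.yon S).map α ≫ a := by
    simp only [b, α, Category.assoc, hb₁, Functor.map_comp]
  obtain ⟨J, q, -, sqJ⟩ := exists_chart_ideal (repWith_of_isPullback hP hi) b
  have e : J = I.comap α.left := by
    have := comap_eq_of_squares (sqJ.paste_horiz hP) sqI (𝟙 W) α
      (by rw [CategoryTheory.Functor.map_id, Category.id_comp, hb])
    rwa [Over.id_left, Scheme.IdealSheafData.comap_id] at this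
  have hgJ : J.ideal ⟨⊤, isAffineOpen_top W.left⟩ = Ideal.span {α.left.appTop.hom g₀} := by
    subst e
    rw [GrothLib.BlowUp.ideal_comap_eq_map I α.left ⟨⊤, isAffineOpen_top U.left⟩ ⟨⊤, isAffineOpen_top W.left⟩ le_top,
      hgI, Ideal.map_span, Set.image_singleton, show α.left.appTop = α.left.appLE ⊤ ⊤ le_top from α.left.app_eq_appLE]
  refine ⟨W, hW, b, ⟨w₁, hwO⟩, α.left.appTop.hom g₀, J, q, be, ?_, ?_, hgJ, sqJ⟩
  · rw [show b = (AlgSp.yon S).map j ≫ b₁ from rfl, ofPt_map_comp]
    exact hw₁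
  · rw [mem_nonZeroDivisors_iff_right]
    intro c hc
    by_contra hne
    let E : AlgSp.EtOver X.obj := AlgSp.EtOver.mk b be
    haveI : IsAffine E.obj.left.left := hW
    let c' : AlgSp.sectModEt (AlgSp.unitModEt X.obj) E := ULift.up c
    have hann : AlgSp.annSect c' ≠ ⊤ := fun h => hne (congrArg ULift.down
      (show ULift.up ((1 : Γ(W.left, ⊤)) * c) = (ULift.up 0 : ULift.{u+1} Γ(W.left, ⊤)) from
        (AlgSp.mem_annSect_iff c' 1).1 ((Ideal.eq_top_iff_one _).1 h)) |> fun h' => by rwa [one_mul] at h')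
    have hga : α.left.appTop.hom g₀ ∈ AlgSp.annSect c' := (AlgSp.mem_annSect_iff c' _).2
      (show ULift.up (α.left.appTop.hom g₀ * c) = (ULift.up 0 : ULift.{u+1} Γ(W.left, ⊤)) by rw [mul_comm, hc])
    obtain ⟨P₀, hP₀⟩ := Ideal.nonempty_minimalPrimes hann
    haveI := hP₀.1.1
    let hT := isAffineOpen_top W.left
    let x := hT.fromSpec.base ⟨P₀, hP₀.1.1⟩
    have hPx : AlgSp.primeAtPt E.obj.left.left x = P₀ := by
      ext r
      have h2 : x ∈ W.left.basicOpen r ↔ r ∉ P₀ := by
        change (⟨P₀, hP₀.1.1⟩ : PrimeSpectrum _) ∈ hT.fromSpec ⁻¹ᵁ W.left.basicOpen r ↔ _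
        rw [hT.fromSpec_preimage_basicOpen]
        rfl
      rw [Scheme.mem_basicOpen_top] at h2
      unfold AlgSp.primeAtPt
      rw [Ideal.mem_comap, IsLocalRing.mem_maximalIdeal, mem_nonunits_iff]
      exact not_congr h2 |>.trans not_not
    have hxass : AlgSp.Points.ofPt b x ∈ AlgSp.WeakAssEt (AlgSp.unitModEt X.obj) :=
      ⟨E, hW, x, rfl, c', by rw [hPx]; exact hP₀⟩
    apply h _ hxass
    have hxJ : x ∈ Set.range J.subschemeι := by
      rw [Scheme.IdealSheafData.range_subschemeι, SetLike.mem_coe,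
        J.mem_support_iff_of_mem (U := ⟨⊤, hT⟩) trivial, hgJ, Scheme.zeroLocus_span, Scheme.mem_zeroLocus_iff]
      rintro r rfl
      rw [Scheme.mem_basicOpen_top]
      intro hu'
      have : α.left.appTop.hom g₀ ∈ AlgSp.primeAtPt E.obj.left.left x := hPx ▸ hP₀.1.2 hga
      exact (IsLocalRing.mem_maximalIdeal _).1 this hu'
    obtain ⟨y, hy⟩ := hxJ
    refine ⟨AlgSp.Points.map fst.hom (AlgSp.Points.ofPt q y), ?_⟩
    rw [← AlgSp.Points.map_comp, hP.w, AlgSp.Points.map_comp, AlgSp.Points.map_ofPt, sqJ.w, ofPt_map_comp, ← hy]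
    rfl

end Groth.Agent.S10796
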