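import Groth.Statements.S1662
import Groth.Agent.Lib.BlowUp.RelCartier
import Groth.Agent.Lib.BlowUp.IdealComap
import Groth.Agent.Lib.BlowUp.FlatSub
import Mathlib.RingTheory.Flat.Equalizer
import Mathlib.Algebra.Category.Ring.Constructions
import Mathlib.AlgebraicGeometry.Morphisms.Flat

set_option autoImplicit false
universe u
open CategoryTheory CategoryTheory.Limits AlgebraicGeometry
open Divisors

namespace Groth.Agent.S1662

open CategoryTheory AlgebraicGeometry TensorProduct Limits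

theorem nzd_of_isPushout {R A R' B : Type u} [CommRing R] [CommRing A] [CommRing R'] [CommRing B]
    [Algebra R A] [Algebra R R'] [Algebra A B] [Algebra R' B] [Algebra R B] [IsScalarTower R A B]
    [IsScalarTower R R' B] (h : Algebra.IsPushout R A R' B) (a : A) (ha : a ∈ nonZeroDivisors A)
    [Module.Flat R (A ⧸ Ideal.span {a})] : algebraMap A B a ∈ nonZeroDivisors B := by
  let μ : A →ₗ[R] A := LinearMap.mulLeft R a
  have hμ : Function.Injective μ := fun x y hxy => (mem_nonZeroDivisors_iff_left.mp ha (x - y)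
    (by rw [mul_sub]; exact sub_eq_zero.mpr hxy) |> sub_eq_zero.mp)
  let f : A →ₗ[R] A ⧸ Ideal.span {a} := (Ideal.Quotient.mkₐ R (Ideal.span {a})).toLinearMap
  have hex : Function.Exact μ f := fun x => by
    change Ideal.Quotient.mk (Ideal.span {a}) x = 0 ↔ x ∈ Set.range μ
    rw [Ideal.Quotient.eq_zero_iff_mem, Ideal.mem_span_singleton]
    exact ⟨fun ⟨c, hc⟩ => ⟨c, hc.symm⟩, fun ⟨c, hc⟩ => ⟨c, hc.symm⟩⟩
  have hinj := LinearMap.lTensor_injective_of_exact_of_flat f Ideal.Quotient.mk_surjective μ hμ hex R'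
  haveI := h.symm
  let e := Algebra.IsPushout.equiv R R' A B
  have key : ∀ z : R' ⊗[R] A, e (μ.lTensor R' z) = algebraMap A B a * e z := by
    intro z
    induction z using TensorProduct.induction_on with
    | zero => simp
    | tmul r x =>
      rw [LinearMap.lTensor_tmul, show e = Algebra.IsPushout.equiv R R' A B from rfl,
        Algebra.IsPushout.equiv_tmul, Algebra.IsPushout.equiv_tmul]
      change algebraMap R' B r * algebraMap A B (a * x) = _
      rw [map_mul]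
      ring
    | add x y hx hy => rw [map_add, map_add, map_add, hx, hy, mul_add]
  rw [mem_nonZeroDivisors_iff_left]
  intro b hb
  obtain ⟨z, rfl⟩ := e.surjective b
  rw [← key, map_eq_zero_iff e e.injective, map_eq_zero_iff _ hinj] at hb
  rw [hb, map_zero]

/-- Let f : X → S, D an effective Cartier divisor on X such that D → S is flat, and g : S' → S any
morphism. Then the inverse image of D in X ×_S S' is an effective Cartier divisor. -/
theorem result {X S S' : Scheme.{u}} (f : X ⟶ S) (D : X.IdealSheafData) (hD : BlowUp.IsEffCartierIdeal D)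
    [Flat (D.subschemeι ≫ f)] (g : S' ⟶ S) :
    BlowUp.IsEffCartierIdeal (D.comap (pullback.fst f g)) := by
  intro z
  let p := pullback.fst f g
  let q := pullback.snd f g
  obtain ⟨U, hU, hsU, -⟩ := exists_isAffineOpen_mem_and_subset (TopologicalSpace.Opens.mem_top (f (p z)))
  obtain ⟨V, hxV, hV, a, ha, ea⟩ := GrothLib.BlowUp.exists_cartierOn_le hD (W := f ⁻¹ᵁ U) (x := p z) hsU
  have hgU : g (q z) ∈ U := by
    rw [← Scheme.Hom.comp_apply, show q ≫ g = p ≫ f from pullback.condition.symm,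
      Scheme.Hom.comp_apply]
    exact hsU
  obtain ⟨T, hT, hyT, hTU⟩ := exists_isAffineOpen_mem_and_subset (U := g ⁻¹ᵁ U) (x := q z) hgU
  have H : IsPullback p q f g := IsPullback.of_hasPullback f g
  have hpo : IsPushout (f.appLE U V.1 hV) (g.appLE U T hTU)
      (p.appLE V.1 (p ⁻¹ᵁ V.1 ⊓ q ⁻¹ᵁ T) inf_le_left) (q.appLE T (p ⁻¹ᵁ V.1 ⊓ q ⁻¹ᵁ T) inf_le_right) :=
    (isIso_pushoutSection_iff H hTU hV rfl).1
      (isIso_pushoutSection_of_isAffineOpen H hTU hV rfl hU hT V.2)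
  have : IsAffine (U : Scheme) := hU
  have : IsAffine (V.1 : Scheme) := V.2
  have : IsAffine (T : Scheme) := hT
  have hW : IsAffineOpen (p ⁻¹ᵁ V.1 ⊓ q ⁻¹ᵁ T) :=
    .of_isIso (Scheme.Hom.isPullback_resLE H hTU hV rfl).isoPullback.hom
  refine ⟨⟨_, hW⟩, ⟨hxV, hyT⟩, p.appLE V.1 (p ⁻¹ᵁ V.1 ⊓ q ⁻¹ᵁ T) inf_le_left a, ?_, ?_⟩
  · have h1 := GrothLib.BlowUp.flat_quot_of_flat f D ⟨U, hU⟩ V hV
    rw [ea] at h1
    algebraize [(f.appLE U V.1 hV).hom, (g.appLE U T hTU).hom,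
      (p.appLE V.1 (p ⁻¹ᵁ V.1 ⊓ q ⁻¹ᵁ T) inf_le_left).hom,
      (q.appLE T (p ⁻¹ᵁ V.1 ⊓ q ⁻¹ᵁ T) inf_le_right).hom]
    letI : Algebra Γ(S, U) Γ(pullback f g, p ⁻¹ᵁ V.1 ⊓ q ⁻¹ᵁ T) :=
      ((p.appLE V.1 (p ⁻¹ᵁ V.1 ⊓ q ⁻¹ᵁ T) inf_le_left).hom.comp (f.appLE U V.1 hV).hom).toAlgebra
    haveI : IsScalarTower Γ(S, U) Γ(X, V.1) Γ(pullback f g, p ⁻¹ᵁ V.1 ⊓ q ⁻¹ᵁ T) :=
      IsScalarTower.of_algebraMap_eq fun _ => rfl
    haveI : IsScalarTower Γ(S, U) Γ(S', T) Γ(pullback f g, p ⁻¹ᵁ V.1 ⊓ q ⁻¹ᵁ T) :=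
      IsScalarTower.of_algebraMap_eq fun r => congrArg (fun φ => φ.hom r) hpo.w
    haveI : Module.Flat Γ(S, U) (Γ(X, V.1) ⧸ Ideal.span {a}) := RingHom.flat_algebraMap_iff.mp h1
    exact nzd_of_isPushout (R := Γ(S, U)) (CommRingCat.isPushout_iff_isPushout.mp hpo) a ha
  · rw [GrothLib.BlowUp.ideal_comap_eq_map D p V ⟨_, hW⟩ inf_le_left, ea, Ideal.map_span, Set.image_singleton]

end Groth.Agent.S1662
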