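import Groth.Statements.S10797
import Groth.Agent.Lib.AlgSp.CartierSub
import Groth.Agent.Lib.AlgSp.FibreDimBC
import Groth.Agent.S1662
-- import your own Groth.Agent.* helpers here

set_option autoImplicit false
universe u
open CategoryTheory CategoryTheory.Limits AlgebraicGeometry Topology TopologicalSpace
open AlgSp

namespace Groth.Agent.S10797

/-- Let f : X ⟶ Y be a morphism of algebraic spaces over a scheme S and D ⟶ X an effective Cartier
divisor (one-chart sense) such that the composite D ⟶ Y is flat. Then for every morphism g : Y' ⟶ Y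
and every pullback square exhibiting X' as Y' ×_Y X with projection g' : X' ⟶ X, the inverse image
of D under g' (the projection to X' from any pullback of D ⟶ X along g') is an effective Cartier
divisor on X'. (The published statement takes g to be a morphism from a scheme Y'; this row allows
Y' to be an algebraic space, to which the same etale-local reduction to schemes applies.) -/
theorem result {S : Scheme.{u}} (X Y D Y' X' D' : AlgSp.Space S)
    (f : X ⟶ Y) (i : D ⟶ X) (hD : AlgSp.IsEffCartierSub i.hom) (hflat : AlgSp.LocP @Flat (i ≫ f).hom)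
    (g : Y' ⟶ Y) (g' : X' ⟶ X) (f' : X' ⟶ Y') (hX' : IsPullback g'.hom f'.hom f.hom g.hom)
    (k : D' ⟶ D) (i' : D' ⟶ X') (hD' : IsPullback k.hom i'.hom i.hom g'.hom) :
    AlgSp.IsEffCartierSub i'.hom := by
  open GrothLib.AlgSp in
  classical
  have hi' : AlgSp.RepWith @IsClosedImmersion i'.hom := repWith_of_isPullback hD' hD.1
  refine isEffCartierSub_of_nbhds X'.property hi' fun z => ?_
  obtain ⟨U, V, U', V', a, b, a', b', h, h', p, q, u', ha, hb, ha', hb', c, c', cp, hsq, hu'⟩ :=
    exists_bc_charts X.property Y.property Y'.property hX' (AlgSp.Points.map i'.hom z)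
  obtain ⟨I, r, -, sqI⟩ := exists_chart_ideal hD.1 a
  have hr : AlgSp.RepWith @Etale r := repWith_of_isPullback sqI.flip ha
  have hI := isEffCartierIdeal_of_isEffCartierSub X.property hD ha sqI
  haveI : Flat (I.subschemeι ≫ h.left) := by
    have := hflat r b (subHom I ≫ h) hr hb (by
      change r ≫ i.hom ≫ f.hom = _
      rw [← Category.assoc, sqI.w, Category.assoc, c, Functor.map_comp, Category.assoc])
    exact this
  have hJ := Groth.Agent.S1662.result h.left I hI q.left
  have hJ' : BlowUp.IsEffCartierIdeal (I.comap p.left) := by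
    rw [← hsq.isoPullback_hom_fst, Scheme.IdealSheafData.comap_comp]
    exact GrothLib.BlowUp.isEffCartierIdeal_comap_of_flat hsq.isoPullback.hom hJ
  obtain ⟨O, hO, huO, -, g₀, hg₀, hgI⟩ := exists_cartierTop hJ' (W := ⊤) (x := u') trivial
  let W : Over S := Over.mk (O.ι ≫ U'.hom)
  let j : W ⟶ U' := Over.homMk O.ι rfl
  haveI hW : IsAffine W.left := hO
  let b₁ : (AlgSp.yon S).obj W ⟶ X'.obj := (AlgSp.yon S).map j ≫ a'
  obtain ⟨J, q₁, -, sqJ⟩ := exists_chart_ideal hi' b₁
  have e : J = (I.comap p.left).comap O.ι := by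
    have h1 := comap_eq_of_squares (sqJ.paste_horiz hD') sqI (𝟙 W) (j ≫ p)
      (by rw [CategoryTheory.Functor.map_id, Category.id_comp, Functor.map_comp]
          simp only [b₁, Category.assoc, cp])
    rw [Over.id_left, Scheme.IdealSheafData.comap_id, Over.comp_left, Scheme.IdealSheafData.comap_comp] at h1
    exact h1
  refine ⟨W, hW, b₁, ⟨u', huO⟩, g₀, J, q₁,
    repWith_comp ((repWith_yon_map_iff @Etale j).2 (inferInstanceAs (Etale O.ι))) ha', ?_, hg₀, ?_, sqJ⟩
  · rw [show b₁ = (AlgSp.yon S).map j ≫ a' from rfl, ofPt_map_comp]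
    exact hu'
  · subst e
    exact hgI

end Groth.Agent.S10797
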