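import Groth.Statements.S1685
import Groth.Agent.Lib.BlowUp.RelCartier
import Groth.Agent.Lib.Depth.Transfer
import Mathlib.RingTheory.KrullDimension.Regular

set_option autoImplicit false
universe u
open CategoryTheory CategoryTheory.Limits AlgebraicGeometry TopologicalSpace
open SDiv

namespace Groth.Agent.S1685

/-- Let X be a locally Noetherian scheme all of whose local rings satisfy Serre's condition (S_k), and
let D be the closed subscheme of an effective Cartier divisor. Then all local rings of D satisfy
(S_{k-1}). -/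
theorem result (X : Scheme.{u}) [IsLocallyNoetherian X] (k : ℕ)
    (hX : ∀ x : ↥X, min (k : WithBot ℕ∞) (ringKrullDim (X.presheaf.stalk x)) ≤
      ((LocCoh.depth (X.presheaf.stalk x) (X.presheaf.stalk x) : ℕ∞) : WithBot ℕ∞))
    (𝓘 : X.IdealSheafData) (h𝓘 : BlowUp.IsEffCartierIdeal 𝓘) (d : ↥𝓘.subscheme) :
    min ((k - 1 : ℕ) : WithBot ℕ∞) (ringKrullDim (𝓘.subscheme.presheaf.stalk d)) ≤
      ((LocCoh.depth (𝓘.subscheme.presheaf.stalk d) (𝓘.subscheme.presheaf.stalk d) : ℕ∞) : WithBot ℕ∞) := by
  obtain ⟨V, hV, g, hg, eg⟩ := h𝓘 (𝓘.subschemeι d)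
  let A := X.presheaf.stalk (𝓘.subschemeι d)
  let B := 𝓘.subscheme.presheaf.stalk d
  let γ : A := X.presheaf.germ V.1 (𝓘.subschemeι d) hV g
  have hγ : γ ∈ nonZeroDivisors A := GrothLib.BlowUp.germ_mem_nonZeroDivisors hg hV
  let φ : A →+* B := (𝓘.subschemeι.stalkMap d).hom
  have hφ : Function.Surjective φ := GrothLib.BlowUp.surjective_stalkMap_subschemeι 𝓘 d
  have hker : RingHom.ker φ = Ideal.span {γ} := by
    rw [show RingHom.ker φ = _ from GrothLib.BlowUp.ker_stalkMap_subschemeι 𝓘 d V hV, eg, Ideal.map_span,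
      Set.image_singleton]
  have hγm : γ ∈ IsLocalRing.maximalIdeal A :=
    IsLocalRing.le_maximalIdeal (RingHom.ker_ne_top φ) (hker.ge (Ideal.mem_span_singleton_self γ))
  let _ : Algebra A B := φ.toAlgebra
  have : IsNoetherianRing B := isNoetherianRing_of_surjective A B φ hφ
  let e : QuotSMulTop γ A ≃ₗ[A] B :=
    (Submodule.quotEquivOfEq _ _ (by
      rw [← Submodule.ideal_span_singleton_smul, smul_eq_mul, Ideal.mul_top, ← hker]
      rfl)).trans (LinearMap.quotKerEquivOfSurjective (Algebra.linearMap A B) hφ)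
  have : Module.Finite A B := Module.Finite.of_surjective (Algebra.linearMap A B) hφ
  have hreg : IsSMulRegular A γ := fun a b hab => (mul_cancel_left_mem_nonZeroDivisors hγ).1 hab
  have hdepth : LocCoh.depth B B + 1 = LocCoh.depth A A := by
    have hm : (IsLocalRing.maximalIdeal A).map (algebraMap A B) = IsLocalRing.maximalIdeal B :=
      IsLocalRing.map_maximalIdeal_of_surjective φ hφ
    rw [LocCoh.depth, LocCoh.depth, ← hm, GrothLib.Depth.idealDepth_map_eq (IsLocalRing.maximalIdeal A) B,
      ← GrothLib.Depth.idealDepth_eq_of_equiv (IsLocalRing.maximalIdeal A) e]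
    exact GrothLib.Depth.idealDepth_quotSMulTop_add_one (IsLocalRing.maximalIdeal A) hγm hreg
  have hdim : ringKrullDim B + 1 = ringKrullDim A := by
    rw [← ringKrullDim_quotient_span_singleton_succ_eq_ringKrullDim_of_mem_nonZeroDivisors hγ hγm]
    congr 1
    exact ringKrullDim_eq_of_ringEquiv
      ((Ideal.quotEquivOfEq hker.symm).trans (RingHom.quotientKerEquivOfSurjective hφ)).symm
  rcases k.eq_zero_or_pos with rfl | hk
  · exact (min_le_left _ _).trans (by exact_mod_cast zero_le)
  have h := hX (𝓘.subschemeι d)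
  rw [← hdepth, ← hdim] at h
  obtain ⟨k, rfl⟩ : ∃ m, k = m + 1 := ⟨k - 1, by omega⟩
  simp only [Nat.add_sub_cancel]
  revert h
  generalize ringKrullDim B = a
  generalize LocCoh.depth B B = b
  intro h
  induction b using ENat.recTopCoe with
  | top => exact le_top
  | coe m =>
    induction a with
    | bot => exact min_le_right _ _ |>.trans bot_le
    | coe a =>
      induction a using ENat.recTopCoe with
      | top =>
        have e : ((⊤ : ℕ∞) : WithBot ℕ∞) + 1 = ((⊤ : ℕ∞) : WithBot ℕ∞) := by
          rw [← WithBot.coe_one, ← WithBot.coe_add, top_add]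
        rw [e, min_eq_left (show ((k + 1 : ℕ) : WithBot ℕ∞) ≤ ((⊤ : ℕ∞) : WithBot ℕ∞) from
          WithBot.coe_le_coe.2 le_top)] at h
        refine (min_le_left _ _).trans ?_
        have h' : ((k + 1 : ℕ) : ℕ∞) ≤ ((m : ℕ∞) + 1) := WithBot.coe_le_coe.1 h
        have hkm : k + 1 ≤ m + 1 := by exact_mod_cast h'
        have hkm' : k ≤ m := by omega
        exact_mod_cast hkm' 
      | coe a =>
        rcases le_total k a with hle | hle
        · refine (min_le_left _ _).trans ?_
          rw [min_eq_left (by exact_mod_cast Nat.succ_le_succ hle)] at h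
          have h' : k + 1 ≤ m + 1 := by exact_mod_cast h
          have h'' : k ≤ m := by omega
          exact_mod_cast h''
        · refine (min_le_right _ _).trans ?_
          rw [min_eq_right (by exact_mod_cast Nat.succ_le_succ hle)] at h
          have h' : a + 1 ≤ m + 1 := by exact_mod_cast h
          have h'' : a ≤ m := by omega
          exact_mod_cast h'' 

end Groth.Agent.S1685
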