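import Groth.Statements.S10799
import Groth.Agent.S10798
import Groth.Agent.Lib.FEt21.PunctSections
-- import your own Groth.Agent.* helpers here

set_option autoImplicit false
universe u
open CategoryTheory CategoryTheory.Limits AlgebraicGeometry Topology TopologicalSpace
open AlgSp

namespace Groth.Agent.S10799

/-- Let X be an algebraic space over a scheme S which is locally Noetherian and normal in the
etale-local sense: some etale surjective chart of X from a locally Noetherian scheme all of whose
local rings are integrally closed domains. Let D ⟶ X be an effective Cartier divisor (one-chart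
sense). Then D is (S_1): some etale surjective chart of D from a locally Noetherian scheme all of
whose local rings O satisfy min(1, dim O) ≤ depth O. -/
theorem result {S : Scheme.{u}} (X D : AlgSp.Space S)
    (hX : AlgSp.EtaleLocally (fun U => IsLocallyNoetherian U ∧ Pi1.IsNormalScheme U) X.obj)
    (i : D ⟶ X) (hD : AlgSp.IsEffCartierSub i.hom) :
    AlgSp.EtaleLocally (fun V => IsLocallyNoetherian V ∧ ∀ v : ↥V,
        min ((1 : ℕ) : WithBot ℕ∞) (ringKrullDim ↥(V.presheaf.stalk v)) ≤
          ((LocCoh.depth ↥(V.presheaf.stalk v) ↥(V.presheaf.stalk v) : ℕ∞) : WithBot ℕ∞)) D.obj := by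
  obtain ⟨U, a, ae, as, hU, hn⟩ := hX
  refine Groth.Agent.S10798.result X D 2 ⟨U, a, ae, as, hU, fun x => ?_⟩ i hD
  haveI := hU
  obtain ⟨h1, h2⟩ := hn x
  let A : Type u := U.left.presheaf.stalk x
  by_cases h : (2 : WithBot ℕ∞) ≤ ringKrullDim A
  · exact le_trans (min_le_left _ _) (WithBot.coe_le_coe.2 (GrothLib.FEt21.two_le_depth_of_normal A h))
  · by_cases h0 : ringKrullDim A ≤ 0
    · exact le_trans (min_le_right _ _) (le_trans h0 (WithBot.coe_le_coe.2 bot_le))
    · have hle : ringKrullDim A ≤ 1 := by
        revert h
        generalize ringKrullDim A = d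
        intro h
        induction d using WithBot.recBotCoe with
        | bot => exact bot_le
        | coe n =>
          refine WithBot.coe_le_coe.2 ?_
          have hn2 : ¬ (2 : ℕ∞) ≤ n := fun hh => h (WithBot.coe_le_coe.2 hh)
          cases n with
          | top => exact absurd le_top hn2
          | coe m =>
            have hm : ¬ 2 ≤ m := fun hh => hn2 (by exact_mod_cast hh)
            exact_mod_cast (show m ≤ 1 by omega)
      have hne : IsLocalRing.maximalIdeal A ≠ ⊥ := fun hb => h0 (by
        have hF : IsField A := IsLocalRing.isField_iff_maximalIdeal_eq.2 hb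
        letI := hF.toField
        exact le_of_eq (ringKrullDim_eq_zero_of_field A))
      obtain ⟨r, hr, hr0⟩ := Submodule.exists_mem_ne_zero_of_ne_bot hne
      have hdep : (1 : ℕ∞) ≤ LocCoh.depth A A :=
        (GrothLib.Depth.one_le_idealDepth_iff (IsLocalRing.maximalIdeal.isMaximal A).ne_top).2
          ⟨r, hr, IsSMulRegular.of_ne_zero hr0⟩
      exact le_trans (min_le_right _ _) (le_trans hle (WithBot.coe_le_coe.2 hdep))

end Groth.Agent.S10799
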