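import Groth.Statements.S1570
import Groth.Agent.Lib.DivPts.Local

set_option autoImplicit false
universe u
open CategoryTheory CategoryTheory.Limits AlgebraicGeometry
open Divisors

namespace Groth.Agent.S1570

/-- Let X be locally Noetherian and D a closed subscheme with ideal sheaf I. If for every point x of D
the ideal generated by I in the local ring at x is generated by one nonzerodivisor, then D is an
effective Cartier divisor. -/
theorem result (X : Scheme.{u}) [IsLocallyNoetherian X]
    (D : X.IdealSheafData)
    (h : ∀ x ∈ D.support, ∀ (U : X.affineOpens) (hx : x ∈ (U : X.Opens)),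
      ∃ g : X.presheaf.stalk x, g ∈ nonZeroDivisors (X.presheaf.stalk x) ∧
        (D.ideal U).map (X.presheaf.germ U x hx).hom = Ideal.span {g}) :
    BlowUp.IsEffCartierIdeal D := by
    intro x
    classical
    obtain ⟨_, ⟨V, hV, rfl⟩, hxV, -⟩ :=
      X.isBasis_affineOpens.exists_subset_of_mem_open (Set.mem_univ x) isOpen_univ
    have : IsNoetherianRing Γ(X, V) := IsLocallyNoetherian.component_noetherian ⟨V, hV⟩
    let p := hV.primeIdealOf ⟨x, hxV⟩
    let R := Γ(X, V)
    let I : Ideal R := D.ideal ⟨V, hV⟩
    suffices key : ∃ a b : R, b ∉ p.asIdeal ∧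
        algebraMap R (Localization.Away b) a ∈ nonZeroDivisors (Localization.Away b) ∧
        I.map (algebraMap R (Localization.Away b)) = Ideal.span {algebraMap R (Localization.Away b) a} by
      obtain ⟨a, b, hb, ha, hI⟩ := key
      refine ⟨X.affineBasicOpen (U := ⟨V, hV⟩) b, ?_, X.presheaf.map (homOfLE (X.basicOpen_le b)).op a, ?_, ?_⟩
      · show x ∈ X.basicOpen b
        rw [← show hV.fromSpec p = x from hV.fromSpec_primeIdealOf ⟨x, hxV⟩]
        show p ∈ hV.fromSpec ⁻¹ᵁ X.basicOpen b
        rw [hV.fromSpec_preimage_basicOpen]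
        exact hb
      all_goals
        let _ : Algebra R Γ(X, X.basicOpen b) := (X.presheaf.map (homOfLE (X.basicOpen_le b)).op).hom.toAlgebra
        have : IsLocalization.Away b Γ(X, X.basicOpen b) := hV.isLocalization_basicOpen b
        let e := IsLocalization.algEquiv (Submonoid.powers b) (Localization.Away b) Γ(X, X.basicOpen b)
      · have : e (algebraMap R (Localization.Away b) a) ∈ nonZeroDivisors Γ(X, X.basicOpen b) := by
          rw [mem_nonZeroDivisors_iff_right]
          intro w hw
          have hw' := congrArg e.symm hw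
          rw [map_mul, e.symm_apply_apply, map_zero] at hw'
          rw [← e.apply_symm_apply w, (mem_nonZeroDivisors_iff_right.mp ha) _ hw', map_zero]
        rwa [AlgEquiv.commutes] at this
      · rw [← D.map_ideal_basicOpen ⟨V, hV⟩ b]
        have := congrArg (Ideal.map (e : Localization.Away b →+* Γ(X, X.basicOpen b))) hI
        rw [Ideal.map_map, Ideal.map_span, Set.image_singleton] at this
        simp only [RingHom.coe_coe, AlgEquiv.commutes] at this
        rw [show ((e : Localization.Away b →+* Γ(X, X.basicOpen b)).comp (algebraMap R (Localization.Away b))) =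
          algebraMap R Γ(X, X.basicOpen b) from RingHom.ext fun r => e.commutes r] at this
        exact this
    by_cases hxD : x ∈ D.support
    · obtain ⟨g, hg, hgen⟩ := h x hxD ⟨V, hV⟩ hxV
      let A := X.presheaf.stalk x
      let _ : Algebra R A := TopCat.Presheaf.algebra_section_stalk X.presheaf (U := V) ⟨x, hxV⟩
      have : IsLocalization.AtPrime A p.asIdeal := hV.isLocalization_stalk ⟨x, hxV⟩
      have hgen' : I.map (algebraMap R A) = Ideal.span {g} := hgen
      obtain ⟨⟨a, s⟩, has⟩ := IsLocalization.surj p.asIdeal.primeCompl g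
      have hgI : g ∈ I.map (algebraMap R A) := hgen'.symm ▸ Ideal.mem_span_singleton_self g
      obtain ⟨⟨a', s'⟩, has'⟩ := (IsLocalization.mem_map_algebraMap_iff p.asIdeal.primeCompl A).mp hgI
      have hspan : I.map (algebraMap R A) = Ideal.span {algebraMap R A a'} := by
        rw [hgen', ← has', Ideal.span_singleton_mul_right_unit (IsLocalization.map_units A s')]
      have ha'nzd : algebraMap R A a' ∈ nonZeroDivisors A := by
        rw [← has']
        exact mul_mem hg (IsUnit.mem_nonZeroDivisors (IsLocalization.map_units A s'))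
      let N : Ideal R := LinearMap.ker (LinearMap.mulLeft R (a' : R))
      obtain ⟨s₁, hs₁⟩ := IsNoetherian.noetherian N
      obtain ⟨s₂, hs₂⟩ := IsNoetherian.noetherian I
      have h1 : ∀ n ∈ s₁, ∃ c : p.asIdeal.primeCompl, (c : R) * n = 0 := fun n hn => by
        have hn' : (a' : R) * n = 0 := by
          have : n ∈ N := hs₁ ▸ Ideal.subset_span hn
          simpa [N] using this
        have : algebraMap R A n = 0 :=
          (mem_nonZeroDivisors_iff_left.mp ha'nzd) _ (by rw [← map_mul, hn', map_zero])
        exact (IsLocalization.map_eq_zero_iff p.asIdeal.primeCompl A n).mp this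
      have h2 : ∀ i ∈ s₂, ∃ c : p.asIdeal.primeCompl, (c : R) * i ∈ Ideal.span {(a' : R)} := fun i hi => by
        have : algebraMap R A i ∈ (Ideal.span {(a' : R)}).map (algebraMap R A) := by
          rw [Ideal.map_span, Set.image_singleton, ← hspan]
          exact Ideal.mem_map_of_mem _ (hs₂ ▸ Ideal.subset_span hi)
        obtain ⟨c, hc, h⟩ := (IsLocalization.algebraMap_mem_map_algebraMap_iff p.asIdeal.primeCompl A _ _).mp this
        exact ⟨⟨c, hc⟩, h⟩
      choose c₁ hc₁ using h1
      choose c₂ hc₂ using h2
      let b : p.asIdeal.primeCompl := (∏ n : s₁, c₁ n n.2) * (∏ i : s₂, c₂ i i.2)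
      refine ⟨a', (b : R), b.2, ?_, le_antisymm ?_ ?_⟩
      · rw [mem_nonZeroDivisors_iff_left]
        intro w hw
        obtain ⟨r, t, rfl⟩ := IsLocalization.exists_mk'_eq (Submonoid.powers (b : R)) w
        rw [IsLocalization.mul_mk'_eq_mk'_of_mul, IsLocalization.mk'_eq_zero_iff] at hw
        obtain ⟨u, hu⟩ := hw
        have hmem : (u : R) * r ∈ N := by
          show (a' : R) * ((u : R) * r) = 0
          rw [← hu]; ring
        have hbN : ∀ y ∈ N, (b : R) * y = 0 := fun y hy => by
          rw [← hs₁] at hy
          induction hy using Submodule.span_induction with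
          | mem n hn =>
            rw [show b = c₁ n hn * ((∏ m ∈ Finset.univ.erase (⟨n, hn⟩ : s₁), c₁ m m.2) * ∏ i : s₂, c₂ i i.2) by
              rw [← mul_assoc, Finset.mul_prod_erase _ (fun m : s₁ => c₁ m m.2) (Finset.mem_univ ⟨n, hn⟩)]]
            rw [Submonoid.coe_mul, mul_right_comm, hc₁ n hn, zero_mul]
          | zero => exact mul_zero _
          | add y z _ _ hy hz => rw [mul_add, hy, hz, add_zero]
          | smul r y _ hy => rw [smul_eq_mul, mul_left_comm, hy, mul_zero]
        rw [IsLocalization.mk'_eq_zero_iff]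
        exact ⟨⟨(b : R) * u, Submonoid.mul_mem _ (Submonoid.mem_powers _) u.2⟩, by
          show (b : R) * u * r = 0
          rw [mul_assoc]; exact hbN _ hmem⟩
      · have hbu : IsUnit (algebraMap R (Localization.Away (b : R)) b) :=
          IsLocalization.map_units _ (⟨(b : R), Submonoid.mem_powers _⟩ : Submonoid.powers (b : R))
        rw [show I.map (algebraMap R (Localization.Away (b : R))) = Ideal.span (algebraMap R (Localization.Away (b : R)) '' ↑s₂) from
            (congrArg (Ideal.map _) hs₂.symm).trans (Ideal.map_span _ _), Ideal.span_le]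
        rintro _ ⟨i, hi, rfl⟩
        rw [SetLike.mem_coe, ← Ideal.unit_mul_mem_iff_mem _ hbu, ← map_mul]
        have : (b : R) * i ∈ Ideal.span {(a' : R)} := by
          rw [show b = c₂ i hi * ((∏ n : s₁, c₁ n n.2) * ∏ m ∈ Finset.univ.erase (⟨i, hi⟩ : s₂), c₂ m m.2) by
            rw [mul_left_comm, Finset.mul_prod_erase _ (fun m : s₂ => c₂ m m.2) (Finset.mem_univ ⟨i, hi⟩)]]
          rw [Submonoid.coe_mul, mul_right_comm]
          exact Ideal.mul_mem_right _ _ (hc₂ i hi)
        obtain ⟨r, hr⟩ := Ideal.mem_span_singleton'.mp this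
        rw [← hr, map_mul]
        exact Ideal.mul_mem_left _ _ (Ideal.mem_span_singleton_self _)
      · rw [Ideal.span_le, Set.singleton_subset_iff]
        exact Ideal.mem_map_of_mem _ a'.2
    · have hI : ¬ I ≤ p.asIdeal := fun h => hxD ((GrothLib.DivPts.mem_support_iff hV hxV D).mpr h)
      obtain ⟨b, hbI, hb⟩ := SetLike.not_le_iff_exists.mp hI
      refine ⟨1, b, hb, by simp, ?_⟩
      rw [map_one, Ideal.span_singleton_one]
      exact Ideal.eq_top_of_isUnit_mem _ (Ideal.mem_map_of_mem _ hbI)
        (IsLocalization.map_units _ (⟨b, Submonoid.mem_powers _⟩ : Submonoid.powers b))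

end Groth.Agent.S1570
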