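import Groth.Statements.S10800
import Groth.Agent.S1572
import Groth.Agent.S1570
import Groth.Agent.S2821
import Groth.Agent.Lib.AlgSp.CartierSub
import Groth.Agent.Lib.AlgSp.RedInduced
import Groth.Agent.Lib.AlgSp.EtaleLocallyProps
import Groth.Agent.Lib.AlgSp.SchDenseSp
import Groth.Agent.Lib.AlgSp.Immersion
import Groth.Agent.Lib.AlgSp.PointsUniv
import Mathlib.RingTheory.Radical.Basic
-- import your own Groth.Agent.* helpers here

set_option autoImplicit false
universe u
open CategoryTheory CategoryTheory.Limits AlgebraicGeometry Topology TopologicalSpace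
open AlgSp GrothLib.AlgSp
set_option backward.isDefEq.respectTransparency false

namespace Groth.Agent.S10800

/-- Intersections of affine opens in a separated space over a separated base are affine. -/
theorem isAffineOpen_chart {S : Scheme.{u}} [S.IsSeparated] {X : Sp S} (hsep : IsSeparatedSp X) {T W : Over S}
    [IsAffine T.left] [IsAffine W.left] {j : (yon S).obj T ⟶ X} (a : (yon S).obj W ⟶ X) {O : W.left.Opens}
    {q : (yon S).obj (Over.mk (O.ι ≫ W.hom)) ⟶ (yon S).obj T}
    (sq : IsPullback q ((yon S).map (Over.homMk O.ι rfl : Over.mk (O.ι ≫ W.hom) ⟶ W)) j a) : IsAffineOpen O := by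
  let P : Over S := Over.mk (pullback.fst T.hom W.hom ≫ T.hom)
  let π₁ : P ⟶ T := Over.homMk (pullback.fst T.hom W.hom) rfl
  let π₂ : P ⟶ W := Over.homMk (pullback.snd T.hom W.hom) pullback.condition.symm
  let ιO : Over.mk (O.ι ≫ W.hom) ⟶ W := Over.homMk O.ι rfl
  obtain ⟨q', rfl⟩ := (yon S).map_surjective q
  let m : Over.mk (O.ι ≫ W.hom) ⟶ P := Over.homMk (pullback.lift q'.left O.ι (Over.w q')) (by
    show pullback.lift q'.left O.ι _ ≫ pullback.fst T.hom W.hom ≫ T.hom = O.ι ≫ W.hom
    rw [pullback.lift_fst_assoc]; exact Over.w q')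
  have hm₁ : m ≫ π₁ = q' := Over.OverMorphism.ext (pullback.lift_fst _ _ _)
  have hm₂ : m ≫ π₂ = ιO := Over.OverMorphism.ext (pullback.lift_snd _ _ _)
  have sqd : IsPullback ((yon S).map q' ≫ j) ((yon S).map m) (Limits.diag X)
      (prod.lift ((yon S).map π₁ ≫ j) ((yon S).map π₂ ≫ a)) := by
    refine isPullback_of_yon ?_ fun V u v huv => ?_
    · apply prod.hom_ext
      · simp only [Category.assoc, prod.lift_fst, ← Functor.map_comp_assoc, hm₁]
        simp
      · simp only [Category.assoc, prod.lift_snd, ← Functor.map_comp_assoc, hm₂]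
        rw [Category.comp_id, sq.w]
    · obtain ⟨v, rfl⟩ := (yon S).map_surjective v
      have e1 : u = (yon S).map (v ≫ π₁) ≫ j := by simpa using congrArg (· ≫ prod.fst) huv
      have e2 : u = (yon S).map (v ≫ π₂) ≫ a := by simpa using congrArg (· ≫ prod.snd) huv
      refine ⟨sq.lift _ _ (e1.symm.trans e2), ⟨?_, ?_⟩, fun c hc => ?_⟩
      · rw [← Category.assoc, sq.lift_fst, e1]
      · obtain ⟨l, hl⟩ := (yon S).map_surjective (sq.lift _ _ (e1.symm.trans e2))
        have h1 : l ≫ q' = v ≫ π₁ := (yon S).map_injective (by rw [Functor.map_comp, hl, sq.lift_fst])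
        have h2 : l ≫ ιO = v ≫ π₂ := (yon S).map_injective (by rw [Functor.map_comp, hl, sq.lift_snd])
        rw [← hl, ← Functor.map_comp]
        refine congrArg _ (Over.OverMorphism.ext (pullback.hom_ext ?_ ?_))
        · exact congrArg (fun k : V ⟶ T => k.left) ((Category.assoc l m π₁).trans ((congrArg (l ≫ ·) hm₁).trans h1))
        · exact congrArg (fun k : V ⟶ W => k.left) ((Category.assoc l m π₂).trans ((congrArg (l ≫ ·) hm₂).trans h2))
      · obtain ⟨c, rfl⟩ := (yon S).map_surjective c
        have hcm : c ≫ m = v := (yon S).map_injective (by rw [Functor.map_comp]; exact hc.2)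
        apply sq.hom_ext
        · rw [sq.lift_fst, ← Functor.map_comp, ← hm₁, ← Category.assoc, hcm]
        · rw [sq.lift_snd, ← Functor.map_comp]
          show (yon S).map (c ≫ ιO) = _
          rw [← hm₂, ← Category.assoc, hcm]
  haveI : IsClosedImmersion m.left := hsep.2 _ _ _ sqd
  haveI : IsAffineHom (T.hom ≫ terminal.from S) := inferInstance
  haveI : IsAffineHom T.hom := IsAffineHom.of_comp T.hom (terminal.from S)
  haveI : IsAffineHom (pullback.snd T.hom W.hom) := MorphismProperty.pullback_snd _ _ ‹_›
  haveI : IsAffine P.left := isAffine_of_isAffineHom (pullback.snd T.hom W.hom)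
  exact isAffine_of_isAffineHom m.left

/-- In a factorial domain the radical of a principal ideal is principal. -/
theorem exists_radical_eq_span {R : Type u} [CommRing R] [IsDomain R] [UniqueFactorizationMonoid R] {g : R} (hg : g ≠ 0) :
    ∃ h : R, h ≠ 0 ∧ (Ideal.span {g}).radical = Ideal.span {h} := by
  classical
  letI : StrongNormalizationMonoid R := UniqueFactorizationMonoid.normalizationMonoid
  refine ⟨UniqueFactorizationMonoid.radical g, UniqueFactorizationMonoid.radical_ne_zero, ?_⟩
  ext y
  rw [Ideal.mem_span_singleton, ← UniqueFactorizationMonoid.exists_dvd_pow_iff_radical_dvd hg, Ideal.mem_radical_iff]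
  simp only [Ideal.mem_span_singleton]

/-- Stalks of effective Cartier divisors are generated by a nonzerodivisor. -/
theorem stalk_generator {U : Scheme.{u}} {D : U.IdealSheafData} (hD : _root_.BlowUp.IsEffCartierIdeal D) (x : U)
    [IsDomain (U.presheaf.stalk x)] (V : U.affineOpens) (hxV : x ∈ V.1) :
    ∃ g : U.presheaf.stalk x, g ∈ nonZeroDivisors (U.presheaf.stalk x) ∧
      (D.ideal V).map (U.presheaf.germ V x hxV).hom = Ideal.span {g} := by
  obtain ⟨W, hxW, hle, f, hf, e⟩ := GrothLib.BlowUp.exists_cartierOn_le hD (W := V.1) hxV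
  letI := (U.presheaf.germ W x hxW).hom.toAlgebra
  haveI := W.2.isLocalization_stalk ⟨x, hxW⟩
  refine ⟨(U.presheaf.germ W x hxW).hom f, mem_nonZeroDivisors_of_ne_zero fun h0 => ?_, ?_⟩
  · obtain ⟨⟨s, hs⟩, hsf⟩ := (IsLocalization.map_eq_zero_iff (W.2.primeIdealOf ⟨x, hxW⟩).asIdeal.primeCompl
      (U.presheaf.stalk x) f).1 h0
    have : s = 0 := (mem_nonZeroDivisors_iff_right.1 hf) s hsf
    exact hs (this ▸ zero_mem _)
  · rw [← U.presheaf.germ_res (homOfLE hle) x hxW, CommRingCat.hom_comp, ← Ideal.map_map,
      show (D.ideal V).map (U.presheaf.map (homOfLE hle).op).hom = D.ideal W from D.map_ideal (U := W) (V := V) hle, e,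
      Ideal.map_span, Set.image_singleton]

/-- The reduced complement of a dense affine open with factorial local rings is an effective Cartier divisor. -/
theorem isEffCartierIdeal_of_compl_affine {U : Scheme.{u}} [IsAffine U] [IsLocallyNoetherian U] (J : U.IdealSheafData)
    (hJred : IsReduced J.subscheme) (O : U.Opens) (hO : IsAffineOpen O) (hd : Dense (O : Set U))
    (hJ : (J.support : Set U) = (O : Set U)ᶜ)
    (hufd : ∀ x : U, IsDomain (U.presheaf.stalk x) ∧ UniqueFactorizationMonoid (U.presheaf.stalk x)) :
    _root_.BlowUp.IsEffCartierIdeal J := by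
  haveI : CompactSpace U := inferInstance
  haveI : IsNoetherian U := { }
  obtain ⟨D, hD, hDs⟩ := Groth.Agent.S1572.result U O hO hd fun x _ => hufd x
  refine Groth.Agent.S1570.result U J fun x hx V hxV => ?_
  haveI := (hufd x).1
  haveI := (hufd x).2
  obtain ⟨g, hg, hDx⟩ : ∃ g : U.presheaf.stalk x, g ∈ nonZeroDivisors (U.presheaf.stalk x) ∧
      (D.ideal V).map (U.presheaf.germ V x hxV).hom = Ideal.span {g} := stalk_generator hD x V hxV
  obtain ⟨h, hh, hrad⟩ := exists_radical_eq_span (nonZeroDivisors.ne_zero hg)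
  refine ⟨h, mem_nonZeroDivisors_of_ne_zero hh, ?_⟩
  have hJV : J.ideal V = (D.ideal V).radical := by
    have h1 : J.ideal V = (J.ideal V).radical := by
      haveI := hJred
      haveI : _root_.IsReduced Γ(J.subscheme, J.subschemeι ⁻¹ᵁ V) := inferInstance
      haveI : _root_.IsReduced (Γ(U, V) ⧸ J.ideal V) :=
        isReduced_of_injective (J.subschemeObjIso V).inv.hom
          (ConcreteCategory.bijective_of_isIso (J.subschemeObjIso V).inv).1
      exact ((Ideal.isRadical_iff_quotient_reduced _).2 inferInstance).radical.symm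
    have h2 : J.support = D.support := SetLike.coe_injective (hJ.trans hDs.symm)
    have h3 := congrArg (fun K => K.ideal V) (congrArg Scheme.IdealSheafData.vanishingIdeal h2)
    simp only [Scheme.IdealSheafData.vanishingIdeal_support, Scheme.IdealSheafData.radical_ideal] at h3
    rw [h1, h3]
  letI := (U.presheaf.germ V x hxV).hom.toAlgebra
  haveI := V.2.isLocalization_stalk ⟨x, hxV⟩
  rw [hJV]
  exact (IsLocalization.map_radical (V.2.primeIdealOf ⟨x, hxV⟩).asIdeal.primeCompl _ (D.ideal V)).trans
    (by rw [← hrad]; exact congrArg Ideal.radical hDx)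

/-- Let S be a separated scheme and X an algebraic space over S which is Noetherian, separated and
regular: X is quasi-compact, quasi-separated and separated over S, and some etale surjective chart
of X is a locally Noetherian scheme whose local rings are regular. Let T be an affine scheme with a
representable open immersion h_T ⟶ X whose image is dense in |X| (a dense affine open subspace U).
Then there is an effective Cartier divisor D ⟶ X (one-chart sense) with |D| = |X| ∖ |U|. (The
published statement asks X to be separated in the absolute sense; this row asks X separated over a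
separated base scheme S, which implies it. Separatedness over S alone does not suffice: over the
affine plane with doubled origin as S, with X = S and U one of the two affine planes, the complement
is a point of codimension 2.) -/
theorem result {S : Scheme.{u}} [S.IsSeparated] (X : AlgSp.Space S)
    (hreg : AlgSp.EtaleLocally (fun U => IsLocallyNoetherian U ∧ ∀ u : ↥U, IsRegularLocalRing ↥(U.presheaf.stalk u)) X.obj)
    (hqc : AlgSp.IsQuasiCompactSp X.obj) (hqs : AlgSp.IsQuasiSeparatedSp X.obj) (hsep : AlgSp.IsSeparatedSp X.obj)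
    (T : Over S) [IsAffine T.left] (j : (AlgSp.yon S).obj T ⟶ X.obj) (hj : AlgSp.RepWith @IsOpenImmersion j)
    (hdense : Dense (Set.range (AlgSp.Points.ofPt j))) :
    ∃ (D : AlgSp.Space S) (i : D ⟶ X), AlgSp.IsEffCartierSub i.hom ∧
      Set.range (AlgSp.Points.map i.hom) = (Set.range (AlgSp.Points.ofPt j))ᶜ := by
  have hX := X.property
  have hrange : Set.range (Points.ofPt j) = Set.range (Points.map j) := by
    ext x
    constructor
    · rintro ⟨t, rfl⟩
      exact ⟨Points.ofScheme T t, (Points.ofPt_eq_map_ofScheme j t).symm⟩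
    · rintro ⟨y, rfl⟩
      obtain ⟨t, rfl⟩ := (Points.schemeEquiv T).surjective y
      exact ⟨t, Points.ofPt_eq_map_ofScheme j t⟩
  rw [hrange] at hdense ⊢
  obtain ⟨Z, i, hZ, hi, hir, hred⟩ := exists_isRedInduced_sp hX (isOpen_range_openImmersion hj).isClosed_compl
  refine ⟨⟨Z, hZ⟩, ObjectProperty.homMk i, isEffCartierSub_of_nbhds hX hi fun z => ?_, hir⟩
  obtain ⟨ι, W, r, hW, hre, hcov, -⟩ := exists_affine_charts hX
  obtain ⟨k, w, hw⟩ := hcov (Points.map i z)
  haveI := hW k
  obtain ⟨J, p, -, sq⟩ := exists_chart_ideal hi (r k)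
  obtain ⟨O, q, sqO⟩ := exists_opens_chart hj (r k)
  have hOset := coe_opens_chart sqO
  have hOaff : IsAffineOpen O := isAffineOpen_chart hsep (r k) sqO
  have hOd : Dense (O : Set ↥(W k).left) := by
    rw [hOset]
    exact hdense.preimage (isOpenMap_ofPt_of_etale (hre k))
  have hRS := etaleLocally_chart (Q := RegularScheme) (fun A B k hk h => regularScheme_of_etale k hk h)
    (fun A B k hk hs h => by haveI := hk; haveI := hs; exact regularScheme_desc k h) hreg (r k) (hre k)
  haveI := hRS.1
  have hJred : IsReduced J.subscheme :=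
    etaleLocally_chart (Q := fun U => IsReduced U) (fun A B k hk h => isReduced_of_etale k hk h)
      (fun A B k hk hs h => isReduced_desc k hk hs h) hred p (repWith_of_isPullback sq.flip (hre k))
  have hJsupp : (J.support : Set ↥(W k).left) = (O : Set ↥(W k).left)ᶜ := by
    rw [← Scheme.IdealSheafData.range_subschemeι, hOset, ← Set.preimage_compl, ← hir, preimage_range_map sq]
    rfl
  have hJ := isEffCartierIdeal_of_compl_affine J hJred O hOaff hOd hJsupp fun x =>
    haveI := hRS.2 x; Groth.Agent.S2821.result _
  obtain ⟨O', hO', hwO, -, f, hf, hfI⟩ := exists_cartierTop hJ (W := ⊤) (x := w) trivial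
  let U : Over S := Over.mk (O'.ι ≫ (W k).hom)
  let jU : U ⟶ W k := Over.homMk O'.ι rfl
  obtain ⟨I, pI, -, sqI⟩ := exists_chart_ideal hi ((yon S).map jU ≫ r k)
  have e : I = J.comap O'.ι := by
    have := comap_eq_of_squares sqI sq (𝟙 U) jU (by rw [CategoryTheory.Functor.map_id, Category.id_comp])
    rwa [Over.id_left, Scheme.IdealSheafData.comap_id] at this
  have hUa : IsAffine U.left := hO'
  refine ⟨U, hUa, (yon S).map jU ≫ r k, ⟨w, hwO⟩, f, I, pI,
    repWith_comp ((repWith_yon_map_iff @Etale jU).2 (inferInstanceAs (Etale O'.ι))) (hre k), ?_, hf, ?_, sqI⟩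
  · rw [ofPt_map_comp]
    exact hw
  · subst e
    exact hfI

end Groth.Agent.S10800
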