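import Groth.Statements.S10805
import Groth.Agent.Lib.AlgSp.EtaleLocallyProps
import Groth.Agent.Lib.AlgSp.OpenSub
-- import your own Groth.Agent.* helpers here

set_option autoImplicit false
universe u
open CategoryTheory CategoryTheory.Limits AlgebraicGeometry Topology TopologicalSpace
open AlgSp GrothLib.AlgSp
set_option backward.isDefEq.respectTransparency false

namespace Groth.Agent.S10805

/-- Let X be a reduced algebraic space over a scheme S and x a point of |X|. Then x is a weakly
associated point of X (a weakly associated point of the structure sheaf O_X on the small etale site)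
if and only if x is a point of codimension 0 of X (for some scheme U with a representable etale h_U
⟶ X and some point u of U over x, the local ring of U at u has Krull dimension 0). -/
theorem result {S : Scheme.{u}} (X : AlgSp.Space S)
    (hX : AlgSp.IsReducedSp X.obj) [(AlgSp.unitModEt X.obj).IsQuasicoherent] (x : AlgSp.Points X.obj) :
    x ∈ AlgSp.WeakAssEt (AlgSp.unitModEt X.obj) ↔
      AlgSp.HasAt (fun U u => ringKrullDim ↥(U.presheaf.stalk u) = 0) X.obj x := by
  have key : ∀ {R : Type u} [CommRing R] [IsReduced R] (p : Ideal R) [p.IsPrime],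
      (∃ s : R, p ∈ Ideal.minimalPrimes (LinearMap.ker (LinearMap.toSpanSingleton R R s) : Ideal R)) ↔ p ∈ minimalPrimes R := by
    intro R _ _ p _
    constructor
    · rintro ⟨s, hs⟩
      refine ⟨⟨inferInstance, bot_le⟩, fun q hq hqp => ?_⟩
      by_cases hsq : s ∈ q
      · exfalso
        have hd : ¬ Disjoint ((LinearMap.ker (LinearMap.toSpanSingleton R R s) : Ideal R) : Set R)
            ((p.primeCompl ⊔ Submonoid.powers s : Submonoid R) : Set R) := fun hd => by
          obtain ⟨q', hq', hle, hdis⟩ := Ideal.exists_le_prime_disjoint _ _ hd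
          have hq'p : q' ≤ p := fun z hz => by
            by_contra hzp
            exact Set.disjoint_left.1 hdis hz (Submonoid.mem_sup_left (Ideal.mem_primeCompl_iff.2 hzp))
          exact Set.disjoint_left.1 hdis (hs.2 ⟨hq', hle⟩ hq'p (hqp hsq))
            (Submonoid.mem_sup_right (Submonoid.mem_powers s))
        obtain ⟨z, hz, hz'⟩ := Set.not_disjoint_iff.1 hd
        obtain ⟨y, hy, w, ⟨n, rfl⟩, rfl⟩ := Submonoid.mem_sup.1 hz'
        have hz0 : y * s ^ n * s = 0 := hz
        have hys : y * s = 0 := IsReduced.eq_zero _ ⟨n + 1, by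
          rw [mul_pow, pow_succ s n, pow_succ y n]
          calc y ^ n * y * (s ^ n * s) = y ^ n * (y * s ^ n * s) := by ring
            _ = 0 := by rw [hz0, mul_zero]⟩
        exact Ideal.mem_primeCompl_iff.1 hy (hs.1.2 (show y * s = 0 from hys))
      · refine hs.2 ⟨hq.1, fun a ha => ?_⟩ hqp
        have ha' : a * s = 0 := ha
        exact (hq.1.mem_or_mem (ha'.symm ▸ q.zero_mem)).resolve_right hsq
    · intro h
      refine ⟨1, ?_⟩
      have : (LinearMap.ker (LinearMap.toSpanSingleton R R 1) : Ideal R) = ⊥ := by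
        ext a
        simp
      rw [this]
      exact h
  have hdim : ∀ (U : Scheme.{u}) [IsAffine U] (u : ↥U),
      primeAtPt U u ∈ minimalPrimes Γ(U, ⊤) ↔ ringKrullDim ↥(U.presheaf.stalk u) = 0 := by
    intro U _ u
    letI := (U.presheaf.germ ⊤ u trivial).hom.toAlgebra
    haveI := (isAffineOpen_top U).isLocalization_stalk ⟨u, trivial⟩
    have hp : primeAtPt U u = ((isAffineOpen_top U).primeIdealOf ⟨u, trivial⟩).asIdeal :=
      IsLocalization.AtPrime.comap_maximalIdeal (U.presheaf.stalk u) _
    rw [IsLocalization.AtPrime.ringKrullDim_eq_height ((isAffineOpen_top U).primeIdealOf ⟨u, trivial⟩).asIdeal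
      (U.presheaf.stalk u), hp]
    exact_mod_cast (Ideal.height_eq_zero_iff (I := ((isAffineOpen_top U).primeIdealOf ⟨u, trivial⟩).asIdeal)).symm
  have hann : ∀ (E : EtOver X.obj) (s : sectModEt (unitModEt X.obj) E),
      annSect s = LinearMap.ker (LinearMap.toSpanSingleton Γ(E.obj.left.left, ⊤) Γ(E.obj.left.left, ⊤)
        (ULift.down s)) := fun E s => Ideal.ext fun a => by
    rw [mem_annSect_iff, LinearMap.mem_ker, LinearMap.toSpanSingleton_apply, smul_eq_mul]
    exact ⟨fun h => congrArg ULift.down h, fun h => ULift.ext _ _ h⟩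
  have hred : ∀ (E : EtOver X.obj), IsReduced Γ(E.obj.left.left, ⊤) := fun E => by
    haveI : AlgebraicGeometry.IsReduced E.obj.left.left :=
      etaleLocally_chart (fun _ _ e => isReduced_of_etale e) (fun _ _ e => isReduced_desc e) hX E.obj.hom E.property
    infer_instance
  constructor
  · rintro ⟨E, hE, u, hu, s, hs⟩
    haveI := hred E
    rw [hann] at hs
    exact ⟨E.obj.left, E.obj.hom, u, E.property, hu, (hdim _ u).1 ((key _).1 ⟨_, hs⟩)⟩
  · rintro ⟨U, a, u, ha, rfl, hu⟩
    obtain ⟨W, hW, huW, -⟩ := exists_isAffineOpen_mem_and_subset (x := u) (U := (⊤ : U.left.Opens)) trivial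
    let V : Over S := Over.mk (W.ι ≫ U.hom)
    let i : V ⟶ U := Over.homMk W.ι rfl
    let E : EtOver X.obj := EtOver.mk ((yon S).map i ≫ a)
      (repWith_comp ((repWith_yon_map_iff _ i).2 (inferInstanceAs (Etale W.ι))) ha)
    haveI : IsAffine E.obj.left.left := hW
    haveI := hred E
    let w : ↥E.obj.left.left := ⟨u, huW⟩
    have hw : primeAtPt E.obj.left.left w ∈ minimalPrimes Γ(E.obj.left.left, ⊤) := (hdim _ w).2
      ((ringKrullDim_eq_of_ringEquiv (asIso (W.ι.stalkMap w)).commRingCatIsoToRingEquiv).symm.trans hu)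
    obtain ⟨s, hs⟩ := (key _).2 hw
    exact ⟨E, inferInstance, w, ofPt_map_comp i a w, ULift.up s, by rw [hann]; exact hs⟩

end Groth.Agent.S10805
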