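import Groth.Statements.S10807
import Groth.Agent.Lib.Nagata6.Proper
import Groth.Agent.Lib.BlowUp.Exists
import Groth.Agent.Lib.AlgSp.CartierSub
import Groth.Agent.Lib.AlgSp.UnivClosed
import Groth.Agent.Lib.AlgSp.FppfCover
import Groth.Agent.Lib.AlgSp.FpqcProps
import Mathlib.CategoryTheory.RegularCategory.Basic

set_option autoImplicit false
universe u
open CategoryTheory CategoryTheory.Limits AlgebraicGeometry Topology TopologicalSpace
open AlgSp

namespace Groth.Agent.S10807

set_option backward.isDefEq.respectTransparency false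

/-- The ideal of a closed immersion locally of finite presentation is of finite type. -/
theorem isFiniteTypeIdeal_ker {A B : Scheme.{u}} (i : B ⟶ A) [IsClosedImmersion i]
    [LocallyOfFinitePresentation i] : _root_.BlowUp.IsFiniteTypeIdeal i.ker := fun U => by
  rw [Scheme.Hom.ker_apply]
  have h : (i.app U.1).hom.FinitePresentation := by
    rw [Scheme.Hom.app_eq_appLE]
    exact Scheme.Hom.finitePresentation_appLE i U.2 (U.2.preimage i) le_rfl
  let _ := (i.app U.1).hom.toAlgebra
  have : Algebra.FinitePresentation Γ(A, U.1) Γ(B, i ⁻¹ᵁ U.1) := h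
  exact Algebra.FinitePresentation.ker_fG_of_surjective (Algebra.ofId Γ(A, U.1) Γ(B, i ⁻¹ᵁ U.1))
    (Scheme.Hom.app_surjective i U.1 U.2)

open GrothLib.AlgSp in
theorem isProperMor_yon {S : Scheme.{u}} {A B : Over S} (k : A ⟶ B) [IsProper k.left] :
    AlgSp.IsProperMor ((AlgSp.yon S).map k) := by
  have hr : AlgSp.RepWith @IsProper ((AlgSp.yon S).map k) := (AlgSp.repWith_yon_map_iff _ k).2 ‹_›
  exact ⟨(isSeparatedMor_iff_repWith hr.1).2 (repWith_mono hr fun _ _ g (hg : IsProper g) => inferInstance),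
    ⟨EtLocal.locP_of_repWith EtLocal.lft (AlgSp.IsAlgSpace.yon_obj B)
        (repWith_mono hr fun _ _ g (hg : IsProper g) => show LocallyOfFiniteType g from inferInstance),
      isQuasiCompactMor_of_repWith (repWith_mono hr fun _ _ g (hg : IsProper g) => inferInstance)⟩,
    isUnivClosedMor_of_repWith (repWith_mono hr fun _ _ g (hg : IsProper g) => inferInstance)⟩



/-- Let X be an algebraic space over a scheme S and Z ⟶ X a closed subspace of finite presentation (its
ideal is of finite type), and let b : X' ⟶ X be the blowing up of X in Z, characterised by its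
universal property: the inverse image of Z under b is an effective Cartier divisor (one-chart sense)
and every morphism from an algebraic space to X under which the inverse image of Z is an effective
Cartier divisor factors uniquely through b. Then b is a proper morphism. -/
theorem result {S : Scheme.{u}} (X X' Z : AlgSp.Space S)
    (i : Z ⟶ X) (hi : AlgSp.RepWith (@IsClosedImmersion ⊓ @LocallyOfFinitePresentation) i.hom)
    (b : X' ⟶ X) (hb : AlgSp.IsBlowUpSp b.hom i.hom) :
    AlgSp.IsProperMor b.hom := by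
  obtain ⟨V, a, ae, as⟩ := X.property.atlas
  have hiC : AlgSp.RepWith @IsClosedImmersion i.hom := GrothLib.AlgSp.repWith_mono hi fun _ _ g hg => hg.1
  obtain ⟨I, p, -, sq⟩ := GrothLib.AlgSp.exists_chart_ideal hiC a
  have hI2 : IsClosedImmersion I.subschemeι ∧ LocallyOfFinitePresentation I.subschemeι := hi.2 _ _ _ sq
  have hIft : _root_.BlowUp.IsFiniteTypeIdeal I := by
    haveI := hI2.2
    have := isFiniteTypeIdeal_ker I.subschemeι
    rwa [I.ker_subschemeι] at this
  obtain ⟨B, β, hβ⟩ := GrothLib.BlowUp.exists_isBlowUp V.left I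
  haveI : IsProper β := GrothLib.Nagata6.isProper_of_isBlowUp hIft hβ
  let B' : Over S := Over.mk (β ≫ V.hom)
  let β' : B' ⟶ V := Over.homMk β rfl
  haveI : IsProper β'.left := ‹IsProper β›
  -- test objects over the chart
  have hcart : ∀ (U : Over S) (γ : U ⟶ V), _root_.BlowUp.IsEffCartierIdeal (I.comap γ.left) →
      AlgSp.InvImageIsEffCartier i.hom ((AlgSp.yon S).map γ ≫ a) := by
    intro U γ hU
    obtain ⟨J, q, -, sqJ⟩ := GrothLib.AlgSp.exists_chart_ideal hiC ((AlgSp.yon S).map γ ≫ a)
    have e := GrothLib.AlgSp.comap_eq_of_squares sqJ sq (𝟙 U) γ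
      (by rw [CategoryTheory.Functor.map_id, Category.id_comp])
    rw [Over.id_left, Scheme.IdealSheafData.comap_id] at e
    refine ⟨_, q, _, sqJ, GrothLib.AlgSp.repWith_of_isPullback sqJ hiC, U, 𝟙 _, J, 𝟙 _,
      AlgSp.repWith_id _ U, AlgSp.repWith_id _ U, IsPullback.of_horiz_isIso ⟨by simp⟩, e ▸ hU⟩
  obtain ⟨hbc, huniv⟩ := hb
  obtain ⟨h₀, hh₀, -⟩ := huniv (AlgSp.IsAlgSpace.yon_obj B') ((AlgSp.yon S).map β' ≫ a) (hcart B' β' hβ.1)
  have sqP := IsPullback.of_hasPullback b.hom a
  have hP : AlgSp.IsAlgSpace (pullback b.hom a) :=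
    GrothLib.AlgSp.isAlgSpace_pullback' X.property X'.property (AlgSp.IsAlgSpace.yon_obj V) b.hom a
  obtain ⟨U, c, ce, cs⟩ := hP.atlas
  obtain ⟨γ, hγ⟩ := (AlgSp.yon S).map_surjective (c ≫ pullback.snd b.hom a)
  have hγc : _root_.BlowUp.IsEffCartierIdeal (I.comap γ.left) := by
    obtain ⟨D, f₁, d, sqD, hd⟩ := hbc
    have hdC : AlgSp.RepWith @IsClosedImmersion d := GrothLib.AlgSp.repWith_of_isPullback sqD hiC
    obtain ⟨J, q, -, sqJ⟩ := GrothLib.AlgSp.exists_chart_ideal hdC (c ≫ pullback.fst b.hom a)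
    have hJ := GrothLib.AlgSp.isEffCartierIdeal_of_isEffCartierSub X'.property hd
      (GrothLib.AlgSp.repWith_comp ce (GrothLib.AlgSp.repWith_of_isPullback sqP.flip ae)) sqJ
    have e := GrothLib.AlgSp.comap_eq_of_squares (sqJ.paste_horiz sqD) sq (𝟙 U) γ
      (by rw [CategoryTheory.Functor.map_id, Category.id_comp, hγ, Category.assoc, Category.assoc, pullback.condition])
    rw [Over.id_left, Scheme.IdealSheafData.comap_id] at e
    exact e ▸ hJ
  obtain ⟨m₀, hm₀, -⟩ := hβ.2 U.left γ.left hγc
  let m : U ⟶ B' := Over.homMk m₀ (by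
    change m₀ ≫ β ≫ V.hom = U.hom
    rw [← Category.assoc, hm₀, Over.w γ])
  have hm : m ≫ β' = γ := Over.OverMorphism.ext hm₀
  -- descend to the base change
  obtain ⟨R, r₁, r₂, sqR⟩ := GrothLib.AlgSp.exists_isPullback_yon hP.diag c c
  have hre : Etale r₁.left := ce.2 _ _ _ sqR.flip
  have hr : r₁ ≫ m = r₂ ≫ m := by
    have hγr : r₁ ≫ γ = r₂ ≫ γ := (AlgSp.yon S).map_injective (by
      rw [Functor.map_comp, Functor.map_comp, hγ, ← Category.assoc, ← Category.assoc, sqR.w])
    have hc' : _root_.BlowUp.IsEffCartierIdeal (I.comap (r₁ ≫ γ).left) := by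
      rw [Over.comp_left, Scheme.IdealSheafData.comap_comp]
      exact GrothLib.BlowUp.isEffCartierIdeal_comap_of_flat r₁.left hγc
    refine Over.OverMorphism.ext ((hβ.2 R.left (r₁ ≫ γ).left hc').unique ?_ ?_)
    · change (r₁ ≫ m).left ≫ β'.left = _
      rw [← Over.comp_left, Category.assoc, hm]
    · change (r₂ ≫ m).left ≫ β'.left = _
      rw [← Over.comp_left, Category.assoc, hm, hγr]
  haveI : Sheaf.IsLocallySurjective c := GrothLib.AlgSp.chart_isLocallySurjective ce cs
  haveI : Epi c := Sheaf.epi_of_isLocallySurjective c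
  have := IsRegularEpiCategory.regularEpiOfEpi (C := AlgSp.Sp S) c
  obtain ⟨G, hG⟩ := IsRegularEpi.exists_of_isKernelPair c sqR ((AlgSp.yon S).map m)
    (by rw [← Functor.map_comp, ← Functor.map_comp, hr])
  let H : (AlgSp.yon S).obj B' ⟶ pullback b.hom a := pullback.lift h₀ ((AlgSp.yon S).map β') hh₀
  have hGs : G ≫ (AlgSp.yon S).map β' = pullback.snd b.hom a := by
    rw [← cancel_epi c, ← Category.assoc, hG, ← Functor.map_comp, hm, hγ]
  have hGH : G ≫ H = 𝟙 _ := by
    rw [← cancel_epi c, ← Category.assoc, hG, Category.comp_id]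
    refine pullback.hom_ext ?_ ?_
    · refine (huniv (AlgSp.IsAlgSpace.yon_obj U) ((AlgSp.yon S).map γ ≫ a) (hcart U γ hγc)).unique ?_ ?_
      · simp only [H, Category.assoc, pullback.lift_fst_assoc, hh₀]
        rw [← Category.assoc, ← Functor.map_comp, hm]
      · rw [hγ, Category.assoc, Category.assoc, pullback.condition]
    · rw [Category.assoc, pullback.lift_snd, ← Functor.map_comp, hm, hγ]
  have hHG : H ≫ G = 𝟙 _ := by
    obtain ⟨t, ht⟩ := (AlgSp.yon S).map_surjective (H ≫ G)
    have htβ : t ≫ β' = β' := (AlgSp.yon S).map_injective (by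
      rw [Functor.map_comp, ht, Category.assoc, hGs, pullback.lift_snd])
    rw [← ht, show t = 𝟙 B' from Over.OverMorphism.ext ((hβ.2 B β hβ.1).unique
      (congrArg CommaMorphism.left htβ) (Category.id_comp _)), CategoryTheory.Functor.map_id]
  let e : pullback b.hom a ≅ (AlgSp.yon S).obj B' := ⟨G, H, hGH, hHG⟩
  have sqB : IsPullback h₀ ((AlgSp.yon S).map β') b.hom a :=
    sqP.of_iso e (Iso.refl _) (Iso.refl _) (Iso.refl _)
      (by simp only [Iso.refl_hom, Category.comp_id]; show _ = G ≫ h₀
          rw [← pullback.lift_fst h₀ ((AlgSp.yon S).map β') hh₀, ← Category.assoc, hGH, Category.id_comp])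
      (by simp only [Iso.refl_hom, Category.comp_id]; exact hGs.symm)
      (by simp) (by simp)
  have hfp := GrothLib.AlgSp.fpqcLoc_of_atlas
    (GrothLib.AlgSp.baseChanges_and (GrothLib.AlgSp.baseChanges_diagonal _) (GrothLib.AlgSp.baseChanges_and
      (GrothLib.AlgSp.baseChanges_and (GrothLib.AlgSp.baseChanges_locP GrothLib.AlgSp.EtLocal.lft)
      GrothLib.AlgSp.baseChanges_quasiCompact) (GrothLib.AlgSp.baseChanges_univSp _))) X'.property X.property
    (GrothLib.AlgSp.repWith_mono ae fun _ _ e (_ : Etale e) => inferInstance)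
    (GrothLib.AlgSp.repWith_mono ae fun _ _ e (_ : Etale e) => inferInstance) as sqB (isProperMor_yon β')
  exact GrothLib.AlgSp.isProperMor_of_fpqcLoc X'.property X.property hfp

end Groth.Agent.S10807
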