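import Groth.Statements.S10810
import Groth.Agent.Lib.AlgSp.IdealEtLib
-- import your own Groth.Agent.* helpers here

set_option autoImplicit false
universe u
open CategoryTheory CategoryTheory.Limits AlgebraicGeometry Topology TopologicalSpace
open AlgSp

namespace Groth.Agent.S10810

/-- Let X be an algebraic space over a scheme S and F a quasi-coherent O_X-module on the small etale
site of X. Then F = 0 if and only if the set of weakly associated points of F is empty. -/
theorem result {S : Scheme.{u}} (X : AlgSp.Space S)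
    (M : AlgSp.ModEt X.obj) [M.IsQuasicoherent] :
    IsZero M ↔ AlgSp.WeakAssEt M = ∅ := by
  classical
  constructor
  · intro hM
    rw [Set.eq_empty_iff_forall_notMem]
    rintro x ⟨E, hE, u, -, s, hs⟩
    have h00 : ∀ t : AlgSp.sectModEt M E, t = 0 := fun t => by
      have h1 : ((𝟙 M : M ⟶ M).val.app (Opposite.op E)).hom t = ((0 : M ⟶ M).val.app (Opposite.op E)).hom t := by
        rw [(IsZero.iff_id_eq_zero M).1 hM]
      exact h1.trans rfl
    haveI : Subsingleton (AlgSp.sectModEt M E) := ⟨fun a b => (h00 a).trans (h00 b).symm⟩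
    have htop : AlgSp.annSect s = ⊤ :=
      (Ideal.eq_top_iff_one _).2 ((AlgSp.mem_annSect_iff s 1).2 (Subsingleton.elim _ _))
    rw [htop] at hs
    exact hs.1.1.ne_top (top_le_iff.1 hs.1.2)
  · intro hW
    have hAff : ∀ (E : AlgSp.EtOver X.obj) [IsAffine E.obj.left.left] (s : AlgSp.sectModEt M E), s = 0 := by
      intro E _ s
      by_contra hs
      have hne : AlgSp.annSect s ≠ ⊤ := fun h => hs (by
        have h1 := (AlgSp.mem_annSect_iff s 1).1 ((Ideal.eq_top_iff_one _).1 h)
        rwa [map_one, one_smul] at h1)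
      obtain ⟨p, hp⟩ := Ideal.nonempty_minimalPrimes hne
      haveI := hp.1.1
      let hU := isAffineOpen_top E.obj.left.left
      let u := hU.fromSpec.base ⟨p, hp.1.1⟩
      have hpu : AlgSp.primeAtPt E.obj.left.left u = p := by
        ext a
        have h2 : u ∈ E.obj.left.left.basicOpen a ↔ a ∉ p := by
          change (⟨p, hp.1.1⟩ : PrimeSpectrum _) ∈ hU.fromSpec ⁻¹ᵁ E.obj.left.left.basicOpen a ↔ _
          rw [hU.fromSpec_preimage_basicOpen]
          rfl
        rw [Scheme.mem_basicOpen_top] at h2
        unfold AlgSp.primeAtPt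
        rw [Ideal.mem_comap, IsLocalRing.mem_maximalIdeal, mem_nonunits_iff]
        exact not_congr h2 |>.trans not_not
      exact Set.eq_empty_iff_forall_notMem.1 hW (AlgSp.Points.ofPt E.obj.hom u)
        ⟨E, inferInstance, u, rfl, s, by rw [hpu]; exact hp⟩
    have hAll : ∀ (E : AlgSp.EtOver X.obj) (s : AlgSp.sectModEt M E), s = 0 := by
      intro E s
      have hcov : Sieve.ofArrows _ (fun W : E.obj.left.left.affineOpens => GrothLib.AlgSp.opensInc E W.1)
          ∈ AlgSp.etTop X.obj E := by
        refine AlgSp.ofArrows_mem_etTop _ _ fun x => ?_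
        obtain ⟨W, hW', hxW, -⟩ := exists_isAffineOpen_mem_and_subset (x := x) (U := (⊤ : E.obj.left.left.Opens)) trivial
        exact ⟨⟨W, hW'⟩, ⟨x, hxW⟩, rfl⟩
      refine ((((isSheaf_iff_isSheaf_of_type _ _).1 ((Presheaf.isSheaf_iff_isSheaf_forget (AlgSp.etTop X.obj) M.val.presheaf (CategoryTheory.forget AddCommGrpCat.{u+1})).1 M.isSheaf))) _ hcov).isSeparatedFor.ext ?_
      rintro E' f ⟨_, g, _, ⟨W⟩, rfl⟩
      haveI : IsAffine (GrothLib.AlgSp.opensObj E W.1).obj.left.left := W.2
      have h0 := hAff (GrothLib.AlgSp.opensObj E W.1)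
        (M.val.presheaf.map (GrothLib.AlgSp.opensInc E W.1).op s)
      have h1 : M.val.presheaf.map (GrothLib.AlgSp.opensInc E W.1).op (0 : AlgSp.sectModEt M E) = 0 :=
        map_zero (M.val.presheaf.map (GrothLib.AlgSp.opensInc E W.1).op).hom
      have h2 : M.val.presheaf.map (g ≫ GrothLib.AlgSp.opensInc E W.1).op s =
          M.val.presheaf.map (g ≫ GrothLib.AlgSp.opensInc E W.1).op 0 := by
        rw [op_comp, Functor.map_comp]
        exact congrArg (M.val.presheaf.map g.op) (h0.trans h1.symm)
      exact h2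
    refine (IsZero.iff_id_eq_zero M).2 ?_
    apply SheafOfModules.hom_ext
    refine PresheafOfModules.hom_ext (fun E => ?_)
    refine ModuleCat.hom_ext (LinearMap.ext fun s => ?_)
    exact (hAll E.unop s).trans (hAll E.unop _).symm

end Groth.Agent.S10810
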