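import Groth.Statements.S10811
import Groth.Agent.Lib.AlgSp.IdealEtLib
-- import your own Groth.Agent.* helpers here

set_option autoImplicit false
universe u
open CategoryTheory CategoryTheory.Limits AlgebraicGeometry Topology TopologicalSpace
open AlgSp
set_option backward.isDefEq.respectTransparency false

namespace Groth.Agent.S10811

/-- Let X be an algebraic space over a scheme S and 0 ⟶ F₁ ⟶ F₂ ⟶ F₃ ⟶ 0 a short exact sequence of
quasi-coherent O_X-modules on the small etale site of X. Then the weakly associated points satisfy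
WeakAss(F₂) ⊆ WeakAss(F₁) ∪ WeakAss(F₃) and WeakAss(F₁) ⊆ WeakAss(F₂). -/
theorem result {S : Scheme.{u}} (X : AlgSp.Space S)
    (C : ShortComplex (AlgSp.ModEt X.obj)) (hC : C.ShortExact)
    [C.X₁.IsQuasicoherent] [C.X₂.IsQuasicoherent] [C.X₃.IsQuasicoherent] :
    AlgSp.WeakAssEt C.X₂ ⊆ AlgSp.WeakAssEt C.X₁ ∪ AlgSp.WeakAssEt C.X₃ ∧
      AlgSp.WeakAssEt C.X₁ ⊆ AlgSp.WeakAssEt C.X₂ := by
  classical
  haveI := hC.mono_f
  let F := fun E : AlgSp.EtOver X.obj => SheafOfModules.evaluation.{u + 1} (AlgSp.OEtRing X.obj) (Opposite.op E)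
  have hinj : ∀ E, Function.Injective ((C.f.val.app (Opposite.op E)).hom) := fun E => by
    have h : Mono ((F E).map C.f) := inferInstance
    exact (ModuleCat.mono_iff_injective _).1 h
  have hex : ∀ (E : AlgSp.EtOver X.obj) (s : AlgSp.sectModEt C.X₂ E),
      (C.g.val.app (Opposite.op E)).hom s = 0 → ∃ r : AlgSp.sectModEt C.X₁ E, (C.f.val.app (Opposite.op E)).hom r = s := by
    intro E s hs
    haveI : (F E).PreservesZeroMorphisms := ⟨fun _ _ => rfl⟩
    have h : (C.map (F E)).Exact := hC.exact.map_of_mono_of_preservesKernel (F E) hC.mono_f inferInstance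
    exact (CategoryTheory.ShortComplex.moduleCat_exact_iff _).1 h s hs
  refine ⟨?_, ?_⟩
  · rintro x ⟨E, hE, u, hx, s, hs⟩
    haveI := hE
    haveI hp := hs.1.1
    set t : AlgSp.sectModEt C.X₃ E := (C.g.val.app (Opposite.op E)).hom s with ht
    have hle : AlgSp.annSect s ≤ AlgSp.annSect t := fun a ha => by
      rw [AlgSp.mem_annSect_iff] at ha ⊢
      exact ((C.g.val.app (Opposite.op E)).hom.map_smul (AlgSp.upΓ E a) s).symm.trans (by rw [ha]; exact map_zero _)
    by_cases htp : AlgSp.annSect t ≤ AlgSp.primeAtPt E.obj.left.left u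
    · exact Or.inr ⟨E, hE, u, hx, t, ⟨hp, htp⟩, fun q hq hqp => hs.2 ⟨hq.1, hle.trans hq.2⟩ hqp⟩
    · obtain ⟨a, hat, hap⟩ := SetLike.not_le_iff_exists.1 htp
      have hz : (C.g.val.app (Opposite.op E)).hom ((AlgSp.upΓ E a) • s) = 0 :=
        ((C.g.val.app (Opposite.op E)).hom.map_smul _ _).trans ((AlgSp.mem_annSect_iff t a).1 hat)
      obtain ⟨r, hr⟩ := hex E _ hz
      have hmem : ∀ b, b ∈ AlgSp.annSect r ↔ b * a ∈ AlgSp.annSect s := fun b => by
        rw [AlgSp.mem_annSect_iff, AlgSp.mem_annSect_iff, map_mul, mul_smul, ← hr]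
        constructor
        · intro h
          exact ((C.f.val.app (Opposite.op E)).hom.map_smul _ _).symm.trans (by rw [h]; exact map_zero _)
        · intro h
          exact hinj E ((((C.f.val.app (Opposite.op E)).hom.map_smul _ _).trans h).trans (map_zero _).symm)
      refine Or.inl ⟨E, hE, u, hx, r, ⟨hp, fun b hb => ?_⟩, fun q hq hqp => hs.2 ⟨hq.1, fun b hb => ?_⟩ hqp⟩
      · exact (hp.mem_or_mem (hs.1.2 ((hmem b).1 hb))).resolve_right hap
      · exact hq.2 ((hmem b).2 (Ideal.mul_mem_right a _ hb))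
  · rintro x ⟨E, hE, u, hx, s, hs⟩
    haveI := hE
    refine ⟨E, hE, u, hx, (C.f.val.app (Opposite.op E)).hom s, ?_⟩
    suffices h : AlgSp.annSect ((C.f.val.app (Opposite.op E)).hom s) = AlgSp.annSect s by rw [h]; exact hs
    ext a
    rw [AlgSp.mem_annSect_iff, AlgSp.mem_annSect_iff]
    constructor
    · intro h
      exact hinj E ((((C.f.val.app (Opposite.op E)).hom.map_smul _ _).trans h).trans (map_zero _).symm)
    · intro h
      exact ((C.f.val.app (Opposite.op E)).hom.map_smul _ _).symm.trans (by rw [h]; exact map_zero _)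

end Groth.Agent.S10811
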