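import Groth.Statements.S10812
import Groth.Agent.Lib.AlgSp.QCohCharts
import Groth.Agent.Lib.AssPts.Alg
-- import your own Groth.Agent.* helpers here

set_option autoImplicit false
universe u
open CategoryTheory CategoryTheory.Limits AlgebraicGeometry Topology TopologicalSpace
open AlgSp GrothLib.AlgSp GrothLib.AlgSp.QCohEt
set_option backward.isDefEq.respectTransparency false

namespace Groth.Agent.S10812

/-- Let X be a locally Noetherian algebraic space over a scheme S and F a coherent O_X-module on the
small etale site of X (a quasi-coherent module of finite type; on a locally Noetherian space its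
associated points are its weakly associated points). Then for every quasi-compact open subset W of
|X| the set of associated points of F contained in W is finite. -/
theorem result {S : Scheme.{u}} (X : AlgSp.Space S)
    (hX : AlgSp.IsLocNoethSp X.obj) (M : AlgSp.ModEt X.obj) [M.IsQuasicoherent] [M.IsFiniteType]
    (W : Set (AlgSp.Points X.obj)) (hWo : IsOpen W) (hWc : IsCompact W) :
    (AlgSp.WeakAssEt M ∩ W).Finite := by
  obtain ⟨n, E, hE, hcov⟩ := exists_finite_charts X.property hWc
  have hfin : ∀ i, {u : (E i).obj.left.left | upPrime (E i) u ∈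
      FlatCA.weakAss (Ob (OEt X.obj) (E i)) (Sec (O := OEt X.obj) M (E i))}.Finite := by
    intro i
    haveI := hE i
    haveI := isNoetherianRing_ob hX (hE i)
    haveI := finite_sec_of_isFiniteType M (hE i)
    rw [GrothLib.AssPts.weakAss_eq_associatedPrimes]
    refine (associatedPrimes.finite (Ob (OEt X.obj) (E i)) (Sec (O := OEt X.obj) M (E i))).preimage ?_
    intro a _ b _ h
    refine primeAtPt_injective (Ideal.comap_injective_of_surjective _ ?_ h)
    exact RingEquiv.surjective _
  refine ((Set.finite_univ (α := Fin n)).biUnion fun i _ => (hfin i).image (AlgSp.Points.ofPt (E i).obj.hom)).subset ?_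
  rintro x ⟨hx, hxW⟩
  obtain ⟨i, u, hu⟩ := hcov x hxW
  haveI := hE i
  exact Set.mem_biUnion (Set.mem_univ i)
    ⟨u, (isWeakAssOn_iff M (E i) u).1 (isWeakAssOn_of_mem X.property M hx (E i) u hu), hu⟩

end Groth.Agent.S10812
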