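import Groth.Statements.S10815
import Groth.Agent.Lib.AlgSp.QCohPush
-- import your own Groth.Agent.* helpers here

set_option autoImplicit false
universe u
open CategoryTheory CategoryTheory.Limits AlgebraicGeometry Topology TopologicalSpace
open AlgSp GrothLib.AlgSp
set_option backward.isDefEq.respectTransparency false

namespace Groth.Agent.S10815

/-- Let f : X ⟶ Y be a finite morphism of algebraic spaces over a scheme S (representable; the
representability is carried as a separate hypothesis) and F a quasi-coherent O_X-module on the small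
etale site of X, with f_*F quasi-coherent. Then WeakAss(f_*F) = f(WeakAss(F)) as subsets of |Y|. -/
theorem result {S : Scheme.{u}} (X Y : AlgSp.Space S) (f : X ⟶ Y)
    (hf : AlgSp.Representable f.hom) (hfin : AlgSp.IsFiniteMor f.hom)
    (M : AlgSp.ModEt X.obj) [M.IsQuasicoherent] [((AlgSp.pushModEt hf).obj M).IsQuasicoherent] :
    AlgSp.WeakAssEt ((AlgSp.pushModEt hf).obj M) = AlgSp.Points.map f.hom '' AlgSp.WeakAssEt M := by
  have haff : AlgSp.IsAffineMor f.hom := fun Z hZ g => by
    obtain ⟨W, i, fst, sq, hW, -⟩ := hfin hZ g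
    exact ⟨W, i, fst, sq, hW⟩
  refine QCohEt.weakAssEt_push_eq f hf haff M fun E hE => ?_
  haveI := hE
  obtain ⟨W, i, fst, sq, hW, hi⟩ := hfin hE E.obj.hom
  let e : (yon S).obj (EtOver.bcObj hf E).obj.left ≅ (yon S).obj W :=
    (EtOver.isPullback_bcObj hf E).isoIsPullback _ _ sq
  let φ := ((yon S).preimageIso e)
  have hφ : φ.hom ≫ i = EtOver.bcπ hf E := (yon S).map_injective (by
    rw [Functor.map_comp, show (yon S).map φ.hom = e.hom from (yon S).map_preimage _, IsPullback.isoIsPullback_hom_snd])
  haveI : IsFinite (EtOver.bcπ hf E).left := by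
    rw [← hφ, Over.comp_left]
    haveI : IsIso φ.hom.left := inferInstanceAs (IsIso ((Over.forget S).map φ.hom))
    infer_instance
  letI := (EtOver.bcπ hf E).left.appTop.hom.toAlgebra
  have : Module.Finite Γ(E.obj.left.left, ⊤) Γ((EtOver.bcObj hf E).obj.left.left, ⊤) :=
    RingHom.finite_algebraMap.mp ((EtOver.bcπ hf E).left.finite_app ⊤ (isAffineOpen_top _))
  intro N _ _ _ _
  exact GrothLib.AssPts.image_subset_weakAss fun p _ => Algebra.QuasiFinite.finite_primesOver p

end Groth.Agent.S10815
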