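import Groth.Statements.S10816
import Groth.Agent.Lib.AlgSp.QCohPush
import Groth.Agent.Lib.AlgSp.EtaleLocallyProps
-- import your own Groth.Agent.* helpers here

set_option autoImplicit false
universe u
open CategoryTheory CategoryTheory.Limits AlgebraicGeometry Topology TopologicalSpace
open AlgSp GrothLib.AlgSp
set_option backward.isDefEq.respectTransparency false

namespace Groth.Agent.S10816

/-- Let f : X ⟶ Y be an affine morphism of algebraic spaces over a scheme S (representable; the
representability is carried as a separate hypothesis) with X locally Noetherian, and F a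
quasi-coherent O_X-module on the small etale site of X with f_*F quasi-coherent. Then WeakAss(f_*F)
= f(WeakAss(F)) as subsets of |Y|. -/
theorem result {S : Scheme.{u}} (X Y : AlgSp.Space S) (f : X ⟶ Y)
    (hf : AlgSp.Representable f.hom) (haff : AlgSp.IsAffineMor f.hom) (hX : AlgSp.IsLocNoethSp X.obj)
    (M : AlgSp.ModEt X.obj) [M.IsQuasicoherent] [((AlgSp.pushModEt hf).obj M).IsQuasicoherent] :
    AlgSp.WeakAssEt ((AlgSp.pushModEt hf).obj M) = AlgSp.Points.map f.hom '' AlgSp.WeakAssEt M := by
  refine QCohEt.weakAssEt_push_eq f hf haff M fun E hE => ?_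
  haveI := hE
  haveI := QCohEt.isAffine_bcObj hf haff E
  haveI : IsLocallyNoetherian (EtOver.bcObj hf E).obj.left.left :=
    etaleLocally_chart (fun _ _ e => isLocallyNoetherian_of_etale e) (fun _ _ e => isLocallyNoetherian_desc e) hX
      (EtOver.bcObj hf E).obj.hom (EtOver.bcObj hf E).property
  haveI : IsNoetherianRing Γ((EtOver.bcObj hf E).obj.left.left, ⊤) :=
    IsLocallyNoetherian.component_noetherian ⟨⊤, isAffineOpen_top _⟩
  letI := (EtOver.bcπ hf E).left.appTop.hom.toAlgebra
  intro N _ _ _ _
  rw [GrothLib.AssPts.weakAss_eq_associatedPrimes (A := Γ((EtOver.bcObj hf E).obj.left.left, ⊤)),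
    ← GrothLib.AssPts.associatedPrimes_eq_image]
  intro p hp
  obtain ⟨hpp, m, hm⟩ := hp
  refine GrothLib.AssPts.mem_weakAss_iff.2 ⟨m, ?_⟩
  rw [← Ideal.radical_minimalPrimes, ← hm, Ideal.minimalPrimes_eq_subsingleton_self]
  rfl

end Groth.Agent.S10816
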