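import Groth.Statements.S10817
import Groth.Agent.Lib.AlgSp.QCohWeakAss
-- import your own Groth.Agent.* helpers here

set_option autoImplicit false
universe u
open CategoryTheory CategoryTheory.Limits AlgebraicGeometry Topology TopologicalSpace
open AlgSp GrothLib.AlgSp
set_option backward.isDefEq.respectTransparency false

namespace Groth.Agent.S10817

open TensorProduct

/-- A flat algebra does not kill an element whose annihilator lies below a prime. -/
theorem tmul_ne_zero_of_le_comap {A B M : Type*} [CommRing A] [CommRing B] [Algebra A B] [Module.Flat A B]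
    [AddCommGroup M] [Module A M] (Q : Ideal B) [Q.IsPrime] (m : M)
    (hQ : LinearMap.ker (LinearMap.toSpanSingleton A M m) ≤ Q.comap (algebraMap A B)) :
    (1 : B) ⊗ₜ[A] m ≠ 0 := by
  intro h
  let I : Ideal A := LinearMap.ker (LinearMap.toSpanSingleton A M m)
  let f : (A ⧸ I) →ₗ[A] M := Submodule.liftQ I (LinearMap.toSpanSingleton A M m) le_rfl
  have hf : Function.Injective f := LinearMap.ker_eq_bot.1 (Submodule.ker_liftQ_eq_bot _ _ _ le_rfl)
  have hz : (1 : B) ⊗ₜ[A] (Ideal.Quotient.mk I 1) = 0 :=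
    Module.Flat.lTensor_preserves_injective_linearMap f hf (by
      rw [LinearMap.lTensor_tmul, map_zero]
      show (1 : B) ⊗ₜ[A] ((1 : A) • m) = 0
      rw [one_smul]
      exact h)
  let q : (A ⧸ I) →ₐ[A] (B ⧸ Q) := Ideal.Quotient.liftₐ I (Algebra.ofId A (B ⧸ Q)) fun a ha => by
    show Ideal.Quotient.mk Q (algebraMap A B a) = 0
    rw [Ideal.Quotient.eq_zero_iff_mem]
    exact hQ ha
  have h1 := congrArg (Algebra.TensorProduct.productMap (Ideal.Quotient.mkₐ A Q) q) hz
  rw [map_zero, Algebra.TensorProduct.productMap_apply_tmul, map_one, one_mul, map_one, map_one] at h1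
  exact Ideal.IsPrime.ne_top ‹_› ((Ideal.eq_top_iff_one _).2 (Ideal.Quotient.eq_zero_iff_mem.1 (by rw [map_one]; exact h1)))

/-- Let X be an algebraic space over a scheme S and F a quasi-coherent O_X-module on the small etale
site of X. If U ⟶ X is an etale morphism from a scheme (an object of the small etale site) whose
image in |X| contains all weakly associated points of F, then the restriction map Γ(X, F) ⟶ Γ(U, F)
is injective; here Γ(X, F) is the type of compatible families of sections of F over all objects of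
the site, and the map is evaluation at U. -/
theorem result {S : Scheme.{u}} (X : AlgSp.Space S)
    (M : AlgSp.ModEt X.obj) [M.IsQuasicoherent] (E : AlgSp.EtOver X.obj)
    (hE : AlgSp.WeakAssEt M ⊆ Set.range (AlgSp.Points.ofPt E.obj.hom)) :
    Function.Injective (fun s : M.sections => PresheafOfModules.sections.eval s (Opposite.op E)) := by
  classical
  intro s t hst
  let r : ∀ F : AlgSp.EtOver X.obj, QCohEt.Sec (O := OEt X.obj) M F := fun F =>
    (show QCohEt.Sec (O := OEt X.obj) M F from s.val (Opposite.op F)) -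
      (show QCohEt.Sec (O := OEt X.obj) M F from t.val (Opposite.op F))
  have hres : ∀ {F G : AlgSp.EtOver X.obj} (g : G ⟶ F), QCohEt.mres (O := OEt X.obj) M g (r F) = r G := fun {F G} g =>
    (map_sub _ _ _).trans (congrArg₂ (fun a b : QCohEt.Sec (O := OEt X.obj) M G => a - b) (s.property g.op) (t.property g.op))
  have hE0 : r E = 0 := sub_eq_zero.2 hst
  suffices h : ∀ F : AlgSp.EtOver X.obj, r F = 0 from PresheafOfModules.sections_ext _ _ fun F => sub_eq_zero.1 (h F.unop)
  suffices haff : ∀ F : AlgSp.EtOver X.obj, IsAffine F.obj.left.left → r F = 0 by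
    intro F
    have hcov : Sieve.ofArrows _ (fun W : F.obj.left.left.affineOpens => opensInc F W.1) ∈ AlgSp.etTop X.obj F := by
      refine AlgSp.ofArrows_mem_etTop _ _ fun x => ?_
      obtain ⟨W, hW', hxW, -⟩ := exists_isAffineOpen_mem_and_subset (x := x) (U := (⊤ : F.obj.left.left.Opens)) trivial
      exact ⟨⟨W, hW'⟩, ⟨x, hxW⟩, rfl⟩
    refine QCohEt.sec_ext M hcov ?_
    rintro Z _ ⟨_, b, _, ⟨W⟩, rfl⟩
    rw [hres, map_zero, ← hres b, haff (opensObj F W.1) W.2, map_zero]
  intro F hF
  haveI := hF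
  by_contra hne
  let σ : AlgSp.sectModEt M F := r F
  have htop : AlgSp.annSect σ ≠ ⊤ := fun h => hne (by
    have h1 := (AlgSp.mem_annSect_iff σ 1).1 ((Ideal.eq_top_iff_one _).1 h)
    rwa [map_one, one_smul] at h1)
  obtain ⟨p, hp⟩ := Ideal.nonempty_minimalPrimes htop
  haveI := hp.1.1
  obtain ⟨v, hv⟩ := exists_primeAtPt_eq (U := F.obj.left.left) p
  obtain ⟨y, hy⟩ := hE ⟨F, hF, v, rfl, σ, hv.symm ▸ hp⟩
  obtain ⟨W, hW, g, g', w, rfl, -⟩ := QCohEt.exists_affine_above X.property F E v y hy.symm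
  haveI := hW
  let V : Over F := Over.mk g
  have h1 : QCohEt.theta (LinearMap.id : QCohEt.Sec (O := OEt X.obj) M F →ₗ[QCohEt.Ob (OEt X.obj) F] _) V
      ((1 : QCohEt.Ov (OEt X.obj) V) ⊗ₜ r F) = 0 := by
    rw [QCohEt.theta_tmul, LinearMap.id_apply]
    refine (one_smul (QCohEt.Ob (OEt X.obj) W) _).trans ?_
    exact ((hres g).trans (hres g').symm).trans (by rw [hE0, map_zero])
  have h2 : (1 : QCohEt.Ov (OEt X.obj) V) ⊗ₜ[QCohEt.Ob (OEt X.obj) F] r F = 0 :=
    (QCohEt.good_of_isQuasicoherent M (E := F) hF V hW).1 (h1.trans (map_zero _).symm)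
  haveI : Module.Flat (QCohEt.Ob (OEt X.obj) F) (QCohEt.Ov (OEt X.obj) V) := (QCohEt.affEt X.obj).flat g hF hW
  haveI : (show Ideal (QCohEt.Ov (OEt X.obj) V) from QCohEt.upPrime W w).IsPrime :=
    inferInstanceAs (QCohEt.upPrime W w).IsPrime
  refine tmul_ne_zero_of_le_comap (show Ideal (QCohEt.Ov (OEt X.obj) V) from QCohEt.upPrime W w) (r F) ?_ h2
  intro a ha
  have h3 : a.down ∈ AlgSp.primeAtPt F.obj.left.left (g.hom.left.left w) := by
    rw [hv]
    refine hp.1.2 ((AlgSp.mem_annSect_iff σ _).2 ?_)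
    exact ha
  rw [← comap_primeAtPt] at h3
  exact h3

end Groth.Agent.S10817
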