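import Groth.Statements.S10819
import Groth.Agent.S1232
import Groth.Agent.Lib.AlgSp.QCohWeakAss
import Groth.Agent.Lib.AlgSp.Immersion
import Groth.Agent.Lib.AlgSp.Points
import Groth.Agent.Lib.AlgSpPull29.Sections

set_option autoImplicit false
universe u
open CategoryTheory CategoryTheory.Limits AlgebraicGeometry Topology TopologicalSpace
open AlgSp

open AlgSp GrothLib.AlgSp GrothLib.AlgSp.QCohEt
set_option backward.isDefEq.respectTransparency false
namespace Groth.Agent.S10819

/-- Take a finite flat morphism f : X ⟶ Y between algebraic spaces over a scheme S (representable; the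
representability and the existence of the pullback functor f^* on modules are carried as
hypotheses), G a quasi-coherent O_Y-module on the small etale site of Y with f^*G quasi-coherent,
and x a point of |X| with image y in |Y|. Then x is a weakly associated point of f^*G if and only if
y is a weakly associated point of G. -/
theorem result {S : Scheme.{u}} (X Y : AlgSp.Space S) (f : X ⟶ Y)
    (hf : AlgSp.Representable f.hom) (hfin : AlgSp.IsFiniteMor f.hom) (hflat : AlgSp.LocP @Flat f.hom)
    [(SheafOfModules.pushforward.{u + 1} (AlgSp.bcRingHom hf)).IsRightAdjoint]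
    (G : AlgSp.ModEt Y.obj) [G.IsQuasicoherent] [((AlgSp.pullModEt hf).obj G).IsQuasicoherent]
    (x : AlgSp.Points X.obj) :
    x ∈ AlgSp.WeakAssEt ((AlgSp.pullModEt hf).obj G) ↔ AlgSp.Points.map f.hom x ∈ AlgSp.WeakAssEt G := by
  obtain ⟨E, hE, u, hu⟩ := exists_affine_chart_at Y.property (AlgSp.Points.map f.hom x)
  haveI := hE
  have hq : AlgSp.RepWith @Etale E.obj.hom := E.property
  have hqe := isEtaleMor_of_repWith _ hq
  let V := E.obj.left
  let π := hf.snd E.obj.hom
  have hfst : AlgSp.RepWith @Etale (hf.fst E.obj.hom) :=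
    MorphismProperty.of_isPullback (hf.isPullback E.obj.hom).flip hq
  have he := isEtaleMor_of_repWith _ hfst
  have hπ : AlgSp.Representable ((AlgSp.yon S).map π) := AlgSp.representable_yon_map _
  haveI : Flat π.left := hflat (hf.fst E.obj.hom) E.obj.hom π hfst hq (hf.w _)
  haveI : IsFinite π.left := by
    obtain ⟨W, i, fst, sq, hW, hi⟩ := hfin hE E.obj.hom
    let e : (yon S).obj (hf.pullback E.obj.hom) ≅ (yon S).obj W :=
      (hf.isPullback E.obj.hom).isoIsPullback _ _ sq
    let φ := ((yon S).preimageIso e)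
    have hφ : φ.hom ≫ i = π := (yon S).map_injective (by
      rw [Functor.map_comp, show (yon S).map φ.hom = e.hom from (yon S).map_preimage _, IsPullback.isoIsPullback_hom_snd])
    rw [← hφ, Over.comp_left]
    haveI : IsIso φ.hom.left := inferInstanceAs (IsIso ((Over.forget S).map φ.hom))
    infer_instance
  let T := GrothLib.AlgSpPull29.topObj V
  let A := (EtOver.bc hπ).obj T
  haveI : IsAffine T.obj.left.left := hE
  have hsq : IsPullback (EtOver.bcObj hπ T).obj.hom ((yon S).map (EtOver.bcπ hπ T)) ((yon S).map π) (𝟙 _) :=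
    EtOver.isPullback_bcObj hπ T
  haveI : IsIso (EtOver.bcObj hπ T).obj.hom := hsq.isIso_fst_of_isIso
  obtain ⟨m, hm⟩ := (yon S).map_surjective (EtOver.bcObj hπ T).obj.hom
  haveI : IsIso ((yon S).map m) := hm ▸ inferInstance
  haveI : IsIso m := isIso_of_reflects_iso m (yon S)
  haveI : IsIso m.left := inferInstanceAs (IsIso ((Over.forget S).map m))
  have hmπ : EtOver.bcπ hπ T = m ≫ π := (yon S).map_injective (by
    rw [Functor.map_comp, hm]
    exact (Category.comp_id _).symm.trans hsq.w.symm)
  haveI : IsFinite (EtOver.bcπ hπ T).left := by rw [hmπ, Over.comp_left]; infer_instance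
  haveI : Flat (EtOver.bcπ hπ T).left := by rw [hmπ, Over.comp_left]; infer_instance
  haveI hA : IsAffine A.obj.left.left := by
    exact isAffine_of_isAffineHom (EtOver.bcπ hπ T).left
  let G' := (resEt hqe).obj G
  haveI : G'.IsQuasicoherent := isQuasicoherent_res hqe G
  let H := (AlgSp.pullModEt hf).obj G
  obtain ⟨e⟩ := GrothLib.AlgSpPull29.exists_tensor_equiv hπ hE hA G' ((resEt he).obj H)
    (fun N => GrothLib.AlgSpPull29.chartHomEquiv hf hq.rep hqe hπ hfst.rep he G N)
    (fun k p => GrothLib.AlgSpPull29.chartHomEquiv_comp hf hq.rep hqe hπ hfst.rep he G k p)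
  obtain ⟨r, hr, hru⟩ := GrothLib.AlgSp.exists_ofPt_of_map_eq (hf.isPullback E.obj.hom) hu.symm
  let w : A.obj.left.left := (inv m.left) r
  have hw : (EtOver.bcπ hπ T).left w = u := by
    rw [← hru, hmπ, Over.comp_left, Scheme.Hom.comp_apply]
    show π.left ((inv m.left ≫ m.left) r) = _
    rw [IsIso.inv_hom_id]
    rfl
  let E' := (EtOver.postcomp (hf.fst E.obj.hom) he).obj A
  let T' := (EtOver.postcomp E.obj.hom hqe).obj T
  haveI : IsAffine E'.obj.left.left := hA
  haveI : IsAffine T'.obj.left.left := hE
  have hxw : AlgSp.Points.ofPt E'.obj.hom w = x := by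
    rw [← hr, show E'.obj.hom = (yon S).map m ≫ hf.fst E.obj.hom from congrArg (· ≫ _) hm.symm,
      GrothLib.AlgSp.ofPt_map_comp]
    show AlgSp.Points.ofPt _ ((inv m.left ≫ m.left) r) = _
    rw [IsIso.inv_hom_id]
    rfl
  have hyu : AlgSp.Points.ofPt T'.obj.hom u = AlgSp.Points.map f.hom x := by
    rw [show T'.obj.hom = E.obj.hom from Category.id_comp _]
    exact hu
  have key : AlgSp.IsWeakAssOn H E' w ↔ AlgSp.IsWeakAssOn G T' u := by
    rw [isWeakAssOn_iff, isWeakAssOn_iff]
    let R := Ob (OEt ((yon S).obj V)) T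
    let B := Ob (OEt ((yon S).obj (hf.pullback E.obj.hom))) A
    letI : Algebra R B := (bcF hπ T).toAlgebra
    haveI : IsAffine (EtOver.bcObj hπ T).obj.left.left := hA
    have hfin' : (EtOver.bcπ hπ T).left.appTop.hom.Finite := (EtOver.bcπ hπ T).left.finite_app ⊤ (isAffineOpen_top _)
    have hflat' : (EtOver.bcπ hπ T).left.appTop.hom.Flat := HasRingHomProperty.appTop (P := @Flat) _ inferInstance
    haveI : Module.Finite R B := RingHom.finite_algebraMap.mp
      (((RingHom.Finite.of_surjective (ULift.ringEquiv.symm : Γ((EtOver.bcObj hπ T).obj.left.left, ⊤) ≃+* ULift.{u + 1} _).toRingHom (RingEquiv.surjective _)).comp hfin').comp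
        (RingHom.Finite.of_surjective (ULift.ringEquiv : ULift.{u + 1} Γ(T.obj.left.left, ⊤) ≃+* _).toRingHom
          (RingEquiv.surjective _)) : (bcF hπ T).Finite)
    haveI : Module.Flat R B := RingHom.flat_algebraMap_iff.mp (ulift_flat hflat' : (bcF hπ T).Flat)
    haveI : (show Ideal B from upPrime E' w).IsPrime := inferInstanceAs (upPrime E' w).IsPrime
    haveI : (show Ideal R from upPrime T' u).IsPrime := inferInstanceAs (upPrime T' u).IsPrime
    haveI : (show Ideal B from upPrime E' w).LiesOver (show Ideal R from upPrime T' u) := ⟨by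
      ext a
      show a.down ∈ AlgSp.primeAtPt T.obj.left.left u ↔ _
      rw [← hw, ← comap_primeAtPt]
      exact Iff.rfl⟩
    have h := Groth.Agent.S1232.result (A := R) (B := B) (Sec (O := OEt ((yon S).obj V)) G' T)
      (show Ideal R from upPrime T' u) (show Ideal B from upPrime E' w)
    refine Iff.trans ?_ h
    have hk : ∀ z, (Submodule.span B {e z}).annihilator = (Submodule.span B {z}).annihilator := fun z => by
      ext a
      rw [Submodule.mem_annihilator_span_singleton, Submodule.mem_annihilator_span_singleton, ← map_smul,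
        LinearEquiv.map_eq_zero_iff]
    constructor
    · rintro ⟨s, hs⟩
      obtain ⟨z, rfl⟩ := e.surjective s
      exact ⟨z, (congrArg Ideal.minimalPrimes (hk z)) ▸ hs⟩
    · rintro ⟨z, hz⟩
      exact ⟨e z, (congrArg Ideal.minimalPrimes (hk z)).symm ▸ hz⟩
  constructor
  · intro hx
    exact ⟨T', inferInstance, u, hyu, key.1 (isWeakAssOn_of_mem X.property H hx E' w hxw)⟩
  · intro hx
    exact ⟨E', inferInstance, w, hxw, key.2 (isWeakAssOn_of_mem Y.property G hx T' u hyu)⟩

end Groth.Agent.S10819
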