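import Groth.Statements.S10820
import Groth.Agent.Lib.ProjDim.Inter

set_option autoImplicit false
universe u
open AlgebraicGeometry Topology TopologicalSpace
open Variety

namespace Groth.Agent.S10820

/-- For a field k, n ≥ 2 and a nonzero homogeneous polynomial f of degree d ≥ 1 in n + 1 variables, the
hypersurface V_+(f) in projective n-space over k (as a subspace of Proj of the polynomial ring
graded by degree) is connected and nonempty. -/
theorem result (k : Type u) [Field k] (n d : ℕ) (hn : 2 ≤ n)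
    (f : MvPolynomial (Fin (n + 1)) k) (hf : f.IsHomogeneous d) (hd : 0 < d) (hf0 : f ≠ 0) :
    IsConnected (ProjectiveSpectrum.zeroLocus (CohB1.polyGrading n k)
      ({f} : Set (MvPolynomial (Fin (n + 1)) k))) := by

  have hI : (Ideal.span {f}).IsHomogeneous (CohB1.polyGrading n k) :=
    GrothLib.ProjDim.isHomogeneous_span fun g hg => ⟨d, by rw [Set.mem_singleton_iff.1 hg]; exact hf⟩
  have hn1 : ringKrullDim (MvPolynomial (Fin (n + 1)) k ⧸ (⊥ : Ideal (MvPolynomial (Fin (n + 1)) k))) = ((n + 1 : ℕ) : WithBot ℕ∞) := by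
    rw [ringKrullDim_eq_of_ringEquiv (RingEquiv.quotientBot _), MvPolynomial.ringKrullDim_of_isNoetherianRing,
      ringKrullDim_eq_zero_of_field]
    simp
  have : (⊥ : Ideal (MvPolynomial (Fin (n + 1)) k)).IsPrime := Ideal.isPrime_bot
  have hdim : ∀ q ∈ (Ideal.span {f}).minimalPrimes,
      ringKrullDim (MvPolynomial (Fin (n + 1)) k ⧸ q) = (n : WithBot ℕ∞) := fun q hq => by
    refine GrothLib.ProjDim.eq_of_add_one_eq ?_
    rw [GrothLib.ProjDim.dim_add_one_eq (p := ⊥) (f := f) (by simpa using hf0) (by rwa [bot_sup_eq]), hn1]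
    push_cast
    rfl
  rw [← ProjectiveSpectrum.zeroLocus_span]
  obtain ⟨q, hq, -⟩ := Ideal.exists_minimalPrimes_le (I := Ideal.span {f}) (J := GrothLib.ProjDim.mIdeal k n)
    ((Ideal.span_singleton_le_iff_mem _).2 (hf.coeff_eq_zero (by rw [map_zero]; exact hd.ne)))
  obtain ⟨x₀, hx₀, hx₀V⟩ := GrothLib.ProjDim.exists_point_of_minimalPrime hI hq
    (by rw [hdim q hq]; exact_mod_cast (show 1 ≤ n by omega))
  set V := ProjectiveSpectrum.zeroLocus (CohB1.polyGrading n k) (Ideal.span {f} : Set (MvPolynomial (Fin (n + 1)) k)) with hV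
  have hcl : ∀ w ∈ V, closure {w} ⊆ V := fun w hw =>
    closure_minimal (Set.singleton_subset_iff.2 hw) (ProjectiveSpectrum.isClosed_zeroLocus _ _)
  have hr : ∀ z : ProjectiveSpectrum (CohB1.polyGrading n k), z.asHomogeneousIdeal.toIdeal ∈ (Ideal.span {f}).minimalPrimes →
      ((n - 1 : ℕ) : WithBot ℕ∞) ≤ topologicalKrullDim (closure {z} : Set (ProjectiveSpectrum (CohB1.polyGrading n k))) := fun z hz => by
    refine GrothLib.ProjDim.add_one_le_add_one_iff.1 ?_
    rw [GrothLib.ProjDim.dim_closure_add_one, hdim _ hz]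
    exact_mod_cast (show n - 1 + 1 ≤ n by omega)
  refine ⟨⟨x₀, hx₀V⟩, isPreconnected_of_forall x₀ fun w hw => ?_⟩
  obtain ⟨p, hp, hpw⟩ := Ideal.exists_minimalPrimes_le (show Ideal.span {f} ≤ w.asHomogeneousIdeal.toIdeal from hw)
  have := hp.1.1
  let y := GrothLib.ProjDim.mkPt p (GrothLib.ProjDim.isHomogeneous_minimalPrimes hI hp)
    (lt_of_le_of_lt hpw (GrothLib.ProjDim.lt_mIdeal w)).ne
  obtain ⟨z, hxz, hyz, -⟩ := GrothLib.ProjDim.exists_common_specialization x₀ y
    (hr x₀ (hx₀ ▸ hq)) (hr y hp) (by omega)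
  refine ⟨closure {x₀} ∪ closure {y}, Set.union_subset (hcl _ hx₀V) (hcl y hp.1.2), Or.inl (subset_closure rfl),
    Or.inr ((ProjectiveSpectrum.le_iff_mem_closure _ y w).1 hpw), ?_⟩
  exact IsPreconnected.union z (specializes_iff_mem_closure.1 hxz) (specializes_iff_mem_closure.1 hyz)
    isConnected_singleton.closure.isPreconnected isConnected_singleton.closure.isPreconnected

end Groth.Agent.S10820
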