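import Groth.Statements.S10821
import Groth.Agent.Lib.ProjDim.Inter

set_option autoImplicit false
universe u
open AlgebraicGeometry Topology TopologicalSpace
open Variety

namespace Groth.Agent.S10821

/-- For a field k and an irreducible closed subset Z of projective n-space over k, Z has codimension 1
(the longest chain of irreducible closed subsets strictly above Z has length 1) if and only if Z is
the zero set V_+(f) of an irreducible homogeneous polynomial f in n + 1 variables. -/
theorem result (k : Type u) [Field k] (n : ℕ)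
    (Z : TopologicalSpace.IrreducibleCloseds (ProjectiveSpectrum (CohB1.polyGrading n k))) :
    Order.coheight Z = 1 ↔
      ∃ (d : ℕ) (f : MvPolynomial (Fin (n + 1)) k), f.IsHomogeneous d ∧ Irreducible f ∧
        (Z : Set (ProjectiveSpectrum (CohB1.polyGrading n k))) =
          ProjectiveSpectrum.zeroLocus (CohB1.polyGrading n k) ({f} : Set (MvPolynomial (Fin (n + 1)) k)) := by
  obtain ⟨x, hx⟩ := GrothLib.ProjDim.exists_eq_closure Z.3 Z.2
  have hZ : Order.coheight Z = Order.height x := by
    have hgen : GrothLib.ProjDim.closedsOrderIso Z = OrderDual.toDual x :=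
      congrArg OrderDual.toDual ((Z.2.isGenericPoint_genericPoint Z.3).eq hx.symm)
    rw [← Order.coheight_orderIso GrothLib.ProjDim.closedsOrderIso Z, hgen]
    rfl
  rw [hZ, GrothLib.ProjDim.height_eq_one_iff]
  constructor
  · rintro ⟨d, f, hf, hirr, hxf⟩
    refine ⟨d, f, hf, hirr, hx.trans ?_⟩
    rw [GrothLib.ProjDim.closure_singleton_eq, hxf, ProjectiveSpectrum.zeroLocus_span]
  · rintro ⟨d, f, hf, hirr, hZf⟩
    refine ⟨d, f, hf, hirr, ?_⟩
    have hxf : x ∈ ProjectiveSpectrum.zeroLocus (CohB1.polyGrading n k) ({f} : Set (MvPolynomial (Fin (n + 1)) k)) := by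
      rw [← hZf]; exact hx.ge (subset_closure rfl)
    have hle : Ideal.span {f} ≤ x.asHomogeneousIdeal.toIdeal := (Ideal.span_singleton_le_iff_mem _).2 (hxf rfl)
    have : (Ideal.span {f}).IsPrime := (Ideal.span_singleton_prime hirr.ne_zero).2 (UniqueFactorizationMonoid.irreducible_iff_prime.1 hirr)
    let y : ProjectiveSpectrum (CohB1.polyGrading n k) := GrothLib.ProjDim.mkPt (Ideal.span {f})
      (GrothLib.ProjDim.isHomogeneous_span fun g hg => ⟨d, by rw [Set.mem_singleton_iff.1 hg]; exact hf⟩)
      (lt_of_le_of_lt hle (GrothLib.ProjDim.lt_mIdeal x)).ne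
    have hy : y ∈ (Z : Set (ProjectiveSpectrum (CohB1.polyGrading n k))) := by
      rw [hZf]; exact Set.singleton_subset_iff.2 (Ideal.mem_span_singleton_self f)
    exact le_antisymm ((ProjectiveSpectrum.le_iff_mem_closure _ x y).2 (hx.le hy)) hle

end Groth.Agent.S10821
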