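import Groth.Statements.S10822
import Groth.Agent.Lib.ProjDim.Inter

set_option autoImplicit false
universe u
open AlgebraicGeometry Topology TopologicalSpace
open Variety

namespace Groth.Agent.S10822

/-- Let k be a field, X an irreducible closed subset of projective n-space over k of positive dimension,
and f a homogeneous polynomial in n + 1 variables whose zero set V_+(f) is nonempty and does not
contain X. Then X meets V_+(f), and every irreducible component C of X ∩ V_+(f) has dim C + 1 = dim
X, i.e. codimension 1 in X (all maximal chains of irreducible closed subsets of X have length dim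
X). -/
theorem result (k : Type u) [Field k] (n d : ℕ)
    (X : Set (ProjectiveSpectrum (CohB1.polyGrading n k))) (hXc : IsClosed X) (hXi : IsIrreducible X)
    (hXd : 0 < topologicalKrullDim ↥X)
    (f : MvPolynomial (Fin (n + 1)) k) (hf : f.IsHomogeneous d)
    (hV : (ProjectiveSpectrum.zeroLocus (CohB1.polyGrading n k)
      ({f} : Set (MvPolynomial (Fin (n + 1)) k))).Nonempty)
    (hX : ¬ X ⊆ ProjectiveSpectrum.zeroLocus (CohB1.polyGrading n k)
      ({f} : Set (MvPolynomial (Fin (n + 1)) k))) :
    (X ∩ ProjectiveSpectrum.zeroLocus (CohB1.polyGrading n k)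
        ({f} : Set (MvPolynomial (Fin (n + 1)) k))).Nonempty ∧
      ∀ C ∈ irreducibleComponents ↥(X ∩ ProjectiveSpectrum.zeroLocus (CohB1.polyGrading n k)
          ({f} : Set (MvPolynomial (Fin (n + 1)) k))),
        topologicalKrullDim ↥C + 1 = topologicalKrullDim ↥X := by
  obtain ⟨x, rfl⟩ := GrothLib.ProjDim.exists_eq_closure hXc hXi
  have hd : 0 < d := by
    rcases Nat.eq_zero_or_pos d with rfl | h
    · obtain ⟨z, hz⟩ := hV
      exfalso
      have hm := (GrothLib.ProjDim.lt_mIdeal z).le (hz rfl)
      rw [GrothLib.ProjDim.mem_mIdeal] at hm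
      have hf0 : f = 0 := by
        rw [(MvPolynomial.totalDegree_eq_zero_iff_eq_C).1 (Nat.le_zero.1 hf.totalDegree_le)]
        rw [← MvPolynomial.constantCoeff_eq, hm, map_zero]
      exact hX fun w _ => Set.singleton_subset_iff.2 (hf0 ▸ Submodule.zero_mem _)
    · exact h
  have hfx : f ∉ x.asHomogeneousIdeal.toIdeal := fun h => hX (by
    intro w hw
    exact Set.singleton_subset_iff.2 ((ProjectiveSpectrum.le_iff_mem_closure _ x w).2 hw h))
  rw [GrothLib.ProjDim.closure_inter_zeroLocus]
  set I := x.asHomogeneousIdeal.toIdeal ⊔ Ideal.span {f}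
  have hI : I.IsHomogeneous (CohB1.polyGrading n k) := x.asHomogeneousIdeal.isHomogeneous.sup
    (GrothLib.ProjDim.isHomogeneous_span fun g hg => ⟨d, by rw [Set.mem_singleton_iff.1 hg]; exact hf⟩)
  refine ⟨?_, fun C hC => ?_⟩
  · obtain ⟨q, hq, -⟩ := Ideal.exists_minimalPrimes_le (I := I) (J := GrothLib.ProjDim.mIdeal k n)
      (sup_le (GrothLib.ProjDim.lt_mIdeal x).le ((Ideal.span_singleton_le_iff_mem _).2 (hf.coeff_eq_zero (by
        rw [map_zero]; exact hd.ne))))
    have := hq.1.1
    obtain ⟨e, he⟩ := GrothLib.ProjDim.exists_nat_dim_quotient q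
    have hq1 := GrothLib.ProjDim.dim_add_one_eq hfx hq
    have hx1 := GrothLib.ProjDim.dim_closure_add_one x
    obtain ⟨a, ha⟩ := GrothLib.ProjDim.exists_nat_dim_quotient x.asHomogeneousIdeal.toIdeal
    rw [ha, he] at hq1
    rw [ha] at hx1
    obtain ⟨z, -, hz⟩ := GrothLib.ProjDim.exists_point_of_minimalPrime hI hq (by
      rw [he]
      by_contra hlt
      have he0 : e = 0 := by
        by_contra hne
        exact hlt (by exact_mod_cast Nat.one_le_iff_ne_zero.2 hne)
      have ha1 : a = 1 := by
        have : e + 1 = a := by exact_mod_cast hq1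
        omega
      rw [ha1] at hx1
      have := GrothLib.ProjDim.eq_of_add_one_eq (b := 0) (by simpa using hx1)
      exact hXd.ne' this)
    exact ⟨z, hz⟩
  · obtain ⟨q, hq, hqd⟩ := GrothLib.ProjDim.exists_minimalPrime_of_component hI hC
    refine GrothLib.ProjDim.eq_of_add_one_eq ?_
    rw [hqd, GrothLib.ProjDim.dim_add_one_eq hfx hq, GrothLib.ProjDim.dim_closure_add_one]

end Groth.Agent.S10822
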