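import Groth.Statements.S10823
import Groth.Agent.Lib.ProjDim.Inter

set_option autoImplicit false
universe u
open AlgebraicGeometry Topology TopologicalSpace
open Variety

namespace Groth.Agent.S10823

/-- Let k be a field, X an irreducible closed subset of projective n-space over k, and f_1, …, f_r
nonzero homogeneous polynomials of positive degrees in n + 1 variables. Then every irreducible
component C of X ∩ V_+(f_1, …, f_r) has codimension at most r in X, i.e. dim X ≤ dim C + r, and if
dim X ≥ r the intersection is nonempty. -/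
theorem result (k : Type u) [Field k] (n r : ℕ)
    (X : Set (ProjectiveSpectrum (CohB1.polyGrading n k))) (hXc : IsClosed X) (hXi : IsIrreducible X)
    (f : Fin r → MvPolynomial (Fin (n + 1)) k) (d : Fin r → ℕ)
    (hf : ∀ i, (f i).IsHomogeneous (d i)) (hd : ∀ i, 0 < d i) (hf0 : ∀ i, f i ≠ 0) :
    (∀ C ∈ irreducibleComponents ↥(X ∩ ProjectiveSpectrum.zeroLocus (CohB1.polyGrading n k) (Set.range f)),
        topologicalKrullDim ↥X ≤ topologicalKrullDim ↥C + (r : WithBot ℕ∞)) ∧
      ((r : WithBot ℕ∞) ≤ topologicalKrullDim ↥X →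
        (X ∩ ProjectiveSpectrum.zeroLocus (CohB1.polyGrading n k) (Set.range f)).Nonempty) := by
  classical
  obtain ⟨x, rfl⟩ := GrothLib.ProjDim.exists_eq_closure hXc hXi
  rw [GrothLib.ProjDim.closure_inter_zeroLocus]
  set I := x.asHomogeneousIdeal.toIdeal ⊔ Ideal.span (Set.range f) with hI'
  have hI : I.IsHomogeneous (CohB1.polyGrading n k) := x.asHomogeneousIdeal.isHomogeneous.sup
    (GrothLib.ProjDim.isHomogeneous_span fun g hg => by obtain ⟨i, rfl⟩ := hg; exact ⟨d i, hf i⟩)
  have key : ∀ q ∈ I.minimalPrimes,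
      ringKrullDim (MvPolynomial (Fin (n + 1)) k ⧸ x.asHomogeneousIdeal.toIdeal) ≤
        ringKrullDim (MvPolynomial (Fin (n + 1)) k ⧸ q) + (r : WithBot ℕ∞) := fun q hq => by
    refine (GrothLib.ProjDim.dim_le_dim_add_card x.asHomogeneousIdeal.toIdeal (Finset.univ.image f)
      (q := q) (by rwa [Finset.coe_image, Finset.coe_univ, Set.image_univ])).trans ?_
    refine add_le_add le_rfl ?_
    exact_mod_cast Finset.card_image_le.trans (by simp)
  refine ⟨fun C hC => ?_, fun hr => ?_⟩
  · obtain ⟨q, hq, hqd⟩ := GrothLib.ProjDim.exists_minimalPrime_of_component hI hC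
    refine GrothLib.ProjDim.add_one_le_add_one_iff.1 ?_
    rw [GrothLib.ProjDim.dim_closure_add_one, add_right_comm, hqd]
    exact key q hq
  · obtain ⟨q, hq, -⟩ := Ideal.exists_minimalPrimes_le (I := I) (J := GrothLib.ProjDim.mIdeal k n)
      (sup_le (GrothLib.ProjDim.lt_mIdeal x).le (Ideal.span_le.2 (Set.range_subset_iff.2 fun i =>
        (hf i).coeff_eq_zero (by rw [map_zero]; exact (hd i).ne))))
    have := hq.1.1
    obtain ⟨e, he⟩ := GrothLib.ProjDim.exists_nat_dim_quotient q
    obtain ⟨a, ha⟩ := GrothLib.ProjDim.exists_nat_dim_quotient x.asHomogeneousIdeal.toIdeal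
    have h1 := GrothLib.ProjDim.add_one_le_add_one_iff.2 hr
    rw [GrothLib.ProjDim.dim_closure_add_one, ha] at h1
    have h2 := key q hq
    rw [ha, he] at h2
    have h1' : r + 1 ≤ a := by exact_mod_cast h1
    have h2' : a ≤ e + r := by exact_mod_cast h2
    obtain ⟨z, -, hz⟩ := GrothLib.ProjDim.exists_point_of_minimalPrime hI hq
      (by rw [he]; exact_mod_cast (show 1 ≤ e by omega))
    exact ⟨z, hz⟩

end Groth.Agent.S10823
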