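import Groth.Statements.S10826
import Groth.Agent.Lib.AdicFS.PowerSeries

set_option autoImplicit false
open CAlg

namespace Groth.Agent.S10826

open MvPowerSeries GrothLib.AdicFS in
theorem coeff_eq_zero_of_mem_pow {R : Type*} [CommRing R] {n : ℕ} :
    ∀ (k : ℕ) (f : MvPowerSeries (Fin n) R),
      f ∈ RingHom.ker (constantCoeff : MvPowerSeries (Fin n) R →+* R) ^ k →
      ∀ d : Fin n →₀ ℕ, d.degree < k → coeff d f = 0 := by
  classical
  intro k
  induction k with
  | zero => intro f _ d hd; omega
  | succ k ih =>
    intro f hf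
    rw [pow_succ] at hf
    induction hf using Submodule.mul_induction_on' with
    | mem_mul_mem a ha b hb =>
      intro d hd
      rw [coeff_mul]
      refine Finset.sum_eq_zero fun p hp => ?_
      rw [Finset.mem_antidiagonal] at hp
      rcases eq_or_ne p.2 0 with h | h
      · have : coeff p.2 b = 0 := by rw [h, coeff_zero_eq_constantCoeff_apply]; exact hb
        rw [this, mul_zero]
      · have h1 : 0 < p.2.degree :=
          Nat.pos_of_ne_zero fun h0 => h ((Finsupp.degree_eq_zero_iff _).1 h0)
        have h2 : p.1.degree + p.2.degree = d.degree := by rw [← hp, map_add]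
        rw [ih a ha p.1 (by omega), zero_mul]
    | add a _ b _ iha ihb => intro d hd; rw [map_add, iha d hd, ihb d hd, add_zero]

open MvPowerSeries GrothLib.AdicFS in
theorem mem_pow_iff {R : Type*} [CommRing R] {n : ℕ} (k : ℕ) (f : MvPowerSeries (Fin n) R) :
    f ∈ RingHom.ker (constantCoeff : MvPowerSeries (Fin n) R →+* R) ^ k ↔
      ∀ d : Fin n →₀ ℕ, d.degree < k → coeff d f = 0 := by
  refine ⟨coeff_eq_zero_of_mem_pow k f, fun h => ?_⟩
  have h0 : truncTotal k f = 0 := by
    ext d
    rw [MvPolynomial.coeff_zero]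
    by_cases hd : Finsupp.degree d < k
    · rw [coeff_truncTotal _ hd]; exact h d hd
    · exact coeff_truncTotal_eq_zero _ (not_lt.1 hd)
  have := sub_truncTotal_mem f k
  rwa [h0, map_zero, sub_zero, ← ker_constantCoeff] at this

/-- Let R be a commutative ring, n ≥ 1, and φ an R-algebra homomorphism from the power series ring in n
variables over R to itself that sends each variable to a power series without constant term. If the
Jacobian matrix at the origin, whose (i, j) entry is the coefficient of X_j in φ(X_i), has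
invertible determinant in R, then φ is an isomorphism (bijective). -/
theorem result
    (R : Type*) [CommRing R] (n : ℕ) (hn : 1 ≤ n)
    (φ : MvPowerSeries (Fin n) R →ₐ[R] MvPowerSeries (Fin n) R)
    (h0 : ∀ i, MvPowerSeries.constantCoeff (φ (MvPowerSeries.X i)) = 0)
    (hJ : IsUnit (Matrix.det (Matrix.of fun i j : Fin n =>
      MvPowerSeries.coeff (Finsupp.single j 1) (φ (MvPowerSeries.X i))))) :
    Function.Bijective φ := by
  classical
  let m : Ideal (MvPowerSeries (Fin n) R) := RingHom.ker MvPowerSeries.constantCoeff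
  let J : Matrix (Fin n) (Fin n) R := Matrix.of fun i j : Fin n =>
      MvPowerSeries.coeff (Finsupp.single j 1) (φ (MvPowerSeries.X i))
  have hφm : ∀ f ∈ m, φ f ∈ m := by
    have h : m ≤ Ideal.comap φ.toRingHom m := by
      show RingHom.ker _ ≤ _
      rw [GrothLib.AdicFS.ker_constantCoeff, GrothLib.AdicFS.varsIdeal, MvPolynomial.idealOfVars,
        Ideal.map_span, Ideal.span_le]
      rintro _ ⟨_, ⟨i, rfl⟩, rfl⟩
      rw [SetLike.mem_coe, Ideal.mem_comap, MvPowerSeries.algebraMap_apply']
      simpa [m] using h0 i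
    exact fun f hf => h hf
  have hφpow : ∀ k, m ^ k ≤ Ideal.comap φ.toRingHom (m ^ k) := fun k => by
    refine (Ideal.pow_right_mono (show m ≤ Ideal.comap φ.toRingHom m from fun f hf => hφm f hf) k).trans ?_
    exact Ideal.le_comap_pow _ k
  have hstep : ∀ k, 1 ≤ k → ∀ f ∈ m, ∃ g ∈ m, f - φ g ∈ m ^ k := by
    intro k hk
    induction k, hk using Nat.le_induction with
    | base => exact fun f hf => ⟨0, zero_mem _, by simpa using hf⟩
    | succ k hk ih =>
      have hsq : ∀ f ∈ m ^ 2, ∃ g ∈ m, f - φ g ∈ m ^ (k + 1) := by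
        intro f hf
        rw [pow_two] at hf
        induction hf using Submodule.mul_induction_on' with
        | mem_mul_mem a ha b hb =>
          obtain ⟨u, hu, hu'⟩ := ih a ha
          obtain ⟨v, hv, hv'⟩ := ih b hb
          refine ⟨u * v, Ideal.mul_mem_right _ _ hu, ?_⟩
          rw [map_mul, show a * b - φ u * φ v = (a - φ u) * b + φ u * (b - φ v) by ring]
          refine add_mem ?_ ?_
          · rw [pow_succ]; exact Ideal.mul_mem_mul hu' hb
          · rw [pow_succ']; exact Ideal.mul_mem_mul (hφm u hu) hv'
        | add a _ b _ iha ihb =>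
          obtain ⟨u, hu, hu'⟩ := iha
          obtain ⟨v, hv, hv'⟩ := ihb
          exact ⟨u + v, add_mem hu hv, by rw [map_add, add_sub_add_comm]; exact add_mem hu' hv'⟩
      intro f hf
      let c : Fin n → R := fun j => MvPowerSeries.coeff (Finsupp.single j 1) f
      let a : Fin n → R := Matrix.vecMul c J⁻¹
      let g : MvPowerSeries (Fin n) R := ∑ i, a i • MvPowerSeries.X i
      have hg : g ∈ m := by
        show MvPowerSeries.constantCoeff g = 0
        simp [g, map_sum]
      have hg2 : f - φ g ∈ m ^ 2 := by
        rw [mem_pow_iff]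
        intro d hd
        rcases (show d.degree = 0 ∨ d.degree = 1 by omega) with hd | hd
        · rw [(Finsupp.degree_eq_zero_iff d).1 hd, MvPowerSeries.coeff_zero_eq_constantCoeff_apply,
            map_sub]
          simp only [show MvPowerSeries.constantCoeff f = 0 from hf,
            show MvPowerSeries.constantCoeff (φ g) = 0 from hφm g hg, sub_zero]
        · obtain ⟨j, rfl⟩ : ∃ j, d = Finsupp.single j 1 := by
            obtain ⟨j, hj⟩ : ∃ j, d j ≠ 0 := by
              by_contra hc
              push Not at hc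
              rw [show d = 0 from Finsupp.ext hc, map_zero] at hd
              exact zero_ne_one hd
            refine ⟨j, ?_⟩
            have hle : Finsupp.single j 1 ≤ d := Finsupp.single_le_iff.2 (Nat.one_le_iff_ne_zero.2 hj)
            obtain ⟨e, rfl⟩ := exists_add_of_le hle
            rw [map_add, Finsupp.degree_single] at hd
            rw [(Finsupp.degree_eq_zero_iff e).1 (by omega), add_zero]
          have h1 : MvPowerSeries.coeff (Finsupp.single j 1) (φ g) = Matrix.vecMul a J j := by
            simp [g, map_sum, Matrix.vecMul, dotProduct, J]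
          rw [map_sub, h1, Matrix.vecMul_vecMul, Matrix.nonsing_inv_mul J hJ, Matrix.vecMul_one,
            sub_self]
      obtain ⟨g', hg', h'⟩ := hsq _ hg2
      exact ⟨g + g', add_mem hg hg', by rwa [map_add, ← sub_sub]⟩
  have hsurj : ∀ k y, ∃ x, y - φ x ∈ m ^ k := by
    intro k y
    rcases Nat.eq_zero_or_pos k with rfl | hk
    · exact ⟨0, by simp⟩
    obtain ⟨g, _, hg'⟩ := hstep k hk
      (y - algebraMap R (MvPowerSeries (Fin n) R) (MvPowerSeries.constantCoeff y))
      (by show MvPowerSeries.constantCoeff _ = 0; simp [MvPowerSeries.algebraMap_apply])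
    refine ⟨algebraMap R _ (MvPowerSeries.constantCoeff y) + g, ?_⟩
    rwa [map_add, AlgHom.commutes, ← sub_sub]
  let φk : ∀ k, (MvPowerSeries (Fin n) R ⧸ m ^ k) →ₐ[R] MvPowerSeries (Fin n) R ⧸ m ^ k :=
    fun k => Ideal.quotientMapₐ _ φ (hφpow k)
  have hbij : ∀ k, Function.Bijective (φk k) := by
    intro k
    have hs : Function.Surjective (φk k) := by
      intro y
      obtain ⟨y, rfl⟩ := Ideal.Quotient.mk_surjective y
      obtain ⟨x, hx⟩ := hsurj k y
      exact ⟨Ideal.Quotient.mk _ x, (Ideal.Quotient.eq.2 hx).symm⟩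
    haveI : Module.Finite R (MvPowerSeries (Fin n) R ⧸ m ^ k) := by
      let P := MvPolynomial.restrictTotalDegree (Fin n) R k
      let ι : P →ₗ[R] (MvPowerSeries (Fin n) R ⧸ m ^ k) :=
        ((Ideal.Quotient.mkₐ R (m ^ k)).comp
          (IsScalarTower.toAlgHom R (MvPolynomial (Fin n) R) (MvPowerSeries (Fin n) R))).toLinearMap.comp
          P.subtype
      refine Module.Finite.of_surjective ι ?_
      intro y
      obtain ⟨y, rfl⟩ := Ideal.Quotient.mk_surjective y
      refine ⟨⟨MvPowerSeries.truncTotal k y, ?_⟩, ?_⟩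
      · rw [MvPolynomial.mem_restrictTotalDegree]
        refine Finset.sup_le fun d hd => ?_
        by_contra hc
        exact (MvPolynomial.mem_support_iff.1 hd) (MvPowerSeries.coeff_truncTotal_eq_zero _ (by
          have : d.degree = d.sum fun _ e => e := rfl
          omega))
      · refine (Ideal.Quotient.eq.2 ?_).symm
        show y - _ ∈ m ^ k
        have := GrothLib.AdicFS.sub_truncTotal_mem y k
        rw [← GrothLib.AdicFS.ker_constantCoeff] at this
        exact this
    exact ⟨OrzechProperty.injective_of_surjective_endomorphism (φk k).toLinearMap hs, hs⟩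
  have hker : ∀ k x, φ x ∈ m ^ k → x ∈ m ^ k := by
    intro k x hx
    rw [← Ideal.Quotient.eq_zero_iff_mem]
    apply (hbij k).1
    rw [map_zero]
    exact Ideal.Quotient.eq_zero_iff_mem.2 hx
  refine ⟨(injective_iff_map_eq_zero φ).2 fun x hx => ?_, fun y => ?_⟩
  · ext d
    rw [map_zero]
    exact (mem_pow_iff (d.degree + 1) x).1 (hker _ x (by rw [hx]; exact zero_mem _)) d (by omega)
  · choose x hx using fun k => hsurj k y
    refine ⟨fun d => MvPowerSeries.coeff d (x (d.degree + 1)), ?_⟩
    ext d
    set z : MvPowerSeries (Fin n) R := fun d => MvPowerSeries.coeff d (x (d.degree + 1))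
    have hz : z - x (d.degree + 1) ∈ m ^ (d.degree + 1) := by
      rw [mem_pow_iff]
      intro e he
      rw [map_sub, sub_eq_zero]
      show MvPowerSeries.coeff e (x (e.degree + 1)) = _
      have h1 : φ (x (e.degree + 1) - x (d.degree + 1)) ∈ m ^ (e.degree + 1) := by
        rw [map_sub, show φ (x (e.degree + 1)) - φ (x (d.degree + 1)) =
          (y - φ (x (d.degree + 1))) - (y - φ (x (e.degree + 1))) by ring]
        exact sub_mem (Ideal.pow_le_pow_right (by omega) (hx _)) (hx _)
      have h2 := (mem_pow_iff _ _).1 (hker _ _ h1) e (by omega)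
      rwa [map_sub, sub_eq_zero] at h2
    have h3 : φ z - y ∈ m ^ (d.degree + 1) := by
      rw [show φ z - y = φ (z - x (d.degree + 1)) - (y - φ (x (d.degree + 1))) by rw [map_sub]; ring]
      exact sub_mem (hφpow _ hz) (hx _)
    have h4 := (mem_pow_iff _ _).1 h3 d (by omega)
    rwa [map_sub, sub_eq_zero] at h4

end Groth.Agent.S10826
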