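import Groth.Statements.S10827
import Groth.Agent.Lib.BezoutAff.Basic
-- import your own Groth.Agent.* helpers here

set_option autoImplicit false
universe u
open Variety

namespace Groth.Agent.S10827

/-- Let k be a field and f, g nonzero homogeneous polynomials of positive degrees n and m in three
variables X, Y, T without common non-unit factor, and assume that f(X, Y, 0) and g(X, Y, 0) are also
without common non-unit factor in k[X, Y] (no common point of the two curves lies on the line T =
0). Then the quotient of k[X, Y] by the ideal generated by f(X, Y, 1) and g(X, Y, 1) has dimension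
n·m over k. (The published statement is that two plane curves without common component have total
intersection number equal to the product of their degrees; its argument moves a line off the
finitely many common points and then proves exactly this affine count, which is what this row
states, over an arbitrary field.) -/
theorem result (k : Type u) [Field k] (n m : ℕ)
    (f g : MvPolynomial (Fin 3) k) (hf : f.IsHomogeneous n) (hg : g.IsHomogeneous m)
    (hn : 0 < n) (hm : 0 < m) (hf0 : f ≠ 0) (hg0 : g ≠ 0) (hfg : IsRelPrime f g)
    (hT : IsRelPrime
      (MvPolynomial.aeval (Fin.cons (MvPolynomial.X 0) (Fin.cons (MvPolynomial.X 1)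
        (Fin.cons 0 Fin.elim0)) : Fin 3 → MvPolynomial (Fin 2) k) f)
      (MvPolynomial.aeval (Fin.cons (MvPolynomial.X 0) (Fin.cons (MvPolynomial.X 1)
        (Fin.cons 0 Fin.elim0)) : Fin 3 → MvPolynomial (Fin 2) k) g)) :
    Module.finrank k (MvPolynomial (Fin 2) k ⧸ Ideal.span
      ({MvPolynomial.aeval (Fin.cons (MvPolynomial.X 0) (Fin.cons (MvPolynomial.X 1)
          (Fin.cons 1 Fin.elim0)) : Fin 3 → MvPolynomial (Fin 2) k) f,
        MvPolynomial.aeval (Fin.cons (MvPolynomial.X 0) (Fin.cons (MvPolynomial.X 1)
          (Fin.cons 1 Fin.elim0)) : Fin 3 → MvPolynomial (Fin 2) k) g} :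
        Set (MvPolynomial (Fin 2) k))) = n * m := by
  have hg1 : GrothLib.BezoutAff.atInf k g ≠ 0 := by
    intro h0
    have hu : IsUnit (GrothLib.BezoutAff.atInf k f) := hT dvd_rfl ⟨0, h0.trans (mul_zero _).symm⟩
    have hc : MvPolynomial.constantCoeff (GrothLib.BezoutAff.atInf k f) = MvPolynomial.constantCoeff f := by
      have h1 : MvPolynomial.constantCoeff.comp (GrothLib.BezoutAff.atInf k).toRingHom =
          (MvPolynomial.constantCoeff : MvPolynomial (Fin 3) k →+* k) :=
        MvPolynomial.ringHom_ext (fun c => by simp [GrothLib.BezoutAff.atInf]) fun i => by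
          fin_cases i
          · simp [GrothLib.BezoutAff.atInf]
          · simp [GrothLib.BezoutAff.atInf]
          · show MvPolynomial.constantCoeff (GrothLib.BezoutAff.atInf k (MvPolynomial.X 2)) = _
            rw [show GrothLib.BezoutAff.atInf k (MvPolynomial.X 2) = 0 from (MvPolynomial.aeval_X _ _).trans rfl,
              map_zero, MvPolynomial.constantCoeff_X]
      exact RingHom.congr_fun h1 f
    have h2 := hu.map MvPolynomial.constantCoeff
    rw [hc, MvPolynomial.constantCoeff_eq, hf.coeff_eq_zero (by simpa using hn.ne)] at h2
    exact not_isUnit_zero h2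
  exact GrothLib.BezoutAff.main f g hf hg hg0 hfg hT hg1

end Groth.Agent.S10827
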