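import Groth.Agent.Lib.AffDom.PointDim

set_option autoImplicit false
universe u
open CategoryTheory AlgebraicGeometry
open TopologicalSpace

namespace Groth.Agent.S10828

open GrothLib in
lemma exists_point {k K : Type u} [Field k] [Field K] [Algebra k K] {X : Scheme.{u}}
    (f : X ⟶ Spec (CommRingCat.of k)) (p : Spec (CommRingCat.of K) ⟶ X)
    (hp : p ≫ f = Spec.map (CommRingCat.ofHom (algebraMap k K))) :
    ∃ φ : X.residueField (p.base (IsLocalRing.closedPoint K)) ⟶ CommRingCat.of K,
      p = Spec.map φ ≫ X.fromSpecResidueField _ ∧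
        φ.hom.comp (AffDom.toRes f (p.base (IsLocalRing.closedPoint K))) = algebraMap k K := by
  obtain ⟨⟨x, φ⟩, rfl⟩ := (Scheme.SpecToEquivOfField K X).symm.surjective p
  change X.residueField x ⟶ CommRingCat.of K at φ
  have hx : (Spec.map φ ≫ X.fromSpecResidueField x).base (IsLocalRing.closedPoint K) = x :=
    Scheme.fromSpecResidueField_apply x _
  change (Spec.map φ ≫ X.fromSpecResidueField x) ≫ f = _ at hp
  refine ⟨(X.residueFieldCongr hx).hom ≫ φ, ?_, ?_⟩
  · show Spec.map φ ≫ X.fromSpecResidueField x = _
    rw [Spec.map_comp, Category.assoc]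
    exact congrArg (Spec.map φ ≫ ·) (Scheme.residueFieldCongr_fromSpecResidueField hx).symm
  · suffices h : CommRingCat.ofHom (AffDom.toRes f ((Spec.map φ ≫ X.fromSpecResidueField x).base
        (IsLocalRing.closedPoint K))) ≫ (X.residueFieldCongr hx).hom ≫ φ =
        CommRingCat.ofHom (algebraMap k K) from congrArg CommRingCat.Hom.hom h
    apply Spec.map_injective
    rw [Spec.map_comp, Spec.map_comp, AffDom.SpecMap_toRes, Category.assoc,
      Scheme.residueFieldCongr_fromSpecResidueField_assoc, ← Category.assoc, hp]

open GrothLib in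
lemma isAlgebraic_of_isClosed {k : Type u} [Field k] {X : Scheme.{u}}
    (f : X ⟶ Spec (CommRingCat.of k)) [LocallyOfFiniteType f] (x : X) :
    IsClosed ({x} : Set X) ↔
      (letI := (AffDom.toRes f x).toAlgebra; Algebra.IsAlgebraic k (X.residueField x)) := by
  letI := (AffDom.toRes f x).toAlgebra
  haveI : FaithfulSMul k (X.residueField x) :=
    (faithfulSMul_iff_algebraMap_injective _ _).2 (RingHom.injective _)
  obtain ⟨n, hn, hn'⟩ := AffDom.exists_dim_closure f x
  have hn'' : Algebra.trdeg k (X.residueField x) = n := hn'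
  constructor
  · intro h
    rw [← trdeg_eq_zero_iff, hn'']
    rw [h.closure_eq] at hn
    have : topologicalKrullDim ({x} : Set X) ≤ 0 :=
      Order.krullDim_nonpos_iff_forall_isMax.2 fun a b _ => by
        have key : ∀ c : IrreducibleCloseds ({x} : Set X), (c : Set ({x} : Set X)) = Set.univ := fun c =>
          Set.eq_univ_of_forall fun z => by
            obtain ⟨w, hw⟩ := c.isIrreducible.nonempty
            rwa [Subsingleton.elim z w]
        exact (SetLike.coe_injective ((key b).trans (key a).symm)).le
    rw [hn] at this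
    exact_mod_cast (Nat.le_zero.1 (by exact_mod_cast this) : n = 0)
  · intro h
    rw [trdeg_eq_zero] at hn''
    have h0 : n = 0 := by exact_mod_cast hn''.symm
    subst h0
    have hs := GrothLib.Dim.subsingleton_of_dim_eq_zero isClosed_closure isIrreducible_singleton.closure hn.le
    rw [← closure_eq_iff_isClosed]
    exact Set.Subset.antisymm (fun y hy => hs hy (subset_closure rfl)) subset_closure


/-- Let k be a field, K an algebraic closure of k with its group G of k-automorphisms, and X a k-scheme
locally of finite type. The map sending a K-valued point of X over k to its image point identifies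
the closed points of X with the G-orbits in X(K): a point is closed if and only if it is the image
of some K-valued point, and two K-valued points have the same image if and only if one is obtained
from the other by composing with Spec of a k-automorphism of K. -/
theorem result (k K : Type u) [Field k] [Field K]
    [Algebra k K] [IsAlgClosure k K] {X : Scheme.{u}} (f : X ⟶ Spec (CommRingCat.of k))
    [LocallyOfFiniteType f] :
    (∀ x : X, IsClosed ({x} : Set X) ↔
        ∃ p : Spec (CommRingCat.of K) ⟶ X, p ≫ f = Spec.map (CommRingCat.ofHom (algebraMap k K)) ∧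
          p.base (IsLocalRing.closedPoint K) = x) ∧
      ∀ p q : Spec (CommRingCat.of K) ⟶ X,
        p ≫ f = Spec.map (CommRingCat.ofHom (algebraMap k K)) →
        q ≫ f = Spec.map (CommRingCat.ofHom (algebraMap k K)) →
          (p.base (IsLocalRing.closedPoint K) = q.base (IsLocalRing.closedPoint K) ↔
            ∃ σ : K ≃ₐ[k] K, q = Spec.map (CommRingCat.ofHom σ.toRingHom) ≫ p) := by
  haveI : IsAlgClosed K := IsAlgClosure.isAlgClosed k
  haveI : Algebra.IsAlgebraic k K := IsAlgClosure.isAlgebraic
  refine ⟨fun x => ⟨fun hx => ?_, ?_⟩, fun p q hp hq => ⟨fun hpq => ?_, ?_⟩⟩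
  · letI := (GrothLib.AffDom.toRes f x).toAlgebra
    haveI : Algebra.IsAlgebraic k (X.residueField x) := (isAlgebraic_of_isClosed f x).1 hx
    let φ : X.residueField x →ₐ[k] K := IsAlgClosed.lift
    refine ⟨Spec.map (CommRingCat.ofHom φ.toRingHom) ≫ X.fromSpecResidueField x, ?_,
      Scheme.fromSpecResidueField_apply x _⟩
    rw [Category.assoc, ← GrothLib.AffDom.SpecMap_toRes (K := k), ← Spec.map_comp]
    congr 1
    ext c
    exact φ.commutes c
  · rintro ⟨p, hp, rfl⟩
    obtain ⟨φ, -, hφ⟩ := exists_point f p hp
    rw [isAlgebraic_of_isClosed f]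
    letI := (GrothLib.AffDom.toRes f (p.base (IsLocalRing.closedPoint K))).toAlgebra
    let φa : X.residueField (p.base (IsLocalRing.closedPoint K)) →ₐ[k] K :=
      { φ.hom with commutes' := fun c => RingHom.congr_fun hφ c }
    exact ⟨fun z => (isAlgebraic_algHom_iff φa φa.injective).1 (Algebra.IsAlgebraic.isAlgebraic (φa z))⟩
  · obtain ⟨φ, hp1, hφ⟩ := exists_point f p hp
    obtain ⟨ψ, hq1, hψ⟩ := exists_point f q hq
    revert ψ
    rw [← hpq]
    intro ψ hq1 hψ
    letI := (GrothLib.AffDom.toRes f (p.base (IsLocalRing.closedPoint K))).toAlgebra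
    let φa : X.residueField (p.base (IsLocalRing.closedPoint K)) →ₐ[k] K :=
      { φ.hom with commutes' := fun c => RingHom.congr_fun hφ c }
    let ψa : X.residueField (p.base (IsLocalRing.closedPoint K)) →ₐ[k] K :=
      { ψ.hom with commutes' := fun c => RingHom.congr_fun hψ c }
    letI : Algebra (X.residueField (p.base (IsLocalRing.closedPoint K))) K := φa.toRingHom.toAlgebra
    haveI : IsScalarTower k (X.residueField (p.base (IsLocalRing.closedPoint K))) K :=
      IsScalarTower.of_algebraMap_eq fun c => (φa.commutes c).symm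
    haveI : Normal k K := normal_iff.2 fun z =>
      ⟨(Algebra.IsAlgebraic.isAlgebraic z).isIntegral, IsAlgClosed.splits _⟩
    let σ : K ≃ₐ[k] K := AlgEquiv.ofBijective (ψa.liftNormal K) (AlgHom.normal_bijective k K K _)
    refine ⟨σ, ?_⟩
    rw [hp1, hq1, ← Category.assoc, ← Spec.map_comp]
    congr 2
    ext z
    exact (AlgHom.liftNormal_commutes ψa K z).symm
  · rintro ⟨σ, rfl⟩
    show _ = p.base ((Spec.map (CommRingCat.ofHom σ.toRingHom)).base (IsLocalRing.closedPoint K))
    congr 1
    exact Subsingleton.elim (α := PrimeSpectrum K) _ _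

end Groth.Agent.S10828
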