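import Groth.Statements.S10830
import Groth.Agent.Lib.NoethTop.KrullDim

set_option autoImplicit false
universe u
open Topology TopologicalSpace
open TopDim

namespace Groth.Agent.S10830

/-- In an irreducible topological space X of finite Krull dimension, every proper closed subset Y has
strictly smaller Krull dimension than X. -/
theorem result (X : Type u) [TopologicalSpace X]
    [IrreducibleSpace X] (hfin : topologicalKrullDim X ≠ ⊤) (Y : Set X) (hY : IsClosed Y) (hYX : Y ≠ Set.univ) :
    topologicalKrullDim ↥Y < topologicalKrullDim X := by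
  rcases isEmpty_or_nonempty (TopologicalSpace.IrreducibleCloseds Y) with hemp | hne
  · rw [show topologicalKrullDim Y = ⊥ from Order.krullDim_eq_bot_iff.2 hemp, bot_lt_iff_ne_bot]
    intro h
    exact (Order.krullDim_eq_bot_iff.1 h).false
      ⟨Set.univ, IrreducibleSpace.isIrreducible_univ X, isClosed_univ⟩
  have h0 : (0 : WithBot ℕ∞) ≤ topologicalKrullDim Y := Order.krullDim_nonneg_iff.2 hne
  have hle : topologicalKrullDim Y ≤ topologicalKrullDim X := topologicalKrullDim_subspace_le X Y
  obtain ⟨d, hd⟩ : ∃ d : ℕ, topologicalKrullDim Y = (d : WithBot ℕ∞) := by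
    have hne_top : topologicalKrullDim Y ≠ ⊤ := fun h => hfin (top_le_iff.1 (h ▸ hle))
    revert h0 hne_top
    generalize topologicalKrullDim Y = a
    intro h0 hne_top
    match a with
    | ⊥ => exact absurd h0 (by simp)
    | (⊤ : ℕ∞) => exact absurd rfl hne_top
    | ((d : ℕ) : ℕ∞) => exact ⟨d, rfl⟩
  obtain ⟨l, hl⟩ := Order.le_krullDim_iff.1 hd.ge
  have hmono := TopologicalSpace.IrreducibleCloseds.map_strictMono_of_isInducing
    (Topology.IsInducing.subtypeVal (t := Y))
  let l' := (l.map _ hmono).snoc ⟨Set.univ, IrreducibleSpace.isIrreducible_univ X, isClosed_univ⟩ (by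
    refine lt_of_le_not_ge (Set.subset_univ _) fun h => hYX ?_
    rw [Set.eq_univ_iff_forall]
    intro z
    exact closure_minimal (Subtype.coe_image_subset _ _) hY (h (Set.mem_univ z)))
  have hlen : ((d + 1 : ℕ) : WithBot ℕ∞) ≤ topologicalKrullDim X :=
    le_trans (le_of_eq (by simp [l', hl])) (Order.LTSeries.length_le_krullDim l')
  rw [hd]
  exact lt_of_lt_of_le (by exact_mod_cast Nat.lt_succ_self d) hlen

end Groth.Agent.S10830
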