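import Groth.Statements.S10831
import Groth.Agent.Lib.NoethTop.KrullDim

set_option autoImplicit false
universe u
open Topology TopologicalSpace
open TopDim

namespace Groth.Agent.S10831

/-- The Krull dimension of a topological space is the supremum of the Krull dimensions of its
irreducible components. -/
theorem result (X : Type u) [TopologicalSpace X] :
    topologicalKrullDim X = ⨆ Y ∈ irreducibleComponents X, topologicalKrullDim ↥Y := by
  refine le_antisymm (GrothLib.NoethTop.dim_le_iff.2 fun l => ?_)
    (iSup₂_le fun Y _ => topologicalKrullDim_subspace_le X Y)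
  obtain ⟨Y, hY, hlY, hmax⟩ := exists_preirreducible (l.last : Set X) l.last.isIrreducible.isPreirreducible
  exact (GrothLib.NoethTop.length_le_dim_subset Y l hlY).trans
    (le_iSup₂ (f := fun (Y : Set X) (_ : Y ∈ irreducibleComponents X) => topologicalKrullDim Y) Y
      ⟨⟨l.last.isIrreducible.nonempty.mono hlY, hY⟩, fun u hu hle => (hmax u hu.isPreirreducible hle).le⟩)

end Groth.Agent.S10831
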