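import Groth.Statements.S10832
import Mathlib

set_option autoImplicit false
universe u
open CategoryTheory AlgebraicGeometry Topology
open Variety

namespace Groth.Agent.S10832

/-- For a nonempty scheme X of finite type over a field k the following are equivalent: X has Krull
dimension 0; X is affine with ring of global sections finite over k and equal to the product of all
its local rings via the germ maps; the underlying space of X is discrete; the underlying space of X
is finite. -/
theorem result (k : Type u) [Field k] {X : Scheme.{u}} [Nonempty X]
    (f : X ⟶ Spec (CommRingCat.of k)) [LocallyOfFiniteType f] [QuasiCompact f] :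
    [topologicalKrullDim ↥X = 0,
      IsAffine X ∧ f.appTop.hom.Finite ∧
        Function.Bijective (fun s : Γ(X, ⊤) => fun x : X => X.presheaf.germ ⊤ x trivial s),
      DiscreteTopology ↥X,
      Finite ↥X].TFAE := by
  haveI : IsLocallyNoetherian X := LocallyOfFiniteType.isLocallyNoetherian f
  haveI : CompactSpace X := QuasiCompact.compactSpace_of_compactSpace f
  haveI : Subsingleton (Spec (CommRingCat.of k)) := inferInstanceAs (Subsingleton (PrimeSpectrum k))
  tfae_have 1 → 3 := fun h => by
    haveI := IsLocallyArtinian.of_topologicalKrullDim_le_zero (X := X) h.le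
    infer_instance
  tfae_have 3 → 1 := fun h => by
    haveI : Nonempty (TopologicalSpace.IrreducibleCloseds X) :=
      ⟨⟨closure {Classical.arbitrary X}, isIrreducible_singleton.closure, isClosed_closure⟩⟩
    exact le_antisymm (topologicalKrullDim_zero_of_discreteTopology X) Order.krullDim_nonneg
  tfae_have 3 → 4 := fun h => finite_of_compact_of_discrete
  tfae_have 4 → 3 := fun h => by
    haveI : LocallyQuasiFinite f := LocallyQuasiFinite.of_finite_preimage_singleton _ fun _ => Set.toFinite _
    haveI := IsLocallyArtinian.of_locallyQuasiFinite f
    infer_instance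
  tfae_have 3 → 2 := fun h => by
    haveI : Finite X := finite_of_compact_of_discrete
    haveI : LocallyQuasiFinite f := LocallyQuasiFinite.of_finite_preimage_singleton _ fun _ => Set.toFinite _
    haveI : IsFinite f := IsFinite.of_locallyQuasiFinite f
    haveI : IsAffine X := isAffine_of_isAffineHom f
    refine ⟨inferInstance, f.finite_appTop, fun s t hst => ?_, fun c => ?_⟩
    · refine TopCat.Presheaf.section_ext X.sheaf ⊤ s t fun x _ => ?_
      exact congrFun hst x
    · let U : X → X.Opens := fun x => ⟨{x}, isOpen_discrete _⟩
      have hex : ∀ x : X, ∃ a : Γ(X, U x), X.presheaf.germ (U x) x rfl a = c x := fun x => by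
        obtain ⟨W, hxW, b, hb⟩ := X.presheaf.exists_germ_eq (c x)
        exact ⟨X.presheaf.map (homOfLE (fun y (hy : y ∈ U x) => by rw [Set.mem_singleton_iff.mp hy]; exact hxW)).op b,
          by rw [TopCat.Presheaf.germ_res_apply]; exact hb⟩
      choose a ha using hex
      obtain ⟨g, hg, -⟩ := X.sheaf.existsUnique_gluing' U ⊤ (fun x => homOfLE le_top)
        (fun y _ => TopologicalSpace.Opens.mem_iSup.mpr ⟨y, rfl⟩) a fun i j => by
          refine TopCat.Presheaf.section_ext X.sheaf _ _ _ fun y hy => ?_
          obtain rfl := Set.mem_singleton_iff.mp hy.1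
          obtain rfl := Set.mem_singleton_iff.mp hy.2
          rfl
      refine ⟨g, funext fun x => ?_⟩
      change X.presheaf.germ ⊤ x trivial g = c x
      rw [← ha x, ← hg x]
      exact (TopCat.Presheaf.germ_res_apply X.presheaf _ _ _ _).symm
  tfae_have 2 → 4 := fun ⟨h1, h2, _⟩ => by
    haveI : IsFinite f := (HasAffineProperty.iff_of_isAffine (P := @IsFinite)).mpr ⟨h1, h2⟩
    exact Set.finite_univ_iff.mp ((f.finite_preimage (Set.finite_univ (α := Spec (CommRingCat.of k)))).subset fun x _ => trivial)
  tfae_finish

end Groth.Agent.S10832
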