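import Groth.Statements.S10833
import Groth.Agent.Lib.AffDom.Formula

set_option autoImplicit false
universe u
open Variety

namespace Groth.Agent.S10833

/-- Let k be a field and A a k-algebra of finite type that is an integral domain. Then every chain of
prime ideals of A admitting no refinement — it starts at the zero ideal, ends at a maximal ideal,
and no prime ideal lies strictly between two consecutive members — has length equal to the Krull
dimension of A. -/
theorem result (k A : Type u) [Field k] [CommRing A]
    [IsDomain A] [Algebra k A] [Algebra.FiniteType k A] (c : LTSeries (PrimeSpectrum A))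
    (h0 : c.head.asIdeal = ⊥) (hmax : c.last.asIdeal.IsMaximal)
    (hsat : ∀ i : Fin c.length, c i.castSucc ⋖ c i.succ) :
    (c.length : WithBot ℕ∞) = ringKrullDim A := by
    have key : ∀ i : Fin (c.length + 1),
        ringKrullDim (A ⧸ (c i).asIdeal) + ((i : ℕ) : WithBot ℕ∞) = ringKrullDim A := by
      intro i
      induction i using Fin.induction with
      | zero =>
        show ringKrullDim (A ⧸ c.head.asIdeal) + _ = _
        rw [h0, ringKrullDim_eq_of_ringEquiv (RingEquiv.quotientBot A)]
        simp
      | succ i ih =>
        rw [← ih, ← GrothLib.AffDom.ringKrullDim_quotient_covBy k A (hsat i), Fin.val_succ,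
          Fin.val_castSucc, Nat.cast_succ, add_assoc, add_comm (1 : WithBot ℕ∞)]
    have h := key (Fin.last _)
    rw [Fin.val_last] at h
    let _ := Ideal.Quotient.field c.last.asIdeal
    have h1 : ringKrullDim (A ⧸ (c (Fin.last c.length)).asIdeal) = 0 :=
      ringKrullDim_eq_zero_of_isField (Field.toIsField (A ⧸ c.last.asIdeal))
    rw [h1, zero_add] at h
    exact h

end Groth.Agent.S10833
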