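import Groth.Statements.S10834
import Groth.Agent.Lib.NormalSerre.Serre
import Mathlib.RingTheory.LocalProperties.IntegrallyClosed
-- import your own Groth.Agent.* helpers here

set_option autoImplicit false
universe u
open CAlg

namespace Groth.Agent.S10834

/-- Let A be a Noetherian ring whose localizations at all prime ideals are regular local rings, and f an
element of A generating a prime ideal, so that A/(f) is an integral domain (an integral hypersurface
in the regular affine scheme Spec A). Then A/(f) is normal (integrally closed in its fraction field)
if and only if it is regular in codimension 1, i.e. its localization at every prime at which the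
local ring has dimension 1 is a regular local ring. -/
theorem result (A : Type u) [CommRing A]
    [IsNoetherianRing A] (hreg : ∀ (p : Ideal A) (_ : p.IsPrime), IsRegularLocalRing (Localization.AtPrime p))
    (f : A) (hf : (Ideal.span ({f} : Set A)).IsPrime) :
    IsIntegrallyClosed (A ⧸ Ideal.span ({f} : Set A)) ↔
      ∀ q : PrimeSpectrum (A ⧸ Ideal.span ({f} : Set A)),
        ringKrullDim (Localization.AtPrime q.asIdeal) = 1 →
          IsRegularLocalRing (Localization.AtPrime q.asIdeal) := by
  classical
  let I := Ideal.span ({f} : Set A)
  let R := A ⧸ I
  have : IsDomain R := (Ideal.Quotient.isDomain_iff_prime I).2 hf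
  have hheight : ∀ (q : Ideal R) [q.IsPrime],
      (IsLocalRing.maximalIdeal (Localization.AtPrime q)).height = q.height := fun q _ => by
    have h := IsLocalization.AtPrime.ringKrullDim_eq_height q (Localization.AtPrime q)
    rw [← IsLocalRing.maximalIdeal_height_eq_ringKrullDim] at h
    exact_mod_cast h
  constructor
  · intro hic q hq
    have : IsDomain (Localization.AtPrime q.asIdeal) :=
      IsLocalization.isDomain_localization q.asIdeal.primeCompl_le_nonZeroDivisors
    have : IsIntegrallyClosed (Localization.AtPrime q.asIdeal) :=
      isIntegrallyClosed_of_isLocalization (R := R) _ q.asIdeal.primeCompl q.asIdeal.primeCompl_le_nonZeroDivisors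
    refine GrothLib.NormalSerre.isRegularLocalRing_of_isIntegrallyClosed ?_
    rw [← IsLocalRing.maximalIdeal_height_eq_ringKrullDim] at hq
    exact_mod_cast hq.le
  · intro hq1
    have hnormal := GrothLib.NormalSerre.isDomain_isIntegrallyClosed_localization R (fun q _ hq => ?_)
      (fun q _ hq => ?_)
    · exact IsIntegrallyClosed.of_localization_maximal fun q _ _ => (hnormal q).2
    · -- height at most one
      rcases eq_or_ne q.height 0 with h0 | h0
      · have hbot : q = ⊥ := Ideal.height_eq_zero_iff_eq_bot.1 h0
        have : IsDomain (Localization.AtPrime q) :=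
          IsLocalization.isDomain_localization q.primeCompl_le_nonZeroDivisors
        refine ⟨this, ?_⟩
        have hF : IsField (Localization.AtPrime q) := by
          rw [IsLocalRing.isField_iff_maximalIdeal_eq, ← Localization.AtPrime.map_eq_maximalIdeal]
          exact (congrArg _ hbot).trans Ideal.map_bot
        let _ := hF.toField
        infer_instance
      · have h1 : q.height = 1 := le_antisymm hq (Order.one_le_iff_pos.2 (pos_iff_ne_zero.2 h0))
        have := hq1 ⟨q, inferInstance⟩ (by
          rw [IsLocalization.AtPrime.ringKrullDim_eq_height q (Localization.AtPrime q), h1]; rfl)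
        exact ⟨GrothLib.CMFree.isDomain_of_isRegularLocalRing _,
          GrothLib.RegLoc.isIntegrallyClosed_of_isRegularLocalRing _⟩
    · -- height at least two
      let P := q.comap (Ideal.Quotient.mk I)
      have := hreg P inferInstance
      let S := Localization.AtPrime P
      have hfP : f ∈ P := by
        show Ideal.Quotient.mk I f ∈ q
        rw [Ideal.Quotient.eq_zero_iff_mem.2 (Ideal.mem_span_singleton_self f)]
        exact q.zero_mem
      have : q.LiesOver P := ⟨rfl⟩
      have hsub : Algebra.algebraMapSubmonoid R P.primeCompl = q.primeCompl :=
        Ideal.algebraMapSubmonoid_primeCompl_of_liesOver_surjective q P Ideal.Quotient.mk_surjective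
      have : IsLocalization q.primeCompl (S ⧸ I.map (algebraMap A S)) := by
        rw [← hsub]; infer_instance
      let e : (S ⧸ I.map (algebraMap A S)) ≃+* Localization.AtPrime q :=
        (IsLocalization.algEquiv q.primeCompl _ _).toRingEquiv
      have hI : I.map (algebraMap A S) = Ideal.span {algebraMap A S f} := by
        rw [Ideal.map_span, Set.image_singleton]
      have hdim : 1 < ringKrullDim (Localization.AtPrime q) := by
        rw [IsLocalization.AtPrime.ringKrullDim_eq_height q (Localization.AtPrime q)]
        exact_mod_cast hq
      by_cases hf0 : algebraMap A S f = 0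
      · let e0 : S ≃+* Localization.AtPrime q := (RingEquiv.quotientBot S).symm.trans
          ((Ideal.quotEquivOfEq (by rw [hI, hf0, Ideal.span_singleton_zero])).trans e)
        have : IsRegularLocalRing (Localization.AtPrime q) := IsRegularLocalRing.of_ringEquiv e0
        have := GrothLib.CMFree.isDomain_of_isRegularLocalRing (Localization.AtPrime q)
        have := GrothLib.RegLoc.isIntegrallyClosed_of_isRegularLocalRing (Localization.AtPrime q)
        exact GrothLib.NormalSerre.exists_pair_of_isIntegrallyClosed (by rwa [hheight])
      have hfm : algebraMap A S f ∈ IsLocalRing.maximalIdeal S := by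
        rw [← Localization.AtPrime.map_eq_maximalIdeal]; exact Ideal.mem_map_of_mem _ hfP
      have hnzd : IsSMulRegular S (algebraMap A S f) :=
        have := GrothLib.CMFree.isDomain_of_isRegularLocalRing S
        (isRegular_iff_ne_zero.2 hf0).left.isSMulRegular
      have h2 : 2 < ringKrullDim S := by
        rw [← ringKrullDim_quotient_span_singleton_succ_eq_ringKrullDim_of_mem_jacobson hnzd
          (by rw [IsLocalRing.ringJacobson_eq_maximalIdeal]; exact hfm),
          ringKrullDim_eq_of_ringEquiv ((Ideal.quotEquivOfEq hI.symm).trans e),
          IsLocalization.AtPrime.ringKrullDim_eq_height q (Localization.AtPrime q),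
          show ((q.height : WithBot ℕ∞) + 1) = ((q.height + 1 : ℕ∞) : WithBot ℕ∞) from rfl,
          show (2 : WithBot ℕ∞) = ((2 : ℕ∞) : WithBot ℕ∞) from rfl, WithBot.coe_lt_coe,
          ← one_add_one_eq_two]
        exact (ENat.add_lt_add_iff_right (by simp)).2 hq
      obtain ⟨rs, hlen, hmem, hr⟩ := GrothLib.NormalSerre.exists_pair_of_quotient hfm hf0 h2
      obtain ⟨x, y, rfl⟩ := List.length_eq_two.1 hlen
      let g : S →+* Localization.AtPrime q := e.toRingHom.comp (Ideal.Quotient.mk _)
      let _ : Algebra S (Localization.AtPrime q) := g.toAlgebra
      have hgm : ∀ z ∈ IsLocalRing.maximalIdeal S, g z ∈ IsLocalRing.maximalIdeal _ := fun z hz => by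
        have hsurj : Function.Surjective g := e.surjective.comp Ideal.Quotient.mk_surjective
        have : IsLocalHom g := .of_surjective g hsurj
        exact (IsLocalRing.mem_maximalIdeal _).2 fun hu => (IsLocalRing.mem_maximalIdeal _).1 hz (isUnit_of_map_unit g z hu)
      refine ⟨g x, g y, hgm x (hmem x (by simp)), hgm y (hmem y (by simp)), ?_⟩
      let e1 : (QuotSMulTop (algebraMap A S f) S) ≃ₗ[S] Localization.AtPrime q :=
        (Submodule.quotEquivOfEq _ (I.map (algebraMap A S)) (by
          rw [hI]; simp [← Submodule.ideal_span_singleton_smul])).trans
        (AlgEquiv.ofRingEquiv (R := S) (f := e) (fun z => rfl)).toLinearEquiv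
      rw [e1.isWeaklyRegular_congr] at hr
      exact (RingTheory.Sequence.isWeaklyRegular_map_algebraMap_iff (Localization.AtPrime q)
        (Localization.AtPrime q) [x, y]).2 hr

end Groth.Agent.S10834
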