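import Groth.Agent.Lib.GeomIrr6.Hypersurface
import Groth.Prelude.Def_CurvBase
import Mathlib

set_option autoImplicit false
universe u
open CategoryTheory AlgebraicGeometry
attribute [local instance] Curv2.stalkAlgebra

namespace Groth.Agent.S10835

/-- two finitely generated algebras with the same field of fractions have a common basic open -/
lemma exists_away_equiv (k L : Type u) [Field k] [Field L] [Algebra k L]
    {A B : Type u} [CommRing A] [CommRing B] [Algebra k A] [Algebra k B]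
    [Algebra.FiniteType k A] [Algebra.FiniteType k B]
    (ψA : A →ₐ[k] L) (hA : Function.Injective ψA) (ψB : B →ₐ[k] L) (hB : Function.Injective ψB)
    (fA : ∀ z : L, ∃ a b : A, ψA b ≠ 0 ∧ z * ψA b = ψA a)
    (fB : ∀ z : L, ∃ a b : B, ψB b ≠ 0 ∧ z * ψB b = ψB a) :
    ∃ (h : A) (w : B), ψA h ≠ 0 ∧ ψB w ≠ 0 ∧ Nonempty (Localization.Away h ≃ₐ[k] Localization.Away w) := by
  classical
  obtain ⟨GA, hGA⟩ := ‹Algebra.FiniteType k A›.1
  obtain ⟨GB, hGB⟩ := ‹Algebra.FiniteType k B›.1
  choose na da hda hna using fun g : B => fA (ψB g)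
  choose nb db hdb hnb using fun g : A => fB (ψA g)
  let h0 := ∏ g ∈ GB, da g
  let w0 := ∏ g ∈ GA, db g
  have hh0 : ψA h0 ≠ 0 := by rw [map_prod]; exact Finset.prod_ne_zero_iff.mpr fun g _ => hda g
  have hw0 : ψB w0 ≠ 0 := by rw [map_prod]; exact Finset.prod_ne_zero_iff.mpr fun g _ => hdb g
  have hBA : ∀ c : B, ∃ (z : A) (n : ℕ), ψB c * ψA h0 ^ n = ψA z := by
    let S : Subalgebra k B :=
      { carrier := {c | ∃ (z : A) (n : ℕ), ψB c * ψA h0 ^ n = ψA z}
        mul_mem' := by
          rintro c c' ⟨z, n, hz⟩ ⟨z', n', hz'⟩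
          exact ⟨z * z', n + n', by rw [map_mul, map_mul, ← hz, ← hz', pow_add]; ring⟩
        add_mem' := by
          rintro c c' ⟨z, n, hz⟩ ⟨z', n', hz'⟩
          exact ⟨z * h0 ^ n' + z' * h0 ^ n, n + n', by
            simp only [map_add, map_mul, map_pow, ← hz, ← hz', pow_add]; ring⟩
        algebraMap_mem' := fun c => ⟨algebraMap k A c, 0, by
          rw [pow_zero, mul_one, AlgHom.commutes, AlgHom.commutes]⟩ }
    intro c
    have hc : c ∈ Algebra.adjoin k (GB : Set B) := hGB ▸ Algebra.mem_top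
    exact Algebra.adjoin_le (S := S) (fun g hg => ⟨na g * ∏ g' ∈ GB.erase g, da g', 1, by
      rw [pow_one, map_mul, ← hna g, mul_assoc, ← map_mul, Finset.mul_prod_erase GB da hg]⟩) hc
  have hAB : ∀ c : A, ∃ (z : B) (n : ℕ), ψA c * ψB w0 ^ n = ψB z := by
    let S : Subalgebra k A :=
      { carrier := {c | ∃ (z : B) (n : ℕ), ψA c * ψB w0 ^ n = ψB z}
        mul_mem' := by
          rintro c c' ⟨z, n, hz⟩ ⟨z', n', hz'⟩
          exact ⟨z * z', n + n', by rw [map_mul, map_mul, ← hz, ← hz', pow_add]; ring⟩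
        add_mem' := by
          rintro c c' ⟨z, n, hz⟩ ⟨z', n', hz'⟩
          exact ⟨z * w0 ^ n' + z' * w0 ^ n, n + n', by
            simp only [map_add, map_mul, map_pow, ← hz, ← hz', pow_add]; ring⟩
        algebraMap_mem' := fun c => ⟨algebraMap k B c, 0, by
          rw [pow_zero, mul_one, AlgHom.commutes, AlgHom.commutes]⟩ }
    intro c
    have hc : c ∈ Algebra.adjoin k (GA : Set A) := hGA ▸ Algebra.mem_top
    exact Algebra.adjoin_le (S := S) (fun g hg => ⟨nb g * ∏ g' ∈ GA.erase g, db g', 1, by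
      rw [pow_one, map_mul, ← hnb g, mul_assoc, ← map_mul, Finset.mul_prod_erase GA db hg]⟩) hc
  obtain ⟨z, l, hz⟩ := hAB h0
  obtain ⟨e, m, he⟩ := hBA w0
  have hz0 : ψB z ≠ 0 := hz ▸ mul_ne_zero hh0 (pow_ne_zero l hw0)
  have he0 : ψA e ≠ 0 := he ▸ mul_ne_zero hw0 (pow_ne_zero m hh0)
  have hh : ψA (h0 * e) ≠ 0 := by rw [map_mul]; exact mul_ne_zero hh0 he0
  have hw : ψB (w0 * z) ≠ 0 := by rw [map_mul]; exact mul_ne_zero hw0 hz0
  refine ⟨h0 * e, w0 * z, hh, hw, ?_⟩
  obtain ⟨Λ₁, hΛ₁, hr₁⟩ := GrothLib.GeomIrr6.exists_away_range ψA hA (h0 * e) hh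
  obtain ⟨Λ₂, hΛ₂, hr₂⟩ := GrothLib.GeomIrr6.exists_away_range ψB hB (w0 * z) hw
  let S1 := Algebra.adjoin k (Set.range ψA ∪ {(ψA (h0 * e))⁻¹})
  let S2 := Algebra.adjoin k (Set.range ψB ∪ {(ψB (w0 * z))⁻¹})
  have mA : ∀ a, ψA a ∈ S1 := fun a => Algebra.subset_adjoin (Or.inl ⟨a, rfl⟩)
  have mB : ∀ b, ψB b ∈ S2 := fun b => Algebra.subset_adjoin (Or.inl ⟨b, rfl⟩)
  have i1 : (ψA (h0 * e))⁻¹ ∈ S1 := Algebra.subset_adjoin (Or.inr (Set.mem_singleton _))
  have i2 : (ψB (w0 * z))⁻¹ ∈ S2 := Algebra.subset_adjoin (Or.inr (Set.mem_singleton _))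
  have ih0 : (ψA h0)⁻¹ ∈ S1 := by
    rw [show (ψA h0)⁻¹ = ψA e * (ψA (h0 * e))⁻¹ by rw [map_mul]; field_simp]
    exact mul_mem (mA e) i1
  have ie : (ψA e)⁻¹ ∈ S1 := by
    rw [show (ψA e)⁻¹ = ψA h0 * (ψA (h0 * e))⁻¹ by rw [map_mul]; field_simp]
    exact mul_mem (mA h0) i1
  have iw0 : (ψB w0)⁻¹ ∈ S2 := by
    rw [show (ψB w0)⁻¹ = ψB z * (ψB (w0 * z))⁻¹ by rw [map_mul]; field_simp]
    exact mul_mem (mB z) i2
  have iz : (ψB z)⁻¹ ∈ S2 := by
    rw [show (ψB z)⁻¹ = ψB w0 * (ψB (w0 * z))⁻¹ by rw [map_mul]; field_simp]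
    exact mul_mem (mB w0) i2
  have B_in_1 : ∀ b, ψB b ∈ S1 := fun b => by
    obtain ⟨c, n, hc⟩ := hBA b
    rw [show ψB b = ψA c * (ψA h0)⁻¹ ^ n by rw [← hc, mul_assoc, ← mul_pow, mul_inv_cancel₀ hh0, one_pow, mul_one]]
    exact mul_mem (mA c) (pow_mem ih0 n)
  have A_in_2 : ∀ a, ψA a ∈ S2 := fun a => by
    obtain ⟨c, n, hc⟩ := hAB a
    rw [show ψA a = ψB c * (ψB w0)⁻¹ ^ n by rw [← hc, mul_assoc, ← mul_pow, mul_inv_cancel₀ hw0, one_pow, mul_one]]
    exact mul_mem (mB c) (pow_mem iw0 n)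
  have heq : Λ₁.range = Λ₂.range := by
    rw [hr₁, hr₂]
    apply le_antisymm <;> refine Algebra.adjoin_le (Set.union_subset ?_ (Set.singleton_subset_iff.mpr ?_))
    · rintro _ ⟨c, rfl⟩; exact A_in_2 c
    · show (ψA (h0 * e))⁻¹ ∈ S2
      rw [show ψA (h0 * e) = ψA h0 * ψA e from map_mul _ _ _, mul_inv, ← he, mul_inv, ← inv_pow]
      have ih : (ψA h0)⁻¹ ∈ S2 := by
        rw [show (ψA h0)⁻¹ = ψB w0 ^ l * (ψB z)⁻¹ by rw [← hz]; field_simp]
        exact mul_mem (pow_mem (mB w0) l) iz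
      exact mul_mem ih (mul_mem iw0 (pow_mem ih m))
    · rintro _ ⟨c, rfl⟩; exact B_in_1 c
    · show (ψB (w0 * z))⁻¹ ∈ S1
      rw [show ψB (w0 * z) = ψB w0 * ψB z from map_mul _ _ _, mul_inv, ← hz, mul_inv, ← inv_pow]
      have iw : (ψB w0)⁻¹ ∈ S1 := by
        rw [show (ψB w0)⁻¹ = ψA h0 ^ m * (ψA e)⁻¹ by rw [← he]; field_simp]
        exact mul_mem (pow_mem (mA h0) m) ie
      exact mul_mem iw (mul_mem ih0 (pow_mem iw l))
  exact ⟨(AlgEquiv.ofInjective Λ₁ hΛ₁).trans ((Subalgebra.equivOfEq _ _ heq).trans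
    (AlgEquiv.ofInjective Λ₂ hΛ₂).symm)⟩

/-- the hypersurface model of a separably generated field -/
lemma exists_model (k L : Type u) [Field k] [Field L] [Algebra k L] [Algebra.EssFiniteType k L]
    (d : ℕ) (s : Fin d → L) (hs : IsTranscendenceBasis k s)
    (hsep : Algebra.IsSeparable ↥(IntermediateField.adjoin k (Set.range s)) L) :
    ∃ (g : Polynomial (MvPolynomial (Fin d) k)), g.Monic ∧
      Irreducible (g.map (algebraMap (MvPolynomial (Fin d) k) (FractionRing (MvPolynomial (Fin d) k)))) ∧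
      (g.map (algebraMap (MvPolynomial (Fin d) k) (FractionRing (MvPolynomial (Fin d) k)))).Separable ∧
      ∃ ψ : AdjoinRoot g →ₐ[k] L, Function.Injective ψ ∧ ∀ z : L, ∃ a b, ψ b ≠ 0 ∧ z * ψ b = ψ a := by
  classical
  let R := MvPolynomial (Fin d) k
  let K := FractionRing R
  letI : Algebra R L := (MvPolynomial.aeval s).toRingHom.toAlgebra
  have hinj : Function.Injective (algebraMap R L) := hs.1
  haveI : IsScalarTower k R L := IsScalarTower.of_algebraMap_eq fun c => ((MvPolynomial.aeval s).commutes c).symm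
  haveI : FaithfulSMul R L := (faithfulSMul_iff_algebraMap_injective R L).mpr hinj
  letI : Algebra K L := FractionRing.liftAlgebra R L
  haveI : IsScalarTower R K L := FractionRing.isScalarTower_liftAlgebra R L
  haveI : IsScalarTower k K L := IsScalarTower.of_algebraMap_eq fun c => by
    rw [IsScalarTower.algebraMap_apply k R K, ← IsScalarTower.algebraMap_apply R K L, ← IsScalarTower.algebraMap_apply]
  haveI hsepK : Algebra.IsSeparable K L := by
    haveI := hsep
    refine Algebra.IsSeparable.of_equiv_equiv hs.1.aevalEquivField.symm.toRingEquiv (RingEquiv.refl L) ?_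
    have hr : ((algebraMap K L).comp hs.1.aevalEquivField.symm.toRingEquiv.toRingHom).comp
        hs.1.aevalEquivField.toRingEquiv.toRingHom =
        (algebraMap ↥(IntermediateField.adjoin k (Set.range s)) L).comp hs.1.aevalEquivField.toRingEquiv.toRingHom := by
      refine IsLocalization.ringHom_ext (nonZeroDivisors R) (RingHom.ext fun r => ?_)
      show algebraMap K L (hs.1.aevalEquivField.symm (hs.1.aevalEquivField (algebraMap R K r))) =
        ((hs.1.aevalEquivField (algebraMap R K r)) : L)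
      rw [AlgEquiv.symm_apply_apply, ← IsScalarTower.algebraMap_apply,
        AlgebraicIndependent.aevalEquivField_algebraMap_apply_coe]
      rfl
    refine RingHom.ext fun x => ?_
    obtain ⟨y, rfl⟩ := hs.1.aevalEquivField.surjective x
    exact RingHom.congr_fun hr y
  haveI : Algebra.EssFiniteType K L := Algebra.EssFiniteType.of_comp k K L
  haveI : FiniteDimensional K L := Algebra.finite_of_essFiniteType_of_isAlgebraic
  obtain ⟨θ₀, hθ₀⟩ := Field.exists_primitive_element K L
  have halg : IsAlgebraic R θ₀ :=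
    (IsLocalization.isAlgebraic K (nonZeroDivisors R)).trans (A := L) |>.isAlgebraic θ₀
  obtain ⟨r, hr, hint⟩ := halg.exists_integral_multiple
  set θ := r • θ₀ with hθdef
  have hθ : IntermediateField.adjoin K {θ} = ⊤ := by
    refine top_unique (hθ₀ ▸ IntermediateField.adjoin_le_iff.2 ?_)
    intro x hx
    rw [Set.mem_singleton_iff] at hx
    rw [hx]
    have hr' : algebraMap R K r ≠ 0 := fun h => hr (IsFractionRing.injective R K (h.trans (map_zero _).symm))
    rw [show θ₀ = (algebraMap R K r)⁻¹ • θ by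
      rw [hθdef, ← algebraMap_smul K r θ₀, inv_smul_smul₀ hr']]
    exact (IntermediateField.adjoin K {θ}).smul_mem (IntermediateField.mem_adjoin_simple_self K θ)
  have hmin : minpoly K θ = (minpoly R θ).map (algebraMap R K) := minpoly.isIntegrallyClosed_eq_field_fractions' K hint
  refine ⟨minpoly R θ, minpoly.monic hint, hmin ▸ minpoly.irreducible (Algebra.IsIntegral.isIntegral θ),
    hmin ▸ Algebra.IsSeparable.isSeparable K θ, ?_⟩
  let ψ : AdjoinRoot (minpoly R θ) →ₐ[k] L :=
    (AdjoinRoot.liftAlgHom (minpoly R θ) (Algebra.ofId R L) θ (minpoly.aeval R θ)).restrictScalars k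
  have hψ : ∀ p : Polynomial R, ψ (AdjoinRoot.mk (minpoly R θ) p) = Polynomial.aeval θ p := fun p => by
    simp [ψ, Polynomial.aeval_def]

  refine ⟨ψ, ?_, fun z => ?_⟩
  · refine (injective_iff_map_eq_zero ψ).2 fun q hq => ?_
    obtain ⟨p, rfl⟩ := AdjoinRoot.mk_surjective q
    rw [hψ] at hq
    exact AdjoinRoot.mk_eq_zero.2 ((minpoly.isIntegrallyClosed_dvd_iff hint p).1 hq)
  · have hz : z ∈ Algebra.adjoin K {θ} := by
      rw [← IntermediateField.adjoin_simple_toSubalgebra_of_isAlgebraic (Algebra.IsAlgebraic.isAlgebraic θ), hθ]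
      trivial
    rw [Algebra.adjoin_singleton_eq_range_aeval] at hz
    obtain ⟨p, rfl⟩ := hz
    obtain ⟨⟨b, hb⟩, hp⟩ := IsLocalization.integerNormalization_map_to_map (nonZeroDivisors R) p
    refine ⟨AdjoinRoot.mk (minpoly R θ) (IsLocalization.integerNormalization (nonZeroDivisors R) p),
      AdjoinRoot.mk (minpoly R θ) (Polynomial.C b), ?_, ?_⟩
    · rw [hψ, Polynomial.aeval_C]
      exact fun h => nonZeroDivisors.ne_zero hb (hinj (h.trans (map_zero _).symm))
    · rw [hψ, hψ, Polynomial.aeval_C, ← Polynomial.aeval_map_algebraMap K θ (IsLocalization.integerNormalization _ p), hp]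
      show Polynomial.aeval θ p * _ = Polynomial.aeval θ (b • p)
      rw [← algebraMap_smul K b p, map_smul, algebraMap_smul, Algebra.smul_def, mul_comm]


/-- Let k be a field and X an integral scheme of finite type over k whose function field admits a
transcendence basis s_1, …, s_d over k over which it is separable algebraic (this holds whenever the
function field is a separable extension of k in the sense of field theory, e.g. for k perfect, and
then d = dim X). Then some nonempty open subscheme of X is isomorphic, over k, to a nonempty open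
subscheme of Spec k[T_1, …, T_d][T]/(g) for a monic polynomial g over k[T_1, …, T_d] which is
irreducible and separable over the fraction field k(T_1, …, T_d). -/
theorem result (k : Type u) [Field k]
    (X : Scheme.{u}) [X.Over (Spec (CommRingCat.of k))] [IsIntegral X]
    [LocallyOfFiniteType (X ↘ Spec (CommRingCat.of k))] [QuasiCompact (X ↘ Spec (CommRingCat.of k))]
    (d : ℕ) (s : Fin d → X.presheaf.stalk (genericPoint X)) (hs : IsTranscendenceBasis k s)
    (hsep : Algebra.IsSeparable ↥(IntermediateField.adjoin k (Set.range s)) (X.presheaf.stalk (genericPoint X))) :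
    ∃ (g : Polynomial (MvPolynomial (Fin d) k)), g.Monic ∧
      Irreducible (g.map (algebraMap (MvPolynomial (Fin d) k) (FractionRing (MvPolynomial (Fin d) k)))) ∧
      (g.map (algebraMap (MvPolynomial (Fin d) k) (FractionRing (MvPolynomial (Fin d) k)))).Separable ∧
      ∃ (U : X.Opens) (V : (Spec (CommRingCat.of (AdjoinRoot g))).Opens) (e : (U : Scheme.{u}) ≅ (V : Scheme.{u})),
        (U : Set X).Nonempty ∧ (V : Set (Spec (CommRingCat.of (AdjoinRoot g)))).Nonempty ∧
        e.hom ≫ V.ι ≫ Spec.map (CommRingCat.ofHom (algebraMap k (AdjoinRoot g))) =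
          U.ι ≫ (X ↘ Spec (CommRingCat.of k)) := by
  classical
  set q := X ↘ Spec (CommRingCat.of k)
  obtain ⟨U0, hU0, hηU0, -⟩ := exists_isAffineOpen_mem_and_subset (x := genericPoint X) (U := ⊤) trivial
  haveI : Nonempty U0 := ⟨⟨_, hηU0⟩⟩
  let ψ0 : CommRingCat.of k ⟶ Γ(X, U0) := (Scheme.ΓSpecIso (CommRingCat.of k)).inv ≫ q.appLE ⊤ U0 le_top
  have hψ0 : ψ0.hom.FiniteType :=
    (LocallyOfFiniteType.finiteType_appLE q (isAffineOpen_top _) hU0 le_top).comp
      (RingHom.FiniteType.of_surjective _ (ConcreteCategory.bijective_of_isIso (Scheme.ΓSpecIso (CommRingCat.of k)).inv).2)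
  letI : Algebra k Γ(X, U0) := ψ0.hom.toAlgebra
  haveI : Algebra.FiniteType k Γ(X, U0) := hψ0
  haveI : IsFractionRing Γ(X, U0) X.functionField := functionField_isFractionRing_of_isAffineOpen X U0 hU0
  haveI htower : IsScalarTower k Γ(X, U0) (X.presheaf.stalk (genericPoint X)) := IsScalarTower.of_algebraMap_eq fun c => by
    show ((X.presheaf.germ ⊤ (genericPoint X) trivial).hom.comp (Coh.toGlobal q)) c =
      (X.presheaf.germ U0 (genericPoint X) hηU0).hom (ψ0.hom c)
    simp only [ψ0, Scheme.Hom.appLE, Coh.toGlobal, RingHom.comp_apply, CommRingCat.hom_comp]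
    exact (TopCat.Presheaf.germ_res_apply X.presheaf (homOfLE (le_top : U0 ≤ ⊤)) (genericPoint X) hηU0 _).symm
  haveI : Algebra.EssFiniteType Γ(X, U0) (X.presheaf.stalk (genericPoint X)) :=
    Algebra.EssFiniteType.of_isLocalization X.functionField (nonZeroDivisors Γ(X, U0))
  haveI : Algebra.EssFiniteType k (X.presheaf.stalk (genericPoint X)) :=
    Algebra.EssFiniteType.comp k Γ(X, U0) (X.presheaf.stalk (genericPoint X))
  obtain ⟨g, hg, hirr, hsepg, ψB, hψB, fB⟩ := exists_model k _ d s hs hsep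
  let ψA := IsScalarTower.toAlgHom k Γ(X, U0) (X.presheaf.stalk (genericPoint X))
  have hψA : Function.Injective ψA := IsFractionRing.injective Γ(X, U0) X.functionField
  have fA : ∀ z : X.presheaf.stalk (genericPoint X), ∃ a b : Γ(X, U0), ψA b ≠ 0 ∧ z * ψA b = ψA a := fun z => by
    obtain ⟨a, b, hb, hab⟩ := IsFractionRing.div_surjective Γ(X, U0) (K := X.functionField) z
    have hb' : ψA b ≠ 0 := IsFractionRing.to_map_ne_zero_of_mem_nonZeroDivisors (K := X.functionField) hb
    exact ⟨a, b, hb', by rw [← hab]; exact div_mul_cancel₀ _ hb'⟩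
  haveI : Algebra.FiniteType k (AdjoinRoot g) :=
    Algebra.FiniteType.trans (S := MvPolynomial (Fin d) k) inferInstance inferInstance
  obtain ⟨h, w, hh, hw, ⟨e⟩⟩ := exists_away_equiv k _ ψA hψA ψB hψB fA fB
  let U := X.basicOpen h
  have hU : IsAffineOpen U := hU0.basicOpen h
  have hηU : genericPoint X ∈ U := by
    rw [X.mem_basicOpen _ _ hηU0]
    exact isUnit_iff_ne_zero.2 hh
  haveI : IsLocalization.Away h Γ(X, U) := hU0.isLocalization_basicOpen h
  haveI : Algebra k Γ(X, U) := ((algebraMap Γ(X, U0) Γ(X, U)).comp (algebraMap k Γ(X, U0))).toAlgebra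
  let e0 : Γ(X, U) ≃+* Localization.Away h :=
    (IsLocalization.algEquiv (Submonoid.powers h) Γ(X, U) (Localization.Away h)).toRingEquiv
  let e1 : CommRingCat.of (Localization.Away w) ≅ Γ(X, U) := (e.symm.toRingEquiv.trans e0.symm).toCommRingCatIso
  let V : (Spec (CommRingCat.of (AdjoinRoot g))).Opens := PrimeSpectrum.basicOpen w
  let eV := basicOpenIsoSpecAway (R := CommRingCat.of (AdjoinRoot g)) w
  refine ⟨g, hg, hirr, hsepg, U, V, hU.isoSpec ≪≫ Scheme.Spec.mapIso e1.op ≪≫ eV.symm, ⟨_, hηU⟩, ?_, ?_⟩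
  · have hw0 : w ≠ 0 := fun h0 => hw (by rw [h0, map_zero])
    haveI : IsDomain (AdjoinRoot g) := hψB.isDomain ψB.toRingHom
    exact ⟨(⟨⊥, Ideal.isPrime_bot⟩ : PrimeSpectrum (AdjoinRoot g)), fun hmem => hw0 (Ideal.mem_bot.1 hmem)⟩
  · have hV : eV.inv ≫ V.ι = Spec.map (CommRingCat.ofHom (algebraMap (AdjoinRoot g) (Localization.Away w))) := by
      rw [Iso.inv_comp_eq]
      exact (basicOpenIsoSpecAway_hom_SpecMap (R := CommRingCat.of (AdjoinRoot g)) w).symm
    have hring : CommRingCat.ofHom (algebraMap k (AdjoinRoot g)) ≫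
        CommRingCat.ofHom (algebraMap (AdjoinRoot g) (Localization.Away w)) ≫ e1.hom =
        (Scheme.ΓSpecIso (CommRingCat.of k)).inv ≫ q.appLE ⊤ U le_top := by
      ext c
      show e0.symm (e.symm (algebraMap (AdjoinRoot g) (Localization.Away w) (algebraMap k (AdjoinRoot g) c))) = _
      rw [← IsScalarTower.algebraMap_apply, AlgEquiv.commutes, IsScalarTower.algebraMap_apply k Γ(X, U0) (Localization.Away h)]
      show (IsLocalization.algEquiv (Submonoid.powers h) Γ(X, U) (Localization.Away h)).symm _ = _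
      rw [AlgEquiv.commutes]
      show (ψ0 ≫ X.presheaf.map (homOfLE (X.basicOpen_le h)).op).hom c = _
      rw [Category.assoc, Scheme.Hom.appLE_map]
    have hq : hU.fromSpec ≫ q = Spec.map ((Scheme.ΓSpecIso (CommRingCat.of k)).inv ≫ q.appLE ⊤ U le_top) := by
      rw [Spec.map_comp, ← IsAffineOpen.SpecMap_appLE_fromSpec q (isAffineOpen_top _) hU le_top,
        IsAffineOpen.fromSpec_top, Scheme.isoSpec_Spec_inv]
    simp only [Iso.trans_hom, Iso.symm_hom, Category.assoc]
    rw [reassoc_of% hV]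
    show hU.isoSpec.hom ≫ Spec.map e1.hom ≫ _ ≫ _ = _
    rw [← Spec.map_comp, ← Spec.map_comp, Category.assoc, hring, ← hq, IsAffineOpen.isoSpec_hom_fromSpec_assoc]

end Groth.Agent.S10835
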