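import Groth.Statements.S10836
import Mathlib

set_option autoImplicit false
universe u
open Coh

namespace Groth.Agent.S10836

/-- Let A be a commutative ring, M a finitely generated projective A-module whose rank at every prime is
r, and Z a finite set of prime ideals of A. Then there is an element s of A outside every prime of Z
such that the localized module M_s has a basis of r elements over A_s. (The published statement is
for a finite locally free module of constant rank r on a scheme and a finite set of points inside an
affine open Spec A, and produces a basic open D(s) containing the points on which the module is free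
of rank r; its argument begins by replacing the scheme with Spec A, and this row states that case.) -/
theorem result (A : Type u) [CommRing A]
    (M : Type u) [AddCommGroup M] [Module A M] [Module.Finite A M] [Module.Projective A M] (r : ℕ)
    (hr : ∀ p : PrimeSpectrum A, Module.rankAtStalk M p = r)
    (Z : Set (PrimeSpectrum A)) (hZ : Z.Finite) :
    ∃ s : A, (∀ p ∈ Z, s ∉ p.asIdeal) ∧
      Nonempty (Module.Basis (Fin r) (Localization.Away s) (LocalizedModule (Submonoid.powers s) M)) := by
  classical
  let S : Submonoid A :=
    { carrier := {s | ∀ p ∈ Z, s ∉ p.asIdeal}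
      one_mem' := fun p _ h => p.2.ne_top ((Ideal.eq_top_iff_one _).2 h)
      mul_mem' := fun ha hb p hp h => (p.2.mem_or_mem h).elim (ha p hp) (hb p hp) }
  let B := Localization S
  let MS := LocalizedModule S M
  haveI : Finite (MaximalSpectrum B) := by
    have key : ∀ P : MaximalSpectrum B, ∃ p : Z, P.1 = Ideal.map (algebraMap A B) p.1.asIdeal := by
      intro P
      obtain ⟨p, hp, hle⟩ : ∃ p ∈ hZ.toFinset, P.1.comap (algebraMap A B) ≤ p.asIdeal := by
        have hsub : ((P.1.comap (algebraMap A B) : Ideal A) : Set A) ⊆ ⋃ p ∈ Z, (p.asIdeal : Set A) := by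
          intro a ha
          by_contra hc
          have haS : a ∈ S := fun p hp h => hc (Set.mem_biUnion hp h)
          exact P.2.ne_top (Ideal.eq_top_of_isUnit_mem _ ha (IsLocalization.map_units B (⟨a, haS⟩ : S)))
        obtain ⟨q, hq, -⟩ := Set.mem_iUnion₂.1 (hsub (Submodule.zero_mem _))
        exact (Ideal.subset_union_prime (s := hZ.toFinset) q q fun p _ _ _ => p.2).1
          (by rw [hZ.coe_toFinset]; exact hsub)
      refine ⟨⟨p, hZ.mem_toFinset.1 hp⟩, P.2.eq_of_le ?_ ?_⟩
      · exact ((IsLocalization.isPrime_of_isPrime_disjoint S B _ p.2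
          (Set.disjoint_left.2 fun a haS ha => haS p (hZ.mem_toFinset.1 hp) ha))).ne_top
      · rw [← IsLocalization.map_comap S B P.1]
        exact Ideal.map_mono hle
    choose f hf using key
    haveI := hZ.to_subtype
    exact Finite.of_injective f fun P Q h => MaximalSpectrum.ext ((hf P).trans (h ▸ (hf Q).symm))
  haveI : Module.Finite B MS := Module.Finite.of_isLocalizedModule S (LocalizedModule.mkLinearMap S M)
  haveI : Module.Flat B MS :=
    Module.Flat.of_linearEquiv (LocalizedModule.equivTensorProduct S M)
  obtain ⟨b⟩ := Module.nonempty_basis_of_flat_of_finrank_eq B MS r fun P => by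
    let k := P.1.ResidueField
    have h0 := Module.rankAtStalk_isBaseChange (M := M) (LocalizedModule.isBaseChange S M)
      (⟨P.1, P.2.isPrime⟩ : PrimeSpectrum B)
    rw [hr, Module.rankAtStalk_eq] at h0
    letI := Ideal.Quotient.field P.1
    refine Eq.trans ?_ h0
    exact (Module.finrank_baseChange (R := k) (S := B ⧸ P.1)
      (M' := TensorProduct B (B ⧸ P.1) MS)).symm.trans
      (TensorProduct.AlgebraTensorModule.cancelBaseChange B (B ⧸ P.1) k k MS).finrank_eq
  let e₁ : MS ≃ₗ[B] (Fin r → B) := b.equivFun
  let g : (Fin r → A) →ₗ[A] (Fin r → B) := LinearMap.pi fun i => (Algebra.linearMap A B).comp (LinearMap.proj i)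
  haveI : IsLocalizedModule S g := IsLocalizedModule.pi S fun _ => Algebra.linearMap A B
  haveI := Module.finitePresentation_of_projective A M
  obtain ⟨s, hs, e, -⟩ := Module.FinitePresentation.exists_lift_equiv_of_isLocalizedModule S
    (LocalizedModule.mkLinearMap S M) g (e₁.restrictScalars A)
  let g' : (Fin r → A) →ₗ[A] (Fin r → Localization.Away s) :=
    LinearMap.pi fun i => (Algebra.linearMap A (Localization.Away s)).comp (LinearMap.proj i)
  haveI : IsLocalizedModule (Submonoid.powers s) g' :=
    IsLocalizedModule.pi (Submonoid.powers s) fun _ => Algebra.linearMap A (Localization.Away s)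
  exact ⟨s, hs, ⟨Module.Basis.ofEquivFun (e ≪≫ₗ ((IsLocalizedModule.iso (Submonoid.powers s) g').extendScalarsOfIsLocalization
      (Submonoid.powers s) (Localization.Away s)))⟩⟩

end Groth.Agent.S10836
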