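import Groth.Statements.S10839
import Groth.Agent.Lib.Dim.QuasiFinite
import Groth.Agent.Lib.AffDom.PointDim

set_option autoImplicit false
universe u
open CategoryTheory AlgebraicGeometry Topology
open Variety

namespace Groth.Agent.S10839

/-- A closed immersion i : Y → X into an integral scheme X with dim X = dim Y < ∞ is an isomorphism. -/
theorem result {X Y : Scheme.{u}} (i : Y ⟶ X)
    [IsClosedImmersion i] [IsIntegral X] (hfin : topologicalKrullDim ↥X ≠ ⊤)
    (hdim : topologicalKrullDim ↥X = topologicalKrullDim ↥Y) : IsIso i := by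
  have h0 : (0 : WithBot ℕ∞) ≤ topologicalKrullDim ↥X :=
    (GrothLib.AffDom.ptDim_nonneg (genericPoint X)).trans (GrothLib.AffDom.ptDim_le _)
  obtain ⟨m, hm⟩ : ∃ m : ℕ, topologicalKrullDim ↥X = (m : WithBot ℕ∞) := by
    cases h : topologicalKrullDim ↥X with
    | bot => rw [h] at h0; simp at h0
    | coe v =>
      cases v with
      | top => exact absurd h hfin
      | coe m => exact ⟨m, rfl⟩
  have hr : topologicalKrullDim ↥Y = topologicalKrullDim (Set.range i) :=
    GrothLib.Dim.IsEmbedding.topologicalKrullDim_eq i.isEmbedding rfl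
  have : Surjective i := ⟨Set.range_eq_univ.1 (GrothLib.Dim.eq_univ_of_dim_le i.isClosedEmbedding.isClosed_range
    (hdim.trans hr).le (((hdim.trans hr).symm).trans hm))⟩
  exact isIso_of_isClosedImmersion_of_surjective i

end Groth.Agent.S10839
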