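import Groth.Statements.S10840
import Groth.Agent.Lib.ProjDim.Inter

set_option autoImplicit false
universe u
open AlgebraicGeometry Topology
open Variety

namespace Groth.Agent.S10840

/-- For a field k and nonzero homogeneous polynomials f, g of positive degrees in three variables, the
common zero set V_+(f, g) in the projective plane over k is zero-dimensional as a topological
subspace exactly when f and g are coprime, i.e. their only common divisors are the non-zero
constants. -/
theorem result (k : Type u) [Field k] (n m : ℕ)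
    (f g : MvPolynomial (Fin 3) k) (hf : f.IsHomogeneous n) (hg : g.IsHomogeneous m)
    (hn : 0 < n) (hm : 0 < m) (hf0 : f ≠ 0) (hg0 : g ≠ 0) :
    topologicalKrullDim ↥(ProjectiveSpectrum.zeroLocus (CohB1.polyGrading 2 k)
        ({f, g} : Set (MvPolynomial (Fin 3) k))) = 0 ↔ IsRelPrime f g := by
  set V := ProjectiveSpectrum.zeroLocus (CohB1.polyGrading 2 k) ({f, g} : Set (MvPolynomial (Fin 3) k)) with hV
  have hS : ringKrullDim (MvPolynomial (Fin 3) k ⧸ (⊥ : Ideal (MvPolynomial (Fin 3) k))) = ((3 : ℕ) : WithBot ℕ∞) := by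
    rw [ringKrullDim_eq_of_ringEquiv (RingEquiv.quotientBot _), MvPolynomial.ringKrullDim_of_isNoetherianRing,
      ringKrullDim_eq_zero_of_field]
    simp
  have : (⊥ : Ideal (MvPolynomial (Fin 3) k)).IsPrime := Ideal.isPrime_bot
  have hf' : ∀ q ∈ (Ideal.span {f}).minimalPrimes,
      ringKrullDim (MvPolynomial (Fin 3) k ⧸ q) = ((2 : ℕ) : WithBot ℕ∞) := fun q hq => by
    refine GrothLib.ProjDim.eq_of_add_one_eq ?_
    rw [GrothLib.ProjDim.dim_add_one_eq (n := 2) (p := ⊥) (f := f) (by simpa using hf0) (by rwa [bot_sup_eq]), hS]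
    rfl
  have hfh := GrothLib.ProjDim.isHomogeneous_span (n := 2) (σ := {f}) fun a ha =>
    ⟨n, by rw [Set.mem_singleton_iff.1 ha]; exact hf⟩
  constructor
  · intro h0 c hcf hcg
    by_contra hc
    obtain ⟨p, hp, hpc⟩ := WfDvdMonoid.exists_irreducible_factor hc
      (fun h => hf0 (zero_dvd_iff.1 (h ▸ hcf)))
    have hpp : (Ideal.span {p}).IsPrime :=
      (Ideal.span_singleton_prime hp.ne_zero).2 (UniqueFactorizationMonoid.irreducible_iff_prime.1 hp)
    have hfp : f ∈ Ideal.span {p} := Ideal.mem_span_singleton.2 (hpc.trans hcf)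
    obtain ⟨q, hq, hqp⟩ := Ideal.exists_minimalPrimes_le ((Ideal.span_singleton_le_iff_mem _).2 hfp)
    have := hq.1.1
    have hqe : q = Ideal.span {p} := by
      by_contra hne
      have h1 := Ideal.height_strict_mono_of_isPrime (lt_of_le_of_ne hqp hne)
      have h2 := Ideal.height_strict_mono_of_isPrime (show (⊥ : Ideal _) < q from bot_lt_iff_ne_bot.2
        fun h => hf0 (Ideal.mem_bot.1 (h ▸ hq.1.2 (Ideal.mem_span_singleton_self f))))
      rw [Ideal.height_bot] at h2
      have h3 : (Ideal.span {p}).height ≤ 1 :=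
        Ideal.height_le_one_of_isPrincipal_of_mem_minimalPrimes (Ideal.span {p}) _ ⟨⟨hpp, le_rfl⟩, fun _ h _ => h.2⟩
      exact absurd h3 (not_le.2 (lt_of_le_of_lt (Order.one_le_iff_pos.2 h2) h1))
    obtain ⟨z, hz, -⟩ := GrothLib.ProjDim.exists_point_of_minimalPrime hfh hq
      (by rw [hf' q hq]; exact_mod_cast (show 1 ≤ 2 by norm_num))
    have hzV : z ∈ V := by
      show ({f, g} : Set _) ⊆ (z.asHomogeneousIdeal.toIdeal : Set _)
      rw [hz, hqe]
      exact Set.insert_subset hfp (Set.singleton_subset_iff.2 (Ideal.mem_span_singleton.2 (hpc.trans hcg)))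
    have h1 := GrothLib.ProjDim.dim_closure_add_one z
    rw [hz, hf' q hq] at h1
    have h2 : topologicalKrullDim (closure {z} : Set (ProjectiveSpectrum (CohB1.polyGrading 2 k))) ≤ 0 := h0 ▸
      (Topology.IsEmbedding.inclusion (closure_minimal (Set.singleton_subset_iff.2 hzV)
        (ProjectiveSpectrum.isClosed_zeroLocus _ _))).isInducing.topologicalKrullDim_le
    have h3 := h1 ▸ GrothLib.ProjDim.add_one_le_add_one_iff.2 h2
    rw [zero_add] at h3
    exact absurd (show (2 : ℕ) ≤ 1 by exact_mod_cast h3) (by norm_num)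
  · intro hrel
    have key : ∀ x ∈ V, ringKrullDim (MvPolynomial (Fin 3) k ⧸ x.asHomogeneousIdeal.toIdeal) ≤ ((1 : ℕ) : WithBot ℕ∞) := by
      intro x hx
      obtain ⟨q, hq, hqx⟩ := Ideal.exists_minimalPrimes_le
        ((Ideal.span_singleton_le_iff_mem x.asHomogeneousIdeal.toIdeal).2 (hx (Set.mem_insert f _)))
      have := hq.1.1
      have hlt : q < x.asHomogeneousIdeal.toIdeal := by
        refine lt_of_le_of_ne hqx fun he => ?_
        have hne : q ≠ ⊥ := fun h => hf0 (Ideal.mem_bot.1 (h ▸ hq.1.2 (Ideal.mem_span_singleton_self f)))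
        obtain ⟨p, hpq, hp⟩ := Ideal.IsPrime.exists_mem_prime_of_ne_bot (I := q) inferInstance hne
        have hpp : (Ideal.span {p}).IsPrime := (Ideal.span_singleton_prime hp.ne_zero).2 hp
        have hh : q.height ≤ 1 := Ideal.height_le_one_of_isPrincipal_of_mem_minimalPrimes (Ideal.span {f}) q hq
        have heq : Ideal.span {p} = q := by
          by_contra hne'
          have h1 := Ideal.height_strict_mono_of_isPrime (lt_of_le_of_ne ((Ideal.span_singleton_le_iff_mem _).2 hpq) hne')
          have h2 := Ideal.height_strict_mono_of_isPrime (show (⊥ : Ideal _) < Ideal.span {p} from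
            bot_lt_iff_ne_bot.2 fun h => hp.ne_zero (Ideal.span_singleton_eq_bot.1 h))
          rw [Ideal.height_bot] at h2
          exact absurd hh (not_le.2 (lt_of_le_of_lt (Order.one_le_iff_pos.2 h2) h1))
        have hfq : f ∈ q := hq.1.2 (Ideal.mem_span_singleton_self f)
        have hgq : g ∈ q := he ▸ hx (Set.mem_insert_of_mem f rfl)
        rw [← heq, Ideal.mem_span_singleton] at hfq hgq
        exact hp.not_unit (hrel hfq hgq)
      have h1 := GrothLib.ProjDim.dim_add_one_le_of_lt hlt
      rw [hf' q hq] at h1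
      obtain ⟨d, hd⟩ := GrothLib.ProjDim.exists_nat_dim_quotient x.asHomogeneousIdeal.toIdeal
      rw [hd] at h1 ⊢
      have : d + 1 ≤ 2 := by exact_mod_cast h1
      exact_mod_cast (show d ≤ 1 by omega)
    have hI : (Ideal.span {f, g}).IsHomogeneous (CohB1.polyGrading 2 k) :=
      GrothLib.ProjDim.isHomogeneous_span fun a ha => by
        rcases ha with rfl | rfl
        · exact ⟨n, hf⟩
        · exact ⟨m, hg⟩
    obtain ⟨q, hq, -⟩ := Ideal.exists_minimalPrimes_le (I := Ideal.span {f, g}) (J := GrothLib.ProjDim.mIdeal k 2)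
      (Ideal.span_le.2 (Set.insert_subset (hf.coeff_eq_zero (by rw [map_zero]; exact hn.ne))
        (Set.singleton_subset_iff.2 (hg.coeff_eq_zero (by rw [map_zero]; exact hm.ne)))))
    have := hq.1.1
    classical
    have hge := GrothLib.ProjDim.dim_le_dim_add_card (n := 2) ⊥ {f, g} (q := q)
      (by rw [bot_sup_eq]; simpa using hq)
    obtain ⟨e, he⟩ := GrothLib.ProjDim.exists_nat_dim_quotient q
    rw [hS, he] at hge
    have he1 : 3 ≤ e + ({f, g} : Finset (MvPolynomial (Fin 3) k)).card := by exact_mod_cast hge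
    have hc2 : ({f, g} : Finset (MvPolynomial (Fin 3) k)).card ≤ 2 :=
      (Finset.card_insert_le _ _).trans (by simp)
    obtain ⟨z, -, hz⟩ := GrothLib.ProjDim.exists_point_of_minimalPrime hI hq
      (by rw [he]; exact_mod_cast (show 1 ≤ e by omega))
    have hzV : z ∈ V := by
      rw [hV, ← ProjectiveSpectrum.zeroLocus_span]; exact hz
    refine le_antisymm ?_ ?_
    · by_contra hgt
      have h1 : ((1 : ℕ) : WithBot ℕ∞) ≤ topologicalKrullDim V := by
        revert hgt
        cases topologicalKrullDim V with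
        | bot => simp
        | coe v =>
          intro hgt
          have : ¬ v ≤ 0 := fun h => hgt (WithBot.coe_le_coe.2 h)
          exact WithBot.coe_le_coe.2 (Order.one_le_iff_pos.2 (not_le.1 this))
      obtain ⟨x, hx, hx1⟩ := GrothLib.ProjDim.exists_point_le_dim (ProjectiveSpectrum.isClosed_zeroLocus _ _) ⟨z, hzV⟩ 1 h1
      have h2 := GrothLib.ProjDim.add_one_le_add_one_iff.2 hx1
      rw [GrothLib.ProjDim.dim_closure_add_one] at h2
      exact absurd (show (2 : ℕ) ≤ 1 by exact_mod_cast h2.trans (key x hx)) (by norm_num)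
    · obtain ⟨C, hC, -⟩ := exists_mem_irreducibleComponents_subset_of_isIrreducible {(⟨z, hzV⟩ : V)} isIrreducible_singleton
      refine le_iSup_of_le (RelSeries.singleton _ ⟨C, hC.1, isClosed_of_mem_irreducibleComponents C hC⟩) le_rfl

end Groth.Agent.S10840
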