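import Groth.Statements.S10841
import Groth.Agent.Lib.AffDom.PointDim

set_option autoImplicit false
universe u
open CategoryTheory AlgebraicGeometry Topology
open Variety

namespace Groth.Agent.S10841

/-- Let k be a field, X an irreducible scheme of finite type over k, and f : Y → X a morphism over k
from a scheme Y of finite type over k whose image contains the generic point of X. Then dim Y ≥ dim
X. -/
theorem result (k : Type u) [Field k] {X Y : Scheme.{u}}
    (p : X ⟶ Spec (CommRingCat.of k)) (q : Y ⟶ Spec (CommRingCat.of k))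
    [LocallyOfFiniteType p] [QuasiCompact p] [LocallyOfFiniteType q] [QuasiCompact q]
    [IrreducibleSpace ↥X] (f : Y ⟶ X) (hf : f ≫ p = q)
    (hη : genericPoint ↥X ∈ Set.range f.base) :
    topologicalKrullDim ↥X ≤ topologicalKrullDim ↥Y := by
  obtain ⟨y, hy⟩ := hη
  have : LocallyOfFiniteType f := by
    have : LocallyOfFiniteType (f ≫ p) := by rw [hf]; infer_instance
    exact locallyOfFiniteType_of_comp f p
  have hX : GrothLib.AffDom.ptDim (genericPoint ↥X) = topologicalKrullDim ↥X := by
    refine le_antisymm (GrothLib.AffDom.ptDim_le _) ?_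
    rw [GrothLib.AffDom.topologicalKrullDim_eq_iSup_ptDim]
    exact iSup_le fun x => GrothLib.AffDom.ptDim_mono (genericPoint_specializes x)
  calc topologicalKrullDim ↥X = GrothLib.AffDom.ptDim (f y) := by rw [← hX, ← hy]
    _ ≤ GrothLib.AffDom.ptDim (f y) + GrothLib.AffDom.ptDim (f.asFiber y) :=
        le_add_of_nonneg_right (GrothLib.AffDom.ptDim_nonneg _)
    _ = GrothLib.AffDom.ptDim y := (GrothLib.AffDom.ptDim_eq_add f p y).symm
    _ ≤ _ := GrothLib.AffDom.ptDim_le y

end Groth.Agent.S10841
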