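import Groth.Statements.S10842
import Mathlib.RingTheory.IntegralClosure.IntegrallyClosed
import Mathlib.RingTheory.Localization.LocalizationLocalization
import Mathlib.AlgebraicGeometry.AffineScheme

set_option autoImplicit false
universe u
open CategoryTheory AlgebraicGeometry
open Variety

namespace Groth.Agent.S10842

/-- A quasi-compact scheme whose local rings at all closed points are integrally closed domains is
normal, i.e. all of its local rings are integrally closed domains. -/
theorem result (X : Scheme.{u}) [CompactSpace ↥X]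
    (h : ∀ x : X, IsClosed ({x} : Set X) →
      IsDomain (X.presheaf.stalk x) ∧ IsIntegrallyClosed (X.presheaf.stalk x)) :
    Pi1.IsNormalScheme X := by
  intro y
  obtain ⟨x, hxy, hx⟩ := isClosed_closure.exists_closed_singleton (X := X) ⟨y, subset_closure (Set.mem_singleton y)⟩
  have hspec : y ⤳ x := specializes_iff_mem_closure.2 hxy
  obtain ⟨_, ⟨U, hU, rfl⟩, hxU, -⟩ :=
    X.isBasis_affineOpens.exists_subset_of_mem_open (Set.mem_univ x) isOpen_univ
  have hU : IsAffineOpen U := hU
  have hyU : y ∈ U := hspec.mem_open U.2 hxU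
  let _ := X.presheaf.algebra_section_stalk ⟨x, hxU⟩
  let _ := X.presheaf.algebra_section_stalk ⟨y, hyU⟩
  let P := (hU.primeIdealOf ⟨x, hxU⟩).asIdeal
  let Q := (hU.primeIdealOf ⟨y, hyU⟩).asIdeal
  have : IsLocalization.AtPrime (X.presheaf.stalk x) P := hU.isLocalization_stalk ⟨x, hxU⟩
  have : IsLocalization.AtPrime (X.presheaf.stalk y) Q := hU.isLocalization_stalk ⟨y, hyU⟩
  have hQP : Q ≤ P := by
    refine (PrimeSpectrum.le_iff_specializes (hU.primeIdealOf ⟨y, hyU⟩) (hU.primeIdealOf ⟨x, hxU⟩)).2 ?_
    refine (hU.fromSpec.isEmbedding.isInducing.specializes_iff).1 ?_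
    rw [hU.fromSpec_primeIdealOf, hU.fromSpec_primeIdealOf]
    exact hspec
  have hle : P.primeCompl ≤ Q.primeCompl := fun a ha hq => ha (hQP hq)
  let _ := IsLocalization.localizationAlgebraOfSubmonoidLe (X.presheaf.stalk x) (X.presheaf.stalk y)
    P.primeCompl Q.primeCompl hle
  have := IsLocalization.localization_isScalarTower_of_submonoid_le (X.presheaf.stalk x) (X.presheaf.stalk y)
    P.primeCompl Q.primeCompl hle
  have hloc := IsLocalization.isLocalization_of_submonoid_le (X.presheaf.stalk x) (X.presheaf.stalk y)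
    P.primeCompl Q.primeCompl hle
  obtain ⟨hd, hic⟩ := h x hx
  have hM : Submonoid.map (algebraMap Γ(X, U) (X.presheaf.stalk x)) Q.primeCompl ≤
      nonZeroDivisors (X.presheaf.stalk x) := le_nonZeroDivisors_of_noZeroDivisors (by
    rintro ⟨a, ha, ha0⟩
    obtain ⟨⟨c, hc⟩, hca⟩ := (IsLocalization.map_eq_zero_iff P.primeCompl (X.presheaf.stalk x) a).1 ha0
    exact ha ((hU.primeIdealOf ⟨y, hyU⟩).isPrime.mem_or_mem (x := c) (y := a) (hca ▸ Q.zero_mem) |>.resolve_left
      (hle hc)))
  exact ⟨IsLocalization.isDomain_of_le_nonZeroDivisors (R := X.presheaf.stalk x) (S := X.presheaf.stalk y) (M := Submonoid.map (algebraMap Γ(X, U) (X.presheaf.stalk x)) Q.primeCompl) hM,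
    isIntegrallyClosed_of_isLocalization (X.presheaf.stalk y) _ hM⟩

end Groth.Agent.S10842
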