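import Groth.Statements.S10844
import Groth.Agent.Lib.QCoh.SupportPullback
import Mathlib

set_option autoImplicit false
set_option backward.isDefEq.respectTransparency false
universe u
open RepF

open CategoryTheory CategoryTheory.Limits AlgebraicGeometry GrothLib

namespace Groth.Agent.S10844

theorem isZero_iff_support {X : Scheme.{u}} (F : X.Modules) : IsZero F ↔ CohB1.support F = ∅ := by
  constructor
  · intro hF
    exact Set.eq_empty_of_forall_notMem fun x hx =>
      hx (ModuleCat.isZero_iff_subsingleton.1 ((OX.stalk x).map_isZero hF))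
  · intro h
    rw [IsZero.iff_id_eq_zero]
    refine Scheme.Modules.hom_ext _ _ fun U => AddCommGrpCat.ext fun s => ?_
    have hs : (show Γ(F, U) from s) = 0 := GrothLib.QCoh.section_eq_zero_of_germ F _ fun x hx =>
      @Subsingleton.elim _ (GrothLib.QCoh.stalk_subsingleton_of_notMem fun hx' => by rw [h] at hx'; exact hx'.elim) _ _
    exact hs

open AlgebraicGeometry CategoryTheory in
/-- For a scheme S and a homomorphism v : E → F of quasi-coherent O_S-modules with F of finite type,
there is an open subscheme U of S such that a morphism of schemes f : T → S factors through U (its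
image lies in U) if and only if the pulled-back homomorphism f^*v : f^*E → f^*F is an epimorphism. -/
theorem result {S : Scheme.{u}} {E F : S.Modules}
    [Coh.IsQCoh E] [Coh.IsQCoh F] (hF : CohB1.IsFT F) (v : E ⟶ F) :
    ∃ U : S.Opens, ∀ (T : Scheme.{u}) (f : T ⟶ S),
      Set.range f.base ⊆ (U : Set S) ↔ Epi ((Scheme.Modules.pullback f).map v) := by
  haveI : E.IsQuasicoherent := ‹Coh.IsQCoh E›
  haveI : F.IsQuasicoherent := ‹Coh.IsQCoh F›
  let C := cokernel v
  have hC : Coh.IsCoh C := ⟨GrothLib.QCoh.isQuasicoherent_cokernel v, GrothLib.QCoh.isFiniteType_cokernel v hF⟩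
  refine ⟨⟨(CohB1.support C)ᶜ, (GrothLib.QCoh.isClosed_support_of_isCoh hC).isOpen_compl⟩, fun T f => ?_⟩
  let e := PreservesCokernel.iso (Scheme.Modules.pullback f) v
  rw [Preadditive.epi_iff_isZero_cokernel, ← e.isZero_iff, isZero_iff_support,
    GrothLib.QCoh.support_pullback f C hC, Set.preimage_eq_empty_iff]
  exact Set.subset_compl_iff_disjoint_left

end Groth.Agent.S10844
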