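import Groth.Statements.S10846
import Groth.Agent.Lib.Grass26.Rep

set_option autoImplicit false
universe u
open Grass

namespace Groth.Agent.S10846

open AlgebraicGeometry CategoryTheory in
/-- Let R be a commutative ring, M a finitely generated R-module and k a natural number. The
Grassmannian functor of rank-k locally free quotients of M (on R-algebras A: submodules N of A ⊗_R M
whose quotient is a finite projective A-module of constant rank k) is representable by a scheme X
over Spec R: there is a family of bijections between Spec R-morphisms Spec A → X and the value of
the functor at A, compatible with base change along every R-algebra homomorphism A → B. (The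
published statement is for a quasi-coherent module over an arbitrary base scheme, and is proved
there for modules of finite type; this row takes the base affine and the module finitely generated.) -/
theorem result (R : Type u) [CommRing R]
    (M : Type u) [AddCommGroup M] [Module R M] [Module.Finite R M] (k : ℕ) :
    ∃ (X : Over (Spec (CommRingCat.of R)))
      (e : ∀ A : CommAlgCat.{u} R,
        (Over.mk (Spec.map (CommRingCat.ofHom (algebraMap R A))) ⟶ X) ≃
          (Module.Grassmannian.functor (R := R) (M := M) k).obj A),
      ∀ (A B : CommAlgCat.{u} R) (φ : A ⟶ B)
        (g : Over.mk (Spec.map (CommRingCat.ofHom (algebraMap R A))) ⟶ X)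
        (g' : Over.mk (Spec.map (CommRingCat.ofHom (algebraMap R B))) ⟶ X),
        g'.left = Spec.map (CommRingCat.ofHom φ.hom.toRingHom) ≫ g.left →
          e B g' = (Module.Grassmannian.functor (R := R) (M := M) k).map φ (e A g) := by
  exact GrothLib.Grass26.exists_rep R M k

end Groth.Agent.S10846
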