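import Groth.Statements.S10849
import Mathlib.LinearAlgebra.Matrix.ToLinearEquiv
import Mathlib.LinearAlgebra.Matrix.NonsingularInverse
import Mathlib.Data.Fin.Tuple.Sort
import Mathlib.Algebra.Polynomial.Reverse
import Mathlib.Algebra.Polynomial.Degree.Lemmas
import Mathlib.RingTheory.Polynomial.Basic
import Mathlib.RingTheory.PrincipalIdealDomain
import Mathlib.Algebra.Polynomial.FieldDivision

set_option autoImplicit false
universe u
open VbP1

namespace Groth.Agent.S10849

open Polynomial

variable {k : Type u} [Field k]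

theorem toLaurent_eq_T_mul_invert_reflect (d : ℕ) (p : k[X]) (hp : p.natDegree ≤ d) :
    toLaurent p = LaurentPolynomial.T (R := k) (d : ℤ) * LaurentPolynomial.invert (toLaurent (reflect d p)) := by
  refine Polynomial.induction_with_natDegree_le
    (motive := fun p => toLaurent p = LaurentPolynomial.T (R := k) (d : ℤ) * LaurentPolynomial.invert (toLaurent (reflect d p)))
    d (by simp) (fun m r _ hm => ?_) (fun f g _ _ hf hg => ?_) p hp
  · rw [reflect_C_mul_X_pow, toLaurent_C_mul_X_pow, toLaurent_C_mul_X_pow, revAt_le hm, map_mul,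
      LaurentPolynomial.invert_C, LaurentPolynomial.invert_T, mul_left_comm, ← LaurentPolynomial.T_add]
    congr 2
    omega
  · simp only [reflect_add, map_add, mul_add, hf, hg]

/-- Row reduced form. -/
theorem exists_rowReduced (n : ℕ) (M : Matrix (Fin n) (Fin n) k[X]) (hM : M.det ≠ 0) :
    ∃ (U : Matrix (Fin n) (Fin n) k[X]) (d : Fin n → ℕ), IsUnit U.det ∧
      (∀ i j, ((U * M) i j).natDegree ≤ d i) ∧
      (Matrix.of fun i j => ((U * M) i j).coeff (d i)).det ≠ 0 := by
  classical
  let P : ℕ → Prop := fun s => ∃ (U : Matrix (Fin n) (Fin n) k[X]) (d : Fin n → ℕ), IsUnit U.det ∧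
    (∀ i j, ((U * M) i j).natDegree ≤ d i) ∧ ∑ i, d i = s
  have hex : ∃ s, P s := ⟨_, 1, fun i => Finset.univ.sup fun j => (M i j).natDegree, by simp,
    fun i j => by rw [one_mul]; exact Finset.le_sup (f := fun j => (M i j).natDegree) (Finset.mem_univ j), rfl⟩
  obtain ⟨U, d, hU, hd, hs⟩ := Nat.find_spec hex
  refine ⟨U, d, hU, hd, fun hdet => ?_⟩
  obtain ⟨c, hc, hcM⟩ := Matrix.exists_vecMul_eq_zero_iff.mpr hdet
  have hs' : (Finset.univ.filter fun j => c j ≠ 0).Nonempty := by
    obtain ⟨j, hj⟩ := Function.ne_iff.mp hc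
    exact ⟨j, Finset.mem_filter.mpr ⟨Finset.mem_univ j, hj⟩⟩
  obtain ⟨i, hi, hmax⟩ := Finset.exists_max_image _ d hs'
  have hci : c i ≠ 0 := (Finset.mem_filter.mp hi).2
  let w : Fin n → k[X] := fun j => C (c j) * X ^ (d i - d j)
  let E : Matrix (Fin n) (Fin n) k[X] := Matrix.updateRow 1 i w
  have hE : IsUnit E.det := by
    have h := Matrix.det_updateRow_sum (1 : Matrix (Fin n) (Fin n) k[X]) i w
    rw [Matrix.det_one] at h
    have hw : (∑ l, w l • (1 : Matrix (Fin n) (Fin n) k[X]) l) = w := by
      funext j; simp [Matrix.one_apply]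
    rw [hw] at h
    have hE' : E.det = w i := by simpa using h
    rw [hE']
    simp only [w, Nat.sub_self, pow_zero, mul_one]
    exact (IsUnit.mk0 _ hci).map C
  have hrow : ∀ j, ((E * U) * M) i j = ∑ l, w l * (U * M) l j := fun j => by
    rw [mul_assoc, Matrix.mul_apply]
    simp [E, Matrix.updateRow_self]
  have hother : ∀ l, l ≠ i → ∀ j, ((E * U) * M) l j = (U * M) l j := fun l hl j => by
    rw [mul_assoc, Matrix.mul_apply]
    simp [E, Matrix.updateRow_ne hl, Matrix.one_apply]
  have hcoef : ∀ j N, d i ≤ N → (((E * U) * M) i j).coeff N = 0 := by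
    intro j N hN
    rw [hrow, finset_sum_coeff]
    have hterm : ∀ l, (w l * (U * M) l j).coeff N = if N = d i then c l * ((U * M) l j).coeff (d l) else 0 := by
      intro l
      by_cases hcl : c l = 0
      · simp [w, hcl]
      have hle : d l ≤ d i := hmax l (Finset.mem_filter.mpr ⟨Finset.mem_univ l, hcl⟩)
      simp only [w]
      rw [mul_assoc, coeff_C_mul, coeff_X_pow_mul', if_pos (by omega)]
      by_cases hNi : N = d i
      · rw [if_pos hNi, hNi, show d i - (d i - d l) = d l by omega]
      · rw [if_neg hNi, coeff_eq_zero_of_natDegree_lt (lt_of_le_of_lt (hd l j) (by omega)), mul_zero]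
    simp only [hterm]
    by_cases hNi : N = d i
    · simp only [if_pos hNi]
      exact congrFun hcM j
    · simp [hNi]
  have hdetU : IsUnit (E * U).det := by rw [Matrix.det_mul]; exact hE.mul hU
  rcases Nat.eq_zero_or_pos (d i) with h0 | hpos
  · have hz : ∀ j, ((E * U) * M) i j = 0 := fun j => by
      ext N; rw [coeff_zero]; exact hcoef j N (by omega)
    have := Matrix.det_eq_zero_of_row_eq_zero i hz
    rw [Matrix.det_mul] at this
    exact (mul_ne_zero hdetU.ne_zero hM) this
  have hlt : ∑ l, Function.update d i (d i - 1) l < ∑ l, d l := by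
    refine Finset.sum_lt_sum (fun l _ => ?_) ⟨i, Finset.mem_univ i, by rw [Function.update_self]; omega⟩
    by_cases hl : l = i
    · subst hl; rw [Function.update_self]; omega
    · rw [Function.update_of_ne hl]
  refine Nat.find_min hex (hs ▸ hlt) ⟨E * U, Function.update d i (d i - 1), hdetU, fun l j => ?_, rfl⟩
  by_cases hl : l = i
  · subst hl
    rw [Function.update_self]
    exact natDegree_le_iff_coeff_eq_zero.mpr fun N hN => hcoef j N (by omega)
  · rw [Function.update_of_ne hl, hother l hl]
    exact hd l j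

/-- Let k be a field and n a natural number. For every invertible n × n matrix A with entries in the
Laurent polynomial ring k[T, T⁻¹] there are matrices P and Q over k[T], invertible over k[T], and
integers d_1 ≥ d_2 ≥ … ≥ d_n (indexed by Fin n, antitone) such that A = P · diag(T^{d_i}) · Q⁻,
where Q⁻ is obtained from Q by the substitution T ↦ T⁻¹ (so Q⁻ is invertible over k[T⁻¹]). -/
theorem result (k : Type u) [Field k] (n : ℕ)
    (A : Matrix (Fin n) (Fin n) (LaurentPolynomial k)) (hA : IsUnit A) :
    ∃ (P Q : Matrix (Fin n) (Fin n) (Polynomial k)) (d : Fin n → ℤ),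
      IsUnit P ∧ IsUnit Q ∧ Antitone d ∧
        A = P.map Polynomial.toLaurent * Matrix.diagonal (fun i => LaurentPolynomial.T (d i)) *
          (Q.map Polynomial.toLaurent).map LaurentPolynomial.invert := by
  classical
  choose a f hf using fun i j => LaurentPolynomial.exists_T_pow (A i j)
  let N₀ := Finset.univ.sup fun p : Fin n × Fin n => a p.1 p.2
  have ha : ∀ i j, a i j ≤ N₀ := fun i j =>
    Finset.le_sup (f := fun p : Fin n × Fin n => a p.1 p.2) (Finset.mem_univ (i, j))
  let M : Matrix (Fin n) (Fin n) k[X] := Matrix.of fun i j => f i j * X ^ (N₀ - a i j)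
  let mL : Matrix (Fin n) (Fin n) k[X] →+* Matrix (Fin n) (Fin n) (LaurentPolynomial k) :=
    (Polynomial.toLaurent : k[X] →+* LaurentPolynomial k).mapMatrix
  have hMA : M.map (toLaurent (R := k)) = LaurentPolynomial.T (R := k) (N₀ : ℤ) • A := by
    ext i j : 1
    rw [Matrix.map_apply, Matrix.smul_apply, smul_eq_mul]
    simp only [M, Matrix.of_apply]
    rw [map_mul, toLaurent_X_pow, hf, mul_assoc, ← LaurentPolynomial.T_add, mul_comm]
    congr 2
    have := ha i j
    omega
  have hAdet : IsUnit A.det := (Matrix.isUnit_iff_isUnit_det A).mp hA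
  have hMdetL : IsUnit (toLaurent M.det) := by
    rw [RingHom.map_det]
    show IsUnit (M.map (toLaurent (R := k))).det
    rw [hMA, Matrix.det_smul]
    exact ((LaurentPolynomial.isUnit_T _).pow _).mul hAdet
  have hM : M.det ≠ 0 := fun h => by rw [h, map_zero] at hMdetL; exact not_isUnit_zero hMdetL
  obtain ⟨U, d, hU, hd, hlead⟩ := exists_rowReduced n M hM
  let Q : Matrix (Fin n) (Fin n) k[X] := Matrix.of fun i j => reflect (d i) ((U * M) i j)
  have hUM : (U * M).map (toLaurent (R := k)) =
      Matrix.diagonal (fun i => LaurentPolynomial.T (R := k) (d i : ℤ)) * (Q.map (toLaurent (R := k))).map LaurentPolynomial.invert := by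
    ext i j : 1
    rw [Matrix.diagonal_mul, Matrix.map_apply, Matrix.map_apply, Matrix.map_apply]
    exact toLaurent_eq_T_mul_invert_reflect _ _ (hd i j)
  have hQ : IsUnit Q.det := by
    have h0 : Q.det.coeff 0 ≠ 0 := by
      rw [coeff_zero_eq_eval_zero, ← coe_evalRingHom, RingHom.map_det]
      convert hlead using 2
      ext i j
      simp [Q, ← coeff_zero_eq_eval_zero, coeff_reflect, revAt_le]
    have hu : IsUnit (toLaurent Q.det) := by
      have h1 : IsUnit ((U * M).map (toLaurent (R := k))).det := by
        have : ((U * M).map (toLaurent (R := k))).det = toLaurent (U * M).det := (RingHom.map_det _ _).symm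
        rw [this, Matrix.det_mul, map_mul]
        exact (hU.map _).mul hMdetL
      rw [hUM, Matrix.det_mul] at h1
      have h2 := isUnit_of_mul_isUnit_right h1
      have h3 : ((Q.map (toLaurent (R := k))).map LaurentPolynomial.invert).det =
          LaurentPolynomial.invert (toLaurent Q.det) := by
        rw [RingHom.map_det, AlgEquiv.map_det]
        rfl
      rw [h3] at h2
      have := h2.map (LaurentPolynomial.invert (R := k)).symm
      rwa [AlgEquiv.symm_apply_apply] at this
    obtain ⟨v, hv⟩ := hu.exists_right_inv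
    obtain ⟨m, g, hg⟩ := LaurentPolynomial.exists_T_pow v
    have hdvd : Q.det ∣ X ^ m := ⟨g, toLaurent_injective (by
      rw [map_mul, toLaurent_X_pow, hg, ← mul_assoc, hv, one_mul])⟩
    have hco : IsCoprime Q.det (X ^ m) :=
      ((Irreducible.coprime_iff_not_dvd Polynomial.irreducible_X).mpr fun h => h0 (X_dvd_iff.mp h)).symm.pow_right
    exact hco.isUnit_of_dvd hdvd
  let σ := Tuple.sort (fun i => OrderDual.toDual (d i : ℤ))
  refine ⟨(U⁻¹).submatrix id σ, Q.submatrix σ id, fun i => (d (σ i) : ℤ) - N₀, ?_, ?_, ?_, ?_⟩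
  · rw [Matrix.isUnit_iff_isUnit_det, Matrix.det_permute']
    exact ((Int.isUnit_iff.mpr (Int.units_eq_one_or _ |>.imp (congrArg Units.val) (congrArg Units.val))).map
      (Int.castRingHom k[X])).mul (Matrix.isUnit_nonsing_inv_det U hU)
  · rw [Matrix.isUnit_iff_isUnit_det, Matrix.det_permute]
    exact ((Int.isUnit_iff.mpr (Int.units_eq_one_or _ |>.imp (congrArg Units.val) (congrArg Units.val))).map
      (Int.castRingHom k[X])).mul hQ
  · intro i j hij
    have := Tuple.monotone_sort (fun i => OrderDual.toDual (d i : ℤ)) hij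
    simp only [Function.comp_apply, OrderDual.toDual_le_toDual] at this
    simp only [σ]
    linarith
  · have hperm : ((U⁻¹).submatrix id σ).map (toLaurent (R := k)) *
        Matrix.diagonal (fun i => LaurentPolynomial.T (R := k) ((d (σ i) : ℤ) - N₀)) *
        ((Q.submatrix σ id).map (toLaurent (R := k))).map LaurentPolynomial.invert =
        (U⁻¹).map (toLaurent (R := k)) * Matrix.diagonal (fun i => LaurentPolynomial.T (R := k) ((d i : ℤ) - N₀)) *
          (Q.map (toLaurent (R := k))).map LaurentPolynomial.invert := by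
      ext i j : 1
      rw [Matrix.mul_apply, Matrix.mul_apply]
      simp only [Matrix.mul_diagonal, Matrix.map_apply, Matrix.submatrix_apply, id_eq]
      exact Equiv.sum_comp σ (fun l => toLaurent (U⁻¹ i l) * LaurentPolynomial.T (R := k) ((d l : ℤ) - N₀) *
        LaurentPolynomial.invert (toLaurent (Q l j)))
    rw [hperm]
    have hdiag : Matrix.diagonal (fun i => LaurentPolynomial.T (R := k) ((d i : ℤ) - N₀)) =
        LaurentPolynomial.T (R := k) (-(N₀ : ℤ)) • Matrix.diagonal (fun i => LaurentPolynomial.T (R := k) (d i : ℤ)) := by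
      ext i j : 1
      by_cases h : i = j
      · subst h
        rw [Matrix.smul_apply, Matrix.diagonal_apply_eq, Matrix.diagonal_apply_eq, smul_eq_mul,
          ← LaurentPolynomial.T_add, neg_add_eq_sub]
      · simp [Matrix.diagonal_apply_ne _ h]
    rw [hdiag, Matrix.mul_smul, Matrix.smul_mul, mul_assoc, ← hUM]
    have hmap : (U⁻¹).map (toLaurent (R := k)) * (U * M).map (toLaurent (R := k)) = M.map (toLaurent (R := k)) := by
      show mL U⁻¹ * mL (U * M) = mL M
      rw [← map_mul, ← mul_assoc, Matrix.nonsing_inv_mul U hU, one_mul]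
    rw [hmap, hMA, smul_smul, ← LaurentPolynomial.T_add, neg_add_cancel, LaurentPolynomial.T_zero, one_smul]

end Groth.Agent.S10849
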