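import Groth.Statements.S10850
-- import your own Groth.Agent.* helpers here
import Groth.Agent.Lib.PGL26.Main

set_option autoImplicit false
universe u
open ProjAut

set_option backward.isDefEq.respectTransparency false
set_option linter.style.haveILetI false

noncomputable section

open GrothLib

open CategoryTheory CategoryTheory.Limits AlgebraicGeometry

namespace Groth.Agent.S10850

open AlgebraicGeometry CategoryTheory in
/-- Let k be a field and n a natural number. There is a surjective group homomorphism from GL_{n+1}(k)
onto the group of automorphisms of projective n-space P^n_k over Spec k whose kernel is the subgroup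
of invertible scalar matrices; so the automorphism group of P^n_k over k is isomorphic to
PGL_{n+1}(k). (Only the existence of a surjective homomorphism with this kernel is asserted here;
the published statement is about the homomorphism induced by linear substitutions of the homogeneous
coordinates.) -/
theorem result
    (k : Type u) [Field k] (n : ℕ) :
    ∃ φ : Matrix.GeneralLinearGroup (Fin (n + 1)) k →* Aut (Over.mk (CohB1.ProjSpace.toSpec n k)),
      Function.Surjective φ ∧
        φ.ker = (Units.map (Matrix.scalar (Fin (n + 1)) : k →+* Matrix (Fin (n + 1)) (Fin (n + 1)) k).toMonoidHom).range := by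
  refine ⟨PGL26.autHom, fun e => ?_, ?_⟩
  · haveI : IsIso e.hom.left := inferInstanceAs (IsIso ((Over.forget _).map e.hom))
    obtain ⟨A, hA⟩ := PGL26.exists_eq_mapA e.hom.left (Over.w e.hom)
    exact ⟨A, Iso.ext (Over.OverMorphism.ext hA.symm)⟩
  · ext A
    rw [MonoidHom.mem_ker, MonoidHom.mem_range]
    constructor
    · intro h
      obtain ⟨c, hc⟩ := (PGL26.mapA_eq_id_iff A).1 (congrArg (fun f : Aut (Over.mk (CohB1.ProjSpace.toSpec n k)) => f.hom.left) h)
      exact ⟨c, Units.ext hc⟩
    · rintro ⟨c, rfl⟩
      exact Iso.ext (Over.OverMorphism.ext ((PGL26.mapA_eq_id_iff _).2 ⟨c, rfl⟩))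

end Groth.Agent.S10850
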