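import Groth.Statements.S10851
import Groth.Agent.Lib.Mero.Div

set_option autoImplicit false
universe u
open Mero

namespace Groth.Agent.S10851

open AlgebraicGeometry in
/-- Let X be a locally Noetherian scheme and D a divisor on X (a global section of K_X^×/O_X^×). Then
the support of D has codimension at least 1 in X: for every point z at which the germ of D is
non-trivial, the local ring O_{X,z} has Krull dimension at least 1. -/
theorem result {X : Scheme.{u}} [IsLocallyNoetherian X]
    (D : Mero.Divisor X) (z : X) (hz : z ∈ Mero.supp D) :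
    (1 : WithBot ℕ∞) ≤ ringKrullDim (X.presheaf.stalk z) := by
  by_contra hlt
  refine hz (GrothLib.Mero.germ_eq_one_of_units (fun a ha => ?_) D)
  have hdim : ringKrullDim (X.presheaf.stalk z) ≤ 0 := by
    revert hlt
    generalize ringKrullDim (X.presheaf.stalk z) = d
    intro hlt
    induction d with
    | bot => exact bot_le
    | coe e =>
      have : ¬ (1 : ℕ∞) ≤ e := fun h => hlt (by exact_mod_cast h)
      have : e = 0 := ENat.lt_one_iff_eq_zero.mp (not_le.mp this)
      simp [this]
  have : Ring.KrullDimLE 0 (X.presheaf.stalk z) := Ring.krullDimLE_iff.mpr hdim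
  by_contra hu
  obtain ⟨n, hn⟩ := (Ring.KrullDimLE.isNilpotent_iff_mem_nonunits.mpr hu)
  exact zero_ne_one (((pow_mem ha n) : a ^ n ∈ _) |> fun h => (mem_nonZeroDivisors_iff_left.mp h 1 (by rw [hn, zero_mul])).symm)

end Groth.Agent.S10851
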