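import Groth.Statements.S10852
import Groth.Agent.Lib.Grass26.Smooth

set_option autoImplicit false
universe u
open Grass

namespace Groth.Agent.S10852

open AlgebraicGeometry CategoryTheory in
/-- Let R be a commutative ring and k < n natural numbers. Suppose the scheme X over Spec R represents
the Grassmannian functor of rank-k locally free quotients of the free module R^n (bijections,
compatible with base change along R-algebra maps, between Spec R-morphisms Spec A → X and submodules
of A^n whose quotient is finite projective of constant rank k). Then the structure morphism X → Spec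
R is smooth of relative dimension k(n − k), and X has a finite open covering by subschemes each
isomorphic over Spec R to affine space of dimension k(n − k). -/
theorem result (R : Type u) [CommRing R]
    (n k : ℕ) (hk : k < n) (X : Over (Spec (CommRingCat.of R)))
    (e : ∀ A : CommAlgCat.{u} R,
      (Over.mk (Spec.map (CommRingCat.ofHom (algebraMap R A))) ⟶ X) ≃
        (Module.Grassmannian.functor (R := R) (M := Fin n → R) k).obj A)
    (he : ∀ (A B : CommAlgCat.{u} R) (φ : A ⟶ B)
      (g : Over.mk (Spec.map (CommRingCat.ofHom (algebraMap R A))) ⟶ X)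
      (g' : Over.mk (Spec.map (CommRingCat.ofHom (algebraMap R B))) ⟶ X),
      g'.left = Spec.map (CommRingCat.ofHom φ.hom.toRingHom) ≫ g.left →
        e B g' = (Module.Grassmannian.functor (R := R) (M := Fin n → R) k).map φ (e A g)) :
    SmoothOfRelativeDimension (k * (n - k)) X.hom ∧
      ∃ (ι : Type) (_ : Finite ι) (U : ι → X.left.Opens), ⨆ i, U i = ⊤ ∧
        ∀ i, Nonempty (Over.mk ((U i).ι ≫ X.hom) ≅
          Over.mk (𝔸(ULift.{u} (Fin (k * (n - k))); Spec (CommRingCat.of R)) ↘ Spec (CommRingCat.of R))) := by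
  classical
  let bas : Module.Basis (ULift.{u} (Fin n)) R (Fin n → R) := (Pi.basisFun R (Fin n)).reindex Equiv.ulift.symm
  let 𝔄 := GrothLib.Grass26.grassAtlas k bas
  obtain ⟨θ, -⟩ := GrothLib.Grass26.exists_iso_of_equiv 𝔄.equiv e (fun A B φ g g' h => 𝔄.equiv_natural A B φ g g' h) he
  haveI : IsIso θ.hom.left := inferInstanceAs (IsIso ((Over.forget _).map θ.hom))
  let up : {J : Fin k → Fin n // Function.Injective J} → 𝔄.idx := fun J => ⟨fun a => ⟨J.1 a⟩, fun a c h =>
    J.2 (congrArg ULift.down h)⟩
  let c : ∀ J, 𝔄.U (up J) ⟶ X := fun J => 𝔄.c (up J) ≫ θ.hom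
  haveI : ∀ J, IsOpenImmersion (c J).left := fun J => by
    rw [Over.comp_left]; infer_instance
  let U : {J : Fin k → Fin n // Function.Injective J} → X.left.Opens := fun J => (c J).left.opensRange
  have hU : ⨆ J, U J = ⊤ := by
    refine top_le_iff.1 fun p _ => ?_
    obtain ⟨i, q, hq⟩ := 𝔄.exists_c (θ.inv.left p)
    refine TopologicalSpace.Opens.mem_iSup.2 ⟨⟨fun a => (i.1 a).down, fun a c h => i.2 (ULift.ext _ _ h)⟩, q, ?_⟩
    show θ.hom.left ((𝔄.c i).left q) = p
    rw [hq, ← Scheme.Hom.comp_apply, ← Over.comp_left, θ.inv_hom_id]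
    rfl
  have hiso : ∀ J, Nonempty (Over.mk ((U J).ι ≫ X.hom) ≅ GrothLib.Grass26.chartU R (up J).1) := fun J => by
    refine ⟨(Over.isoMk (IsOpenImmersion.isoOfRangeEq (c J).left (U J).ι ?_) ?_).symm⟩
    · rw [Scheme.Opens.range_ι]; rfl
    · show _ ≫ (U J).ι ≫ X.hom = _
      rw [IsOpenImmersion.isoOfRangeEq_hom_fac_assoc]
      exact Over.w (c J)
  have hcard : ∀ J, Nonempty (GrothLib.Grass26.Param (up J).1 ≃ Fin (k * (n - k))) := fun J => by
    refine ⟨Fintype.equivFinOfCardEq ?_⟩
    rw [Fintype.card_congr (show GrothLib.Grass26.Param (up J).1 ≃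
        Fin k × {j : ULift.{u} (Fin n) // j ∉ Set.range (up J).1} from
      { toFun := fun p => (p.1.1, ⟨p.1.2, p.2⟩), invFun := fun p => ⟨(p.1, p.2.1), p.2.2⟩,
        left_inv := fun _ => rfl, right_inv := fun _ => rfl }), Fintype.card_prod, Fintype.card_fin,
      Fintype.card_subtype_compl, Fintype.card_congr (Equiv.ofInjective _ (up J).2).symm, Fintype.card_fin,
      Fintype.card_ulift, Fintype.card_fin]
  refine ⟨?_, {J : Fin k → Fin n // Function.Injective J}, inferInstance, U, hU, fun J => ?_⟩
  · rw [IsZariskiLocalAtSource.iff_of_iSup_eq_top (P := @SmoothOfRelativeDimension (k * (n - k))) U hU]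
    intro J
    obtain ⟨φ⟩ := hiso J
    obtain ⟨σ⟩ := hcard J
    haveI : IsIso φ.hom.left := inferInstanceAs (IsIso ((Over.forget _).map φ.hom))
    rw [show (U J).ι ≫ X.hom = φ.hom.left ≫ (GrothLib.Grass26.chartU R (up J).1).hom from (Over.w φ.hom).symm,
      MorphismProperty.cancel_left_of_respectsIso (@SmoothOfRelativeDimension (k * (n - k)))]
    exact GrothLib.Grass26.smoothOfRelativeDimension_polynomial _ _ σ
  · obtain ⟨φ⟩ := hiso J
    obtain ⟨σ⟩ := hcard J
    obtain ⟨ψ⟩ := GrothLib.Grass26.exists_iso_affineSpace (R := R) (GrothLib.Grass26.Param (up J).1) _ (σ.trans Equiv.ulift.symm)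
    exact ⟨φ ≪≫ ψ⟩

end Groth.Agent.S10852
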