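import Groth.Statements.S10854
import Groth.Agent.Lib.SpreadOut.Basic

set_option autoImplicit false
universe u
open FinCond

namespace Groth.Agent.S10854

open AlgebraicGeometry CategoryTheory in
theorem fromSpecStalkOfMem_closedPoint {X : Scheme.{u}} (U : X.Opens) (x : X) (hxU : x ∈ U) :
    U.fromSpecStalkOfMem x hxU (IsLocalRing.closedPoint _) = ⟨x, hxU⟩ := by
  apply Subtype.ext
  have h := congr($(U.fromSpecStalkOfMem_ι x hxU) (IsLocalRing.closedPoint _))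
  rw [Scheme.Hom.comp_apply, Scheme.fromSpecStalk_closedPoint] at h
  exact h

open AlgebraicGeometry CategoryTheory in
/-- If two spread out maps are inverse on stalks, their composite is the identity near the point. -/
theorem exists_nhd {X Y S : Scheme.{u}} (sX : X ⟶ S) (sY : Y ⟶ S) [LocallyOfFiniteType sX]
    {x : X} {y : Y} (φ : Y.presheaf.stalk y ⟶ X.presheaf.stalk x)
    (ψ : X.presheaf.stalk x ⟶ Y.presheaf.stalk y) (hψ : ψ ≫ φ = 𝟙 _) [IsLocalHom φ.hom]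
    (U : X.Opens) (hxU : x ∈ U) (f : U.toScheme ⟶ Y)
    (hf : Spec.map φ ≫ Y.fromSpecStalk y = U.fromSpecStalkOfMem x hxU ≫ f)
    (hfS : f ≫ sY = U.ι ≫ sX)
    (V : Y.Opens) (hyV : y ∈ V) (g : V.toScheme ⟶ X)
    (hg : Spec.map ψ ≫ X.fromSpecStalk x = V.fromSpecStalkOfMem y hyV ≫ g)
    (hgS : g ≫ sX = V.ι ≫ sY) :
    ∃ (W : X.Opens) (hWU : W ≤ U) (f' : W.toScheme ⟶ V.toScheme), x ∈ W ∧
      f' ≫ V.ι = X.homOfLE hWU ≫ f ∧ f' ≫ g = W.ι := by
  set W₀ : X.Opens := U.ι ''ᵁ (f ⁻¹ᵁ V) with hW₀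
  have hle : W₀ ≤ U := U.ι_image_le _
  have hfx : f ⟨x, hxU⟩ = y := by
    have h1 := congr($hf (IsLocalRing.closedPoint _))
    simp only [Scheme.Hom.comp_apply, fromSpecStalkOfMem_closedPoint] at h1
    rw [show (Spec.map φ) (IsLocalRing.closedPoint _) = IsLocalRing.closedPoint _ from
        IsLocalRing.comap_closedPoint φ.hom, Scheme.fromSpecStalk_closedPoint] at h1
    exact h1.symm
  have hx₀ : x ∈ W₀ := ⟨⟨x, hxU⟩, (hfx.symm ▸ hyV : f ⟨x, hxU⟩ ∈ V), rfl⟩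
  let f₀ : W₀.toScheme ⟶ V.toScheme := IsOpenImmersion.lift V.ι (X.homOfLE hle ≫ f) (by
    rintro _ ⟨w, rfl⟩
    rw [Scheme.Opens.range_ι]
    obtain ⟨u, hu, huw⟩ := w.2
    have e1 : X.homOfLE hle w = u := Subtype.ext ((by simp : (X.homOfLE hle w).1 = w.1).trans huw.symm)
    show f (X.homOfLE hle w) ∈ V
    rw [e1]; exact hu)
  have hf₀ : f₀ ≫ V.ι = X.homOfLE hle ≫ f := IsOpenImmersion.lift_fac _ _ _
  have key : W₀.fromSpecStalkOfMem x hx₀ ≫ f₀ = Spec.map φ ≫ V.fromSpecStalkOfMem y hyV := by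
    rw [← cancel_mono V.ι, Category.assoc, Category.assoc, hf₀,
      Scheme.Opens.fromSpecStalkOfMem_ι, hf, ← Category.assoc]
    congr 1
    rw [← cancel_mono U.ι]; simp
  have key2 : W₀.fromSpecStalkOfMem x hx₀ ≫ f₀ ≫ g = W₀.fromSpecStalkOfMem x hx₀ ≫ W₀.ι := by
    rw [reassoc_of% key, ← hg, ← Spec.map_comp_assoc, hψ, Spec.map_id, Category.id_comp]
    simp
  simp only [Scheme.Opens.fromSpecStalkOfMem, Category.assoc] at key2
  rw [cancel_epi] at key2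
  obtain ⟨O, hxO, hO⟩ := GrothLib.SpreadOut.spread_out_unique' sX (f₀ ≫ g) W₀.ι
    (by rw [Category.assoc, hgS, reassoc_of% hf₀, hfS]; simp) key2
  refine ⟨W₀.ι ''ᵁ O, (W₀.ι_image_le O).trans hle,
    X.homOfLE (W₀.ι_image_le O) ≫ f₀, ⟨_, hxO, rfl⟩, ?_, ?_⟩
  · rw [Category.assoc, hf₀, Scheme.homOfLE_homOfLE_assoc]
  · rw [Category.assoc]
    calc X.homOfLE (W₀.ι_image_le O) ≫ f₀ ≫ g
        = (W₀.ι.isoImage O).inv ≫ O.ι ≫ f₀ ≫ g := by
          simp only [← Category.assoc]; congr 2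
          rw [← cancel_mono W₀.ι]; simp
      _ = _ := by rw [hO]; simp

open AlgebraicGeometry CategoryTheory in
/-- Let S be a scheme and X, Y two S-schemes locally of finite presentation over S. Let x be a point of
X and y a point of Y over the same point of S, and let φ : O_{Y,y} → O_{X,x} be an isomorphism
compatible with the two homomorphisms from the local ring of S. Then there exist open neighbourhoods
U of x and V of y and an S-isomorphism f : U → V whose composite with Spec O_{X,x} → U and V → Y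
equals Spec φ followed by Spec O_{Y,y} → Y. (The published statement assumes the finiteness
conditions only at the points x and y; this row assumes them everywhere.) -/
theorem result
    {X Y S : Scheme.{u}} (sX : X ⟶ S) (sY : Y ⟶ S)
    [LocallyOfFinitePresentation sX] [LocallyOfFinitePresentation sY]
    {x : X} {y : Y} (e : sX x = sY y)
    (φ : Y.presheaf.stalk y ⟶ X.presheaf.stalk x) [IsIso φ]
    (h : sY.stalkMap y ≫ φ =
      S.presheaf.stalkSpecializes (Inseparable.of_eq e).specializes ≫ sX.stalkMap x) :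
    ∃ (U : X.Opens) (hxU : x ∈ U) (V : Y.Opens) (f : U.toScheme ⟶ V.toScheme), IsIso f ∧
      Spec.map φ ≫ Y.fromSpecStalk y = U.fromSpecStalkOfMem x hxU ≫ f ≫ V.ι ∧
        f ≫ V.ι ≫ sY = U.ι ≫ sX := by
  obtain ⟨U, hxU, f, hf, hfS⟩ := GrothLib.SpreadOut.spread_out sX sY e φ h
  have h' : sX.stalkMap x ≫ inv φ =
      S.presheaf.stalkSpecializes (Inseparable.of_eq e.symm).specializes ≫ sY.stalkMap y := by
    rw [IsIso.comp_inv_eq, Category.assoc, h, ← Category.assoc,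
      TopCat.Presheaf.stalkSpecializes_comp, TopCat.Presheaf.stalkSpecializes_refl, Category.id_comp]
  obtain ⟨V, hyV, g, hg, hgS⟩ := GrothLib.SpreadOut.spread_out sY sX e.symm (inv φ) h'
  obtain ⟨W, hWU, f', hxW, hf', hfg⟩ :=
    exists_nhd sX sY φ (inv φ) (IsIso.inv_hom_id φ) U hxU f hf hfS V hyV g hg hgS
  obtain ⟨W', hW'V, g', hyW', hg', hgf⟩ :=
    exists_nhd sY sX (inv φ) φ (IsIso.hom_inv_id φ) V hyV g hg hgS U hxU f hf hfS
  have hff : ∀ w : W.toScheme, f (X.homOfLE hWU w) = V.ι (f' w) := fun w ↦ congr($hf' w).symm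
  let U₁ : X.Opens := W.ι ''ᵁ (f' ≫ V.ι) ⁻¹ᵁ W'
  have hU₁W : U₁ ≤ W := W.ι_image_le _
  let V₁ : Y.Opens := W'.ι ''ᵁ (g' ≫ U.ι) ⁻¹ᵁ U₁
  have hV₁W' : V₁ ≤ W' := W'.ι_image_le _
  have hg'' : ∀ (w : W.toScheme), g (f' w) = w.1 := fun w ↦ congr($hfg w)
  have hmem : ∀ w : U₁.toScheme, (f' (X.homOfLE hU₁W w)).1 ∈ V₁ := by
    intro w₁
    obtain ⟨w, hw, hw₁⟩ := w₁.2
    have e1 : X.homOfLE hU₁W w₁ = w :=
      Subtype.ext ((by simp : (X.homOfLE hU₁W w₁).1 = w₁.1).trans hw₁.symm)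
    rw [e1]
    refine ⟨⟨(f' w).1, hw⟩, ?_, rfl⟩
    show U.ι (g' ⟨(f' w).1, hw⟩) ∈ U₁
    have h3 : U.ι (g' ⟨(f' w).1, hw⟩) = g (Y.homOfLE hW'V ⟨(f' w).1, hw⟩) :=
      congr($hg' ⟨(f' w).1, hw⟩)
    rw [h3, show Y.homOfLE hW'V ⟨(f' w).1, hw⟩ = f' w from Subtype.ext (by simp), hg'']
    exact ⟨w, hw, rfl⟩
  have hmem' : ∀ v : V₁.toScheme, (g' (Y.homOfLE hV₁W' v)).1 ∈ U₁ := by
    intro v₁
    obtain ⟨v, hv, hv₁⟩ := v₁.2
    have e1 : Y.homOfLE hV₁W' v₁ = v :=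
      Subtype.ext ((by simp : (Y.homOfLE hV₁W' v₁).1 = v₁.1).trans hv₁.symm)
    rw [e1]
    exact hv
  let α : U₁.toScheme ⟶ V₁.toScheme :=
    IsOpenImmersion.lift V₁.ι (X.homOfLE hU₁W ≫ f' ≫ V.ι) (by
      rintro _ ⟨w, rfl⟩; rw [Scheme.Opens.range_ι]; exact hmem w)
  let β : V₁.toScheme ⟶ U₁.toScheme :=
    IsOpenImmersion.lift U₁.ι (Y.homOfLE hV₁W' ≫ g' ≫ U.ι) (by
      rintro _ ⟨w, rfl⟩; rw [Scheme.Opens.range_ι]; exact hmem' w)
  have hα : α ≫ V₁.ι = X.homOfLE hU₁W ≫ f' ≫ V.ι := IsOpenImmersion.lift_fac _ _ _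
  have hβ : β ≫ U₁.ι = Y.homOfLE hV₁W' ≫ g' ≫ U.ι := IsOpenImmersion.lift_fac _ _ _
  have hαV : α ≫ Y.homOfLE (hV₁W'.trans hW'V) = X.homOfLE hU₁W ≫ f' := by
    rw [← cancel_mono V.ι]; simp [hα]
  have hβU : β ≫ X.homOfLE (hU₁W.trans hWU) = Y.homOfLE hV₁W' ≫ g' := by
    rw [← cancel_mono U.ι]; simp [hβ]
  have h₁ : α ≫ β = 𝟙 _ := by
    rw [← cancel_mono U₁.ι, Category.assoc, hβ, Category.id_comp, hg',
      Scheme.homOfLE_homOfLE_assoc, reassoc_of% hαV, hfg, Scheme.homOfLE_ι]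
  have h₂ : β ≫ α = 𝟙 _ := by
    rw [← cancel_mono V₁.ι, Category.assoc, hα, Category.id_comp, hf',
      Scheme.homOfLE_homOfLE_assoc, reassoc_of% hβU, hgf, Scheme.homOfLE_ι]
  have hxW'' : (f' ⟨x, hxW⟩).1 ∈ W' := by
    have h5 := congr($hf (IsLocalRing.closedPoint _))
    have : (f' ⟨x, hxW⟩).1 = y := by
      rw [← show f (X.homOfLE hWU ⟨x, hxW⟩) = (f' ⟨x, hxW⟩).1 from hff _,
        show X.homOfLE hWU ⟨x, hxW⟩ = ⟨x, hxU⟩ from Subtype.ext (by simp)]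
      simp only [Scheme.Hom.comp_apply, fromSpecStalkOfMem_closedPoint] at h5
      rw [show (Spec.map φ) (IsLocalRing.closedPoint _) = IsLocalRing.closedPoint _ from
          IsLocalRing.comap_closedPoint φ.hom, Scheme.fromSpecStalk_closedPoint] at h5
      exact h5.symm
    rw [this]; exact hyW'
  have hxU₁ : x ∈ U₁ := ⟨⟨x, hxW⟩, hxW'', rfl⟩
  refine ⟨U₁, hxU₁, V₁, α, ⟨β, h₁, h₂⟩, ?_, ?_⟩
  · rw [hf, hα, hf', Scheme.homOfLE_homOfLE_assoc, ← Category.assoc]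
    congr 1
    rw [← cancel_mono U.ι]; simp
  · rw [reassoc_of% hα, reassoc_of% hf', hfS]
    simp

end Groth.Agent.S10854
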