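import Groth.Statements.S10856
import Groth.Agent.Lib.Mero.Div

set_option autoImplicit false
universe u
open Mero

namespace Groth.Agent.S10856

open AlgebraicGeometry CategoryTheory TopologicalSpace in
/-- Let X be a scheme and f a global section of the sheaf of meromorphic functions K_X. The domain of
definition of f, i.e. the set of points x whose value f_x ∈ K_{X,x} lies in the image of the local
ring O_{X,x}, is the underlying set of an open subscheme D of X, and D is schematically dense in X: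
for every open subset V of X the restriction map from sections of O_X over V to sections over V ∩ D
is injective. -/
theorem result {X : Scheme.{u}} (f : Γ(Mero.kmod X, ⊤)) :
    ∃ D : X.Opens,
      (D : Set X) = {x | f.1 ⟨x, Opens.mem_top x⟩ ∈ (algebraMap (X.presheaf.stalk x) (Mero.KStalk X x)).range} ∧
        ∀ V : X.Opens, Function.Injective (X.presheaf.map (homOfLE (inf_le_left : V ⊓ D ≤ V)).op) := by
  let D : Set X := {x | f.1 ⟨x, Opens.mem_top x⟩ ∈ (algebraMap (X.presheaf.stalk x) (Mero.KStalk X x)).range}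
  have hopen : IsOpen D := by
    refine isOpen_iff_forall_mem_open.mpr fun x hx => ?_
    obtain ⟨W, hxW, i, a, b, hab⟩ := f.2 ⟨x, Opens.mem_top x⟩
    obtain ⟨c, hc⟩ := hx
    obtain ⟨W', hxW', c', rfl⟩ := X.presheaf.exists_germ_eq c
    let Z := W ⊓ W'
    have h0 : X.presheaf.germ Z x ⟨hxW, hxW'⟩ (X.presheaf.map (homOfLE (inf_le_left : Z ≤ W)).op a) =
        X.presheaf.germ Z x ⟨hxW, hxW'⟩ (X.presheaf.map (homOfLE (inf_le_left : Z ≤ W)).op b.1 *
          X.presheaf.map (homOfLE (inf_le_right : Z ≤ W')).op c') := by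
      have e1 := hab ⟨x, hxW⟩
      dsimp only at e1
      change f.1 ⟨x, Opens.mem_top x⟩ = _ at e1
      rw [← hc, ← IsLocalization.mk'_one (M := Mero.regStalk X x) (Mero.KStalk X x)] at e1
      rw [← Localization.mk_eq_mk', Localization.mk] at e1
      have e2 := (GrothLib.Mero.mkK_eq_iff _ _ _ _).mp e1
      simp only [Mero.regGerm, OneMemClass.coe_one, one_mul] at e2
      simp only [map_mul, TopCat.Presheaf.germ_res_apply]
      exact e2.symm
    obtain ⟨N, hxN, j, j', hj⟩ := X.presheaf.germ_eq x _ _ _ _ h0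
    refine ⟨N, fun y hy => ?_, N.2, hxN⟩
    have hyZ : y ∈ Z := j.le hy
    refine ⟨X.presheaf.germ W' y hyZ.2 c', ?_⟩
    have e1 := hab ⟨y, hyZ.1⟩
    dsimp only at e1
    change f.1 ⟨y, _⟩ = _ at e1
    have hy' := congrArg (X.presheaf.germ N y hy) hj
    simp only [map_mul, TopCat.Presheaf.germ_res_apply] at hy'
    rw [e1, ← IsLocalization.mk'_one (M := Mero.regStalk X y) (Mero.KStalk X y), ← Localization.mk_eq_mk']
    refine ((GrothLib.Mero.mkK_eq_iff _ _ _ _).mpr ?_).symm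
    simp only [Mero.regGerm, OneMemClass.coe_one, one_mul]
    exact hy'
  refine ⟨⟨D, hopen⟩, rfl, fun V r r' hrr => ?_⟩
  rw [← sub_eq_zero]
  refine TopCat.Presheaf.section_ext X.sheaf (V) _ _ fun x hx => ?_
  change X.presheaf.germ _ _ hx (r - r') = X.presheaf.germ _ _ hx 0
  rw [map_zero]
  obtain ⟨W, hxW, i, a, b, hab⟩ := f.2 ⟨x, Opens.mem_top x⟩
  obtain ⟨Z, hxZ, hZ⟩ := GrothLib.BlowUp.exists_affine_mem_le (show x ∈ V ⊓ W from ⟨hx, hxW⟩)
  let bZ : Γ(X, Z.1) := X.presheaf.map (homOfLE (hZ.trans inf_le_right)).op b.1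
  let rZ : Γ(X, Z.1) := X.presheaf.map (homOfLE (hZ.trans inf_le_left)).op (r - r')
  have := Z.2.isLocalization_basicOpen bZ
  have hsub : X.basicOpen bZ ≤ V ⊓ ⟨D, hopen⟩ := by
    intro y hy
    have hyZ : y ∈ Z.1 := X.basicOpen_le bZ hy
    refine ⟨(hZ hyZ).1, ?_⟩
    have hu := (Scheme.mem_basicOpen _ bZ y hyZ).mp hy
    simp only [bZ, TopCat.Presheaf.germ_res_apply] at hu
    obtain ⟨v, hv⟩ := hu
    refine ⟨X.presheaf.germ W y (hZ hyZ).2 a * ↑v⁻¹, ?_⟩
    have e1 := hab ⟨y, (hZ hyZ).2⟩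
    dsimp only at e1
    change f.1 ⟨y, _⟩ = _ at e1
    rw [e1, ← IsLocalization.mk'_one (M := Mero.regStalk X y) (Mero.KStalk X y), ← Localization.mk_eq_mk']
    refine (GrothLib.Mero.mkK_eq_iff _ _ _ _).mpr ?_
    simp only [Mero.regGerm, OneMemClass.coe_one, one_mul]
    rw [← hv, mul_comm, mul_assoc, Units.inv_mul, mul_one]
  have h0 : algebraMap Γ(X, Z.1) Γ(X, X.basicOpen bZ) rZ = 0 := by
    have h1 : X.presheaf.map (homOfLE hsub).op (X.presheaf.map (homOfLE (inf_le_left : V ⊓ ⟨D, hopen⟩ ≤ V)).op (r - r')) = 0 := by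
      rw [map_sub, hrr, sub_self, map_zero]
    rw [← h1]
    change X.presheaf.map _ (X.presheaf.map _ _) = _
    rw [← ConcreteCategory.comp_apply, ← ConcreteCategory.comp_apply, ← Functor.map_comp, ← Functor.map_comp]
    rfl
  obtain ⟨⟨_, n, rfl⟩, hn⟩ := (IsLocalization.map_eq_zero_iff (Submonoid.powers bZ) _ rZ).mp h0
  have h2 := congrArg (X.presheaf.germ Z.1 x hxZ) hn
  simp only [map_mul, map_zero, map_pow, bZ, rZ, TopCat.Presheaf.germ_res_apply] at h2
  exact mem_nonZeroDivisors_iff_left.1 (pow_mem (b.2 ⟨x, hxW⟩) n) _ h2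

end Groth.Agent.S10856
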