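import Groth.Statements.S10857
import Groth.Agent.Lib.FormalExist7.Stalk
import Groth.Agent.Lib.HomSh.Gen

set_option autoImplicit false
universe u
open QCohSup

namespace Groth.Agent.S10857

open AlgebraicGeometry CategoryTheory CategoryTheory.Limits in
/-- Take a quasi-compact scheme X, a finite-type quasi-coherent O_X-module F, and G a quasi-coherent
O_X-module which is the colimit of a filtered diagram of quasi-coherent O_X-modules G_j. A
homomorphism u : G → F is an epimorphism if and only if there is an index j₀ such that for every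
index j admitting a map from j₀ the composite G_j → G → F is an epimorphism. -/
theorem result {X : Scheme.{u}} [CompactSpace X]
    {J : Type u} [SmallCategory J] [IsFiltered J] (D : J ⥤ X.Modules) [∀ j, Coh.IsQCoh (D.obj j)]
    (c : Cocone D) (hc : IsColimit c) [Coh.IsQCoh c.pt]
    (F : X.Modules) [Coh.IsQCoh F] (hF : CohB1.IsFT F) (u : c.pt ⟶ F) :
    Epi u ↔ ∃ j₀ : J, ∀ j : J, Nonempty (j₀ ⟶ j) → Epi (c.ι.app j ≫ u) := by
  classical
  obtain ⟨jd⟩ : Nonempty J := IsFiltered.nonempty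
  constructor
  · intro hu
    haveI := hu
    have key : ∀ x : X, ∃ (j : J) (T : X.Opens), x ∈ T ∧
        ∀ y ∈ T, Function.Surjective (GrothLib.QCoh.stalkLin (c.ι.app j ≫ u) y) := by
      intro x
      obtain ⟨W, ι, _, m, hxW, hgen⟩ := GrothLib.HomSh.exists_genOn F hF x
      haveI : PreservesColimitsOfSize.{u, u} (GrothLib.OX.stalk x) :=
        (GrothLib.OX.stalkSkyAdj x).leftAdjoint_preservesColimits
      have hlim := isColimitOfPreserves (GrothLib.OX.stalk x) hc
      have hsur : Function.Surjective (GrothLib.QCoh.stalkLin u x) :=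
        (ModuleCat.epi_iff_surjective _).1 ((GrothLib.OX.epi_iff u).1 hu x)
      have hrep : ∀ i : ι, ∃ (j : J) (U : X.Opens) (hxU : x ∈ U) (r : Γ(D.obj j, U)),
          GrothLib.QCoh.stalkLin (c.ι.app j ≫ u) x ((D.obj j).presheaf.germ U x hxU r) =
            F.presheaf.germ W x hxW (m i) := by
        intro i
        obtain ⟨e, he⟩ := hsur (F.presheaf.germ W x hxW (m i))
        obtain ⟨j, e', he'⟩ := Concrete.isColimit_exists_rep _ hlim e
        obtain ⟨U, hxU, r, hr⟩ := TopCat.Presheaf.exists_germ_eq (D.obj j).presheaf (x := x) e'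
        refine ⟨j, U, hxU, r, ?_⟩
        rw [GrothLib.QCoh.stalkLin_comp, hr, ← he]
        exact congrArg (GrothLib.QCoh.stalkLin u x) he'
      choose j U hxU r hr using hrep
      obtain ⟨k, hk⟩ := IsFiltered.sup_objs_exists (insert jd (Finset.univ.image j))
      have hnb : ∀ i : ι, ∃ (T : X.Opens) (_ : x ∈ T) (hT : T ≤ U i) (hTW : T ≤ W),
          F.presheaf.map (homOfLE hT).op ((c.ι.app (j i) ≫ u).app (U i) (r i)) =
            F.presheaf.map (homOfLE hTW).op (m i) := by
        intro i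
        obtain ⟨T, hxT, iU, iW, e⟩ := TopCat.Presheaf.germ_eq F.presheaf x (hxU i) hxW _ (m i)
          ((GrothLib.QCoh.stalkLin_germ (c.ι.app (j i) ≫ u) (hxU i) (r i)).symm.trans (hr i))
        exact ⟨T, hxT, iU.le, iW.le, e⟩
      choose T hxT hTU hTW hTe using hnb
      refine ⟨k, ⟨(⋂ i, (T i : Set X)) ∩ W, (isOpen_iInter_of_finite fun i => (T i).2).inter W.2⟩,
        ⟨Set.mem_iInter.2 hxT, hxW⟩, fun y hy => ?_⟩
      rw [← LinearMap.range_eq_top, eq_top_iff, ← hgen y hy.2, Submodule.span_le]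
      rintro _ ⟨i, rfl⟩
      have hyT : y ∈ T i := Set.mem_iInter.1 hy.1 i
      obtain ⟨f⟩ := hk (Finset.mem_insert_of_mem (Finset.mem_image_of_mem j (Finset.mem_univ i)))
      refine ⟨GrothLib.QCoh.stalkLin (D.map f) y ((D.obj (j i)).presheaf.germ (U i) y (hTU i hyT) (r i)), ?_⟩
      rw [← GrothLib.QCoh.stalkLin_comp, ← Category.assoc, c.w, GrothLib.QCoh.stalkLin_germ]
      exact ((TopCat.Presheaf.germ_res_apply F.presheaf (homOfLE (hTU i)) y hyT _).symm.trans
        (congrArg (F.presheaf.germ (T i) y hyT) (hTe i))).trans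
        (TopCat.Presheaf.germ_res_apply F.presheaf (homOfLE (hTW i)) y hyT (m i))
    choose j T hxT hT using key
    obtain ⟨t, ht⟩ := isCompact_univ.elim_finite_subcover (fun x : X => (T x : Set X)) (fun x => (T x).2)
      (fun x _ => Set.mem_iUnion.2 ⟨x, hxT x⟩)
    obtain ⟨j₀, hj₀⟩ := IsFiltered.sup_objs_exists (insert jd (t.image j))
    refine ⟨j₀, fun k ⟨g⟩ => GrothLib.FormalExist7.epi_of_stalk _ fun y => ?_⟩
    obtain ⟨x, hxt, hyx⟩ := Set.mem_iUnion₂.1 (ht (Set.mem_univ y))
    obtain ⟨f⟩ := hj₀ (Finset.mem_insert_of_mem (Finset.mem_image_of_mem j hxt))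
    intro v
    obtain ⟨w, hw⟩ := hT x y hyx v
    refine ⟨GrothLib.QCoh.stalkLin (D.map (f ≫ g)) y w, ?_⟩
    rw [← GrothLib.QCoh.stalkLin_comp, ← Category.assoc, c.w]
    exact hw
  · rintro ⟨j₀, h⟩
    haveI := h j₀ ⟨𝟙 _⟩
    exact epi_of_epi (c.ι.app j₀) u

end Groth.Agent.S10857
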