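import Groth.Statements.S10858
import Groth.Agent.Lib.OX.SingleDegree
import Groth.Agent.Lib.OX.FibreRank
import Groth.Agent.Lib.QCoh.Support
import Groth.Agent.Lib.Euler.Rank
import Mathlib.RingTheory.Flat.Stability

set_option autoImplicit false
universe u
open RepF

namespace Groth.Agent.S10858

open AlgebraicGeometry CategoryTheory CategoryTheory.Limits in
set_option linter.all false
set_option backward.isDefEq.respectTransparency false

open AlgebraicGeometry CategoryTheory CategoryTheory.Limits in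
open scoped TensorProduct in
theorem finite_of_bijective {R A M : Type u} [CommRing R] [CommRing A] [Algebra R A] [AddCommGroup M] [Module R M]
    (h : Function.Bijective (algebraMap R A)) [Module.Finite A (A ⊗[R] M)] : Module.Finite R M := by
  haveI : Module.Finite R A := Module.Finite.of_surjective (Algebra.linearMap R A) h.2
  haveI : Module.Finite R (A ⊗[R] M) := Module.Finite.trans A _
  exact Module.Finite.equiv ((LinearEquiv.rTensor M (LinearEquiv.ofBijective (Algebra.linearMap R A) h)).symm ≪≫ₗ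
    TensorProduct.lid R M)

open AlgebraicGeometry CategoryTheory CategoryTheory.Limits in
theorem exists_epi_free {X : Scheme.{u}} {M : X.Modules} (hM : CohB1.IsFT M) (x : X) :
    ∃ (W : X.Opens) (m : ℕ) (p : FlatMod.freeMod (↑W) m ⟶ (Scheme.Modules.restrictFunctor W.ι).obj M),
      x ∈ W ∧ Epi p := by
  obtain ⟨W, G, hx, hG⟩ := GrothLib.QCoh.exists_generatingSections_restrict M hM x
  haveI := hG.finite
  obtain ⟨m, ⟨e⟩⟩ := Finite.exists_equiv_fin G.I
  let r := Sigma.reindex e.symm (fun _ : G.I => SheafOfModules.unit (W : Scheme.{u}).ringCatSheaf)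
  exact ⟨W, m, r.hom ≫ G.π, hx, @epi_comp _ _ _ _ _ r.hom inferInstance G.π G.epi⟩

open AlgebraicGeometry CategoryTheory CategoryTheory.Limits GrothLib GrothLib.OX in
theorem local_split {S : Scheme.{u}} {U E : S.Modules} (hU : CohB1.IsFT U) (hE : FlatMod.IsFinLocFree E) (ι : U ⟶ E)
    (x : S) (h : Mono ((Scheme.Modules.pullback (S.fromSpecResidueField x)).map ι)) :
    Mono ((stalk x).map ι) ∧ ∃ (W : Scheme.{u}) (j : W ⟶ S) (_ : IsOpenImmersion j), x ∈ Set.range j ∧
      FlatMod.IsFinLocFree ((Scheme.Modules.restrictFunctor j).obj (cokernel ι)) := by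
  let g := S.fromSpecResidueField x
  obtain ⟨t⟩ : Nonempty (Spec (S.residueField x)) := inferInstanceAs (Nonempty (PrimeSpectrum (S.residueField x)))
  have hgt : g t = x := S.fromSpecResidueField_apply x t
  haveI : Mono ((Scheme.Modules.pullback g).map ι) := h
  have hfib : Mono ((fib g t).map ι) := inferInstanceAs (Mono ((stalk t).map ((Scheme.Modules.pullback g).map ι)))
  have hTf := isField_stalk_spec (S.residueField x) (Field.toIsField _) t
  obtain ⟨W₁, m, p₁, hx₁, hp₁⟩ := exists_epi_free hU (g t)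
  obtain ⟨D, n, e, hxD, he⟩ := GrothLib.FinCov.exists_frame_nhd hE (g t)
  obtain ⟨b⟩ := GrothLib.Euler.stalk_basis_of_frame he hxD
  have hfree : Module.Free (S.presheaf.stalk (g t)) ((stalk (g t)).obj E) := Module.Free.of_basis b
  have hfinE : Module.Finite (S.presheaf.stalk (g t)) ((stalk (g t)).obj E) := Module.Finite.of_basis b
  let y₁ : W₁ := ⟨g t, hx₁⟩
  have hfinU : Module.Finite (S.presheaf.stalk (g t)) ((stalk (g t)).obj U) := by
    show Module.Finite (S.presheaf.stalk (W₁.ι y₁)) ((stalk (W₁.ι y₁)).obj U)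
    have := (finite_stalk (Iso.refl (FlatMod.freeMod (↑W₁) m)) y₁).2
    have hepi : Epi ((stalk y₁).map p₁) := inferInstance
    have h1 : Module.Finite _ ((Scheme.Modules.restrictFunctor W₁.ι ⋙ stalk y₁).obj U) :=
      Module.Finite.of_surjective ((stalk y₁).map p₁).hom ((ModuleCat.epi_iff_surjective _).1 hepi)
    have h2 := @Module.Finite.equiv _ _ _ _ _ _ _ _ h1 ((restrictStalkExtIso W₁.ι y₁).app U).toLinearEquiv
    letI := (W₁.ι.stalkMap y₁).hom.toAlgebra
    haveI : Module.Finite ((↑W₁ : Scheme.{u}).presheaf.stalk y₁) (TensorProduct (S.presheaf.stalk (W₁.ι y₁))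
        ((↑W₁ : Scheme.{u}).presheaf.stalk y₁) ((stalk (W₁.ι y₁)).obj U)) := h2
    exact finite_of_bijective (R := S.presheaf.stalk (W₁.ι y₁)) (A := (↑W₁ : Scheme.{u}).presheaf.stalk y₁)
      (ConcreteCategory.bijective_of_isIso (W₁.ι.stalkMap y₁))
  haveI := isLocalHom_stalkMap g t
  obtain ⟨l, hl⟩ := GrothLib.ModFibre.split_of_extendScalars_injective (g.stalkMap t).hom hTf ((stalk (g t)).map ι)
    ((ModuleCat.mono_iff_injective _).1 (((MorphismProperty.monomorphisms _).arrow_mk_iso_iff
      (Arrow.isoMk ((pullStalkIso g t).app U) ((pullStalkIso g t).app E)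
        ((pullStalkIso g t).hom.naturality ι).symm)).1 hfib))
  have hflat := flat_stalk_cokernel ι (g t) hfree l hl
  rw [← hgt]
  refine ⟨(ModuleCat.mono_iff_injective _).2
    (Function.LeftInverse.injective (g := l) fun z => LinearMap.congr_fun hl z), ?_⟩
  obtain ⟨D', n', hxD', ⟨φ⟩⟩ := hE (g t)
  let W : S.Opens := W₁ ⊓ D'
  have hW₁ : W ≤ W₁ := inf_le_left
  have hD : W ≤ D' := inf_le_right
  let y : W := ⟨g t, hx₁, hxD'⟩
  let R := Scheme.Modules.restrictFunctor W.ι
  let c₁ := Scheme.Modules.restrictFunctorCongr (S.homOfLE_ι hW₁).symm ≪≫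
    Scheme.Modules.restrictFunctorComp (S.homOfLE hW₁) W₁.ι
  let c₂ := Scheme.Modules.restrictFunctorCongr (S.homOfLE_ι hD).symm ≪≫
    Scheme.Modules.restrictFunctorComp (S.homOfLE hD) D'.ι
  let p : FlatMod.freeMod (↑W) m ⟶ R.obj U := (DCoh.restrictFreeModIso (S.homOfLE hW₁) m).inv ≫
    (Scheme.Modules.restrictFunctor (S.homOfLE hW₁)).map p₁ ≫ (c₁.app U).inv
  haveI := hp₁
  haveI : Epi p := by
    haveI : PreservesColimitsOfSize.{0, 0} (Scheme.Modules.restrictFunctor (S.homOfLE hW₁)) :=
      (Scheme.Modules.restrictAdjunction _).leftAdjoint_preservesColimits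
    haveI : Epi ((Scheme.Modules.restrictFunctor (S.homOfLE hW₁)).map p₁) := inferInstance
    exact epi_comp _ _
  let bE : R.obj E ≅ FlatMod.freeMod (↑W) n' := c₂.app E ≪≫
    (Scheme.Modules.restrictFunctor (S.homOfLE hD)).mapIso φ ≪≫ DCoh.restrictFreeModIso (S.homOfLE hD) n'
  let d : FlatMod.freeMod (↑W) m ⟶ FlatMod.freeMod (↑W) n' := p ≫ R.map ι ≫ bE.hom
  let π : FlatMod.freeMod (↑W) n' ⟶ R.obj (cokernel ι) := bE.inv ≫ R.map (cokernel.π ι)
  have hw : d ≫ π = 0 := by
    simp only [d, π, Category.assoc, Iso.hom_inv_id_assoc, ← Functor.map_comp, cokernel.condition,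
      Functor.map_zero, comp_zero]
  let S₀ := ShortComplex.mk ι (cokernel.π ι) (cokernel.condition ι)
  have hS₀ : (S₀.map R).Exact := (ShortComplex.exact_of_g_is_cokernel S₀ (cokernelIsCokernel ι)).map R
  let ψ : ShortComplex.mk d π hw ⟶ S₀.map R :=
    { τ₁ := p, τ₂ := bE.inv, τ₃ := 𝟙 _
      comm₁₂ := by simp only [d, S₀, ShortComplex.map_f, Category.assoc, Iso.hom_inv_id, Category.comp_id]
      comm₂₃ := by simp only [π, S₀, ShortComplex.map_g, Category.assoc, Category.comp_id] }
  haveI : Epi ψ.τ₁ := ‹Epi p›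
  haveI : IsIso ψ.τ₂ := inferInstanceAs (IsIso bE.inv)
  haveI : Mono ψ.τ₃ := inferInstanceAs (Mono (𝟙 _))
  have hex : (ShortComplex.mk d π hw).Exact := (ShortComplex.exact_iff_of_epi_of_isIso_of_mono ψ).2 hS₀
  haveI : Epi (cokernel.π ι) := coequalizer.π_epi
  haveI : Epi π := epi_comp _ _
  have hfl : Module.Flat ((↑W : Scheme.{u}).presheaf.stalk y) ((stalk y).obj (R.obj (cokernel ι))) := by
    letI := (W.ι.stalkMap y).hom.toAlgebra
    haveI : Module.Flat (S.presheaf.stalk (W.ι y)) ((stalk (W.ι y)).obj (cokernel ι)) := hflat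
    have h2 : Module.Flat ((↑W : Scheme.{u}).presheaf.stalk y) (TensorProduct (S.presheaf.stalk (W.ι y))
        ((↑W : Scheme.{u}).presheaf.stalk y) ((stalk (W.ι y)).obj (cokernel ι))) := inferInstance
    exact @Module.Flat.of_linearEquiv _ _ _ _ _ _ _ _ h2 ((restrictStalkExtIso W.ι y).app (cokernel ι)).toLinearEquiv
  obtain ⟨V, j, hj, r, ⟨v, hv⟩, ⟨q⟩⟩ := exists_restrict_free_of_flat_at d π hw hex (isFinLocFree_freeMod _ m) y hfl
  exact ⟨V, j ≫ W.ι, inferInstance, ⟨v, by rw [Scheme.Hom.comp_apply, hv]; rfl⟩,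
    DCoh.isFinLocFree_of_iso (((Scheme.Modules.restrictFunctorComp j W.ι).app (cokernel ι)) ≪≫ q).symm
      (isFinLocFree_freeMod V r)⟩

open AlgebraicGeometry CategoryTheory CategoryTheory.Limits GrothLib GrothLib.OX in
theorem mono_pullback_of_cokernel {S : Scheme.{u}} {U E : S.Modules} (ι : U ⟶ E) [Mono ι]
    (hQ : FlatMod.IsFinLocFree (cokernel ι)) {T : Scheme.{u}} (f : T ⟶ S) :
    Mono ((Scheme.Modules.pullback f).map ι) := by
  rw [mono_iff]
  intro t
  obtain ⟨D, n, e, hxD, he⟩ := GrothLib.FinCov.exists_frame_nhd hQ (f t)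
  obtain ⟨b⟩ := GrothLib.Euler.stalk_basis_of_frame he hxD
  haveI : Module.Free (S.presheaf.stalk (f t)) ((stalk (f t)).obj (cokernel ι)) := Module.Free.of_basis b
  let S₀ := ShortComplex.mk ι (cokernel.π ι) (cokernel.condition ι)
  have hS := (ShortComplex.exact_of_g_is_cokernel S₀ (cokernelIsCokernel ι)).map (stalk (f t))
  haveI : Epi (cokernel.π ι) := coequalizer.π_epi
  have hg : Function.Surjective ((stalk (f t)).map (cokernel.π ι)).hom :=
    (ModuleCat.epi_iff_surjective _).1 inferInstance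
  have hinj : Function.Injective ((stalk (f t)).map ι).hom := (ModuleCat.mono_iff_injective _).1 inferInstance
  have hex : Function.Exact ((stalk (f t)).map ι).hom ((stalk (f t)).map (cokernel.π ι)).hom :=
    (ShortComplex.ShortExact.moduleCat_exact_iff_function_exact _).1 hS
  obtain ⟨s, hs⟩ := Module.projective_lifting_property _ (LinearMap.id (R := S.presheaf.stalk (f t))) hg
  obtain ⟨l, hl⟩ : ∃ l, l ∘ₗ ((stalk (f t)).map ι).hom = LinearMap.id :=
    ((Function.Exact.split_tfae (f := ((stalk (f t)).map ι).hom) (g := ((stalk (f t)).map (cokernel.π ι)).hom)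
      hex hinj hg).out 0 1).mp (show ∃ l, ((stalk (f t)).map (cokernel.π ι)).hom ∘ₗ l = LinearMap.id from ⟨s, hs⟩)
  refine ((MorphismProperty.monomorphisms _).arrow_mk_iso_iff
    (Arrow.isoMk ((pullStalkIso f t).app U) ((pullStalkIso f t).app E)
      ((pullStalkIso f t).hom.naturality ι).symm)).2 ((ModuleCat.mono_iff_injective _).2 ?_)
  letI := (f.stalkMap t).hom.toAlgebra
  refine Function.LeftInverse.injective (g := l.lTensor (T.presheaf.stalk t)) fun z => ?_
  show l.lTensor (T.presheaf.stalk t) (((stalk (f t)).map ι).hom.lTensor (T.presheaf.stalk t) z) = z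
  rw [← LinearMap.comp_apply, ← LinearMap.lTensor_comp, hl, LinearMap.lTensor_id, LinearMap.id_apply]

open AlgebraicGeometry CategoryTheory CategoryTheory.Limits in

/-- Equivalence of (ii), (iv) and (iii): let S be a scheme and ι : U → E a homomorphism of O_S-modules
with U of finite type and E finite locally free. Then ι is a monomorphism with finite locally free
cokernel if and only if the pullback f^*ι is a monomorphism for every morphism of schemes f : T → S,
and this holds if and only if the pullback of ι along Spec κ(s) → S (the fibre map U(s) → E(s)) is a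
monomorphism for every point s of S. (Two further equivalent conditions of the published statement,
splitting on affine opens and surjectivity of the dual map, are not included.) -/
theorem result {S : Scheme.{u}}
    {U E : S.Modules} (hU : CohB1.IsFT U) (hE : FlatMod.IsFinLocFree E) (ι : U ⟶ E) :
    ((Mono ι ∧ FlatMod.IsFinLocFree (cokernel ι)) ↔
        ∀ (T : Scheme.{u}) (f : T ⟶ S), Mono ((Scheme.Modules.pullback f).map ι)) ∧
      ((∀ (T : Scheme.{u}) (f : T ⟶ S), Mono ((Scheme.Modules.pullback f).map ι)) ↔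
        ∀ s : S, Mono ((Scheme.Modules.pullback (S.fromSpecResidueField s)).map ι)) := by
  have key : (∀ s : S, Mono ((Scheme.Modules.pullback (S.fromSpecResidueField s)).map ι)) →
      Mono ι ∧ FlatMod.IsFinLocFree (cokernel ι) := fun h =>
    ⟨(GrothLib.OX.mono_iff ι).2 fun x => (local_split hU hE ι x (h x)).1,
      GrothLib.OX.isFinLocFree_of_local fun x => (local_split hU hE ι x (h x)).2⟩
  have key' : (Mono ι ∧ FlatMod.IsFinLocFree (cokernel ι)) →
      ∀ (T : Scheme.{u}) (f : T ⟶ S), Mono ((Scheme.Modules.pullback f).map ι) := fun h T f =>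
    haveI := h.1
    mono_pullback_of_cokernel ι h.2 f
  exact ⟨⟨key', fun h => key fun s => h _ _⟩, ⟨fun h s => h _ _, fun h => key' (key h)⟩⟩

end Groth.Agent.S10858
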