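import Groth.Statements.S1086
import Groth.Agent.Lib.FilInj.Strict
-- import your own Groth.Agent.* helpers here

set_option autoImplicit false
universe v u
open CategoryTheory CategoryTheory.Limits Opposite
open FilD

namespace Groth.Agent.S1086

/-- Let φ : X ⟶ Y be a morphism of finite filtered objects of an abelian category and let Ker φ carry
the induced filtration (the kernel computed levelwise). Then φ is strict if and only if for every p
the sequence grᵖ(Ker φ) ⟶ grᵖ X ⟶ grᵖ Y is exact. -/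
theorem result {A : Type u} [Category.{v} A] [Abelian A] {X Y : FilD.FilF A} (φ : X ⟶ Y) :
    FilD.IsStrict φ ↔
      ∀ p : ℤ, ((ShortComplex.mk (kernel.ι φ.hom) φ.hom (kernel.condition φ.hom)).map (FilD.gr A p)).Exact := by
  let S : ShortComplex (ℤᵒᵖ ⥤ A) := ShortComplex.mk (kernel.ι φ.hom) φ.hom (kernel.condition φ.hom)
  have hlim : ∀ Q, IsLimit (KernelFork.ofι ((kernel.ι φ.hom).app Q)
      (by rw [← NatTrans.comp_app, kernel.condition, NatTrans.app_zero]) :
        KernelFork (φ.hom.app Q)) := fun Q =>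
    KernelFork.mapIsLimit _ (kernelIsKernel φ.hom) ((evaluation ℤᵒᵖ A).obj Q)
  have lift : ∀ (Q : ℤᵒᵖ) {T : A} (x : T ⟶ X.obj.obj Q), x ≫ φ.hom.app Q = 0 →
      ∃ l, l ≫ (kernel.ι φ.hom).app Q = x := fun Q {T} x hx =>
    ⟨(hlim Q).lift (KernelFork.ofι x hx), (hlim Q).fac _ WalkingParallelPair.zero⟩
  have natK : ∀ p : ℤ, (kernel.ι φ.hom).app (op p) ≫ GrothLib.FilInj.grπ X p =
      cokernel.π ((kernel φ.hom).map (FilD.stepHom p)) ≫ (FilD.gr A p).map (kernel.ι φ.hom) := fun p =>
    (cokernel.π_desc _ _ _).symm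
  constructor
  · intro H p
    refine (ShortComplex.exact_iff_exact_up_to_refinements _).2 fun T w hw => ?_
    change T ⟶ (FilD.grF A p).obj X at w
    change w ≫ (FilD.grF A p).map φ = 0 at hw
    obtain ⟨T₁, π₁, _, x, hx⟩ := surjective_up_to_refinements_of_epi (GrothLib.FilInj.grπ X p) w
    obtain ⟨z, hz⟩ := GrothLib.FilInj.exists_of_grπ_eq_zero p (x ≫ φ.hom.app (op p)) (by
      rw [Category.assoc, GrothLib.FilInj.grπ_naturality, ← reassoc_of% hx, hw, comp_zero])
    obtain ⟨T₂, π₂, _, x', hx'⟩ := GrothLib.FilInj.str_of_isStrict H p (p + 1) (GrothLib.FilInj.le1 p) x z hz.symm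
    obtain ⟨l, hl⟩ := lift (op p) (π₂ ≫ x - x' ≫ GrothLib.FilInj.tm X (GrothLib.FilInj.le1 p)) (by
      rw [Preadditive.sub_comp, Category.assoc, Category.assoc, GrothLib.FilInj.tm_app, ← hz,
        reassoc_of% hx', sub_self])
    refine ⟨T₂, π₂ ≫ π₁, inferInstance, l ≫ cokernel.π ((kernel φ.hom).map (FilD.stepHom p)), ?_⟩
    change (π₂ ≫ π₁) ≫ w = (l ≫ cokernel.π _) ≫ (FilD.gr A p).map (kernel.ι φ.hom)
    refine Eq.trans ?_ ((congrArg (l ≫ ·) (natK p)).trans (Category.assoc _ _ _).symm)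
    rw [Category.assoc, hx, reassoc_of% hl, Preadditive.sub_comp, Category.assoc x',
      GrothLib.FilInj.tm_grπ, comp_zero, sub_zero, Category.assoc]
  · intro H
    refine GrothLib.FilInj.isStrict_of_str (GrothLib.FilInj.str_of_step φ fun p T y z e => ?_)
    obtain ⟨T₁, π₁, _, w, hw⟩ := (H p).exact_up_to_refinements (y ≫ GrothLib.FilInj.grπ X p) (by
      change (y ≫ GrothLib.FilInj.grπ X p) ≫ (FilD.grF A p).map φ = 0
      rw [Category.assoc, ← GrothLib.FilInj.grπ_naturality, reassoc_of% e, GrothLib.FilInj.tm_grπ, comp_zero])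
    change T₁ ⟶ cokernel ((kernel φ.hom).map (FilD.stepHom p)) at w
    obtain ⟨T₂, π₂, _, k, hk⟩ := surjective_up_to_refinements_of_epi (cokernel.π ((kernel φ.hom).map (FilD.stepHom p))) w
    have hk0 : k ≫ (kernel.ι φ.hom).app (op p) ≫ φ.hom.app (op p) = 0 := by
      rw [← NatTrans.comp_app, kernel.condition, NatTrans.app_zero, comp_zero]
    obtain ⟨y', hy'⟩ := GrothLib.FilInj.exists_of_grπ_eq_zero p (π₂ ≫ π₁ ≫ y - k ≫ (kernel.ι φ.hom).app (op p)) (by
      change π₁ ≫ y ≫ GrothLib.FilInj.grπ X p = w ≫ (FilD.gr A p).map (kernel.ι φ.hom) at hw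
      rw [Preadditive.sub_comp, sub_eq_zero, Category.assoc, Category.assoc, Category.assoc]
      refine (congrArg (π₂ ≫ ·) hw).trans ?_
      refine ((reassoc_of% hk) _).trans ?_
      exact congrArg (k ≫ ·) (natK p).symm)
    refine ⟨T₂, π₂ ≫ π₁, inferInstance, y', ?_⟩
    rw [← cancel_mono (GrothLib.FilInj.tm Y (GrothLib.FilInj.le1 p)), Category.assoc, ← GrothLib.FilInj.tm_app,
      reassoc_of% hy', Preadditive.sub_comp, Category.assoc, Category.assoc, Category.assoc, hk0, sub_zero, e,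
      Category.assoc, Category.assoc]

end Groth.Agent.S1086
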