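import Groth.Statements.S10860
import Mathlib.AlgebraicGeometry.ZariskisMainTheorem

set_option autoImplicit false
universe u
open Mor

namespace Groth.Agent.S10860

open CategoryTheory AlgebraicGeometry in
/-- For a proper morphism f : X → Y, the set V of points of Y with finite fibre is open, and f
restricted over V is finite (stated as the existence of an open subscheme of Y whose underlying set
is exactly V and over which f is finite). -/
theorem result {X Y : Scheme.{u}} (f : X ⟶ Y) [IsProper f] :
    ∃ U : Y.Opens, (U : Set Y) = {y : Y | (f.base ⁻¹' {y}).Finite} ∧ IsFinite (f ∣_ U) := by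
  have hopen : IsOpen {y : Y | (f.base ⁻¹' {y}).Finite} := by
    refine isOpen_iff_forall_mem_open.2 fun y hy ↦ ?_
    obtain ⟨V, hyV, hV⟩ := exists_isFinite_morphismRestrict_of_finite_preimage_singleton f y hy
    refine ⟨V, fun z hz ↦ ?_, V.isOpen, hyV⟩
    refine (((f ∣_ V).finite_preimage_singleton ⟨z, hz⟩).image (f ⁻¹ᵁ V).ι).subset fun x hx ↦ ?_
    have hxz : f x = z := hx
    exact ⟨⟨x, show f x ∈ V from hxz.symm ▸ hz⟩, Subtype.ext ((morphismRestrict_base_coe f V _).trans hxz), rfl⟩
  refine ⟨⟨_, hopen⟩, rfl, ?_⟩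
  have : IsProper (f ∣_ ⟨_, hopen⟩) := IsZariskiLocalAtTarget.restrict ‹IsProper f› _
  have : LocallyQuasiFinite (f ∣_ ⟨_, hopen⟩) := .of_finite_preimage_singleton _ fun y ↦ by
    refine ((y.2 : (f.base ⁻¹' {y.1}).Finite).preimage
      (f ⁻¹ᵁ ⟨_, hopen⟩).ι.isOpenEmbedding.injective.injOn).subset fun x hx ↦ ?_
    exact (morphismRestrict_base_coe f _ x).symm.trans (congrArg Subtype.val hx)
  exact .of_isProper_of_locallyQuasiFinite _

end Groth.Agent.S10860
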