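import Groth.Statements.S10863
import Mathlib

set_option autoImplicit false
universe u
open CAlg

namespace Groth.Agent.S10863

lemma card_algHom_eq_sum (k' B : Type u) [Field k'] [CommRing B] [Algebra k' B]
    [Module.Finite k' B] :
    Nat.card (B →ₐ[k'] AlgebraicClosure k') =
      ∑ᶠ m : MaximalSpectrum B,
        Field.finSepDegree k' (IsLocalRing.ResidueField (Localization.AtPrime m.asIdeal)) := by
  classical
  haveI : IsArtinianRing B := IsArtinianRing.of_finite k' B
  haveI : Fintype (MaximalSpectrum B) := Fintype.ofFinite _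
  haveI : ∀ m : MaximalSpectrum B, Module.Finite k' m.asIdeal.ResidueField := fun m =>
    Module.Finite.trans B m.asIdeal.ResidueField
  let Ω := AlgebraicClosure k'
  let F : (Σ m : MaximalSpectrum B, (m.asIdeal.ResidueField →ₐ[k'] Ω)) → (B →ₐ[k'] Ω) := fun x =>
    x.2.comp (IsScalarTower.toAlgHom k' B x.1.asIdeal.ResidueField)
  have hker : ∀ x, RingHom.ker (F x).toRingHom = x.1.asIdeal := fun x => by
    ext b
    change x.2 (algebraMap B _ b) = 0 ↔ _
    rw [map_eq_zero_iff x.2 x.2.toRingHom.injective, Ideal.algebraMap_residueField_eq_zero]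
  have hF : Function.Bijective F := by
    constructor
    · rintro ⟨m, σ⟩ ⟨m', σ'⟩ h
      obtain rfl : m = m' := MaximalSpectrum.ext (by rw [← hker ⟨m, σ⟩, h, hker ⟨m', σ'⟩])
      congr
      exact AlgHom.ext fun x => by
        obtain ⟨b, rfl⟩ := m.asIdeal.algebraMap_residueField_surjective x
        exact DFunLike.congr_fun h b
    · intro φ
      haveI : (RingHom.ker φ.toRingHom).IsPrime := RingHom.ker_isPrime _
      let m : MaximalSpectrum B := ⟨RingHom.ker φ.toRingHom, inferInstance⟩
      let e := AlgEquiv.ofBijective (IsScalarTower.toAlgHom k' (B ⧸ m.asIdeal) m.asIdeal.ResidueField)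
        m.asIdeal.bijective_algebraMap_quotient_residueField
      let σ : m.asIdeal.ResidueField →ₐ[k'] Ω :=
        (Ideal.Quotient.liftₐ m.asIdeal φ fun b hb => hb).comp e.symm.toAlgHom
      refine ⟨⟨m, σ⟩, AlgHom.ext fun b => ?_⟩
      have hb : e.symm (algebraMap B m.asIdeal.ResidueField b) = Ideal.Quotient.mk _ b :=
        e.symm_apply_eq.2 rfl
      change Ideal.Quotient.liftₐ m.asIdeal φ (fun b hb => hb) (e.symm (algebraMap B m.asIdeal.ResidueField b)) = φ b
      rw [hb]
      rfl
  haveI : ∀ m : MaximalSpectrum B, Finite (m.asIdeal.ResidueField →ₐ[k'] Ω) := fun m => inferInstance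
  rw [← Nat.card_eq_of_bijective F hF, Nat.card_sigma, finsum_eq_sum_of_fintype]
  exact Finset.sum_congr rfl fun m _ =>
    (Field.finSepDegree_eq_of_isAlgClosed k' m.asIdeal.ResidueField Ω).symm


open TensorProduct in
/-- Let k be a field, A a finite-dimensional local k-algebra with residue field κ, and k' a field
extension of k. Then the separable degree of κ over k equals the sum over the maximal ideals m' of
k' ⊗_k A (the points of the base-changed finite scheme lying over the given point) of the separable
degrees over k' of their residue fields. -/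
theorem result (k A k' : Type u) [Field k] [CommRing A] [Algebra k A]
    [Module.Finite k A] [IsLocalRing A] [Field k'] [Algebra k k'] :
    Field.finSepDegree k (IsLocalRing.ResidueField A) =
      ∑ᶠ m : MaximalSpectrum (k' ⊗[k] A),
        Field.finSepDegree k' (IsLocalRing.ResidueField (Localization.AtPrime m.asIdeal)) := by
  classical
  haveI : IsArtinianRing A := IsArtinianRing.of_finite k A
  let Ω := AlgebraicClosure k'
  rw [← card_algHom_eq_sum k' (k' ⊗[k] A)]
  haveI : Module.Finite k (IsLocalRing.ResidueField A) :=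
    Module.Finite.trans A (IsLocalRing.ResidueField A)
  rw [Field.finSepDegree_eq_of_isAlgClosed k (IsLocalRing.ResidueField A) Ω]
  refine (Nat.card_eq_of_bijective
    (fun σ : IsLocalRing.ResidueField A →ₐ[k] Ω =>
      σ.comp (IsScalarTower.toAlgHom k A (IsLocalRing.ResidueField A))) ?_).trans
    (Nat.card_congr (AlgHom.liftEquiv k k' A Ω))
  constructor
  · intro σ σ' h
    refine AlgHom.ext fun x => ?_
    obtain ⟨a, rfl⟩ := IsLocalRing.residue_surjective x
    exact DFunLike.congr_fun h a
  · intro φ
    haveI : (RingHom.ker φ.toRingHom).IsPrime := RingHom.ker_isPrime _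
    have hm : RingHom.ker φ.toRingHom = IsLocalRing.maximalIdeal A :=
      IsLocalRing.eq_maximalIdeal inferInstance
    exact ⟨Ideal.Quotient.liftₐ (IsLocalRing.maximalIdeal A) φ fun a ha => by
      rwa [← hm] at ha, AlgHom.ext fun a => rfl⟩

end Groth.Agent.S10863
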