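import Groth.Statements.S10865
import Groth.Agent.Lib.QCoh.DevissageRoots

set_option autoImplicit false
universe u
open Coherent

open CategoryTheory.Limits

namespace Groth.Agent.S10865

open CategoryTheory CategoryTheory.Limits AlgebraicGeometry in
/-- Let X be a nonempty Noetherian scheme and K an isomorphism-closed class of O_X-modules such that (a)
in a short exact sequence of coherent modules, if the middle and right terms lie in K so does the
left one, and if the two outer terms lie in K so does the middle one; (b) if a coherent F has some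
d-fold direct sum (d ≥ 1) in K then F lies in K. If for every integral closed subscheme i : Z → X
there is a coherent O_Z-module with nonzero stalk at the generic point whose direct image under i
lies in K, then every coherent O_X-module lies in K. (For the empty scheme the hypotheses hold for
the empty class, so X is taken nonempty here.) -/
theorem result (X : Scheme.{u}) [IsNoetherian X] [Nonempty X]
    (K : ObjectProperty X.Modules) [K.IsClosedUnderIsomorphisms]
    (ha : ∀ S : ShortComplex X.Modules, S.ShortExact → Coh.IsCoh S.X₁ → Coh.IsCoh S.X₂ → Coh.IsCoh S.X₃ →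
      (K S.X₂ → K S.X₃ → K S.X₁) ∧ (K S.X₁ → K S.X₃ → K S.X₂))
    (hb : ∀ (F : X.Modules) (d : ℕ), 1 ≤ d → Coh.IsCoh F → K (∐ fun _ : Fin d => F) → K F)
    (hgen : ∀ (Z : Scheme.{u}) (i : Z ⟶ X) [IsClosedImmersion i] [IsIntegral Z],
      ∃ H : Z.Modules, Coh.IsCoh H ∧ Nontrivial (H.presheaf.stalk (genericPoint Z)) ∧
        K ((Scheme.Modules.pushforward i).obj H))
    (F : X.Modules) (hF : Coh.IsCoh F) : K F := by
  refine GrothLib.QCoh.devissage_roots K (fun M N e h ↦ K.prop_of_iso e.some h) ha hb
    (fun Z i _ _ ↦ ?_) F hF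
  obtain ⟨H, hH, hη, hK⟩ := hgen Z i
  have : IsLocallyNoetherian Z := LocallyOfFiniteType.isLocallyNoetherian i
  have := hH.1
  refine ⟨_, ⟨GrothLib.QCoh.isQuasicoherent_pushforward i H,
    GrothLib.QCoh.isFiniteType_pushforward i H hH.2⟩, fun U a ha' m ↦ ?_, fun h ↦ ?_, hK⟩
  · rw [Scheme.Hom.ker_apply, RingHom.mem_ker] at ha'
    change (i.app U.1).hom a • (show Γ(H, i ⁻¹ᵁ U.1) from m) = (0 : Γ(H, i ⁻¹ᵁ U.1))
    rw [ha', zero_smul]
  · have hb := GrothLib.QCoh.pushStalkHom_bijective i (genericPoint Z) H
      i.isClosedEmbedding.isInducing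
    exact not_subsingleton_iff_nontrivial.2 hη (subsingleton_of_forall_eq 0 fun e ↦ by
      obtain ⟨a, rfl⟩ := hb.surjective e
      rw [Subsingleton.elim (h := h) a 0]
      exact map_zero _)


end Groth.Agent.S10865
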