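import Groth.Statements.S10866
import Groth.Agent.Lib.QCoh.DevissageRoots

set_option autoImplicit false
universe u
open Coherent

open CategoryTheory.Limits

namespace Groth.Agent.S10866

open CategoryTheory AlgebraicGeometry in
/-- Let f : X → Y be a morphism of Noetherian schemes such that for every integral closed subscheme i :
Z → X there is a coherent O_Z-module with nonzero stalk at the generic point of Z whose direct image
under i followed by f is coherent on Y. Then the direct image f_*F of every coherent O_X-module F is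
coherent. -/
theorem result {X Y : Scheme.{u}} [IsNoetherian X] [IsNoetherian Y]
    (f : X ⟶ Y)
    (hgen : ∀ (Z : Scheme.{u}) (i : Z ⟶ X) [IsClosedImmersion i] [IsIntegral Z],
      ∃ H : Z.Modules, Coh.IsCoh H ∧ Nontrivial (H.presheaf.stalk (genericPoint Z)) ∧
        Coh.IsCoh ((Scheme.Modules.pushforward (i ≫ f)).obj H))
    (F : X.Modules) (hF : Coh.IsCoh F) : Coh.IsCoh ((Scheme.Modules.pushforward f).obj F) := by
  have : QuasiCompact f := inferInstance
  have : QuasiSeparated f := inferInstance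
  rcases isEmpty_or_nonempty X with hX | hX
  · have := hF.1
    have hq := GrothLib.QCoh.isQuasicoherent_pushforward f F
    refine ⟨hq, (GrothLib.QCoh.isFiniteType_iff_moduleFinite _).2 fun U hU ↦ ?_⟩
    have : f ⁻¹ᵁ U = ⊥ := le_antisymm (fun x _ ↦ (hX.false x).elim) bot_le
    have hs : Subsingleton Γ((Scheme.Modules.pushforward f).obj F, U) := by
      change Subsingleton Γ(F, f ⁻¹ᵁ U)
      rw [this]
      exact GrothLib.Cohom.subsingleton_sections_bot (Coh.toAb F)
    infer_instance
  let P : X.Modules → Prop := fun M ↦ Coh.IsCoh ((Scheme.Modules.pushforward f).obj M)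
  change P F
  let R := Scheme.Modules.pushforward f
  have hsub : ∀ (A : X.Modules) (B : Y.Modules) (u : R.obj A ⟶ B), Mono u → Coh.IsCoh A →
      Coh.IsCoh B → Coh.IsCoh (R.obj A) := fun A B u _ hA hB ↦ by
    have := hA.1
    have := hB.1
    have hq := GrothLib.QCoh.isQuasicoherent_pushforward f A
    exact ⟨hq, GrothLib.QCoh.isFiniteType_of_mono u hB.2⟩
  refine GrothLib.QCoh.devissage_roots P
    (fun M N e h ↦ GrothLib.QCoh.isCoh_of_iso (R.mapIso e.some) h) ?_ ?_ ?_ F hF
  · intro S hS h₁ h₂ h₃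
    have := hS.mono_f
    refine ⟨fun hb hc ↦ hsub _ _ (R.map S.f) inferInstance h₁ hb, fun ha hc ↦ ?_⟩
    let I := Abelian.image (R.map S.g)
    have hq₂ : (R.obj S.X₂).IsQuasicoherent := by
      have := h₂.1
      exact GrothLib.QCoh.isQuasicoherent_pushforward f S.X₂
    have := hc.1
    have hIq : I.IsQuasicoherent := GrothLib.QCoh.isQuasicoherent_image (R.map S.g)
    have hI : Coh.IsCoh I := ⟨hIq, GrothLib.QCoh.isFiniteType_of_mono (Abelian.image.ι (R.map S.g)) hc.2⟩
    obtain ⟨w0, hS'⟩ := GrothLib.QCoh.shortExact_kernel_image (R.map S.g)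
    have hK : Coh.IsCoh (kernel (R.map S.g)) :=
      GrothLib.QCoh.isCoh_of_iso ((R.mapIso
        (hS.fIsKernel.conePointUniqueUpToIso (kernelIsKernel S.g))) ≪≫ PreservesKernel.iso R S.g) ha
    have : (ShortComplex.mk (kernel.ι (R.map S.g)) (Abelian.factorThruImage (R.map S.g)) w0).X₁.IsQuasicoherent :=
      hK.1
    refine ⟨hq₂, (GrothLib.QCoh.isFiniteType_iff_moduleFinite _).2 fun U hU ↦ ?_⟩
    have hA := GrothLib.QCoh.moduleFinite_of_isFiniteType _ hK.2 hU
    have hB := GrothLib.QCoh.moduleFinite_of_isFiniteType _ hI.2 hU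
    refine ⟨Submodule.fg_of_fg_map_of_fg_inf_ker
      (GrothLib.QCoh.appLinear (Abelian.factorThruImage (R.map S.g)) U) ?_ ?_⟩
    · have hsurj : Function.Surjective
          (GrothLib.QCoh.appLinear (Abelian.factorThruImage (R.map S.g)) U) :=
        GrothLib.QCoh.app_surjective_of_isAffineOpen hS' hU
      rw [Submodule.map_top, LinearMap.range_eq_top.2 hsurj]
      exact hB.fg_top
    · have e : (⊤ : Submodule Γ(Y, U) Γ(R.obj S.X₂, U)) ⊓ LinearMap.ker
          (GrothLib.QCoh.appLinear (Abelian.factorThruImage (R.map S.g)) U) =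
          Submodule.map (GrothLib.QCoh.appLinear (kernel.ι (R.map S.g)) U) ⊤ := by
        ext z
        simp only [top_inf_eq, LinearMap.mem_ker, Submodule.map_top, LinearMap.mem_range]
        exact ⟨fun h ↦ GrothLib.QCoh.app_exact hS' U z h,
          fun ⟨w, hw⟩ ↦ hw ▸ GrothLib.QCoh.app_comp_zero (S := ShortComplex.mk _ _ w0) U w⟩
      rw [e]
      exact Submodule.FG.map _ hA.fg_top
  · intro A d hd hA h
    exact hsub _ _ (R.map (Sigma.ι (fun _ : Fin d ↦ A) ⟨0, hd⟩)) inferInstance hA h
  · intro Z i _ _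
    obtain ⟨H, hH, hη, hK⟩ := hgen Z i
    have : IsLocallyNoetherian Z := LocallyOfFiniteType.isLocallyNoetherian i
    have := hH.1
    refine ⟨_, ⟨GrothLib.QCoh.isQuasicoherent_pushforward i H,
      GrothLib.QCoh.isFiniteType_pushforward i H hH.2⟩, fun U a ha' m ↦ ?_, fun h ↦ ?_,
      GrothLib.QCoh.isCoh_of_iso ((Scheme.Modules.pushforwardComp i f).app H).symm hK⟩
    · rw [Scheme.Hom.ker_apply, RingHom.mem_ker] at ha'
      change (i.app U.1).hom a • (show Γ(H, i ⁻¹ᵁ U.1) from m) = (0 : Γ(H, i ⁻¹ᵁ U.1))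
      rw [ha', zero_smul]
    · have hb := GrothLib.QCoh.pushStalkHom_bijective i (genericPoint Z) H
        i.isClosedEmbedding.isInducing
      exact not_subsingleton_iff_nontrivial.2 hη (subsingleton_of_forall_eq 0 fun e ↦ by
      obtain ⟨a, rfl⟩ := hb.surjective e
      rw [Subsingleton.elim (h := h) a 0]
      exact map_zero _)


end Groth.Agent.S10866
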