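import Groth.Statements.S10867
import Groth.Agent.Lib.LocProp.StalkField
import Groth.Agent.Lib.LocProp.Stalk
import Mathlib.AlgebraicGeometry.AlgClosed.Basic
import Mathlib.AlgebraicGeometry.ZariskisMainTheorem
import Mathlib.AlgebraicGeometry.Morphisms.FormallyUnramified

set_option autoImplicit false
universe u
open Mor

namespace Groth.Agent.S10867

open CategoryTheory AlgebraicGeometry in
/-- In the case of an algebraically closed base field k and K = k: let X, Y be k-schemes of finite type
and f : X → Y a proper k-morphism which is injective on closed points and such that for every closed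
point x of X the ideal generated by the image of the maximal ideal of the local ring at f(x),
together with the square of the maximal ideal at x, is the whole maximal ideal at x (the cotangent
map is surjective, i.e. the tangent map at x is injective). Then f is a closed immersion. (The
published statement allows any field k and tests points and tangent spaces with values in an
algebraically closed extension K of k; this row is the case K = k.) -/
theorem result (k : Type u) [Field k] [IsAlgClosed k]
    {X Y : Scheme.{u}} (f : X ⟶ Y) (q : Y ⟶ Spec (CommRingCat.of k)) [LocallyOfFiniteType q] [QuasiCompact q]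
    [LocallyOfFiniteType (f ≫ q)] [IsProper f]
    (hinj : Set.InjOn f.base {x : X | IsClosed ({x} : Set X)})
    (hT : ∀ x : X, IsClosed ({x} : Set X) →
      Ideal.map (f.stalkMap x).hom (IsLocalRing.maximalIdeal (Y.presheaf.stalk (f.base x))) ⊔
        IsLocalRing.maximalIdeal (X.presheaf.stalk x) ^ 2 = IsLocalRing.maximalIdeal (X.presheaf.stalk x)) :
    IsClosedImmersion f := by
  have : IsLocallyNoetherian X := LocallyOfFiniteType.isLocallyNoetherian (f ≫ q)
  have : JacobsonSpace X := LocallyOfFiniteType.jacobsonSpace (f ≫ q)
  have hres : ∀ x : X, IsClosed ({x} : Set X) → Function.Surjective (f.residueFieldMap x) := by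
    intro x hx
    let e := residueFieldIsoBase (f ≫ q) x hx
    have he : e.inv = Spec.preimage (Y.fromSpecResidueField (f x) ≫ q) ≫ f.residueFieldMap x := by
      apply Spec.map_injective
      rw [Spec.map_comp, Spec.map_preimage, SpecMap_residueFieldIsoBase_inv,
        Scheme.Hom.SpecMap_residueFieldMap_fromSpecResidueField_assoc]
    intro r
    obtain ⟨c, rfl⟩ := (ConcreteCategory.bijective_of_isIso e.inv).2 r
    exact ⟨Spec.preimage (Y.fromSpecResidueField (f x) ≫ q) c, (congr($he c)).symm⟩
  have hloc : ∀ x : X, (f.stalkMap x).hom.FormallyUnramified := by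
    let C : Set X := {x | ¬ (f.stalkMap x).hom.FormallyUnramified}
    have hC : IsClosed C := by
      rw [← isOpen_compl_iff, isOpen_iff_forall_mem_open]
      intro x hx
      obtain ⟨U, hxU, hU⟩ := (GrothLib.LocProp.formallyUnramified_nhd_iff f x).mpr
        (not_not.mp hx)
      exact ⟨U, fun p hp h ↦ h ((GrothLib.LocProp.formallyUnramified_nhd_iff f p).mp ⟨U, hp, hU⟩),
        U.isOpen, hxU⟩
    intro x
    by_contra hx
    obtain ⟨p, hpC, hp⟩ := nonempty_inter_closedPoints (Z := C) ⟨x, hx⟩ hC.isLocallyClosed
    refine hpC ((GrothLib.LocProp.formallyUnramified_stalk_iff f p).mpr ⟨?_, ?_⟩)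
    · refine le_antisymm ?_ ?_
      · exact le_sup_left.trans (hT p hp).le
      · refine Submodule.le_of_le_smul_of_le_jacobson_bot (IsNoetherian.noetherian _)
          (IsLocalRing.maximalIdeal_le_jacobson ⊥) ?_
        rw [smul_eq_mul, ← pow_two]
        exact (hT p hp).ge
    · let := (f.residueFieldMap p).hom.toAlgebra
      have hb : Function.Bijective (algebraMap (Y.residueField (f p)) (X.residueField p)) :=
        ⟨RingHom.injective _, hres p hp⟩
      let eL := AlgEquiv.ofBijective (Algebra.ofId (Y.residueField (f p)) (X.residueField p)) hb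
      exact ⟨Module.Finite.equiv eL.toLinearEquiv, AlgEquiv.Algebra.isSeparable eL⟩
  have hU : ∀ x : X, ∃ U : X.Opens, x ∈ U ∧ FormallyUnramified (U.ι ≫ f) := fun x ↦
    (GrothLib.LocProp.formallyUnramified_nhd_iff f x).mpr (hloc x)
  choose U hxU hU using hU
  have : FormallyUnramified f := IsZariskiLocalAtSource.of_iSup_eq_top (P := @FormallyUnramified) U
    (top_le_iff.mp fun x _ ↦ TopologicalSpace.Opens.mem_iSup.mpr ⟨x, hxU x⟩) hU
  have hsurj : Surjective (Limits.pullback.diagonal f) := by
    refine ⟨fun z ↦ ?_⟩
    by_contra hz
    let p := Limits.pullback.fst f f ≫ f ≫ q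
    have : JacobsonSpace ↥(Limits.pullback f f) := LocallyOfFiniteType.jacobsonSpace p
    obtain ⟨c, hc, hcc⟩ := nonempty_inter_closedPoints
      (Z := (Set.range (Limits.pullback.diagonal f))ᶜ) ⟨z, hz⟩
      (Limits.pullback.diagonal f).isOpenEmbedding.isOpen_range.isClosed_compl.isLocallyClosed
    have h1 : IsClosed ({Limits.pullback.fst f f c} : Set X) := by
      simpa using (Limits.pullback.fst f f).isClosedMap _ hcc
    have h2 : IsClosed ({Limits.pullback.snd f f c} : Set X) := by
      simpa using (Limits.pullback.snd f f).isClosedMap _ hcc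
    have heq : Limits.pullback.fst f f c = Limits.pullback.snd f f c := hinj h1 h2 (by
      simp only [← Scheme.Hom.comp_apply, Limits.pullback.condition])
    let a := pointOfClosedPoint p c hcc
    have ha : a ≫ p = 𝟙 _ := pointOfClosedPoint_comp p c hcc
    have hab : a ≫ Limits.pullback.fst f f = a ≫ Limits.pullback.snd f f := by
      refine ext_of_apply_closedPoint_eq (f ≫ q) (by simpa [p] using ha) ?_ ?_
      · simpa [p, Limits.pullback.condition_assoc] using ha
      · simp [a, heq]
    refine hc ⟨(a ≫ Limits.pullback.fst f f) (IsLocalRing.closedPoint k), ?_⟩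
    rw [← Scheme.Hom.comp_apply]
    have : (a ≫ Limits.pullback.fst f f) ≫ Limits.pullback.diagonal f = a := by
      apply Limits.pullback.hom_ext
      · simp
      · simpa using hab
    rw [this]
    exact pointOfClosedPoint_apply p c hcc _
  have : IsIso (Limits.pullback.diagonal f) :=
    (isIso_iff_isOpenImmersion_and_surjective _).mpr ⟨inferInstance, hsurj⟩
  have e : Limits.pullback.fst f f = Limits.pullback.snd f f := by
    rw [← cancel_epi (Limits.pullback.diagonal f)]
    simp
  exact (IsClosedImmersion.iff_isProper_and_mono f).mpr
    ⟨inferInstance, ⟨fun g h w ↦ by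
      exact (Limits.pullback.lift_fst g h w).symm.trans
        ((congrArg (fun t ↦ Limits.pullback.lift g h w ≫ t) e).trans (Limits.pullback.lift_snd g h w))⟩⟩

end Groth.Agent.S10867
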