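import Groth.Statements.S10868
import Groth.Agent.Lib.UnramLoc9.Field

set_option autoImplicit false
universe u
open Mor

namespace Groth.Agent.S10868

open CategoryTheory AlgebraicGeometry in
/-- f : X → Y is a finite morphism exactly when it is proper and quasi-affine (quasi-compact, with the
inverse image of every affine open subscheme of Y a quasi-affine scheme). -/
theorem result {X Y : Scheme.{u}} (f : X ⟶ Y) :
    IsFinite f ↔ IsProper f ∧ Mor2.IsQuasiAffine f := by
  exact GrothLib.UnramLoc9.isFinite_iff_proper_quasiAffine f

end Groth.Agent.S10868
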