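import Groth.Statements.S10869
import Groth.Agent.Lib.RelVanish.Counit
import Groth.Agent.Lib.CurveMult.GGCurve
import Groth.Agent.Lib.Ample.Generation
import Mathlib.Algebra.Category.ModuleCat.Sheaf.PullbackFree

set_option autoImplicit false
universe u
open Coh

namespace Groth.Agent.S10869

open CategoryTheory AlgebraicGeometry in
/-- For f : X → S quasi-compact and quasi-separated and F a quasi-coherent O_X-module, the counit
f^*f_*F → F is an epimorphism iff F is a quotient of f^*G for some quasi-coherent O_S-module G, iff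
the restriction of F to the inverse image of every affine open of S is globally generated. -/
theorem result {X S : Scheme.{u}} (f : X ⟶ S) [QuasiCompact f] [QuasiSeparated f]
    (F : X.Modules) (hF : Coh.IsQCoh F) :
    (Epi ((Scheme.Modules.pullbackPushforwardAdjunction f).counit.app F) ↔
      ∃ G : S.Modules, Coh.IsQCoh G ∧ ∃ φ : (Scheme.Modules.pullback f).obj G ⟶ F, Epi φ) ∧
    (Epi ((Scheme.Modules.pullbackPushforwardAdjunction f).counit.app F) ↔
      ∀ U : S.Opens, IsAffineOpen U → Curv2.IsGloballyGenerated (F.restrict (f ⁻¹ᵁ U).ι)) := by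
  haveI : F.IsQuasicoherent := hF
  have hG : Coh.IsQCoh ((Scheme.Modules.pushforward f).obj F) := GrothLib.QCoh.isQuasicoherent_pushforward f F
  have hquot : ∀ (G : S.Modules), Coh.IsQCoh G → ∀ φ : (Scheme.Modules.pullback f).obj G ⟶ F, Epi φ →
      ∀ U : S.Opens, IsAffineOpen U → Curv2.IsGloballyGenerated (F.restrict (f ⁻¹ᵁ U).ι) := by
    intro G hG φ hφ U hU
    haveI := hφ
    haveI : G.IsQuasicoherent := hG
    haveI : IsAffine (U : Scheme.{u}) := hU
    haveI : (G.restrict U.ι).IsQuasicoherent := inferInstance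
    let e : (Scheme.Modules.pullback (f ∣_ U)).obj (G.restrict U.ι) ≅
        ((Scheme.Modules.pullback f).obj G).restrict (f ⁻¹ᵁ U).ι :=
      (Scheme.Modules.pullback (f ∣_ U)).mapIso ((Scheme.Modules.restrictFunctorIsoPullback U.ι).app G) ≪≫
        (Scheme.Modules.pullbackComp (f ∣_ U) U.ι).app G ≪≫
        (Scheme.Modules.pullbackCongr (morphismRestrict_ι f U)).app G ≪≫
        ((Scheme.Modules.pullbackComp (f ⁻¹ᵁ U).ι f).app G).symm ≪≫
        ((Scheme.Modules.restrictFunctorIsoPullback (f ⁻¹ᵁ U).ι).app _).symm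
    haveI : Epi ((Scheme.Modules.restrictFunctor (f ⁻¹ᵁ U).ι).map φ) := inferInstance
    obtain ⟨ι, q, hq⟩ := GrothLib.Ample.isGloballyGenerated_of_isQuasiAffine (G.restrict U.ι)
    haveI := hq
    refine GrothLib.CurveMult.isGloballyGenerated_of_epi ((Scheme.Modules.restrictFunctor (f ⁻¹ᵁ U).ι).map φ)
      (GrothLib.Ample.isGloballyGenerated_of_iso e ?_)
    haveI h1 : Epi ((Scheme.Modules.pullback (f ∣_ U)).map q) :=
      haveI := CategoryTheory.Functor.preservesEpimorphisms_of_adjunction (Scheme.Modules.pullbackPushforwardAdjunction (f ∣_ U))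
      @CategoryTheory.Functor.map_epi _ _ _ _ (Scheme.Modules.pullback (f ∣_ U)) _ _ _ q hq
    exact ⟨ι, _, @epi_comp _ _ _ _ _ (SheafOfModules.pullbackObjFreeIso _ ι).inv inferInstance
      ((Scheme.Modules.pullback (f ∣_ U)).map q) h1⟩
  refine ⟨⟨fun h => ⟨_, hG, _, h⟩, ?_⟩, ⟨fun h => hquot _ hG _ h, fun h => ?_⟩⟩
  · rintro ⟨G, -, φ, hφ⟩
    haveI := hφ
    have e : (Scheme.Modules.pullback f).map ((Scheme.Modules.pullbackPushforwardAdjunction f).homEquiv G F φ) ≫
        (Scheme.Modules.pullbackPushforwardAdjunction f).counit.app F = φ := by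
      exact ((Scheme.Modules.pullbackPushforwardAdjunction f).homEquiv_counit _ _ _).symm.trans (Equiv.symm_apply_apply _ _)
    exact epi_of_epi_fac e
  · exact GrothLib.RelVanish.epi_counit_of_ggen f F fun y => by
      obtain ⟨U, hU, hy, -⟩ := exists_isAffineOpen_mem_and_subset (X := S) (x := y) (U := ⊤) (by trivial)
      exact ⟨U, hy, h U hU⟩

end Groth.Agent.S10869
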