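import Groth.Statements.S10870
import Mathlib
import Groth.Agent.Lib.SMT.DetFree
import Groth.Agent.Lib.CurveLocus.Basic
-- import your own Groth.Agent.* helpers here

set_option autoImplicit false
universe u
open CAlgX

namespace Groth.Agent.S10870

open TensorProduct
/-- Dimension of the determinantal ring over an infinite field. -/
theorem aux (K : Type u) [Field K] [Infinite K] (n m r : ℕ) (hr : r ≤ min n m) :
    ringKrullDim (MvPolynomial (Fin n × Fin m) K ⧸ CAlgX.minorIdeal (Matrix.of fun (i : Fin n) (j : Fin m) =>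
        (MvPolynomial.X (i, j) : MvPolynomial (Fin n × Fin m) K)) (r + 1)) =
      ((r * (m + n - r) : ℕ) : WithBot ℕ∞) := by
  rcases Nat.eq_zero_or_pos m with hm | hm
  · subst hm
    have hr0 : r = 0 := by omega
    subst hr0
    have hI : CAlgX.minorIdeal (Matrix.of fun (i : Fin n) (j : Fin 0) =>
        (MvPolynomial.X (i, j) : MvPolynomial (Fin n × Fin 0) K)) (0 + 1) = ⊥ := by
      refine Ideal.span_eq_bot.2 ?_
      rintro _ ⟨⟨f, g⟩, rfl⟩
      exact (g 0).elim0
    rw [hI, ringKrullDim_eq_of_ringEquiv (RingEquiv.quotientBot _), MvPolynomial.ringKrullDim_of_isNoetherianRing,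
      ringKrullDim_eq_zero_of_field]
    simp
  · have h := (GrothLib.SMT.det_cm_dim (K := K) (d := m) (r := n) (s := r) hm (by omega) (by omega)).2
    refine h.trans ?_
    have hnat : (m - r) * r + r * n = r * (m + n - r) := by
      have h1 : m + n - r = (m - r) + n := by omega
      rw [h1]; ring
    rw [hnat]



/-- For a field k and 0 ≤ r ≤ min(n, m), the affine determinantal scheme of n × m matrices of rank at
most r over k — the spectrum of the polynomial ring on the entries of the generic n × m matrix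
modulo the ideal of its (r+1) × (r+1) minors — has dimension r(m + n − r). -/
theorem result (k : Type u) [Field k] (n m r : ℕ) (hr : r ≤ min n m) :
    ringKrullDim (MvPolynomial (Fin n × Fin m) k ⧸ CAlgX.minorIdeal (Matrix.of fun (i : Fin n) (j : Fin m) => (MvPolynomial.X (i, j) : MvPolynomial (Fin n × Fin m) k)) (r + 1)) =
      ((r * (m + n - r) : ℕ) : WithBot ℕ∞) := by
  classical
  set S := MvPolynomial (Fin n × Fin m) k
  set I : Ideal S := CAlgX.minorIdeal (Matrix.of fun (i : Fin n) (j : Fin m) =>
    (MvPolynomial.X (i, j) : MvPolynomial (Fin n × Fin m) k)) (r + 1) with hI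
  let K := AlgebraicClosure k
  haveI : AlgebraicGeometry.LocallyOfFiniteType
      (AlgebraicGeometry.Spec.map (CommRingCat.ofHom (algebraMap k (S ⧸ I)))) := by
    rw [AlgebraicGeometry.HasRingHomProperty.Spec_iff (P := @AlgebraicGeometry.LocallyOfFiniteType)]
    exact RingHom.finiteType_algebraMap.2 inferInstance
  have h := GrothLib.CurveLocus.topologicalKrullDim_of_isPullback (k := k) (Ω := K)
    (AlgebraicGeometry.Spec.map (CommRingCat.ofHom (algebraMap k (S ⧸ I))))
    (AlgebraicGeometry.isPullback_SpecMap_of_isPushout _ _ _ _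
      (CommRingCat.isPushout_tensorProduct k K (S ⧸ I)).flip)
  have h1 : ringKrullDim (K ⊗[k] (S ⧸ I)) = ringKrullDim (S ⧸ I) :=
    (PrimeSpectrum.topologicalKrullDim_eq_ringKrullDim (K ⊗[k] (S ⧸ I))).symm.trans
      (h.trans (PrimeSpectrum.topologicalKrullDim_eq_ringKrullDim (S ⧸ I)))
  let e := MvPolynomial.algebraTensorAlgEquiv k (σ := Fin n × Fin m) K
  let J := I.map (Algebra.TensorProduct.includeRight (A := K) (R := k) : S →ₐ[k] K ⊗[k] S)
  have hJ : CAlgX.minorIdeal (Matrix.of fun (i : Fin n) (j : Fin m) =>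
      (MvPolynomial.X (i, j) : MvPolynomial (Fin n × Fin m) K)) (r + 1) = J.map (e : K ⊗[k] S →+* _) := by
    show _ = (I.map (Algebra.TensorProduct.includeRight (A := K) (R := k) : S →ₐ[k] K ⊗[k] S)).map _
    rw [hI, CAlgX.minorIdeal, CAlgX.minorIdeal, Ideal.map_span, Ideal.map_span, ← Set.range_comp, ← Set.range_comp]
    congr 2
    funext fg
    simp only [Function.comp_apply]
    rw [← AlgHom.coe_toRingHom, RingHom.map_det, RingHom.map_det]
    congr 1
    refine Matrix.ext fun a b => ?_
    show MvPolynomial.X (fg.1 a, fg.2 b) = e (1 ⊗ₜ[k] MvPolynomial.X (fg.1 a, fg.2 b))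
    simp [e]
  rw [← h1, ringKrullDim_eq_of_ringEquiv ((Algebra.TensorProduct.tensorQuotientEquiv (R := k) K S K I).toRingEquiv.trans
    (Ideal.quotientEquiv J _ e.toRingEquiv hJ))]
  exact aux K n m r hr

end Groth.Agent.S10870
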