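import Groth.Statements.S10871
import Mathlib

set_option autoImplicit false
universe u
open AlgebraicGeometry
open Curves

namespace Groth.Agent.S10871

/-- Every open subscheme of the spectrum of a Dedekind domain is affine. -/
theorem result (A : Type u) [CommRing A] [IsDedekindDomain A]
    (U : (Spec (CommRingCat.of A)).Opens) : IsAffineOpen U := by
  classical
  let U' : Set (PrimeSpectrum A) := SetLike.coe U
  obtain ⟨I, hI⟩ : ∃ I : Ideal A, U'ᶜ = PrimeSpectrum.zeroLocus (I : Set A) := by
    have hU' : IsOpen U' := U.2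
    obtain ⟨s, hs⟩ := (PrimeSpectrum.isClosed_iff_zeroLocus _).mp hU'.isClosed_compl
    exact ⟨Ideal.span s, hs.trans (PrimeSpectrum.zeroLocus_span s).symm⟩
  let X := Spec (CommRingCat.of A)
  let σ : A → Γ(X, ⊤) := fun g => (Scheme.ΓSpecIso (CommRingCat.of A)).inv g
  let res : Γ(X, ⊤) →+* Γ(X, U) := (X.presheaf.map (CategoryTheory.homOfLE (le_top : U ≤ ⊤)).op).hom
  let G : Set A := {g | ∃ a : A, U' ∩ PrimeSpectrum.basicOpen g = PrimeSpectrum.basicOpen a}
  have hG : Ideal.span G = ⊤ := by
    by_contra h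
    obtain ⟨m, hm, hle⟩ := Ideal.exists_le_maximal _ h
    haveI := hm.isPrime
    obtain ⟨a, g, hg, ha, hgI⟩ : ∃ a g : A, g ∉ m ∧ a ∈ I ∧ ∀ b ∈ I, g * b ∈ Ideal.span {a} := by
      by_cases hm0 : m = ⊥
      · by_cases hI0 : I = ⊥
        · exact ⟨0, 1, fun h1 => hm.ne_top (m.eq_top_iff_one.mpr h1), I.zero_mem,
            fun b hb => by rw [hI0, Submodule.mem_bot] at hb; simp [hb]⟩
        · have hIt : I = ⊤ := hm.out.2 I (hm0 ▸ bot_lt_iff_ne_bot.mpr hI0)
          exact ⟨1, 1, fun h1 => hm.ne_top (m.eq_top_iff_one.mpr h1), hIt ▸ Submodule.mem_top,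
            fun b _ => by simp [Ideal.span_singleton_one]⟩
      haveI := IsLocalization.AtPrime.isDiscreteValuationRing_of_dedekind_domain A hm0 (Localization.AtPrime m)
      obtain ⟨x, hx⟩ := IsPrincipalIdealRing.principal (I.map (algebraMap A (Localization.AtPrime m)))
      have hxm : x ∈ I.map (algebraMap A (Localization.AtPrime m)) := by
        rw [hx]; exact Submodule.mem_span_singleton_self x
      obtain ⟨⟨⟨a, ha⟩, s⟩, hs⟩ := (IsLocalization.mem_map_algebraMap_iff m.primeCompl _).mp hxm
      have hgen : ∀ b ∈ I, ∃ t : A, t ∉ m ∧ t * b ∈ Ideal.span {a} := by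
        intro b hb
        have hb' := Ideal.mem_map_of_mem (algebraMap A (Localization.AtPrime m)) hb
        rw [hx, Submodule.mem_span_singleton] at hb'
        obtain ⟨c, hc⟩ := hb'
        obtain ⟨⟨c₁, s₁⟩, hc₁⟩ := IsLocalization.surj m.primeCompl c
        have heq : algebraMap A (Localization.AtPrime m) (b * (s₁ : A) * (s : A)) =
            algebraMap A (Localization.AtPrime m) (c₁ * a) := by
          rw [map_mul, map_mul, map_mul, ← hc, ← hc₁, smul_eq_mul]
          simp only at hs
          rw [← hs]; ring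
        obtain ⟨w, hw⟩ := (IsLocalization.eq_iff_exists m.primeCompl _).mp heq
        refine ⟨w * (s₁ * s), m.primeCompl.mul_mem w.2 (m.primeCompl.mul_mem s₁.2 s.2), ?_⟩
        rw [Ideal.mem_span_singleton]
        exact ⟨w * c₁, by linear_combination hw⟩
      obtain ⟨F, hF⟩ := IsNoetherian.noetherian I
      choose! t ht htb using hgen
      have hFI : ∀ b ∈ F, b ∈ I := fun b hb => hF ▸ Submodule.subset_span hb
      refine ⟨a, ∏ b ∈ F, t b, ?_, ha, fun b hb => ?_⟩
      · exact Submonoid.prod_mem m.primeCompl fun b hb => ht b (hFI b hb)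
      · rw [← hF] at hb
        induction hb using Submodule.span_induction with
        | mem b hbF =>
          obtain ⟨c, hc⟩ := Finset.dvd_prod_of_mem t hbF
          rw [hc, mul_right_comm]
          exact Ideal.mul_mem_right _ _ (htb b (hFI b hbF))
        | zero => rw [mul_zero]; exact Submodule.zero_mem _
        | add p q _ _ hp hq => rw [mul_add]; exact Submodule.add_mem _ hp hq
        | smul c p _ hp => rw [smul_eq_mul, mul_left_comm]; exact Ideal.mul_mem_left _ _ hp
    refine hg (hle (Ideal.subset_span ⟨g * a, Set.ext fun q => ?_⟩))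
    have hq : q ∉ U' ↔ I ≤ q.asIdeal := by
      have := Set.ext_iff.mp hI q
      simpa [PrimeSpectrum.mem_zeroLocus] using this
    simp only [Set.mem_inter_iff, SetLike.mem_coe, PrimeSpectrum.mem_basicOpen]
    constructor
    · rintro ⟨hqU, hqg⟩ hqga
      refine (hq.mpr fun b hb => ?_) hqU
      obtain ⟨c, hc⟩ := Ideal.mem_span_singleton.mp (hgI b hb)
      refine (q.isPrime.mem_or_mem ?_).resolve_left hqg
      rw [hc]
      exact q.asIdeal.mul_mem_right c ((q.isPrime.mem_or_mem hqga).resolve_left hqg)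
    · intro h
      refine ⟨?_, fun hqg => h (q.asIdeal.mul_mem_right a hqg)⟩
      by_contra hqU
      exact h (q.asIdeal.mul_mem_left g (hq.mp hqU ha))
  refine isAffineOpen_of_isAffineOpen_basicOpen U ((fun g => res (σ g)) '' G) ?_ ?_
  · have := congrArg (Ideal.map (res.comp (Scheme.ΓSpecIso (CommRingCat.of A)).inv.hom)) hG
    rw [Ideal.map_top, Ideal.map_span] at this
    exact this
  · intro f hf
    obtain ⟨g, ⟨a, ha⟩, rfl⟩ := hf
    have heq : X.basicOpen (res (σ g)) = X.basicOpen (σ a) := by
      show X.basicOpen (X.presheaf.map _ (σ g)) = _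
      rw [Scheme.basicOpen_res, basicOpen_eq_of_affine, basicOpen_eq_of_affine]
      exact TopologicalSpace.Opens.ext ha
    rw [heq]
    exact (isAffineOpen_top X).basicOpen (σ a)

end Groth.Agent.S10871
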