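import Groth.Statements.S10872
import Groth.Agent.Lib.BSev5.Main

set_option autoImplicit false
universe u
open CategoryTheory AlgebraicGeometry
open Variety

namespace Groth.Agent.S10872

/-- A Brauer–Severi scheme X over a field k (some base change X_K to a field extension K of k is
K-isomorphic to a projective space P^n_K) is smooth over k, geometrically integral over k, and
projective over k, i.e. admits a closed immersion into some P^N_k compatible with the structure
morphisms. -/
theorem result (k : Type u) [Field k] {X : Scheme.{u}}
    (p : X ⟶ Spec (CommRingCat.of k)) (hX : W4bk4gw11416.IsBrauerSeveri p) :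
    Smooth p ∧ GeometricallyIntegral p ∧
      ∃ (N : ℕ) (i : X ⟶ CohB1.ProjSpace N k), IsClosedImmersion i ∧ i ≫ CohB1.ProjSpace.toSpec N k = p :=
  GrothLib.BSev5.smooth_and_integral_and_projective hX

end Groth.Agent.S10872
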