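import Groth.Statements.S10874
import Groth.Agent.Lib.BSev5.Main

set_option autoImplicit false
universe u
open CategoryTheory AlgebraicGeometry
open Variety

namespace Groth.Agent.S10874

/-- Every Brauer–Severi scheme over a field k splits over a finite Galois extension: there is a finite
Galois extension k' of k (in the same universe) and an n ≥ 0 such that the base change X_{k'} is
k'-isomorphic to P^n_{k'}. -/
theorem result (k : Type u) [Field k] {X : Scheme.{u}}
    (p : X ⟶ Spec (CommRingCat.of k)) (hX : W4bk4gw11416.IsBrauerSeveri p) :
    ∃ (K : Type u) (_ : Field K) (_ : Algebra k K), FiniteDimensional k K ∧ IsGalois k K ∧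
      ∃ n : ℕ, W4bk4gw11416.IsProjSpaceOver (W4bk4gw11416.baseChangeTo p K) n :=
  GrothLib.BSev5.exists_galois hX

end Groth.Agent.S10874
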