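import Groth.Statements.S10879
import Mathlib.AlgebraicGeometry.Morphisms.UniversallyOpen
import Mathlib.AlgebraicGeometry.FunctionField
-- import your own Groth.Agent.* helpers here

set_option autoImplicit false
universe u
open CategoryTheory AlgebraicGeometry
open FlatMor

namespace Groth.Agent.S10879

/-- Take integral schemes X' and X and a separated surjective morphism f : X' → X which is birational in
the sense that the induced map of function fields (the stalk map of f at the generic point of X') is
an isomorphism, and suppose f is affine (e.g. a normalization) or locally of finite presentation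
(e.g. a blow-up of a Noetherian integral scheme). Then f is flat exactly when it is an isomorphism. -/
theorem result {X' X : Scheme.{u}} [IsIntegral X'] [IsIntegral X]
    (f : X' ⟶ X) [Surjective f] [IsSeparated f] (hK : IsIso (f.stalkMap (genericPoint X')))
    (h : IsAffineHom f ∨ LocallyOfFinitePresentation f) :
    Flat f ↔ IsIso f := by
  haveI := hK
  refine ⟨fun _ => ?_, fun _ => inferInstance⟩
  have hη : f.base (genericPoint X') = genericPoint X := by
    haveI : IsDominant f := inferInstance
    exact ((genericPoint_spec X').image f.continuous).eq (by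
      simpa [f.denseRange.closure_eq, closure_image_closure f.continuous] using! genericPoint_spec X)
  have hinj (x : X') : Function.Injective (f.stalkMap x) := by
    algebraize [(f.stalkMap x).hom]
    have : Module.FaithfullyFlat (X.presheaf.stalk (f x)) (X'.presheaf.stalk x) :=
      @Module.FaithfullyFlat.of_flat_of_isLocalHom _ _ _ _ _ _ _
        (Flat.stalkMap f x) (f.toLRSHom.prop x)
    exact FaithfulSMul.algebraMap_injective _ _
  have hsurj (x : X') : Function.Surjective (f.stalkMap x) := by
    intro b
    have hsp : genericPoint X' ⤳ x := genericPoint_specializes x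
    have hspY : f.base (genericPoint X') ⤳ f.base x := hsp.map f.continuous
    have hKs := (ConcreteCategory.bijective_of_isIso (f.stalkMap (genericPoint X'))).2
    obtain ⟨k, hk⟩ := hKs (X'.presheaf.stalkSpecializes hsp b)
    letI := (X.presheaf.stalkSpecializes hspY).hom.toAlgebra
    haveI : IsFractionRing (X.presheaf.stalk (f.base x)) (X.presheaf.stalk (f.base (genericPoint X'))) := by
      revert hspY
      rw [hη]
      intro hspY
      exact inferInstanceAs (IsFractionRing (X.presheaf.stalk (f.base x)) X.functionField)
    obtain ⟨⟨a, c⟩, hac⟩ := IsLocalization.surj (nonZeroDivisors (X.presheaf.stalk (f.base x))) k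
    have hinj' : Function.Injective (X'.presheaf.stalkSpecializes hsp) :=
      IsFractionRing.injective (X'.presheaf.stalk x) X'.functionField
    have e : b * f.stalkMap x c = f.stalkMap x a := by
      apply hinj'
      rw [map_mul, ← hk, ← Scheme.Hom.stalkSpecializes_stalkMap_apply f _ _ hsp,
        ← Scheme.Hom.stalkSpecializes_stalkMap_apply f _ _ hsp, ← map_mul]
      exact congrArg _ hac
    algebraize [(f.stalkMap x).hom]
    have hff : Module.FaithfullyFlat (X.presheaf.stalk (f x)) (X'.presheaf.stalk x) :=
      @Module.FaithfullyFlat.of_flat_of_isLocalHom _ _ _ _ _ _ _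
        (Flat.stalkMap f x) (f.toLRSHom.prop x)
    have ha : a ∈ Ideal.span {(c : X.presheaf.stalk (f.base x))} := by
      rw [← Ideal.comap_map_eq_self_of_faithfullyFlat (B := X'.presheaf.stalk x) (Ideal.span _)]
      rw [Ideal.mem_comap, Ideal.map_span, Set.image_singleton, Ideal.mem_span_singleton]
      exact ⟨b, (e.symm.trans (mul_comm _ _))⟩
    obtain ⟨d, hd⟩ := Ideal.mem_span_singleton.mp ha
    refine ⟨d, ?_⟩
    have hc : f.stalkMap x c ≠ 0 :=
      (map_ne_zero_iff _ (hinj x)).mpr (nonZeroDivisors.ne_zero c.2)
    apply mul_left_cancel₀ hc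
    rw [← map_mul, ← hd, ← e, mul_comm]
  haveI hiso (x : X') : IsIso (f.stalkMap x) :=
    (ConcreteCategory.isIso_iff_bijective _).mpr ⟨hinj x, hsurj x⟩
  let p (x : X') : Spec (X.presheaf.stalk (f.base x)) ⟶ X' :=
    Spec.map (inv (f.stalkMap x)) ≫ X'.fromSpecStalk x
  have hp (x : X') : p x ≫ f = X.fromSpecStalk (f.base x) := by
    rw [Category.assoc, ← Scheme.SpecMap_stalkMap_fromSpecStalk, ← Category.assoc, ← Spec.map_comp,
      IsIso.hom_inv_id, Spec.map_id, Category.id_comp]
  have hp0 (x : X') (h : f.base (genericPoint X') ⤳ f.base x) :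
      Spec.map (X.presheaf.stalkSpecializes h) ≫ p x = p (genericPoint X') := by
    have : X.presheaf.stalkSpecializes h ≫ f.stalkMap (genericPoint X') =
        f.stalkMap x ≫ X'.presheaf.stalkSpecializes (genericPoint_specializes x) :=
      Scheme.Hom.stalkSpecializes_stalkMap f _ _ (genericPoint_specializes x)
    have : inv (f.stalkMap x) ≫ X.presheaf.stalkSpecializes h =
        X'.presheaf.stalkSpecializes (genericPoint_specializes x) ≫ inv (f.stalkMap (genericPoint X')) := by
      rw [IsIso.inv_comp_eq, ← Category.assoc, IsIso.eq_comp_inv, this]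
    simp only [p]
    rw [← Category.assoc, ← Spec.map_comp, this, Spec.map_comp, Category.assoc,
      Scheme.SpecMap_stalkSpecializes_fromSpecStalk]
  have hinjb : Function.Injective f.base := by
    intro x₁ x₂ hx
    have h1 : f.base (genericPoint X') ⤳ f.base x₁ := (genericPoint_specializes x₁).map f.continuous
    obtain ⟨q, hq, hq'⟩ : ∃ q : Spec (X.presheaf.stalk (f.base x₁)) ⟶ X',
        q ≫ f = X.fromSpecStalk (f.base x₁) ∧
        (q (IsLocalRing.closedPoint _) = x₂) ∧
        Spec.map (X.presheaf.stalkSpecializes h1) ≫ q = p (genericPoint X') := by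
      revert h1
      rw [hx]
      intro h1
      refine ⟨p x₂, hp x₂, ?_, hp0 x₂ h1⟩
      simp only [p]
      rw [Scheme.Hom.comp_apply, Spec_closedPoint,
        Scheme.fromSpecStalk_closedPoint]
    haveI : IsReduced (Spec (X.presheaf.stalk (f.base x₁))) := inferInstance
    have hdom : IsDominant (Spec.map (X.presheaf.stalkSpecializes h1)) := by
      refine ⟨?_⟩
      refine (PrimeSpectrum.denseRange_comap_iff_ker_le_nilRadical _).mpr ?_
      rw [(RingHom.injective_iff_ker_eq_bot _).mp]
      · exact bot_le
      · have key : ∀ (η : X) (y : X) (h : η ⤳ y), η = genericPoint X →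
            Function.Injective (X.presheaf.stalkSpecializes h) := by
          rintro η y h rfl
          exact IsFractionRing.injective (X.presheaf.stalk y) X.functionField
        exact key _ _ h1 hη
    have := ext_of_isDominant_of_isSeparated f ((hp x₁).trans hq.symm)
      (Spec.map (X.presheaf.stalkSpecializes h1)) ((hp0 x₁ h1).trans hq'.2.symm)
    rw [← hq'.1, ← this]
    simp only [p]
    rw [Scheme.Hom.comp_apply, Spec_closedPoint,
      Scheme.fromSpecStalk_closedPoint]
  have hq : Topology.IsQuotientMap f := by
    rcases h with h | h
    · exact Flat.isQuotientMap_of_surjective f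
    · exact (isOpenMap_of_generalizingMap (f := f) (Flat.generalizingMap _)).isQuotientMap
        f.continuous f.surjective
  have : IsIso f.base :=
    (TopCat.isIso_iff_isHomeomorph _).mpr
      ⟨f.continuous, fun s hs => hq.isCoinducing.isOpen_preimage.mp
        (by rwa [Set.preimage_image_eq _ hinjb]), hinjb, f.surjective⟩
  exact (AlgebraicGeometry.isIso_iff_isIso_stalkMap f).mpr ⟨this, hiso⟩

end Groth.Agent.S10879
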