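import Groth.Statements.S10880
import Groth.Agent.Lib.Chev28.FlatDVR
import Groth.Agent.Lib.Chev28.PtIntDomain

set_option autoImplicit false
universe u
open CategoryTheory AlgebraicGeometry
open FlatMor

namespace Groth.Agent.S10880

/-- Let R be a discrete valuation ring and X a locally Noetherian scheme over Spec R whose
scheme-theoretic special fibre is reduced and such that every maximal point of the special fibre
lies in the closure of the generic fibre, i.e. the generic fibre is dense in X. Then X is flat over
R. -/
theorem result (R : Type u) [CommRing R] [IsDomain R]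
    [IsDiscreteValuationRing R] {X : Scheme.{u}} (f : X ⟶ Spec (CommRingCat.of R)) [IsLocallyNoetherian X]
    (hred : IsReduced (f.fiber (IsLocalRing.closedPoint R)))
    (hdense : Dense (f.base ⁻¹' {genericPoint (Spec (CommRingCat.of R))})) : Flat f := by
  have htwo : ∀ v : Spec (CommRingCat.of R), v = genericPoint (Spec (CommRingCat.of R)) ∨
      v = (IsLocalRing.closedPoint R : ↥(Spec (CommRingCat.of R))) := fun v => by
    by_cases hv : v.asIdeal = ⊥
    · exact Or.inl ((PrimeSpectrum.ext hv).trans (genericPoint_eq_bot_of_affine _).symm)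
    · exact Or.inr (PrimeSpectrum.ext (IsLocalRing.eq_maximalIdeal (Ideal.IsPrime.isMaximal v.isPrime hv)))
  refine Flat.iff_flat_stalkMap _ |>.mpr fun x => ?_
  rcases htwo (f x) with hx | hx
  · refine GrothLib.Chev28.flat_of_isField ?_ _
    rw [hx]
    exact Field.toIsField (Spec (CommRingCat.of R)).functionField
  · refine GrothLib.Chev28.flat_stalkMap_of_isOpenAt_of_reduced_dvr f x hx (fun z _ _ N hN => ?_) ?_
    · obtain ⟨O, hON, hO, hzO⟩ := mem_nhds_iff.mp hN
      obtain ⟨w, hwO, hw⟩ := hdense.inter_open_nonempty O hO ⟨_, hzO⟩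
      refine Filter.mem_of_superset Filter.univ_mem fun v _ => ?_
      rcases htwo v with rfl | rfl
      · exact ⟨w, hON hwO, hw⟩
      · exact ⟨f.fiberι (f x) z, hON hzO, (GrothLib.FibreFlat.fiberι_comp_apply f (f x) z).trans hx⟩
    · rw [← hx] at hred
      infer_instance

end Groth.Agent.S10880
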