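import Groth.Statements.S10881
import Groth.Agent.Lib.Chev28.MiracleFinite

set_option autoImplicit false
universe u
open CategoryTheory AlgebraicGeometry
open FlatMor

namespace Groth.Agent.S10881

/-- A finite morphism f : X → Y between regular schemes (locally Noetherian with regular local rings)
under which each irreducible component of X dominates some irreducible component of Y is flat, hence
finite locally free. (The published statement asks only that f be dominant; for X the disjoint union
of the affine line and a point, mapped to the affine line Y by the identity and the inclusion of a
closed point, f is finite and dominant between regular schemes but not flat, and the published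
argument uses injectivity of the local ring maps, which holds exactly under the component-wise
dominance assumed here.) -/
theorem result {X Y : Scheme.{u}} (f : X ⟶ Y) [IsFinite f]
    [IsLocallyNoetherian X] [IsLocallyNoetherian Y]
    (hX : ∀ x : X, IsRegularLocalRing (X.presheaf.stalk x))
    (hY : ∀ y : Y, IsRegularLocalRing (Y.presheaf.stalk y))
    (hdom : ∀ Z ∈ irreducibleComponents (X : Type u), closure (f.base '' Z) ∈ irreducibleComponents (Y : Type u)) :
    Flat f := by
  exact GrothLib.Chev28.flat_of_finite_regular f hX hY hdom

end Groth.Agent.S10881
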