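import Groth.Statements.S2082
import Mathlib
import Groth.Agent.Lib.FibreFlat.RegularFlat
import Groth.Agent.Lib.DefLift26.Basic
import Groth.Agent.Lib.CMFree.FiniteFlat
-- import your own Groth.Agent.* helpers here

set_option autoImplicit false
universe u
open CAlg

namespace Groth.Agent.S2082

/-- Take a local homomorphism `R → S` between Noetherian local rings, where `R` is regular, `S` is
Cohen–Macaulay, and `dim S = dim R + dim (S/𝔪_R S)`. Then `S` is flat over `R`. -/
theorem result {R S : Type u} [CommRing R] [CommRing S] [IsRegularLocalRing R]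
    [LocCoh.IsCohenMacaulayLocalRing S] [Algebra R S] [IsLocalHom (algebraMap R S)]
    (hdim : ringKrullDim S = ringKrullDim R +
      ringKrullDim (S ⧸ (IsLocalRing.maximalIdeal R).map (algebraMap R S))) :
    Module.Flat R S := by
  classical
  haveI : LocCoh.IsCohenMacaulayLocalRing R := by
    obtain ⟨rs, h1, h2, h3⟩ := GrothLib.CMFree.exists_weaklyRegular_of_isRegularLocalRing R
    exact GrothLib.CMFree.isCohenMacaulayLocalRing_of_weaklyRegular R rs h1 h2 h3.ge
  obtain ⟨s, hcard, hs⟩ := Submodule.FG.exists_span_finset_card_eq_spanFinrank (p := IsLocalRing.maximalIdeal R) (IsNoetherian.noetherian _)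
  set ts := s.toList with hts
  have hof : Ideal.ofList ts = IsLocalRing.maximalIdeal R := by
    rw [← hs]
    exact congrArg Ideal.span (Set.ext fun x => by simp [hts])
  have hlen : (ts.length : WithBot ℕ∞) = ringKrullDim R := by
    rw [← IsRegularLocalRing.spanFinrank_maximalIdeal, hts, Finset.length_toList, hcard]
  have hmem : ∀ t ∈ ts, t ∈ IsLocalRing.maximalIdeal R := fun t ht => hof ▸ Ideal.subset_span ht
  have hR : RingTheory.Sequence.IsWeaklyRegular R ts := by
    refine GrothLib.DefLift.isWeaklyRegular_of_cm R ts hmem ?_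
    rw [hof, hlen]
    letI := Ideal.Quotient.field (IsLocalRing.maximalIdeal R)
    rw [ringKrullDim_eq_zero_of_field, zero_add]
  have hm : ∀ t ∈ ts, algebraMap R S t ∈ IsLocalRing.maximalIdeal S := fun t ht =>
    map_nonunit (algebraMap R S) t (hmem t ht)
  have hS : RingTheory.Sequence.IsWeaklyRegular S ts := by
    rw [← RingTheory.Sequence.isWeaklyRegular_map_algebraMap_iff S S ts]
    refine GrothLib.DefLift.isWeaklyRegular_of_cm S _ (fun r hr => ?_) ?_
    · obtain ⟨t, ht, rfl⟩ := List.mem_map.1 hr; exact hm t ht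
    · rw [← Ideal.map_ofList, hof, List.length_map, hlen, hdim, add_comm]
  refine GrothLib.FibreFlat.flat_of_weaklyRegular ts hR hS hm ?_
  rw [hof]
  exact Ideal.Quotient.maximal_ideal_iff_isField_quotient _ |>.1 (IsLocalRing.maximalIdeal.isMaximal R)

end Groth.Agent.S2082
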