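import Groth.Statements.S10882
import Groth.Agent.Lib.Equidim6.Basic
import Groth.Agent.S2082
-- import your own Groth.Agent.* helpers here

set_option autoImplicit false
universe u
open CategoryTheory AlgebraicGeometry
open FlatMor

namespace Groth.Agent.S10882

/-- Let X and Y be schemes locally of finite type over a field k and f : X → Y a k-morphism, with Y
regular (all local rings regular), X Cohen–Macaulay (all local rings Cohen–Macaulay), X
equidimensional of dimension e, Y equidimensional of dimension d ≤ e, and all fibres of f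
equidimensional of dimension e − d (every irreducible component of every fibre has dimension e − d).
Then f is flat. -/
theorem result (k : Type u) [Field k] {X Y : Scheme.{u}}
    (q : Y ⟶ Spec (CommRingCat.of k)) [LocallyOfFiniteType q] (f : X ⟶ Y) [LocallyOfFiniteType (f ≫ q)]
    (hY : ∀ y : Y, IsRegularLocalRing (Y.presheaf.stalk y))
    (hX : ∀ x : X, LocCoh.IsCohenMacaulayLocalRing (X.presheaf.stalk x))
    (e d : ℕ) (hde : d ≤ e)
    (hXe : ∀ Z ∈ irreducibleComponents (X : Type u), topologicalKrullDim Z = e)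
    (hYd : ∀ Z ∈ irreducibleComponents (Y : Type u), topologicalKrullDim Z = d)
    (hfib : ∀ y : Y, ∀ Z ∈ irreducibleComponents (f.base ⁻¹' {y}), topologicalKrullDim Z = (e - d : ℕ)) :
    Flat f := by
  haveI : LocallyOfFiniteType f := locallyOfFiniteType_of_comp f q
  haveI : IsLocallyNoetherian Y := LocallyOfFiniteType.isLocallyNoetherian q
  haveI : IsLocallyNoetherian X := LocallyOfFiniteType.isLocallyNoetherian f
  have hXd := (GrothLib.Equidim6.equidim_iff (f ≫ q) e).1 hXe
  have hYd' := (GrothLib.Equidim6.equidim_iff q d).1 hYd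
  have hF : ∀ x, FlatMor.fibreDimAt f x = ((e - d : ℕ) : WithBot ℕ∞) := by
    refine (GrothLib.Equidim6.fibres_equidim_iff f (e - d)).1 fun y Z hZ => ?_
    let h := f.fiberHomeo y
    have hc := preimage_mem_irreducibleComponents hZ h.symm.isOpenEmbedding
      (by rw [h.symm.surjective.range_eq, Set.inter_univ]; exact hZ.1.nonempty)
    rw [← hfib y _ hc]
    exact (GrothLib.Dim.IsEmbedding.topologicalKrullDim_eq (f := fun a : (h.symm ⁻¹' Z : Set _) => h.symm a.1)
      (h.symm.isEmbedding.comp Topology.IsEmbedding.subtypeVal)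
      (by rw [Set.range_comp' h.symm Subtype.val, Subtype.range_coe, h.symm.surjective.image_preimage])).symm
  rw [Flat.iff_flat_stalkMap]
  intro x
  haveI : LocallyOfFiniteType (f.fiberToSpecResidueField (f x)) := MorphismProperty.pullback_snd f _ inferInstance
  letI : Algebra (Y.presheaf.stalk (f x)) (X.presheaf.stalk x) := (f.stalkMap x).hom.toAlgebra
  haveI : IsLocalHom (algebraMap (Y.presheaf.stalk (f x)) (X.presheaf.stalk x)) :=
    inferInstanceAs (IsLocalHom (f.stalkMap x).hom)
  haveI := hY (f x)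
  haveI := hX x
  refine Groth.Agent.S2082.result (R := Y.presheaf.stalk (f x)) (S := X.presheaf.stalk x) ?_
  obtain ⟨eF⟩ := GrothLib.CMMor6.nonempty_fibQuot_equiv f x
  have hq : ringKrullDim (X.presheaf.stalk x ⧸
      (IsLocalRing.maximalIdeal (Y.presheaf.stalk (f x))).map (algebraMap _ (X.presheaf.stalk x))) =
      ringKrullDim ((f.fiber (f x)).presheaf.stalk (f.asFiber x)) := ringKrullDim_eq_of_ringEquiv eF
  rw [hq]
  have h1 := GrothLib.AffDom.localDim_eq (f ≫ q) x
  have h2 := GrothLib.AffDom.localDim_eq q (f x)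
  have h3 : FlatMor.fibreDimAt f x = _ :=
    GrothLib.AffDom.localDim_eq (K := Y.residueField (f x)) (f.fiberToSpecResidueField (f x)) (f.asFiber x)
  rw [hXd, GrothLib.AffDom.ptDim_eq_add f q x] at h1
  rw [hYd'] at h2
  rw [hF] at h3
  obtain ⟨a, ha⟩ := GrothLib.AffDom.exists_nat_ptDim q (f x)
  obtain ⟨b, hb⟩ := GrothLib.AffDom.exists_nat_ptDim (K := Y.residueField (f x)) (f.fiberToSpecResidueField (f x)) (f.asFiber x)
  rw [ha, hb] at h1
  rw [ha] at h2
  rw [hb] at h3
  have nat : ∀ (m s : ℕ) (o : WithBot ℕ∞), (s : WithBot ℕ∞) = (m : WithBot ℕ∞) + o → ∃ k : ℕ, o = k ∧ s = m + k := by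
    intro m s o ho
    cases o with
    | bot => rw [WithBot.add_bot] at ho; exact absurd ho (WithBot.natCast_ne_bot s)
    | coe v =>
      cases v with
      | top => exact (ENat.top_ne_natCast s ((add_top (m : ℕ∞)).symm.trans (WithBot.coe_inj.1 ho.symm))).elim
      | coe k => exact ⟨k, rfl, by exact_mod_cast ho⟩
  rw [← Nat.cast_add] at h1
  obtain ⟨i, hi, hi'⟩ := nat _ _ _ h1
  obtain ⟨j, hj, hj'⟩ := nat _ _ _ h2
  obtain ⟨k, hk, hk'⟩ := nat _ _ _ h3
  rw [hi, hj, hk, ← Nat.cast_add]
  congr 1
  omega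

end Groth.Agent.S10882
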