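import Groth.Statements.S10883
import Groth.Agent.Lib.DetSmooth.Basic
import Groth.Agent.S10870


set_option autoImplicit false
universe u
open CAlgX

namespace Groth.Agent.S10883

/-- Let k be a field and 0 < r < min(n, m), and let B be the coordinate ring of the affine determinantal
scheme of n × m matrices of rank at most r over k (polynomial ring on the entries of the generic
matrix modulo its (r+1) × (r+1) minors). A prime P of B is a smooth point over k (the localization
B_P is formally smooth over k) exactly when it corresponds to a matrix of rank exactly r, i.e. when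
P does not contain the image of the ideal generated by the r × r minors. -/
theorem result (k : Type u) [Field k] (n m r : ℕ) (hr0 : 0 < r)
    (hr : r < min n m)
    (P : PrimeSpectrum (MvPolynomial (Fin n × Fin m) k ⧸ CAlgX.minorIdeal (Matrix.of fun (i : Fin n) (j : Fin m) => (MvPolynomial.X (i, j) : MvPolynomial (Fin n × Fin m) k)) (r + 1))) :
    P ∈ Algebra.smoothLocus k (MvPolynomial (Fin n × Fin m) k ⧸ CAlgX.minorIdeal (Matrix.of fun (i : Fin n) (j : Fin m) => (MvPolynomial.X (i, j) : MvPolynomial (Fin n × Fin m) k)) (r + 1)) ↔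
      ¬ (CAlgX.minorIdeal (Matrix.of fun (i : Fin n) (j : Fin m) => (MvPolynomial.X (i, j) : MvPolynomial (Fin n × Fin m) k)) r).map
          (Ideal.Quotient.mk (CAlgX.minorIdeal (Matrix.of fun (i : Fin n) (j : Fin m) => (MvPolynomial.X (i, j) : MvPolynomial (Fin n × Fin m) k)) (r + 1))) ≤ P.asIdeal := by
  show P ∈ Algebra.smoothLocus k (GrothLib.DetSmooth.DRing k n m r) ↔ _
  rw [← GrothLib.BEExact.minorIdeal_map]
  show _ ↔ ¬ CAlgX.minorIdeal (GrothLib.DetSmooth.genB k n m r) r ≤ P.asIdeal
  haveI : Algebra.FinitePresentation k (GrothLib.DetSmooth.DRing k n m r) :=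
    Algebra.FinitePresentation.of_finiteType.mp inferInstance
  constructor
  · intro hs hle
    haveI : Algebra.IsSmoothAt k P.asIdeal := hs
    have h1 := Groth.Agent.Lib.AlgMisc.SmoothRank.finrank_le_of_isSmoothAt (k := k) P.asIdeal
    have h2 := GrothLib.NoethTop.localDim_le_dim P
    rw [h1, PrimeSpectrum.topologicalKrullDim_eq_ringKrullDim,
      Groth.Agent.S10870.result k n m r hr.le] at h2
    have h3 := GrothLib.DetSmooth.mul_le_finrank_kaehler P.asIdeal hle
    norm_cast at h2
    have hn : r < n := lt_min_iff.1 hr |>.1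
    have hm : r < m := lt_min_iff.1 hr |>.2
    obtain ⟨a, rfl⟩ : ∃ a, n = r + 1 + a := ⟨n - (r + 1), by omega⟩
    obtain ⟨b, rfl⟩ : ∃ b, m = r + 1 + b := ⟨m - (r + 1), by omega⟩
    rw [show r + 1 + b + (r + 1 + a) - r = r + a + b + 2 by omega] at h2
    rw [show ((r * (r + a + b + 2) : ℕ) : WithBot ℕ∞) = (((r * (r + a + b + 2) : ℕ) : ℕ∞) : WithBot ℕ∞)
      from rfl] at h2
    have := h3.trans (Nat.cast_le.1 (WithBot.coe_le_coe.1 h2))
    nlinarith [Nat.zero_le (a * b)]
  · intro hle
    obtain ⟨f, g, hfg⟩ : ∃ (f : Fin r → Fin n) (g : Fin r → Fin m),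
        ((GrothLib.DetSmooth.genB k n m r).submatrix f g).det ∉ P.asIdeal := by
      by_contra hc
      push Not at hc
      refine hle (Ideal.span_le.2 ?_)
      rintro _ ⟨⟨f, g⟩, rfl⟩
      exact hc f g
    haveI := GrothLib.DetSmooth.formallySmooth_away (k := k) f g
    exact Algebra.basicOpen_subset_smoothLocus_iff.2 inferInstance hfg

end Groth.Agent.S10883
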