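import Groth.Statements.S10885
import Groth.Agent.Lib.AffDom.PointDim

set_option autoImplicit false
universe u
open CategoryTheory AlgebraicGeometry
open Variety

namespace Groth.Agent.S10885

/-- Let Y be a scheme of finite type over a field k, r ≥ 0, and f : X → Y a morphism of finite type
whose fibre over every maximal point of Y has dimension at least r. Then dim X ≥ r + dim Y. -/
theorem result (k : Type u) [Field k] {X Y : Scheme.{u}}
    (q : Y ⟶ Spec (CommRingCat.of k)) [LocallyOfFiniteType q] [QuasiCompact q]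
    (f : X ⟶ Y) [LocallyOfFiniteType f] [QuasiCompact f] (r : ℕ)
    (hfib : ∀ η : Y, (∀ y : Y, y ⤳ η → y = η) → (r : WithBot ℕ∞) ≤ topologicalKrullDim (f.base ⁻¹' {η})) :
    (r : WithBot ℕ∞) + topologicalKrullDim Y ≤ topologicalKrullDim X := by
  rw [GrothLib.AffDom.topologicalKrullDim_eq_iSup_ptDim Y]
  refine GrothLib.AffDom.add_iSup_le r fun y => ?_
  obtain ⟨η, hη, hmax⟩ := GrothLib.AffDom.exists_maximal_point y
  have hr := hfib η hmax
  rw [GrothLib.AffDom.topologicalKrullDim_fiber, GrothLib.AffDom.topologicalKrullDim_eq_iSup_ptDim] at hr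
  have : Nonempty (f.fiber η) := by
    by_contra hne
    rw [not_nonempty_iff] at hne
    simp at hr
  obtain ⟨z, hz⟩ := GrothLib.AffDom.exists_le_of_le_iSup (fun z : f.fiber η => GrothLib.AffDom.ptDim_nonneg z) r hr
  calc (r : WithBot ℕ∞) + GrothLib.AffDom.ptDim y ≤ GrothLib.AffDom.ptDim η + GrothLib.AffDom.ptDim z := by
        rw [add_comm]; exact add_le_add (GrothLib.AffDom.ptDim_mono hη) hz
    _ = GrothLib.AffDom.ptDim (f.fiberι η z) := (GrothLib.AffDom.ptDim_fiberι f q η z).symm
    _ ≤ _ := GrothLib.AffDom.ptDim_le _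

end Groth.Agent.S10885
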