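import Groth.Statements.S10886
import Mathlib
import Groth.Agent.Lib.CurvePoints.Basic

set_option autoImplicit false
universe u
open CategoryTheory AlgebraicGeometry
open Curves

namespace Groth.Agent.S10886

/-- In an irreducible Noetherian scheme of dimension one every constructible subset is either a finite
set of closed points or the complement of such a set; in particular it is open or closed. -/
theorem result {X : Scheme.{u}} [IsNoetherian X]
    [IrreducibleSpace X] (hX : topologicalKrullDim X = 1) (s : Set X) (hs : Topology.IsConstructible s) :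
    (s.Finite ∧ (∀ x ∈ s, IsClosed ({x} : Set X))) ∨ (sᶜ.Finite ∧ ∀ x ∈ sᶜ, IsClosed ({x} : Set X)) := by
  have hcl : ∀ x : X, x ≠ genericPoint X → IsClosed ({x} : Set X) := by
    intro x hx
    refine isClosed_of_closure_subset fun z hz => ?_
    by_contra hne
    have hzx : z ≤ x := (specializes_iff_mem_closure.2 hz)
    have h₂ : x < genericPoint X := lt_iff_le_not_ge.2 ⟨(genericPoint_spec X).specializes trivial, fun h =>
      hx (((genericPoint_spec X).specializes trivial).antisymm h).eq.symm⟩
    have h₁ : z < x := lt_iff_le_not_ge.2 ⟨hzx, fun h => hne ((Specializes.antisymm hzx h).eq.symm)⟩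
    let c : LTSeries X := ((RelSeries.singleton _ z).snoc x h₁).snoc (genericPoint X) (by simpa using h₂)
    have h := (Order.LTSeries.length_le_krullDim c).trans ((Order.krullDim_eq_of_orderIso
      (irreducibleSetEquivPoints (α := ↥X))).symm.le.trans hX.le)
    simp [c] at h
  have hfin : ∀ Z : Set X, IsClosed Z → genericPoint X ∉ Z → Z.Finite := fun Z hZ hη => by
    obtain ⟨S, hS, hSirr, hScl, hcov⟩ := TopologicalSpace.NoetherianSpace.exists_finite_set_isClosed_irreducible hZ
    rw [hcov]
    refine hS.sUnion fun C hC => ?_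
    obtain ⟨c, hc⟩ := QuasiSober.sober (hScl C hC) (hSirr C hC)
    have hcne : c ≠ genericPoint X := by
      rintro rfl
      exact hη (hcov ▸ Set.subset_sUnion_of_mem hC hc.mem)
    rw [← hc.def, (hcl c hcne).closure_eq]
    exact Set.finite_singleton c
  have key : ∀ t : Set X, Topology.IsConstructible t →
      (genericPoint X ∉ t ∧ t.Finite) ∨ (genericPoint X ∈ t ∧ tᶜ.Finite) := by
    intro t ht
    induction ht using Topology.IsConstructible.empty_union_induction with
    | open_retrocompact V hV _ =>
      by_cases hη : genericPoint X ∈ V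
      · exact Or.inr ⟨hη, hfin _ hV.isClosed_compl fun h => h hη⟩
      · refine Or.inl ⟨hη, ?_⟩
        rcases V.eq_empty_or_nonempty with rfl | ⟨v, hv⟩
        · exact Set.finite_empty
        · exact absurd (((genericPoint_spec X).mem_open_set_iff hV).mpr ⟨v, trivial, hv⟩) hη
    | union a _ b _ ha hb =>
      rcases ha with ⟨ha1, ha2⟩ | ⟨ha1, ha2⟩
      · rcases hb with ⟨hb1, hb2⟩ | ⟨hb1, hb2⟩
        · exact Or.inl ⟨fun h => h.elim ha1 hb1, ha2.union hb2⟩
        · exact Or.inr ⟨Or.inr hb1, hb2.subset fun y hy hyb => hy (Or.inr hyb)⟩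
      · exact Or.inr ⟨Or.inl ha1, ha2.subset fun y hy hya => hy (Or.inl hya)⟩
    | compl a _ ha =>
      rcases ha with ⟨ha1, ha2⟩ | ⟨ha1, ha2⟩
      · exact Or.inr ⟨ha1, by rwa [compl_compl]⟩
      · exact Or.inl ⟨fun h => h ha1, ha2⟩
  rcases key s hs with ⟨h1, h2⟩ | ⟨h1, h2⟩
  · exact Or.inl ⟨h2, fun x hx => hcl x fun e => h1 (e ▸ hx)⟩
  · exact Or.inr ⟨h2, fun x hx => hcl x fun e => hx (e ▸ h1)⟩

end Groth.Agent.S10886
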