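import Groth.Statements.S10888
import Groth.Agent.Lib.FibreFlat.IsoLocus
-- import your own Groth.Agent.* helpers here

set_option autoImplicit false
universe u
open CategoryTheory AlgebraicGeometry
open FlatMor

namespace Groth.Agent.S10888

/-- Let g : X → S and h : Y → S be proper and of finite presentation with g flat, and f : X → Y a
morphism over S. Then the locus U of points of S over which the fibre morphism X_s → Y_s is an
isomorphism is an open subset of S, and f restricts to an isomorphism over U. -/
theorem result {X Y S : Scheme.{u}} (g : X ⟶ S) (h : Y ⟶ S)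
    [IsProper g] [LocallyOfFinitePresentation g] [Flat g] [IsProper h] [LocallyOfFinitePresentation h]
    (f : X ⟶ Y) (w : f ≫ h = g) :
    ∃ U : S.Opens, (∀ s : S, s ∈ U ↔ ∃ e : g.fiber s ≅ h.fiber s, e.hom ≫ h.fiberι s = g.fiberι s ≫ f) ∧
      IsIso (f ∣_ (h ⁻¹ᵁ U)) := by
      subst w
      haveI : IsProper f := IsProper.of_comp f h
      obtain ⟨U, hU, hiso⟩ := GrothLib.FibreFlat.isOpen_isIso_fibre_locus f h
      refine ⟨U, fun s => (hU s).trans ?_, hiso⟩
      refine ((GrothLib.FibreFlat.prop_fiberMap_iff (P := MorphismProperty.isomorphisms Scheme) f h s).symm).trans ?_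
      refine ⟨fun hs => ?_, ?_⟩
      · haveI : IsIso (MoreMor.fiberMap f h s) := hs
        exact ⟨asIso (MoreMor.fiberMap f h s), Limits.pullback.lift_fst _ _ _⟩
      · rintro ⟨e, he⟩
        have : e.hom = MoreMor.fiberMap f h s := by
          refine Limits.pullback.hom_ext (he.trans (Limits.pullback.lift_fst _ _ _).symm) ?_
          rw [← cancel_mono (S.fromSpecResidueField s)]
          have hc : Limits.pullback.snd h (S.fromSpecResidueField s) ≫ S.fromSpecResidueField s = h.fiberι s ≫ h :=
            Limits.pullback.condition.symm
          refine (Category.assoc _ _ _).trans ((congrArg (e.hom ≫ ·) hc).trans (.trans ?_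
            ((congrArg (MoreMor.fiberMap f h s ≫ ·) hc.symm).trans (Category.assoc _ _ _).symm)))
          refine (Category.assoc _ _ _).symm.trans ((congrArg (· ≫ h) ?_).trans (Category.assoc _ _ _))
          exact he.trans (Limits.pullback.lift_fst _ _ _).symm
        show IsIso (MoreMor.fiberMap f h s)
        rw [← this]
        infer_instance

end Groth.Agent.S10888
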