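import Groth.Statements.S10889
import Groth.Agent.Lib.FibreDimAt6.ZeroDim
-- import your own Groth.Agent.* helpers here

set_option autoImplicit false
universe u
open CategoryTheory AlgebraicGeometry
open FlatMor

namespace Groth.Agent.S10889

/-- Let f : X → Y be proper, flat and of finite presentation, and let V be the set of points of Y whose
fibre is (non-empty and) zero-dimensional. Then V is a clopen subset of Y, and over every open
subset of V the restriction of f is finite, hence finite locally free. -/
theorem result {X Y : Scheme.{u}} (f : X ⟶ Y) [IsProper f] [Flat f]
    [LocallyOfFinitePresentation f] :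
    IsClopen {y : Y | topologicalKrullDim (f.base ⁻¹' {y}) = 0} ∧
      ∀ U : Y.Opens, (U : Set Y) ⊆ {y : Y | topologicalKrullDim (f.base ⁻¹' {y}) = 0} → IsFinite (f ∣_ U) := by
    exact GrothLib.FibreDimAt6.isClopen_dim_zero_and_finite f

end Groth.Agent.S10889
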