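import Groth.Statements.S6297
import Groth.Statements.S6297
-- import your own Groth.Agent.* helpers here

set_option autoImplicit false
universe u
open CAlg

namespace Groth.Agent.S6297

/-- Let R be a ring, m ≤ n, A an n × m matrix over R and J the ideal generated by the m × m minors of A.
(1) For every f ∈ J there is an m × n matrix B with BA = f · 1. (2) If BA = f · 1 for some m × n
matrix B, then f^m ∈ J. -/
theorem result {R : Type u} [CommRing R] {n m : ℕ} (hmn : m ≤ n) (A : Matrix (Fin n) (Fin m) R) : (∀ f ∈ CAlgX.minorIdeal A m, ∃ B : Matrix (Fin m) (Fin n) R, B * A = f • (1 : Matrix (Fin m) (Fin m) R)) ∧ (∀ (f : R) (B : Matrix (Fin m) (Fin n) R), B * A = f • (1 : Matrix (Fin m) (Fin m) R) → f ^ m ∈ CAlgX.minorIdeal A m) := by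
  classical
  refine ⟨fun f hf ↦ ?_, fun f B hB ↦ ?_⟩
  · induction hf using Submodule.span_induction with
    | mem x hx =>
      obtain ⟨⟨g, h⟩, rfl⟩ := hx
      by_cases hb : Function.Bijective h
      · let σ : Equiv.Perm (Fin m) := Equiv.ofBijective h hb
        refine ⟨((Equiv.Perm.sign σ : ℤ) : R) • ((A.submatrix g id).adjugate * (1 : Matrix (Fin n) (Fin n) R).submatrix g id), ?_⟩
        have h1 : (1 : Matrix (Fin n) (Fin n) R).submatrix g id * A = A.submatrix g id := by
          ext i j; simp [Matrix.mul_apply, Matrix.one_apply]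
        rw [Matrix.smul_mul, Matrix.mul_assoc, h1, Matrix.adjugate_mul, smul_smul]
        congr 1
        have := Matrix.det_permute' σ (A.submatrix g id)
        rw [Matrix.submatrix_submatrix] at this
        simpa [σ] using this.symm
      · refine ⟨0, ?_⟩
        obtain ⟨i, j, hij, hne⟩ : ∃ i j, h i = h j ∧ i ≠ j := by
          by_contra hc; push Not at hc
          exact hb ((Finite.injective_iff_bijective).mp fun i j e ↦ hc i j e)
        simp only
        rw [show Matrix.det (A.submatrix g h) = 0 from Matrix.det_zero_of_column_eq hne (fun k ↦ by simp [hij])]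
        simp
    | zero => exact ⟨0, by simp⟩
    | add x y _ _ hx hy =>
      obtain ⟨B, hB⟩ := hx
      obtain ⟨C, hC⟩ := hy
      exact ⟨B + C, by rw [Matrix.add_mul, hB, hC, add_smul]⟩
    | smul a x _ hx =>
      obtain ⟨B, hB⟩ := hx
      exact ⟨a • B, by rw [Matrix.smul_mul, hB, smul_smul, smul_eq_mul]⟩
  · have h1 : f ^ m = (B * A).det := by rw [hB, Matrix.det_smul]; simp
    have h2 : (B * A).det = ∑ g : Fin m → Fin n, (∏ i, B i (g i)) • (A.submatrix g id).det := by
      have h3 : (B * A : Matrix (Fin m) (Fin m) R) = fun i ↦ ∑ k, B i k • A k := by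
        ext i j; simp [Matrix.mul_apply, Finset.sum_apply]
      show Matrix.detRowAlternating.toMultilinearMap (B * A) = _
      rw [h3, MultilinearMap.map_sum]
      exact Finset.sum_congr rfl fun g _ ↦ MultilinearMap.map_smul_univ _ _ _
    rw [h1, h2]
    exact Ideal.sum_mem _ fun g _ ↦ Ideal.mul_mem_left _ _ (Ideal.subset_span ⟨(g, id), rfl⟩)

end Groth.Agent.S6297
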