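import Groth.Statements.S10890
import Mathlib
import Groth.Agent.Lib.MinorRank.Basic
import Groth.Agent.S6297

set_option autoImplicit false
universe u
open CAlgX

namespace Groth.Agent.S10890

open Matrix


/-- (i) ⇔ (ii): let R be a local ring, A an n × m matrix over R regarded as a linear map R^m → R^n, and
1 ≤ r ≤ n. Then the image of A is a direct summand of R^n of rank r if and only if every (r+1) ×
(r+1) minor of A is zero and the r × r minors of A generate the unit ideal. (The printed statement
is over an arbitrary ring with 'direct summand of rank r'; its proof localises at once, and this row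
states the local case, where a direct summand of R^n is free and its rank is its finrank.) -/
theorem result (R : Type u) [CommRing R] [IsLocalRing R] (n m r : ℕ)
    (hr : 1 ≤ r) (hrn : r ≤ n) (A : Matrix (Fin n) (Fin m) R) :
    (∃ N' : Submodule R (Fin n → R), IsCompl (LinearMap.range (Matrix.mulVecLin A)) N' ∧
        Module.finrank R (LinearMap.range (Matrix.mulVecLin A)) = r) ↔
      (CAlgX.minorIdeal A (r + 1) = ⊥ ∧ CAlgX.minorIdeal A r = ⊤) := by
  constructor
  · rintro ⟨N', hN', hrank⟩
    set W := LinearMap.range A.mulVecLin with hW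
    haveI : Module.Projective R W := by
      refine Module.Projective.of_split W.subtype (W.projectionOnto N' hN') (LinearMap.ext fun x => ?_)
      exact Submodule.linearProjOfIsCompl_apply_left hN' x
    haveI : Module.Finite R W := Module.Finite.range _
    haveI : Module.Free R W := Module.free_of_flat_of_isLocalRing
    obtain b : Module.Basis (Fin r) R W := (Module.finBasisOfFinrankEq R W hrank)
    let X : Matrix (Fin n) (Fin r) R := LinearMap.toMatrix' (W.subtype ∘ₗ b.equivFun.symm.toLinearMap)
    let Y : Matrix (Fin r) (Fin m) R := LinearMap.toMatrix' (b.equivFun.toLinearMap ∘ₗ A.mulVecLin.rangeRestrict)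
    let L : Matrix (Fin r) (Fin n) R := LinearMap.toMatrix' (b.equivFun.toLinearMap ∘ₗ W.projectionOnto N' hN')
    have hXY : A = X * Y := by
      apply Matrix.toLin'.injective
      rw [Matrix.toLin'_mul, Matrix.toLin'_toMatrix', Matrix.toLin'_toMatrix']
      refine LinearMap.ext fun x => ?_
      simp only [LinearMap.comp_apply, LinearEquiv.coe_coe, LinearEquiv.symm_apply_apply]
      rfl
    have hLX : L * X = 1 := by
      rw [← LinearMap.toMatrix'_comp, ← LinearMap.toMatrix'_id]
      congr 1
      refine LinearMap.ext fun x => ?_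
      simp only [LinearMap.comp_apply, LinearEquiv.coe_coe, LinearMap.id_apply]
      rw [Submodule.subtype_apply,
        show W.projectionOnto N' hN' (b.equivFun.symm x : Fin n → R) = b.equivFun.symm x from
          Submodule.linearProjOfIsCompl_apply_left hN' _, LinearEquiv.apply_symm_apply]
    obtain ⟨σ, hσ⟩ := Module.projective_lifting_property
      (b.equivFun.toLinearMap ∘ₗ A.mulVecLin.rangeRestrict) LinearMap.id
      (b.equivFun.surjective.comp A.mulVecLin.surjective_rangeRestrict)
    have hYS : Y * LinearMap.toMatrix' σ = 1 := by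
      rw [← LinearMap.toMatrix'_comp, hσ, LinearMap.toMatrix'_id]
    have hrm : r ≤ m := le_of_fin_surjective R
      (b.equivFun.toLinearMap ∘ₗ A.mulVecLin.rangeRestrict)
      (b.equivFun.surjective.comp A.mulVecLin.surjective_rangeRestrict)
    obtain ⟨f, g₀, hX⟩ := GrothLib.BEExact.exists_isUnit_minor (A := X) (r := r)
      ((Ideal.eq_top_iff_one _).2 (by
        simpa using (Groth.Agent.S6297.result hrn X).2 1 L (by rw [hLX, one_smul])))
    obtain ⟨g, f₀, hY⟩ := GrothLib.BEExact.exists_isUnit_minor (A := Y.transpose) (r := r)
      ((Ideal.eq_top_iff_one _).2 (by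
        simpa using (Groth.Agent.S6297.result hrm Y.transpose).2 1 (LinearMap.toMatrix' σ).transpose
          (by rw [← Matrix.transpose_mul, hYS, Matrix.transpose_one, one_smul])))
    refine ⟨Ideal.span_eq_bot.2 ?_, ?_⟩
    · rintro _ ⟨⟨f, g⟩, rfl⟩
      dsimp only
      rw [hXY, show (X * Y).submatrix f g = X.submatrix f id * Y.submatrix id g from rfl]
      exact GrothLib.BEExact.det_mul_eq_zero_of_lt (Nat.lt_succ_self r) _ _
    · refine Ideal.eq_top_of_isUnit_mem _ (Ideal.subset_span ⟨(f, g), rfl⟩) ?_
      dsimp only
      rw [hXY, show (X * Y).submatrix f g = X.submatrix f id * Y.submatrix id g from rfl, Matrix.det_mul]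
      have hb : ∀ (M : Matrix (Fin r) (Fin r) R) (q : Fin r → Fin r),
          IsUnit (M.submatrix id q).det → IsUnit M.det := fun M q h => by
        rw [GrothLib.McCoy19.submatrix_eq_mul M id q, Matrix.det_mul] at h
        simpa using isUnit_of_mul_isUnit_left h
      refine IsUnit.mul (hb (X.submatrix f id) g₀ hX) ?_
      rw [← Matrix.det_transpose]
      exact hb (Y.submatrix id g).transpose f₀ hY
  · rintro ⟨hbot, htop⟩
    obtain ⟨f, g, h⟩ := GrothLib.BEExact.exists_isUnit_minor htop
    set M := A.submatrix f g with hM
    -- all entries are determined by the minor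
    have hfac : A = A.submatrix id g * M⁻¹ * A.submatrix f id :=
      GrothLib.MinorRank.eq_mul_of_minor A hbot h
    have hker : ∀ x, A.submatrix f id *ᵥ x = 0 → A *ᵥ x = 0 := fun x hx => by
      rw [hfac, ← Matrix.mulVec_mulVec, hx, Matrix.mulVec_zero]
    obtain ⟨s, hs⟩ := GrothLib.BEExact.exists_section A h hker
    refine ⟨LinearMap.range s, ⟨Submodule.disjoint_def.2 fun x hx ⟨y, hy⟩ => ?_,
      codisjoint_iff.2 (eq_top_iff.2 fun x _ => ?_)⟩, ?_⟩
    · have : y = 0 := by
        rw [← LinearMap.id_apply (R := R) y, ← hs, LinearMap.comp_apply, hy,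
          Submodule.mkQ_apply, (Submodule.Quotient.mk_eq_zero _).2 hx]
      rw [← hy, this, map_zero]
    · refine Submodule.mem_sup.2 ⟨x - s ((LinearMap.range A.mulVecLin).mkQ x), ?_,
        s ((LinearMap.range A.mulVecLin).mkQ x), LinearMap.mem_range_self _ _, sub_add_cancel _ _⟩
      rw [← Submodule.Quotient.mk_eq_zero, Submodule.Quotient.mk_sub, sub_eq_zero]
      exact (LinearMap.congr_fun hs _).symm
    · have hinj : Function.Injective (A.submatrix id g).mulVecLin := fun x y hxy => by
        refine Matrix.mulVec_injective_of_isUnit ((Matrix.isUnit_iff_isUnit_det M).2 h) ?_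
        exact funext fun a => congrFun hxy (f a)
      have hr : LinearMap.range A.mulVecLin = LinearMap.range (A.submatrix id g).mulVecLin := by
        refine le_antisymm ?_ ?_
        · conv_lhs => rw [hfac, Matrix.mul_assoc, Matrix.mulVecLin_mul]
          exact LinearMap.range_comp_le_range _ _
        · rw [show A.submatrix id g = A * (1 : Matrix (Fin m) (Fin m) R).submatrix id g by
            ext i j; simp [Matrix.mul_apply, Matrix.one_apply], Matrix.mulVecLin_mul]
          exact LinearMap.range_comp_le_range _ _
      rw [hr, LinearMap.finrank_range_of_inj hinj, Module.finrank_fin_fun]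

end Groth.Agent.S10890
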