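import Groth.Statements.S10891
import Mathlib


set_option autoImplicit false
universe u
open CAlg

namespace Groth.Agent.S10891

theorem monomial_mem {k : Type u} [Field k] (r a : ℕ) (hr : 0 < r) :
    ∀ i j : ℕ, r ∣ i + a * j → (MvPolynomial.X 0 ^ i * MvPolynomial.X 1 ^ j : MvPolynomial (Fin 2) k) ∈
      Algebra.adjoin k {q : MvPolynomial (Fin 2) k | ∃ i j : ℕ, i ≤ r ∧ j ≤ r ∧ ¬ (i = r ∧ j = r) ∧
        r ∣ i + a * j ∧ q = MvPolynomial.X 0 ^ i * MvPolynomial.X 1 ^ j} := by
  intro i j
  induction h : i + j using Nat.strong_induction_on generalizing i j with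
  | _ n ih =>
    intro hd
    by_cases hi : r < i ∨ (i = r ∧ 0 < j)
    · obtain ⟨i', rfl⟩ : ∃ i', i = r + i' := ⟨i - r, by omega⟩
      rw [pow_add, mul_assoc]
      refine Subalgebra.mul_mem _ (Algebra.subset_adjoin ⟨r, 0, le_rfl, by omega, by omega, by simp, by simp⟩)
        (ih (i' + j) (by omega) i' j rfl ?_)
      exact (Nat.dvd_add_iff_right (dvd_refl r)).2 (by rwa [← add_assoc])
    by_cases hj : r < j
    · obtain ⟨j', rfl⟩ : ∃ j', j = r + j' := ⟨j - r, by omega⟩
      rw [pow_add, mul_left_comm]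
      refine Subalgebra.mul_mem _ (Algebra.subset_adjoin ⟨0, r, by omega, le_rfl, by omega, by simp, by simp⟩)
        (ih (i + j') (by omega) i j' rfl ?_)
      exact (Nat.dvd_add_iff_right (dvd_mul_left r a)).2 (by rwa [mul_add, add_left_comm] at hd)
    exact Algebra.subset_adjoin ⟨i, j, by omega, by omega, by omega, hd, rfl⟩


/-- Let k be a field containing a primitive r-th root of unity ζ and 0 < a < r. The cyclic group of r-th
roots of unity acts on k[X, Y] through the generator X ↦ ζ⁻¹ X, Y ↦ ζ^(−a) Y, and the ring of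
invariants of this action is generated as a k-algebra by the monomials X^i Y^j with 0 ≤ i, j ≤ r,
(i, j) ≠ (r, r) and i + a·j ≡ 0 (mod r). (The printed statement writes n for the order of the group,
which the surrounding section calls r.) -/
theorem result (k : Type u) [Field k] (r a : ℕ) (ha : 0 < a) (har : a < r)
    (ζ : k) (hζ : IsPrimitiveRoot ζ r) (p : MvPolynomial (Fin 2) k) :
    MvPolynomial.aeval (fun i : Fin 2 => if i = 0 then MvPolynomial.C ζ⁻¹ * MvPolynomial.X 0
        else MvPolynomial.C (ζ⁻¹ ^ a) * (MvPolynomial.X 1 : MvPolynomial (Fin 2) k)) p = p ↔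
      p ∈ Algebra.adjoin k {q : MvPolynomial (Fin 2) k | ∃ i j : ℕ, i ≤ r ∧ j ≤ r ∧ ¬ (i = r ∧ j = r) ∧
        r ∣ i + a * j ∧ q = MvPolynomial.X 0 ^ i * MvPolynomial.X 1 ^ j} := by
  classical
  set σ : MvPolynomial (Fin 2) k →ₐ[k] MvPolynomial (Fin 2) k :=
    MvPolynomial.aeval (fun i : Fin 2 => if i = 0 then MvPolynomial.C ζ⁻¹ * MvPolynomial.X 0
    else MvPolynomial.C (ζ⁻¹ ^ a) * (MvPolynomial.X 1 : MvPolynomial (Fin 2) k)) with hσ
  have hmon : ∀ (e : Fin 2 →₀ ℕ) (c : k),
      σ (MvPolynomial.monomial e c) = MvPolynomial.monomial e (c * ζ⁻¹ ^ (e 0 + a * e 1)) := by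
    intro e c
    rw [hσ, MvPolynomial.aeval_monomial, MvPolynomial.monomial_eq,
      Finsupp.prod_fintype _ _ (by simp), Finsupp.prod_fintype _ _ (by simp), Fin.prod_univ_two,
      Fin.prod_univ_two, pow_add, pow_mul, map_mul, map_mul, map_pow, map_pow, map_pow,
      if_pos rfl, if_neg (by decide), MvPolynomial.algebraMap_eq]
    simp only [map_pow, ← pow_mul]
    ring
  have hcoeff : ∀ (q : MvPolynomial (Fin 2) k) (e : Fin 2 →₀ ℕ),
      (σ q).coeff e = q.coeff e * ζ⁻¹ ^ (e 0 + a * e 1) := by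
    intro q
    induction q using MvPolynomial.induction_on' with
    | monomial e' c =>
      intro e
      rw [hmon, MvPolynomial.coeff_monomial, MvPolynomial.coeff_monomial]
      split_ifs with h
      · rw [h]
      · rw [zero_mul]
    | add q₁ q₂ h₁ h₂ =>
      intro e
      rw [map_add, MvPolynomial.coeff_add, MvPolynomial.coeff_add, h₁, h₂, add_mul]
  constructor
  · intro hp
    rw [p.as_sum]
    refine Subalgebra.sum_mem _ fun e he => ?_
    have hr : r ∣ e 0 + a * e 1 := by
      have h := hcoeff p e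
      rw [hp] at h
      have h1 : ζ⁻¹ ^ (e 0 + a * e 1) = 1 :=
        (mul_left_cancel₀ (MvPolynomial.mem_support_iff.1 he) (by rw [mul_one]; exact h.symm))
      rw [inv_pow, inv_eq_one] at h1
      exact (hζ.pow_eq_one_iff_dvd _).1 h1
    rw [show MvPolynomial.monomial e (p.coeff e) = p.coeff e •
      (MvPolynomial.X 0 ^ e 0 * MvPolynomial.X 1 ^ e 1 : MvPolynomial (Fin 2) k) from by
        rw [MvPolynomial.smul_eq_C_mul, MvPolynomial.monomial_eq, Finsupp.prod_fintype _ _ (by simp),
          Fin.prod_univ_two]]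
    exact Subalgebra.smul_mem _ (monomial_mem r a (by omega) _ _ hr) _
  · intro hp
    induction hp using Algebra.adjoin_induction with
    | mem x hx =>
      obtain ⟨i, j, -, -, -, ⟨c, hc⟩, rfl⟩ := hx
      simp only [MvPolynomial.X_pow_eq_monomial, MvPolynomial.monomial_mul, one_mul]
      refine (hmon _ _).trans ?_
      rw [one_mul]
      have h2 : (Finsupp.single (0 : Fin 2) i + Finsupp.single 1 j : Fin 2 →₀ ℕ) 0 +
          a * (Finsupp.single (0 : Fin 2) i + Finsupp.single 1 j : Fin 2 →₀ ℕ) 1 = r * c := by simp [hc]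
      rw [h2, inv_pow, pow_mul, hζ.pow_eq_one, one_pow, inv_one]
    | algebraMap c => exact σ.commutes c
    | add x y _ _ hx hy => rw [map_add, hx, hy]
    | mul x y _ _ hx hy => rw [map_mul, hx, hy]

end Groth.Agent.S10891
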