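import Groth.Statements.S10893
import Groth.Agent.Lib.MeroCurve.Basic
import Mathlib.RingTheory.Ideal.AssociatedPrime.Finiteness

set_option autoImplicit false
universe u
open CategoryTheory AlgebraicGeometry
open Curves

namespace Groth.Agent.S10893

open GrothLib.Mero GrothLib.Mero.Zero

/-- Let C be an absolute curve (Noetherian, local rings at closed points one-dimensional) none of whose
points is open, and U ⊆ C an open dense subset. Then there is an effective divisor D on C with
support contained in U and meeting every irreducible component of C. -/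
theorem result {C : Scheme.{u}} [IsNoetherian C]
    (hC : ∀ x : C, IsClosed ({x} : Set C) → ringKrullDim (C.presheaf.stalk x) = 1)
    (hpt : ∀ x : C, ¬ IsOpen ({x} : Set C)) (U : C.Opens) (hU : Dense (U : Set C)) :
    ∃ D : Mero.Divisor C, Mero.IsEffective D ∧ Mero.supp D ⊆ (U : Set C) ∧
      ∀ Z ∈ irreducibleComponents (C : Type u), (Mero.supp D ∩ Z).Nonempty := by
  classical
  have hfinWA : {y : C | IsWA y}.Finite := by
    obtain ⟨t, ht⟩ := (CompactSpace.isCompact_univ (X := C)).elim_finite_subcover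
      (fun V : C.affineOpens => ((V.1 : C.Opens) : Set C)) (fun V => V.1.2) (fun x _ => by
        obtain ⟨_, ⟨V, hV, rfl⟩, hxV, -⟩ :=
          C.isBasis_affineOpens.exists_subset_of_mem_open (Set.mem_univ x) isOpen_univ
        exact Set.mem_iUnion.mpr ⟨⟨V, hV⟩, hxV⟩)
    refine (t.finite_toSet.biUnion fun V _ => locFiniteWA_of_noetherian (X := C) V).subset fun y hy => ?_
    obtain ⟨V, hV, hyV⟩ := Set.mem_iUnion₂.1 (ht (Set.mem_univ y))
    exact Set.mem_biUnion hV ⟨hy, hyV⟩
  let E : Set C := {y | IsWA y ∧ IsClosed ({y} : Set C)}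
  have hEc : IsClosed E := by
    rw [← Set.biUnion_of_singleton E]
    exact (hfinWA.subset fun y hy => hy.1).isClosed_biUnion fun y hy => hy.2
  have hcomp := TopologicalSpace.NoetherianSpace.finite_irreducibleComponents (α := C)
  have pick : ∀ Z ∈ irreducibleComponents (C : Type u),
      ∃ x ∈ Z, x ∈ U ∧ IsClosed ({x} : Set C) ∧ ∃ a : Mero.regStalk C x, ¬ IsUnit (a : C.presheaf.stalk x) := by
    intro Z hZ
    let O : Set C := ⋃₀ (irreducibleComponents (C : Type u) \ {Z})
    have hO : IsClosed O := by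
      simp only [O, Set.sUnion_eq_biUnion]
      exact (hcomp.subset Set.diff_subset).isClosed_biUnion fun W hW => isClosed_of_mem_irreducibleComponents W hW.1
    have honly : ∀ y, y ∉ O → ∀ W ∈ irreducibleComponents (C : Type u), y ∈ W → W = Z := fun y hy W hW hyW => by
      by_contra h
      exact hy ⟨W, ⟨hW, h⟩, hyW⟩
    obtain ⟨η, hη⟩ := QuasiSober.sober hZ.1 (isClosed_of_mem_irreducibleComponents Z hZ)
    have hZnot : ¬ Z ⊆ O := by
      intro hsub
      simp only [O, Set.sUnion_eq_biUnion] at hsub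
      have hηO := hsub (hη.def.subset (subset_closure (Set.mem_singleton η)))
      obtain ⟨W, hW, hηW⟩ := Set.mem_iUnion₂.1 hηO
      have hle : Z ⊆ W := hη.def ▸ (closure_minimal (Set.singleton_subset_iff.2 hηW)
        (isClosed_of_mem_irreducibleComponents W hW.1))
      exact hW.2 (subset_antisymm (hZ.2 hW.1.1 hle) hle)
    have hne : Oᶜ.Nonempty := ⟨η, fun h => hZnot (hη.def ▸ closure_minimal (Set.singleton_subset_iff.2 h) hO)⟩
    obtain ⟨z, hzO, hzU⟩ := hU.inter_open_nonempty Oᶜ hO.isOpen_compl hne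
    have hzZ : z ∈ Z := by
      obtain ⟨W, hW, hzW⟩ := Set.mem_sUnion.1
        ((sUnion_irreducibleComponents (X := C)).ge (Set.mem_univ z))
      exact honly z hzO W hW hzW ▸ hzW
    have hsp : η ⤳ z := hη.specializes hzZ
    have hη_nc : ¬ IsClosed ({η} : Set C) := by
      intro hc
      have h1 := hC η hc
      have h2 : ringKrullDim (C.presheaf.stalk η) = 0 := by
        rw [ringKrullDim_stalk_eq_coheight, ← WithBot.coe_zero, WithBot.coe_inj, Order.coheight_eq_zero]
        intro w hw
        have hw' : w ⤳ η := hw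
        have : closure ({w} : Set C) ⊆ Z := by
          have hle : Z ⊆ closure {w} := hη.def ▸ hw'.closure_subset
          exact hZ.2 isIrreducible_singleton.closure hle
        exact hη.specializes (this (subset_closure rfl))
      rw [h1] at h2
      exact one_ne_zero h2
    let V : C.Opens := ⟨(U : Set C) ∩ Oᶜ ∩ Eᶜ, (U.2.inter hO.isOpen_compl).inter hEc.isOpen_compl⟩
    have hηV : η ∈ V := ⟨⟨hsp.mem_open U.2 hzU, hsp.mem_open hO.isOpen_compl hzO⟩, fun h => hη_nc h.2⟩
    obtain ⟨x, hxV, hxc⟩ : ∃ x ∈ V, IsClosed ({x} : Set C) := by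
      by_contra hno
      push Not at hno
      refine hpt η ?_
      convert V.2
      refine Set.Subset.antisymm (Set.singleton_subset_iff.2 hηV) fun y hy => ?_
      obtain ⟨W, hW, hyW⟩ := Set.mem_sUnion.1
        ((sUnion_irreducibleComponents (X := C)).ge (Set.mem_univ y))
      obtain rfl := honly y hy.1.2 W hW hyW
      have hdim : ringKrullDim (C.presheaf.stalk y) = 0 := by
        haveI := GrothLib.MeroCurve.stalk_dim_zero hC (hno y hy)
        exact le_antisymm (Ring.krullDimLE_iff.1 inferInstance) ringKrullDim_nonneg_of_nontrivial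
      rw [ringKrullDim_stalk_eq_coheight, ← WithBot.coe_zero, WithBot.coe_inj, Order.coheight_eq_zero] at hdim
      have hηy : η ⤳ y := hη.specializes hyW
      exact (Specializes.antisymm (hdim (b := η) hηy) hηy).eq
    obtain ⟨W, hW, hxW⟩ := Set.mem_sUnion.1
      ((sUnion_irreducibleComponents (X := C)).ge (Set.mem_univ x))
    refine ⟨x, honly x hxV.1.2 W hW hxW ▸ hxW, hxV.1.1, hxc, ?_⟩
    have hnA : ¬ IsAssociatedPrime (IsLocalRing.maximalIdeal (C.presheaf.stalk x)) (C.presheaf.stalk x) :=
      fun h => hxV.2 ⟨(isWA_iff x).2 h, hxc⟩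
    have : ∃ a ∈ IsLocalRing.maximalIdeal (C.presheaf.stalk x), a ∈ nonZeroDivisors (C.presheaf.stalk x) := by
      by_contra hno
      push Not at hno
      have hsub : (IsLocalRing.maximalIdeal (C.presheaf.stalk x) : Set (C.presheaf.stalk x)) ⊆
          ⋃ p ∈ associatedPrimes (C.presheaf.stalk x) (C.presheaf.stalk x), (p : Set (C.presheaf.stalk x)) := by
        intro a ha
        rw [biUnion_associatedPrimes_eq_compl_nonZeroDivisors]
        exact hno a ha
      obtain ⟨t, ht⟩ := (associatedPrimes.finite (C.presheaf.stalk x) (C.presheaf.stalk x)).exists_finset_coe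
      rw [← ht] at hsub
      obtain ⟨p, hp, hle⟩ := (Ideal.subset_union_prime (s := t) (f := id) ⊥ ⊥ fun p hp _ _ =>
        IsAssociatedPrime.isPrime (ht.subset (Finset.mem_coe.2 hp))).1 hsub
      have hpa : IsAssociatedPrime p (C.presheaf.stalk x) := ht.subset (Finset.mem_coe.2 hp)
      exact hnA ((IsLocalRing.maximalIdeal.isMaximal _).eq_of_le hpa.isPrime.ne_top hle ▸ hpa)
    obtain ⟨a, ham, ha⟩ := this
    exact ⟨⟨a, (regStalk_eq locFiniteWA_of_noetherian x).ge ha⟩, ham⟩
  choose x hxZ hxU hxc a ha using pick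
  let S : Set C := Set.range fun Z : irreducibleComponents (C : Type u) => x Z.1 Z.2
  haveI : Finite (irreducibleComponents (C : Type u)) := hcomp.to_subtype
  have hcls : ∀ y ∈ S, ∃ b : Mero.regStalk C y, classOf b ≠ 1 := by
    rintro y ⟨Z, rfl⟩
    exact ⟨a Z.1 Z.2, fun h => ha Z.1 Z.2 ((GrothLib.MeroCurve.classOf_eq_one_iff _).1 h)⟩
  let g : ∀ y : C, Mero.Germ C y := fun y => if h : y ∈ S then classOf (hcls y h).choose else 1
  have hmem : g ∈ Mero.divisorGroup C := by
    refine GrothLib.MeroCurve.mem_divisorGroup_of_finite hC ((show S.Finite from Set.finite_range _).subset fun y hy => ?_) fun y hy => dif_neg ?_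
    · by_contra h
      exact hy (dif_neg h)
    · rintro ⟨Z, rfl⟩
      exact hy (hxc Z.1 Z.2)
  refine ⟨⟨g, hmem⟩, fun y => ?_, fun y hy => ?_, fun Z hZ => ⟨x Z hZ, ?_, hxZ Z hZ⟩⟩
  · by_cases h : y ∈ S
    · exact ⟨(hcls y h).choose, dif_pos h⟩
    · exact ⟨1, (dif_neg h).trans ((GrothLib.MeroCurve.classOf_eq_one_iff _).2 isUnit_one).symm⟩
  · obtain ⟨Z, rfl⟩ : y ∈ S := by_contra fun h => hy (dif_neg h)
    exact hxU Z.1 Z.2
  · have h : x Z hZ ∈ S := ⟨⟨Z, hZ⟩, rfl⟩
    show g (x Z hZ) ≠ 1
    rw [show g (x Z hZ) = classOf (hcls _ h).choose from dif_pos h]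
    exact (hcls _ h).choose_spec

end Groth.Agent.S10893
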