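import Groth.Statements.S10894
import Groth.Agent.Lib.MeroCurve.Basic

set_option autoImplicit false
universe u
open CategoryTheory AlgebraicGeometry
open Curves

namespace Groth.Agent.S10894

open GrothLib.Mero.Zero

/-- On an absolute curve C (Noetherian, local rings at closed points one-dimensional) every divisor D is
a difference of two effective divisors each supported inside the support of D (divisors are written
multiplicatively, so the difference is D₁ · D₂⁻¹). -/
theorem result {C : Scheme.{u}} [IsNoetherian C]
    (hC : ∀ x : C, IsClosed ({x} : Set C) → ringKrullDim (C.presheaf.stalk x) = 1) (D : Mero.Divisor C) :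
    ∃ D₁ D₂ : Mero.Divisor C, Mero.IsEffective D₁ ∧ Mero.IsEffective D₂ ∧ D = D₁ * D₂⁻¹ ∧
      Mero.supp D₁ ⊆ Mero.supp D ∧ Mero.supp D₂ ⊆ Mero.supp D := by
  classical
  choose a b hab using fun x => GrothLib.MeroCurve.exists_classOf (D.1 x)
  have hfin := GrothLib.MeroCurve.finite_supp hC D
  have key : ∀ c : ∀ x : C, Mero.regStalk C x,
      (fun x => if D.1 x = 1 then 1 else classOf (c x)) ∈ Mero.divisorGroup C := fun c =>
    GrothLib.MeroCurve.mem_divisorGroup_of_finite hC
      (hfin.subset fun x hx h => hx (by simp [h]))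
      fun x hx => if_pos (GrothLib.MeroCurve.divisor_eq_one_of_not_closed hC D hx)
  have heff : ∀ c : ∀ x : C, Mero.regStalk C x, Mero.IsEffective ⟨_, key c⟩ := fun c x => by
    by_cases h : D.1 x = 1
    · exact ⟨1, (if_pos h).trans ((GrothLib.MeroCurve.classOf_eq_one_iff _).2 isUnit_one).symm⟩
    · exact ⟨c x, if_neg h⟩
  refine ⟨⟨_, key a⟩, ⟨_, key b⟩, heff a, heff b, Subtype.ext (funext fun x => ?_), fun x hx h => hx (if_pos h),
    fun x hx h => hx (if_pos h)⟩
  show D.1 x = (if D.1 x = 1 then 1 else classOf (a x)) * (if D.1 x = 1 then 1 else classOf (b x))⁻¹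
  split_ifs with h
  · rw [h, inv_one]
    exact (one_mul (1 : Mero.Germ C x)).symm
  · exact hab x

end Groth.Agent.S10894
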