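import Groth.Statements.S10895
import Mathlib.AlgebraicGeometry.Morphisms.ClosedImmersion
import Mathlib.AlgebraicGeometry.Morphisms.FinitePresentation
import Mathlib.AlgebraicGeometry.Morphisms.Flat
import Mathlib.RingTheory.Flat.FaithfullyFlat.Algebra
-- import your own Groth.Agent.* helpers here

set_option autoImplicit false
universe u
open CategoryTheory AlgebraicGeometry
open FlatMor CategoryTheory AlgebraicGeometry

namespace Groth.Agent.S10895

/-- A closed immersion of finite presentation which is flat at a point x is an isomorphism over some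
open neighbourhood of the image of x. -/
theorem result {X Y : Scheme.{u}} (f : X ⟶ Y) [IsClosedImmersion f]
    [LocallyOfFinitePresentation f] (x : X) (hflat : (f.stalkMap x).hom.Flat) :
    ∃ V : Y.Opens, f.base x ∈ V ∧ IsIso (f ∣_ V) := by
  obtain ⟨V, hV, hxV, -⟩ := exists_isAffineOpen_mem_and_subset (x := f x) (U := (⊤ : Y.Opens)) trivial
  have hU : IsAffineOpen (f ⁻¹ᵁ V) := hV.preimage f
  have hφs : Function.Surjective (f.app V) := f.app_surjective V hV
  have hfp : (f.app V).hom.FinitePresentation := by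
    simpa [f.app_eq_appLE] using f.finitePresentation_appLE hV hU le_rfl
  have hI : (RingHom.ker (f.app V).hom).FG := by
    letI := (f.app V).hom.toAlgebra
    haveI : Algebra.FinitePresentation Γ(Y, V) Γ(X, f ⁻¹ᵁ V) := hfp
    exact Algebra.FinitePresentation.ker_fG_of_surjective (Algebra.ofId Γ(Y, V) Γ(X, f ⁻¹ᵁ V)) hφs
  have hinj : Function.Injective (f.stalkMap x) := by
    letI := (f.stalkMap x).hom.toAlgebra
    haveI : Module.Flat (Y.presheaf.stalk (f x)) (X.presheaf.stalk x) := hflat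
    haveI : IsLocalHom (algebraMap (Y.presheaf.stalk (f x)) (X.presheaf.stalk x)) := inferInstanceAs (IsLocalHom (f.stalkMap x).hom)
    haveI : Module.FaithfullyFlat (Y.presheaf.stalk (f x)) (X.presheaf.stalk x) := Module.FaithfullyFlat.of_flat_of_isLocalHom
    exact FaithfulSMul.algebraMap_injective (Y.presheaf.stalk (f x)) (X.presheaf.stalk x)
  letI := TopCat.Presheaf.algebra_section_stalk Y.presheaf (⟨f x, hxV⟩ : V)
  haveI := hV.isLocalization_stalk ⟨f x, hxV⟩
  have key : ∀ a ∈ RingHom.ker (f.app V).hom, ∃ c, c ∈ (hV.primeIdealOf ⟨f x, hxV⟩).asIdeal.primeCompl ∧ c * a = 0 := by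
    intro a ha
    have h0 : Y.presheaf.germ V (f x) hxV a = 0 := hinj (by
      rw [map_zero, Scheme.Hom.germ_stalkMap_apply, show f.app V a = 0 from ha, map_zero])
    obtain ⟨⟨c, hc⟩, hca⟩ := (IsLocalization.map_eq_zero_iff (hV.primeIdealOf ⟨f x, hxV⟩).asIdeal.primeCompl (Y.presheaf.stalk (f x)) a).1 h0
    exact ⟨c, hc, hca⟩
  classical
  obtain ⟨G, hG⟩ := hI
  have key2 : ∀ a : {a // a ∈ G}, ∃ c, c ∈ (hV.primeIdealOf ⟨f x, hxV⟩).asIdeal.primeCompl ∧ c * a.1 = 0 := fun a =>
    key a.1 (hG ▸ Ideal.subset_span a.2)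
  choose c hc hca using key2
  obtain ⟨s, hsdef⟩ : ∃ s, s = ∏ a ∈ G.attach, c a := ⟨_, rfl⟩
  have hs : s ∈ (hV.primeIdealOf ⟨f x, hxV⟩).asIdeal.primeCompl := hsdef ▸ Submonoid.prod_mem _ fun a _ => hc a
  have hkill : ∀ a ∈ RingHom.ker (f.app V).hom, s * a = 0 := by
    intro a ha
    rw [← hG] at ha
    refine Submodule.span_induction (p := fun a _ => s * a = 0) (fun b hb => ?_) (mul_zero _)
      (fun a b _ _ ha hb => by rw [mul_add, ha, hb, add_zero]) (fun r a _ ha => by rw [smul_eq_mul, mul_left_comm, ha, mul_zero]) ha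
    obtain ⟨t, ht⟩ := Finset.dvd_prod_of_mem c (Finset.mem_attach G ⟨b, hb⟩)
    rw [hsdef, ht, mul_right_comm, hca ⟨b, hb⟩, zero_mul]
  refine ⟨Y.basicOpen s, (Y.mem_basicOpen s (f x) hxV).2 (IsLocalization.map_units (Y.presheaf.stalk (f x)) ⟨s, hs⟩), ?_⟩
  haveI : IsAffine (Y.basicOpen s) := hV.basicOpen s
  haveI : IsClosedImmersion (f ∣_ Y.basicOpen s) := IsZariskiLocalAtTarget.restrict (P := @IsClosedImmersion) (f := f) inferInstance _
  have hW : Function.Injective (f.app (Y.basicOpen s)) := by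
    letI := hV.isLocalization_basicOpen s
    letI := hU.isLocalization_basicOpen (f.app V s)
    rw [injective_iff_map_eq_zero]
    intro z hz
    rw [hV.app_basicOpen_eq_away_map f hU s] at hz
    simp only [CommRingCat.comp_apply, CommRingCat.ofHom_apply] at hz
    replace hz : IsLocalization.Away.map Γ(Y, Y.basicOpen s) Γ(X, X.basicOpen (f.app V s)) (f.app V).hom s z = 0 :=
      (ConcreteCategory.bijective_of_isIso _).1 (hz.trans (map_zero _).symm)
    obtain ⟨a, ⟨_, n, rfl⟩, rfl⟩ := IsLocalization.exists_mk'_eq (Submonoid.powers s) z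
    rw [IsLocalization.Away.map, IsLocalization.map_mk', IsLocalization.mk'_eq_zero_iff] at hz
    obtain ⟨⟨_, m, rfl⟩, hm⟩ := hz
    rw [IsLocalization.mk'_eq_zero_iff]
    refine ⟨⟨s ^ (m + 1), m + 1, rfl⟩, ?_⟩
    show s ^ (m + 1) * a = 0
    rw [pow_succ', mul_assoc]
    refine hkill _ ?_
    rw [RingHom.mem_ker, map_mul, map_pow]
    exact hm
  refine IsClosedImmersion.isIso_of_injective_of_isAffine ?_
  rw [morphismRestrict_appTop]
  have e : (Y.basicOpen s).ι ''ᵁ ⊤ = Y.basicOpen s := (Y.basicOpen s).ι_image_top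
  have hW' : ∀ W, W = Y.basicOpen s → Function.Injective (f.app W) := by rintro _ rfl; exact hW
  exact fun a b hab => hW' _ e ((ConcreteCategory.bijective_of_isIso (X.presheaf.map (eqToHom (image_morphismRestrict_preimage f (Y.basicOpen s) ⊤)).op)).1 hab)

end Groth.Agent.S10895
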