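import Groth.Statements.S10897
import Groth.Agent.Lib.CubicForm.Involution

set_option autoImplicit false
universe u
open Cubic

namespace Groth.Agent.S10897

/-- Over an algebraically closed field of characteristic zero, through a point s of a smooth cubic
surface S = V_+(f) ⊂ P^3 there pass at most three lines contained in S, and these lines are
coplanar. With s given by a nonzero vector v with f(v) = 0, the lines through s on S are the
2-dimensional subspaces of k^4 containing v on which f vanishes; there are at most three of them and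
one 3-dimensional subspace contains them all. -/
theorem result (k : Type u) [Field k] [IsAlgClosed k] [CharZero k]
    (f : MvPolynomial (Fin 4) k) (hf : f.IsHomogeneous 3) (hf0 : f ≠ 0)
    (hsm : ∀ v : Fin 4 → k, v ≠ 0 → MvPolynomial.eval v f = 0 →
      ∃ i : Fin 4, MvPolynomial.eval v (MvPolynomial.pderiv i f) ≠ 0)
    (v : Fin 4 → k) (hv : v ≠ 0) (hfv : MvPolynomial.eval v f = 0) :
    {U : Submodule k (Fin 4 → k) | v ∈ U ∧ (Module.finrank k ↥U = 2 ∧ ∀ u ∈ U, MvPolynomial.eval u f = 0)}.Finite ∧
      {U : Submodule k (Fin 4 → k) | v ∈ U ∧ (Module.finrank k ↥U = 2 ∧ ∀ u ∈ U, MvPolynomial.eval u f = 0)}.ncard ≤ 3 ∧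
      ∃ H : Submodule k (Fin 4 → k), Module.finrank k ↥H = 3 ∧
        ∀ U : Submodule k (Fin 4 → k), v ∈ U → (Module.finrank k ↥U = 2 ∧ ∀ u ∈ U, MvPolynomial.eval u f = 0) → U ≤ H := by
  set T := GrothLib.CubicForm.ofPoly f with hTdef
  have hT : T.Smooth := GrothLib.CubicForm.ofPoly_smooth hf hsm
  have hl : ∀ U : Submodule k (Fin 4 → k), (∀ u ∈ U, MvPolynomial.eval u f = 0) →
      ∀ u ∈ U, T.cube u = 0 := fun U => (GrothLib.CubicForm.ofPoly_line_iff hf U).2
  set S := {U : Submodule k (Fin 4 → k) | v ∈ U ∧ (Module.finrank k ↥U = 2 ∧ ∀ u ∈ U, MvPolynomial.eval u f = 0)}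
  have hcard : S.encard ≤ 3 := by
    by_contra hlt
    obtain ⟨R, hRS, hR⟩ := Set.exists_subset_encard_eq
      (show (4 : ℕ∞) ≤ S.encard from Order.add_one_le_of_lt (not_le.1 hlt))
    have hfin : R.Finite := Set.finite_of_encard_eq_coe hR
    haveI := hfin.fintype
    have h4 : Fintype.card R = 4 := by
      have := Set.encard_eq_coe_toFinset_card R
      rw [hR, Set.toFinset_card] at this
      exact_mod_cast this.symm
    let g := (Fintype.equivFinOfCardEq h4).symm
    refine T.not_four_lines GrothLib.CubicForm.finrank_four hT hv (fun i => (g i).1)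
      (Subtype.val_injective.comp g.injective) fun i => ?_
    exact ⟨(hRS (g i).2).2.1, (hRS (g i).2).1, hl _ (hRS (g i).2).2.2⟩
  refine ⟨Set.finite_of_encard_le_coe hcard, ?_, LinearMap.ker (T.lin v v),
    T.finrank_ker_grad GrothLib.CubicForm.finrank_four hT hv,
    fun U hU h => T.line_le_ker_grad hU (hl U h.2)⟩
  exact ENat.toNat_le_of_le_coe hcard

end Groth.Agent.S10897
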