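import Groth.Statements.S10898
import Mathlib.RingTheory.Ideal.KrullsHeightTheorem
import Mathlib.RingTheory.Polynomial.Basic

set_option autoImplicit false
universe u
open Polynomial
open WDiv

namespace Groth.Agent.S10898

open Polynomial

/-- Let A be a Noetherian integral domain and P a prime ideal of height 1 of the polynomial ring A[X].
Then either P meets A in 0 only, or its contraction p = P ∩ A is a prime of height 1 of A and P is
the extension p·A[X]. (The published lemma also assumes A regular in codimension 1; that hypothesis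
is not used for this assertion.) -/
theorem result (A : Type u) [CommRing A] [IsDomain A]
    [IsNoetherianRing A] (P : Ideal A[X]) [P.IsPrime] (hP : P.height = 1) :
    P.comap (C : A →+* A[X]) = ⊥ ∨
      ((P.comap (C : A →+* A[X])).height = 1 ∧ P = (P.comap (C : A →+* A[X])).map C) := by
  classical
  let p := P.comap (C : A →+* A[X])
  by_cases hp : p = ⊥
  · exact Or.inl hp
  right
  have hlt : ∀ Q : Ideal A[X], Q.IsPrime → Q < P → Q = ⊥ := fun Q hQ hQP => by
    have h1 := Ideal.height_strict_mono_of_isPrime hQP
    rwa [hP, Order.lt_one_iff, Ideal.height_eq_zero_iff_eq_bot] at h1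
  have : p.IsPrime := Ideal.comap_isPrime _ _
  have hmapP : p.map (C : A →+* A[X]) = P := by
    by_contra hne
    have := hlt _ (Ideal.isPrime_map_C_of_isPrime) (lt_of_le_of_ne (Ideal.map_comap_le) hne)
    exact hp ((Ideal.map_eq_bot_iff_of_injective C_injective).mp this)
  refine ⟨le_antisymm ?_ (Order.one_le_iff_ne_zero.mpr fun h => hp (Ideal.height_eq_zero_iff_eq_bot.mp h)), hmapP.symm⟩
  refine Ideal.height_le_iff.mpr fun q hq hqp => ?_
  have hlt' : q.map (C : A →+* A[X]) < P := by
    rw [← hmapP]
    refine lt_of_le_of_ne (Ideal.map_mono hqp.le) fun e => hqp.ne (Ideal.ext fun a => ?_)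
    have h2 := congrArg (fun I : Ideal A[X] => C a ∈ I) e
    simpa [Ideal.mem_map_C_iff, coeff_C, apply_ite, p] using h2
  have hq0 := (Ideal.map_eq_bot_iff_of_injective C_injective).mp (hlt _ (Ideal.isPrime_map_C_of_isPrime) hlt')
  rw [Ideal.height_eq_zero_iff_eq_bot.mpr hq0]
  exact zero_lt_one

end Groth.Agent.S10898
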