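import Groth.Statements.S10899
import Mathlib.RingTheory.Ideal.KrullsHeightTheorem
import Mathlib.RingTheory.DiscreteValuationRing.TFAE
import Mathlib.RingTheory.Polynomial.Basic

set_option autoImplicit false
universe u
open Polynomial
open WDiv

namespace Groth.Agent.S10899

open Polynomial

/-- A local Noetherian domain, localized at a nonzero prime, with principal maximal ideal is a DVR. -/
theorem dvr_of_exists {B : Type u} [CommRing B] [IsDomain B] [IsNoetherianRing B] (P : Ideal B) [P.IsPrime]
    (hP : P ≠ ⊥) (π : B) (hπ : π ∈ P) (h : ∀ g ∈ P, ∃ s ∉ P, s * g ∈ Ideal.span {π}) :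
    IsDiscreteValuationRing (Localization.AtPrime P) := by
  let L := Localization.AtPrime P
  have hnf : ¬ IsField L := fun hf => hP (by
    have h1 := (IsLocalRing.isField_iff_maximalIdeal_eq.mp hf)
    rw [← Localization.AtPrime.map_eq_maximalIdeal,
      Ideal.map_eq_bot_iff_of_injective (IsLocalization.injective L P.primeCompl_le_nonZeroDivisors)] at h1
    exact h1)
  refine ((IsDiscreteValuationRing.TFAE L hnf).out 0 4 (a := IsDiscreteValuationRing L)
    (b := (IsLocalRing.maximalIdeal L).IsPrincipal) rfl rfl).mpr ⟨⟨algebraMap B L π, ?_⟩⟩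
  rw [← Localization.AtPrime.map_eq_maximalIdeal, Ideal.submodule_span_eq, ← Set.image_singleton, ← Ideal.map_span]
  refine le_antisymm (Ideal.map_le_iff_le_comap.mpr fun g hg => ?_)
    (Ideal.map_mono ((Ideal.span_singleton_le_iff_mem _).mpr hπ))
  rw [Ideal.mem_comap, IsLocalization.algebraMap_mem_map_algebraMap_iff P.primeCompl]
  obtain ⟨s, hs, hsg⟩ := h g hg
  exact ⟨s, hs, hsg⟩

/-- Let A be a Noetherian integral domain which is regular in codimension 1, i.e. whose localization at
every prime ideal of height 1 is a discrete valuation ring. Then the polynomial ring A[X] is regular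
in codimension 1 as well: its localization at every prime ideal of height 1 is a discrete valuation
ring. -/
theorem result (A : Type u) [CommRing A]
    [IsDomain A] [IsNoetherianRing A]
    (hR1 : ∀ (p : Ideal A) [p.IsPrime], p.height = 1 → IsDiscreteValuationRing (Localization.AtPrime p))
    (P : Ideal A[X]) [P.IsPrime] (hP : P.height = 1) :
    IsDiscreteValuationRing (Localization.AtPrime P) := by
  classical
  have hP0 : P ≠ ⊥ := fun h => by subst h; simp at hP
  let p := P.comap (C : A →+* A[X])
  have hlt : ∀ Q : Ideal A[X], Q.IsPrime → Q < P → Q = ⊥ := fun Q hQ hQP => by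
    have h1 := Ideal.height_strict_mono_of_isPrime hQP
    rwa [hP, Order.lt_one_iff, Ideal.height_eq_zero_iff_eq_bot] at h1
  by_cases hp : p = ⊥
  · obtain ⟨g, ⟨hgP, hg0⟩, hmin⟩ := (InvImage.wf Polynomial.natDegree Nat.lt_wfRel.wf).has_min
      {g | g ∈ P ∧ g ≠ 0} (Submodule.exists_mem_ne_zero_of_ne_bot hP0)
    refine dvr_of_exists P hP0 g hgP fun f hf => ?_
    have hlc : C g.leadingCoeff ∉ P := fun h => hg0 (leadingCoeff_eq_zero.mp
      (show g.leadingCoeff = 0 by simpa [hp] using (show g.leadingCoeff ∈ p from h)))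
    induction hd : f.natDegree using Nat.strong_induction_on generalizing f with
    | _ d ih =>
      subst hd
      by_cases hf0 : f = 0
      · exact ⟨1, fun h => hlc (by rw [← mul_one (C g.leadingCoeff)]; exact P.mul_mem_left _ h), by simp [hf0]⟩
      have hle : g.natDegree ≤ f.natDegree := not_lt.mp fun h => hmin f ⟨hf, hf0⟩ h
      let f' := C g.leadingCoeff * f - C f.leadingCoeff * X ^ (f.natDegree - g.natDegree) * g
      have hf' : f' ∈ P := sub_mem (P.mul_mem_left _ hf) (P.mul_mem_left _ hgP)
      have hdeg : f' = 0 ∨ f'.natDegree < f.natDegree := by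
        refine or_iff_not_imp_left.mpr fun hne => ?_
        refine lt_of_le_of_ne ?_ fun e => hne ?_
        · refine (natDegree_sub_le _ _).trans (max_le (natDegree_C_mul_le _ _) ?_)
          refine natDegree_mul_le.trans ?_
          have := natDegree_C_mul_X_pow_le f.leadingCoeff (f.natDegree - g.natDegree)
          omega
        · rw [← leadingCoeff_eq_zero, leadingCoeff, e, coeff_sub, coeff_C_mul, mul_assoc, coeff_C_mul,
            coeff_X_pow_mul', if_pos (Nat.sub_le _ _), Nat.sub_sub_self hle]
          simp only [leadingCoeff]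
          ring
      obtain ⟨s, hs, hsf⟩ : ∃ s ∉ P, s * f' ∈ Ideal.span {g} := by
        rcases hdeg with h | h
        · exact ⟨C g.leadingCoeff, hlc, by simp [h]⟩
        · exact ih _ h f' hf' rfl
      refine ⟨s * C g.leadingCoeff, ‹P.IsPrime›.mul_notMem hs hlc, ?_⟩
      rw [show s * C g.leadingCoeff * f = s * f' + s * (C f.leadingCoeff * X ^ (f.natDegree - g.natDegree)) * g from by
        simp only [f']; ring]
      exact add_mem hsf (Ideal.mem_span_singleton.mpr (dvd_mul_left _ _))
  · have : p.IsPrime := Ideal.comap_isPrime _ _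
    have hmapP : p.map (C : A →+* A[X]) = P := by
      by_contra hne
      have := hlt _ (Ideal.isPrime_map_C_of_isPrime) (lt_of_le_of_ne (Ideal.map_comap_le) hne)
      exact hp ((Ideal.map_eq_bot_iff_of_injective C_injective).mp this)
    have hp1 : p.height = 1 := by
      refine le_antisymm ?_ (Order.one_le_iff_ne_zero.mpr fun h => hp (Ideal.height_eq_zero_iff_eq_bot.mp h))
      refine Ideal.height_le_iff.mpr fun q hq hqp => ?_
      have hlt' : q.map (C : A →+* A[X]) < P := by
        rw [← hmapP]
        refine lt_of_le_of_ne (Ideal.map_mono hqp.le) fun e => hqp.ne (Ideal.ext fun a => ?_)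
        have h2 := congrArg (fun I : Ideal A[X] => C a ∈ I) e
        simpa [Ideal.mem_map_C_iff, coeff_C, apply_ite] using h2
      have hq0 := (Ideal.map_eq_bot_iff_of_injective C_injective).mp (hlt _ (Ideal.isPrime_map_C_of_isPrime) hlt')
      rw [Ideal.height_eq_zero_iff_eq_bot.mpr hq0]
      exact zero_lt_one
    have := hR1 p hp1
    obtain ⟨ϖ, hϖ⟩ := IsDiscreteValuationRing.exists_irreducible (Localization.AtPrime p)
    obtain ⟨⟨π, b⟩, hπb⟩ := IsLocalization.surj p.primeCompl ϖ
    simp only at hπb
    have hmax : IsLocalRing.maximalIdeal (Localization.AtPrime p) =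
        Ideal.span {algebraMap A (Localization.AtPrime p) π} := by
      rw [hϖ.maximalIdeal_eq, ← hπb, Ideal.span_singleton_mul_right_unit (IsLocalization.map_units _ b)]
    have hπp : π ∈ p := (IsLocalization.AtPrime.to_map_mem_maximal_iff (Localization.AtPrime p) p π).mp
      (hmax ▸ Ideal.mem_span_singleton_self _)
    refine dvr_of_exists P hP0 (C π) (hmapP ▸ Ideal.mem_map_of_mem _ hπp) fun f hf => ?_
    rw [← hmapP] at hf
    rw [Ideal.map] at hf
    induction hf using Submodule.span_induction with
    | mem f hf =>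
      obtain ⟨a, ha, rfl⟩ := hf
      have := (IsLocalization.AtPrime.to_map_mem_maximal_iff (Localization.AtPrime p) p a).mpr ha
      rw [hmax, ← Set.image_singleton, ← Ideal.map_span,
        IsLocalization.algebraMap_mem_map_algebraMap_iff p.primeCompl] at this
      obtain ⟨s, hs, hsa⟩ := this
      refine ⟨C s, hs, ?_⟩
      rw [← map_mul, Ideal.mem_span_singleton]
      exact map_dvd C (Ideal.mem_span_singleton.mp hsa)
    | zero => exact ⟨1, fun h => ‹P.IsPrime›.one_notMem h, by simp⟩
    | add f f' _ _ h h' =>
      obtain ⟨s, hs, h⟩ := h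
      obtain ⟨s', hs', h'⟩ := h'
      refine ⟨s * s', ‹P.IsPrime›.mul_notMem hs hs', ?_⟩
      rw [show s * s' * (f + f') = s' * (s * f) + s * (s' * f') from by ring]
      exact add_mem (Ideal.mul_mem_left _ _ h) (Ideal.mul_mem_left _ _ h')
    | smul c f _ h =>
      obtain ⟨s, hs, h⟩ := h
      exact ⟨s, hs, by rw [smul_eq_mul, mul_left_comm]; exact Ideal.mul_mem_left _ _ h⟩

end Groth.Agent.S10899
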