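import Groth.Statements.S10900
import Groth.Agent.Lib.WDivAff.Main
-- import your own Groth.Agent.* helpers here

set_option autoImplicit false
universe u
open CategoryTheory CategoryTheory.Limits AlgebraicGeometry TopologicalSpace
open WDiv

namespace Groth.Agent.S10900

/-- Let X be an integral Noetherian separated scheme which is regular in codimension 1 (the local ring
at every point of codimension 1, i.e. of coheight 1 in the specialization order, is a discrete
valuation ring), and let p : A^m_X → X be the affine m-space over X. Pulling back Weil divisors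
along p (a divisor D, viewed as an integer-valued function on the codimension-1 points of X with
finite support, goes to y ↦ D(p(y)) on the codimension-1 points of A^m_X) induces an injective map
on divisor class groups: if the pulled-back divisor is the divisor of a nonzero rational function on
A^m_X, then D is the divisor of a nonzero rational function on X. -/
theorem result (m : ℕ) (X : Scheme.{u}) [IsIntegral X]
    [IsNoetherian X] [X.IsSeparated] [IsLocallyNoetherian 𝔸(ULift.{u} (Fin m); X)]
    (hR1 : ∀ x : ↥X, Order.coheight x = 1 → IsDiscreteValuationRing ↑(X.presheaf.stalk x))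
    (D : ↥X → ℤ) (hD : ∀ x, Order.coheight x ≠ 1 → D x = 0) (hfin : {x | D x ≠ 0}.Finite)
    (g : ↑(𝔸(ULift.{u} (Fin m); X)).functionField) (hg : g ≠ 0)
    (h : ∀ y : ↥(𝔸(ULift.{u} (Fin m); X)), Order.coheight y = 1 →
      Scheme.ord g y = D ((𝔸(ULift.{u} (Fin m); X) ↘ X) y)) :
    ∃ f : ↑X.functionField, f ≠ 0 ∧ ∀ x : ↥X, Order.coheight x = 1 → Scheme.ord f x = D x := by
  haveI : IsLocallyNoetherian X := inferInstance
  haveI := GrothLib.PicAff26.isIntegral_affineSpace (ULift.{u} (Fin m)) (Y := X)
  obtain ⟨f, hf, hfg⟩ := GrothLib.WDivAff.exists_of_horiz_zero hg fun y hy hgen => by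
    rw [h y hy, hgen]
    exact hD _ (by rw [GrothLib.WDivAff.coheight_genericPoint]; exact zero_ne_one)
  refine ⟨f, hf, fun x hx => ?_⟩
  obtain ⟨y, hy1, rfl⟩ := GrothLib.WDivAff.exists_vert hR1 (n := ULift.{u} (Fin m)) hx
  rw [← GrothLib.WDivAff.ord_phi_vert hR1 hy1 (fun e => by
      rw [e, GrothLib.WDivAff.coheight_genericPoint] at hx
      exact zero_ne_one hx) f, hfg]
  exact h y hy1

end Groth.Agent.S10900
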