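import Groth.Statements.S10902
import Groth.Agent.Lib.Dim.Ring
import Mathlib.RingTheory.Unramified.Field
import Mathlib.RingTheory.LocalRing.Module
import Mathlib.RingTheory.AlgebraicIndependent.AlgebraicClosure
import Mathlib.RingTheory.EssentialFiniteness
import Mathlib.RingTheory.Kaehler.Basic
import Mathlib.RingTheory.Support

set_option autoImplicit false
universe u
open TensorProduct
open SmVar

namespace Groth.Agent.S10902

open TensorProduct

theorem exists_spanning_D (k : Type u) [Field k] (A : Type u) [CommRing A] [Algebra k A]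
    [Algebra.FiniteType k A] (P : Ideal A) [P.IsPrime] :
    ∃ S : Finset A, S.card ≤ Module.finrank P.ResidueField (P.ResidueField ⊗[A] (Ω[A⁄k])) ∧
      ∀ a : A, ∃ s ∉ P, s • KaehlerDifferential.D k A a ∈
        Submodule.span A ((KaehlerDifferential.D k A) '' (S : Set A)) := by
  classical
  let j : A → P.ResidueField ⊗[A] (Ω[A⁄k]) := fun a => 1 ⊗ₜ[A] KaehlerDifferential.D k A a
  have hj : ∀ w : Ω[A⁄k], (1 : P.ResidueField) ⊗ₜ[A] w ∈ Submodule.span P.ResidueField (Set.range j) := by
    intro w
    have hw : w ∈ Submodule.span A (Set.range (KaehlerDifferential.D k A)) :=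
      KaehlerDifferential.span_range_derivation k A ▸ Submodule.mem_top
    induction hw using Submodule.span_induction with
    | mem x hx => obtain ⟨a, rfl⟩ := hx; exact Submodule.subset_span ⟨a, rfl⟩
    | zero => rw [tmul_zero]; exact Submodule.zero_mem _
    | add x y _ _ hx hy => rw [tmul_add]; exact Submodule.add_mem _ hx hy
    | smul a x _ hx =>
      rw [tmul_smul, ← algebraMap_smul P.ResidueField a]
      exact Submodule.smul_mem _ _ hx
  have htop : Submodule.span P.ResidueField (Set.range j) = ⊤ := eq_top_iff.mpr fun x _ => by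
    induction x using TensorProduct.induction_on with
    | zero => exact Submodule.zero_mem _
    | tmul c w =>
      rw [show c ⊗ₜ[A] w = c • ((1 : P.ResidueField) ⊗ₜ[A] w) by rw [TensorProduct.smul_tmul', smul_eq_mul, mul_one]]
      exact Submodule.smul_mem _ _ (hj w)
    | add x y hx hy => exact Submodule.add_mem _ (hx trivial) (hy trivial)
  obtain ⟨b, hb, hspan, hli⟩ := exists_linearIndependent P.ResidueField (Set.range j)
  haveI : Fintype b := (hli.setFinite).fintype
  choose g hg using fun v : b => hb v.2
  refine ⟨Finset.univ.image g, (Finset.card_image_le).trans ?_, fun a => ?_⟩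
  · rw [Finset.card_univ]
    exact hli.fintype_card_le_finrank
  let N : Submodule A (Ω[A⁄k]) := Submodule.span A ((KaehlerDifferential.D k A) '' (Finset.univ.image g : Set A))
  haveI : Module.Finite A ((Ω[A⁄k]) ⧸ N) := Module.Finite.quotient A N
  have hsub : Subsingleton (P.ResidueField ⊗[A] ((Ω[A⁄k]) ⧸ N)) := by
    refine subsingleton_of_forall_eq 0 fun x => ?_
    obtain ⟨y, rfl⟩ := LinearMap.lTensor_surjective P.ResidueField N.mkQ_surjective x
    have hy : y ∈ Submodule.span P.ResidueField b := by rw [hspan, htop]; trivial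
    let f := TensorProduct.AlgebraTensorModule.lTensor P.ResidueField P.ResidueField N.mkQ
    change f y = 0
    rw [← LinearMap.mem_ker]
    refine Submodule.span_le.mpr (fun v hv => ?_) hy
    rw [SetLike.mem_coe, LinearMap.mem_ker, show v = j (g ⟨v, hv⟩) from (hg ⟨v, hv⟩).symm]
    change f ((1 : P.ResidueField) ⊗ₜ[A] KaehlerDifferential.D k A (g ⟨v, hv⟩)) = 0
    rw [TensorProduct.AlgebraTensorModule.lTensor_tmul, Submodule.mkQ_apply,
      (Submodule.Quotient.mk_eq_zero N).mpr (Submodule.subset_span ⟨g ⟨v, hv⟩, by simp, rfl⟩), tmul_zero]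
  have hP : (⟨P, inferInstance⟩ : PrimeSpectrum A) ∉ Module.support A ((Ω[A⁄k]) ⧸ N) := fun h => by
    have := (Module.mem_support_iff_nontrivial_residueField_tensorProduct _).mp h
    exact not_subsingleton _ hsub
  obtain ⟨s, hs, hs'⟩ := Module.notMem_support_iff'.mp hP (Submodule.Quotient.mk (KaehlerDifferential.D k A a))
  exact ⟨s, hs, by rwa [← Submodule.Quotient.mk_smul, Submodule.Quotient.mk_eq_zero] at hs'⟩

theorem trdeg_le_of_vanishing (k : Type u) [Field k] (L : Type u) [Field L] [Algebra k L]
    [Algebra.EssFiniteType k L] (S : Set L)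
    (h : ∀ l : L, KaehlerDifferential.D (IntermediateField.adjoin k S) L l = 0) :
    Algebra.trdeg k L ≤ Cardinal.mk S := by
  let M := IntermediateField.adjoin k S
  haveI : Algebra.EssFiniteType M L := Algebra.EssFiniteType.of_comp k M L
  haveI : Algebra.FormallyUnramified M L := ⟨subsingleton_of_forall_eq 0 fun w => by
    have hw : w ∈ Submodule.span L (Set.range (KaehlerDifferential.D M L)) :=
      KaehlerDifferential.span_range_derivation M L ▸ Submodule.mem_top
    induction hw using Submodule.span_induction with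
    | mem x hx => obtain ⟨a, rfl⟩ := hx; exact h a
    | zero => rfl
    | add x y _ _ hx hy => rw [hx, hy, add_zero]
    | smul a x _ hx => rw [hx, smul_zero]⟩
  haveI : Algebra.IsSeparable M L := Algebra.FormallyUnramified.isSeparable M L
  haveI : Algebra.IsAlgebraic M L := inferInstance
  haveI : Algebra.IsAlgebraic (Algebra.adjoin k S) L := IntermediateField.isAlgebraic_adjoin_iff_top.mp this
  exact Algebra.IsAlgebraic.trdeg_le_cardinalMk k S

/-- Let k be a field and A a k-algebra of finite type (X = Spec A a k-scheme of finite type), P a prime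
ideal of A, and suppose P contains a prime q with dim A/q ≥ n, i.e. the point P lies on an
irreducible component of X of dimension at least n. Then the fibre at P of the sheaf of
differentials of X over k has dimension at least n over the residue field: dim_{κ(P)} (κ(P) ⊗_A
Ω_{A/k}) ≥ n. (The published statement asks every irreducible component of X to have dimension ≥ n
and concludes this at every point.) -/
theorem result (k : Type u) [Field k]
    (A : Type u) [CommRing A] [Algebra k A] [Algebra.FiniteType k A] (n : ℕ)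
    (P : Ideal A) [P.IsPrime] (q : Ideal A) [q.IsPrime] (hqP : q ≤ P)
    (hq : (n : WithBot ℕ∞) ≤ ringKrullDim (A ⧸ q)) :
    n ≤ Module.finrank P.ResidueField (P.ResidueField ⊗[A] (Ω[A⁄k])) := by
  classical
  obtain ⟨S, hcard, hS⟩ := exists_spanning_D k A P
  let L := FractionRing (A ⧸ q)
  haveI : Algebra.FiniteType k (A ⧸ q) := Algebra.FiniteType.trans (S := A) inferInstance inferInstance
  haveI : Algebra.EssFiniteType (A ⧸ q) L := Algebra.EssFiniteType.of_isLocalization L (nonZeroDivisors (A ⧸ q))
  haveI : Algebra.EssFiniteType k L := Algebra.EssFiniteType.comp k (A ⧸ q) L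
  obtain ⟨d, hd, hd'⟩ := GrothLib.Dim.exists_nat_trdeg_eq_and_ringKrullDim_eq k (A ⧸ q)
  let π : A →ₐ[k] L := IsScalarTower.toAlgHom k A L
  let T : Set L := π '' (S : Set A)
  let M := IntermediateField.adjoin k T
  let φ : (Ω[A⁄k]) →ₗ[A] (Ω[L⁄M]) := KaehlerDifferential.map k M A L
  have hTD : ∀ a ∈ S, KaehlerDifferential.D M L (π a) = 0 := fun a ha =>
    (KaehlerDifferential.D M L).map_algebraMap ⟨π a, IntermediateField.subset_adjoin k T ⟨a, ha, rfl⟩⟩
  have hA : ∀ a : A, KaehlerDifferential.D M L (π a) = 0 := by
    intro a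
    obtain ⟨s, hs, hmem⟩ := hS a
    have hle : Submodule.span A ((KaehlerDifferential.D k A) '' (S : Set A)) ≤ LinearMap.ker φ := by
      rw [Submodule.span_le]
      rintro _ ⟨b, hb, rfl⟩
      rw [SetLike.mem_coe, LinearMap.mem_ker]
      exact (KaehlerDifferential.map_D k M A L b).trans (hTD b hb)
    have h0 : s • KaehlerDifferential.D M L (π a) = 0 := by
      have := LinearMap.mem_ker.mp (hle hmem)
      rw [map_smul] at this
      rw [show φ (KaehlerDifferential.D k A a) = KaehlerDifferential.D M L (π a) from
        KaehlerDifferential.map_D k M A L a] at this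
      exact this
    have hs0 : algebraMap A L s ≠ 0 := by
      rw [IsScalarTower.algebraMap_apply A (A ⧸ q) L]
      change algebraMap (A ⧸ q) L (Ideal.Quotient.mk q s) ≠ 0
      rw [ne_eq, IsFractionRing.to_map_eq_zero_iff, Ideal.Quotient.eq_zero_iff_mem]
      exact fun h => hs (hqP h)
    rw [← algebraMap_smul L s] at h0
    exact (smul_eq_zero.mp h0).resolve_left hs0
  have hle := trdeg_le_of_vanishing k L T (fun l => by
    obtain ⟨x, ⟨c, hc⟩, rfl⟩ := IsLocalization.exists_mk'_eq (nonZeroDivisors (A ⧸ q)) l
    obtain ⟨x, rfl⟩ := Ideal.Quotient.mk_surjective x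
    obtain ⟨c, rfl⟩ := Ideal.Quotient.mk_surjective c
    have h := congrArg (KaehlerDifferential.D M L) (IsLocalization.mk'_spec L (Ideal.Quotient.mk q x) ⟨_, hc⟩)
    rw [Derivation.leibniz] at h
    change _ • KaehlerDifferential.D M L (π c) + _ = KaehlerDifferential.D M L (π x) at h
    rw [hA, hA, smul_zero, zero_add] at h
    exact (smul_eq_zero.mp h).resolve_left (IsFractionRing.to_map_ne_zero_of_mem_nonZeroDivisors hc))
  have h1 : Algebra.trdeg k (A ⧸ q) ≤ Algebra.trdeg k L :=
    trdeg_le_of_injective (IsScalarTower.toAlgHom k (A ⧸ q) L) (IsFractionRing.injective _ _)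
  have h2 : Cardinal.mk T ≤ (S.card : Cardinal) := by
    refine Cardinal.mk_image_le.trans ?_
    simp
  have h3 : (d : Cardinal) ≤ (S.card : Cardinal) := hd ▸ (h1.trans (hle.trans h2))
  rw [hd'] at hq
  have hnd : n ≤ d := by exact_mod_cast hq
  exact (hnd.trans (by exact_mod_cast h3)).trans hcard

end Groth.Agent.S10902
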