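import Groth.Statements.S10903
-- import your own Groth.Agent.* helpers here
import Groth.Agent.Lib.CMFree.Params
import Groth.Agent.Lib.Depth.CM
import Groth.Agent.Lib.AffDom.Formula
import Groth.Agent.Lib.FibreFlat.RegularFlat
import Mathlib.RingTheory.RegularLocalRing.Polynomial
import Mathlib.RingTheory.KrullDimension.Regular
import Mathlib.RingTheory.MvPolynomial.Ideal
import Groth.Agent.Lib.RegularIdeal

set_option autoImplicit false
universe u
open CInt

open MvPolynomial RingTheory.Sequence IsLocalRing in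
theorem dim_quotient_add_height_le {R : Type u} [CommRing R] [IsNoetherianRing R] [IsLocalRing R]
    (J : Ideal R) (hJ : J ≠ ⊤) : ringKrullDim (R ⧸ J) + (J.height : WithBot ℕ∞) ≤ ringKrullDim R := by
  haveI : Nontrivial (R ⧸ J) := Ideal.Quotient.nontrivial_iff.2 hJ
  haveI : IsLocalRing (R ⧸ J) := IsLocalRing.of_surjective' (Ideal.Quotient.mk J) Ideal.Quotient.mk_surjective
  obtain ⟨n, hn⟩ : ∃ n : ℕ, ringKrullDim (R ⧸ J) = n := by
    have h := (ringKrullDim_lt_top (R := R ⧸ J))
    obtain ⟨e, he⟩ := WithBot.ne_bot_iff_exists.1 (ringKrullDim_ne_bot (R := R ⧸ J))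
    induction e using ENat.recTopCoe with
    | top => rw [← he] at h; exact absurd h (lt_irrefl _)
    | coe n => exact ⟨n, by rw [← he]; rfl⟩
  rw [hn]
  rw [ringKrullDim_quotient] at hn
  obtain ⟨l, hl⟩ := Order.le_krullDim_iff.1 hn.ge
  let l' : LTSeries (PrimeSpectrum R) := l.map Subtype.val fun a b h => h
  let x : PrimeSpectrum R := l'.head
  have hx : J ≤ x.asIdeal := l.head.2
  have h1 : (n : ℕ∞) ≤ Order.coheight x := by
    rw [← hl]; exact Order.length_le_coheight_head (p := l')
  calc ((n : ℕ) : WithBot ℕ∞) + (J.height : WithBot ℕ∞)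
      ≤ ((Order.coheight x : ℕ∞) : WithBot ℕ∞) + (x.asIdeal.height : WithBot ℕ∞) := by
        exact add_le_add (WithBot.coe_le_coe.2 h1) (WithBot.coe_le_coe.2 (Ideal.height_mono hx))
    _ ≤ ringKrullDim R := by
        rw [← GrothLib.AffDom.ringKrullDim_quotient_eq_coheight, add_comm]
        exact GrothLib.AffDom.height_add_ringKrullDim_quotient_le _

open MvPolynomial RingTheory.Sequence IsLocalRing in
theorem mem_of_maximalIdeal_pow_mul_mem {R : Type u} [CommRing R] [IsRegularLocalRing R] (rs : List R)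
    (hmem : ∀ r ∈ rs, r ∈ maximalIdeal R) (hht : (rs.length : ℕ∞) ≤ (Ideal.ofList rs).height)
    (hlt : (rs.length : WithBot ℕ∞) < ringKrullDim R) (g : R)
    (hg : ∀ x ∈ maximalIdeal R, ∃ N : ℕ, x ^ N * g ∈ Ideal.ofList rs) : g ∈ Ideal.ofList rs := by
  classical
  have hle : Ideal.ofList rs ≤ maximalIdeal R := Ideal.span_le.2 hmem
  have hne : Ideal.ofList rs ≠ ⊤ := fun h => (maximalIdeal.isMaximal R).ne_top (top_le_iff.1 (h ▸ hle))
  have hreg : IsRegular R rs := GrothLib.CMFree.isRegular_of_ringKrullDim_quotient R rs hne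
    (le_trans (add_le_add le_rfl (WithBot.coe_le_coe.2 hht)) (dim_quotient_add_height_le _ hne))
  obtain ⟨l, hl, hlm, hlen⟩ := GrothLib.CMFree.exists_weaklyRegular_of_isRegularLocalRing R
  have hIM : maximalIdeal R • (⊤ : Submodule R R) ≠ ⊤ := GrothLib.Depth.smul_top_ne_top (maximalIdeal.isMaximal R).ne_top
  have h1 : (l.length : ℕ∞) ≤ LocCoh.idealDepth (maximalIdeal R) R :=
    (GrothLib.Depth.le_idealDepth_iff_exists _ hIM _).2 ⟨l, rfl, hlm, hl⟩
  have heq := GrothLib.Depth.idealDepth_ofList (maximalIdeal R) rs hmem R hreg.toIsWeaklyRegular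
  rw [heq] at h1
  have hlr : rs.length < l.length := by
    rw [← hlen] at hlt
    exact_mod_cast hlt
  haveI : Nontrivial (R ⧸ (Ideal.ofList rs • ⊤ : Submodule R R)) := GrothLib.Depth.nontrivial_quotient_ofList rs hmem
  have h2 : 1 ≤ LocCoh.idealDepth (maximalIdeal R) (R ⧸ (Ideal.ofList rs • ⊤ : Submodule R R)) := by
    by_contra hc
    rw [not_le, ENat.lt_one_iff_eq_zero] at hc
    rw [hc, zero_add] at h1
    exact absurd (ENat.natCast_le_natCast.1 h1) (not_le.2 hlr)
  obtain ⟨x, hx, hxreg⟩ := (GrothLib.Depth.one_le_idealDepth_iff (maximalIdeal.isMaximal R).ne_top).1 h2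
  obtain ⟨N, hN⟩ := hg x hx
  have h3 : (x ^ N) • (Submodule.Quotient.mk g : R ⧸ (Ideal.ofList rs • ⊤ : Submodule R R)) = 0 := by
    rw [← Submodule.Quotient.mk_smul, Submodule.Quotient.mk_eq_zero, smul_eq_mul, smul_eq_mul, Ideal.mul_top]
    exact hN
  have h4 := (hxreg.pow N).right_eq_zero_of_smul h3
  rwa [Submodule.Quotient.mk_eq_zero, smul_eq_mul, Ideal.mul_top] at h4

namespace Groth.Agent.S10903

/-- Let k be a field, S = k[x_0, …, x_n], and f_1, …, f_r with r ≤ n homogeneous polynomials of positive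
degrees whose ideal J = (f_1, …, f_r) has height r — the subscheme of P^n_k cut out by the
hypersurfaces f_i = 0 has codimension r, an ideal-theoretic complete intersection. Then J is
saturated with respect to the irrelevant ideal (x_0, …, x_n): an element g of S such that, for each
i, x_i^m g ∈ J for some m, already lies in J. Hence J is the full homogeneous ideal of that
subscheme (a global complete intersection). -/
theorem result (k : Type u) [Field k] (n r : ℕ)
    (hr : r ≤ n) (f : Fin r → MvPolynomial (Fin (n + 1)) k) (d : Fin r → ℕ)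
    (hf : ∀ i, (f i).IsHomogeneous (d i)) (hd : ∀ i, 0 < d i)
    (hJ : (Ideal.span (Set.range f)).height = r) (g : MvPolynomial (Fin (n + 1)) k)
    (hg : ∀ i : Fin (n + 1), ∃ m : ℕ, MvPolynomial.X i ^ m * g ∈ Ideal.span (Set.range f)) :
    g ∈ Ideal.span (Set.range f) := by
  classical
  let S := MvPolynomial (Fin (n + 1)) k
  let ev : S →+* k := MvPolynomial.constantCoeff
  let m : Ideal S := RingHom.ker ev
  haveI hm : m.IsMaximal := RingHom.ker_isMaximal_of_surjective ev fun c =>
    ⟨MvPolynomial.C c, MvPolynomial.constantCoeff_C _ c⟩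
  let R := Localization.AtPrime m
  haveI : IsRegularLocalRing R := IsRegularRing.isRegularLocalRing_localization m
  have hXm : ∀ i, (MvPolynomial.X i : S) ∈ m := fun i => MvPolynomial.constantCoeff_X (R := k) i
  have hfm : ∀ i, f i ∈ m := fun i => by
    show MvPolynomial.coeff 0 (f i) = 0
    exact (hf i).coeff_eq_zero (by simpa using (hd i).ne)
  set J := Ideal.span (Set.range f) with hJdef
  let rs : List R := List.ofFn fun i => algebraMap S R (f i)
  have hrsJ : Ideal.ofList rs = J.map (algebraMap S R) := by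
    rw [hJdef, Ideal.map_span, ← Set.range_comp, Ideal.ofList]
    congr 1
    ext y
    simp [rs, List.mem_ofFn]
  have hmax : ∀ s ∈ m, algebraMap S R s ∈ IsLocalRing.maximalIdeal R := fun s hs =>
    (IsLocalization.AtPrime.to_map_mem_maximal_iff R m s).2 hs
  have hX : RingTheory.Sequence.IsWeaklyRegular R
      ((List.ofFn (MvPolynomial.X : Fin (n + 1) → S)).map (algebraMap S R)) :=
    RingTheory.Sequence.IsWeaklyRegular.of_isLocalization (S := R) m.primeCompl
      (GrothLib.FibreFlat.isWeaklyRegular_X k (n + 1))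
  have hXle : Ideal.ofList ((List.ofFn (MvPolynomial.X : Fin (n + 1) → S)).map (algebraMap S R)) ≤
      IsLocalRing.maximalIdeal R := by
    refine Ideal.span_le.2 fun y hy => ?_
    simp only [Set.mem_setOf_eq, List.map_ofFn, List.mem_ofFn] at hy
    obtain ⟨i, rfl⟩ := hy
    exact hmax _ (hXm i)
  have hdim : ((n + 1 : ℕ) : WithBot ℕ∞) ≤ ringKrullDim R := by
    have h := ringKrullDim_add_length_eq_ringKrullDim_of_isRegular _
      (GrothLib.RegularIdeal.isRegular_of_le hX hXle)
    rw [← h, List.length_map, List.length_ofFn]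
    refine le_add_of_nonneg_left ?_
    haveI : Nontrivial (R ⧸ Ideal.ofList ((List.ofFn (MvPolynomial.X : Fin (n + 1) → S)).map (algebraMap S R))) :=
      Ideal.Quotient.nontrivial_iff.2 fun h => (IsLocalRing.maximalIdeal.isMaximal R).ne_top (top_le_iff.1 (h ▸ hXle))
    exact ringKrullDim_nonneg_of_nontrivial
  have hlen : rs.length = r := List.length_ofFn
  have hgR : algebraMap S R g ∈ Ideal.ofList rs := by
    refine mem_of_maximalIdeal_pow_mul_mem rs ?_ ?_ ?_ _ ?_
    · intro y hy
      simp only [rs, List.mem_ofFn] at hy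
      obtain ⟨i, rfl⟩ := hy
      exact hmax _ (hfm i)
    · rw [hlen, hrsJ, ← hJ]
      exact (Ideal.height_mono Ideal.le_comap_map).trans_eq (IsLocalization.height_under m.primeCompl _)
    · rw [hlen]
      exact lt_of_lt_of_le (by exact_mod_cast Nat.lt_succ_of_le hr) hdim
    · intro x hx
      have hrad : m ≤ ((J.map (algebraMap S R)).colon {algebraMap S R g}).radical.comap (algebraMap S R) := by
        intro s hs
        have hs' : s ∈ Ideal.span (Set.range (MvPolynomial.X : Fin (n + 1) → S)) := by
          rw [show Set.range (MvPolynomial.X : Fin (n + 1) → S) = MvPolynomial.X '' Set.univ from Set.image_univ.symm,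
            MvPolynomial.mem_ideal_span_X_image]
          intro d hd'
          by_contra hc
          push Not at hc
          have : d = 0 := Finsupp.ext fun i => hc i trivial
          rw [this, MvPolynomial.mem_support_iff] at hd'
          exact hd' hs
        refine Ideal.span_le.2 ?_ hs'
        rintro _ ⟨i, rfl⟩
        obtain ⟨N, hN⟩ := hg i
        refine Ideal.mem_comap.2 ⟨N, ?_⟩
        rw [Submodule.mem_colon_singleton, ← map_pow, smul_eq_mul, ← map_mul]
        exact Ideal.mem_map_of_mem _ hN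
      have hx' : x ∈ m.map (algebraMap S R) := by rwa [Localization.AtPrime.map_eq_maximalIdeal]
      obtain ⟨N, hN⟩ := (Ideal.map_le_iff_le_comap.2 hrad) hx'
      refine ⟨N, ?_⟩
      rw [hrsJ]
      simpa [Submodule.mem_colon_singleton] using hN
  rw [hrsJ, IsLocalization.algebraMap_mem_map_algebraMap_iff m.primeCompl] at hgR
  obtain ⟨s, hs, hsg⟩ := hgR
  by_contra hgJ
  let K : Ideal S := J.colon {g}
  have hK : K ≠ ⊤ := fun h => hgJ (by simpa using Submodule.mem_colon_singleton.1 (h ▸ Submodule.mem_top : (1 : S) ∈ K))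
  obtain ⟨P, hP, hKP⟩ := Ideal.exists_le_maximal K hK
  have hXP : ∀ i, (MvPolynomial.X i : S) ∈ P := fun i => by
    obtain ⟨N, hN⟩ := hg i
    exact hP.isPrime.mem_of_pow_mem N (hKP (Submodule.mem_colon_singleton.2 hN))
  have hmP : m = P := hm.eq_of_le hP.ne_top fun p hp => by
    have hs' : p ∈ Ideal.span (Set.range (MvPolynomial.X : Fin (n + 1) → S)) := by
      rw [show Set.range (MvPolynomial.X : Fin (n + 1) → S) = MvPolynomial.X '' Set.univ from Set.image_univ.symm,
        MvPolynomial.mem_ideal_span_X_image]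
      intro d hd'
      by_contra hc
      push Not at hc
      have : d = 0 := Finsupp.ext fun i => hc i trivial
      rw [this, MvPolynomial.mem_support_iff] at hd'
      exact hd' hp
    exact Ideal.span_le.2 (Set.range_subset_iff.2 hXP) hs'
  exact hs (hmP ▸ hKP (Submodule.mem_colon_singleton.2 hsg))

end Groth.Agent.S10903
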