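import Groth.Statements.S10904
import Groth.Agent.Lib.GrHilb10.Degree
-- import your own Groth.Agent.* helpers here

set_option autoImplicit false
universe u
open Polynomial
open ProjDeg

namespace Groth.Agent.S10904

/-- Let k be a field, R = k[X_0, …, X_n] graded by degree, I a homogeneous prime ideal of R, f a
homogeneous element of degree d ≥ 1 not in I, and I' = I + (f). Let P be the Hilbert polynomial of
R/I and Q that of R/I': rational polynomials whose value at every large integer m is the k-dimension
of the degree-m piece, i.e. dim R_m − dim (I ∩ R_m). Assume P has degree at least 1, i.e. the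
projective variety V(I) ⊆ P^n_k has dimension ≥ 1. Then Q has degree deg P − 1, and the degrees of
the projective schemes, (degree of the Hilbert polynomial)! times its leading coefficient, satisfy
deg V(I') = d · deg V(I). (The published statement has no dimension hypothesis; for V(I) a single
point the left side is 0 and the right side is d · deg V(I) ≠ 0, and the printed proof uses dim
V(I') = dim V(I) − 1.) -/
theorem result (k : Type u) [Field k] (n : ℕ)
    (I : Ideal (MvPolynomial (Fin (n + 1)) k)) (hIh : I.IsHomogeneous (CohB1.polyGrading n k)) [I.IsPrime]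
    (f : MvPolynomial (Fin (n + 1)) k) (d : ℕ) (hd : 0 < d) (hf : f.IsHomogeneous d) (hfI : f ∉ I)
    (P Q : ℚ[X])
    (hP : ∃ m₀ : ℕ, ∀ m : ℕ, m₀ ≤ m → P.eval (m : ℚ) =
      (Module.finrank k ↥(CohB1.polyGrading n k m) : ℚ) -
        Module.finrank k ↥(Submodule.restrictScalars k I ⊓ CohB1.polyGrading n k m))
    (hQ : ∃ m₀ : ℕ, ∀ m : ℕ, m₀ ≤ m → Q.eval (m : ℚ) =
      (Module.finrank k ↥(CohB1.polyGrading n k m) : ℚ) -
        Module.finrank k ↥(Submodule.restrictScalars k (I ⊔ Ideal.span {f}) ⊓ CohB1.polyGrading n k m))
    (hdim : 1 ≤ P.natDegree) :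
    Q.natDegree + 1 = P.natDegree ∧
      (Q.natDegree.factorial : ℚ) * Q.leadingCoeff =
        d * ((P.natDegree.factorial : ℚ) * P.leadingCoeff) :=
  GrothLib.GrHilb10.section_degree hIh hd hf hfI ((GrothLib.GrHilb10.isHP_iff I P).2 hP)
    ((GrothLib.GrHilb10.isHP_iff _ Q).2 hQ) hdim

end Groth.Agent.S10904
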