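import Groth.Statements.S10906
import Groth.Agent.Lib.GrHilb10.Degree
-- import your own Groth.Agent.* helpers here

set_option autoImplicit false
universe u
open Polynomial
open ProjDeg

namespace Groth.Agent.S10906

/-- Let k be a field, R = k[X_0, …, X_n] graded by degree, I a homogeneous ideal with Hilbert polynomial
P (a rational polynomial with P(m) = dim_k R_m − dim_k (I ∩ R_m) for all large m), and p_1, …, p_r
the minimal prime ideals over I, listed without repetition, with Hilbert polynomials Q_i; put t =
deg P. Defining the degree of V(J) as (degree of its Hilbert polynomial)! times the leading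
coefficient and the multiplicity of the component V(p_i) in Y = V(I) as the length of (R/I)_{p_i}
over R_{p_i}, the degree of Y is the sum, over the components of top dimension (those i with deg Q_i
= t), of multiplicity times degree: deg Y = Σ_{deg Q_i = t} i(Y_i; Y) · deg V(p_i). -/
theorem result (k : Type u) [Field k] (n : ℕ)
    (I : Ideal (MvPolynomial (Fin (n + 1)) k)) (hIh : I.IsHomogeneous (CohB1.polyGrading n k))
    (P : ℚ[X])
    (hP : ∃ m₀ : ℕ, ∀ m : ℕ, m₀ ≤ m → P.eval (m : ℚ) =
      (Module.finrank k ↥(CohB1.polyGrading n k m) : ℚ) -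
        Module.finrank k ↥(Submodule.restrictScalars k I ⊓ CohB1.polyGrading n k m))
    (r : ℕ) (p : Fin r → Ideal (MvPolynomial (Fin (n + 1)) k)) [hp : ∀ i, (p i).IsPrime] (hpinj : Function.Injective p)
    (hpmin : ∀ q : Ideal (MvPolynomial (Fin (n + 1)) k), q ∈ I.minimalPrimes ↔ ∃ i, q = p i)
    (Qp : Fin r → ℚ[X])
    (hQp : ∀ i, ∃ m₀ : ℕ, ∀ m : ℕ, m₀ ≤ m → (Qp i).eval (m : ℚ) =
      (Module.finrank k ↥(CohB1.polyGrading n k m) : ℚ) -
        Module.finrank k ↥(Submodule.restrictScalars k (p i) ⊓ CohB1.polyGrading n k m)) :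
    (P.natDegree.factorial : ℚ) * P.leadingCoeff =
      ∑ i : Fin r, if (Qp i).natDegree = P.natDegree then
        ((Qp i).natDegree.factorial : ℚ) * (Qp i).leadingCoeff *
          (Module.length (Localization.AtPrime (p i))
            (LocalizedModule (p i).primeCompl (MvPolynomial (Fin (n + 1)) k ⧸ I))).toNat
      else 0 :=
  GrothLib.GrHilb10.degree_eq_sum hIh ((GrothLib.GrHilb10.isHP_iff I P).2 hP) r p hpinj hpmin Qp
    fun i => (GrothLib.GrHilb10.isHP_iff _ _).2 (hQp i)

end Groth.Agent.S10906
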