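import Groth.Statements.S10909
import Groth.Agent.Lib.CotT.Smooth
import Groth.Agent.Lib.AffDom.Formula
import Groth.Agent.Lib.CMFree.Regular
import Groth.Agent.Lib.Serre.Ring
import Mathlib

set_option autoImplicit false
universe u
open TensorProduct
open SmVar

namespace Groth.Agent.S10909

open IsLocalRing TensorProduct in
theorem finrank_aux {L : Type u} [CommRing L] [IsLocalRing L] (I : Ideal L) (hI : I = maximalIdeal L)
    {M : Type u} [AddCommGroup M] [Module L M] [Module (ResidueField L) M]
    [IsScalarTower L (ResidueField L) M] (f : I.Cotangent →ₗ[L] M) (hf : Function.Bijective f) :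
    Module.finrank (ResidueField L) (CotangentSpace L) = Module.finrank (ResidueField L) M := by
  subst hI
  exact (((LinearEquiv.ofBijective f hf) : CotangentSpace L ≃ₗ[L] M).extendScalarsOfSurjective
    IsLocalRing.residue_surjective).finrank_eq

open IsLocalRing TensorProduct in
theorem finrank_cotangentSpace_eq (k A : Type u) [Field k] [IsAlgClosed k] [CommRing A] [Algebra k A]
    [Algebra.FiniteType k A] (m : Ideal A) [m.IsMaximal] :
    Module.finrank (ResidueField (Localization.AtPrime m)) (CotangentSpace (Localization.AtPrime m)) =
      Module.finrank m.ResidueField (m.ResidueField ⊗[A] Ω[A⁄k]) := by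
  let L := Localization.AtPrime m
  let K := m.ResidueField
  have hk : Function.Bijective (algebraMap k K) := by
    letI := Ideal.Quotient.field m
    haveI : Module.Finite k (A ⧸ m) := finite_of_finite_type_of_isJacobsonRing k (A ⧸ m)
    have h := IsAlgClosed.algebraMap_bijective_of_isIntegral (k := k) (K := A ⧸ m)
    rw [IsScalarTower.algebraMap_eq k (A ⧸ m) K]
    exact (Ideal.bijective_algebraMap_quotient_residueField m).comp h
  let ek : k ≃ₐ[k] K := AlgEquiv.ofBijective (Algebra.ofId k K) hk
  have hsurj : Function.Surjective (algebraMap L K) := IsLocalRing.residue_surjective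
  have hinj : Function.Injective (KaehlerDifferential.kerCotangentToTensor k L K) := by
    let g : { g // (IsScalarTower.toAlgHom k L K).kerSquareLift.comp g = AlgHom.id k K } :=
      ⟨(Algebra.ofId k _).comp ek.symm.toAlgHom, AlgHom.ext fun x => by
        obtain ⟨c, rfl⟩ := hk.2 x
        rw [AlgHom.commutes]
        rfl⟩
    obtain ⟨l, hl⟩ := (retractionKerCotangentToTensorEquivSection hsurj).symm g
    exact Function.LeftInverse.injective fun x => LinearMap.congr_fun hl x
  have hΩ : Subsingleton (Ω[K⁄k]) := KaehlerDifferential.subsingleton_of_surjective k K hk.2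
  have hsur : Function.Surjective (KaehlerDifferential.kerCotangentToTensor k L K) := fun x =>
    ((KaehlerDifferential.exact_kerCotangentToTensor_mapBaseChange k L K hsurj) x).1
      (Subsingleton.elim _ _)
  have hb := (KaehlerDifferential.isBaseChange_of_formallyEtale k A L)
  have hK := hb.comp (TensorProduct.isBaseChange L Ω[L⁄k] K)
  exact (finrank_aux (RingHom.ker (algebraMap L K)) IsLocalRing.ker_residue
    (KaehlerDifferential.kerCotangentToTensor k L K) ⟨hinj, hsur⟩).trans hK.equiv.symm.finrank_eq

theorem dim_localization_atMaximal (k A : Type u) [Field k] [CommRing A] [Algebra k A]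
    [Algebra.FiniteType k A] (hirr : (nilradical A).IsPrime) (n : ℕ) (hn : ringKrullDim A = n)
    (m : Ideal A) [m.IsMaximal] : ringKrullDim (Localization.AtPrime m) = (n : WithBot ℕ∞) := by
  rw [IsLocalization.AtPrime.ringKrullDim_eq_height m]
  refine le_antisymm (hn ▸ Ideal.height_le_ringKrullDim_of_ne_top Ideal.IsPrime.ne_top') ?_
  haveI := hirr
  have hle : nilradical A ≤ m := nilradical_le_prime m
  haveI hm' : (m.map (Ideal.Quotient.mk (nilradical A))).IsMaximal :=
    Ideal.IsMaximal.map_of_surjective_of_ker_le Ideal.Quotient.mk_surjective (by rwa [Ideal.mk_ker])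
  have h1 := GrothLib.AffDom.height_add_ringKrullDim_quotient k (A ⧸ nilradical A)
    (m.map (Ideal.Quotient.mk (nilradical A)))
  letI := Ideal.Quotient.field (m.map (Ideal.Quotient.mk (nilradical A)))
  let c : PrimeSpectrum (A ⧸ nilradical A) → PrimeSpectrum A :=
    PrimeSpectrum.comap (Ideal.Quotient.mk (nilradical A))
  have hc : Function.Bijective c := by
    refine ⟨fun a b h => PrimeSpectrum.ext (Ideal.comap_injective_of_surjective _
      Ideal.Quotient.mk_surjective (congrArg PrimeSpectrum.asIdeal h)), fun p => ?_⟩
    refine ⟨⟨p.asIdeal.map (Ideal.Quotient.mk (nilradical A)),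
      Ideal.map_isPrime_of_surjective Ideal.Quotient.mk_surjective
        (by rw [Ideal.mk_ker]; exact nilradical_le_prime _)⟩, PrimeSpectrum.ext ?_⟩
    exact Ideal.comap_map_quotientMk (I := nilradical A) (J := p.asIdeal) |>.trans
      (sup_eq_right.2 (nilradical_le_prime _))
  let e : PrimeSpectrum (A ⧸ nilradical A) ≃o PrimeSpectrum A :=
    { Equiv.ofBijective c hc with
      map_rel_iff' := fun {a b} =>
        Ideal.comap_le_comap_iff_of_surjective (Ideal.Quotient.mk (nilradical A))
          Ideal.Quotient.mk_surjective a.asIdeal b.asIdeal }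
  rw [ringKrullDim_eq_zero_of_field, add_zero,
    show ringKrullDim (A ⧸ nilradical A) = ringKrullDim A from Order.krullDim_eq_of_orderIso e, hn] at h1
  rw [← h1]
  have he : (m.map (Ideal.Quotient.mk (nilradical A))).height = m.height := by
    let x : PrimeSpectrum (A ⧸ nilradical A) := ⟨_, hm'.isPrime⟩
    have hx : e x = ⟨m, inferInstance⟩ := PrimeSpectrum.ext
      (Ideal.comap_map_quotientMk (I := nilradical A) (J := m) |>.trans (sup_eq_right.2 hle))
    rw [show m.map (Ideal.Quotient.mk (nilradical A)) = x.asIdeal from rfl,
      show m = (e x).asIdeal from (congrArg PrimeSpectrum.asIdeal hx).symm,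
      PrimeSpectrum.height_eq_orderHeight, PrimeSpectrum.height_eq_orderHeight, Order.height_orderIso]
  rw [he]

/-- Let k be an algebraically closed field and A a k-algebra of finite type with irreducible spectrum
(the nilradical of A is prime) and Krull dimension n; X = Spec A is then an irreducible separated
k-scheme of finite type of dimension n. Then X is a nonsingular variety — A is reduced and every
localization of A at a prime is a regular local ring — if and only if the module of Kähler
differentials Ω_{A/k} is locally free of rank n: projective, with fibre κ(P) ⊗_A Ω_{A/k} of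
dimension n at every prime P. -/
theorem result (k : Type u) [Field k]
    [IsAlgClosed k] (A : Type u) [CommRing A] [Algebra k A] [Algebra.FiniteType k A]
    (hirr : (nilradical A).IsPrime) (n : ℕ) (hn : ringKrullDim A = n) :
    (IsReduced A ∧ IsRegularRing A) ↔
      (Module.Projective A (Ω[A⁄k]) ∧
        ∀ (P : Ideal A) [P.IsPrime],
          Module.finrank P.ResidueField (P.ResidueField ⊗[A] Ω[A⁄k]) = n) := by
  haveI : IsNoetherianRing A := Algebra.FiniteType.isNoetherianRing k A
  haveI : Algebra.FinitePresentation k A := Algebra.FinitePresentation.of_finiteType.1 inferInstance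
  constructor
  · rintro ⟨hred, hreg⟩
    haveI : Algebra.FormallySmooth k A :=
      (GrothLib.CotT.formallySmooth_iff_regular k A).2 fun q _ => (isRegularRing_iff.1 hreg) q
    haveI : Module.Projective A (Ω[A⁄k]) := inferInstance
    refine ⟨inferInstance, fun P _ => ?_⟩
    haveI : IsDomain A := by
      haveI : (⊥ : Ideal A).IsPrime := by rwa [nilradical_eq_bot_iff.2 hred] at hirr
      exact IsDomain.of_bot_isPrime A
    obtain ⟨m, hm, hPm⟩ := Ideal.exists_le_maximal P Ideal.IsPrime.ne_top'
    haveI := hm
    haveI : Module.FinitePresentation A (Ω[A⁄k]) := Module.finitePresentation_of_finite _ _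
    have hc := (Module.isLocallyConstant_rankAtStalk (R := A) (M := Ω[A⁄k])).apply_eq_of_preconnectedSpace
      (⟨P, inferInstance⟩ : PrimeSpectrum A) ⟨m, hm.isPrime⟩
    rw [Module.rankAtStalk_eq, Module.rankAtStalk_eq] at hc
    rw [hc]
    haveI := (isRegularRing_iff.1 hreg) m
    have h := (IsRegularLocalRing.iff_finrank_cotangentSpace (Localization.AtPrime m)).1 inferInstance
    rw [finrank_cotangentSpace_eq k A m, dim_localization_atMaximal k A hirr n hn m] at h
    exact_mod_cast h
  · rintro ⟨-, hrank⟩
    have hreg : ∀ (m : Ideal A) [m.IsMaximal], IsRegularLocalRing (Localization.AtPrime m) := by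
      intro m _
      rw [IsRegularLocalRing.iff_finrank_cotangentSpace, finrank_cotangentSpace_eq k A m, hrank m,
        dim_localization_atMaximal k A hirr n hn m]
    refine ⟨?_, GrothLib.Serre.isRegularRing_of_forall_isMaximal A (fun m _ => hreg m)⟩
    refine isReduced_ofLocalizationMaximal A fun m _ => ?_
    haveI := hreg m
    haveI := GrothLib.CMFree.isDomain_of_isRegularLocalRing (Localization.AtPrime m)
    infer_instance

end Groth.Agent.S10909
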