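import Groth.Statements.S10914
import Groth.Agent.Lib.AffDom.IrredFibres

set_option autoImplicit false
universe u
open CategoryTheory CategoryTheory.Limits AlgebraicGeometry TopologicalSpace
open ProjDeg

namespace Groth.Agent.S10914

/-- Let k be a field, X and Y reduced schemes proper over k and f : X → Y a k-morphism with (i) f
surjective, (ii) every fibre X_y over a closed point y irreducible, (iii) all these fibres of the
same dimension m, and (iv) Y irreducible. Then X is irreducible and dim X = dim Y + m. (The
published statement takes X, Y projective over k and f projective; its proof uses only that f is a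
closed map and upper semicontinuity of fibre dimension, i.e. properness.) -/
theorem result (k : Type u) [Field k] {X Y : Scheme.{u}}
    (pX : X ⟶ Spec (CommRingCat.of k)) (pY : Y ⟶ Spec (CommRingCat.of k)) [IsProper pX] [IsProper pY]
    [IsReduced X] [IsReduced Y] (f : X ⟶ Y) (hf : f ≫ pY = pX) (hsurj : Function.Surjective f)
    [IrreducibleSpace ↥Y] (m : ℕ)
    (hirr : ∀ y : ↥Y, IsClosed ({y} : Set ↥Y) → IrreducibleSpace ↥(f.fiber y))
    (hdim : ∀ y : ↥Y, IsClosed ({y} : Set ↥Y) → topologicalKrullDim ↥(f.fiber y) = m) :
    IrreducibleSpace ↥X ∧ topologicalKrullDim ↥X = topologicalKrullDim ↥Y + m := by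
  have hlf : LocallyOfFiniteType f := by
    have : LocallyOfFiniteType (f ≫ pY) := by rw [hf]; infer_instance
    exact locallyOfFiniteType_of_comp f pY
  have hpr : IsProper f := by
    have : IsProper (f ≫ pY) := by rw [hf]; infer_instance
    exact IsProper.of_comp f pY
  have : IsLocallyNoetherian X := LocallyOfFiniteType.isLocallyNoetherian pX
  have : CompactSpace X := QuasiCompact.compactSpace_of_compactSpace pX
  have : AlgebraicGeometry.IsNoetherian X := {}
  have hfib : ∀ y : Y, IsClosed ({y} : Set Y) →
      ∃ ω, f ω = y ∧ (∀ z, f z = y → ω ⤳ z) ∧ GrothLib.AffDom.ptDim ω = m := fun y hy => by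
    refine GrothLib.AffDom.exists_generic_of_fibre f hy ?_ ?_
    · have := hirr y hy
      have h := (IrreducibleSpace.isIrreducible_univ (f.fiber y)).image (f.fiberι y) (f.fiberι y).continuous.continuousOn
      rwa [Set.image_univ, Scheme.Hom.range_fiberι] at h
    · exact (GrothLib.AffDom.topologicalKrullDim_fiber f y).trans (hdim y hy)
  rw [add_comm]
  exact GrothLib.AffDom.irreducibleSpace_and_dim_of_isClosedMap pY f f.isClosedMap hfib

end Groth.Agent.S10914
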