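import Groth.Statements.S10915
import Groth.Agent.Lib.ProjDim.Inter
import Mathlib.GroupTheory.CosetCover

set_option autoImplicit false
universe u
open ProjDeg

namespace Groth.Agent.S10915

/-- Let k be an algebraically closed field, R = k[X_0, …, X_n] graded by degree, and I a homogeneous
prime ideal with dim R/I = r + 1, so that X = V_+(I) ⊆ P^n_k is a projective variety of dimension r.
Then there are r + 1 linear forms h_1, …, h_{r+1} (homogeneous of degree 1) whose common zero set in
P^n_k does not meet X, i.e. the ideal I + (h_1, …, h_{r+1}) contains some power of the irrelevant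
ideal (X_0, …, X_n). (The published statement says that a generic linear subspace of dimension n − r
− 1 misses X; this row asserts only that one such subspace, cut out by r + 1 linear forms, exists.) -/
theorem result (k : Type u) [Field k] [IsAlgClosed k]
    (n r : ℕ) (I : Ideal (MvPolynomial (Fin (n + 1)) k)) (hIh : I.IsHomogeneous (CohB1.polyGrading n k)) [I.IsPrime]
    (hdim : ringKrullDim (MvPolynomial (Fin (n + 1)) k ⧸ I) = (r : WithBot ℕ∞) + 1) :
    ∃ h : Fin (r + 1) → MvPolynomial (Fin (n + 1)) k, (∀ i, (h i).IsHomogeneous 1) ∧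
      ∃ N : ℕ, (Ideal.span (Set.range (MvPolynomial.X : Fin (n + 1) → MvPolynomial (Fin (n + 1)) k))) ^ N ≤
        I ⊔ Ideal.span (Set.range h) := by
  have hstep : ∀ j : ℕ, j ≤ r + 1 → ∃ h : Fin j → MvPolynomial (Fin (n + 1)) k, (∀ i, (h i).IsHomogeneous 1) ∧
      ∀ q ∈ (I ⊔ Ideal.span (Set.range h)).minimalPrimes, q = GrothLib.ProjDim.mIdeal k n ∨
        ringKrullDim (MvPolynomial (Fin (n + 1)) k ⧸ q) + (j : WithBot ℕ∞) ≤ (r : WithBot ℕ∞) + 1 := by
    intro j
    induction j with
    | zero =>
      refine fun _ => ⟨Fin.elim0, fun i => i.elim0, fun q hq => Or.inr ?_⟩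
      have hI0 : I ⊔ Ideal.span (Set.range (Fin.elim0 : Fin 0 → MvPolynomial (Fin (n + 1)) k)) = I := by
        rw [Set.range_eq_empty, Ideal.span_empty, sup_bot_eq]
      rw [hI0, Ideal.minimalPrimes_eq_subsingleton_self, Set.mem_singleton_iff] at hq
      rw [hq, hdim]
      simp
    | succ j ih =>
      intro hj
      obtain ⟨h, hh, hq⟩ := ih (by omega)
      set J := I ⊔ Ideal.span (Set.range h) with hJ
      have hJh : J.IsHomogeneous (CohB1.polyGrading n k) :=
        hIh.sup (GrothLib.ProjDim.isHomogeneous_span fun a ha => by obtain ⟨i, rfl⟩ := ha; exact ⟨1, hh i⟩)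
      let T : Finset (Submodule k (MvPolynomial.homogeneousSubmodule (Fin (n + 1)) k 1)) :=
        haveI := Classical.decEq (Submodule k (MvPolynomial.homogeneousSubmodule (Fin (n + 1)) k 1))
        (((Ideal.finite_minimalPrimes_of_isNoetherianRing _ J).subset (fun q (hq : q ∈ J.minimalPrimes \ {GrothLib.ProjDim.mIdeal k n}) => hq.1)).toFinset).image
          fun q => Submodule.comap (MvPolynomial.homogeneousSubmodule (Fin (n + 1)) k 1).subtype (q.restrictScalars k)
      have hT : ⊤ ∉ T := by
        intro htop
        simp only [T, Finset.mem_image, Set.Finite.mem_toFinset] at htop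
        obtain ⟨q, ⟨hq, hne⟩, hqT⟩ := htop
        have := hq.1.1
        refine hne (le_antisymm (GrothLib.ProjDim.le_mIdeal (GrothLib.ProjDim.isHomogeneous_minimalPrimes hJh hq) Ideal.IsPrime.ne_top') ?_)
        intro a ha
        have hX : ∀ i, MvPolynomial.X i ∈ q := fun i =>
          (hqT.ge Submodule.mem_top : (⟨MvPolynomial.X i, MvPolynomial.isHomogeneous_X k i⟩ :
            MvPolynomial.homogeneousSubmodule (Fin (n + 1)) k 1) ∈ Submodule.comap _ (q.restrictScalars k))
        have key : ∀ b : MvPolynomial (Fin (n + 1)) k, b - MvPolynomial.C (MvPolynomial.constantCoeff b) ∈ q := fun b => by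
          induction b using MvPolynomial.induction_on with
          | C c => simp
          | add b b' hb hb' =>
            have := Ideal.add_mem _ hb hb'
            simpa [add_sub_add_comm] using this
          | mul_X b i _ =>
            have : MvPolynomial.constantCoeff (b * MvPolynomial.X i) = 0 := by simp
            rw [this, map_zero, sub_zero]
            exact Ideal.mul_mem_left _ _ (hX i)
        simpa [GrothLib.ProjDim.mem_mIdeal.1 ha] using key a
      have hne := Subspace.biUnion_ne_univ_of_top_notMem (s := T) hT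
      obtain ⟨⟨l, hl⟩, hlT⟩ := (Set.ne_univ_iff_exists_notMem _).1 hne
      refine ⟨Fin.cons l h, fun i => Fin.cases hl hh i, fun q' hq' => ?_⟩
      have := hq'.1.1
      rw [Fin.range_cons] at hq'
      have hJq : J ≤ q' := sup_le (le_sup_left.trans hq'.1.2)
        ((Ideal.span_mono (Set.subset_insert _ _)).trans (le_sup_right.trans hq'.1.2))
      obtain ⟨q, hqJ, hqq'⟩ := Ideal.exists_minimalPrimes_le hJq
      have := hqJ.1.1
      have hq'hom := GrothLib.ProjDim.isHomogeneous_minimalPrimes (hIh.sup
        (GrothLib.ProjDim.isHomogeneous_span (σ := insert l (Set.range h)) fun a ha => by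
          rcases ha with rfl | ⟨i, rfl⟩
          · exact ⟨1, hl⟩
          · exact ⟨1, hh i⟩)) hq'
      rcases hq q hqJ with hm | hle
      · exact Or.inl (le_antisymm (GrothLib.ProjDim.le_mIdeal hq'hom Ideal.IsPrime.ne_top') (hm ▸ hqq'))
      · rcases eq_or_ne q (GrothLib.ProjDim.mIdeal k n) with hm | hm
        · exact Or.inl (le_antisymm (GrothLib.ProjDim.le_mIdeal hq'hom Ideal.IsPrime.ne_top') (hm ▸ hqq'))
        · refine Or.inr ?_
          have hlq : l ∉ q := fun hlq => hlT (Set.mem_biUnion (x := Submodule.comap (MvPolynomial.homogeneousSubmodule (Fin (n + 1)) k 1).subtype (q.restrictScalars k))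
            (Finset.mem_image_of_mem _ ((Set.Finite.mem_toFinset _).2 ⟨hqJ, hm⟩)) hlq)
          have hlt : q < q' := lt_of_le_of_ne hqq' fun e => hlq (e.symm ▸
            hq'.1.2 (Ideal.mem_sup_right (Ideal.subset_span (Set.mem_insert _ _))))
          calc _ = (ringKrullDim (MvPolynomial (Fin (n + 1)) k ⧸ q') + 1) + (j : WithBot ℕ∞) := by
                push_cast
                rw [add_assoc, add_comm (1 : WithBot ℕ∞)]
            _ ≤ ringKrullDim (MvPolynomial (Fin (n + 1)) k ⧸ q) + (j : WithBot ℕ∞) :=
                add_le_add (GrothLib.ProjDim.dim_add_one_le_of_lt hlt) le_rfl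
            _ ≤ _ := hle
  obtain ⟨h, hh, hq⟩ := hstep (r + 1) le_rfl
  refine ⟨h, hh, Ideal.exists_pow_le_of_le_radical_of_fg ?_ (IsNoetherian.noetherian _)⟩
  rw [← Ideal.sInf_minimalPrimes]
  refine le_sInf fun q hqm => Ideal.span_le.2 (Set.range_subset_iff.2 fun i => ?_)
  have := hqm.1.1
  obtain ⟨e, he⟩ := GrothLib.ProjDim.exists_nat_dim_quotient q
  rcases hq q hqm with hm | hle
  · rw [hm]; exact MvPolynomial.constantCoeff_X _ i
  · rw [he] at hle
    have hJh := hIh.sup (GrothLib.ProjDim.isHomogeneous_span (σ := Set.range h) fun a ha => by obtain ⟨i, rfl⟩ := ha; exact ⟨1, hh i⟩)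
    have hqle := GrothLib.ProjDim.le_mIdeal (GrothLib.ProjDim.isHomogeneous_minimalPrimes hJh hqm) Ideal.IsPrime.ne_top'
    rcases eq_or_lt_of_le hqle with heq | hlt
    · rw [heq]; exact MvPolynomial.constantCoeff_X _ i
    · exfalso
      have h1 := GrothLib.ProjDim.dim_add_one_le_of_lt hlt
      rw [GrothLib.ProjDim.ringKrullDim_quotient_mIdeal, he] at h1
      have h1' : 0 + 1 ≤ e := by exact_mod_cast h1
      have h2' : e + (r + 1) ≤ r + 1 := by exact_mod_cast hle
      omega

end Groth.Agent.S10915
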