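import Groth.Statements.S10916
import Groth.Agent.Lib.WDivProj4.Main
-- import your own Groth.Agent.* helpers here

set_option autoImplicit false
universe u
open CategoryTheory CategoryTheory.Limits AlgebraicGeometry TopologicalSpace
open WDiv

namespace Groth.Agent.S10916

/-- Let A be a Noetherian integral domain regular in codimension 1 (the local ring of Spec A at every
point of coheight 1 is a discrete valuation ring), P = P^n_A with structure morphism q : P → Spec A,
and H the point of P whose homogeneous prime ideal is generated by X_0 (so n ≥ 1; H is the generic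
point of the hyperplane X_0 = 0). Weil divisors are integer-valued functions on points with finite
support inside the points of coheight 1. Then Cl(P^n_A) ≅ ℤ ⊕ Cl(A) in the following sense: for
every Weil divisor D' on P there is exactly one integer d for which D' is linearly equivalent to d·H
plus the pullback of a Weil divisor D on Spec A, i.e. for some such D and some nonzero rational
function g on P one has D'(H) = d + D(q H) + ord_H(g) and D'(y) = D(q y) + ord_y(g) at every point y
≠ H of coheight 1. -/
theorem result (A : Type u) [CommRing A] [IsDomain A]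
    [IsNoetherianRing A] (n : ℕ) (hn : 1 ≤ n) [IsIntegral (CohB1.ProjSpace n A)] [IsLocallyNoetherian (CohB1.ProjSpace n A)]
    [IsIntegral (Spec (CommRingCat.of A))]
    (hR1 : ∀ x : ↥(Spec (CommRingCat.of A)), Order.coheight x = 1 →
      IsDiscreteValuationRing ↑((Spec (CommRingCat.of A)).presheaf.stalk x))
    (H : ↥(CohB1.ProjSpace n A))
    (hH : H.asHomogeneousIdeal.toIdeal = Ideal.span {(MvPolynomial.X 0 : MvPolynomial (Fin (n + 1)) A)})
    (D' : ↥(CohB1.ProjSpace n A) → ℤ) (hD' : ∀ y, Order.coheight y ≠ 1 → D' y = 0)
    (hfin : {y | D' y ≠ 0}.Finite) :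
    ∃! d : ℤ, ∃ (D : ↥(Spec (CommRingCat.of A)) → ℤ) (g : ↑(CohB1.ProjSpace n A).functionField),
      (∀ x, Order.coheight x ≠ 1 → D x = 0) ∧ {x | D x ≠ 0}.Finite ∧ g ≠ 0 ∧
      D' H = d + D (CohB1.ProjSpace.toSpec n A H) + Scheme.ord g H ∧
      ∀ y, y ≠ H → Order.coheight y = 1 →
        D' y = D (CohB1.ProjSpace.toSpec n A y) + Scheme.ord g y := by
  exact GrothLib.WDivProj4.linEquiv A n hn hR1 H hH D' hD' hfin

end Groth.Agent.S10916
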