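import Groth.Agent.Lib.Jets.ProjChart

set_option autoImplicit false
universe u
open CategoryTheory CategoryTheory.Limits AlgebraicGeometry TopologicalSpace

namespace Groth.Agent.S10921

/-- Let k be an algebraically closed field and X ⊆ P^n_k a nonsingular projective variety, given as an
integral scheme X with a closed immersion ι into projective n-space all of whose local rings are
regular. For a linear form h = Σ a_i X_i let H be the hyperplane h = 0 and H ∩ X the
scheme-theoretic intersection. Then the hyperplanes H which do not contain X and for which H ∩ X is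
regular at each of its closed points form a set containing a nonempty Zariski-open subset of the
dual projective space: there is a nonzero polynomial g in the coefficients a_0, …, a_n such that
every h with g(a) ≠ 0 has these two properties. Regularity of H ∩ X at a closed point x of X lying
on H is expressed on the local ring: O_{X,x} modulo the image of the germ of h/X_j (any j with
X_j(x) ≠ 0) is a regular local ring. (The published statement asserts that the set of good
hyperplanes is itself open and dense and that H ∩ X is a regular subvariety; this row asserts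
regularity of H ∩ X at its closed points for all hyperplanes outside a proper closed set, and not
irreducibility, which fails for curves of degree ≥ 2.) -/
theorem result (k : Type u) [Field k] [IsAlgClosed k] (n : ℕ)
    (X : Scheme.{u}) [IsIntegral X] (ι : X ⟶ CohB1.ProjSpace n k) [IsClosedImmersion ι]
    (hreg : ∀ x : ↥X, IsRegularLocalRing ↑(X.presheaf.stalk x)) :
    ∃ g : MvPolynomial (Fin (n + 1)) k, g ≠ 0 ∧
      ∀ h : ↥(CohB1.polyGrading n k 1),
        MvPolynomial.eval (fun i => MvPolynomial.coeff (Finsupp.single i 1) (h : MvPolynomial (Fin (n + 1)) k)) g ≠ 0 →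
          (∃ x : ↥X, (h : MvPolynomial (Fin (n + 1)) k) ∉ (ι.base x).asHomogeneousIdeal) ∧
          ∀ x : ↥X, IsClosed ({x} : Set ↥X) →
            (h : MvPolynomial (Fin (n + 1)) k) ∈ (ι.base x).asHomogeneousIdeal →
            ∀ (j : Fin (n + 1))
              (hj : (MvPolynomial.X j : MvPolynomial (Fin (n + 1)) k) ∉ (ι.base x).asHomogeneousIdeal),
              IsRegularLocalRing (↑(X.presheaf.stalk x) ⧸ Ideal.span
                {(ι.stalkMap x).hom ((Proj.stalkIso' (CohB1.polyGrading n k) (ι.base x)).symm
                  (HomogeneousLocalization.mk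
                    ⟨1, h, ⟨MvPolynomial.X j, MvPolynomial.isHomogeneous_X k j⟩, hj⟩))}) := by
  classical
  letI : X.Over (Spec (CommRingCat.of k)) := ⟨ι ≫ CohB1.ProjSpace.toSpec n k⟩
  have hι : ι ≫ CohB1.ProjSpace.toSpec n k = X ↘ Spec (CommRingCat.of k) := rfl
  have key : ∀ j : Fin (n + 1), ∃ P : MvPolynomial (Fin (n + 1)) k, P ≠ 0 ∧
      ∀ c : Fin (n + 1) → k, MvPolynomial.eval c P ≠ 0 →
        letI := GrothLib.Jets.constAlgebra (k := k) (GrothLib.Jets.chartX ι j).1
        ∀ p : Ideal Γ(X, (GrothLib.Jets.chartX ι j).1), p.IsMaximal →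
          ∑ i, c i • GrothLib.Jets.coord ι j i ∉ p ^ 2 := by
    intro j
    let U := GrothLib.Jets.chartX ι j
    letI := GrothLib.Jets.constAlgebra (k := k) U.1
    haveI := GrothLib.Jets.finiteType_chart ι hι j
    haveI hfp : Algebra.FinitePresentation k Γ(X, U.1) := Algebra.FinitePresentation.of_finiteType.mp inferInstance
    haveI : Algebra.Smooth k Γ(X, U.1) := by
      refine ⟨Algebra.smoothLocus_eq_univ_iff.mp (Set.eq_univ_iff_forall.mpr fun P => ?_), hfp⟩
      have hy : U.2.fromSpec P ∈ U.1 := by
        have h1 : U.2.fromSpec P ∈ Set.range U.2.fromSpec := ⟨P, rfl⟩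
        rwa [U.2.range_fromSpec] at h1
      let S := X.presheaf.stalk (U.2.fromSpec P)
      letI : Algebra Γ(X, U.1) S := TopCat.Presheaf.algebra_section_stalk X.presheaf ⟨_, hy⟩
      haveI : IsLocalization.AtPrime S P.asIdeal := U.2.isLocalization_stalk' P hy
      haveI : IsRegularLocalRing S := hreg _
      haveI : IsRegularLocalRing (Localization.AtPrime P.asIdeal) :=
        IsRegularLocalRing.of_ringEquiv (IsLocalization.algEquiv P.asIdeal.primeCompl
          (↑S) (Localization.AtPrime P.asIdeal)).toRingEquiv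
      exact GrothLib.LocProp.isSmoothAt_of_isRegularLocalRing_of_perfectField P.asIdeal
    obtain ⟨P, hP0, hP⟩ := GrothLib.Jets.exists_poly_not_mem_sq (k := k) (0 : Γ(X, U.1))
      (GrothLib.Jets.coord ι j) fun p hp b => GrothLib.Jets.jets_of_generators (GrothLib.Jets.coord ι j) j
        (GrothLib.Jets.coord_self ι j) (GrothLib.Jets.exists_aeval_coord ι hι j) p b
    exact ⟨P, hP0, fun c hc p hp => by simpa using hP c hc p hp⟩
  choose P hP0 hP using key
  haveI : Nonempty X := inferInstance
  obtain ⟨x0⟩ := (inferInstance : Nonempty X)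
  obtain ⟨j0, hj0⟩ : ∃ j, x0 ∈ (GrothLib.Jets.chartX ι j).1 := by
    have h := (GrothLib.Ample.ProjMap.iSup_basicOpen_X n k).ge (Opens.mem_top (ι.base x0))
    obtain ⟨j, hj⟩ := Opens.mem_iSup.mp h
    exact ⟨j, hj⟩
  letI := GrothLib.Jets.constAlgebra (k := k) (GrothLib.Jets.chartX ι j0).1
  haveI := GrothLib.Jets.finiteType_chart ι hι j0
  haveI : Nontrivial Γ(X, (GrothLib.Jets.chartX ι j0).1) :=
    (X.presheaf.germ (GrothLib.Jets.chartX ι j0).1 x0 hj0).hom.domain_nontrivial
  obtain ⟨p0, hp0⟩ := Ideal.exists_maximal Γ(X, (GrothLib.Jets.chartX ι j0).1)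
  obtain ⟨φ, hφ⟩ := GrothLib.Jets.exists_point (k := k) p0
  let Q : MvPolynomial (Fin (n + 1)) k :=
    ∑ i, MvPolynomial.C (φ (GrothLib.Jets.coord ι j0 i)) * MvPolynomial.X i
  have hQev : ∀ c : Fin (n + 1) → k,
      MvPolynomial.eval c Q = φ (∑ i, c i • GrothLib.Jets.coord ι j0 i) := fun c => by
    simp [Q, mul_comm]
  have hQ0 : Q ≠ 0 := fun h => by
    have h1 := hQev (Pi.single j0 1)
    rw [h, map_zero, Finset.sum_eq_single j0 (fun l _ hl => by rw [Pi.single_eq_of_ne hl, zero_smul])
      (fun hh => (hh (Finset.mem_univ _)).elim), Pi.single_eq_same, one_smul,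
      GrothLib.Jets.coord_self, map_one] at h1
    exact zero_ne_one h1
  refine ⟨Q * ∏ j, P j, mul_ne_zero hQ0 (Finset.prod_ne_zero_iff.mpr fun j _ => hP0 j), fun h hh => ?_⟩
  rw [map_mul, map_prod, mul_ne_zero_iff, Finset.prod_ne_zero_iff] at hh
  refine ⟨?_, fun x hx hmem j hj => ?_⟩
  · let U := GrothLib.Jets.chartX ι j0
    let z : PrimeSpectrum Γ(X, U.1) := ⟨p0, hp0.isPrime⟩
    have hy : U.2.fromSpec z ∈ U.1 := by
      have h1 : U.2.fromSpec z ∈ Set.range U.2.fromSpec := ⟨z, rfl⟩
      rwa [U.2.range_fromSpec] at h1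
    refine ⟨U.2.fromSpec z, fun hcon => hh.1 ?_⟩
    let S := X.presheaf.stalk (U.2.fromSpec z)
    letI : Algebra Γ(X, U.1) S := TopCat.Presheaf.algebra_section_stalk X.presheaf ⟨_, hy⟩
    haveI : IsLocalization.AtPrime S p0 := U.2.isLocalization_stalk' z hy
    have hlin := GrothLib.Jets.stalkMap_symm_linear ι hι h j0 (U.2.fromSpec z) hy
    rw [hQev]
    refine (RingHom.mem_ker (f := φ.toRingHom)).mp ?_
    rw [hφ, ← IsLocalization.AtPrime.to_map_mem_maximal_iff (↑S) p0]
    show X.presheaf.germ U.1 _ hy _ ∈ _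
    rw [← hlin, IsLocalRing.mem_maximalIdeal, mem_nonunits_iff, isUnit_map_iff]
    erw [MulEquiv.isUnit_map]
    rw [← HomogeneousLocalization.isUnit_iff_isUnit_val, HomogeneousLocalization.val_mk, Localization.mk_eq_mk',
      IsLocalization.AtPrime.isUnit_mk'_iff]
    exact fun hc => hc hcon
  · let U := GrothLib.Jets.chartX ι j
    letI := GrothLib.Jets.constAlgebra (k := k) U.1
    have hxU : x ∈ U.1 := hj
    let z := U.2.primeIdealOf ⟨x, hxU⟩
    have hzx : U.2.fromSpec z = x := U.2.fromSpec_primeIdealOf ⟨x, hxU⟩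
    haveI hmax : z.asIdeal.IsMaximal := by
      rw [← PrimeSpectrum.isClosed_singleton_iff_isMaximal]
      have := hx.preimage U.2.fromSpec.continuous
      rw [← hzx, ← Set.image_singleton] at this
      exact (U.2.fromSpec.isOpenEmbedding.injective.preimage_image {z}) ▸ this
    let S := X.presheaf.stalk x
    letI : Algebra Γ(X, U.1) S := TopCat.Presheaf.algebra_section_stalk X.presheaf ⟨x, hxU⟩
    haveI : IsLocalization.AtPrime S z.asIdeal := U.2.isLocalization_stalk ⟨x, hxU⟩
    haveI : IsRegularLocalRing S := hreg x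
    rw [GrothLib.Jets.stalkMap_symm_linear ι hι h j x hj]
    refine (GrothLib.RegLoc.quotient_isRegularLocalRing ?_ ?_).1
    · rw [← GrothLib.Jets.stalkMap_symm_linear ι hι h j x hj, IsLocalRing.mem_maximalIdeal, mem_nonunits_iff,
        isUnit_map_iff]
      erw [MulEquiv.isUnit_map]
      rw [← HomogeneousLocalization.isUnit_iff_isUnit_val,
        HomogeneousLocalization.val_mk, Localization.mk_eq_mk', IsLocalization.AtPrime.isUnit_mk'_iff]
      exact fun hc => hc hmem
    · intro hsq
      refine hP j _ (hh.2 j (Finset.mem_univ j)) z.asIdeal hmax ?_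
      change algebraMap Γ(X, U.1) S _ ∈ _ at hsq
      rw [← Ideal.Quotient.eq_zero_iff_mem] at hsq ⊢
      apply (IsLocalization.AtPrime.equivQuotMaximalIdealPow z.asIdeal (↑S) 2).injective
      rw [map_zero, IsLocalization.AtPrime.equivQuotMaximalIdealPow_apply_mk]
      exact hsq

end Groth.Agent.S10921
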