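import Groth.Statements.S10923
import Groth.Agent.Lib.OmegaPn27.BottField
-- import your own Groth.Agent.* helpers here

set_option autoImplicit false
universe u
open CategoryTheory CategoryTheory.Limits AlgebraicGeometry
open ProjDual

namespace Groth.Agent.S10923

/-- Let k be a field, 0 ≤ p ≤ r, P = P^r_k with structure map to Spec k, Ω = Ω^1_{P/k} its sheaf of
relative differentials (the conormal sheaf of the diagonal), L an O_P-module which is a p-th
exterior power of Ω, and d an integer with p < d; write L(d) = L ⊗ O_P(d). Then H^0(P, L(d)) =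
H^0(P^r, Ω^p(d)) is a k-vector space of dimension C(d+r-p, d) · C(d-1, p). -/
theorem result (k : Type u) [Field k] (r p : ℕ) (hp : p ≤ r)
    (L : (CohB1.ProjSpace r k).Modules)
    (hL : ExtPow.IsExtPow p (Omega.sheaf (CohB1.ProjSpace.toSpec r k)) L) (d : ℕ) (hd : p < d) :
    Module.finrank k (Coh.HH (CohB1.ProjSpace r k)
      (CohB1.tensorMod L (Twist.twistProjSpace r k (d : ℤ))) 0) =
      Nat.choose (d + r - p) d * Nat.choose (d - 1) p := by
  haveI := GrothLib.Chow.isProper_toSpec r k
  haveI : QuasiSeparated (CohB1.ProjSpace.toSpec r k) := inferInstance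
  obtain ⟨a⟩ := GrothLib.ExtPowX.nonempty_iso hL
    (GrothLib.ExtPowX.isExtPow_wedge (GrothLib.OmegaPn27.isFinLocFree_omegaP r k) p) (Iso.refl _)
  let e : CohB1.tensorMod L (Twist.twistProjSpace r k (d : ℤ)) ≅ GrothLib.OmegaPn27.Wt r k p (d : ℤ) :=
    GrothLib.Ample.LineData.tensorModMapIso a (Iso.refl _)
  rw [(GrothLib.Euler.hhEquiv (A := k) e 0).finrank_eq]
  exact GrothLib.OmegaPn27.finrank_pos_zero r k p hp d hd

end Groth.Agent.S10923
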