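import Groth.Statements.S10925
import Groth.Agent.Lib.Seesaw26.Main
import Groth.Agent.Lib.Seesaw26.Closed
import Groth.Agent.Lib.ProjCoh.SupportFinite

set_option autoImplicit false
universe u
open CategoryTheory CategoryTheory.Limits AlgebraicGeometry
open PicF

namespace Groth.Agent.S10925

/-- Let k be an algebraically closed field, Y an integral scheme of finite type over k, f : X → Y flat
and projective (f = i ≫ pr for a closed immersion i : X → P^n_Y), such that every fibre X_y, y ∈ Y,
is integral, and let E be an invertible O_X-module whose pullback to every fibre X_y is isomorphic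
to the structure sheaf. Then L = f_*E is an invertible O_Y-module and the canonical map f^*f_*E → E
(the counit of f^* ⊣ f_*) is an isomorphism, so E ≅ f^*L. (Over a base field that is not
algebraically closed the conclusion fails already for the spectrum of a nontrivial finite field
extension mapping to the point; the base field is taken algebraically closed here, the standing
convention for varieties.) -/
theorem result (k : Type u) [Field k] [IsAlgClosed k]
    {X Y : Scheme.{u}} (g : Y ⟶ Spec (CommRingCat.of k)) [LocallyOfFiniteType g] [QuasiCompact g]
    [IsIntegral Y] (n : ℕ) (i : X ⟶ CohB1.ProjSpaceOver n Y) [IsClosedImmersion i]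
    (f : X ⟶ Y) (hf : f = i ≫ CohB1.ProjSpaceOver.toBase n Y) [Flat f]
    (hint : ∀ y : Y, IsIntegral (f.fiber y))
    (E : X.Modules) (hE : PicF.IsInvertible E)
    (htriv : ∀ y : Y, Nonempty ((Scheme.Modules.pullback (f.fiberι y)).obj E ≅ Coh.structureModule (f.fiber y))) :
    PicF.IsInvertible ((Scheme.Modules.pushforward f).obj E) ∧
      IsIso ((Scheme.Modules.pullbackPushforwardAdjunction f).counit.app E) := by
  haveI : IsProper (CohB1.ProjSpaceOver.toBase n Y) := GrothLib.Chow.isProper_toBase n Y
  haveI : IsProper f := hf ▸ inferInstance
  haveI : IsLocallyNoetherian Y := LocallyOfFiniteType.isLocallyNoetherian g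
  haveI : JacobsonSpace ↥Y := LocallyOfFiniteType.jacobsonSpace g
  have h0 : ∀ y : Y, Module.finrank (Y.residueField y) Γ(f.fiber y, ⊤) = 1 :=
    GrothLib.Seesaw26.finrank_eq_one_of_closedPoints f (fun y => by haveI := hint y; infer_instance)
      fun y hy => by
        haveI := hint y
        exact GrothLib.Seesaw26.finrank_eq_one_of_isAlgClosed f g y hy
  exact GrothLib.Seesaw26.pushforward_invertible_and_counit f h0 E hE htriv

end Groth.Agent.S10925
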