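import Groth.Statements.S10926
import Groth.Agent.Lib.Seesaw26.Main
import Groth.Agent.Lib.Seesaw26.Closed
import Groth.Agent.Lib.ProjCoh.SupportFinite

set_option autoImplicit false
universe u
open CategoryTheory CategoryTheory.Limits AlgebraicGeometry
open PicF

namespace Groth.Agent.S10926

/-- Let k be an algebraically closed field, Y an integral scheme of finite type over k, f : X → Y flat
and projective (f = i ≫ pr for a closed immersion i : X → P^n_Y) with every fibre X_y integral, and
L, M invertible O_X-modules whose pullbacks to each fibre X_y are isomorphic. Then there is an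
invertible O_Y-module E with L ≅ M ⊗ f^*E. -/
theorem result (k : Type u) [Field k] [IsAlgClosed k]
    {X Y : Scheme.{u}} (g : Y ⟶ Spec (CommRingCat.of k)) [LocallyOfFiniteType g] [QuasiCompact g]
    [IsIntegral Y] (n : ℕ) (i : X ⟶ CohB1.ProjSpaceOver n Y) [IsClosedImmersion i]
    (f : X ⟶ Y) (hf : f = i ≫ CohB1.ProjSpaceOver.toBase n Y) [Flat f]
    (hint : ∀ y : Y, IsIntegral (f.fiber y))
    (L M : X.Modules) (hL : PicF.IsInvertible L) (hM : PicF.IsInvertible M)
    (hLM : ∀ y : Y, Nonempty ((Scheme.Modules.pullback (f.fiberι y)).obj L ≅ (Scheme.Modules.pullback (f.fiberι y)).obj M)) :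
    ∃ E : Y.Modules, PicF.IsInvertible E ∧
      Nonempty (L ≅ CohB1.tensorMod M ((Scheme.Modules.pullback f).obj E)) := by
  haveI : IsProper (CohB1.ProjSpaceOver.toBase n Y) := GrothLib.Chow.isProper_toBase n Y
  haveI : IsProper f := hf ▸ inferInstance
  haveI : IsLocallyNoetherian Y := LocallyOfFiniteType.isLocallyNoetherian g
  haveI : JacobsonSpace ↥Y := LocallyOfFiniteType.jacobsonSpace g
  have h0 : ∀ y : Y, Module.finrank (Y.residueField y) Γ(f.fiber y, ⊤) = 1 :=
    GrothLib.Seesaw26.finrank_eq_one_of_closedPoints f (fun y => by haveI := hint y; infer_instance)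
      fun y hy => by
        haveI := hint y
        exact GrothLib.Seesaw26.finrank_eq_one_of_isAlgClosed f g y hy
  exact GrothLib.Seesaw26.exists_iso_tensor_pullback f h0 L M hL hM hLM

end Groth.Agent.S10926
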