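import Groth.Statements.S10927
import Groth.Agent.Lib.FlatFactor.Orbit
import Groth.Agent.Lib.GenericSmooth.Basic
import Groth.Agent.Lib.DiagGrp.ActionTrivial
import Groth.Agent.Lib.GrpSchField.Pts
import Mathlib.AlgebraicGeometry.AlgClosed.Basic
-- import your own Groth.Agent.* helpers here

set_option autoImplicit false
universe u
open CategoryTheory CategoryTheory.Limits MonoidalCategory CartesianMonoidalCategory MonObj GrpObj AlgebraicGeometry
open Variety

namespace Groth.Agent.S10927

variable {S : Scheme.{u}} {G X : Over S} [GrpObj G]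

/-- Left translation of a group by a point. -/
noncomputable def translateG (h : 𝟙_ (Over S) ⟶ G) : G ≅ G where
  hom := (toUnit G ≫ h) * 𝟙 G
  inv := (toUnit G ≫ h)⁻¹ * 𝟙 G
  hom_inv_id := by
    rw [MonObj.comp_mul, GrpObj.comp_inv, Category.comp_id, ← Category.assoc,
      toUnit_unique (((toUnit G ≫ h) * 𝟙 G) ≫ toUnit G) (toUnit G), inv_mul_cancel_left]
  inv_hom_id := by
    rw [MonObj.comp_mul, Category.comp_id, ← Category.assoc,
      toUnit_unique (((toUnit G ≫ h)⁻¹ * 𝟙 G) ≫ toUnit G) (toUnit G), mul_inv_cancel_left]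

theorem translateG_hom (h : 𝟙_ (Over S) ⟶ G) : (translateG h).hom = (toUnit G ≫ h) * 𝟙 G := rfl

theorem comp_act (a : AlgGrp.Action G X) {T T' : Over S} (t : T' ⟶ T) (g : T ⟶ G) (q : T ⟶ X) :
    t ≫ lift g q ≫ a.act = lift (t ≫ g) (t ≫ q) ≫ a.act := by rw [comp_lift_assoc]

/-- Translation of the space by a point of the group. -/
noncomputable def translateX (a : AlgGrp.Action G X) (h : 𝟙_ (Over S) ⟶ G) : X ≅ X where
  hom := lift (toUnit X ≫ h) (𝟙 X) ≫ a.act
  inv := lift (toUnit X ≫ h)⁻¹ (𝟙 X) ≫ a.act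
  hom_inv_id := by
    rw [comp_act, GrpObj.comp_inv, Category.comp_id, ← Category.assoc,
      toUnit_unique ((lift (toUnit X ≫ h) (𝟙 X) ≫ a.act) ≫ toUnit X) (toUnit X),
      ← GrothLib.DiagGrp.act_mul, inv_mul_cancel, GrothLib.DiagGrp.act_one]
  inv_hom_id := by
    rw [comp_act, Category.comp_id, ← Category.assoc,
      toUnit_unique ((lift (toUnit X ≫ h)⁻¹ (𝟙 X) ≫ a.act) ≫ toUnit X) (toUnit X),
      ← GrothLib.DiagGrp.act_mul, mul_inv_cancel, GrothLib.DiagGrp.act_one]

theorem translate_orbitMap (a : AlgGrp.Action G X) (x : 𝟙_ (Over S) ⟶ X) (h : 𝟙_ (Over S) ⟶ G) :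
    (translateG h).hom ≫ a.orbitMap x = a.orbitMap x ≫ (translateX a h).hom := by
  rw [GrothLib.FlatFactor.comp_orbitMap, translateG_hom, GrothLib.DiagGrp.act_mul]
  show _ = a.orbitMap x ≫ lift (toUnit X ≫ h) (𝟙 X) ≫ a.act
  rw [comp_act, Category.comp_id, ← Category.assoc, toUnit_unique (a.orbitMap x ≫ toUnit X) (toUnit G)]
  rfl

theorem formallySmooth_of_eq_comp_iso {A B : Scheme.{u}} {φ : A ⟶ B} {l : A ⟶ A} {r : B ⟶ B} [IsIso r]
    [LocallyOfFinitePresentation φ] (e : l ≫ φ = φ ≫ r) (z : A) (hz : ((l ≫ φ).stalkMap z).hom.FormallySmooth) :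
    (φ.stalkMap z).hom.FormallySmooth := by
  rw [e, Scheme.Hom.stalkMap_comp] at hz
  exact (RingHom.FormallySmooth.respectsIso.cancel_left_isIso (r.stalkMap (φ.base z)) (φ.stalkMap z)).mp hz

/-- Let k be an algebraically closed field of characteristic zero, G a group variety over k (an
integral, separated k-group scheme of finite type) and X a homogeneous space for G: a k-variety
(integral, separated, of finite type over k) with an action of G such that G(k) acts transitively on
X(k). Then for every k-point x of X the orbit map G → X, g ↦ g · x, is smooth. -/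
theorem result (k : Type u) [Field k] [IsAlgClosed k] [CharZero k]
    (G X : Over (Spec (CommRingCat.of k))) [GrpObj G] (a : AlgGrp.Action G X)
    [IsIntegral G.left] [IsSeparated G.hom] [LocallyOfFiniteType G.hom] [QuasiCompact G.hom]
    [IsIntegral X.left] [IsSeparated X.hom] [LocallyOfFiniteType X.hom] [QuasiCompact X.hom]
    (htrans : ∀ x x' : 𝟙_ (Over (Spec (CommRingCat.of k))) ⟶ X,
      ∃ σ : 𝟙_ (Over (Spec (CommRingCat.of k))) ⟶ G, CartesianMonoidalCategory.lift σ x ≫ a.act = x')
    (x : 𝟙_ (Over (Spec (CommRingCat.of k))) ⟶ X) :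
    Smooth (a.orbitMap x).left := by
  set φ := a.orbitMap x with hφdef
  haveI : LocallyOfFiniteType φ.left := by
    haveI : LocallyOfFiniteType (φ.left ≫ X.hom) := by rw [Over.w φ]; infer_instance
    exact locallyOfFiniteType_of_comp φ.left X.hom
  haveI : IsLocallyNoetherian X.left := LocallyOfFiniteType.isLocallyNoetherian X.hom
  haveI : LocallyOfFinitePresentation φ.left := inferInstance
  haveI : JacobsonSpace ↥G.left := LocallyOfFiniteType.jacobsonSpace G.hom
  haveI : JacobsonSpace ↥X.left := LocallyOfFiniteType.jacobsonSpace X.hom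
  have hcl : ∀ p : ↥X.left, IsClosed ({p} : Set ↥X.left) → ∃ g : 𝟙_ (Over (Spec (CommRingCat.of k))) ⟶ G,
      φ.left.base (g.left.base (IsLocalRing.closedPoint k)) = p := by
    intro p hp
    let q : 𝟙_ (Over (Spec (CommRingCat.of k))) ⟶ X :=
      Over.homMk (pointEquivClosedPoint X.hom |>.symm ⟨p, hp⟩).1 ((pointEquivClosedPoint X.hom).symm ⟨p, hp⟩).2
    obtain ⟨g, hg⟩ := htrans x q
    refine ⟨g, ?_⟩
    have h1 : g ≫ φ = q := by
      rw [hφdef, GrothLib.FlatFactor.comp_orbitMap, toUnit_unique (toUnit _) (𝟙 _), Category.id_comp, hg]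
    have h2 : g.left ≫ φ.left = q.left := congrArg Over.Hom.left h1
    have h3 : φ.left.base (g.left.base (IsLocalRing.closedPoint k)) =
        q.left.base (IsLocalRing.closedPoint k) :=
      congrArg (fun t : Spec (CommRingCat.of k) ⟶ X.left => t.base (IsLocalRing.closedPoint k)) h2
    exact h3.trans (congrArg Subtype.val ((pointEquivClosedPoint X.hom).apply_symm_apply ⟨p, hp⟩))
  haveI : QuasiCompact φ.left := by
    haveI : QuasiCompact (φ.left ≫ X.hom) := by rw [Over.w φ]; infer_instance
    exact QuasiCompact.of_comp φ.left X.hom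
  haveI : Surjective φ.left := GrothLib.GrpSchField.surjective_of_closedPoints φ.left fun p hp => by
    obtain ⟨g, hg⟩ := hcl p hp
    exact ⟨_, hg⟩
  haveI : CharZero X.left.functionField := GrothLib.GenericSmooth.charZero_functionField X.hom
  have hgen := GrothLib.GenericSmooth.genericPoint_mem_smoothLocus φ.left
    (GrothLib.GenericSmooth.map_genericPoint_of_denseRange φ.left φ.left.surjective.denseRange)
  obtain ⟨y, hy : y ∈ φ.left.smoothLocus, hyc⟩ := nonempty_inter_closedPoints (X := ↥G.left)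
    ⟨_, hgen⟩ φ.left.smoothLocus.2.isLocallyClosed
  rw [← Scheme.Hom.smoothLocus_eq_top_iff, ← TopologicalSpace.Opens.coe_eq_univ,
    ← not_ne_iff, ← Set.nonempty_compl]
  intro H
  obtain ⟨z, hz, hzc⟩ := nonempty_inter_closedPoints H φ.left.smoothLocus.2.isClosed_compl.isLocallyClosed
  let y' : 𝟙_ (Over (Spec (CommRingCat.of k))) ⟶ G :=
    Over.homMk (pointEquivClosedPoint G.hom |>.symm ⟨y, hyc⟩).1 ((pointEquivClosedPoint G.hom).symm ⟨y, hyc⟩).2
  let z' : 𝟙_ (Over (Spec (CommRingCat.of k))) ⟶ G :=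
    Over.homMk (pointEquivClosedPoint G.hom |>.symm ⟨z, hzc⟩).1 ((pointEquivClosedPoint G.hom).symm ⟨z, hzc⟩).2
  let h := y' * z'⁻¹
  have hL : z' ≫ (translateG h).hom = y' := by
    rw [translateG_hom, MonObj.comp_mul, Category.comp_id, ← Category.assoc, toUnit_unique (z' ≫ toUnit _) (𝟙 _),
      Category.id_comp, inv_mul_cancel_right]
  have hz2 : (translateG h).hom.left.base z = y := by
    have h2 : z'.left ≫ (translateG h).hom.left = y'.left := congrArg Over.Hom.left hL
    have h3 : (translateG h).hom.left.base (z'.left.base (IsLocalRing.closedPoint k)) =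
        y'.left.base (IsLocalRing.closedPoint k) :=
      congrArg (fun t : Spec (CommRingCat.of k) ⟶ G.left => t.base (IsLocalRing.closedPoint k)) h2
    have hzz : z'.left.base (IsLocalRing.closedPoint k) = z :=
      congrArg Subtype.val ((pointEquivClosedPoint G.hom).apply_symm_apply ⟨z, hzc⟩)
    exact (congrArg _ hzz.symm).trans
      (h3.trans (congrArg Subtype.val ((pointEquivClosedPoint G.hom).apply_symm_apply ⟨y, hyc⟩)))
  haveI : IsIso (translateG h).hom.left :=
    inferInstanceAs (IsIso ((Over.forget _).map (translateG h).hom))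
  haveI : IsIso (translateX a h).hom.left :=
    inferInstanceAs (IsIso ((Over.forget _).map (translateX a h).hom))
  have hz3 : z ∈ ((translateG h).hom.left ≫ φ.left).smoothLocus := by
    rw [← Scheme.Hom.preimage_smoothLocus_eq]
    show (translateG h).hom.left.base z ∈ φ.left.smoothLocus
    rw [hz2]
    exact hy
  have heq : (translateG h).hom ≫ φ = φ ≫ (translateX a h).hom := translate_orbitMap a x h
  apply hz
  show z ∈ φ.left.smoothLocus
  rw [Scheme.Hom.mem_smoothLocus] at hz3 ⊢
  have heq' : (translateG h).hom.left ≫ φ.left = φ.left ≫ (translateX a h).hom.left := by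
    rw [← Over.comp_left, heq, Over.comp_left]
  exact formallySmooth_of_eq_comp_iso heq' z hz3

end Groth.Agent.S10927
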