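import Groth.Statements.S10930
import Groth.Agent.Lib.GenericSmooth.Basic
import Groth.Agent.Lib.AlgMisc.GeomRegAt

set_option autoImplicit false
universe u
open CategoryTheory CategoryTheory.Limits AlgebraicGeometry
open Variety

namespace Groth.Agent.S10930

/-- Let k be an algebraically closed field of characteristic zero, X and Y varieties over k (integral,
separated and of finite type over k) with X nonsingular, i.e. smooth over k, and f : X → Y a
k-morphism. Then there is a nonempty open subscheme V of Y such that the restriction f⁻¹(V) → V of f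
is smooth. -/
theorem result (k : Type u) [Field k] [IsAlgClosed k] [CharZero k]
    {X Y : Scheme.{u}} (qX : X ⟶ Spec (CommRingCat.of k)) (qY : Y ⟶ Spec (CommRingCat.of k))
    [LocallyOfFiniteType qX] [QuasiCompact qX] [IsSeparated qX] [Smooth qX]
    [LocallyOfFiniteType qY] [QuasiCompact qY] [IsSeparated qY]
    [IsIntegral X] [IsIntegral Y] (f : X ⟶ Y) (hf : f ≫ qY = qX) :
    ∃ V : Y.Opens, (V : Set ↥Y).Nonempty ∧ Smooth (f ∣_ V) := by
  haveI : CharZero Y.functionField := GrothLib.GenericSmooth.charZero_functionField qY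
  haveI : LocallyOfFiniteType (f ≫ qY) := hf ▸ ‹_›
  haveI : LocallyOfFiniteType f := locallyOfFiniteType_of_comp f qY
  haveI : IsLocallyNoetherian Y := LocallyOfFiniteType.isLocallyNoetherian qY
  haveI : IsLocallyNoetherian X := LocallyOfFiniteType.isLocallyNoetherian qX
  haveI : CompactSpace X := (quasiCompact_iff_compactSpace qX).1 inferInstance
  haveI : IsNoetherian X := ⟨⟩
  have hη : ∀ x : X, f x = genericPoint Y → x ∈ f.smoothLocus := by
    intro x hx
    haveI : IsRegularLocalRing (X.presheaf.stalk x) :=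
      Groth.Agent.Lib.AlgMisc.GeomRegAt.isRegularLocalRing_stalk_of_mem_smoothLocus qX (x := x) (by rw [qX.smoothLocus_eq_top]; trivial)
    have hfld : IsField (Y.presheaf.stalk (f x)) := by rw [hx]; exact Field.toIsField Y.functionField
    haveI : CharZero (Y.presheaf.stalk (f x)) :=
      charZero_of_injective_ringHom (f := (Y.presheaf.stalkCongr (.of_eq hx.symm)).hom.hom)
        (ConcreteCategory.bijective_of_isIso (Y.presheaf.stalkCongr (.of_eq hx.symm)).hom).1
    exact GrothLib.GenericSmooth.mem_smoothLocus_of_regular f x hfld (GrothLib.GenericSmooth.perfectField_of_charZero hfld)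
  obtain ⟨S, hSf, hScl, hSirr, hSeq⟩ := TopologicalSpace.NoetherianSpace.exists_finite_set_isClosed_irreducible
    (f.smoothLocus.2.isClosed_compl)
  have hcl : ∀ Z ∈ S, genericPoint Y ∉ closure (f.base '' Z) := fun Z hZ hmem => by
    obtain ⟨ζ, hζ⟩ := QuasiSober.sober (hSirr Z hZ) (hScl Z hZ)
    have hgen := hζ.image f.base.hom.continuous
    have : f ζ = genericPoint Y := by
      refine ((genericPoint_spec Y).specializes trivial).antisymm ?_ |>.eq.symm
      exact hgen.specializes hmem
    exact (hSeq.ge ⟨Z, hZ, hζ.mem⟩ : ζ ∉ f.smoothLocus) (hη ζ this)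
  let B : Set Y := ⋃ Z ∈ S, closure (f.base '' Z)
  have hB : IsClosed B := hSf.isClosed_biUnion fun Z _ => isClosed_closure
  let V : Y.Opens := ⟨Bᶜ, hB.isOpen_compl⟩
  refine ⟨V, ⟨genericPoint Y, fun h => ?_⟩, ?_⟩
  · obtain ⟨Z, hZ, hm⟩ := Set.mem_iUnion₂.1 h
    exact hcl Z hZ hm
  · haveI : LocallyOfFinitePresentation (f ∣_ V) := inferInstance
    rw [← Scheme.Hom.smoothLocus_eq_top_iff]
    refine top_le_iff.1 fun z _ => ?_
    have hz : (f ⁻¹ᵁ V).ι z ∈ f.smoothLocus := by
      by_contra h
      obtain ⟨Z, hZ, hzZ⟩ := hSeq.le h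
      exact z.2 (Set.mem_biUnion hZ (subset_closure ⟨_, hzZ, rfl⟩))
    rw [Scheme.Hom.mem_smoothLocus] at hz ⊢
    exact ((RingHom.FormallySmooth.respectsIso).arrow_mk_iso_iff (morphismRestrictStalkMap f V z)).mpr hz

end Groth.Agent.S10930
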