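import Groth.Statements.S10933
import Groth.Agent.Lib.Serre.ExtSelf
-- import your own Groth.Agent.* helpers here

set_option autoImplicit false
universe u
open CategoryTheory
open CAlg

namespace Groth.Agent.S10933

/-- Let A be a (Noetherian) regular local ring, M a finitely generated A-module and d a natural number.
Then the projective dimension of M equals d if and only if Ext^j_A(M, A) = 0 for every j > d and
Ext^d_A(M, A) ≠ 0. (Projective dimension valued in WithBot ℕ∞, the zero module having projective
dimension ⊥.) -/
theorem result (A : Type u) [CommRing A] [IsRegularLocalRing A]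
    (M : Type u) [AddCommGroup M] [Module A M] [Module.Finite A M] (d : ℕ) :
    projectiveDimension (ModuleCat.of A M) = (d : WithBot ℕ∞) ↔
      ((∀ j : ℕ, d < j → Subsingleton (Abelian.Ext (ModuleCat.of A M) (ModuleCat.of A A) j)) ∧
        Nontrivial (Abelian.Ext (ModuleCat.of A M) (ModuleCat.of A A) d)) := by
  obtain ⟨N, hN, -⟩ := GrothLib.RegLoc.exists_dim_eq (R := A)
  constructor
  · intro hd
    have hle : HasProjectiveDimensionLE (ModuleCat.of A M) d :=
      (projectiveDimension_le_iff _ _).mp hd.le
    refine ⟨fun j hj => HasProjectiveDimensionLT.subsingleton _ (d + 1) j hj _, ?_⟩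
    by_contra hc
    rw [not_nontrivial_iff_subsingleton] at hc
    exact (projectiveDimension_ge_iff _ d).mp hd.ge (GrothLib.Serre.hasPDLT_of_ext_self d hle hc)
  · rintro ⟨h1, h2⟩
    have hle : HasProjectiveDimensionLE (ModuleCat.of A M) d :=
      GrothLib.Serre.pdLE_of_ext_self d N (GrothLib.Serre.pdLE_of_isRegularLocalRing A N hN M)
        fun j hj _ => h1 j hj
    refine le_antisymm ((projectiveDimension_le_iff _ _).mpr hle) ((projectiveDimension_ge_iff _ d).mpr ?_)
    intro hlt
    exact not_subsingleton_iff_nontrivial.mpr h2 (HasProjectiveDimensionLT.subsingleton _ d d le_rfl _)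

end Groth.Agent.S10933
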