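import Groth.Statements.S10934
import Groth.Agent.Lib.SerrePn27.CMDuality
-- import your own Groth.Agent.* helpers here

set_option autoImplicit false
universe u
open CategoryTheory CategoryTheory.Limits AlgebraicGeometry
open ProjDual

namespace Groth.Agent.S10934

/-- (a)⇔(b): let k be a field, i : X → P^N_k a closed immersion with X of dimension n, and write F(−q) =
F ⊗ i^*O(−q). Then X is an equidimensional Cohen–Macaulay scheme of dimension n — the local ring of
X at every closed point is Cohen–Macaulay of Krull dimension n — if and only if for every finite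
locally free O_X-module F (vector bundle) there is q₀ such that H^j(X, F(−q)) = 0 for all j < n and
all q ≥ q₀. -/
theorem result (k : Type u) [Field k] (N n : ℕ)
    {X : Scheme.{u}} (i : X ⟶ CohB1.ProjSpace N k) [IsClosedImmersion i] (hn : topologicalKrullDim ↥X = n) :
    (∀ x : X, IsClosed ({x} : Set ↥X) →
        LocCoh.IsCohenMacaulayLocalRing (X.presheaf.stalk x) ∧ ringKrullDim (X.presheaf.stalk x) = n) ↔
      ∀ F : X.Modules, FlatMod.IsFinLocFree F → ∃ q₀ : ℕ, ∀ q : ℕ, q₀ ≤ q → ∀ j : ℕ, j < n →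
        Subsingleton (Coh.HH X (CohB1.tensorMod F
          ((Scheme.Modules.pullback i).obj (Twist.twistProjSpace N k (-(q : ℤ))))) j) := by
  haveI := GrothLib.SerrePn27.isLocallyNoetherian_of_closed i
  constructor
  · intro hCM F hF
    have hd := GrothLib.SerrePn27.dim_le_of_closed i hn
    have h1 : ∀ j, ∃ q₀ : ℕ, j < n → ∀ q : ℕ, q₀ ≤ q → Subsingleton (Coh.HH X (CohB1.tensorMod F
        ((Scheme.Modules.pullback i).obj (Twist.twistProjSpace N k (-(q : ℤ))))) j) := fun j => by
      by_cases hj : j < n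
      · obtain ⟨m₀, hm₀⟩ := GrothLib.SerrePn27.vanish_tensor_of_depth i (GrothLib.Euler.isCoh_of_isFinLocFree hF) hd
          (GrothLib.SerrePn27.le_depth_stalk_of_CM i hCM hF) j hj
        exact ⟨m₀.toNat, fun _ q hq => hm₀ q (by omega)⟩
      · exact ⟨0, fun h => absurd h hj⟩
    choose Q hQ using h1
    exact ⟨(Finset.range n).sup Q, fun q hq j hj =>
      hQ j hj q ((Finset.le_sup (f := Q) (Finset.mem_range.2 hj)).trans hq)⟩
  · intro h x hx
    obtain ⟨q₀, hq₀⟩ := h (Coh.structureModule X)
      (fun z => ⟨⊤, 1, trivial, ⟨Scheme.Modules.restrictUnitIso _ ≪≫ (CategoryTheory.Limits.coproductUniqueIso fun _ : Fin 1 => _).symm⟩⟩)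
    refine GrothLib.SerrePn27.CM_of_vanish i hn (fun p hp => ⟨q₀, fun m hm => ?_⟩) x hx
    obtain ⟨e⟩ := GrothLib.SerrePn27.nonempty_tensor_structure_Oi i (-m)
    letI : X.Over (Spec (CommRingCat.of k)) := ⟨i ≫ CohB1.ProjSpace.toSpec N k⟩
    have h2 := hq₀ m.toNat (by omega) p hp
    rw [show ((m.toNat : ℕ) : ℤ) = m by omega] at h2
    exact (GrothLib.SerrePn27.hhMapEquiv (k := k) e p).toEquiv.subsingleton_congr.1 h2

end Groth.Agent.S10934
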