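import Groth.Agent.Lib.CotTangent.GenericInj
import Groth.Agent.Lib.RedSub.Basic
import Groth.Agent.Lib.CurveLocus.Basic
import Groth.Prelude.Def_FixPt

set_option autoImplicit false
universe u
open CategoryTheory CategoryTheory.Limits AlgebraicGeometry

namespace Groth.Agent.S10938

open IsLocalRing in
lemma dim_closure_image_component_le (k : Type u) [Field k] [IsAlgClosed k] [CharZero k]
    {X Y : Scheme.{u}} (qX : X ⟶ Spec (CommRingCat.of k)) (qY : Y ⟶ Spec (CommRingCat.of k))
    [LocallyOfFiniteType qX] [LocallyOfFiniteType qY]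
    (f : X ⟶ Y) (hf : f ≫ qY = qX) (r : ℕ) (A K : Set X) (hKc : IsClosed K) (hK : IsIrreducible K)
    (hA : ∀ x ∈ A, IsClosed ({x} : Set X) ∧
      ∃ S : Finset (CotangentSpace (X.presheaf.stalk x)), S.card ≤ r ∧
        (LinearMap.range (FixPt.cotangentMapAt f x (f.base x) rfl) : Set (CotangentSpace (X.presheaf.stalk x))) ⊆
          (Submodule.span (ResidueField (X.presheaf.stalk x))
            (S : Set (CotangentSpace (X.presheaf.stalk x))) : Set (CotangentSpace (X.presheaf.stalk x))))
    (hdense : ∀ O : Set X, IsOpen O → (O ∩ K).Nonempty → (O ∩ K ∩ A).Nonempty) :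
    topologicalKrullDim ↥(closure (f.base '' K)) ≤ r := by
  classical
  let C : TopologicalSpace.Closeds X := ⟨K, hKc⟩
  let ι := (Scheme.IdealSheafData.vanishingIdeal C).subschemeι
  let X' := (Scheme.IdealSheafData.vanishingIdeal C).subscheme
  have hrι : Set.range ι = K := GrothLib.RedSub.range_subschemeι_vanishingIdeal C
  haveI : IsReduced X' := GrothLib.RedSub.isReduced_subscheme_vanishingIdeal C
  let eX : X' ≃ₜ K := ι.isClosedEmbedding.isEmbedding.toHomeomorph.trans (Homeomorph.setCongr hrι)
  haveI : IrreducibleSpace X' := by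
    haveI : IrreducibleSpace K := Subtype.irreducibleSpace hK
    refine (irreducibleSpace_def X').2 ?_
    have := (IrreducibleSpace.isIrreducible_univ K).image eX.symm eX.symm.continuous.continuousOn
    rwa [Set.image_univ, eX.symm.surjective.range_eq] at this
  haveI : IsIntegral X' := isIntegral_of_irreducibleSpace_of_isReduced X'
  let D : TopologicalSpace.Closeds Y := ⟨closure (f.base '' K), isClosed_closure⟩
  let ιY := (Scheme.IdealSheafData.vanishingIdeal D).subschemeι
  let Y' := (Scheme.IdealSheafData.vanishingIdeal D).subscheme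
  have hrY : Set.range ιY = closure (f.base '' K) := GrothLib.RedSub.range_subschemeι_vanishingIdeal D
  haveI : IsReduced Y' := GrothLib.RedSub.isReduced_subscheme_vanishingIdeal D
  let eY : Y' ≃ₜ closure (f.base '' K) := ιY.isClosedEmbedding.isEmbedding.toHomeomorph.trans (Homeomorph.setCongr hrY)
  haveI : IrreducibleSpace Y' := by
    haveI : IrreducibleSpace (closure (f.base '' K)) :=
      Subtype.irreducibleSpace (hK.image f.base f.base.hom.continuous.continuousOn).closure
    refine (irreducibleSpace_def Y').2 ?_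
    have := (IrreducibleSpace.isIrreducible_univ (closure (f.base '' K))).image eY.symm eY.symm.continuous.continuousOn
    rwa [Set.image_univ, eY.symm.surjective.range_eq] at this
  haveI : IsIntegral Y' := isIntegral_of_irreducibleSpace_of_isReduced Y'
  obtain ⟨g, hg⟩ := GrothLib.RedSub.exists_lift (ι ≫ f) ιY (by
    rw [hrY]
    rintro _ ⟨w, rfl⟩
    exact subset_closure ⟨ι w, hrι ▸ ⟨w, rfl⟩, rfl⟩)
  have hgq : g ≫ (ιY ≫ qY) = ι ≫ qX := by rw [← Category.assoc, hg, Category.assoc, hf]
  have hdom : DenseRange g.base := by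
    intro y
    have h1 : ιY y ∈ closure (ιY '' Set.range g) := by
      have : ιY '' Set.range g = f.base '' K := by
        rw [← hrι, ← Set.range_comp, ← Set.range_comp]
        exact congrArg Set.range (funext fun w => congrArg (fun φ : X' ⟶ Y => φ.base w) hg)
      rw [this, ← hrY]
      exact ⟨y, rfl⟩
    rw [ιY.isClosedEmbedding.closure_image_eq] at h1
    obtain ⟨y', hy', he⟩ := h1
    rwa [ιY.isClosedEmbedding.injective he] at hy'
  obtain ⟨U, hgenU, hU⟩ := GrothLib.CotTangent.exists_open_injective (ι ≫ qX) (ιY ≫ qY) g hgq hdom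
  obtain ⟨O, hO, hOU⟩ := ι.isClosedEmbedding.isInducing.isOpen_iff.1 U.isOpen
  obtain ⟨x0, ⟨hx0O, hx0K⟩, hx0A⟩ := hdense O hO ⟨ι (genericPoint X'), by
    show genericPoint X' ∈ ι ⁻¹' O
    rw [hOU]; exact hgenU, hrι ▸ ⟨_, rfl⟩⟩
  obtain ⟨x, rfl⟩ : x0 ∈ Set.range ι := hrι ▸ hx0K
  obtain ⟨hxc, S, hScard, hS⟩ := hA _ hx0A
  have hxU : x ∈ U := by
    show x ∈ (U : Set X')
    rw [← hOU]; exact hx0O
  obtain ⟨-, hrY', hinj⟩ := hU x hxU
  have hx'c : IsClosed ({x} : Set X') := by
    rw [show ({x} : Set X') = ι ⁻¹' {ι x} from Set.ext fun w =>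
      ⟨fun h => congrArg ι h, fun h => ι.isClosedEmbedding.injective h⟩]
    exact hxc.preimage ι.continuous
  have hyc : IsClosed ({g x} : Set Y') := by
    haveI := GrothLib.CotTangent.locallyOfFiniteType_of_over (ι ≫ qX) (ιY ≫ qY) g hgq
    haveI : JacobsonSpace Y' := LocallyOfFiniteType.jacobsonSpace (ιY ≫ qY)
    exact g.closePoints_subset_preimage_closedPoints hx'c
  haveI := hrY'
  rw [← IsHomeomorph.topologicalKrullDim_eq _ eY.isHomeomorph,
    GrothLib.CotTangent.finrank_cotangent_eq (ιY ≫ qY) (g x) hyc]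
  have hres := GrothLib.CotTangent.residueFieldMap_surjective (ι ≫ qX) (ιY ≫ qY) g hgq x hx'c hyc
  haveI : IsLocallyNoetherian X' := LocallyOfFiniteType.isLocallyNoetherian (ι ≫ qX)
  choose t0 ht0 using fun s : S => Ideal.toCotangent_surjective (maximalIdeal (X.presheaf.stalk (ι x))) s.1
  letI : Algebra (Y'.presheaf.stalk (g x)) (X'.presheaf.stalk x) := (g.stalkMap x).hom.toAlgebra
  haveI : IsLocalHom (algebraMap (Y'.presheaf.stalk (g x)) (X'.presheaf.stalk x)) := g.toLRSHom.prop x
  let t : S → maximalIdeal (X'.presheaf.stalk x) := fun s =>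
    ⟨(ι.stalkMap x).hom (t0 s).1, map_nonunit (ι.stalkMap x).hom _ (t0 s).2⟩
  refine Nat.cast_le.2 ((GrothLib.CotTangent.finrank_cotangent_le (Y'.presheaf.stalk (g x)) (X'.presheaf.stalk x)
    (fun b => ?_) hinj t fun a ha => ?_).trans (by rwa [Fintype.card_coe]))
  · obtain ⟨a, ha⟩ := hres (residue _ b)
    obtain ⟨a, rfl⟩ := residue_surjective a
    refine ⟨a, ?_⟩
    rw [← residue_eq_zero_iff, map_sub, sub_eq_zero]
    exact ha.symm
  · obtain ⟨a1, rfl⟩ := ιY.stalkMap_surjective (g x) a
    have ha1 : a1 ∈ maximalIdeal (Y.presheaf.stalk (ιY (g x))) :=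
      fun hu => ha (hu.map (ιY.stalkMap (g x)).hom)
    have key := congrArg (fun φ => φ.hom a1) (Scheme.Hom.stalkMap_congr_hom (g ≫ ιY) (ι ≫ f) hg x)
    simp only [Scheme.Hom.stalkMap_comp, CommRingCat.hom_comp, RingHom.comp_apply] at key
    set a0 := ((Y.presheaf.stalkCongr (.of_eq (by rw [hg]))).hom : Y.presheaf.stalk ((g ≫ ιY) x) ⟶ Y.presheaf.stalk ((ι ≫ f) x)).hom a1 with ha0
    have ha0m : a0 ∈ maximalIdeal (Y.presheaf.stalk (f (ι x))) := by
      intro hu
      exact ha1 (isUnit_of_map_unit ((Y.presheaf.stalkCongr (.of_eq (by rw [hg]))).hom :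
        Y.presheaf.stalk ((g ≫ ιY) x) ⟶ Y.presheaf.stalk ((ι ≫ f) x)).hom _ hu)
    have hspan := hS ⟨(maximalIdeal _).toCotangent ⟨a0, ha0m⟩, rfl⟩
    rw [FixPt.cotangentMapAt, Ideal.mapCotangent_toCotangent] at hspan
    have hrange : (S : Set (CotangentSpace (X.presheaf.stalk (ι x)))) = Set.range fun s : S => s.1 := by simp
    rw [SetLike.mem_coe, hrange, Submodule.mem_span_range_iff_exists_fun] at hspan
    obtain ⟨c, hc⟩ := hspan
    choose c' hc' using fun s => residue_surjective (c s)
    refine ⟨fun s => (ι.stalkMap x).hom (c' s), ?_⟩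
    have h2 : (maximalIdeal (X.presheaf.stalk (ι x))).toCotangent (∑ s, c' s • t0 s) =
        ∑ s, c s • s.1 := by
      rw [map_sum]
      refine Finset.sum_congr rfl fun s _ => ?_
      rw [LinearMap.map_smul, ← hc' s, ht0]
      rfl
    rw [hc, Ideal.toCotangent_eq] at h2
    have h3 := neg_mem h2
    rw [neg_sub] at h3
    have h4 := Ideal.mem_map_of_mem (ι.stalkMap x).hom h3
    rw [Ideal.map_pow] at h4
    have h5 : (maximalIdeal (X.presheaf.stalk (ι x))).map (ι.stalkMap x).hom ≤ maximalIdeal (X'.presheaf.stalk x) :=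
      Ideal.map_le_iff_le_comap.2 fun z hz => map_nonunit (ι.stalkMap x).hom z hz
    have h6 := Ideal.pow_right_mono h5 2 h4
    convert h6 using 1
    rw [map_sub, AddSubmonoidClass.coe_finset_sum, map_sum]
    congr 1
    · show (g.stalkMap x).hom ((ιY.stalkMap (g x)).hom a1) = _
      refine Eq.trans (show _ = _ from key) ?_
      show _ = (ι.stalkMap x).hom ((FixPt.stalkMapAt f (ι x) (f (ι x)) rfl) a0)
      rw [GrothLib.CotTangent.stalkMapAt_rfl]
      rfl
    · refine Finset.sum_congr rfl fun s _ => ?_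
      simp only [SetLike.val_smul, smul_eq_mul, map_mul]
      rfl


/-- Let k be an algebraically closed field of characteristic zero, X and Y schemes of finite type over
k, f : X → Y a k-morphism and r a natural number. Let X_r be the set of closed points x of X such
that the tangent map T_x f : T_x X → T_{f(x)} Y has rank at most r — equivalently, the image of the
cotangent map m_{f(x)}/m_{f(x)}^2 → m_x/m_x^2 is contained in the span of at most r vectors over the
residue field. Then the closure of f(X_r) in Y has (topological Krull) dimension at most r. -/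
theorem result (k : Type u) [Field k] [IsAlgClosed k] [CharZero k]
    {X Y : Scheme.{u}} (qX : X ⟶ Spec (CommRingCat.of k)) (qY : Y ⟶ Spec (CommRingCat.of k))
    [LocallyOfFiniteType qX] [QuasiCompact qX] [LocallyOfFiniteType qY] [QuasiCompact qY]
    (f : X ⟶ Y) (hf : f ≫ qY = qX) (r : ℕ) :
    topologicalKrullDim ↥(closure (f.base '' {x : ↥X | IsClosed ({x} : Set ↥X) ∧
      ∃ S : Finset (IsLocalRing.CotangentSpace (X.presheaf.stalk x)), S.card ≤ r ∧
        (LinearMap.range (FixPt.cotangentMapAt f x (f.base x) rfl) : Set (IsLocalRing.CotangentSpace (X.presheaf.stalk x))) ⊆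
          (Submodule.span (IsLocalRing.ResidueField (X.presheaf.stalk x))
            (S : Set (IsLocalRing.CotangentSpace (X.presheaf.stalk x))) : Set (IsLocalRing.CotangentSpace (X.presheaf.stalk x)))})) ≤ r := by
  set A : Set X := {x : ↥X | IsClosed ({x} : Set ↥X) ∧
      ∃ S : Finset (IsLocalRing.CotangentSpace (X.presheaf.stalk x)), S.card ≤ r ∧
        (LinearMap.range (FixPt.cotangentMapAt f x (f.base x) rfl) : Set (IsLocalRing.CotangentSpace (X.presheaf.stalk x))) ⊆
          (Submodule.span (IsLocalRing.ResidueField (X.presheaf.stalk x))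
            (S : Set (IsLocalRing.CotangentSpace (X.presheaf.stalk x))) : Set (IsLocalRing.CotangentSpace (X.presheaf.stalk x)))} with hA
  haveI : IsLocallyNoetherian X := LocallyOfFiniteType.isLocallyNoetherian qX
  haveI : CompactSpace X := QuasiCompact.compactSpace_of_compactSpace qX
  haveI : IsNoetherian X := {}
  let T : Set X := closure A
  have hfin := TopologicalSpace.NoetherianSpace.finite_irreducibleComponents (α := T)
  have hTemb : Topology.IsClosedEmbedding (Subtype.val : T → X) := isClosed_closure.isClosedEmbedding_subtypeVal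
  have hdimK : ∀ K ∈ irreducibleComponents T,
      topologicalKrullDim ↥(closure (f.base '' ((Subtype.val : T → X) '' K))) ≤ r := by
    intro K hK
    refine dim_closure_image_component_le k qX qY f hf r A _ (hTemb.isClosedMap K (isClosed_of_mem_irreducibleComponents K hK))
      (hK.1.image _ continuous_subtype_val.continuousOn) (fun x hx => hx) ?_
    rintro O hO ⟨x, hxO, x', hx'K, rfl⟩
    have hothers : IsClosed (⋃₀ (irreducibleComponents T \ {K})) := by
      rw [Set.sUnion_eq_biUnion]
      exact hfin.sdiff.isClosed_biUnion fun W hW ↦ isClosed_of_mem_irreducibleComponents W hW.1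
    have hcl := closure_sUnion_irreducibleComponents_sdiff_singleton hfin _ hK
    have hne : ((Subtype.val ⁻¹' O) ∩ (⋃₀ (irreducibleComponents T \ {K}))ᶜ).Nonempty :=
      mem_closure_iff.1 (hcl.symm ▸ hx'K) _ (hO.preimage continuous_subtype_val) hxO
    obtain ⟨w, hwO, hwother⟩ := hne
    obtain ⟨O1, hO1, hO1e⟩ := isOpen_induced_iff.1 hothers.isOpen_compl
    have hw1 : w.1 ∈ O ∩ O1 := ⟨hwO, show w ∈ Subtype.val ⁻¹' O1 by rw [hO1e]; exact hwother⟩
    obtain ⟨a, ⟨haO, haO1⟩, haA⟩ := mem_closure_iff.1 w.2 _ (hO.inter hO1) hw1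
    let a' : T := ⟨a, subset_closure haA⟩
    have ha'o : a' ∉ ⋃₀ (irreducibleComponents T \ {K}) := by
      have : a' ∈ Subtype.val ⁻¹' O1 := haO1
      rwa [hO1e] at this
    have ha'K : a' ∈ K := by
      by_contra hh
      exact ha'o ⟨irreducibleComponent a', ⟨irreducibleComponent_mem_irreducibleComponents a',
        fun he => hh ((Set.mem_singleton_iff.1 he) ▸ mem_irreducibleComponent)⟩, mem_irreducibleComponent⟩
    exact ⟨a, ⟨haO, a', ha'K, rfl⟩, haA⟩
  refine GrothLib.CurveLocus.topologicalKrullDim_le_of_components _ fun W hW => ?_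
  have hWimg : IsIrreducible ((Subtype.val) '' W) := hW.1.image _ continuous_subtype_val.continuousOn
  have hcover : (closure (f.base '' A) : Set Y) ⊆
      ⋃₀ ((fun K => closure (f.base '' ((Subtype.val : T → X) '' K))) '' irreducibleComponents T) := by
    refine closure_minimal ?_ ?_
    · rintro _ ⟨x, hx, rfl⟩
      let x' : T := ⟨x, subset_closure hx⟩
      exact ⟨_, ⟨irreducibleComponent x', irreducibleComponent_mem_irreducibleComponents x', rfl⟩,
        subset_closure ⟨x, ⟨x', mem_irreducibleComponent, rfl⟩, rfl⟩⟩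
    · rw [Set.sUnion_eq_biUnion]
      exact (hfin.image _).isClosed_biUnion fun _ ⟨_, _, h⟩ => h ▸ isClosed_closure
  set F := fun K : Set T => closure (f.base '' ((Subtype.val : T → X) '' K)) with hF
  obtain ⟨Z, hZmem, hWZ⟩ := isIrreducible_iff_sUnion_isClosed.1 hWimg (hfin.image F).toFinset
    (fun z hz => by obtain ⟨_, _, rfl⟩ := (Set.Finite.mem_toFinset _).1 hz; exact isClosed_closure)
    (by
      rw [Set.Finite.coe_toFinset]
      exact Set.Subset.trans (Subtype.coe_image_subset _ _) hcover)
  obtain ⟨K, hK, rfl⟩ := (Set.Finite.mem_toFinset _).1 hZmem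
  refine le_trans ?_ (hdimK K hK)
  exact Topology.IsInducing.topologicalKrullDim_le
    (f := fun w : W => (⟨w.1.1, hWZ ⟨w.1, w.2, rfl⟩⟩ : closure (f.base '' ((Subtype.val : T → X) '' K))))
    ((Topology.IsEmbedding.subtypeVal.comp Topology.IsEmbedding.subtypeVal).codRestrict _ _).isInducing

end Groth.Agent.S10938
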