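import Groth.Statements.S10939
import Groth.Agent.Lib.LinProj.Finite

set_option autoImplicit false
set_option backward.isDefEq.respectTransparency false
universe u
open CategoryTheory CategoryTheory.Limits AlgebraicGeometry
open Variety

namespace Groth.Agent.S10939

/-- Let k be a field, P = P^n_k = Proj k[x_0, …, x_n], and i_X : X → P, i_Y : Y → P closed immersions
with X of dimension r. Then there are homogeneous polynomials h_1, …, h_{r+1} of positive degree,
with basic opens D_j = D_+(h_j) and hypersurfaces H_j = P ∖ D_j, such that every H_j contains Y and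
X ∖ Y = ⋃_j (X ∖ H_j), i.e. every point of X outside Y lies in some D_j; moreover each X ∖ H_j = X ∩
D_j is affine. (The published statement takes X and Y reduced; the assertion only concerns the
underlying closed sets.) -/
theorem result (k : Type u) [Field k] (n r : ℕ)
    {X Y : Scheme.{u}} (iX : X ⟶ CohB1.ProjSpace n k) (iY : Y ⟶ CohB1.ProjSpace n k)
    [IsClosedImmersion iX] [IsClosedImmersion iY] (hX : topologicalKrullDim ↥X = r) :
    ∃ (h : Fin (r + 1) → MvPolynomial (Fin (n + 1)) k) (D : Fin (r + 1) → (CohB1.ProjSpace n k).Opens),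
      (∀ j, D j = Proj.basicOpen (CohB1.polyGrading n k) (h j)) ∧
      (∀ j, ∃ d : ℕ, 0 < d ∧ (h j).IsHomogeneous d) ∧
      (∀ j, Set.range iY.base ⊆ (D j : Set ↥(CohB1.ProjSpace n k))ᶜ) ∧
      (Set.range iX.base \ Set.range iY.base ⊆ ⋃ j, (D j : Set ↥(CohB1.ProjSpace n k))) ∧
      ∀ j, IsAffineOpen (iX ⁻¹ᵁ (D j)) := by
  haveI := GrothLib.LinProj.noetherianSpace_projSpace (n := n) (k := k)
  let P := CohB1.polyGrading n k
  obtain ⟨U, hU, hcov⟩ := GrothLib.LinProj.exists_cover iY.isClosedEmbedding.isClosed_range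
    {U | ∃ (d : ℕ) (h : MvPolynomial (Fin (n + 1)) k), 0 < d ∧ h.IsHomogeneous d ∧
      Set.range iY.base ⊆ (U : Set ↥(CohB1.ProjSpace n k))ᶜ ∧ U = Proj.basicOpen P h}
    (fun T hT hTW => by
      obtain ⟨d, h, hd, hh, hdis, hTh⟩ := GrothLib.LinProj.exists_hom_avoid iY.isClosedEmbedding.isClosed_range T hT hTW
      exact ⟨Proj.basicOpen P h, ⟨d, h, hd, hh, fun x hx hxU => Set.disjoint_left.1 hdis hxU hx, rfl⟩, hTh⟩)
    (r + 1) (Set.range iX.base) iX.isClosedEmbedding.isClosed_range
    ((GrothLib.LinProj.dimLT_range_of_isEmbedding iX iX.isClosedEmbedding.isEmbedding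
      (GrothLib.Snapper.dimLT_of_dim_le
        ((IsHomeomorph.topologicalKrullDim_eq _ (Homeomorph.Set.univ X).isHomeomorph).le.trans hX.le))).mono
      Set.diff_subset)
  choose d h hd hh hY hUh using hU
  refine ⟨h, U, hUh, fun j => ⟨d j, hd j, hh j⟩, hY, hcov, fun j => ?_⟩
  rw [hUh j]
  exact (Proj.isAffineOpen_basicOpen P _ (hh j) (hd j)).preimage iX

end Groth.Agent.S10939
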