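import Groth.Statements.S10940
import Groth.Agent.Lib.LinProj.Finite

set_option autoImplicit false
universe u
open CategoryTheory CategoryTheory.Limits AlgebraicGeometry
open Variety

namespace Groth.Agent.S10940

/-- Let k be a field and X a quasi-projective variety over k of dimension r: an integral scheme with an
immersion j : X → P^n_k. Then X admits a cover by r + 1 affine open subschemes. (Consequently the
cohomology of every quasi-coherent O_X-module vanishes above degree r; that consequence is the
general vanishing above the number of affines in a cover and is not restated here. The published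
statement is for varieties over an algebraically closed field; the argument, r + 1 hypersurfaces
through the boundary of the closure of X, works over any field, so k is an arbitrary field here.) -/
theorem result (k : Type u) [Field k] (n r : ℕ)
    {X : Scheme.{u}} (j : X ⟶ CohB1.ProjSpace n k) [IsImmersion j] [IsIntegral X]
    (hX : topologicalKrullDim ↥X = r) :
    ∃ U : Fin (r + 1) → X.Opens, (∀ i, IsAffineOpen (U i)) ∧ ⨆ i, U i = ⊤ := by
  haveI := GrothLib.LinProj.noetherianSpace_projSpace (n := n) (k := k)
  let P := CohB1.polyGrading n k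
  have hlc : IsLocallyClosed (Set.range j.base) := j.isLocallyClosed_range
  let W : Set ↥(CohB1.ProjSpace n k) := closure (Set.range j.base) \ Set.range j.base
  have hW : IsClosed W := by
    have h := hlc.isOpen_coborder.isClosed_compl
    rwa [coborder, compl_compl] at h
  obtain ⟨U, hU, hcov⟩ := GrothLib.LinProj.exists_cover hW
    {U | ∃ (d : ℕ) (h : MvPolynomial (Fin (n + 1)) k), 0 < d ∧ h.IsHomogeneous d ∧
      Disjoint (U : Set ↥(CohB1.ProjSpace n k)) W ∧ U = Proj.basicOpen P h}
    (fun T hT hTW => by
      obtain ⟨d, h, hd, hh, hdis, hTh⟩ := GrothLib.LinProj.exists_hom_avoid hW T hT hTW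
      exact ⟨Proj.basicOpen P h, ⟨d, h, hd, hh, hdis, rfl⟩, hTh⟩)
    (r + 1) (closure (Set.range j.base)) isClosed_closure
    ((GrothLib.LinProj.dimLT_range_of_isEmbedding j j.isEmbedding
      (GrothLib.Snapper.dimLT_of_dim_le
        ((IsHomeomorph.topologicalKrullDim_eq _ (Homeomorph.Set.univ X).isHomeomorph).le.trans hX.le))).mono
      fun x hx => by_contra fun h => hx.2 ⟨hx.1, h⟩)
  choose d h hd hh hdis hUh using hU
  refine ⟨fun i => j ⁻¹ᵁ U i, fun i => ?_, eq_top_iff.2 fun x _ => ?_⟩
  · haveI : IsAffine (U i).toScheme := by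
      rw [hUh i]
      exact Proj.isAffineOpen_basicOpen P _ (hh i) (hd i)
    have hcl : IsClosed (Set.range (j ∣_ U i).base) := by
      rw [show Set.range (j ∣_ U i).base = (U i).ι ⁻¹' closure (Set.range j.base) from Set.ext fun y => ?_]
      · exact isClosed_closure.preimage (U i).ι.continuous
      constructor
      · rintro ⟨x, rfl⟩
        refine subset_closure ⟨x.1, ?_⟩
        rw [← morphismRestrict_base_coe]
        rfl
      · intro hy
        obtain ⟨x, hx⟩ : y.1 ∈ Set.range j.base := by_contra fun hn => Set.disjoint_left.1 (hdis i) y.2 ⟨hy, hn⟩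
        exact ⟨⟨x, show j x ∈ U i from hx ▸ y.2⟩, Subtype.ext ((morphismRestrict_base_coe j (U i) _).trans hx)⟩
    haveI : IsImmersion (j ∣_ U i) := IsZariskiLocalAtTarget.restrict ‹IsImmersion j› _
    haveI : IsClosedImmersion (j ∣_ U i) := IsClosedImmersion.of_isPreimmersion _ hcl
    exact isAffine_of_isAffineHom (j ∣_ U i)
  · obtain ⟨i, hi⟩ := Set.mem_iUnion.1 (hcov ⟨subset_closure ⟨x, rfl⟩, fun h => h.2 ⟨x, rfl⟩⟩)
    exact TopologicalSpace.Opens.mem_iSup.2 ⟨i, hi⟩

end Groth.Agent.S10940
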