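import Groth.Statements.S10942
import Groth.Agent.Lib.SheafHom19.Flasque
import Groth.Agent.Lib.OX.Tensor

set_option autoImplicit false
universe u
open CategoryTheory AlgebraicGeometry Opposite
open Coherent

namespace Groth.Agent.S10942

/-- Let X be a scheme, F an O_X-module for which the internal Hom functor Hom(F, -) exists (as the right
adjoint of F ⊗ -; always true) and I an injective object of the category of O_X-modules. Then the
O_X-module Hom(F, I) is flasque: for all opens U ⊆ V of X the restriction map Hom(F, I)(V) → Hom(F,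
I)(U) is surjective. -/
theorem result (X : Scheme.{u}) (F I : X.Modules)
    [DCoh.HasSheafHom F] (hI : Injective I) (U V : X.Opens) (hUV : U ≤ V) :
    Function.Surjective (((DCoh.sheafHom F).obj I).val.map (homOfLE hUV).op).hom := by
  let eb : (DCoh.tensorBi (X := X)).obj F ≅ (ModSite.tensorBi X.sheaf).flip.obj F :=
    ((GrothLib.OX.tensorBraiding (X := X)).app F).symm
  haveI : ModSite.HasSheafHom (O := X.sheaf) F :=
    @Functor.isLeftAdjoint_of_iso _ _ _ _ _ _ eb (inferInstanceAs (DCoh.HasSheafHom F))
  haveI := hI
  let e : (ModSite.sheafHom (O := X.sheaf) F).obj I ≅ (DCoh.sheafHom F).obj I :=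
    (((ModSite.sheafHomAdj (O := X.sheaf) F).ofNatIsoLeft eb.symm).rightAdjointUniq
      (DCoh.sheafHomAdj F)).app I
  intro s
  haveI : Mono (homOfLE hUV) := inferInstance
  obtain ⟨t, ht⟩ := @GrothLib.SheafHom19.sheafHom_map_surjective _ _ _ X.sheaf F I _ hI _ _ (homOfLE hUV) _
    (e.inv.val.app (op U) s)
  refine ⟨e.hom.val.app (op V) t, ?_⟩
  refine (PresheafOfModules.naturality_apply e.hom.val (homOfLE hUV).op t).symm.trans ?_
  refine (congrArg (e.hom.val.app (op U)) ht).trans ?_
  exact congrArg (fun q => q.val.app (op U) s) e.inv_hom_id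

end Groth.Agent.S10942
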