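import Groth.Statements.S10944
import Mathlib.AlgebraicGeometry.Morphisms.UniversallyOpen
-- import your own Groth.Agent.* helpers here

set_option autoImplicit false
universe u
open CategoryTheory AlgebraicGeometry
open FlatMor

namespace Groth.Agent.S10944

/-- Let f : X → Y be a flat morphism of Noetherian schemes and Y' an irreducible component of Y. Then
f⁻¹(Y') is the union of the irreducible components Z of X with f(Z) ⊆ Y'. -/
theorem result {X Y : Scheme.{u}}
    [IsNoetherian X] [IsNoetherian Y] (f : X ⟶ Y) [Flat f]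
    (Y' : Set ↥Y) (hY' : Y' ∈ irreducibleComponents ↥Y) :
    f.base ⁻¹' Y' = ⋃₀ {Z : Set ↥X | Z ∈ irreducibleComponents ↥X ∧ f.base '' Z ⊆ Y'} := by
  ext x
  constructor
  · intro hx
    obtain ⟨η, hη⟩ : ∃ η, IsGenericPoint η Y' :=
      QuasiSober.sober hY'.1 (isClosed_of_mem_irreducibleComponents _ hY')
    obtain ⟨x', hx', hfx'⟩ := Flat.generalizingMap (f := f) (hη.specializes hx)
    obtain ⟨Z, hZ, hxZ⟩ : ∃ Z ∈ irreducibleComponents X, x' ∈ Z :=
      ⟨irreducibleComponent x', irreducibleComponent_mem_irreducibleComponents x',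
        mem_irreducibleComponent⟩
    obtain ⟨z, hz⟩ : ∃ z, IsGenericPoint z Z :=
      QuasiSober.sober hZ.1 (isClosed_of_mem_irreducibleComponents _ hZ)
    have h1 : f.base z ⤳ η := hfx' ▸ (hz.specializes hxZ).map f.continuous
    have h2 : closure {f.base z} = Y' := by
      have hle : Y' ⊆ closure {f.base z} := by
        rw [← hη.def]
        exact h1.closure_subset
      exact (hY'.2 isIrreducible_singleton.closure hle).antisymm hle
    refine ⟨Z, ⟨hZ, ?_⟩, hx'.mem_closed (isClosed_of_mem_irreducibleComponents _ hZ) hxZ⟩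
    rintro _ ⟨w, hw, rfl⟩
    rw [← h2]
    exact ((hz.specializes hw).map f.continuous).mem_closure
  · rintro ⟨Z, ⟨-, hZ⟩, hxZ⟩
    exact hZ ⟨x, hxZ, rfl⟩

end Groth.Agent.S10944
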