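import Groth.Statements.S10945
import Groth.Agent.Lib.OX.LocalLift

set_option autoImplicit false
universe u
open CategoryTheory AlgebraicGeometry Opposite
open Coherent

namespace Groth.Agent.S10945

open CategoryTheory.Limits in
theorem gen {C : Type (u+1)} [Category.{u} C] [Abelian C] (S : ShortComplex C) (hS : S.ShortExact)
    {P₁ P₃ P : C} (p₁ : P₁ ⟶ S.X₁) (p₃ : P₃ ⟶ S.X₃) [Epi p₁] [Epi p₃] (q : P₃ ⟶ S.X₂)
    (hq : q ≫ S.g = p₃) (r : P ⟶ S.X₂) (a : P₁ ⟶ P) (ha : a ≫ r = p₁ ≫ S.f) (b : P₃ ⟶ P)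
    (hb : b ≫ r = q) : Epi r := by
  refine Preadditive.epi_of_cancel_zero _ fun {Z} h hh => ?_
  have h1 : p₁ ≫ S.f ≫ h = 0 := by rw [← Category.assoc, ← ha, Category.assoc, hh, comp_zero]
  have h2 : S.f ≫ h = 0 := (cancel_epi p₁).1 (h1.trans comp_zero.symm)
  haveI := hS.epi_g
  haveI := hS.mono_f
  obtain ⟨h', hh'⟩ := CokernelCofork.IsColimit.desc' hS.gIsCokernel h h2
  have hh'' : S.g ≫ h' = h := hh'
  have h3 : p₃ ≫ h' = 0 := by
    rw [← hq, Category.assoc, hh'', ← hb, Category.assoc, hh, comp_zero]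
  rw [← hh'', (cancel_epi p₃).1 (h3.trans comp_zero.symm), comp_zero]

/-- Let X be a scheme and 0 → F' → F → F'' → 0 a short exact sequence of O_X-modules whose map on global
sections Γ(X, F) → Γ(X, F'') is surjective. If F' and F'' are generated by global sections (each is
a quotient of a free O_X-module), then F is generated by global sections. -/
theorem result (X : Scheme.{u})
    (S : ShortComplex X.Modules) (hS : S.ShortExact)
    (hsurj : Function.Surjective (S.g.val.app (op ⊤)).hom)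
    (h1 : Curv2.IsGloballyGenerated S.X₁) (h3 : Curv2.IsGloballyGenerated S.X₃) :
    Curv2.IsGloballyGenerated S.X₂ := by
  obtain ⟨ι₁, p₁, hp₁⟩ := h1
  obtain ⟨ι₃, p₃, hp₃⟩ := h3
  haveI := hp₁
  haveI := hp₃
  haveI := hS.epi_g
  let v : ι₃ → S.X₃.val.obj (op ⊤) := fun i =>
    (SheafOfModules.ιFree i ≫ p₃).val.app (op ⊤) (1 : X.ringCatSheaf.obj.obj (op ⊤))
  choose w hw using fun i => hsurj (v i)
  let q : (SheafOfModules.free ι₃ : X.Modules) ⟶ S.X₂ :=
    Limits.Sigma.desc fun i => GrothLib.OX.ofTop (w i)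
  have hq : q ≫ S.g = p₃ := by
    refine Limits.Sigma.hom_ext _ _ fun i => ?_
    refine ((Category.assoc _ _ _).symm.trans (congrArg (· ≫ S.g) (Limits.Sigma.ι_desc _ i))).trans ?_
    refine GrothLib.OX.hom_ext_top _ _ ?_
    exact (congrArg (S.g.val.app (op ⊤)) (GrothLib.OX.ofTop_app_top (w i))).trans (hw i)
  let r : (SheafOfModules.free (ι₁ ⊕ ι₃) : X.Modules) ⟶ S.X₂ :=
    Limits.Sigma.desc (Sum.elim (fun i => SheafOfModules.ιFree i ≫ p₁ ≫ S.f)
      (fun i => SheafOfModules.ιFree i ≫ q))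
  let a : (SheafOfModules.free ι₁ : X.Modules) ⟶ (SheafOfModules.free (ι₁ ⊕ ι₃) : X.Modules) :=
    Limits.Sigma.desc fun i => SheafOfModules.ιFree (Sum.inl i)
  let b : (SheafOfModules.free ι₃ : X.Modules) ⟶ (SheafOfModules.free (ι₁ ⊕ ι₃) : X.Modules) :=
    Limits.Sigma.desc fun i => SheafOfModules.ιFree (Sum.inr i)
  have ha : a ≫ r = p₁ ≫ S.f := Limits.Sigma.hom_ext _ _ fun i =>
    ((Category.assoc _ _ _).symm.trans ((congrArg (· ≫ r) (Limits.Sigma.ι_desc _ i)).trans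
      (Limits.Sigma.ι_desc _ (Sum.inl i))))
  have hb : b ≫ r = q := Limits.Sigma.hom_ext _ _ fun i =>
    ((Category.assoc _ _ _).symm.trans ((congrArg (· ≫ r) (Limits.Sigma.ι_desc _ i)).trans
      (Limits.Sigma.ι_desc _ (Sum.inr i))))
  exact ⟨ι₁ ⊕ ι₃, r, @gen X.Modules _ _ S hS _ _ _ p₁ p₃ hp₁ hp₃ q hq r a ha b hb⟩

end Groth.Agent.S10945
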