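import Groth.Statements.S10947
import Groth.Agent.Lib.ResProp22.Ample
import Groth.Agent.Lib.Ample.ProjAmple
import Groth.Agent.Lib.Ample.RelAmple
import Groth.Agent.Lib.Cohom.Vanishing
import Groth.Agent.Lib.CMReg.Koszul
import Groth.Agent.Lib.CMReg.ProjSpace
import Groth.Agent.Lib.QCoh.SupportExact
import Groth.Agent.Lib.Euler.Coh

set_option autoImplicit false
universe u
open CategoryTheory AlgebraicGeometry
open Coherent

namespace Groth.Agent.S10947

/-- Let k be a field and X a quasi-projective scheme over k, given with an immersion ι : X → P^N_k into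
a projective space. If n is a natural number with H^i(X, E) = 0 for all finite locally free
O_X-modules E and all i > n, then H^i(X, F) = 0 for all coherent O_X-modules F (quasi-coherent of
finite type) and all i > n. -/
theorem result
    (k : Type u) [Field k] (N : ℕ) {X : Scheme.{u}} (ι : X ⟶ CohB1.ProjSpace N k) [IsImmersion ι]
    (n : ℕ) (h : ∀ E : X.Modules, FlatMod.IsFinLocFree E → ∀ i : ℕ, n < i → Subsingleton (Coh.HH X E i))
    (F : X.Modules) (hF : Coh.IsCoh F) (i : ℕ) (hi : n < i) :
    Subsingleton (Coh.HH X F i) := by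
  haveI : IsLocallyNoetherian X := LocallyOfFiniteType.isLocallyNoetherian ι
  haveI : CompactSpace X := by
    have := ι.isEmbedding.isInducing.noetherianSpace
    infer_instance
  have hA : CohB1.IsAmple ((Scheme.Modules.pullback ι).obj (Twist.twistProjSpace N k 1)) :=
    GrothLib.Ample.isAmple_pullback_of_isEmbedding ι ι.isEmbedding (GrothLib.Ample.isAmple_twistProjSpace_one N k)
  have hRP := GrothLib.ResProp22.hasResolutionProperty_of_isAmple hA
  obtain ⟨d, hd⟩ := GrothLib.Cohom.exists_vanishFrom_of_isCompact (X := X) (V := ⊤) isCompact_univ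
  suffices H : ∀ m i : ℕ, n < i → d ≤ i + m → ∀ G : X.Modules, Coh.IsCoh G → Subsingleton (Coh.HH X G i) from
    H d i hi (by omega) F hF
  intro m
  induction m with
  | zero =>
    intro i _ hdi G hG
    haveI : G.IsQuasicoherent := hG.1
    exact (hd G).subsingleton_HH (by omega)
  | succ m ih =>
    intro i hi hdi G hG
    obtain ⟨E, p, hE, hp⟩ := hRP G hG.1 hG.2
    haveI := hp
    let S := ShortComplex.mk (Limits.kernel.ι p) p (Limits.kernel.condition p)
    have hS : S.ShortExact := { exact := ShortComplex.exact_of_f_is_kernel _ (Limits.kernelIsKernel p) }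
    exact GrothLib.CMReg.subsingleton_X₃ hS (h E hE i hi)
      (ih (i + 1) (by omega) (by omega) _
        (GrothLib.QCoh.isCoh_kernel p (GrothLib.Euler.isCoh_of_isFinLocFree hE) hG))

end Groth.Agent.S10947
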