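import Groth.Statements.S10948
import Groth.Agent.Lib.FinGen9.Basic

set_option autoImplicit false
universe u
open CategoryTheory AlgebraicGeometry
open Coherent

namespace Groth.Agent.S10948

/-- Let f : X → Y be a finite surjective morphism of integral Noetherian schemes. Then there are an
integer r ≥ 1, a coherent O_X-module M (quasi-coherent of finite type) and a morphism of O_Y-modules
α : O_Y^r → f_*M (O_Y^r the free O_Y-module on r generators) such that the map induced by α on
stalks of the underlying abelian sheaves at the generic point of Y is an isomorphism. -/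
theorem result
    {X Y : Scheme.{u}} [IsIntegral X] [IsNoetherian X] [IsIntegral Y] [IsNoetherian Y]
    (f : X ⟶ Y) [IsFinite f] [Surjective f] :
    ∃ (r : ℕ) (M : X.Modules) (α : (SheafOfModules.free (ULift.{u} (Fin r)) : Y.Modules) ⟶
        (Scheme.Modules.pushforward f).obj M),
      0 < r ∧ Coh.IsCoh M ∧
      IsIso ((TopCat.Presheaf.stalkFunctor AddCommGrpCat.{u} (genericPoint ↥Y)).map
        ((SheafOfModules.toSheaf Y.ringCatSheaf).map α).hom) := by
  obtain ⟨r, M, α, hr, hM, hα⟩ := GrothLib.FinGen9.exists_free_to_push f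
  let e : (SheafOfModules.free (ULift.{u} (Fin r)) : Y.Modules) ≅ FlatMod.freeMod Y r :=
    Limits.Sigma.whiskerEquiv (f := fun _ : ULift.{u} (Fin r) => Coh.structureModule Y) (g := fun _ : Fin r => Coh.structureModule Y) Equiv.ulift fun _ => Iso.refl _
  refine ⟨r, M, e.hom ≫ α, hr, hM, (ConcreteCategory.isIso_iff_bijective _).2 ?_⟩
  show Function.Bijective (GrothLib.QCoh.stalkLin (e.hom ≫ α) (genericPoint Y))
  rw [show ⇑(GrothLib.QCoh.stalkLin (e.hom ≫ α) (genericPoint Y)) = ⇑(GrothLib.QCoh.stalkLin α (genericPoint Y)) ∘ ⇑(GrothLib.QCoh.stalkLin e.hom (genericPoint Y)) from funext (GrothLib.QCoh.stalkLin_comp e.hom α _)]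
  exact hα.comp ((GrothLib.OX.stalk (genericPoint Y)).mapIso e).toLinearEquiv.bijective

end Groth.Agent.S10948
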