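import Groth.Statements.S10949
import Groth.Agent.Lib.FinGen9.Basic

set_option autoImplicit false
universe u
open CategoryTheory CategoryTheory.Limits AlgebraicGeometry
open Coherent

namespace Groth.Agent.S10949

/-- Let f : X → Y be a finite surjective morphism of integral Noetherian schemes and F a coherent
O_Y-module (quasi-coherent of finite type). Then there are an integer r ≥ 1, a coherent O_X-module G
and a morphism of O_Y-modules β : f_*G → F^r (the coproduct of r copies of F) such that the map
induced by β on stalks of the underlying abelian sheaves at the generic point of Y is an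
isomorphism. -/
theorem result
    {X Y : Scheme.{u}} [IsIntegral X] [IsNoetherian X] [IsIntegral Y] [IsNoetherian Y]
    (f : X ⟶ Y) [IsFinite f] [Surjective f] (F : Y.Modules) (hF : Coh.IsCoh F) :
    ∃ (r : ℕ) (G : X.Modules) (β : (Scheme.Modules.pushforward f).obj G ⟶ ∐ fun _ : ULift.{u} (Fin r) => F),
      0 < r ∧ Coh.IsCoh G ∧
      IsIso ((TopCat.Presheaf.stalkFunctor AddCommGrpCat.{u} (genericPoint ↥Y)).map
        ((SheafOfModules.toSheaf Y.ringCatSheaf).map β).hom) := by
  obtain ⟨r, G, β, hr, hG, hβ⟩ := GrothLib.FinGen9.exists_push_to_pow f F hF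
  let e : (∐ fun _ : Fin r => F) ≅ (∐ fun _ : ULift.{u} (Fin r) => F) :=
    Limits.Sigma.whiskerEquiv (f := fun _ : Fin r => F) (g := fun _ : ULift.{u} (Fin r) => F) Equiv.ulift.symm fun _ => Iso.refl _
  refine ⟨r, G, β ≫ e.hom, hr, hG, (ConcreteCategory.isIso_iff_bijective _).2 ?_⟩
  show Function.Bijective (GrothLib.QCoh.stalkLin (β ≫ e.hom) (genericPoint Y))
  rw [show ⇑(GrothLib.QCoh.stalkLin (β ≫ e.hom) (genericPoint Y)) = ⇑(GrothLib.QCoh.stalkLin e.hom (genericPoint Y)) ∘ ⇑(GrothLib.QCoh.stalkLin β (genericPoint Y)) from funext (GrothLib.QCoh.stalkLin_comp β e.hom _)]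
  exact ((GrothLib.OX.stalk (genericPoint Y)).mapIso e).toLinearEquiv.bijective.comp hβ

end Groth.Agent.S10949
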