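import Groth.Statements.S10952
import Groth.Agent.Lib.CechAlt25.Vanish

set_option autoImplicit false
set_option linter.all false
universe u
open CategoryTheory
open CohTop

namespace Groth.Agent.S10952

open TopologicalSpace Opposite CategoryTheory.Limits in
/-- Take a topological space X, a presheaf P of abelian groups on it, and an open cover U of X indexed
by a finite set with n elements. Then the Cech cohomology of P with respect to U, computed from the
full complex of ordered cochains, is zero in every degree q with n ≤ q. -/
theorem result {X : TopCat.{u}} (P : (Opens X)ᵒᵖ ⥤ AddCommGrpCat.{u})
    {ι : Type u} [Finite ι] (U : ι → Opens X) (hU : iSup U = ⊤) (q : ℕ) (hq : Nat.card ι ≤ q) :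
    IsZero (CohTop.cechH P U q) := by
  exact GrothLib.CechAlt25.isZero_homology_of_card_le U P q hq

end Groth.Agent.S10952
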