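import Groth.Statements.S10953
import Mathlib.AlgebraicGeometry.Morphisms.Separated
import Mathlib.AlgebraicGeometry.Morphisms.Immersion
import Mathlib.AlgebraicGeometry.PullbackCarrier

set_option autoImplicit false
universe u
open RedSep

namespace Groth.Agent.S10953

open AlgebraicGeometry CategoryTheory in
/-- For a morphism of schemes f : X → S to an affine scheme S such that any two points of X with the
same image in S lie in one common affine open subset of X, the morphism f is separated. -/
theorem result {X S : Scheme.{u}} [IsAffine S] (f : X ⟶ S)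
    (h : ∀ x y : X, f x = f y → ∃ U : X.Opens, IsAffineOpen U ∧ x ∈ U ∧ y ∈ U) :
    IsSeparated f := by
  refine ⟨IsClosedImmersion.of_isPreimmersion _ (isClosed_of_closure_subset fun z hz ↦ ?_)⟩
  have hxy : f ((Limits.pullback.fst f f) z) = f ((Limits.pullback.snd f f) z) := by
    rw [← Scheme.Hom.comp_apply, ← Scheme.Hom.comp_apply, Limits.pullback.condition]
  obtain ⟨U, hU, hx, hy⟩ := h _ _ hxy
  let m := Limits.pullback.map (U.ι ≫ f) (U.ι ≫ f) f f U.ι U.ι (𝟙 S) (by simp) (by simp)
  have hmo : IsOpenImmersion m :=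
    MorphismProperty.pullbackMap (P := @IsOpenImmersion) inferInstance inferInstance rfl rfl
  have hmr : z ∈ Set.range m := by
    rw [Scheme.Pullback.range_map, Scheme.Opens.range_ι]
    exact ⟨hx, hy⟩
  obtain ⟨z', rfl⟩ := hmr
  have e : Limits.pullback.diagonal (U.ι ≫ f) ≫ m = U.ι ≫ Limits.pullback.diagonal f := by
    apply Limits.pullback.hom_ext <;> simp only [m, Limits.pullback.map, Limits.pullback.diagonal, Category.assoc] <;> first | (erw [Limits.pullback.lift_fst, Limits.pullback.lift_fst, Limits.pullback.lift_fst_assoc]; simp) | (erw [Limits.pullback.lift_snd, Limits.pullback.lift_snd, Limits.pullback.lift_snd_assoc]; simp)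
  have hpre : m.base ⁻¹' Set.range (Limits.pullback.diagonal f) ⊆ Set.range (Limits.pullback.diagonal (U.ι ≫ f)) := by
    rintro w ⟨x, hxw⟩
    have hxU : x ∈ U := by
      have h1 : (Limits.pullback.fst f f) ((Limits.pullback.diagonal f) x) = x := by
        rw [← Scheme.Hom.comp_apply, Limits.pullback.diagonal_fst]; rfl
      rw [← h1, hxw, ← Scheme.Hom.comp_apply, Limits.pullback.lift_fst, Scheme.Hom.comp_apply]
      exact (Limits.pullback.fst (U.ι ≫ f) (U.ι ≫ f) w).2
    refine ⟨⟨x, hxU⟩, m.isOpenEmbedding.injective ?_⟩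
    rw [← hxw, ← Scheme.Hom.comp_apply, e, Scheme.Hom.comp_apply]
    rfl
  have : IsAffine U := hU
  have : IsSeparated (U.ι ≫ f) := inferInstance
  have h2 : z' ∈ closure (m.base ⁻¹' Set.range (Limits.pullback.diagonal f)) := by
    rw [← m.isOpenEmbedding.isOpenMap.preimage_closure_eq_closure_preimage m.continuous]
    exact hz
  obtain ⟨w, hw⟩ := closure_minimal hpre (Limits.pullback.diagonal (U.ι ≫ f)).isClosedEmbedding.isClosed_range h2
  exact ⟨U.ι w, by rw [← hw, ← Scheme.Hom.comp_apply, ← Scheme.Hom.comp_apply, e]⟩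

end Groth.Agent.S10953
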