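import Groth.Statements.S10955
import Groth.Agent.Lib.LocProp.EtaleTowerLocal
-- import your own Groth.Agent.* helpers here

set_option autoImplicit false
universe u
open scoped TensorProduct
open Unram

namespace Groth.Agent.S10955

/-- Let A → B → C be ring homomorphisms with B and C finitely presented over A, let q be a prime ideal
of C and p its inverse image in B, and assume that C is smooth over A at q and that B is smooth over
A at p. Then C is smooth over B at q if and only if the map obtained from the canonical map C ⊗_B
Ω_{B/A} → Ω_{C/A} by tensoring over C with the residue field k(q) is injective. -/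
theorem result (A B C : Type u) [CommRing A] [CommRing B]
    [CommRing C] [Algebra A B] [Algebra B C] [Algebra A C] [IsScalarTower A B C]
    [Algebra.FinitePresentation A B] [Algebra.FinitePresentation A C] (q : Ideal C) [q.IsPrime]
    (hC : Algebra.IsSmoothAt A q) (hB : Algebra.IsSmoothAt A (q.under B)) :
    Algebra.IsSmoothAt B q ↔
      Function.Injective ((KaehlerDifferential.mapBaseChange A B C).lTensor q.ResidueField) := by
  have : Algebra.FormallySmooth A (Localization.AtPrime q) := hC
  let Bp := Localization.AtPrime (q.under B)
  let Cq := Localization.AtPrime q
  have : Algebra.FormallySmooth A Bp := hB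
  have : Algebra.EssFiniteType B Bp := Algebra.EssFiniteType.of_isLocalization Bp (q.under B).primeCompl
  have : Algebra.EssFiniteType A Bp := Algebra.EssFiniteType.comp A B Bp
  have : Algebra.EssFiniteType C Cq := Algebra.EssFiniteType.of_isLocalization Cq q.primeCompl
  have : Algebra.EssFiniteType A Cq := Algebra.EssFiniteType.comp A C Cq
  have : Algebra.FormallyEtale C Cq := Algebra.FormallyEtale.of_isLocalization q.primeCompl
  have : Module.Free Cq (KaehlerDifferential A Cq) := Module.free_of_flat_of_isLocalRing
  show Algebra.FormallySmooth B Cq ↔ _
  rw [GrothLib.LocProp.formallySmooth_iff_exists_retraction A B Cq,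
    IsLocalRing.split_injective_iff_lTensor_residueField_injective]
  exact GrothLib.LocProp.injective_lTensor_localization_iff A B C q

end Groth.Agent.S10955
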