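import Groth.Statements.S10956


set_option autoImplicit false
universe u
open scoped TensorProduct
open CAlg

namespace Groth.Agent.S10956

/-- Let R be a commutative ring, A and B commutative R-algebras and T = A ⊗_R B, an A-algebra through
the left factor. There is a T-linear map r from Ω_{T/R} to T ⊗_A Ω_{A/R} sending d(a ⊗ b) to (1 ⊗ b)
⊗ da for all a in A and b in B, and together with the canonical map Ω_{T/R} → Ω_{T/A} it identifies
Ω_{T/R} with the product (T ⊗_A Ω_{A/R}) × Ω_{T/A}. (The published statement is the isomorphism of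
(Ω_{A/R} ⊗_R B) ⊕ (A ⊗_R Ω_{B/R}) with Ω_{T/R} matching the exterior differentials; it is stated
here through the canonical identifications T ⊗_A Ω_{A/R} = Ω_{A/R} ⊗_R B and Ω_{T/A} = A ⊗_R
Ω_{B/R}.) -/
theorem result (R A B : Type u) [CommRing R] [CommRing A] [CommRing B]
    [Algebra R A] [Algebra R B] :
    ∃ r : Ω[(A ⊗[R] B)⁄R] →ₗ[A ⊗[R] B] ((A ⊗[R] B) ⊗[A] Ω[A⁄R]),
      (∀ (a : A) (b : B), r (KaehlerDifferential.D R (A ⊗[R] B) (a ⊗ₜ[R] b)) =
          ((1 : A) ⊗ₜ[R] b) ⊗ₜ[A] KaehlerDifferential.D R A a) ∧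
        Function.Bijective (fun ω : Ω[(A ⊗[R] B)⁄R] =>
          (r ω, KaehlerDifferential.map R A (A ⊗[R] B) (A ⊗[R] B) ω)) := by
  let δ₀ : (A ⊗[R] B) →ₗ[R] ((A ⊗[R] B) ⊗[A] Ω[A⁄R]) :=
    TensorProduct.lift (LinearMap.mk₂ R
      (fun a b => ((1 : A) ⊗ₜ[R] b) ⊗ₜ[A] KaehlerDifferential.D R A a)
      (fun a a' b => by simp [TensorProduct.tmul_add])
      (fun c a b => by simp [TensorProduct.tmul_smul])
      (fun a b b' => by simp [TensorProduct.tmul_add, TensorProduct.add_tmul])
      (fun c a b => by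
        rw [TensorProduct.tmul_smul c (1 : A) b]; exact (TensorProduct.smul_tmul' c _ _).symm))
  have hδ₀ : ∀ (a : A) (b : B),
      δ₀ (a ⊗ₜ[R] b) = ((1 : A) ⊗ₜ[R] b) ⊗ₜ[A] KaehlerDifferential.D R A a := fun a b => rfl
  have hleib : ∀ x y : A ⊗[R] B, δ₀ (x * y) = x • δ₀ y + y • δ₀ x := by
    intro x y
    induction x using TensorProduct.induction_on with
    | zero => simp
    | tmul a b =>
      induction y using TensorProduct.induction_on with
      | zero => simp
      | tmul a' b' =>
        rw [Algebra.TensorProduct.tmul_mul_tmul, hδ₀, hδ₀, hδ₀, Derivation.leibniz,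
          TensorProduct.tmul_add, TensorProduct.smul_tmul', TensorProduct.smul_tmul',
          ← TensorProduct.smul_tmul, ← TensorProduct.smul_tmul]
        simp only [TensorProduct.smul_tmul', smul_eq_mul, mul_one,
          Algebra.TensorProduct.tmul_mul_tmul, mul_comm b' b]
      | add y y' hy hy' =>
        rw [mul_add, map_add, hy, hy', map_add, smul_add, add_smul]
        abel
    | add x x' hx hx' =>
      rw [add_mul, map_add, hx, hx', map_add, smul_add, add_smul]
      abel
  let δ : Derivation R (A ⊗[R] B) ((A ⊗[R] B) ⊗[A] Ω[A⁄R]) := Derivation.mk' δ₀ hleib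
  have hD : ∀ (a : A) (b : B), δ.liftKaehlerDifferential
      (KaehlerDifferential.D R (A ⊗[R] B) (a ⊗ₜ[R] b)) =
      ((1 : A) ⊗ₜ[R] b) ⊗ₜ[A] KaehlerDifferential.D R A a := fun a b => by
    rw [Derivation.liftKaehlerDifferential_comp_D]
    exact hδ₀ a b
  refine ⟨δ.liftKaehlerDifferential, hD, ?_⟩
  have hsec : ∀ z, δ.liftKaehlerDifferential
      (KaehlerDifferential.mapBaseChange R A (A ⊗[R] B) z) = z := by
    intro z
    induction z using TensorProduct.induction_on with
    | zero => simp
    | add x y hx hy => simp only [map_add, hx, hy]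
    | tmul t ω =>
      have hspan : ω ∈ Submodule.span A (Set.range (KaehlerDifferential.D R A)) := by
        rw [KaehlerDifferential.span_range_derivation]; exact Submodule.mem_top
      induction hspan using Submodule.span_induction with
      | zero => simp
      | add x y _ _ hx hy => simp only [TensorProduct.tmul_add, map_add, hx, hy]
      | smul a x _ hx =>
        rw [TensorProduct.tmul_smul, ← algebraMap_smul (A ⊗[R] B) a, map_smul, map_smul, hx]
      | mem x hx =>
        obtain ⟨a, rfl⟩ := hx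
        rw [KaehlerDifferential.mapBaseChange_tmul, KaehlerDifferential.map_D, map_smul]
        rw [show algebraMap A (A ⊗[R] B) a = a ⊗ₜ[R] (1 : B) from rfl, hD]
        rw [TensorProduct.smul_tmul', smul_eq_mul, ← Algebra.TensorProduct.one_def, mul_one]
  have hex := KaehlerDifferential.exact_mapBaseChange_map R A (A ⊗[R] B)
  constructor
  · intro ω ω' h
    have h1 := congrArg Prod.fst h
    have h2 := congrArg Prod.snd h
    have h3 : KaehlerDifferential.map R A (A ⊗[R] B) (A ⊗[R] B) (ω - ω') = 0 := by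
      rw [map_sub, sub_eq_zero]; exact h2
    obtain ⟨x, hx⟩ := (hex _).1 h3
    have h4 := hsec x
    rw [hx, map_sub, sub_eq_zero.2 h1] at h4
    rw [← h4, map_zero, eq_comm, sub_eq_zero] at hx
    exact hx
  · rintro ⟨x, y⟩
    obtain ⟨ω, rfl⟩ := KaehlerDifferential.map_surjective R A (A ⊗[R] B) y
    refine ⟨ω + KaehlerDifferential.mapBaseChange R A (A ⊗[R] B)
      (x - δ.liftKaehlerDifferential ω), Prod.ext ?_ ?_⟩
    · show δ.liftKaehlerDifferential _ = x
      rw [map_add, hsec]; abel
    · show KaehlerDifferential.map R A (A ⊗[R] B) (A ⊗[R] B) _ = _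
      rw [map_add, (hex _).2 ⟨_, rfl⟩, add_zero]

end Groth.Agent.S10956
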