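import Groth.Statements.S10958
-- import your own Groth.Agent.* helpers here
import Groth.Agent.Lib.Cube.AffineComplement
import Groth.Agent.Lib.Ample.QuasiProj
import Groth.Agent.Lib.ProjSp.OverAffine

set_option autoImplicit false
universe u
open CategoryTheory MonoidalCategory CartesianMonoidalCategory MonObj GrpObj AlgebraicGeometry
open AbVar

namespace Groth.Agent.S10958

/-- Let K be a field and A an abelian variety over K, that is, a group scheme over Spec K whose
structure morphism is proper and smooth and whose underlying topological space is irreducible. Then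
there exist a natural number n and a closed immersion of A into projective n-space over K which is a
morphism over Spec K. -/
theorem result
    (K : Type u) [Field K] (A : Over (Spec (CommRingCat.of K)))
    [GrpObj A] [IsProper A.hom] [Smooth A.hom] [IrreducibleSpace A.left] :
    ∃ (n : ℕ) (f : A.left ⟶ CohB1.ProjSpace n K),
      IsClosedImmersion f ∧ f ≫ CohB1.ProjSpace.toSpec n K = A.hom := by
  haveI : ConnectedSpace A.left := inferInstance
  haveI := GrothLib.Rigidity.geometricallyReduced_of_smooth A.hom
  haveI : GeometricallyIntegral A.hom := GrothLib.Rigidity.geometricallyIntegral_of_connected A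
  obtain ⟨L, hL⟩ := GrothLib.Cube.exists_isAmple A
  obtain ⟨n, i, hi, hif⟩ := GrothLib.Ample.exists_immersion_of_isAmple A.hom hL
  haveI := GrothLib.Chow.isProper_toBase n (Spec (CommRingCat.of K))
  haveI := GrothLib.Ample.ProjMap.isClosedImmersion_toProjSpace n K
  haveI : IsProper (i ≫ CohB1.ProjSpaceOver.toBase n (Spec (CommRingCat.of K))) := by rw [hif]; infer_instance
  haveI : IsProper i := IsProper.of_comp i (CohB1.ProjSpaceOver.toBase n (Spec (CommRingCat.of K)))
  haveI : IsClosedImmersion i := .of_isPreimmersion _ i.isClosedMap.isClosed_range
  refine ⟨n, i ≫ GrothLib.Ample.ProjMap.toProjSpace n K, inferInstance, ?_⟩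
  rw [CategoryTheory.Category.assoc, GrothLib.Ample.ProjMap.toProjSpace_toSpec, hif]

end Groth.Agent.S10958
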