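import Groth.Statements.S10959
-- import your own Groth.Agent.* helpers here
import Groth.Agent.Lib.Rigidity.Field

set_option autoImplicit false
universe u
open CategoryTheory MonoidalCategory CartesianMonoidalCategory MonObj GrpObj AlgebraicGeometry
open AbVar

namespace Groth.Agent.S10959

/-- Let K be an algebraically closed field and A an abelian variety over K (a group scheme over Spec K
with proper smooth structure morphism and irreducible underlying space). Let Z be a closed subset of
A which is not all of A, and z a K-valued point of A. Then there is a K-valued point x of A such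
that the point underlying z lies neither in the translate of Z by x nor in the translate of Z by the
inverse of x; here the translation by x is the morphism A → A given on points by a ↦ a·x, the
product of the identity and the constant map x in the group of morphisms into A. (The published
statement takes Z to be the support of an effective divisor; this row allows any closed subset other
than A.) -/
theorem result
    (K : Type u) [Field K] [IsAlgClosed K] (A : Over (Spec (CommRingCat.of K)))
    [GrpObj A] [IsProper A.hom] [Smooth A.hom] [IrreducibleSpace A.left]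
    (Z : Set A.left) (hZ : IsClosed Z) (hZne : Z ≠ Set.univ)
    (z : 𝟙_ (Over (Spec (CommRingCat.of K))) ⟶ A) :
    ∃ x : 𝟙_ (Over (Spec (CommRingCat.of K))) ⟶ A,
      Disjoint (Set.range z.left.base)
        ((𝟙 A * (toUnit A ≫ x)).left.base '' Z ∪ (𝟙 A * (toUnit A ≫ x)⁻¹).left.base '' Z) := by
  let S := Spec (CommRingCat.of K)
  let pt : S := IsLocalRing.closedPoint K
  haveI : JacobsonSpace A.left := LocallyOfFiniteType.jacobsonSpace (Y := Spec _) A.hom
  let c : A ⟶ A := toUnit A ≫ z
  let u : A ⟶ A := c * (𝟙 A)⁻¹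
  let v : A ⟶ A := (𝟙 A)⁻¹ * c
  let v' : A ⟶ A := c * 𝟙 A
  have hZo : IsOpen (Zᶜ : Set A.left) := hZ.isOpen_compl
  have hpre : ∀ (f : A ⟶ A) (g : A ⟶ A), g ≫ f = 𝟙 A → ((f.left ⁻¹' Zᶜ : Set A.left)).Nonempty := fun f g h => by
    obtain ⟨w, hw⟩ := Set.nonempty_compl.mpr hZne
    exact ⟨g.left w, by rw [Set.mem_preimage, ← Scheme.Hom.comp_apply, ← Over.comp_left, h]; exact hw⟩
  have hcc : ∀ f : A ⟶ A, f ≫ c = c := fun f => by
    show f ≫ toUnit A ≫ z = _
    rw [comp_toUnit_assoc]
  have hu : ((𝟙 A)⁻¹ * c) ≫ u = 𝟙 A := by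
    simp only [u, MonObj.comp_mul, GrpObj.comp_inv, hcc, Category.comp_id, _root_.mul_inv_rev, _root_.inv_inv]
    rw [← _root_.mul_assoc, _root_.mul_inv_cancel, _root_.one_mul]
  have hv : (c⁻¹ * 𝟙 A) ≫ v' = 𝟙 A := by
    simp only [v', MonObj.comp_mul, hcc, Category.comp_id]
    rw [← _root_.mul_assoc, _root_.mul_inv_cancel, _root_.one_mul]
  obtain ⟨a, ⟨ha₁, ha₂⟩, hac⟩ := nonempty_inter_closedPoints
    (nonempty_preirreducible_inter (hZo.preimage u.left.continuous) (hZo.preimage v'.left.continuous)
      (hpre u _ hu) (hpre v' _ hv))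
    ((hZo.preimage u.left.continuous).inter (hZo.preimage v'.left.continuous)).isLocallyClosed
  let x : 𝟙_ (Over S) ⟶ A := Over.homMk (pointOfClosedPoint A.hom a hac) (pointOfClosedPoint_comp _ _ _)
  have hx : x.left pt = a := pointOfClosedPoint_apply _ _ _ _
  refine ⟨x, Set.disjoint_left.mpr ?_⟩
  rintro _ ⟨s, rfl⟩ hs
  have hs0 : s = pt := Subsingleton.elim (α := ↥S) _ _
  subst hs0
  have hunit : ∀ f : 𝟙_ (Over S) ⟶ A, toUnit (𝟙_ (Over S)) ≫ f = f := fun f => by
    rw [toUnit_unit, Category.id_comp]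
  have hxc : x ≫ c = z := by
    simp only [c]
    rw [comp_toUnit_assoc, hunit]
  rcases hs with ⟨w, hw, hwz⟩ | ⟨w, hw, hwz⟩
  · refine ha₁ ?_
    have hT : (𝟙 A * (toUnit A ≫ x)) ≫ (𝟙 A * (toUnit A ≫ x)⁻¹) = 𝟙 A := by
      simp only [MonObj.comp_mul, GrpObj.comp_inv, comp_toUnit_assoc, Category.comp_id]
      rw [_root_.mul_assoc, _root_.mul_inv_cancel, _root_.mul_one]
    have hz : z ≫ (𝟙 A * (toUnit A ≫ x)⁻¹) = x ≫ u := by
      simp only [u, MonObj.comp_mul, GrpObj.comp_inv, comp_toUnit_assoc, Category.comp_id, toUnit_unit, Category.id_comp, hxc]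
    have : w = (x ≫ u).left pt := by
      rw [← hz, Over.comp_left, Scheme.Hom.comp_apply, ← hwz, ← Scheme.Hom.comp_apply, ← Over.comp_left, hT]
      rfl
    rw [← hx, ← Scheme.Hom.comp_apply, ← Over.comp_left, ← this]
    exact hw
  · refine ha₂ ?_
    have hT : (𝟙 A * (toUnit A ≫ x)⁻¹) ≫ (𝟙 A * (toUnit A ≫ x)) = 𝟙 A := by
      simp only [MonObj.comp_mul, GrpObj.comp_inv, comp_toUnit_assoc, Category.comp_id]
      rw [_root_.mul_assoc, _root_.inv_mul_cancel, _root_.mul_one]
    have hz : z ≫ (𝟙 A * (toUnit A ≫ x)) = x ≫ v' := by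
      simp only [v', MonObj.comp_mul, comp_toUnit_assoc, Category.comp_id, toUnit_unit, Category.id_comp, hxc]
    have : w = (x ≫ v').left pt := by
      rw [← hz, Over.comp_left, Scheme.Hom.comp_apply, ← hwz, ← Scheme.Hom.comp_apply, ← Over.comp_left, hT]
      rfl
    rw [← hx, ← Scheme.Hom.comp_apply, ← Over.comp_left, ← this]
    exact hw

end Groth.Agent.S10959
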