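import Groth.Statements.S10961
import Groth.Agent.Lib.Mero.Div
import Groth.Agent.Lib.AffUnion.Finset

set_option autoImplicit false
universe u
open CategoryTheory AlgebraicGeometry TopologicalSpace
open Mero

namespace Groth.Agent.S10961

theorem spec_generic {X : Scheme.{u}} (x : X) :
    closure ({x} : Set X) ∈ irreducibleComponents (X : Type u) ↔ ∀ y : X, y ⤳ x → y = x := by
  constructor
  · intro h y hy
    have hle : closure ({x} : Set X) ⊆ closure {y} :=
      closure_minimal (Set.singleton_subset_iff.mpr hy.mem_closure) isClosed_closure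
    have := h.2 isIrreducible_singleton.closure hle
    exact (hy.antisymm (specializes_iff_mem_closure.mpr (this (subset_closure rfl)))).eq
  · intro h
    refine ⟨isIrreducible_singleton.closure, fun Z hZ hle => ?_⟩
    obtain ⟨z, hz⟩ := QuasiSober.sober hZ.closure isClosed_closure
    have hzx : z ⤳ x := hz.specializes (subset_closure (hle (subset_closure rfl)))
    rw [h z hzx] at hz
    exact subset_closure.trans hz.def.ge

theorem exists_generic_spec {X : Scheme.{u}} (x : X) :
    ∃ y : X, y ⤳ x ∧ closure ({y} : Set X) ∈ irreducibleComponents (X : Type u) := by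
  obtain ⟨z, hz⟩ := QuasiSober.sober (isIrreducible_irreducibleComponent (x := x))
    isClosed_irreducibleComponent
  exact ⟨z, hz.specializes mem_irreducibleComponent,
    (show closure ({z} : Set X) = irreducibleComponent x from hz.def) ▸ irreducibleComponent_mem_irreducibleComponents x⟩

theorem eq_zero_of_generic {X : Scheme.{u}} [IsReduced X] {W : X.Opens} (a : Γ(X, W))
    (h : ∀ (y : X) (hy : y ∈ W), closure ({y} : Set X) ∈ irreducibleComponents (X : Type u) →
      X.presheaf.germ W y hy a = 0) : a = 0 := by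
  refine (AlgebraicGeometry.basicOpen_eq_bot_iff a).mp ?_
  rw [eq_bot_iff]
  intro y hy
  obtain ⟨z, hz, hgen⟩ := exists_generic_spec y
  have hzb := hz.mem_open (X.basicOpen a).2 hy
  have := (Scheme.mem_basicOpen _ a z (X.basicOpen_le a hzb)).mp hzb
  rw [h z _ hgen] at this
  exact absurd this not_isUnit_zero

theorem isUnit_of_generic {X : Scheme.{u}} [IsReduced X] {x : X}
    (hx : closure ({x} : Set X) ∈ irreducibleComponents (X : Type u)) (a : X.presheaf.stalk x) :
    a = 0 ∨ IsUnit a := by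
  refine (em (IsUnit a)).symm.imp_left fun hu => ?_
  obtain ⟨W, hxW, s, rfl⟩ := X.presheaf.exists_germ_eq a
  obtain ⟨V, hxV, hVW⟩ := GrothLib.BlowUp.exists_affine_mem_le hxW
  let sV : Γ(X, V.1) := X.presheaf.map (homOfLE hVW).op s
  have e : X.presheaf.germ V.1 x hxV sV = X.presheaf.germ W x hxW s := TopCat.Presheaf.germ_res_apply ..
  have hs : ¬ IsUnit (X.presheaf.germ V.1 x hxV sV) := by rwa [e]
  rw [← e]
  have hwa : GrothLib.Mero.IsWA x := GrothLib.Mero.isWA_of_maximal ((spec_generic x).mp hx)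
  by_contra hne
  let _ := X.presheaf.algebra_section_stalk ⟨x, hxV⟩
  have hloc := V.2.isLocalization_stalk ⟨x, hxV⟩
  have hmin : (V.2.primeIdealOf ⟨x, hxV⟩).asIdeal ∈ minimalPrimes Γ(X, V.1) := by
    refine ⟨⟨inferInstance, bot_le⟩, fun q hq hqp => ?_⟩
    have h1 := ((PrimeSpectrum.le_iff_specializes ⟨q, hq.1⟩ _).mp hqp).map V.2.fromSpec.continuous
    rw [V.2.fromSpec_primeIdealOf] at h1
    have h2 := (spec_generic x).mp hx _ h1
    have h3 : (⟨q, hq.1⟩ : PrimeSpectrum Γ(X, V.1)) = V.2.primeIdealOf ⟨x, hxV⟩ :=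
      V.2.fromSpec.isOpenEmbedding.injective (h2.trans (V.2.fromSpec_primeIdealOf ⟨x, hxV⟩).symm)
    exact (congrArg PrimeSpectrum.asIdeal h3).ge
  have h0 : Ring.KrullDimLE 0 (X.presheaf.stalk x) :=
    Ring.krullDimLE_iff.mpr (by
      rw [IsLocalization.AtPrime.ringKrullDim_eq_height (V.2.primeIdealOf ⟨x, hxV⟩).asIdeal,
        Ideal.height_eq_zero_iff.mpr hmin]
      rfl)
  exact hne (IsNilpotent.eq_zero (Ring.KrullDimLE.isNilpotent_iff_mem_nonunits.mpr hs))

/-- Let X be a reduced scheme with only finitely many irreducible components, with generic points x_1,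
…, x_r, and let U be an open subset of X. Then the ring of sections over U of the sheaf of
meromorphic functions K_X maps bijectively, by evaluation, onto the product of the rings K_{X,x_i}
over those generic points x_i that lie in U; moreover for each generic point x_i the local ring of X
at x_i is a field and maps bijectively onto K_{X,x_i}, so that K_{X,x_i} is the residue field of
x_i. (The hypothesis holds for every Noetherian scheme; for X integral it says that K_X is the
constant sheaf with value the function field.) -/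
theorem result
    (X : Scheme.{u}) [IsReduced X] (hfin : (irreducibleComponents (X : Type u)).Finite) (U : X.Opens) :
    Function.Bijective (fun s : Γ(Mero.kmod X, U) =>
      fun x : {x : U // closure ({x.1} : Set X) ∈ irreducibleComponents (X : Type u)} =>
        Mero.evalK X U x.1 s) ∧
    (∀ x : X, closure ({x} : Set X) ∈ irreducibleComponents (X : Type u) →
      IsField (X.presheaf.stalk x) ∧
        Function.Bijective (algebraMap (X.presheaf.stalk x) (Mero.KStalk X x))) := by
  classical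
  have hfinG : {x : X | closure ({x} : Set X) ∈ irreducibleComponents (X : Type u)}.Finite :=
    genericPoints.finite hfin
  have hfield : ∀ x : X, closure ({x} : Set X) ∈ irreducibleComponents (X : Type u) →
      IsField (X.presheaf.stalk x) ∧ Function.Bijective (algebraMap (X.presheaf.stalk x) (Mero.KStalk X x)) := by
    intro x hx
    refine ⟨⟨⟨0, 1, zero_ne_one⟩, mul_comm, fun {a} ha => ⟨↑((isUnit_of_generic hx a).resolve_left ha).unit⁻¹, ?_⟩⟩,
      Mero.algebraMap_KStalk_injective x, fun t => ?_⟩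
    · exact IsUnit.mul_val_inv _
    · obtain ⟨⟨a, s⟩, hs⟩ := IsLocalization.surj (Mero.regStalk X x) t
      have hu : IsUnit s.1 := (isUnit_of_generic hx s.1).resolve_left fun h0 => one_ne_zero
        (mem_nonZeroDivisors_iff_left.mp (Mero.regStalk_le_nonZeroDivisors x s.2) 1 (by rw [h0, zero_mul]))
      obtain ⟨v, hv⟩ := hu
      refine ⟨a * ↑v⁻¹, ?_⟩
      dsimp only at hs
      rw [map_mul, ← hs, mul_assoc, ← map_mul, ← hv, Units.mul_inv, map_one, mul_one]
  have hinj : ∀ (U : X.Opens) (s t : Γ(Mero.kmod X, U)),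
      (∀ x : U, closure ({x.1} : Set X) ∈ irreducibleComponents (X : Type u) → s.1 x = t.1 x) → s = t := by
    intro U s t h
    refine GrothLib.Mero.kmod_ext fun x => ?_
    obtain ⟨W, hxW, i, a, b, hab⟩ := s.2 x
    obtain ⟨W', hxW', i', a', b', hab'⟩ := t.2 x
    let Z := W ⊓ W'
    let c : Γ(X, Z) := X.presheaf.map (homOfLE (inf_le_left : Z ≤ W)).op a *
      X.presheaf.map (homOfLE (inf_le_right : Z ≤ W')).op b'.1 -
      X.presheaf.map (homOfLE (inf_le_right : Z ≤ W')).op a' *
      X.presheaf.map (homOfLE (inf_le_left : Z ≤ W)).op b.1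
    have key : ∀ y : U, ∀ (h : y.1 ∈ Z), s.1 y = t.1 y ↔ X.presheaf.germ Z y.1 h c = 0 := by
      intro y h
      have e1 := hab ⟨y.1, h.1⟩
      have e2 := hab' ⟨y.1, h.2⟩
      dsimp only at e1 e2
      change s.1 y = _ at e1
      change t.1 y = _ at e2
      rw [e1, e2, GrothLib.Mero.mkK_eq_iff, ← sub_eq_zero]
      simp only [c, Mero.regGerm, map_sub, map_mul, TopCat.Presheaf.germ_res_apply]
      rw [mul_comm (X.presheaf.germ W' y.1 h.2 b'.1), mul_comm (X.presheaf.germ W y.1 h.1 b.1)]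
    refine (key x ⟨hxW, hxW'⟩).mpr ?_
    rw [eq_zero_of_generic c fun y hy hgen => (key ⟨y, i.le hy.1⟩ hy).mp (h _ hgen), map_zero]
  refine ⟨⟨fun s t hst => hinj U s t fun x hx => congrFun hst ⟨x, hx⟩, fun v => ?_⟩, hfield⟩
  let G := {x : U // closure ({x.1} : Set X) ∈ irreducibleComponents (X : Type u)}
  have : Finite G := by
    have := hfinG.to_subtype
    exact Finite.of_injective (fun g : G => (⟨g.1.1, g.2⟩ : {x : X | closure ({x} : Set X) ∈ irreducibleComponents (X : Type u)}))
      fun a b h => Subtype.ext (Subtype.ext (congrArg (fun t => t.1) h))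
  have hch : ∀ g : G, ∃ (W : X.Opens) (_ : g.1.1 ∈ W) (c : Γ(X, W)), W ≤ U ∧
      (∀ y ∈ W, closure ({y} : Set X) ∈ irreducibleComponents (X : Type u) → y = g.1.1) ∧
      ∀ h : g.1.1 ∈ W, algebraMap _ (Mero.KStalk X g.1.1) (X.presheaf.germ W g.1.1 h c) = v g := fun g => by
    obtain ⟨a, ha⟩ := (hfield g.1.1 g.2).2.2 (v g)
    obtain ⟨W, hgW, c, rfl⟩ := X.presheaf.exists_germ_eq a
    let O : X.Opens := ⟨(⋃ z ∈ {z : X | closure ({z} : Set X) ∈ irreducibleComponents (X : Type u) ∧ z ≠ g.1.1},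
      closure ({z} : Set X))ᶜ, ((hfinG.subset fun z hz => hz.1).isClosed_biUnion fun _ _ => isClosed_closure).isOpen_compl⟩
    have hgO : g.1.1 ∈ O := by
      intro h
      obtain ⟨z, hz, hgz⟩ := Set.mem_iUnion₂.mp h
      exact hz.2 ((spec_generic _).mp g.2 z (specializes_iff_mem_closure.mpr hgz))
    refine ⟨W ⊓ U ⊓ O, ⟨⟨hgW, g.1.2⟩, hgO⟩, X.presheaf.map (homOfLE (inf_le_left.trans inf_le_left)).op c,
      inf_le_left.trans inf_le_right, fun y hy hgen => ?_, fun h => ?_⟩
    · by_contra hne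
      exact hy.2 (Set.mem_iUnion₂.mpr ⟨y, ⟨hgen, hne⟩, subset_closure rfl⟩)
    · rw [TopCat.Presheaf.germ_res_apply, ha]
  choose Wg hgWg cg hWU honly hval using hch
  have hcompat : TopCat.Presheaf.IsCompatible X.presheaf Wg cg := fun i j => by
    by_cases hij : i = j
    · subst hij
      rfl
    rw [← sub_eq_zero]
    exact eq_zero_of_generic _ fun y hy hgen =>
      absurd (Subtype.ext (Subtype.ext ((honly i y hy.1 hgen).symm.trans (honly j y hy.2 hgen)))) hij
  obtain ⟨c, hc, -⟩ := X.sheaf.existsUnique_gluing' Wg (iSup Wg) (fun g => homOfLE (le_iSup Wg g)) le_rfl cg hcompat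
  have hgD : ∀ g : G, g.1.1 ∈ iSup Wg := fun g => Opens.mem_iSup.mpr ⟨g, hgWg g⟩
  have hcval : ∀ g : G, algebraMap _ (Mero.KStalk X g.1.1) (X.presheaf.germ (iSup Wg) g.1.1 (hgD g) c) = v g := fun g => by
    rw [← hval g (hgWg g)]
    refine congrArg _ ?_
    rw [← hc g]
    exact (TopCat.Presheaf.germ_res_apply X.presheaf (homOfLE (le_iSup Wg g)) g.1.1 (hgWg g) c).symm
  have hloc : ∀ x : U, ∃ (V : X.Opens) (_ : x.1 ∈ V) (hVU : V ≤ U) (s : Γ(Mero.kmod X, V)),
      ∀ (g : G) (h : g.1.1 ∈ V), s.1 ⟨g.1.1, h⟩ = v g := fun x => by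
    obtain ⟨V, hxV, hVU⟩ := GrothLib.BlowUp.exists_affine_mem_le x.2
    let S : Finset X := (hfinG.inter_of_left (V.1 : Set X)).toFinset
    obtain ⟨b, hb, hbS⟩ := GrothLib.AffUnion.exists_basicOpen_finset V.2 S (fun t ht => ((Set.Finite.mem_toFinset _).mp ht).2)
      (iSup Wg) (fun t ht => by
        have h := (Set.Finite.mem_toFinset _).mp ht
        exact hgD ⟨⟨t, hVU h.2⟩, h.1⟩)
    have hbreg : b ∈ Mero.regSub X V.1 := by
      rw [GrothLib.Mero.regSub_iff]
      exact fun y hy hwa => hbS y ((Set.Finite.mem_toFinset _).mpr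
        ⟨(spec_generic y).mpr ((GrothLib.WeakAss.isWeakAssPoint_structure_iff y).mp hwa), hy⟩)
    have := V.2.isLocalization_basicOpen b
    obtain ⟨⟨a, ⟨_, n, rfl⟩⟩, ha⟩ := IsLocalization.surj (Submonoid.powers b)
      (X.presheaf.map (homOfLE hb).op c : Γ(X, X.basicOpen b))
    dsimp only at ha
    refine ⟨V.1, hxV, hVU, ⟨fun y => LocalizedModule.mk (X.presheaf.germ V.1 y.1 y.2 a) (Mero.regGerm y ⟨b ^ n, pow_mem hbreg n⟩),
      fun y => ⟨V.1, y.2, 𝟙 _, a, ⟨b ^ n, pow_mem hbreg n⟩, fun z => rfl⟩⟩, fun g hg => ?_⟩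
    rw [← hcval g]
    refine (GrothLib.Mero.mk_eq_algebraMap_iff _ _ _).mpr ?_
    have hgb : g.1.1 ∈ X.basicOpen b := hbS _ ((Set.Finite.mem_toFinset _).mpr ⟨g.2, hg⟩)
    have h2 := congrArg (X.presheaf.germ (X.basicOpen b) g.1.1 hgb) ha
    simp only [map_mul] at h2
    change X.presheaf.germ _ _ hgb (X.presheaf.map _ c) * X.presheaf.germ _ _ hgb (X.presheaf.map _ (b ^ n)) =
      X.presheaf.germ _ _ hgb (X.presheaf.map _ a) at h2
    simp only [TopCat.Presheaf.germ_res_apply, TopCat.Presheaf.germ_res_apply'] at h2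
    rw [mul_comm] at h2
    exact h2.symm
  choose V hxV hVU s hs using hloc
  have hcompat2 : TopCat.Presheaf.IsCompatible (Mero.kring X).obj V s := fun i j => by
    refine hinj _ _ _ fun y hy => ?_
    exact (hs i ⟨⟨y.1, hVU i y.2.1⟩, hy⟩ y.2.1).trans (hs j ⟨⟨y.1, hVU i y.2.1⟩, hy⟩ y.2.2).symm
  obtain ⟨t, ht, -⟩ := (Mero.kring X).existsUnique_gluing' V U (fun x => homOfLE (hVU x))
    (fun y hy => Opens.mem_iSup.mpr ⟨⟨y, hy⟩, hxV _⟩) s hcompat2
  refine ⟨t, funext fun g => ?_⟩
  rw [← hs g.1 g (hxV g.1)]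
  exact congrArg (fun r : Γ(Mero.kmod X, V g.1) => r.1 ⟨g.1.1, hxV g.1⟩) (ht g.1)

end Groth.Agent.S10961
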