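import Groth.Statements.S10963
import Groth.Agent.Lib.PicCoc26.Basic

set_option autoImplicit false
universe u
open CategoryTheory AlgebraicGeometry TopologicalSpace Opposite
open PicF

namespace Groth.Agent.S10963

/-- Let X be a scheme, (U_i)_{i ∈ ι} an open cover of X and, for all i, j, a unit η_ij of the ring of
functions on U_i ∩ U_j, such that on every triple intersection U_i ∩ U_j ∩ U_k the cocycle identity
η_ik = η_ij · η_jk holds. Then there exist an invertible O_X-module L and sections s_i of L over U_i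
such that each s_i generates L over U_i — for every open V ⊆ U_i the map r ↦ r · s_i|_V from
functions on V to sections of L over V is bijective — and s_i|_{U_i ∩ U_j} = η_ij · s_j|_{U_i ∩ U_j}
for all i, j. (This is the surjectivity of the map from invertible modules trivialised by the cover
to Čech 1-cohomology classes of the cover with values in the sheaf of units.) -/
theorem result (X : Scheme.{u}) {ι : Type u} (U : ι → X.Opens)
    (hU : iSup U = ⊤) (η : ∀ i j : ι, (Γ(X, U i ⊓ U j))ˣ)
    (hη : ∀ i j k : ι,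
      X.presheaf.map (homOfLE (inf_le_inf_right (U k) inf_le_left : U i ⊓ U j ⊓ U k ≤ U i ⊓ U k)).op
          (η i k : Γ(X, U i ⊓ U k)) =
        X.presheaf.map (homOfLE (inf_le_left : U i ⊓ U j ⊓ U k ≤ U i ⊓ U j)).op (η i j : Γ(X, U i ⊓ U j)) *
          X.presheaf.map (homOfLE (inf_le_inf_right (U k) inf_le_right : U i ⊓ U j ⊓ U k ≤ U j ⊓ U k)).op
            (η j k : Γ(X, U j ⊓ U k))) :
    ∃ (L : X.Modules) (s : ∀ i : ι, Γ(L, U i)),
      PicF.IsInvertible L ∧
      (∀ (i : ι) (V : X.Opens) (h : V ≤ U i),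
        Function.Bijective (fun r : Γ(X, V) => r • L.presheaf.map (homOfLE h).op (s i))) ∧
      ∀ i j : ι, L.presheaf.map (homOfLE (inf_le_left : U i ⊓ U j ≤ U i)).op (s i) =
        (η i j : Γ(X, U i ⊓ U j)) • L.presheaf.map (homOfLE (inf_le_right : U i ⊓ U j ≤ U j)).op (s j) := by
  have hc : GrothLib.PicCoc26.IsCoc fun i j => (η i j : Γ(X, U i ⊓ U j)) := fun i j k W hi hj hk => by
    have h := congrArg (GrothLib.Ample.res (le_inf (le_inf hi hj) hk : W ≤ U i ⊓ U j ⊓ U k)) (hη i j k)
    simp only [GrothLib.PicCoc26.hom_eq_res, map_mul, GrothLib.Ample.res_res] at h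
    exact h
  have h1 : ∀ i, (η i i : Γ(X, U i ⊓ U i)) = 1 := fun i => by
    have h := hc i i i (U i ⊓ U i) inf_le_left inf_le_left inf_le_left
    simp only [GrothLib.Ample.res_self] at h
    exact (Units.mul_right_inj (η i i)).1 (by rw [mul_one]; exact h.symm)
  let c := GrothLib.PicCoc26.mkCoc hU _ hc h1
  refine ⟨c.twist 1, fun i => c.base 1 i le_rfl, c.isInvertible_twist 1,
    fun i V h => c.isGen_base 1 i le_rfl V h, fun i j => ?_⟩
  show GrothLib.InvExt.mres (c.twist 1) _ (c.base 1 i le_rfl) =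
    (η i j : Γ(X, U i ⊓ U j)) • GrothLib.InvExt.mres (c.twist 1) _ (c.base 1 j le_rfl)
  rw [c.mres_twist, c.mres_twist, c.sectRes_base, c.sectRes_base]
  refine (c.base_eq_smul_base 1 j i inf_le_right inf_le_left).trans ?_
  rw [pow_one, GrothLib.PicCoc26.mkCoc_G hU _ hc h1]
  exact congrArg (fun t : Γ(X, U i ⊓ U j) => t • c.base 1 j (inf_le_right : U i ⊓ U j ≤ U j))
    (GrothLib.Ample.res_self _ _)

end Groth.Agent.S10963
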