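import Groth.Statements.S10964
import Groth.Agent.Lib.PicCoc26.Basic

set_option autoImplicit false
universe u
open CategoryTheory AlgebraicGeometry TopologicalSpace Opposite
open PicF

namespace Groth.Agent.S10964

/-- Let X be a scheme with an open cover (U_i)_{i ∈ ι}. Let L and L' be O_X-modules with sections s_i of
L and s'_i of L' over U_i that generate there (for every open V ⊆ U_i, r ↦ r · s_i|_V is a bijection
from functions on V onto sections of L over V, and likewise for s'_i), and let η_ij, η'_ij be the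
functions on U_i ∩ U_j with s_i = η_ij · s_j and s'_i = η'_ij · s'_j there. Then L and L' are
isomorphic as O_X-modules if and only if there is a family of units u_i of the rings of functions on
the U_i with η'_ij · u_i|_{U_i ∩ U_j} = u_j|_{U_i ∩ U_j} · η_ij for all i, j. (So two invertible
modules trivialised by the cover are isomorphic exactly when their transition cocycles define the
same Čech cohomology class.) -/
theorem result (X : Scheme.{u}) {ι : Type u} (U : ι → X.Opens)
    (hU : iSup U = ⊤) (L L' : X.Modules) (s : ∀ i : ι, Γ(L, U i)) (s' : ∀ i : ι, Γ(L', U i))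
    (hs : ∀ (i : ι) (V : X.Opens) (h : V ≤ U i),
        Function.Bijective (fun r : Γ(X, V) => r • L.presheaf.map (homOfLE h).op (s i)))
    (hs' : ∀ (i : ι) (V : X.Opens) (h : V ≤ U i),
        Function.Bijective (fun r : Γ(X, V) => r • L'.presheaf.map (homOfLE h).op (s' i)))
    (η η' : ∀ i j : ι, Γ(X, U i ⊓ U j))
    (hη : ∀ i j : ι, L.presheaf.map (homOfLE (inf_le_left : U i ⊓ U j ≤ U i)).op (s i) =
        η i j • L.presheaf.map (homOfLE (inf_le_right : U i ⊓ U j ≤ U j)).op (s j))
    (hη' : ∀ i j : ι, L'.presheaf.map (homOfLE (inf_le_left : U i ⊓ U j ≤ U i)).op (s' i) =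
        η' i j • L'.presheaf.map (homOfLE (inf_le_right : U i ⊓ U j ≤ U j)).op (s' j)) :
    Nonempty (L ≅ L') ↔ ∃ u : ∀ i : ι, (Γ(X, U i))ˣ, ∀ i j : ι,
      η' i j * X.presheaf.map (homOfLE (inf_le_left : U i ⊓ U j ≤ U i)).op (u i : Γ(X, U i)) =
        X.presheaf.map (homOfLE (inf_le_right : U i ⊓ U j ≤ U j)).op (u j : Γ(X, U j)) * η i j := by
  let res {V W : X.Opens} (h : W ≤ V) (a : Γ(X, V)) : Γ(X, W) := GrothLib.Ample.res h a
  have hW : ∀ (i j : ι) (W : X.Opens) (hi : W ≤ U i) (hj : W ≤ U j),
      GrothLib.InvExt.mres L hi (s i) = res (le_inf hi hj) (η i j) • GrothLib.InvExt.mres L hj (s j) := by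
    intro i j W hi hj
    have h := congrArg (GrothLib.InvExt.mres L (le_inf hi hj : W ≤ U i ⊓ U j)) (hη i j)
    rw [GrothLib.InvExt.mres_smul, GrothLib.InvExt.mres_mres, GrothLib.InvExt.mres_mres] at h
    exact h
  have hW' : ∀ (i j : ι) (W : X.Opens) (hi : W ≤ U i) (hj : W ≤ U j),
      GrothLib.InvExt.mres L' hi (s' i) = res (le_inf hi hj) (η' i j) • GrothLib.InvExt.mres L' hj (s' j) := by
    intro i j W hi hj
    have h := congrArg (GrothLib.InvExt.mres L' (le_inf hi hj : W ≤ U i ⊓ U j)) (hη' i j)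
    rw [GrothLib.InvExt.mres_smul, GrothLib.InvExt.mres_mres, GrothLib.InvExt.mres_mres] at h
    exact h
  constructor
  · rintro ⟨φ⟩
    choose a ha using fun i => GrothLib.InvExt.IsGen.exists_smul_eq (hs' i) le_rfl (φ.hom.app (U i) (s i))
    choose b hb using fun i => GrothLib.InvExt.IsGen.exists_smul_eq (hs i) le_rfl (φ.inv.app (U i) (s' i))
    simp only [GrothLib.InvExt.mres_self] at ha hb
    have hab : ∀ i, a i * b i = 1 := fun i => by
      have h1 : φ.inv.app (U i) (φ.hom.app (U i) (s i)) = s i :=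
        congrArg (fun f : L ⟶ L => f.app (U i) (s i)) φ.hom_inv_id
      rw [ha i, GrothLib.Ample.app_smul, hb i, smul_smul] at h1
      refine GrothLib.InvExt.IsGen.smul_left_injective (hs i) le_rfl ?_
      rw [GrothLib.InvExt.mres_self, h1, one_smul]
    refine ⟨fun i => Units.mkOfMulEqOne _ _ (hab i), fun i j => ?_⟩
    refine GrothLib.InvExt.IsGen.smul_left_injective (hs' j) inf_le_right ?_
    have h1 := congrArg (φ.hom.app (U i ⊓ U j)) (hW i j _ inf_le_left inf_le_right)
    rw [GrothLib.Ample.app_smul, GrothLib.Ample.app_mres, GrothLib.Ample.app_mres, ha i, ha j,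
      GrothLib.InvExt.mres_smul, GrothLib.InvExt.mres_smul, hW' i j _ inf_le_left inf_le_right,
      smul_smul, smul_smul] at h1
    simp only [res, GrothLib.Ample.res_self] at h1
    rw [mul_comm (η' i j), mul_comm _ (η i j)]
    exact h1
  · rintro ⟨v, hv⟩
    have hc : GrothLib.PicCoc26.IsCoc η := fun i j k W hi hj hk => by
      refine GrothLib.InvExt.IsGen.smul_left_injective (hs k) hk ?_
      refine (hW i k W hi hk).symm.trans ?_
      rw [hW i j W hi hj, hW j k W hj hk, smul_smul]
    have h1 : ∀ i, η i i = 1 := fun i => by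
      refine GrothLib.InvExt.IsGen.smul_left_injective (hs i) inf_le_right ?_
      rw [one_smul]
      exact (hη i i).symm
    let c := GrothLib.PicCoc26.mkCoc hU η hc h1
    have hm : c.IsFamily 1 (M := L) s := fun i j W hi hj => by
      rw [pow_one, GrothLib.PicCoc26.mkCoc_G hU η hc h1 i j hi hj]
      exact hW j i W hj hi
    haveI := c.isIso_homOfFamily hm hs
    have hm' : c.IsFamily 1 (M := L') fun i => (v i : Γ(X, U i)) • s' i :=
        fun (i : ι) (j : ι) W (hi : W ≤ U i) (hj : W ≤ U j) => by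
      show GrothLib.InvExt.mres L' hj ((v j : Γ(X, U j)) • s' j) =
        c.G i j hi hj ^ 1 • GrothLib.InvExt.mres L' hi ((v i : Γ(X, U i)) • s' i)
      rw [pow_one, GrothLib.PicCoc26.mkCoc_G hU η hc h1 i j hi hj, GrothLib.InvExt.mres_smul,
        GrothLib.InvExt.mres_smul, hW' j i W hj hi, smul_smul, smul_smul]
      refine congrArg (· • GrothLib.InvExt.mres L' hi (s' i)) ?_
      have h := congrArg (GrothLib.Ample.res (le_inf hj hi : W ≤ U j ⊓ U i)) (hv j i)
      simp only [GrothLib.PicCoc26.hom_eq_res, map_mul, GrothLib.Ample.res_res] at h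
      show GrothLib.Ample.res hj (v j : Γ(X, U j)) * GrothLib.Ample.res _ (η' j i) =
        GrothLib.Ample.res _ (η j i) * GrothLib.Ample.res hi (v i : Γ(X, U i))
      rw [mul_comm, h, mul_comm]
    haveI := c.isIso_homOfFamily hm' fun i => GrothLib.InvExt.IsGen.smul_unit (hs' i) (v i).isUnit
    exact ⟨(asIso (c.homOfFamily hm)).symm ≪≫ asIso (c.homOfFamily hm')⟩

end Groth.Agent.S10964
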