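import Groth.Statements.S10966
import Groth.Agent.Lib.Ample.ProjAmple

set_option autoImplicit false
universe u
open CategoryTheory CategoryTheory.Limits AlgebraicGeometry
open RelAmple

namespace Groth.Agent.S10966

/-- Let R be a nonzero ring and X an affine scheme of finite type over R, with structure morphism q : X
→ Spec R. Then every invertible O_X-module L is very ample relative to q: there are a natural number
n and an immersion i : X → P^n over Spec R, compatible with q, such that i^*O(1) ≅ L. -/
theorem result (R : Type u) [CommRing R] [Nontrivial R]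
    {X : Scheme.{u}} [IsAffine X] (q : X ⟶ Spec (CommRingCat.of R)) [LocallyOfFiniteType q]
    (L : X.Modules) (hL : PicF.IsInvertible L) :
    RelAmple.IsRelVeryAmplePn q L := by
  obtain ⟨c', ⟨e'⟩⟩ := GrothLib.Ample.exists_cocycle hL
  have hc : (GrothLib.Ample.Cocycle.triv X).IsAmp := fun p => by
    refine ⟨0, GrothLib.Ample.Cocycle.trivSect (1 : Γ(X, ⊤)), ?_⟩
    rw [GrothLib.Ample.Cocycle.locus_trivSect, Scheme.basicOpen_of_isUnit _ isUnit_one]
    exact ⟨trivial, isAffineOpen_top X⟩
  obtain ⟨n₀, h⟩ := GrothLib.Ample.eventually_isRelVeryAmplePn q (GrothLib.Ample.Cocycle.triv X) c' hc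
  obtain ⟨f⟩ := c'.nonempty_refine_iso (((GrothLib.Ample.Cocycle.triv X).pow n₀).prod c')
    (fun i => (PUnit.unit, i)) (fun i => le_inf le_top le_rfl) (fun i j W hi hj => by
      erw [GrothLib.Ample.Cocycle.prod_G, GrothLib.Ample.Cocycle.pow_G]
      show _ = GrothLib.Ample.res _ (1 : Γ(X, _)) ^ n₀ * _
      rw [map_one, one_pow, one_mul]) 1
  exact h n₀ le_rfl (e' ≪≫ f)

end Groth.Agent.S10966
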