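import Groth.Statements.S10967
import Groth.Agent.Lib.IndQA.Basic

set_option autoImplicit false
universe u
open CategoryTheory AlgebraicGeometry TopologicalSpace
open MoreMor

namespace Groth.Agent.S10967

/-- Quasi-affine over an affine base: call a morphism f : X → Y quasi-affine when Y has a cover by
affine opens V_i whose preimages f⁻¹(V_i) are quasi-affine schemes (quasi-compact open subschemes of
affine schemes; equivalently quasi-compact with X → Spec Γ(X, O_X) an immersion). If Y is affine and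
f is quasi-affine in this sense, then X is a quasi-affine scheme. -/
theorem result {X Y : Scheme.{u}} [IsAffine Y]
    (f : X ⟶ Y) {ι : Type u} (V : ι → Y.Opens) (hV : iSup V = ⊤) (hVa : ∀ i, IsAffineOpen (V i))
    (hq : ∀ i, Scheme.IsQuasiAffine (↑(f ⁻¹ᵁ V i) : Scheme.{u})) :
    X.IsQuasiAffine := by
  have hc : CompactSpace X := by
    obtain ⟨t, ht⟩ := isCompact_univ.elim_finite_subcover (fun i => (V i : Set Y)) (fun i => (V i).2)
      (fun y _ => Set.mem_iUnion.mpr (Opens.mem_iSup.mp (hV.ge (trivial : y ∈ (⊤ : Y.Opens)))))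
    refine ⟨?_⟩
    have h2 : (Set.univ : Set X) = ⋃ i ∈ t, ((f ⁻¹ᵁ V i : X.Opens) : Set X) := by
      refine (Set.eq_univ_of_forall fun x => ?_).symm
      obtain ⟨i, hi, hx⟩ := Set.mem_iUnion₂.mp (ht (Set.mem_univ (f x)))
      exact Set.mem_iUnion₂.mpr ⟨i, hi, hx⟩
    rw [h2]
    refine t.finite_toSet.isCompact_biUnion fun i _ => ?_
    have := hq i
    exact isCompact_iff_compactSpace.mpr (inferInstanceAs (CompactSpace (f ⁻¹ᵁ V i : Scheme.{u})))
  refine GrothLib.IndQA.qa_of_forall_preimage f fun x => ?_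
  obtain ⟨i, hi⟩ := Opens.mem_iSup.mp (hV.ge (trivial : f x ∈ (⊤ : Y.Opens)))
  obtain ⟨_, ⟨_, ⟨r, rfl⟩, rfl⟩, hxr, hrV⟩ :=
    (isBasis_basicOpen Y).exists_subset_of_mem_open hi (V i).2
  refine ⟨r, hxr, GrothLib.IndQA.qa_mono (hq i) ?_ fun y hy => hrV hy⟩
  rw [Scheme.preimage_basicOpen_top]
  haveI := hc
  have hh : f ⁻¹ᵁ Y.basicOpen r ≤ f ⁻¹ᵁ V i := fun y hy => hrV hy
  rw [← Scheme.preimage_basicOpen_top]
  haveI := hq i
  haveI : QuasiCompact f := by
    refine (IsZariskiLocalAtTarget.iff_of_iSup_eq_top (P := @QuasiCompact) V hV).mpr fun j => ?_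
    haveI : IsAffine (V j : Scheme.{u}) := hVa j
    haveI := hq j
    exact quasiCompact_of_compactSpace _
  exact f.isCompact_preimage ((isAffineOpen_top Y).basicOpen r).isCompact

end Groth.Agent.S10967
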