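import Groth.Statements.S10969
import Groth.Agent.Lib.FunFld.Riemann

set_option autoImplicit false
open FunFld

namespace Groth.Agent.S10969

/-- For `x` transcendental over `k` in a function field of one variable `K/k`, the degree of the divisor
of zeros of `x` equals `[K : k(x)]`. -/
theorem result (k K : Type*) [Field k] [Field K] [Algebra k K]
    (hK : FunFld.IsFunctionField k K) (x : K) (hx : Transcendental k x) :
    (∑ P ∈ (FunFld.div k x).support with 0 < FunFld.div k x P,
        FunFld.div k x P * (P.deg : ℤ)) =
      Module.finrank (IntermediateField.adjoin k ({x} : Set K)) K := by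
  classical
  have hfg : GrothLib.FunFld.IsFG k K := hK.1
  have heq : IntermediateField.adjoin k ({x} : Set K) =
      IntermediateField.adjoin k ({x⁻¹} : Set K) := by
    refine le_antisymm ?_ ?_ <;> rw [IntermediateField.adjoin_simple_le_iff]
    · simpa using inv_mem (IntermediateField.mem_adjoin_simple_self k x⁻¹)
    · exact inv_mem (IntermediateField.mem_adjoin_simple_self k x)
  have h := hfg.deg_poleDiv (GrothLib.FunFld.transcendental_inv hx)
  rw [← heq] at h
  rw [← h, Finset.sum_filter]
  rw [FunFld.Divisor.deg, Finsupp.sum]
  refine Eq.trans ?_ (Finset.sum_subset (s₁ := (GrothLib.FunFld.poleDiv (k := k) x⁻¹).support)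
    (s₂ := (FunFld.div k x).support) (fun P hP => ?_) fun P _ hP => ?_).symm
  · refine Finset.sum_congr rfl fun P _ => ?_
    rw [hfg.poleDiv_apply, GrothLib.FunFld.ord_inv, neg_neg, ← hfg.div_apply]
    split_ifs with h0
    · rw [max_eq_left h0.le]
    · rw [max_eq_right (not_lt.1 h0), zero_mul]
  · rw [Finsupp.mem_support_iff, hfg.poleDiv_apply, GrothLib.FunFld.ord_inv] at hP
    rw [Finsupp.mem_support_iff, hfg.div_apply]; omega
  · rw [Finsupp.notMem_support_iff.1 hP, zero_mul]

end Groth.Agent.S10969
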