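import Groth.Statements.S1097
import Groth.Agent.Lib.OX.AffineApps

set_option autoImplicit false
universe u
open CategoryTheory CategoryTheory.Limits AlgebraicGeometry Opposite
attribute [local instance] HasDerivedCategory.standard
open Perf

namespace Groth.Agent.S1097

/-- Let X be an affine scheme, U ⊆ X a quasi-compact open (restriction to U assumed exact), E a perfect
object and E' an object with quasi-coherent cohomology sheaves of D(O_X). For every morphism α :
E|_U ⟶ E'|_U there are a perfect object E₁ of D(O_X) and morphisms β : E₁ ⟶ E, γ : E₁ ⟶ E' such that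
β|_U is an isomorphism and β|_U ≫ α = γ|_U. -/
theorem result (X : Scheme.{u}) [IsAffine X] (U : X.Opens) (hU : IsCompact (U : Set X))
    [PreservesFiniteLimits (Scheme.Modules.restrictFunctor U.ι)] (E E' : DCoh.D X) (hE : DCoh.IsPerfect E) (hE' : DCoh.IsQCohD E')
    (α : (DCoh.restrictD U.ι).obj E ⟶ (DCoh.restrictD U.ι).obj E') :
    ∃ (E₁ : DCoh.D X) (β : E₁ ⟶ E) (γ : E₁ ⟶ E'), DCoh.IsPerfect E₁ ∧ IsIso ((DCoh.restrictD U.ι).map β) ∧
      (DCoh.restrictD U.ι).map β ≫ α = (DCoh.restrictD U.ι).map γ := by
  exact GrothLib.OX.exists_lift_restrict X.isoSpec.hom hU hE hE' α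

end Groth.Agent.S1097
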