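import Groth.Statements.S10973
import Groth.Agent.Lib.FunFld.Riemann

set_option autoImplicit false
open FunFld

namespace Groth.Agent.S10973

/-- Two nonzero elements of a function field of one variable with the same principal divisor differ by a
constant multiple. -/
theorem result (k K : Type*) [Field k] [Field K] [Algebra k K]
    (hK : FunFld.IsFunctionField k K) (x y : K) (hx : x ≠ 0) (hy : y ≠ 0)
    (h : ∀ P : FunFld.Place k K, P.ord x = P.ord y) : ∃ c : k, x = c • y := by
  have hz : x / y ∈ FunFld.L (0 : FunFld.Divisor k K) := by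
    rw [GrothLib.FunFld.mem_L_iff_ord (div_ne_zero hx hy)]
    intro P
    rw [div_eq_mul_inv, GrothLib.FunFld.ord_mul P hx (inv_ne_zero hy),
      GrothLib.FunFld.ord_inv, h P]
    simp
  rw [GrothLib.FunFld.L_zero_eq_one hK, Submodule.mem_one] at hz
  obtain ⟨c, hc⟩ := hz
  exact ⟨c, by rw [Algebra.smul_def, hc, div_mul_cancel₀ _ hy]⟩

end Groth.Agent.S10973
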