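import Groth.Statements.S10986
import Groth.Agent.Lib.FunFld.RR

set_option autoImplicit false
open FunFld

namespace Groth.Agent.S10986

/-- `L(D) · W(C) ⊆ W(C - D)`: if `x ∈ L(D)` and `ω` vanishes on `A(C) + K` then `xω` vanishes on `A(C -
D) + K`. -/
theorem result (k K : Type*) [Field k] [Field K] [Algebra k K]
    (C D : FunFld.Divisor k K) (x : K) (hxD : x ∈ FunFld.L D)
    (hx : ∀ a ∈ FunFld.adele k K, x • a ∈ FunFld.adele k K)
    (ω : Module.Dual k (FunFld.adele k K)) (hω : ω ∈ FunFld.WD C) :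
    FunFld.mulW x hx ω ∈ FunFld.WD (C - D) := by
  exact GrothLib.FunFld.mulW_mem_WD' hxD hx hω

end Groth.Agent.S10986
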