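import Groth.Statements.S10999
import Groth.Agent.Lib.FunFld.Gaps

set_option autoImplicit false
open FunFld

namespace Groth.Agent.S10999

/-- In a genus-one function field with a place `P₀` of degree one, `P ↦ P - P₀` is a bijection from the
places of degree one onto the divisor classes of degree zero. The geometric description of the group
law is not stated. -/
theorem result (k K : Type*) [Field k] [Field K] [Algebra k K]
    (hK : FunFld.IsFunctionField k K) (hg : FunFld.genus k K = 1) (P₀ : FunFld.Place k K) (hP : P₀.deg = 1)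
    (D : FunFld.Divisor k K) (hD : D.deg = 0) :
    ∃! P : FunFld.Place k K, P.deg = 1 ∧
      ∃ x : K, x ≠ 0 ∧ D = Finsupp.single P 1 - Finsupp.single P₀ 1 + FunFld.div k x := by
  have hfg : GrothLib.FunFld.IsFG k K := hK.1
  let E := D + Finsupp.single P₀ 1
  have hE : E.deg = 1 := by simp [E, hD, hP]
  have hl := GrothLib.FunFld.ell_eq_deg_of_genus_one hK hg (D := E) (by omega)
  obtain ⟨z, hz0, -, hz⟩ := hfg.exists_of_ell_pos (D := E) (by omega)
  -- an effective divisor of degree one is a rational place
  obtain ⟨P, hPs⟩ : ∃ P, (E + FunFld.div k z) P ≠ 0 := by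
    by_contra hc
    push Not at hc
    have : E + FunFld.div k z = 0 := Finsupp.ext hc
    have := congrArg FunFld.Divisor.deg this
    simp [hfg.deg_div, hE] at this
  have hle : Finsupp.single P 1 ≤ E + FunFld.div k z := fun Q => by
    have := hz Q
    by_cases hQ : P = Q
    · subst hQ; simp at this hPs ⊢; omega
    · simp [hQ] at this ⊢; omega
  have hdeg := GrothLib.FunFld.deg_mono hle
  rw [GrothLib.FunFld.deg_single, GrothLib.FunFld.deg_add, hfg.deg_div, hE] at hdeg
  have hP1 : P.deg = 1 := by have := hfg.deg_pos P; omega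
  have heq : Finsupp.single P 1 = E + FunFld.div k z := by
    ext Q
    by_contra hne
    have hle2 : Finsupp.single P 1 + Finsupp.single Q 1 ≤ E + FunFld.div k z := fun R => by
      have := hle R
      have := hle Q
      by_cases hRQ : Q = R
      · subst hRQ; simp at *; omega
      · simp [hRQ] at *; omega
    have h2 := GrothLib.FunFld.deg_mono hle2
    have := hfg.deg_pos Q
    simp [hfg.deg_div, hE, hP1] at h2
    omega
  refine ⟨P, ⟨hP1, z⁻¹, inv_ne_zero hz0, ?_⟩, ?_⟩
  · rw [hfg.div_inv, heq]; simp only [E]; abel
  · rintro P' ⟨hP', x, hx0, hx⟩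
    refine (GrothLib.FunFld.eq_of_single_sub_eq_div hK (by omega) hP' (x := x * z) ?_).symm
    rw [heq, hfg.div_mul hx0 hz0]
    simp only [E, hx]
    abel

end Groth.Agent.S10999
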