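import Groth.Statements.S11005
import Groth.Agent.Lib.FunFld.Ext
import Mathlib.RingTheory.Flat.Basic
import Mathlib.RingTheory.IntegralClosure.IntegralRestrict
import Mathlib.LinearAlgebra.TensorProduct.Tower

set_option autoImplicit false
universe u v
open FunFld

namespace Groth.Agent.S11005

/-- An intermediate field `K₀` of a geometric function field of one variable `K/k` that is
transcendental over `k` is again a geometric function field of one variable over `k`. -/
theorem result (k : Type u) (K : Type v) [Field k] [Field K] [Algebra k K]
    (hK : FunFld.IsFunctionField k K) (hg : FunFld.IsGeometric k K) (K₀ : IntermediateField k K)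
    (h₀ : ∃ x ∈ K₀, Transcendental k x) : FunFld.IsFunctionField k K₀ ∧ FunFld.IsGeometric k K₀ := by
  obtain ⟨hfun, -⟩ := GrothLib.FunFld.isFunctionField_intermediateField hK K₀ h₀
  refine ⟨hfun, fun k' _ _ hfin => ?_⟩
  let g : TensorProduct k k' K₀ →ₐ[k] TensorProduct k k' K :=
    Algebra.TensorProduct.map (AlgHom.id k k') K₀.val
  have hg' : Function.Injective g := by
    have := Module.Flat.lTensor_preserves_injective_linearMap (R := k) (M := k') K₀.val.toLinearMap
      Subtype.val_injective
    exact this
  have hdom : IsDomain (TensorProduct k k' K) := (hg k' hfin).isDomain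
  have : IsDomain (TensorProduct k k' K₀) := hg'.isDomain g.toRingHom
  have hmap : Function.Injective (Algebra.TensorProduct.comm k K₀ k') :=
    (Algebra.TensorProduct.comm k K₀ k').injective
  have : IsDomain (TensorProduct k K₀ k') := hmap.isDomain (Algebra.TensorProduct.comm k K₀ k')
  have : IsField (TensorProduct k K₀ k') :=
    isField_of_isIntegral_of_isField' (R := K₀) (S := TensorProduct k K₀ k') (Field.toIsField _)
  exact (Algebra.TensorProduct.comm k k' K₀).toMulEquiv.isField this

end Groth.Agent.S11005
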