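import Groth.Statements.S11007
import Groth.Agent.Lib.FunFld.Separating

set_option autoImplicit false
universe u v
open FunFld

namespace Groth.Agent.S11007

/-- In a geometric function field of one variable of characteristic `p > 0`, `kK^p` is the only
intermediate field over which `K` is purely inseparable of degree `p`. The companion assertion about
the natural map on Kähler differentials is not stated. -/
theorem result (k : Type u) (K : Type v) [Field k] [Field K] [Algebra k K] (p : ℕ) [Fact p.Prime] [CharP K p]
    (hK : FunFld.IsFunctionField k K) (hg : FunFld.IsGeometric k K) (K₀ : IntermediateField k K) :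
    (IsPurelyInseparable K₀ K ∧ Module.finrank K₀ K = p) ↔ K₀ = IntermediateField.adjoin k (Set.range fun y : K => y ^ p) := by
  have hE := GrothLib.FunFld.finrank_powField (k := k) p hK.1 hg
  constructor
  · rintro ⟨hpi, hfin⟩
    haveI : FiniteDimensional K₀ K := Module.finite_of_finrank_pos (hfin ▸ (Fact.out : p.Prime).pos)
    haveI : CharP K₀ p := (Algebra.charP_iff K₀ K p).mpr inferInstance
    haveI : ExpChar K₀ p := ExpChar.prime Fact.out
    have hle : IntermediateField.adjoin k (Set.range fun y : K => y ^ p) ≤ K₀ := by
      rw [IntermediateField.adjoin_le_iff]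
      rintro _ ⟨y, rfl⟩
      obtain ⟨n, c, hc⟩ := IsPurelyInseparable.minpoly_eq_X_pow_sub_C K₀ p y
      have hdeg := minpoly.natDegree_le (A := K₀) y
      rw [hc, Polynomial.natDegree_X_pow_sub_C, hfin] at hdeg
      have hn : n ≤ 1 := (Nat.pow_le_pow_iff_right (Fact.out : p.Prime).one_lt).mp (hdeg.trans_eq (pow_one p).symm)
      have hy := minpoly.aeval K₀ y
      rw [hc, map_sub, map_pow, Polynomial.aeval_X, Polynomial.aeval_C, sub_eq_zero] at hy
      have : y ^ p = (algebraMap K₀ K c) ^ (p ^ (1 - n)) := by
        rw [← hy, ← pow_mul, ← pow_add, Nat.add_sub_cancel' hn, pow_one]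
      show y ^ p ∈ K₀
      rw [this]
      exact pow_mem c.2 _
    haveI : FiniteDimensional (IntermediateField.adjoin k (Set.range fun y : K => y ^ p)) K :=
      Module.finite_of_finrank_pos (lt_of_lt_of_eq (Fact.out : p.Prime).pos hE.symm)
    exact (IntermediateField.eq_of_le_of_finrank_eq' hle (by rw [hE, hfin])).symm
  · rintro rfl
    exact ⟨GrothLib.FunFld.isPurelyInseparable_powField p, hE⟩

end Groth.Agent.S11007
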