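import Groth.Statements.S11008
import Groth.Agent.Lib.FunFld.AbsIrred

set_option autoImplicit false
universe u v
open FunFld

namespace Groth.Agent.S11008

/-- `K/k` is a geometric function field of one variable iff `K = k(x, y)` where the relation ideal of
`(x, y)` in `k[X, Y]` is generated by an absolutely irreducible polynomial `f`. -/
theorem result (k : Type u) (K : Type v) [Field k] [Field K] [Algebra k K] :
    (FunFld.IsFunctionField k K ∧ FunFld.IsGeometric k K) ↔
      ∃ (x y : K) (f : MvPolynomial (Fin 2) k),
        IntermediateField.adjoin k ({x, y} : Set K) = ⊤ ∧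
        (∀ (k' : Type u) [Field k'] [Algebra k k'], FiniteDimensional k k' →
          Irreducible (MvPolynomial.map (algebraMap k k') f)) ∧
        RingHom.ker (MvPolynomial.aeval ![x, y] : MvPolynomial (Fin 2) k →ₐ[k] K) = Ideal.span {f} := by
  constructor
  · rintro ⟨hK, hg⟩
    exact GrothLib.FunFld.AbsIrred.exists_model hK hg
  · rintro ⟨x, y, f, hgen, hirr, hker⟩
    have hg := GrothLib.FunFld.AbsIrred.isGeometric_of_model x y hgen hirr hker
    have hf : Irreducible f := by
      have := hirr k inferInstance
      simpa [MvPolynomial.map_id] using this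
    exact ⟨GrothLib.FunFld.AbsIrred.isFunctionField_of_model x y hgen hf hg hker, hg⟩

end Groth.Agent.S11008
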