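import Groth.Statements.S11010
import Groth.Agent.Lib.FunFld.SeparableExt

set_option autoImplicit false
universe u v
open FunFld

namespace Groth.Agent.S11010

/-- A finite separable extension `K'/k'` of a geometric function field of one variable `K/k` (with `k'`
the constant field of `K'`) is again geometric. (The published statement has no separability
hypothesis on `K'/K`; for `k = 𝔽_p(s,t)`, `K = k(x)` and `K' = K(y)` with `y^p = s x^p + t`, the
field `k` is algebraically closed in `K'` yet `k(s^{1/p}, t^{1/p}) ⊗_k K'` has nonzero nilpotents,
so `K'/K` is taken separable here.) -/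
theorem result (k k' : Type u) (K K' : Type v) [Field k] [Field k'] [Field K] [Field K']
    [Algebra k k'] [Algebra k K] [Algebra K K'] [Algebra k' K'] [Algebra k K']
    [IsScalarTower k k' K'] [IsScalarTower k K K'] [FiniteDimensional K K'] [Algebra.IsSeparable K K']
    (hK : FunFld.IsFunctionField k K) (hg : FunFld.IsGeometric k K)
    (hK' : FunFld.IsFunctionField k' K') : FunFld.IsGeometric k' K' := by
  exact GrothLib.FunFld.isGeometric_of_isSeparable hK hg hK'

end Groth.Agent.S11010
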