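import Groth.Statements.S11013
import Groth.Agent.Lib.FunFld.Ext
import Mathlib.RingTheory.Norm.Transitivity

set_option autoImplicit false
open FunFld

namespace Groth.Agent.S11013

/-- In a finite Galois extension `K'/K` of a geometric function field of one variable, the Galois group
acts transitively on the places of `K'` above a given place of `K`. -/
theorem result (k K K' : Type*) [Field k] [Field K] [Field K'] [Algebra k K] [Algebra K K'] [Algebra k K']
    [IsScalarTower k K K'] [FiniteDimensional K K'] (hK : FunFld.IsFunctionField k K) (hg : FunFld.IsGeometric k K) [IsGalois K K']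
    (Q₁ Q₂ : FunFld.Place k K')
    (h : (Q₁.1.comap (algebraMap K K')).IsEquiv (Q₂.1.comap (algebraMap K K'))) :
    ∃ σ : K' ≃ₐ[K] K', Q₁.1.comap (σ : K' →+* K') = Q₂.1 := by
  classical
  open GrothLib.FunFld WithZero in
  obtain ⟨P, e, he0, he⟩ := exists_isOverWith (K := K) Q₁
  open GrothLib.FunFld WithZero in
  obtain ⟨P', e', he0', he'⟩ := exists_isOverWith (K := K) Q₂
  open GrothLib.FunFld WithZero in
  have hPP : P' = P := place_eq_of_le_one_iff fun x =>
    ((val_le_one_iff_of_isOverWith he' x).symm.trans (h.le_one_iff_le_one (x := x)).symm).trans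
      (val_le_one_iff_of_isOverWith he x)
  subst hPP
  let act : (K' ≃ₐ[K] K') → FunFld.Place k K' → FunFld.Place k K' := fun σ Q =>
    ⟨Q.1.comap (σ : K' →+* K'), fun c => by
      show Q.1 (σ (algebraMap k K' c)) ≤ 1
      rw [IsScalarTower.algebraMap_apply k K K', AlgEquiv.commutes,
        ← IsScalarTower.algebraMap_apply]
      exact Q.2.1 c, fun a => by
      obtain ⟨y, hy⟩ := Q.2.2 a
      exact ⟨σ.symm y, by show Q.1 (σ (σ.symm y)) = a; rw [AlgEquiv.apply_symm_apply]; exact hy⟩⟩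
  have hover : ∀ (σ : K' ≃ₐ[K] K') (Q : FunFld.Place k K'),
      FunFld.IsOver Q P' → FunFld.IsOver (act σ Q) P' := fun σ Q ⟨e, hh⟩ =>
    ⟨e, fun x => by show Q.1 (σ (algebraMap K K' x)) = _; rw [AlgEquiv.commutes]; exact hh x⟩
  by_contra hcon
  push Not at hcon
  obtain ⟨hfin, -⟩ := GrothLib.FunFld.sum_ramIdx (K' := K') hK.1 P'
  let orb : Set (FunFld.Place k K') := {Q | ∃ σ, act σ Q₁ = Q}
  obtain ⟨y, hy⟩ := GrothLib.FunFld.exists_approx hfin.toFinset
    (fun Q => if Q ∈ orb then 1 else 0) (fun _ => -1)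
  have hlt : WithZero.exp (-1 : ℤ) < (1 : WithZero (Multiplicative ℤ)) := by
    rw [← WithZero.exp_zero, WithZero.exp_lt_exp]; omega
  have h1 : ∀ σ : K' ≃ₐ[K] K', Q₁.1 (σ y) = 1 := fun σ => by
    have := (hy (act σ Q₁) (hfin.mem_toFinset.2 (hover σ _ ⟨e, he⟩))).trans_lt hlt
    rw [if_pos ⟨σ, rfl⟩] at this
    have h2 : Q₁.1 (σ y - 1) < 1 := by
      have h3 : (act σ Q₁).1 (y - 1) < 1 := this
      change Q₁.1 (σ (y - 1)) < 1 at h3
      rwa [map_sub, map_one] at h3
    exact (Q₁.1.map_eq_of_sub_lt (x := 1) (by rwa [map_one])).trans (map_one _)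
  have h2 : ∀ σ : K' ≃ₐ[K] K', Q₂.1 (σ y) < 1 := fun σ => by
    have := (hy (act σ Q₂) (hfin.mem_toFinset.2 (hover σ _ ⟨e', he'⟩))).trans_lt hlt
    rw [if_neg, sub_zero] at this
    · exact this
    rintro ⟨τ, hτ⟩
    refine hcon (σ.symm.trans τ) (Valuation.ext fun x => ?_)
    have h4 : Q₁.1 (τ (σ.symm x)) = Q₂.1 (σ (σ.symm x)) :=
      congrArg (fun Q : FunFld.Place k K' => Q.1 (σ.symm x)) hτ
    rw [AlgEquiv.apply_symm_apply] at h4
    exact h4
  have hN := Algebra.norm_eq_prod_automorphisms K y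
  have e1 : Q₁.1 (algebraMap K K' (Algebra.norm K y)) = 1 := by
    rw [hN, map_prod]; exact Finset.prod_eq_one fun σ _ => h1 σ
  have e2 : Q₂.1 (algebraMap K K' (Algebra.norm K y)) < 1 := by
    rw [hN, map_prod, ← Finset.mul_prod_erase _ _ (Finset.mem_univ (1 : K' ≃ₐ[K] K'))]
    exact (mul_le_of_le_one_right' (Finset.prod_le_one' fun σ _ => (h2 σ).le)).trans_lt (h2 1)
  have e3 : P'.1 (Algebra.norm K y) = 1 := (pow_eq_one_iff.1 ((he _).symm.trans e1)).resolve_right he0.ne'
  exact e2.ne ((he' _).trans ((congrArg (· ^ e') e3).trans (one_pow _)))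

end Groth.Agent.S11013
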