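import Groth.Statements.S11016
import Groth.Agent.Lib.FunFld.Riemann

set_option autoImplicit false
open FunFld

namespace Groth.Agent.S11016

/-- `L(D) ≠ 0` iff there is an effective divisor linearly equivalent to `D`. -/
theorem result (k K : Type*) [Field k] [Field K] [Algebra k K]
    (hK : FunFld.IsFunctionField k K) (D : FunFld.Divisor k K) :
    FunFld.L D ≠ ⊥ ↔ ∃ x : K, x ≠ 0 ∧ 0 ≤ D + FunFld.div k x := by
  have hfg : GrothLib.FunFld.IsFG k K := hK.1
  constructor
  · intro hne
    have := hfg.finite_L D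
    obtain ⟨x, hx0, -, hx⟩ := hfg.exists_of_ell_pos (D := D) (by
      rw [FunFld.ell, Nat.pos_iff_ne_zero, Ne, Submodule.finrank_eq_zero]; exact hne)
    exact ⟨x, hx0, hx⟩
  · rintro ⟨x, hx0, hx⟩
    refine Submodule.ne_bot_iff _ |>.2 ⟨x, ?_, hx0⟩
    rw [GrothLib.FunFld.mem_L_iff_ord hx0]
    intro P
    have := hx P
    rw [Finsupp.add_apply, hfg.div_apply, Finsupp.zero_apply] at this
    omega

end Groth.Agent.S11016
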