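import Groth.Statements.S11017
import Groth.Agent.Lib.FunFld.RR

set_option autoImplicit false
open FunFld

namespace Groth.Agent.S11017

/-- For a Weil differential `ω` with divisor `C`, `ord_P [ω] ≥ e` iff `ω` kills every repartition
concentrated at `P` with `P`-component of order at least `-e`. -/
theorem result (k K : Type*) [Field k] [Field K] [Algebra k K] (ω : Module.Dual k (FunFld.adele k K)) (C : FunFld.Divisor k K) (hω : FunFld.IsDivOf ω C)
    (P : FunFld.Place k K) (e : ℤ) :
    e ≤ C P ↔ ∀ (a : FunFld.Place k K → K) (ha : a ∈ FunFld.adele k K),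
      (∀ Q, Q ≠ P → a Q = 0) → P.1 (a P) ≤ WithZero.exp e → ω ⟨a, ha⟩ = 0 := by
  classical
  constructor
  · intro he a ha hoff hP
    refine GrothLib.FunFld.mem_WD_iff.1 ((hω C).2 le_rfl) ⟨a, ha⟩ (Submodule.mem_sup_left fun Q => ?_)
    by_cases hQ : Q = P
    · subst hQ; exact hP.trans (WithZero.exp_le_exp.2 he)
    · simp [hoff Q hQ]
  · intro h
    by_contra hlt
    have hE : C + Finsupp.single P (e - C P) ≤ C := by
      refine (hω _).1 (GrothLib.FunFld.mem_WD_iff.2 fun a ha => ?_)
      obtain ⟨u, hu, v, hv, huv⟩ := Submodule.mem_sup.1 ha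
      have hup : Pi.single P (u P) ∈ FunFld.adele k K :=
        GrothLib.FunFld.AD_le_adele _ (GrothLib.FunFld.single_mem_AD (hu P))
      have hrest : (a : FunFld.Place k K → K) - Pi.single P (u P) ∈
          FunFld.AD C ⊔ LinearMap.range (FunFld.diag k K) := by
        rw [← huv, add_sub_right_comm]
        refine add_mem (Submodule.mem_sup_left fun Q => ?_) (Submodule.mem_sup_right hv)
        by_cases hQ : Q = P
        · subst hQ; simp
        · simpa [hQ, Ne.symm hQ] using hu Q
      have h1 : ω ⟨Pi.single P (u P), hup⟩ = 0 := h _ hup (fun Q hQ => by simp [hQ]) (by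
        have := hu P
        rw [Finsupp.add_apply, Finsupp.single_eq_same, add_sub_cancel] at this
        simpa using this)
      have h2 := GrothLib.FunFld.mem_WD_iff.1 ((hω C).2 le_rfl)
        ⟨_, sub_mem a.2 hup⟩ hrest
      calc ω a = ω (⟨_, hup⟩ + ⟨_, sub_mem a.2 hup⟩) :=
            congrArg ω (Subtype.ext (by simp))
        _ = 0 := by rw [map_add, h1, h2, add_zero]
    have := hE P
    simp at this
    omega

end Groth.Agent.S11017
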