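import Groth.Statements.S11020
import Groth.Agent.Lib.FunFld.Unramified

set_option autoImplicit false
open FunFld

namespace Groth.Agent.S11020

/-- In a finite separable extension `K'/K` of function fields of one variable, almost all places `Q` of
`K'` have `e(Q|P) = 1` over the place `P` of `K` below. (The published statement also gives
separability of almost all residue extensions `F_Q/F_P`; only the ramification part is stated here.) -/
theorem result (k K K' : Type*) [Field k] [Field K] [Field K'] [Algebra k K] [Algebra K K'] [Algebra k K']
    [IsScalarTower k K K'] [FiniteDimensional K K'] (hK : FunFld.IsFunctionField k K) [Algebra.IsSeparable K K'] :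
    {Q : FunFld.Place k K' | ¬ Function.Surjective (Q.1.comap (algebraMap K K'))}.Finite := by
  exact GrothLib.FunFld.finite_ramified (GrothLib.FunFld.IsFG.of_isFunctionField hK)

end Groth.Agent.S11020
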