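import Groth.Statements.S11026
import Groth.Agent.Lib.FunFld.Separating

set_option autoImplicit false
universe u v
open FunFld

namespace Groth.Agent.S11026

/-- A weakly separable finite extension `K'/k'` of a geometric function field `K/k` (the map `Ω_{K/k} →
Ω_{K'/k'}` injective) is separable over the compositum `k'K`. -/
theorem result (k k' : Type u) (K K' : Type v) [Field k] [Field k'] [Field K] [Field K']
    [Algebra k k'] [Algebra k K] [Algebra K K'] [Algebra k' K'] [Algebra k K']
    [IsScalarTower k k' K'] [IsScalarTower k K K'] [FiniteDimensional K K']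
    (hK : FunFld.IsFunctionField k K) (hg : FunFld.IsGeometric k K)
    (hK' : FunFld.IsFunctionField k' K') (hg' : FunFld.IsGeometric k' K')
    (hw : Function.Injective (KaehlerDifferential.map k k' K K')) :
    Algebra.IsSeparable (IntermediateField.adjoin K (Set.range (algebraMap k' K'))) K' := by
  obtain ⟨x, -, hxs⟩ := GrothLib.FunFld.exists_separatingElement hK.1 hg
  have hne : KaehlerDifferential.D k' K' (algebraMap K K' x) ≠ 0 := fun h0 =>
    GrothLib.FunFld.D_ne_zero_of_isSeparable hK.1 hxs (hw (by rw [KaehlerDifferential.map_D, h0, map_zero]))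
  have hsep := (GrothLib.FunFld.isSeparable_iff_D_ne_zero hK'.1 hg' (algebraMap K K' x)).2 hne
  set M := IntermediateField.adjoin K (Set.range (algebraMap k' K'))
  set L := IntermediateField.adjoin k' ({algebraMap K K' x} : Set K')
  have hle : ∀ a ∈ L, a ∈ M := fun a ha => by
    induction ha using IntermediateField.adjoin_induction with
    | mem w hw' => rw [Set.mem_singleton_iff.mp hw']; exact IntermediateField.algebraMap_mem M x
    | algebraMap c => exact IntermediateField.subset_adjoin K _ ⟨c, rfl⟩
    | add a b _ _ ha hb => exact add_mem ha hb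
    | inv a _ ha => exact inv_mem ha
    | mul a b _ _ ha hb => exact mul_mem ha hb
  let ι : L →+* M := L.val.toRingHom.codRestrict M fun a => hle a a.2
  have hι : (algebraMap M K').comp ι = algebraMap L K' := rfl
  refine ⟨fun z => ?_⟩
  refine Polynomial.Separable.of_dvd
    (Polynomial.Separable.map (f := ι) (Algebra.IsSeparable.isSeparable L z)) (minpoly.dvd M z ?_)
  rw [Polynomial.aeval_def, Polynomial.eval₂_map, hι, ← Polynomial.aeval_def, minpoly.aeval]

end Groth.Agent.S11026
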