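import Groth.Statements.S11042
import Groth.Agent.Lib.FunFld.RH.Main

set_option autoImplicit false
open FunFld

namespace Groth.Agent.S11042

/-- A function field of one variable of genus `g` over a finite field with `q` elements has `N` places
of degree one with `|N - q - 1| ≤ 2 g √q`. -/
theorem result
    (k K : Type*) [Field k] [Finite k] [Field K] [Algebra k K]
    (hK : FunFld.IsFunctionField k K) :
    |(Nat.card {P : FunFld.Place k K // P.deg = 1} : ℝ) - (Nat.card k : ℝ) - 1| ≤
      2 * (FunFld.genus k K : ℝ) * Real.sqrt (Nat.card k : ℝ) := by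
  have h := GrothLib.FunFld.RH.abs_pointSum_sub_le hK (m := 1) le_rfl
  rw [GrothLib.FunFld.RH.pointSum_one hK, pow_one, ← sub_sub] at h
  exact h

end Groth.Agent.S11042
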