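import Groth.Statements.S11043
import Groth.Agent.Lib.FunFld.RootsProd

set_option autoImplicit false
open FunFld

namespace Groth.Agent.S11043

/-- For positive integers `n`, `d` with `e = gcd(n, d)`, in `ℂ[t]` one has `(1 - t^{nd/e})^e = ∏_{θⁿ =
1} (1 - (θ t)^d)`, the product over the complex `n`-th roots of unity. -/
theorem result (n d : ℕ) (hn : 0 < n) (hd : 0 < d) :
    ((1 : Polynomial ℂ) - Polynomial.X ^ (n * d / Nat.gcd n d)) ^ Nat.gcd n d =
      ∏ θ ∈ Polynomial.nthRootsFinset n (1 : ℂ),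
        (1 - Polynomial.C (θ ^ d) * Polynomial.X ^ d) := by
  classical
  set e := Nat.gcd n d
  have he : 0 < e := Nat.gcd_pos_of_pos_left d hn
  obtain ⟨m, hm⟩ : e ∣ n := Nat.gcd_dvd_left n d
  haveI : NeZero n := ⟨hn.ne'⟩
  have hm0 : 0 < m := Nat.pos_of_ne_zero fun h => by rw [h, mul_zero] at hm; omega
  have hz := Complex.isPrimitiveRoot_exp n hn.ne'
  set ζ := Complex.exp (2 * Real.pi * Complex.I / n)
  have hzd : IsPrimitiveRoot (ζ ^ d) m := by
    rw [IsPrimitiveRoot.iff_orderOf, (isOfFinOrder_iff_pow_eq_one.mpr ⟨n, hn, hz.pow_eq_one⟩).orderOf_pow,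
      ← hz.eq_orderOf]
    exact Nat.div_eq_of_eq_mul_right he hm
  have key : ∀ q, IsPrimitiveRoot (ζ ^ d) m →
      ∏ i ∈ Finset.range m, (1 - Polynomial.C ((ζ ^ d) ^ (q * m + i)) * Polynomial.X ^ d) =
        1 - (Polynomial.X ^ d) ^ m := fun q h => by
    have hC : IsPrimitiveRoot (Polynomial.C (ζ ^ d)) m := h.map_of_injective Polynomial.C_injective
    have h1 := hC.pow_sub_pow_eq_prod_sub_mul (1 : Polynomial ℂ) (Polynomial.X ^ d) hm0
    rw [one_pow] at h1
    rw [h1]
    refine Finset.prod_bij (fun i _ => Polynomial.C (ζ ^ d) ^ i)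
      (fun i _ => (Polynomial.mem_nthRootsFinset hm0 1).mpr
        (by rw [← pow_mul, mul_comm, pow_mul, hC.pow_eq_one, one_pow]))
      (fun i hi j hj hij => hC.pow_inj (Finset.mem_range.mp hi) (Finset.mem_range.mp hj) hij)
      (fun z hz' => by
        haveI : NeZero m := ⟨hm0.ne'⟩
        obtain ⟨i, hi, rfl⟩ := hC.eq_pow_of_pow_eq_one ((Polynomial.mem_nthRootsFinset hm0 1).mp hz')
        exact ⟨i, Finset.mem_range.mpr hi, rfl⟩)
      fun i _ => ?_
    rw [pow_add, mul_comm q m, pow_mul, h.pow_eq_one, one_pow, one_mul, Polynomial.C_pow]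
  have hperiod : ∀ q, ∏ i ∈ Finset.range (q * m), (1 - Polynomial.C ((ζ ^ d) ^ i) * Polynomial.X ^ d) =
      (1 - (Polynomial.X ^ d) ^ m) ^ q := fun q => by
    induction q with
    | zero => simp
    | succ q ih => rw [Nat.succ_mul, Finset.prod_range_add, ih, key q hzd, pow_succ]
  rw [show n * d / e = d * m by rw [hm, mul_assoc, Nat.mul_div_cancel_left _ he, mul_comm], pow_mul,
    ← hperiod e, ← hm]
  refine Finset.prod_bij (fun i _ => ζ ^ i)
    (fun i _ => (Polynomial.mem_nthRootsFinset hn 1).mpr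
      (by rw [← pow_mul, mul_comm, pow_mul, hz.pow_eq_one, one_pow]))
    (fun i hi j hj hij => hz.pow_inj (Finset.mem_range.mp hi) (Finset.mem_range.mp hj) hij)
    (fun z hz' => by
      obtain ⟨i, hi, rfl⟩ := hz.eq_pow_of_pow_eq_one ((Polynomial.mem_nthRootsFinset hn 1).mp hz')
      exact ⟨i, Finset.mem_range.mpr hi, rfl⟩)
    fun i _ => ?_
  rw [← pow_mul, ← pow_mul, mul_comm d i]

end Groth.Agent.S11043
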