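import Groth.Statements.S11044
import Groth.Agent.Lib.FunFld.Conseq

set_option autoImplicit false
open FunFld

namespace Groth.Agent.S11044

/-- Over an algebraically closed constant field, if the genus `g` is positive and `D` has degree at
least `2g` or is canonical, then `ℓ(D - P) < ℓ(D)` for every place `P`; that is, `D` is the divisor
of the projective map given by `L(D)`. -/
theorem result
    (k K : Type*) [Field k] [IsAlgClosed k] [Field K] [Algebra k K]
    (hK : FunFld.IsFunctionField k K) (hg : 0 < FunFld.genus k K)
    (D : FunFld.Divisor k K)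
    (hD : 2 * (FunFld.genus k K : ℤ) ≤ D.deg ∨ FunFld.IsCanonical k K D) (P : FunFld.Place k K) :
    FunFld.ell (D - Finsupp.single P 1) < FunFld.ell D := by
  have hfg : GrothLib.FunFld.IsFG k K := hK.1
  have hP := hfg.deg_eq_one P
  rcases hD with hD | hD
  · have h1 := GrothLib.FunFld.ell_eq_of_deg_ge hK (D := D) (by omega)
    have h2 := GrothLib.FunFld.ell_eq_of_deg_ge hK (D := D - Finsupp.single P 1)
      (by rw [GrothLib.FunFld.deg_sub, GrothLib.FunFld.deg_single, hP]; omega)
    rw [GrothLib.FunFld.deg_sub, GrothLib.FunFld.deg_single, hP] at h2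
    omega
  · have h1 := GrothLib.FunFld.riemann_roch' hK hD (Finsupp.single P 1)
    rw [GrothLib.FunFld.deg_single, hP] at h1
    have h2 := (GrothLib.FunFld.ell_canonical hK hD).1
    have h3 : FunFld.ell (Finsupp.single P 1 : FunFld.Divisor k K) ≤ 1 := by
      by_contra hc
      obtain ⟨x, hx, hxQ⟩ := GrothLib.FunFld.exists_simple_pole_of_ell hK (P := P) (by omega)
      have := (GrothLib.FunFld.of_adjoin_eq_top hK
        (GrothLib.FunFld.adjoin_eq_top_of_simple_pole hfg hP hx hxQ)).1
      omega
    omega

end Groth.Agent.S11044
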