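import Groth.Statements.S11049
import Mathlib
-- import your own Groth.Agent.* helpers here

set_option autoImplicit false
open CAlg

namespace Groth.Agent.S11049

theorem finite_middle {k : Type*} [Field k] {A B C : Type*} [AddCommGroup A] [Module k A] [AddCommGroup B] [Module k B]
    [AddCommGroup C] [Module k C] [Module.Finite k A] [Module.Finite k C] (f : A →ₗ[k] B) (g : B →ₗ[k] C)
    (e : Function.Exact f g) : Module.Finite k B := by
  haveI : Module.Finite k (B ⧸ LinearMap.ker g) := Module.Finite.equiv g.quotKerEquivRange.symm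
  haveI : Module.Finite k (LinearMap.ker g) := by
    rw [LinearMap.exact_iff.mp e]
    infer_instance
  exact Module.Finite.of_submodule_quotient (LinearMap.ker g)

theorem finrank_add {k : Type*} [Field k] {A B C : Type*} [AddCommGroup A] [Module k A] [AddCommGroup B] [Module k B]
    [AddCommGroup C] [Module k C] [Module.Finite k B] (f : A →ₗ[k] B) (g : B →ₗ[k] C) (hf : Function.Injective f)
    (hg : Function.Surjective g) (e : Function.Exact f g) :
    Module.finrank k B = Module.finrank k A + Module.finrank k C := by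
  have := g.finrank_range_add_finrank_ker
  rw [LinearMap.exact_iff.mp e, LinearMap.finrank_range_of_inj hf, LinearMap.range_eq_top.mpr hg, finrank_top] at this
  omega

/-- For `k`-algebras `S ⊆ R` with `R` an integral domain and a nonzero `x ∈ S`, if `R/S` and `R/Rx` are
finite-dimensional over `k` then `dim_k R/Rx = dim_k S/Sx`. (The published statement allows `x = 0`;
then `R` is a field finite over `k` and the two sides are `dim_k R` and `dim_k S`, which differ for
`S = k ⊊ R`; the published proof multiplies by `x` as an injection, so `x ≠ 0` is assumed here.) -/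
theorem result
    (k R : Type*) [Field k] [CommRing R]
    [IsDomain R] [Algebra k R] (S : Subalgebra k R) (x : S) (hx : (x : R) ≠ 0)
    [Module.Finite k (R ⧸ Subalgebra.toSubmodule S)]
    [Module.Finite k (R ⧸ Ideal.span {(x : R)})] :
    Module.finrank k (R ⧸ Ideal.span {(x : R)}) = Module.finrank k (S ⧸ Ideal.span {x}) := by
  classical
  let Ss : Submodule k R := Subalgebra.toSubmodule S
  let μ : R →ₗ[k] R := LinearMap.mulLeft k (x : R)
  have hμ : Function.Injective μ := fun a b h => mul_left_cancel₀ hx h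
  let A : Submodule k R := Ss.map μ
  let B : Submodule k R := LinearMap.range μ
  have hAB : A ≤ B := LinearMap.map_le_range
  have hAS : A ≤ Ss := by
    rintro _ ⟨s, hs, rfl⟩
    exact S.mul_mem x.2 hs
  -- R/S → R/A → R/B
  let f1 : (R ⧸ Ss) →ₗ[k] R ⧸ A := Submodule.mapQ Ss A μ (Submodule.map_le_iff_le_comap.mp le_rfl)
  let g1 : (R ⧸ A) →ₗ[k] R ⧸ B := Submodule.factor hAB
  have hf1 : Function.Injective f1 := by
    rw [injective_iff_map_eq_zero]
    intro a ha
    obtain ⟨r, rfl⟩ := Submodule.Quotient.mk_surjective _ a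
    obtain ⟨s, hs, hsr⟩ := (Submodule.Quotient.mk_eq_zero A).mp ha
    exact (Submodule.Quotient.mk_eq_zero Ss).mpr (hμ hsr ▸ hs)
  have e1 : Function.Exact f1 g1 := by
    intro a
    obtain ⟨r, rfl⟩ := Submodule.Quotient.mk_surjective _ a
    constructor
    · intro h
      obtain ⟨w, hw⟩ := (Submodule.Quotient.mk_eq_zero B).mp h
      exact ⟨Submodule.Quotient.mk w, congrArg Submodule.Quotient.mk hw⟩
    · rintro ⟨w, hw⟩
      obtain ⟨w, rfl⟩ := Submodule.Quotient.mk_surjective _ w
      rw [← hw]
      exact (Submodule.Quotient.mk_eq_zero B).mpr ⟨w, rfl⟩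
  let eB : (R ⧸ B) ≃ₗ[k] R ⧸ Ideal.span {(x : R)} :=
    (Submodule.quotEquivOfEq B ((Ideal.span {(x : R)}).restrictScalars k) (by
      ext r
      rw [Submodule.restrictScalars_mem, Ideal.mem_span_singleton']
      exact ⟨fun ⟨a, ha⟩ => ⟨a, by rw [← ha, mul_comm]; rfl⟩, fun ⟨a, ha⟩ => ⟨a, by rw [← ha, mul_comm]; rfl⟩⟩)).trans
      (Submodule.Quotient.restrictScalarsEquiv k (Ideal.span {(x : R)}))
  haveI : Module.Finite k (R ⧸ B) := Module.Finite.equiv eB.symm
  haveI : Module.Finite k (R ⧸ Ss) := ‹Module.Finite k (R ⧸ Subalgebra.toSubmodule S)›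
  haveI : Module.Finite k (R ⧸ A) := finite_middle f1 g1 e1
  -- S/xS → R/A → R/S
  let f2 : (S ⧸ Ideal.span {x}) →ₗ[k] R ⧸ A :=
    (Submodule.mapQ ((Ideal.span {x}).restrictScalars k) A S.val.toLinearMap (fun s hs => by
      obtain ⟨a, ha⟩ := Ideal.mem_span_singleton'.mp hs
      exact ⟨a, a.2, by rw [← ha]; exact mul_comm _ _⟩)).comp
      (Submodule.Quotient.restrictScalarsEquiv k (Ideal.span {x})).symm.toLinearMap
  let g2 : (R ⧸ A) →ₗ[k] R ⧸ Ss := Submodule.factor hAS
  have hf2 : Function.Injective f2 := by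
    rw [injective_iff_map_eq_zero]
    intro a ha
    obtain ⟨s, rfl⟩ := Submodule.Quotient.mk_surjective _ a
    obtain ⟨t, ht, hts⟩ := (Submodule.Quotient.mk_eq_zero A).mp ha
    exact (Submodule.Quotient.mk_eq_zero _).mpr (Ideal.mem_span_singleton'.mpr ⟨⟨t, ht⟩, Subtype.ext (by
      show t * (x : R) = _
      rw [mul_comm]; exact hts)⟩)
  have e2 : Function.Exact f2 g2 := by
    intro a
    obtain ⟨r, rfl⟩ := Submodule.Quotient.mk_surjective _ a
    constructor
    · intro h
      exact ⟨Submodule.Quotient.mk ⟨r, (Submodule.Quotient.mk_eq_zero Ss).mp h⟩, rfl⟩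
    · rintro ⟨w, hw⟩
      obtain ⟨w, rfl⟩ := Submodule.Quotient.mk_surjective _ w
      rw [← hw]
      exact (Submodule.Quotient.mk_eq_zero Ss).mpr w.2
  have h1 := finrank_add f1 g1 hf1 (Submodule.factor_surjective hAB) e1
  have h2 := finrank_add f2 g2 hf2 (Submodule.factor_surjective hAS) e2
  have h3 := eB.finrank_eq
  omega

end Groth.Agent.S11049
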