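import Groth.Statements.S11050
import Groth.Agent.Lib.FunFld.Generators

set_option autoImplicit false
open FunFld

namespace Groth.Agent.S11050

/-- Over an algebraically closed constant field, let `W` be a finite-dimensional subspace of the
function field `K` containing `1` and generating `K` over `k` (the span of an effective birational
projective map). Then `W` contains a separating variable `x`, and for each separating `x ∈ W` some
`y ∈ W` gives `K = k(x, y)`. -/
theorem result
    (k K : Type*) [Field k] [IsAlgClosed k] [Field K] [Algebra k K]
    (hK : FunFld.IsFunctionField k K) (W : Submodule k K)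
    [FiniteDimensional k W] (h1 : (1 : K) ∈ W)
    (hW : IntermediateField.adjoin k (W : Set K) = ⊤) :
    (∃ x ∈ W, Algebra.IsSeparable (IntermediateField.adjoin k ({x} : Set K)) K) ∧
    ∀ x ∈ W, Algebra.IsSeparable (IntermediateField.adjoin k ({x} : Set K)) K →
      ∃ y ∈ W, IntermediateField.adjoin k ({x, y} : Set K) = ⊤ := by
  classical
  have hg := GrothLib.FunFld.isGeometric_of_perfectField hK
  refine ⟨?_, fun x hx hsep => ?_⟩
  · obtain ⟨s, hs, hsep⟩ := GrothLib.FunFld.exists_separatingElement hK.1 hg
    by_contra hcon
    push Not at hcon
    have hD : ∀ z ∈ IntermediateField.adjoin k (W : Set K), KaehlerDifferential.D k K z = 0 := by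
      intro z hz
      induction hz using IntermediateField.adjoin_induction with
      | mem w hw =>
        by_contra h0
        exact hcon w hw ((GrothLib.FunFld.isSeparable_iff_D_ne_zero hK.1 hg w).2 h0)
      | algebraMap c => rw [Derivation.map_algebraMap]
      | add a b _ _ ha hb => rw [map_add, ha, hb, add_zero]
      | inv a _ ha => rw [Derivation.leibniz_inv, ha, smul_zero]
      | mul a b _ _ ha hb => rw [Derivation.leibniz, ha, hb, smul_zero, smul_zero, add_zero]
    exact (GrothLib.FunFld.isSeparable_iff_D_ne_zero hK.1 hg s).1 hsep (hD s (hW ▸ IntermediateField.mem_top))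
  · haveI := GrothLib.FunFld.IsFG.finiteDimensional_adjoin hK.1
      (GrothLib.FunFld.transcendental_of_separating hK hsep)
    haveI := hsep
    obtain ⟨y, hy, htop⟩ := GrothLib.FunFld.exists_mem_adjoin_eq_top
      (F := IntermediateField.adjoin k ({x} : Set K)) W hW
    refine ⟨y, hy, ?_⟩
    have := congrArg (IntermediateField.restrictScalars k) htop
    rwa [IntermediateField.restrictScalars_top, IntermediateField.adjoin_simple_adjoin_simple] at this

end Groth.Agent.S11050
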