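import Groth.Statements.S11051
import Groth.Agent.Lib.FunFld.Generators
import Groth.Agent.Lib.FunFld.Approx

set_option autoImplicit false
open FunFld

namespace Groth.Agent.S11051

/-- Over an algebraically closed constant field, for every separating variable `x` of a function field
`K` of one variable (`K` separable over `k(x)`) there is `y` with `K = k(x, y)` such that the span
of `1, x, y` contains a local parameter at every place. (The published statement takes any `x`; this
row takes `x` separating, which is what the published proof uses, since it works with the finitely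
many places ramified over `k(x)`: for a constant `x` the conclusion fails for every `K`, and in
characteristic `p` it fails for `K = k(t)`, `x = t^p`, where every place is ramified over `k(x)` and
no element of the span has order one at the place at infinity or, if `y` is not a polynomial in `t`,
at a pole of `y`.) -/
theorem result
    (k K : Type*) [Field k] [IsAlgClosed k] [Field K] [Algebra k K]
    (hK : FunFld.IsFunctionField k K) (x : K)
    (hsep : Algebra.IsSeparable (IntermediateField.adjoin k ({x} : Set K)) K) :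
    ∃ y : K, IntermediateField.adjoin k ({x, y} : Set K) = ⊤ ∧
      ∀ P : FunFld.Place k K, ∃ f ∈ Submodule.span k ({1, x, y} : Set K),
        P.1 f = WithZero.exp (-1) := by
  classical
  set K₀ := IntermediateField.adjoin k ({x} : Set K)
  have hxt := GrothLib.FunFld.transcendental_of_separating hK hsep
  haveI := GrothLib.FunFld.IsFG.finiteDimensional_adjoin hK.1 hxt
  haveI := hsep
  obtain ⟨a, ha⟩ := Field.exists_primitive_element K₀ K
  set S := (GrothLib.FunFld.finite_no_parameter hK hsep).toFinset
  obtain ⟨y₀, hy₀⟩ := GrothLib.FunFld.exists_approx_eq S (fun _ => (0 : K)) (fun _ => -1)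
  -- a parameter of `k(x)` finite on `S`
  choose c hc using fun P : {P : FunFld.Place k K // P.1 x ≤ 1} => GrothLib.FunFld.exists_residue hK.1 P.1 P.2
  obtain ⟨c₀, hc₀⟩ := Infinite.exists_notMem_finset
    ((S.subtype fun P : FunFld.Place k K => P.1 x ≤ 1).image c)
  have hne : x - algebraMap k K c₀ ≠ 0 := fun h => hxt (by
    rw [sub_eq_zero.1 h]; exact isAlgebraic_algebraMap c₀)
  set u := (x - algebraMap k K c₀)⁻¹ with hu
  have huK : u ∈ K₀ := inv_mem (sub_mem (IntermediateField.mem_adjoin_simple_self k x)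
    (IntermediateField.algebraMap_mem _ _))
  have hule : ∀ P ∈ S, P.1 u ≤ 1 := fun P hP => by
    rw [hu, map_inv₀]
    refine inv_le_one_of_one_le₀ ?_
    by_contra hlt
    rw [not_le] at hlt
    have hx1 : P.1 x ≤ 1 := by
      rw [← sub_add_cancel x (algebraMap k K c₀)]
      exact (P.1.map_add _ _).trans (max_le hlt.le (P.2.1 c₀))
    refine hc₀ (Finset.mem_image.2 ⟨⟨P, hx1⟩, Finset.mem_subtype.2 hP, ?_⟩)
    by_contra hcc
    have h1 := GrothLib.FunFld.val_const (K := K) P (sub_ne_zero.2 (Ne.symm hcc))
    have h2 : P.1 (algebraMap k K (c₀ - c ⟨P, hx1⟩)) < 1 := by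
      rw [show algebraMap k K (c₀ - c ⟨P, hx1⟩) =
        (x - algebraMap k K (c ⟨P, hx1⟩)) - (x - algebraMap k K c₀) by rw [map_sub]; ring]
      exact (P.1.map_sub _ _).trans_lt (max_lt (hc ⟨P, hx1⟩) hlt)
    exact absurd h1 (ne_of_lt h2)
  choose d hd using fun P : {P : FunFld.Place k K // P ∈ S} =>
    GrothLib.FunFld.exists_residue hK.1 P.1 (hule P.1 P.2)
  obtain ⟨M, hM⟩ : ∃ M : ℕ, ∀ P ∈ S, 2 - P.ord a ≤ (M : ℤ) :=
    ⟨∑ P ∈ S, (2 - P.ord a).toNat, fun P hP => (Int.self_le_toNat _).trans (by
      exact_mod_cast Finset.single_le_sum (f := fun P => (2 - P.ord a).toNat) (fun _ _ => Nat.zero_le _) hP)⟩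
  set b : K := ∏ P : {P : FunFld.Place k K // P ∈ S}, (u - algebraMap k K (d P)) ^ M
  have hbK : b ∈ K₀ := prod_mem fun P _ => pow_mem (sub_mem huK (IntermediateField.algebraMap_mem _ _)) _
  have hfac : ∀ P : {P : FunFld.Place k K // P ∈ S}, u - algebraMap k K (d P) ≠ 0 := fun P h => by
    have h1 : u = algebraMap k K (d P) := sub_eq_zero.1 h
    rw [hu, inv_eq_iff_eq_inv, ← map_inv₀] at h1
    exact hxt (by rw [sub_eq_iff_eq_add.1 h1, ← map_add]; exact isAlgebraic_algebraMap _)
  have hb0 : b ≠ 0 := Finset.prod_ne_zero_iff.2 fun P _ => pow_ne_zero _ (hfac P)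
  have hb : ∀ P ∈ S, P.1 (b * a) ≤ WithZero.exp (-2) := by
    intro P hP
    rcases eq_or_ne a 0 with h0 | h0
    · rw [h0, mul_zero, map_zero]; exact zero_le
    rw [map_mul, map_prod, ← Finset.mul_prod_erase _ _ (Finset.mem_univ ⟨P, hP⟩)]
    have hrest : ∏ Q ∈ Finset.univ.erase (⟨P, hP⟩ : {P : FunFld.Place k K // P ∈ S}),
        P.1 ((u - algebraMap k K (d Q)) ^ M) ≤ 1 := Finset.prod_le_one' fun Q _ => by
      rw [map_pow]; exact pow_le_one' ((P.1.map_sub _ _).trans (max_le (hule P hP) (P.2.1 _))) _
    refine (mul_le_mul_left (mul_le_of_le_one_right' hrest) _).trans ?_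
    have h1 : P.1 (u - algebraMap k K (d ⟨P, hP⟩)) < 1 := hd ⟨P, hP⟩
    rw [GrothLib.FunFld.val_eq P (hfac _), ← WithZero.exp_zero, WithZero.exp_lt_exp] at h1
    rw [map_pow, GrothLib.FunFld.val_eq P (hfac _), GrothLib.FunFld.val_eq P h0, ← WithZero.exp_nsmul,
      ← WithZero.exp_add, WithZero.exp_le_exp, nsmul_eq_mul]
    have := hM P hP
    push_cast
    nlinarith
  haveI : Finite (IntermediateField K₀ K) :=
    Field.finite_intermediateField_of_exists_primitive_element K₀ K ⟨a, ha⟩
  obtain ⟨s, t, hst, heq⟩ := Finite.exists_ne_map_eq_of_infinite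
    fun t : k => IntermediateField.adjoin K₀ ({y₀ + t • (b * a)} : Set K)
  refine ⟨y₀ + s • (b * a), ?_, fun P => ?_⟩
  · have htop : IntermediateField.adjoin K₀ ({y₀ + s • (b * a)} : Set K) = ⊤ := by
      rw [eq_top_iff, ← ha, IntermediateField.adjoin_le_iff]
      intro z hz
      rw [Set.mem_singleton_iff.1 hz]
      have h1 := IntermediateField.mem_adjoin_simple_self K₀ (y₀ + s • (b * a))
      have h2 := IntermediateField.mem_adjoin_simple_self K₀ (y₀ + t • (b * a))
      rw [← heq] at h2
      have h3 := sub_mem h1 h2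
      rw [add_sub_add_left_eq_sub, ← sub_smul] at h3
      replace h3 : algebraMap k K (s - t) * (b * a) ∈ IntermediateField.adjoin K₀ ({y₀ + s • (b * a)} : Set K) :=
        Algebra.smul_def (s - t) (b * a) ▸ h3
      have h4 : algebraMap k K (s - t) * b ∈ K₀ := mul_mem (IntermediateField.algebraMap_mem _ _) hbK
      have h5 : (algebraMap k K (s - t) * b)⁻¹ * (algebraMap k K (s - t) * (b * a)) ∈
          IntermediateField.adjoin K₀ ({y₀ + s • (b * a)} : Set K) :=
        mul_mem (IntermediateField.algebraMap_mem _ (⟨_, inv_mem h4⟩ : K₀)) h3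
      rwa [← mul_assoc (algebraMap k K (s - t)), inv_mul_cancel_left₀
        (mul_ne_zero ((map_ne_zero _).2 (sub_ne_zero.2 hst)) hb0)] at h5
    have := congrArg (IntermediateField.restrictScalars k) htop
    rwa [IntermediateField.restrictScalars_top, IntermediateField.adjoin_simple_adjoin_simple] at this
  · by_cases hP : P ∈ S
    · refine ⟨y₀ + s • (b * a), Submodule.subset_span (by simp), ?_⟩
      have h1 : P.1 (y₀ - 0) = WithZero.exp (-1) := hy₀ P hP
      rw [sub_zero] at h1
      rw [P.1.map_add_eq_of_lt_left ?_, h1]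
      rw [Algebra.smul_def, map_mul, h1]
      refine lt_of_le_of_lt (mul_le_of_le_one_left' (P.2.1 s)) ((hb P hP).trans_lt ?_)
      rw [WithZero.exp_lt_exp]; omega
    · simp only [S, Set.Finite.mem_toFinset, Set.mem_setOf_eq, ne_eq, not_forall, not_not] at hP
      obtain ⟨e, he⟩ := hP
      refine ⟨x - algebraMap k K e, sub_mem (Submodule.subset_span (by simp)) ?_, he⟩
      rw [Algebra.algebraMap_eq_smul_one]
      exact Submodule.smul_mem _ _ (Submodule.subset_span (by simp))

end Groth.Agent.S11051
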