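import Groth.Statements.S11054
import Groth.Agent.Lib.FunFld.PlaneGenus

set_option autoImplicit false
open FunFld

namespace Groth.Agent.S11054

/-- Over an algebraically closed constant field, a function field `K = k(x, y)` of genus `g` with plane
model `(1 : x : y)` of degree `d` has `g ≤ (d - 1)(d - 2)/2`. -/
theorem result
    (k K : Type*) [Field k] [IsAlgClosed k] [Field K] [Algebra k K]
    (hK : FunFld.IsFunctionField k K) (x y : K)
    (hxy : IntermediateField.adjoin k ({x, y} : Set K) = ⊤) :
    2 * (FunFld.genus k K : ℤ) ≤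
      ((FunFld.mapDiv k ![(1 : K), x, y]).deg - 1) *
        ((FunFld.mapDiv k ![(1 : K), x, y]).deg - 2) := by
  obtain ⟨f, hf, hfxy⟩ := GrothLib.FunFld.exists_irreducible_relation hK.1 x y
  obtain ⟨c, F, -, hm⟩ := GrothLib.FunFld.exists_planeModel hK.1 hxy hf hfxy
  rw [hm.mapDiv_eq hK.1 (x := x) (c := c) rfl, hm.deg_poleDiv hK.1]
  exact hm.two_mul_genus_le hK

end Groth.Agent.S11054
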