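import Groth.Statements.S11057
import Groth.Agent.Lib.FunFld.Embedding

set_option autoImplicit false
open FunFld

namespace Groth.Agent.S11057

/-- Over an algebraically closed constant field, if `K` has degree at least `3` over every subfield
`k(x)` generated by a nonconstant element, then the canonical map (given by a basis of `L(D)` for a
canonical divisor `D`) is an embedding, i.e. nonsingular at every place. Here a projective map is
nonsingular at a place when its local ring there (quotients of polynomials over `k` in the ratios
`φᵢ/φⱼ`, `φⱼ` of least order at the place, with denominator a unit there) is the whole valuation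
ring. -/
theorem result
    (k K : Type*) [Field k] [IsAlgClosed k] [Field K] [Algebra k K]
    (hK : FunFld.IsFunctionField k K)
    (h2 : ∀ x : K, Transcendental k x →
      2 < Module.finrank (IntermediateField.adjoin k ({x} : Set K)) K)
    (D : FunFld.Divisor k K) (hD : FunFld.IsCanonical k K D) {n : ℕ} (φ : Fin (n + 1) → K)
    (hφ : LinearIndependent k φ) (hspan : Submodule.span k (Set.range φ) = FunFld.L D)
    (P : FunFld.Place k K) : FunFld.IsNonsingularAt φ P := by
  exact GrothLib.FunFld.isNonsingularAt_canonical hK h2 hφ.ne_zero hD hspan P

end Groth.Agent.S11057
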