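import Groth.Statements.S11059
import Groth.Agent.Lib.FunFld.PlaneGenus

set_option autoImplicit false
open FunFld

namespace Groth.Agent.S11059

/-- Over an algebraically closed constant field, a birational plane model `(1 : x : y)` of degree `d` of
a function field of genus `g` has `g = (d - 1)(d - 2)/2` if and only if it is nonsingular at every
place. Here a projective map is nonsingular at a place when its local ring there (quotients of
polynomials over `k` in the ratios `φᵢ/φⱼ`, `φⱼ` of least order at the place, with denominator a
unit there) is the whole valuation ring. -/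
theorem result
    (k K : Type*) [Field k] [IsAlgClosed k] [Field K] [Algebra k K]
    (hK : FunFld.IsFunctionField k K) (x y : K)
    (hxy : IntermediateField.adjoin k ({x, y} : Set K) = ⊤) :
    2 * (FunFld.genus k K : ℤ) =
        ((FunFld.mapDiv k ![(1 : K), x, y]).deg - 1) *
          ((FunFld.mapDiv k ![(1 : K), x, y]).deg - 2) ↔
      ∀ P : FunFld.Place k K, FunFld.IsNonsingularAt ![(1 : K), x, y] P := by
  obtain ⟨f, hf, hfxy⟩ := GrothLib.FunFld.exists_irreducible_relation hK.1 x y
  obtain ⟨c, F, -, hm⟩ := GrothLib.FunFld.exists_planeModel hK.1 hxy hf hfxy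
  rw [hm.mapDiv_eq hK.1 (x := x) (c := c) rfl, hm.deg_poleDiv hK.1, hm.two_mul_genus_eq_iff hK]
  exact ⟨fun h P => GrothLib.FunFld.isNonsingularAt_of_span_eq (GrothLib.FunFld.span_change_eq x y c).symm (h P),
    fun h P => GrothLib.FunFld.isNonsingularAt_of_span_eq (GrothLib.FunFld.span_change_eq x y c) (h P)⟩

end Groth.Agent.S11059
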