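import Groth.Statements.S11068
import Groth.Agent.Lib.FunFld.RH.Main

set_option autoImplicit false
open FunFld

namespace Groth.Agent.S11068

/-- Over a finite constant field with `q` elements, let `K̄ = k̄ ⊗ K` be the constant-field extension to
an algebraic closure and `F` its Frobenius map (identity on `k̄`, `q`-th power on `K`). A place `Q`
of `K̄/k̄` satisfies `Q^F = Q` (the maximal ideal of `Q` is exactly the preimage of itself under
`F`) if and only if `Q` is defined over `k`, i.e. the place of `K` below `Q` has degree one. -/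
theorem result
    (k K kb Kb : Type*) [Field k] [Finite k] [Field K] [Algebra k K] [Field kb] [Algebra k kb]
    [IsAlgClosure k kb] [Field Kb] [Algebra K Kb] [Algebra kb Kb]
    (hK : FunFld.IsFunctionField k K)
    (hc : ∀ c : k, algebraMap K Kb (algebraMap k K c) = algebraMap kb Kb (algebraMap k kb c))
    (hgen : Algebra.adjoin K (Set.range (algebraMap kb Kb)) = ⊤)
    (F : Kb →+* Kb) (hF1 : ∀ c : kb, F (algebraMap kb Kb c) = algebraMap kb Kb c)
    (hF2 : ∀ x : K, F (algebraMap K Kb x) = algebraMap K Kb x ^ Nat.card k)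
    (Q : FunFld.Place kb Kb) :
    (∀ z : Kb, Q.1 (F z) < 1 ↔ Q.1 z < 1) ↔
      ∃ P : FunFld.Place k K, (∀ x : K, Q.1 (algebraMap K Kb x) ≤ 1 ↔ P.1 x ≤ 1) ∧ P.deg = 1 := by
  classical
  letI : Algebra k Kb := ((algebraMap kb Kb).comp (algebraMap k kb)).toAlgebra
  haveI : IsScalarTower k kb Kb := IsScalarTower.of_algebraMap_eq fun _ => rfl
  haveI : IsScalarTower k K Kb := IsScalarTower.of_algebraMap_eq fun c => (hc c).symm
  haveI : IsAlgClosed kb := IsAlgClosure.isAlgClosed k
  have htop : IntermediateField.adjoin kb (Set.range (algebraMap K Kb)) = ⊤ := by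
    refine top_le_iff.1 fun z htriv => ?_
    clear htriv
    have hz : z ∈ Algebra.adjoin K (Set.range (algebraMap kb Kb)) := hgen ▸ Algebra.mem_top
    induction hz using Algebra.adjoin_induction with
    | mem w hw => obtain ⟨c, rfl⟩ := hw; exact IntermediateField.algebraMap_mem _ _
    | algebraMap a => exact IntermediateField.subset_adjoin _ _ ⟨a, rfl⟩
    | add x y _ _ hx hy => exact add_mem hx hy
    | mul x y _ _ hx hy => exact mul_mem hx hy
  have hbar := GrothLib.FunFld.RH.isBar_of_adjoin (k := k) (GrothLib.FunFld.isGeometric_of_perfectField hK) htop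
  let τ : Kb →ₐ[kb] Kb := { F with commutes' := hF1 }
  have hτ : ∀ a : K, τ (algebraMap K Kb a) = algebraMap K Kb a ^ Nat.card k ^ 1 := fun a => by
    rw [pow_one]; exact hF2 a
  have hKb := hbar.isFunctionField hK
  have hfix : (∀ z : Kb, Q.1 (F z) < 1 ↔ Q.1 z < 1) ↔ IsFixedPt τ Q := by
    refine ⟨fun h z hz => (h z).2 hz, fun h z => ⟨fun hz => ?_, h z⟩⟩
    by_contra hge
    rw [not_lt] at hge
    have hz0 : z ≠ 0 := by rintro rfl; simp at hge
    have h1 : Q.1 z⁻¹ ≤ 1 := by rw [map_inv₀]; exact inv_le_one_of_one_le₀ hge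
    obtain ⟨c, hc'⟩ := GrothLib.FunFld.exists_residue hKb.1 Q h1
    have h2 : Q.1 (F z⁻¹) ≤ 1 := by
      rw [← sub_add_cancel (F z⁻¹) (algebraMap kb Kb c)]
      refine (Q.1.map_add _ _).trans (max_le ?_ (Q.2.1 c))
      rw [← hF1 c, ← map_sub]
      exact (h _ hc').le
    have h3 : (1 : WithZero (Multiplicative ℤ)) = Q.1 (F z) * Q.1 (F z⁻¹) := by
      rw [← map_mul, ← map_mul, mul_inv_cancel₀ hz0, map_one, map_one]
    have h4 : Q.1 (F z) * Q.1 (F z⁻¹) ≤ Q.1 (F z) := mul_le_of_le_one_right' h2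
    rw [← h3] at h4
    exact absurd h4 (not_le.2 hz)
  rw [hfix]
  obtain ⟨P, e, hS⟩ := GrothLib.FunFld.RH.exists_spec hbar hK Q
  have hiff : ∀ x : K, Q.1 (algebraMap K Kb x) ≤ 1 ↔ P.1 x ≤ 1 := by
    refine fun x => ⟨fun hx => ?_, fun hx => hS.val_le_one ⟨x, hx⟩⟩
    by_contra hgt
    rw [not_le] at hgt
    have hx0 : x ≠ 0 := by rintro rfl; simp at hgt
    have h1 : Q.1 (algebraMap K Kb x⁻¹) < 1 := hS.val_lt_one (by
      show P.1 x⁻¹ < 1
      rw [map_inv₀]; exact inv_lt_one_of_one_lt₀ hgt)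
    have h2 : Q.1 (algebraMap K Kb x) * Q.1 (algebraMap K Kb x⁻¹) < 1 :=
      lt_of_le_of_lt (mul_le_of_le_one_left' hx) h1
    rw [← map_mul, ← map_mul, mul_inv_cancel₀ hx0, map_one, map_one] at h2
    exact lt_irrefl _ h2
  rw [GrothLib.FunFld.RH.isFixedPt_iff_of_spec hbar hK hτ hS, Nat.dvd_one]
  refine ⟨fun h => ⟨P, hiff, h⟩, fun ⟨P', hP', hd⟩ => ?_⟩
  have : P' = P := GrothLib.FunFld.place_eq_of_le_one_iff fun x => (hP' x).symm.trans (hiff x)
  rw [← this, hd]

end Groth.Agent.S11068
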