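import Groth.Statements.S11070
import Groth.Agent.Lib.FunFld.PlaneGenus

set_option autoImplicit false
open FunFld

namespace Groth.Agent.S11070

/-- Over an algebraically closed constant field, a plane curve `V = V(f)` with natural map `(1 : x :
y)`, `K = k(x, y)`, has degree `deg V = deg f`: the degree of the divisor of the map `(1 : x : y)`
equals the total degree of the irreducible polynomial relation `f(x, y) = 0`. -/
theorem result
    (k K : Type*) [Field k] [IsAlgClosed k] [Field K] [Algebra k K]
    (hK : FunFld.IsFunctionField k K) (x y : K)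
    (hxy : IntermediateField.adjoin k ({x, y} : Set K) = ⊤) (f : MvPolynomial (Fin 2) k)
    (hf : Irreducible f) (hfxy : MvPolynomial.aeval ![x, y] f = 0) :
    (FunFld.mapDiv k ![(1 : K), x, y]).deg = f.totalDegree := by
  obtain ⟨c, F, hdeg, hm⟩ := GrothLib.FunFld.exists_planeModel hK.1 hxy hf hfxy
  rw [hm.mapDiv_eq hK.1 (x := x) (c := c) rfl, hm.deg_poleDiv hK.1, hdeg]

end Groth.Agent.S11070
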