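import Groth.Statements.S11071
import Groth.Agent.Lib.FunFld.JacobianPlane

set_option autoImplicit false
open FunFld

namespace Groth.Agent.S11071

/-- Over an algebraically closed constant field, let `φ = (φ₀, …, φₙ)`, `n ≥ 1`, be a birational
projective map, `f₁, …, f_r` homogeneous generators of its ideal of homogeneous relations (the ideal
of the image curve), and `P` a place at which all `φᵢ/φ₀` are integral, with image point `a`. Then
`φ` is nonsingular at `P` if and only if the matrix `(∂fᵢ/∂Xⱼ(a))`, `1 ≤ j ≤ n`, has rank `n - 1`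
(entries read in the residue field of `P`). Here the local ring of `φ` at `P` consists of the
quotients of polynomials over `k` in the ratios `φᵢ/φ₀` with denominator a unit at `P`; `φ` is
nonsingular at `P` when this ring is the whole valuation ring. -/
theorem result (k K : Type*) [Field k] [IsAlgClosed k] [Field K] [Algebra k K]
    (hK : FunFld.IsFunctionField k K) {n : ℕ} (hn : 1 ≤ n)
    (φ : Fin (n + 1) → K) (hφ : LinearIndependent k φ)
    (hbir : IntermediateField.adjoin k (Set.range fun i => φ i / φ 0) = ⊤)
    (P : FunFld.Place k K) (hP : ∀ i, P.1 (φ i) ≤ P.1 (φ 0)) {r : ℕ}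
    (f : Fin r → MvPolynomial (Fin (n + 1)) k)
    (hhom : ∀ i, (f i).IsHomogeneous (f i).totalDegree)
    (hgen : Ideal.span (Set.range f) =
      RingHom.ker (MvPolynomial.aeval fun i => Polynomial.C (φ i) * Polynomial.X))
    (M : Matrix (Fin r) (Fin n) P.O)
    (hM : ∀ i j, ((M i j : P.O) : K) =
      MvPolynomial.aeval (fun l => φ l / φ 0) (MvPolynomial.pderiv j.succ (f i))) :
    FunFld.IsNonsingularAt φ P ↔ (M.map (IsLocalRing.residue P.O)).rank = n - 1 := by
  classical
  have hfg : GrothLib.FunFld.IsFG k K := hK.1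
  have hne : φ 0 ≠ 0 := hφ.ne_zero 0
  have hlead : GrothLib.FunFld.IsLead φ P 0 := ⟨hne, hP⟩
  obtain ⟨t, ht⟩ := GrothLib.FunFld.exists_point hfg hlead
  have hrel : ∀ i, MvPolynomial.aeval φ (f i) = 0 := fun i => by
    have h1 : f i ∈ RingHom.ker (MvPolynomial.aeval fun i => Polynomial.C (φ i) * Polynomial.X) :=
      hgen ▸ Ideal.subset_span ⟨i, rfl⟩
    rw [RingHom.mem_ker, GrothLib.FunFld.aeval_C_mul_X_of_isHomogeneous _ (hhom i)] at h1
    rw [mul_eq_zero] at h1
    exact Polynomial.C_eq_zero.1 (h1.resolve_right (pow_ne_zero _ Polynomial.X_ne_zero))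
  have hval := fun i => GrothLib.FunFld.eval_eq_zero_of_relation hne ht (hhom i) (hrel i)
  let ι : k →+* (IsLocalRing.ResidueField P.O) := algebraMap k (IsLocalRing.ResidueField P.O)
  have hsurj : ∀ z : (IsLocalRing.ResidueField P.O), ∃ c : k, ι c = z := fun z => by
    obtain ⟨y, rfl⟩ := IsLocalRing.residue_surjective z
    obtain ⟨c, hc⟩ := GrothLib.FunFld.exists_residue hfg P y.2
    exact ⟨c, (GrothLib.FunFld.residue_eq_algebraMap y hc).symm⟩
  set R := M.map (IsLocalRing.residue P.O) with hRdef
  have hR : ∀ i l, R i l = ι (MvPolynomial.eval t (MvPolynomial.pderiv l.succ (f i))) := fun i l => by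
    refine GrothLib.FunFld.residue_eq_algebraMap _ ?_
    rw [hM]
    exact GrothLib.FunFld.val_aeval_sub_lt P ht _
  rw [Matrix.rank_eq_finrank_span_row]
  set W := Submodule.span (IsLocalRing.ResidueField P.O) (Set.range R.row) with hW
  have hfin : Module.finrank (IsLocalRing.ResidueField P.O) (Fin n → (IsLocalRing.ResidueField P.O)) = n := Module.finrank_fin_fun (IsLocalRing.ResidueField P.O)
  constructor
  · intro hns
    obtain ⟨i, hi0, hπ, hall⟩ := GrothLib.FunFld.exists_relations_of_isNonsingularAt hfg hlead hns ht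
    obtain ⟨i, rfl⟩ := Fin.exists_succ_eq.2 hi0
    set π := φ i.succ / φ 0 - algebraMap k K (t i.succ) with hπdef
    have hπ0 : π ≠ 0 := fun h0 => by rw [h0, map_zero] at hπ; exact WithZero.exp_ne_zero hπ.symm
    have hle : ∀ l, GrothLib.FunFld.val P (φ l / φ 0 - algebraMap k K (t l)) ≤ WithZero.exp (-1) := fun l => by
      rw [show (-1 : ℤ) = 0 - 1 by ring, GrothLib.FunFld.le_exp_sub_one_iff, WithZero.exp_zero]
      exact ht l
    have hquot : ∀ l, GrothLib.FunFld.val P ((φ l / φ 0 - algebraMap k K (t l)) / π) ≤ 1 := fun l => by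
      rw [map_div₀, hπ, div_le_one₀ WithZero.exp_pos]
      exact hle l
    choose v hv using fun l => GrothLib.FunFld.exists_residue hfg P (hquot l)
    have hvi : v i.succ = 1 := by
      refine GrothLib.FunFld.residue_unique P (hv i.succ) ?_
      rw [← hπdef, div_self hπ0, map_one, sub_self, map_zero]
      exact zero_lt_one
    have hv0 : v 0 = 0 := by
      have ht0 : t 0 = 1 := GrothLib.FunFld.residue_unique P (ht 0) (by simp [hne])
      refine GrothLib.FunFld.residue_unique P (hv 0) ?_
      simp [ht0, hne]
    have hkill : ∀ q, MvPolynomial.aeval (fun l => φ l / φ 0) q = 0 →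
        ∑ l, MvPolynomial.eval t (MvPolynomial.pderiv l q) * v l = 0 := fun q hq => by
      set e : Fin (n + 1) → K := fun l => algebraMap k K (MvPolynomial.eval t (MvPolynomial.pderiv l q))
      set s := ∑ l, e l * (φ l / φ 0 - algebraMap k K (t l))
      have h1 : GrothLib.FunFld.val P s ≤ WithZero.exp ((-1 : ℤ) - 1) :=
        GrothLib.FunFld.val_sum_pderiv_mul_le P ht hq hle
      refine GrothLib.FunFld.residue_unique P (x := s / π) ?_ ?_
      · rw [Finset.sum_div, map_sum, ← Finset.sum_sub_distrib]
        refine Valuation.map_sum_lt _ one_ne_zero fun l _ => ?_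
        rw [map_mul, mul_div_assoc, ← mul_sub, map_mul]
        exact mul_lt_one_of_nonneg_of_lt_one_right (P.2.1 _) zero_le (hv l)
      · rw [map_zero, sub_zero, map_div₀, hπ, div_lt_one₀ WithZero.exp_pos]
        exact h1.trans_lt (WithZero.exp_lt_exp.2 (by omega))
    let L : (Fin n → (IsLocalRing.ResidueField P.O)) →ₗ[(IsLocalRing.ResidueField P.O)] (IsLocalRing.ResidueField P.O) := Fintype.linearCombination (IsLocalRing.ResidueField P.O) (fun l : Fin n => ι (v l.succ))
    have hLW : W ≤ L.ker := by
      rw [hW, Submodule.span_le]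
      rintro _ ⟨a, rfl⟩
      show L (R a) = 0
      rw [Fintype.linearCombination_apply]
      have h1 := congrArg ι (hkill (f a) (hval a).1)
      rw [map_sum, Fin.sum_univ_succ, hv0, mul_zero, map_zero, zero_add] at h1
      refine Eq.trans (Finset.sum_congr rfl fun l _ => ?_) h1
      rw [hR, smul_eq_mul, map_mul]
    have hnot : Pi.single i 1 ∉ W := fun hm => by
      have h1 : L (Pi.single i 1) = 0 := hLW hm
      rw [Fintype.linearCombination_apply, Finset.sum_eq_single i (fun m _ hm => by simp [hm]) (by simp)] at h1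
      simp [hvi] at h1
    have hlt : Module.finrank (IsLocalRing.ResidueField P.O) W < n :=
      lt_of_lt_of_eq (Submodule.finrank_lt (s := W) (fun htop => hnot (htop.symm ▸ Submodule.mem_top))) hfin
    have htop : W ⊔ Submodule.span (IsLocalRing.ResidueField P.O) {Pi.single i 1} = ⊤ := by
      refine top_unique fun w _ => ?_
      rw [pi_eq_sum_univ' w]
      refine Submodule.sum_mem _ fun l _ => ?_
      suffices hl : (Pi.single l 1 : Fin n → (IsLocalRing.ResidueField P.O)) ∈ W ⊔ Submodule.span (IsLocalRing.ResidueField P.O) {Pi.single i 1} from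
        Submodule.smul_mem _ _ hl
      obtain ⟨lam, N, G, hG, hG0, hgrad⟩ := hall l.succ
      have hGker : G ∈ Ideal.span (Set.range f) := by
        rw [hgen, RingHom.mem_ker, GrothLib.FunFld.aeval_C_mul_X_of_isHomogeneous _ hG, hG0, map_zero, zero_mul]
      obtain ⟨Q, hQ⟩ := Ideal.mem_span_range_iff_exists_fun.1 hGker
      have hmem : (fun m : Fin n => ι (MvPolynomial.eval t (MvPolynomial.pderiv m.succ G))) ∈ W := by
        have : (fun m : Fin n => ι (MvPolynomial.eval t (MvPolynomial.pderiv m.succ G))) =
            ∑ a, ι (MvPolynomial.eval t (Q a)) • R a := by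
          funext m
          rw [← hQ, Finset.sum_apply, map_sum, map_sum, map_sum]
          refine Finset.sum_congr rfl fun a _ => ?_
          rw [MvPolynomial.pderiv_mul, map_add, map_mul, map_mul, (hval a).2, mul_zero, zero_add,
            Pi.smul_apply, hR, smul_eq_mul, map_mul]
        rw [this]
        exact Submodule.sum_mem _ fun a _ => Submodule.smul_mem _ _ (Submodule.subset_span ⟨a, rfl⟩)
      have he : (Pi.single l 1 : Fin n → (IsLocalRing.ResidueField P.O)) =
          (fun m : Fin n => ι (MvPolynomial.eval t (MvPolynomial.pderiv m.succ G))) + ι lam • Pi.single i 1 := by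
        funext m
        rw [Pi.add_apply, hgrad _ (Fin.succ_ne_zero m), Pi.smul_apply, map_sub, map_mul]
        simp only [Fin.succ_inj, Pi.single_apply, smul_eq_mul, apply_ite ι, map_one, map_zero, eq_comm (a := m)]
        ring
      rw [he]
      exact add_mem (Submodule.mem_sup_left hmem)
        (Submodule.mem_sup_right (Submodule.smul_mem _ _ (Submodule.mem_span_singleton_self _)))
    have hge : n ≤ Module.finrank (IsLocalRing.ResidueField P.O) W + 1 := by
      have h1 := Submodule.finrank_sup_add_finrank_inf_eq W (Submodule.span (IsLocalRing.ResidueField P.O) {(Pi.single i 1 : Fin n → (IsLocalRing.ResidueField P.O))})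
      rw [htop, finrank_top, hfin, finrank_span_singleton (show (Pi.single i 1 : Fin n → (IsLocalRing.ResidueField P.O)) ≠ 0 by simp)] at h1
      omega
    omega
  · intro hrank
    obtain ⟨i, hi⟩ : ∃ i : Fin n, Pi.single i 1 ∉ W := by
      by_contra hcon
      push Not at hcon
      have : W = ⊤ := top_unique fun w _ => by
        rw [pi_eq_sum_univ' w]
        exact Submodule.sum_mem _ fun l _ => Submodule.smul_mem _ _ (hcon l)
      rw [this, finrank_top, hfin] at hrank
      omega
    have htop : W ⊔ Submodule.span (IsLocalRing.ResidueField P.O) {Pi.single i 1} = ⊤ := by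
      refine Submodule.eq_top_of_finrank_eq ?_
      have h1 := Submodule.finrank_lt_finrank_of_lt
        (show W < W ⊔ Submodule.span (IsLocalRing.ResidueField P.O) {Pi.single i 1} from lt_of_le_of_ne le_sup_left fun he => hi
          (he ▸ Submodule.mem_sup_right (Submodule.mem_span_singleton_self _)))
      have h2 : Module.finrank (IsLocalRing.ResidueField P.O) ↥(W ⊔ Submodule.span (IsLocalRing.ResidueField P.O) {(Pi.single i 1 : Fin n → (IsLocalRing.ResidueField P.O))}) ≤ n :=
        (Submodule.finrank_le _).trans_eq hfin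
      refine Eq.trans ?_ hfin.symm
      omega
    refine GrothLib.FunFld.isNonsingularAt_of_gradients hfg hlead hbir ht i.succ fun l hl => ?_
    by_cases hl0 : l = 0
    · subst hl0
      refine ⟨MvPolynomial.X 0 - 1, by simp [hne], fun m _ => ?_⟩
      by_cases h : (0 : Fin (n + 1)) = m
      · subst h; simp
      · simp [h, MvPolynomial.pderiv_X_of_ne h]
    obtain ⟨l, rfl⟩ := Fin.exists_succ_eq.2 hl0
    obtain ⟨w, hw, z, hz, hwz⟩ := Submodule.mem_sup.1 (htop ▸ Submodule.mem_top :
      (Pi.single l 1 : Fin n → (IsLocalRing.ResidueField P.O)) ∈ W ⊔ Submodule.span (IsLocalRing.ResidueField P.O) {Pi.single i 1})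
    obtain ⟨μ, rfl⟩ := (Submodule.mem_span_range_iff_exists_fun (IsLocalRing.ResidueField P.O)).1 hw
    obtain ⟨c, rfl⟩ := Submodule.mem_span_singleton.1 hz
    choose μ' hμ' using fun a => hsurj (μ a)
    set g := ∑ a, MvPolynomial.C (μ' a) * f a
    refine ⟨g - MvPolynomial.C (MvPolynomial.eval t (MvPolynomial.pderiv 0 g)) * (MvPolynomial.X 0 - 1), ?_, fun m hm => ?_⟩
    · rw [map_sub, map_sum, Finset.sum_eq_zero fun a _ => by rw [map_mul, (hval a).1, mul_zero]]
      simp [hne]
    refine Fin.cases ?_ (fun m hm => ?_) m hm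
    · intro _
      simp [Fin.succ_ne_zero]
    · have hmi : i ≠ m := fun h => hm (h ▸ rfl)
      have h1 := congrFun hwz m
      rw [Pi.add_apply, Finset.sum_apply, Pi.smul_apply, Pi.single_eq_of_ne hmi.symm, smul_zero, add_zero] at h1
      rw [map_sub, map_sub, MvPolynomial.pderiv_C_mul, (MvPolynomial.pderiv (R := k) m.succ).map_sub, MvPolynomial.pderiv_X_of_ne (Fin.succ_ne_zero m).symm]
      simp only [MvPolynomial.pderiv_one, sub_zero, mul_zero, map_zero]
      refine ι.injective ?_
      rw [map_sum, map_sum, map_sum]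
      refine Eq.trans (Finset.sum_congr rfl fun a _ => ?_) (h1.trans ?_)
      · rw [MvPolynomial.pderiv_C_mul, map_mul, MvPolynomial.eval_C, map_mul, hμ', Pi.smul_apply, smul_eq_mul]
        show _ = μ a * R a m
        rw [hR]
      · simp [Pi.single_apply, apply_ite ι, eq_comm]

end Groth.Agent.S11071
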