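import Groth.Statements.S11072
import Groth.Agent.Lib.FunFld.JacobianPlane

set_option autoImplicit false
open FunFld

namespace Groth.Agent.S11072

/-- Over an algebraically closed constant field, a plane curve with defining irreducible homogeneous
polynomial `f` and birational natural map `φ = (φ₀ : φ₁ : φ₂)` is singular at the point `a = φ(P)`
(coordinates `(φᵢ/φⱼ)(P)` for an entry `φⱼ` of least order at `P`, read in the residue field) if and
only if `∂f/∂Xᵢ(a) = 0` for `i = 0, 1, 2`. Here `φ` is nonsingular at `P` when its local ring there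
(quotients of polynomials over `k` in the `φᵢ/φⱼ` with denominator a unit at `P`) is the whole
valuation ring. -/
theorem result (k K : Type*) [Field k] [IsAlgClosed k] [Field K] [Algebra k K]
    (hK : FunFld.IsFunctionField k K) (φ : Fin 3 → K)
    (hφ : LinearIndependent k φ)
    (hbir : IntermediateField.adjoin k (Set.range fun i => φ i / φ 0) = ⊤)
    (f : MvPolynomial (Fin 3) k) (hf : Irreducible f) (hhom : f.IsHomogeneous f.totalDegree)
    (hfφ : MvPolynomial.aeval φ f = 0) (P : FunFld.Place k K) (j : Fin 3)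
    (hj : ∀ i, P.1 (φ i) ≤ P.1 (φ j)) (a : Fin 3 → P.O) (ha : ∀ i, ((a i : P.O) : K) = φ i / φ j) :
    ¬ FunFld.IsNonsingularAt φ P ↔
      ∀ l : Fin 3, MvPolynomial.aeval (fun i => IsLocalRing.residue P.O (a i))
        (MvPolynomial.pderiv l f) = 0 := by
  classical
  have hfg : GrothLib.FunFld.IsFG k K := hK.1
  have hne : φ j ≠ 0 := hφ.ne_zero j
  have hlead : GrothLib.FunFld.IsLead φ P j := ⟨hne, hj⟩
  have hgen : IntermediateField.adjoin k (Set.range fun i => φ i / φ j) = ⊤ :=
    (GrothLib.FunFld.adjoin_ratios_eq (hφ.ne_zero 0) hne).trans hbir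
  obtain ⟨r, hr⟩ := GrothLib.FunFld.exists_point hfg hlead
  obtain ⟨hx, hr0⟩ := GrothLib.FunFld.eval_eq_zero_of_relation hne hr hhom hfφ
  have hrj : r j = 1 := GrothLib.FunFld.residue_unique P (hr j) (by simp [hne])
  set D : Fin 3 → k := fun l => MvPolynomial.eval r (MvPolynomial.pderiv l f) with hD
  have hiff : (∀ l : Fin 3, MvPolynomial.aeval (fun i => IsLocalRing.residue P.O (a i))
      (MvPolynomial.pderiv l f) = 0) ↔ ∀ l, D l = 0 := by
    refine forall_congr' fun l => ?_
    rw [GrothLib.FunFld.aeval_residue a (r := r) (fun l => by rw [ha l]; exact hr l),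
      map_eq_zero_iff _ (algebraMap k (IsLocalRing.ResidueField P.O)).injective]
  rw [hiff]
  constructor
  · intro hsing
    by_contra hall
    push Not at hall
    obtain ⟨l₀, hlj, hl₀⟩ : ∃ l₀, l₀ ≠ j ∧ D l₀ ≠ 0 := by
      by_contra hcon
      push Not at hcon
      obtain ⟨l, hl⟩ := hall
      have hlj : l = j := by_contra fun h => hl (hcon l h)
      have h1 := GrothLib.FunFld.sum_mul_eval_pderiv hhom hr0
      rw [Finset.sum_eq_single j (fun m _ hm => by rw [show MvPolynomial.eval r (MvPolynomial.pderiv m f) = 0 from hcon m hm, mul_zero]) (by simp), hrj, one_mul] at h1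
      exact hl (hlj ▸ h1)
    obtain ⟨i, hij, hil⟩ : ∃ i : Fin 3, i ≠ j ∧ i ≠ l₀ := by
      have key : ∀ a b : Fin 3, ∃ i : Fin 3, i ≠ a ∧ i ≠ b := by decide
      exact key j l₀
    refine hsing (GrothLib.FunFld.isNonsingularAt_of_gradients hfg hlead hgen hr i fun l hl => ?_)
    have hcov : l = j ∨ l = l₀ := by omega
    rcases hcov with rfl | rfl
    · refine ⟨MvPolynomial.X l - 1, by simp [hne], fun m _ => ?_⟩
      by_cases h : l = m <;> simp [h, MvPolynomial.pderiv_X, Pi.single_apply, eq_comm]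
    · refine ⟨MvPolynomial.C (D l)⁻¹ * (f - MvPolynomial.C (D j) * (MvPolynomial.X j - 1)), ?_, fun m hm => ?_⟩
      · rw [map_mul, map_sub, hx]
        simp [hne]
      · have hcov : m = j ∨ m = l := by omega
        rcases hcov with rfl | rfl
        · simp [D, hlj, MvPolynomial.pderiv_X]
        · have hd : MvPolynomial.eval r (MvPolynomial.pderiv m f) ≠ 0 := hl₀
          simp [hd, hlj, hlj.symm, MvPolynomial.pderiv_X, D]
  · intro hall hns
    obtain ⟨i, hij, -, hrel⟩ := GrothLib.FunFld.exists_relations_of_isNonsingularAt hfg hlead hns hr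
    obtain ⟨l, hlj, hli⟩ : ∃ l : Fin 3, l ≠ j ∧ l ≠ i := by
      have key : ∀ a b : Fin 3, ∃ i : Fin 3, i ≠ a ∧ i ≠ b := by decide
      exact key j i
    obtain ⟨lam, N, G, hG, hGφ, hgrad⟩ := hrel l
    obtain ⟨Q, rfl⟩ := GrothLib.FunFld.dvd_of_isHomogeneous_relation hK (hφ.ne_zero 0) hbir hf hhom hfφ hG hGφ
    have h1 := hgrad l hlj
    rw [MvPolynomial.pderiv_mul, map_add, map_mul, map_mul, hr0, show MvPolynomial.eval r (MvPolynomial.pderiv l f) = 0 from hall l,
      if_pos rfl, if_neg hli.symm] at h1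
    simp at h1

end Groth.Agent.S11072
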