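import Groth.Statements.S11073
import Groth.Agent.Lib.FunFld.PlaneRelations

set_option autoImplicit false
open FunFld

namespace Groth.Agent.S11073

/-- Over an algebraically closed constant field, the ideal of a projective plane curve — here the curve
with function field `K = k(x, y)`, whose ideal is the kernel of `X₀ ↦ T, X₁ ↦ xT, X₂ ↦ yT` into
`K[T]` — is principal, with an irreducible homogeneous generator. -/
theorem result
    (k K : Type*) [Field k] [IsAlgClosed k] [Field K] [Algebra k K]
    (hK : FunFld.IsFunctionField k K) (x y : K)
    (hxy : IntermediateField.adjoin k ({x, y} : Set K) = ⊤) :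
    ∃ f : MvPolynomial (Fin 3) k, Irreducible f ∧ f.IsHomogeneous f.totalDegree ∧
      RingHom.ker (MvPolynomial.aeval fun i => Polynomial.C (![(1 : K), x, y] i) * Polynomial.X) =
        Ideal.span {f} := by
  exact GrothLib.FunFld.ker_plane_relations hK x y hxy

end Groth.Agent.S11073
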