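import Groth.Statements.S11074
import Groth.Agent.Lib.FunFld.JacobianPlane

set_option autoImplicit false
open FunFld

namespace Groth.Agent.S11074

/-- Over an algebraically closed constant field, at a nonsingular point `a = φ(P)` of a plane curve
`V(f)` with birational natural map `φ = (φ₀ : φ₁ : φ₂)`, the tangent line is `(∂f/∂X₀(a) : ∂f/∂X₁(a)
: ∂f/∂X₂(a))`: the corresponding linear form, pulled back along `φ` normalized at `P`, vanishes to
order at least `2` at `P` (the tangent line being the one line whose pullback vanishes to order `≥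
2`). Nonsingular at `P` means that the local ring of `φ` at `P` (quotients of polynomials over `k`
in the `φᵢ/φⱼ`, `φⱼ` of least order at `P`, denominator a unit at `P`) is the whole valuation ring. -/
theorem result
    (k K : Type*) [Field k] [IsAlgClosed k] [Field K] [Algebra k K]
    (hK : FunFld.IsFunctionField k K) (φ : Fin 3 → K) (hφ : LinearIndependent k φ)
    (hbir : IntermediateField.adjoin k (Set.range fun i => φ i / φ 0) = ⊤)
    (f : MvPolynomial (Fin 3) k) (hf : Irreducible f) (hhom : f.IsHomogeneous f.totalDegree)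
    (hfφ : MvPolynomial.aeval φ f = 0) (P : FunFld.Place k K) (j : Fin 3)
    (hj : ∀ i, P.1 (φ i) ≤ P.1 (φ j)) (hns : FunFld.IsNonsingularAt φ P) (a : Fin 3 → P.O)
    (ha : ∀ i, ((a i : P.O) : K) = φ i / φ j) (c : Fin 3 → k)
    (hc : ∀ i, algebraMap k (IsLocalRing.ResidueField P.O) (c i) =
      MvPolynomial.aeval (fun l => IsLocalRing.residue P.O (a l)) (MvPolynomial.pderiv i f)) :
    P.1 (∑ i, c i • (φ i / φ j)) ≤ WithZero.exp (-2) := by
  classical
  have hfg : GrothLib.FunFld.IsFG k K := hK.1
  have hne : φ j ≠ 0 := hφ.ne_zero j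
  have hlead : GrothLib.FunFld.IsLead φ P j := ⟨hne, hj⟩
  obtain ⟨r, hr⟩ := GrothLib.FunFld.exists_point hfg hlead
  obtain ⟨hx, hr0⟩ := GrothLib.FunFld.eval_eq_zero_of_relation hne hr hhom hfφ
  have hcr : ∀ i, c i = MvPolynomial.eval r (MvPolynomial.pderiv i f) := fun i => by
    have h1 := hc i
    rw [GrothLib.FunFld.aeval_residue a (r := r) (fun l => by rw [ha l]; exact hr l)] at h1
    exact (algebraMap k (IsLocalRing.ResidueField P.O)).injective h1
  have hle : ∀ l, GrothLib.FunFld.val P (φ l / φ j - algebraMap k K (r l)) ≤ WithZero.exp (-1) := fun l => by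
    rw [show (-1 : ℤ) = 0 - 1 by ring, GrothLib.FunFld.le_exp_sub_one_iff, WithZero.exp_zero]
    exact hr l
  have h2 := GrothLib.FunFld.val_sum_pderiv_mul_le P hr hx hle
  have hEuler : ∑ l, algebraMap k K (MvPolynomial.eval r (MvPolynomial.pderiv l f)) * algebraMap k K (r l) = 0 := by
    have h3 := congrArg (algebraMap k K) (GrothLib.FunFld.sum_mul_eval_pderiv hhom hr0)
    rw [map_sum, map_zero] at h3
    rw [← h3]
    exact Finset.sum_congr rfl fun l _ => by rw [map_mul, mul_comm]
  simp only [mul_sub, Finset.sum_sub_distrib, hEuler, sub_zero] at h2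
  simpa [hcr, Algebra.smul_def] using h2

end Groth.Agent.S11074
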