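import Groth.Statements.S11075
import Groth.Agent.Lib.FunFld.Embedding

set_option autoImplicit false
open FunFld

namespace Groth.Agent.S11075

/-- Over an algebraically closed constant field, let `φ = (φ₀, …, φₙ)`, `n ≥ 1`, be a projective map
onto the curve `V`. (a) A homogeneous `g` not vanishing identically on `V` vanishes at the image
point of only finitely many places (so a closed set not containing `V` meets `V` in a finite set);
(b) each fibre of `φ` is finite. Here `g` vanishes at `φ(P)` when `g(φ₀/φⱼ, …, φₙ/φⱼ)` lies in the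
maximal ideal of `P` for an entry `φⱼ` of least order at `P`. Two places have the same image point
when some entry `φⱼ` has least order at both and each `φᵢ/φⱼ` is congruent to one constant modulo
both maximal ideals. -/
theorem result (k K : Type*) [Field k] [IsAlgClosed k] [Field K] [Algebra k K]
    (hK : FunFld.IsFunctionField k K) {n : ℕ} (hn : 1 ≤ n)
    (φ : Fin (n + 1) → K) (hφ : LinearIndependent k φ) :
    (∀ g : MvPolynomial (Fin (n + 1)) k, g.IsHomogeneous g.totalDegree →
      MvPolynomial.aeval φ g ≠ 0 →
        {P : FunFld.Place k K | ∃ j, φ j ≠ 0 ∧ (∀ i, P.1 (φ i) ≤ P.1 (φ j)) ∧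
          P.1 (MvPolynomial.aeval (fun i => φ i / φ j) g) < 1}.Finite) ∧
    ∀ P : FunFld.Place k K, {Q : FunFld.Place k K | FunFld.SameImage φ P Q}.Finite := by
  classical
  have hfg : GrothLib.FunFld.IsFG k K := hK.1
  have hne : ∀ i, φ i ≠ 0 := fun i => hφ.ne_zero i
  refine ⟨fun g hg hg0 => ?_, fun P => ?_⟩
  · refine (Set.finite_iUnion fun j => hfg.finite_support_ord
      (MvPolynomial.aeval (fun i => φ i / φ j) g)).subset ?_
    rintro P ⟨j, hj, -, hlt⟩
    refine Set.mem_iUnion.2 ⟨j, fun h0 => ?_⟩
    have hx : MvPolynomial.aeval (fun i => φ i / φ j) g ≠ 0 := by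
      intro hz
      apply hg0
      have hscale : (φ j) ^ g.totalDegree * MvPolynomial.aeval (fun i => φ i / φ j) g = MvPolynomial.aeval φ g := by
        rw [MvPolynomial.aeval_def, MvPolynomial.eval₂_eq, MvPolynomial.aeval_def, MvPolynomial.eval₂_eq, Finset.mul_sum]
        refine Finset.sum_congr rfl fun d hd => ?_
        have hdeg : d.sum (fun _ e => e) = g.totalDegree := by
          simpa [Finsupp.weight_apply] using hg (MvPolynomial.mem_support_iff.1 hd)
        rw [← hdeg, Finsupp.sum, ← Finset.prod_pow_eq_pow_sum, mul_left_comm, ← Finset.prod_mul_distrib]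
        congr 1
        refine Finset.prod_congr rfl fun i _ => ?_
        rw [← mul_pow, mul_div_cancel₀ _ hj]
      rw [← hscale, hz, mul_zero]
    have h1 : P.1 (MvPolynomial.aeval (fun i => φ i / φ j) g) = 1 := by
      show GrothLib.FunFld.val P _ = 1
      simp only at h0
      rw [GrothLib.FunFld.val_eq P hx, h0, neg_zero, WithZero.exp_zero]
    exact hlt.ne h1
  · obtain ⟨j, hj⟩ := GrothLib.FunFld.exists_isLead ⟨0, hne 0⟩ P
    obtain ⟨i, hij⟩ : ∃ i : Fin (n + 1), i ≠ j := by
      have : Nontrivial (Fin (n + 1)) := Fin.nontrivial_iff_two_le.2 (by omega)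
      exact exists_ne j
    obtain ⟨c, hc⟩ := GrothLib.FunFld.exists_residue hfg P ((GrothLib.FunFld.isLead_iff.1 hj).2 i)
    set x := φ i / φ j - algebraMap k K c with hxdef
    have hx : x ≠ 0 := by
      intro h0
      have h1 : φ i = c • φ j := by
        rw [Algebra.smul_def, ← sub_eq_zero.1 h0, div_mul_cancel₀ _ (hne j)]
      have h2 := Fintype.linearIndependent_iff.1 hφ (Pi.single i 1 - Pi.single j c) ?_ i
      · simp [hij] at h2
      · simp [sub_smul, Finset.sum_sub_distrib, Pi.single_apply, ite_smul, h1]
    refine (hfg.finite_support_ord x).subset fun Q hQ h0 => ?_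
    have h1 := ((GrothLib.FunFld.sameImage_iff hfg hj).1 hQ i).2 c hc
    simp only at h0
    rw [GrothLib.FunFld.val_eq Q hx, h0, neg_zero, WithZero.exp_zero] at h1
    exact lt_irrefl _ h1

end Groth.Agent.S11075
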