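import Groth.Statements.S11076
import Groth.Agent.Lib.FunFld.Embedding

set_option autoImplicit false
open FunFld

namespace Groth.Agent.S11076

/-- Over an algebraically closed constant field, a projective curve (given by a birational projective
map `φ = (φ₀, …, φₙ)`, `n ≥ 1`) is nonsingular at the point `a = φ(P)` if and only if some
hyperplane `∑ cᵢ Xᵢ` has intersection multiplicity `1` with it at `a`: the sum over the places `Q`
of the fibre of `a` of `[φ](Q) + ord_Q(∑ cᵢ φᵢ)` is `1`. Nonsingular at `P` means that the local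
ring of `φ` at `P` (quotients of polynomials over `k` in the `φᵢ/φⱼ`, `φⱼ` of least order at `P`,
denominator a unit at `P`) is the whole valuation ring. Two places have the same image point when
some entry `φⱼ` has least order at both and each `φᵢ/φⱼ` is congruent to one constant modulo both
maximal ideals. -/
theorem result (k K : Type*) [Field k] [IsAlgClosed k] [Field K] [Algebra k K]
    (hK : FunFld.IsFunctionField k K) {n : ℕ} (hn : 1 ≤ n)
    (φ : Fin (n + 1) → K) (hφ : LinearIndependent k φ)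
    (hbir : IntermediateField.adjoin k (Set.range fun i => φ i / φ 0) = ⊤)
    (P : FunFld.Place k K) :
    FunFld.IsNonsingularAt φ P ↔ ∃ c : Fin (n + 1) → k, ∑ i, c i • φ i ≠ 0 ∧
      ∑ᶠ Q ∈ {Q : FunFld.Place k K | FunFld.SameImage φ P Q},
        ((FunFld.mapDiv k φ) Q + Q.ord (∑ i, c i • φ i)) = 1 := by
  classical
  have hfg : GrothLib.FunFld.IsFG k K := hK.1
  have hne : ∀ i, φ i ≠ 0 := fun i => hφ.ne_zero i
  obtain ⟨j, hj⟩ := GrothLib.FunFld.exists_isLead ⟨0, hne 0⟩ P
  have hterm : ∀ (v : K), v ≠ 0 → ∀ Q ∈ {Q : FunFld.Place k K | FunFld.SameImage φ P Q},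
      (FunFld.mapDiv k φ) Q + Q.ord v = Q.ord (v / φ j) := by
    intro v hv Q hQ
    have hjQ : GrothLib.FunFld.IsLead φ Q j := GrothLib.FunFld.isLead_iff.2
      ⟨hj.1, fun i => (((GrothLib.FunFld.sameImage_iff hfg hj).1 hQ) i).1⟩
    have h1 := hjQ.val_eq_mapDiv hfg hne
    rw [GrothLib.FunFld.val_eq Q hj.1, WithZero.exp_inj] at h1
    rw [div_eq_mul_inv, GrothLib.FunFld.ord_mul Q hv (inv_ne_zero hj.1), GrothLib.FunFld.ord_inv]
    omega
  constructor
  · intro hns
    obtain ⟨hfib, t, htA, ht⟩ := GrothLib.FunFld.fibre_and_parameter_of_isNonsingularAt hfg hj hns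
    obtain ⟨i, c, hic⟩ := GrothLib.FunFld.exists_coord_parameter hfg hj htA ht
    refine ⟨Pi.single i 1 - Pi.single j c, ?_⟩
    have hv : ∑ l, (Pi.single i 1 - Pi.single j c : Fin (n + 1) → k) l • φ l = φ i - c • φ j := by
      simp [sub_smul, Finset.sum_sub_distrib, Pi.single_apply, ite_smul]
    rw [hv]
    have hvd : (φ i - c • φ j) / φ j = φ i / φ j - algebraMap k K c := by
      rw [sub_div, Algebra.smul_def, mul_div_cancel_right₀ _ hj.1]
    have hv0 : φ i - c • φ j ≠ 0 := by
      intro h0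
      rw [h0, zero_div] at hvd
      rw [← hvd, map_zero] at hic
      exact WithZero.exp_ne_zero hic.symm
    refine ⟨hv0, ?_⟩
    have hset : {Q : FunFld.Place k K | FunFld.SameImage φ P Q} = {P} := by
      ext Q
      rw [Set.mem_setOf_eq, Set.mem_singleton_iff, GrothLib.FunFld.sameImage_iff hfg hj]
      exact ⟨hfib Q, fun h => by rw [h]; exact GrothLib.FunFld.inFibre_self hj⟩
    rw [hset, finsum_mem_singleton, hterm _ hv0 P (hset ▸ Set.mem_singleton P), hvd]
    have h3 : GrothLib.FunFld.val P (φ i / φ j - algebraMap k K c) = WithZero.exp (-1) := hic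
    rw [GrothLib.FunFld.val_eq P (by rw [← hvd]; exact div_ne_zero hv0 hj.1), WithZero.exp_inj] at h3
    omega
  · rintro ⟨c, hv, hsum⟩
    set v := ∑ i, c i • φ i
    set S := {Q : FunFld.Place k K | FunFld.SameImage φ P Q}
    have hS : P ∈ S := (GrothLib.FunFld.sameImage_iff hfg hj).2 (GrothLib.FunFld.inFibre_self hj)
    have hu : v / φ j ∈ GrothLib.FunFld.chart k φ j := GrothLib.FunFld.div_mem_chart_of_mem_span
      ((Submodule.mem_span_range_iff_exists_fun k).2 ⟨c, rfl⟩)
    have hu0 : v / φ j ≠ 0 := div_ne_zero hv hj.1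
    rw [finsum_mem_congr rfl (hterm v hv)] at hsum
    have hpos : ∀ Q ∈ S, 0 ≤ Q.ord (v / φ j) := fun Q hQ =>
      (GrothLib.FunFld.val_le_one_iff Q hu0).1 (GrothLib.FunFld.locRing_le_of_inFibre hfg hj
        ((GrothLib.FunFld.sameImage_iff hfg hj).1 hQ) (GrothLib.FunFld.inLocRing_of_mem_chart hj hu)).1
    have hiff : ∀ Q ∈ S, (Q.ord (v / φ j) = 0 ↔ P.ord (v / φ j) = 0) := fun Q hQ => by
      have h1 := (GrothLib.FunFld.locRing_le_of_inFibre hfg hj
        ((GrothLib.FunFld.sameImage_iff hfg hj).1 hQ) (GrothLib.FunFld.inLocRing_of_mem_chart hj hu)).2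
      rw [GrothLib.FunFld.val_eq Q hu0, GrothLib.FunFld.val_eq P hu0, ← WithZero.exp_zero,
        WithZero.exp_lt_exp, WithZero.exp_lt_exp] at h1
      have := hpos Q hQ
      have := hpos P hS
      omega
    by_cases hP0 : P.ord (v / φ j) = 0
    · rw [finsum_mem_eq_zero_of_forall_eq_zero fun Q hQ => (hiff Q hQ).2 hP0] at hsum
      exact absurd hsum zero_ne_one
    have hfinS : S.Finite := by
      refine (hfg.finite_support_ord (v / φ j)).subset fun Q hQ => ?_
      exact fun h0 => hP0 ((hiff Q hQ).1 h0)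
    rw [finsum_mem_eq_finite_toFinset_sum _ hfinS] at hsum
    have hge : ∀ Q ∈ hfinS.toFinset, (1 : ℤ) ≤ Q.ord (v / φ j) := fun Q hQ => by
      have hQ' := hfinS.mem_toFinset.1 hQ
      have := hpos Q hQ'
      have : Q.ord (v / φ j) ≠ 0 := fun h0 => hP0 ((hiff Q hQ').1 h0)
      omega
    have hfib : ∀ Q, GrothLib.FunFld.InFibre φ j P Q → Q = P := fun Q hQ => by
      by_contra hQP
      have hQm : Q ∈ hfinS.toFinset := hfinS.mem_toFinset.2 ((GrothLib.FunFld.sameImage_iff hfg hj).2 hQ)
      have hPm : P ∈ hfinS.toFinset := hfinS.mem_toFinset.2 hS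
      have := Finset.sum_le_sum_of_subset_of_nonneg (f := fun R : FunFld.Place k K => R.ord (v / φ j))
        (s := {P, Q}) (t := hfinS.toFinset) (Finset.insert_subset hPm (Finset.singleton_subset_iff.2 hQm))
        (fun R hR _ => le_trans zero_le_one (hge R hR))
      rw [Finset.sum_pair (Ne.symm hQP)] at this
      have := hge P hPm
      have := hge Q hQm
      omega
    have hP1 : P.ord (v / φ j) = 1 := by
      have hall : hfinS.toFinset = {P} := by
        ext Q
        rw [hfinS.mem_toFinset, Finset.mem_singleton]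
        exact ⟨fun h => hfib Q ((GrothLib.FunFld.sameImage_iff hfg hj).1 h), fun h => h ▸ hS⟩
      rwa [hall, Finset.sum_singleton] at hsum
    refine GrothLib.FunFld.isNonsingularAt_of hK (hne 0) hbir hj hfib hu ?_
    rw [GrothLib.FunFld.val_eq P hu0, hP1]

end Groth.Agent.S11076
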