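import Groth.Statements.S11079
import Groth.Agent.Lib.GalDescent.GLn
-- import your own Groth.Agent.* helpers here

set_option autoImplicit false
universe u
open CAlg

namespace Groth.Agent.S11079

/-- Let L/K be a finite Galois extension of fields, n a natural number, and B a map from the Galois
group of L over K to the invertible n × n matrices over L such that B(σ) · σ(B(τ)) = B(στ) for all
σ, τ, where σ acts on matrices entrywise and στ is the automorphism applying τ first. Then there is
an invertible matrix A over L with B(σ) = A⁻¹ · σ(A) for every σ; that is, every 1-cocycle of the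
Galois group with values in GL_n(L) is a coboundary. -/
theorem result (K L : Type u) [Field K] [Field L]
    [Algebra K L] [FiniteDimensional K L] [IsGalois K L] (n : ℕ)
    (B : (L ≃ₐ[K] L) → GL (Fin n) L)
    (hB : ∀ σ τ : L ≃ₐ[K] L,
      (B σ : Matrix (Fin n) (Fin n) L) * (B τ : Matrix (Fin n) (Fin n) L).map σ = (B (σ * τ) : Matrix (Fin n) (Fin n) L)) :
    ∃ A : GL (Fin n) L, ∀ σ : L ≃ₐ[K] L,
      (B σ : Matrix (Fin n) (Fin n) L) = ((A⁻¹ : GL (Fin n) L) : Matrix (Fin n) (Fin n) L) * (A : Matrix (Fin n) (Fin n) L).map σ := by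
  letI : MulSemiringAction (L ≃ₐ[K] L) (Matrix (Fin n) (Fin n) L) :=
    CSAGal.matrixAction (L ≃ₐ[K] L) L (Fin n)
  letI : MulDistribMulAction (L ≃ₐ[K] L) (GL (Fin n) L) := GpH1.unitsAction
  have hmap : ∀ (σ : L ≃ₐ[K] L) (g : GL (Fin n) L),
      ((σ • g : GL (Fin n) L) : Matrix (Fin n) (Fin n) L) = (g : Matrix (Fin n) (Fin n) L).map σ :=
    fun _ _ => rfl
  obtain ⟨c, hc⟩ := GrothLib.GalDescent.exists_gl_cocycle_eq B fun σ τ => Units.ext (by
    rw [Units.val_mul, hmap, hB])
  exact ⟨c, fun σ => by rw [hc σ, Units.val_mul, hmap]⟩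

end Groth.Agent.S11079
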