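import Groth.Statements.S11080
import Mathlib
-- import your own Groth.Agent.* helpers here

set_option autoImplicit false
universe u
open CAlg

namespace Groth.Agent.S11080

/-- Valuation rings over a curve: let A be a Dedekind domain with fraction field K. A valuation subring
O of K contains A and is different from K if and only if O is the valuation ring of the v-adic
valuation of K at some nonzero prime v of A (equivalently O is the local ring of A at a maximal
ideal, a discrete valuation ring). (The published statement takes A to be the coordinate ring of a
nonsingular affine curve over an algebraically closed field, which is such a Dedekind domain; its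
proof uses only that the local rings of A at nonzero primes are discrete valuation rings and that
nonzero primes are maximal.) -/
theorem result (A K : Type u) [CommRing A]
    [IsDedekindDomain A] [Field K] [Algebra A K] [IsFractionRing A K] (O : ValuationSubring K) :
    ((algebraMap A K).range ≤ O.toSubring ∧ O ≠ ⊤) ↔
      ∃ v : IsDedekindDomain.HeightOneSpectrum A, O = (v.valuation K).valuationSubring := by
  constructor
  · rintro ⟨hA, hO⟩
    let φ : A →+* O := (algebraMap A K).codRestrict O.toSubring fun a => hA ⟨a, rfl⟩
    let p := (IsLocalRing.maximalIdeal O).comap φ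
    have hunit : ∀ s, s ∉ p → (algebraMap A K s)⁻¹ ∈ O := by
      intro s hs
      have hu : IsUnit (φ s) := by
        by_contra hn
        exact hs hn
      obtain ⟨u, hu⟩ := hu
      have : ((↑u⁻¹ : O) : K) = (algebraMap A K s)⁻¹ := by
        refine eq_inv_of_mul_eq_one_left ?_
        have h1 := congrArg (fun z : O => (z : K)) (u.inv_mul)
        simpa [hu, φ] using h1
      rw [← this]
      exact Subtype.coe_prop _
    have hp : p ≠ ⊥ := by
      intro hp
      apply hO
      rw [eq_top_iff]
      intro x _
      obtain ⟨a, s, hs, rfl⟩ := IsFractionRing.div_surjective A x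
      rw [div_eq_mul_inv]
      refine O.mul_mem _ _ (hA ⟨a, rfl⟩) (hunit s ?_)
      rw [hp, Ideal.mem_bot]
      exact nonZeroDivisors.ne_zero hs
    let v : IsDedekindDomain.HeightOneSpectrum A := ⟨p, Ideal.comap_isPrime φ _, hp⟩
    refine ⟨v, ?_⟩
    rw [← IsDedekindDomain.HeightOneSpectrum.valuationSubringAtPrime_eq_valuationSubring]
    refine (ValuationSubring.eq_of_le_of_ne_top _ ?_ hO).symm
    rintro x ⟨a, s, hs, rfl⟩
    exact O.mul_mem _ _ (hA ⟨a, rfl⟩) (hunit s hs)
  · rintro ⟨v, rfl⟩
    refine ⟨?_, ?_⟩
    · rintro _ ⟨a, rfl⟩
      exact v.valuation_le_one a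
    · rw [ne_eq, Valuation.valuationSubring_eq_top_iff, not_not]
      infer_instance

end Groth.Agent.S11080
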