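import Groth.Statements.S11081
import Groth.Agent.Lib.TraceRes2.Basic

set_option autoImplicit false
set_option linter.all false
universe u
attribute [local instance] FractionRing.liftAlgebra
open CAlg

namespace Groth.Agent.S11081

/-- Let A be a Dedekind domain, B a Dedekind domain which is a finitely generated torsion-free A-algebra
whose fraction field is separable over that of A (B is the integral closure of A in a finite
separable extension), p a nonzero prime ideal of A and y an element of B. Then the class modulo p of
the trace of y from B to A is the sum over the primes Q of B lying over p of e(Q|p) times the trace,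
from B/Q to A/p, of the class of y modulo Q. -/
theorem result (A B : Type u) [CommRing A] [CommRing B]
    [IsDedekindDomain A] [IsDedekindDomain B] [Algebra A B] [Module.Finite A B] [Module.IsTorsionFree A B]
    [Algebra.IsSeparable (FractionRing A) (FractionRing B)]
    (p : Ideal A) [p.IsMaximal] (hp : p ≠ ⊥) (y : B) :
    Ideal.Quotient.mk p (Algebra.intTrace A B y) =
      ∑ᶠ Q : p.primesOver B,
        Q.1.ramificationIdx A •
          Algebra.trace (A ⧸ p) (B ⧸ Q.1) (Ideal.Quotient.mk Q.1 y) :=
  GrothLib.TraceRes2.intTrace_residue A B p hp y

end Groth.Agent.S11081
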