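import Groth.Statements.S11082
import Mathlib
import Groth.Agent.Lib.SepBasis.Basic

set_option autoImplicit false
universe u v
open CAlg

namespace Groth.Agent.S11082

/-- Let k be an algebraically closed field, F a field extension of k which is finitely generated as a
field, and x a transcendence basis of F over k indexed by a type ι. Then F is a separable algebraic
extension of the subfield k(x) generated by the family (x is a separating transcendence basis) if
and only if the differentials d(x i) form a basis of the F-vector space of Kähler differentials of F
over k, i.e. they are linearly independent over F and span it. -/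
theorem result (k : Type u) (F : Type v)
    [Field k] [IsAlgClosed k] [Field F] [Algebra k F] (hF : (⊤ : IntermediateField k F).FG)
    {ι : Type v} (x : ι → F) (hx : IsTranscendenceBasis k x) :
    Algebra.IsSeparable (IntermediateField.adjoin k (Set.range x)) F ↔
      (LinearIndependent F (fun i : ι => KaehlerDifferential.D k F (x i)) ∧
        Submodule.span F (Set.range fun i : ι => KaehlerDifferential.D k F (x i)) = ⊤) := by
  classical
  constructor
  · intro hsep
    obtain ⟨b, hb⟩ := GrothLib.SepBasis.exists_basis hx.1 hsep
    rw [← funext hb]
    exact ⟨b.linearIndependent, b.span_eq⟩
  · rintro ⟨-, hspan⟩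
    haveI : Algebra.EssFiniteType k F := IntermediateField.fg_top_iff.mp hF
    let E := IntermediateField.adjoin k (Set.range x)
    haveI : Algebra.EssFiniteType E F := Algebra.EssFiniteType.of_comp k E F
    haveI : Algebra.FormallyUnramified E F := by
      rw [Algebra.formallyUnramified_iff]
      refine ⟨fun a b => ?_⟩
      have hzero : ∀ z : Ω[F⁄k], KaehlerDifferential.map k E F F z = 0 := by
        intro z
        have hz : z ∈ Submodule.span F (Set.range fun i : ι => KaehlerDifferential.D k F (x i)) := hspan ▸ trivial
        induction hz using Submodule.span_induction with
        | mem z hz =>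
          obtain ⟨i, rfl⟩ := hz
          rw [KaehlerDifferential.map_D]
          exact Derivation.map_algebraMap _ (⟨x i, IntermediateField.subset_adjoin k _ ⟨i, rfl⟩⟩ : E)
        | zero => rw [map_zero]
        | add a b _ _ ha hb => rw [map_add, ha, hb, add_zero]
        | smul c a _ ha => rw [LinearMap.map_smul, ha, smul_zero]
      obtain ⟨a, rfl⟩ := KaehlerDifferential.map_surjective k E F a
      obtain ⟨b, rfl⟩ := KaehlerDifferential.map_surjective k E F b
      rw [hzero, hzero]
    exact Algebra.FormallyUnramified.isSeparable E F

end Groth.Agent.S11082
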