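import Groth.Statements.S11084
import Mathlib
import Groth.Agent.S11080
-- import your own Groth.Agent.* helpers here

set_option autoImplicit false
universe u
open CAlg

namespace Groth.Agent.S11084

/-- Let k be a field and O a valuation subring of the field of rational functions k(x). Then O contains
the constants k and is different from k(x) if and only if O is the valuation ring of the P-adic
valuation at a nonzero prime P of the polynomial ring k[x], or O is the valuation ring of the
valuation at infinity (given by the degree). (The published statement has k algebraically closed, so
that these valuation rings correspond to the points of the projective line; the published proof does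
not use that k is algebraically closed. The published statement also asserts that distinct points
give distinct valuation rings, which this row does not state, and counts k(x) itself among the
valuation rings containing k; this row excludes it.) -/
theorem result (k : Type u) [Field k] [DecidableEq (RatFunc k)]
    (O : ValuationSubring (RatFunc k)) :
    ((algebraMap k (RatFunc k)).range ≤ O.toSubring ∧ O ≠ ⊤) ↔
      ((∃ v : IsDedekindDomain.HeightOneSpectrum (Polynomial k), O = (v.valuation (RatFunc k)).valuationSubring) ∨
        O = (RatFunc.inftyValuation k).valuationSubring) := by
  let K := RatFunc k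
  constructor
  · rintro ⟨hk, hO⟩
    by_cases hX : (RatFunc.X : RatFunc k) ∈ O
    · left
      refine (Groth.Agent.S11080.result (Polynomial k) (RatFunc k) O).1 ⟨?_, hO⟩
      rintro _ ⟨p, rfl⟩
      induction p using Polynomial.induction_on' with
      | add p q hp hq => rw [map_add]; exact O.add_mem _ _ hp hq
      | monomial i c =>
        rw [← Polynomial.C_mul_X_pow_eq_monomial, map_mul, map_pow, RatFunc.algebraMap_X]
        exact O.mul_mem _ _ (hk ⟨c, by simp⟩) (pow_mem hX i)
    · right
      have : O.valuation.IsTrivialOn k := ⟨fun c hc => by
        have h1 : ∀ d : k, O.valuation (algebraMap k (RatFunc k) d) ≤ 1 := fun d =>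
          (O.valuation_le_one_iff _).2 (hk ⟨d, rfl⟩)
        refine le_antisymm (h1 c) ?_
        have h2 : O.valuation (algebraMap k (RatFunc k) c) * O.valuation (algebraMap k (RatFunc k) c⁻¹) = 1 := by
          rw [← map_mul, ← map_mul, mul_inv_cancel₀ hc, map_one, map_one]
        rw [← h2]
        exact mul_le_of_le_one_right' (h1 _)⟩
      have hlt : 1 < O.valuation (RatFunc.X : RatFunc k) := by
        rw [← not_le, O.valuation_le_one_iff]
        exact hX
      have h3 := RatFunc.valuation_isEquiv_inftyValuation_of_one_lt_valuation_X hlt
      rw [← (Valuation.isEquiv_iff_valuationSubring _ _).1 h3, O.valuationSubring_valuation]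
  · rintro (⟨v, rfl⟩ | rfl)
    · have h := (Groth.Agent.S11080.result (Polynomial k) (RatFunc k) _).2 ⟨v, rfl⟩
      refine ⟨?_, h.2⟩
      rintro _ ⟨c, rfl⟩
      exact h.1 ⟨Polynomial.C c, by simp⟩
    · refine ⟨?_, fun h => ?_⟩
      · rintro _ ⟨c, rfl⟩
        show (RatFunc.inftyValuation k) (algebraMap k (RatFunc k) c) ≤ 1
        rcases eq_or_ne c 0 with rfl | hc
        · simp
        · rw [Valuation.IsTrivialOn.eq_one (v := RatFunc.inftyValuation k) c hc]
      · have : (RatFunc.X : RatFunc k) ∈ (RatFunc.inftyValuation k).valuationSubring := h ▸ ValuationSubring.mem_top _
        rw [Valuation.mem_valuationSubring_iff, RatFunc.inftyValuation.X, ← WithZero.exp_zero,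
          WithZero.exp_le_exp] at this
        omega

end Groth.Agent.S11084
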