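import Groth.Statements.S11085
import Groth.Agent.Lib.CurvePlaces1.Basic
-- import your own Groth.Agent.* helpers here

set_option autoImplicit false
universe u
open CAlg

namespace Groth.Agent.S11085

/-- Let k be a field, A a finitely generated k-algebra which is an integral domain of Krull dimension
one (the coordinate ring of an affine curve), and F its field of fractions. Then the set of
valuation subrings of F which contain k but do not contain A is finite. (The published statement
speaks of all valuation rings of F different from F and not containing A, over an algebraically
closed k; valuation rings not containing k must be excluded — for k an algebraic closure of a
rational function field in one variable t over a finite field and F = k(x), the t-adic valuation of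
k has infinitely many extensions to F, none of whose rings contains A — and the published proof,
through the valuation at infinity of k(x), treats valuation rings containing k; it does not use that
k is algebraically closed.) -/
theorem result (k A F : Type u) [Field k]
    [CommRing A] [IsDomain A] [Algebra k A] [Algebra.FiniteType k A] (hA : ringKrullDim A = 1)
    [Field F] [Algebra A F] [IsFractionRing A F] [Algebra k F] [IsScalarTower k A F] :
    {O : ValuationSubring F | (algebraMap k F).range ≤ O.toSubring ∧
        ¬ (algebraMap A F).range ≤ O.toSubring}.Finite := by
  exact GrothLib.CurvePlaces1.finite_valuationSubrings_not_containing k A F hA

end Groth.Agent.S11085
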