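import Groth.Statements.S11086
import Mathlib
-- import your own Groth.Agent.* helpers here

set_option autoImplicit false
universe u
attribute [local instance] FractionRing.liftAlgebra
open CAlg

namespace Groth.Agent.S11086

/-- Let A be a Dedekind domain, B a Dedekind domain which is a finitely generated torsion-free A-algebra
with fraction field separable over that of A (the integral closure of A in a finite separable
extension), and S a submonoid of A consisting of non-zero-divisors. Let A_S and B_S be localizations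
of A at S and of B at the image of S, with B_S an algebra over A_S compatibly with A and B (so A_S
is integrally closed and B_S is a Dedekind domain, torsion-free over A_S). Then the ideal of B_S
generated by the different of B over A is the different of B_S over A_S. -/
theorem result (A B : Type u) [CommRing A] [CommRing B]
    [IsDedekindDomain A] [IsDedekindDomain B] [Algebra A B] [Module.Finite A B] [Module.IsTorsionFree A B]
    [Algebra.IsSeparable (FractionRing A) (FractionRing B)]
    (S : Submonoid A) (hS : S ≤ nonZeroDivisors A)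
    (Aₛ Bₛ : Type u) [CommRing Aₛ] [CommRing Bₛ] [Algebra A Aₛ] [Algebra B Bₛ] [Algebra Aₛ Bₛ]
    [Algebra A Bₛ] [IsScalarTower A Aₛ Bₛ] [IsScalarTower A B Bₛ]
    [IsLocalization S Aₛ] [IsLocalization (Algebra.algebraMapSubmonoid B S) Bₛ]
    [IsDomain Aₛ] [IsIntegrallyClosed Aₛ] [IsDedekindDomain Bₛ] [Module.IsTorsionFree Aₛ Bₛ] :
    Ideal.map (algebraMap B Bₛ) (differentIdeal A B) = differentIdeal Aₛ Bₛ := by
  classical
  let K := FractionRing Aₛ
  let L := FractionRing Bₛ
  have hSB : Algebra.algebraMapSubmonoid B S ≤ nonZeroDivisors B := by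
    rintro _ ⟨s, hs, rfl⟩
    exact mem_nonZeroDivisors_of_ne_zero
      ((map_ne_zero_iff _ (FaithfulSMul.algebraMap_injective A B)).mpr (nonZeroDivisors.ne_zero (hS hs)))
  have hfrac : ∀ (R T : Type u) [CommRing R] [CommRing T] [IsDomain T] [Algebra R T] (M : Submonoid R),
      IsLocalization M T → M ≤ nonZeroDivisors R → IsFractionRing R (FractionRing T) := by
    intro R T _ _ _ _ M hloc hM
    haveI : FaithfulSMul R (FractionRing T) := (faithfulSMul_iff_algebraMap_injective _ _).mpr (by
      rw [IsScalarTower.algebraMap_eq R T (FractionRing T)]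
      exact (IsFractionRing.injective T _).comp (IsLocalization.injective T hM))
    refine IsFractionRing.of_field R _ fun z => ?_
    obtain ⟨x, y, hy, rfl⟩ := IsFractionRing.div_surjective T z
    obtain ⟨⟨a, s⟩, ha⟩ := IsLocalization.surj M x
    obtain ⟨⟨b, t⟩, hb⟩ := IsLocalization.surj M y
    refine ⟨a * t, b * s, ?_⟩
    have hs : ∀ s : M, algebraMap R (FractionRing T) s ≠ 0 := fun s => by
      rw [IsScalarTower.algebraMap_apply R T]
      exact (map_ne_zero_iff _ (IsFractionRing.injective T _)).mpr (IsLocalization.map_units T s).ne_zero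
    rw [map_mul, map_mul, IsScalarTower.algebraMap_apply R T _ a, IsScalarTower.algebraMap_apply R T _ b,
      ← ha, ← hb, map_mul, map_mul, ← IsScalarTower.algebraMap_apply, ← IsScalarTower.algebraMap_apply]
    field_simp [hs s, hs t]
  haveI : IsFractionRing B L := hfrac B Bₛ _ inferInstance hSB
  haveI : IsFractionRing A K := hfrac A Aₛ S inferInstance hS
  haveI : FaithfulSMul Aₛ L := (faithfulSMul_iff_algebraMap_injective Aₛ L).mpr (by
    rw [IsScalarTower.algebraMap_eq Aₛ Bₛ L]
    exact (IsFractionRing.injective Bₛ L).comp (FaithfulSMul.algebraMap_injective Aₛ Bₛ))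
  letI : Algebra K L := FractionRing.liftAlgebra Aₛ L
  haveI : IsScalarTower Aₛ K L := FractionRing.isScalarTower_liftAlgebra Aₛ L
  haveI : IsScalarTower A Aₛ L := IsScalarTower.of_algebraMap_eq fun a => by
    rw [IsScalarTower.algebraMap_apply A Bₛ L, IsScalarTower.algebraMap_apply Aₛ Bₛ L,
      ← IsScalarTower.algebraMap_apply A Aₛ Bₛ]
  haveI : IsScalarTower A K L := IsScalarTower.of_algebraMap_eq fun a => by
    rw [IsScalarTower.algebraMap_apply A Aₛ L, IsScalarTower.algebraMap_apply A Aₛ K,
      ← IsScalarTower.algebraMap_apply Aₛ K L]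
  haveI : IsScalarTower A B L := IsScalarTower.of_algebraMap_eq fun a => by
    rw [IsScalarTower.algebraMap_apply B Bₛ L, ← IsScalarTower.algebraMap_apply A B Bₛ,
      ← IsScalarTower.algebraMap_apply A Bₛ L]
  haveI : Module.Finite Aₛ Bₛ := Module.Finite.of_isLocalization A B S
  haveI : Algebra.IsIntegral A B := inferInstance
  haveI : IsIntegralClosure B A L := IsIntegralClosure.of_isIntegrallyClosed B A L
  haveI : IsIntegralClosure Bₛ Aₛ L := IsIntegralClosure.of_isIntegrallyClosed Bₛ Aₛ L
  have H : RingHom.comp (algebraMap K L) ↑(FractionRing.algEquiv A K).toRingEquiv =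
        RingHom.comp ↑(FractionRing.algEquiv B L).toRingEquiv
          (algebraMap (FractionRing A) (FractionRing B)) := by
    apply IsLocalization.ringHom_ext (nonZeroDivisors A)
    ext a
    simp only [RingHom.coe_comp, RingHom.coe_coe, AlgEquiv.coe_ringEquiv, Function.comp_apply,
      AlgEquiv.commutes, ← IsScalarTower.algebraMap_apply]
    rw [IsScalarTower.algebraMap_apply A B L, IsScalarTower.algebraMap_apply A B (FractionRing B),
      AlgEquiv.commutes]
  haveI : Algebra.IsSeparable K L := Algebra.IsSeparable.of_equiv_equiv _ _ H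
  haveI : FiniteDimensional K L := Module.Finite.of_equiv_equiv _ _ H
  have hD : ∀ b : B, b ∈ differentIdeal A B ↔
      ∀ x ∈ Submodule.traceDual A K (1 : Submodule B L), algebraMap B L b * x ∈ (1 : Submodule B L) := by
    intro b
    rw [← Submodule.mem_div_iff_forall_mul_mem, ← coeSubmodule_differentIdeal A K, IsLocalization.mem_coeSubmodule]
    exact ⟨fun h => ⟨b, h, rfl⟩, fun ⟨c, hc, hcb⟩ => IsFractionRing.injective B L hcb ▸ hc⟩
  have hD' : ∀ b : Bₛ, b ∈ differentIdeal Aₛ Bₛ ↔
      ∀ x ∈ Submodule.traceDual Aₛ K (1 : Submodule Bₛ L), algebraMap Bₛ L b * x ∈ (1 : Submodule Bₛ L) := by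
    intro b
    rw [← Submodule.mem_div_iff_forall_mul_mem, ← coeSubmodule_differentIdeal Aₛ K, IsLocalization.mem_coeSubmodule]
    exact ⟨fun h => ⟨b, h, rfl⟩, fun ⟨c, hc, hcb⟩ => IsFractionRing.injective Bₛ L hcb ▸ hc⟩
  have htr : ∀ (c : A) (z : L), Algebra.trace K L (algebraMap A L c * z) = algebraMap A K c * Algebra.trace K L z := by
    intro c z
    rw [IsScalarTower.algebraMap_apply A K L, ← Algebra.smul_def, map_smul, smul_eq_mul]
  have hA0 : ∀ s ∈ S, algebraMap A K s ≠ 0 := fun s hs =>
    (map_ne_zero_iff _ (IsFractionRing.injective A K)).mpr (nonZeroDivisors.ne_zero (hS hs))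
  have hL0 : ∀ s ∈ S, algebraMap A L s ≠ 0 := fun s hs => by
    rw [IsScalarTower.algebraMap_apply A K L]
    exact (map_ne_zero _).mpr (hA0 s hs)
  -- the dual of `B` is contained in the dual of `Bₛ`
  have hsub : ∀ x ∈ Submodule.traceDual A K (1 : Submodule B L),
      x ∈ Submodule.traceDual Aₛ K (1 : Submodule Bₛ L) := by
    intro x hx
    rw [Submodule.mem_traceDual] at hx ⊢
    intro a ha
    obtain ⟨b, rfl⟩ := Submodule.mem_one.mp ha
    obtain ⟨⟨b0, _, s, hs, rfl⟩, hb⟩ := IsLocalization.surj (Algebra.algebraMapSubmonoid B S) b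
    simp only at hb
    obtain ⟨c, hc⟩ := hx (algebraMap B L b0) (Submodule.mem_one.mpr ⟨b0, rfl⟩)
    rw [Algebra.traceForm_apply] at hc ⊢
    refine ⟨IsLocalization.mk' Aₛ c ⟨s, hs⟩, ?_⟩
    have h1 : algebraMap A L s * (x * algebraMap Bₛ L b) = x * algebraMap B L b0 := by
      rw [IsScalarTower.algebraMap_apply B Bₛ L b0, ← hb, map_mul, ← IsScalarTower.algebraMap_apply B Bₛ L,
        ← IsScalarTower.algebraMap_apply A B L]
      ring
    apply mul_left_cancel₀ (hA0 s hs)
    rw [← htr, h1, ← hc, IsScalarTower.algebraMap_apply A Aₛ K s, ← map_mul, mul_comm,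
      IsLocalization.mk'_spec, ← IsScalarTower.algebraMap_apply]
  obtain ⟨gs, hgs⟩ : (Submodule.traceDual A K (1 : Submodule B L)).FG := by
    rw [← FractionalIdeal.coe_dual_one]
    exact FractionalIdeal.fg_of_isNoetherianRing le_rfl _
  have hclear : ∀ (P : Finset L) (φ : L → L), (∀ x ∈ P, φ x ∈ (1 : Submodule Bₛ L)) →
      ∃ t ∈ S, ∀ x ∈ P, algebraMap A L t * φ x ∈ (1 : Submodule B L) := by
    intro P φ
    induction P using Finset.induction_on with
    | empty => exact fun _ => ⟨1, S.one_mem, fun x hx => absurd hx (Finset.notMem_empty x)⟩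
    | @insert x P _ ih =>
      intro h
      obtain ⟨t, ht, ht'⟩ := ih fun y hy => h y (Finset.mem_insert_of_mem hy)
      obtain ⟨b, hb⟩ := Submodule.mem_one.mp (h x (Finset.mem_insert_self x P))
      obtain ⟨⟨b0, _, s, hs, rfl⟩, hb0⟩ := IsLocalization.surj (Algebra.algebraMapSubmonoid B S) b
      simp only at hb0
      refine ⟨t * s, S.mul_mem ht hs, fun y hy => ?_⟩
      rcases Finset.mem_insert.mp hy with rfl | hy
      · refine Submodule.mem_one.mpr ⟨algebraMap A B t * b0, ?_⟩
        rw [map_mul, map_mul, ← hb, IsScalarTower.algebraMap_apply B Bₛ L b0, ← hb0, map_mul,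
          ← IsScalarTower.algebraMap_apply B Bₛ L, ← IsScalarTower.algebraMap_apply A B L,
          ← IsScalarTower.algebraMap_apply A B L]
        ring
      · obtain ⟨e, he⟩ := Submodule.mem_one.mp (ht' y hy)
        refine Submodule.mem_one.mpr ⟨algebraMap A B s * e, ?_⟩
        rw [map_mul, he, map_mul, ← IsScalarTower.algebraMap_apply A B L]
        ring
  refine le_antisymm (Ideal.map_le_iff_le_comap.mpr fun b hb => ?_) fun y hy => ?_
  · rw [Ideal.mem_comap, hD']
    rw [hD] at hb
    intro x hx
    -- clear the denominators of the trace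
    obtain ⟨t, ht, htx⟩ : ∃ t ∈ S, algebraMap A L t * x ∈ Submodule.traceDual A K (1 : Submodule B L) := by
      obtain ⟨G, hG⟩ := (Module.Finite.fg_top : (⊤ : Submodule A B).FG)
      have hv : ∀ g : B, ∃ a : Aₛ, algebraMap Aₛ K a = Algebra.trace K L (x * algebraMap B L g) := fun g => by
        have := Submodule.mem_traceDual.mp hx (algebraMap B L g)
          (Submodule.mem_one.mpr ⟨algebraMap B Bₛ g, (IsScalarTower.algebraMap_apply B Bₛ L g).symm⟩)
        rw [Algebra.traceForm_apply] at this
        exact this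
      choose v hv using hv
      obtain ⟨t, ht⟩ := IsLocalization.exist_integer_multiples_of_finset S (G.image v)
      refine ⟨t, t.2, ?_⟩
      rw [Submodule.mem_traceDual]
      intro a ha
      obtain ⟨g, rfl⟩ := Submodule.mem_one.mp ha
      rw [Algebra.traceForm_apply, mul_assoc, htr]
      have hg : g ∈ Submodule.span A (G : Set B) := hG ▸ trivial
      induction hg using Submodule.span_induction with
      | mem g hg =>
        obtain ⟨c, hc⟩ := ht (v g) (Finset.mem_image_of_mem v hg)
        refine ⟨c, ?_⟩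
        rw [← hv g, IsScalarTower.algebraMap_apply A Aₛ K c, hc, Algebra.smul_def, map_mul,
          ← IsScalarTower.algebraMap_apply]
      | zero => exact ⟨0, by simp⟩
      | add g g' _ _ h h' =>
        obtain ⟨c, hc⟩ := h (Submodule.mem_one.mpr ⟨g, rfl⟩)
        obtain ⟨c', hc'⟩ := h' (Submodule.mem_one.mpr ⟨g', rfl⟩)
        exact ⟨c + c', by rw [map_add, hc, hc', map_add, mul_add x, map_add, mul_add]⟩
      | smul r g _ h =>
        obtain ⟨c, hc⟩ := h (Submodule.mem_one.mpr ⟨g, rfl⟩)
        refine ⟨r * c, ?_⟩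
        have e : x * algebraMap B L (r • g) = algebraMap A L r * (x * algebraMap B L g) := by
          rw [Algebra.smul_def, map_mul, ← IsScalarTower.algebraMap_apply A B L]; ring
        rw [e, htr, map_mul, hc]
        ring
    obtain ⟨e, he⟩ := Submodule.mem_one.mp (hb _ htx)
    refine Submodule.mem_one.mpr ⟨IsLocalization.mk' Bₛ e ⟨algebraMap A B t, Algebra.mem_algebraMapSubmonoid_of_mem ⟨t, ht⟩⟩, ?_⟩
    apply mul_left_cancel₀ (hL0 t ht)
    rw [← IsScalarTower.algebraMap_apply B Bₛ L, IsScalarTower.algebraMap_apply A B L t,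
      IsScalarTower.algebraMap_apply B Bₛ L (algebraMap A B t), ← map_mul,
      show algebraMap B Bₛ (algebraMap A B t) * IsLocalization.mk' Bₛ e ⟨algebraMap A B t, Algebra.mem_algebraMapSubmonoid_of_mem ⟨t, ht⟩⟩ =
        algebraMap B Bₛ e from IsLocalization.mk'_spec' Bₛ e ⟨algebraMap A B t, Algebra.mem_algebraMapSubmonoid_of_mem ⟨t, ht⟩⟩,
      ← IsScalarTower.algebraMap_apply B Bₛ L e, he, ← IsScalarTower.algebraMap_apply B Bₛ L (algebraMap A B t),
      ← IsScalarTower.algebraMap_apply A B L]
    ring
  · obtain ⟨b, ⟨_, s, hs, rfl⟩, rfl⟩ := IsLocalization.exists_mk'_eq (Algebra.algebraMapSubmonoid B S) y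
    have hy' : algebraMap B Bₛ b ∈ differentIdeal Aₛ Bₛ := by
      have h := Ideal.mul_mem_left _ (algebraMap B Bₛ (algebraMap A B s)) hy
      rwa [show algebraMap B Bₛ (algebraMap A B s) * IsLocalization.mk' Bₛ b ⟨algebraMap A B s, Algebra.mem_algebraMapSubmonoid_of_mem ⟨s, hs⟩⟩ =
        algebraMap B Bₛ b from IsLocalization.mk'_spec' Bₛ b ⟨algebraMap A B s, Algebra.mem_algebraMapSubmonoid_of_mem ⟨s, hs⟩⟩] at h
    rw [hD'] at hy'
    obtain ⟨t, ht, ht'⟩ := hclear gs (fun x => algebraMap B L b * x) fun x hx => by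
      rw [IsScalarTower.algebraMap_apply B Bₛ L]
      exact hy' x (hsub x (hgs ▸ Submodule.subset_span hx))
    rw [IsLocalization.mk'_mem_map_algebraMap_iff]
    refine ⟨algebraMap A B t, ⟨t, ht, rfl⟩, ?_⟩
    rw [hD]
    intro x hx
    rw [← hgs] at hx
    induction hx using Submodule.span_induction with
    | mem x hx =>
      rw [map_mul, ← IsScalarTower.algebraMap_apply A B L, mul_assoc]
      exact ht' x hx
    | zero => rw [mul_zero]; exact zero_mem _
    | add x x' _ _ h h' => rw [mul_add]; exact add_mem h h'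
    | smul r x _ h => rw [mul_smul_comm]; exact Submodule.smul_mem _ r h

end Groth.Agent.S11086
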