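import Groth.Statements.S11088
import Groth.Agent.Lib.DvrExt1.Basic
-- import your own Groth.Agent.* helpers here

set_option autoImplicit false
universe u
attribute [local instance] FractionRing.liftAlgebra
open CAlg

namespace Groth.Agent.S11088

/-- Let A be a complete discrete valuation ring with maximal ideal m and B a Dedekind domain which is a
finite torsion-free A-algebra with fraction field separable over that of A (the integral closure of
A in a finite separable extension). Then for every maximal ideal M of B, with f the degree of B/M
over A/m, and every nonzero x in B, the multiplicity of m in the ideal generated by the norm of x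
equals f times the multiplicity of M in the ideal generated by x: v(N(x)) = f · w(x). -/
theorem result (A B : Type u) [CommRing A] [IsDomain A] [IsDiscreteValuationRing A]
    [IsAdicComplete (IsLocalRing.maximalIdeal A) A]
    [CommRing B] [IsDedekindDomain B] [Algebra A B] [Module.Finite A B] [Module.IsTorsionFree A B]
    [Algebra.IsSeparable (FractionRing A) (FractionRing B)]
    (M : Ideal B) [M.IsMaximal] (x : B) (hx : x ≠ 0) :
    emultiplicity (IsLocalRing.maximalIdeal A) (Ideal.span {Algebra.intNorm A B x}) =
      (M.inertiaDeg A : ℕ∞) * emultiplicity M (Ideal.span {x}) := by
  exact GrothLib.DvrExt1.emultiplicity_intNorm A B M x hx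

end Groth.Agent.S11088
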