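import Groth.Statements.S11089
import Groth.Agent.Lib.DvrExt1.Basic
-- import your own Groth.Agent.* helpers here

set_option autoImplicit false
universe u
attribute [local instance] FractionRing.liftAlgebra
open CAlg

namespace Groth.Agent.S11089

/-- Let A be a complete discrete valuation ring containing a field K with K → A → A/m bijective, and B a
Dedekind domain which is a finite torsion-free A-algebra of rank m with fraction field separable
over that of A (the integral closure of A in a finite separable extension E of F = Frac A). If the
extension is totally ramified — the maximal ideal M of B has ramification index m — and m is a unit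
in A, then some uniformizer u of B (an element of M not in M²) satisfies u^m ∈ A and generates E
over F: its minimal polynomial over A has degree m. -/
theorem result (K A B : Type u) [Field K]
    [CommRing A] [IsDomain A] [IsDiscreteValuationRing A]
    [IsAdicComplete (IsLocalRing.maximalIdeal A) A]
    [Algebra K A] (hK : Function.Bijective ((IsLocalRing.residue A).comp (algebraMap K A)))
    [CommRing B] [IsDedekindDomain B] [Algebra A B] [Module.Finite A B] [Module.IsTorsionFree A B]
    [Algebra.IsSeparable (FractionRing A) (FractionRing B)]
    (M : Ideal B) [M.IsMaximal] (hram : M.ramificationIdx A = Module.finrank A B)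
    (hm : IsUnit ((Module.finrank A B : ℕ) : A)) :
    ∃ u : B, u ∈ M ∧ u ∉ M ^ 2 ∧ u ^ Module.finrank A B ∈ (algebraMap A B).range ∧
      (minpoly A u).natDegree = Module.finrank A B := by
  exact GrothLib.DvrExt1.exists_uniformizer_pow_mem A B K hK.2 M hram hm

end Groth.Agent.S11089
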