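import Groth.Statements.S11090
-- import your own Groth.Agent.* helpers here
import Groth.Agent.Lib.Rigidity.PointsExt
import Groth.Agent.Lib.Rigidity.SmoothGroup
import Groth.Agent.Lib.GrpSchField.Points
import Mathlib

set_option autoImplicit false
universe u
open CategoryTheory CategoryTheory.Limits MonoidalCategory CartesianMonoidalCategory MonObj GrpObj AlgebraicGeometry
open AbVar

namespace Groth.Agent.S11090

/-- Let k be an algebraically closed field and E, E′, E″ elliptic curves over k, i.e. group schemes over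
Spec k whose underlying schemes are proper, smooth, integral and one-dimensional. Let φ : E → E′ be
a homomorphism which is finite, surjective and étale (a separable isogeny) and ψ : E → E″ a
homomorphism such that every k-valued point of E sent to the unit by φ is sent to the unit by ψ.
Then there is a unique homomorphism ρ : E′ → E″ with ψ = ρ ∘ φ. (The published statement prints ψ as
a map from E″ to E and calls it an isogeny; its proof treats ψ as a map from E to E″, as here, and
this row allows any homomorphism ψ, the extra case of trivial ψ being immediate.) -/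
theorem result (k : Type u) [Field k] [IsAlgClosed k]
    (E E' E'' : Over (Spec (CommRingCat.of k)))
    [GrpObj E] [IsProper E.hom] [Smooth E.hom] [IsIntegral E.left] (hE : topologicalKrullDim E.left = 1)
    [GrpObj E'] [IsProper E'.hom] [Smooth E'.hom] [IsIntegral E'.left] (hE' : topologicalKrullDim E'.left = 1)
    [GrpObj E''] [IsProper E''.hom] [Smooth E''.hom] [IsIntegral E''.left] (hE'' : topologicalKrullDim E''.left = 1)
    (φ : E ⟶ E') [IsMonHom φ] [IsFinite φ.left] [Surjective φ.left] [Etale φ.left]
    (ψ : E ⟶ E'') [IsMonHom ψ]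
    (hker : ∀ P : 𝟙_ (Over (Spec (CommRingCat.of k))) ⟶ E, P ≫ φ = η[E'] → P ≫ ψ = η[E'']) :
    ∃! ρ : E' ⟶ E'', IsMonHom ρ ∧ φ ≫ ρ = ψ := by
  let Q : Over (Spec (CommRingCat.of k)) := Over.mk (pullback.snd φ.left φ.left ≫ E.hom)
  haveI : LocallyOfFiniteType Q.hom := inferInstanceAs (LocallyOfFiniteType (pullback.snd φ.left φ.left ≫ E.hom))
  haveI : Smooth Q.hom := inferInstanceAs (Smooth (pullback.snd φ.left φ.left ≫ E.hom))
  haveI : IsReduced Q.left := GrothLib.Rigidity.isReduced_of_smooth Q.hom
  let p₁ : Q ⟶ E := Over.homMk (pullback.fst φ.left φ.left) (by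
    show pullback.fst φ.left φ.left ≫ E.hom = pullback.snd φ.left φ.left ≫ E.hom
    rw [← Over.w φ, pullback.condition_assoc])
  let p₂ : Q ⟶ E := Over.homMk (pullback.snd φ.left φ.left) rfl
  have hp : p₁ ≫ φ = p₂ ≫ φ := Over.OverMorphism.ext pullback.condition
  have hψ : p₁ ≫ ψ = p₂ ≫ ψ := GrothLib.Rigidity.ext_of_points _ _ fun x => by
    have h1 : ((x ≫ p₁) * (x ≫ p₂)⁻¹) ≫ φ = η[E'] := by
      rw [MonObj.mul_comp, GrpObj.inv_comp, Category.assoc, Category.assoc, hp, _root_.mul_inv_cancel,
        Hom.one_def, Subsingleton.elim (toUnit (𝟙_ (Over (Spec (CommRingCat.of k))))) (𝟙 _), Category.id_comp]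
    have h2 := hker _ h1
    rw [MonObj.mul_comp, GrpObj.inv_comp, Category.assoc, Category.assoc,
      show η[E''] = (1 : 𝟙_ (Over (Spec (CommRingCat.of k))) ⟶ E'') by
        rw [Hom.one_def, Subsingleton.elim (toUnit (𝟙_ (Over (Spec (CommRingCat.of k))))) (𝟙 _), Category.id_comp],
      mul_inv_eq_one] at h2
    exact h2
  have hd : ∀ {Z : Scheme.{u}} (a b : Z ⟶ E.left), a ≫ φ.left = b ≫ φ.left → a ≫ ψ.left = b ≫ ψ.left := fun a b h => by
    have e := congrArg (fun q => pullback.lift a b h ≫ q) (congrArg Over.Hom.left hψ)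
    simp only [p₁, p₂, Over.comp_left, Over.homMk_left, ← Category.assoc] at e
    exact (congrArg (· ≫ ψ.left) (pullback.lift_fst a b h)).symm.trans
      (e.trans (congrArg (· ≫ ψ.left) (pullback.lift_snd a b h)))
  let r : E'.left ⟶ E''.left := EffectiveEpi.desc φ.left ψ.left hd
  have hr : φ.left ≫ r = ψ.left := EffectiveEpi.fac _ _ _
  let ρ : E' ⟶ E'' := Over.homMk r (by
    rw [← cancel_epi φ.left, reassoc_of% hr, Over.w, Over.w])
  have hρ : φ ≫ ρ = ψ := Over.OverMorphism.ext hr
  haveI : Flat E.hom := inferInstance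
  have hepi2 : Epi (φ ⊗ₘ φ) := by
    haveI : Epi ((φ ⊗ₘ φ).left) := by
      have e : (φ ⊗ₘ φ).left = pullback.map E.hom E.hom E'.hom E'.hom φ.left φ.left (𝟙 _)
          (by simp) (by simp) := by
        apply pullback.hom_ext
        · rw [pullback.lift_fst]
          show (φ ⊗ₘ φ).left ≫ (fst E' E').left = (fst E E).left ≫ φ.left
          rw [← Over.comp_left, ← Over.comp_left, tensorHom_fst]
        · rw [pullback.lift_snd]
          show (φ ⊗ₘ φ).left ≫ (snd E' E').left = (snd E E).left ≫ φ.left
          rw [← Over.comp_left, ← Over.comp_left, tensorHom_snd]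
      rw [e]
      haveI : Surjective (pullback.map E.hom E.hom E'.hom E'.hom φ.left φ.left (𝟙 _) (by simp) (by simp)) := by
        refine ⟨fun z => ?_⟩
        have : z ∈ Set.range (pullback.map E.hom E.hom E'.hom E'.hom φ.left φ.left (𝟙 _) (by simp) (by simp)) := by
          rw [Scheme.Pullback.range_map]
          exact ⟨φ.left.surjective _, φ.left.surjective _⟩
        exact this
      haveI : Flat (pullback.map E.hom E.hom E'.hom E'.hom φ.left φ.left (𝟙 _) (by simp) (by simp)) :=
        MorphismProperty.pullback_map (P := @Flat) inferInstance inferInstance (Over.w φ).symm (Over.w φ).symm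
      exact Flat.epi_of_flat_of_surjective _
    exact (Over.forget _).epi_of_epi_map this
  haveI : IsMonHom ρ := by
    refine GrothLib.GrpSchField.isMonHom_of_mul ρ ?_
    haveI := hepi2
    rw [← cancel_epi (φ ⊗ₘ φ), ← Category.assoc, ← IsMonHom.mul_hom φ, Category.assoc, hρ, IsMonHom.mul_hom,
      ← hρ, tensorHom_comp_tensorHom_assoc]
  refine ⟨ρ, ⟨inferInstance, hρ⟩, fun y hy => ?_⟩
  haveI : Epi φ := (Over.forget _).epi_of_epi_map (inferInstanceAs (Epi φ.left))
  exact (cancel_epi φ).mp (hy.2.trans hρ.symm)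

end Groth.Agent.S11090
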