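import Groth.Statements.S11091
import Mathlib
import Groth.Agent.Lib.SmoothConn.Main
-- import your own Groth.Agent.* helpers here

set_option autoImplicit false
universe u
attribute [local instance] FractionRing.liftAlgebra
open CAlg

namespace Groth.Agent.S11091

/-- Let A be a complete discrete valuation ring and B a Dedekind domain which is a finite torsion-free
A-algebra whose fraction field is separable over that of A (the integral closure of A in a finite
separable extension E of the fraction field F). Then B has exactly one maximal ideal; equivalently,
since the discrete valuations of E extending a multiple of the valuation of F correspond to the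
nonzero primes of B, the valuation of F extends uniquely to E, and B is a complete discrete
valuation ring. -/
theorem result (A B : Type u) [CommRing A] [IsDomain A] [IsDiscreteValuationRing A]
    [IsAdicComplete (IsLocalRing.maximalIdeal A) A]
    [CommRing B] [IsDedekindDomain B] [Algebra A B] [Module.Finite A B] [Module.IsTorsionFree A B]
    [Algebra.IsSeparable (FractionRing A) (FractionRing B)] :
    ∃! M : Ideal B, M.IsMaximal := by
  have : HenselianLocalRing A :=
    { is_henselian := fun f hf a₀ h₁ h₂ =>
        HenselianRing.is_henselian (I := IsLocalRing.maximalIdeal A) f hf a₀ h₁
          (h₂.map (Ideal.Quotient.mk _)) }
  have : IsLocalRing B := GrothLib.SmoothConn.isLocalRing_of_integral_domain A B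
  exact IsLocalRing.maximal_ideal_unique B

end Groth.Agent.S11091
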