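import Groth.Statements.S11092
import Mathlib
-- import your own Groth.Agent.* helpers here

set_option autoImplicit false
universe u v
open CAlg

namespace Groth.Agent.S11092

/-- Let k be an algebraically closed field, K a field finitely generated over k admitting a one-element
transcendence basis over k (a function field of dimension one), and L a finite extension field of K
with the compatible k-algebra structure. Then the K-linear map from the Kähler differentials of K
over k to those of L over k induced by the inclusion is either the zero map or injective, and it is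
injective if and only if L is separable over K. (The published statement takes K ⊆ L to be the
function fields of two elliptic curves related by a nonzero homomorphism; its proof uses only that
they are function fields of dimension one over k.) -/
theorem result (k : Type u) (K L : Type v)
    [Field k] [IsAlgClosed k] [Field K] [Field L] [Algebra k K] [Algebra k L] [Algebra K L]
    [IsScalarTower k K L] (hK : (⊤ : IntermediateField k K).FG)
    (hx : ∃ x : K, IsTranscendenceBasis k (fun _ : Unit => x)) [FiniteDimensional K L] :
    (KaehlerDifferential.map k k K L = 0 ∨ Function.Injective (KaehlerDifferential.map k k K L)) ∧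
      (Function.Injective (KaehlerDifferential.map k k K L) ↔ Algebra.IsSeparable K L) := by
  classical
  obtain ⟨x0, hx0⟩ := hx
  have key : ∀ (E : Type v) [Field E] [Algebra k E] [Algebra.EssFiniteType k E] (z : E),
      IsTranscendenceBasis k (fun _ : Unit => z) → ∃ ω : Ω[E⁄k], Submodule.span E {ω} = ⊤ := by
    intro E _ _ _ z hz
    obtain ⟨s, hs, hsep⟩ := exists_isTranscendenceBasis_and_isSeparable_of_perfectField k E
    have hcard := hs.lift_cardinalMk_eq hz
    simp at hcard
    obtain ⟨y, rfl⟩ := Finset.card_eq_one.1 (by exact_mod_cast hcard : s.card = 1)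
    refine ⟨KaehlerDifferential.D k E y, eq_top_iff.2 ?_⟩
    set U : Submodule E (Ω[E⁄k]) := Submodule.span E {KaehlerDifferential.D k E y} with hU
    let T : IntermediateField k E :=
      { carrier := {a | KaehlerDifferential.D k E a ∈ U}
        mul_mem' := fun {a b} ha hb => by
          simp only [Set.mem_setOf_eq, Derivation.leibniz] at *
          exact add_mem (U.smul_mem _ hb) (U.smul_mem _ ha)
        add_mem' := fun {a b} ha hb => by
          simp only [Set.mem_setOf_eq, map_add] at *
          exact add_mem ha hb
        algebraMap_mem' := fun r => by simp [Derivation.map_algebraMap]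
        inv_mem' := fun a ha => by
          show KaehlerDifferential.D k E a⁻¹ ∈ U
          rw [Derivation.leibniz_inv]
          exact U.smul_mem _ ha }
    have hyT : y ∈ T := by
      show KaehlerDifferential.D k E y ∈ U
      exact Submodule.subset_span rfl
    set F : IntermediateField k E := IntermediateField.adjoin k ((({y} : Finset E)) : Set E) with hF
    have hle : F ≤ T := IntermediateField.adjoin_le_iff.2 fun a ha => by
      have : a = y := by simpa using ha
      rw [this]; exact hyT
    haveI : Algebra.IsSeparable F E := hsep
    haveI := Algebra.FormallyUnramified.of_isSeparable F E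
    intro ω htop
    clear htop
    obtain ⟨t, rfl⟩ := (KaehlerDifferential.exact_mapBaseChange_map k F E ω).1 (Subsingleton.elim _ _)
    induction t using TensorProduct.induction_on with
    | zero => simp
    | add a b ha hb => rw [map_add]; exact add_mem ha hb
    | tmul c η =>
      rw [KaehlerDifferential.mapBaseChange_tmul]
      refine U.smul_mem _ ?_
      have hη : η ∈ Submodule.span F (Set.range (KaehlerDifferential.D k F)) := by
        rw [KaehlerDifferential.span_range_derivation]; trivial
      induction hη using Submodule.span_induction with
      | mem a ha =>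
        obtain ⟨f, rfl⟩ := ha
        rw [KaehlerDifferential.map_D]
        exact hle f.2
      | zero => simp
      | add a b _ _ ha hb => rw [map_add]; exact add_mem ha hb
      | smul f a _ ha =>
        rw [map_smul, ← IsScalarTower.algebraMap_smul E f]
        exact U.smul_mem _ ha
  haveI : Algebra.EssFiniteType k K := IntermediateField.fg_top_iff.1 hK
  haveI : Algebra.EssFiniteType k L := Algebra.EssFiniteType.comp k K L
  obtain ⟨ω, hω⟩ := key K x0 hx0
  have hzero : KaehlerDifferential.map k k K L = 0 ∨ Function.Injective (KaehlerDifferential.map k k K L) := by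
    by_cases h : KaehlerDifferential.map k k K L ω = 0
    · left
      refine LinearMap.ext_on hω ?_
      intro a ha; rw [Set.mem_singleton_iff.1 ha, h]; rfl
    · right
      refine (injective_iff_map_eq_zero _).2 fun a ha => ?_
      obtain ⟨c, rfl⟩ := Submodule.mem_span_singleton.1 (hω ▸ Submodule.mem_top : a ∈ Submodule.span K {ω})
      rw [map_smul, ← IsScalarTower.algebraMap_smul L c, smul_eq_zero] at ha
      rcases ha with hc | hc
      · rw [(algebraMap K L).injective (hc.trans (map_zero _).symm), zero_smul]
      · exact absurd hc h
  refine ⟨hzero, ⟨fun hinj => ?_, fun hsep => ?_⟩⟩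
  · have hne : ω ≠ 0 := by
      rintro rfl
      have hsub : Subsingleton (Ω[K⁄k]) := ⟨fun a b => by
        have h0 : ∀ c : Ω[K⁄k], c = 0 := fun c => by
          obtain ⟨r, rfl⟩ := Submodule.mem_span_singleton.1 (hω ▸ Submodule.mem_top : c ∈ Submodule.span K {(0 : Ω[K⁄k])})
          exact smul_zero r
        rw [h0 a, h0 b]⟩
      haveI : Algebra.FormallyUnramified k K := ⟨hsub⟩
      haveI := Algebra.FormallyUnramified.isSeparable k K
      exact (hx0.1.transcendental ()) (Algebra.IsAlgebraic.isAlgebraic x0)
    have hxL : IsTranscendenceBasis k (fun _ : Unit => algebraMap K L x0) := hx0.algebraMap_comp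
    obtain ⟨ω', hω'⟩ := key L _ hxL
    have himg : KaehlerDifferential.map k k K L ω ≠ 0 := fun h => hne (hinj (h.trans (map_zero _).symm))
    obtain ⟨c, hc⟩ := Submodule.mem_span_singleton.1 (hω' ▸ Submodule.mem_top :
      KaehlerDifferential.map k k K L ω ∈ Submodule.span L {ω'})
    have hc0 : c ≠ 0 := fun h => himg (by rw [← hc, h, zero_smul])
    haveI : Algebra.FormallyUnramified K L := ⟨⟨fun a b => by
      have h0 : ∀ η : Ω[L⁄K], η = 0 := fun η => by
        obtain ⟨η', rfl⟩ := KaehlerDifferential.map_surjective k K L η
        obtain ⟨r, rfl⟩ := Submodule.mem_span_singleton.1 (hω' ▸ Submodule.mem_top : η' ∈ Submodule.span L {ω'})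
        refine (KaehlerDifferential.exact_mapBaseChange_map k K L _).2 ⟨(r / c) ⊗ₜ ω, ?_⟩
        rw [KaehlerDifferential.mapBaseChange_tmul, ← hc, smul_smul, div_mul_cancel₀ r hc0]
      rw [h0 a, h0 b]⟩⟩
    exact Algebra.FormallyUnramified.isSeparable K L
  · haveI : Algebra.FormallyEtale K L := (Algebra.FormallyEtale.iff_isSeparable K L).2 hsep
    rcases eq_or_ne ω 0 with rfl | hne
    · intro a b _
      have h0 : ∀ c : Ω[K⁄k], c = 0 := fun c => by
          obtain ⟨r, rfl⟩ := Submodule.mem_span_singleton.1 (hω ▸ Submodule.mem_top : c ∈ Submodule.span K {(0 : Ω[K⁄k])})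
          exact smul_zero r
      rw [h0 a, h0 b]
    · refine (injective_iff_map_eq_zero _).2 fun a ha => ?_
      obtain ⟨r, rfl⟩ := Submodule.mem_span_singleton.1 (hω ▸ Submodule.mem_top : a ∈ Submodule.span K {ω})
      have h1 : ((1 : L) ⊗ₜ[K] (r • ω)) = 0 :=
        (KaehlerDifferential.tensorKaehlerEquivOfFormallyEtale k K L).injective (by
          rw [KaehlerDifferential.tensorKaehlerEquivOfFormallyEtale_apply, KaehlerDifferential.mapBaseChange_tmul, one_smul, ha, map_zero])
      exact Module.FaithfullyFlat.tensorProduct_mk_injective (A := K) (B := L) (Ω[K⁄k]) (h1.trans (TensorProduct.tmul_zero _ _).symm)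

end Groth.Agent.S11092
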