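import Groth.Statements.S11093
import Groth.Agent.Lib.FieldExtra.Galois
import Mathlib


set_option autoImplicit false
set_option linter.all false
set_option maxHeartbeats 800000
set_option backward.isDefEq.respectTransparency false
universe u
attribute [local instance] FractionRing.liftAlgebra
open CAlg

namespace Groth.Agent.S11093


open PowerSeries in
theorem reduce {K : Type u} [Field K] (p : ℕ) [Fact p.Prime] [CharP K p] [PerfectField K]
    {E : Type u} [Field E] [Algebra (FractionRing K⟦X⟧) E] [CharP E p] (z : E) :
    ∀ (n : ℕ) (a : K⟦X⟧),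
      z ^ p - z = algebraMap (FractionRing K⟦X⟧) E (algebraMap K⟦X⟧ (FractionRing K⟦X⟧) a /
        algebraMap K⟦X⟧ (FractionRing K⟦X⟧) (PowerSeries.X ^ n)) →
      ∃ (m : ℕ) (b : K⟦X⟧) (w : FractionRing K⟦X⟧),
        (z - algebraMap _ E w) ^ p - (z - algebraMap _ E w) = algebraMap (FractionRing K⟦X⟧) E
          (algebraMap K⟦X⟧ (FractionRing K⟦X⟧) b / algebraMap K⟦X⟧ (FractionRing K⟦X⟧) (PowerSeries.X ^ m)) ∧
        (m = 0 ∨ (¬ p ∣ m ∧ constantCoeff b ≠ 0)) := by
  have hp := (Fact.out : p.Prime)
  haveI : CharP (FractionRing K⟦X⟧) p := charP_of_injective_algebraMap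
    ((IsFractionRing.injective K⟦X⟧ (FractionRing K⟦X⟧)).comp (PowerSeries.C_injective)
      : Function.Injective ((algebraMap K⟦X⟧ (FractionRing K⟦X⟧)).comp PowerSeries.C)) p
  intro n
  induction n using Nat.strong_induction_on generalizing z with
  | _ n ih =>
    intro a ha
    let ι := algebraMap K⟦X⟧ (FractionRing K⟦X⟧)
    have hX : ι PowerSeries.X ≠ 0 := fun h => PowerSeries.X_ne_zero
      ((map_eq_zero_iff ι (IsFractionRing.injective K⟦X⟧ (FractionRing K⟦X⟧))).1 h)
    rcases Nat.eq_zero_or_pos n with rfl | hn
    · exact ⟨0, a, 0, by rw [map_zero, sub_zero]; exact ha, Or.inl rfl⟩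
    by_cases ha0 : constantCoeff a = 0
    · obtain ⟨a', rfl⟩ := PowerSeries.X_dvd_iff.2 ha0
      refine ih (n - 1) (by omega) z a' ?_
      rw [ha]
      obtain ⟨j, rfl⟩ : ∃ j, n = j + 1 := ⟨n - 1, by omega⟩
      congr 1
      simp only [Nat.add_sub_cancel, map_mul, map_pow, pow_succ]
      field_simp
    by_cases hpn : p ∣ n
    · obtain ⟨j, rfl⟩ := hpn
      have hj : 0 < j := Nat.pos_of_mul_pos_left hn
      haveI : ExpChar K p := ExpChar.prime hp
      haveI := PerfectField.toPerfectRing (K := K) p
      obtain ⟨c, hc⟩ := (bijective_frobenius K p).2 (constantCoeff a)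
      rw [frobenius_def] at hc
      let v : FractionRing K⟦X⟧ := ι (PowerSeries.C c) / ι (PowerSeries.X ^ j)
      obtain ⟨a', ha'⟩ := PowerSeries.X_dvd_iff.2
        (show constantCoeff (a - PowerSeries.C c ^ p + PowerSeries.C c * PowerSeries.X ^ (p * j - j)) = 0 by
          have hpj : j < p * j := lt_mul_of_one_lt_left hj hp.one_lt
          simp [hc, zero_pow (by omega : p * j - j ≠ 0)])
      have hpj : j < p * j := lt_mul_of_one_lt_left hj hp.one_lt
      have hstep : (z - algebraMap _ E v) ^ p - (z - algebraMap _ E v) =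
          algebraMap (FractionRing K⟦X⟧) E (ι a' / ι (PowerSeries.X ^ (p * j - 1))) := by
        rw [sub_pow_char, show z ^ p - algebraMap _ E v ^ p - (z - algebraMap _ E v) =
          (z ^ p - z) - algebraMap _ E v ^ p + algebraMap _ E v by ring, ha, ← map_pow, ← map_sub, ← map_add]
        congr 1
        have e : ι a' * ι PowerSeries.X = ι a - ι (PowerSeries.C c) ^ p +
            ι (PowerSeries.C c) * ι PowerSeries.X ^ (p * j - j) := by
          rw [← map_mul, mul_comm, ← ha']; simp
        obtain ⟨i, hi⟩ : ∃ i, p * j = j + i + 1 := ⟨p * j - j - 1, by omega⟩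
        rw [hi, show j + i + 1 - j = i + 1 by omega] at e
        simp only [v, map_pow, div_pow, ← pow_mul, mul_comm j p, hi, show j + i + 1 - 1 = j + i by omega]
        simp only [ι] at e hX ⊢
        rw [pow_add _ (j + i) 1, pow_add _ j i, pow_one]
        field_simp
        rw [pow_add _ i 1, pow_one] at e
        linear_combination -1 * e
      obtain ⟨m, b, w, hw, hmb⟩ := ih (p * j - 1) (by omega) _ a' hstep
      refine ⟨m, b, v + w, ?_, hmb⟩
      rw [map_add, ← sub_sub]
      exact hw
    · exact ⟨n, a, 0, by rw [map_zero, sub_zero]; exact ha, Or.inr ⟨hpn, ha0⟩⟩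


/-- Second assertion: (Artin–Schreier normal form): let K be a perfect field of characteristic p > 0, A
= K[[t]] the power series ring with fraction field F, and B a Dedekind domain which is a finite
torsion-free A-algebra whose fraction field E is Galois of degree p over F and totally ramified:
some maximal ideal of B has ramification index p over A. Then there are x in E generating E over F
and α in F with x^p − x + α = 0, where α = a / t^m for a power series a with nonzero constant term
and a positive integer m not divisible by p. -/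
theorem result (p : ℕ) [Fact p.Prime] (K : Type u) [Field K]
    [CharP K p] [PerfectField K] (B : Type u) [CommRing B] [IsDedekindDomain B]
    [Algebra (PowerSeries K) B] [Module.Finite (PowerSeries K) B] [Module.IsTorsionFree (PowerSeries K) B]
    [IsGalois (FractionRing (PowerSeries K)) (FractionRing B)]
    (hdeg : Module.finrank (FractionRing (PowerSeries K)) (FractionRing B) = p)
    (M : Ideal B) [M.IsMaximal] (hram : M.ramificationIdx (PowerSeries K) = p) :
    ∃ x : FractionRing B, ∃ m : ℕ, ∃ a : PowerSeries K,
      IntermediateField.adjoin (FractionRing (PowerSeries K)) {x} = ⊤ ∧ 0 < m ∧ ¬ p ∣ m ∧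
      PowerSeries.constantCoeff a ≠ 0 ∧
      x ^ p - x + algebraMap (FractionRing (PowerSeries K)) (FractionRing B)
        (algebraMap (PowerSeries K) (FractionRing (PowerSeries K)) a /
          algebraMap (PowerSeries K) (FractionRing (PowerSeries K)) (PowerSeries.X ^ m)) = 0 := by
  classical
  have hp := (Fact.out : p.Prime)
  let F := FractionRing (PowerSeries K)
  let E := FractionRing B
  let ι := algebraMap (PowerSeries K) F
  haveI : CharP F p := charP_of_injective_algebraMap
    ((IsFractionRing.injective (PowerSeries K) F).comp (PowerSeries.C_injective)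
      : Function.Injective (ι.comp PowerSeries.C)) p
  haveI : CharP E p := charP_of_injective_algebraMap (algebraMap F E).injective p
  haveI : FiniteDimensional F E := Module.finite_of_finrank_pos (by rw [hdeg]; exact hp.pos)
  obtain ⟨z₀, ⟨ξ, hξ⟩, hgen₀⟩ := GrothLib.FieldExtra.artin_schreier p hdeg
  obtain ⟨a₀, b₀, hb₀, hab⟩ := IsFractionRing.div_surjective (A := PowerSeries K) ξ
  obtain ⟨n, hn⟩ := IsDiscreteValuationRing.associated_pow_irreducible (nonZeroDivisors.ne_zero hb₀)
    PowerSeries.X_irreducible
  obtain ⟨u, hu⟩ := hn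
  obtain ⟨m, b, w, hw, hmb⟩ := reduce p z₀ n (a₀ * (u : PowerSeries K)) (by
    rw [← hξ, ← hab]
    congr 1
    rw [← hu, map_mul, map_mul]
    have h1 : ι b₀ ≠ 0 := fun h => nonZeroDivisors.ne_zero hb₀
      ((map_eq_zero_iff ι (IsFractionRing.injective (PowerSeries K) F)).1 h)
    have h2 : ι (u : (PowerSeries K)) ≠ 0 := (u.isUnit.map ι).ne_zero
    field_simp)
  let x := z₀ - algebraMap F E w
  have hxgen : IntermediateField.adjoin F {x} = ⊤ := by
    rw [← top_le_iff, ← hgen₀, IntermediateField.adjoin_simple_le_iff]
    have h1 : x ∈ IntermediateField.adjoin F {x} := IntermediateField.mem_adjoin_simple_self F x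
    have h2 : algebraMap F E w ∈ IntermediateField.adjoin F {x} := IntermediateField.algebraMap_mem _ w
    simpa [x] using add_mem h1 h2
  rcases hmb with rfl | ⟨hpm, hb⟩
  swap
  · have hm0 : 0 < m := Nat.pos_of_ne_zero fun h => hpm (h ▸ dvd_zero p)
    refine ⟨x, m, -b, hxgen, hm0, hpm, by simpa using hb, ?_⟩
    rw [map_neg, neg_div, map_neg, hw, add_neg_cancel]
  exfalso
  rw [pow_zero, map_one, div_one, ← IsScalarTower.algebraMap_apply] at hw
  -- integral case: `E / F` would be unramified
  have hint : IsIntegral (PowerSeries K) x := by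
    refine ⟨Polynomial.X ^ p - Polynomial.X - Polynomial.C b, ?_, ?_⟩
    · rw [sub_sub]
      exact Polynomial.monic_X_pow_sub ((Polynomial.degree_add_le _ _).trans_lt (max_lt
        (Polynomial.degree_X_le.trans_lt (by exact_mod_cast hp.one_lt))
        (Polynomial.degree_C_le.trans_lt (by exact_mod_cast hp.pos))))
    · simp only [Polynomial.eval₂_sub, Polynomial.eval₂_X_pow, Polynomial.eval₂_X, Polynomial.eval₂_C]
      exact sub_eq_zero.2 hw
  haveI : IsIntegralClosure B (PowerSeries K) E := IsIntegralClosure.of_isIntegrallyClosed B (PowerSeries K) E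
  obtain ⟨y, hy⟩ := (IsIntegralClosure.isIntegral_iff (A := B)).1 hint
  have hpoly : Polynomial.aeval y (Polynomial.X ^ p - Polynomial.X - Polynomial.C b : Polynomial (PowerSeries K)) = 0 := by
    apply IsFractionRing.injective B E
    rw [← Polynomial.aeval_algebraMap_apply, hy, map_zero]
    simp only [map_sub, map_pow, Polynomial.aeval_X, Polynomial.aeval_C]
    exact sub_eq_zero.2 hw
  obtain ⟨g, hg⟩ := minpoly.isIntegrallyClosed_dvd (Algebra.IsIntegral.isIntegral y) hpoly
  have hd := congrArg (fun q => Polynomial.aeval y (Polynomial.derivative q)) hg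
  simp only [Polynomial.derivative_sub, Polynomial.derivative_X_pow, Polynomial.derivative_X, Polynomial.derivative_C,
    Polynomial.derivative_mul, map_sub, map_add, map_mul, minpoly.aeval, zero_mul, add_zero, map_one, map_zero,
    sub_zero, map_natCast] at hd
  haveI : CharP (PowerSeries K) p := charP_of_injective_algebraMap (PowerSeries.C_injective : Function.Injective (PowerSeries.C (R := K))) p
  haveI : CharP B p := charP_of_injective_algebraMap (FaithfulSMul.algebraMap_injective (PowerSeries K) B) p
  simp only [CharP.cast_eq_zero, zero_mul, zero_sub] at hd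
  have hunit : IsUnit (Polynomial.aeval y (Polynomial.derivative (minpoly (PowerSeries K) y))) :=
    IsUnit.of_mul_eq_one (-Polynomial.aeval y g) (by rw [mul_neg, ← hd, neg_neg])
  have hadj : Algebra.adjoin F {algebraMap B E y} = ⊤ := by
    rw [hy, ← IntermediateField.adjoin_simple_toSubalgebra_of_isAlgebraic (Algebra.IsAlgebraic.isAlgebraic x), hxgen,
      IntermediateField.top_toSubalgebra]
  have hdiff : differentIdeal (PowerSeries K) B = ⊤ := Ideal.eq_top_of_isUnit_mem _
    (aeval_derivative_mem_differentIdeal (PowerSeries K) F E y hadj) hunit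
  let P₀ := M.under (PowerSeries K)
  haveI : P₀.IsMaximal := Ideal.IsMaximal.under (PowerSeries K) M
  have hP0 : P₀ ≠ ⊥ := fun h => PowerSeries.not_isField
    ((Ring.isField_iff_maximal_bot).2 (h ▸ ‹P₀.IsMaximal›))
  have hdvd : M ^ p ∣ P₀.map (algebraMap (PowerSeries K) B) := by
    rw [Ideal.dvd_iff_le, ← hram, ← Ideal.ramificationIdx'_eq_ramificationIdx P₀ M hP0]
    exact Ideal.le_pow_ramificationIdx'
  have h1 := pow_sub_one_dvd_differentIdeal (PowerSeries K) M p hP0 hdvd
  rw [hdiff, Ideal.dvd_iff_le] at h1
  exact (‹M.IsMaximal›).ne_top (top_le_iff.1 (h1.trans (Ideal.pow_le_self (by have := hp.two_le; omega))))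

end Groth.Agent.S11093
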