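import Groth.Statements.S11094
-- import your own Groth.Agent.* helpers here
import Groth.Agent.Lib.AbMul.CurveTangent
import Groth.Agent.Lib.CurvePoints.Basic
import Mathlib.AlgebraicGeometry.AlgClosed.Basic
import Mathlib.FieldTheory.Galois.Basic
import Mathlib.RingTheory.Unramified.Field

set_option autoImplicit false
universe u
open CategoryTheory CategoryTheory.Limits MonoidalCategory CartesianMonoidalCategory MonObj GrpObj AlgebraicGeometry
open AbVar

namespace Groth.Agent.S11094

/-- Let k be an algebraically closed field, E and E′ elliptic curves over k — group schemes over Spec k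
whose underlying schemes are proper, smooth, integral and one-dimensional — and φ : E → E′ a
homomorphism which is finite, surjective and étale (a separable isogeny), sending the generic point
of E to that of E′, so that the function field of E′ maps into the function field of E. Then the
function field of E is a Galois extension of that of E′, and the number of its automorphisms over
the function field of E′ equals the number of k-valued points of E that φ sends to the unit of E′. -/
theorem result (k : Type u) [Field k] [IsAlgClosed k]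
    (E E' : Over (Spec (CommRingCat.of k)))
    [GrpObj E] [IsProper E.hom] [Smooth E.hom] [IsIntegral E.left] (hE : topologicalKrullDim E.left = 1)
    [GrpObj E'] [IsProper E'.hom] [Smooth E'.hom] [IsIntegral E'.left] (hE' : topologicalKrullDim E'.left = 1)
    (φ : E ⟶ E') [IsMonHom φ] [IsFinite φ.left] [Surjective φ.left] [Etale φ.left]
    (e : φ.left (genericPoint E.left) = genericPoint E'.left) :
    letI := ((E'.left.presheaf.stalkSpecializes (specializes_of_eq e) ≫
      φ.left.stalkMap (genericPoint E.left)).hom).toAlgebra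
    IsGalois E'.left.functionField E.left.functionField ∧
      Nat.card (E.left.functionField ≃ₐ[E'.left.functionField] E.left.functionField) =
        Nat.card {P : 𝟙_ (Over (Spec (CommRingCat.of k))) ⟶ E // P ≫ φ = η[E']} := by
  let F := E'.left.functionField
  let L := E.left.functionField
  let ξ := genericPoint E.left
  let ξ' := genericPoint E'.left
  let ψ : F ⟶ L := E'.left.presheaf.stalkSpecializes (specializes_of_eq e) ≫ φ.left.stalkMap ξ
  letI alg : Algebra F L := ψ.hom.toAlgebra
  show IsGalois F L ∧ Nat.card (L ≃ₐ[F] L) = _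
  haveI : Algebra.FormallyUnramified F L := by
    refine RingHom.FormallyUnramified.comp (RingHom.FormallyUnramified.of_surjective ?_)
      (FormallyUnramified.stalkMap φ.left ξ)
    exact ((TopCat.Presheaf.stalkCongr E'.left.presheaf (Inseparable.of_eq e.symm)).commRingCatIsoToRingEquiv).surjective
  haveI : Algebra.EssFiniteType F L := by
    refine RingHom.EssFiniteType.comp (RingHom.FiniteType.essFiniteType (RingHom.FiniteType.of_surjective _ ?_))
      (LocallyOfFiniteType.stalkMap φ.left ξ)
    exact ((TopCat.Presheaf.stalkCongr E'.left.presheaf (Inseparable.of_eq e.symm)).commRingCatIsoToRingEquiv).surjective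
  haveI : Algebra.IsSeparable F L := Algebra.FormallyUnramified.isSeparable F L
  haveI : FiniteDimensional F L := Algebra.FormallyUnramified.finite_of_free F L
  let g := E.left.fromSpecStalk ξ
  let g' := E'.left.fromSpecStalk ξ'
  have hgφ : g ≫ φ.left = Spec.map ψ ≫ g' := by
    rw [Spec.map_comp, Category.assoc, Scheme.SpecMap_stalkSpecializes_fromSpecStalk,
      Scheme.SpecMap_stalkMap_fromSpecStalk]
  have hclosed : ∀ x : E.left, IsClosed ({x} : Set E.left) → IsClosed ({φ.left x} : Set E'.left) := fun x hx => by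
    have := φ.left.isClosedMap _ hx
    rwa [Set.image_singleton] at this
  have hpre : ∀ z : E.left, φ.left z = ξ' → z = ξ := fun z hz => by
    have h : z ∈ φ.left ⁻¹' {ξ'} := hz
    rwa [GrothLib.CurvePoints.preimage_genericPoint hE' hE.le φ.left e hclosed] at h
  let N := {P : 𝟙_ (Over (Spec (CommRingCat.of k))) ⟶ E // P ≫ φ = η[E']}
  let τ : N → (E ⟶ E) := fun P => 𝟙 E * (toUnit E ≫ P.1)
  have hτ : ∀ P, τ P ≫ φ = φ := fun P => by
    have h1 : P.1 ≫ φ = 1 := by
      rw [P.2, MonObj.one_eq_one]
    rw [MonObj.mul_comp, Category.id_comp, Category.assoc, h1, MonObj.comp_one, _root_.mul_one]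
  -- maps `Spec Ω ⟶ E` over the generic point of `E'`
  have lift : ∀ (Ω : Type u) [Field Ω] [Algebra F Ω] (x : Spec (CommRingCat.of Ω) ⟶ E.left),
      x ≫ φ.left = Spec.map (CommRingCat.ofHom (algebraMap F Ω)) ≫ g' →
      ∃ h : L →ₐ[F] Ω, Spec.map (CommRingCat.ofHom h.toRingHom) ≫ g = x := by
    intro Ω _ _ x hx
    have hpt : x (IsLocalRing.closedPoint Ω) = ξ := hpre _ (by
      show (x ≫ φ.left) (IsLocalRing.closedPoint Ω) = ξ'
      rw [hx, Scheme.Hom.comp_apply]
      have : Spec.map (CommRingCat.ofHom (algebraMap F Ω)) (IsLocalRing.closedPoint Ω) = IsLocalRing.closedPoint F :=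
        Subsingleton.elim (α := PrimeSpectrum F) _ _
      rw [this]
      exact Scheme.fromSpecStalk_closedPoint)
    obtain ⟨h, -, hh⟩ := GrothLib.AbMul.exists_local_lift (A := CommRingCat.of Ω) x hpt
    have hψ : ψ ≫ h = CommRingCat.ofHom (algebraMap F Ω) := Spec.map_injective (by
      rw [← cancel_mono g', Spec.map_comp, Category.assoc, ← hgφ, ← Category.assoc, hh, hx])
    exact ⟨{ h.hom with commutes' := fun r => congrArg (fun q => q r) hψ }, hh⟩
  have inj : ∀ (Ω : Type u) [Field Ω] [Algebra F Ω] (h h' : L →ₐ[F] Ω),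
      Spec.map (CommRingCat.ofHom h.toRingHom) ≫ g = Spec.map (CommRingCat.ofHom h'.toRingHom) ≫ g → h = h' := by
    intro Ω _ _ h h' hh
    rw [cancel_mono] at hh
    exact AlgHom.coe_ringHom_injective (congrArg CommRingCat.Hom.hom (Spec.map_injective hh))
  have hpt : ∀ (Ω : Type u) [Field Ω] [Algebra F Ω] (h : L →ₐ[F] Ω),
      (Spec.map (CommRingCat.ofHom h.toRingHom) ≫ g) ≫ φ.left =
        Spec.map (CommRingCat.ofHom (algebraMap F Ω)) ≫ g' := by
    intro Ω _ _ h
    rw [Category.assoc, hgφ, ← Category.assoc, ← Spec.map_comp]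
    congr 2
    exact CommRingCat.hom_ext (RingHom.ext fun r => h.commutes r)
  have hσ : ∀ P : N, ∃ σ : L →ₐ[F] L, Spec.map (CommRingCat.ofHom σ.toRingHom) ≫ g = g ≫ (τ P).left := fun P =>
    lift L (g ≫ (τ P).left) (by
      rw [Category.assoc, ← Over.comp_left, hτ]
      exact hgφ)
  choose σ hσ using hσ
  let Φ : N → (L ≃ₐ[F] L) := fun P => AlgEquiv.ofBijective (σ P) (Algebra.IsAlgebraic.algHom_bijective (σ P))
  let Ω := AlgebraicClosure F
  let e₀ : L →ₐ[F] Ω := IsAlgClosed.lift
  let res : (L ≃ₐ[F] L) → (L →ₐ[F] Ω) := fun s => e₀.comp s.toAlgHom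
  have hres : Function.Injective res := fun s t h => AlgEquiv.ext fun a => e₀.toRingHom.injective (AlgHom.congr_fun h a)
  -- every embedding differs from `e₀` by a kernel point
  have hsurj : Function.Surjective (res ∘ Φ) := by
    intro h
    let T : Over (Spec (CommRingCat.of k)) := Over.mk ((Spec.map (CommRingCat.ofHom e₀.toRingHom) ≫ g) ≫ E.hom)
    let x₀ : T ⟶ E := Over.homMk (Spec.map (CommRingCat.ofHom e₀.toRingHom) ≫ g) rfl
    let x : T ⟶ E := Over.homMk (Spec.map (CommRingCat.ofHom h.toRingHom) ≫ g) (by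
      have h2 := congrArg (· ≫ E'.hom) ((hpt Ω h).trans (hpt Ω e₀).symm)
      simp only [Category.assoc, Over.w] at h2
      exact (Category.assoc _ _ _).trans (h2.trans (Category.assoc _ _ _).symm))
    have hd : (x₀⁻¹ * x) ≫ φ = 1 := by
      have h1 : x ≫ φ = x₀ ≫ φ := Over.OverMorphism.ext ((hpt Ω h).trans (hpt Ω e₀).symm)
      rw [MonObj.mul_comp, GrpObj.inv_comp, h1, _root_.inv_mul_cancel]
    let d := (x₀⁻¹ * x).left
    let z := d (IsLocalRing.closedPoint Ω)
    have hzη : φ.left z = (η[E']).left (IsLocalRing.closedPoint k) := by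
      show (d ≫ φ.left) (IsLocalRing.closedPoint Ω) = _
      rw [show d ≫ φ.left = (1 : T ⟶ E').left from congrArg Over.Hom.left hd]
      exact congrArg (η[E']).left (Subsingleton.elim (α := PrimeSpectrum k) _ _)
    have hηcl : IsClosed ({(η[E']).left (IsLocalRing.closedPoint k)} : Set E'.left) :=
      ((pointEquivClosedPoint E'.hom) ⟨(η[E']).left, Over.w η[E']⟩).2
    have hz : IsClosed ({z} : Set E.left) := by
      refine GrothLib.CurvePoints.isClosed_singleton hE.le fun h0 => ?_
      rw [h0, show φ.left (genericPoint E.left) = genericPoint E'.left from e] at hzη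
      exact GrothLib.CurvePoints.genericPoint_not_isClosed hE' (hzη ▸ hηcl)
    let P₀ : 𝟙_ (Over (Spec (CommRingCat.of k))) ⟶ E :=
      Over.homMk (pointOfClosedPoint E.hom z hz) (pointOfClosedPoint_comp E.hom z hz)
    have hP₀ : P₀ ≫ φ = η[E'] := Over.OverMorphism.ext (ext_of_apply_closedPoint_eq E'.hom
      (by simp [P₀]) (Over.w η[E']) (by
        show φ.left (pointOfClosedPoint E.hom z hz (IsLocalRing.closedPoint k)) = _
        rw [pointOfClosedPoint_apply, hzη]))
    have hdP : x₀⁻¹ * x = toUnit T ≫ P₀ := by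
      refine Over.OverMorphism.ext ?_
      show d = (toUnit T).left ≫ pointOfClosedPoint E.hom z hz
      have h1 := Scheme.descResidueField_stalkClosedPointTo_fromSpecResidueField Ω E.left d
      have h2 : E.left.fromSpecResidueField z =
          (E.left.fromSpecResidueField z ≫ E.hom) ≫ pointOfClosedPoint E.hom z hz := by
        rw [← SpecMap_residueFieldIsoBase_inv E.hom z hz, pointOfClosedPoint, ← Category.assoc,
          ← Spec.map_comp, Iso.hom_inv_id, Spec.map_id, Category.id_comp]
      conv_lhs => rw [← h1]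
      rw [h2, ← Category.assoc, ← Category.assoc, h1]
      congr 1
      exact (Over.w (x₀⁻¹ * x)).trans (Category.comp_id _).symm
    refine ⟨⟨P₀, hP₀⟩, inj Ω _ _ ?_⟩
    show Spec.map (CommRingCat.ofHom (e₀.toRingHom.comp (σ ⟨P₀, hP₀⟩).toRingHom)) ≫ g = _
    rw [CommRingCat.ofHom_comp, Spec.map_comp, Category.assoc, hσ, ← Category.assoc]
    show (x₀ ≫ τ ⟨P₀, hP₀⟩).left = x.left
    congr 1
    show x₀ ≫ (𝟙 E * (toUnit E ≫ P₀)) = x
    rw [MonObj.comp_mul, Category.comp_id, ← Category.assoc, CartesianMonoidalCategory.comp_toUnit, ← hdP,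
      mul_inv_cancel_left]
  have hinj : Function.Injective Φ := by
    intro P Q h
    have h' : g ≫ (τ P).left = g ≫ (τ Q).left := by
      rw [← hσ, ← hσ]
      have hs : σ P = σ Q := AlgHom.ext fun a => by
        have := AlgEquiv.congr_fun h a
        rwa [AlgEquiv.coe_ofBijective, AlgEquiv.coe_ofBijective] at this
      rw [hs]
    let T : Over (Spec (CommRingCat.of k)) := Over.mk (g ≫ E.hom)
    let gT : T ⟶ E := Over.homMk g rfl
    have h2 : gT ≫ τ P = gT ≫ τ Q := Over.OverMorphism.ext h'
    simp only [τ] at h2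
    rw [MonObj.comp_mul, MonObj.comp_mul, mul_right_inj, ← Category.assoc, ← Category.assoc,
      CartesianMonoidalCategory.comp_toUnit] at h2
    refine Subtype.ext (Over.OverMorphism.ext (ext_of_apply_closedPoint_eq E.hom (Over.w P.1) (Over.w Q.1) ?_))
    have h3 : ((toUnit T ≫ P.1).left) (IsLocalRing.closedPoint L) = ((toUnit T ≫ Q.1).left) (IsLocalRing.closedPoint L) :=
      congrArg (fun q : T ⟶ E => q.left (IsLocalRing.closedPoint L)) h2
    have h4 : (toUnit T).left (IsLocalRing.closedPoint L) = IsLocalRing.closedPoint k :=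
      Subsingleton.elim (α := PrimeSpectrum k) _ _
    rw [Over.comp_left, Over.comp_left, Scheme.Hom.comp_apply, Scheme.Hom.comp_apply, h4] at h3
    exact h3
  have hbij : Function.Bijective Φ := ⟨hinj, fun s => by
    obtain ⟨P, hP⟩ := hsurj (res s)
    exact ⟨P, hres hP⟩⟩
  have hcard : Nat.card (L ≃ₐ[F] L) = Module.finrank F L := by
    rw [Nat.card_eq_of_bijective res ⟨hres, fun h => (hsurj h).imp' Φ fun _ hP => hP⟩,
      Nat.card_eq_fintype_card]
    exact AlgHom.card F L Ω
  exact ⟨IsGalois.of_card_aut_eq_finrank F L hcard, (Nat.card_eq_of_bijective Φ hbij).symm⟩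

end Groth.Agent.S11094
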