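import Groth.Statements.S11095
import Groth.Agent.Lib.GeomIrrAlg.FieldExt
import Groth.Agent.Lib.BaseChange.Finite
-- import your own Groth.Agent.* helpers here

set_option autoImplicit false
universe u
open CAlg

namespace Groth.Agent.S11095

/-- Let K₀ be a perfect field, K an algebraic extension of K₀ and F₀ a field extension of K₀ such that
K₀ is algebraically closed in F₀. Then the K₀-algebra F₀ ⊗ K is a field; consequently F₀ and K,
embedded in it by x ↦ x ⊗ 1 and y ↦ 1 ⊗ y, are linearly disjoint over K₀. -/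
theorem result (K₀ F₀ K : Type u)
    [Field K₀] [PerfectField K₀] [Field F₀] [Algebra K₀ F₀] [Field K] [Algebra K₀ K]
    [Algebra.IsAlgebraic K₀ K] (h : algebraicClosure K₀ F₀ = ⊥) :
    IsField (TensorProduct K₀ F₀ K) := by
  have hsep : ∀ α : F₀, IsSeparable K₀ α → α ∈ Set.range (algebraMap K₀ F₀) := fun α hα =>
    IntermediateField.mem_bot.1 (h ▸ mem_algebraicClosure_iff.2 hα.isIntegral.isAlgebraic)
  have : Algebra.IsSeparable K₀ K := inferInstance
  refine ⟨⟨1, 0, one_ne_zero⟩, mul_comm, fun {t} ht => ?_⟩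
  obtain ⟨E, hE, t', rfl⟩ := GrothLib.BaseChange.exists_mem_range_map (A := F₀) t
  have := hE
  have : Algebra.IsSeparable K₀ E := Algebra.isSeparable_tower_bot_of_isSeparable K₀ E K
  have hF : IsField (TensorProduct K₀ F₀ E) :=
    MulEquiv.isField (GrothLib.GeomIrrAlg.isField_finite_separable hsep E)
      (Algebra.TensorProduct.comm K₀ F₀ E).toMulEquiv
  obtain ⟨u, hu⟩ := hF.mul_inv_cancel (show t' ≠ 0 from fun h0 => ht (by rw [h0, map_zero]))
  exact ⟨Algebra.TensorProduct.map (AlgHom.id K₀ F₀) E.val u, by rw [← map_mul, hu, map_one]⟩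

end Groth.Agent.S11095
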