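import Groth.Statements.S11096
-- import your own Groth.Agent.* helpers here
import Mathlib.Tactic.Ring

set_option autoImplicit false
universe u
open Neron

namespace Groth.Agent.S11096

/-- Let a Weierstrass equation have coefficients in a commutative ring R and let I be an ideal with a₃,
a₄, a₆ ∈ I. If the discriminant Δ does not lie in I ^ 2, then a₆ does not lie in I ^ 2 and b₂ does
not lie in I. (For a discrete valuation ring with maximal ideal (π): if π divides a₃, a₄, a₆ and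
v(Δ) = 1, then v(a₆) = 1 and π does not divide b₂.) -/
theorem result {R : Type u} [CommRing R] (W : WeierstrassCurve R)
    (I : Ideal R) (h3 : W.a₃ ∈ I) (h4 : W.a₄ ∈ I) (h6 : W.a₆ ∈ I) (hΔ : W.Δ ∉ I ^ 2) :
    W.a₆ ∉ I ^ 2 ∧ W.b₂ ∉ I := by
  have hb4 : W.b₄ ∈ I := by
    rw [WeierstrassCurve.b₄]; exact add_mem (I.mul_mem_left _ h4) (I.mul_mem_left _ h3)
  have hb6 : W.b₆ ∈ I := by
    rw [WeierstrassCurve.b₆, sq]; exact add_mem (I.mul_mem_left _ h3) (I.mul_mem_left _ h6)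
  have m2 : ∀ {x y : R}, x ∈ I → y ∈ I → x * y ∈ I ^ 2 := fun hx hy => by
    rw [sq]; exact Ideal.mul_mem_mul hx hy
  constructor
  · intro ha6
    apply hΔ
    have e : W.Δ = -(W.b₂ ^ 2 * ((W.a₁ ^ 2 + 4 * W.a₂) * W.a₆)) +
        W.b₂ ^ 2 * (W.a₁ * (W.a₃ * W.a₄)) + (-(W.b₂ ^ 2 * W.a₂)) * (W.a₃ * W.a₃) + W.b₂ ^ 2 * (W.a₄ * W.a₄)
        + (-8 * W.b₄) * (W.b₄ * W.b₄) + (-27) * (W.b₆ * W.b₆) + 9 * W.b₂ * (W.b₄ * W.b₆) := by
      simp only [WeierstrassCurve.Δ, WeierstrassCurve.b₈]; ring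
    rw [e]
    refine add_mem (add_mem (add_mem (add_mem (add_mem (add_mem ?_ ?_) ?_) ?_) ?_) ?_) ?_
    · exact neg_mem (Ideal.mul_mem_left _ _ (Ideal.mul_mem_left _ _ ha6))
    · exact Ideal.mul_mem_left _ _ (Ideal.mul_mem_left _ _ (m2 h3 h4))
    · exact Ideal.mul_mem_left _ _ (m2 h3 h3)
    · exact Ideal.mul_mem_left _ _ (m2 h4 h4)
    · exact Ideal.mul_mem_left _ _ (m2 hb4 hb4)
    · exact Ideal.mul_mem_left _ _ (m2 hb6 hb6)
    · exact Ideal.mul_mem_left _ _ (m2 hb4 hb6)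
  · intro hb2
    apply hΔ
    have e : W.Δ = (-W.b₈) * (W.b₂ * W.b₂)
        + (-8 * W.b₄) * (W.b₄ * W.b₄) + (-27) * (W.b₆ * W.b₆) + 9 * W.b₂ * (W.b₄ * W.b₆) := by
      simp only [WeierstrassCurve.Δ]; ring
    rw [e]
    exact add_mem (add_mem (add_mem (Ideal.mul_mem_left _ _ (m2 hb2 hb2))
      (Ideal.mul_mem_left _ _ (m2 hb4 hb4))) (Ideal.mul_mem_left _ _ (m2 hb6 hb6)))
      (Ideal.mul_mem_left _ _ (m2 hb4 hb6))

end Groth.Agent.S11096
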