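import Groth.Statements.S11097
-- import your own Groth.Agent.* helpers here
import Mathlib
import Groth.Agent.Lib.AbMul.WeierstrassRegular

set_option autoImplicit false
universe u
open Polynomial
open Neron

namespace Groth.Agent.S11097

/-- Let R be a discrete valuation ring with maximal ideal m and let y² + a₁xy + a₃y = x³ + a₂x² + a₄x +
a₆ be a Weierstrass equation with coefficients in R such that a₃, a₄, a₆ ∈ m and a₆ ∉ m². Then the
affine scheme defined by the equation over R is regular at the point π = x = y = 0 of its special
fibre: the localization of the coordinate ring at a maximal ideal containing the image of m and the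
classes of x and y is a regular local ring. (The published statement asserts regularity of the
projective Weierstrass scheme; this row states it at the point π = x = y = 0 of the special fibre.) -/
theorem result (R : Type u) [CommRing R] [IsDomain R]
    [IsDiscreteValuationRing R] (W : WeierstrassCurve.Affine R)
    (h3 : W.a₃ ∈ IsLocalRing.maximalIdeal R) (h4 : W.a₄ ∈ IsLocalRing.maximalIdeal R)
    (h6 : W.a₆ ∈ IsLocalRing.maximalIdeal R) (h6' : W.a₆ ∉ IsLocalRing.maximalIdeal R ^ 2)
    (P : Ideal W.CoordinateRing) [P.IsMaximal]
    (hP : ∀ r ∈ IsLocalRing.maximalIdeal R, algebraMap R W.CoordinateRing r ∈ P)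
    (hx : WeierstrassCurve.Affine.CoordinateRing.mk W (C X) ∈ P)
    (hy : WeierstrassCurve.Affine.CoordinateRing.mk W X ∈ P) :
    IsRegularLocalRing (Localization.AtPrime P) := by
  have : IsRegularRing R := inferInstance
  refine GrothLib.AbMul.isRegularLocalRing_hypersurface (WeierstrassCurve.Affine.CoordinateRing.mk W)
    AdjoinRoot.mk_surjective W.polynomial (Ideal.mk_ker) P ?_
  exact GrothLib.AbMul.saturation_origin W h6' _ hP hx hy

end Groth.Agent.S11097
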