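import Groth.Statements.S11099
-- import your own Groth.Agent.* helpers here
import Groth.Agent.Lib.WeilExt.Dedekind

set_option autoImplicit false
universe u
open CategoryTheory CategoryTheory.Limits AlgebraicGeometry
open Neron

namespace Groth.Agent.S11099

/-- Let R be a Dedekind domain, X → Spec R smooth, G → Spec R a proper group scheme, U ⊆ X an open
subscheme which is dense in every fibre of X → Spec R, and f : U → G a morphism over Spec R (a
rational map X ⇢ G over R whose domain is dense in all fibres). Then f extends uniquely to a
morphism X → G over Spec R: a rational map from a smooth R-scheme to a proper R-group scheme,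
defined densely on every fibre, is a morphism. -/
theorem result {R : Type u} [CommRing R] [IsDedekindDomain R] {X G : Scheme.{u}}
    (pX : X ⟶ Spec (CommRingCat.of R)) (pG : G ⟶ Spec (CommRingCat.of R)) [Smooth pX]
    [GrpObj (Over.mk pG)] [IsProper pG]
    (U : X.Opens) (hdense : ∀ x : X, x ∈ closure ((U : Set X) ∩ {y | pX.base y = pX.base x}))
    (f : (U : Scheme.{u}) ⟶ G) (hf : f ≫ pG = U.ι ≫ pX) :
    ∃! g : X ⟶ G, g ≫ pG = pX ∧ U.ι ≫ g = f := by
  exact GrothLib.WeilExt.existsUnique_extension_of_isProper pX pG U (fun y => closure_mono Set.inter_subset_left (hdense y)) f hf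

end Groth.Agent.S11099
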