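import Groth.Statements.S11100
import Mathlib
import Groth.Agent.Lib.RegLoc.Basic
import Groth.Agent.Lib.LocProp.RegularSmooth
import Groth.Agent.Lib.LocProp.FibreSmooth

set_option autoImplicit false
universe u
open CategoryTheory AlgebraicGeometry
open Neron

namespace Groth.Agent.S11100

open IsLocalRing

theorem appLE_germ_of_eq_id {Y : Scheme.{u}} (f : Y ⟶ Y) (hf : f = 𝟙 Y) {U W : Y.Opens}
    (e : W ≤ f ⁻¹ᵁ U) (t : Y) (h : t ∈ W) (h' : t ∈ U) :
    f.appLE U W e ≫ Y.presheaf.germ W t h = Y.presheaf.germ U t h' := by
  subst hf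
  simp [Scheme.Hom.appLE, TopCat.Presheaf.germ_res]
  rfl

/-- A residue field without extension is formally smooth. -/
theorem formallySmooth_residueField {k L : Type u} [Field k] [CommRing L] [Algebra k L]
    [IsLocalRing L] (h : ∀ z : L, ∃ c : k, z - algebraMap k L c ∈ maximalIdeal L) :
    Algebra.FormallySmooth k (ResidueField L) := by
  refine .of_equiv (AlgEquiv.ofBijective (Algebra.ofId k (ResidueField L))
    ⟨RingHom.injective _, fun z ↦ ?_⟩)
  obtain ⟨z, rfl⟩ := residue_surjective z
  obtain ⟨c, hc⟩ := h z
  exact ⟨c, ((Ideal.Quotient.mk_eq_mk_iff_sub_mem _ _).mpr hc).symm⟩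

set_option backward.isDefEq.respectTransparency false in
/-- A regular point on a section of a flat algebra over a one dimensional regular base is smooth. -/
theorem isSmoothAt_of_section {A B : Type u} [CommRing A] [CommRing B] [Algebra A B]
    [Algebra.FinitePresentation A B] (p : Ideal A) [p.IsPrime] (q : Ideal B) [q.IsPrime]
    [q.LiesOver p] [IsRegularLocalRing (Localization.AtPrime q)]
    (hflat : Module.Flat A B) [IsDomain (Localization.AtPrime p)]
    [IsPrincipalIdealRing (Localization.AtPrime p)]
    (ε : B →+* Localization.AtPrime p)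
    (hε : ∀ a, ε (algebraMap A B a) = algebraMap A (Localization.AtPrime p) a)
    (hεq : (maximalIdeal (Localization.AtPrime p)).comap ε = q) :
    Algebra.IsSmoothAt A q := by
  let := Localization.AtPrime.algebraOfLiesOver p q
  obtain ⟨q₀, hq₀⟩ : ∃ q₀ : PrimeSpectrum (p.Fiber B),
      q₀.asIdeal.comap (Algebra.TensorProduct.includeRight
        (R := A) (A := p.ResidueField) (B := B)) = q := by
    refine ⟨PrimeSpectrum.primesOverOrderIsoFiber A B p ⟨q, inferInstance, inferInstance⟩, ?_⟩
    rw [← PrimeSpectrum.coe_primesOverOrderIsoFiber_symm_apply, OrderIso.symm_apply_apply]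
  -- the section at the level of local rings
  let εq : Localization.AtPrime q →+* Localization.AtPrime p :=
    IsLocalization.lift (M := q.primeCompl) (g := ε) fun b ↦ by
      by_contra hb
      exact b.2 (hεq ▸ (show ε b ∈ maximalIdeal _ from hb))
  have hεq' : ∀ b, εq (algebraMap B _ b) = ε b := fun b ↦ IsLocalization.lift_eq _ b
  have hsec : ∀ z, εq (algebraMap (Localization.AtPrime p) (Localization.AtPrime q) z) = z := by
    refine RingHom.congr_fun (show εq.comp (algebraMap (Localization.AtPrime p) (Localization.AtPrime q)) =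
      RingHom.id _ from IsLocalization.ringHom_ext p.primeCompl (RingHom.ext fun a ↦ ?_))
    simp only [RingHom.comp_apply, RingHom.id_apply,
      ← IsScalarTower.algebraMap_apply A (Localization.AtPrime p) (Localization.AtPrime q),
      IsScalarTower.algebraMap_apply A B (Localization.AtPrime q), hεq', hε]
  have hloc : IsLocalHom εq := by
    refine ⟨fun z hz ↦ ?_⟩
    obtain ⟨b, s, rfl⟩ := IsLocalization.exists_mk'_eq q.primeCompl z
    rw [IsLocalization.AtPrime.isUnit_mk'_iff _ q b s]
    intro hb
    have h1 : ε b ∈ maximalIdeal _ := (hεq ▸ hb : b ∈ (maximalIdeal _).comap ε)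
    refine h1 (isUnit_of_mul_isUnit_left (y := 1) ?_)
    have h2 : εq (IsLocalization.mk' _ b s) * ε s = ε b := by
      rw [← hεq', ← map_mul, IsLocalization.mk'_spec, hεq']
    rw [_root_.mul_one, ← h2]
    refine hz.mul ?_
    by_contra hs
    exact s.2 (hεq ▸ (show ε s ∈ maximalIdeal _ from hs))
  -- the uniformiser
  obtain ⟨w, hw⟩ := (IsPrincipalIdealRing.principal (maximalIdeal (Localization.AtPrime p))).1
  have hw : maximalIdeal (Localization.AtPrime p) = Ideal.span {w} := hw
  set w' := algebraMap (Localization.AtPrime p) (Localization.AtPrime q) w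
  have hmap : p.map (algebraMap A (Localization.AtPrime q)) = Ideal.span {w'} := by
    rw [IsScalarTower.algebraMap_eq A (Localization.AtPrime p) (Localization.AtPrime q),
      ← Ideal.map_map, Localization.AtPrime.map_eq_maximalIdeal, hw, Ideal.map_span,
      Set.image_singleton]
  have hwm : w' ∈ maximalIdeal (Localization.AtPrime q) := by
    intro hu
    have := hu.map εq
    rw [hsec] at this
    exact (show w ∈ maximalIdeal _ from hw ▸ Ideal.mem_span_singleton_self w) this
  have hlq : IsLocalRing (Localization.AtPrime q ⧸ Ideal.span {w'}) :=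
    GrothLib.RegLoc.isLocalRing_quotient ((Ideal.span_singleton_le_iff_mem _).mpr hwm)
  have hreg : IsRegularLocalRing (Localization.AtPrime q ⧸ Ideal.span {w'}) := by
    by_cases hw0 : w = 0
    · exact IsRegularLocalRing.of_ringEquiv ((RingEquiv.quotientBot _).symm.trans
        (Ideal.quotEquivOfEq (by simp [w', hw0])))
    refine (GrothLib.RegLoc.quotient_isRegularLocalRing hwm ?_).1
    intro h2
    have h3 : εq w' ∈ maximalIdeal (Localization.AtPrime p) ^ 2 := by
      refine (?_ : (maximalIdeal (Localization.AtPrime q) ^ 2).map εq ≤ _) (Ideal.mem_map_of_mem _ h2)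
      rw [Ideal.map_pow]
      exact Ideal.pow_right_mono (((local_hom_TFAE εq).out 0 2).mp hloc) 2
    rw [hsec, hw, Ideal.span_singleton_pow, Ideal.mem_span_singleton] at h3
    obtain ⟨c, hc⟩ := h3
    have : IsUnit w := IsUnit.of_mul_eq_one c (mul_left_cancel₀ hw0 (by linear_combination -hc))
    exact (show w ∈ maximalIdeal _ from hw ▸ Ideal.mem_span_singleton_self w) this
  -- transfer to the fibre
  have hq₀' : q₀.asIdeal.comap (Algebra.TensorProduct.includeRight
        (R := A) (A := p.ResidueField) (B := B)).toRingHom = q := hq₀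
  subst hq₀
  let e := (Ideal.Fiber.localizationAlgEquivQuotient p q₀.asIdeal).toRingEquiv.trans (Ideal.quotEquivOfEq hmap)
  have : IsRegularLocalRing (Localization.AtPrime q₀.asIdeal) :=
    IsRegularLocalRing.of_ringEquiv e.symm
  refine GrothLib.LocProp.isSmoothAt_of_flat_of_fibre p q₀.asIdeal ?_ (Module.Flat.trans A B _)
  have := formallySmooth_residueField (k := p.ResidueField)
    (L := Localization.AtPrime q₀.asIdeal) fun z ↦ by
      obtain ⟨l, hl⟩ := Ideal.Quotient.mk_surjective (e z)
      refine ⟨residue _ (εq l), ?_⟩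
      have hker : l - algebraMap (Localization.AtPrime p) _ (εq l) ∈ maximalIdeal _ := by
        intro hu
        have := hu.map εq
        rw [map_sub, hsec, sub_self] at this
        exact not_isUnit_zero this
      have he : e (z - algebraMap p.ResidueField _ (residue _ (εq l))) =
          Ideal.Quotient.mk _ (l - algebraMap (Localization.AtPrime p) _ (εq l)) := by
        rw [map_sub, map_sub, hl]
        congr 1
        rw [← IsLocalRing.ResidueField.algebraMap_eq,
          ← IsScalarTower.algebraMap_apply (Localization.AtPrime p) p.ResidueField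
            (Localization.AtPrime q₀.asIdeal)]
        simp [e]
        rfl
      intro hu
      have h1 := hu.map e
      rw [he] at h1
      have hq : IsLocalHom (Ideal.Quotient.mk (Ideal.span {w'})) :=
        IsLocalHom.of_surjective _ Ideal.Quotient.mk_surjective
      exact (map_nonunit (Ideal.Quotient.mk (Ideal.span {w'})) _ hker) h1
  exact GrothLib.LocProp.isSmoothAt_of_isRegularLocalRing q₀.asIdeal

end Groth.Agent.S11100

namespace Groth.Agent.S11100

/-- Let R be a Dedekind domain and p : X → Spec R flat and locally of finite presentation with X regular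
(all local rings regular). Then every section s of p factors through the smooth locus of p: for
every point t of Spec R, p is smooth at s(t). (The published statement is for regular arithmetic
surfaces over a Dedekind domain with perfect residue fields; this row assumes only that X is flat,
locally of finite presentation and regular.) -/
theorem result {R : Type u} [CommRing R] [IsDedekindDomain R]
    {X : Scheme.{u}} (p : X ⟶ Spec (CommRingCat.of R)) [Flat p] [LocallyOfFinitePresentation p]
    (hreg : ∀ x : X, IsRegularLocalRing (X.presheaf.stalk x))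
    (s : Spec (CommRingCat.of R) ⟶ X) (hs : s ≫ p = 𝟙 _) (t : Spec (CommRingCat.of R)) :
    s.base t ∈ p.smoothLocus := by
  have hU := isAffineOpen_top (Spec (CommRingCat.of R))
  obtain ⟨_, ⟨V, hV, rfl⟩, hxV, -⟩ :=
    X.isBasis_affineOpens.exists_subset_of_mem_open (Set.mem_univ (s.base t)) isOpen_univ
  have e : V ≤ p ⁻¹ᵁ ⊤ := le_top
  rw [Scheme.Hom.mem_smoothLocus, formallySmooth_stalkMap_iff ⊤ hU V hV e hxV]
  algebraize [(p.appLE ⊤ V e).hom]
  have : Algebra.FinitePresentation Γ(Spec (CommRingCat.of R), ⊤) Γ(X, V) :=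
    p.finitePresentation_appLE hU hV e
  have hfl : Module.Flat Γ(Spec (CommRingCat.of R), ⊤) Γ(X, V) := p.flat_appLE hU hV e
  have hpx : p.base (s.base t) = t := by
    rw [← Scheme.Hom.comp_apply, hs]
    rfl
  let P := hU.primeIdealOf ⟨t, trivial⟩
  let q := hV.primeIdealOf ⟨s.base t, hxV⟩
  have : q.asIdeal.LiesOver P.asIdeal := ⟨by
    have := congr($(IsAffineOpen.comap_primeIdealOf_appLE ⊤ hU V hV e hxV).1)
    rw [show P = hU.primeIdealOf ⟨p.base (s.base t), e hxV⟩ from by simp only [P, hpx]]
    exact this.symm⟩
  -- the local ring at the point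
  have : IsRegularLocalRing (Localization.AtPrime q.asIdeal) :=
    let _ := TopCat.Presheaf.algebra_section_stalk X.presheaf ⟨s.base t, hxV⟩
    have := hV.isLocalization_stalk ⟨s.base t, hxV⟩
    have := hreg (s.base t)
    IsRegularLocalRing.of_ringEquiv (IsLocalization.algEquiv q.asIdeal.primeCompl
      (X.presheaf.stalk (s.base t)) (Localization.AtPrime q.asIdeal)).toRingEquiv
  -- the local ring of the base
  let _ := TopCat.Presheaf.algebra_section_stalk (Spec (CommRingCat.of R)).presheaf
    (U := (⊤ : (Spec (CommRingCat.of R)).Opens)) ⟨t, trivial⟩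
  have hlocT := hU.isLocalization_stalk ⟨t, trivial⟩
  let eT := IsLocalization.algEquiv P.asIdeal.primeCompl
    ((Spec (CommRingCat.of R)).presheaf.stalk t) (Localization.AtPrime P.asIdeal)
  let eR : Localization.AtPrime t.asIdeal ≃+* Localization.AtPrime P.asIdeal :=
    (IsLocalization.algEquiv t.asIdeal.primeCompl (Localization.AtPrime t.asIdeal)
      ((Spec.structureSheaf R).presheaf.stalk t)).toRingEquiv.trans eT.toRingEquiv
  have : IsDomain (Localization.AtPrime P.asIdeal) := (eR.symm.injective : Function.Injective eR.symm.toRingHom).isDomain eR.symm.toRingHom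
  have : IsPrincipalIdealRing (Localization.AtPrime t.asIdeal) := by
    refine IsPrincipalIdealRing.of_finite_maximals ?_
    exact (Set.finite_singleton (IsLocalRing.maximalIdeal _)).subset fun I hI ↦
      (IsLocalRing.eq_maximalIdeal hI)
  have : IsPrincipalIdealRing (Localization.AtPrime P.asIdeal) :=
    IsPrincipalIdealRing.of_surjective eR.toRingHom eR.surjective
  let σ := X.presheaf.germ V (s.base t) hxV ≫ s.stalkMap t
  refine isSmoothAt_of_section P.asIdeal q.asIdeal hfl (eT.toRingEquiv.toRingHom.comp σ.hom) ?_ ?_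
  · intro a
    refine Eq.trans ?_ (eT.commutes a)
    refine congrArg eT ?_
    show (p.appLE ⊤ V e ≫ σ).hom a = ((Spec (CommRingCat.of R)).presheaf.germ ⊤ t trivial).hom a
    refine ConcreteCategory.congr_hom (?_ : p.appLE ⊤ V e ≫ σ = _) a
    show p.appLE ⊤ V e ≫ X.presheaf.germ V (s.base t) hxV ≫ s.stalkMap t = _
    rw [Scheme.Hom.germ_stalkMap, ← Scheme.Hom.appLE_eq_app, Scheme.Hom.appLE_comp_appLE_assoc,
      appLE_germ_of_eq_id (s ≫ p) hs]
  · ext b
    show eT (σ.hom b) ∈ IsLocalRing.maximalIdeal _ ↔ _
    rw [IsLocalRing.mem_maximalIdeal, mem_nonunits_iff, isUnit_map_iff eT]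
    show ¬ IsUnit ((s.stalkMap t).hom ((X.presheaf.germ V _ hxV).hom b)) ↔ _
    rw [isUnit_map_iff]
    let _ := TopCat.Presheaf.algebra_section_stalk X.presheaf ⟨s.base t, hxV⟩
    have := hV.isLocalization_stalk ⟨s.base t, hxV⟩
    exact IsLocalization.AtPrime.to_map_mem_maximal_iff (X.presheaf.stalk (s.base t)) q.asIdeal b

end Groth.Agent.S11100
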