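import Groth.Statements.S11103
-- import your own Groth.Agent.* helpers here
import Groth.Agent.Lib.SchDense.Basic
import Groth.Agent.Lib.SchDense.FracSquare
import Mathlib.AlgebraicGeometry.Morphisms.Etale
import Mathlib.RingTheory.IntegralClosure.IntegralRestrict
import Mathlib.AlgebraicGeometry.Restrict
import Mathlib.RingTheory.Flat.TorsionFree

set_option autoImplicit false
set_option maxHeartbeats 400000
universe u
open CategoryTheory CategoryTheory.Limits AlgebraicGeometry
open Neron

namespace Groth.Agent.S11103

/-- Let R be a Dedekind domain with fraction field K, let R' be a Dedekind domain finite étale over R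
(the integral closure of R in a finite unramified extension K' of K), and let N be a Néron model
over Spec R of its generic fibre N_K. Then the base change N' = N ×_R R' is a Néron model over Spec
R' of its generic fibre N'_{K'}: it is smooth, separated and of finite type over Spec R', and every
K'-morphism from the generic fibre of a smooth R'-scheme to N'_{K'} extends uniquely to an
R'-morphism into N'. (The published statement concerns the Néron model of an elliptic curve with the
mapping property for rational maps; this row allows any N and tests the mapping property on
morphisms from smooth schemes. The property generally fails for ramified extensions.) -/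
theorem result (R R' : Type u) [CommRing R] [IsDedekindDomain R]
    [CommRing R'] [IsDedekindDomain R'] [Algebra R R'] [Module.Finite R R'] [Algebra.Etale R R']
    (N : Over (Spec (CommRingCat.of R)))
    (hN : Neron.IsNeronModelOf R N ((Neron.genericFibre R).obj N) (Iso.refl _)) :
    Neron.IsNeronModelOf R'
      ((Over.pullback (Spec.map (CommRingCat.ofHom (algebraMap R R')))).obj N)
      ((Neron.genericFibre R').obj ((Over.pullback (Spec.map (CommRingCat.ofHom (algebraMap R R')))).obj N))
      (Iso.refl _) := by
  obtain ⟨h1, h2, h3, h4, h5⟩ := hN
  haveI := h1; haveI := h2; haveI := h3; haveI := h4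
  let g := Spec.map (CommRingCat.ofHom (algebraMap R R'))
  haveI : Etale g := (HasRingHomProperty.Spec_iff (P := @Etale)).mpr (RingHom.etale_algebraMap.mpr inferInstance)
  haveI : Smooth g := inferInstance
  haveI : Module.Flat R R' := inferInstance
  have hinj : Function.Injective (algebraMap R R') := fun a b hab => by
    haveI : Module.IsTorsionFree R R' := inferInstance
    by_contra hne
    exact one_ne_zero ((smul_eq_zero.mp (show (a - b) • (1 : R') = 0 by
      rw [Algebra.smul_def, map_sub, hab, sub_self, zero_mul])).resolve_left (sub_ne_zero.mpr hne))
  haveI : FaithfulSMul R R' := (faithfulSMul_iff_algebraMap_injective R R').mpr hinj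
  have hinj' : Function.Injective ((algebraMap R' (FractionRing R')).comp (algebraMap R R')) :=
    (IsFractionRing.injective R' (FractionRing R')).comp hinj
  have hloc : IsLocalization ((nonZeroDivisors R).map (algebraMap R R')) (FractionRing R') := by
    haveI : Algebra.IsIntegral R R' := inferInstance
    haveI : FaithfulSMul R (FractionRing R') := (faithfulSMul_iff_algebraMap_injective R _).mpr (by
      rw [IsScalarTower.algebraMap_eq R R' (FractionRing R')]; exact hinj')
    letI := FractionRing.liftAlgebra R (FractionRing R')
    haveI : Algebra.IsAlgebraic (FractionRing R) (FractionRing R') := isAlgebraic_of_isFractionRing R R' ..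
    haveI : IsIntegralClosure R' R (FractionRing R') := IsIntegralClosure.of_isIntegrallyClosed _ _ _
    exact IsIntegralClosure.isLocalization R (FractionRing R) (FractionRing R') R'
  have sq : IsPullback (Neron.genPt R')
      (Spec.map (CommRingCat.ofHom (IsFractionRing.lift hinj' : FractionRing R →+* FractionRing R')))
      g (Neron.genPt R) :=
    GrothLib.SchDense.isPullback_fractionRing (R := R) (R' := R') (K := FractionRing R) (K' := FractionRing R')
      (algebraMap R R') (IsFractionRing.lift hinj') (fun r => IsFractionRing.lift_algebraMap hinj' r) (nonZeroDivisors R)
  refine ⟨inferInstanceAs (Smooth (Limits.pullback.snd N.hom g)), inferInstanceAs (IsSeparated (Limits.pullback.snd N.hom g)),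
    inferInstanceAs (LocallyOfFiniteType (Limits.pullback.snd N.hom g)),
    inferInstanceAs (QuasiCompact (Limits.pullback.snd N.hom g)), fun Y' hY' => ?_⟩
  have h := h5 (Over.mk (Y'.hom ≫ g)) (inferInstanceAs (Smooth (Y'.hom ≫ g)))
  simp only [Iso.refl_hom, Category.comp_id] at h ⊢
  exact ⟨GrothLib.SchDense.injective_baseChange sq h.1, GrothLib.SchDense.surjective_baseChange sq h.2⟩

end Groth.Agent.S11103
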