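import Groth.Statements.S11104
-- import your own Groth.Agent.* helpers here
import Mathlib
import Groth.Agent.Lib.AbMul.WeierstrassRegular

set_option autoImplicit false
universe u
open Neron

namespace Groth.Agent.S11104

theorem not_singular {K : Type u} [CommRing K] (a₁ a₂ a₃ a₄ a₆ x y : K)
    (hΔ : (⟨a₁, a₂, a₃, a₄, a₆⟩ : WeierstrassCurve K).Δ ≠ 0)
    (h : y ^ 2 + a₁ * x * y + a₃ * y - (x ^ 3 + a₂ * x ^ 2 + a₄ * x + a₆) = 0)
    (hX : a₁ * y - (3 * x ^ 2 + 2 * a₂ * x + a₄) = 0) (hY : 2 * y + a₁ * x + a₃ = 0) : False := by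
  have := ((⟨a₁, a₂, a₃, a₄, a₆⟩ : WeierstrassCurve K).toAffine.equation_iff_nonsingular_of_Δ_ne_zero
    (x := x) (y := y) hΔ).mp ((WeierstrassCurve.Affine.equation_iff' _ _).mpr h)
  rw [WeierstrassCurve.Affine.nonsingular_iff'] at this
  exact this.2.elim (· hX) (· hY)

/-- Let R be a discrete valuation ring with maximal ideal m and y² + a₁xy + a₃y = x³ + a₂x² + a₄x + a₆ a
Weierstrass equation over R with nonzero discriminant (an elliptic curve over the fraction field)
such that a₃, a₄, a₆ ∈ m and a₆ ∉ m². Then the affine scheme over R defined by the equation is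
regular: every localization of its coordinate ring at a prime ideal is a regular local ring. (The
published statement asserts regularity of the projective Weierstrass scheme in P²_R; this row states
it for the affine part.) -/
theorem result (R : Type u) [CommRing R] [IsDomain R]
    [IsDiscreteValuationRing R] (W : WeierstrassCurve.Affine R) (hΔ : W.Δ ≠ 0)
    (h3 : W.a₃ ∈ IsLocalRing.maximalIdeal R) (h4 : W.a₄ ∈ IsLocalRing.maximalIdeal R)
    (h6 : W.a₆ ∈ IsLocalRing.maximalIdeal R) (h6' : W.a₆ ∉ IsLocalRing.maximalIdeal R ^ 2)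
    (P : Ideal W.CoordinateRing) [P.IsPrime] :
    IsRegularLocalRing (Localization.AtPrime P) := by
  refine GrothLib.AbMul.isRegularLocalRing_hypersurface (WeierstrassCurve.Affine.CoordinateRing.mk W)
    AdjoinRoot.mk_surjective W.polynomial (Ideal.mk_ker) P ?_
  set M := P.comap (WeierstrassCurve.Affine.CoordinateRing.mk W)
  intro s hs hsf
  let q := Ideal.Quotient.mk M
  have hq : q s ≠ 0 := by simpa [q, Ideal.Quotient.eq_zero_iff_mem] using hs
  have : M.IsPrime := inferInstanceAs (P.comap _).IsPrime
  have : IsDomain (Polynomial (Polynomial R) ⧸ M) := Ideal.Quotient.isDomain M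
  obtain ⟨hX, hY⟩ := GrothLib.AbMul.derivatives_eq_zero W (K := Polynomial (Polynomial R) ⧸ M) q s hq (by rw [Ideal.mk_ker]; exact hsf)
  have hpoly : W.polynomial ∈ M := by
    show WeierstrassCurve.Affine.CoordinateRing.mk W W.polynomial ∈ P
    simp
  let a := q.comp (Polynomial.C.comp Polynomial.C)
  have heq : (W.map a).toAffine.Equation (q (Polynomial.C Polynomial.X)) (q Polynomial.X) := by
    rw [WeierstrassCurve.Affine.equation_iff']
    have := Ideal.Quotient.eq_zero_iff_mem.mpr hpoly
    simpa [WeierstrassCurve.Affine.polynomial, map_add, map_sub, map_mul, map_pow, a, q,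
      add_mul, add_assoc] using! this
  rw [WeierstrassCurve.Affine.equation_iff'] at heq
  have ham (r : R) : a r = q (Polynomial.C (Polynomial.C r)) := rfl
  by_cases hker : IsLocalRing.maximalIdeal R ≤ RingHom.ker a
  · have hz : ∀ r ∈ IsLocalRing.maximalIdeal R, a r = 0 := fun r hr ↦ hker hr
    simp only [WeierstrassCurve.map_a₁, WeierstrassCurve.map_a₂, WeierstrassCurve.map_a₃,
      WeierstrassCurve.map_a₄, WeierstrassCurve.map_a₆, hz _ h3, hz _ h4, hz _ h6] at heq
    simp only [← ham, hz _ h3, hz _ h4] at hX hY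
    set x := q (Polynomial.C Polynomial.X)
    set y := q Polynomial.X
    have hx : x = 0 := by
      refine eq_zero_of_pow_eq_zero (n := 3) ?_
      linear_combination (-x) * hX - y * hY + 2 * heq
    have hy : y = 0 := by
      refine eq_zero_of_pow_eq_zero (n := 2) ?_
      rw [hx] at heq
      linear_combination heq
    exact GrothLib.AbMul.saturation_origin W h6' M
      (fun r hr ↦ Ideal.Quotient.eq_zero_iff_mem.mp (hz r hr))
      (Ideal.Quotient.eq_zero_iff_mem.mp hx) (Ideal.Quotient.eq_zero_iff_mem.mp hy) s hs hsf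
  · have hinj : Function.Injective a := by
      rw [RingHom.injective_iff_ker_eq_bot]
      by_contra h0
      have : (RingHom.ker a).IsPrime := RingHom.ker_isPrime a
      exact hker (IsLocalRing.eq_maximalIdeal
        (Ideal.IsPrime.isMaximal inferInstance h0)).ge
    have key := not_singular (a W.a₁) (a W.a₂) (a W.a₃) (a W.a₄) (a W.a₆)
      (q (Polynomial.C Polynomial.X)) (q Polynomial.X)
    refine key ?_ (by simpa using heq) (by simpa [ham] using hX) (by simpa [ham] using hY)
    show (WeierstrassCurve.map W a).Δ ≠ (0 : Polynomial (Polynomial R) ⧸ M)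
    rw [WeierstrassCurve.map_Δ, map_ne_zero_iff _ hinj]
    exact hΔ

end Groth.Agent.S11104
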