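import Groth.Statements.S11108
-- import your own Groth.Agent.* helpers here
import Groth.Agent.Lib.Hensel.SmoothLift
import Mathlib

set_option autoImplicit false
universe u
open CategoryTheory AlgebraicGeometry
open Neron

namespace Groth.Agent.S11108

/-- Let R be a strictly Henselian discrete valuation ring — Henselian with algebraically closed residue
field — and p : X → Spec R a smooth morphism. Then the image of the reduction map from R-valued
points of X to the special fibre is dense in the special fibre: every point of X over the closed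
point of Spec R lies in the closure of the set of points s(𝔪), s a section of p and 𝔪 the closed
point. -/
theorem result (R : Type u) [CommRing R] [IsDomain R]
    [IsDiscreteValuationRing R] [HenselianLocalRing R] [IsAlgClosed (IsLocalRing.ResidueField R)]
    {X : Scheme.{u}} (p : X ⟶ Spec (CommRingCat.of R)) [Smooth p]
    (x : X) (hx : p.base x = IsLocalRing.closedPoint R) :
    x ∈ closure {y : X | ∃ s : Spec (CommRingCat.of R) ⟶ X, s ≫ p = 𝟙 _ ∧
      s.base (IsLocalRing.closedPoint R) = y} := by
  open CategoryTheory.Limits in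
  rw [mem_closure_iff]
  intro W hW hxW
  let res : CommRingCat.of R ⟶ CommRingCat.of (IsLocalRing.ResidueField R) := CommRingCat.ofHom (IsLocalRing.residue R)
  let Xk := pullback p (Spec.map res)
  let π : Xk ⟶ X := pullback.fst p (Spec.map res)
  let q : Xk ⟶ Spec (CommRingCat.of (IsLocalRing.ResidueField R)) := pullback.snd p (Spec.map res)
  have hcl : ∀ o, Spec.map res o = IsLocalRing.closedPoint R := fun o =>
    IsLocalRing.comap_closedPoint (IsLocalRing.residue R) ▸ congrArg _ (Subsingleton.elim o (IsLocalRing.closedPoint (IsLocalRing.ResidueField R)))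
  obtain ⟨z, hz, -⟩ := Scheme.Pullback.exists_preimage_pullback (f := p) (g := Spec.map res) x
    (IsLocalRing.closedPoint (IsLocalRing.ResidueField R)) (hx.trans (hcl _).symm)
  have : LocallyOfFiniteType q := inferInstanceAs (LocallyOfFiniteType (pullback.snd p (Spec.map res)))
  have : JacobsonSpace Xk := LocallyOfFiniteType.jacobsonSpace (Y := Spec _) q
  obtain ⟨c, hcW, hc⟩ := nonempty_inter_closedPoints (X := Xk) (Z := π.base ⁻¹' W)
    ⟨z, show π z ∈ W by rw [hz]; exact hxW⟩ (hW.preimage π.continuous).isLocallyClosed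
  let σ : Spec (CommRingCat.of (IsLocalRing.ResidueField R)) ⟶ X := pointOfClosedPoint q c hc ≫ π
  have hσp : σ ≫ p = Spec.map res := by
    simp only [σ, π, q, Category.assoc, pullback.condition]
    rw [← Category.assoc, pointOfClosedPoint_comp, Category.id_comp]
  have hσW : σ (IsLocalRing.closedPoint _) ∈ W := by
    simp only [σ, Scheme.Hom.comp_apply, pointOfClosedPoint_apply]
    exact hcW
  obtain ⟨_, ⟨(V : X.Opens), hV, rfl⟩, hσV, hVW⟩ :=
    X.isBasis_affineOpens.exists_subset_of_mem_open hσW hW
  haveI : IsAffine V := hV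
  let l := IsOpenImmersion.lift V.ι σ (by
    rintro _ ⟨o, rfl⟩
    rw [Scheme.Opens.range_ι, Subsingleton.elim o (IsLocalRing.closedPoint _)]
    exact hσV)
  obtain ⟨s, hs⟩ := Spec.map_surjective (l ≫ hV.isoSpec.hom)
  obtain ⟨f, hf⟩ := Spec.map_surjective (hV.fromSpec ≫ p)
  have hl : l ≫ V.ι = σ := IsOpenImmersion.lift_fac _ _ _
  have hVι : hV.isoSpec.hom ≫ hV.fromSpec = V.ι := by
    rw [← IsAffineOpen.isoSpec_inv_ι, Iso.hom_inv_id_assoc]
  have hfs : f ≫ s = res := Spec.map_injective (by
    rw [Spec.map_comp, hs, hf, Category.assoc, reassoc_of% hVι, reassoc_of% hl, hσp])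
  haveI : Smooth (Spec.map f) := by rw [hf]; infer_instance
  letI := f.hom.toAlgebra
  haveI : Algebra.Smooth R Γ(X, V) := RingHom.smooth_algebraMap.mp ((HasRingHomProperty.Spec_iff (P := @Smooth)).mp ‹_›)
  let σ' : Γ(X, V) →ₐ[R] R ⧸ IsLocalRing.maximalIdeal R :=
    { toRingHom := s.hom, commutes' := fun r => congrArg (fun t => t r) hfs }
  obtain ⟨τ, hτ⟩ := GrothLib.Hensel.exists_algHom_lift_of_smooth σ'
  refine ⟨(Spec.map (CommRingCat.ofHom τ.toRingHom) ≫ hV.fromSpec) (IsLocalRing.closedPoint R), ?_,
    Spec.map (CommRingCat.ofHom τ.toRingHom) ≫ hV.fromSpec, ?_, rfl⟩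
  · refine hVW ?_
    have := hV.range_fromSpec
    exact this.le ⟨_, rfl⟩
  · rw [Category.assoc, ← hf, ← Spec.map_comp, ← Spec.map_id]
    exact congrArg Spec.map (CommRingCat.hom_ext τ.comp_algebraMap)

end Groth.Agent.S11108
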