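import Groth.Statements.S11115
import Groth.Agent.Lib.OX.RpushQCoh

set_option autoImplicit false
universe u
open CategoryTheory CategoryTheory.Limits AlgebraicGeometry
attribute [local instance] HasDerivedCategory.standard
open Perf

namespace Groth.Agent.S11115

/-- Let f : X ⟶ Y be a quasi-compact quasi-separated morphism of schemes and assume the unbounded
derived direct image Rf_* exists. If F in D(O_X) has cohomology sheaves vanishing below degree n,
then so has Rf_* F. (The published statement restricts F to complexes with quasi-coherent
cohomology; this row allows any F.) -/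
theorem result {X Y : Scheme.{u}} (f : X ⟶ Y) [QuasiCompact f] [QuasiSeparated f] [DCoh.HasRpush f]
    (F : DCoh.D X) (n : ℤ) [F.IsGE n] : ((DCoh.Rpush f).obj F).IsGE n := by
  have h := @GrothLib.SiteDer.isGE_Rres _ _ _ _ _ _ _ _ (GrothLib.OX.rmor f) F n ‹DerivedCategory.IsGE F n›
  exact (DerivedCategory.isGE_iff _ _).2 fun q hq => Limits.IsZero.of_iso
    (@DerivedCategory.isZero_of_isGE _ _ _ _ ((GrothLib.SiteDer.Rres (GrothLib.OX.rmor f)).obj F) n q hq h)
    ((DerivedCategory.homologyFunctor Y.Modules q).mapIso ((GrothLib.OX.rpushIsoRres f).app F))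

end Groth.Agent.S11115
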