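import Groth.Statements.S11122
import Groth.Agent.S7240
import Groth.Agent.S1119
import Groth.Agent.Lib.OX.GeneratorBound
import Groth.Agent.Lib.OX.HomVanish
import Groth.Agent.Lib.KSix19.TorAmp
-- import your own Groth.Agent.* helpers here

set_option autoImplicit false
universe u
open CategoryTheory CategoryTheory.Limits AlgebraicGeometry
attribute [local instance] HasDerivedCategory.standard
open Perf

namespace Groth.Agent.S11122

/-- Let f : X ⟶ Y be a quasi-compact quasi-separated morphism of schemes with Y quasi-compact, and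
assume the unbounded derived direct image Rf_* exists. Suppose there is an integer k such that for
every integer n and every object F of D(O_X) with bounded cohomology that is n-pseudo-coherent, Rf_*
F is (n + k)-pseudo-coherent. Then for every object F of D(O_X) that is n-pseudo-coherent for all n
(no boundedness assumed), Rf_* F is n-pseudo-coherent for all n. (The published statement obtains
the bound for proper pseudo-coherent f from a cited finiteness theorem; this row assumes the bound.) -/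
theorem result {X Y : Scheme.{u}} (f : X ⟶ Y) [QuasiCompact f]
    [QuasiSeparated f] [CompactSpace Y] [DCoh.HasRpush f] (k : ℤ)
    (hK : ∀ (F : DCoh.D X) (n a b : ℤ), F.IsGE a → F.IsLE b → DCoh.IsPseudoCoherentD n F →
      DCoh.IsPseudoCoherentD (n + k) ((DCoh.Rpush f).obj F))
    (F : DCoh.D X) (hF : ∀ m : ℤ, DCoh.IsPseudoCoherentD m F) (m : ℤ) :
    DCoh.IsPseudoCoherentD m ((DCoh.Rpush f).obj F) := by
  classical
  haveI : CompactSpace X := QuasiCompact.compactSpace_of_compactSpace f
  obtain ⟨N, hN⟩ := Groth.Agent.S1119.exists_bound_rres f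
  have hFq : DCoh.IsQCohD F := fun i => (Groth.Agent.S7240.result (i - 1) F (hF _)).1 i (by omega)
  have hloc : ∀ x : X, ∃ (V : X.Opens) (b : ℤ), x ∈ V ∧ ∀ i, b < i → IsZero ((DerivedCategory.homologyFunctor _ i).obj
      ((GrothLib.OX.resD V.ι).obj F)) := fun x => by
    obtain ⟨U, j, hj, hx, hU⟩ := GrothLib.OX.isPseudoCoherentD_iff.1 (hF 0) x
    obtain ⟨b, hb⟩ := GrothLib.OX.exists_isLE_of_approx hU
    refine ⟨j.opensRange, b, hx, fun i hi => ?_⟩
    obtain ⟨c⟩ := GrothLib.OX.nonempty_resD_comp j.isoOpensRange.inv j F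
    obtain ⟨c'⟩ := GrothLib.OX.nonempty_resD_congr (show j.isoOpensRange.inv ≫ j = j.opensRange.ι by
      rw [Iso.inv_comp_eq, Scheme.Hom.isoOpensRange_hom_ι]) F
    refine (GrothLib.OX.isZero_HD_resD j.isoOpensRange.inv (C := (GrothLib.OX.resD j).obj F) (i := i)
      (DerivedCategory.isZero_of_isLE _ b i hi)).of_iso ?_
    exact (DerivedCategory.homologyFunctor _ i).mapIso (c'.symm ≪≫ c)
  choose V b hx hb using hloc
  obtain ⟨t, ht⟩ := isCompact_univ.elim_finite_subcover (fun x => (V x : Set X)) (fun x => (V x).isOpen)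
    fun y _ => Set.mem_iUnion.2 ⟨y, hx y⟩
  obtain ⟨B, hB⟩ := (t.finite_toSet.image b).bddAbove
  have hFB : F.IsLE B := (DerivedCategory.isLE_iff _ _).2 fun i hi => GrothLib.OX.isZero_of_local fun y => by
    obtain ⟨k, hk, hy⟩ := Set.mem_iUnion₂.1 (ht (Set.mem_univ y))
    refine ⟨_, (V k).ι, inferInstance, ⟨⟨y, hy⟩, rfl⟩, (hb k i ?_).of_iso (GrothLib.OX.HDResIso (V k).ι F i).symm⟩
    have := hB ⟨k, hk, rfl⟩
    omega
  let a : ℤ := min (m - k - 1) (m - N)
  let t₀ : CategoryTheory.Triangulated.TStructure (DCoh.D X) := DerivedCategory.TStructure.t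
  let A := (t₀.truncLT a).obj F
  let C := (t₀.truncGE a).obj F
  have hT := t₀.triangleLTGE_distinguished a F
  haveI hA : A.IsLE (a - 1) := inferInstanceAs (t₀.IsLE ((t₀.truncLT a).obj F) (a - 1))
  haveI hCge : C.IsGE a := inferInstanceAs (t₀.IsGE ((t₀.truncGE a).obj F) a)
  have hAle : ∀ n, a ≤ n → DCoh.IsPseudoCoherentD n A := fun n hn => by
    have hle : A.IsLE (n - 1) := t₀.isLE_of_le A (a - 1) (n - 1) (by omega)
    exact GrothLib.OX.isPseudoCoherentD_iff.2 fun x => ⟨_, (⊤ : X.Opens).ι, inferInstance, ⟨⟨x, trivial⟩, rfl⟩,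
      GrothLib.OX.Approx.restrict (GrothLib.OX.approx_of_isLE hle) _⟩
  have hC : DCoh.IsPseudoCoherentD (m - k) C :=
    (GrothLib.OX.isPseudoCoherentD_triangle (m - k) hT).1 (hAle _ (by omega)) (hF _)
  have hCle : C.IsLE B := inferInstanceAs (t₀.IsLE ((t₀.truncGE a).obj F) B)
  let R := GrothLib.SiteDer.Rres (GrothLib.OX.rmor f)
  haveI : R.IsTriangulated := GrothLib.SiteDer.isTriangulated_res_map (GrothLib.OX.rmor f).push
  let rr := GrothLib.OX.rpushIsoRres f
  have h₃ : DCoh.IsPseudoCoherentD m (R.obj C) := by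
    have := hK C (m - k) a B hCge hCle hC
    rw [show m - k + k = m by omega] at this
    exact GrothLib.OX.isPseudoCoherentD_of_iso this (rr.app C)
  have h₁ : DCoh.IsPseudoCoherentD m (R.obj A) := by
    have h1 := hN A (a - 1) (GrothLib.OX.isQCohD_truncLT hFq a) hA
    haveI := h1
    have h2 : (R.obj A).IsLE (m - 1) :=
      DerivedCategory.TStructure.t.isLE_of_le _ (a - 1 + N) (m - 1) (by omega)
    exact GrothLib.OX.isPseudoCoherentD_iff.2 fun x => ⟨_, (⊤ : Y.Opens).ι, inferInstance, ⟨⟨x, trivial⟩, rfl⟩,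
      GrothLib.OX.Approx.restrict (GrothLib.OX.approx_of_isLE h2) _⟩
  exact GrothLib.OX.isPseudoCoherentD_of_iso
    ((GrothLib.OX.isPseudoCoherentD_triangle m (R.map_distinguished _ hT)).2.1 h₁ h₃) (rr.app F).symm

end Groth.Agent.S11122
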