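import Groth.Statements.S11125
import Mathlib.Algebra.Homology.Double
import Mathlib.Algebra.Homology.ModelCategory.Lifting

set_option autoImplicit false
universe v u
open CategoryTheory CategoryTheory.Limits ZeroObject
open CohDer

namespace Groth.Agent.S11125

variable {A : Type u} [Category.{v} A] [Abelian A]

noncomputable abbrev disk (X : A) (n : ℤ) : CochainComplex A ℤ :=
  HomologicalComplex.double (𝟙 X) (show (ComplexShape.up ℤ).Rel n (n + 1) from rfl)

noncomputable abbrev iso₀ (X : A) (n : ℤ) : (disk X n).X n ≅ X :=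
  HomologicalComplex.doubleXIso₀ (𝟙 X) (show (ComplexShape.up ℤ).Rel n (n + 1) from rfl)

noncomputable abbrev iso₁ (X : A) (n : ℤ) : (disk X n).X (n + 1) ≅ X :=
  HomologicalComplex.doubleXIso₁ (𝟙 X) (show (ComplexShape.up ℤ).Rel n (n + 1) from rfl)
    (by omega)

lemma acyclic_disk (X : A) (n : ℤ) : (disk X n).Acyclic := by
  intro k
  have hne : n ≠ n + 1 := by omega
  have hd : IsIso ((disk X n).d n (n + 1)) := by
    rw [HomologicalComplex.double_d _ _ hne]
    infer_instance
  rw [HomologicalComplex.exactAt_iff' _ (k - 1) k (k + 1) (by simp) (by simp)]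
  by_cases h₀ : k = n
  · subst h₀
    have hz := HomologicalComplex.double_d_eq_zero₁ (𝟙 X)
      (show (ComplexShape.up ℤ).Rel k (k + 1) from rfl) (k - 1) k (by omega)
    exact (ShortComplex.exact_iff_mono _ hz).2 (show Mono ((disk X k).d k (k + 1)) by infer_instance)
  by_cases h₁ : k = n + 1
  · subst h₁
    have hz := HomologicalComplex.double_d_eq_zero₀ (𝟙 X)
      (show (ComplexShape.up ℤ).Rel n (n + 1) from rfl) (n + 1) (n + 1 + 1) (by omega)
    refine (ShortComplex.exact_iff_epi _ hz).2 ?_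
    show Epi ((disk X n).d (n + 1 - 1) (n + 1))
    rw [show n + 1 - 1 = n by omega]
    infer_instance
  · exact ShortComplex.exact_of_isZero_X₂ _ (HomologicalComplex.isZero_double_X (𝟙 X) (show (ComplexShape.up ℤ).Rel n (n + 1) from rfl) k h₀ h₁)

noncomputable def diskMap {X Y : A} (f : X ⟶ Y) (n : ℤ) : disk X n ⟶ disk Y n :=
  HomologicalComplex.mkHomFromDouble _ (by omega)
    (f ≫ (HomologicalComplex.doubleXIso₀ _ _).inv)
    (f ≫ (HomologicalComplex.doubleXIso₁ _ _ (by omega)).inv)
    (by rw [Category.assoc, HomologicalComplex.double_d _ _ (by omega : n ≠ n + 1)]; simp)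
    (fun k _ => by
      rw [Category.assoc, HomologicalComplex.double_d_eq_zero₀ _ _ _ _ (by omega : n + 1 ≠ n)]
      simp)

lemma diskMap_comp {X Y Z : A} (f : X ⟶ Y) (g : Y ⟶ Z) (n : ℤ) (h : f ≫ g = 0) :
    diskMap f n ≫ diskMap g n = 0 := by
  ext <;> simp [diskMap, reassoc_of% h]

lemma shortExact_disk (S : ShortComplex A) (hS : S.ShortExact) (n : ℤ) :
    (ShortComplex.mk (diskMap S.f n) (diskMap S.g n) (diskMap_comp _ _ n S.zero)).ShortExact := by
  have hne : n ≠ n + 1 := by omega
  refine HomologicalComplex.shortExact_of_degreewise_shortExact _ fun k => ?_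
  by_cases h₀ : k = n
  · subst h₀
    refine ShortComplex.shortExact_of_iso (ShortComplex.isoMk
      (iso₀ S.X₁ k).symm (iso₀ S.X₂ k).symm (iso₀ S.X₃ k).symm ?_ ?_) hS <;> simp [diskMap, iso₀, iso₁] <;> exact Iso.inv_hom_id_assoc _ _
  by_cases h₁ : k = n + 1
  · subst h₁
    refine ShortComplex.shortExact_of_iso (ShortComplex.isoMk
      (iso₁ S.X₁ n).symm (iso₁ S.X₂ n).symm (iso₁ S.X₃ n).symm ?_ ?_) hS <;> simp [diskMap, iso₀, iso₁] <;> exact Iso.inv_hom_id_assoc _ _
  have z := fun X : A => HomologicalComplex.isZero_double_X (𝟙 X)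
    (show (ComplexShape.up ℤ).Rel n (n + 1) from rfl) k h₀ h₁
  exact {
    exact := ShortComplex.exact_of_isZero_X₂ _ (z _)
    mono_f := ⟨fun _ _ _ => (z _).eq_of_tgt _ _⟩
    epi_g := ⟨fun _ _ _ => (z _).eq_of_src _ _⟩ }

theorem injective_of_lifting (I : CochainComplex A ℤ)
    (H : ∀ (S : ShortComplex (CochainComplex A ℤ)), S.ShortExact → S.X₃.Acyclic →
        ∀ φ : S.X₁ ⟶ I, ∃ ψ : S.X₂ ⟶ I, S.f ≫ ψ = φ) (n : ℤ) : Injective (I.X n) where
  factors {X Y} g f _ := by
    let φ : disk X n ⟶ I := HomologicalComplex.mkHomFromDouble _ (by omega) g (g ≫ I.d n (n + 1))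
      (by simp) (fun k _ => by simp)
    have hf : (ShortComplex.mk f (cokernel.π f) (cokernel.condition f)).ShortExact :=
      { exact := ShortComplex.exact_cokernel f }
    obtain ⟨ψ, hψ⟩ := H _ (shortExact_disk _ hf n) (acyclic_disk _ n) φ
    refine ⟨(iso₀ Y n).inv ≫ ψ.f n, ?_⟩
    have e := congrArg (fun t => (iso₀ X n).inv ≫ t)
      (HomologicalComplex.congr_hom hψ n)
    simpa [φ, diskMap] using e

theorem isKInjective_of_lifting (I : CochainComplex A ℤ)
    (H : ∀ (S : ShortComplex (CochainComplex A ℤ)), S.ShortExact → S.X₃.Acyclic →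
        ∀ φ : S.X₁ ⟶ I, ∃ ψ : S.X₂ ⟶ I, S.f ≫ ψ = φ) : I.IsKInjective where
  nonempty_homotopy_zero {K} f hK := by
    let i := CochainComplex.mappingCone.inr (𝟙 K)
    have : Mono i := by
      refine HomologicalComplex.mono_of_mono_f _ fun k => ?_
      exact (SplitMono.mk ((CochainComplex.mappingCone.snd (𝟙 K)).v k k (add_zero k))
        (CochainComplex.mappingCone.inr_f_snd_v _ k)).mono
    have hS : (ShortComplex.mk i (cokernel.π i) (cokernel.condition i)).ShortExact :=
      { exact := ShortComplex.exact_cokernel i }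
    have hC : (CochainComplex.mappingCone (𝟙 K)).Acyclic := fun k =>
      (HomologicalComplex.exactAt_iff_isZero_homology _ _).2 (by
        rw [IsZero.iff_id_eq_zero, ← HomologicalComplex.homologyMap_id,
          (CochainComplex.mappingCone.homotopyToZeroOfId K).homologyMap_eq,
          HomologicalComplex.homologyMap_zero])
    have hQ : (cokernel i).Acyclic := fun k =>
      (HomologicalComplex.exactAt_iff_isZero_homology _ _).2
        ((hS.homology_exact₃ k (k + 1) rfl).isZero_X₂
          ((hC k).isZero_homology.eq_of_src _ _) ((hK (k + 1)).isZero_homology.eq_of_tgt _ _))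
    obtain ⟨ψ, hψ⟩ := H _ hS hQ f
    exact ⟨(Homotopy.ofEq (show f = i ≫ 𝟙 _ ≫ ψ by simpa using hψ.symm)).trans
      ((((CochainComplex.mappingCone.homotopyToZeroOfId K).compRight ψ).compLeft i).trans
        (Homotopy.ofEq (by simp)))⟩


/-- In an abelian category, a cochain complex I is K-injective with injective terms if and only if for
every short exact sequence 0 → A → B → C → 0 of cochain complexes whose third term C is acyclic,
every chain map A → I extends to a chain map B → I. -/
theorem result {A : Type u} [Category.{v} A] [Abelian A]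
    (I : CochainComplex A ℤ) :
    (I.IsKInjective ∧ ∀ n : ℤ, Injective (I.X n)) ↔
      ∀ (S : ShortComplex (CochainComplex A ℤ)), S.ShortExact → S.X₃.Acyclic →
        ∀ φ : S.X₁ ⟶ I, ∃ ψ : S.X₂ ⟶ I, S.f ≫ ψ = φ := by
  refine ⟨fun ⟨_, hI⟩ S hS hC φ => ?_,
    fun H => ⟨isKInjective_of_lifting I H, injective_of_lifting I H⟩⟩
  have : Mono S.f := hS.mono_f
  have hI' : ∀ n, Injective (I.X n) := hI
  have : I.IsKInjective := ‹_›
  have sq : CommSq φ S.f (0 : I ⟶ (0 : CochainComplex A ℤ)) (0 : S.X₂ ⟶ 0) := ⟨by simp⟩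
  have hl : ∀ n, ∃ l : S.X₂.X n ⟶ I.X n, S.f.f n ≫ l = φ.f n := fun n =>
    (hI' n).factors (φ.f n) (S.f.f n)
  choose l hl using hl
  let hsq : ∀ n, (sq.map (HomologicalComplex.eval _ _ n)).LiftStruct := fun n =>
    { l := l n
      fac_left := hl n
      fac_right := ((HomologicalComplex.eval _ _ n).map_isZero (isZero_zero _)).eq_of_tgt _ _ }
  have hQ := hS.gIsCokernel
  let hK : IsLimit (KernelFork.ofι (𝟙 I) (show 𝟙 I ≫ (0 : I ⟶ (0 : CochainComplex A ℤ)) = 0 by simp)) :=
    KernelFork.IsLimit.ofId _ rfl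
  obtain ⟨α, hα⟩ := CochainComplex.IsKInjective.eq_δ_of_cocycle
    (CochainComplex.Lifting.cocycle₁ sq hsq hQ hK) hC 0 (by simp)
  have := CochainComplex.Lifting.hasLift sq hsq hQ hK α hα
  exact ⟨sq.lift, sq.fac_left⟩

end Groth.Agent.S11125
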