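import Groth.Statements.S11128
import Mathlib

set_option autoImplicit false
universe w u₁ u₂
open CategoryTheory CategoryTheory.Limits
open CohDer

namespace Groth.Agent.S11128

variable {A : Type u₁} [Category.{w} A] [Abelian A] {B : Type u₂} [Category.{w} B] [Abelian B]

lemma wellPowered_aux (F : A ⥤ B) [F.Additive] [F.Faithful] [PreservesFiniteLimits F]
    [WellPowered.{w} B] : WellPowered.{w} A := by
  refine ⟨fun X => ?_⟩
  refine small_of_injective
    (f := fun P : Subobject X => (Subobject.mk (F.map P.arrow) : Subobject (F.obj X))) ?_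
  have H : ∀ P P' : Subobject X, Subobject.mk (F.map P.arrow) ≤ Subobject.mk (F.map P'.arrow) →
      P ≤ P' := by
    intro P P' h
    have h0 : P.arrow ≫ cokernel.π P'.arrow = 0 := by
      apply F.map_injective
      rw [F.map_comp, F.map_zero, ← Subobject.ofMkLEMk_comp h, Category.assoc, ← F.map_comp,
        cokernel.condition, F.map_zero, comp_zero]
    exact Subobject.le_of_comm (Abelian.monoLift P'.arrow P.arrow h0) (Abelian.monoLift_comp _ _ _)
  intro P P' h
  exact le_antisymm (H P P' h.le) (H P' P h.ge)

variable [IsGrothendieckAbelian.{w} B]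

/-- the subobject generated by finitely many morphisms from the separator -/
noncomputable def span (U : B) (X : B) (s : Finset (U ⟶ X)) : Subobject X :=
  imageSubobject (Sigma.desc fun i : s => (i : U ⟶ X))

lemma span_mono (U : B) (X : B) : Monotone (span U X) := by
  intro s t hst
  have : (Sigma.desc fun i : s => (i : U ⟶ X)) =
      Sigma.desc (fun i : s => Sigma.ι (fun _ : t => U) ⟨i.1, hst i.2⟩) ≫
        Sigma.desc fun i : t => (i : U ⟶ X) := by
    ext i
    simp
  unfold span
  simp only [this]
  exact imageSubobject_comp_le _ _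

/-- the filtered diagram of finitely generated subobjects -/
noncomputable def spanFunctor (U : B) (X : B) : Finset (U ⟶ X) ⥤ MonoOver X :=
  (span_mono U X).functor ⋙ Subobject.representative

lemma exists_isColimit (U : B) (hU : IsSeparator U) (X : B) :
    ∃ c : Cocone (spanFunctor U X ⋙ MonoOver.forget _ ⋙ Over.forget _),
      Nonempty (IsColimit c) ∧ ∃ e : c.pt ⟶ X, IsIso e := by
  classical
  let K := spanFunctor U X ⋙ MonoOver.forget _ ⋙ Over.forget _
  let f : colimit K ⟶ X := colimit.desc K (Cocone.mk X
    { app j := ((spanFunctor U X).obj j).obj.hom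
      naturality {j j'} g := by simp [K, MonoOver.forget] })
  have : Mono f := IsGrothendieckAbelian.mono_of_isColimit_monoOver (spanFunctor U X)
    (colimit.isColimit K) f (fun j => colimit.ι_desc _ _)
  have : Epi f := by
    rw [Preadditive.epi_iff_cancel_zero]
    intro Y g hg
    refine hU.def g 0 fun u => ?_
    have h1 : ((spanFunctor U X).obj {u}).obj.hom ≫ g = 0 := by
      have := colimit.ι K ({u} : Finset (U ⟶ X)) ≫= hg
      erw [colimit.ι_desc_assoc, comp_zero] at this
      exact this
    have h2 : (Subobject.arrow (span U X {u})) ≫ g = 0 := h1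
    have h3 : u = Sigma.ι (fun _ : ({u} : Finset (U ⟶ X)) => U) ⟨u, Finset.mem_singleton_self u⟩ ≫
        factorThruImageSubobject (Sigma.desc fun i : ({u} : Finset (U ⟶ X)) => (i : U ⟶ X)) ≫
        (span U X {u}).arrow := by
      simp [span]
    rw [h3, comp_zero, Category.assoc, Category.assoc]
    erw [h2, comp_zero, comp_zero]
  exact ⟨colimit.cocone K, ⟨colimit.isColimit K⟩, f, isIso_of_mono_of_epi f⟩

/-- Suppose A is an abelian category that has small hom-sets and all small colimits, B is a Grothendieck
abelian category, and F : A ⥤ B is a faithful exact functor with a right adjoint G preserving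
filtered colimits. Then A is a Grothendieck abelian category. -/
theorem result
    {A : Type u₁} [Category.{w} A] [Abelian A] [HasColimitsOfSize.{w, w} A]
    {B : Type u₂} [Category.{w} B] [Abelian B] [IsGrothendieckAbelian.{w} B]
    (F : A ⥤ B) (G : B ⥤ A) (adj : F ⊣ G) [F.Additive] [F.Faithful]
    [PreservesFiniteLimits F] [PreservesFiniteColimits F] [PreservesFilteredColimitsOfSize.{w, w} G] :
    IsGrothendieckAbelian.{w} A := by
  haveI : PreservesColimitsOfSize.{w, w} F := adj.leftAdjoint_preservesColimits
  haveI : F.ReflectsIsomorphisms := reflectsIsomorphisms_of_reflectsMonomorphisms_of_reflectsEpimorphisms F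
  haveI : ReflectsFiniteLimits F :=
    ⟨fun J _ _ => reflectsLimitsOfShape_of_reflectsIsomorphisms⟩
  haveI hAB5 : AB5OfSize.{w, w} A := ⟨fun J _ _ => HasExactColimitsOfShape.domain_of_functor J F⟩
  haveI := wellPowered_aux F
  refine { hasSeparator := ?_ }
  obtain ⟨U, hU⟩ := HasSeparator.hasSeparator (C := B)
  let P (n : ℕ) : B := ∐ fun _ : ULift.{w} (Fin n) => U
  let β : Type w := Σ n : ℕ, Σ K : Shrink.{w} (Subobject (P n)),
    Shrink.{w} (Subobject (G.obj (cokernel ((equivShrink _).symm K : Subobject (P n)).arrow)))
  let fam : β → A := fun b => (((equivShrink _).symm b.2.2 : Subobject _) : A)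
  refine ⟨∐ fam, (isSeparator_sigma fam).2 ?_⟩
  apply (Preadditive.isSeparating_iff _).2
  intro X X' φ hφ
  haveI : ∀ Y, Mono (adj.unit.app Y) := fun Y => F.mono_of_mono_map (by
    haveI : Mono (F.map (adj.unit.app Y) ≫ adj.counit.app (F.obj Y)) := by
      erw [adj.left_triangle_components Y]; exact inferInstanceAs (Mono (𝟙 (F.obj Y)))
    exact mono_of_mono (F.map (adj.unit.app Y)) (adj.counit.app (F.obj Y)))
  obtain ⟨c, ⟨hc⟩, e, he⟩ := exists_isColimit U hU (F.obj X)
  let hc' := hc.extendIso e
  let hGc := isColimitOfPreserves G hc'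
  haveI : IsConnected (Finset (U ⟶ F.obj X)) := IsFiltered.isConnected _
  have key : adj.unit.app X ≫ G.map (F.map φ) = 0 := by
    refine hGc.pullback_zero_ext (f := adj.unit.app X) (g := G.map (F.map φ)) fun s => ?_
    erw [adj.unit_naturality φ, ← Category.assoc]
    suffices H : ∀ (Z : A) (a : Z ⟶ G.obj ((span U (F.obj X) s : Subobject _) : B)) [Mono a]
        (z : Z ⟶ X), z ≫ φ = 0 by
      erw [H _ (pullback.fst _ _)]
      exact zero_comp
    intro Z a _ z
    -- identify `span s` with a quotient of `P n`
    let es : ULift.{w} (Fin s.card) ≃ (s : Finset (U ⟶ F.obj X)) :=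
      Equiv.ulift.trans s.equivFin.symm
    let q : P s.card ⟶ ((span U (F.obj X) s : Subobject _) : B) :=
      (Sigma.whiskerEquiv (f := fun _ : ULift.{w} (Fin s.card) => U) (g := fun _ : s => U)
        es (fun _ => Iso.refl U)).hom ≫ factorThruImageSubobject _
    haveI : Epi q := by
      haveI : Epi (factorThruImage (Sigma.desc fun i : s => (i : U ⟶ F.obj X))) := inferInstance
      haveI : Epi (factorThruImageSubobject (Sigma.desc fun i : s => (i : U ⟶ F.obj X))) :=
        epi_comp _ _
      exact epi_comp' inferInstance (by assumption)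
    let K : Shrink.{w} (Subobject (P s.card)) := equivShrink _ (Subobject.mk (kernel.ι q))
    have hK : ((equivShrink _).symm K : Subobject (P s.card)) = Subobject.mk (kernel.ι q) :=
      Equiv.symm_apply_apply _ _
    have hiso : Nonempty (((span U (F.obj X) s : Subobject _) : B) ≅
        cokernel ((equivShrink _).symm K : Subobject (P s.card)).arrow) := by
      rw [hK]
      refine ⟨IsColimit.coconePointUniqueUpToIso
        (Abelian.epiIsCokernelOfKernel _ (kernelIsKernel q)) (cokernelIsCokernel (kernel.ι q)) ≪≫
        (cokernelEpiComp (Subobject.underlyingIso (kernel.ι q)).hom (kernel.ι q)).symm ≪≫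
        cokernelIsoOfEq (by simp)⟩
    obtain ⟨i⟩ := hiso
    let S : Subobject (G.obj (cokernel ((equivShrink _).symm K : Subobject (P s.card)).arrow)) :=
      Subobject.mk (a ≫ G.map i.hom)
    let b : β := ⟨s.card, K, equivShrink _ S⟩
    have hb : fam b = (S : A) := by simp [fam, b]
    let j : fam b ≅ Z := eqToIso hb ≪≫ Subobject.underlyingIso _
    rw [← cancel_epi j.hom, comp_zero, ← Category.assoc]
    exact hφ _ ⟨b⟩ (j.hom ≫ z)
  erw [adj.unit_naturality φ] at key
  exact zero_of_comp_mono _ key

end Groth.Agent.S11128
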