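import Groth.Statements.S4342
import Groth.Agent.Lib.QCoh.LocGenCases

set_option autoImplicit false
universe u
open QCohSup

namespace Groth.Agent.S4342

open AlgebraicGeometry in
open CategoryTheory in
open Opposite in
/-- In the sectionwise form its proof gives. Let X be a scheme whose underlying space is locally
Noetherian and F a quasi-coherent O_X-module. For every affine open U and every section s of F over
U there is a quasi-coherent sub-O_X-module of finite type of F having s among its sections over U;
hence F is the inductive limit of its quasi-coherent submodules of finite type. -/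
theorem result
    {X : Scheme.{u}}
    (hX : ∀ x : X, ∃ U : X.Opens, x ∈ U ∧ TopologicalSpace.NoetherianSpace (U : Set X))
    (F : X.Modules) [Coh.IsQCoh F]
    (U : X.affineOpens) (s : F.val.obj (op (U : X.Opens))) :
    ∃ (G' : X.Modules) (i' : G' ⟶ F), Mono i' ∧ Coh.IsQCoh G' ∧ CohB1.IsFT G' ∧
      ∃ g : G'.val.obj (op (U : X.Opens)), (i'.val.app (op (U : X.Opens))).hom g = s := by
  obtain ⟨_, _⟩ := exists_wellFoundedLT (α := X.affineOpens)
  let P := GrothLib.QCoh.SubData.gen (F := F) ({s} : Set Γ(F, U.1))
  have hP : GrothLib.QCoh.SubData.LocGen P U.1 := fun x hx ↦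
    ⟨U.1, U.2, hx, le_rfl, {s}, Set.finite_singleton s, fun _ _ ↦ rfl⟩
  obtain ⟨Q, hQ, hQU⟩ := hP.exists_extension (fun l : X.affineOpens ↦ l.1) (fun l ↦ l.2) U.1
    (by rw [iSup_affineOpens_eq_top, sup_top_eq])
    fun l ↦ GrothLib.QCoh.isCompact_of_subset_of_locallyNoetherianSpace hX l.2.isCompact
      Set.inter_subset_left
  have hs : s ∈ Q.sec U.1 := by
    rw [hQU U.1 le_rfl]
    exact GrothLib.QCoh.SubData.mem_gen_of_mem_span le_rfl
      (Submodule.subset_span ⟨s, rfl, GrothLib.QCoh.rr_self _ s⟩)
  have : Mono Q.ι :=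
    (Scheme.Modules.toPresheaf X).mono_of_mono_map
      (@NatTrans.mono_of_mono_app _ _ _ _ _ _ _ fun T ↦
        (AddCommGrpCat.mono_iff_injective _).2 (Q.ι_app_injective T.unop))
  exact ⟨Q.obj, Q.ι, this, hQ.isQuasicoherent, hQ.isFiniteType, Q.lift s hs, rfl⟩

end Groth.Agent.S4342
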