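import Groth.Statements.S11129
import Groth.Agent.Lib.Hilb20.SlopeCoh
import Groth.Agent.Lib.QCoh.DevissageSummands
import Groth.Agent.Lib.QCoh.Filtration
import Groth.Agent.S4342
import Mathlib.CategoryTheory.Subobject.NoetherianObject

set_option autoImplicit false
set_option linter.style.haveILetI false
universe u
open CategoryTheory AlgebraicGeometry
open CategoryTheory.Limits
open QCohCat

namespace Groth.Agent.S11129

/-- For a noetherian scheme Y, an object M of the category QCoh(O_Y) of quasi-coherent O_Y-modules (a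
full subcategory of all O_Y-modules) is a noetherian object of that category if and only if M is
coherent (quasi-coherent of finite type). (The published statement also records that QCoh(O_Y) is a
locally noetherian category; only the characterisation of its noetherian objects is stated here.) -/
theorem result (Y : Scheme.{u}) [IsNoetherian Y] (M : QCohCat.QCoh Y) :
    IsNoetherianObject M ↔ Coh.IsCoh M.obj := by
  have hmono : ∀ {A B : QCohCat.QCoh Y} (f : A ⟶ B), Mono f → Mono f.hom := by
    intro A B f hf
    haveI := hf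
    haveI : A.obj.IsQuasicoherent := A.property
    haveI : B.obj.IsQuasicoherent := B.property
    let K : QCohCat.QCoh Y := ⟨kernel f.hom, GrothLib.QCoh.isQuasicoherent_kernel f.hom⟩
    let κ : K ⟶ A := ObjectProperty.homMk (kernel.ι f.hom)
    have h0 : κ ≫ f = ObjectProperty.homMk (0 : kernel f.hom ⟶ B.obj) := ObjectProperty.hom_ext _ (kernel.condition f.hom)
    have h1 : (ObjectProperty.homMk (0 : kernel f.hom ⟶ A.obj) : K ⟶ A) ≫ f =
        ObjectProperty.homMk (0 : kernel f.hom ⟶ B.obj) := ObjectProperty.hom_ext _ Limits.zero_comp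
    exact Preadditive.mono_of_kernel_zero
      (congrArg (fun g : K ⟶ A => g.hom) ((cancel_mono f).1 (h0.trans h1.symm)))
  constructor
  · intro hN
    haveI : M.obj.IsQuasicoherent := M.property
    refine ⟨M.property, ?_⟩
    let good : Subobject M → Prop := fun S => Coh.IsCoh (S : QCohCat.QCoh Y).obj
    have hex : ∃ S, good S := by
      let Z : QCohCat.QCoh Y := ⟨kernel (𝟙 M.obj), GrothLib.QCoh.isQuasicoherent_kernel (𝟙 M.obj)⟩
      let ζ : Z ⟶ M := ObjectProperty.homMk (kernel.ι (𝟙 M.obj))
      haveI : Mono ζ := ⟨fun g h hgh => ObjectProperty.hom_ext _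
        ((cancel_mono (kernel.ι (𝟙 M.obj))).1 (congrArg (fun e => e.hom) hgh))⟩
      refine ⟨Subobject.mk ζ, GrothLib.QCoh.isCoh_of_iso ((ObjectProperty.ι _).mapIso (Subobject.underlyingIso ζ)).symm ?_⟩
      exact GrothLib.Euler.isCoh_of_isZero (isZero_kernel_of_mono (𝟙 M.obj))
    obtain ⟨S, hS, hmax⟩ := (wellFounded_gt (α := Subobject M)).has_min {S | good S} hex
    haveI := hmono S.arrow inferInstance
    haveI : (S : QCohCat.QCoh Y).obj.IsQuasicoherent := (S : QCohCat.QCoh Y).property
    haveI : IsIso S.arrow.hom := by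
      refine GrothLib.QCoh.isIso_of_bijective_on_cover S.arrow.hom (fun V : Y.affineOpens => V.1)
        (iSup_affineOpens_eq_top Y) (fun V => V.2) fun V => ⟨?_, fun s => ?_⟩
      · have hSe : (ShortComplex.mk S.arrow.hom (cokernel.π S.arrow.hom) (cokernel.condition _)).ShortExact :=
          { exact := ShortComplex.exact_cokernel _ }
        exact GrothLib.QCoh.app_injective hSe V.1
      haveI : Coh.IsQCoh M.obj := M.property
      obtain ⟨G, i, hi, hGq, hGf, g, hg⟩ := Groth.Agent.S4342.result
        (fun x => ⟨⊤, trivial, inferInstance⟩) M.obj V s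
      let φ : (S : QCohCat.QCoh Y).obj ⊞ G ⟶ M.obj := biprod.desc S.arrow.hom i
      have hP : Coh.IsCoh ((S : QCohCat.QCoh Y).obj ⊞ G) := GrothLib.QCoh.isCoh_biprod' hS ⟨hGq, hGf⟩
      haveI := hP.1
      haveI := GrothLib.QCoh.isQuasicoherent_kernel φ
      have hK : Coh.IsCoh (kernel φ) := ⟨inferInstance, GrothLib.QCoh.isFiniteType_of_mono (kernel.ι φ) hP.2⟩
      have hI : Coh.IsCoh (Abelian.coimage φ) := GrothLib.QCoh.isCoh_cokernel (kernel.ι φ) hK hP
      let T₀ : QCohCat.QCoh Y := ⟨Abelian.coimage φ, hI.1⟩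
      let τ : T₀ ⟶ M := ObjectProperty.homMk (Abelian.factorThruCoimage φ)
      haveI : Mono τ := ⟨fun a b hab => ObjectProperty.hom_ext _
        ((cancel_mono (Abelian.factorThruCoimage φ)).1 (congrArg (fun e => e.hom) hab))⟩
      have hle : S ≤ Subobject.mk τ := by
        refine Subobject.le_mk_of_comm (ObjectProperty.homMk (biprod.inl ≫ Abelian.coimage.π φ)) ?_
        refine ObjectProperty.hom_ext _ ?_
        show (biprod.inl ≫ Abelian.coimage.π φ) ≫ Abelian.factorThruCoimage φ = S.arrow.hom
        rw [Category.assoc, Abelian.coimage.fac, biprod.inl_desc]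
      have hgood : good (Subobject.mk τ) :=
        GrothLib.QCoh.isCoh_of_iso ((ObjectProperty.ι _).mapIso (Subobject.underlyingIso τ)).symm hI
      have heq : S = Subobject.mk τ := eq_of_le_of_not_lt hle fun hlt => hmax _ hgood hlt
      have hle' : Subobject.mk τ ≤ S := heq.ge
      refine ⟨(Subobject.ofMkLE τ S hle').hom.app V.1 ((Abelian.coimage.π φ).app V.1
        ((biprod.inr : G ⟶ (S : QCohCat.QCoh Y).obj ⊞ G).app V.1 g)), ?_⟩
      have e1 : (Subobject.ofMkLE τ S hle').hom ≫ S.arrow.hom = Abelian.factorThruCoimage φ :=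
        congrArg (fun e => e.hom) (Subobject.ofMkLE_arrow hle')
      have e2 : biprod.inr ≫ Abelian.coimage.π φ ≫ Abelian.factorThruCoimage φ = i := by
        rw [Abelian.coimage.fac, biprod.inr_desc]
      rw [← e1, ← Category.assoc] at e2
      exact (congrArg (fun e : G ⟶ M.obj => e.app V.1 g) e2).trans hg
    exact (GrothLib.QCoh.isCoh_of_iso (asIso S.arrow.hom) hS).2
  · intro hM
    haveI : M.obj.IsQuasicoherent := M.property
    haveI : ∀ S : Subobject M, Mono S.arrow.hom := fun S => hmono S.arrow inferInstance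
    haveI : ∀ S : Subobject M, (S : QCohCat.QCoh Y).obj.IsQuasicoherent := fun S => (S : QCohCat.QCoh Y).property
    let Φ : Subobject M → GrothLib.Hilb20.CohSub M.obj := fun S => ⟨Subobject.mk S.arrow.hom,
      GrothLib.QCoh.isCoh_of_iso (Subobject.underlyingIso S.arrow.hom).symm
        ⟨inferInstance, GrothLib.QCoh.isFiniteType_of_mono S.arrow.hom hM.2⟩⟩
    have hΦle : ∀ S T, Φ S ≤ Φ T → S ≤ T := fun S T h => Subobject.le_of_comm
      (ObjectProperty.homMk (Subobject.ofMkLEMk S.arrow.hom T.arrow.hom h))
      (ObjectProperty.hom_ext _ (Subobject.ofMkLEMk_comp h))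
    have hΦ : StrictMono Φ := fun S T hlt => by
      refine lt_of_le_of_ne ?_ fun he => hlt.ne (le_antisymm hlt.le (hΦle _ _ he.ge))
      exact Subobject.mk_le_mk_of_comm (Subobject.ofLE S T hlt.le).hom
        (congrArg (fun e => e.hom) (Subobject.ofLE_arrow hlt.le))
    haveI := GrothLib.Hilb20.isNoetherian_cohSub hM
    rw [IsNoetherianObject, ObjectProperty.is_iff, isNoetherianObject]
    exact hΦ.wellFoundedGT

end Groth.Agent.S11129
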