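import Groth.Statements.S1113
import Groth.Agent.Lib.ProTri.Trunc

set_option autoImplicit false
universe w v u
open CategoryTheory CategoryTheory.Limits
open CohDer

namespace Groth.Agent.S1113

/-- Let K : ℕᵒᵖ ⥤ CochainComplex A ℤ be a sequence of cochain maps … → K₂ → K₁ → K₀ in an abelian
category with Hⁱ(K₀) = 0 for i < 0 and such that for every j < n the map Hʲ(Kⱼ₊₁) → Hʲ(Kⱼ) is zero.
Then in the derived category the composite Kₙ → K₀ factors through the canonical truncation Kₙ →
τ_{≥ n}Kₙ. -/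
theorem result {A : Type u} [Category.{v} A] [Abelian A] [HasDerivedCategory.{w} A]
    (K : ℕᵒᵖ ⥤ CochainComplex A ℤ) (n : ℕ)
    (h0 : ∀ i : ℤ, i < 0 → IsZero ((K.obj (Opposite.op 0)).homology i))
    (hz : ∀ j : ℕ, j < n → HomologicalComplex.homologyMap (K.map (homOfLE (Nat.le_succ j)).op) (j : ℤ) = 0) :
    ∃ φ : DerivedCategory.Q.obj ((K.obj (Opposite.op n)).truncGE (n : ℤ)) ⟶ DerivedCategory.Q.obj (K.obj (Opposite.op 0)),
      DerivedCategory.Q.map ((K.obj (Opposite.op n)).πTruncGE (n : ℤ)) ≫ φ = DerivedCategory.Q.map (K.map (homOfLE (Nat.zero_le n)).op) := by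
  have h0' : (DerivedCategory.Q.obj (K.obj (Opposite.op 0))).IsGE 0 :=
    (DerivedCategory.isGE_iff _ _).2 fun i hi =>
      (h0 i hi).of_iso ((DerivedCategory.homologyFunctorFactors A i).app (K.obj (Opposite.op 0)))
  have hz' : ∀ (j : ℕ), j < n → (DerivedCategory.homologyFunctor A (j : ℤ)).map
      (DerivedCategory.Q.map (K.map (homOfLE (Nat.le_succ j)).op)) = 0 := fun j hj => by
    rw [← cancel_mono ((DerivedCategory.homologyFunctorFactors A (j : ℤ)).hom.app _), zero_comp]
    refine ((DerivedCategory.homologyFunctorFactors A (j : ℤ)).hom.naturality _).trans ?_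
    exact (congrArg (_ ≫ ·) (hz j hj)).trans comp_zero
  have key : ∀ m (hm : m ≤ n), ∃ φ : (DerivedCategory.TStructure.t.truncGE (m : ℤ)).obj
      (DerivedCategory.Q.obj (K.obj (Opposite.op m))) ⟶ DerivedCategory.Q.obj (K.obj (Opposite.op 0)),
      (DerivedCategory.TStructure.t.truncGEπ (m : ℤ)).app _ ≫ φ =
        DerivedCategory.Q.map (K.map (homOfLE (Nat.zero_le m)).op) := by
    intro m
    induction m with
    | zero =>
      intro _
      have : DerivedCategory.TStructure.t.IsGE (DerivedCategory.Q.obj (K.obj (Opposite.op 0)))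
          ((0 : ℕ) : ℤ) := by simpa using! h0'
      exact ⟨DerivedCategory.TStructure.t.descTruncGE
          (DerivedCategory.Q.map (K.map (homOfLE (Nat.zero_le 0)).op)) _,
        DerivedCategory.TStructure.t.π_descTruncGE _ _⟩
    | succ m ih =>
      intro hm
      obtain ⟨φ, hφ⟩ := ih (by omega)
      have : ((DerivedCategory.TStructure.t.truncGE (m : ℤ)).obj
          (DerivedCategory.Q.obj (K.obj (Opposite.op m)))).IsGE (m : ℤ) :=
        DerivedCategory.TStructure.t.isGE_truncGE_obj _ _ _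
      obtain ⟨g, hg⟩ := GrothLib.ProTri.exists_desc_truncGE (m := (m : ℤ))
        (DerivedCategory.Q.map (K.map (homOfLE (Nat.le_succ m)).op) ≫
          (DerivedCategory.TStructure.t.truncGEπ (m : ℤ)).app _)
        (by rw [Functor.map_comp, hz' m (by omega), zero_comp])
      rw [show ((m + 1 : ℕ) : ℤ) = (m : ℤ) + 1 by omega]
      refine ⟨g ≫ φ, ?_⟩
      rw [reassoc_of% hg, hφ, ← Functor.map_comp, ← Functor.map_comp]
      rfl
  obtain ⟨φ, hφ⟩ := key n le_rfl
  obtain ⟨e, he⟩ := GrothLib.ProTri.exists_desc_Q_truncGE (K.obj (Opposite.op n)) (n : ℤ)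
  exact ⟨e ≫ φ, by rw [reassoc_of% he, hφ]⟩

end Groth.Agent.S1113
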