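import Groth.Statements.S11135
import Mathlib

set_option autoImplicit false
universe u
open InvTh

namespace Groth.Agent.S11135

theorem isIntegrallyClosed_aux {J : Type u} (D : J → Type u) [∀ i, CommRing (D i)] [∀ i, IsDomain (D i)]
    [∀ i, IsIntegrallyClosed (D i)] (E : Type u) [CommRing E] [IsDomain E] (pr : ∀ i, E →+* D i)
    (hinj : ∀ i, Function.Injective (pr i))
    (hw : ∀ (w : Π i, D i) (x y : E), y ≠ 0 → (∀ i, w i * pr i y = pr i x) →
      ∃ e : E, e * y = x) :
    IsIntegrallyClosed E := by
  rw [isIntegrallyClosed_iff (FractionRing E)]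
  intro z hz
  obtain ⟨x, y, hy, rfl⟩ := IsFractionRing.div_surjective (A := E) z
  have hy0 : y ≠ 0 := nonZeroDivisors.ne_zero hy
  obtain ⟨P, hP, hPz⟩ := hz
  have hi : ∀ i, ∃ w : D i, w * pr i y = pr i x := by
    intro i
    let ev : E →+* FractionRing (D i) := (algebraMap (D i) (FractionRing (D i))).comp (pr i)
    have hev : Function.Injective ev := (IsFractionRing.injective (D i) (FractionRing (D i))).comp (hinj i)
    let evK : FractionRing E →+* FractionRing (D i) := IsFractionRing.lift hev
    have hcomp : evK.comp (algebraMap E (FractionRing E)) = ev :=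
      RingHom.ext fun a => by
        rw [RingHom.comp_apply]
        exact IsFractionRing.lift_algebraMap (K := FractionRing E) hev a
    have hint : IsIntegral (D i) (evK (algebraMap E (FractionRing E) x / algebraMap E (FractionRing E) y)) := by
      refine ⟨P.map (pr i), hP.map _, ?_⟩
      rw [Polynomial.eval₂_map, show (algebraMap (D i) (FractionRing (D i))).comp (pr i) = ev from rfl,
        ← hcomp, ← Polynomial.hom_eval₂, hPz, map_zero]
    obtain ⟨w, hw'⟩ := IsIntegrallyClosed.isIntegral_iff.1 hint
    refine ⟨w, IsFractionRing.injective (D i) (FractionRing (D i)) ?_⟩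
    rw [map_mul, hw', map_div₀, IsFractionRing.lift_algebraMap, IsFractionRing.lift_algebraMap]
    exact div_mul_cancel₀ _ fun h => hy0 (hev (h.trans (map_zero ev).symm))
  choose w hw' using hi
  obtain ⟨e, he⟩ := hw w x y hy0 hw'
  refine ⟨e, ?_⟩
  rw [eq_div_iff (IsFractionRing.to_map_ne_zero_of_mem_nonZeroDivisors hy), ← map_mul, he]

/-- Suppose S is the product of a finite family of integrally closed domains (a finite product of normal
domains), R is any commutative ring, and F is a family of ring maps S → R each carrying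
non-zero-divisors of S to non-zero-divisors of R. Then the subring A of S on which all members of F
coincide (a ∈ A iff f(a) = f'(a) for all f, f' in F) is ring-isomorphic to a product of finitely
many integrally closed domains. -/
theorem result {ι : Type u} [Fintype ι] (D : ι → Type u)
    [∀ i, CommRing (D i)] [∀ i, IsDomain (D i)] [∀ i, IsIntegrallyClosed (D i)]
    (R : Type u) [CommRing R] (F : Set ((Π i, D i) →+* R))
    (hF : ∀ f ∈ F, ∀ s ∈ nonZeroDivisors (Π i, D i), f s ∈ nonZeroDivisors R)
    (A : Subring (Π i, D i)) (hA : ∀ a, a ∈ A ↔ ∀ f ∈ F, ∀ f' ∈ F, f a = f' a) :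
    ∃ (κ : Type u) (_ : Fintype κ) (E : κ → Type u) (_ : ∀ j, CommRing (E j)) (_ : ∀ j, IsDomain (E j))
      (_ : ∀ j, IsIntegrallyClosed (E j)), Nonempty (A ≃+* Π j, E j) := by
  classical
  let st : Setoid ι :=
    ⟨fun i j => ∀ a ∈ A, a i = 0 ↔ a j = 0,
      ⟨fun i a _ => Iff.rfl, fun h a ha => (h a ha).symm, fun h h' a ha => (h a ha).trans (h' a ha)⟩⟩
  -- supports give idempotents in `A`
  have hsupp : ∀ a ∈ A, (fun i => if a i = 0 then 0 else 1 : Π i, D i) ∈ A := by
    intro a ha
    rw [hA]
    intro f hf f' hf'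
    set e : Π i, D i := fun i => if a i = 0 then 0 else 1
    have hreg : a + (1 - e) ∈ nonZeroDivisors (Π i, D i) := by
      rw [mem_nonZeroDivisors_iff_right]
      intro z hz
      funext i
      have h := congrFun hz i
      simp only [Pi.mul_apply, Pi.add_apply, Pi.sub_apply, Pi.one_apply, Pi.zero_apply, e] at h
      by_cases hi : a i = 0
      · simpa [hi] using h
      · simp only [hi, if_false, sub_self, add_zero, mul_eq_zero, or_false] at h
        exact h
    have h0 : a * (1 - e) = 0 := funext fun i => by by_cases hi : a i = 0 <;> simp [e, hi]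
    have key : ∀ g ∈ F, ∀ g' ∈ F, 1 - g' e = (1 - g e) * (1 - g' e) := by
      intro g hg g' hg'
      have h1 : g a * (1 - g e) = 0 := by rw [← map_one g, ← map_sub, ← map_mul, h0, map_zero]
      have h2 : g a * (1 - g' e) = 0 := by
        rw [(hA a).1 ha g hg g' hg', ← map_one g', ← map_sub, ← map_mul, h0, map_zero]
      have hid : (1 - g e) * (1 - g e) = 1 - g e := by
        rw [← map_one g, ← map_sub, ← map_mul]
        congr 1
        funext i
        by_cases hi : a i = 0 <;> simp [e, hi]
      refine (mul_cancel_right_mem_nonZeroDivisors (hF g hg _ hreg)).1 ?_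
      rw [map_add, map_sub, map_one]
      linear_combination h2 - (1 - g' e) * h1 - (1 - g' e) * hid
    have h3 := key f hf f' hf'
    have h4 := key f' hf' f hf
    linear_combination h3 - h4
  -- idempotents of the classes
  let eJ : Quotient st → Π i, D i := fun q i => if Quotient.mk st i = q then 1 else 0
  have heJ : ∀ q, eJ q ∈ A := by
    intro q
    obtain ⟨i, rfl⟩ := Quotient.exists_rep q
    have hsep : ∀ j, ∃ b ∈ A, b i = 1 ∧ (¬ st.r j i → b j = 0) ∧ ∀ l, st.r l i → b l = 1 := by
      intro j
      by_cases hj : st.r j i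
      · exact ⟨1, one_mem A, rfl, fun h => absurd hj h, fun _ _ => rfl⟩
      · obtain ⟨a, ha, hne⟩ : ∃ a ∈ A, ¬ (a j = 0 ↔ a i = 0) := by
          by_contra hc
          push Not at hc
          exact hj fun a ha => hc a ha
        by_cases hai : a i = 0
        · refine ⟨1 - (fun l => if a l = 0 then 0 else 1), sub_mem (one_mem A) (hsupp a ha), ?_, fun _ => ?_, fun l hl => ?_⟩
          · simp [hai]
          · have : a j ≠ 0 := fun h => hne ⟨fun _ => hai, fun _ => h⟩
            simp [this]
          · simp [(hl a ha).2 hai]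
        · refine ⟨fun l => if a l = 0 then 0 else 1, hsupp a ha, if_neg hai, fun _ => ?_, fun l hl => ?_⟩
          · have : a j = 0 := by
              by_contra h
              exact hne ⟨fun h' => absurd h' h, fun h' => absurd h' hai⟩
            simp [this]
          · exact if_neg fun h => hai ((hl a ha).1 h)
    choose b hbA hbi hbj hbl using hsep
    have : eJ (Quotient.mk st i) = ∏ j, b j := by
      funext l
      rw [Finset.prod_apply]
      by_cases hl : st.r l i
      · simp only [eJ, if_pos (Quotient.sound hl)]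
        exact (Finset.prod_eq_one fun j _ => hbl j l hl).symm
      · simp only [eJ, if_neg (fun h => hl (Quotient.exact h))]
        exact (Finset.prod_eq_zero (Finset.mem_univ l) (hbj l hl)).symm
    rw [this]
    exact prod_mem fun j _ => hbA j
  let π : ∀ q : Quotient st, (Π i, D i) →+* (Π i : {i : ι // Quotient.mk st i = q}, D i.1) := fun q =>
    Pi.ringHom fun i => Pi.evalRingHom D i.1
  let E : Quotient st → Type u := fun q => A.map (π q)
  have hnz : ∀ (q : Quotient st) (x : Π i : {i : ι // Quotient.mk st i = q}, D i.1), x ∈ A.map (π q) →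
      x ≠ 0 → ∀ i, x i ≠ 0 := by
    rintro q _ ⟨a, ha, rfl⟩ hne i hi
    refine hne (funext fun l => ?_)
    exact ((Quotient.exact (l.2.trans i.2.symm) : st.r l.1 i.1) a ha).2 hi
  haveI hdom : ∀ q, IsDomain (A.map (π q)) := fun q => by
    obtain ⟨i, hi⟩ := Quotient.exists_rep q
    haveI : Nontrivial (A.map (π q)) :=
      ⟨⟨0, 1, fun h => zero_ne_one (congrFun (congrArg Subtype.val h) ⟨i, hi⟩)⟩⟩
    haveI : NoZeroDivisors (A.map (π q)) := ⟨fun {x y} h => by
      by_contra hc
      push Not at hc
      have h1 := hnz q x.1 x.2 (fun h' => hc.1 (Subtype.ext h')) ⟨i, hi⟩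
      have h2 := hnz q y.1 y.2 (fun h' => hc.2 (Subtype.ext h')) ⟨i, hi⟩
      exact mul_ne_zero h1 h2 (congrFun (congrArg Subtype.val h) ⟨i, hi⟩)⟩
    exact NoZeroDivisors.to_isDomain _
  refine ⟨Quotient st, inferInstance, fun q => A.map (π q), inferInstance, hdom, fun q => ?_, ⟨?_⟩⟩
  · refine isIntegrallyClosed_aux (fun i : {i : ι // Quotient.mk st i = q} => D i.1)
      (A.map (π q)) (fun i => (Pi.evalRingHom (fun i : {i : ι // Quotient.mk st i = q} => D i.1) i).comp
        (A.map (π q)).subtype) ?_ ?_
    · intro i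
      rw [injective_iff_map_eq_zero]
      intro a ha
      by_contra hne
      exact hnz q a.1 a.2 (fun h' => hne (Subtype.ext h')) i ha
    intro w ⟨x, hx⟩ ⟨y, hy⟩ hy0' hw
    have hy0 : y ≠ 0 := fun h => hy0' (Subtype.ext h)
    let wS : Π i, D i := fun i => if h : Quotient.mk st i = q then w ⟨i, h⟩ else 0
    obtain ⟨a, ha, hax⟩ := hx
    obtain ⟨b, hb, hby⟩ := hy
    set b' := b * eJ q + (1 - eJ q)
    have hb' : b' ∈ A := add_mem (mul_mem hb (heJ q)) (sub_mem (one_mem A) (heJ q))
    have hbreg : b' ∈ nonZeroDivisors (Π i, D i) := by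
      rw [mem_nonZeroDivisors_iff_right]
      intro z hz
      funext i
      have h := congrFun hz i
      by_cases hi : Quotient.mk st i = q
      · have hbi : b i ≠ 0 := by
          have := hnz q y ⟨b, hb, hby⟩ hy0 ⟨i, hi⟩
          rwa [← hby] at this
        simp only [b', eJ, Pi.mul_apply, Pi.add_apply, Pi.sub_apply, Pi.one_apply, hi, if_true,
          mul_one, sub_self, add_zero, Pi.zero_apply, mul_eq_zero] at h
        exact h.resolve_right hbi
      · simpa [b', eJ, hi] using h
    have hprod : wS * b' = a * eJ q := by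
      funext i
      by_cases hi : Quotient.mk st i = q
      · have := hw ⟨i, hi⟩
        change w ⟨i, hi⟩ * y ⟨i, hi⟩ = x ⟨i, hi⟩ at this
        rw [← hax, ← hby] at this
        simp only [Pi.mul_apply, Pi.add_apply, Pi.sub_apply, Pi.one_apply, wS, b', eJ, dif_pos hi,
          if_pos hi, mul_one, sub_self, add_zero]
        exact this
      · simp [wS, b', eJ, hi]
    have hwA : wS ∈ A := by
      rw [hA]
      intro f hf f' hf'
      refine (mul_cancel_right_mem_nonZeroDivisors (hF f hf _ hbreg)).1 ?_
      rw [← map_mul, hprod, (hA _).1 hb' f hf f' hf', ← map_mul, hprod]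
      exact (hA _).1 (mul_mem ha (heJ q)) f hf f' hf'
    refine ⟨⟨π q wS, wS, hwA, rfl⟩, Subtype.ext (funext fun i => ?_)⟩
    show wS i.1 * y i = x i
    rw [show wS i.1 = w i from dif_pos i.2]
    exact hw i
  · refine RingEquiv.ofBijective (
        Pi.ringHom fun q => ((π q).comp A.subtype).codRestrict (A.map (π q)) fun a => ⟨a.1, a.2, rfl⟩) ⟨?_, ?_⟩
    · intro a a' h
      refine Subtype.ext (funext fun i => ?_)
      exact congrFun (congrArg Subtype.val (congrFun h (Quotient.mk st i))) ⟨i, rfl⟩
    · intro v
      choose a ha hav using fun q => (v q).2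
      refine ⟨⟨∑ q, eJ q * a q, sum_mem fun q _ => mul_mem (heJ q) (ha q)⟩, funext fun q => Subtype.ext ?_⟩
      show π q (∑ r, eJ r * a r) = _
      rw [← hav q]
      funext i
      show (∑ r, eJ r * a r) i.1 = a q i.1
      rw [Finset.sum_apply, Finset.sum_eq_single q]
      · simp [eJ, i.2]
      · intro r _ hr
        simp [eJ, i.2, Ne.symm hr]
      · simp

end Groth.Agent.S11135
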