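import Groth.Statements.S11136
import Mathlib

set_option autoImplicit false
universe u v
open InvTh

namespace Groth.Agent.S11136

/-- Let a finite group G act on a Noetherian commutative ring R by ring automorphisms, with ring of
invariants A (A → R injective with image the fixed elements). When the prime spectrum of A is
connected, any two connected components of Spec R are exchanged by some element of G: for all points
x, y of Spec R there is g in G whose induced self-map of Spec R carries the connected component of x
onto the connected component of y. -/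
theorem result
    (A : Type u) (R : Type v) [CommRing A] [CommRing R] [Algebra A R] [IsNoetherianRing R]
    (G : Type u) [Group G] [Finite G] [MulSemiringAction G R] [SMulCommClass G A R]
    [Algebra.IsInvariant A R G] [FaithfulSMul A R]
    [ConnectedSpace (PrimeSpectrum A)] (x y : PrimeSpectrum R) :
    ∃ g : G, PrimeSpectrum.comap (MulSemiringAction.toRingHom G R g) '' connectedComponent x =
      connectedComponent y := by
  classical
  let h : G → PrimeSpectrum R → PrimeSpectrum R := fun g =>
    PrimeSpectrum.comap (MulSemiringAction.toRingHom G R g)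
  have hh : ∀ (g g' : G) z, h g (h g' z) = h (g' * g) z := fun g g' z => by
    apply PrimeSpectrum.ext
    ext r
    show g' • g • r ∈ z.asIdeal ↔ (g' * g) • r ∈ z.asIdeal
    rw [mul_smul]
  have h1 : ∀ z, h 1 z = z := fun z => by
    apply PrimeSpectrum.ext
    ext r
    show (1 : G) • r ∈ z.asIdeal ↔ r ∈ z.asIdeal
    rw [one_smul]
  have hcont : ∀ g, Continuous (h g) := fun g => PrimeSpectrum.continuous_comap _
  have himg : ∀ g z, h g '' connectedComponent z = connectedComponent (h g z) := by
    intro g z
    refine Set.Subset.antisymm ((hcont g).image_connectedComponent_subset z) fun w hw => ?_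
    refine ⟨h g⁻¹ w, ?_, by rw [hh, inv_mul_cancel, h1]⟩
    have hm := (hcont g⁻¹).image_connectedComponent_subset (h g z) ⟨w, hw, rfl⟩
    rwa [hh, mul_inv_cancel, h1] at hm
  -- connected components of the Noetherian space are open
  have hfin : (Set.range fun z : PrimeSpectrum R => connectedComponent z).Finite := by
    refine (TopologicalSpace.NoetherianSpace.finite_irreducibleComponents.image
      (fun Z : Set (PrimeSpectrum R) => if hZ : Z.Nonempty then connectedComponent hZ.some else ∅)).subset ?_
    rintro _ ⟨z, rfl⟩
    refine ⟨irreducibleComponent z, irreducibleComponent_mem_irreducibleComponents z, ?_⟩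
    have hne : (irreducibleComponent z).Nonempty := ⟨z, mem_irreducibleComponent⟩
    simp only [dif_pos hne]
    exact (connectedComponent_eq (irreducibleComponent_subset_connectedComponent hne.some_mem)).symm
  have hopen : ∀ z : PrimeSpectrum R, IsOpen (connectedComponent z) := by
    intro z
    rw [← isClosed_compl_iff]
    have : (connectedComponent z)ᶜ = ⋃ C ∈ (Set.range fun z : PrimeSpectrum R => connectedComponent z) \ {connectedComponent z}, C := by
      ext w
      simp only [Set.mem_compl_iff, Set.mem_iUnion, Set.mem_diff, Set.mem_range, Set.mem_singleton_iff, exists_prop]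
      constructor
      · intro hw
        exact ⟨connectedComponent w, ⟨⟨w, rfl⟩, fun he => hw (he ▸ mem_connectedComponent)⟩, mem_connectedComponent⟩
      · rintro ⟨C, ⟨⟨v, rfl⟩, hne⟩, hwv⟩ hwz
        exact hne ((connectedComponent_eq hwv).trans (connectedComponent_eq hwz).symm)
    rw [this]
    refine hfin.diff.isClosed_biUnion ?_
    rintro C ⟨⟨v, rfl⟩, -⟩
    exact isClosed_connectedComponent
  let U : Set (PrimeSpectrum R) := ⋃ g : G, connectedComponent (h g x)
  have hUo : IsOpen U := isOpen_iUnion fun g => hopen _
  have hUc : IsClosed U := isClosed_iUnion_of_finite fun g => isClosed_connectedComponent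
  have hUst : ∀ g z, z ∈ U → h g z ∈ U := by
    rintro g z hz
    obtain ⟨g', hg'⟩ := Set.mem_iUnion.1 hz
    refine Set.mem_iUnion.2 ⟨g' * g, ?_⟩
    rw [← hh]
    exact (hcont g).image_connectedComponent_subset _ ⟨z, hg', rfl⟩
  have hint : Algebra.IsIntegral A R := Algebra.IsInvariant.isIntegral A R G
  set π := PrimeSpectrum.comap (algebraMap A R) with hπ
  have hcl : IsClosedMap π := PrimeSpectrum.isClosedMap_comap_of_isIntegral _ (algebraMap_isIntegral_iff.2 hint)
  have hsurj : Function.Surjective π := by
    intro q
    obtain ⟨⟨P, hP, hPq⟩⟩ := (inferInstance : Nonempty (Ideal.primesOver q.asIdeal R))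
    exact ⟨⟨P, hP⟩, PrimeSpectrum.ext hPq.over.symm⟩
  have hdisj : ∀ a ∈ U, ∀ b, π a = π b → b ∈ U := by
    intro a ha b hab
    obtain ⟨g, hg⟩ := Algebra.IsInvariant.exists_smul_of_under_eq A R G a.asIdeal b.asIdeal
      (congrArg PrimeSpectrum.asIdeal hab)
    have : b = h g⁻¹ a := by
      apply PrimeSpectrum.ext
      ext r
      rw [hg]
      exact Ideal.mem_pointwise_smul_iff_inv_smul_mem
    rw [this]
    exact hUst _ _ ha
  have hclopen : IsClopen (π '' U) := by
    refine ⟨hcl _ hUc, ?_⟩
    have : π '' U = (π '' Uᶜ)ᶜ := by
      ext q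
      constructor
      · rintro ⟨a, ha, rfl⟩ ⟨b, hb, hab⟩
        exact hb (hdisj a ha b hab.symm)
      · intro hq
        obtain ⟨a, rfl⟩ := hsurj q
        exact ⟨a, by_contra fun ha => hq ⟨a, ha, rfl⟩, rfl⟩
    rw [this]
    exact (hcl _ hUo.isClosed_compl).isOpen_compl
  have hxU : x ∈ U := Set.mem_iUnion.2 ⟨1, by rw [h1]; exact mem_connectedComponent⟩
  have huniv := hclopen.eq_univ ⟨π x, x, hxU, rfl⟩
  obtain ⟨a, ha, hay⟩ : π y ∈ π '' U := huniv ▸ Set.mem_univ _
  obtain ⟨g, hg⟩ := Set.mem_iUnion.1 (hdisj a ha y hay)
  refine ⟨g, ?_⟩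
  show h g '' connectedComponent x = _
  rw [himg, connectedComponent_eq hg]

end Groth.Agent.S11136
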