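import Groth.Statements.S11141
import Groth.Agent.Lib.NormProd.Invar
-- import your own Groth.Agent.* helpers here

set_option autoImplicit false
universe u
open TensorProduct
open InvTh

namespace Groth.Agent.S11141

/-- Let k be a field, H a finitely generated commutative Hopf algebra over k (the coordinate ring of a
group scheme affine and of finite type over k), and S a commutative k-algebra which is
ring-isomorphic to a finite product of normal (integrally closed) domains and carries an H-comodule
structure whose coaction S → S ⊗ H is multiplicative and unital. Then the k-subalgebra of invariants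
of S, the elements s whose coaction is s ⊗ 1, is again ring-isomorphic to a finite product of normal
domains. -/
theorem result (k : Type u) [Field k]
    (H : Type u) [CommRing H] [HopfAlgebra k H] [Algebra.FiniteType k H]
    (S : Type u) [CommRing S] [Algebra k S] [HopfRep.Comod k H S]
    (hmul : ∀ x y : S, HopfRep.Comod.coact (k := k) (A := H) (x * y) =
        HopfRep.Comod.coact (k := k) (A := H) x * HopfRep.Comod.coact (k := k) (A := H) y)
    (hone : HopfRep.Comod.coact (k := k) (A := H) (1 : S) = 1)
    {ι : Type u} [Fintype ι] (D : ι → Type u) [∀ i, CommRing (D i)] [∀ i, IsDomain (D i)]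
    [∀ i, IsIntegrallyClosed (D i)] (e : S ≃+* Π i, D i)
    (A : Subalgebra k S)
    (hA : ∀ a : S, a ∈ A ↔ HopfRep.Comod.coact (k := k) (A := H) a = a ⊗ₜ[k] (1 : H)) :
    ∃ (κ : Type u) (_ : Fintype κ) (E : κ → Type u) (_ : ∀ j, CommRing (E j)) (_ : ∀ j, IsDomain (E j))
      (_ : ∀ j, IsIntegrallyClosed (E j)), Nonempty (A ≃+* Π j, E j) := by
  exact GrothLib.NormProd.invariants_prod hmul hone D e A hA

end Groth.Agent.S11141
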