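import Groth.Statements.S11142
import Mathlib.RingTheory.Ideal.GoingDown
import Mathlib.AlgebraicGeometry.Morphisms.Flat
import Mathlib.AlgebraicGeometry.Noetherian
-- import your own Groth.Agent.* helpers here

set_option autoImplicit false
universe u
open CategoryTheory AlgebraicGeometry
open FlatMor

namespace Groth.Agent.S11142
open CategoryTheory AlgebraicGeometry TopologicalSpace

/-- A minimal prime of a Noetherian ring lies in every dense open subset of the spectrum. -/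
lemma minimal_mem_of_dense {A : Type u} [CommRing A] [IsNoetherianRing A] (U : Set (PrimeSpectrum A))
    (hUo : IsOpen U) (hU : Dense U) (p : PrimeSpectrum A) (hp : p.asIdeal ∈ minimalPrimes A) : p ∈ U := by
  let Z : Set (PrimeSpectrum A) := ⋃ q ∈ (minimalPrimes A \ {p.asIdeal}), PrimeSpectrum.zeroLocus (q : Set A)
  have hZ : IsClosed Z := ((minimalPrimes.finite_of_isNoetherianRing A).subset Set.sdiff_subset).isClosed_biUnion
    fun q _ => PrimeSpectrum.isClosed_zeroLocus _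
  have hpZ : p ∉ Z := by
    simp only [Z, Set.mem_iUnion, PrimeSpectrum.mem_zeroLocus, SetLike.coe_subset_coe, not_exists]
    rintro q ⟨hq, hne⟩ hle
    exact hne (le_antisymm hle (hp.2 hq.1 hle))
  obtain ⟨r, hr1, hr2⟩ := hU.inter_open_nonempty Zᶜ hZ.isOpen_compl ⟨p, hpZ⟩
  obtain ⟨q, hq, hqr⟩ := Ideal.exists_minimalPrimes_le (I := (⊥ : Ideal A)) (J := r.asIdeal) bot_le
  obtain rfl : q = p.asIdeal := by
    by_contra h
    exact hr1 (Set.mem_biUnion (⟨hq, h⟩ : q ∈ minimalPrimes A \ {p.asIdeal}) hqr)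
  exact ((PrimeSpectrum.le_iff_specializes p r).1 hqr).mem_open hUo hr2

/-- For a flat morphism f : X → Y between locally Noetherian schemes, the preimage under f of any dense
open subset of Y is dense in X. -/
theorem result (X Y : Scheme.{u}) [IsLocallyNoetherian X]
    [IsLocallyNoetherian Y] (f : X ⟶ Y) [Flat f] (U : Y.Opens) (hU : Dense (U : Set Y)) :
    Dense ((f ⁻¹ᵁ U : X.Opens) : Set X) := by
  rw [dense_iff_inter_open]
  intro O hO ⟨x₀, hx₀⟩
  obtain ⟨V, hV, hxV, -⟩ := exists_isAffineOpen_mem_and_subset (x := f x₀) (U := (⊤ : Y.Opens)) trivial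
  obtain ⟨W, hW, hxW, hWle⟩ := exists_isAffineOpen_mem_and_subset (x := x₀)
    (U := (⟨O, hO⟩ : X.Opens) ⊓ f ⁻¹ᵁ V) ⟨hx₀, hxV⟩
  have e : W ≤ f ⁻¹ᵁ V := fun z hz => (hWle hz).2
  haveI : IsNoetherianRing Γ(X, W) := IsLocallyNoetherian.component_noetherian ⟨W, hW⟩
  haveI : IsNoetherianRing Γ(Y, V) := IsLocallyNoetherian.component_noetherian ⟨V, hV⟩
  haveI : Nonempty W := ⟨⟨x₀, hxW⟩⟩
  haveI : Nontrivial Γ(X, W) := Scheme.component_nontrivial X W
  obtain ⟨q, hq, -⟩ := Ideal.exists_minimalPrimes_le (I := (⊥ : Ideal Γ(X, W)))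
    (J := (hW.primeIdealOf ⟨x₀, hxW⟩).asIdeal) bot_le
  haveI : q.IsPrime := hq.1.1
  algebraize [(f.appLE V W e).hom]
  haveI : Module.Flat Γ(Y, V) Γ(X, W) := Flat.flat_appLE f hV hW e
  have hp : q.under Γ(Y, V) ∈ minimalPrimes Γ(Y, V) := by
    refine ⟨⟨inferInstance, bot_le⟩, fun p ⟨hp1, _⟩ hle => ?_⟩
    haveI := hp1
    obtain ⟨P, hPle, hP, hPo⟩ := Ideal.exists_ideal_le_liesOver_of_le (S := Γ(X, W)) (p := p) (q := q.under Γ(Y, V)) q hle
    have : P = q := le_antisymm hPle (hq.2 ⟨hP, bot_le⟩ hPle)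
    rw [← this, hPo.over]
  have hmem : PrimeSpectrum.comap (algebraMap Γ(Y, V) Γ(X, W)) ⟨q, inferInstance⟩ ∈ hV.fromSpec ⁻¹' (U : Set Y) :=
    minimal_mem_of_dense _ (U.2.preimage hV.fromSpec.continuous) (hU.preimage hV.fromSpec.isOpenEmbedding.isOpenMap) _ hp
  refine ⟨hW.fromSpec ⟨q, inferInstance⟩, (hWle ?_).1, ?_⟩
  · have h := Set.mem_range_self (f := hW.fromSpec) (⟨q, inferInstance⟩ : Spec Γ(X, W))
    rw [hW.range_fromSpec] at h
    exact h
  · show f (hW.fromSpec _) ∈ U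
    rw [← Scheme.Hom.comp_apply, ← hV.SpecMap_appLE_fromSpec f hW e, Scheme.Hom.comp_apply]
    exact hmem

end Groth.Agent.S11142
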