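import Groth.Statements.S11144
import Groth.Agent.Lib.DualRing.SchemePull

set_option autoImplicit false
universe u
open CategoryTheory CategoryTheory.Limits AlgebraicGeometry
attribute [local instance] HasDerivedCategory.standard
open Dual3

namespace Groth.Agent.S11144

/-- Let f : X → Y be a flat Gorenstein morphism of finite type between Noetherian schemes, with derived
pull-back Lf^* (assumed to exist; restriction of modules to opens and M ↦ M~ assumed left exact, the
binders of the definition of dualizing complexes). If K in D_QCoh(O_Y) is a dualizing complex on Y,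
then Lf^*K is a dualizing complex on X. No surjectivity of f is assumed. -/
theorem result (X Y : Scheme.{u}) [IsNoetherian X]
    [IsNoetherian Y]
    [∀ (U V : Scheme.{u}) (j : U ⟶ V) [IsOpenImmersion j], PreservesFiniteLimits (Scheme.Modules.restrictFunctor j)]
    [∀ (R : CommRingCat.{u}), PreservesFiniteLimits (tilde.functor R)]
    (f : X ⟶ Y) [Flat f] [LocallyOfFiniteType f] [QuasiCompact f] (hf : Dual3.IsGorensteinMor f)
    [DCoh.HasLpull f] (K : DCoh.DQCoh Y) (hK : Dual2.IsDualizingSch Y K.obj) :
    Dual2.IsDualizingSch X ((DCoh.Lpull f).obj K.obj) := by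
  exact GrothLib.DualRing.isDualizingSch_lpull f
    (fun x => ((GrothLib.GorMor23.isGorensteinAt_iff f x).1 (hf x)).2) hK

end Groth.Agent.S11144
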