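import Groth.Statements.S11146
import Groth.Agent.Lib.LciGrp13.Main
import Groth.Agent.Lib.GorFlat.Rings
import Groth.Agent.Lib.Gor.Localization
import Groth.Agent.Lib.Dim.Scheme
-- import your own Groth.Agent.* helpers here

set_option autoImplicit false
universe u
open CategoryTheory MonoidalCategory CartesianMonoidalCategory MonObj GrpObj AlgebraicGeometry
attribute [local instance] HasDerivedCategory.standard
open GrpSch

namespace Groth.Agent.S11146

/-- Group schemes over Gorenstein rings: let R be a Gorenstein local ring and G a group scheme over Spec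
R which is flat and of finite type over Spec R. Then G is a Gorenstein scheme (locally Noetherian
with all local rings Gorenstein) and has finite Krull dimension. (The published statement concerns
every member of the diagram Spec R ← G ⇇ G ×_R G of the action groupoid, each of which is Spec R or
again a flat finite-type group scheme over Spec R, and adds that O_S[d], for S = Spec R and d the
dimension of R, is then an equivariant dualizing complex; this row states the first assertion for
G.) -/
theorem result (R : Type u) [CommRing R]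
    [LocCoh.IsGorensteinLocalRing R] (G : Over (Spec (CommRingCat.of R))) [GrpObj G] [Flat G.hom]
    [LocallyOfFiniteType G.hom] [QuasiCompact G.hom] :
    Dual3.IsGorenstein G.left ∧ topologicalKrullDim G.left < ⊤ := by
  haveI : IsNoetherianRing R := inferInstance
  haveI : LocallyOfFinitePresentation G.hom := inferInstance
  haveI : IsLocallyNoetherian G.left := LocallyOfFiniteType.isLocallyNoetherian G.hom
  haveI : CompactSpace G.left := QuasiCompact.compactSpace_of_compactSpace G.hom
  have hR : LocCoh.IsGorensteinRing R :=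
    { isGorensteinLocalRing_localization := fun p _ => by
        obtain ⟨n, hn⟩ := LocCoh.IsGorensteinLocalRing.exists_hasInjectiveDimensionLT (A := R)
        exact GrothLib.Gor.isGorensteinLocalRing_localization p hn }
  have hV : IsAffineOpen (⊤ : (Spec (CommRingCat.of R)).Opens) := isAffineOpen_top _
  have hA : LocCoh.IsGorensteinRing Γ(Spec (CommRingCat.of R), ⊤) :=
    GrothLib.GorFlat.isGorensteinRing_of_ringEquiv
      (Scheme.ΓSpecIso (CommRingCat.of R)).commRingCatIsoToRingEquiv.symm hR
  refine ⟨⟨inferInstance, fun x => ?_⟩, ?_⟩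
  · obtain ⟨U, V, e, hx, hs⟩ := GrothLib.LciGrp13.isSyntomicMor G x
    have hlci : GrothLib.LCI6.InLocus G.hom x := by
      refine ⟨U.1, V.1, U.2, V.2, e, hx, ?_⟩
      letI := (G.hom.appLE V.1 U.1 e).hom.toAlgebra
      exact (GrothLib.LCI6.isSyntomic_iff.mp hs).2
    obtain ⟨s, hxs, hl⟩ := GrothLib.LCI6.inLocus_exists hlci U.2 hV le_top hx
    letI := (G.hom.appLE ⊤ (G.left.basicOpen s) le_top).hom.toAlgebra
    have hB : LocCoh.IsGorensteinRing Γ(G.left, G.left.basicOpen s) :=
      GrothLib.GorFlat.isGorensteinRing_of_isLCI hA hl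
    have hW : IsAffineOpen (G.left.basicOpen s) := U.2.basicOpen s
    letI := TopCat.Presheaf.algebra_section_stalk G.left.presheaf (⟨x, hxs⟩ : G.left.basicOpen s)
    haveI := hW.isLocalization_stalk ⟨x, hxs⟩
    haveI := hB.isGorensteinLocalRing_localization (hW.primeIdealOf ⟨x, hxs⟩).asIdeal
    exact (GrothLib.GorFlat.gorenstein_congr
      (IsLocalization.algEquiv (hW.primeIdealOf ⟨x, hxs⟩).asIdeal.primeCompl
        (Localization.AtPrime (hW.primeIdealOf ⟨x, hxs⟩).asIdeal) (G.left.presheaf.stalk x)).toRingEquiv).mp inferInstance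
  · obtain ⟨t, ht⟩ := isCompact_univ.elim_finite_subcover (fun V : G.left.affineOpens => (V.1 : Set G.left))
      (fun V => V.1.2) (fun z _ => by
        obtain ⟨W, hW, hzW, -⟩ := GrothLib.LCI6.exists_affine_le (x := z) (O := (⊤ : G.left.Opens)) trivial
        exact Set.mem_iUnion.mpr ⟨⟨W, hW⟩, hzW⟩)
    obtain ⟨d, hd⟩ : ∃ d : ℕ, ringKrullDim R = d := GrothLib.GorFlat.exists_dim_nat R
    have hb : ∀ U : G.left.affineOpens, ∃ m : ℕ, topologicalKrullDim U.1 ≤ (m : WithBot ℕ∞) := by
      intro U
      rw [GrothLib.Dim.topologicalKrullDim_affineOpen U.2]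
      have hft : (G.hom.appLE ⊤ U.1 le_top).hom.FiniteType :=
        HasRingHomProperty.appLE (P := @LocallyOfFiniteType) G.hom inferInstance ⟨⊤, hV⟩ U le_top
      algebraize [(G.hom.appLE ⊤ U.1 le_top).hom]
      haveI := hA.toIsNoetherian
      obtain ⟨n, α, hα⟩ := Algebra.FiniteType.iff_quotient_mvPolynomial''.mp
        (inferInstance : Algebra.FiniteType Γ(Spec (CommRingCat.of R), ⊤) Γ(G.left, U.1))
      refine ⟨d + n, (ringKrullDim_le_of_surjective α.toRingHom hα).trans ?_⟩
      rw [MvPolynomial.ringKrullDim_of_isNoetherianRing,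
        ringKrullDim_eq_of_ringEquiv (Scheme.ΓSpecIso (CommRingCat.of R)).commRingCatIsoToRingEquiv, hd]
      simp
    choose m hm using hb
    refine lt_of_le_of_lt (GrothLib.Dim.topologicalKrullDim_le_of_cover (fun V : t => V.1.1)
      (fun z => ?_) (n := ((t.sup m : ℕ) : WithBot ℕ∞)) fun V => (hm V.1).trans ?_) ?_
    · obtain ⟨V, hVt, hz⟩ := Set.mem_iUnion₂.mp (ht (Set.mem_univ z))
      exact ⟨⟨V, hVt⟩, hz⟩
    · exact_mod_cast Finset.le_sup (f := m) V.2
    · exact WithBot.coe_lt_coe.mpr (ENat.coe_lt_top _)

end Groth.Agent.S11146
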