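import Groth.Statements.S16001
import Mathlib.RingTheory.Etale.Basic
-- import your own Groth.Agent.* helpers here

set_option autoImplicit false
universe u
open FrobAlg

namespace Groth.Agent.S16001

/-- Let A be a commutative ring of prime characteristic p and B a commutative A-algebra of
characteristic p such that the relative Frobenius B ⊗_{A,Frob} A → B, b ⊗ a ↦ b^p a, is bijective
(that is, Spec B → Spec A is relatively perfect; no finiteness condition is imposed). Then B is
formally étale over A. (The source proves that every perfect algebraic stack over an algebraic space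
of characteristic p is formally étale over it; this is the case of an affine scheme over an affine
base.) -/
theorem result (p : ℕ) [Fact p.Prime] (A : Type u) [CommRing A] [CharP A p]
    (B : Type u) [CommRing B] [Algebra A B] [CharP B p]
    (h : Function.Bijective (FrobAlg.relFrob p A B)) : Algebra.FormallyEtale A B := by
  classical
  open FrobAlg in
  rw [Algebra.FormallyEtale.iff_comp_bijective]
  intro C _ _ I hI
  rcases subsingleton_or_nontrivial C with hC | hC
  · haveI : Subsingleton (C ⧸ I) := Ideal.Quotient.mk_surjective.subsingleton
    refine ⟨fun f g _ => AlgHom.ext fun b => Subsingleton.elim _ _, fun f => ?_⟩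
    have h1 : (1 : C) = 0 := Subsingleton.elim _ _
    exact ⟨{ toFun := fun _ => 0, map_one' := h1.symm, map_mul' := fun _ _ => (mul_zero _).symm,
             map_zero' := rfl, map_add' := fun _ _ => (add_zero _).symm,
             commutes' := fun _ => Subsingleton.elim _ _ }, AlgHom.ext fun b => Subsingleton.elim _ _⟩
  haveI : CharP C p := (CharP.charP_iff_prime_eq_zero Fact.out).mpr (by
    rw [← map_natCast (algebraMap A C), CharP.cast_eq_zero, map_zero])
  have hnil : ∀ x ∈ I, frobenius C p x = 0 := fun x hx => by
    have h2 : x ^ 2 ∈ I ^ 2 := Ideal.pow_mem_pow hx 2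
    rw [hI, Ideal.mem_bot] at h2
    rw [frobenius_def, ← Nat.add_sub_cancel' (Fact.out : p.Prime).two_le, pow_add, h2, zero_mul]
  let Φ : C ⧸ I →+* C := Ideal.Quotient.lift I (frobenius C p) hnil
  have hΦ : ∀ x, Ideal.Quotient.mk I (Φ x) = x ^ p := fun x => by
    obtain ⟨x, rfl⟩ := Ideal.Quotient.mk_surjective x
    exact map_pow _ _ _
  let e := RingEquiv.ofBijective (relFrob p A B) h
  have hinl : ∀ (b : B) (a : Twist p A), relFrob p A B (b ⊗ₜ a) = b ^ p * algebraMap A B ((toTwist p A).symm a) := fun b a => by
    simp [relFrob, frobHom, inclHom, frobenius_def]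
  refine ⟨fun f g hfg => AlgHom.ext fun b => ?_, fun f => ?_⟩
  · obtain ⟨z, rfl⟩ := h.2 b
    induction z using TensorProduct.induction_on with
    | zero => simp
    | add x y hx hy => simp only [map_add, hx, hy]
    | tmul b a =>
      have hb : Ideal.Quotient.mk I (f b) = Ideal.Quotient.mk I (g b) := AlgHom.congr_fun hfg b
      have hp' : f b ^ p = g b ^ p := congrArg Φ hb
      rw [hinl, map_mul, map_mul, map_pow, map_pow, hp', AlgHom.commutes, AlgHom.commutes]
  · let fH : B →ₐ[A] Target p A C :=
      { toRingHom := (toTarget p A C : C →+* Target p A C).comp (Φ.comp f.toRingHom)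
        commutes' := fun a => by
          change toTarget p A C (Φ (f (algebraMap A B a))) = _
          rw [AlgHom.commutes, algebraMap_target]
          rfl }
    let G : BaseChange p A B →+* C := ((toTarget p A C).symm : Target p A C →+* C).comp
      (Algebra.TensorProduct.lift fH (inclHom p A C) (fun _ _ => Commute.all _ _)).toRingHom
    have hG : ∀ (b : B) (a : Twist p A), G (b ⊗ₜ a) = Φ (f b) * algebraMap A C ((toTwist p A).symm a) := fun b a => by
      simp [G, fH, inclHom]
    refine ⟨{ toRingHom := G.comp e.symm.toRingHom, commutes' := fun a => ?_ }, AlgHom.ext fun b => ?_⟩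
    · change G (e.symm (algebraMap A B a)) = _
      have ha : algebraMap A B a = e ((1 : B) ⊗ₜ toTwist p A a) := by
        change _ = relFrob p A B ((1 : B) ⊗ₜ[A] toTwist p A a)
        rw [hinl, one_pow, one_mul, RingEquiv.symm_apply_apply]
      rw [ha, RingEquiv.symm_apply_apply, hG, map_one f, map_one Φ, one_mul, RingEquiv.symm_apply_apply]
    · obtain ⟨z, rfl⟩ := e.surjective b
      change Ideal.Quotient.mk I (G (e.symm (e z))) = f (relFrob p A B z)
      rw [RingEquiv.symm_apply_apply]
      induction z using TensorProduct.induction_on with
      | zero => simp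
      | add x y hx hy => simp only [map_add, hx, hy]
      | tmul b a =>
        rw [hG, hinl, map_mul, map_mul, map_pow, hΦ, AlgHom.commutes]
        rfl

end Groth.Agent.S16001
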