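import Groth.Statements.S11151
import Groth.Agent.Lib.WayOut.Basic

set_option autoImplicit false
universe w w' v v' u u'
open CategoryTheory CategoryTheory.Limits
open CohDer

namespace Groth.Agent.S11151

/-- Fix abelian categories A and B, A' a class of objects of A closed under isomorphisms and containing
the zero objects, F and G triangulated functors from D(A) to D(B) which are way-out in both
directions (way-out right: given n₁ there is n₂ such that H^i(Y) = 0 for i < n₂ implies H^i(F Y) = 0
for i < n₁; way-out left: the same with the inequalities reversed), and η : F ⟶ G a morphism of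
triangulated functors. If η_X is an isomorphism for every object X of A' placed in degree 0, then
η_X is an isomorphism for every object X of D(A) whose cohomology objects all lie in A'. (Stated for
functors defined on all of D(A).) -/
theorem result {A : Type u} [Category.{v} A] [Abelian A] [HasDerivedCategory.{w} A]
    {B : Type u'} [Category.{v'} B] [Abelian B] [HasDerivedCategory.{w'} B]
    (P : ObjectProperty A) [P.IsClosedUnderIsomorphisms] (hP : ∀ Z : A, IsZero Z → P Z)
    (F G : DerivedCategory A ⥤ DerivedCategory B) [F.CommShift ℤ] [G.CommShift ℤ]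
    [F.IsTriangulated] [G.IsTriangulated] (η : F ⟶ G) [NatTrans.CommShift η ℤ]
    (hF : ∀ n₁ : ℤ, ∃ n₂ : ℤ, ∀ Y : DerivedCategory A, Y.IsGE n₂ → (F.obj Y).IsGE n₁)
    (hF' : ∀ n₁ : ℤ, ∃ n₂ : ℤ, ∀ Y : DerivedCategory A, Y.IsLE n₂ → (F.obj Y).IsLE n₁)
    (hG : ∀ n₁ : ℤ, ∃ n₂ : ℤ, ∀ Y : DerivedCategory A, Y.IsGE n₂ → (G.obj Y).IsGE n₁)
    (hG' : ∀ n₁ : ℤ, ∃ n₂ : ℤ, ∀ Y : DerivedCategory A, Y.IsLE n₂ → (G.obj Y).IsLE n₁)
    (hη : ∀ X : A, P X → IsIso (η.app ((DerivedCategory.singleFunctor A 0).obj X)))
    (X : DerivedCategory A)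
    (hX : ∀ i : ℤ, P ((DerivedCategory.homologyFunctor A i).obj X)) :
    IsIso (η.app X) := by
  exact GrothLib.WayOut.isIso_of_both η P hη hF hG hF' hG' X hX

end Groth.Agent.S11151
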