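import Groth.Statements.S11152
import Groth.Agent.Lib.WayOut.Basic

set_option autoImplicit false
universe w w' v v' u u'
open CategoryTheory CategoryTheory.Limits
open CohDer

namespace Groth.Agent.S11152

/-- Fix abelian categories A and B, P a class of objects of A such that every object of A admits a
monomorphism into an object of P, F and G triangulated functors from D(A) to D(B) which are both
way-out right (given n₁ there is n₂ such that H^i(Y) = 0 for i < n₂ implies H^i(F Y) = 0 for i <
n₁), and η : F ⟶ G a morphism of triangulated functors. If η_X is an isomorphism for every object X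
of P placed in degree 0, then η_X is an isomorphism for every object X of A placed in degree 0.
(Stated for functors defined on all of D(A) and the thick subcategory taken to be all of A.) -/
theorem result {A : Type u} [Category.{v} A] [Abelian A] [HasDerivedCategory.{w} A]
    {B : Type u'} [Category.{v'} B] [Abelian B] [HasDerivedCategory.{w'} B]
    (P : ObjectProperty A) (hP : ∀ X : A, ∃ (Y : A) (i : X ⟶ Y), P Y ∧ Mono i)
    (F G : DerivedCategory A ⥤ DerivedCategory B) [F.CommShift ℤ] [G.CommShift ℤ]
    [F.IsTriangulated] [G.IsTriangulated] (η : F ⟶ G) [NatTrans.CommShift η ℤ]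
    (hF : ∀ n₁ : ℤ, ∃ n₂ : ℤ, ∀ Y : DerivedCategory A, Y.IsGE n₂ → (F.obj Y).IsGE n₁)
    (hG : ∀ n₁ : ℤ, ∃ n₂ : ℤ, ∀ Y : DerivedCategory A, Y.IsGE n₂ → (G.obj Y).IsGE n₁)
    (hη : ∀ X : A, P X → IsIso (η.app ((DerivedCategory.singleFunctor A 0).obj X)))
    (X : A) :
    IsIso (η.app ((DerivedCategory.singleFunctor A 0).obj X)) := by
  exact GrothLib.WayOut.isIso_single_of_cogenerating η P hη hF hG hP X

end Groth.Agent.S11152
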