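import Groth.Statements.S11153
import Groth.Agent.Lib.CohDer19.InjAmp

set_option autoImplicit false
universe w v u
open CategoryTheory CategoryTheory.Limits
open CohDer

namespace Groth.Agent.S11153

/-- (i) ⇔ (iii): let A be an abelian category with enough injectives and K a bounded below cochain
complex of objects of A. Then K admits a quasi-isomorphism into a bounded complex of injective
objects of A if and only if there is an integer n₀ such that Hom_{D(A)}(Y[0], K[i]) = 0 for every
object Y of A and every i > n₀. -/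
theorem result {A : Type u} [Category.{v} A] [Abelian A]
    [HasDerivedCategory.{w} A] [EnoughInjectives A]
    (K : CochainComplex A ℤ) (a : ℤ) [K.IsStrictlyGE a] :
    (∃ (I : CochainComplex A ℤ) (b c : ℤ) (f : K ⟶ I), I.IsStrictlyGE b ∧ I.IsStrictlyLE c ∧
        (∀ n : ℤ, Injective (I.X n)) ∧ QuasiIso f) ↔
      ∃ n₀ : ℤ, ∀ (Y : A) (i : ℤ), n₀ < i →
        ∀ φ : (DerivedCategory.singleFunctor A 0).obj Y ⟶ (DerivedCategory.Q.obj K)⟦i⟧, φ = 0 := by
  open GrothLib.CohDer19.InjAmp DerivedCategory in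
  constructor
  · rintro ⟨I, b, c, f, _, _, hI, hf⟩
    refine ⟨c, fun Y i hi φ => ?_⟩
    have : IsIso (Q.map f) := (isIso_Q_map_iff_quasiIso A f).2 hf
    have : I.IsKInjective := CochainComplex.isKInjective_of_injective I b
    have h0 := (hom_shift_eq_zero_iff (Q.obj I) Y i).2 ((hom_eq_zero_iff I i Y).2 fun g _ =>
      ⟨0, (I.isZero_of_isStrictlyLE c i hi).eq_of_tgt _ _⟩) (φ ≫ (Q.map f)⟦i⟧')
    exact (cancel_mono ((Q.map f)⟦i⟧')).1 (h0.trans zero_comp.symm)
  · rintro ⟨n₀, h⟩
    obtain ⟨L, hL, i, hi⟩ := CochainComplex.Plus.exists_quasiIso_injective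
      (C := A) ⟨K, a, inferInstance⟩ a
    let M : CochainComplex A ℤ :=
      ((InjectiveObject.ι A).mapHomologicalComplex (ComplexShape.up ℤ)).obj L.obj
    have : M.IsStrictlyGE a :=
      (CochainComplex.isStrictlyGE_mapHomologicalComplex_obj_iff _ (InjectiveObject.ι _) _).2 hL
    have hM : ∀ n, Injective (M.X n) := fun n => (L.obj.X n).property
    let g : K ⟶ M := i.hom
    have : QuasiIso g := hi
    have : IsIso (Q.map g) := (isIso_Q_map_iff_quasiIso A g).2 inferInstance
    obtain ⟨hT₁, hT₂, hT₃⟩ := truncation M a n₀ hM fun Y j hj ψ => by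
      have := (hom_shift_eq_zero_iff (Q.obj K) Y j).1 (h Y j hj) (ψ ≫ inv (Q.map g))
      exact (cancel_mono (inv (Q.map g))).1 (this.trans zero_comp.symm)
    have : IsIso (Q.map (M.ιTruncLE n₀)) := (isIso_Q_map_iff_quasiIso A _).2 hT₃
    have : (M.truncLE n₀).IsKInjective := CochainComplex.isKInjective_of_injective _ a
    obtain ⟨f, hf⟩ := exists_lift (P := K) (L := M.truncLE n₀) (Q.map g ≫ inv (Q.map (M.ιTruncLE n₀)))
    refine ⟨M.truncLE n₀, a, n₀, f, hT₁, inferInstance, hT₂, (isIso_Q_map_iff_quasiIso A f).1 ?_⟩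
    rw [hf]; infer_instance

end Groth.Agent.S11153
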