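import Groth.Statements.S11154
import Groth.Agent.Lib.InjSky20.Basic
import Groth.Agent.Lib.InjMod.Matlis

set_option autoImplicit false
set_option maxHeartbeats 400000
set_option linter.style.haveILetI false
set_option backward.isDefEq.respectTransparency false
universe u
open CategoryTheory CategoryTheory.Limits AlgebraicGeometry
open Coherent

namespace Groth.Agent.S11154

/-- Let X be a locally Noetherian scheme, x a point of X, and k(x) → E an injective hull of the residue
field over the local ring O_{X,x}. Then the direct image along Spec O_{X,x} ⟶ X of the sheaf E~ on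
Spec O_{X,x} is an injective O_X-module (an injective object of the category of O_X-modules), and it
is quasi-coherent. -/
theorem result {X : Scheme.{u}} [IsLocallyNoetherian X]
    (x : X) (E : Type u) [AddCommGroup E] [Module (X.presheaf.stalk x) E]
    (i : IsLocalRing.ResidueField (X.presheaf.stalk x) →ₗ[X.presheaf.stalk x] E)
    (hi : InjHull.IsInjectiveHull i) :
    Injective ((Scheme.Modules.pushforward (X.fromSpecStalk x)).obj
        (tilde (ModuleCat.of (X.presheaf.stalk x) E))) ∧
      Coh.IsQCoh ((Scheme.Modules.pushforward (X.fromSpecStalk x)).obj
        (tilde (ModuleCat.of (X.presheaf.stalk x) E))) := by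
  let M : ModuleCat.{u} (X.presheaf.stalk x) := ModuleCat.of (X.presheaf.stalk x) E
  have hM : LocCoh.IsPowerTorsion (IsLocalRing.maximalIdeal (X.presheaf.stalk x)) M :=
    GrothLib.Matlis.isPowerTorsion_of_hull (m := IsLocalRing.maximalIdeal (X.presheaf.stalk x)) (f := i) hi
  haveI : Injective M := Module.injective_object_of_injective_module (X.presheaf.stalk x) E (inj := hi.isInjective)
  haveI := GrothLib.InjSky20.injective_tilde M hM
  haveI := GrothLib.InjSky20.flat_fromSpecStalk x
  exact ⟨GrothLib.InjSky20.injective_pushforward_of_flat (X.fromSpecStalk x) (tilde M),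
    GrothLib.QCoh.isQuasicoherent_pushforward (X.fromSpecStalk x) (tilde M)⟩

end Groth.Agent.S11154
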