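import Groth.Statements.S11158
import Groth.Agent.Lib.IdealACC20.Chain

set_option autoImplicit false
set_option maxHeartbeats 400000
set_option linter.style.haveILetI false
set_option backward.isDefEq.respectTransparency false
universe u
open CategoryTheory CategoryTheory.Limits AlgebraicGeometry
attribute [local instance] HasDerivedCategory.standard
open Coherent

namespace Groth.Agent.S11158

/-- Let X be a locally Noetherian scheme and j : U ⟶ X an open immersion from an affine scheme. Then the
O_X-module j_! O_U (extension by zero of the structure sheaf of U) is a Noetherian object: every
increasing sequence of subobjects of j_! O_U in the category of O_X-modules is eventually constant. -/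
theorem result {U X : Scheme.{u}} [IsLocallyNoetherian X]
    [IsAffine U] (j : U ⟶ X) [IsOpenImmersion j]
    (c : ℕ →o Subobject (CxOX.extZeroUnit j)) :
    ∃ n : ℕ, ∀ m : ℕ, n ≤ m → c n = c m := by
  haveI : IsLocallyNoetherian U := isLocallyNoetherian_of_isOpenImmersion j
  haveI : AlgebraicGeometry.IsNoetherian U := {}
  exact GrothLib.IdealACC20.exists_stationary_extZeroUnit j c

end Groth.Agent.S11158
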