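import Groth.Statements.S11159
import Groth.Agent.Lib.CohDer19.InjAmp

set_option autoImplicit false
universe w v u
open CategoryTheory CategoryTheory.Limits CategoryTheory.Pretriangulated
open CohDer

namespace Groth.Agent.S11159

/-- Let A be an abelian category with enough injectives and X ⟶ Y ⟶ Z ⟶ X⟦1⟧ a distinguished triangle in
D(A). If X and Z are each isomorphic in D(A) to a bounded complex of injective objects of A, then so
is Y. -/
theorem result {A : Type u} [Category.{v} A] [Abelian A]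
    [HasDerivedCategory.{w} A] [EnoughInjectives A]
    (T : Triangle (DerivedCategory A)) (hT : T ∈ distTriang (DerivedCategory A))
    (h₁ : (∃ (I : CochainComplex A ℤ) (b c : ℤ), I.IsStrictlyGE b ∧ I.IsStrictlyLE c ∧
        (∀ n : ℤ, Injective (I.X n)) ∧ Nonempty (T.obj₁ ≅ DerivedCategory.Q.obj I)))
    (h₃ : (∃ (I : CochainComplex A ℤ) (b c : ℤ), I.IsStrictlyGE b ∧ I.IsStrictlyLE c ∧
        (∀ n : ℤ, Injective (I.X n)) ∧ Nonempty (T.obj₃ ≅ DerivedCategory.Q.obj I))) :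
    (∃ (I : CochainComplex A ℤ) (b c : ℤ), I.IsStrictlyGE b ∧ I.IsStrictlyLE c ∧
        (∀ n : ℤ, Injective (I.X n)) ∧ Nonempty (T.obj₂ ≅ DerivedCategory.Q.obj I)) := by
  open GrothLib.CohDer19.InjAmp in
  obtain ⟨Q₁, c, d, hc, hd, hQi, ⟨e₁⟩⟩ := h₁
  obtain ⟨P₀, a, b, ha, hb, hPi, ⟨e₃⟩⟩ := h₃
  let P := P₀⟦(-1 : ℤ)⟧
  have : P.IsStrictlyGE (a + 1) := P₀.isStrictlyGE_shift a (-1) (a + 1) (by omega)
  have : P.IsStrictlyLE (b + 1) := P₀.isStrictlyLE_shift b (-1) (b + 1) (by omega)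
  have : Q₁.IsKInjective := CochainComplex.isKInjective_of_injective Q₁ c
  let eP : DerivedCategory.Q.obj P ≅ T.obj₃⟦(-1 : ℤ)⟧ :=
    (DerivedCategory.Q.commShiftIso (-1 : ℤ)).app P₀ ≪≫
      (shiftFunctor (DerivedCategory A) (-1 : ℤ)).mapIso e₃.symm
  obtain ⟨f, hf⟩ := exists_lift (L := Q₁) (eP.hom ≫ T.invRotate.mor₁ ≫ e₁.hom)
  let e := isoTriangleOfIso₁₂ _ T.invRotate
    (DerivedCategory.mappingCone_triangle_distinguished f) (inv_rot_of_distTriang T hT) eP e₁.symm (by
      change DerivedCategory.Q.map f ≫ e₁.inv = eP.hom ≫ T.invRotate.mor₁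
      rw [hf]
      exact (Category.assoc _ _ _).trans (congrArg (eP.hom ≫ ·) ((Category.assoc _ _ _).trans
        ((congrArg (T.invRotate.mor₁ ≫ ·) e₁.hom_inv_id).trans (Category.comp_id _)))))
  refine ⟨CochainComplex.mappingCone f, min a c, max b d, ?_, ?_, fun n => ?_,
    ⟨(Triangle.π₃.mapIso e).symm⟩⟩
  · rw [CochainComplex.isStrictlyGE_iff]
    intro i hi
    rw [CochainComplex.mappingCone.isZero_X_iff]
    exact ⟨P.isZero_of_isStrictlyGE (a + 1) _ (by omega), Q₁.isZero_of_isStrictlyGE c i (by omega)⟩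
  · rw [CochainComplex.isStrictlyLE_iff]
    intro i hi
    rw [CochainComplex.mappingCone.isZero_X_iff]
    exact ⟨P.isZero_of_isStrictlyLE (b + 1) _ (by omega), Q₁.isZero_of_isStrictlyLE d i (by omega)⟩
  · have : Injective (P.X (n + 1)) := hPi (n + 1 + -1)
    have := hQi n
    exact Injective.of_iso
      (HomologicalComplex.homotopyCofiber.XIsoBiprod f n (n + 1) (by simp)).symm inferInstance

end Groth.Agent.S11159
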