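import Groth.Statements.S11160
import Groth.Agent.Lib.CohDer19.InjAmp
import Mathlib.Algebra.Homology.DerivedCategory.ExactFunctor

set_option autoImplicit false
universe w w' v v' u u'
open CategoryTheory CategoryTheory.Limits
open CohDer

namespace Groth.Agent.S11160

section
variable {A' : Type u'} [Category.{v'} A'] [Abelian A'] {A : Type u} [Category.{v} A] [Abelian A]
  (ι : A' ⥤ A) [PreservesFiniteLimits ι] [ι.Full] [ι.Faithful]
  (hinj : ∀ X' : A', ∃ (Y' : A') (i : X' ⟶ Y'), Mono i ∧ Injective (ι.obj Y'))

include hinj in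
omit [Abelian A'] [Abelian A] in
lemma injective_map (J : A') [Injective J] : Injective (ι.obj J) := by
  obtain ⟨Y, i, hi, hY⟩ := hinj J
  exact Injective.mk fun g f hf => by
    obtain ⟨h, hh⟩ := hY.factors (g ≫ ι.map i) f
    refine ⟨h ≫ ι.map (Injective.factorThru (𝟙 J) i), ?_⟩
    rw [reassoc_of% hh, ← ι.map_comp, Injective.comp_factorThru, CategoryTheory.Functor.map_id,
      Category.comp_id]

include hinj in
lemma enoughInjectives : EnoughInjectives A' where
  presentation X := by
    obtain ⟨Y, i, hi, hY⟩ := hinj X
    have : Injective Y := ⟨fun g f _ => by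
      obtain ⟨h, hh⟩ := hY.factors (ι.map g) (ι.map f)
      exact ⟨ι.preimage h, ι.map_injective (by rw [ι.map_comp, ι.map_preimage, hh])⟩⟩
    exact ⟨{ J := Y, f := i }⟩

end

/-- Let ι : A' ⥤ A be an exact fully faithful functor of abelian categories whose essential image is
closed under extensions (a thick abelian subcategory), and suppose every object of A' admits a
monomorphism into an object of A' whose image in A is injective (A' has enough A-injectives). Then
the induced triangulated functor D(A') ⥤ D(A) is fully faithful on cohomologically bounded below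
objects. -/
theorem result {A' : Type u'} [Category.{v'} A'] [Abelian A'] [HasDerivedCategory.{w'} A']
    {A : Type u} [Category.{v} A] [Abelian A] [HasDerivedCategory.{w} A]
    (ι : A' ⥤ A) [ι.Additive] [PreservesFiniteLimits ι] [PreservesFiniteColimits ι] [ι.Full] [ι.Faithful]
    (hext : ∀ S : ShortComplex A, S.ShortExact → ι.essImage S.X₁ → ι.essImage S.X₃ → ι.essImage S.X₂)
    (hinj : ∀ X' : A', ∃ (Y' : A') (i : X' ⟶ Y'), Mono i ∧ Injective (ι.obj Y'))
    (X Y : DerivedCategory A') (a b : ℤ) [X.IsGE a] [Y.IsGE b] :
    Function.Bijective (fun f : X ⟶ Y => ι.mapDerivedCategory.map f) := by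
  have := enoughInjectives ι hinj
  obtain ⟨M, _, hM, ⟨eY⟩⟩ := GrothLib.CohDer19.InjAmp.exists_injective_rep Y b
  obtain ⟨N, _, ⟨eX⟩⟩ := DerivedCategory.exists_iso_Q_obj_of_isGE X a
  let Fh := ι.mapHomotopyCategory (ComplexShape.up ℤ)
  have hιM : ∀ n, Injective (((ι.mapHomologicalComplex (ComplexShape.up ℤ)).obj M).X n) := fun n => by
    have := hM n
    exact injective_map ι hinj (M.X n)
  have hK : M.IsKInjective := CochainComplex.isKInjective_of_injective M b
  have hιK : CochainComplex.IsKInjective ((ι.mapHomologicalComplex (ComplexShape.up ℤ)).obj M) :=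
    CochainComplex.isKInjective_of_injective _ b
  let N' := (HomotopyCategory.quotient A' (ComplexShape.up ℤ)).obj N
  let M' := (HomotopyCategory.quotient A' (ComplexShape.up ℤ)).obj M
  let e₁ : DerivedCategory.Qh.obj N' ≅ X :=
    (DerivedCategory.quotientCompQhIso A').app N ≪≫ eX.symm
  let e₂ : DerivedCategory.Qh.obj M' ≅ Y := (DerivedCategory.quotientCompQhIso A').app M ≪≫ eY
  let d := ι.mapDerivedCategoryFactorsh
  have hcore : Function.Bijective
      (fun f : DerivedCategory.Qh.obj N' ⟶ DerivedCategory.Qh.obj M' => ι.mapDerivedCategory.map f) := by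
    have h₁ := CochainComplex.IsKInjective.Qh_map_bijective N' M
    have h₂ := CochainComplex.IsKInjective.Qh_map_bijective (Fh.obj N')
      ((ι.mapHomologicalComplex (ComplexShape.up ℤ)).obj M)
    have h₃ : Function.Bijective (fun k : N' ⟶ M' => ι.mapDerivedCategory.map (DerivedCategory.Qh.map k)) := by
      have : (fun k : N' ⟶ M' => ι.mapDerivedCategory.map (DerivedCategory.Qh.map k)) =
          (Iso.homCongr (d.app N').symm (d.app M').symm) ∘
            (DerivedCategory.Qh.map (X := Fh.obj N') (Y := Fh.obj M')) ∘ (Fh.map (X := N') (Y := M')) := by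
        funext k
        have h := d.hom.naturality k
        dsimp at h ⊢
        simp only [Iso.homCongr_apply, Iso.symm_inv, Iso.app_hom, Iso.symm_hom, Iso.app_inv]
        rw [← reassoc_of% h, Iso.hom_inv_id_app]
        exact (Category.comp_id _).symm
      rw [this]
      exact (Equiv.bijective _).comp (h₂.comp ⟨Fh.map_injective, Fh.map_surjective⟩)
    exact (Function.Bijective.of_comp_iff _ h₁).1 h₃
  have : (fun f : X ⟶ Y => ι.mapDerivedCategory.map f) =
      (Iso.homCongr (ι.mapDerivedCategory.mapIso e₁) (ι.mapDerivedCategory.mapIso e₂)) ∘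
        (fun f => ι.mapDerivedCategory.map f) ∘ (Iso.homCongr e₁ e₂).symm := by
    funext f
    simp [← Functor.map_comp]
  rw [this]
  exact (Equiv.bijective _).comp (hcore.comp (Equiv.bijective _))

end Groth.Agent.S11160
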