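import Groth.Statements.S11163
import Groth.Agent.Lib.InjTilde20.Cyclic
import Groth.Agent.Lib.ExtTilde20.Coh
import Groth.Agent.Lib.LocFreeDual20.Ext

set_option autoImplicit false
set_option maxHeartbeats 400000
set_option linter.style.haveILetI false
set_option backward.isDefEq.respectTransparency false
universe u
open CategoryTheory CategoryTheory.Limits AlgebraicGeometry
attribute [local instance] HasDerivedCategory.standard
open Coherent

namespace Groth.Agent.S11163

/-- (i) ⇔ (iv): let X be a locally Noetherian scheme and F a quasi-coherent O_X-module. Then F is an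
injective O_X-module if and only if the sheaf Ext¹_{O_X}(G, F) (the first right derived functor of
the sheaf-Hom functor Hom_{O_X}(G, -), here the right adjoint of G ⊗ -) vanishes for every coherent
O_X-module G. (The binders asserting that G ⊗ - has a right adjoint, that this adjoint is additive
and that O_X-modules have injective resolutions always hold.) -/
theorem result {X : Scheme.{u}} [IsLocallyNoetherian X]
    [HasInjectiveResolutions X.Modules] (F : X.Modules) (hF : Coh.IsQCoh F) :
    Injective F ↔ ∀ (G : X.Modules) [DCoh.HasSheafHom G] [(DCoh.sheafHom G).Additive],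
      Coh.IsCoh G → IsZero (((DCoh.sheafHom G).rightDerived 1).obj F) := by
  haveI : F.IsQuasicoherent := hF
  constructor
  · intro hI G _ _ _
    haveI := hI
    exact Functor.isZero_rightDerived_obj_injective_succ _ 0 F
  · intro h
    refine GrothLib.InjTilde20.injective_of_sections F fun U hU => ?_
    haveI : IsNoetherianRing Γ(X, U) := IsLocallyNoetherian.component_noetherian ⟨U, hU⟩
    refine GrothLib.InjTilde20.injective_of_ext_one (GrothLib.ExtTilde20.secMod (U := U) F) fun I => ?_
    obtain ⟨G, hG, ⟨e⟩⟩ := GrothLib.InjTilde20.exists_isCoh_cyclic hU I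
    haveI : G.IsQuasicoherent := hG.1
    haveI := GrothLib.LocFreeHom.hasSheafHom G
    haveI := GrothLib.SheafCoh.hasSheafHom X.sheaf G
    haveI := GrothLib.ExtTilde20.hasInjectiveResolutions_mod X
    haveI : Module.Finite Γ(X, U) Γ(G, U) := Module.Finite.equiv e
    haveI hadd : (DCoh.sheafHom G).Additive :=
      have : Limits.PreservesLimitsOfSize.{0, 0} (DCoh.sheafHom G) :=
        (DCoh.sheafHomAdj G).rightAdjoint_preservesLimits
      Functor.additive_of_preserves_binary_products _
    haveI : (ModSite.sheafHom (O := X.sheaf) G : X.Modules ⥤ X.Modules).Additive :=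
      GrothLib.HomRestrict20.additive_sheafHom G
    have hz : IsZero (((ModSite.sheafHom (O := X.sheaf) G : X.Modules ⥤ X.Modules).rightDerived 1).obj F) :=
      (h G hG).of_iso ((GrothLib.SheafCoh.rightDerivedCongr (GrothLib.LocFreeDual20.siteHomIso G) 1).app F)
    obtain ⟨a⟩ := GrothLib.ExtTilde20.nonempty_sections_extSh_linearEquiv hU G F 1
    let Q : X.Modules := (ModSite.extSh (O := X.sheaf) G 1).obj F
    haveI : Subsingleton Γ(Q, U) := by
      have hQ : IsZero Q := hz
      refine ⟨fun s t => ?_⟩
      have h0 := hQ.eq_of_src (𝟙 Q) 0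
      have h1 : ∀ s : Γ(Q, U), s = 0 := fun s =>
        congrArg (fun φ : Q ⟶ Q => φ.app U s) h0
      rw [h1 s, h1 t]
    haveI : Subsingleton (Abelian.Ext (GrothLib.ExtTilde20.secMod (U := U) G)
        (GrothLib.ExtTilde20.secMod (U := U) F) 1) := a.symm.toEquiv.subsingleton
    let c : GrothLib.ExtTilde20.secMod (U := U) G ≅ ModuleCat.of Γ(X, U) (Γ(X, U) ⧸ I) :=
      e.symm.toModuleIso
    have hinj : Function.Injective fun x : Abelian.Ext (ModuleCat.of Γ(X, U) (Γ(X, U) ⧸ I))
        (GrothLib.ExtTilde20.secMod (U := U) F) 1 => (Abelian.Ext.mk₀ c.hom).comp x (zero_add 1) := by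
      intro x y hxy
      have h2 := congrArg (fun z => (Abelian.Ext.mk₀ c.inv).comp z (zero_add 1)) hxy
      simpa only [Abelian.Ext.mk₀_comp_mk₀_assoc, Iso.inv_hom_id, Abelian.Ext.mk₀_id_comp] using h2
    exact hinj.subsingleton

end Groth.Agent.S11163
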