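import Groth.Statements.S11164
import Groth.Agent.Lib.OX.Resolution
import Groth.Agent.Lib.OX.ClosedPush

set_option autoImplicit false
set_option maxHeartbeats 400000
set_option linter.style.haveILetI false
set_option backward.isDefEq.respectTransparency.types false
universe u
open CategoryTheory CategoryTheory.Limits AlgebraicGeometry
attribute [local instance] HasDerivedCategory.standard
open Coherent

namespace Groth.Agent.S11164

/-- Every O_X-module on a scheme X is a quotient of a flat O_X-module; precisely, for every O_X-module F
there are opens U_i of X and an epimorphism ∐ j_{U_i !} O_{U_i} ⟶ F, and such a direct sum of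
extensions by zero of structure sheaves of opens is flat (all its stalks are flat over the local
rings). -/
theorem result {X : Scheme.{u}} (F : X.Modules) :
    ∃ (ι : Type u) (U : ι → X.Opens) (p : (∐ fun i => CxOX.extZeroUnit (U i).ι) ⟶ F),
      Epi p ∧ FlatMod.IsFlat (∐ fun i => CxOX.extZeroUnit (U i).ι) := by
  let e := Sigma.mapIso fun s : Σ U : X.Opens, F.val.obj (Opposite.op U) => GrothLib.OX.genExtZeroIso s.1
  refine ⟨Σ U : X.Opens, F.val.obj (Opposite.op U), fun s => s.1, e.inv ≫ GrothLib.OX.coverπ F,
    @epi_comp _ _ _ _ _ e.inv inferInstance _ (GrothLib.OX.epi_coverπ F), ?_⟩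
  exact GrothLib.OX.flat_of_iso e (GrothLib.OX.flat_coverObj F)

end Groth.Agent.S11164
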