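import Groth.Statements.S11166
import Groth.Agent.S11160
import Groth.Agent.S11161
import Groth.Agent.Lib.InjQCoh20.Embed
import Groth.Agent.Lib.QCoh.Extension

set_option autoImplicit false
set_option maxHeartbeats 400000
set_option linter.style.haveILetI false
set_option backward.isDefEq.respectTransparency false
universe u
open CategoryTheory CategoryTheory.Limits AlgebraicGeometry
attribute [local instance] HasDerivedCategory.standard
open Coherent

namespace Groth.Agent.S11166

/-- For a locally Noetherian scheme X the natural functor D⁺(QCoh(X)) ⥤ D⁺_qc(O_X) is an equivalence: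
granting that quasi-coherent modules form an abelian full subcategory of all O_X-modules with exact
inclusion (instance hypotheses that always hold), the induced functor D(QCoh(X)) ⥤ D(O_X) is fully
faithful on cohomologically bounded below objects, and every object of D(O_X) with Hⁱ = 0 for i < a
and quasi-coherent cohomology sheaves is isomorphic to the image of an object of D(QCoh(X)) with Hⁱ
= 0 for i < a. -/
theorem result (X : Scheme.{u}) [IsLocallyNoetherian X]
    [ObjectProperty.ContainsZero (fun M : X.Modules => Coh.IsQCoh M)] [ObjectProperty.IsClosedUnderKernels (fun M : X.Modules => Coh.IsQCoh M)]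
    [ObjectProperty.IsClosedUnderCokernels (fun M : X.Modules => Coh.IsQCoh M)] [ObjectProperty.IsClosedUnderFiniteProducts (fun M : X.Modules => Coh.IsQCoh M)]
    [PreservesFiniteLimits (ObjectProperty.ι (fun M : X.Modules => Coh.IsQCoh M))] [PreservesFiniteColimits (ObjectProperty.ι (fun M : X.Modules => Coh.IsQCoh M))] :
    (∀ (M N : DerivedCategory (ObjectProperty.FullSubcategory (fun M : X.Modules => Coh.IsQCoh M))) (a b : ℤ), M.IsGE a → N.IsGE b →
        Function.Bijective (fun f : M ⟶ N => (ObjectProperty.ι (fun M : X.Modules => Coh.IsQCoh M)).mapDerivedCategory.map f)) ∧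
      ∀ (K : DCoh.D X) (a : ℤ), K.IsGE a → DCoh.IsQCohD K →
        ∃ M : DerivedCategory (ObjectProperty.FullSubcategory (fun M : X.Modules => Coh.IsQCoh M)), M.IsGE a ∧
          Nonempty ((ObjectProperty.ι (fun M : X.Modules => Coh.IsQCoh M)).mapDerivedCategory.obj M ≅ K) := by
  let P : ObjectProperty X.Modules := fun M => Coh.IsQCoh M
  have hmem : ∀ {M : X.Modules}, P.ι.essImage M → M.IsQuasicoherent := fun {M} ⟨N, ⟨e⟩⟩ =>
    @GrothLib.QCoh.isQuasicoherent_of_iso _ _ _ e N.property
  have hess : ∀ {M : X.Modules}, M.IsQuasicoherent → P.ι.essImage M := fun {M} h =>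
    ⟨⟨M, h⟩, ⟨Iso.refl _⟩⟩
  have hext : ∀ S : ShortComplex X.Modules, S.ShortExact → P.ι.essImage S.X₁ → P.ι.essImage S.X₃ →
      P.ι.essImage S.X₂ := fun S hS h₁ h₃ =>
    haveI := hmem h₁
    haveI := hmem h₃
    hess (GrothLib.QCoh.isQuasicoherent_X₂ hS)
  have hinj : ∀ X' : P.FullSubcategory, ∃ (Y' : P.FullSubcategory) (i : X' ⟶ Y'),
      Mono i ∧ Injective (P.ι.obj Y') := fun X' => by
    haveI : X'.obj.IsQuasicoherent := X'.property
    obtain ⟨J, i, hJ, hi, hm⟩ := GrothLib.InjQCoh20.exists_injective_embedding X'.obj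
    haveI := hm
    exact ⟨⟨J, hJ⟩, P.homMk i, P.ι.mono_of_mono_map (show Mono i from hm), hi⟩
  refine ⟨fun M N a b hM hN => S11160.result P.ι hext hinj M N a b, fun K a hK hKq => ?_⟩
  obtain ⟨I, hI, -, ⟨e⟩⟩ := S11161.result P.ι hext hinj K a (fun i => hess (hKq i))
  exact ⟨DerivedCategory.Q.obj I, inferInstance, ⟨e⟩⟩

end Groth.Agent.S11166
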