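import Groth.Statements.S11167
import Groth.Agent.Lib.IdealACC20.Chain
import Groth.Agent.Lib.OX.Stalk

set_option autoImplicit false
set_option maxHeartbeats 400000
set_option linter.style.haveILetI false
set_option backward.isDefEq.respectTransparency false
universe u
open CategoryTheory CategoryTheory.Limits AlgebraicGeometry
open Coherent

namespace Groth.Agent.S11167

/-- Let X be a Noetherian scheme and G ⟶ O_X a sub-O_X-module of the structure sheaf (a sheaf of ideals,
not necessarily quasi-coherent). Then there are finitely many opens U_i of X and finitely many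
sections s_{ij} ∈ G(U_i) such that for every point x of X the germs at x of those s_{ij} with x ∈
U_i generate the stalk G_x as an O_{X,x}-module. -/
theorem result {X : Scheme.{u}} [IsNoetherian X]
    (G : X.Modules) (ι : G ⟶ Coh.structureModule X) [Mono ι] :
    ∃ (m : ℕ) (U : Fin m → X.Opens) (k : Fin m → ℕ)
      (s : (i : Fin m) → Fin (k i) → (G.presheaf.obj (Opposite.op (U i)) : Type u)),
      ∀ x : X, Submodule.span (X.presheaf.stalk x)
          (Set.range (fun p : (Σ i : {i : Fin m // x ∈ U i}, Fin (k i.1)) =>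
            (G.presheaf.germ (U p.1.1) x p.1.2) (s p.1.1 p.2))) = ⊤ := by
  classical
  obtain ⟨m, U, k, s, hs⟩ := GrothLib.IdealACC20.exists_finite_generating G ι
  refine ⟨m, U, k, s, fun x => eq_top_iff.2 fun e _ => ?_⟩
  obtain ⟨V, hxV, q, rfl⟩ := TopCat.Presheaf.exists_germ_eq G.presheaf e
  obtain ⟨i, hxi, V', hxV', hle, hW, c, hc⟩ := hs x V hxV q
  have h2 : G.presheaf.germ V x hxV q = G.presheaf.germ V' x hxV' (G.presheaf.map (homOfLE hle).op q) :=
    (TopCat.Presheaf.germ_res_apply G.presheaf (homOfLE hle) x hxV' q).symm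
  rw [h2, hc, map_sum]
  refine Submodule.sum_mem _ fun j _ => ?_
  rw [show G.presheaf.germ V' x hxV' (c j • G.presheaf.map (homOfLE hW).op (s i j)) =
      X.presheaf.germ V' x hxV' (c j) • G.presheaf.germ V' x hxV' (G.presheaf.map (homOfLE hW).op (s i j))
    from GrothLib.OX.germ_smul' (DCoh.toP.obj G) V' hxV' (c j) _]
  refine Submodule.smul_mem _ _ (Submodule.subset_span ⟨⟨⟨i, hxi⟩, j⟩, ?_⟩)
  exact (TopCat.Presheaf.germ_res_apply G.presheaf (homOfLE hW) x hxV' _).symm

end Groth.Agent.S11167
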