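import Groth.Statements.S11171
import Groth.Agent.Lib.DualCx22.ResidueCrit

set_option autoImplicit false
universe u
open CategoryTheory
attribute [local instance] HasDerivedCategory.standard
open Dual

namespace Groth.Agent.S11171

/-- Over a Noetherian local ring A with residue field k, let R be an object of D(A) whose cohomology
modules are finite and vanish in all sufficiently negative degrees. If there is an integer d such
that the A-module of maps k → R[i] in D(A) is zero for every i ≠ d and is A-linearly isomorphic to k
for i = d, then R is a dualizing complex for A (finite injective dimension, finite cohomology, and A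
→ End(R) bijective with no self-maps of nonzero degree). -/
theorem result (A : Type u) [CommRing A] [IsLocalRing A] [IsNoetherianRing A] (R : Dual.D A) (hfin : ∀ i : ℤ, Module.Finite A (Dual.HD A R i)) (hbdd : ∃ a : ℤ, ∀ i : ℤ, i < a → Subsingleton (Dual.HD A R i)) (d : ℤ) (hvan : ∀ i : ℤ, i ≠ d → Subsingleton (Dual.inD A (IsLocalRing.ResidueField A) ⟶ R⟦i⟧)) (hd : Nonempty ((Dual.inD A (IsLocalRing.ResidueField A) ⟶ R⟦d⟧) ≃ₗ[A] IsLocalRing.ResidueField A)) : Dual.IsDualizing A R := by
  obtain ⟨a, ha⟩ := hbdd
  exact GrothLib.DualCx22.isDualizing_of_residue R hfin a ha d hvan hd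

end Groth.Agent.S11171
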