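import Groth.Statements.S11173
import Groth.Agent.Lib.DualCx22.Pointwise

set_option autoImplicit false
universe u
open CategoryTheory
attribute [local instance] HasDerivedCategory.standard
open Dual

namespace Groth.Agent.S11173

/-- Let A be a Noetherian ring of finite Krull dimension and R an object of D(A) whose cohomology
modules are finite and vanish in all sufficiently negative degrees. If for every prime ideal p of A
the derived base change of R to the local ring A_p (the total left derived functor of extension of
scalars, assumed to exist) is a dualizing complex for A_p, then R is a dualizing complex for A. (The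
published statement is for a Noetherian scheme of finite Krull dimension and a pointwise dualizing
complex; this row is its affine case, with the pointwise hypothesis expressed through the local
rings at all primes.) -/
theorem result (A : Type u) [CommRing A] [IsNoetherianRing A] (hdim : ringKrullDim A < ⊤) (R : Dual.D A) (hfin : ∀ i : ℤ, Module.Finite A (Dual.HD A R i)) (hbdd : ∃ a : ℤ, ∀ i : ℤ, i < a → Subsingleton (Dual.HD A R i)) (h : ∀ p : PrimeSpectrum A, ∃ _ : DRing.HasLBaseChange (algebraMap A (Localization.AtPrime p.asIdeal)), Dual.IsDualizing (Localization.AtPrime p.asIdeal) ((DRing.LBaseChange (algebraMap A (Localization.AtPrime p.asIdeal))).obj R)) : Dual.IsDualizing A R := by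
  haveI : ∀ p : PrimeSpectrum A, Module.Flat A (Localization.AtPrime p.asIdeal) := fun p =>
    IsLocalization.flat _ p.asIdeal.primeCompl
  haveI : ∀ p : PrimeSpectrum A, CategoryTheory.Limits.PreservesFiniteLimits
      (GrothLib.DualCx22.bcMod (A := A) (Localization.AtPrime p.asIdeal)) := fun p =>
    GrothLib.DR.preservesFiniteLimits_extendScalars (algebraMap A (Localization.AtPrime p.asIdeal))
      GrothLib.DR.flat_algebraMap
  obtain ⟨a, ha⟩ := hbdd
  haveI : R.IsGE a := by
    rw [DerivedCategory.isGE_iff]
    exact fun q hq => (GrothLib.DR.subsingleton_iff_isZero _).1 (ha q hq)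
  obtain ⟨d, hd⟩ : ∃ d : ℕ, ringKrullDim A ≤ d := by
    cases hx : ringKrullDim A with
    | bot => exact ⟨0, bot_le⟩
    | coe x =>
      cases x with
      | top => rw [hx] at hdim; exact absurd hdim (lt_irrefl _)
      | coe n => exact ⟨n, le_rfl⟩
  refine GrothLib.DualCx22.isDualizing_of_pointwise R hfin a d hd fun p => ?_
  obtain ⟨_, hp⟩ := h p
  obtain ⟨e⟩ := GrothLib.DualCx22.nonempty_lBase_iso_bcD (A := A) (Localization.AtPrime p.asIdeal)
  exact GrothLib.DualCx22.isDualizing_of_iso (e.app R) hp

end Groth.Agent.S11173
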