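import Groth.Statements.S11174
import Groth.Agent.Lib.InjMod.SocleHull

set_option autoImplicit false
universe u
open CategoryTheory
open InjHull

namespace Groth.Agent.S11174

/-- Fix a Noetherian local ring A, write m for its maximal ideal and k for its residue field, and let I
be an A-module such that (a) every element of I is killed by some power of m, (b) the A-module
Hom_A(k, I) is isomorphic to k, and (c) there is a decreasing sequence of ideals a_1 ⊇ a_2 ⊇ … of A,
cofinal with the powers of m in both directions (each a_n contains a power of m and each power of m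
contains some a_n), with length_A(A/a_n) = length_A(Hom_A(A/a_n, I)) for every n. Then I is an
injective hull of k: some A-linear map k → I is an essential injection into an injective module. -/
theorem result (A : Type u) [CommRing A] [IsLocalRing A] [IsNoetherianRing A] (I : Type u) [AddCommGroup I] [Module A I] (ha : LocCoh.IsPowerTorsion (IsLocalRing.maximalIdeal A) I) (hb : Nonempty ((IsLocalRing.ResidueField A →ₗ[A] I) ≃ₗ[A] IsLocalRing.ResidueField A)) (a : ℕ → Ideal A) (hanti : Antitone a) (hcof : ∀ n : ℕ, ∃ N : ℕ, IsLocalRing.maximalIdeal A ^ N ≤ a n) (hcof' : ∀ N : ℕ, ∃ n : ℕ, a n ≤ IsLocalRing.maximalIdeal A ^ N) (hlen : ∀ n : ℕ, Module.length A (A ⧸ a n) = Module.length A ((A ⧸ a n) →ₗ[A] I)) : ∃ f : IsLocalRing.ResidueField A →ₗ[A] I, InjHull.IsInjectiveHull f := by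
    obtain ⟨e⟩ := hb
    exact GrothLib.InjMod.exists_isInjectiveHull_of_length ha e a hcof hcof' hlen

end Groth.Agent.S11174
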