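import Groth.Statements.S11175
import Groth.Agent.Lib.Gor.Converse
import Groth.Agent.Lib.LC.Vanish

set_option autoImplicit false
universe u
open CategoryTheory
open Goren

namespace Groth.Agent.S11175

/-- A Noetherian local ring A with maximal ideal m is Gorenstein (A has finite injective dimension as a
module over itself) if and only if there is a natural number d such that the local cohomology
modules H^i_m(A) (direct limits of Ext^i(A/m^n, A)) vanish for all i ≠ d and H^d_m(A) is an
injective A-module. -/
theorem result (A : Type u) [CommRing A] [IsLocalRing A] [IsNoetherianRing A] : LocCoh.IsGorensteinLocalRing A ↔ ∃ d : ℕ, (∀ i : ℕ, i ≠ d → Subsingleton (LocCoh.H (IsLocalRing.maximalIdeal A) i A)) ∧ Module.Injective A (LocCoh.H (IsLocalRing.maximalIdeal A) d A) := by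
  constructor
  · intro h
    obtain ⟨d, hd, hdep, hE, -⟩ := GrothLib.Gor.exists_dim A
    refine ⟨d, fun i hi => ?_, GrothLib.Gor.injective_localCohomology hE⟩
    rcases lt_or_gt_of_ne hi with hlt | hgt
    · exact (GrothLib.Depth.le_idealDepth_iff_H (IsLocalRing.maximalIdeal A) d).1 hdep.ge i hlt
    · refine GrothLib.LC.subsingleton_of_supportDim_lt i A (IsLocalRing.maximalIdeal A) A ?_
      rw [Module.supportDim_self_eq_ringKrullDim, hd]
      exact_mod_cast hgt
  · rintro ⟨d, h0, hd⟩
    have hinj : ∀ j, Module.Injective A ((localCohomology (IsLocalRing.maximalIdeal A) j).obj (ModuleCat.of A A)) := fun j => by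
      rcases eq_or_ne j d with rfl | hj
      · exact hd
      · haveI := h0 j hj
        exact GrothLib.Gor.injective_of_subsingleton
    refine { exists_hasInjectiveDimensionLT := ⟨d + 1, GrothLib.Gor.hasInjectiveDimensionLT_of_residue
      (ModuleCat.of A A) fun i hi => ?_⟩ }
    obtain ⟨c, rfl⟩ := Nat.exists_eq_succ_of_ne_zero (show i ≠ 0 by omega)
    haveI := GrothLib.Gor.subsingleton_ext_quotPow hinj (i := c) (h0 (c + 1) (by omega))
      (injectiveResolution (ModuleCat.of A A))
    let q : (A ⧸ IsLocalRing.maximalIdeal A ^ 1) ≃ₗ[A] A ⧸ IsLocalRing.maximalIdeal A :=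
      Submodule.quotEquivOfEq _ _ (pow_one _)
    exact (Equiv.ofBijective _ (GrothLib.Gor.precompLM_bijective_of_iso q.toModuleIso (c + 1))).subsingleton

end Groth.Agent.S11175
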