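import Groth.Statements.S11178
import Groth.Agent.Lib.DualCx22.DualPerfect
import Groth.Agent.Lib.DCxKFlat.LBaseKFlat

set_option autoImplicit false
universe u
open CategoryTheory
attribute [local instance] HasDerivedCategory.standard
open Dual

namespace Groth.Agent.S11178

/-- The affine form: let A be a Noetherian ring with a dualizing complex ω, and G a cochain complex of
A-modules whose cohomology modules are finite and vanish outside a bounded range of degrees, with
RHom_A(G, −) existing as a total right derived functor. Then G has finite Tor-dimension (G is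
isomorphic in D(A) to a bounded complex of flat modules) if and only if RHom_A(G, ω) has finite
injective dimension (is isomorphic in D(A) to a bounded complex of injective modules). -/
theorem result (A : Type u) [CommRing A] [IsNoetherianRing A] (ω : Dual.D A) (hω : Dual.IsDualizing A ω) (G : DRing.Cx A) [DRing.HasRHomCx G] (hfin : ∀ i : ℤ, Module.Finite A (Dual.HD A (DRing.toD G) i)) (hbdd : ∃ a b : ℤ, ∀ i : ℤ, (i < a ∨ b < i) → Subsingleton (Dual.HD A (DRing.toD G) i)) : DRing.HasFiniteTorDimCx A (DRing.toD G) ↔ DRing.HasFiniteInjDim A ((DRing.RHomCx G).obj ω) := by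
  obtain ⟨a, b, hab⟩ := hbdd
  haveI : ∀ m : Ideal A, DRing.HasLBaseChange (Ideal.Quotient.mk m) := fun m => GrothLib.KF.hasLBaseChange _
  constructor
  · intro htor
    have hpc : DRing.IsPseudoCoherent' A (DRing.toD G) :=
      (GrothLib.DR.isPseudoCoherent'_iff_of_coherent (fun J _ => Module.finitePresentation_of_finite A J)
        (DRing.toD G) ⟨b, fun i hi => hab i (Or.inr hi)⟩).2 fun i =>
          haveI := hfin i
          Module.finitePresentation_of_finite A _
    obtain ⟨P, p, q, hP, hPp, ⟨eP⟩⟩ := (Groth.Agent.S6954.result A (DRing.toD G)).2 ⟨hpc, htor⟩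
    obtain ⟨r⟩ := GrothLib.DualCx22.nonempty_injRep hω
    obtain ⟨e1⟩ := r.nonempty_rHom_iso G
    obtain ⟨e2⟩ := r.nonempty_dual_congr eP
    obtain ⟨a', b', E, hv, hE, ⟨eE⟩⟩ :=
      GrothLib.DualCx22.hasInjAmplitude_homCx P r.I p q r.a r.b hP hPp r.vanish r.inj
    exact ⟨a', b', E, hv, hE, ⟨eE ≪≫ e2.symm ≪≫ e1.symm⟩⟩
  · intro h
    exact ((Groth.Agent.S6954.result A (DRing.toD G)).1
      (GrothLib.DualCx22.isPerfect_of_dual hω G hfin b (fun i hi => hab i (Or.inr hi)) h)).2

end Groth.Agent.S11178
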