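import Groth.Statements.S11180
import Mathlib.RingTheory.AdicCompletion.LocalRing
import Mathlib.RingTheory.AdicCompletion.AsTensorProduct
import Mathlib.RingTheory.Flat.Stability
import Mathlib.RingTheory.Flat.Localization
import Mathlib.RingTheory.Localization.AtPrime.Basic
import Mathlib.RingTheory.Ideal.Maximal
import Mathlib.RingTheory.LocalRing.ResidueField.Basic
import Mathlib.RingTheory.TensorProduct.Basic
import Groth.Agent.Lib.AdicExtra.Completion
-- import your own Groth.Agent.* helpers here

set_option autoImplicit false
universe u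
open scoped TensorProduct
open CAlg

namespace Groth.Agent.S11180
open TensorProduct

/-- Let A be a Noetherian ring and M an A-module. If an element m of M is such that 1 ⊗ m = 0 in B ⊗_A M
for every A-algebra B which is a complete Noetherian local ring, flat over A, then m = 0.
(Equivalently the natural map from M to the limit of the modules B ⊗_A M over all such B is
injective.) -/
theorem result (A : Type u) [CommRing A] [IsNoetherianRing A] (M : Type u) [AddCommGroup M] [Module A M] (m : M) (h : ∀ (B : Type u) [CommRing B] [Algebra A B] [IsNoetherianRing B] [IsLocalRing B], IsAdicComplete (IsLocalRing.maximalIdeal B) B → Module.Flat A B → (1 : B) ⊗ₜ[A] m = 0) : m = 0 := by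
  by_contra hm
  let K := LinearMap.ker (LinearMap.toSpanSingleton A M m)
  have hK : K ≠ ⊤ := fun e => hm (by
    have h1 : (1 : A) ∈ K := e ▸ Submodule.mem_top
    simpa [K] using h1)
  obtain ⟨p, hp, hle⟩ := Ideal.exists_le_maximal K hK
  let L := Localization.AtPrime p
  let B := AdicCompletion (IsLocalRing.maximalIdeal L) L
  have : IsNoetherianRing L := IsLocalization.isNoetherianRing p.primeCompl L inferInstance
  have hBc : IsAdicComplete (IsLocalRing.maximalIdeal B) B := by
    rw [AdicCompletion.maximalIdeal_eq_map]
    exact AdicCompletion.isAdicComplete_self _ (IsNoetherian.noetherian _)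
  have : Module.Flat A L := IsLocalization.flat L p.primeCompl
  have hBf : Module.Flat A B := Module.Flat.trans A L B
  have h0 := h B hBc hBf
  let g : (A ⧸ K) →ₗ[A] M := Submodule.liftQ K (LinearMap.toSpanSingleton A M m) le_rfl
  have hg : Function.Injective g := LinearMap.ker_eq_bot.1 (Submodule.ker_liftQ_eq_bot _ _ _ le_rfl)
  have hinj := Module.Flat.lTensor_preserves_injective_linearMap (M := B) g hg
  have h1 : g.lTensor B ((1 : B) ⊗ₜ Submodule.Quotient.mk 1) = g.lTensor B 0 := by
    rw [map_zero, LinearMap.lTensor_tmul, ← h0]
    show (1 : B) ⊗ₜ[A] (LinearMap.toSpanSingleton A M m 1) = _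
    rw [LinearMap.toSpanSingleton_apply, one_smul]
  have h2 := hinj h1
  let kB := IsLocalRing.ResidueField B
  have hKk : K ≤ LinearMap.ker (Algebra.linearMap A kB) := fun a ha => by
    rw [LinearMap.mem_ker, Algebra.linearMap_apply, IsScalarTower.algebraMap_apply A B kB,
      IsLocalRing.ResidueField.algebraMap_eq, IsLocalRing.residue_eq_zero_iff, AdicCompletion.maximalIdeal_eq_map,
      IsScalarTower.algebraMap_apply A L B]
    refine Ideal.mem_map_of_mem _ ?_
    rw [← Localization.AtPrime.map_eq_maximalIdeal]
    exact Ideal.mem_map_of_mem _ (hle ha)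
  let φ : B ⊗[A] (A ⧸ K) →ₗ[A] kB :=
    TensorProduct.lift ((LinearMap.mul A kB).compl₂ (Submodule.liftQ K (Algebra.linearMap A kB) hKk) ∘ₗ
      (IsScalarTower.toAlgHom A B kB).toLinearMap)
  have h3 := congrArg φ h2
  rw [map_zero] at h3
  change algebraMap B kB 1 * algebraMap A kB 1 = 0 at h3
  rw [map_one, map_one, one_mul] at h3
  exact one_ne_zero h3

end Groth.Agent.S11180
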