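import Groth.Statements.S11181
import Mathlib
import Groth.Agent.Lib.CplLim.Basic
-- import your own Groth.Agent.* helpers here

set_option autoImplicit false
universe u
open scoped TensorProduct
open CAlg

namespace Groth.Agent.S11181

/-- Bijectivity for a finite module: let A be a Noetherian ring and M a finite A-module. Consider the
A-algebras B which are complete Noetherian local rings flat over A, with all A-algebra homomorphisms
between them. Then every family of elements x_B ∈ B ⊗_A M, one for each such B, compatible under the
maps B ⊗_A M → B' ⊗_A M induced by A-algebra homomorphisms B → B', comes from a unique element m of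
M: x_B = 1 ⊗ m for every such B. (The natural map from M to the limit of the B ⊗_A M is bijective.) -/
theorem result (A : Type u) [CommRing A] [IsNoetherianRing A] (M : Type u) [AddCommGroup M] [Module A M] [Module.Finite A M] (x : ∀ (B : Type u) [CommRing B] [Algebra A B] [IsNoetherianRing B] [IsLocalRing B], IsAdicComplete (IsLocalRing.maximalIdeal B) B → Module.Flat A B → TensorProduct A B M) (hx : ∀ (B : Type u) [CommRing B] [Algebra A B] [IsNoetherianRing B] [IsLocalRing B] (hB : IsAdicComplete (IsLocalRing.maximalIdeal B) B) (hBf : Module.Flat A B) (B' : Type u) [CommRing B'] [Algebra A B'] [IsNoetherianRing B'] [IsLocalRing B'] (hB' : IsAdicComplete (IsLocalRing.maximalIdeal B') B') (hB'f : Module.Flat A B') (g : B →ₐ[A] B'), LinearMap.rTensor M g.toLinearMap (x B hB hBf) = x B' hB' hB'f) : ∃! m : M, ∀ (B : Type u) [CommRing B] [Algebra A B] [IsNoetherianRing B] [IsLocalRing B] (hB : IsAdicComplete (IsLocalRing.maximalIdeal B) B) (hBf : Module.Flat A B), x B hB hBf = (1 : B) ⊗ₜ[A] m := by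
  obtain ⟨m, hm⟩ := GrothLib.CplLim.ex_of_finite M x hx
  refine ⟨m, hm, fun m' hm' => ?_⟩
  rw [← sub_eq_zero]
  refine GrothLib.CplLim.eq_zero_of_forall (A := A) _ fun p _ => ?_
  rw [TensorProduct.tmul_sub, ← hm (GrothLib.CplLim.Cpl A p) inferInstance inferInstance,
    ← hm' (GrothLib.CplLim.Cpl A p) inferInstance inferInstance, sub_self]

end Groth.Agent.S11181
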