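import Groth.Statements.S11184
import Groth.Agent.Lib.InjMod.SocleHull
import Groth.Agent.Lib.LC.Torsion
import Mathlib.RingTheory.Coprime.Ideal

set_option autoImplicit false
universe u
open Matlis

namespace Groth.Agent.S11184

open scoped Classical in
theorem finiteLength_of_killed {A : Type u} [CommRing A] [IsLocalRing A] {N : Type u} [AddCommGroup N]
    [Module A N] [Module.Finite A N] (h : ∀ a ∈ IsLocalRing.maximalIdeal A, ∀ x : N, a • x = 0) :
    IsFiniteLength A N := by
  haveI : IsSimpleModule A (A ⧸ IsLocalRing.maximalIdeal A) :=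
    isSimpleModule_iff_isCoatom.2 (Ideal.isMaximal_def.1 (IsLocalRing.maximalIdeal.isMaximal A))
  obtain ⟨n, π, hπ⟩ := Module.Finite.exists_fin' A N
  let π' : (Fin n → A ⧸ IsLocalRing.maximalIdeal A) →ₗ[A] N :=
    ∑ i, ((IsLocalRing.maximalIdeal A).liftQ (LinearMap.toSpanSingleton A N (π (Pi.single i 1)))
      (fun a ha => h a ha _)).comp (LinearMap.proj i)
  refine IsFiniteLength.of_surjective (f := π') ?_ fun x => ?_
  · exact Module.length_ne_top_iff.1 (by simp [Module.length_pi, Module.length_eq_one A (A ⧸ IsLocalRing.maximalIdeal A)])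
  · obtain ⟨v, rfl⟩ := hπ x
    refine ⟨fun i => Submodule.Quotient.mk (v i), ?_⟩
    show π' _ = π v
    conv_rhs => rw [show v = ∑ i, v i • Pi.single (M := fun _ => A) i 1 from pi_eq_sum_univ' v]
    rw [map_sum, LinearMap.sum_apply]
    refine Finset.sum_congr rfl fun i _ => ?_
    rw [map_smul]
    rfl

theorem exists_decomposition {A B : Type u} [CommRing A] [IsLocalRing A] [IsNoetherianRing A] [CommRing B]
    [Algebra A B] [Module.Finite A B] {E : Type u} [AddCommGroup E] [Module A E]
    {f : IsLocalRing.ResidueField A →ₗ[A] E} (hf : InjHull.IsInjectiveHull f)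
    {M : Type u} [AddCommGroup M] [Module B M] (hM : Module.Injective B M) (ev : M →+ E)
    (hev : ∀ (a : A) (x : M), ev (algebraMap A B a • x) = a • ev x)
    (hinj : ∀ x : M, (∀ b : B, ev (b • x) = 0) → x = 0)
    (hsurj : ∀ L : B →ₗ[A] E, ∃ x : M, ∀ b, ev (b • x) = L b) :
    ∃ J : MaximalSpectrum B → Submodule B M, iSupIndep J ∧ iSup J = ⊤ ∧
      ∀ n : MaximalSpectrum B, ∃ g : (B ⧸ n.asIdeal) →ₗ[B] J n, InjHull.IsInjectiveHull g := by
  classical
  haveI : IsNoetherianRing B := IsNoetherianRing.of_finite A B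
  let J : MaximalSpectrum B → Submodule B M := fun n => DRing.torsionSub n.asIdeal M
  have hle : ∀ n : MaximalSpectrum B, (IsLocalRing.maximalIdeal A).map (algebraMap A B) ≤ n.asIdeal := fun n => by
    rw [Ideal.map_le_iff_le_comap]
    haveI := n.isMaximal
    haveI := Ideal.isMaximal_comap_of_isIntegral_of_isMaximal (R := A) n.asIdeal
    exact (IsLocalRing.eq_maximalIdeal (inferInstance : (n.asIdeal.comap (algebraMap A B)).IsMaximal)).ge
  have htors : ∀ x : M, ∃ k, ∀ b ∈ (IsLocalRing.maximalIdeal A).map (algebraMap A B) ^ k, b • x = 0 := by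
    intro x
    obtain ⟨s, g, hg⟩ := Module.Finite.exists_fin (R := A) (M := B)
    choose k hk using fun i => GrothLib.Matlis.isPowerTorsion_of_hull hf (ev (g i • x))
    refine ⟨∑ i, k i, fun b hb => ?_⟩
    rw [← Ideal.map_pow] at hb
    induction hb using Submodule.span_induction with
    | mem b hb =>
      obtain ⟨a, ha, rfl⟩ := hb
      refine hinj _ fun c => ?_
      have hc : c ∈ Submodule.span A (Set.range g) := hg ▸ Submodule.mem_top
      rw [smul_smul, mul_comm, mul_smul, hev]
      induction hc using Submodule.span_induction with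
      | mem c hc =>
        obtain ⟨i, rfl⟩ := hc
        exact hk i a (Ideal.pow_le_pow_right (Finset.single_le_sum (fun _ _ => Nat.zero_le _) (Finset.mem_univ i)) ha)
      | zero => rw [zero_smul, map_zero, smul_zero]
      | add c c' _ _ h h' => rw [add_smul, map_add, smul_add, h, h', add_zero]
      | smul r c _ h => rw [Algebra.smul_def, mul_smul, hev, smul_comm, h, smul_zero]
    | zero => rw [zero_smul]
    | add b c _ _ h h' => rw [add_smul, h, h', add_zero]
    | smul r b _ h => rw [smul_eq_mul, mul_smul, h, smul_zero]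
  have hfl : ∀ K : Ideal B, (IsLocalRing.maximalIdeal A).map (algebraMap A B) ≤ K → IsFiniteLength A (B ⧸ K) :=
    fun K hK => finiteLength_of_killed fun a ha x => by
      obtain ⟨x, rfl⟩ := Ideal.Quotient.mk_surjective x
      rw [Algebra.smul_def, IsScalarTower.algebraMap_apply A B (B ⧸ K), Ideal.Quotient.algebraMap_eq,
        ← map_mul, Ideal.Quotient.eq_zero_iff_mem]
      exact Ideal.mul_mem_right _ _ (hK (Ideal.mem_map_of_mem _ ha))
  let mB := (IsLocalRing.maximalIdeal A).map (algebraMap A B)
  haveI : IsArtinianRing (B ⧸ mB) :=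
    isArtinian_of_tower A (isFiniteLength_iff_isNoetherian_isArtinian.1 (hfl mB le_rfl)).2
  haveI : Finite (MaximalSpectrum B) := by
    refine Finite.of_injective (β := MaximalSpectrum (B ⧸ mB)) (fun n => ⟨n.asIdeal.map (Ideal.Quotient.mk mB),
      (Ideal.map_eq_top_or_isMaximal_of_surjective _ Ideal.Quotient.mk_surjective n.isMaximal).resolve_left
        fun h => n.isMaximal.ne_top (by
          have := congrArg (Ideal.comap (Ideal.Quotient.mk mB)) h
          rwa [Ideal.comap_map_quotientMk, Ideal.comap_top, sup_of_le_right (hle n)] at this)⟩) fun n n' h => ?_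
    refine MaximalSpectrum.ext ?_
    have := congrArg (fun q : MaximalSpectrum (B ⧸ mB) => q.asIdeal.comap (Ideal.Quotient.mk mB)) h
    dsimp only at this
    rwa [Ideal.comap_map_quotientMk, Ideal.comap_map_quotientMk, sup_of_le_right (hle n),
      sup_of_le_right (hle n')] at this
  have := Fintype.ofFinite (MaximalSpectrum B)
  have hpair : ∀ k : ℕ, ∀ i j : MaximalSpectrum B, i ≠ j → i.asIdeal ^ k ⊔ j.asIdeal ^ k = ⊤ := fun k i j hij =>
    Ideal.pow_sup_pow_eq_top (Ideal.IsMaximal.coprime_of_ne i.isMaximal j.isMaximal fun h => hij (MaximalSpectrum.ext h))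
  refine ⟨J, ?_, ?_, fun n => ?_⟩
  · intro n
    rw [Submodule.disjoint_def]
    intro x hx hx'
    obtain ⟨k, hk⟩ := hx
    have hkey : ∀ y ∈ ⨆ (j) (_ : j ≠ n), J j, ∃ b, b - 1 ∈ n.asIdeal ^ k ∧ b • y = 0 := by
      intro y hy
      refine Submodule.iSup_induction (fun j : MaximalSpectrum B => ⨆ (_ : j ≠ n), J j)
        (motive := fun y => ∃ b, b - 1 ∈ n.asIdeal ^ k ∧ b • y = 0) hy (fun j z hz => ?_)
        ⟨1, by simp, smul_zero _⟩ ?_
      · by_cases hj : j = n
        · subst hj
          simp only [ne_eq, not_true_eq_false, iSup_false, Submodule.mem_bot] at hz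
          exact ⟨1, by simp, by rw [hz, smul_zero]⟩
        · rw [iSup_pos hj] at hz
          obtain ⟨l, hl⟩ := hz
          obtain ⟨p, hp, q, hq, hpq⟩ := Submodule.mem_sup.1
            ((Ideal.eq_top_iff_one _).1 (hpair (k + l) j n hj))
          refine ⟨p, ?_, hl p (Ideal.pow_le_pow_right (by omega) hp)⟩
          rw [show p - 1 = -q by rw [← hpq]; ring]
          exact neg_mem (Ideal.pow_le_pow_right (by omega) hq)
      · rintro y z ⟨b, hb, hby⟩ ⟨c, hc, hcz⟩
        refine ⟨b * c, ?_, by rw [smul_add, mul_comm b c, mul_smul, hby, smul_zero, mul_comm c b, mul_smul, hcz,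
          smul_zero, add_zero]⟩
        rw [show b * c - 1 = (b - 1) * c + (c - 1) by ring]
        exact add_mem (Ideal.mul_mem_right _ _ hb) hc
    obtain ⟨b, hb, hbx⟩ := hkey x hx'
    have := hk _ hb
    rwa [sub_smul, one_smul, hbx, zero_sub, neg_eq_zero] at this
  · rw [eq_top_iff]
    intro x _
    obtain ⟨k, hk⟩ := htors x
    have hrad : ∃ N, (⨅ i : MaximalSpectrum B, i.asIdeal) ^ N ≤ mB ^ k := by
      refine Ideal.exists_pow_le_of_le_radical_of_fg ?_ (IsNoetherian.noetherian _)
      rw [Ideal.radical_eq_sInf]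
      refine le_sInf fun P ⟨hP, hPp⟩ => ?_
      haveI := hPp
      have hPm : mB ≤ P := hPp.le_of_pow_le hP
      have hc : P.comap (algebraMap A B) = IsLocalRing.maximalIdeal A :=
        ((IsLocalRing.maximalIdeal.isMaximal A).eq_of_le (Ideal.IsPrime.comap _).ne_top
          (Ideal.map_le_iff_le_comap.1 hPm)).symm
      haveI hPmax : P.IsMaximal := Ideal.isMaximal_of_isIntegral_of_isMaximal_comap P
        (hc ▸ IsLocalRing.maximalIdeal.isMaximal A)
      exact iInf_le (fun i : MaximalSpectrum B => i.asIdeal) ⟨P, hPmax⟩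
    obtain ⟨N, hN⟩ := hrad
    rcases isEmpty_or_nonempty (MaximalSpectrum B) with hemp | hne
    · have h1 : (1 : B) ∈ mB ^ k := hN (by rw [iInf_of_empty, Ideal.top_pow]; trivial)
      have hx0 := hk 1 h1
      rw [one_smul] at hx0
      rw [hx0]; exact zero_mem _
    have h1 : (1 : B) ∈ ⨆ i ∈ (Finset.univ : Finset (MaximalSpectrum B)),
        ⨅ (j) (_ : j ∈ (Finset.univ : Finset (MaximalSpectrum B))) (_ : j ≠ i), j.asIdeal ^ N := by
      rw [(Ideal.iSup_iInf_eq_top_iff_pairwise Finset.univ_nonempty fun i : MaximalSpectrum B => i.asIdeal ^ N).2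
        fun i _ j _ hij => hpair N i j hij]
      trivial
    obtain ⟨e, he⟩ := (Submodule.mem_iSup_finset_iff_exists_sum _ _).1 h1
    rw [← one_smul B x, ← he, Finset.sum_smul]
    refine Submodule.sum_mem _ fun i _ => Submodule.mem_iSup_of_mem i ⟨N, fun c hc => ?_⟩
    rw [smul_smul]
    refine hk _ (hN ?_)
    have hprod : (∏ j : MaximalSpectrum B, j.asIdeal ^ N) = (⨅ j : MaximalSpectrum B, j.asIdeal) ^ N := by
      rw [Finset.prod_pow, Ideal.prod_eq_iInf_of_pairwise_isCoprime]
      · simp
      · intro a _ b _ hab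
        exact Ideal.isCoprime_iff_sup_eq.2 (by simpa using hpair 1 a b hab)
    rw [← hprod, Ideal.prod_eq_iInf_of_pairwise_isCoprime fun a _ b _ hab => Ideal.isCoprime_iff_sup_eq.2 (hpair N a b hab)]
    simp only [Submodule.mem_iInf]
    intro j _
    by_cases hji : j = i
    · subst hji; exact Ideal.mul_mem_right _ _ hc
    · have := (e i).2
      simp only [Submodule.mem_iInf] at this
      exact Ideal.mul_mem_left _ _ (this j (Finset.mem_univ j) hji)
  · let T := B ⧸ n.asIdeal
    haveI := n.isMaximal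
    obtain ⟨Φ, hΦ⟩ := GrothLib.Matlis.exists_apply_ne_zero hf (M := T) (x := (1 : T)) one_ne_zero
    obtain ⟨x₀, hx₀⟩ := hsurj (Φ ∘ₗ (Ideal.Quotient.mkₐ A n.asIdeal).toLinearMap)
    have hx₀n : ∀ b ∈ n.asIdeal, b • x₀ = 0 := fun b hb => hinj _ fun c => by
      rw [smul_smul, hx₀]
      show Φ (Ideal.Quotient.mk n.asIdeal (c * b)) = 0
      rw [Ideal.Quotient.eq_zero_iff_mem.2 (Ideal.mul_mem_left _ _ hb), map_zero]
    let Ψ : T →ₗ[A] (T →ₗ[A] E) := (LinearMap.compRight A Φ).comp (LinearMap.mul A T)
    have hΨ : Function.Injective Ψ := by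
      rw [injective_iff_map_eq_zero]
      intro c hc
      by_contra hc0
      obtain ⟨d, hd⟩ := (Ideal.Quotient.maximal_ideal_iff_isField_quotient _).1 n.isMaximal |>.mul_inv_cancel hc0
      have := LinearMap.congr_fun hc d
      exact hΦ ((congrArg Φ hd).symm.trans this)
    have hflT := hfl n.asIdeal (hle n)
    have hΨs := GrothLib.Matlis.surjective_of_length_eq Ψ hΨ
      (GrothLib.Matlis.length_linearMap hf hflT).symm (Module.length_ne_top_iff.2 hflT)
    have hsoc : ∀ y ∈ LocCoh.torsionBy n.asIdeal M, ∃ b : B, b • x₀ = y := fun y hy => by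
      let L : B →ₗ[A] E :=
        { toFun := fun b => ev (b • y)
          map_add' := fun b c => by rw [add_smul, map_add]
          map_smul' := fun a b => by rw [Algebra.smul_def, mul_smul, hev, RingHom.id_apply] }
      let Lq : T →ₗ[A] E := (n.asIdeal.restrictScalars A).liftQ L fun b hb => by
        show ev (b • y) = 0
        rw [(Submodule.mem_torsionBySet_iff _ _).1 hy ⟨b, hb⟩, map_zero]
      obtain ⟨c, hc⟩ := hΨs Lq
      obtain ⟨b, rfl⟩ := Ideal.Quotient.mk_surjective c
      refine ⟨b, sub_eq_zero.1 (hinj _ fun c => ?_)⟩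
      rw [smul_sub, map_sub, smul_smul, hx₀, sub_eq_zero]
      show Φ (Ideal.Quotient.mk n.asIdeal (c * b)) = ev (c • y)
      rw [mul_comm, map_mul]
      exact LinearMap.congr_fun hc (Ideal.Quotient.mk n.asIdeal c)
    have hx₀J : x₀ ∈ J n := ⟨1, fun b hb => hx₀n b (by rwa [pow_one] at hb)⟩
    let g : T →ₗ[B] J n := Submodule.liftQ n.asIdeal (LinearMap.toSpanSingleton B (J n) ⟨x₀, hx₀J⟩)
      fun b hb => Subtype.ext (hx₀n b hb)
    refine ⟨g, { injective := ?_, essential := fun K hK => ?_, isInjective := GrothLib.LC.injective_torsionSub n.asIdeal M }⟩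
    · rw [injective_iff_map_eq_zero]
      intro c hc
      obtain ⟨b, rfl⟩ := Ideal.Quotient.mk_surjective c
      by_contra hb
      have hbn : b ∉ n.asIdeal := fun h => hb (Ideal.Quotient.eq_zero_iff_mem.2 h)
      obtain ⟨s, i, hi, hsi⟩ := n.isMaximal.exists_inv hbn
      have hb0 : b • x₀ = 0 := congrArg Subtype.val hc
      have : x₀ = 0 := by
        have h := congrArg (· • x₀) hsi
        simpa [add_smul, mul_smul, hb0, hx₀n i hi] using h.symm
      have h1 := hx₀ 1
      rw [one_smul, this, map_zero] at h1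
      exact hΦ h1.symm
    · obtain ⟨z, hz, hz0⟩ := (Submodule.ne_bot_iff K).1 hK
      obtain ⟨a, ha, ha0⟩ := GrothLib.Matlis.exists_smul_mem_socle (J := n.asIdeal)
        (GrothLib.LC.isPowerTorsion_torsionSub n.asIdeal M) hz0
      obtain ⟨b, hb⟩ := hsoc (a • z : J n).1 ((Submodule.mem_torsionBySet_iff _ _).2 fun c =>
        congrArg Subtype.val ((Submodule.mem_torsionBySet_iff _ _).1 ha c))
      exact (Submodule.ne_bot_iff _).2 ⟨a • z, ⟨K.smul_mem a hz, Ideal.Quotient.mk _ b, Subtype.ext hb⟩, ha0⟩


/-- Let A be a Noetherian local ring with residue field k, k → E an injective hull of k, and B a finite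
A-algebra (a semilocal ring all of whose maximal ideals lie over the maximal ideal of A). Then the
B-module Hom_A(B, E), with B acting by (b·φ)(b') = φ(bb'), is the internal direct sum over the
maximal ideals n of B of submodules J_n (independent, with supremum everything), where each J_n is
an injective hull over B of the residue field B/n: each hull occurs exactly once. -/
theorem result (A B : Type u) [CommRing A] [IsLocalRing A] [IsNoetherianRing A] [CommRing B] [Algebra A B] [Module.Finite A B] (E : Type u) [AddCommGroup E] [Module A E] (f : IsLocalRing.ResidueField A →ₗ[A] E) (hf : InjHull.IsInjectiveHull f) : ∃ J : MaximalSpectrum B → Submodule B ((ModuleCat.coextendScalars (algebraMap A B)).obj (ModuleCat.of A E)), iSupIndep J ∧ iSup J = ⊤ ∧ ∀ n : MaximalSpectrum B, ∃ g : (B ⧸ n.asIdeal) →ₗ[B] J n, InjHull.IsInjectiveHull g := by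
  refine exists_decomposition hf
    (GrothLib.InjMod.injective_coextendScalars (algebraMap A B) hf.isInjective)
    { toFun := fun x => x (1 : B), map_zero' := rfl, map_add' := fun x y => rfl }
    (fun a x => ?_) (fun x hx => LinearMap.ext fun b => ?_) fun L => ?_
  · refine (congrArg x ((one_mul (algebraMap A B a)).trans (mul_one _).symm)).trans ?_
    exact x.map_smul a (1 : B)
  · exact (congrArg x (@one_mul B _ b).symm).trans (hx b)
  · exact ⟨{ toFun := L, map_add' := L.map_add, map_smul' := fun a (b : B) => (congrArg L (Algebra.smul_def a b).symm).trans (L.map_smul a b) },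
      fun (b : B) => congrArg L (one_mul b)⟩

end Groth.Agent.S11184
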