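import Groth.Statements.S11187
import Groth.Agent.Lib.DualCx22.Twist

set_option autoImplicit false
universe u
open CategoryTheory
attribute [local instance] HasDerivedCategory.standard
open Dual

namespace Groth.Agent.S11187

/-- Let A be a nonzero Noetherian ring, ω a dualizing complex for A, P and P' invertible A-modules
(finite locally free of rank one) and n, n' integers; assume the total left derived functors − ⊗^L_A
P and − ⊗^L_A P' exist on D(A). If (ω ⊗^L_A P)[n] and (ω ⊗^L_A P')[n'] are isomorphic in D(A), then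
n = n' and P is A-linearly isomorphic to P'. (The published statement is for a connected scheme; the
uniqueness does not need connectedness, only that A is nonzero, which is assumed here since over the
zero ring every shift of the zero object is zero.) -/
theorem result (A : Type u) [CommRing A] [IsNoetherianRing A] [Nontrivial A] (ω : Dual.D A) (hω : Dual.IsDualizing A ω) (P P' : Type u) [AddCommGroup P] [Module A P] [Module.Invertible A P] [AddCommGroup P'] [Module A P'] [Module.Invertible A P'] [DRing.HasLTensor A (ModuleCat.of A P)] [DRing.HasLTensor A (ModuleCat.of A P')] (n n' : ℤ) (h : Nonempty (((DRing.LTensor A (ModuleCat.of A P)).obj ω)⟦n⟧ ≅ ((DRing.LTensor A (ModuleCat.of A P')).obj ω)⟦n'⟧)) : n = n' ∧ Nonempty (P ≃ₗ[A] P') := by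
  classical
  haveI : Module.Invertible A (ModuleCat.of A P) := ‹_›
  haveI : Module.Invertible A (ModuleCat.of A P') := ‹_›
  obtain ⟨e⟩ := GrothLib.DualCx22.nonempty_LTensor_iso_twistD (ModuleCat.of A P)
  obtain ⟨e'⟩ := GrothLib.DualCx22.nonempty_LTensor_iso_twistD (ModuleCat.of A P')
  obtain ⟨h⟩ := h
  let h1 := ((CategoryTheory.shiftFunctor (Dual.D A) n).mapIso (e.app ω)).symm ≪≫ h ≪≫
    (CategoryTheory.shiftFunctor (Dual.D A) n').mapIso (e'.app ω)
  -- undo the shift
  let h2 : (GrothLib.DualCx22.twistD (ModuleCat.of A P)).obj ω ≅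
      ((GrothLib.DualCx22.twistD (ModuleCat.of A P')).obj ω)⟦(n' - n)⟧ :=
    (shiftShiftNeg _ n).symm ≪≫ (CategoryTheory.shiftFunctor (Dual.D A) (-n)).mapIso h1 ≪≫
      ((CategoryTheory.shiftFunctorAdd' (Dual.D A) n' (-n) (n' - n) (by omega)).app _).symm
  obtain ⟨Q, hQ, ⟨u⟩, -⟩ := GrothLib.DualCx22.exists_tensor_inverse (ModuleCat.of A P)
  -- undo the twist by `P`
  haveI : Module.Invertible A ((MonoidalCategory.tensorObj (ModuleCat.of A P') Q) : ModuleCat A) :=
    inferInstanceAs (Module.Invertible A (TensorProduct A P' Q))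
  let R : ModuleCat A := MonoidalCategory.tensorObj (ModuleCat.of A P') Q
  let h3 : ω ≅ ((GrothLib.DualCx22.twistD R).obj ω)⟦(n' - n)⟧ :=
    ((GrothLib.DualCx22.twistCompId u).app ω).symm ≪≫ (GrothLib.DualCx22.twistD Q).mapIso h2 ≪≫
      ((GrothLib.DualCx22.twistD Q).commShiftIso (n' - n)).app _ ≪≫
      (CategoryTheory.shiftFunctor (Dual.D A) (n' - n)).mapIso
        ((GrothLib.DerCat.mapDerivedCompIso (MonoidalCategory.tensorRight (ModuleCat.of A P'))
          (MonoidalCategory.tensorRight Q) (MonoidalCategory.tensorRight R)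
          (MonoidalCategory.tensorRightTensor _ _).symm).app ω)
  obtain ⟨⟨T⟩, hv⟩ := GrothLib.DualCx22.nonempty_hom_twistD R hω.toEnd_bijective
  have hn : n = n' := by
    by_contra hne
    haveI := hv _ (hω.ext_self_subsingleton (n' - n) (by omega))
    have h0 : 𝟙 ω = 0 := by
      rw [← h3.hom_inv_id, Subsingleton.elim h3.hom 0, Limits.zero_comp]
    exact one_ne_zero (hω.toEnd_bijective.1 (a₁ := (1 : A)) (a₂ := 0) (by simp [h0]))
  subst hn
  refine ⟨rfl, ?_⟩
  let h4 : ω ≅ (GrothLib.DualCx22.twistD R).obj ω :=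
    h3 ≪≫ (CategoryTheory.shiftFunctorZero' (Dual.D A) (n - n) (by omega)).app _
  let i0 : A ≃ₗ[A] (ω ⟶ ω) :=
    LinearEquiv.ofBijective (LinearMap.toSpanSingleton A (ω ⟶ ω) (𝟙 ω)) hω.toEnd_bijective
  let iR : R ≃ₗ[A] A := T.trans ((Linear.homCongr A (Iso.refl ω) h4.symm).trans i0.symm)
  -- cancel `Q`
  let iQ : TensorProduct A Q P ≃ₗ[A] A :=
    (TensorProduct.comm A Q P).trans u.toLinearEquiv
  exact ⟨(((TensorProduct.rid A P').symm.trans (TensorProduct.congr (LinearEquiv.refl A P') iQ.symm)).trans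
    ((TensorProduct.assoc A P' Q P).symm.trans ((TensorProduct.congr iR (LinearEquiv.refl A P)).trans
      (TensorProduct.lid A P)))).symm⟩

end Groth.Agent.S11187
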