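import Groth.Statements.S11188
import Groth.Agent.Lib.Induce27.Obs
import Groth.Agent.S11191
-- import your own Groth.Agent.* helpers here

set_option autoImplicit false
universe u
open CategoryTheory MonoidalCategory CartesianMonoidalCategory MonObj GrpObj AlgebraicGeometry
open scoped TensorProduct
open AGF

namespace Groth.Agent.S11188

/-- (1) ⇔ (2) ⇔ (3): let k be an algebraically closed field, G a linear algebraic group over k (an
affine smooth group scheme over k) and H a closed subgroup of G (a smooth closed subgroup scheme, i
: H → G). The following are equivalent: (i) H is observable in G, i.e. a rational point of G whose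
right translation fixes every right-H-invariant global function on G lies in H; (ii) there are a
finite-dimensional rational G-module V and a vector v in V whose stabiliser, on rational points, is
H; (iii) there are finitely many right-H-invariant global functions on G which separate the cosets
gH: two rational points of G at which they all take the same values differ by right multiplication
by a rational point of H. -/
theorem result (k : Type u) [Field k] [IsAlgClosed k]
    (G : Over (Spec (CommRingCat.of k))) [GrpObj G] [IsAffine G.left] [Smooth G.hom]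
    (H : Over (Spec (CommRingCat.of k))) [GrpObj H] [Smooth H.hom] (i : H ⟶ G) [IsMonHom i]
    [IsClosedImmersion i.left] :
    List.TFAE [
      AGF.IsObservableIn k i,
      ∃ (V : Type u) (_ : AddCommGroup V) (_ : Module k V) (_ : Module.Finite k V) (ρ : VecGrp.GMod G V) (v : V),
        AGF.IsStabOnPts k i ρ v,
      ∃ s : Finset Γ(G.left, ⊤), (∀ f ∈ s, AGF.IsRTransInv i f) ∧
        ∀ g g' : VecGrp.pt k k ⟶ G, (∀ f ∈ s, g.left.appTop f = g'.left.appTop f) →
          ∃ h : VecGrp.pt k k ⟶ H, g' = g * (h ≫ i)] := by
  classical
  haveI : IsAffine H.left := isAffine_of_isAffineHom i.left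
  open GrothLib.Induce27 in
  tfae_have 1 → 3 := by
    intro hobs
    obtain ⟨s, hs, hsep⟩ := exists_separating (k := k) i
    refine ⟨s, fun f hf => (mem_semi_one_iff f).1 (hs f hf), fun g g' hg => ?_⟩
    obtain ⟨h, hh⟩ := hobs _ (inHull_of_agree (i := i)
      (hsep g g' fun f hf => (appTop_eq_iff g g' f).1 (hg f hf)))
    exact ⟨h, by rw [hh, mul_inv_cancel_left]⟩
  open GrothLib.Induce27 in
  tfae_have 3 → 1 := by
    rintro ⟨s, hs, hsep⟩ g hg
    obtain ⟨h, hh⟩ := hsep 1 g fun f hf =>
      (appTop_eq_iff 1 g f).2 (InHull.valAt_eq (i := i) hg ((mem_semi_one_iff f).2 (hs f hf))).symm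
    exact ⟨h, by rw [hh, _root_.one_mul]⟩
  open GrothLib.Induce27 in
  tfae_have 1 → 2 := by
    intro hobs
    obtain ⟨s, hs, hsep⟩ := exists_separating (k := k) i
    obtain ⟨N, hN, -, -, hst, hmem⟩ := exists_stable_fn (i := i) s
    haveI := hN
    haveI : IsAffineHom G.hom := inferInstance
    let ρ := piGMod (subGMod (GrothLib.Repr.fnGMod (rtAct G)) N hst) (Fin s.card)
    let v : Fin s.card → N := fun t => ⟨(s.equivFin.symm t).1, hmem _ (s.equivFin.symm t).2⟩
    refine ⟨Fin s.card → N, inferInstance, inferInstance, inferInstance, ρ, v, fun g => ?_⟩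
    have hiff : ρ.ρ k g ((1 : k) ⊗ₜ[k] v) = (1 : k) ⊗ₜ[k] v ↔ ∀ t, rt g (v t : GrothLib.Repr.Fn G) = v t := by
      have key : ∀ t, N.subtype.baseChange k (TensorProduct.piRight k k k (fun _ : Fin s.card => N)
          (ρ.ρ k g ((1 : k) ⊗ₜ[k] v)) t) = (1 : k) ⊗ₜ[k] rt g (v t : GrothLib.Repr.Fn G) := fun t => by
        rw [piGMod_apply, subGMod_apply, res_spec, TensorProduct.piRight_apply, TensorProduct.piRightHom_tmul,
          LinearMap.baseChange_tmul, Submodule.subtype_apply, rho_fn]
      constructor
      · intro h t
        have h1 := key t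
        rw [h, TensorProduct.piRight_apply, TensorProduct.piRightHom_tmul, LinearMap.baseChange_tmul] at h1
        simpa using (congrArg (TensorProduct.lid k (GrothLib.Repr.Fn G)) h1).symm
      · intro h
        apply (TensorProduct.piRight k k k (fun _ : Fin s.card => N)).injective
        funext t
        refine subtype_injective N k ?_
        rw [key t, h t, TensorProduct.piRight_apply, TensorProduct.piRightHom_tmul, LinearMap.baseChange_tmul]
        rfl
    rw [hiff]
    constructor
    · intro h
      refine hobs g ?_
      have := inHull_of_agree (i := i) (hsep 1 g fun f hf => ?_)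
      · rwa [inv_one, _root_.one_mul] at this
      · have h2 := congrArg (valAt (1 : VecGrp.pt k k ⟶ G)) (h (s.equivFin ⟨f, hf⟩))
        rw [valAt_rt, _root_.one_mul] at h2
        simp only [v, Equiv.symm_apply_apply] at h2
        exact h2.symm
    · rintro ⟨h, rfl⟩ t
      refine ext_valAt fun x => ?_
      rw [valAt_rt]
      have := mem_semi_iff.1 (hs _ (s.equivFin.symm t).2) x h
      rw [_root_.one_mul] at this
      exact this
  open GrothLib.Induce27 in
  tfae_have 2 → 1 := by
    rintro ⟨V, _, _, _, ρ, v, hv⟩ g hg
    have hfix : v ∈ ρ.fixedUnder i := fixedUnder_of_valAt ρ v fun t => (hv _).2 ⟨t, rfl⟩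
    exact (hv g).1 (Groth.Agent.S11191.result k G H i V ρ g hg v hfix)
  tfae_finish

end Groth.Agent.S11188
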