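import Groth.Statements.S11192
import Groth.Agent.Lib.Rigidity.SmoothGroup
import Groth.Agent.Lib.RegLoc.Normal
import Groth.Agent.Lib.Serre.Smooth
import Groth.Agent.Lib.Repr.Functions
import Mathlib.RingTheory.LocalProperties.IntegrallyClosed
import Mathlib.RingTheory.Smooth.Locus
-- import your own Groth.Agent.* helpers here

set_option autoImplicit false
universe u
open CategoryTheory MonoidalCategory CartesianMonoidalCategory MonObj GrpObj AlgebraicGeometry
open scoped TensorProduct
open AGF

namespace Groth.Agent.S11192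

/-- Let k be an algebraically closed field, G a linear algebraic group over k (an affine smooth group
scheme over k) and H a closed subgroup of G (a smooth closed subgroup scheme, i : H → G), with G
connected. Then the ring of global functions on G invariant under right translation by H is
integrally closed. -/
theorem result (k : Type u) [Field k] [IsAlgClosed k]
    (G : Over (Spec (CommRingCat.of k))) [GrpObj G] [IsAffine G.left] [Smooth G.hom]
    (H : Over (Spec (CommRingCat.of k))) [GrpObj H] [Smooth H.hom] (i : H ⟶ G) [IsMonHom i]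
    [IsClosedImmersion i.left] [ConnectedSpace G.left] :
    IsIntegrallyClosed ↥(AGF.rTransInv i) := by
  haveI : IsReduced G.left := GrothLib.Rigidity.isReduced_of_smooth G.hom
  haveI : IrreducibleSpace G.left := GrothLib.Rigidity.irreducibleSpace_of_connected G
  haveI : IsIntegral G.left := isIntegral_of_irreducibleSpace_of_isReduced _
  haveI : IsDomain (GrothLib.Repr.Fn G) := inferInstanceAs (IsDomain Γ(G.left, ⊤))
  have hsm : (algebraMap k (GrothLib.Repr.Fn G)).Smooth := by
    change ((Scheme.ΓSpecIso (CommRingCat.of k)).inv ≫ G.hom.appTop).hom.Smooth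
    exact (RingHom.Smooth.respectsIso.cancel_left_isIso _ _).2
      (HasRingHomProperty.appTop (P := @Smooth) _ inferInstance)
  rw [RingHom.smooth_algebraMap] at hsm
  haveI : Algebra.FiniteType k (GrothLib.Repr.Fn G) := inferInstance
  haveI : IsIntegrallyClosed (GrothLib.Repr.Fn G) := IsIntegrallyClosed.of_localization_maximal fun P _ _ => by
    haveI : Algebra.IsSmoothAt k P := (Set.eq_univ_iff_forall.1 (Algebra.smoothLocus_eq_univ (R := k) (A := GrothLib.Repr.Fn G))) ⟨P, inferInstance⟩
    haveI := GrothLib.Serre.isRegularLocalRing_of_isSmoothAt (k := k) P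
    exact GrothLib.RegLoc.isIntegrallyClosed_of_isRegularLocalRing _
  haveI : IsIntegrallyClosed Γ(G.left, ⊤) := ‹IsIntegrallyClosed (GrothLib.Repr.Fn G)›
  haveI : IsAffine H.left := isAffine_of_isAffineHom i.left
  haveI : IsAffine (G ⊗ H).left := inferInstanceAs (IsAffine (Limits.pullback G.hom H.hom))
  haveI : Flat H.hom := GrothLib.DiagGrp.flat_of_field _
  haveI : Flat (fst G H).left := inferInstanceAs (Flat (Limits.pullback.fst G.hom H.hom))
  let φ := ((G ◁ i) ≫ μ[G]).left.appTop.hom
  let ψ := (fst G H).left.appTop.hom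
  have hψ : ψ.Flat := (fst G H).left.flat_appTop
  let F := FractionRing Γ(G.left, ⊤)
  refine (isIntegrallyClosed_iff (FractionRing ↥(AGF.rTransInv i))).2 ?_
  intro x hx
  obtain ⟨a, b, hb, rfl⟩ := IsFractionRing.div_surjective (A := ↥(AGF.rTransInv i)) x
  have hinj : Function.Injective ((algebraMap Γ(G.left, ⊤) F).comp (AGF.rTransInv i).subtype) :=
    (IsFractionRing.injective Γ(G.left, ⊤) F).comp Subtype.val_injective
  let L : FractionRing ↥(AGF.rTransInv i) →+* F := IsFractionRing.lift hinj
  have hL : ∀ z : ↥(AGF.rTransInv i), L (algebraMap _ _ z) = algebraMap Γ(G.left, ⊤) F z.1 := fun z => IsFractionRing.lift_algebraMap hinj z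
  obtain ⟨P, hP, hP0⟩ := hx
  have hintL : IsIntegral Γ(G.left, ⊤) (L (algebraMap _ _ a / algebraMap _ _ b)) := by
    refine ⟨P.map (AGF.rTransInv i).subtype, hP.map _, ?_⟩
    rw [Polynomial.eval₂_map]
    have := congrArg L hP0
    rw [Polynomial.hom_eval₂, map_zero] at this
    rw [show L.comp (algebraMap _ _) = (algebraMap Γ(G.left, ⊤) F).comp (AGF.rTransInv i).subtype from
      RingHom.ext hL] at this
    exact this
  obtain ⟨c, hc⟩ := (isIntegrallyClosed_iff F).1 inferInstance hintL
  have hb0 : (b : Γ(G.left, ⊤)) ≠ 0 := fun h => nonZeroDivisors.ne_zero hb (Subtype.ext h)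
  rw [map_div₀, hL, hL, eq_div_iff (fun h => hb0 ((IsFractionRing.injective Γ(G.left, ⊤) F) (by rw [h, map_zero]))),
    ← map_mul] at hc
  have hab : c * b.1 = a.1 := IsFractionRing.injective Γ(G.left, ⊤) F hc
  have hreg : IsSMulRegular Γ((G ⊗ H).left, ⊤) (ψ b.1) := by
    letI := ψ.toAlgebra
    haveI : Module.Flat Γ(G.left, ⊤) Γ((G ⊗ H).left, ⊤) := hψ
    exact (IsSMulRegular.of_ne_zero hb0).of_flat
  have hcmem : c ∈ AGF.rTransInv i := by
    refine hreg ?_
    have h1 : φ a.1 = ψ a.1 := a.2
    have h2 : φ b.1 = ψ b.1 := b.2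
    rw [← hab, map_mul, map_mul, h2] at h1
    change ψ b.1 * φ c = ψ b.1 * ψ c
    linear_combination h1
  refine ⟨⟨c, hcmem⟩, ?_⟩
  rw [eq_div_iff (fun h => nonZeroDivisors.ne_zero hb (IsFractionRing.injective _ _ (by rw [h, map_zero]))), ← map_mul]
  exact congrArg _ (Subtype.ext hab)

end Groth.Agent.S11192
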