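import Groth.Statements.S11193
import Groth.Agent.Lib.Induce27.Open
import Groth.Agent.Lib.Induce27.Sub
-- import your own Groth.Agent.* helpers here

set_option autoImplicit false
universe u
open CategoryTheory MonoidalCategory CartesianMonoidalCategory MonObj GrpObj AlgebraicGeometry
open scoped TensorProduct
open AGF

namespace Groth.Agent.S11193

/-- Let k be an algebraically closed field, G a linear algebraic group over k (an affine smooth group
scheme over k) and H a closed subgroup of G (a smooth closed subgroup scheme, i : H → G), with H of
finite index in G (equivalently, H is also open in G). Then each finite-dimensional rational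
H-module occurs as an H-submodule of some rational G-module of finite dimension. -/
theorem result (k : Type u) [Field k] [IsAlgClosed k]
    (G : Over (Spec (CommRingCat.of k))) [GrpObj G] [IsAffine G.left] [Smooth G.hom]
    (H : Over (Spec (CommRingCat.of k))) [GrpObj H] [Smooth H.hom] (i : H ⟶ G) [IsMonHom i]
    [IsClosedImmersion i.left] [IsOpenImmersion i.left]
    (V : Type u) [AddCommGroup V] [Module k V] [Module.Finite k V] (σ : VecGrp.GMod H V) :
    σ.ExtendsAlong i := by
  classical
  haveI : IsAffineHom i.left := inferInstance
  haveI : IsAffine H.left := isAffine_of_isAffineHom i.left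
  haveI : IsAffineHom G.hom := inferInstance
  haveI : LocallyOfFiniteType G.hom := inferInstance
  haveI : QuasiCompact G.hom := inferInstance
  haveI : QuasiSeparated G.hom := inferInstance
  obtain ⟨e, he⟩ := GrothLib.Induce27.exists_isIdem i
  let b := Module.finBasis k V
  choose L hL1 hL2 using fun j => GrothLib.Induce27.exists_intertwiner σ he (b.coord j)
  let m := GrothLib.Induce27.piGMod
    (GrothLib.Repr.fnGMod (GrothLib.Induce27.rtAct G)) (Fin (Module.finrank k V))
  obtain ⟨N, hN, hst, hmem⟩ := GrothLib.Repr.exists_stable m
    (Finset.univ.image fun j => LinearMap.pi L (b j))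
  haveI := hN
  have hmem' : ∀ v, LinearMap.pi L v ∈ N := by
    intro v
    rw [← b.sum_repr v, map_sum]
    refine Submodule.sum_mem _ fun j _ => ?_
    rw [map_smul]
    exact N.smul_mem _ (hmem _ (Finset.mem_image_of_mem _ (Finset.mem_univ j)))
  refine ⟨↥N, inferInstance, inferInstance, hN, GrothLib.Induce27.subGMod m N hst,
    LinearMap.codRestrict N (LinearMap.pi L) hmem', ?_, ?_⟩
  · intro v w hvw
    refine b.ext_elem fun j => ?_
    have h := congrArg (fun z : N => GrothLib.Induce27.valAt (1 : VecGrp.pt k k ⟶ G) ((z : Fin (Module.finrank k V) → GrothLib.Repr.Fn G) j)) hvw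
    simpa [hL1] using h
  · intro B _ _ h x
    refine GrothLib.Induce27.subtype_injective N B ?_
    rw [GrothLib.Induce27.subGMod_apply, GrothLib.Induce27.res_spec, ← LinearMap.comp_apply,
      ← LinearMap.baseChange_comp, LinearMap.subtype_comp_codRestrict, ← LinearMap.comp_apply,
      ← LinearMap.baseChange_comp, LinearMap.subtype_comp_codRestrict]
    apply (TensorProduct.piRight k B B (fun _ : Fin (Module.finrank k V) => GrothLib.Repr.Fn G)).injective
    funext j
    rw [GrothLib.Induce27.piRight_baseChange_pi, GrothLib.Induce27.piGMod_apply,
      GrothLib.Induce27.piRight_baseChange_pi]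
    exact hL2 j B h x

end Groth.Agent.S11193
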