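import Groth.Statements.S11194
import Groth.Agent.Lib.Induce27.Finite
-- import your own Groth.Agent.* helpers here

set_option autoImplicit false
universe u
open CategoryTheory MonoidalCategory CartesianMonoidalCategory MonObj GrpObj AlgebraicGeometry
open scoped TensorProduct
open AGF

namespace Groth.Agent.S11194

/-- (i) ⇔ (iii): let k be an algebraically closed field, G a linear algebraic group over k (an affine
smooth group scheme over k) and H a closed subgroup of G (a smooth closed subgroup scheme, i : H →
G); let G₀ ⊆ G and H₀ ⊆ H be the identity components (connected open subgroup schemes) and i₀ : H₀ →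
G₀ the induced homomorphism. Then H is observable in G if and only if H₀ is observable in G₀. -/
theorem result (k : Type u) [Field k] [IsAlgClosed k]
    (G : Over (Spec (CommRingCat.of k))) [GrpObj G] [IsAffine G.left] [Smooth G.hom]
    (H : Over (Spec (CommRingCat.of k))) [GrpObj H] [Smooth H.hom] (i : H ⟶ G) [IsMonHom i]
    [IsClosedImmersion i.left]
    (G₀ : Over (Spec (CommRingCat.of k))) [GrpObj G₀] [ConnectedSpace G₀.left] (jG : G₀ ⟶ G) [IsMonHom jG]
    [IsOpenImmersion jG.left]
    (H₀ : Over (Spec (CommRingCat.of k))) [GrpObj H₀] [ConnectedSpace H₀.left] (jH : H₀ ⟶ H) [IsMonHom jH]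
    [IsOpenImmersion jH.left] (i₀ : H₀ ⟶ G₀) [IsMonHom i₀] (hc : i₀ ≫ jG = jH ≫ i) :
    AGF.IsObservableIn k i ↔ AGF.IsObservableIn k i₀ := by
  open GrothLib.Induce27 in
  haveI : IsAffine H.left := isAffine_of_isAffineHom i.left
  open GrothLib.Induce27 in
  haveI : IsClosedImmersion jH.left := isClosedImmersion_of_open jH
  open GrothLib.Induce27 in
  haveI : IsClosedImmersion jG.left := isClosedImmersion_of_open jG
  haveI : IsAffine H₀.left := isAffine_of_isAffineHom jH.left
  haveI : IsAffine G₀.left := isAffine_of_isAffineHom jG.left
  haveI : Smooth H₀.hom := by rw [← Over.w jH]; infer_instance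
  haveI : Smooth G₀.hom := by rw [← Over.w jG]; infer_instance
  haveI : IsClosedImmersion (i₀.left ≫ jG.left) := by
    rw [← Over.comp_left, hc, Over.comp_left]; infer_instance
  haveI : IsClosedImmersion i₀.left := IsClosedImmersion.of_comp i₀.left jG.left
  haveI : IsClosedImmersion (i₀ ≫ jG).left := inferInstanceAs (IsClosedImmersion (i₀.left ≫ jG.left))
  haveI : IsClosedImmersion (jH ≫ i).left := inferInstanceAs (IsClosedImmersion (jH.left ≫ i.left))
  constructor
  · intro h
    refine GrothLib.Induce27.observable_of_intermediate (i := jG) i₀ ?_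
    rw [hc]
    exact GrothLib.Induce27.observable_comp jH (GrothLib.Induce27.observable_of_open jH) h
  · intro h
    refine GrothLib.Induce27.observable_of_finite_index jH ?_
    rw [← hc]
    exact GrothLib.Induce27.observable_comp i₀ h (GrothLib.Induce27.observable_of_open jG)

end Groth.Agent.S11194
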