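import Groth.Statements.S11199
import Groth.Agent.S11191
-- import your own Groth.Agent.* helpers here

set_option autoImplicit false
universe u
open CategoryTheory MonoidalCategory CartesianMonoidalCategory MonObj GrpObj AlgebraicGeometry
open scoped TensorProduct
open AGF

namespace Groth.Agent.S11199

/-- Let k be an algebraically closed field, G a linear algebraic group over k (an affine smooth group
scheme over k) and H a closed subgroup of G (a smooth closed subgroup scheme, i : H → G). Then there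
are finitely many right-H-invariant global functions f₁, ..., fₙ on G which already cut out the
observable hull of H: a rational point of G whose right translation fixes each fⱼ fixes every
right-H-invariant global function. -/
theorem result (k : Type u) [Field k] [IsAlgClosed k]
    (G : Over (Spec (CommRingCat.of k))) [GrpObj G] [IsAffine G.left] [Smooth G.hom]
    (H : Over (Spec (CommRingCat.of k))) [GrpObj H] [Smooth H.hom] (i : H ⟶ G) [IsMonHom i]
    [IsClosedImmersion i.left] :
    ∃ s : Finset Γ(G.left, ⊤), (∀ f ∈ s, AGF.IsRTransInv i f) ∧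
      ∀ g : VecGrp.pt k k ⟶ G, (∀ f ∈ s, AGF.IsRTransInv g f) →
        ∀ f : Γ(G.left, ⊤), AGF.IsRTransInv i f → AGF.IsRTransInv g f := by
  open GrothLib.Repr in
  classical
  let A := Fn G
  haveI : QuasiCompact G.hom := inferInstance
  haveI : QuasiSeparated G.hom := inferInstance
  haveI : IsNoetherianRing A := by
    haveI : LocallyOfFiniteType G.hom := inferInstance
    have hft : (algebraMap k A).FiniteType := by
      change ((Scheme.ΓSpecIso (CommRingCat.of k)).inv ≫ G.hom.appTop).hom.FiniteType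
      exact (RingHom.finiteType_respectsIso.cancel_left_isIso _ _).2
        (HasRingHomProperty.appTop (P := @LocallyOfFiniteType) _ inferInstance)
    haveI : Algebra.FiniteType k A := RingHom.finiteType_algebraMap.1 hft
    exact Algebra.FiniteType.isNoetherianRing k A
  let e := Groth.Agent.S11191.affIso G
  let Δ : Γ(G.left, ⊤) → VecGrp.W k A A := fun f => (thetaEquiv A G).symm (fnMap ((G ◁ e.inv) ≫ μ[G]) f)
  let J : Finset Γ(G.left, ⊤) → Ideal A := fun s => Ideal.span
    {x | ∃ f ∈ s, ∃ ℓ : Module.Dual k A, x = cf ℓ (Δ f) - algebraMap k A (ℓ f)}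
  obtain ⟨_, ⟨s, hs, rfl⟩, hmax⟩ := set_has_maximal_iff_noetherian.2 (inferInstanceAs (IsNoetherian A A))
    {I | ∃ s : Finset Γ(G.left, ⊤), (∀ f ∈ s, AGF.IsRTransInv i f) ∧ J s = I} ⟨J ∅, ∅, by simp, rfl⟩
  refine ⟨s, hs, fun g hg f hf => ?_⟩
  obtain ⟨γ', hγ⟩ := exists_ptMap (g ≫ e.hom)
  have hnat : ∀ y : VecGrp.W k A A, theta k G (VecGrp.Wmap γ' y) = fnMap (G ◁ VecGrp.ptMap γ') (theta A G y) := by
    intro y
    induction y using TensorProduct.induction_on with
    | zero => simp
    | tmul r a =>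
      rw [VecGrp.Wmap_tmul, theta_tmul, theta_tmul, map_mul]
      refine congrArg₂ (· * ·) ?_ ?_
      · rw [← AlgHom.comp_apply (fnMap (G ◁ VecGrp.ptMap γ')), ← fnMap_comp, whiskerLeft_snd, fnMap_comp, AlgHom.comp_apply,
          fnMap_ptMap]
      · rw [← AlgHom.comp_apply (fnMap (G ◁ VecGrp.ptMap γ')), ← fnMap_comp, whiskerLeft_fst]
    | add a b ha hb => simp only [map_add, ha, hb]
  have hiff : ∀ f' : Γ(G.left, ⊤), AGF.IsRTransInv g f' ↔
      ∀ ℓ : Module.Dual k A, γ' (cf ℓ (Δ f') - algebraMap k A (ℓ f')) = 0 := by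
    intro f'
    have h1 : fnMap ((G ◁ g) ≫ μ[G]) f' = theta k G (VecGrp.Wmap γ' (Δ f')) := by
      rw [hnat, ← thetaEquiv_apply, AlgEquiv.apply_symm_apply, ← AlgHom.comp_apply, ← fnMap_comp, ← Category.assoc,
        ← whiskerLeft_comp, ← hγ, Category.assoc, e.hom_inv_id, Category.comp_id]
    have h2 : fnMap (fst G (VecGrp.pt k k)) f' = theta k G ((1 : k) ⊗ₜ[k] (f' : A)) := by
      rw [theta_tmul, map_one, map_one, _root_.one_mul]
    change fnMap ((G ◁ g) ≫ μ[G]) f' = fnMap (fst G (VecGrp.pt k k)) f' ↔ _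
    rw [h1, h2, (bijective_theta G).1.eq_iff]
    constructor
    · intro h ℓ
      rw [map_sub, map_cf, h, cf_tmul, AlgHom.commutes, sub_eq_zero]
      simp
    · intro h
      refine ext_cf fun ℓ => ?_
      have := h ℓ
      rw [map_sub, map_cf, AlgHom.commutes, sub_eq_zero] at this
      rw [this, cf_tmul]
      simp
  have hker : J s ≤ RingHom.ker γ' := by
    refine Ideal.span_le.2 ?_
    rintro x ⟨f', hf', ℓ, rfl⟩
    exact (hiff f').1 (hg f' hf') ℓ
  refine (hiff f).2 fun ℓ => RingHom.mem_ker.1 (hker ?_)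
  by_contra hnot
  refine hmax (J (insert f s)) ⟨insert f s, fun f' hf' => ?_, rfl⟩ ?_
  · rcases Finset.mem_insert.1 hf' with rfl | h
    · exact hf
    · exact hs _ h
  · refine lt_of_le_not_ge (Ideal.span_mono ?_) fun hle => hnot (hle (Ideal.subset_span ⟨f, Finset.mem_insert_self _ _, ℓ, rfl⟩))
    rintro x ⟨f', hf', ℓ', rfl⟩
    exact ⟨f', Finset.mem_insert_of_mem hf', ℓ', rfl⟩

end Groth.Agent.S11199
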