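import Groth.Statements.S1120
import Groth.Agent.Lib.BCPerf20.Reduce
import Groth.Agent.Lib.OX.RHomDual
import Groth.Agent.Lib.OX.HomQCoh

set_option autoImplicit false
set_option maxHeartbeats 1000000
set_option linter.style.haveILetI false
set_option backward.isDefEq.respectTransparency false
universe u
open CategoryTheory CategoryTheory.Limits AlgebraicGeometry Opposite
attribute [local instance] HasDerivedCategory.standard
open Perf

namespace Groth.Agent.S1120

/-- Let f : X → S be a morphism of schemes of finite presentation (locally of finite presentation,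
quasi-compact and quasi-separated), let E be a cochain complex of 𝒪_X-modules that becomes perfect
in D(𝒪_X), and let G be a finitely presented 𝒪_X-module that is S-flat and whose support is proper
over S. Assuming the derived functors involved exist, Rf_* RHom(E, G) is a perfect object of D(𝒪_S).
(The published statement also allows G to be a bounded complex of such modules and proves
compatibility with base change; neither claim is made here.) -/
theorem result {X S : Scheme.{u}} (f : X ⟶ S) [LocallyOfFinitePresentation f] [QuasiCompact f] [QuasiSeparated f]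
    (E : CochainComplex X.Modules ℤ) (hE : DCoh.IsPerfect (DCoh.toD X E)) [DCoh.HasLTensorCx E] [DCoh.HasRSheafHom E] [DCoh.HasRpush f]
    (G : X.Modules) (hG : CohB1.IsFP G) (hflat : FlatMod.IsFlatOver f G) (hsupp : ClSub.IsProperOver f (CohB1.support G)) :
    DCoh.IsPerfect ((DCoh.Rpush f).obj ((DCoh.RSheafHom E).obj (DCoh.inD X G))) := by
  obtain ⟨K, q, hK, -, hq, -⟩ := GrothLib.OX.exists_kflat_resolution E
  let eK : DerivedCategory.Q.obj K ≅ DerivedCategory.Q.obj E := asIso (DerivedCategory.Q.map q)
  haveI := GrothLib.OX.hasLTensorCx K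
  haveI := GrothLib.OX.hasRSheafHom K
  have hKp : DCoh.IsPerfect (DerivedCategory.Q.obj K) := GrothLib.OX.isPerfect_of_iso hE eK.symm
  obtain ⟨c⟩ := GrothLib.OX.nonempty_RSheafHom_congr eK
  let O₀ := (DerivedCategory.singleFunctor X.Modules 0).obj (Coh.structureModule X)
  obtain ⟨D, hD, ⟨eD⟩⟩ := GrothLib.OX.exists_kflat_rep ((DCoh.RSheafHom K).obj O₀)
  haveI := GrothLib.OX.hasLTensorCx D
  haveI := GrothLib.OX.hasLTensorMod G
  have hDp : DCoh.IsPerfect (DerivedCategory.Q.obj D) :=
    GrothLib.OX.isPerfect_of_iso (GrothLib.OX.isPerfect_RSheafHom_of_perfect K hKp (GrothLib.OX.isPerfect_unit X)) eD.symm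
  let S := (HomologicalComplex.single X.Modules (ComplexShape.up ℤ) 0).obj G
  let eS : DerivedCategory.Q.obj S ≅ DCoh.inD X G := ((DerivedCategory.singleFunctorIsoCompQ X.Modules 0).app _).symm
  obtain ⟨t⟩ := GrothLib.OX.nonempty_tensor_dual_iso K D hK hKp eD (DerivedCategory.Q.obj S)
  obtain ⟨v⟩ := GrothLib.OX.ltensorCx_value_of_isKFlat D hD S
  obtain ⟨w⟩ := GrothLib.OX.ltensor_value G D hD
  let i : (DCoh.LTensorMod G).obj (DerivedCategory.Q.obj D) ≅ (DCoh.RSheafHom E).obj (DCoh.inD X G) :=
    w ≪≫ DerivedCategory.Q.mapIso (GrothLib.OX.singleIso D G ≪≫ GrothLib.OX.tensorCxSymm _ _) ≪≫ v.symm ≪≫ t ≪≫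
      c.app _ ≪≫ (DCoh.RSheafHom E).mapIso eS
  exact GrothLib.OX.isPerfect_of_iso
    (GrothLib.BCPerf20.isPerfect_RR_ltensor f G hG hflat hsupp D hD hDp)
    ((GrothLib.OX.RR f).mapIso (w.symm ≪≫ i) ≪≫ ((GrothLib.OX.rpushIsoRres f).app _).symm)

end Groth.Agent.S1120
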