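import Groth.Statements.S11201
import Groth.Agent.S11195
import Groth.Agent.S8089
import Groth.Agent.Lib.Induce27.Finite
import Groth.Agent.Lib.Induce27.Solv
import Groth.Agent.Lib.Induce27.Chars
import Groth.Agent.Lib.SelfCent19.Semisimple
import Groth.Agent.Lib.UnipFix19.QuotientField
import Groth.Agent.Lib.UnipFix19.NeutralRad
import Groth.Agent.Lib.Chevalley.GroupQuot
import Groth.Agent.Lib.Flag27.ProjAct
import Groth.Agent.Lib.FlatFactor.OrbitImmersion
import Groth.Agent.Lib.ImgBorel19.Main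
import Groth.Agent.Lib.RankCell14.Compat

set_option autoImplicit false
universe u
open CategoryTheory MonoidalCategory CartesianMonoidalCategory MonObj GrpObj AlgebraicGeometry
open scoped TensorProduct
open AGF

namespace Groth.Agent.S11201

set_option linter.all false
set_option maxHeartbeats 1000000
set_option synthInstance.maxHeartbeats 200000
set_option backward.isDefEq.respectTransparency false
open CategoryTheory.Limits TopologicalSpace VecGrp
open GrothLib

section Aux

variable {k : Type u} [Field k] [IsAlgClosed k]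

local notation "𝒞" => Over (Spec (CommRingCat.of k))
local notation "P₁" => 𝟙_ (Over (Spec (CommRingCat.of k)))

/-- Morphisms are determined on rational points. -/
theorem ext1 {X Y : 𝒞} [LocallyOfFiniteType X.hom] [IsReduced X.left] [IsSeparated Y.hom] {f g : X ⟶ Y}
    (h : ∀ p : P₁ ⟶ X, p ≫ f = p ≫ g) : f = g :=
  GrothLib.Flag27.hom_ext_pt fun p => by
    rw [← cancel_epi GrothLib.Flag27.ptOne.inv, ← Category.assoc, ← Category.assoc]
    exact h _

/-- Two rational points of a separated scheme with the same image are equal. -/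
theorem secExt {X : Scheme.{u}} (h : X ⟶ Spec (CommRingCat.of k)) [IsSeparated h]
    {f g : Spec (CommRingCat.of k) ⟶ X} (hf : f ≫ h = 𝟙 _) (hg : g ≫ h = 𝟙 _)
    (H : f (IsLocalRing.closedPoint k) = g (IsLocalRing.closedPoint k)) : f = g := by
  haveI : Subsingleton ↥(Spec (CommRingCat.of k)) := inferInstanceAs (Subsingleton (PrimeSpectrum k))
  haveI := isClosedImmersion_of_comp_eq_id h f hf
  haveI : Surjective (pullback.snd f g) := ⟨fun p => by
    obtain ⟨z, -, hz⟩ := Scheme.Pullback.exists_preimage_pullback (f := f) (g := g) (IsLocalRing.closedPoint k) p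
      (H.trans (congrArg g (Subsingleton.elim _ _)))
    exact ⟨z, hz⟩⟩
  haveI := isIso_of_isClosedImmersion_of_surjective (pullback.snd f g)
  have h1 : g = (inv (pullback.snd f g) ≫ pullback.fst f g) ≫ f := by
    rw [Category.assoc, pullback.condition, IsIso.inv_hom_id_assoc]
  have h2 : g ≫ h = ((inv (pullback.snd f g) ≫ pullback.fst f g) ≫ f) ≫ h := congrArg (· ≫ h) h1
  rw [hg, Category.assoc _ f h, hf, Category.comp_id] at h2
  rw [h1, ← h2, Category.id_comp]

/-- Lifting rational points. -/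
theorem lift1 {X Y : 𝒞} [LocallyOfFiniteType X.hom] [LocallyOfFiniteType Y.hom] (f : X ⟶ Y) [Surjective f.left]
    (g : P₁ ⟶ Y) : ∃ h : P₁ ⟶ X, h ≫ f = g := by
  obtain ⟨h, hh⟩ := GrothLib.UnipFix19.exists_pt_lift f (GrothLib.Flag27.ptOne.hom ≫ g)
  exact ⟨GrothLib.Flag27.ptOne.inv ≫ h, by rw [Category.assoc, hh, Iso.inv_hom_id_assoc]⟩

/-- The largest one is the unipotent radical. -/
theorem isUnipRad {G : 𝒞} [GrpObj G] [IsAffine G.left] [Smooth G.hom]
    (P : GrothLib.UnipFix19.UnipNormal G)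
    (hP : ∀ Q : GrothLib.UnipFix19.UnipNormal G, ∃ f : Q.U ⟶ P.U, f ≫ P.u = Q.u) :
    Par.IsUnipotentRadical P.u := by
  haveI : IsAffine P.U.left := isAffine_of_isAffineHom P.u.left
  haveI : IsAffineHom P.U.hom := inferInstance
  refine ⟨inferInstance, inferInstance, P.normal, inferInstance, inferInstance,
    GrothLib.Flag27.geomFibre_conditions.2 ⟨inferInstance, GrothLib.UnipFix19.hasNoSubtorus_of_fix P.fix⟩,
    fun U' _ u' _ hc hn hs hq hg => ?_⟩
  obtain ⟨hc', hno⟩ := GrothLib.Flag27.geomFibre_conditions.1 hg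
  haveI := hc; haveI := hs; haveI := hc'
  haveI : IsAffine U'.left := isAffine_of_isAffineHom u'.left
  exact hP ⟨U', inferInstance, u', inferInstance, hc, hs, hc', hn, GrothLib.UnipFix19.fix_of_hasNoSubtorus hno⟩

/-- Homomorphisms trivial on the kernel factor through a faithfully flat homomorphism. -/
theorem desc_hom {H Q U M : 𝒞} [GrpObj H] [GrpObj Q] [GrpObj M] (q : H ⟶ Q) [IsMonHom q]
    [Flat q.left] [Surjective q.left] [QuasiCompact q.left] [LocallyOfFinitePresentation q.left] (u : U ⟶ H) (hker : AlgGrp.IsKernel u q)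
    (χ : H ⟶ M) [IsMonHom χ] (hu : u ≫ χ = 1) : ∃ χ' : Q ⟶ M, IsMonHom χ' ∧ q ≫ χ' = χ := by
  have hd : ∀ {Z : Scheme.{u}} (g₁ g₂ : Z ⟶ H.left), g₁ ≫ q.left = g₂ ≫ q.left → g₁ ≫ χ.left = g₂ ≫ χ.left := by
    intro Z g₁ g₂ h
    let x : Over.mk (g₁ ≫ H.hom) ⟶ H := Over.homMk g₁ rfl
    let y : Over.mk (g₁ ≫ H.hom) ⟶ H := Over.homMk g₂ (by
      show g₂ ≫ H.hom = g₁ ≫ H.hom
      rw [← Over.w q, ← Category.assoc, ← h, Category.assoc])
    have hq : x ≫ q = y ≫ q := Over.OverMorphism.ext h
    have h1 : (x⁻¹ * y) ≫ q = toUnit _ ≫ η[Q] := by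
      rw [MonObj.mul_comp, GrpObj.inv_comp, hq, inv_mul_cancel, Hom.one_def]
    have h2 : (x⁻¹ * y) ≫ χ = 1 := by
      rw [← hker.lift_fst (x⁻¹ * y) (toUnit _) h1, Category.assoc, hu, MonObj.comp_one]
    rw [MonObj.mul_comp, GrpObj.inv_comp, inv_mul_eq_one] at h2
    exact congrArg (fun w => w.left) h2
  let t : Q.left ⟶ M.left := EffectiveEpi.desc q.left χ.left (fun g₁ g₂ h => hd g₁ g₂ h)
  have ht : q.left ≫ t = χ.left := EffectiveEpi.fac _ _ _
  let χ' : Q ⟶ M := Over.homMk t (by
    rw [← cancel_epi q.left, ← Category.assoc, ht]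
    exact (Over.w χ).trans (Over.w q).symm)
  have hχ' : q ≫ χ' = χ := Over.OverMorphism.ext ht
  refine ⟨χ', ?_, hχ'⟩
  have hc : GrothLib.Chevalley.IsCover q := ⟨‹_›, ‹_›, ‹_›⟩
  haveI : Epi (q ⊗ₘ q) := GrothLib.Chevalley.epi_of_cover _ (GrothLib.Chevalley.cover_tensor hc hc)
  refine GrothLib.GrpSchField.isMonHom_of_mul _ ?_
  rw [← cancel_epi (q ⊗ₘ q), ← IsMonHom.mul_hom_assoc, hχ', IsMonHom.mul_hom, ← Category.assoc,
    tensorHom_comp_tensorHom, hχ']

set_option maxHeartbeats 4000000 in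
/-- A group whose normal connected solvable subgroups contain no tori has no characters on its neutral component. -/
theorem char_trivial {H H₀ : 𝒞} [GrpObj H] [GrpObj H₀] [IsAffine H.left] [Smooth H.hom]
    (j : H₀ ⟶ H) [IsMonHom j] [IsOpenImmersion j.left] [IsClosedImmersion j.left] [ConnectedSpace H₀.left]
    {M : 𝒞} [GrpObj M] [IsAffine M.left] [Smooth M.hom] (hgm : Red.IsTorus M)
    (χ : H₀ ⟶ M) [IsMonHom χ]
    (hrad : ∀ (R : 𝒞) [GrpObj R] (r : R ⟶ H) [IsMonHom r], IsClosedImmersion r.left → Smooth R.hom →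
      ConnectedSpace R.left → AlgGrp.IsNormalHom r → Red.IsSolvableGrp R → ∀ w : R ⟶ H₀, w ≫ j = r → w ≫ χ = 1) :
    χ = 1 := by
  haveI : IsAffine H₀.left := isAffine_of_isAffineHom j.left
  haveI : Smooth H₀.hom := by rw [← Over.w j]; infer_instance
  haveI : Mono j := Over.mono_of_mono_left j
  obtain ⟨P, hP⟩ := GrothLib.UnipFix19.exists_largest (G := H₀)
  have hrad₀ := isUnipRad P hP
  obtain ⟨-, -, hun, -, -, -, -⟩ := GrothLib.UnipFix19.isUnipotentRadical_neutral j P.u hrad₀
  haveI : IsAffine P.U.left := isAffine_of_isAffineHom P.u.left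
  haveI : Mono P.u := Over.mono_of_mono_left P.u
  obtain ⟨hUunip, hUpts⟩ := GrothLib.Flag27.isUnip_of_noSubtorus (GrothLib.UnipFix19.hasNoSubtorus_of_fix P.fix)
  have hUsol : Red.IsSolvableGrp P.U := GrothLib.Flag27.isSolvableGrp_of_points hUpts
  obtain ⟨Q, _, q, hq, hQl, hQqc, hqf, hqs, hker⟩ :=
    GrothLib.Chevalley.exists_normal_quotient_affine P.u P.normal
  haveI := hq; haveI := hQl; haveI := hQqc; haveI := hqf; haveI := hqs
  haveI : IsSeparated Q.hom := GrothLib.GrpSchField.isSeparated Q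
  haveI : IsReduced H₀.left := GrothLib.RedSmooth.isReduced_of_smooth H₀.hom
  haveI : IsReduced Q.left := GrothLib.FlatFactor.isReduced_of_flat_surjective q.left
  haveI : Smooth Q.hom := GrothLib.ImgBorel19.smooth_of_surjective_hom q
  haveI : IsAffine Q.left := Chevalley.isAffine_of_surjective_hom q
  haveI : ConnectedSpace Q.left := q.left.surjective.connectedSpace q.left.continuous
  haveI : QuasiCompact q.left := inferInstance
  haveI : IsLocallyNoetherian Q.left := LocallyOfFiniteType.isLocallyNoetherian Q.hom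
  haveI : LocallyOfFiniteType q.left := by
    have : LocallyOfFiniteType (q.left ≫ Q.hom) := by rw [Over.w q]; infer_instance
    exact locallyOfFiniteType_of_comp q.left Q.hom
  have hQ := GrothLib.UnipFix19.isReductive_quotient P.u hrad₀ q hker
  obtain ⟨χ', hχ', hfac⟩ := desc_hom q P.u hker χ (hUunip.hom_torus_eq_one hgm (P.u ≫ χ))
  haveI := hχ'
  haveI : IsCommMonObj M := GrothLib.UnipFix19.isCommMonObj_torus hgm
  haveI : IsAffineHom M.hom := isAffineHom_of_isAffine _
  haveI : IsSeparated M.hom := inferInstance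
  -- central tori die
  have hct : ∀ (R' : 𝒞) [GrpObj R'] (r' : R' ⟶ Q) [IsMonHom r'] [Mono r'], Red.IsTorus R' →
      (∀ (X : 𝒞) (t : X ⟶ R') (g : X ⟶ Q), (t ≫ r') * g = g * (t ≫ r')) → r' ≫ χ' = 1 := by
    intro R' _ r' _ _ hT hc
    obtain ⟨h1, h2, h3⟩ := GrothLib.UnipFix19.torus_closed r' hT
    haveI := h1; haveI := h2; haveI := h3
    haveI : IsCommMonObj R' := GrothLib.UnipFix19.isCommMonObj_torus hT
    haveI : IsAffine R'.left := isAffine_of_isAffineHom r'.left
    obtain ⟨N, _, n, a, hn, ha, hnc, hNs, hNc, hNn, hsurj, hw⟩ := GrothLib.UnipFix19.exists_preimage_field q P.u hker r'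
      (fun X g x => ⟨x, by rw [← hc X x g, mul_inv_cancel_right]⟩)
    haveI := hn; haveI := ha; haveI := hnc; haveI := hNs; haveI := hNc; haveI := hsurj
    haveI : IsAffine N.left := isAffine_of_isAffineHom n.left
    haveI : IsClosedImmersion (n ≫ j).left := by rw [Over.comp_left]; infer_instance
    haveI : Mono n := Over.mono_of_mono_left n
    haveI hHN : Smooth (H ⊗ N).hom := by
      show Smooth (pullback.fst H.hom N.hom ≫ H.hom)
      infer_instance
    haveI : IsReduced (H ⊗ N).left := GrothLib.RedSmooth.isReduced_of_smooth (H ⊗ N).hom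
    obtain ⟨m, hm⟩ := GrothLib.UnipFix19.exists_lift_sweep (n ≫ j) j
    -- conjugates stay central modulo the radical
    have hgen : ∀ g : P₁ ⟶ Q, (m ≫ q) * (toUnit _ ≫ g) = (toUnit _ ≫ g) * (m ≫ q) := by
      intro g
      refine ext1 fun p => ?_
      obtain ⟨g₀, hg₀⟩ := lift1 q g
      let h : P₁ ⟶ H := p ≫ fst H N
      let x : P₁ ⟶ N := p ≫ snd H N
      have hp : (p ≫ m) ≫ j = h * (x ≫ n ≫ j) * h⁻¹ := by
        rw [Category.assoc, hm, ← GrothLib.GrpSchField.lift_fst_snd_comp p, GrothLib.UnipFix19.lift_sweep]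
      obtain ⟨g', hg'⟩ := GrothLib.UnipFix19.isNormalHom_open j P₁ h⁻¹ g₀
      have hg'' : g' ≫ j = h⁻¹ * (g₀ ≫ j) * h := by rw [← hg', _root_.inv_inv]
      have hcomm : ((x ≫ n) * g' * (x ≫ n)⁻¹ * g'⁻¹) ≫ q = toUnit _ ≫ η[Q] := by
        rw [MonObj.mul_comp, MonObj.mul_comp, MonObj.mul_comp, GrpObj.inv_comp, GrpObj.inv_comp, Category.assoc,
          ← hw, ← Category.assoc, hc _ (x ≫ a) (g' ≫ q), mul_inv_cancel_right, mul_inv_cancel, Hom.one_def]
      obtain ⟨w, hw'⟩ := hun P₁ h (hker.lift _ _ hcomm)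
      have hlift : hker.lift _ _ hcomm ≫ P.u = (x ≫ n) * g' * (x ≫ n)⁻¹ * g'⁻¹ := hker.lift_fst _ _ _
      have key : (p ≫ m) * g₀ * (p ≫ m)⁻¹ * g₀⁻¹ = w ≫ P.u := by
        rw [← cancel_mono j, Category.assoc, ← hw']
        simp only [MonObj.mul_comp, GrpObj.inv_comp, hp]
        rw [← Category.assoc (hker.lift _ _ hcomm), hlift]
        simp only [MonObj.mul_comp, GrpObj.inv_comp, hg'', Category.assoc]
        group
      have k2 := congrArg (· ≫ q) key
      simp only [MonObj.mul_comp, GrpObj.inv_comp, hg₀, Category.assoc, hker.w] at k2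
      rw [← Category.assoc w, toUnit_unique (w ≫ toUnit _) (toUnit P₁), ← Hom.one_def, mul_inv_eq_one,
        mul_inv_eq_iff_eq_mul] at k2
      rw [MonObj.comp_mul, MonObj.comp_mul, ← Category.assoc p (toUnit _), toUnit_unique (p ≫ toUnit _) (toUnit P₁),
        toUnit_unique (toUnit P₁) (𝟙 _), Category.id_comp]
      exact k2
    obtain ⟨E⟩ := GenSubgrp14.nonempty_envelope (GenSubgrp14.Single (GrothLib.UnipFix19.sweep (n ≫ j))) fun A f h => by
      cases h
      exact GrothLib.Rigidity.geometricallyReduced_of_smooth' (H ⊗ N).hom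
    let _ := E.grp
    haveI := E.isMonHom
    haveI := E.isClosedImmersion
    haveI := E.geometricallyReduced
    haveI : Mono E.z := Over.mono_of_mono_left E.z
    haveI : LocallyOfFiniteType E.Z.hom := by rw [← Over.w E.z]; infer_instance
    haveI : Smooth E.Z.hom := by
      letI : GrpObj (Over.mk E.Z.hom) := (E.grp : GrpObj E.Z)
      exact smooth_of_grpObj E.Z.hom
    have hword : ∀ (W : 𝒞) (w : W ⟶ H),
        GenSubgrp14.IsWord (GenSubgrp14.Single (GrothLib.UnipFix19.sweep (n ≫ j))) W w →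
        ∃ l : W ⟶ H₀, l ≫ j = w ∧ ∀ g : P₁ ⟶ Q, Commute (l ≫ q) (toUnit _ ≫ g) := by
      intro W w h
      induction h with
      | one => exact ⟨1, by rw [MonObj.one_comp, Hom.one_def, toUnit_unique (toUnit P₁) (𝟙 _), Category.id_comp],
          fun g => by rw [MonObj.one_comp]; exact Commute.one_left _⟩
      | of h => cases h; exact ⟨m, hm, hgen⟩
      | inv _ ih =>
        obtain ⟨l, hl, hlc⟩ := ih
        exact ⟨l⁻¹, by rw [GrpObj.inv_comp, hl], fun g => by rw [GrpObj.inv_comp]; exact (hlc g).inv_left⟩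
      | @mul W W' w w' _ _ ih ih' =>
        obtain ⟨l, hl, hlc⟩ := ih
        obtain ⟨l', hl', hlc'⟩ := ih'
        refine ⟨(fst W W' ≫ l) * (snd W W' ≫ l'), by rw [MonObj.mul_comp, Category.assoc, Category.assoc, hl, hl'],
          fun g => ?_⟩
        rw [MonObj.mul_comp, Category.assoc, Category.assoc]
        refine Commute.mul_left ?_ ?_
        · have := congrArg (fst W W' ≫ ·) (hlc g).eq
          simp only [MonObj.comp_mul, ← Category.assoc, toUnit_unique (fst W W' ≫ toUnit _) (toUnit _)] at this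
          simpa only [Category.assoc, Commute, SemiconjBy] using this
        · have := congrArg (snd W W' ≫ ·) (hlc' g).eq
          simp only [MonObj.comp_mul, ← Category.assoc, toUnit_unique (snd W W' ≫ toUnit _) (toUnit _)] at this
          simpa only [Category.assoc, Commute, SemiconjBy] using this
    -- the commutator maps
    let cg : (P₁ ⟶ Q) → (H₀ ⟶ Q) := fun g => q * (toUnit _ ≫ g) * q⁻¹ * (toUnit _ ≫ g)⁻¹
    let e0 : Q.left := (η[Q] : P₁ ⟶ Q).left (IsLocalRing.closedPoint k)
    have he0 : IsClosed ({e0} : Set Q.left) := by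
      haveI : IsClosedImmersion (η[Q] : P₁ ⟶ Q).left := by
        haveI : IsClosedImmersion ((η[Q] : P₁ ⟶ Q).left ≫ Q.hom) := by
          rw [Over.w η[Q]]
          exact inferInstanceAs (IsClosedImmersion (𝟙 _))
        exact IsClosedImmersion.of_comp _ Q.hom
      convert (η[Q] : P₁ ⟶ Q).left.isClosedEmbedding.isClosed_range
      ext y
      constructor
      · rintro rfl; exact ⟨_, rfl⟩
      · rintro ⟨z, rfl⟩
        show _ = e0
        rw [Subsingleton.elim (α := PrimeSpectrum k) z (IsLocalRing.closedPoint k)]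
    let S : Set H.left := j.left.base '' (⋂ g : P₁ ⟶ Q, (cg g).left.base ⁻¹' {e0})
    have hS : IsClosed S := j.left.isClosedEmbedding.isClosedMap _
      (isClosed_iInter fun g => he0.preimage (cg g).left.continuous)
    have hES : Set.range E.z.left.base ⊆ S := by
      rw [E.range_eq]
      refine closure_minimal ?_ hS
      rintro y ⟨W, w, hWw, z, rfl⟩
      obtain ⟨l, hl, hlc⟩ := hword W w hWw
      refine ⟨l.left z, Set.mem_iInter.2 fun g => ?_, by rw [← Scheme.Hom.comp_apply, ← Over.comp_left, hl]⟩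
      show ((l.left ≫ (cg g).left) z : Q.left) = e0
      have h0 : l ≫ cg g = 1 := by
        simp only [cg, MonObj.comp_mul, GrpObj.comp_inv, ← Category.assoc,
          toUnit_unique (l ≫ toUnit H₀) (toUnit W)]
        rw [(hlc g).eq, mul_inv_cancel_right, mul_inv_cancel]
      rw [← Over.comp_left, h0, Hom.one_def, Over.comp_left, Scheme.Hom.comp_apply]
      show (η[Q] : P₁ ⟶ Q).left _ = e0
      rw [Subsingleton.elim (α := PrimeSpectrum k) ((toUnit W).left z) (IsLocalRing.closedPoint k)]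
    have hEj : Set.range E.z.left.base ⊆ Set.range j.left.base := hES.trans (Set.image_subset_range _ _)
    let e' : E.Z ⟶ H₀ := Over.homMk (IsOpenImmersion.lift j.left E.z.left hEj) (by
      rw [← Over.w j, ← Category.assoc, IsOpenImmersion.lift_fac]; exact Over.w E.z)
    have he' : e' ≫ j = E.z := Over.OverMorphism.ext (IsOpenImmersion.lift_fac _ _ _)
    haveI : IsMonHom (e' ≫ j) := by rw [he']; infer_instance
    haveI : IsMonHom e' := GrothLib.Flag27.isMonHom_of_comp e' j
    haveI : Mono (e' ≫ j) := by rw [he']; infer_instance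
    haveI : Mono e' := mono_of_mono e' j
    have hcent : ∀ (x : P₁ ⟶ E.Z) (g : P₁ ⟶ Q), Commute (x ≫ e' ≫ q) g := by
      intro x g
      have h1 : x ≫ e' ≫ cg g = 1 := by
        refine Over.OverMorphism.ext (secExt Q.hom (Over.w _) (Over.w _) ?_)
        obtain ⟨y, hy, hye⟩ := hES ⟨x.left (IsLocalRing.closedPoint k), rfl⟩
        have hy' : (e'.left (x.left (IsLocalRing.closedPoint k)) : H₀.left) = y :=
          j.left.isClosedEmbedding.injective (by
            rw [hye, ← Scheme.Hom.comp_apply, ← Over.comp_left, he'])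
        subst hy'
        refine ((Set.mem_iInter.1 hy g : _ = e0)).trans ?_
        rw [Hom.one_def, toUnit_unique (toUnit P₁) (𝟙 _), Category.id_comp]
        rfl
      simp only [cg, MonObj.comp_mul, GrpObj.comp_inv, ← Category.assoc,
        toUnit_unique ((x ≫ e') ≫ toUnit H₀) (𝟙 P₁), Category.id_comp] at h1
      rw [mul_inv_eq_one, mul_inv_eq_iff_eq_mul] at h1
      rw [← Category.assoc]
      exact h1
    obtain ⟨N', _, c, hcm, hco, hNc', hNi', hNl'⟩ := GrothLib.GrpExt19.exists_neutral E.Z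
    haveI := hcm; haveI := hco; haveI := hNc'; haveI := hNi'; haveI := hNl'
    haveI : ConnectedSpace N'.left := inferInstance
    haveI := GrothLib.UnipFix19.isClosedImmersion_open c
    haveI : Mono c := Over.mono_of_mono_left c
    haveI : Smooth N'.hom := by rw [← Over.w c]; infer_instance
    haveI : IsClosedImmersion (c ≫ E.z).left := by rw [Over.comp_left]; infer_instance
    haveI : IsAffine N'.left := isAffine_of_isAffineHom (c ≫ E.z).left
    have hN'n : AlgGrp.IsNormalHom (c ≫ E.z) := by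
      obtain ⟨μ', hμ⟩ := GrothLib.UnipFix19.envelope_normal (n ≫ j) E (H ⊗ N') (fst H N') (snd H N' ≫ c)
      have h1 : lift (𝟙 H) (1 : H ⟶ N') ≫ μ' = 1 := by
        rw [← cancel_mono E.z, Category.assoc, ← hμ, MonObj.comp_mul, MonObj.comp_mul, GrpObj.comp_inv, lift_fst,
          Category.assoc, lift_snd_assoc, MonObj.one_comp, MonObj.one_comp]
        group
      have hr : Set.range μ'.left.base ⊆ Set.range c.left.base :=
        GrothLib.UnipFix19.range_subset_clopen μ' h1
          ⟨c.left.isClosedEmbedding.isClosed_range, c.left.isOpenEmbedding.isOpen_range⟩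
          ⟨(η[N'] : P₁ ⟶ N').left (IsLocalRing.closedPoint k), by
            rw [← Scheme.Hom.comp_apply, ← Over.comp_left, IsMonHom.one_hom]⟩
      let m' : H ⊗ N' ⟶ N' := Over.homMk (IsOpenImmersion.lift c.left μ'.left hr) (by
        rw [← Over.w c, ← Category.assoc, IsOpenImmersion.lift_fac]
        exact Over.w μ')
      have hm' : m' ≫ c = μ' := Over.OverMorphism.ext (IsOpenImmersion.lift_fac _ _ _)
      intro T g y
      refine ⟨lift g y ≫ m', ?_⟩
      rw [Category.assoc, reassoc_of% hm', ← hμ, MonObj.comp_mul, MonObj.comp_mul, GrpObj.comp_inv, lift_fst,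
        Category.assoc, lift_snd_assoc]
    have hN'sol : Red.IsSolvableGrp N' := by
      refine GrothLib.Flag27.isSolvableGrp_of_points ?_
      let ψ : (P₁ ⟶ N') →* (P₁ ⟶ Q) := MonoidHom.mk' (fun x => x ≫ c ≫ e' ≫ q) fun x y => MonObj.mul_comp _ _ _
      haveI : Group.IsSolvable ψ.range := isSolvable_of_comm fun u v => Subtype.ext (by
        obtain ⟨u₀, hu₀⟩ := u.2
        show u.1 * v.1 = v.1 * u.1
        rw [← hu₀]
        exact ((Category.assoc u₀ c (e' ≫ q)) ▸ hcent (u₀ ≫ c) v.1).eq)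
      haveI := hUpts
      have hk : ∀ x : ψ.ker, ((x : P₁ ⟶ N') ≫ c ≫ e') ≫ q = toUnit _ ≫ η[Q] := fun x => by
        rw [← Hom.one_def, Category.assoc, Category.assoc]
        exact x.2
      let φ : ψ.ker →* (P₁ ⟶ P.U) := MonoidHom.mk' (fun x => hker.lift _ _ (hk x)) fun x y => by
        rw [← cancel_mono P.u, hker.lift_fst, MonObj.mul_comp, hker.lift_fst, hker.lift_fst]
        exact MonObj.mul_comp _ _ _
      haveI : Group.IsSolvable (P₁ ⟶ P.U) := hUpts
      haveI : Group.IsSolvable ψ.ker := solvable_of_solvable_injective (f := φ) fun x y hxy => by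
        have h' := congrArg (· ≫ P.u) hxy
        simp only [φ, MonoidHom.mk'_apply, hker.lift_fst] at h'
        exact Subtype.ext ((cancel_mono (c ≫ e')).1 h')
      exact solvable_of_ker_le_range ψ.ker.subtype ψ.rangeRestrict (by
        rw [MonoidHom.ker_rangeRestrict, Subgroup.range_subtype])
    have hNχ := hrad N' (c ≫ E.z) inferInstance inferInstance inferInstance hN'n hN'sol (c ≫ e')
      (by rw [Category.assoc, he'])
    obtain ⟨l, hl⟩ := E.lift_word _ _ (.of .mk)
    let w : N ⟶ E.Z := lift 1 (𝟙 N) ≫ l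
    have hwz : w ≫ E.z = n ≫ j := by
      rw [Category.assoc, hl, GrothLib.UnipFix19.lift_sweep, Category.id_comp, _root_.one_mul, _root_.inv_one,
        _root_.mul_one]
    haveI : IsMonHom (w ≫ E.z) := by rw [hwz]; infer_instance
    haveI : IsMonHom w := GrothLib.Flag27.isMonHom_of_comp w E.z
    have hwr : Set.range w.left.base ⊆ Set.range c.left.base :=
      (isPreconnected_range w.left.continuous).subset_isClopen
        ⟨c.left.isClosedEmbedding.isClosed_range, c.left.isOpenEmbedding.isOpen_range⟩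
        ⟨(η[E.Z] : P₁ ⟶ E.Z).left (IsLocalRing.closedPoint k),
          ⟨(η[N] : P₁ ⟶ N).left (IsLocalRing.closedPoint k), by
            rw [← Scheme.Hom.comp_apply, ← Over.comp_left, IsMonHom.one_hom]⟩,
          ⟨(η[N'] : P₁ ⟶ N').left (IsLocalRing.closedPoint k), by
            rw [← Scheme.Hom.comp_apply, ← Over.comp_left, IsMonHom.one_hom]⟩⟩
    let w' : N ⟶ N' := Over.homMk (IsOpenImmersion.lift c.left w.left hwr) (by
      rw [← Over.w c, ← Category.assoc, IsOpenImmersion.lift_fac]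
      exact Over.w w)
    have hw' : w' ≫ c = w := Over.OverMorphism.ext (IsOpenImmersion.lift_fac _ _ _)
    have hnw : w' ≫ c ≫ e' = n := by
      rw [← cancel_mono j, Category.assoc, Category.assoc, he', reassoc_of% hw', hwz]
    have hnχ : n ≫ χ = 1 := by
      rw [← hnw, Category.assoc w' (c ≫ e'), hNχ, MonObj.comp_one]
    haveI : IsReduced R'.left := GrothLib.RedSmooth.isReduced_of_smooth R'.hom
    refine ext1 fun p => ?_
    obtain ⟨p₀, hp₀⟩ := lift1 a p
    rw [← hp₀, Category.assoc, ← Category.assoc a r', hw, Category.assoc n q, hfac, hnχ,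
      MonObj.comp_one, MonObj.comp_one]
  obtain ⟨T₀, _, t₀, ht₀, ht₀c, hT₀, hT₀n, hT₀u⟩ := GrothLib.UnipFix19.exists_largest_normalTorus Q
  haveI := ht₀; haveI := ht₀c
  haveI : Mono t₀ := Over.mono_of_mono_left t₀
  have hcen : ∀ (X : 𝒞) (t : X ⟶ T₀) (g : X ⟶ Q), (t ≫ t₀) * g = g * (t ≫ t₀) := fun X t g =>
    (GrothLib.UnipFix19.central_of_normal_multType t₀ (GrothLib.UnipFix19.isMultTypeFT_of_isTorus hT₀) hT₀n X g t).symm
  obtain ⟨Q₂, _, q₂, hq₂, hQ₂l, hQ₂qc, hq₂f, hq₂s, hker₂⟩ :=
    GrothLib.Chevalley.exists_normal_quotient_affine t₀ hT₀n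
  haveI := hq₂; haveI := hQ₂l; haveI := hQ₂qc; haveI := hq₂f; haveI := hq₂s
  haveI : IsSeparated Q₂.hom := GrothLib.GrpSchField.isSeparated Q₂
  haveI : IsReduced Q₂.left := GrothLib.FlatFactor.isReduced_of_flat_surjective q₂.left
  haveI : Smooth Q₂.hom := GrothLib.ImgBorel19.smooth_of_surjective_hom q₂
  haveI : IsAffine Q₂.left := Chevalley.isAffine_of_surjective_hom q₂
  haveI : ConnectedSpace Q₂.left := q₂.left.surjective.connectedSpace q₂.left.continuous
  haveI : IsLocallyNoetherian Q₂.left := LocallyOfFiniteType.isLocallyNoetherian Q₂.hom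
  haveI : LocallyOfFiniteType q₂.left := by
    have : LocallyOfFiniteType (q₂.left ≫ Q₂.hom) := by rw [Over.w q₂]; infer_instance
    exact locallyOfFiniteType_of_comp q₂.left Q₂.hom
  have hss := Groth.Agent.S8089.result k Q hQ T₀ t₀ hT₀ hcen (fun R' _ r' _ _ hR' hc' =>
    hT₀u R' r' hR' (fun X g x => ⟨x, by rw [← hc' X x g, mul_inv_cancel_right]⟩)) Q₂ q₂ hker₂
  obtain ⟨χ₂, hχ₂, hfac₂⟩ := desc_hom q₂ t₀ hker₂ χ' (hct T₀ t₀ hT₀ hcen)
  haveI := hχ₂
  rw [← hfac, ← hfac₂, GrothLib.SelfCent19.hom_comm_eq_one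
    (GrothLib.SelfCent19.isReductiveOver_self (GrothLib.SelfCent19.isReductive_of_isSemisimple hss))
    (fun R _ r _ => GrothLib.SelfCent19.isTrivialGrp_normal_torus hss R r) χ₂, MonObj.comp_one, MonObj.comp_one]

open GrothLib.Induce27 GrothLib.Repr in
set_option backward.isDefEq.respectTransparency true in
/-- A multiplicative function without zeros is a character. -/
theorem exists_char {H : 𝒞} [GrpObj H] [IsAffine H.left] [Smooth H.hom] (w : Fn H)
    (hw0 : ∀ h : VecGrp.pt k k ⟶ H, valAt h w ≠ (0 : k))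
    (hwmul : ∀ h h' : VecGrp.pt k k ⟶ H, valAt (h * h') w = valAt h w * valAt h' w) :
    ∃ χ : H ⟶ Red.Gm (Spec (CommRingCat.of k)), IsMonHom χ ∧
      ∀ {T : Over (Spec (CommRingCat.of k))} (t : T ⟶ H), Red.gmFn (t ≫ χ) = fnMap t w := by
  let uu : (Γ(H.left, ⊤))ˣ := (GrothLib.Induce27.isUnit_of_valAt hw0).unit
  let χ : H ⟶ Red.Gm (Spec (CommRingCat.of k)) := GmPts.ptOfUnit uu
  have hgm : ∀ {T : Over (Spec (CommRingCat.of k))} (t : T ⟶ H), Red.gmFn (t ≫ χ) = fnMap t w := fun t => by
    rw [GmPts.gmFn_comp, GmPts.gmFn_ptOfUnit]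
    rfl
  refine ⟨χ, GrothLib.GrpSchField.isMonHom_of_mul _ (GmPts.gmFn_injective (by
    show Red.gmFn (μ[H] ≫ χ) = _
    rw [hgm, GrothLib.Induce27.fnMap_mul_eq w hwmul]
    show _ = Red.gmFn (_ ≫ μ[Red.Gm (Spec (CommRingCat.of k))])
    rw [show ((χ ⊗ₘ χ) ≫ μ[Red.Gm (Spec (CommRingCat.of k))]) = (fst H H ≫ χ) * (snd H H ≫ χ) by
      rw [Hom.mul_def]; congr 1,
      GmPts.gmFn_mul, hgm, hgm]
    rfl)), hgm⟩

open GrothLib.Induce27 GrothLib.Repr in
/-- A connected group is observable when an observable normal subgroup detects its characters. -/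
theorem observable_step {G H R : 𝒞} [GrpObj G] [GrpObj H] [GrpObj R] [IsAffine G.left] [Smooth G.hom]
    [IsAffine H.left] [Smooth H.hom] [Smooth R.hom] (i : H ⟶ G) [IsMonHom i] [IsClosedImmersion i.left]
    (r : R ⟶ H) [IsMonHom r] [IsClosedImmersion r.left] (hn : AlgGrp.IsNormalHom r)
    (hobs : AGF.IsObservableIn k (r ≫ i))
    (htriv : ∀ χ : H ⟶ Red.Gm (Spec (CommRingCat.of k)), IsMonHom χ → r ≫ χ = 1 → χ = 1) :
    AGF.IsObservableIn k i := by
  classical
  haveI : IsAffine R.left := isAffine_of_isAffineHom r.left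
  haveI : IsClosedImmersion (r ≫ i).left := by rw [Over.comp_left]; infer_instance
  refine observable_of_semi_inv fun u hu0 hne x => ?_
  obtain ⟨D₁, hD₁, hD1⟩ := hne 1
  have humul : ∀ h h' : pt k k ⟶ H, valAt (h * h') u = valAt h u * valAt h' u := fun h h' => by
    refine mul_right_cancel₀ hD1 ?_
    have e1 := mem_semi_iff.1 hD₁ 1 (h * h')
    have e2 := mem_semi_iff.1 hD₁ (h ≫ i) h'
    have e3 := mem_semi_iff.1 hD₁ 1 h
    rw [_root_.one_mul, MonObj.mul_comp] at e1
    rw [_root_.one_mul] at e3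
    rw [← e1, e2, e3]
    ring
  have hu1 : valAt (1 : pt k k ⟶ H) u = 1 := by
    have := humul 1 1
    rw [_root_.one_mul] at this
    exact mul_left_cancel₀ (hu0 1) (by rw [← this, _root_.mul_one])
  obtain ⟨f₀, hf₀, x₀, hf₀x⟩ := exists_semi_inv hobs (fun t => valAt (t ≫ r) u) (fun t => hu0 _) fun y => by
    obtain ⟨D, hD, hDy⟩ := hne y
    exact ⟨D, mem_semi_iff.2 fun z t => by rw [← Category.assoc]; exact mem_semi_iff.1 hD z (t ≫ r), hDy⟩
  obtain ⟨N₀, hN₀, hst, -, -, hmem⟩ := exists_stable_fn (i := i) ({f₀} : Finset (Fn G))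
  haveI := hN₀
  let N : Submodule k (Fn G) := N₀ ⊓ semi (r ≫ i) (fun t => (valAt (t ≫ r) u)⁻¹)
  haveI : Module.Finite k N :=
    Module.Finite.of_injective (Submodule.inclusion (inf_le_left : N ≤ N₀)) (Submodule.inclusion_injective _)
  have hN : ∀ (h : pt k k ⟶ H), ∀ f ∈ N, rt (h ≫ i) f ∈ N := fun h f hf => by
    refine ⟨hst h f hf.1, mem_semi_iff.2 fun y t => ?_⟩
    obtain ⟨t', ht'⟩ := hn (pt k k) h⁻¹ t
    rw [_root_.inv_inv] at ht'
    have hut : valAt (t' ≫ r) u = valAt (t ≫ r) u := by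
      rw [← ht', humul, humul, mul_right_comm, ← humul, inv_mul_cancel, hu1, _root_.one_mul]
    have := mem_semi_iff.1 hf.2 (y * (h ≫ i)) t'
    rw [hut] at this
    rw [valAt_rt, valAt_rt, ← this]
    congr 2
    rw [← Category.assoc t', ← ht', MonObj.mul_comp, MonObj.mul_comp, GrpObj.inv_comp, Category.assoc]
    group
  let b := Module.finBasis k N
  let c : Fin _ → Fn G := fun l => (b l : Fn G)
  have hli : LinearIndependent k c := b.linearIndependent.map' _ (Submodule.ker_subtype _)
  let L : (pt k k ⟶ H) → N →ₗ[k] N := fun h => (rt (h ≫ i)).toLinearMap.restrict fun f hf => hN h f hf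
  let θ : (pt k k ⟶ H) → k := fun h => LinearMap.det (L h)
  have hminor : ∀ p, minor c p ∈ semi i θ := fun p => mem_semi_iff.2 fun y h => by
    rw [valAt_minor, valAt_minor]
    have e : (Matrix.of fun a l => valAt (p a * (y * (h ≫ i))) (c l)) =
        (Matrix.of fun a l => valAt (p a * y) (c l)) * LinearMap.toMatrix b b (L h) := by
      ext a l
      have h1 : rt (h ≫ i) (c l) = ∑ m, LinearMap.toMatrix b b (L h) m l • c m := by
        have h2 := congrArg N.subtype (b.sum_repr (L h (b l)))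
        rw [map_sum] at h2
        refine Eq.trans h2.symm ?_
        refine Finset.sum_congr rfl fun m _ => ?_
        simp [c, LinearMap.toMatrix_apply]
      rw [Matrix.of_apply, ← _root_.mul_assoc, ← valAt_rt, h1, map_sum, Matrix.mul_apply]
      refine Finset.sum_congr rfl fun m _ => ?_
      rw [map_smul, smul_eq_mul, Matrix.of_apply, mul_comm]
    rw [e, Matrix.det_mul, mul_comm, LinearMap.det_toMatrix]
  have hθR : ∀ t : pt k k ⟶ R, θ (t ≫ r) = (valAt (t ≫ r) u)⁻¹ ^ Module.finrank k N := fun t => by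
    have : L (t ≫ r) = (valAt (t ≫ r) u)⁻¹ • (LinearMap.id : N →ₗ[k] N) := LinearMap.ext fun f =>
      Subtype.ext (ext_valAt fun y => by
        show valAt y (rt ((t ≫ r) ≫ i) (f : Fn G)) = valAt y ((valAt (t ≫ r) u)⁻¹ • (f : Fn G))
        rw [valAt_rt, Category.assoc, mem_semi_iff.1 f.2.2 y t, map_smul, smul_eq_mul])
    show LinearMap.det (L (t ≫ r)) = _
    rw [this, LinearMap.det_smul, LinearMap.det_id, _root_.mul_one]
  obtain ⟨p, hp⟩ := exists_minor_ne_zero hli x
  let m := minor c p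
  have hm : ∀ h, valAt (x * (h ≫ i)) m = θ h * valAt x m := fun h => mem_semi_iff.1 (hminor p) x h
  have hn0 : 0 < Module.finrank k N := by
    have hfN : f₀ ∈ N := ⟨hmem f₀ (Finset.mem_singleton_self f₀), hf₀⟩
    haveI : Nontrivial N := nontrivial_of_ne ⟨f₀, hfN⟩ 0 fun h0 => hf₀x (by
      rw [show f₀ = 0 from congrArg Subtype.val h0, map_zero])
    exact Module.finrank_pos
  let w : Fn H := (valAt x m)⁻¹ • fnMap i (lt x m) * u ^ Module.finrank k N
  have hw : ∀ h, valAt h w = θ h * valAt h u ^ Module.finrank k N := fun h => by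
    simp only [w, map_mul, map_smul, map_pow, smul_eq_mul, ← valAt_comp, valAt_lt, hm]
    rw [mul_comm (θ h) (valAt x m), inv_mul_cancel_left₀ hp]
  have hθmul : ∀ h h', θ (h * h') = θ h * θ h' := fun h h' => by
    refine mul_right_cancel₀ hp ?_
    rw [← hm, MonObj.mul_comp, ← _root_.mul_assoc, mem_semi_iff.1 (hminor p), hm]
    ring
  have hwmul : ∀ h h', valAt (h * h') w = valAt h w * valAt h' w := fun h h' => by
    rw [hw, hw, hw, hθmul, humul, mul_pow]
    ring
  have hθ0 : ∀ h, θ h ≠ 0 := fun h h0 => by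
    have h1 := hm 1
    rw [MonObj.one_comp, _root_.mul_one] at h1
    have : θ 1 = 1 := mul_right_cancel₀ hp (by rw [← h1, _root_.one_mul])
    have h2 := hθmul h h⁻¹
    rw [mul_inv_cancel, this, h0, zero_mul] at h2
    exact one_ne_zero h2
  have hw0 : ∀ h, valAt h w ≠ (0 : k) := fun h => by
    rw [hw]; exact mul_ne_zero (hθ0 h) (pow_ne_zero _ (hu0 h))
  obtain ⟨χ, hmon, hgm⟩ := exists_char w hw0 hwmul
  have hrw : fnMap r w = 1 := ext_valAt fun t => by
    rw [← valAt_comp, hw, hθR, ← mul_pow, inv_mul_cancel₀ (hu0 _), one_pow, map_one]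
  have hχ1 : χ = 1 := htriv χ hmon (GmPts.gmFn_injective (by
    show Red.gmFn (r ≫ χ) = Red.gmFn 1
    rw [hgm, hrw, GmPts.gmFn_one]))
  have hw1 : w = 1 := by
    have h1 := congrArg (fun t => Red.gmFn t) hχ1
    simp only [GmPts.gmFn_one] at h1
    rw [← Category.id_comp χ, hgm, fnMap_id, AlgHom.id_apply] at h1
    exact h1
  obtain ⟨D, hD, hDx⟩ := hne x
  refine ⟨m * D ^ (Module.finrank k N - 1), mem_semi_iff.2 fun y h => ?_, ?_⟩
  · have h1 : θ h * valAt h u ^ Module.finrank k N = 1 := by rw [← hw, hw1, map_one]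
    rw [map_mul, map_mul, map_pow, map_pow, mem_semi_iff.1 (hminor p), mem_semi_iff.1 hD, mul_pow]
    obtain ⟨e, he⟩ := Nat.exists_eq_succ_of_ne_zero hn0.ne'
    rw [he, pow_succ] at h1
    rw [show Module.finrank k N - 1 = e by omega]
    field_simp [hu0 h]
    linear_combination (valAt y m * valAt y D ^ e) * h1
  · rw [map_mul, map_pow]
    exact mul_ne_zero hp (pow_ne_zero _ hDx)

open GrothLib.Induce27 GrothLib.Repr in
/-- Normal subgroups are observable. -/
theorem observable_normal {H R : 𝒞} [GrpObj H] [GrpObj R] [IsAffine H.left] [Smooth H.hom] [Smooth R.hom]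
    (r : R ⟶ H) [IsMonHom r] [IsClosedImmersion r.left] (hn : AlgGrp.IsNormalHom r) :
    AGF.IsObservableIn k r := by
  haveI : IsAffine R.left := isAffine_of_isAffineHom r.left
  obtain ⟨Q, _, q, hq, hQl, -, hqf, hqs, hker⟩ := GrothLib.Chevalley.exists_normal_quotient_affine r hn
  haveI := hq; haveI := hQl; haveI := hqs
  haveI : IsAffine Q.left := Chevalley.isAffine_of_surjective_hom q
  intro g hg
  have h1 : g ≫ q = toUnit _ ≫ η[Q] := by
    refine pt_ext (AlgHom.ext fun f => ?_)
    have hf : fnMap q f ∈ semi r (fun _ => (1 : k)) := mem_semi_iff.2 fun x t => by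
      rw [_root_.one_mul, ← valAt_comp, ← valAt_comp, MonObj.mul_comp, Category.assoc, hker.w,
        ← Category.assoc, toUnit_unique (t ≫ toUnit R) (toUnit _), ← Hom.one_def, _root_.mul_one]
    have := InHull.valAt_eq hg hf
    rw [← valAt_comp, ← valAt_comp, MonObj.one_comp, Hom.one_def] at this
    exact this
  exact ⟨hker.lift g _ h1, hker.lift_fst _ _ _⟩

end Aux


/-- Let k be an algebraically closed field, G a linear algebraic group over k (an affine smooth group
scheme over k) and H a closed subgroup of G (a smooth closed subgroup scheme, i : H → G). Let R ⊆ H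
be the radical of H: a smooth connected solvable closed normal subgroup of H through which every
smooth connected solvable closed normal subgroup of H factors. Then H is observable in G if and only
if R is observable in G. -/
theorem result (k : Type u) [Field k] [IsAlgClosed k]
    (G : Over (Spec (CommRingCat.of k))) [GrpObj G] [IsAffine G.left] [Smooth G.hom]
    (H : Over (Spec (CommRingCat.of k))) [GrpObj H] [Smooth H.hom] (i : H ⟶ G) [IsMonHom i]
    [IsClosedImmersion i.left]
    (R : Over (Spec (CommRingCat.of k))) [GrpObj R] [Smooth R.hom] [ConnectedSpace R.left] (r : R ⟶ H) [IsMonHom r]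
    [IsClosedImmersion r.left] (hn : AlgGrp.IsNormalHom r) (hsol : Red.IsSolvableGrp R)
    (hmax : ∀ (R' : Over (Spec (CommRingCat.of k))) [GrpObj R'] (r' : R' ⟶ H) [IsMonHom r'], IsClosedImmersion r'.left → Smooth R'.hom →
      ConnectedSpace R'.left → AlgGrp.IsNormalHom r' → Red.IsSolvableGrp R' → ∃ f : R' ⟶ R, f ≫ r = r') :
    AGF.IsObservableIn k i ↔ AGF.IsObservableIn k (r ≫ i) := by
  haveI : IsAffine H.left := isAffine_of_isAffineHom i.left
  haveI : IsClosedImmersion (r ≫ i).left := by rw [Over.comp_left]; infer_instance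
  constructor
  · intro h
    exact Groth.Agent.S11195.result k G H i R r (observable_normal r hn) h
  intro h
  obtain ⟨H₀, _, j, hj, hjo, hcpt, hirr, hlft⟩ := GrothLib.GrpExt19.exists_neutral H
  haveI := hj; haveI := hjo; haveI := hcpt; haveI := hirr; haveI := hlft
  haveI : ConnectedSpace H₀.left := inferInstance
  haveI := GrothLib.UnipFix19.isClosedImmersion_open j
  haveI : Smooth H₀.hom := by rw [← Over.w j]; infer_instance
  haveI : IsAffine H₀.left := isAffine_of_isAffineHom j.left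
  haveI : Mono j := Over.mono_of_mono_left j
  haveI : IsClosedImmersion (j ≫ i).left := by rw [Over.comp_left]; infer_instance
  obtain ⟨m₀, hm₀⟩ := GrothLib.UnipFix19.exists_lift_sweep r j
  let r₀ : R ⟶ H₀ := lift 1 (𝟙 R) ≫ m₀
  have hr₀ : r₀ ≫ j = r := by
    rw [Category.assoc, hm₀, GrothLib.UnipFix19.lift_sweep, Category.id_comp, _root_.one_mul, _root_.inv_one,
      _root_.mul_one]
  haveI : IsMonHom (r₀ ≫ j) := by rw [hr₀]; infer_instance
  haveI : IsMonHom r₀ := GrothLib.Flag27.isMonHom_of_comp r₀ j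
  haveI : IsClosedImmersion r₀.left := by
    haveI : IsClosedImmersion (r₀.left ≫ j.left) := by rw [← Over.comp_left, hr₀]; infer_instance
    exact IsClosedImmersion.of_comp r₀.left j.left
  refine GrothLib.Induce27.observable_of_finite_index j ?_
  refine observable_step (j ≫ i) r₀ (fun T g x => ?_) (by rw [reassoc_of% hr₀]; exact h) fun χ hχ hrχ => ?_
  · obtain ⟨x', hx'⟩ := hn T (g ≫ j) x
    refine ⟨x', ?_⟩
    rw [← cancel_mono j, MonObj.mul_comp, MonObj.mul_comp, GrpObj.inv_comp, Category.assoc, hr₀, Category.assoc,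
      hr₀, hx']
  · haveI := hχ
    haveI : IsAffine (Red.diag (ULift.{u} ℤ) ℤ).left := inferInstanceAs (IsAffine (Spec _))
    haveI : IsAffine (Red.Gm (Spec (CommRingCat.of k))).left := GrothLib.Flag27.isAffine_bc _ _
    have hgm : Red.IsTorus (Red.Gm (Spec (CommRingCat.of k))) := GrothLib.RankCell14.isTorus_Gm _
    haveI := (GrothLib.IsogProps19.torus_props _ hgm).1
    refine char_trivial j hgm χ fun R' _ r' _ h1 h2 h3 h4 h5 w hw => ?_
    obtain ⟨f, hf⟩ := hmax R' r' h1 h2 h3 h4 h5
    rw [show w = f ≫ r₀ by rw [← cancel_mono j, hw, Category.assoc, hr₀, hf], Category.assoc, hrχ, MonObj.comp_one]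


end Groth.Agent.S11201
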