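import Groth.Statements.S11202
import Groth.Agent.Lib.Induce27.Obs
import Groth.Agent.Lib.Induce27.Neutral
import Groth.Agent.Lib.Induce27.Finite
import Groth.Agent.Lib.UnipFix19.PerfectRad
import Groth.Agent.Lib.UnipFix19.Reductive
import Groth.Agent.Lib.UnipFix19.QuotientField
import Groth.Agent.Lib.UnipFix19.Quotient
import Groth.Agent.Lib.Chev24.Divisible
import Groth.Agent.Lib.QuotTorus14.Basic
import Groth.Agent.Lib.SelfCent19.Semisimple
import Groth.Agent.Lib.SelfCent19.Main
import Groth.Agent.Lib.Flag27.UnipBasic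
import Groth.Agent.Lib.RankCell14.Compat
import Groth.Agent.S8179

set_option linter.all false
set_option maxHeartbeats 1600000
set_option synthInstance.maxHeartbeats 200000
set_option backward.isDefEq.respectTransparency false

set_option autoImplicit false
universe u
open CategoryTheory MonoidalCategory CartesianMonoidalCategory MonObj GrpObj AlgebraicGeometry
open scoped TensorProduct
open AGF

namespace Groth.Agent.S11202

open CategoryTheory.Limits GrothLib in
/-- The preimage of a normal subgroup, with its universal property. -/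
theorem exists_preimage' {k : Type u} [Field k] [IsAlgClosed k] {G G' R U : Over (Spec (CommRingCat.of k))} [GrpObj G] [GrpObj G'] [GrpObj R] [GrpObj U]
    [IsAffine G.left] [Smooth G.hom] [Smooth G'.hom] (q : G ⟶ G') [IsMonHom q] [Surjective q.left]
    (r : R ⟶ G) [IsMonHom r] [Smooth R.hom] [ConnectedSpace R.left] (hq : AlgGrp.IsKernel r q)
    (i : U ⟶ G') [IsMonHom i] [IsClosedImmersion i.left] [Smooth U.hom] [ConnectedSpace U.left]
    (hN : AlgGrp.IsNormalHom i) :
    ∃ (N : Over (Spec (CommRingCat.of k))) (_ : GrpObj N) (n : N ⟶ G) (a : N ⟶ U), IsMonHom n ∧ IsMonHom a ∧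
      IsClosedImmersion n.left ∧ Smooth N.hom ∧ ConnectedSpace N.left ∧ AlgGrp.IsNormalHom n ∧ Surjective a.left ∧
      IsPullback a n i q := by
  haveI : IsAffine G'.left := Chevalley.isAffine_of_surjective_hom q
  haveI : Mono i := Over.mono_of_mono_left i
  let P : Over (Spec (CommRingCat.of k)) := Over.mk (pullback.snd i.left q.left ≫ G.hom)
  let b : P ⟶ G := Over.homMk (pullback.snd i.left q.left) rfl
  let a : P ⟶ U := Over.homMk (pullback.fst i.left q.left) (by
    show pullback.fst i.left q.left ≫ U.hom = pullback.snd i.left q.left ≫ G.hom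
    rw [← Over.w i, pullback.condition_assoc, Over.w q])
  have hsqL : IsPullback a.left b.left i.left q.left := IsPullback.of_hasPullback i.left q.left
  have hsq : IsPullback a b i q := IsPullback.of_map (Over.forget _) (Over.OverMorphism.ext hsqL.w) hsqL
  haveI : IsClosedImmersion b.left := inferInstanceAs (IsClosedImmersion (pullback.snd i.left q.left))
  haveI : Surjective a.left := inferInstanceAs (Surjective (pullback.fst i.left q.left))
  obtain ⟨hP, ha, hb⟩ := GrothLib.SubPre14.exists_grpObj_pullback q i a b hsq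
  haveI := ha; haveI := hb
  haveI : Mono b := Over.mono_of_mono_left b
  haveI : IsAffine P.left := isAffine_of_isAffineHom b.left
  haveI : IsAffine U.left := isAffine_of_isAffineHom i.left
  haveI : LocallyOfFiniteType P.hom := by rw [← Over.w b]; infer_instance
  haveI : QuasiCompact a.left := inferInstance
  have h1 : (1 : R ⟶ U) ≫ i = r ≫ q := by
    rw [MonObj.one_comp, hq.w, ← Hom.one_def]
  let c : R ⟶ P := hsq.lift 1 r h1
  have hk : GrothLib.SubPre14.KerPairFactors a c := by
    let W := pullback a a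
    have hd : ((pullback.fst a a)⁻¹ * pullback.snd a a) ≫ a = 1 := by
      rw [MonObj.mul_comp, GrpObj.inv_comp, pullback.condition, inv_mul_cancel]
    have hw : (((pullback.fst a a)⁻¹ * pullback.snd a a) ≫ b) ≫ q = toUnit W ≫ η[G'] := by
      rw [Category.assoc, ← hsq.w, reassoc_of% hd, MonObj.one_comp, Hom.one_def]
    refine ⟨W, _, _, hq.lift _ (toUnit W) hw, IsPullback.of_hasPullback a a, ?_⟩
    rw [← cancel_mono b, Category.assoc, hsq.lift_snd, hq.lift_fst]
  haveI : Smooth P.hom := GrothLib.SubPre14.smooth_algClosed a c hk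
  haveI : IsReduced U.left := GrothLib.RedSmooth.isReduced_of_smooth U.hom
  haveI : Flat a.left := GrothLib.GrpSchField.flat_hom a
  haveI : LocallyOfFiniteType a.left := by
    haveI : LocallyOfFiniteType (a.left ≫ U.hom) := by rw [Over.w a]; infer_instance
    exact locallyOfFiniteType_of_comp a.left U.hom
  haveI : IsLocallyNoetherian U.left := LocallyOfFiniteType.isLocallyNoetherian U.hom
  haveI : LocallyOfFinitePresentation a.left := inferInstance
  haveI : ConnectedSpace P.left := GrothLib.SubPre14.connected_field a a.left.isOpenMap c hk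
  refine ⟨P, hP, b, a, hb, ha, ‹_›, ‹_›, ‹_›, fun T g x => ?_, ‹_›, hsq⟩
  obtain ⟨u, hu⟩ := hN T (g ≫ q) (x ≫ a)
  have h2 : u ≫ i = (g * (x ≫ b) * g⁻¹) ≫ q := by
    rw [← hu, MonObj.mul_comp, MonObj.mul_comp, GrpObj.inv_comp, Category.assoc, Category.assoc, hsq.w]
  exact ⟨hsq.lift u _ h2, (hsq.lift_snd _ _ h2).symm⟩


/-- A homomorphism killing the kernel descends along a flat surjective homomorphism. -/
theorem descend {k : Type u} [Field k] {G Q U D : Over (Spec (CommRingCat.of k))} [GrpObj G] [GrpObj Q] [GrpObj D]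
    (q : G ⟶ Q) [IsMonHom q] [Flat q.left] [Surjective q.left] [LocallyOfFinitePresentation q.left]
    (u : U ⟶ G) (hqk : AlgGrp.IsKernel u q) (χ : G ⟶ D) [IsMonHom χ] (hχu : u ≫ χ = 1) :
    ∃ (χ' : Q ⟶ D) (_ : IsMonHom χ'), q ≫ χ' = χ := by
  obtain ⟨χ', hχ'⟩ := GrothLib.QuotTorus14.exists_desc q χ fun C _ p a₁ a₂ h => by
    have h1 : (a₁ * a₂⁻¹) ≫ q = 1 := by rw [MonObj.mul_comp, GrpObj.inv_comp, h, mul_inv_cancel]
    let l := hqk.lift (a₁ * a₂⁻¹) (toUnit _) (by rw [h1, Hom.one_def])
    have hl : l ≫ u = a₁ * a₂⁻¹ := CategoryTheory.IsPullback.lift_fst _ _ _ _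
    have h2 : (a₁ * a₂⁻¹) ≫ χ = 1 := by rw [← hl, Category.assoc, hχu, MonObj.comp_one]
    rwa [MonObj.mul_comp, GrpObj.inv_comp, mul_inv_eq_one] at h2
  haveI : IsMonHom (q ≫ χ') := by rw [hχ']; infer_instance
  exact ⟨χ', GrothLib.QuotTorus14.isMonHom_desc q χ', hχ'⟩

/-- Let k be an algebraically closed field, G a linear algebraic group over k (an affine smooth group
scheme over k) and H a closed subgroup of G (a smooth closed subgroup scheme, i : H → G). If the
radical of H is unipotent — every smooth connected solvable closed normal subgroup of H contains no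
non-trivial subtorus — then H is observable in G. -/
theorem result (k : Type u) [Field k] [IsAlgClosed k]
    (G : Over (Spec (CommRingCat.of k))) [GrpObj G] [IsAffine G.left] [Smooth G.hom]
    (H : Over (Spec (CommRingCat.of k))) [GrpObj H] [Smooth H.hom] (i : H ⟶ G) [IsMonHom i]
    [IsClosedImmersion i.left]
    (hrad : ∀ (R : Over (Spec (CommRingCat.of k))) [GrpObj R] (r : R ⟶ H) [IsMonHom r], IsClosedImmersion r.left → Smooth R.hom →
      ConnectedSpace R.left → AlgGrp.IsNormalHom r → Red.IsSolvableGrp R → Red.HasNoSubtorus k R) :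
    AGF.IsObservableIn k i := by
  haveI : IsAffine H.left := isAffine_of_isAffineHom i.left
  obtain ⟨H₀, _, j, _, _, _, huniv⟩ := GrothLib.Induce27.exists_neutral H
  haveI : IsClosedImmersion j.left := GrothLib.Induce27.isClosedImmersion_of_open j
  haveI : IsAffine H₀.left := isAffine_of_isAffineHom j.left
  haveI : Smooth H₀.hom := by rw [← Over.w j]; infer_instance
  haveI : IsClosedImmersion (j ≫ i).left := by rw [Over.comp_left]; infer_instance
  haveI : Mono j := Over.mono_of_mono_left j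
  refine GrothLib.Induce27.observable_of_finite_index j
    (GrothLib.Induce27.observable_of_character_trivial fun χ hχ => ?_)
  haveI := hχ
  -- conjugation by rational points of H
  have hconj : ∀ g : 𝟙_ (Over (Spec (CommRingCat.of k))) ⟶ H, ∃ (c : H₀ ⟶ H₀) (_ : IsMonHom c),
      c ≫ j = (toUnit H₀ ≫ g) * j * (toUnit H₀ ≫ g)⁻¹ := by
    intro g
    haveI : IsMonHom ((toUnit H₀ ≫ g) * j * (toUnit H₀ ≫ g)⁻¹) :=
      GrothLib.DiagGrp.isMonHom_of_points _ fun Y a b => by
        simp only [MonObj.comp_mul, GrpObj.comp_inv, MonObj.mul_comp, comp_toUnit_assoc]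
        group
    obtain ⟨c, hc, e⟩ := huniv H₀ ((toUnit H₀ ≫ g) * j * (toUnit H₀ ≫ g)⁻¹)
    exact ⟨c, hc, e⟩
  have hjn : AlgGrp.IsNormalHom j := GrothLib.UnipFix19.isNormalHom_of_pts j fun g w => by
    obtain ⟨c, -, e⟩ := hconj g
    refine ⟨w ≫ c, ?_⟩
    rw [Category.assoc, e]
    simp [MonObj.comp_mul, GrpObj.comp_inv]
  -- the unipotent radical
  obtain ⟨U, _, u, hU⟩ := Groth.Agent.S8179.exists_unipRad H₀
  obtain ⟨hum, huc, hun, hus, huq, hug, humax⟩ := id hU
  haveI := hum; haveI := huc; haveI := hus; haveI := huq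
  obtain ⟨hUc, hUno⟩ := GrothLib.Flag27.geomFibre_conditions.1 hug
  haveI := hUc
  haveI : IsAffine U.left := isAffine_of_isAffineHom u.left
  haveI : Mono u := Over.mono_of_mono_left u
  haveI : QuasiCompact H₀.hom := inferInstance
  obtain ⟨Q, _, q, hqm, hQs, hQq, hqf, hqs, hqe, hqk⟩ := GrothLib.Chev24.exists_quot u hun
  haveI := hqm; haveI := hQs; haveI := hQq; haveI := hqf; haveI := hqs
  haveI : IsAffine Q.left := GrothLib.Chevalley.isAffine_of_surjective_hom q
  haveI : ConnectedSpace Q.left := q.left.surjective.connectedSpace q.left.continuous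
  haveI : LocallyOfFiniteType (q.left ≫ Q.hom) := by rw [Over.w]; infer_instance
  haveI : LocallyOfFiniteType q.left := locallyOfFiniteType_of_comp q.left Q.hom
  haveI : IsLocallyNoetherian Q.left := LocallyOfFiniteType.isLocallyNoetherian (Y := Spec _) Q.hom
  haveI : LocallyOfFinitePresentation q.left := inferInstance
  have hQr : Red.IsReductive Q := GrothLib.UnipFix19.isReductive_quotient u hU q hqk
  have huq1 : u ≫ q = 1 := by rw [hqk.w, Hom.one_def]
  -- the largest normal torus of the quotient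
  obtain ⟨M, _, m, hmm, hmc, hMT, hMn, hMmax⟩ := GrothLib.UnipFix19.exists_largest_normalTorus Q
  haveI := hmm; haveI := hmc
  obtain ⟨hMs, hMq, hMconn, -⟩ := GrothLib.IsogProps19.torus_props M hMT
  haveI := hMs; haveI := hMq; haveI := hMconn
  haveI : IsAffine M.left := isAffine_of_isAffineHom m.left
  haveI : Mono m := Over.mono_of_mono_left m
  haveI := GrothLib.UnipFix19.isCommMonObj_torus hMT
  obtain ⟨N, _, n, a, hnm, ham, hnc, hNs, hNc, hNn, has, hsq⟩ := exists_preimage' q u hqk m hMn
  have hw := hsq.w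
  haveI := hnm; haveI := ham; haveI := hnc; haveI := hNs; haveI := hNc; haveI := has
  haveI : IsAffine N.left := isAffine_of_isAffineHom n.left
  haveI : Mono n := Over.mono_of_mono_left n
  have hNsol : Red.IsSolvableGrp N := GrothLib.UnipFix19.isSolvableGrp_preimage q u hqk n a m hw
    (GrothLib.Flag27.isUnip_of_noSubtorus hUno).2
    (GrothLib.Flag27.isSolvable_points (GrothLib.UnipFix19.isSolvableGrp_of_comm M))
  have hpts : ∀ (x : 𝟙_ (Over (Spec (CommRingCat.of k))) ⟶ H₀) (y : 𝟙_ (Over (Spec (CommRingCat.of k))) ⟶ M),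
      x ≫ q = y ≫ m → ∃ x', x' ≫ n = x := fun x y hxy => ⟨hsq.lift y x hxy.symm, hsq.lift_snd _ _ _⟩
  -- N is normal in H
  haveI : IsClosedImmersion (n ≫ j).left := by rw [Over.comp_left]; infer_instance
  have hNH : AlgGrp.IsNormalHom (n ≫ j) := GrothLib.UnipFix19.isNormalHom_of_pts (n ≫ j) fun g w => by
    obtain ⟨c, hc, ec⟩ := hconj g
    obtain ⟨d, hd, ed⟩ := hconj g⁻¹
    haveI := hc; haveI := hd
    have hcd : c ≫ d = 𝟙 H₀ := GrothLib.UnipFix19.conj_mul_conj j g g⁻¹ ec ed (inv_mul_cancel g)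
    have hdc : d ≫ c = 𝟙 H₀ := GrothLib.UnipFix19.conj_mul_conj j g⁻¹ g ed ec (mul_inv_cancel g)
    haveI : IsIso c := ⟨d, hcd, hdc⟩
    haveI : IsIso c.left := inferInstanceAs (IsIso ((Over.forget _).map c))
    haveI : IsClosedImmersion (u ≫ c).left := by rw [Over.comp_left]; infer_instance
    obtain ⟨f, hf⟩ := humax U (u ≫ c) ‹_› (fun T g' n' => by
      obtain ⟨n'', e⟩ := hun T (g' ≫ d) n'
      refine ⟨n'', ?_⟩
      rw [← Category.assoc n'' u c, ← e, MonObj.mul_comp, MonObj.mul_comp, GrpObj.inv_comp, Category.assoc,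
        hdc, Category.comp_id, Category.assoc]) hus huq hug
    obtain ⟨cQ, hmcQ, hcQ⟩ := descend q u hqk (c ≫ q)
      (by rw [← Category.assoc u c q, ← hf, Category.assoc, huq1, MonObj.comp_one])
    haveI := hmcQ
    haveI : IsIso d := ⟨c, hdc, hcd⟩
    haveI : IsIso d.left := inferInstanceAs (IsIso ((Over.forget _).map d))
    haveI : IsClosedImmersion (u ≫ d).left := by rw [Over.comp_left]; infer_instance
    obtain ⟨f', hf'⟩ := humax U (u ≫ d) ‹_› (fun T g' n' => by
      obtain ⟨n'', e⟩ := hun T (g' ≫ c) n'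
      refine ⟨n'', ?_⟩
      rw [← Category.assoc n'' u d, ← e, MonObj.mul_comp, MonObj.mul_comp, GrpObj.inv_comp, Category.assoc,
        hcd, Category.comp_id, Category.assoc]) hus huq hug
    obtain ⟨dQ, hmdQ, hdQ⟩ := descend q u hqk (d ≫ q)
      (by rw [← Category.assoc u d q, ← hf', Category.assoc, huq1, MonObj.comp_one])
    haveI : Epi q := hqe
    have e1 : cQ ≫ dQ = 𝟙 Q := by
      rw [← cancel_epi q, reassoc_of% hcQ, hdQ, reassoc_of% hcd, Category.comp_id]
    have e2 : dQ ≫ cQ = 𝟙 Q := by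
      rw [← cancel_epi q, reassoc_of% hdQ, hcQ, reassoc_of% hdc, Category.comp_id]
    haveI : IsIso cQ := ⟨dQ, e1, e2⟩
    obtain ⟨fM, hfM⟩ := hMmax M (m ≫ cQ) hMT fun T g' n' => by
      obtain ⟨n'', e⟩ := hMn T (g' ≫ dQ) n'
      refine ⟨n'', ?_⟩
      rw [← Category.assoc n'' m cQ, ← e, MonObj.mul_comp, MonObj.mul_comp, GrpObj.inv_comp, Category.assoc,
        e2, Category.comp_id, Category.assoc]
    obtain ⟨w', hw'⟩ := hpts (w ≫ n ≫ c) (w ≫ a ≫ fM) (by
      simp only [Category.assoc]
      rw [hfM, ← hcQ, reassoc_of% hw])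
    refine ⟨w', ?_⟩
    rw [← Category.assoc w', hw']
    simp only [Category.assoc]
    rw [ec]
    simp [MonObj.comp_mul, GrpObj.comp_inv]
  have hNno : Red.HasNoSubtorus k N := hrad N (n ≫ j) inferInstance hNs hNc hNH hNsol
  have hMtriv : Red.IsTrivialGrp M := GrothLib.UnipFix19.isTrivialGrp_of_eq_one a
    ((GrothLib.Flag27.isUnip_of_noSubtorus hNno).1.hom_torus_eq_one hMT a)
  have main : ∀ (D : Over (Spec (CommRingCat.of k))) [GrpObj D] [IsCommMonObj D] [IsSeparated D.hom]
      (χ₀ : H₀ ⟶ D) [IsMonHom χ₀], u ≫ χ₀ = 1 → χ₀ = 1 := by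
    intro D _ _ _ χ₀ _ h0
    obtain ⟨χ', hχ'm, hχ'⟩ := descend q u hqk χ₀ h0
    haveI := hχ'm
    rw [← hχ', GrothLib.SelfCent19.hom_comm_eq_one (GrothLib.SelfCent19.isReductiveOver_of_isReductive hQr)
      (fun R _ r _ hrc hrn hRT => by
        haveI := hrc
        haveI : Mono r := Over.mono_of_mono_left r
        obtain ⟨f, hf⟩ := hMmax R r hRT hrn
        exact GrothLib.UnipFix19.isTrivialGrp_of_factor f m r hf hMtriv) χ', MonObj.comp_one]
  haveI : IsSeparated (Red.Gm (Spec (CommRingCat.of k))).hom := GrothLib.GrpSchField.isSeparated _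
  exact main _ χ ((GrothLib.Flag27.isUnip_of_noSubtorus hUno).1.char_eq_one (u ≫ χ))

end Groth.Agent.S11202
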