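import Groth.Statements.S11203
import Groth.Agent.Lib.Induce27.FiniteIndexFG
-- import your own Groth.Agent.* helpers here

set_option autoImplicit false
universe u
open CategoryTheory MonoidalCategory CartesianMonoidalCategory MonObj GrpObj AlgebraicGeometry
open scoped TensorProduct
open AGF

namespace Groth.Agent.S11203

/-- Let k be an algebraically closed field, G a linear algebraic group over k (an affine smooth group
scheme over k) and H a closed subgroup of G (a smooth closed subgroup scheme, i : H → G); let G₀ ⊆ G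
and H₀ ⊆ H be the identity components and i₀ : H₀ → G₀ the induced homomorphism. If one of the rings
k[G]^H (right-H-invariant global functions on G), k[G]^{H₀}, k[G₀]^{H₀} is finitely generated over
the constants, then all three are. (The published statement also lists the invariants of H ∩ G₀ on
G₀, omitted here.) -/
theorem result (k : Type u) [Field k] [IsAlgClosed k]
    (G : Over (Spec (CommRingCat.of k))) [GrpObj G] [IsAffine G.left] [Smooth G.hom]
    (H : Over (Spec (CommRingCat.of k))) [GrpObj H] [Smooth H.hom] (i : H ⟶ G) [IsMonHom i]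
    [IsClosedImmersion i.left]
    (G₀ : Over (Spec (CommRingCat.of k))) [GrpObj G₀] [ConnectedSpace G₀.left] (jG : G₀ ⟶ G) [IsMonHom jG]
    [IsOpenImmersion jG.left]
    (H₀ : Over (Spec (CommRingCat.of k))) [GrpObj H₀] [ConnectedSpace H₀.left] (jH : H₀ ⟶ H) [IsMonHom jH]
    [IsOpenImmersion jH.left] (i₀ : H₀ ⟶ G₀) [IsMonHom i₀] (hc : i₀ ≫ jG = jH ≫ i) :
    List.TFAE [AGF.SubringFGOver k G (AGF.rTransInv i), AGF.SubringFGOver k G (AGF.rTransInv (jH ≫ i)),
      AGF.SubringFGOver k G₀ (AGF.rTransInv i₀)] := by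
  haveI : IsAffine H.left := isAffine_of_isAffineHom i.left
  haveI : IsClosedImmersion jG.left := GrothLib.Induce27.isClosedImmersion_of_open jG
  haveI : IsClosedImmersion jH.left := GrothLib.Induce27.isClosedImmersion_of_open jH
  haveI : IsAffine G₀.left := isAffine_of_isAffineHom jG.left
  haveI : IsAffine H₀.left := isAffine_of_isAffineHom jH.left
  haveI : Smooth G₀.hom := by rw [← Over.w jG]; infer_instance
  haveI : Smooth H₀.hom := by rw [← Over.w jH]; infer_instance
  haveI : Algebra.FiniteType k (GrothLib.Repr.Fn G₀) := GrothLib.Induce27.finiteType_fn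
  simp only [GrothLib.Induce27.subringFGOver_iff]
  have hle : GrothLib.Induce27.invAlg i ≤ GrothLib.Induce27.invAlg (jH ≫ i) := fun f hf => by
    rw [GrothLib.Induce27.mem_invAlg_iff_valAt] at hf ⊢
    intro x t
    rw [← Category.assoc]
    exact hf x (t ≫ jH)
  have hint : ∀ f ∈ GrothLib.Induce27.invAlg (jH ≫ i), IsIntegral (GrothLib.Induce27.invAlg i) f :=
    fun f hf => GrothLib.Induce27.isIntegral_invAlg jH hf
  tfae_have 2 → 1 := fun h => GrothLib.Induce27.fg_of_isIntegral_of_fg hle h hint
  tfae_have 3 → 2 := fun h => by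
    rw [← hc]
    exact (GrothLib.Induce27.fg_invAlg_component_iff jG i₀).2 h
  tfae_have 1 → 3 := fun h => by
    haveI : IsDomain (GrothLib.Repr.Fn G₀) := GrothLib.Induce27.isDomain_fn_aux
    have heq : (GrothLib.Induce27.invAlg (jH ≫ i)).map (GrothLib.Repr.fnMap jG) = GrothLib.Induce27.invAlg i₀ := by
      rw [← hc]; exact GrothLib.Induce27.map_invAlg_eq jG i₀
    refine GrothLib.Induce27.fg_of_integral_over_fg (R := (GrothLib.Induce27.invAlg i).map (GrothLib.Repr.fnMap jG))
      (h.map _) (fun f hf => ?_) (heq ▸ Subalgebra.map_mono hle)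
    obtain ⟨F, hF, rfl⟩ := heq.ge hf
    obtain ⟨p, hp, hp0⟩ := hint F hF
    refine ⟨p.map (((GrothLib.Repr.fnMap jG).comp (GrothLib.Induce27.invAlg i).val).codRestrict ((GrothLib.Induce27.invAlg i).map (GrothLib.Repr.fnMap jG))
      fun r => ⟨r, r.2, rfl⟩).toRingHom, hp.map _, ?_⟩
    rw [Polynomial.eval₂_map]
    show Polynomial.eval₂ ((GrothLib.Repr.fnMap jG).toRingHom.comp (algebraMap ↥(GrothLib.Induce27.invAlg i) (GrothLib.Repr.Fn G)))
      ((GrothLib.Repr.fnMap jG).toRingHom F) p = 0
    rw [← Polynomial.hom_eval₂]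
    exact (congrArg _ hp0).trans (map_zero _)
  tfae_finish

end Groth.Agent.S11203
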