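import Groth.Statements.S11204
import Groth.Agent.Lib.Induce27.Inter
-- import your own Groth.Agent.* helpers here

set_option autoImplicit false
universe u
open CategoryTheory MonoidalCategory CartesianMonoidalCategory MonObj GrpObj AlgebraicGeometry
open scoped TensorProduct
open AGF

namespace Groth.Agent.S11204

/-- Let k be an algebraically closed field, G a linear algebraic group over k and K ⊆ H ⊆ G closed
subgroups (smooth closed subgroup schemes κ : K → H, i : H → G) with K and H observable in G. If
k[G]^K is finitely generated over the constants (K is a Grosshans subgroup of G), then K is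
observable in H and k[H]^K is finitely generated over the constants (K is a Grosshans subgroup of
H). -/
theorem result (k : Type u) [Field k] [IsAlgClosed k]
    (G : Over (Spec (CommRingCat.of k))) [GrpObj G] [IsAffine G.left] [Smooth G.hom]
    (H : Over (Spec (CommRingCat.of k))) [GrpObj H] [Smooth H.hom] (i : H ⟶ G) [IsMonHom i]
    [IsClosedImmersion i.left]
    (K : Over (Spec (CommRingCat.of k))) [GrpObj K] [Smooth K.hom] (κ : K ⟶ H) [IsMonHom κ] [IsClosedImmersion κ.left]
    (hK : AGF.IsObservableIn k (κ ≫ i)) (hH : AGF.IsObservableIn k i)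
    (hfg : AGF.SubringFGOver k G (AGF.rTransInv (κ ≫ i))) :
    AGF.IsObservableIn k κ ∧ AGF.SubringFGOver k H (AGF.rTransInv κ) := by
  classical
  haveI : IsAffine H.left := isAffine_of_isAffineHom i.left
  haveI : IsAffine K.left := isAffine_of_isAffineHom κ.left
  haveI : IsClosedImmersion (κ ≫ i).left := inferInstanceAs (IsClosedImmersion (κ.left ≫ i.left))
  refine ⟨GrothLib.Induce27.observable_of_intermediate κ hK, ?_⟩
  obtain ⟨s, hs, hgen⟩ := hfg
  refine ⟨s.image (GrothLib.Repr.fnMap i : GrothLib.Repr.Fn G → GrothLib.Repr.Fn H), ?_, ?_⟩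
  · intro f hf
    obtain ⟨F, hF, rfl⟩ := Finset.mem_image.1 hf
    refine (GrothLib.Induce27.mem_semi_one_iff (i := κ) _).1 fun y t => ?_
    have hF' := (GrothLib.Induce27.mem_semi_one_iff (i := κ ≫ i) F).2 (hs hF)
    have h2 := GrothLib.Induce27.mem_semi_iff.1 hF' (y ≫ i) t
    rw [← GrothLib.Induce27.valAt_comp, ← GrothLib.Induce27.valAt_comp, MonObj.mul_comp, Category.assoc]
    exact h2
  · intro f hf
    obtain ⟨F, hF, hFf⟩ := GrothLib.Induce27.exists_invariant_lift κ hH
      ((GrothLib.Induce27.mem_semi_one_iff (i := κ) f).2 hf)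
    have h1 := hgen ((GrothLib.Induce27.mem_semi_one_iff (i := κ ≫ i) F).1 hF)
    have h2 : i.left.appTop.hom F ∈ Subring.map i.left.appTop.hom _ := Subring.mem_map.2 ⟨F, h1, rfl⟩
    rw [RingHom.map_closure, Set.image_union] at h2
    refine (congrArg (· ∈ _) hFf).mp (Subring.closure_mono (Set.union_subset_union ?_ ?_) h2)
    · rintro _ ⟨_, ⟨c, rfl⟩, rfl⟩
      exact ⟨c, ((GrothLib.Repr.fnMap i).commutes c).symm⟩
    · rintro _ ⟨z, hz, rfl⟩
      exact Finset.mem_image_of_mem _ hz

end Groth.Agent.S11204
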