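import Groth.Statements.S11207
import Groth.Agent.Lib.Induce27.Transfer
-- import your own Groth.Agent.* helpers here

set_option autoImplicit false
universe u
open CategoryTheory MonoidalCategory CartesianMonoidalCategory MonObj GrpObj AlgebraicGeometry
open scoped TensorProduct
open AGF

namespace Groth.Agent.S11207

/-- (a) ⇔ (b): let k be an algebraically closed field, G a linear algebraic group over k whose identity
component is reductive, and H a closed subgroup of G. Assume that invariants of reductive groups
over k on finitely generated algebras are finitely generated (a standard result, carried as a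
hypothesis). Then k[G]^H is finitely generated over the constants if and only if, for every finitely
generated commutative k-algebra A with a rational action of G by algebra automorphisms, the algebra
of H-invariants A^H is finitely generated over k. -/
theorem result (k : Type u) [Field k] [IsAlgClosed k]
    (G : Over (Spec (CommRingCat.of k))) [GrpObj G] [IsAffine G.left] [Smooth G.hom]
    (H : Over (Spec (CommRingCat.of k))) [GrpObj H] [Smooth H.hom] (i : H ⟶ G) [IsMonHom i]
    [IsClosedImmersion i.left]
    (hG : VecGrp.IsReductiveGrp k G) (thmA : VecGrp.ReductiveInvariantsFG k) :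
    AGF.SubringFGOver k G (AGF.rTransInv i) ↔
      ∀ (A : Type u) [CommRing A] [Algebra k A] [Algebra.FiniteType k A] (ρ : VecGrp.GMod G A) (hρ : ρ.IsMult),
        Algebra.FiniteType k ↥(ρ.fixedSubalgebra hρ i) := by
  haveI : IsAffine H.left := isAffine_of_isAffineHom i.left
  haveI : IsAffineHom G.hom := inferInstance
  refine ⟨fun hfg A _ _ _ ρ hρ =>
    GrothLib.Induce27.finiteType_fixed i hρ (GrothLib.Induce27.subringFGOver_iff.1 hfg) hG thmA, fun h => ?_⟩
  haveI : Algebra.FiniteType k (GrothLib.Repr.Fn G) := GrothLib.Induce27.finiteType_fn
  have h2 := (Subalgebra.fg_iff_finiteType _).2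
    (h (GrothLib.Repr.Fn G) (GrothLib.Repr.fnGMod (GrothLib.Induce27.rtAct G)) GrothLib.Induce27.fnGMod_isMult)
  refine GrothLib.Induce27.subringFGOver_iff.2 ?_
  convert h2 using 1
  refine SetLike.ext fun f => ?_
  constructor
  · intro hf
    show f ∈ (GrothLib.Repr.fnGMod (GrothLib.Induce27.rtAct G)).fixedUnder i
    refine GrothLib.Induce27.fixedUnder_of_valAt _ _ fun t => ?_
    rw [GrothLib.Induce27.rho_fn, show GrothLib.Induce27.rt (t ≫ i) f = f from GrothLib.Induce27.ext_valAt fun x => by
      rw [GrothLib.Induce27.valAt_rt]
      exact GrothLib.Induce27.mem_invAlg_iff_valAt.1 hf x t]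
  · intro hf
    rw [GrothLib.Induce27.mem_invAlg_iff_valAt]
    intro x t
    have h3 := hf k t
    rw [GrothLib.Induce27.rho_fn] at h3
    have h4 : GrothLib.Induce27.rt (t ≫ i) f = f := by simpa using congrArg (TensorProduct.lid k (GrothLib.Repr.Fn G)) h3
    rw [← GrothLib.Induce27.valAt_rt, h4]

end Groth.Agent.S11207
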