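import Groth.Statements.S11211
import Groth.Agent.Lib.Weitz.Lift
import Mathlib.Algebra.Module.PID
import Mathlib.RingTheory.AdjoinRoot
import Mathlib.LinearAlgebra.StdBasis
import Mathlib.Algebra.Polynomial.Module.AEval
import Mathlib.LinearAlgebra.Matrix.ToLin
-- import your own Groth.Agent.* helpers here

set_option autoImplicit false
universe u
open CategoryTheory MonoidalCategory CartesianMonoidalCategory MonObj GrpObj AlgebraicGeometry
open scoped TensorProduct
open AGF

namespace Groth.Agent.S11211

/-- A nilpotent endomorphism has a basis of Jordan chains. -/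
theorem exists_chain_basis {k : Type u} [Field k] {V : Type u} [AddCommGroup V] [Module k V]
    [Module.Finite k V] (N : Module.End k V) (hN : IsNilpotent N) :
    ∃ (d : ℕ) (e : Fin d → ℕ) (b : Module.Basis (Σ i, Fin (e i)) k V),
      ∀ (i : Fin d) (j : Fin (e i)),
        N (b ⟨i, j⟩) = if h : (j : ℕ) + 1 < e i then b ⟨i, ⟨(j : ℕ) + 1, h⟩⟩ else 0 := by
  classical
  obtain ⟨r, hr⟩ := hN
  have hM : Module.IsTorsion' (Module.AEval' N) (Submonoid.powers (Polynomial.X : Polynomial k)) := by
    intro x
    obtain ⟨v, rfl⟩ := (Module.AEval'.of N).surjective x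
    refine ⟨⟨Polynomial.X ^ r, r, rfl⟩, ?_⟩
    change (Polynomial.X : Polynomial k) ^ r • Module.AEval'.of N v = 0
    rw [Module.AEval'.X_pow_smul_of, hr, zero_smul, map_zero]
  obtain ⟨d, e, ⟨φ⟩⟩ := Module.torsion_by_prime_power_decomposition (Polynomial.irreducible_X (R := k)) hM
  let pb := fun i : Fin d => AdjoinRoot.powerBasis' ((Polynomial.monic_X_pow (R := k) (e i)))
  have hdim : ∀ i, (pb i).dim = e i := fun i => by
    rw [AdjoinRoot.powerBasis'_dim, Polynomial.natDegree_X_pow]
  let Q := fun i : Fin d => Polynomial k ⧸ Polynomial k ∙ (Polynomial.X : Polynomial k) ^ (e i)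
  let bi : (i : Fin d) → Module.Basis (Fin (e i)) k (Q i) :=
    fun i => (pb i).basis.reindex (finCongr (hdim i))
  have hbi : ∀ i (j : Fin (e i)), bi i j =
      Submodule.Quotient.mk ((Polynomial.X : Polynomial k) ^ (j : ℕ)) := fun i j => by
    have h1 : ∀ jj, (pb i).basis jj = AdjoinRoot.mk ((Polynomial.X : Polynomial k) ^ e i)
        (Polynomial.X ^ (jj : ℕ)) := fun jj => by
      rw [PowerBasis.basis_eq_pow, AdjoinRoot.powerBasis'_gen, map_pow, AdjoinRoot.mk_X]
    exact (Module.Basis.reindex_apply (pb i).basis (finCongr (hdim i)) j).trans (h1 _)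
  let ψ : V ≃ₗ[k] (∀ i, Q i) :=
    (Module.AEval'.of N).trans ((φ.restrictScalars k).trans (DirectSum.linearEquivFunOnFintype k (Fin d) Q))
  refine ⟨d, e, (Pi.basis bi).map ψ.symm, fun i j => ?_⟩
  have hX : ∀ v i, ψ (N v) i = (Polynomial.X : Polynomial k) • ψ v i := fun v i => by
    have : φ (Module.AEval'.of N (N v)) = (Polynomial.X : Polynomial k) • φ (Module.AEval'.of N v) := by
      rw [← map_smul, Module.AEval'.X_smul_of]
    exact DFunLike.congr_fun this i
  apply ψ.injective
  funext i'
  rw [hX]
  simp only [Module.Basis.map_apply, LinearEquiv.apply_symm_apply, Pi.basis_apply]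
  rcases eq_or_ne i' i with rfl | hii
  · rw [Pi.single_eq_same, hbi]
    split_ifs with h
    · simp only [Module.Basis.map_apply, LinearEquiv.apply_symm_apply, Pi.basis_apply, Pi.single_eq_same,
        hbi, ← Submodule.Quotient.mk_smul, smul_eq_mul, pow_succ']
      rfl
    · rw [map_zero, Pi.zero_apply, ← Submodule.Quotient.mk_smul, smul_eq_mul, ← pow_succ',
        Submodule.Quotient.mk_eq_zero]
      exact Submodule.mem_span_singleton_self _ |> fun h' => by
        rwa [show (j : ℕ) + 1 = e i' by omega]
  · rw [Pi.single_eq_of_ne hii, smul_zero]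
    split_ifs with h
    · simp [Pi.basis_apply, Pi.single_eq_of_ne hii]
    · simp

theorem pred_lt {m : ℕ} (j : Fin m) : (j : ℕ) - 1 < m := by omega

open MvPolynomial GrothLib.Weitz in
/-- The sl₂ action attached to Jordan chains. -/
noncomputable def chainSL2 (k : Type u) [Field k] (d : ℕ) (e : Fin d → ℕ) : SL2 k (Σ i, Fin (e i)) where
  E := mkDerivation k fun p => if h : (p.2 : ℕ) + 1 < e p.1 then X ⟨p.1, ⟨(p.2 : ℕ) + 1, h⟩⟩ else 0
  F := mkDerivation k fun p =>
    (((p.2 : ℕ) * (e p.1 - p.2 : ℕ) : ℕ) : k) • X ⟨p.1, ⟨(p.2 : ℕ) - 1, pred_lt p.2⟩⟩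
  H := mkDerivation k fun p => (((2 * (p.2 : ℕ) + 1 : ℤ) - e p.1 : ℤ) : k) • X p
  wt p := (2 * (p.2 : ℕ) + 1 : ℤ) - e p.1
  hH v := mkDerivation_X _ _ _
  degE v := by
    rw [mkDerivation_X]
    split_ifs
    · exact isHomogeneous_X _ _
    · exact isHomogeneous_zero _ _ _
  degF v := by
    rw [mkDerivation_X]
    exact (homogeneousSubmodule _ k 1).smul_mem _ (isHomogeneous_X _ _)
  ef := by
    rintro ⟨i, j, hj⟩
    simp only [mkDerivation_X, Derivation.map_smul]
    rcases Nat.eq_zero_or_pos j with rfl | hj0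
    · by_cases h : 1 < e i
      · simp only [zero_add, h, dite_true, mkDerivation_X, Nat.sub_self, Nat.zero_mul, Nat.cast_zero,
          zero_smul]
        push_cast [Nat.cast_sub (show 1 ≤ e i by omega)]
        module
      · have : e i = 1 := by omega
        simp [this]
    · obtain ⟨j, rfl⟩ := Nat.exists_eq_add_of_le' hj0
      simp only [Nat.add_sub_cancel]
      rw [dif_pos hj]
      by_cases h : j + 1 + 1 < e i
      · simp only [dif_pos h, mkDerivation_X, Nat.add_sub_cancel]
        push_cast [Nat.cast_sub (show j + 1 + 1 ≤ e i by omega), Nat.cast_sub (show j + 1 ≤ e i by omega)]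
        module
      · simp only [dif_neg h, map_zero, sub_zero]
        have : e i = j + 2 := by omega
        simp only [this, show j + 2 - (j + 1) = 1 by omega]
        push_cast
        module
  he := by
    rintro ⟨i, j, hj⟩
    simp only [mkDerivation_X, Derivation.map_smul]
    by_cases h : j + 1 < e i
    · simp only [dif_pos h, mkDerivation_X]
      push_cast
      module
    · simp [dif_neg h]
  hf := by
    rintro ⟨i, j, hj⟩
    simp only [mkDerivation_X, Derivation.map_smul]
    rcases Nat.eq_zero_or_pos j with rfl | hj0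
    · simp
    · push_cast [Nat.cast_sub (show 1 ≤ j by omega)]
      module

open MvPolynomial in
/-- The linear form attached to a vector. -/
noncomputable def linForm {k : Type u} [Field k] {σ : Type*} [Fintype σ] : (σ → k) →ₗ[k] MvPolynomial σ k :=
  Fintype.linearCombination k (X : σ → MvPolynomial σ k)

/-- Let k be an algebraically closed field of characteristic zero, n a natural number and M a nilpotent
n × n matrix over k; let δ be the k-derivation of the polynomial ring k[X₁, …, Xₙ] with δ(Xⱼ) = Σᵢ
Mᵢⱼ Xᵢ (the derivation of the linear action of the additive group on an n-dimensional module; its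
kernel is the ring of invariant polynomial functions). Assume finite generation of invariants of
reductive groups over k on finitely generated algebras (a standard result, carried as a hypothesis).
Then the kernel of δ is a finitely generated k-subalgebra. -/
theorem result (k : Type u) [Field k] [IsAlgClosed k] [CharZero k] (thmA : VecGrp.ReductiveInvariantsFG k)
    (n : ℕ) (M : Matrix (Fin n) (Fin n) k) (hM : IsNilpotent M) :
    ∃ S : Subalgebra k (MvPolynomial (Fin n) k), S.FG ∧
      ∀ f : MvPolynomial (Fin n) k, f ∈ S ↔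
        MvPolynomial.mkDerivation k (fun j : Fin n => ∑ i : Fin n, M i j • (MvPolynomial.X i : MvPolynomial (Fin n) k)) f = 0 := by
  classical
  obtain ⟨d, e, b, hb⟩ := exists_chain_basis (Matrix.toLin' M)
    (hM.map (Matrix.toLinAlgEquiv' (R := k) (n := Fin n)))
  let S := chainSL2 k d e
  obtain ⟨A, hA, hAmem⟩ := S.ker_E_fg
  let ι₁ : (Fin n → k) →ₗ[k] MvPolynomial (Fin n) k := linForm
  let ι₂ : (Fin n → k) →ₗ[k] MvPolynomial (Σ i, Fin (e i)) k := linForm ∘ₗ b.equivFun.toLinearMap
  have hι₁ : ∀ j, ι₁ (Pi.single j 1) = MvPolynomial.X j := fun j => by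
    simp [ι₁, linForm, Fintype.linearCombination_apply_single]
  have hι₂ : ∀ s, ι₂ (b s) = MvPolynomial.X s := fun s => by
    simp only [ι₂, LinearMap.comp_apply, LinearEquiv.coe_coe, Module.Basis.equivFun_apply,
      Module.Basis.repr_self, linForm, Fintype.linearCombination_apply, Finsupp.single_apply]
    simp [eq_comm]
  let φ : MvPolynomial (Fin n) k →ₐ[k] MvPolynomial (Σ i, Fin (e i)) k :=
    MvPolynomial.aeval fun j => ι₂ (Pi.single j 1)
  let ψ : MvPolynomial (Σ i, Fin (e i)) k →ₐ[k] MvPolynomial (Fin n) k :=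
    MvPolynomial.aeval fun s => ι₁ (b s)
  have hφ : φ.toLinearMap ∘ₗ ι₁ = ι₂ := LinearMap.pi_ext' fun j => LinearMap.ext_ring (by simp [hι₁, φ])
  have hψ : ψ.toLinearMap ∘ₗ ι₂ = ι₁ := b.ext fun s => by simp [hι₂, ψ]
  have h1 : ψ.comp φ = AlgHom.id k _ := MvPolynomial.algHom_ext fun j => by
    have := LinearMap.congr_fun hψ (Pi.single j 1)
    simpa [φ, hι₁] using this
  have h2 : φ.comp ψ = AlgHom.id k _ := MvPolynomial.algHom_ext fun s => by
    have := LinearMap.congr_fun hφ (b s)
    simpa [ψ, hι₂] using this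
  let δ := MvPolynomial.mkDerivation k
    (fun j : Fin n => ∑ i : Fin n, M i j • (MvPolynomial.X i : MvPolynomial (Fin n) k))
  have hδ : δ.toLinearMap ∘ₗ ι₁ = ι₁ ∘ₗ Matrix.toLin' M := LinearMap.pi_ext' fun j => LinearMap.ext_ring (by
    simp [hι₁, δ, ι₁, linForm, Fintype.linearCombination_apply, Matrix.toLin'_apply])
  have hS : S.E.toLinearMap ∘ₗ ι₂ = ι₂ ∘ₗ Matrix.toLin' M := b.ext fun s => by
    simp only [LinearMap.comp_apply, hι₂, hb s.1 s.2]
    rw [Derivation.coeFn_coe, show S.E = MvPolynomial.mkDerivation k _ from rfl, MvPolynomial.mkDerivation_X]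
    split_ifs with h
    · rw [hι₂]
    · rw [map_zero]
  have key : ∀ f, φ (δ f) = S.E (φ f) := fun f => by
    induction f using MvPolynomial.induction_on with
    | C a => simp
    | add p q hp hq => simp [map_add, hp, hq]
    | mul_X p j hp =>
      have hj : φ (δ (MvPolynomial.X j)) = S.E (φ (MvPolynomial.X j)) := by
        rw [← hι₁]
        have e1 := LinearMap.congr_fun hδ (Pi.single j 1)
        have e2 := LinearMap.congr_fun hS (Pi.single j 1)
        have e3 := LinearMap.congr_fun hφ
        simp only [LinearMap.comp_apply, Derivation.coeFn_coe, AlgHom.toLinearMap_apply] at e1 e2 e3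
        rw [e1, e3, e3, e2]
      simp [Derivation.leibniz, hp, hj]
  refine ⟨A.map ψ, hA.map _, fun f => ?_⟩
  change f ∈ A.map ψ ↔ δ f = 0
  constructor
  · rintro ⟨p, hp, rfl⟩
    have := key (ψ p)
    rw [← AlgHom.comp_apply, h2, AlgHom.id_apply] at this
    rw [(hAmem p).1 hp] at this
    replace this := congrArg ψ this
    rwa [map_zero, ← AlgHom.comp_apply, h1] at this
  · intro hf
    refine ⟨φ f, (hAmem _).2 ?_, AlgHom.congr_fun h1 f⟩
    rw [← key, hf, map_zero]

end Groth.Agent.S11211
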