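import Groth.Statements.S11212
import Groth.Agent.Lib.Induce27.Restrict
-- import your own Groth.Agent.* helpers here

set_option autoImplicit false
universe u
open CategoryTheory MonoidalCategory CartesianMonoidalCategory MonObj GrpObj AlgebraicGeometry
open scoped TensorProduct
open AGF

namespace Groth.Agent.S11212

/-- Let k be an algebraically closed field, G a linear algebraic group over k (an affine smooth group
scheme over k) and H a closed subgroup of G (a smooth closed subgroup scheme, i : H → G), with the
identity component of H reductive. Assume the following standard results of geometric invariant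
theory for groups with reductive identity component, carried as hypotheses: finite generation of
invariants on finitely generated algebras, and that for such a group acting on an affine variety the
quotient map sends disjoint closed invariant subsets to disjoint sets. Then H is observable in G. -/
theorem result (k : Type u) [Field k] [IsAlgClosed k]
    (G : Over (Spec (CommRingCat.of k))) [GrpObj G] [IsAffine G.left] [Smooth G.hom]
    (H : Over (Spec (CommRingCat.of k))) [GrpObj H] [Smooth H.hom] (i : H ⟶ G) [IsMonHom i]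
    [IsClosedImmersion i.left]
    (hH : VecGrp.IsReductiveGrp k H) (thmA : VecGrp.ReductiveInvariantsFG k)
    (thmAbiv : AGF.ReductiveQuotSeparates k) :
    AGF.IsObservableIn k i := by
  open GrothLib.Repr GrothLib.Induce27 in
  haveI : IsAffine H.left := isAffine_of_isAffineHom i.left
  open GrothLib.Repr GrothLib.Induce27 in
  haveI : IsAffineHom G.hom := inferInstance
  open GrothLib.Repr GrothLib.Induce27 in
  intro g hg
  by_contra hne
  open GrothLib.Repr GrothLib.Induce27 in
  let m := resGMod (fnGMod (rtAct G)) i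
  open GrothLib.Repr GrothLib.Induce27 in
  have hm : m.IsMult := resGMod_isMult fnGMod_isMult i
  open GrothLib.Repr GrothLib.Induce27 in
  let q : H ⟶ G := (toPt H ≫ g) * i
  open GrothLib.Repr GrothLib.Induce27 in
  have hsurj : Function.Surjective (fnMap i) := surjective_fnMap
  open GrothLib.Repr GrothLib.Induce27 in
  have hqlt : ∀ f, fnMap q f = fnMap i (lt g f) := fun f => ext_valAt fun y => by
    rw [← valAt_comp, ← valAt_comp, valAt_lt, MonObj.comp_mul, ← Category.assoc, comp_toPt, Category.id_comp]
  open GrothLib.Repr GrothLib.Induce27 in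
  have hsurjq : Function.Surjective (fnMap q) := fun z => by
    obtain ⟨f, rfl⟩ := hsurj z
    refine ⟨lt g⁻¹ f, ?_⟩
    rw [hqlt]
    congr 1
    exact ext_valAt fun x => by rw [valAt_lt, valAt_lt, ← _root_.mul_assoc, inv_mul_cancel, _root_.one_mul]
  open GrothLib.Repr GrothLib.Induce27 in
  have hst1 : m.IsStable (𝟙 H) ((RingHom.ker (fnMap i)).restrictScalars k) :=
    isStable_ker i i (fun B _ _ y t => (MonObj.mul_comp y t i).symm) hsurj
  open GrothLib.Repr GrothLib.Induce27 in
  have hst2 : m.IsStable (𝟙 H) ((RingHom.ker (fnMap q)).restrictScalars k) :=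
    isStable_ker i q (fun B _ _ y t => by
      show (y ≫ ((toPt H ≫ g) * i)) * (t ≫ i) = (y * t) ≫ ((toPt H ≫ g) * i)
      rw [MonObj.comp_mul, MonObj.comp_mul, MonObj.mul_comp y t i, _root_.mul_assoc, ← Category.assoc,
        ← Category.assoc (y * t)]
      congr 2
      exact Over.OverMorphism.ext ((Over.w y).trans (Over.w (y * t)).symm)) hsurjq
  open GrothLib.Repr GrothLib.Induce27 in
  have hrad : ∀ (p : H ⟶ G), (RingHom.ker (fnMap p)).IsRadical := fun p a ⟨n, hn⟩ => by
    rw [RingHom.mem_ker, map_pow] at hn
    exact RingHom.mem_ker.2 (eq_zero_of_pow_eq_zero hn)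
  open GrothLib.Repr GrothLib.Induce27 in
  haveI := finiteType_fn (X := G)
  open GrothLib.Repr GrothLib.Induce27 in
  have htop : RingHom.ker (fnMap i) ⊔ RingHom.ker (fnMap q) = ⊤ := by
    by_contra hne'
    obtain ⟨z, hz⟩ := GrothLib.AffQuot.exists_point (k := k) hne'
    obtain ⟨x, rfl⟩ := exists_pt_valAt z
    obtain ⟨a, ha⟩ := exists_factor_of_kills (i := i) x fun f hf =>
      hz f (Ideal.mem_sup_left (RingHom.mem_ker.2 hf))
    obtain ⟨b, hb⟩ := exists_factor_of_kills (i := i) (g⁻¹ * x) fun f hf => by
      have hmem : lt g⁻¹ f ∈ RingHom.ker (fnMap q) := RingHom.mem_ker.2 (by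
        rw [hqlt, show lt g (lt g⁻¹ f) = f from ext_valAt fun y => by
          rw [valAt_lt, valAt_lt, ← _root_.mul_assoc, inv_mul_cancel, _root_.one_mul], hf])
      have := hz _ (Ideal.mem_sup_right hmem)
      rwa [valAt_lt] at this
    exact hne ⟨a * b⁻¹, by rw [MonObj.mul_comp, GrpObj.inv_comp, ha, hb, _root_.mul_inv_rev, _root_.inv_inv,
      mul_inv_cancel_left]⟩
  open GrothLib.Repr GrothLib.Induce27 in
  have hsum := thmAbiv H hH (Fn G) m hm inferInstance _ _ (hrad i) (hrad q) hst1 hst2 htop
  rw [Ideal.eq_top_iff_one, Submodule.mem_sup] at hsum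
  obtain ⟨a, ha, b, hb, hab⟩ := hsum
  open GrothLib.Repr GrothLib.Induce27 in
  have hinv : ∀ c : ↥(m.fixedSubalgebra hm (𝟙 H)), valAt g (c : Fn G) = valAt (1 : VecGrp.pt k k ⟶ G) (c : Fn G) := fun c => by
    refine InHull.valAt_eq (i := i) hg fun x t => ?_
    rw [_root_.one_mul, ← valAt_rt]
    congr 1
    have h1 := c.2 k t
    rw [Category.comp_id, resGMod_apply, rho_fn] at h1
    simpa using congrArg (TensorProduct.lid k (Fn G)) h1
  open GrothLib.Repr GrothLib.Induce27 in
  have ha1 : valAt (1 : VecGrp.pt k k ⟶ G) (a : Fn G) = 0 := by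
    rw [show (1 : VecGrp.pt k k ⟶ G) = (1 : VecGrp.pt k k ⟶ H) ≫ i from (MonObj.one_comp i).symm, valAt_comp,
      show fnMap i (a : Fn G) = 0 from RingHom.mem_ker.1 (Ideal.mem_comap.1 ha), map_zero]
  open GrothLib.Repr GrothLib.Induce27 in
  have hb1 : valAt g (b : Fn G) = 0 := by
    have h2 : fnMap q (b : Fn G) = 0 := RingHom.mem_ker.1 (Ideal.mem_comap.1 hb)
    have h3 := congrArg (valAt (1 : VecGrp.pt k k ⟶ H)) h2
    rw [← valAt_comp, MonObj.comp_mul, ← Category.assoc, comp_toPt, Category.id_comp, MonObj.one_comp i,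
      _root_.mul_one, map_zero] at h3
    exact h3
  open GrothLib.Repr GrothLib.Induce27 in
  have h4 := congrArg (fun c : ↥(m.fixedSubalgebra hm (𝟙 H)) => valAt g (c : Fn G)) hab
  simp only [Subalgebra.coe_add, Subalgebra.coe_one, map_add, map_one, hb1, add_zero, hinv a, ha1] at h4
  exact zero_ne_one h4

end Groth.Agent.S11212
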