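import Groth.Statements.S11213
import Groth.Agent.Lib.Induce27.Reductive
-- import your own Groth.Agent.* helpers here

set_option autoImplicit false
universe u
open CategoryTheory MonoidalCategory CartesianMonoidalCategory MonObj GrpObj AlgebraicGeometry
open scoped TensorProduct
open AGF

namespace Groth.Agent.S11213

/-- Let k be an algebraically closed field, G a linear algebraic group over k (an affine smooth group
scheme over k) and H a closed subgroup of G (a smooth closed subgroup scheme, i : H → G), with the
identity component of H reductive, and let X (with action a, base point o) be the quotient G/H.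
Assume the following standard results of geometric invariant theory for groups with reductive
identity component, carried as hypotheses: finite generation of invariants on finitely generated
algebras, and that the quotient map of an affine variety by such a group is surjective and separates
disjoint closed invariant subsets. Then k[G]^H is finitely generated over the constants (H is a
Grosshans subgroup of G) and X is affine. -/
theorem result (k : Type u) [Field k] [IsAlgClosed k]
    (G : Over (Spec (CommRingCat.of k))) [GrpObj G] [IsAffine G.left] [Smooth G.hom]
    (H : Over (Spec (CommRingCat.of k))) [GrpObj H] [Smooth H.hom] (i : H ⟶ G) [IsMonHom i]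
    [IsClosedImmersion i.left]
    (hH : VecGrp.IsReductiveGrp k H) (thmA : VecGrp.ReductiveInvariantsFG k)
    (thmAbi : AGF.ReductiveQuotSurj k) (thmAbiv : AGF.ReductiveQuotSeparates k)
    (X : Over (Spec (CommRingCat.of k))) (a : AlgGrp.Action G X) (o : 𝟙_ (Over (Spec (CommRingCat.of k))) ⟶ X) (hX : AGF.IsQuotient i X a o) :
    AGF.SubringFGOver k G (AGF.rTransInv i) ∧ IsAffine X.left := by
  haveI : IsAffine H.left := isAffine_of_isAffineHom i.left
  haveI : IsAffineHom G.hom := inferInstance
  refine ⟨?_, GrothLib.Induce27.isAffine_quotient a o hX hH thmAbiv thmAbi⟩
  obtain ⟨s, hs, hle⟩ := thmA H hH _ (GrothLib.Induce27.resGMod (GrothLib.Repr.fnGMod (GrothLib.Induce27.rtAct G)) i)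
    (GrothLib.Induce27.resGMod_isMult GrothLib.Induce27.fnGMod_isMult i) GrothLib.Induce27.finiteType_fn
  exact GrothLib.Induce27.subringFGOver_iff.2 ⟨s, le_antisymm
    (Algebra.adjoin_le fun f hf => GrothLib.Induce27.mem_fixedUnder_fn_iff.1 (hs hf))
    fun f hf => hle (GrothLib.Induce27.mem_fixedUnder_fn_iff.2 hf)⟩

end Groth.Agent.S11213
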