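import Groth.Statements.S11216
import Groth.Agent.Lib.Induce27.InvAlg
import Groth.Agent.Lib.Induce27.CodimTwo
-- import your own Groth.Agent.* helpers here

set_option autoImplicit false
universe u
open CategoryTheory MonoidalCategory CartesianMonoidalCategory MonObj GrpObj AlgebraicGeometry
open scoped TensorProduct
open AGF

namespace Groth.Agent.S11216

/-- (b) ⇒ (i): let k be an algebraically closed field, G a linear algebraic group over k (an affine
smooth group scheme over k) and H a closed subgroup of G (a smooth closed subgroup scheme, i : H →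
G), with H observable in G and k[G]^H finitely generated over the constants; let X = Spec k[G]^H and
φ : G → X the morphism given by the inclusion k[G]^H ⊆ k[G]. Then the image of φ (the orbit of the
base point) is open in X and every point of X outside the image has codimension at least 2 (its
prime ideal has height ≥ 2). (The published statement also asserts that G/H maps isomorphically onto
the image, and that finite generation is equivalent to an orbit-closure condition in a
representation; neither is stated here.) -/
theorem result (k : Type u) [Field k] [IsAlgClosed k]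
    (G : Over (Spec (CommRingCat.of k))) [GrpObj G] [IsAffine G.left] [Smooth G.hom]
    (H : Over (Spec (CommRingCat.of k))) [GrpObj H] [Smooth H.hom] (i : H ⟶ G) [IsMonHom i]
    [IsClosedImmersion i.left]
    (hobs : AGF.IsObservableIn k i) (hfg : AGF.SubringFGOver k G (AGF.rTransInv i)) :
    IsOpen (Set.range ⇑(G.left.toSpecΓ ≫ Spec.map (CommRingCat.ofHom (AGF.rTransInv i).subtype)).base) ∧
      ∀ x : ↥(Spec (CommRingCat.of ↥(AGF.rTransInv i))),
        x ∉ Set.range ⇑(G.left.toSpecΓ ≫ Spec.map (CommRingCat.ofHom (AGF.rTransInv i).subtype)).base →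
          (2 : ℕ∞) ≤ x.asIdeal.height := by
  haveI : IsAffine H.left := isAffine_of_isAffineHom i.left
  haveI : Algebra.FiniteType k (GrothLib.Repr.Fn G) := GrothLib.Induce27.finiteType_fn
  have hA : (GrothLib.Induce27.invAlg i).FG := GrothLib.Induce27.subringFGOver_iff.1 hfg
  have hopen := GrothLib.Induce27.isOpen_range_comap_of_transitive (GrothLib.Induce27.invAlg i) hA fun x y => by
    obtain ⟨gx, rfl⟩ := GrothLib.Induce27.exists_pt_valAt x
    obtain ⟨gy, rfl⟩ := GrothLib.Induce27.exists_pt_valAt y
    refine ⟨GrothLib.Induce27.lt (gx * gy⁻¹), GrothLib.Induce27.lt (gx * gy⁻¹)⁻¹,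
      fun f hf => GrothLib.Induce27.lt_mem_invAlg _ hf, fun f hf => GrothLib.Induce27.lt_mem_invAlg _ hf,
      fun f => GrothLib.Induce27.ext_valAt fun z => ?_, AlgHom.ext fun f => ?_⟩
    · rw [GrothLib.Induce27.valAt_lt, GrothLib.Induce27.valAt_lt, inv_mul_cancel_left]
    · rw [AlgHom.comp_apply, GrothLib.Induce27.valAt_lt, inv_mul_cancel_right]
  have hrange : Set.range ⇑(G.left.toSpecΓ ≫ Spec.map (CommRingCat.ofHom (AGF.rTransInv i).subtype)).base =
      Set.range ⇑(Spec.map (CommRingCat.ofHom (AGF.rTransInv i).subtype)).base := by
    rw [Scheme.Hom.comp_base, TopCat.coe_comp, Set.range_comp, Set.range_eq_univ.2 (show Function.Surjective G.left.toSpecΓ from (G.left.toSpecΓ).homeomorph.surjective),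
      Set.image_univ]
  rw [hrange]
  exact ⟨hopen, GrothLib.Induce27.two_le_height_of_notMem_range (GrothLib.Induce27.invAlg i) hA hopen
    fun f h hf hfh hn => GrothLib.Induce27.saturated_invAlg hf hfh hn⟩

end Groth.Agent.S11216
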