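import Groth.Statements.S11217
import Mathlib

set_option autoImplicit false
universe u
open CategoryTheory MonoidalCategory CartesianMonoidalCategory MonObj GrpObj AlgebraicGeometry
open scoped TensorProduct
open AGF

namespace Groth.Agent.S11217

open MvPolynomial in
theorem mkDerivation_eq_sum {σ : Type} [Fintype σ] {k : Type u} [CommRing k]
    (w : σ → MvPolynomial σ k) (f : MvPolynomial σ k) :
    mkDerivation k w f = ∑ i, pderiv i f * w i := by
  classical
  induction f using MvPolynomial.induction_on with
  | C a => simp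
  | add p q hp hq => simp [hp, hq, add_mul, Finset.sum_add_distrib]
  | mul_X p i hp =>
    rw [Derivation.leibniz, hp, mkDerivation_X]
    simp only [pderiv_mul, pderiv_X, smul_eq_mul, add_mul, Finset.sum_add_distrib, Finset.mul_sum]
    rw [add_comm]
    refine congrArg₂ (· + ·) (Finset.sum_congr rfl fun j _ => by ring) ?_
    rw [Finset.sum_eq_single i]
    · simp
    · intro j _ hj; simp [Pi.single_apply, Ne.symm hj]
    · simp

/-- Let k be a field of characteristic zero and m ≥ 2; in the polynomial ring k[x, y, z, s, t, u, v]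
(variables 0, …, 6) let δ be the k-derivation with δ(x) = δ(y) = δ(z) = 0, δ(s) = x^(m+1), δ(t) =
y^(m+1), δ(u) = z^(m+1), δ(v) = (xyz)^m, and grade by total degree in s, t, u, v. If f is
homogeneous of degree n ≥ 1 for this grading and δ(f) = 0, then every coefficient of f, as a
polynomial in s, t, u, v over k[x, y, z], lies in the ideal (x, y, z): every monomial of f has
positive degree in x, y, z. (The published statement allows n = 0, where the constant 1 is a
counterexample; this row assumes n ≥ 1. The published definition of the derivation gives δ(v) =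
(xyz)^(m+1), for which the assertion fails: v − (yz)^(m+1)·s is killed by δ and has the monomial v
with coefficient 1; this row uses δ(v) = (xyz)^m, the exponent of the published action formula and
of the published examples of invariants.) -/
theorem result (k : Type u) [Field k] [CharZero k] (m : ℕ) (hm : 2 ≤ m) (n : ℕ) (hn : 1 ≤ n)
    (f : MvPolynomial (Fin 7) k)
    (hf : MvPolynomial.IsWeightedHomogeneous (![0, 0, 0, 1, 1, 1, 1] : Fin 7 → ℕ) f n)
    (hδ : MvPolynomial.mkDerivation k
      (![0, 0, 0, MvPolynomial.X 0 ^ (m + 1), MvPolynomial.X 1 ^ (m + 1), MvPolynomial.X 2 ^ (m + 1),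
        (MvPolynomial.X 0 * MvPolynomial.X 1 * MvPolynomial.X 2) ^ m] : Fin 7 → MvPolynomial (Fin 7) k) f = 0) :
    ∀ d ∈ f.support, 0 < d 0 + d 1 + d 2 := by
  classical
  intro d hd
  by_contra h
  push Not at h
  obtain ⟨h0, h1, h2⟩ : d 0 = 0 ∧ d 1 = 0 ∧ d 2 = 0 := by omega
  have hc : f.coeff d ≠ 0 := MvPolynomial.mem_support_iff.1 hd
  have hw : d 3 + d 4 + d 5 + d 6 = n := by
    have hw := hf hc
    rw [← hw, Finsupp.weight_apply, Finsupp.sum_fintype _ _ (by simp)]
    simp [Fin.sum_univ_seven]
    all_goals omega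
  -- exponents of the four coefficients
  let e : Fin 7 → (Fin 7 →₀ ℕ) := ![0, 0, 0, Finsupp.single 0 (m + 1), Finsupp.single 1 (m + 1),
    Finsupp.single 2 (m + 1), Finsupp.single 0 m + Finsupp.single 1 m + Finsupp.single 2 m]
  have hwe : ∀ i : Fin 7, (![0, 0, 0, MvPolynomial.X 0 ^ (m + 1), MvPolynomial.X 1 ^ (m + 1),
      MvPolynomial.X 2 ^ (m + 1),
      (MvPolynomial.X 0 * MvPolynomial.X 1 * MvPolynomial.X 2) ^ m] : Fin 7 → MvPolynomial (Fin 7) k) i =
        MvPolynomial.monomial (e i) (if 3 ≤ i then 1 else 0) := by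
    intro i
    fin_cases i <;> simp [e, MvPolynomial.X_pow_eq_monomial, mul_pow, MvPolynomial.monomial_mul]
  have hsum : ∀ E : Fin 7 →₀ ℕ, ∑ i : Fin 7, (if e i ≤ E then
      MvPolynomial.coeff (E - e i) (MvPolynomial.pderiv i f) * (if 3 ≤ i then 1 else 0) else 0) = 0 := by
    intro E
    have h' := congrArg (MvPolynomial.coeff E) hδ
    rw [mkDerivation_eq_sum, MvPolynomial.coeff_sum, MvPolynomial.coeff_zero] at h'
    refine Eq.trans (Finset.sum_congr rfl fun i _ => ?_) h'
    rw [hwe i, MvPolynomial.coeff_mul_monomial']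
  obtain ⟨j, hj3, hdj⟩ : ∃ j : Fin 7, 3 ≤ j ∧ d j ≠ 0 := by
    by_contra hcon
    push Not at hcon
    have := hcon 3 (by decide); have := hcon 4 (by decide)
    have := hcon 5 (by decide); have := hcon 6 (by decide)
    omega
  have hj := hsum (d - Finsupp.single j 1 + e j)
  rw [Finset.sum_eq_single j] at hj
  · simp only [le_add_iff_nonneg_left, zero_le, if_true, hj3, _root_.mul_one, add_tsub_cancel_right,
      MvPolynomial.coeff_pderiv] at hj
    have hd' : d - Finsupp.single j 1 + Finsupp.single j 1 = d :=
      tsub_add_cancel_of_le (Finsupp.single_le_iff.2 (by omega))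
    rw [hd'] at hj
    rcases mul_eq_zero.1 hj with hj | hj
    · exact hc hj
    · exact Nat.cast_add_one_ne_zero _ hj
  · intro i _ hij
    split_ifs with hle hi
    · exfalso
      have e0 := hle 0; have e1 := hle 1; have e2 := hle 2
      fin_cases i <;> fin_cases j <;>
        simp [e, h0, h1, h2] at e0 e1 e2 hij hi hj3 ⊢
      all_goals omega
    · simp
    · rfl
  · simp

end Groth.Agent.S11217
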