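import Groth.Statements.S11218
import Groth.Agent.Lib.Induce27.OrbitClosure
-- import your own Groth.Agent.* helpers here

set_option autoImplicit false
universe u
open CategoryTheory MonoidalCategory CartesianMonoidalCategory MonObj GrpObj AlgebraicGeometry
open scoped TensorProduct
open AGF

namespace Groth.Agent.S11218

/-- Let k be an algebraically closed field, G a linear algebraic group over k (an affine smooth group
scheme over k) and H a closed subgroup of G (a smooth closed subgroup scheme, i : H → G), such that
the quotient G/H (the scheme Y with action b and base point o′) is proper over k (complete). Let G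
act on a variety X over k (separated, of finite type) and let x be a rational point of X; let Z ⊆ X
be the closure of the H-orbit of x. Then the closure of the G-orbit of x is G·Z, the image under the
action map of the preimage of Z in G × X. (The published statement takes X affine; the argument does
not use this, and this row drops it.) -/
theorem result (k : Type u) [Field k] [IsAlgClosed k]
    (G : Over (Spec (CommRingCat.of k))) [GrpObj G] [IsAffine G.left] [Smooth G.hom]
    (H : Over (Spec (CommRingCat.of k))) [GrpObj H] [Smooth H.hom] (i : H ⟶ G) [IsMonHom i]
    [IsClosedImmersion i.left]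
    (Y : Over (Spec (CommRingCat.of k))) (b : AlgGrp.Action G Y) (o' : 𝟙_ (Over (Spec (CommRingCat.of k))) ⟶ Y) (hY : AGF.IsQuotient i Y b o')
    [IsProper Y.hom]
    (X : Over (Spec (CommRingCat.of k))) [IsSeparated X.hom] [LocallyOfFiniteType X.hom] [QuasiCompact X.hom]
    (a : AlgGrp.Action G X) (x : 𝟙_ (Over (Spec (CommRingCat.of k))) ⟶ X) :
    closure (Set.range ⇑(a.orbitMap x).left.base) =
      ⇑a.act.left.base '' (⇑(snd G X).left.base ⁻¹' closure (Set.range ⇑(i ≫ a.orbitMap x).left.base)) := by
  exact GrothLib.Induce27.closure_orbit_eq b o' hY a x

end Groth.Agent.S11218
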