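import Groth.Statements.S11219
import Groth.Agent.Lib.Induce27.Fraction
-- import your own Groth.Agent.* helpers here

set_option autoImplicit false
universe u
open CategoryTheory MonoidalCategory CartesianMonoidalCategory MonObj GrpObj AlgebraicGeometry
open scoped TensorProduct
open AGF

namespace Groth.Agent.S11219

/-- Let k be an algebraically closed field, G a linear algebraic group over k (an affine smooth group
scheme over k) and H a closed subgroup of G (a smooth closed subgroup scheme, i : H → G), with G
connected. Then H is observable in G if and only if every right-H-invariant rational function on G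
is a quotient of two right-H-invariant global functions: whenever global functions a, b with b ≠ 0
satisfy a(xh)·b(x) = a(x)·b(xh) on G × H, there are right-H-invariant global functions a′, b′ with
b′ ≠ 0 and a·b′ = a′·b. (The published condition concerns the identity component of G and its
intersection with H; for connected G it reads as stated.) -/
theorem result (k : Type u) [Field k] [IsAlgClosed k]
    (G : Over (Spec (CommRingCat.of k))) [GrpObj G] [IsAffine G.left] [Smooth G.hom]
    (H : Over (Spec (CommRingCat.of k))) [GrpObj H] [Smooth H.hom] (i : H ⟶ G) [IsMonHom i]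
    [IsClosedImmersion i.left] [ConnectedSpace G.left] :
    AGF.IsObservableIn k i ↔
      ∀ a b : Γ(G.left, ⊤), b ≠ 0 →
        ((G ◁ i) ≫ μ[G]).left.appTop a * (fst G H).left.appTop b = (fst G H).left.appTop a * ((G ◁ i) ≫ μ[G]).left.appTop b →
        ∃ a' b' : Γ(G.left, ⊤), AGF.IsRTransInv i a' ∧ AGF.IsRTransInv i b' ∧ b' ≠ 0 ∧ a * b' = a' * b := by
  haveI : IsAffine H.left := isAffine_of_isAffineHom i.left
  haveI : IsAffine (G ⊗ H).left := GrothLib.Induce27.isAffine_tensor
  have key : ∀ a b : Γ(G.left, ⊤),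
      ((G ◁ i) ≫ μ[G]).left.appTop a * (fst G H).left.appTop b = (fst G H).left.appTop a * ((G ◁ i) ≫ μ[G]).left.appTop b ↔
      ∀ (x : VecGrp.pt k k ⟶ G) (h : VecGrp.pt k k ⟶ H),
        GrothLib.Induce27.valAt (x * (h ≫ i)) (a : GrothLib.Repr.Fn G) * GrothLib.Induce27.valAt x (b : GrothLib.Repr.Fn G) =
          GrothLib.Induce27.valAt x (a : GrothLib.Repr.Fn G) * GrothLib.Induce27.valAt (x * (h ≫ i)) (b : GrothLib.Repr.Fn G) := by
    intro a b
    have e : ∀ (x : VecGrp.pt k k ⟶ G) (h : VecGrp.pt k k ⟶ H) (f : GrothLib.Repr.Fn G),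
        GrothLib.Induce27.valAt (lift x h) (GrothLib.Repr.fnMap ((G ◁ i) ≫ μ[G]) f) = GrothLib.Induce27.valAt (x * (h ≫ i)) f ∧
        GrothLib.Induce27.valAt (lift x h) (GrothLib.Repr.fnMap (fst G H) f) = GrothLib.Induce27.valAt x f := fun x h f => by
      rw [← GrothLib.Induce27.valAt_comp, ← GrothLib.Induce27.valAt_comp, lift_fst, ← Category.assoc, lift_whiskerLeft, ← Hom.mul_def]
      exact ⟨rfl, rfl⟩
    show GrothLib.Repr.fnMap ((G ◁ i) ≫ μ[G]) (a : GrothLib.Repr.Fn G) * GrothLib.Repr.fnMap (fst G H) (b : GrothLib.Repr.Fn G) = GrothLib.Repr.fnMap (fst G H) (a : GrothLib.Repr.Fn G) * GrothLib.Repr.fnMap ((G ◁ i) ≫ μ[G]) (b : GrothLib.Repr.Fn G) ↔ _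
    constructor
    · intro h x t
      have h2 := congrArg (GrothLib.Induce27.valAt (lift x t)) h
      rwa [map_mul, map_mul, (e x t _).1, (e x t _).2, (e x t _).1, (e x t _).2] at h2
    · intro h
      refine GrothLib.Induce27.ext_valAt fun p => ?_
      obtain ⟨x, t, rfl⟩ : ∃ x t, p = lift x t :=
        ⟨p ≫ fst G H, p ≫ snd G H, by apply CartesianMonoidalCategory.hom_ext <;> simp⟩
      rw [map_mul, map_mul, (e x t _).1, (e x t _).2, (e x t _).1, (e x t _).2]
      exact h x t
  constructor
  · intro hobs a b hb hab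
    obtain ⟨a', b', ha', hb', hne, heq⟩ := GrothLib.Induce27.exists_invariant_fraction (i := i) hobs
      (a := a) (b := b) hb ((key a b).1 hab)
    exact ⟨a', b', (GrothLib.Induce27.mem_semi_one_iff _).1 ha', (GrothLib.Induce27.mem_semi_one_iff _).1 hb', hne, heq⟩
  · intro hyp
    refine GrothLib.Induce27.observable_of_invariant_fraction fun a b hb hab => ?_
    obtain ⟨a', b', ha', hb', hne, heq⟩ := hyp a b hb ((key a b).2 hab)
    exact ⟨a', b', (GrothLib.Induce27.mem_semi_one_iff _).2 ha', (GrothLib.Induce27.mem_semi_one_iff _).2 hb', hne, heq⟩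

end Groth.Agent.S11219
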