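import Groth.Statements.S11220
import Groth.Agent.Lib.Induce27.Chars
-- import your own Groth.Agent.* helpers here

set_option autoImplicit false
universe u
open CategoryTheory MonoidalCategory CartesianMonoidalCategory MonObj GrpObj AlgebraicGeometry
open scoped TensorProduct
open AGF

namespace Groth.Agent.S11220

/-- Let k be an algebraically closed field, G a linear algebraic group over k (an affine smooth group
scheme over k) and H a closed subgroup of G (a smooth closed subgroup scheme, i : H → G). Then H is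
observable in G if and only if, for every character χ of H which occurs on a nonzero
H-semi-invariant vector of some finite-dimensional rational G-module (h·v = χ(h)v), the inverse
character χ⁻¹ also occurs on a nonzero H-semi-invariant vector of some finite-dimensional rational
G-module (every one-dimensional H-module found inside a finite-dimensional G-module has its dual
inside one too). -/
theorem result (k : Type u) [Field k] [IsAlgClosed k]
    (G : Over (Spec (CommRingCat.of k))) [GrpObj G] [IsAffine G.left] [Smooth G.hom]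
    (H : Over (Spec (CommRingCat.of k))) [GrpObj H] [Smooth H.hom] (i : H ⟶ G) [IsMonHom i]
    [IsClosedImmersion i.left] :
    AGF.IsObservableIn k i ↔
      ∀ (χ : H ⟶ Red.Gm (Spec (CommRingCat.of k))), IsMonHom χ →
        (∃ (V : Type u) (_ : AddCommGroup V) (_ : Module k V) (_ : Module.Finite k V) (ρ : VecGrp.GMod G V) (v : V), v ≠ 0 ∧
          ∀ (B : Type u) [CommRing B] [Algebra k B] (h : VecGrp.pt k B ⟶ H),
            ρ.ρ B (h ≫ i) ((1 : B) ⊗ₜ[k] v) = VecGrp.chiVal χ h • ((1 : B) ⊗ₜ[k] v)) →
        (∃ (V : Type u) (_ : AddCommGroup V) (_ : Module k V) (_ : Module.Finite k V) (ρ : VecGrp.GMod G V) (v : V), v ≠ 0 ∧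
          ∀ (B : Type u) [CommRing B] [Algebra k B] (h : VecGrp.pt k B ⟶ H),
            ρ.ρ B (h ≫ i) ((1 : B) ⊗ₜ[k] v) = VecGrp.chiVal χ⁻¹ h • ((1 : B) ⊗ₜ[k] v)) := by
  haveI : IsAffine H.left := isAffine_of_isAffineHom i.left
  haveI : IsAffineHom G.hom := inferInstance
  constructor
  · intro hobs χ hχ _
    haveI := hχ
    have hmulinv : ∀ h h' : VecGrp.pt k k ⟶ H,
        GrothLib.Induce27.valAt (h * h') ((GrothLib.Induce27.charUnit χ)⁻¹).1 =
          GrothLib.Induce27.valAt h ((GrothLib.Induce27.charUnit χ)⁻¹).1 *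
            GrothLib.Induce27.valAt h' ((GrothLib.Induce27.charUnit χ)⁻¹).1 := fun h h' => by
      have hv : ∀ t : VecGrp.pt k k ⟶ H, GrothLib.Induce27.valAt t ((GrothLib.Induce27.charUnit χ)⁻¹).1 =
          (GrothLib.Induce27.valAt t (GrothLib.Induce27.charUnit χ).1)⁻¹ := fun t =>
        eq_inv_of_mul_eq_one_left (by rw [← map_mul, Units.inv_mul, map_one])
      rw [hv, hv, hv, GrothLib.Induce27.charUnit_mul, _root_.mul_inv]
    obtain ⟨W, _, _, _, ρ, φ, hφ, heq⟩ := GrothLib.Induce27.extendsAlong_of_observable hobs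
      (GrothLib.Induce27.charGMod (GrothLib.Induce27.charUnit χ)⁻¹ hmulinv)
    refine ⟨W, inferInstance, inferInstance, inferInstance, ρ, φ 1, fun h => one_ne_zero (α := k) (hφ (h.trans (map_zero φ).symm)), fun B _ _ h => ?_⟩
    have e := heq B h ((1 : B) ⊗ₜ[k] (1 : k))
    rw [LinearMap.baseChange_tmul] at e
    rw [← e]
    show φ.baseChange B (GrothLib.Induce27.valAt h ((GrothLib.Induce27.charUnit χ)⁻¹).1 • ((1 : B) ⊗ₜ[k] (1 : k))) = _
    rw [map_smul, LinearMap.baseChange_tmul]
    congr 1
    refine left_inv_eq_right_inv (a := GrothLib.Induce27.valAt h (GrothLib.Induce27.charUnit χ).1) ?_ ?_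
    · rw [← map_mul, Units.inv_mul, map_one]
    · rw [GrothLib.Induce27.valAt_charUnit, mul_comm, GrothLib.Induce27.chiVal_inv_mul]
  · intro hyp
    refine GrothLib.Induce27.observable_of_semi_inv fun u hu0 hne x => ?_
    obtain ⟨D, hD, hD1⟩ := hne 1
    have humul : ∀ h h' : VecGrp.pt k k ⟶ H, GrothLib.Induce27.valAt (h * h') u =
        GrothLib.Induce27.valAt h u * GrothLib.Induce27.valAt h' u := fun h h' => by
      refine mul_right_cancel₀ hD1 ?_
      have e1 := GrothLib.Induce27.mem_semi_iff.1 hD 1 (h * h')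
      have e2 := GrothLib.Induce27.mem_semi_iff.1 hD (h ≫ i) h'
      have e3 := GrothLib.Induce27.mem_semi_iff.1 hD 1 h
      rw [_root_.one_mul, MonObj.mul_comp] at e1
      rw [_root_.one_mul] at e3
      rw [← e1, e2, e3]
      ring
    let uu : (GrothLib.Repr.Fn H)ˣ := (GrothLib.Induce27.isUnit_of_valAt hu0).unit
    let χ : H ⟶ Red.Gm (Spec (CommRingCat.of k)) := GmPts.ptOfUnit (uu : (Γ(H.left, ⊤))ˣ)
    have hgm : ∀ {T : Over (Spec (CommRingCat.of k))} (t : T ⟶ H),
        Red.gmFn (t ≫ χ) = GrothLib.Repr.fnMap t u := fun t => by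
      rw [GmPts.gmFn_comp, GmPts.gmFn_ptOfUnit]
      rfl
    have hmon : IsMonHom χ := GrothLib.GrpSchField.isMonHom_of_mul _ (GmPts.gmFn_injective (by
      show Red.gmFn (μ[H] ≫ χ) = _
      rw [hgm, GrothLib.Induce27.fnMap_mul_eq u humul]
      show _ = Red.gmFn (_ ≫ μ[Red.Gm (Spec (CommRingCat.of k))])
      rw [show ((χ ⊗ₘ χ) ≫ μ[Red.Gm (Spec (CommRingCat.of k))]) = (fst H H ≫ χ) * (snd H H ≫ χ) by
        rw [Hom.mul_def]; congr 1,
        GmPts.gmFn_mul, hgm, hgm]
      rfl))
    have hval : ∀ (B : Type u) [CommRing B] [Algebra k B] (h : VecGrp.pt k B ⟶ H),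
        VecGrp.chiVal χ h = GrothLib.Induce27.valAt h u := fun B _ _ h => by
      rw [GrothLib.Induce27.chiVal_eq]
      congr 1
      exact GmPts.gmFn_ptOfUnit _
    obtain ⟨N, hN, -, -, hst, hmem⟩ := GrothLib.Induce27.exists_stable_fn (i := i) ({D} : Finset (GrothLib.Repr.Fn G))
    haveI := hN
    let v : N := ⟨D, hmem D (Finset.mem_singleton_self D)⟩
    obtain ⟨W, _, _, _, ρ, w, hw0, hw⟩ := hyp χ hmon ⟨N, inferInstance, inferInstance, hN,
      GrothLib.Induce27.subGMod _ N hst, v, fun h => hD1 (by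
        rw [show D = (v : GrothLib.Repr.Fn G) from rfl, h, ZeroMemClass.coe_zero, map_zero]), fun B _ _ h => by
      refine GrothLib.Induce27.subtype_injective N B ?_
      rw [GrothLib.Induce27.subGMod_apply, GrothLib.Induce27.res_spec, map_smul, LinearMap.baseChange_tmul,
        Submodule.subtype_apply, hval]
      have e := GrothLib.Induce27.intertwine_of_valAt (i := i)
        (GrothLib.Induce27.charGMod uu humul) (LinearMap.toSpanSingleton k _ D) (fun h x c => by
          have hk : GrothLib.Induce27.kAct (GrothLib.Induce27.charGMod uu humul) h c =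
              GrothLib.Induce27.valAt h u * c := by
            show TensorProduct.lid k k (GrothLib.Induce27.valAt h u • ((1 : k) ⊗ₜ[k] c)) = _
            rw [TensorProduct.smul_tmul', TensorProduct.lid_tmul, smul_eq_mul, smul_eq_mul, _root_.mul_one]
          rw [hk, LinearMap.toSpanSingleton_apply, LinearMap.toSpanSingleton_apply, map_smul, map_smul,
            GrothLib.Induce27.mem_semi_iff.1 hD x h, smul_eq_mul, smul_eq_mul]
          ring) B h ((1 : B) ⊗ₜ[k] (1 : k))
      rw [LinearMap.baseChange_tmul, LinearMap.toSpanSingleton_apply, one_smul] at e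
      refine e.symm.trans ?_
      show (LinearMap.toSpanSingleton k _ D).baseChange B (GrothLib.Induce27.valAt h u • ((1 : B) ⊗ₜ[k] (1 : k))) = _
      rw [map_smul, LinearMap.baseChange_tmul, LinearMap.toSpanSingleton_apply, one_smul]⟩
    have hwk : ∀ h : VecGrp.pt k k ⟶ H, GrothLib.Induce27.kAct ρ (h ≫ i) w =
        (GrothLib.Induce27.valAt h u)⁻¹ • w := fun h => by
      have e := congrArg (TensorProduct.lid k W) (hw k h)
      rw [GrothLib.Induce27.rho_one_tmul, TensorProduct.lid_tmul, one_smul, TensorProduct.smul_tmul',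
        TensorProduct.lid_tmul, smul_eq_mul, _root_.mul_one] at e
      rw [e]
      congr 1
      refine eq_inv_of_mul_eq_one_left ?_
      rw [← hval, GrothLib.Induce27.chiVal_inv_mul]
    have hgw : GrothLib.Induce27.kAct ρ x w ≠ 0 := fun h0 => hw0 (by
      rw [← GrothLib.Induce27.kAct_one ρ w, ← inv_mul_cancel x, GrothLib.Induce27.kAct_mul, h0, map_zero])
    obtain ⟨α, hα⟩ : ∃ α : Module.Dual k W, α (GrothLib.Induce27.kAct ρ x w) ≠ 0 := by
      by_contra hne'
      push Not at hne'
      exact hgw ((Module.forall_dual_apply_eq_zero_iff k _).1 hne')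
    have hc : ∀ y, GrothLib.Induce27.valAt y (GrothLib.Induce27.coeff ρ α w) =
        α (GrothLib.Induce27.kAct ρ y w) := fun y => by
      rw [GrothLib.Induce27.valAt_coeff, GrothLib.Induce27.rho_one_tmul, GrothLib.Repr.cf_tmul, smul_eq_mul,
        _root_.mul_one]
    refine ⟨GrothLib.Induce27.coeff ρ α w, fun y t => ?_, by rw [hc]; exact hα⟩
    rw [hc, hc, GrothLib.Induce27.kAct_mul, hwk, map_smul, map_smul, smul_eq_mul]

end Groth.Agent.S11220
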