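import Groth.Statements.S11221
import Mathlib

set_option autoImplicit false
universe u
open CategoryTheory MonoidalCategory CartesianMonoidalCategory MonObj GrpObj AlgebraicGeometry
open scoped TensorProduct
open AGF

namespace Groth.Agent.S11221

theorem height_ne_zero {R : Type u} [CommRing R] [IsDomain R] [IsNoetherianRing R] (r : Ideal R)
    [r.IsPrime] (hr : r ≠ ⊥) : r.height ≠ 0 := by
  haveI : (⊥ : Ideal R).IsPrime := Ideal.isPrime_bot
  have h := Ideal.height_strict_mono_of_isPrime (I := (⊥ : Ideal R)) (bot_lt_iff_ne_bot.2 hr)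
  intro h0
  simp [h0] at h

/-- Let R be a Noetherian integrally closed domain with fraction field K and let p be a prime ideal of R
of height one. Then there is f ∈ K which is not in R but lies in the local ring R_q ⊆ K of every
height-one prime q ≠ p (f = a/b with b ∉ q): a rational function on Spec R with a pole along V(p)
only. (The published statement is for the coordinate ring of a normal affine variety; this row is
for any Noetherian integrally closed domain, which is all the argument uses.) -/
theorem result (R : Type u) [CommRing R] [IsDomain R] [IsNoetherianRing R] [IsIntegrallyClosed R]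
    (p : Ideal R) [p.IsPrime] (hp : p.height = 1) :
    ∃ f : FractionRing R, f ∉ Set.range ⇑(algebraMap R (FractionRing R)) ∧
      ∀ q : Ideal R, q.IsPrime → q.height = 1 → q ≠ p →
        ∃ a b : R, b ∉ q ∧ f * algebraMap R (FractionRing R) b = algebraMap R (FractionRing R) a := by
  classical
  have hpn : p ≠ ⊥ := by
    rintro rfl
    simp [Ideal.height_bot] at hp
  obtain ⟨a, hap, ha0⟩ := Submodule.exists_mem_ne_zero_of_ne_bot hpn
  obtain ⟨S, hS⟩ : ∃ S : Finset (Ideal R), ∀ q : Ideal R, q ∈ S ↔
      q ∈ (Ideal.span {a}).minimalPrimes ∧ q ≠ p :=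
    ⟨(Ideal.finite_minimalPrimes_of_isNoetherianRing R (Ideal.span {a})).toFinset.filter
      (fun q => q ≠ p), fun q => by simp [Finset.mem_filter]⟩
  have hmin : ∀ q : Ideal R, q.IsPrime → q.height = 1 → a ∈ q →
      q ∈ (Ideal.span {a}).minimalPrimes := by
    intro q hq hq1 haq
    rw [Ideal.minimalPrimes]
    refine ⟨⟨hq, (Ideal.span_singleton_le_iff_mem _).2 haq⟩, fun r ⟨hr, har⟩ hrq => ?_⟩
    haveI := hr
    haveI := hq
    by_contra hne
    have hlt : r < q := lt_of_le_of_ne hrq (fun e => hne (e ▸ le_rfl))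
    have h1 : r.height < q.height := Ideal.height_strict_mono_of_isPrime hlt
    rw [hq1, ENat.lt_one_iff_eq_zero] at h1
    exact height_ne_zero r (fun hb => ha0 (by simpa [hb] using har (Ideal.mem_span_singleton_self a))) h1
  -- for each bad prime, a multiplier outside `p`
  have key : ∀ q ∈ S, ∃ b : R, b ∉ p ∧ ∃ t : R, t ∉ q ∧ a ∣ b * t := by
    intro q hqS
    obtain ⟨hq, hqp⟩ := (hS q).1 hqS
    haveI := hq.1.1
    have hrad : q.map (algebraMap R (Localization.AtPrime q)) ≤
        ((Ideal.span {a}).map (algebraMap R (Localization.AtPrime q))).radical := by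
      rw [Ideal.radical_eq_sInf]
      refine le_sInf fun P hP => ?_
      obtain ⟨hP1, hP2⟩ := hP
      haveI := hP2
      have hle : Ideal.span {a} ≤ P.comap (algebraMap R (Localization.AtPrime q)) :=
        Ideal.map_le_iff_le_comap.1 hP1
      have hPq : P.comap (algebraMap R (Localization.AtPrime q)) ≤ q := by
        have := ((IsLocalization.AtPrime.orderIsoOfPrime (Localization.AtPrime q) q) ⟨P, hP2⟩).2.2
        exact this
      exact Ideal.map_le_iff_le_comap.2 (hq.2 ⟨inferInstance, hle⟩ hPq)
    obtain ⟨N, hN⟩ := Ideal.exists_pow_le_of_le_radical_of_fg hrad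
      (IsNoetherian.noetherian _)
    have hqp' : ¬ q ≤ p := by
      intro hle
      have hlt : q < p := lt_of_le_of_ne hle hqp
      haveI := hq.1.1
      have h1 : q.height < p.height := Ideal.height_strict_mono_of_isPrime hlt
      rw [hp, ENat.lt_one_iff_eq_zero] at h1
      exact height_ne_zero q
        (fun hb => ha0 (by simpa [hb] using hq.1.2 (Ideal.mem_span_singleton_self a))) h1
    obtain ⟨x, hxq, hxp⟩ := SetLike.not_le_iff_exists.1 hqp'
    refine ⟨x ^ N, fun h => hxp (Ideal.IsPrime.mem_of_pow_mem ‹_› N h), ?_⟩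
    have hmem : algebraMap R (Localization.AtPrime q) (x ^ N) ∈
        (Ideal.span {a}).map (algebraMap R (Localization.AtPrime q)) := by
      rw [map_pow]
      exact hN (Ideal.pow_mem_pow (Ideal.mem_map_of_mem _ hxq) N)
    rw [IsLocalization.algebraMap_mem_map_algebraMap_iff q.primeCompl] at hmem
    obtain ⟨t, ht, hmem⟩ := hmem
    exact ⟨t, ht, by rw [mul_comm]; exact Ideal.mem_span_singleton.1 hmem⟩
  choose! b hbp t htq hdvd using key
  have hBp : (∏ q ∈ S, b q) ∉ p := by
    intro h
    obtain ⟨q, hq, h'⟩ := (Ideal.IsPrime.prod_mem_iff).1 h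
    exact hbp q hq h'
  have hA : algebraMap R (FractionRing R) a ≠ 0 :=
    (map_ne_zero_iff _ (IsFractionRing.injective R (FractionRing R))).2 ha0
  refine ⟨algebraMap R (FractionRing R) (∏ q ∈ S, b q) / algebraMap R (FractionRing R) a, ?_, ?_⟩
  · rintro ⟨r, hr⟩
    rw [eq_div_iff hA, ← map_mul] at hr
    refine hBp ?_
    rw [← IsFractionRing.injective R (FractionRing R) hr]
    exact p.mul_mem_left r hap
  · intro q hq hq1 hqp
    by_cases haq : a ∈ q
    · have hqS : q ∈ S := (hS q).2 ⟨hmin q hq hq1 haq, hqp⟩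
      obtain ⟨c, hc⟩ := (hdvd q hqS)
      refine ⟨(∏ r ∈ S.erase q, b r) * c, t q, htq q hqS, ?_⟩
      rw [div_mul_eq_mul_div, div_eq_iff hA, ← map_mul, ← map_mul]
      congr 1
      rw [← Finset.mul_prod_erase S b hqS]
      linear_combination (∏ r ∈ S.erase q, b r) * hc
    · exact ⟨_, a, haq, div_mul_cancel₀ _ hA⟩

end Groth.Agent.S11221
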