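import Groth.Statements.S11222
import Groth.Agent.Lib.Induce27.Transfer
import Groth.Agent.Lib.Induce27.Reductive
import Groth.Agent.Lib.Induce27.Inter
import Groth.Agent.Lib.Induce27.Finite
-- import your own Groth.Agent.* helpers here

set_option autoImplicit false
universe u
open CategoryTheory MonoidalCategory CartesianMonoidalCategory MonObj GrpObj AlgebraicGeometry
open scoped TensorProduct
open AGF

namespace Groth.Agent.S11222

/-- Let k be an algebraically closed field, L a linear algebraic group over k, G a closed subgroup of L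
whose identity component is reductive, H a closed subgroup of G which is observable in G with k[G]^H
finitely generated over the constants (a Grosshans subgroup of G), and G₁ a closed subgroup of L,
observable in L, containing H (i₁ : H → G₁ compatible with the inclusions into L). Assume the
following standard results of geometric invariant theory for groups with reductive identity
component, carried as hypotheses: finite generation of invariants on finitely generated algebras,
and that the quotient map of an affine variety by such a group separates disjoint closed invariant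
subsets. Then H is observable in G₁ and k[G₁]^H is finitely generated over the constants (H is a
Grosshans subgroup of G₁). -/
theorem result (k : Type u) [Field k] [IsAlgClosed k]
    (L : Over (Spec (CommRingCat.of k))) [GrpObj L] [IsAffine L.left] [Smooth L.hom]
    (G : Over (Spec (CommRingCat.of k))) [GrpObj G] [Smooth G.hom] (jG : G ⟶ L) [IsMonHom jG] [IsClosedImmersion jG.left]
    (hG : VecGrp.IsReductiveGrp k G)
    (H : Over (Spec (CommRingCat.of k))) [GrpObj H] [Smooth H.hom] (i : H ⟶ G) [IsMonHom i]
    [IsClosedImmersion i.left]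
    (hH : AGF.IsObservableIn k i) (hfg : AGF.SubringFGOver k G (AGF.rTransInv i))
    (G₁ : Over (Spec (CommRingCat.of k))) [GrpObj G₁] [Smooth G₁.hom] (j₁ : G₁ ⟶ L) [IsMonHom j₁] [IsClosedImmersion j₁.left]
    (hG₁ : AGF.IsObservableIn k j₁) (i₁ : H ⟶ G₁) [IsMonHom i₁] (hc : i₁ ≫ j₁ = i ≫ jG)
    (thmA : VecGrp.ReductiveInvariantsFG k) (thmAbiv : AGF.ReductiveQuotSeparates k) :
    AGF.IsObservableIn k i₁ ∧ AGF.SubringFGOver k G₁ (AGF.rTransInv i₁) := by
  classical
  haveI : IsAffine G.left := isAffine_of_isAffineHom jG.left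
  haveI : IsAffine G₁.left := isAffine_of_isAffineHom j₁.left
  haveI : IsAffine H.left := isAffine_of_isAffineHom i.left
  haveI : IsAffineHom L.hom := inferInstance
  haveI : IsClosedImmersion (i ≫ jG).left := inferInstanceAs (IsClosedImmersion (i.left ≫ jG.left))
  haveI : IsClosedImmersion (i₁.left ≫ j₁.left) := by
    rw [← Over.comp_left, hc]; infer_instance
  haveI : IsClosedImmersion i₁.left := IsClosedImmersion.of_comp i₁.left j₁.left
  haveI : IsMonHom (i₁ ≫ j₁) := inferInstance
  haveI : IsClosedImmersion (i₁ ≫ j₁).left := by rw [Over.comp_left]; infer_instance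
  have hHL : AGF.IsObservableIn k (i₁ ≫ j₁) := by
    rw [hc]
    exact GrothLib.Induce27.observable_comp i hH (GrothLib.Induce27.observable_of_separates (i := jG) hG thmAbiv)
  refine ⟨GrothLib.Induce27.observable_of_intermediate (i := j₁) i₁ hHL, ?_⟩
  haveI : Algebra.FiniteType k (GrothLib.Repr.Fn L) := GrothLib.Induce27.finiteType_fn
  let ρ := GrothLib.Induce27.resGMod (GrothLib.Repr.fnGMod (GrothLib.Induce27.rtAct L)) jG
  have hρ : ρ.IsMult := GrothLib.Induce27.resGMod_isMult GrothLib.Induce27.fnGMod_isMult jG
  have hfix := GrothLib.Induce27.finiteType_fixed (ρ := ρ) i hρ (GrothLib.Induce27.subringFGOver_iff.1 hfg) hG thmA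
  obtain ⟨s, hs⟩ := (Subalgebra.fg_iff_finiteType _).2 hfix
  refine GrothLib.Induce27.subringFGOver_iff.2 ⟨s.image (GrothLib.Repr.fnMap j₁), ?_⟩
  have hmem : ∀ F : GrothLib.Repr.Fn L, F ∈ ρ.fixedSubalgebra hρ i ↔ F ∈ GrothLib.Induce27.invAlg (i₁ ≫ j₁) := by
    intro F
    show F ∈ ρ.fixedUnder i ↔ _
    rw [hc, ← GrothLib.Induce27.mem_fixedUnder_fn_iff, ← GrothLib.Induce27.fixedUnder_resGMod ρ i]
    constructor
    · intro hF B _ _ h
      have := hF B h
      simp only [ρ, GrothLib.Induce27.resGMod_apply, Category.comp_id, Category.assoc] at this ⊢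
      exact this
    · intro hF B _ _ h
      have := hF B h
      simp only [ρ, GrothLib.Induce27.resGMod_apply, Category.comp_id, Category.assoc] at this ⊢
      exact this
  rw [Finset.coe_image, ← AlgHom.map_adjoin, hs]
  ext f
  constructor
  · rintro ⟨F, hF, rfl⟩
    rw [GrothLib.Induce27.mem_invAlg_iff_valAt]
    intro x t
    have h2 := GrothLib.Induce27.mem_invAlg_iff_valAt.1 ((hmem F).1 hF) (x ≫ j₁) t
    show GrothLib.Induce27.valAt (x * (t ≫ i₁)) (GrothLib.Repr.fnMap j₁ F) = GrothLib.Induce27.valAt x (GrothLib.Repr.fnMap j₁ F)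
    rw [← GrothLib.Induce27.valAt_comp, ← GrothLib.Induce27.valAt_comp, MonObj.mul_comp, Category.assoc]
    exact h2
  · intro hf
    obtain ⟨F, hF, rfl⟩ := GrothLib.Induce27.exists_invariant_lift (i := j₁) i₁ hG₁ (f := f)
      ((GrothLib.Induce27.mem_semi_one_iff f).2 hf)
    exact ⟨F, (hmem F).2 ((GrothLib.Induce27.mem_semi_one_iff F).1 hF), rfl⟩

end Groth.Agent.S11222
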