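import Groth.Statements.S11223
import Mathlib
-- import your own Groth.Agent.* helpers here

set_option autoImplicit false
universe u
open CAlg

namespace Groth.Agent.S11223

/-- Let k be a field, let z_1, ..., z_m be homogeneous polynomials of positive degree in the polynomial
ring k[x_1, ..., x_n], and suppose the radical of the ideal (z_1, ..., z_m) is the ideal (x_1, ...,
x_n) generated by the variables. Then the polynomial ring is integral over the subalgebra generated
by z_1, ..., z_m. (The published statement is over an algebraically closed field; this row takes any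
field, which its proof allows.) -/
theorem result (k : Type u) [Field k] (n m : ℕ)
    (z : Fin m → MvPolynomial (Fin n) k) (d : Fin m → ℕ) (hd : ∀ i, 0 < d i)
    (hz : ∀ i, (z i).IsHomogeneous (d i))
    (hrad : (Ideal.span (Set.range z)).radical =
      Ideal.span (Set.range (MvPolynomial.X : Fin n → MvPolynomial (Fin n) k))) :
    Algebra.IsIntegral (Algebra.adjoin k (Set.range z)) (MvPolynomial (Fin n) k) := by
  classical
  set A := Algebra.adjoin k (Set.range z)
  obtain ⟨N, hN⟩ := Ideal.exists_radical_pow_le_of_fg (Ideal.span (Set.range z)) (IsNoetherian.noetherian _)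
  rw [hrad] at hN
  let B : Set (MvPolynomial (Fin n) k) :=
    (fun s : Fin n →₀ ℕ => MvPolynomial.monomial s 1) '' {s | s.degree < N}
  have hfin : B.Finite := by
    refine Set.Finite.image _ (Set.Finite.subset (Finsupp.finite_of_degree_le (σ := Fin n) N) ?_)
    exact fun s hs => Nat.le_of_lt hs
  let P : Submodule A (MvPolynomial (Fin n) k) := Submodule.span A B
  have hk : ∀ (c : k) (v : MvPolynomial (Fin n) k), v ∈ P → c • v ∈ P := fun c v hv => by
    rw [← algebraMap_smul A c v]
    exact P.smul_mem _ hv
  have key : ∀ e, ∀ f : MvPolynomial (Fin n) k, f.IsHomogeneous e → f ∈ P := by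
    intro e
    induction e using Nat.strong_induction_on with
    | _ e ih =>
      intro f hf
      by_cases he : e < N
      · rw [f.as_sum]
        refine Submodule.sum_mem _ fun s hs => ?_
        have hdeg : s.degree = e := by
          rw [Finsupp.degree_eq_weight_one]
          exact hf (MvPolynomial.mem_support_iff.mp hs)
        rw [show MvPolynomial.monomial s (MvPolynomial.coeff s f) = MvPolynomial.coeff s f • MvPolynomial.monomial s (1 : k) by
          rw [MvPolynomial.smul_monomial, smul_eq_mul, mul_one]]
        exact hk _ _ (Submodule.subset_span ⟨s, show s.degree < N by omega, rfl⟩)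
      · have hmem : f ∈ Ideal.span (Set.range z) := by
          rw [f.as_sum]
          refine Submodule.sum_mem _ fun s hs => hN ?_
          have hdeg : s.degree = e := by
            rw [Finsupp.degree_eq_weight_one]
            exact hf (MvPolynomial.mem_support_iff.mp hs)
          refine Ideal.pow_le_pow_right (show N ≤ e by omega) ?_
          rw [MvPolynomial.monomial_eq]
          refine Ideal.mul_mem_left _ _ ?_
          rw [← hdeg, Finsupp.degree_apply, Finsupp.prod]
          rw [← Finset.prod_pow_eq_pow_sum]
          exact Ideal.prod_mem_prod fun i _ => Ideal.pow_mem_pow (Ideal.subset_span (Set.mem_range_self i)) _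
        obtain ⟨g, hg⟩ := Ideal.mem_span_range_iff_exists_fun.mp hmem
        have hf' : f = ∑ i, MvPolynomial.homogeneousComponent e (g i * z i) := by
          rw [← map_sum, hg, MvPolynomial.homogeneousComponent_of_mem hf, if_pos rfl]
        rw [hf']
        refine Submodule.sum_mem _ fun i _ => ?_
        rw [← MvPolynomial.sum_homogeneousComponent (g i), Finset.sum_mul, map_sum]
        refine Submodule.sum_mem _ fun j _ => ?_
        rw [MvPolynomial.homogeneousComponent_of_mem ((MvPolynomial.homogeneousComponent_isHomogeneous j (g i)).mul (hz i))]
        split_ifs with hj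
        · rw [mul_comm]
          exact P.smul_mem (⟨z i, Algebra.subset_adjoin ⟨i, rfl⟩⟩ : A)
            (ih j (by have := hd i; omega) _ (MvPolynomial.homogeneousComponent_isHomogeneous j (g i)))
        · exact P.zero_mem
  haveI : Module.Finite A (MvPolynomial (Fin n) k) := by
    refine ⟨⟨hfin.toFinset, ?_⟩⟩
    rw [hfin.coe_toFinset, eq_top_iff]
    intro f _
    rw [← MvPolynomial.sum_homogeneousComponent f]
    exact Submodule.sum_mem _ fun j _ => key j _ (MvPolynomial.homogeneousComponent_isHomogeneous j f)
  exact Algebra.IsIntegral.of_finite A _

end Groth.Agent.S11223
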