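import Groth.Statements.S11229
import Groth.Agent.Lib.UnipFix19.GModFix
-- import your own Groth.Agent.* helpers here

set_option autoImplicit false
set_option linter.all false
set_option maxHeartbeats 2000000
set_option synthInstance.maxHeartbeats 200000
set_option backward.isDefEq.respectTransparency false
universe u
open CategoryTheory MonoidalCategory CartesianMonoidalCategory MonObj GrpObj AlgebraicGeometry
open scoped TensorProduct
open AGF

namespace Groth.Agent.S11229

/-- Let k an algebraically closed field, G a connected reductive linear algebraic group over k, B a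
Borel subgroup of G with unipotent radical U (a maximal unipotent subgroup), and let A be a
commutative k-algebra with a rational action of G by algebra automorphisms. Then A has a nonzero
nilpotent element if and only if A^U does; equivalently A is reduced if and only if A^U is reduced. -/
theorem result (k : Type u) [Field k] [IsAlgClosed k]
    (G : Over (Spec (CommRingCat.of k))) [GrpObj G] (hG : Red.IsReductiveOver k G)
    (Bo : Over (Spec (CommRingCat.of k))) [GrpObj Bo] (iB : Bo ⟶ G) (hB : Red.IsBorelOver k iB)
    (U : Over (Spec (CommRingCat.of k))) [GrpObj U] (u : U ⟶ Bo) (hU : Par.IsUnipotentRadical u)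
    (A : Type u) [CommRing A] [Algebra k A] (ρ : VecGrp.GMod G A) (hρ : ρ.IsMult) :
    IsReduced A ↔ IsReduced ↥(ρ.fixedSubalgebra hρ (u ≫ iB)) := by
  classical
  obtain ⟨hiB, hiBc, hBs, hBc, -, -⟩ := id hB
  obtain ⟨hu, huc, -, hUs, -, hgeo, -⟩ := id hU
  haveI := hiB; haveI := hiBc; haveI := hBs; haveI := hu; haveI := huc; haveI := hUs
  obtain ⟨hGa, -⟩ := id hG
  haveI := hGa
  haveI : IsAffine Bo.left := isAffine_of_isAffineHom iB.left
  haveI : IsAffine U.left := isAffine_of_isAffineHom u.left
  obtain ⟨hUc, hUn⟩ := GrothLib.Flag27.geomFibre_conditions.1 hgeo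
  haveI := hUc
  constructor
  · intro hA
    exact isReduced_of_injective (ρ.fixedSubalgebra hρ (u ≫ iB)).val Subtype.val_injective
  · intro hS
    haveI := hS
    by_contra hA
    have hne : (nilradical A).restrictScalars k ≠ (⊥ : Submodule k A) := fun h => hA ⟨fun x hx => by
      have : x ∈ (nilradical A).restrictScalars k := mem_nilradical.2 hx
      rwa [h, Submodule.mem_bot] at this⟩
    let σ := GrothLib.Induce27.resGMod ρ (u ≫ iB)
    obtain ⟨w, hwN, hw0, hw⟩ := GrothLib.UnipFix19.exists_fixed_mem hUn σ _ (fun g v hv => by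
      obtain ⟨m, hm⟩ : IsNilpotent v := mem_nilradical.1 hv
      refine mem_nilradical.2 ⟨m, ?_⟩
      let e := (TensorProduct.lid k A)
      have hmul : ∀ x y : A, GrothLib.Induce27.kAct σ g (x * y) =
          GrothLib.Induce27.kAct σ g x * GrothLib.Induce27.kAct σ g y := fun x y => by
        have h := (hρ k (g ≫ u ≫ iB)).1 ((1 : k) ⊗ₜ[k] x) ((1 : k) ⊗ₜ[k] y)
        rw [Algebra.TensorProduct.tmul_mul_tmul, _root_.mul_one] at h
        change σ.ρ k g _ = σ.ρ k g _ * σ.ρ k g _ at h
        rw [GrothLib.Induce27.rho_one_tmul, GrothLib.Induce27.rho_one_tmul, GrothLib.Induce27.rho_one_tmul,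
          Algebra.TensorProduct.tmul_mul_tmul, _root_.mul_one] at h
        simpa [e] using congrArg e h
      have hpow : ∀ n : ℕ, GrothLib.Induce27.kAct σ g v ^ (n + 1) = GrothLib.Induce27.kAct σ g (v ^ (n + 1)) := by
        intro n
        induction n with
        | zero => simp
        | succ n ih => rw [pow_succ, ih, pow_succ v (n + 1), hmul]
      cases m with
      | zero => rw [pow_zero] at hm ⊢; exact hm
      | succ m => rw [hpow, hm, map_zero]) hne
    rw [GrothLib.Induce27.fixedUnder_resGMod] at hw
    refine hw0 (congrArg Subtype.val (IsNilpotent.eq_zero (x := (⟨w, hw⟩ : ↥(ρ.fixedSubalgebra hρ (u ≫ iB)))) ?_))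
    obtain ⟨m, hm⟩ : IsNilpotent w := mem_nilradical.1 hwN
    exact ⟨m, Subtype.ext (by simpa using hm)⟩

end Groth.Agent.S11229
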