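import Groth.Statements.S1123
import Groth.Agent.Lib.Horseshoe

set_option autoImplicit false
universe v u
open CategoryTheory CategoryTheory.Limits
open CohDer

namespace Groth.Agent.S1123

/-- Let A be an abelian category with enough injectives and S : 0 → A• → B• → C• → 0 a short exact
sequence of cochain complexes all vanishing below degree n. Then there are a short exact sequence T
: 0 → I₁ → I₂ → I₃ → 0 of complexes of injective objects vanishing below degree n and a morphism of
short exact sequences S ⟶ T whose three components are quasi-isomorphisms. -/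
theorem result {A : Type u} [Category.{v} A] [Abelian A] [EnoughInjectives A]
    (S : ShortComplex (CochainComplex A ℤ)) (hS : S.ShortExact) (n : ℤ)
    [S.X₁.IsStrictlyGE n] [S.X₂.IsStrictlyGE n] [S.X₃.IsStrictlyGE n] :
    ∃ (T : ShortComplex (CochainComplex A ℤ)) (φ : S ⟶ T), T.ShortExact ∧
      T.X₁.IsStrictlyGE n ∧ T.X₂.IsStrictlyGE n ∧ T.X₃.IsStrictlyGE n ∧
      (∀ k : ℤ, Injective (T.X₁.X k) ∧ Injective (T.X₂.X k) ∧ Injective (T.X₃.X k)) ∧
      QuasiIso φ.τ₁ ∧ QuasiIso φ.τ₂ ∧ QuasiIso φ.τ₃ := by
  exact Horseshoe.exists_resolution S hS n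

end Groth.Agent.S1123
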