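import Groth.Statements.S11230
import Groth.Agent.Lib.UnipNil1.Basic
-- import your own Groth.Agent.* helpers here

set_option autoImplicit false
universe u
open CategoryTheory MonoidalCategory CartesianMonoidalCategory MonObj GrpObj AlgebraicGeometry
open scoped TensorProduct
open AGF

namespace Groth.Agent.S11230

/-- Let k an algebraically closed field, G a connected reductive linear algebraic group over k, B a
Borel subgroup of G with unipotent radical U (a maximal unipotent subgroup), and let A be a
commutative k-algebra with a rational action of G by algebra automorphisms. Then A has zero divisors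
(two nonzero elements with product zero) if and only if the algebra of invariants A^U does. -/
theorem result (k : Type u) [Field k] [IsAlgClosed k]
    (G : Over (Spec (CommRingCat.of k))) [GrpObj G] (hG : Red.IsReductiveOver k G)
    (Bo : Over (Spec (CommRingCat.of k))) [GrpObj Bo] (iB : Bo ⟶ G) (hB : Red.IsBorelOver k iB)
    (U : Over (Spec (CommRingCat.of k))) [GrpObj U] (u : U ⟶ Bo) (hU : Par.IsUnipotentRadical u)
    (A : Type u) [CommRing A] [Algebra k A] (ρ : VecGrp.GMod G A) (hρ : ρ.IsMult) :
    (∃ a b : A, a ≠ 0 ∧ b ≠ 0 ∧ a * b = 0) ↔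
      ∃ a b : ↥(ρ.fixedSubalgebra hρ (u ≫ iB)), a ≠ 0 ∧ b ≠ 0 ∧ a * b = 0 := by
  constructor
  · rintro ⟨a, b, ha, hb, hab⟩
    exact GrothLib.UnipNil1.fixed_zeroDivisor_of_radical hG.1 hB hU ρ hρ ha hb hab
  · rintro ⟨a, b, ha, hb, hab⟩
    exact ⟨a.1, b.1, fun e => ha (Subtype.ext e), fun e => hb (Subtype.ext e), congrArg Subtype.val hab⟩

end Groth.Agent.S11230
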