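import Groth.Statements.S11231
import Groth.Agent.Lib.InvNormal27.Basic
-- import your own Groth.Agent.* helpers here

set_option autoImplicit false
universe u
open CategoryTheory MonoidalCategory CartesianMonoidalCategory MonObj GrpObj AlgebraicGeometry
open scoped TensorProduct
open AGF

namespace Groth.Agent.S11231

/-- Let k an algebraically closed field, G a connected reductive linear algebraic group over k, B a
Borel subgroup of G with unipotent radical U (a maximal unipotent subgroup), and let A be a
commutative k-algebra with a rational action of G by algebra automorphisms. If A is an integrally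
closed domain then so is A^U. (The published statement is for A normal; its proof reduces to the
case of a domain, which is the case stated here.) -/
theorem result (k : Type u) [Field k] [IsAlgClosed k]
    (G : Over (Spec (CommRingCat.of k))) [GrpObj G] (hG : Red.IsReductiveOver k G)
    (Bo : Over (Spec (CommRingCat.of k))) [GrpObj Bo] (iB : Bo ⟶ G) (hB : Red.IsBorelOver k iB)
    (U : Over (Spec (CommRingCat.of k))) [GrpObj U] (u : U ⟶ Bo) (hU : Par.IsUnipotentRadical u)
    (A : Type u) [CommRing A] [IsDomain A] [Algebra k A] [IsIntegrallyClosed A]
    (ρ : VecGrp.GMod G A) (hρ : ρ.IsMult) :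
    IsIntegrallyClosed ↥(ρ.fixedSubalgebra hρ (u ≫ iB)) := by
  exact GrothLib.InvNormal27.isIntegrallyClosed_of_saturated _ fun a ha b hb hb0 y hy =>
    GrothLib.InvNormal27.mem_fixedSubalgebra_of_mul ρ hρ _ ha hb hb0 hy

end Groth.Agent.S11231
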