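import Groth.Statements.S11232
import Groth.Agent.Lib.UnipNil1.Ufd
-- import your own Groth.Agent.* helpers here

set_option autoImplicit false
universe u
open CategoryTheory MonoidalCategory CartesianMonoidalCategory MonObj GrpObj AlgebraicGeometry
open scoped TensorProduct
open AGF

namespace Groth.Agent.S11232

/-- Let k be an algebraically closed field, G a connected linear algebraic group over k (affine, smooth,
connected) admitting no nontrivial character (every homomorphism to the multiplicative group is
trivial), and A a commutative k-algebra which is a unique factorization domain whose group of units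
consists of the nonzero scalars, carrying a rational action of G by algebra automorphisms. Then the
algebra of invariants A^G is a unique factorization domain. -/
theorem result (k : Type u) [Field k] [IsAlgClosed k]
    (G : Over (Spec (CommRingCat.of k))) [GrpObj G] [IsAffine G.left] [Smooth G.hom] [ConnectedSpace G.left]
    (hχ : ∀ χ : G ⟶ Red.Gm (Spec (CommRingCat.of k)), IsMonHom χ → χ = 1)
    (A : Type u) [CommRing A] [IsDomain A] [Algebra k A] [UniqueFactorizationMonoid A]
    (hunits : ∀ x : Aˣ, (x : A) ∈ Set.range (algebraMap k A))
    (ρ : VecGrp.GMod G A) (hρ : ρ.IsMult) :
    UniqueFactorizationMonoid ↥(ρ.fixedSubalgebra hρ (𝟙 G)) := by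
  haveI : QuasiCompact G.hom := inferInstance
  exact GrothLib.UnipNil1.uniqueFactorizationMonoid_fixed ρ hunits hχ hρ

end Groth.Agent.S11232
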