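import Groth.Statements.S11233
import Mathlib
-- import your own Groth.Agent.* helpers here

set_option autoImplicit false
universe u
open CAlg

namespace Groth.Agent.S11233

/-- Let k be an algebraically closed field, A an integral domain which is a k-algebra, T an m by m
matrix over A with invertible determinant, and let the additive group k^m act on the polynomial ring
A[y_1, ..., y_m] by the A-algebra maps y_s ↦ y_s + Σ_r h_r T_rs. Then the only invariant polynomials
are the constants: a polynomial fixed by all these substitutions lies in A. -/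
theorem result (k : Type u) [Field k] [IsAlgClosed k]
    (A : Type u) [CommRing A] [IsDomain A] [Algebra k A] (m : ℕ) (T : Matrix (Fin m) (Fin m) A)
    (hT : IsUnit T.det) (f : MvPolynomial (Fin m) A)
    (hf : ∀ h : Fin m → k, MvPolynomial.aeval
      (fun s : Fin m => MvPolynomial.X s + MvPolynomial.C (∑ r : Fin m, algebraMap k A (h r) * T r s)) f = f) :
    ∃ a : A, f = MvPolynomial.C a := by
  classical
  let L : MvPolynomial (Fin m) A →ₐ[A] MvPolynomial (Fin m) A :=
    MvPolynomial.aeval fun s ↦ ∑ r, MvPolynomial.C (T r s) * MvPolynomial.X r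
  let L' : MvPolynomial (Fin m) A →ₐ[A] MvPolynomial (Fin m) A :=
    MvPolynomial.aeval fun s ↦ ∑ r, MvPolynomial.C (T⁻¹ r s) * MvPolynomial.X r
  have hLL : L'.comp L = AlgHom.id A _ := by
    refine MvPolynomial.algHom_ext fun s ↦ ?_
    simp only [AlgHom.comp_apply, L, L', MvPolynomial.aeval_X, map_sum, map_mul, MvPolynomial.aeval_C,
      MvPolynomial.algebraMap_eq, Finset.mul_sum, AlgHom.id_apply]
    rw [Finset.sum_comm, Finset.sum_eq_single s]
    · rw [Finset.sum_congr rfl fun r _ ↦ (mul_assoc _ _ _).symm, ← Finset.sum_mul]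
      simp only [← map_mul]
      rw [← map_sum, show ∑ r, T r s * T⁻¹ s r = (T⁻¹ * T) s s by simp [Matrix.mul_apply, mul_comm],
        Matrix.nonsing_inv_mul _ hT, Matrix.one_apply_eq, map_one, one_mul]
    · intro q _ hq
      rw [Finset.sum_congr rfl fun r _ ↦ (mul_assoc _ _ _).symm, ← Finset.sum_mul]
      simp only [← map_mul]
      rw [← map_sum, show ∑ r, T r s * T⁻¹ q r = (T⁻¹ * T) q s by simp [Matrix.mul_apply, mul_comm],
        Matrix.nonsing_inv_mul _ hT, Matrix.one_apply_ne hq, map_zero, zero_mul]
    · simp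
  have hinj : Function.Injective (algebraMap k A) := (algebraMap k A).injective
  have hinf : (Set.range (algebraMap k A)).Infinite := Set.infinite_range_of_injective hinj
  refine ⟨MvPolynomial.eval 0 f, ?_⟩
  have hg : L f = MvPolynomial.C (MvPolynomial.eval 0 f) := by
    refine MvPolynomial.funext_set (fun _ ↦ Set.range (algebraMap k A)) (fun _ ↦ hinf) fun x hx ↦ ?_
    choose h hh using fun r ↦ hx r (Set.mem_univ r)
    have e1 := congrArg (MvPolynomial.eval (0 : Fin m → A)) (hf h)
    rw [MvPolynomial.eval_C, MvPolynomial.eval, ← e1]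
    simp only [← MvPolynomial.coe_aeval_eq_eval, ← AlgHom.comp_apply]
    refine congrArg (fun φ : MvPolynomial (Fin m) A →ₐ[A] A ↦ φ f) (MvPolynomial.algHom_ext (f := (MvPolynomial.aeval x).comp L)
      (g := (MvPolynomial.aeval (0 : Fin m → A)).comp (MvPolynomial.aeval fun s ↦ MvPolynomial.X s + MvPolynomial.C (∑ r, algebraMap k A (h r) * T r s))) fun s ↦ ?_)
    simp [L, hh, mul_comm]
  have := congrArg L' hg
  rw [← AlgHom.comp_apply, hLL, AlgHom.id_apply] at this
  simpa [L'] using this

end Groth.Agent.S11233
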