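import Groth.Statements.S11234
import Groth.Agent.Lib.Induce27.Epi
-- import your own Groth.Agent.* helpers here

set_option autoImplicit false
universe u
open CategoryTheory MonoidalCategory CartesianMonoidalCategory MonObj GrpObj AlgebraicGeometry
open scoped TensorProduct
open AGF

namespace Groth.Agent.S11234

/-- Let k be an algebraically closed field, G a linear algebraic group over k (affine, smooth) and H a
smooth closed subgroup of G. The following are equivalent: (b) every global function on G invariant
under right translation by H is a constant; (c) for every rational G-module E, the H-invariants of E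
coincide with the G-invariants; (e) two homomorphisms from G to a linear algebraic group which agree
on H are equal. (The published list also contains the statement that H is epimorphic in the sense of
its hull under the stabilizer correspondence, and the statement that complementary H-stable
subspaces of a rational G-module are G-stable; this row states the other three.) -/
theorem result (k : Type u) [Field k] [IsAlgClosed k]
    (G : Over (Spec (CommRingCat.of k))) [GrpObj G] [IsAffine G.left] [Smooth G.hom]
    (H : Over (Spec (CommRingCat.of k))) [GrpObj H] [Smooth H.hom] (i : H ⟶ G) [IsMonHom i]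
    [IsClosedImmersion i.left] :
    List.TFAE [
      ∀ f : Γ(G.left, ⊤), ((G ◁ i) ≫ μ[G]).left.appTop f = (fst G H).left.appTop f →
        ∃ c : k, f = G.hom.appTop ((Scheme.ΓSpecIso (CommRingCat.of k)).inv c),
      ∀ (E : Type u) [AddCommGroup E] [Module k E] (ρ : VecGrp.GMod G E),
        ρ.fixedUnder i = ρ.fixedUnder (𝟙 G),
      ∀ (G' : Over (Spec (CommRingCat.of k))) [GrpObj G'] [IsAffine G'.left] [Smooth G'.hom]
        (r s : G ⟶ G') [IsMonHom r] [IsMonHom s], i ≫ r = i ≫ s → r = s] := by
  haveI : IsAffine H.left := isAffine_of_isAffineHom i.left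
  haveI : IsAffineHom G.hom := inferInstance
  have hb : (∀ f : Γ(G.left, ⊤), ((G ◁ i) ≫ μ[G]).left.appTop f = (fst G H).left.appTop f →
        ∃ c : k, f = G.hom.appTop ((Scheme.ΓSpecIso (CommRingCat.of k)).inv c)) ↔
      ∀ f ∈ GrothLib.Induce27.semi i (fun _ => (1 : k)), ∃ c : k, f = algebraMap k (GrothLib.Repr.Fn G) c :=
    ⟨fun h f hf => h f ((GrothLib.Induce27.mem_semi_one_iff (i := i) f).1 hf),
      fun h f hf => h f ((GrothLib.Induce27.mem_semi_one_iff (i := i) f).2 hf)⟩
  have hle : ∀ (E : Type u) [AddCommGroup E] [Module k E] (ρ : VecGrp.GMod G E),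
      ρ.fixedUnder (𝟙 G) ≤ ρ.fixedUnder i := fun E _ _ ρ v hv B _ _ h => by
    have := hv B (h ≫ i)
    rwa [Category.comp_id] at this
  tfae_have 1 → 2 := fun h E _ _ ρ =>
    le_antisymm (GrothLib.Induce27.fixedUnder_le_of_const (hb.1 h) ρ) (hle E ρ)
  tfae_have 2 → 1 := fun h => hb.2 fun f hf =>
    ⟨_, GrothLib.Induce27.const_of_fixedUnder_eq (h _ _) hf⟩
  tfae_have 1 → 3 := fun h G' _ _ _ r s _ _ hrs => GrothLib.Induce27.hom_ext_of_const (hb.1 h) r s hrs
  tfae_have 3 → 2 := fun h E _ _ ρ =>
    le_antisymm (GrothLib.Induce27.fixedUnder_le_of_hom_ext h ρ) (hle E ρ)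
  tfae_finish

end Groth.Agent.S11234
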