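import Groth.Statements.S11235
import Mathlib
-- import your own Groth.Agent.* helpers here

set_option autoImplicit false
universe u
open CAlg

namespace Groth.Agent.S11235

/-- Let k be an algebraically closed field, A a commutative k-algebra, α ∈ k, and M a maximal ideal of
the polynomial ring A[x] containing x - α. Let I ⊆ M be an ideal whose zero set in Spec A[x] is
invariant under the automorphisms x ↦ c·x, c ∈ k nonzero (equivalently: the image of I under each
such A-algebra automorphism has the same radical as I). Then there is a maximal ideal of A[x]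
containing I and x. -/
theorem result (k : Type u) [Field k] [IsAlgClosed k]
    (A : Type u) [CommRing A] [Algebra k A] (α : k)
    (M : Ideal (Polynomial A)) (hM : M.IsMaximal)
    (hα : Polynomial.X - Polynomial.C (algebraMap k A α) ∈ M)
    (I : Ideal (Polynomial A)) (hIM : I ≤ M)
    (hI : ∀ c : kˣ, (I.map (Polynomial.aeval (R := A)
      (algebraMap k A (c : k) • (Polynomial.X : Polynomial A)))).radical = I.radical) :
    ∃ N : Ideal (Polynomial A), N.IsMaximal ∧ I ≤ N ∧ Polynomial.X ∈ N := by
  classical
  by_cases hα0 : α = 0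
  · refine ⟨M, hM, hIM, ?_⟩
    subst hα0
    simpa using hα
  let m : Ideal A := M.comap Polynomial.C
  haveI : M.IsMaximal := hM
  have hev : ∀ f : Polynomial A, f - Polynomial.C (f.eval (algebraMap k A α)) ∈ M := fun f =>
    M.mem_of_dvd (Polynomial.X_sub_C_dvd_sub_C_eval) hα
  have hm : m.IsMaximal := by
    have : Function.Surjective ((Ideal.Quotient.mk M).comp Polynomial.C) := fun y => by
      obtain ⟨f, rfl⟩ := Ideal.Quotient.mk_surjective y
      exact ⟨f.eval (algebraMap k A α), (Ideal.Quotient.eq.mpr (hev f)).symm⟩
    letI hF : Field (Polynomial A ⧸ M) := Ideal.Quotient.field M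
    have h2 := RingHom.ker_isMaximal_of_surjective (K := Polynomial A ⧸ M) ((Ideal.Quotient.mk M).comp Polynomial.C) this
    have h3 : RingHom.ker ((Ideal.Quotient.mk M).comp Polynomial.C) = m := by ext a; simp [m, RingHom.mem_ker, Ideal.Quotient.eq_zero_iff_mem]
    rwa [h3] at h2
  have hev' : ∀ f : Polynomial A, f ∈ M → f.eval (algebraMap k A α) ∈ m := fun f hf => by
    have := M.sub_mem hf (hev f)
    rwa [sub_sub_cancel] at this
  have hzero : ∀ i ∈ I, ∀ c : kˣ, i.eval (algebraMap k A ((c : k) * α)) ∈ m := by
    intro i hi c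
    have h1 : Polynomial.aeval (R := A) (algebraMap k A (c : k) • (Polynomial.X : Polynomial A)) i ∈ M := by
      have h2 : Polynomial.aeval (R := A) (algebraMap k A (c : k) • (Polynomial.X : Polynomial A)) i ∈ I.radical := by
        rw [← hI c]
        exact Ideal.le_radical (Ideal.mem_map_of_mem _ hi)
      exact (Ideal.radical_le_radical_iff.mpr (hIM.trans Ideal.le_radical) |>.trans
        (hM.isPrime.radical).le) h2
    have := hev' _ h1
    rwa [Polynomial.aeval_def, ← Polynomial.coe_evalRingHom, Polynomial.hom_eval₂, show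
      ((Polynomial.evalRingHom (algebraMap k A α)).comp (algebraMap A (Polynomial A))) = RingHom.id A from by
        ext a; simp, Polynomial.coe_evalRingHom, Polynomial.eval_smul, Polynomial.eval_X, smul_eq_mul,
      ← map_mul, Polynomial.eval₂_id] at this
  have hI0 : ∀ i ∈ I, i.eval 0 ∈ m := by
    intro i hi
    haveI := hm
    letI : Field (A ⧸ m) := Ideal.Quotient.field m
    let g := i.map (Ideal.Quotient.mk m)
    let ψ : k →+* A ⧸ m := (Ideal.Quotient.mk m).comp (algebraMap k A)
    have hg : g = 0 := by
      refine Polynomial.eq_zero_of_infinite_isRoot g ?_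
      refine Set.Infinite.mono ?_ ((Set.infinite_univ.diff (Set.finite_singleton (0 : k))).image
        (ψ.injective.injOn))
      rintro _ ⟨c, ⟨-, hc⟩, rfl⟩
      rw [Set.mem_singleton_iff] at hc
      show Polynomial.IsRoot g (ψ c)
      have := hzero i hi (Units.mk0 (c / α) (div_ne_zero hc hα0))
      rw [Units.val_mk0, div_mul_cancel₀ c hα0] at this
      rw [Polynomial.IsRoot, Polynomial.eval_map, RingHom.comp_apply, Polynomial.eval₂_at_apply,
        Ideal.Quotient.eq_zero_iff_mem]
      exact this
    rw [← Ideal.Quotient.eq_zero_iff_mem, ← Polynomial.eval₂_at_apply, map_zero, ← Polynomial.eval_map]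
    show g.eval 0 = 0
    rw [hg, Polynomial.eval_zero]
  refine ⟨m.comap (Polynomial.evalRingHom 0), ?_, fun i hi => hI0 i hi, ?_⟩
  · haveI := hm
    exact Ideal.comap_isMaximal_of_surjective _ (fun a => ⟨Polynomial.C a, by simp⟩)
  · simp [Ideal.mem_comap]

end Groth.Agent.S11235
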