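import Groth.Statements.S11237
import Groth.Agent.Lib.GModSqZero27
-- import your own Groth.Agent.* helpers here

set_option autoImplicit false
universe u
open CategoryTheory MonoidalCategory CartesianMonoidalCategory MonObj GrpObj AlgebraicGeometry
open scoped TensorProduct
open AGF

namespace Groth.Agent.S11237

/-- Let k be an algebraically closed field and G a linear algebraic group over k (affine, smooth) whose
identity component is reductive. Assume finite generation of invariants of reductive groups over k
on finitely generated algebras (a true result which the published text assumes without proof,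
carried here as a hypothesis). Let A be a finitely generated commutative k-algebra with a rational
action of G by algebra automorphisms and M a finitely generated A-module with a compatible rational
G-action. Then the invariants M^G form a finitely generated A^G-module (the A^G-span of finitely
many invariant elements). -/
theorem result (k : Type u) [Field k] [IsAlgClosed k]
    (G : Over (Spec (CommRingCat.of k))) [GrpObj G] (hG : VecGrp.IsReductiveGrp k G)
    (thmA : VecGrp.ReductiveInvariantsFG k)
    (A : Type u) [CommRing A] [Algebra k A] [Algebra.FiniteType k A] (ρA : VecGrp.GMod G A) (hρ : ρA.IsMult)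
    (M : Type u) [AddCommGroup M] [Module A M] [Module k M] [IsScalarTower k A M] [Module.Finite A M]
    (ρM : VecGrp.GMod G M) (hc : VecGrp.GMod.IsCompat ρA ρM) :
    ∃ s : Finset M, (↑s : Set M) ⊆ ρM.fixedUnder (𝟙 G) ∧
      ρM.fixedUnder (𝟙 G) ≤ (Submodule.span ↥(ρA.fixedSubalgebra hρ (𝟙 G)) (↑s : Set M)).restrictScalars k := by
  letI : Module Aᵐᵒᵖ M := Module.compHom M ((RingHom.id A).fromOpposite mul_comm)
  haveI : IsCentralScalar A M := ⟨fun _ _ => rfl⟩
  haveI : IsScalarTower k Aᵐᵒᵖ M := ⟨fun c a m => smul_assoc c a.unop m⟩
  exact GrothLib.GModSqZero27.exists_span ρA ρM hρ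
    (thmA G hG (TrivSqZeroExt A M) (GrothLib.GModSqZero27.sqZero ρA ρM)
      (GrothLib.GModSqZero27.sqZero_isMult ρA ρM hρ hc) GrothLib.GModSqZero27.finiteType)

end Groth.Agent.S11237
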