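import Groth.Statements.S11238
import Mathlib.FieldTheory.RatFunc.Luroth
import Mathlib.Algebra.MvPolynomial.Funext
-- import your own Groth.Agent.* helpers here

set_option autoImplicit false
universe u
open AGF

namespace Groth.Agent.S11238

/-- Over an algebraically closed field k, a unirational variety of dimension one is rational. Field
form: let K be a finitely generated field extension of k of transcendence degree one (K is algebraic
over k(x) for some x ∈ K transcendental over k) admitting a k-embedding into a purely transcendental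
extension k(t_1, ..., t_n). Then K = k(t) for some t ∈ K transcendental over k. -/
theorem result (k : Type u) [Field k] [IsAlgClosed k]
    (K : Type u) [Field K] [Algebra k K] (hfg : (⊤ : IntermediateField k K).FG)
    (x : K) (hx : Transcendental k x) (halg : Algebra.IsAlgebraic ↥(IntermediateField.adjoin k {x}) K)
    (n : ℕ) (φ : K →ₐ[k] FractionRing (MvPolynomial (Fin n) k)) :
    ∃ t : K, Transcendental k t ∧ IntermediateField.adjoin k {t} = ⊤ := by
  classical
  obtain ⟨s, hs⟩ := hfg
  let S : Set K := ↑(insert x s)
  have hS : IntermediateField.adjoin k S = ⊤ :=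
    top_le_iff.1 (hs ▸ IntermediateField.adjoin.mono k _ _ (Finset.coe_subset.2 (Finset.subset_insert x s)))
  -- numerators and denominators
  choose P Q hQ hPQ using fun e : K => IsFractionRing.div_surjective (A := MvPolynomial (Fin n) k) (φ e)
  let D := ∏ e ∈ insert x s, Q e
  have hQ0 : ∀ e, Q e ≠ 0 := fun e => nonZeroDivisors.ne_zero (hQ e)
  have hD : D ≠ 0 := Finset.prod_ne_zero_iff.2 fun e _ => hQ0 e
  obtain ⟨a, ha⟩ : ∃ a, MvPolynomial.eval a D ≠ 0 := by
    by_contra h
    push Not at h
    exact hD (MvPolynomial.funext fun a => by simpa using h a)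
  let F := MvPolynomial.C (MvPolynomial.eval a (Q x)) * P x - MvPolynomial.C (MvPolynomial.eval a (P x)) * Q x
  have hF : F ≠ 0 := by
    intro h0
    have hqa : MvPolynomial.eval a (Q x) ≠ 0 := fun h => ha (by
      rw [map_prod]; exact Finset.prod_eq_zero (Finset.mem_insert_self x s) h)
    let c := MvPolynomial.eval a (P x) / MvPolynomial.eval a (Q x)
    have hPc : P x = MvPolynomial.C c * Q x := by
      refine mul_left_cancel₀ (MvPolynomial.C_ne_zero.2 hqa : MvPolynomial.C (σ := Fin n) _ ≠ 0) ?_
      rw [← _root_.mul_assoc, ← map_mul, show MvPolynomial.eval a (Q x) * c = MvPolynomial.eval a (P x) from mul_div_cancel₀ _ hqa]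
      exact sub_eq_zero.1 h0
    have hxc : φ x = algebraMap k _ c := by
      rw [← hPQ x, hPc, map_mul, mul_div_assoc,
        div_self (IsFractionRing.to_map_ne_zero_of_mem_nonZeroDivisors (hQ x)), _root_.mul_one,
        ← MvPolynomial.algebraMap_eq, ← IsScalarTower.algebraMap_apply]
    exact hx (by
      have : x = algebraMap k K c := φ.toRingHom.injective (show φ x = φ (algebraMap k K c) by rw [hxc, AlgHom.commutes])
      rw [this]; exact isAlgebraic_algebraMap c)
  obtain ⟨b, hb⟩ : ∃ b, MvPolynomial.eval b (F * D) ≠ 0 := by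
    by_contra h
    push Not at h
    exact mul_ne_zero hF hD (MvPolynomial.funext fun b => by simpa using h b)
  -- restriction to the line
  let L : MvPolynomial (Fin n) k →ₐ[k] RatFunc k :=
    (IsScalarTower.toAlgHom k (Polynomial k) (RatFunc k)).comp
      (MvPolynomial.aeval fun j => Polynomial.C (a j) + Polynomial.C (b j - a j) * Polynomial.X)
  let Lp : MvPolynomial (Fin n) k →ₐ[k] Polynomial k :=
    MvPolynomial.aeval fun j => Polynomial.C (a j) + Polynomial.C (b j - a j) * Polynomial.X
  have hev : ∀ (p : MvPolynomial (Fin n) k),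
      (Lp p).eval 0 = MvPolynomial.eval a p ∧ (Lp p).eval 1 = MvPolynomial.eval b p := by
    intro p
    have e : ∀ c : k, (Lp p).eval c = MvPolynomial.eval (fun j => a j + (b j - a j) * c) p := fun c => by
      have h2 : (Polynomial.aeval c).comp Lp = MvPolynomial.aeval (fun j => a j + (b j - a j) * c) :=
        MvPolynomial.algHom_ext fun j => by simp [Lp]
      simpa [MvPolynomial.aeval_eq_eval] using DFunLike.congr_fun h2 p
    constructor
    · rw [e]; simp
    · rw [e]; simp
  have hLD : ∀ e ∈ insert x s, L (Q e) ≠ 0 := by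
    intro e he h0
    have h1 : Lp (Q e) = 0 := (map_eq_zero_iff _ (IsFractionRing.injective (Polynomial k) (RatFunc k))).1 h0
    refine ha ?_
    rw [map_prod]
    exact Finset.prod_eq_zero he (by rw [← (hev _).1, h1]; simp)
  have hLD' : IsUnit (L D) := by
    rw [isUnit_iff_ne_zero, map_prod]
    exact Finset.prod_ne_zero_iff.2 hLD
  let R := Localization.Away D
  have hιunit : IsUnit (algebraMap (MvPolynomial (Fin n) k) (FractionRing (MvPolynomial (Fin n) k)) D) :=
    isUnit_iff_ne_zero.2 ((map_ne_zero_iff _ (IsFractionRing.injective _ _)).2 hD)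
  let ι₀ : R →ₐ[k] FractionRing (MvPolynomial (Fin n) k) :=
    { IsLocalization.Away.lift D hιunit with
      commutes' := fun c => by
        rw [IsScalarTower.algebraMap_apply k (MvPolynomial (Fin n) k) R,
          IsScalarTower.algebraMap_apply k (MvPolynomial (Fin n) k) (FractionRing (MvPolynomial (Fin n) k))]
        exact IsLocalization.Away.lift_eq D hιunit _ }
  let g : R →ₐ[k] RatFunc k :=
    { IsLocalization.Away.lift D (g := L.toRingHom) hLD' with
      commutes' := fun c => by
        rw [IsScalarTower.algebraMap_apply k (MvPolynomial (Fin n) k) R]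
        exact (IsLocalization.Away.lift_eq D (g := L.toRingHom) hLD' _).trans (L.commutes c) }
  have hιinj : Function.Injective ι₀ :=
    IsLocalization.injective_of_map_algebraMap_zero (M := Submonoid.powers D) R (ι₀ : R →+* FractionRing (MvPolynomial (Fin n) k))
      fun p hp => by
        have e : ι₀ (algebraMap _ R p) = algebraMap _ _ p := IsLocalization.Away.lift_eq D hιunit p
        rw [show p = 0 from (map_eq_zero_iff _ (IsFractionRing.injective _ _)).1 (e.symm.trans hp), map_zero]
  -- the generators land in the localization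
  have hr : ∀ e ∈ insert x s, ∃ r : R, ι₀ r = φ e ∧ g r = L (P e) / L (Q e) := by
    intro e he
    obtain ⟨w, hw⟩ := Finset.dvd_prod_of_mem Q he
    refine ⟨algebraMap _ R (P e * w) * IsLocalization.Away.invSelf D, ?_, ?_⟩
    · have h1 : ι₀ (algebraMap _ R (P e * w) * IsLocalization.Away.invSelf D) * ι₀ (algebraMap _ R D) =
          algebraMap _ _ (P e * w) := by
        rw [← map_mul, _root_.mul_assoc, _root_.mul_comm (IsLocalization.Away.invSelf D), IsLocalization.Away.mul_invSelf, _root_.mul_one]
        exact IsLocalization.Away.lift_eq D hιunit _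
      rw [show ι₀ (algebraMap _ R D) = algebraMap _ (FractionRing (MvPolynomial (Fin n) k)) (Q e * w) from
        (IsLocalization.Away.lift_eq D hιunit D).trans (congrArg _ hw)] at h1
      rw [← hPQ e, eq_div_iff (IsFractionRing.to_map_ne_zero_of_mem_nonZeroDivisors (hQ e))]
      refine mul_right_cancel₀ ((map_ne_zero_iff _ (IsFractionRing.injective _ (FractionRing (MvPolynomial (Fin n) k)))).2
        (right_ne_zero_of_mul (hw ▸ hD : Q e * w ≠ 0))) ?_
      rw [_root_.mul_assoc, ← map_mul, ← map_mul]
      exact h1
    · have h1 : g (algebraMap _ R (P e * w) * IsLocalization.Away.invSelf D) * g (algebraMap _ R D) =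
          L (P e * w) := by
        rw [← map_mul, _root_.mul_assoc, _root_.mul_comm (IsLocalization.Away.invSelf D), IsLocalization.Away.mul_invSelf, _root_.mul_one]
        exact IsLocalization.Away.lift_eq D (g := L.toRingHom) hLD' _
      rw [show g (algebraMap _ R D) = L (Q e * w) from
        (IsLocalization.Away.lift_eq D (g := L.toRingHom) hLD' D).trans (congrArg L hw), map_mul L (Q e) w, map_mul L (P e) w] at h1
      have hw0 : L w ≠ 0 := fun h => hLD'.ne_zero (by rw [show D = Q e * w from hw, map_mul, h, mul_zero])
      rw [eq_div_iff (hLD e he)]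
      refine mul_right_cancel₀ hw0 ?_
      rw [_root_.mul_assoc]
      exact h1
  let A := Algebra.adjoin k S
  have hA : A ≤ ι₀.range.comap φ := Algebra.adjoin_le fun e he => by
    obtain ⟨r, hr1, -⟩ := hr e he
    exact ⟨r, hr1⟩
  let j : A →ₐ[k] R := (AlgEquiv.ofInjective ι₀ hιinj).symm.toAlgHom.comp
    ((φ.comp A.val).codRestrict ι₀.range fun z => hA z.2)
  have hj : ∀ z : A, ι₀ (j z) = φ z := fun z =>
    congrArg Subtype.val ((AlgEquiv.ofInjective ι₀ hιinj).apply_symm_apply _)
  let f : A →ₐ[k] RatFunc k := g.comp j
  let x' : A := ⟨x, Algebra.subset_adjoin (Finset.mem_insert_self x s)⟩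
  have hfx : Transcendental k (f x') := by
    obtain ⟨r, hr1, hr2⟩ := hr x (Finset.mem_insert_self x s)
    have hjx : j x' = r := hιinj ((hj x').trans hr1.symm)
    intro halgx
    have hint := halgx.isIntegral
    obtain ⟨c, hc⟩ : ∃ c, algebraMap k (RatFunc k) c = f x' :=
      minpoly.mem_range_of_degree_eq_one k (f x')
        (IsAlgClosed.degree_eq_one_of_irreducible k (minpoly.irreducible hint))
    rw [show f x' = g r from congrArg g hjx, hr2, eq_div_iff (hLD x (Finset.mem_insert_self x s))] at hc
    have h2 : Lp (P x) = Polynomial.C c * Lp (Q x) := by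
      refine IsFractionRing.injective (Polynomial k) (RatFunc k) ?_
      rw [map_mul, ← Polynomial.algebraMap_eq, ← IsScalarTower.algebraMap_apply]
      exact hc.symm
    refine hb ?_
    have e0 := congrArg (Polynomial.eval 0) h2
    have e1 := congrArg (Polynomial.eval 1) h2
    simp only [Polynomial.eval_mul, Polynomial.eval_C, (hev _).1, (hev _).2] at e0 e1
    simp only [F, map_mul, map_sub, MvPolynomial.eval_C, e0, e1]
    ring
  have hfinj : Function.Injective f := by
    rw [injective_iff_map_eq_zero]
    intro z hz
    by_contra hz0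
    open IntermediateField.algebraAdjoinAdjoin in
    have halgz : IsAlgebraic (Algebra.adjoin k {x}) (z : K) :=
      (IsFractionRing.isAlgebraic_iff (Algebra.adjoin k {x}) (IntermediateField.adjoin k {x}) K).2
        (Algebra.IsAlgebraic.isAlgebraic _)
    obtain ⟨p, hp0, hpz⟩ := halgz.exists_nonzero_coeff_and_aeval_eq_zero
      (mem_nonZeroDivisors_of_ne_zero fun h => hz0 (Subtype.ext h))
    let incl : Algebra.adjoin k ({x} : Set K) →ₐ[k] A :=
      Subalgebra.inclusion (Algebra.adjoin_mono (Set.singleton_subset_iff.2 (Finset.mem_insert_self x s)))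
    have e1 : Polynomial.eval₂ (incl : _ →+* A) z p = 0 := by
      refine Subtype.val_injective ?_
      show A.val (Polynomial.eval₂ _ z p) = _
      rw [← AlgHom.coe_toRingHom, Polynomial.hom_eval₂]
      exact hpz
    have e2 := congrArg (f : A →+* RatFunc k) e1
    rw [Polynomial.hom_eval₂, map_zero, show (f : A →+* RatFunc k) z = 0 from hz, Polynomial.eval₂_at_zero] at e2
    have hmem0 : ((p.coeff 0 : Algebra.adjoin k ({x} : Set K)) : K) ∈ (Polynomial.aeval x : Polynomial k →ₐ[k] K).range :=
      (Algebra.adjoin_singleton_eq_range_aeval k x).le (p.coeff 0).2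
    obtain ⟨q, hq⟩ := hmem0
    have e3 : incl (p.coeff 0) = Polynomial.aeval x' q := Subtype.ext (by
      show ((p.coeff 0 : Algebra.adjoin k ({x} : Set K)) : K) = A.val (Polynomial.aeval x' q)
      rw [← Polynomial.aeval_algHom_apply]
      exact hq.symm)
    have e4 : Polynomial.aeval (f x') q = 0 := by
      rw [Polynomial.aeval_algHom_apply, ← e3]
      exact e2
    have hq0 : q ≠ 0 := fun h => hp0 (Subtype.ext (by rw [← hq, h]; simp))
    exact hfx ⟨q, hq0, e4⟩
  letI : Algebra A (IntermediateField.adjoin k S) := (Subalgebra.inclusion (IntermediateField.algebra_adjoin_le_adjoin k S)).toRingHom.toAlgebra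
  haveI : IsScalarTower k A (IntermediateField.adjoin k S) := IsScalarTower.of_algebraMap_eq fun _ => rfl
  haveI : IsFractionRing A (IntermediateField.adjoin k S) := IntermediateField.algebraAdjoinAdjoin.instIsFractionRingSubtypeMemSubalgebraAdjoinAdjoin k S
  let E₀ : IntermediateField.adjoin k S →ₐ[k] RatFunc k := IsFractionRing.liftAlgHom (A := A) hfinj
  let ψ : K →ₐ[k] RatFunc k :=
    E₀.comp (((IntermediateField.topEquiv (F := k) (E := K)).symm.trans (IntermediateField.equivOfEq hS.symm)).toAlgHom)
  have hne : ψ.fieldRange ≠ ⊥ := by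
    intro hbot
    have hmem : ψ x ∈ ψ.fieldRange := ⟨x, rfl⟩
    rw [hbot, IntermediateField.mem_bot] at hmem
    obtain ⟨c, hc⟩ := hmem
    exact hx (by
      have : x = algebraMap k K c := ψ.toRingHom.injective (show ψ x = ψ (algebraMap k K c) by rw [← hc, AlgHom.commutes])
      rw [this]; exact isAlgebraic_algebraMap c)
  obtain ⟨t, ht⟩ : RatFunc.Luroth.generator ψ.fieldRange ∈ ψ.fieldRange := RatFunc.Luroth.generator_mem
  refine ⟨t, ?_, ?_⟩
  · intro halgt
    exact RatFunc.Luroth.transcendental_generator hne (ht ▸ halgt.algHom ψ)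
  · refine IntermediateField.map_injective ψ ?_
    rw [IntermediateField.adjoin_map, Set.image_singleton]
    show IntermediateField.adjoin k {ψ.toRingHom t} = _
    rw [ht, ← RatFunc.Luroth.eq_adjoin_generator, AlgHom.fieldRange_eq_map]

end Groth.Agent.S11238
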