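import Groth.Statements.S11240
import Mathlib

set_option autoImplicit false
universe u
open AGF

namespace Groth.Agent.S11240

theorem generic_minor_ne_zero (k : Type u) [Field k] {n m p : ℕ} (I : Fin p → Fin n)
    (J : Fin p → Fin m) (hI : Function.Injective I) (hJ : Function.Injective J) :
    ((Matrix.of fun a c => (MvPolynomial.X (a, c) : MvPolynomial (Fin n × Fin m) k)).submatrix
      I J).det ≠ 0 := by
  classical
  intro h
  have h2 := congrArg (MvPolynomial.eval fun x : Fin n × Fin m =>
    if ∃ a, I a = x.1 ∧ J a = x.2 then (1 : k) else 0) h
  rw [RingHom.map_det, map_zero] at h2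
  refine one_ne_zero (α := k) ?_
  rw [← h2, ← Matrix.det_one (n := Fin p) (R := k)]
  congr 1
  ext a c
  rcases eq_or_ne a c with rfl | hac
  · simpa using ⟨a, rfl, rfl⟩
  · simp [Matrix.one_apply_ne hac]
    intro b hb
    intro e
    exact hac ((hI hb).symm.trans (hJ e))

/-- For a single root subgroup: let k be an algebraically closed field and X = (x_ab) the generic n × m
matrix over the polynomial ring k[x_ab]. Let i ≠ j be row indices and let I (rows) and J (columns)
be strictly increasing sequences of length p. The minor of X with rows I and columns J is invariant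
under replacing X by (1 + b·E_ij)·X for every b ∈ k (the one-parameter unipotent group adding b
times row j to row i) if and only if j occurs in I whenever i does. (The published statement gives
the criterion for the group generated by several such root subgroups, which is the conjunction of
these.) -/
theorem result (k : Type u) [Field k] [IsAlgClosed k] (n m p : ℕ)
    (i j : Fin n) (hij : i ≠ j) (I : Fin p ↪o Fin n) (J : Fin p ↪o Fin m) :
    (∀ b : k, ((Matrix.transvection i j (MvPolynomial.C b) *
        (Matrix.of fun a c => (MvPolynomial.X (a, c) : MvPolynomial (Fin n × Fin m) k))).submatrix I J).det =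
        ((Matrix.of fun a c => (MvPolynomial.X (a, c) : MvPolynomial (Fin n × Fin m) k)).submatrix I J).det) ↔
      (i ∈ Set.range I → j ∈ Set.range I) := by
  classical
  set M : Matrix (Fin n) (Fin m) (MvPolynomial (Fin n × Fin m) k) :=
    Matrix.of fun a c => (MvPolynomial.X (a, c) : MvPolynomial (Fin n × Fin m) k) with hM
  have hmul : ∀ (b : k) (x : Fin n) (y : Fin m),
      (Matrix.transvection i j (MvPolynomial.C b) * M).submatrix id id x y =
        ∑ l, Matrix.transvection i j (MvPolynomial.C b : MvPolynomial (Fin n × Fin m) k) x l * M l y :=
    fun _ _ _ => rfl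
  have hsub : ∀ (b : k) (x y : Fin p),
      (Matrix.transvection i j (MvPolynomial.C b) * M).submatrix I J x y =
        ∑ l, Matrix.transvection i j (MvPolynomial.C b : MvPolynomial (Fin n × Fin m) k) (I x) l *
          M l (J y) := fun b x y => hmul b (I x) (J y)
  have key : ∀ (b : k) (a : Fin p), I a = i →
      (Matrix.transvection i j (MvPolynomial.C b) * M).submatrix I J =
        (M.submatrix I J).updateRow a
          ((M.submatrix I J) a + (MvPolynomial.C b : MvPolynomial (Fin n × Fin m) k) • fun c => M j (J c)) := by
    intro b a ha
    ext x y : 1
    rcases eq_or_ne x a with rfl | hx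
    · rw [Matrix.updateRow_self, hsub]
      simp [ha, Matrix.transvection, Matrix.single_apply,
        Finset.sum_add_distrib, add_mul, Matrix.one_apply]
    · have : I x ≠ i := fun h => hx (I.injective (h.trans ha.symm))
      rw [Matrix.updateRow_ne hx, hsub]
      simp [this, this.symm, Matrix.transvection, Matrix.single_apply,
        Finset.sum_add_distrib, add_mul, Matrix.one_apply]
  constructor
  · rintro h ⟨a, ha⟩
    by_contra hj
    have h1 := h 1
    rw [key 1 a ha, map_one, one_smul, Matrix.det_updateRow_add, Matrix.updateRow_eq_self,
      add_eq_left] at h1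
    refine generic_minor_ne_zero k (Function.update (⇑I) a j) (⇑J) ?_ J.injective ?_
    · intro x y hxy
      rcases eq_or_ne x a with rfl | hx <;> rcases eq_or_ne y x with rfl | hy <;> try rfl
      · exfalso
        simp only [Function.update_self, Function.update_of_ne hy] at hxy
        exact hj ⟨y, hxy.symm⟩
      · rcases eq_or_ne y a with rfl | hy'
        · exfalso
          simp only [Function.update_self, Function.update_of_ne hx] at hxy
          exact hj ⟨x, hxy⟩
        · simp only [Function.update_of_ne hx, Function.update_of_ne hy'] at hxy
          exact I.injective hxy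
    · rw [← h1]
      congr 1
      ext x y : 1
      rcases eq_or_ne x a with rfl | hx
      · simp [hM]
      · simp [hM, hx]
  · intro h b
    by_cases hi : i ∈ Set.range I
    · obtain ⟨a, ha⟩ := hi
      obtain ⟨c, hc⟩ := h ⟨a, ha⟩
      have hac : a ≠ c := fun e => hij (by rw [← ha, ← hc, e])
      rw [key b a ha]
      have : (fun x => M j (J x)) = (M.submatrix I J) c := by
        ext x : 1; simp [hc]
      rw [this]
      exact Matrix.det_updateRow_add_smul_self _ hac _
    · congr 1
      ext x y : 1
      have : I x ≠ i := fun e => hi ⟨x, e⟩
      rw [hsub]
      simp [this, this.symm, Matrix.transvection, Matrix.single_apply,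
        Finset.sum_add_distrib, add_mul, Matrix.one_apply]

end Groth.Agent.S11240
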