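import Groth.Statements.S11241
import Groth.Agent.Lib.Flag27.FixedFraction

set_option autoImplicit false
universe u
open CategoryTheory MonoidalCategory CartesianMonoidalCategory MonObj GrpObj AlgebraicGeometry
open scoped TensorProduct
open AGF

namespace Groth.Agent.S11241

/-- Let k be an algebraically closed field and H a connected unipotent linear algebraic group over k
(affine, smooth, connected, with no nontrivial subtorus), acting rationally by algebra automorphisms
on a commutative k-algebra A which is an integral domain. An H-invariant element of the fraction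
field of A is a quotient of two H-invariant elements of A: if a₀, b₀ ∈ A with b₀ ≠ 0 satisfy
(h·a₀)·b₀ = a₀·(h·b₀) for every point h of H (invariance of a₀/b₀), then there are a, b ∈ A^H with b
≠ 0 and a·b₀ = b·a₀. (The published statement allows any unipotent H; this row takes H connected.) -/
theorem result (k : Type u) [Field k] [IsAlgClosed k]
    (H : Over (Spec (CommRingCat.of k))) [GrpObj H] [IsAffine H.left] [Smooth H.hom] [ConnectedSpace H.left]
    (hH : Red.HasNoSubtorus k H)
    (A : Type u) [CommRing A] [IsDomain A] [Algebra k A] (ρ : VecGrp.GMod H A) (hρ : ρ.IsMult)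
    (a₀ b₀ : A) (hb₀ : b₀ ≠ 0)
    (hinv : ∀ (B : Type u) [CommRing B] [Algebra k B] (h : VecGrp.pt k B ⟶ H),
      ρ.ρ B h ((1 : B) ⊗ₜ[k] a₀) * ((1 : B) ⊗ₜ[k] b₀) = ((1 : B) ⊗ₜ[k] a₀) * ρ.ρ B h ((1 : B) ⊗ₜ[k] b₀)) :
    ∃ a b : A, a ∈ ρ.fixedUnder (𝟙 H) ∧ b ∈ ρ.fixedUnder (𝟙 H) ∧ b ≠ 0 ∧ a * b₀ = b * a₀ := by
  haveI : QuasiCompact H.hom := inferInstance
  obtain ⟨hu, hs⟩ := GrothLib.Flag27.isUnip_of_noSubtorus hH
  refine GrothLib.Flag27.exists_fixed_fraction ρ ((GrothLib.Flag27.isSolvable_pt_iff H).2 hs)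
    (fun χ hχ => by haveI := hχ; exact hu.char_eq_one χ) hρ a₀ b₀ hb₀ fun x => ?_
  have h := hinv k x
  rw [GrothLib.Induce27.rho_one_tmul, GrothLib.Induce27.rho_one_tmul, Algebra.TensorProduct.tmul_mul_tmul,
    Algebra.TensorProduct.tmul_mul_tmul, _root_.one_mul] at h
  simpa using congrArg (TensorProduct.lid k A) h

end Groth.Agent.S11241
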