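import Groth.Statements.S11243
import Groth.Agent.Lib.RootDatum.Rho
import Groth.Agent.Lib.RootDatum.Flip

set_option autoImplicit false
universe u v w
open RootD

namespace Groth.Agent.S11243

open GrothLib.RootDatum


/-- (b), for a connected group, as a statement about its root datum: let P be a finite reduced
crystallographic root pairing over ℤ with weight lattice M, and b a base of P (simple roots,
determining the positive roots). Then there is an additive map h : M → ℤ which is positive on every
positive root (so that h strictly increases along the dominance order) and non-negative on every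
dominant weight, i.e. on every ω ∈ M pairing non-negatively with all simple coroots. (Part (c),
invariance under the component group of a disconnected group, is not stated.) -/
theorem result {ι : Type u} {M : Type v} {N : Type w}
    [Fintype ι] [AddCommGroup M] [AddCommGroup N]
    (P : RootPairing ι ℤ M N) [P.IsReduced] [P.IsCrystallographic] (b : P.Base) :
    ∃ h : M →+ ℤ, (∀ i : ι, b.IsPos i → 0 < h (P.root i)) ∧
      ∀ ω : M, (∀ j ∈ b.support, 0 ≤ P.toLinearMap ω (P.coroot j)) → 0 ≤ h ω := by
  classical
  have h := IsSimple.of_base P b
  refine ⟨∑ k ∈ posFinset P (b.support : Set ι), (P.coroot' k).toAddMonoidHom, fun i hi => ?_,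
    fun ω hω => ?_⟩
  · have e : ∑ k ∈ posFinset P (b.support : Set ι), P.coroot' k (P.root i) = 2 * h.ht i := by
      rw [← h.sum_pz_left_eq_two_ht i]
      exact Finset.sum_congr rfl fun k _ => (pz_eq_pairing P i k).symm
    have := h.ht_pos ((isPos_iff_mem_posOf b i).mp hi)
    simp only [AddMonoidHom.finsetSum_apply, LinearMap.toAddMonoidHom_coe]
    rw [e]
    omega
  · simp only [AddMonoidHom.finsetSum_apply, LinearMap.toAddMonoidHom_coe]
    exact Finset.sum_nonneg fun k hk => h.coroot'_nonneg (v := ω) (z := fun q => P.coroot' q ω)
      (fun q => by simp) (fun a ha => hω a (Finset.mem_coe.mp ha)) (mem_posFinset.mp hk)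

end Groth.Agent.S11243
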