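import Groth.Statements.S11246
import Groth.Agent.Lib.Induce27.Chars
import Groth.Agent.Lib.Flag27.UnipRad
-- import your own Groth.Agent.* helpers here

set_option autoImplicit false
set_option linter.style.haveILetI false
universe u
open CategoryTheory MonoidalCategory CartesianMonoidalCategory MonObj GrpObj AlgebraicGeometry
open scoped TensorProduct
open AGF

namespace Groth.Agent.S11246

section Aux

open GrothLib.Induce27 GrothLib.Repr

variable {k : Type u} [Field k] {H : Over (Spec (CommRingCat.of k))} [GrpObj H]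

/-- The action on a finite stable subspace, on rational points. -/
theorem kAct_sub {V : Type u} [AddCommGroup V] [Module k V] (ρ : VecGrp.GMod H V) (N : Submodule k V) [Module.Finite k N]
    (hN : Stable ρ N) (g : VecGrp.pt k k ⟶ H) (v : N) :
    ((kAct (subGMod ρ N hN) g v : N) : V) = kAct ρ g (v : V) := by
  have e : (N.subtype.baseChange k) ((1 : k) ⊗ₜ[k] kAct (subGMod ρ N hN) g v) = (1 : k) ⊗ₜ[k] kAct ρ g (v : V) := by
    rw [← rho_one_tmul, subGMod_apply, res_spec, LinearMap.baseChange_tmul, Submodule.subtype_apply, rho_one_tmul]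
  rw [LinearMap.baseChange_tmul, Submodule.subtype_apply] at e
  simpa using congrArg (TensorProduct.lid k V) e

variable {A : Type u} [CommRing A] [Algebra k A] {ρ : VecGrp.GMod H A}

/-- The rational points act multiplicatively. -/
theorem kAct_map_mul (hρ : ρ.IsMult) (g : VecGrp.pt k k ⟶ H) (x y : A) :
    kAct ρ g (x * y) = kAct ρ g x * kAct ρ g y := by
  have e := (hρ k g).1 ((1 : k) ⊗ₜ[k] x) ((1 : k) ⊗ₜ[k] y)
  rw [Algebra.TensorProduct.tmul_mul_tmul, _root_.one_mul, rho_one_tmul, rho_one_tmul, rho_one_tmul,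
    Algebra.TensorProduct.tmul_mul_tmul, _root_.one_mul] at e
  simpa using congrArg (TensorProduct.lid k A) e

/-- An automorphism keeps a non-zero element of a domain regular. -/
theorem eq_zero_of_mul_rho [IsDomain A] (hρ : ρ.IsMult) {b₀ : A} (hb₀ : b₀ ≠ 0) {B : Type u} [CommRing B] [Algebra k B]
    (h : VecGrp.pt k B ⟶ H) {z : B ⊗[k] A}
    (hz : z * (ρ.ρ B h ((1 : B) ⊗ₜ[k] b₀) * ((1 : B) ⊗ₜ[k] b₀)) = 0) : z = 0 := by
  have hinj : ∀ w : B ⊗[k] A, w * ((1 : B) ⊗ₜ[k] b₀) = 0 → w = 0 := by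
    intro w hw
    have e : ∀ v : B ⊗[k] A, (LinearMap.mulRight k b₀).lTensor B v = v * ((1 : B) ⊗ₜ[k] b₀) := by
      intro v
      induction v using TensorProduct.induction_on with
      | zero => simp
      | tmul b a => simp [Algebra.TensorProduct.tmul_mul_tmul]
      | add a b ha hb => simp only [map_add, add_mul, ha, hb]
    refine Module.Flat.lTensor_preserves_injective_linearMap (M := B) (LinearMap.mulRight k b₀)
      (fun a b hab => mul_right_cancel₀ hb₀ hab) ?_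
    rw [e, map_zero]
    exact hw
  rw [← _root_.mul_assoc] at hz
  have h2 := congrArg (ρ.ρ B h⁻¹) (hinj _ hz)
  have hinv : ∀ w, ρ.ρ B h⁻¹ (ρ.ρ B h w) = w := fun w => by
    rw [← LinearEquiv.mul_apply, ← map_mul, inv_mul_cancel, map_one]
    rfl
  rw [(hρ B h⁻¹).1, hinv, map_zero] at h2
  apply (ρ.ρ B h⁻¹).injective
  rw [map_zero]
  exact hinj _ h2

theorem chiVal_one {T : Over (Spec (CommRingCat.of k))} {B : Type u} [CommRing B] [Algebra k B] (t : VecGrp.pt k B ⟶ T) :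
    VecGrp.chiVal (1 : T ⟶ Red.Gm (Spec (CommRingCat.of k))) t = 1 := by
  rw [VecGrp.chiVal, MonObj.comp_one, GmPts.gmFn_one, map_one]

/-- A common eigenvector of the rational points is a semi-invariant of a character. -/
theorem exists_char_of_eigen [IsAlgClosed k] [IsAffine H.left] [Smooth H.hom] {V : Type u} [AddCommGroup V] [Module k V]
    (ρ : VecGrp.GMod H V) {v : V} (hv : v ≠ 0) (h : ∀ g, ∃ c : k, kAct ρ g v = c • v) :
    ∃ ψ : H ⟶ Red.Gm (Spec (CommRingCat.of k)), IsMonHom ψ ∧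
      ∀ (B : Type u) [CommRing B] [Algebra k B] (x : VecGrp.pt k B ⟶ H),
        ρ.ρ B x ((1 : B) ⊗ₜ[k] v) = VecGrp.chiVal ψ x • ((1 : B) ⊗ₜ[k] v) := by
  haveI : IsAffineHom H.hom := inferInstance
  obtain ⟨α₀, hα₀⟩ : ∃ α : Module.Dual k V, α v ≠ 0 := by
    by_contra hne
    push Not at hne
    exact hv ((Module.forall_dual_apply_eq_zero_iff k _).1 hne)
  let α : Module.Dual k V := (α₀ v)⁻¹ • α₀
  have hα : α v = 1 := by simp [α, hα₀]
  choose c hc using h
  have hval : ∀ (φ : Module.Dual k V) (g : VecGrp.pt k k ⟶ H), valAt g (coeff ρ φ v) = c g * φ v := fun φ g => by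
    rw [valAt_coeff, rho_one_tmul, cf_tmul, hc, map_smul, smul_eq_mul, smul_eq_mul, _root_.mul_one]
  let f := coeff ρ α v
  have hfc : ∀ g, valAt g f = c g := fun g => by rw [hval, hα, _root_.mul_one]
  have hne : ∀ g, valAt g f ≠ (0 : k) := fun g hg => hv (by
    rw [hfc] at hg
    rw [← kAct_one ρ v, ← inv_mul_cancel g, kAct_mul, hc g, hg, zero_smul, map_zero])
  have hmul : ∀ g g', valAt (g * g') f = valAt g f * valAt g' f := fun g g' => by
    rw [hfc, hfc, hfc]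
    refine smul_left_injective k hv ?_
    show c (g * g') • v = (c g * c g') • v
    rw [← hc, kAct_mul, hc g', map_smul, hc g, smul_smul, mul_comm (c g)]
  let uu : (Fn H)ˣ := (isUnit_of_valAt hne).unit
  let ψ : H ⟶ Red.Gm (Spec (CommRingCat.of k)) := GmPts.ptOfUnit (uu : (Γ(H.left, ⊤))ˣ)
  have hgm : ∀ {T : Over (Spec (CommRingCat.of k))} (t : T ⟶ H), Red.gmFn (t ≫ ψ) = fnMap t f := fun t => by
    rw [GmPts.gmFn_comp, GmPts.gmFn_ptOfUnit]
    rfl
  have hmon : IsMonHom ψ := GrothLib.GrpSchField.isMonHom_of_mul _ (GmPts.gmFn_injective (by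
    show Red.gmFn (μ[H] ≫ ψ) = _
    rw [hgm, fnMap_mul_eq f hmul]
    show _ = Red.gmFn (_ ≫ μ[Red.Gm (Spec (CommRingCat.of k))])
    rw [show ((ψ ⊗ₘ ψ) ≫ μ[Red.Gm (Spec (CommRingCat.of k))]) = (fst H H ≫ ψ) * (snd H H ≫ ψ) by
      rw [Hom.mul_def]; congr 1,
      GmPts.gmFn_mul, hgm, hgm]
    rfl))
  have hψ : ∀ (B : Type u) [CommRing B] [Algebra k B] (x : VecGrp.pt k B ⟶ H),
      VecGrp.chiVal ψ x = valAt x f := fun B _ _ x => by
    rw [chiVal_eq]
    congr 1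
    exact GmPts.gmFn_ptOfUnit _
  refine ⟨ψ, hmon, fun B _ _ x => ext_cf fun φ => ?_⟩
  have e : coeff ρ φ v = φ v • f := ext_valAt fun g => by
    rw [map_smul, hval, hfc, smul_eq_mul, mul_comm]
  rw [hψ, ← valAt_coeff, e, map_smul, map_smul, cf_tmul, smul_eq_mul, Algebra.smul_def, Algebra.smul_def]
  ring

end Aux

/-- Let k be an algebraically closed field and H a connected solvable linear algebraic group over k
(affine, smooth, connected, solvable) with maximal torus T and unipotent radical U (so H = T·U),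
acting rationally by algebra automorphisms on a commutative k-algebra A which is an integral domain.
Let χ be a character of H and let a₀, b₀ ∈ A, b₀ ≠ 0, be such that H acts on the fraction a₀/b₀
through χ: (h·a₀)·b₀ = χ(h)·a₀·(h·b₀) for every point h of H. Then there are U-invariant elements a,
b ∈ A with b ≠ 0 and a·b₀ = b·a₀ (so a₀/b₀ = a/b), and a character θ of T such that b is a
T-semi-invariant of weight θ and a is a T-semi-invariant of weight θ + χ|_T. -/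
theorem result (k : Type u) [Field k] [IsAlgClosed k]
    (H : Over (Spec (CommRingCat.of k))) [GrpObj H] [IsAffine H.left] [Smooth H.hom] [ConnectedSpace H.left]
    (hsolv : Red.IsSolvableGrp H)
    (T : Over (Spec (CommRingCat.of k))) [GrpObj T] (iT : T ⟶ H) [IsMonHom iT] (hT : AGF.IsMaxTorus iT)
    (U : Over (Spec (CommRingCat.of k))) [GrpObj U] (uH : U ⟶ H) (hU : Par.IsUnipotentRadical uH)
    (χ : H ⟶ Red.Gm (Spec (CommRingCat.of k))) [IsMonHom χ]
    (A : Type u) [CommRing A] [IsDomain A] [Algebra k A] (ρ : VecGrp.GMod H A) (hρ : ρ.IsMult)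
    (a₀ b₀ : A) (hb₀ : b₀ ≠ 0)
    (hχ : ∀ (B : Type u) [CommRing B] [Algebra k B] (h : VecGrp.pt k B ⟶ H),
      ρ.ρ B h ((1 : B) ⊗ₜ[k] a₀) * ((1 : B) ⊗ₜ[k] b₀) =
        VecGrp.chiVal χ h • (((1 : B) ⊗ₜ[k] a₀) * ρ.ρ B h ((1 : B) ⊗ₜ[k] b₀))) :
    ∃ a b : A, a ∈ ρ.fixedUnder uH ∧ b ∈ ρ.fixedUnder uH ∧ b ≠ 0 ∧ a * b₀ = b * a₀ ∧
      ∃ θ : T ⟶ Red.Gm (Spec (CommRingCat.of k)), IsMonHom θ ∧
        (∀ (B : Type u) [CommRing B] [Algebra k B] (t : VecGrp.pt k B ⟶ T),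
          ρ.ρ B (t ≫ iT) ((1 : B) ⊗ₜ[k] b) = VecGrp.chiVal θ t • ((1 : B) ⊗ₜ[k] b)) ∧
        (∀ (B : Type u) [CommRing B] [Algebra k B] (t : VecGrp.pt k B ⟶ T),
          ρ.ρ B (t ≫ iT) ((1 : B) ⊗ₜ[k] a) =
            (VecGrp.chiVal θ t * VecGrp.chiVal χ (t ≫ iT)) • ((1 : B) ⊗ₜ[k] a)) := by
  classical
  obtain ⟨hu1, hu2, -, hu3, -, hgeo, -⟩ := id hU
  haveI := hu1; haveI := hu2; haveI := hu3
  haveI : IsAffine U.left := isAffine_of_isAffineHom uH.left
  obtain ⟨hUc, hUn⟩ := GrothLib.Flag27.geomFibre_conditions.1 hgeo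
  haveI := hUc
  have hun : GrothLib.Flag27.IsUnip k U := (GrothLib.Flag27.isUnip_of_noSubtorus hUn).1
  haveI : Group.IsSolvable (VecGrp.pt k k ⟶ H) := by
    obtain ⟨n, hn⟩ := hsolv
    exact ⟨⟨n, hn _⟩⟩
  haveI : IsAffineHom H.hom := inferInstance
  obtain ⟨N, hN, hst, hmem⟩ := GrothLib.Repr.exists_stable ρ ({b₀} : Finset A)
  haveI := hN
  let J : Submodule k A :=
    { carrier := {b | ∃ a, a * b₀ = b * a₀}
      add_mem' := by
        rintro x y ⟨a, ha⟩ ⟨a', ha'⟩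
        exact ⟨a + a', by rw [add_mul, add_mul, ha, ha']⟩
      zero_mem' := ⟨0, by rw [zero_mul, zero_mul]⟩
      smul_mem' := by
        rintro c x ⟨a, ha⟩
        exact ⟨c • a, by rw [smul_mul_assoc, smul_mul_assoc, ha]⟩ }
  let U₀ : Submodule k N := J.comap N.subtype
  have hstab : ∀ g, ∀ w ∈ U₀, GrothLib.Induce27.kAct (GrothLib.Induce27.subGMod ρ N hst) g w ∈ U₀ := by
    intro g w hw
    show ∃ a, a * b₀ = _ * a₀
    rw [Submodule.subtype_apply, kAct_sub]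
    obtain ⟨a, ha⟩ := hw
    let φ := GrothLib.Induce27.kAct ρ g
    have e0 : φ a₀ * b₀ = VecGrp.chiVal χ g • (a₀ * φ b₀) := by
      have e := hχ k g
      rw [GrothLib.Induce27.rho_one_tmul, GrothLib.Induce27.rho_one_tmul, Algebra.TensorProduct.tmul_mul_tmul,
        Algebra.TensorProduct.tmul_mul_tmul, _root_.one_mul, TensorProduct.smul_tmul'] at e
      simpa using congrArg (TensorProduct.lid k A) e
    have hφ0 : φ b₀ ≠ 0 := fun h => hb₀ (by
      rw [← GrothLib.Induce27.kAct_one ρ b₀, ← inv_mul_cancel g, GrothLib.Induce27.kAct_mul]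
      exact (congrArg _ h).trans (map_zero _))
    have e1 : φ a * φ b₀ = φ (w : A) * φ a₀ := by
      show GrothLib.Induce27.kAct ρ g a * _ = _
      rw [← kAct_map_mul hρ, ← kAct_map_mul hρ, ha]
      rfl
    have e2 : φ a * b₀ = VecGrp.chiVal χ g • (φ (w : A) * a₀) := by
      refine mul_right_cancel₀ hφ0 ?_
      rw [mul_right_comm, e1, _root_.mul_assoc, e0, mul_smul_comm, smul_mul_assoc, _root_.mul_assoc]
    refine ⟨VecGrp.chiVal χ⁻¹ g • φ a, ?_⟩
    rw [smul_mul_assoc, e2, smul_smul, GrothLib.Induce27.chiVal_inv_mul, one_smul]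
  have hne : U₀ ≠ ⊥ :=
    (Submodule.ne_bot_iff _).2 ⟨⟨b₀, hmem _ (Finset.mem_singleton_self b₀)⟩,
      ⟨a₀, mul_comm _ _⟩, fun h => hb₀ (congrArg Subtype.val h)⟩
  obtain ⟨w, hwU, hw0, hw⟩ := GrothLib.Induce27.exists_eigen_gmod (GrothLib.Induce27.subGMod ρ N hst) U₀ hstab hne
  obtain ⟨a, ha⟩ := hwU
  have hb : (w : A) ≠ 0 := fun h => hw0 (Subtype.ext h)
  obtain ⟨ψ, hψm, hψ⟩ := exists_char_of_eigen ρ hb (fun g => by
    obtain ⟨c, hc⟩ := hw g
    exact ⟨c, by rw [← kAct_sub ρ N hst, hc]; rfl⟩)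
  haveI := hψm
  have hA : ∀ (B : Type u) [CommRing B] [Algebra k B] (h : VecGrp.pt k B ⟶ H),
      ρ.ρ B h ((1 : B) ⊗ₜ[k] a) = (VecGrp.chiVal ψ h * VecGrp.chiVal χ h) • ((1 : B) ⊗ₜ[k] a) := by
    intro B _ _ h
    refine sub_eq_zero.1 (eq_zero_of_mul_rho hρ hb₀ h ?_)
    have ha' : ((1 : B) ⊗ₜ[k] a) * ((1 : B) ⊗ₜ[k] b₀) = ((1 : B) ⊗ₜ[k] (w : A)) * ((1 : B) ⊗ₜ[k] a₀) := by
      rw [Algebra.TensorProduct.tmul_mul_tmul, Algebra.TensorProduct.tmul_mul_tmul, ha]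
      rfl
    have e1 : ρ.ρ B h ((1 : B) ⊗ₜ[k] a) * ρ.ρ B h ((1 : B) ⊗ₜ[k] b₀) =
        (VecGrp.chiVal ψ h • ((1 : B) ⊗ₜ[k] (w : A))) * ρ.ρ B h ((1 : B) ⊗ₜ[k] a₀) := by
      rw [← hψ, ← (hρ B h).1, ← (hρ B h).1, ha']
    rw [sub_mul, sub_eq_zero, ← _root_.mul_assoc, e1, _root_.mul_assoc, hχ, smul_mul_assoc, smul_mul_assoc, mul_smul_comm,
      smul_smul, ← _root_.mul_assoc, ← ha']
    congr 1
    ring
  have hUψ : uH ≫ ψ = 1 := hun.char_eq_one _
  have hUχ : uH ≫ χ = 1 := hun.char_eq_one _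
  have hcomp : ∀ {T : Over (Spec (CommRingCat.of k))} (j : T ⟶ H) (φ : H ⟶ Red.Gm (Spec (CommRingCat.of k))) (B : Type u) [CommRing B] [Algebra k B]
      (t : VecGrp.pt k B ⟶ T), VecGrp.chiVal φ (t ≫ j) = VecGrp.chiVal (j ≫ φ) t := fun j φ B _ _ t => by
    simp only [VecGrp.chiVal, Category.assoc]
  haveI := hT.1
  refine ⟨a, w, fun B _ _ h => ?_, fun B _ _ h => ?_, hb, ha, iT ≫ ψ, inferInstance, fun B _ _ t => ?_, fun B _ _ t => ?_⟩
  · rw [hA, hcomp, hcomp, hUψ, hUχ, chiVal_one, _root_.one_mul, one_smul]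
  · rw [hψ, hcomp, hUψ, chiVal_one, one_smul]
  · rw [hψ, hcomp]
  · rw [hA, ← hcomp iT ψ]

end Groth.Agent.S11246
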