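import Groth.Statements.S1125
import Groth.Agent.Lib.QuasiFlat.Immersion

set_option autoImplicit false
open CategoryTheory CategoryTheory.Limits AlgebraicGeometry Opposite
universe u
open Desc

namespace Groth.Agent.S1125

/-- If the base change of a morphism along a flat, surjective morphism locally of finite presentation is
an immersion, then the morphism is an immersion. (Single-cover form of the fppf-local statement;
Zariski-locality on the target gives the covering form.) -/
theorem result :
    MorphismProperty.DescendsAlong (@IsImmersion : MorphismProperty Scheme.{u})
      (@Surjective ⊓ @Flat ⊓ @LocallyOfFinitePresentation : MorphismProperty Scheme.{u}) := by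
  exact GrothLib.QuasiFlat.descendsAlong_immersion_fppf

end Groth.Agent.S1125
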