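import Groth.Statements.S11251
import Groth.Agent.Lib.SMT.Enum

set_option autoImplicit false
universe u
open W4bk4grassmannian

namespace Groth.Agent.S11251

open W4bk4grassmannian in
/-- Let K be a commutative ring, d, n natural numbers, S = K[X_θ : θ ∈ I(d,n)] the Plücker polynomial
ring on the strictly increasing maps Fin d → Fin n (ordered entrywise), and I ⊆ S the ideal
generated by the quadratic shuffle relations at pivots. Then the classes in S/I of the standard
monomials, the products X_{τ_1} ⋯ X_{τ_m} over all m ≥ 0 and all chains τ_1 ≥ ⋯ ≥ τ_m, span S/I as a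
K-module. (The published statement is over an algebraically closed field; this row allows any
commutative ring K, the straightening argument being formal.) -/
theorem result (K : Type u) [CommRing K] (d n : ℕ) :
    Submodule.span K (Set.range fun c : (Σ m : ℕ, {c : Fin m → Idx d n // Antitone c}) =>
        Ideal.Quotient.mk (plIdealTop (d := d) (n := n) K) (chainMon K c.2.1)) = ⊤ := by
  rw [eq_top_iff]
  intro x _
  obtain ⟨f, rfl⟩ := Ideal.Quotient.mk_surjective x
  obtain ⟨l, hl⟩ := GrothLib.SMT.exists_std_expansion K (fun _ : Idx d n => True) f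
  have htop : GrothLib.SMT.plD K (fun _ : Idx d n => True) = plIdealTop (d := d) (n := n) K := by
    rw [GrothLib.SMT.plD, sup_eq_left, Ideal.span_le]
    rintro g ⟨φ, hφ, -⟩
    exact absurd trivial hφ
  rw [htop] at hl
  rw [(Ideal.Quotient.mk_eq_mk_iff_sub_mem _ _).mpr hl, Finsupp.linearCombination_apply,
    map_finsuppSum]
  refine Submodule.sum_mem _ fun s _ => ?_
  obtain ⟨c, hc, he⟩ := s.2.1.exists_antitone
  dsimp only
  rw [← Ideal.Quotient.mkₐ_eq_mk K, map_smul]
  refine Submodule.smul_mem _ _ (Submodule.subset_span ?_)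
  refine ⟨(⟨s.1.card, c, hc⟩ : Σ m : ℕ, {c : Fin m → Idx d n // Antitone c}), ?_⟩
  show Ideal.Quotient.mk _ _ = _
  rw [GrothLib.SMT.chainMon_eq_mon, he]
  rfl

end Groth.Agent.S11251
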