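import Groth.Statements.S11252
import Groth.Agent.Lib.SMT.Union
import Groth.Agent.Lib.SMT.Enum

set_option autoImplicit false
universe u
open W4bk4grassmannian

namespace Groth.Agent.S11252

open W4bk4grassmannian in
/-- Standard monomial basis for a union of Schubert varieties: let K be an algebraically closed field, 0
< d < n, and I(d,n) the strictly increasing maps Fin d → Fin n ordered entrywise; S = K[X_θ : θ ∈
I(d,n)] is the Plücker polynomial ring and, for τ ∈ I(d,n), J(τ) ⊆ S is the ideal of polynomials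
vanishing at the d × d row-minors of every n × d matrix over K whose minors on rows φ ≰ τ are zero
(the homogeneous ideal of the Schubert variety X(τ) ⊆ G(d,n)). Let τ_1, …, τ_r ∈ I(d,n) and let J =
⋂_i J(τ_i) be the homogeneous ideal of the union ⋃_i X(τ_i). Then the classes in S/J of the
monomials X_{θ_1} ⋯ X_{θ_m} (m ≥ 0) along chains θ_1 ≥ ⋯ ≥ θ_m all of whose members lie below some
τ_i are linearly independent over K and span S/J. -/
theorem result (K : Type u) [Field K] [IsAlgClosed K] (d n : ℕ)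
    (hd : 0 < d) (hdn : d < n) (r : ℕ) (τs : Fin r → Idx d n) :
    LinearIndependent K (fun c : (Σ m : ℕ, {c : Fin m → Idx d n // Antitone c ∧ ∃ i, ∀ k, c k ≤ τs i}) =>
        Ideal.Quotient.mk (⨅ i, schubertVanishing K d n (τs i)) (chainMon K c.2.1)) ∧
      Submodule.span K (Set.range fun c : (Σ m : ℕ, {c : Fin m → Idx d n // Antitone c ∧ ∃ i, ∀ k, c k ≤ τs i}) =>
        Ideal.Quotient.mk (⨅ i, schubertVanishing K d n (τs i)) (chainMon K c.2.1)) = ⊤ := by
  classical
  rcases Nat.eq_zero_or_pos r with rfl | hr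
  · have hempty : IsEmpty (Σ m : ℕ, {c : Fin m → Idx d n // Antitone c ∧ ∃ i, ∀ k, c k ≤ τs i}) :=
      ⟨fun c => c.2.2.2.choose.elim0⟩
    refine ⟨linearIndependent_empty_type, ?_⟩
    have : Subsingleton (PlRing K d n ⧸ ⨅ i, schubertVanishing K d n (τs i)) := by
      rw [Ideal.Quotient.subsingleton_iff]
      simp [iInf_of_empty]
    exact Subsingleton.elim _ _
  have : Nonempty (Fin r) := ⟨⟨0, hr⟩⟩
  let q : Idx d n → Prop := fun θ => ∃ i, θ ≤ τs i
  have hJ : ⨅ i, schubertVanishing K d n (τs i) = GrothLib.SMT.plD K q :=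
    GrothLib.SMT.iInf_schubertVanishing hd τs
  let g : (Σ m : ℕ, {c : Fin m → Idx d n // Antitone c ∧ ∃ i, ∀ k, c k ≤ τs i}) →
      GrothLib.SMT.StdM q := fun c => ⟨GrothLib.SMT.tupleMs c,
    GrothLib.SMT.isStd_map_of_antitone c.2.2.1, fun θ hθ => by
      obtain ⟨k, -, rfl⟩ := Multiset.mem_map.1 hθ
      obtain ⟨i, hi⟩ := c.2.2.2
      exact ⟨i, hi k⟩⟩
  have hg : Function.Bijective g := by
    refine ⟨fun a b h => GrothLib.SMT.tupleMs_injective (fun m c hc => hc.1) (congrArg Subtype.val h), ?_⟩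
    intro s
    obtain ⟨c, hc, he⟩ := s.2.1.exists_antitone
    obtain ⟨i, hi⟩ := GrothLib.SMT.chain_cover s.2
    have hmem : ∀ k, c k ∈ s.1 := fun k => by
      have := Multiset.mem_map_of_mem c (Finset.mem_def.1 (Finset.mem_univ k))
      rwa [he] at this
    exact ⟨⟨_, c, hc, i, fun k => hi _ (hmem k)⟩, Subtype.ext he⟩
  rw [hJ]
  have hfun : (fun c : (Σ m : ℕ, {c : Fin m → Idx d n // Antitone c ∧ ∃ i, ∀ k, c k ≤ τs i}) =>
      Ideal.Quotient.mk (GrothLib.SMT.plD K q) (chainMon K c.2.1)) =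
      (fun s : GrothLib.SMT.StdM q => Ideal.Quotient.mk (GrothLib.SMT.plD K q) (GrothLib.SMT.mon K s.1)) ∘ g := by
    funext c
    simp only [Function.comp_apply, g, GrothLib.SMT.tupleMs, GrothLib.SMT.chainMon_eq_mon]
  rw [hfun]
  refine ⟨LinearIndependent.comp ?_ g hg.1, ?_⟩
  · rw [linearIndependent_iff]
    intro l hl
    refine GrothLib.SMT.union_indep (fun i => GrothLib.SMT.compat_le (τs i)) hd
      (fun s hs => GrothLib.SMT.chain_cover hs) fun i => ?_
    refine GrothLib.SMT.plD_anti K (q' := q) (fun θ h => ⟨i, h⟩) (Ideal.Quotient.eq_zero_iff_mem.1 ?_)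
    rw [← hl, Finsupp.linearCombination_apply, Finsupp.linearCombination_apply, map_finsuppSum]
    rfl
  · rw [Set.range_comp, hg.2.range_eq, Set.image_univ, eq_top_iff]
    intro x _
    obtain ⟨f, rfl⟩ := Ideal.Quotient.mk_surjective x
    obtain ⟨l, hl⟩ := GrothLib.SMT.exists_std_expansion K q f
    rw [(Ideal.Quotient.mk_eq_mk_iff_sub_mem _ _).mpr hl, Finsupp.linearCombination_apply,
      map_finsuppSum]
    refine Submodule.sum_mem _ fun s _ => ?_
    dsimp only
    rw [← Ideal.Quotient.mkₐ_eq_mk K, map_smul]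
    exact Submodule.smul_mem _ _ (Submodule.subset_span (Set.mem_range_self (f := fun s : GrothLib.SMT.StdM q =>
      Ideal.Quotient.mkₐ K (GrothLib.SMT.plD K q) (GrothLib.SMT.mon K s.1)) s))

end Groth.Agent.S11252
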