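import Groth.Statements.S11253
import Groth.Agent.Lib.SMT.Basis

set_option autoImplicit false
universe u
open W4bk4grassmannian

namespace Groth.Agent.S11253

open W4bk4grassmannian in
/-- Intersections of Schubert varieties are reduced: let K be an algebraically closed field, 0 < d < n,
and I(d,n) the strictly increasing maps Fin d → Fin n ordered entrywise; S = K[X_θ : θ ∈ I(d,n)] is
the Plücker polynomial ring and, for τ ∈ I(d,n), J(τ) ⊆ S is the ideal of polynomials vanishing at
the d × d row-minors of every n × d matrix over K whose minors on rows φ ≰ τ are zero (the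
homogeneous ideal of the Schubert variety X(τ) ⊆ G(d,n)). Then for all w₁, w₂ ∈ I(d,n) the ideal
J(w₁) + J(w₂) of S is radical. -/
theorem result (K : Type u) [Field K] [IsAlgClosed K] (d n : ℕ)
    (hd : 0 < d) (hdn : d < n) (w₁ w₂ : Idx d n) :
    (schubertVanishing K d n w₁ ⊔ schubertVanishing K d n w₂).IsRadical := by
  have key : schubertVanishing K d n w₁ ⊔ schubertVanishing K d n w₂ =
      GrothLib.SMT.plD K (· ≤ W4bk4grassmannian.inf w₁ w₂) := by
    rw [GrothLib.SMT.schubertVanishing_eq hd, GrothLib.SMT.schubertVanishing_eq hd]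
    have hle : ∀ θ : Idx d n, θ ≤ W4bk4grassmannian.inf w₁ w₂ ↔ θ ≤ w₁ ∧ θ ≤ w₂ := by
      intro θ
      exact ⟨fun h => ⟨fun t => (h t).trans (min_le_left _ _), fun t => (h t).trans (min_le_right _ _)⟩,
        fun h t => le_min (h.1 t) (h.2 t)⟩
    refine le_antisymm (sup_le (GrothLib.SMT.plD_anti K fun θ h => ((hle θ).1 h).1)
      (GrothLib.SMT.plD_anti K fun θ h => ((hle θ).1 h).2)) (sup_le ?_ ?_)
    · exact le_sup_of_le_left (GrothLib.SMT.plIdealTop_le_plD K _)
    · rw [Ideal.span_le]
      rintro f ⟨φ, hφ, rfl⟩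
      by_cases h1 : φ ≤ w₁
      · exact Ideal.mem_sup_right (GrothLib.SMT.X_mem_plD K fun h2 => hφ ((hle φ).2 ⟨h1, h2⟩))
      · exact Ideal.mem_sup_left (GrothLib.SMT.X_mem_plD K h1)
  rw [key]
  exact ((GrothLib.SMT.compat_le _).isPrime hd).isRadical

end Groth.Agent.S11253
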