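import Groth.Statements.S11254
import Groth.Agent.Lib.SMT.Union
import Groth.Agent.Lib.SMT.Poset

set_option autoImplicit false
universe u
open W4bk4grassmannian

namespace Groth.Agent.S11254

open W4bk4grassmannian in
/-- Let K be an algebraically closed field, 0 < d < n, and I(d,n) the strictly increasing maps Fin d →
Fin n ordered entrywise; S = K[X_θ : θ ∈ I(d,n)] is the Plücker polynomial ring and, for τ ∈ I(d,n),
J(τ) ⊆ S is the ideal of polynomials vanishing at the d × d row-minors of every n × d matrix over K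
whose minors on rows φ ≰ τ are zero (the homogeneous ideal of the Schubert variety X(τ) ⊆ G(d,n)).
Let τ ∈ I(d,n) admit some φ < τ (X(τ) has positive dimension). Then J(τ) + (X_τ) = ⋂_φ J(φ), the
intersection over the Schubert divisors φ of τ, i.e. the φ < τ with Σ_t (φ_t - t) + 1 = Σ_t (τ_t -
t). (For the zero-dimensional Schubert variety there is no divisor and the left side is the
irrelevant ideal, so positive dimension is required at the level of ideals.) -/
theorem result (K : Type u) [Field K] [IsAlgClosed K]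
    (d n : ℕ) (hd : 0 < d) (hdn : d < n) (τ : Idx d n) (hτ : ∃ φ : Idx d n, φ < τ) :
    schubertVanishing K d n τ ⊔ Ideal.span {MvPolynomial.X τ} =
      ⨅ φ ∈ divisors τ, schubertVanishing K d n φ := by
  obtain ⟨φ₀, hφ₀⟩ := hτ
  obtain ⟨ψ, hψ, -⟩ := GrothLib.SMT.exists_divisor_ge hφ₀
  have : Nonempty {φ // φ ∈ divisors τ} := ⟨⟨ψ, hψ⟩⟩
  have hq : ∀ θ : Idx d n, (θ ≤ τ ∧ θ ≠ τ) ↔ ∃ i : {φ // φ ∈ divisors τ}, θ ≤ i.1 := by
    intro θ
    constructor
    · rintro ⟨h1, h2⟩
      obtain ⟨φ, hφ, hle⟩ := GrothLib.SMT.exists_divisor_ge (lt_of_le_of_ne h1 h2)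
      exact ⟨⟨φ, hφ⟩, hle⟩
    · rintro ⟨⟨φ, hφ⟩, hle⟩
      exact ⟨hle.trans hφ.1.le, fun e => absurd ((e ▸ hle : τ ≤ φ).trans_lt hφ.1) (lt_irrefl _)⟩
  rw [GrothLib.SMT.schubertVanishing_eq hd, GrothLib.SMT.plD_sup_span_singleton, iInf_subtype',
    GrothLib.SMT.iInf_schubertVanishing hd (fun i : {φ // φ ∈ divisors τ} => i.1)]
  exact congrArg _ (funext fun θ => propext (hq θ))

end Groth.Agent.S11254
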