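import Groth.Statements.S11257
import Mathlib.RingTheory.Regular.RegularSequence
import Mathlib.LinearAlgebra.Quotient.Basic

set_option autoImplicit false
universe u
open W4bk4grassmannian

namespace Groth.Agent.S11257

open RingTheory.Sequence in
theorem map_injective_of_regular {A : Type u} [CommRing A] {M N P : Type u} [AddCommGroup M] [Module A M]
    [AddCommGroup N] [Module A N] [AddCommGroup P] [Module A P] {r : A} {f : M →ₗ[A] N} {g : N →ₗ[A] P}
    (hf : Function.Injective f) (h : Function.Exact f g) (hr : IsSMulRegular P r) :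
    Function.Injective (QuotSMulTop.map r f) := by
  rw [injective_iff_map_eq_zero]
  intro x hx
  obtain ⟨x, rfl⟩ := Submodule.Quotient.mk_surjective _ x
  rw [QuotSMulTop.map_apply_mk, Submodule.Quotient.mk_eq_zero, Submodule.mem_smul_pointwise_iff_exists] at hx
  obtain ⟨n, -, hn⟩ := hx
  have h1 : g n = 0 := hr (by
    show r • g n = r • (0 : P)
    rw [← map_smul, hn, h.apply_apply_eq_zero, smul_zero])
  obtain ⟨m, rfl⟩ := (h n).1 h1
  rw [Submodule.Quotient.mk_eq_zero, Submodule.mem_smul_pointwise_iff_exists]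
  exact ⟨m, trivial, hf (by rw [map_smul, hn])⟩

open RingTheory.Sequence in
theorem isWeaklyRegular_left {A : Type u} [CommRing A] : ∀ (rs : List A) {M N P : Type u} [AddCommGroup M]
    [Module A M] [AddCommGroup N] [Module A N] [AddCommGroup P] [Module A P] (f : M →ₗ[A] N) (g : N →ₗ[A] P),
    Function.Injective f → Function.Exact f g → Function.Surjective g → IsWeaklyRegular N rs →
    IsWeaklyRegular P (rs.take (rs.length - 1)) → IsWeaklyRegular M rs := by
  intro rs
  induction rs with
  | nil => intros; exact IsWeaklyRegular.nil A _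
  | cons r rs ih =>
    intro M N P _ _ _ _ _ _ f g hf h hg hN hP
    rw [isWeaklyRegular_cons_iff] at hN ⊢
    refine ⟨hN.1.of_injective f hf, ?_⟩
    cases rs with
    | nil => exact IsWeaklyRegular.nil A _
    | cons s rs =>
      have hP' : IsWeaklyRegular P (r :: (s :: rs).take ((s :: rs).length - 1)) := by simpa using hP
      rw [isWeaklyRegular_cons_iff] at hP'
      exact ih (QuotSMulTop.map r f) (QuotSMulTop.map r g) (map_injective_of_regular hf h hP'.1)
        (QuotSMulTop.map_exact r h hg) (QuotSMulTop.map_surjective r hg) hN.2 hP'.2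

open RingTheory.Sequence in
theorem isWeaklyRegular_middle {A : Type u} [CommRing A] : ∀ (rs : List A) {M N P : Type u} [AddCommGroup M]
    [Module A M] [AddCommGroup N] [Module A N] [AddCommGroup P] [Module A P] (f : M →ₗ[A] N) (g : N →ₗ[A] P),
    Function.Injective f → Function.Exact f g → Function.Surjective g → IsWeaklyRegular M rs →
    IsWeaklyRegular P rs → IsWeaklyRegular N rs := by
  intro rs
  induction rs with
  | nil => intros; exact IsWeaklyRegular.nil A _
  | cons r rs ih =>
    intro M N P _ _ _ _ _ _ f g hf h hg hM hP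
    rw [isWeaklyRegular_cons_iff] at hM hP ⊢
    refine ⟨isSMulRegular_iff_right_eq_zero_of_smul.2 fun n hn => ?_, ?_⟩
    · obtain ⟨m, rfl⟩ := (h n).1 (hP.1 (by
        show r • g n = r • (0 : P)
        rw [← map_smul, hn, map_zero, smul_zero]))
      have : m = 0 := hM.1 (by
        show r • m = r • (0 : M)
        rw [smul_zero]
        exact hf (by rw [map_smul, hn, map_zero]))
      rw [this, map_zero]
    · exact ih (QuotSMulTop.map r f) (QuotSMulTop.map r g) (map_injective_of_regular hf h hP.1)
        (QuotSMulTop.map_exact r h hg) (QuotSMulTop.map_surjective r hg) hM.2 hP.2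

/-- Let A be a Noetherian local integral domain with maximal ideal m, I and J ideals of A, d ≥ 1, and
f_1, …, f_d ∈ m. Assume depth A/(I+J) ≥ d - 1, depth A/I ≥ d and depth A/J ≥ d (depths of the
quotients as A-modules), that f_1, …, f_d is a regular sequence on A/I and on A/J, and that f_1, …,
f_{d-1} is a regular sequence on A/(I+J). Then f_1, …, f_d is a regular sequence on A/(I ∩ J). -/
theorem result (A : Type u) [CommRing A] [IsDomain A]
    [IsNoetherianRing A] [IsLocalRing A] (I J : Ideal A) (d : ℕ) (hd : 0 < d) (f : Fin d → A)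
    (hf : ∀ k, f k ∈ IsLocalRing.maximalIdeal A)
    (hIJd : ((d - 1 : ℕ) : ℕ∞) ≤ LocCoh.depth A (A ⧸ (I ⊔ J)))
    (hId : (d : ℕ∞) ≤ LocCoh.depth A (A ⧸ I)) (hJd : (d : ℕ∞) ≤ LocCoh.depth A (A ⧸ J))
    (hI : RingTheory.Sequence.IsRegular (A ⧸ I) (List.ofFn f))
    (hJ : RingTheory.Sequence.IsRegular (A ⧸ J) (List.ofFn f))
    (hIJ : RingTheory.Sequence.IsRegular (A ⧸ (I ⊔ J)) ((List.ofFn f).take (d - 1))) :
    RingTheory.Sequence.IsRegular (A ⧸ (I ⊓ J)) (List.ofFn f) := by
  set rs := List.ofFn f with hrs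
  let g1 : A ⧸ J →ₗ[A] A ⧸ (I ⊔ J) := Submodule.factor le_sup_right
  let g2 : A ⧸ (I ⊓ J) →ₗ[A] A ⧸ I := Submodule.factor inf_le_left
  let h2 : A ⧸ (I ⊓ J) →ₗ[A] A ⧸ J := Submodule.factor inf_le_right
  have hg1 : Function.Surjective g1 := Submodule.factor_surjective le_sup_right
  have hg2 : Function.Surjective g2 := Submodule.factor_surjective inf_le_left
  have hmaps : ∀ x ∈ LinearMap.ker g2, h2 x ∈ LinearMap.ker g1 := by
    intro x hx
    obtain ⟨a, rfl⟩ := Submodule.Quotient.mk_surjective _ x
    have hx' : a ∈ I := (Submodule.Quotient.mk_eq_zero I).1 hx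
    exact (Submodule.Quotient.mk_eq_zero (I ⊔ J)).2 (Submodule.mem_sup_left hx')
  have hbij : Function.Bijective (h2.restrict hmaps) := by
    constructor
    · rw [injective_iff_map_eq_zero]
      rintro ⟨x, hx⟩ h0
      obtain ⟨a, rfl⟩ := Submodule.Quotient.mk_surjective _ x
      have h1 := congrArg Subtype.val h0
      exact Subtype.ext ((Submodule.Quotient.mk_eq_zero _).2
        ⟨(Submodule.Quotient.mk_eq_zero I).1 hx, (Submodule.Quotient.mk_eq_zero J).1 h1⟩)
    · rintro ⟨y, hy⟩
      obtain ⟨a, rfl⟩ := Submodule.Quotient.mk_surjective _ y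
      obtain ⟨i, hi, j, hj, rfl⟩ := Submodule.mem_sup.1 ((Submodule.Quotient.mk_eq_zero (I ⊔ J)).1 hy)
      refine ⟨⟨Submodule.Quotient.mk i, (Submodule.Quotient.mk_eq_zero I).2 hi⟩, Subtype.ext ?_⟩
      exact (Submodule.Quotient.eq J).2 (by simpa using J.neg_mem hj)
  have hker : RingTheory.Sequence.IsWeaklyRegular (LinearMap.ker g1) rs :=
    isWeaklyRegular_left rs (LinearMap.ker g1).subtype g1 Subtype.val_injective
      (LinearMap.exact_subtype_ker_map g1) hg1 hJ.1 (by simpa [hrs] using hIJ.1)
  have hker2 : RingTheory.Sequence.IsWeaklyRegular (LinearMap.ker g2) rs :=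
    ((LinearEquiv.ofBijective (h2.restrict hmaps) hbij).isWeaklyRegular_congr rs).2 hker
  have hmid := isWeaklyRegular_middle rs (LinearMap.ker g2).subtype g2 Subtype.val_injective
    (LinearMap.exact_subtype_ker_map g2) hg2 hker2 hI.1
  have : Nontrivial (A ⧸ I) := hI.nontrivial
  have : Nontrivial (A ⧸ (I ⊓ J)) := Function.Surjective.nontrivial hg2
  refine (IsLocalRing.isRegular_iff_isWeaklyRegular_of_subset_maximalIdeal (fun r hr => ?_)).2 hmid
  obtain ⟨k, rfl⟩ := List.mem_ofFn.1 hr
  exact hf k

end Groth.Agent.S11257
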