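import Groth.Statements.S1126
import Groth.Agent.Lib.Frob.Basic
import Mathlib.AlgebraicGeometry.Morphisms.FlatDescent
open CategoryTheory.Limits

set_option autoImplicit false
open CategoryTheory CategoryTheory.Limits AlgebraicGeometry Opposite
universe u
open Desc

namespace Groth.Agent.S1126

/-- If the base change of a morphism along a quasi-compact flat surjective morphism to its target is a
universal homeomorphism, then the morphism is a universal homeomorphism. (Stated for a single
quasi-compact flat surjective base change; combined with Zariski-locality on the target this gives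
the fpqc-local form.) -/
theorem result :
    MorphismProperty.DescendsAlong (FlatMor.IsUnivHomeo.{u})
      (@Surjective ⊓ @Flat ⊓ @QuasiCompact : MorphismProperty Scheme.{u}) := by
  constructor
  intro A X Y Z fst snd f g hpb hQ hfst
  obtain ⟨h1, h2, h3⟩ := (GrothLib.Frob.isUnivHomeo_iff _).1 hfst
  have : UniversallyClosed g := MorphismProperty.of_isPullback_of_descendsAlong
    (Q := @Surjective ⊓ @Flat ⊓ @QuasiCompact) hpb hQ h1
  have : UniversallyInjective g := MorphismProperty.of_isPullback_of_descendsAlong
    (Q := @Surjective ⊓ @Flat ⊓ @QuasiCompact) hpb hQ h2
  have : Surjective g := MorphismProperty.of_isPullback_of_descendsAlong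
    (Q := @Surjective ⊓ @Flat ⊓ @QuasiCompact) hpb hQ h3
  exact GrothLib.Frob.isUnivHomeo_of g

end Groth.Agent.S1126
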