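import Groth.Statements.S11262
import Mathlib.Algebra.Order.Antidiag.FinsuppEquiv
import Mathlib.RingTheory.MvPolynomial.Ideal
import Mathlib.RingTheory.MvPolynomial.Homogeneous
import Mathlib.RingTheory.Ideal.Quotient.Operations
import Mathlib.LinearAlgebra.Dimension.Constructions

set_option autoImplicit false
universe u v
open W4bk4grassmannian

namespace Groth.Agent.S11262

open MvPolynomial in
theorem card_support_eq {L : Type v} [Fintype L] [DecidableEq L] (m : ℕ) (hm : 1 ≤ m) (C : Finset L)
    (hC : C.Nonempty) :
    (((Finset.univ : Finset L).finsuppAntidiag m).filter fun v : L →₀ ℕ => v.support = C).card =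
      Nat.choose (m - 1) (C.card - 1) := by
  classical
  let one : L →₀ ℕ := Finsupp.equivFunOnFinite.symm fun a => if a ∈ C then 1 else 0
  have hone : ∀ a, one a = if a ∈ C then 1 else 0 := fun a => rfl
  have hsum1 : Finset.univ.sum one = C.card := by simp [hone]
  by_cases hk : C.card ≤ m
  · have hb : (((Finset.univ : Finset L).finsuppAntidiag m).filter fun v : L →₀ ℕ => v.support = C) =
        (C.finsuppAntidiag (m - C.card)).map (addRightEmbedding one) := by
      ext v
      simp only [Finset.mem_filter, Finset.mem_finsuppAntidiag, Finset.subset_univ, and_true,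
        Finset.mem_map, addRightEmbedding_apply]
      constructor
      · rintro ⟨hv, rfl⟩
        have hle : one ≤ v := fun a => by
          rw [hone]
          split_ifs with h
          · exact Nat.pos_of_ne_zero (Finsupp.mem_support_iff.1 h)
          · exact Nat.zero_le _
        refine ⟨v - one, ⟨?_, ?_⟩, tsub_add_cancel_of_le hle⟩
        · have h1 : v.support.sum (v - one) + v.support.sum one = m := by
            rw [← Finset.sum_add_distrib, ← hv, ← Finset.sum_subset v.support.subset_univ
              (fun a _ ha => Finsupp.notMem_support_iff.1 ha)]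
            exact Finset.sum_congr rfl fun a _ => by
              have := hle a
              simp only [Finsupp.tsub_apply]
              omega
          have h2 : v.support.sum one = v.support.card := by
            rw [Finset.sum_congr rfl fun a ha => (hone a).trans (if_pos ha)]; simp
          omega
        · exact Finsupp.support_tsub
      · rintro ⟨u, ⟨hu, hsupp⟩, rfl⟩
        refine ⟨?_, ?_⟩
        · simp only [Finsupp.coe_add, Pi.add_apply, Finset.sum_add_distrib]
          rw [hsum1, ← Finset.sum_subset C.subset_univ (fun a _ ha => Finsupp.notMem_support_iff.1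
            (fun h => ha (hsupp h))), hu]
          omega
        · ext a
          simp only [Finsupp.mem_support_iff, Finsupp.coe_add, Pi.add_apply, hone]
          by_cases ha : a ∈ C
          · simp [ha]
          · simp [ha, Finsupp.notMem_support_iff.1 fun h => ha (hsupp h)]
    obtain ⟨k, hk'⟩ : ∃ k, C.card = k + 1 := ⟨C.card - 1, by have := hC.card_pos; omega⟩
    obtain ⟨j, rfl⟩ : ∃ j, m = k + 1 + j := ⟨m - (k + 1), by omega⟩
    rw [hb, Finset.card_map, Finset.card_finsuppAntidiag_nat_eq_choose, hk', Nat.add_sub_cancel_left,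
      Nat.add_sub_cancel, show k + 1 + j - 1 = k + j by omega]
    exact (Nat.choose_symm_add).symm
  · rw [Nat.choose_eq_zero_of_lt (by omega), Finset.card_eq_zero, Finset.filter_eq_empty_iff]
    intro v hv hC'
    rw [Finset.mem_finsuppAntidiag] at hv
    apply hk
    have h1 : v.support.card ≤ v.support.sum v := by
      rw [Finset.card_eq_sum_ones]
      exact Finset.sum_le_sum fun a ha => Nat.pos_of_ne_zero (Finsupp.mem_support_iff.1 ha)
    rw [hC', Finset.sum_subset C.subset_univ (fun a _ ha => Finsupp.notMem_support_iff.1 (hC' ▸ ha)), hv.1] at h1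
    exact h1

open MvPolynomial in
theorem finrank_eq {K : Type u} [Field K] {L : Type v} [DistribLattice L] [Fintype L] (m : ℕ) (hm : 1 ≤ m) :
    Module.finrank K ((MvPolynomial.homogeneousSubmodule L K m).map
        (Ideal.Quotient.mkₐ K (Ideal.span {f : MvPolynomial L K | ∃ a b : L, ¬ a ≤ b ∧ ¬ b ≤ a ∧
          f = MvPolynomial.X a * MvPolynomial.X b})).toLinearMap) =
      ∑ᶠ C : {C : Finset L // C.Nonempty ∧ IsChain (fun a b : L => a ≤ b) (↑C : Set L)},
        Nat.choose (m - 1) (C.1.card - 1) := by
  classical
  set I := Ideal.span {f : MvPolynomial L K | ∃ a b : L, ¬ a ≤ b ∧ ¬ b ≤ a ∧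
          f = MvPolynomial.X a * MvPolynomial.X b} with hI
  let B : Set (L →₀ ℕ) := {e | ∃ a b : L, ¬ a ≤ b ∧ ¬ b ≤ a ∧ e = Finsupp.single a 1 + Finsupp.single b 1}
  have hIeq : I = Ideal.span ((fun e => monomial e (1 : K)) '' B) := by
    rw [hI]
    congr 1
    ext f
    constructor
    · rintro ⟨a, b, h1, h2, rfl⟩
      exact ⟨_, ⟨a, b, h1, h2, rfl⟩, by simp [X, monomial_mul]⟩
    · rintro ⟨_, ⟨a, b, h1, h2, rfl⟩, rfl⟩
      exact ⟨a, b, h1, h2, by simp [X, monomial_mul]⟩
  have hbad : ∀ v : L →₀ ℕ, (∃ e ∈ B, e ≤ v) ↔ ¬ IsChain (fun a b : L => a ≤ b) (↑v.support : Set L) := by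
    intro v
    constructor
    · rintro ⟨_, ⟨a, b, h1, h2, rfl⟩, hle⟩ hch
      have ha : a ∈ v.support := Finsupp.mem_support_iff.2 fun e => by
        have := hle a; simp [e] at this
      have hb : b ∈ v.support := Finsupp.mem_support_iff.2 fun e => by
        have := hle b; simp [e] at this
      exact (hch ha hb (fun e => h1 e.le)).elim h1 h2
    · intro hch
      simp only [IsChain, Set.Pairwise, not_forall, not_or] at hch
      obtain ⟨a, ha, b, hb, hab, h1, h2⟩ := hch
      refine ⟨_, ⟨a, b, h1, h2, rfl⟩, fun x => ?_⟩
      rw [Finsupp.add_apply, Finsupp.single_apply, Finsupp.single_apply]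
      split_ifs with hxa hxb hxb
      · exact absurd (hxa.trans hxb.symm) hab
      · subst hxa; simpa [Nat.one_le_iff_ne_zero] using Finsupp.mem_support_iff.1 ha
      · subst hxb; simpa [Nat.one_le_iff_ne_zero] using Finsupp.mem_support_iff.1 hb
      · simp
  set Good := ((Finset.univ : Finset L).finsuppAntidiag m).filter
    fun v : L →₀ ℕ => IsChain (fun a b : L => a ≤ b) (↑v.support : Set L)
  let φ := (Ideal.Quotient.mkₐ K I).toLinearMap
  let b : {v // v ∈ Good} → MvPolynomial L K ⧸ I := fun v => φ (monomial v.1 1)
  have hdeg : ∀ v : L →₀ ℕ, v ∈ (Finset.univ : Finset L).finsuppAntidiag m ↔ Finset.univ.sum v = m :=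
    fun v => by simp [Finset.mem_finsuppAntidiag]
  have hli : LinearIndependent K b := by
    rw [Fintype.linearIndependent_iff]
    intro g hg v
    have h1 : ∑ w, g w • monomial w.1 (1 : K) ∈ I := by
      rw [← Ideal.Quotient.eq_zero_iff_mem]
      show φ _ = 0
      rw [map_sum]
      simpa [b, map_smul] using hg
    by_contra hne
    rw [hIeq, mem_ideal_span_monomial_image] at h1
    obtain ⟨e, he, hle⟩ := h1 v.1 (by
      rw [mem_support_iff, coeff_sum, Finset.sum_eq_single v]
      · simpa using hne
      · intro w _ hw
        rw [coeff_smul, coeff_monomial, if_neg (fun e => hw (Subtype.ext e)), smul_zero]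
      · simp)
    exact (hbad v.1).1 ⟨e, he, hle⟩ (Finset.mem_filter.1 v.2).2
  have hspan : (MvPolynomial.homogeneousSubmodule L K m).map φ = Submodule.span K (Set.range b) := by
    refine le_antisymm ?_ (Submodule.span_le.2 ?_)
    · rintro _ ⟨f, hf, rfl⟩
      rw [f.as_sum, map_sum]
      refine Submodule.sum_mem _ fun v hv => ?_
      by_cases hch : IsChain (fun a b : L => a ≤ b) (↑v.support : Set L)
      · have hvm : v ∈ Good := Finset.mem_filter.2 ⟨(hdeg v).2 (by
          have h := (mem_homogeneousSubmodule m f).1 hf (mem_support_iff.1 hv)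
          rw [Finsupp.weight_apply, Finsupp.sum_fintype _ _ (by simp)] at h
          simpa using h), hch⟩
        rw [show monomial v (coeff v f) = coeff v f • monomial v (1 : K) by rw [smul_monomial, smul_eq_mul, mul_one],
          map_smul]
        exact Submodule.smul_mem _ _ (Submodule.subset_span ⟨⟨v, hvm⟩, rfl⟩)
      · have : φ (monomial v (coeff v f)) = 0 := by
          refine Ideal.Quotient.eq_zero_iff_mem.2 ?_
          rw [hIeq, mem_ideal_span_monomial_image]
          intro x hx
          rw [Finset.mem_singleton.1 (support_monomial_subset hx)]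
          exact (hbad v).2 hch
        rw [this]
        exact Submodule.zero_mem _
    · rintro _ ⟨v, rfl⟩
      refine ⟨monomial v.1 1, (mem_homogeneousSubmodule _ _).2 (isHomogeneous_monomial _ ?_), rfl⟩
      have := (hdeg v.1).1 (Finset.mem_filter.1 v.2).1
      simp only [Finsupp.degree]
      rw [← this]
      exact Finset.sum_subset v.1.support.subset_univ fun a _ ha => Finsupp.notMem_support_iff.1 ha
  rw [hspan, finrank_span_eq_card hli, Fintype.card_coe, finsum_eq_sum_of_fintype]
  have hmaps : ∀ v ∈ Good, v.support.Nonempty := fun v hv => by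
    by_contra hc
    rw [Finset.not_nonempty_iff_eq_empty, Finsupp.support_eq_empty] at hc
    have := (hdeg v).1 (Finset.mem_filter.1 hv).1
    simp [hc] at this
    omega
  rw [← Finset.sum_subtype ((Finset.univ : Finset (Finset L)).filter
    fun C : Finset L => C.Nonempty ∧ IsChain (fun a b : L => a ≤ b) (↑C : Set L)) (by simp) (fun C : Finset L => Nat.choose (m - 1) (C.card - 1))]
  rw [Finset.card_eq_sum_card_fiberwise (f := fun v : L →₀ ℕ => v.support)
    (t := (Finset.univ : Finset (Finset L)).filter fun C : Finset L => C.Nonempty ∧ IsChain (fun a b : L => a ≤ b) (↑C : Set L))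
    (fun v hv => Finset.mem_filter.2 ⟨Finset.mem_univ _, hmaps v hv, (Finset.mem_filter.1 hv).2⟩)]
  refine Finset.sum_congr rfl fun C hC => ?_
  obtain ⟨hne, hch⟩ := (Finset.mem_filter.1 hC).2
  rw [← card_support_eq m hm C hne, Finset.filter_filter]
  congr 1
  refine Finset.filter_congr fun v _ => ⟨fun h => h.2, fun h => ⟨h ▸ hch, h⟩⟩

/-- Hilbert function of the Stanley–Reisner ring of a finite distributive lattice: let K be a field, L a
finite distributive lattice, R = K[x_α : α ∈ L], I ⊆ R the ideal generated by the products x_α x_β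
over the incomparable (skew) pairs α, β, and m ≥ 1. Then the image in R/I of the homogeneous
polynomials of degree m has K-dimension equal to the sum, over the nonempty chains C ⊆ L, of the
binomial coefficient (m - 1 choose |C| - 1). (The published statement is that the degree of R/I
equals the number of maximal chains of L; this row states the Hilbert function from which that
degree is read off.) -/
theorem result (K : Type u) [Field K] (L : Type v) [DistribLattice L]
    [Fintype L] (m : ℕ) (hm : 1 ≤ m) :
    Module.finrank K ((MvPolynomial.homogeneousSubmodule L K m).map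
        (Ideal.Quotient.mkₐ K (Ideal.span {f : MvPolynomial L K | ∃ a b : L, ¬ a ≤ b ∧ ¬ b ≤ a ∧
          f = MvPolynomial.X a * MvPolynomial.X b})).toLinearMap) =
      ∑ᶠ C : {C : Finset L // C.Nonempty ∧ IsChain (fun a b : L => a ≤ b) (↑C : Set L)},
        Nat.choose (m - 1) (C.1.card - 1) := by
  exact finrank_eq m hm

end Groth.Agent.S11262
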