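import Groth.Statements.S11264
import Groth.Agent.Lib.SMT.DetThm

set_option autoImplicit false
universe u
open W4bk4grassmannian

namespace Groth.Agent.S11264

open W4bk4grassmannian in
/-- Determinantal varieties are normal Cohen–Macaulay and integral, with their dimension: let K be an
algebraically closed field, m, n ≥ 1, 1 ≤ t ≤ min(m, n), R = K[x_{ij}] the coordinate ring of m × n
matrices and I_t ⊆ R the ideal generated by the t × t minors of the generic matrix. Then R/I_t is an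
integral domain, integrally closed, Cohen–Macaulay, and of Krull dimension (t - 1)(m + n - t + 1). -/
theorem result (K : Type u) [Field K] [IsAlgClosed K] (m n t : ℕ)
    (hm : 0 < m) (hn : 0 < n) (ht : 1 ≤ t) (htm : t ≤ m) (htn : t ≤ n) :
    IsDomain (MvPolynomial (Fin m × Fin n) K ⧸ CAlgX.minorIdeal (genMatrix K m n) t) ∧
      IsIntegrallyClosed (MvPolynomial (Fin m × Fin n) K ⧸ CAlgX.minorIdeal (genMatrix K m n) t) ∧
      LocCoh.IsCohenMacaulayRing (MvPolynomial (Fin m × Fin n) K ⧸ CAlgX.minorIdeal (genMatrix K m n) t) ∧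
      ringKrullDim (MvPolynomial (Fin m × Fin n) K ⧸ CAlgX.minorIdeal (genMatrix K m n) t) =
        (((t - 1) * (m + n - t + 1) : ℕ) : WithBot ℕ∞) := by
  have hp := GrothLib.SMT.minorIdeal_isPrime (K := K) (s := t - 1) hn (by omega : t - 1 ≤ n) (by omega : t - 1 ≤ m)
  have hc := GrothLib.SMT.det_cm_dim (K := K) (s := t - 1) hn (by omega : t - 1 ≤ n) (by omega : t - 1 ≤ m)
  have hn' := GrothLib.SMT.minorIdeal_isIntegrallyClosed (K := K) (s := t - 1) hn (by omega : t - 1 ≤ n) (by omega : t - 1 ≤ m)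
  rw [Nat.sub_add_cancel ht] at hp hc hn'
  refine ⟨Ideal.Quotient.isDomain _, hn', hc.1, hc.2.trans ?_⟩
  refine congrArg (fun k : ℕ => (k : WithBot ℕ∞)) ?_
  obtain ⟨s, rfl⟩ : ∃ s, t = s + 1 := ⟨t - 1, by omega⟩
  obtain ⟨a, rfl⟩ : ∃ a, n = s + a := ⟨n - s, by omega⟩
  obtain ⟨b, rfl⟩ : ∃ b, m = s + 1 + b := ⟨m - (s + 1), by omega⟩
  simp only [Nat.add_sub_cancel, Nat.add_sub_cancel_left]
  rw [show s + 1 + b + (s + a) - (s + 1) + 1 = b + s + a + 1 from by omega]
  ring

end Groth.Agent.S11264
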