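import Groth.Statements.S11267
import Groth.Agent.Lib.SMT.DetThm

set_option autoImplicit false
universe u
open W4bk4grassmannian

namespace Groth.Agent.S11267

open W4bk4grassmannian in
/-- Second Fundamental Theorem of invariant theory for the general linear group acting on pairs of
matrices: let K be an algebraically closed field and m, n, q natural numbers. The kernel of the
K-algebra map K[y_{ij}] → K[u_{ik}, ξ_{kj}] (coordinate rings of M_{m,q} and of M_{m,n} × M_{n,q})
sending y_{ij} to Σ_k u_{ik} ξ_{kj}, the (i, j) entry of the product matrix, is the ideal generated
by the (n + 1) × (n + 1) minors of the generic m × q matrix (y_{ij}). -/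
theorem result (K : Type u) [Field K] [IsAlgClosed K] (m n q : ℕ) :
    RingHom.ker (pairingMap K n m q).toRingHom = CAlgX.minorIdeal (genMatrix K m q) (n + 1) := by
  exact GrothLib.SMT.sft m n q

end Groth.Agent.S11267
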