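import Groth.Statements.S11268
import Groth.Agent.Lib.SMT.Poset

set_option autoImplicit false
open W4bk4grassmannian

namespace Groth.Agent.S11268

open W4bk4grassmannian in
/-- Let τ < w in I(d,n), the strictly increasing maps Fin d → Fin n ordered entrywise. Then there is a
Schubert divisor φ of w, i.e. φ < w with Σ_t (φ_t - t) + 1 = Σ_t (w_t - t), such that τ ≤ φ: every
proper Schubert subvariety of X(w) lies in a Schubert divisor of X(w). -/
theorem result (d n : ℕ) (τ w : Idx d n) (h : τ < w) :
    ∃ φ ∈ divisors w, τ ≤ φ := by
  exact GrothLib.SMT.exists_divisor_ge h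

end Groth.Agent.S11268
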