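import Groth.Statements.S11269
import Groth.Prelude.Def_CAlg
import Mathlib.RingTheory.Ideal.AssociatedPrime.Finiteness
import Mathlib.RingTheory.Localization.Module
import Mathlib.RingTheory.Localization.AtPrime.Basic
import Mathlib.RingTheory.KrullDimension.Basic
import Mathlib.RingTheory.Ideal.KrullsHeightTheorem

set_option autoImplicit false
universe u
open W4bk4grassmannian

namespace Groth.Agent.S11269

open IsLocalRing RingTheory.Sequence in
theorem sk_aux {R : Type u} [CommRing R] [IsDomain R] [IsNoetherianRing R] (p : Ideal R) [p.IsPrime] :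
    Module.supportDim (Localization.AtPrime p) (LocalizedModule p.primeCompl R) = (p.height : WithBot ℕ∞) ∧
    ∀ k : ℕ, (k : ℕ∞) + 1 ≤ LocCoh.depth (Localization.AtPrime p) (LocalizedModule p.primeCompl R) ↔
      ∃ rs : List (Localization.AtPrime p), rs.length = k + 1 ∧
        IsWeaklyRegular (Localization.AtPrime p) rs ∧ ∀ r ∈ rs, r ∈ maximalIdeal (Localization.AtPrime p) := by
  classical
  let e : LocalizedModule p.primeCompl R ≃ₗ[Localization.AtPrime p] Localization.AtPrime p :=
    (IsLocalizedModule.iso p.primeCompl (Algebra.linearMap R (Localization.AtPrime p))).extendScalarsOfIsLocalization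
      p.primeCompl (Localization.AtPrime p)
  refine ⟨?_, fun k => ?_⟩
  · rw [Module.supportDim_eq_of_equiv e, Module.supportDim_self_eq_ringKrullDim,
      IsLocalization.AtPrime.ringKrullDim_eq_height p (Localization.AtPrime p)]
  have : Nontrivial (LocalizedModule p.primeCompl R) := e.toEquiv.nontrivial
  have : Module.Finite (Localization.AtPrime p) (LocalizedModule p.primeCompl R) :=
    Module.Finite.equiv e.symm
  have hne : maximalIdeal (Localization.AtPrime p) •
      (⊤ : Submodule (Localization.AtPrime p) (LocalizedModule p.primeCompl R)) ≠ ⊤ :=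
    (Submodule.top_ne_ideal_smul_of_le_jacobson_annihilator
      ((maximalIdeal_le_jacobson _))).symm
  unfold LocCoh.depth LocCoh.idealDepth
  rw [if_neg hne]
  constructor
  · intro h
    by_contra hc
    push Not at hc
    have hle : (⨆ (rs : List (Localization.AtPrime p))
        (_ : IsWeaklyRegular (LocalizedModule p.primeCompl R) rs ∧ ∀ r ∈ rs, r ∈ maximalIdeal (Localization.AtPrime p)),
        (rs.length : ℕ∞)) ≤ k := by
      refine iSup₂_le fun rs hrs => ?_
      by_contra hlt
      push Not at hlt
      have hlen : k < rs.length := by exact_mod_cast hlt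
      have h1 : IsWeaklyRegular (Localization.AtPrime p) rs := (e.isWeaklyRegular_congr rs).1 hrs.1
      rw [← List.take_append_drop (k + 1) rs, isWeaklyRegular_append_iff] at h1
      obtain ⟨r, hr, hr'⟩ := hc (rs.take (k + 1)) (by simp; omega) h1.1
      exact hr' (hrs.2 r (List.mem_of_mem_take hr))
    have h2 := h.trans hle
    rw [← ENat.natCast_one, ← Nat.cast_add, Nat.cast_le] at h2
    omega
  · rintro ⟨rs, hlen, hreg, hmem⟩
    refine le_trans (le_of_eq ?_) (le_iSup₂ (f := fun (l : List (Localization.AtPrime p))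
      (_ : IsWeaklyRegular (LocalizedModule p.primeCompl R) l ∧ ∀ r ∈ l, r ∈ maximalIdeal (Localization.AtPrime p)) =>
      (l.length : ℕ∞)) rs ⟨(e.isWeaklyRegular_congr rs).2 hreg, hmem⟩)
    simp [hlen]

open IsLocalRing RingTheory.Sequence in
theorem sk_iff {R : Type u} [CommRing R] [IsDomain R] [IsNoetherianRing R] :
    LocCoh.HasSk 2 R R ↔
      ∀ a : R, a ≠ 0 → ∀ P : Ideal R, P ∈ associatedPrimes R (R ⧸ Ideal.span {a}) → P.height = 1 := by
  classical
  constructor
  · intro h a ha P hP
    rw [AssociatedPrimes.mem_iff, isAssociatedPrime_iff] at hP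
    obtain ⟨hPp, xb, hxb⟩ := hP
    obtain ⟨b, rfl⟩ := Ideal.Quotient.mk_surjective xb
    have hP' : ∀ r : R, r ∈ P ↔ r * b ∈ Ideal.span {a} := fun r => by
      rw [hxb, Submodule.mem_colon_singleton, Submodule.mem_bot, ← Ideal.Quotient.eq_zero_iff_mem]
      rfl
    have haP : a ∈ P := (hP' a).2 (Ideal.mul_mem_right _ _ (Ideal.mem_span_singleton_self a))
    have hne : P ≠ ⊥ := fun e => ha (by simpa [e] using haP)
    refine le_antisymm ?_ (ENat.one_le_iff_ne_zero.2 fun h0 => hne ?_)
    · by_contra hc
      push Not at hc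
      obtain ⟨hdim, hdepth⟩ := sk_aux P
      have h2 : ((2 : ℕ) : ℕ∞) ≤ LocCoh.depth (Localization.AtPrime P) (LocalizedModule P.primeCompl R) := by
        have h' := h P
        rw [hdim] at h'
        have h3 : ((2 : ℕ) : ℕ∞) ≤ P.height := by
          rw [show ((2 : ℕ) : ℕ∞) = 1 + 1 from rfl]
          exact Order.add_one_le_of_lt hc
        rw [min_eq_left (show ((2 : ℕ) : WithBot ℕ∞) ≤ (P.height : WithBot ℕ∞) from WithBot.coe_le_coe.2 h3)] at h'
        exact WithBot.coe_le_coe.1 h'
      obtain ⟨rs, hlen, hreg, hmem⟩ := (hdepth 1).1 (by exact_mod_cast h2)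
      obtain ⟨x, y, rfl⟩ : ∃ x y, rs = [x, y] := by
        match rs, hlen with
        | [x, y], _ => exact ⟨x, y, rfl⟩
      rw [isWeaklyRegular_cons_iff, isWeaklyRegular_singleton_iff] at hreg
      obtain ⟨hx, hy⟩ := hreg
      set ι := algebraMap R (Localization.AtPrime P)
      have hinj : Function.Injective ι :=
        IsLocalization.injective (Localization.AtPrime P) P.primeCompl_le_nonZeroDivisors
      have ha' : ι a ≠ 0 := (map_ne_zero_iff ι hinj).2 ha
      have hm : ∀ z ∈ maximalIdeal (Localization.AtPrime P), ∃ u, z * ι b = ι a * u := by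
        intro z hz
        rw [← Localization.AtPrime.map_eq_maximalIdeal] at hz
        have : z * ι b ∈ Ideal.span {ι a} := by
          refine Submodule.span_induction ?_ ?_ ?_ ?_ hz (p := fun z _ => z * ι b ∈ Ideal.span {ι a})
          · rintro _ ⟨r, hr, rfl⟩
            obtain ⟨c, hc⟩ := Ideal.mem_span_singleton'.1 ((hP' r).1 hr)
            rw [← map_mul, ← hc, map_mul]
            exact Ideal.mul_mem_left _ _ (Ideal.mem_span_singleton_self _)
          · simp
          · intro u v _ _ hu hv; rw [add_mul]; exact Ideal.add_mem _ hu hv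
          · intro c u _ hu; rw [smul_eq_mul, mul_assoc]; exact Ideal.mul_mem_left _ _ hu
        obtain ⟨c, hc⟩ := Ideal.mem_span_singleton'.1 this
        exact ⟨c, by rw [← hc, mul_comm]⟩
      obtain ⟨u, hu⟩ := hm x (hmem x (by simp))
      obtain ⟨v, hv⟩ := hm y (hmem y (by simp))
      have hx0 : x ≠ 0 := fun e => by
        have := hx (show x • (1 : Localization.AtPrime P) = x • 0 by simp [e])
        exact one_ne_zero this
      have h1 : y * u = x * v := mul_left_cancel₀ ha' (by
        rw [← mul_assoc, mul_comm (ι a) y, mul_assoc, ← hu, mul_left_comm, hv, mul_left_comm])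
      have h4 : (Submodule.Quotient.mk u : QuotSMulTop x (Localization.AtPrime P)) = 0 := by
        refine hy ?_
        show y • _ = y • (0 : QuotSMulTop x (Localization.AtPrime P))
        rw [smul_zero, ← Submodule.Quotient.mk_smul, Submodule.Quotient.mk_eq_zero, smul_eq_mul, h1]
        exact Submodule.smul_mem_pointwise_smul v x ⊤ trivial
      rw [Submodule.Quotient.mk_eq_zero, Submodule.mem_smul_pointwise_iff_exists] at h4
      obtain ⟨w, -, rfl⟩ := h4
      have h5 : ι b = ι a * w := mul_left_cancel₀ hx0 (by rw [hu, smul_eq_mul, mul_left_comm])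
      obtain ⟨⟨c, s⟩, hc⟩ := IsLocalization.surj P.primeCompl w
      have h6 : ι (b * (s : R)) = ι (a * c) := by rw [map_mul, map_mul, h5, mul_assoc, hc]
      exact s.2 ((hP' _).2 (Ideal.mem_span_singleton'.2 ⟨c, by rw [mul_comm (s : R), hinj h6, mul_comm]⟩))
    · exact Ideal.height_eq_zero_iff_eq_bot.1 h0
  · intro h p hp
    obtain ⟨hdim, hdepth⟩ := sk_aux p
    rw [hdim]
    set ι := algebraMap R (Localization.AtPrime p)
    have hinj : Function.Injective ι :=
      IsLocalization.injective (Localization.AtPrime p) p.primeCompl_le_nonZeroDivisors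
    have hmax : ∀ r ∈ p, ι r ∈ maximalIdeal (Localization.AtPrime p) := fun r hr =>
      (IsLocalization.AtPrime.to_map_mem_maximal_iff (Localization.AtPrime p) p r).2 hr
    have hreg1 : ∀ a : R, a ≠ 0 → IsSMulRegular (Localization.AtPrime p) (ι a) := fun a ha u v huv =>
      mul_left_cancel₀ ((map_ne_zero_iff ι hinj).2 ha) huv
    by_cases hbot : p = ⊥
    · subst hbot
      rw [Ideal.height_bot]
      exact le_trans (min_le_right _ _) (WithBot.coe_le_coe.2 bot_le)
    obtain ⟨a, hap, ha⟩ := Submodule.exists_mem_ne_zero_of_ne_bot hbot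
    by_cases h1 : p.height ≤ 1
    · refine (min_le_right _ _).trans (WithBot.coe_le_coe.2 (h1.trans ?_))
      have := (hdepth 0).2 ⟨[ι a], rfl, (isWeaklyRegular_singleton_iff _ _).2 (hreg1 a ha),
        by simpa using hmax a hap⟩
      simpa using this
    · refine (min_le_left _ _).trans ?_
      have hfin : (associatedPrimes R (R ⧸ Ideal.span {a})).Finite := associatedPrimes.finite R _
      obtain ⟨x, hxp, hx⟩ : ∃ x ∈ p, ∀ Q ∈ associatedPrimes R (R ⧸ Ideal.span {a}), x ∉ Q := by
        by_contra hc
        push Not at hc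
        have hsub : (p : Set R) ⊆ ⋃ Q ∈ (hfin.toFinset : Set (Ideal R)), (Q : Set R) := by
          intro x hx
          obtain ⟨Q, hQ, hxQ⟩ := hc x hx
          exact Set.mem_iUnion₂.2 ⟨Q, hfin.mem_toFinset.2 hQ, hxQ⟩
        obtain ⟨Q, hQ, hle⟩ := (Ideal.subset_union_prime ⊥ ⊥ (fun Q hQ _ _ => (hfin.mem_toFinset.1 hQ).isPrime)).1 hsub
        have hQ' := hfin.mem_toFinset.1 hQ
        have := hQ'.isPrime
        exact h1 ((Ideal.height_mono hle).trans (h a ha Q hQ').le)
      have hxr : ∀ z : R, x * z ∈ Ideal.span {a} → z ∈ Ideal.span {a} := by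
        intro z hz
        by_contra hz'
        have : x ∈ ⋃ Q ∈ associatedPrimes R (R ⧸ Ideal.span {a}), (Q : Set R) := by
          rw [biUnion_associatedPrimes_eq_zero_divisors]
          exact ⟨Ideal.Quotient.mk _ z, fun e => hz' (Ideal.Quotient.eq_zero_iff_mem.1 e),
            Ideal.Quotient.eq_zero_iff_mem.2 hz⟩
        obtain ⟨Q, hQ, hxQ⟩ := Set.mem_iUnion₂.1 this
        exact hx Q hQ hxQ
      have := (hdepth 1).2 ⟨[ι a, ι x], rfl, ?_, by simpa using ⟨hmax a hap, hmax x hxp⟩⟩
      · exact WithBot.coe_le_coe.2 this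
      rw [isWeaklyRegular_cons_iff, isWeaklyRegular_singleton_iff]
      refine ⟨hreg1 a ha, isSMulRegular_iff_right_eq_zero_of_smul.2 fun q hq => ?_⟩
      obtain ⟨u, rfl⟩ := Submodule.Quotient.mk_surjective _ q
      rw [← Submodule.Quotient.mk_smul, Submodule.Quotient.mk_eq_zero,
        Submodule.mem_smul_pointwise_iff_exists] at hq
      obtain ⟨w, -, hw⟩ := hq
      rw [smul_eq_mul, smul_eq_mul] at hw
      obtain ⟨⟨c, s⟩, hc⟩ := IsLocalization.surj p.primeCompl u
      obtain ⟨⟨c', s'⟩, hc'⟩ := IsLocalization.surj p.primeCompl w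
      have h2 : x * (c * s') = a * (c' * s) := hinj (by
        simp only [map_mul, ι] at hw ⊢
        rw [← hc, ← hc']
        linear_combination (algebraMap R (Localization.AtPrime p) s' * algebraMap R (Localization.AtPrime p) s) * (-hw))
      obtain ⟨e, he⟩ := Ideal.mem_span_singleton'.1 (hxr _ (Ideal.mem_span_singleton'.2 ⟨c' * s, by rw [h2, mul_comm]⟩))
      rw [Submodule.Quotient.mk_eq_zero, Submodule.mem_smul_pointwise_iff_exists]
      obtain ⟨i1, hi1⟩ := (IsLocalization.map_units (Localization.AtPrime p) s).exists_right_inv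
      obtain ⟨i2, hi2⟩ := (IsLocalization.map_units (Localization.AtPrime p) s').exists_right_inv
      refine ⟨ι e * i1 * i2, trivial, ?_⟩
      have h3 := congrArg ι he
      simp only [map_mul] at h3
      rw [← hc] at h3
      simp only [ι, smul_eq_mul] at h3 ⊢
      linear_combination (i1 * i2) * h3 + u * (algebraMap R (Localization.AtPrime p) s') * i2 * hi1 + u * hi2

/-- Let R be a Noetherian integral domain. Then R satisfies Serre's condition (S_2) (depth R_P ≥ min(2,
dim R_P) for all primes P) if and only if, for every nonzero a ∈ R, every associated prime of the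
R-module R/(a) has height one. -/
theorem result (R : Type u) [CommRing R] [IsDomain R]
    [IsNoetherianRing R] :
    LocCoh.HasSk 2 R R ↔
      ∀ a : R, a ≠ 0 → ∀ P : Ideal R, P ∈ associatedPrimes R (R ⧸ Ideal.span {a}) → P.height = 1 := by
  exact sk_iff

end Groth.Agent.S11269
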