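import Groth.Statements.S11270
import Groth.Agent.Lib.SMT.Union
import Groth.Agent.Lib.SMT.Poset

set_option autoImplicit false
universe u
open W4bk4grassmannian

namespace Groth.Agent.S11270

open W4bk4grassmannian in
/-- The least Plücker coordinate is a prime element on every Schubert variety: let K be an algebraically
closed field, 0 < d < n, and I(d,n) the strictly increasing maps Fin d → Fin n ordered entrywise; S
= K[X_θ : θ ∈ I(d,n)] is the Plücker polynomial ring and, for τ ∈ I(d,n), J(τ) ⊆ S is the ideal of
polynomials vanishing at the d × d row-minors of every n × d matrix over K whose minors on rows φ ≰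
τ are zero (the homogeneous ideal of the Schubert variety X(τ) ⊆ G(d,n)). Let w ∈ I(d,n) and let ι =
(0, 1, …, d - 1) be the least element of I(d,n), written (1, …, d) in 1-based indexing. Then the
class of X_ι in S/J(w) is a prime element; it generates the kernel of the restriction to the section
of X(w) by the opposite Schubert divisor. -/
theorem result (K : Type u) [Field K] [IsAlgClosed K] (d n : ℕ)
    (hd : 0 < d) (hdn : d < n) (w : Idx d n) :
    Prime (Ideal.Quotient.mk (schubertVanishing K d n w)
      (MvPolynomial.X (⟨fun t => ⟨t.val, lt_trans t.isLt hdn⟩, fun a b h => h⟩ : Idx d n))) := by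
  classical
  let bot : Idx d n := ⟨fun t => ⟨t.val, lt_trans t.isLt hdn⟩, fun a b h => h⟩
  show Prime (Ideal.Quotient.mk (schubertVanishing K d n w) (MvPolynomial.X bot))
  rw [GrothLib.SMT.schubertVanishing_eq hd]
  set J := GrothLib.SMT.plD K (· ≤ w)
  have hbot : ∀ θ : Idx d n, bot ≤ θ := fun θ t => GrothLib.SMT.strictMono_val_le θ.2 t
  have hne : Ideal.Quotient.mk J (MvPolynomial.X bot) ≠ 0 := by
    have hs : GrothLib.SMT.IsStdOn (· ≤ w) ({bot} : Multiset (Idx d n)) :=
      ⟨fun a ha b hb => by simp_all, fun θ hθ => by simp_all⟩
    have := ((GrothLib.SMT.compat_le w).basis (K := K) hd).ne_zero ⟨{bot}, hs⟩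
    rwa [GrothLib.SMT.Compat.basis_apply, GrothLib.SMT.mon_singleton] at this
  have hprime : (GrothLib.SMT.plD K (fun θ : Idx d n => θ ≤ w ∧ θ ≠ bot)).IsPrime := by
    by_cases hw : w = bot
    · have hc : GrothLib.SMT.Compat (fun θ : Idx d n => θ ≤ w ∧ θ ≠ bot)
          (fun (_ : Fin n) (_ : Fin d) => False) :=
        ⟨fun θ _ _ => ⟨⟨0, hd⟩, id⟩, fun θ h => absurd (le_antisymm (hw ▸ h.1) (hbot θ)) h.2⟩
      exact hc.isPrime hd
    · let γ : Idx d n := ⟨fun t => ⟨if t.val + 1 = d then d else t.val,
        by split_ifs <;> omega⟩, fun a b h => by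
          have h' : a.val < b.val := h
          have := b.isLt
          show (if a.val + 1 = d then d else a.val) < (if b.val + 1 = d then d else b.val)
          split_ifs <;> omega⟩
      have hq : ∀ θ : Idx d n, (θ ≤ w ∧ θ ≠ bot) ↔ (γ ≤ θ ∧ θ ≤ w) := by
        intro θ
        constructor
        · rintro ⟨h1, h2⟩
          refine ⟨fun t => ?_, h1⟩
          show (if t.val + 1 = d then d else t.val) ≤ (θ.1 t).val
          split_ifs with ht
          · by_contra hc
            apply h2
            refine Subtype.ext (funext fun s => Fin.ext ?_)
            have h3 := GrothLib.SMT.strictMono_val_le θ.2 s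
            show (θ.1 s).val = s.val
            by_contra hs
            -- every later entry is shifted up
            have h4 : ∀ k, ∀ hk : s.val + k < d, s.val + k < (θ.1 ⟨s.val + k, hk⟩).val := by
              intro k
              induction k with
              | zero => intro hk; simp only [Nat.add_zero, Fin.eta]; omega
              | succ k ih =>
                intro hk
                have h5 := ih (by omega)
                have h6 : (θ.1 ⟨s.val + k, by omega⟩).val < (θ.1 ⟨s.val + (k + 1), hk⟩).val :=
                  θ.2 (by show s.val + k < s.val + (k + 1); omega)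
                omega
            have hst : t = ⟨s.val + (t.val - s.val), by omega⟩ := Fin.ext (by simp; omega)
            have := h4 (t.val - s.val) (by omega)
            rw [← hst] at this
            omega
          · exact GrothLib.SMT.strictMono_val_le θ.2 t
        · rintro ⟨h1, h2⟩
          refine ⟨h2, fun e => ?_⟩
          have := h1 ⟨d - 1, by omega⟩
          rw [e] at this
          have h' : (if d - 1 + 1 = d then d else d - 1) ≤ d - 1 := this
          split_ifs at h' <;> omega
      rw [show (fun θ : Idx d n => θ ≤ w ∧ θ ≠ bot) = fun θ => γ ≤ θ ∧ θ ≤ w from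
        funext fun θ => propext (hq θ)]
      exact (GrothLib.SMT.compat_interval γ w).isPrime hd
  rw [← GrothLib.SMT.plD_sup_span_singleton] at hprime
  rw [← Ideal.span_singleton_prime hne]
  have hmap : Ideal.span {Ideal.Quotient.mk J (MvPolynomial.X bot)} =
      (J ⊔ Ideal.span {MvPolynomial.X bot}).map (Ideal.Quotient.mk J) := by
    rw [Ideal.map_sup, Ideal.map_quotient_self, bot_sup_eq, Ideal.map_span, Set.image_singleton]
  rw [hmap]
  exact Ideal.map_isPrime_of_surjective Ideal.Quotient.mk_surjective (by simp)

end Groth.Agent.S11270
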