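import Groth.Statements.S11271
import Groth.Agent.Lib.SMT.Quadrics

set_option autoImplicit false
universe u
open W4bk4grassmannian

namespace Groth.Agent.S11271

theorem exists_eval_zero {K : Type u} [Field K] [Infinite K] {d n : ℕ} (A : Matrix (Fin n) (Fin d) K)
    (f : MatRing K d n) (hf : ∀ t : K, t ≠ 0 → MvPolynomial.eval (fun p => t * A p.1 p.2) f = 0) :
    MvPolynomial.eval (fun _ : Fin n × Fin d => (0 : K)) f = 0 := by
  classical
  set p : Polynomial K := MvPolynomial.aeval (fun x : Fin n × Fin d => Polynomial.C (A x.1 x.2) * Polynomial.X) f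
  have he : ∀ t : K, Polynomial.eval t p = MvPolynomial.eval (fun x => t * A x.1 x.2) f := by
    intro t
    have : (Polynomial.aeval t).comp (MvPolynomial.aeval fun x : Fin n × Fin d =>
        Polynomial.C (A x.1 x.2) * Polynomial.X) = MvPolynomial.aeval fun x => t * A x.1 x.2 := by
      apply MvPolynomial.algHom_ext
      intro x
      simp only [AlgHom.comp_apply, MvPolynomial.aeval_X, map_mul, Polynomial.aeval_C, Polynomial.aeval_X,
        Algebra.algebraMap_self, RingHom.id_apply]
      exact mul_comm _ _
    simpa [MvPolynomial.aeval_eq_eval, Polynomial.coe_aeval_eq_eval, p] using DFunLike.congr_fun this f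
  have hp : p = 0 := by
    refine Polynomial.eq_zero_of_infinite_isRoot p (Set.Infinite.mono (s := ({0} : Set K)ᶜ) ?_ ?_)
    · intro t ht
      exact (he t).trans (hf t ht)
    · exact (Set.finite_singleton (0 : K)).infinite_compl
  have := he 0
  simpa [hp] using this.symm

open W4bk4grassmannian in
/-- Semistable matrices are the matrices of full rank: let K be an algebraically closed field, 0 < d <
n, and let SL_d(K) act on n × d matrices by right multiplication; a matrix A is semistable when the
zero matrix is not in the Zariski closure of its orbit, i.e. when some polynomial in the entries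
vanishes at A g for every g ∈ SL_d(K) but not at 0. Then A is semistable if and only if its columns
are linearly independent. -/
theorem result (K : Type u) [Field K]
    [IsAlgClosed K] (d n : ℕ) (hd : 0 < d) (hdn : d < n) (A : Matrix (Fin n) (Fin d) K) :
    LinearIndependent K A.transpose ↔
      ∃ f : MatRing K d n, (∀ g : Matrix.SpecialLinearGroup (Fin d) K,
        MvPolynomial.eval (fun p : Fin n × Fin d => (A * (g : Matrix (Fin d) (Fin d) K)) p.1 p.2) f = 0) ∧
        MvPolynomial.eval (fun _ : Fin n × Fin d => (0 : K)) f ≠ 0 := by
  classical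
  constructor
  · intro h
    obtain ⟨θ, hθ⟩ := GrothLib.SMT.exists_minor_ne_zero A h
    refine ⟨minor K d n θ.1 - MvPolynomial.C (A.submatrix θ.1 id).det, fun g => ?_, ?_⟩
    · rw [map_sub, MvPolynomial.eval_C, sub_eq_zero,
        ← GrothLib.SMT.eval_rightTranslate g A, GrothLib.SMT.rightTranslate_minor,
        W4bk4grassmannian.minor, RingHom.map_det]
      congr 1
      refine Matrix.ext fun s t => ?_
      simp
    · have : MvPolynomial.eval (fun _ : Fin n × Fin d => (0 : K)) (minor K d n θ.1) = 0 := by
        rw [W4bk4grassmannian.minor, RingHom.map_det]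
        exact Matrix.det_eq_zero_of_row_eq_zero ⟨0, hd⟩ fun t => by simp
      rw [map_sub, this, MvPolynomial.eval_C, zero_sub]
      exact neg_ne_zero.2 hθ
  · rintro ⟨f, hf, hf0⟩
    by_contra hli
    apply hf0
    obtain ⟨w, hw, j, hj⟩ := Fintype.not_linearIndependent_iff.1 hli
    have hAw : ∀ i, ∑ k, A i k * w k = 0 := fun i => by
      have := congrFun hw i
      simpa [mul_comm] using this
    refine exists_eval_zero A f fun t ht => ?_
    let v : Fin d → K := Pi.single j (w j)⁻¹
    let c : K := (t ^ d)⁻¹ - 1
    let M : Matrix (Fin d) (Fin d) K :=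
      t • (1 + Matrix.replicateCol Unit (c • w) * Matrix.replicateRow Unit v)
    have hM : M.det = 1 := by
      rw [Matrix.det_smul, Matrix.det_one_add_replicateCol_mul_replicateRow, Fintype.card_fin]
      simp [v, c, single_dotProduct, hj, ht]
    have hAM : A * M = t • A := by
      have : A * Matrix.replicateCol Unit (c • w) = 0 := Matrix.ext fun i _ => by
        simp [Matrix.mul_apply, mul_left_comm _ c, ← Finset.mul_sum, hAw]
      rw [Matrix.mul_smul, Matrix.mul_add, ← Matrix.mul_assoc, this, Matrix.zero_mul, add_zero, Matrix.mul_one]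
    have := hf ⟨M, hM⟩
    simpa [hAM] using this

end Groth.Agent.S11271
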