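import Groth.Statements.S11272
import Groth.Agent.Lib.GrLC.QuotGr
import Groth.Agent.Lib.GrLC.VertexCM
import Groth.Prelude.Def_GrSyz
-- import your own Groth.Agent.* helpers here

set_option autoImplicit false
universe u
open W4bk4grassmannian

namespace Groth.Agent.S11272

/-- A cone is Cohen–Macaulay iff it is so at its vertex: let K be an algebraically closed field, N a
natural number, S = K[x_1, …, x_N] graded by degree, I ⊆ S a proper ideal generated by homogeneous
polynomials, and m ⊆ S/I the image of the irrelevant ideal (x_1, …, x_N) (the vertex of the cone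
Spec S/I), assumed prime. Then S/I is a Cohen–Macaulay ring if and only if the local ring (S/I)_m is
Cohen–Macaulay. -/
theorem result (K : Type u) [Field K] [IsAlgClosed K] (N : ℕ)
    (I : Ideal (MvPolynomial (Fin N) K))
    (hI : ∃ T : Set (MvPolynomial (Fin N) K), (∀ f ∈ T, ∃ k : ℕ, f.IsHomogeneous k) ∧ I = Ideal.span T)
    (hI' : I ≠ ⊤)
    [hm : ((RingHom.ker (MvPolynomial.constantCoeff : MvPolynomial (Fin N) K →+* K)).map
      (Ideal.Quotient.mk I)).IsPrime] :
    LocCoh.IsCohenMacaulayRing (MvPolynomial (Fin N) K ⧸ I) ↔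
      LocCoh.IsCohenMacaulayLocalRing (Localization.AtPrime
        ((RingHom.ker (MvPolynomial.constantCoeff : MvPolynomial (Fin N) K →+* K)).map
          (Ideal.Quotient.mk I))) := by
  open GrothLib.GrLC.QuotGr MvPolynomial in
  have hh : I.IsHomogeneous (GrSyz.stdGr K (Fin N)) := by
    obtain ⟨T, hT, rfl⟩ := hI
    refine Ideal.homogeneous_span _ _ fun f hf => ?_
    obtain ⟨d, hd⟩ := hT f hf
    refine ⟨(d : ℤ), fun b hb => ?_⟩
    have := hd hb
    rw [Finsupp.weight_apply] at this ⊢
    simp [Finsupp.sum, nsmul_eq_mul] at this ⊢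
    exact_mod_cast this
  let J : HomogeneousIdeal (GrSyz.stdGr K (Fin N)) := ⟨I, hh⟩
  haveI hGA : GradedAlgebra (qgr J) := qgrAlgebra J
  let T := MvPolynomial (Fin N) K ⧸ J.toIdeal
  haveI : Nontrivial T := Ideal.Quotient.nontrivial_iff.2 hI'
  haveI : Algebra.FiniteType K T := Algebra.FiniteType.of_surjective (Ideal.Quotient.mkₐ K J.toIdeal) Ideal.Quotient.mk_surjective
  have hpos : ∀ n : ℤ, n < 0 → qgr J n = ⊥ := by
    intro n hn
    refine (Submodule.eq_bot_iff _).2 fun y hy => ?_
    obtain ⟨f, hf, rfl⟩ := (mem_qgr_iff J n y).1 hy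
    suffices f = 0 by rw [this, map_zero]
    ext b
    by_contra hb
    have := hf hb
    rw [Finsupp.weight_apply] at this
    simp [Finsupp.sum, nsmul_eq_mul] at this
    have h2 : (0 : ℤ) ≤ ∑ x ∈ b.support, (b x : ℤ) := Finset.sum_nonneg fun _ _ => by positivity
    omega
  have hwt : ∀ b : Fin N →₀ ℕ, Finsupp.weight (fun _ : Fin N => (1 : ℤ)) b = ((b.sum fun _ e => e : ℕ) : ℤ) := fun b => by
    rw [Finsupp.weight_apply, Finsupp.sum, Finsupp.sum, Nat.cast_sum]
    simp
  have h0 : qgr J 0 = Submodule.span K {(1 : T)} := by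
    refine le_antisymm (fun y hy => ?_) ((Submodule.span_singleton_le_iff_mem _ _).2 (SetLike.one_mem_graded _))
    obtain ⟨f, hf, rfl⟩ := (mem_qgr_iff J 0 y).1 hy
    have : f = C (coeff 0 f) := by
      ext b
      rw [coeff_C]
      split_ifs with h
      · rw [← h]
      · by_contra hb
        have := hf hb
        rw [hwt, Nat.cast_eq_zero] at this
        refine h (Finsupp.ext fun i => ?_)
        by_contra hi
        have h1 := Finset.sum_eq_zero_iff.1 this i (Finsupp.mem_support_iff.2 fun h2 => hi h2.symm)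
        exact hi h1.symm
    rw [Submodule.mem_span_singleton, this]
    exact ⟨coeff 0 f, by rw [Algebra.smul_def, mul_one]; rfl⟩
  let m₀ : Ideal T := (RingHom.ker (constantCoeff : MvPolynomial (Fin N) K →+* K)).map (Ideal.Quotient.mk I)
  have hm₀ : m₀ = Ideal.span (⋃ n ∈ Set.Ioi (0 : ℤ), (qgr J n : Set T)) := by
    refine le_antisymm (Ideal.map_le_iff_le_comap.2 fun f hf => ?_) (Ideal.span_le.2 ?_)
    · rw [RingHom.mem_ker, constantCoeff_eq] at hf
      rw [Ideal.mem_comap, as_sum f, map_sum]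
      refine sum_mem fun b hb => Ideal.subset_span ?_
      refine Set.mem_biUnion (x := ((b.sum fun _ e => e : ℕ) : ℤ)) ?_ ((mem_qgr_iff J _ _).2 ⟨_, isWeightedHomogeneous_monomial _ _ _ (hwt b), rfl⟩)
      refine Set.mem_Ioi.2 (Int.natCast_pos.2 (Nat.pos_of_ne_zero fun h => ?_))
      have hb0 : b = 0 := Finsupp.ext fun i => by
        by_contra hi
        exact hi (Finset.sum_eq_zero_iff.1 h i (Finsupp.mem_support_iff.2 hi))
      exact (mem_support_iff.1 hb) (hb0 ▸ hf)
    · intro y hy
      simp only [Set.mem_iUnion] at hy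
      obtain ⟨n, hn, hy⟩ := hy
      obtain ⟨f, hf, rfl⟩ := (mem_qgr_iff J n y).1 hy
      refine Ideal.mem_map_of_mem _ ?_
      rw [RingHom.mem_ker, constantCoeff_eq]
      by_contra hb
      have := hf hb
      rw [map_zero] at this
      exact (Set.mem_Ioi.1 hn).ne this
  let m : HomogeneousIdeal (qgr J) := ⟨m₀, hm₀ ▸ Ideal.homogeneous_span _ _ fun y hy => by
    simp only [Set.mem_iUnion] at hy
    obtain ⟨n, hn, hy⟩ := hy
    exact ⟨n, hy⟩⟩
  haveI : m.toIdeal.IsPrime := hm
  exact GrothLib.GrLC.VertexCM.isCohenMacaulayRing_iff hpos h0 (m := m) hm₀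

end Groth.Agent.S11272
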