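import Groth.Statements.S11275
import Groth.Agent.Lib.SMT.Cell

set_option autoImplicit false
universe u
open W4bk4grassmannian

namespace Groth.Agent.S11275

open W4bk4grassmannian in
/-- Ideal-theoretic form; determinantal ideals as ideals of opposite cells of Schubert varieties: let K
be a commutative ring, d, r ≥ 1, 1 ≤ t ≤ min(d, r), Z the generic r × d matrix over K[z_{ij}] and
[I_d ; Z] the (d + r) × d matrix with the identity block on top. For θ ∈ I(d, d + r) let q_θ be the
d × d minor of [I_d ; Z] on the rows θ (the Plücker coordinate p_θ on the opposite big cell). Then
the ideal generated by the q_θ with θ_{d-t} ≥ d (0-indexed; these are the θ not below the index φ =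
(t-1, …, d-1, d+r+1-t, …, d+r-1) of the Schubert variety whose opposite cell is D_t) equals the
ideal generated by the t × t minors of Z. (The published statement is over an algebraically closed
field and identifies the determinantal variety D_t with the opposite cell of the Schubert variety
X(φ); this row states the equality of ideals behind that identification, over any commutative ring
K.) -/
theorem result (K : Type u) [CommRing K] (d r t : ℕ) (hd : 0 < d)
    (ht : 0 < t) (htd : t ≤ d) (htr : t ≤ r) :
    Ideal.span {f : CellRing K d r | ∃ θ : Idx d (d + r),
        d ≤ (θ.1 ⟨d - t, Nat.sub_lt hd ht⟩).val ∧ f = cellMinor K d r θ} =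
      CAlgX.minorIdeal (genMatrix K r d) t := by
  exact GrothLib.SMT.span_cellMinor_eq_minorIdeal K hd ht htd

end Groth.Agent.S11275
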