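import Groth.Statements.S11276
import Groth.Agent.Lib.GrLC.GlueCM
import Mathlib.RingTheory.GradedAlgebra.Radical
-- import your own Groth.Agent.* helpers here

set_option autoImplicit false
universe u v
open W4bk4grassmannian

namespace Groth.Agent.S11276

/-- With the conclusion at the irrelevant ideal: let K be a field, A a commutative Noetherian K-algebra
graded by ℕ with degree-zero part K, I and J homogeneous ideals of A such that A/I and A/J are
Cohen–Macaulay rings of Krull dimension e and A/(I + J) is a Cohen–Macaulay ring of Krull dimension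
e - 1, where e ≥ 1. Let m be the image in A/(I ∩ J) of the irrelevant ideal A_+ (assumed prime; it
is maximal). Then the local ring (A/(I ∩ J))_m is Cohen–Macaulay of Krull dimension e. (The
published lemma concludes that A/(I ∩ J) itself is Cohen–Macaulay of dimension e; this row states
the conclusion at the irrelevant ideal only, from which the global one follows by the graded
local–global principle.) -/
theorem result (K : Type u) [Field K] (A : Type v) [CommRing A]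
    [Algebra K A] [IsNoetherianRing A] (𝒜 : ℕ → Submodule K A) [GradedAlgebra 𝒜]
    (h0 : ∀ a ∈ 𝒜 0, ∃ c : K, algebraMap K A c = a) (I J : Ideal A) (hI : I.IsHomogeneous 𝒜)
    (hJ : J.IsHomogeneous 𝒜) (e : ℕ) (he : 1 ≤ e)
    (hIcm : LocCoh.IsCohenMacaulayRing (A ⧸ I)) (hJcm : LocCoh.IsCohenMacaulayRing (A ⧸ J))
    (hIJcm : LocCoh.IsCohenMacaulayRing (A ⧸ (I ⊔ J)))
    (hIdim : ringKrullDim (A ⧸ I) = (e : WithBot ℕ∞)) (hJdim : ringKrullDim (A ⧸ J) = (e : WithBot ℕ∞))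
    (hIJdim : ringKrullDim (A ⧸ (I ⊔ J)) = ((e - 1 : ℕ) : WithBot ℕ∞))
    [hm : ((HomogeneousIdeal.irrelevant 𝒜).toIdeal.map (Ideal.Quotient.mk (I ⊓ J))).IsPrime] :
    LocCoh.IsCohenMacaulayLocalRing (Localization.AtPrime
        ((HomogeneousIdeal.irrelevant 𝒜).toIdeal.map (Ideal.Quotient.mk (I ⊓ J)))) ∧
      ringKrullDim (Localization.AtPrime
        ((HomogeneousIdeal.irrelevant 𝒜).toIdeal.map (Ideal.Quotient.mk (I ⊓ J)))) = (e : WithBot ℕ∞) := by
  classical
  open GrothLib.GrLC.GlueCM in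
  haveI : Nontrivial A := by
    rcases subsingleton_or_nontrivial A with h | h
    · haveI := h
      exfalso
      haveI : Subsingleton (A ⧸ I) := Ideal.Quotient.mk_surjective.subsingleton
      rw [ringKrullDim_eq_bot_of_subsingleton] at hIdim
      exact WithBot.bot_ne_coe hIdim
    · exact h
  haveI : Algebra.FiniteType K (𝒜 0) := Algebra.FiniteType.of_surjective (Algebra.ofId K (𝒜 0))
    fun a => (h0 a a.2).imp fun c hc => Subtype.ext hc
  haveI : Algebra.FiniteType (𝒜 0) A := GrothLib.GradedAlg.finiteType_of_irrelevant_fg 𝒜 (IsNoetherian.noetherian _)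
  haveI : IsScalarTower K (𝒜 0) A := ⟨fun c x a => smul_mul_assoc c (x : A) a⟩
  haveI : Algebra.FiniteType K A := Algebra.FiniteType.trans (S := 𝒜 0) inferInstance inferInstance
  obtain ⟨M₀, hM₀⟩ : ∃ M₀ : Ideal A, M₀ = (HomogeneousIdeal.irrelevant 𝒜).toIdeal := ⟨_, rfl⟩
  have hmem : ∀ a : A, a ∈ M₀ ↔ (DirectSum.decompose 𝒜 a 0 : A) = 0 := fun a => by
    rw [hM₀]; exact (HomogeneousIdeal.mem_irrelevant_iff 𝒜 a).trans (by rw [GradedRing.proj_apply])
  haveI hM₀max : M₀.IsMaximal := by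
    refine ⟨⟨fun h => ?_, fun N hN => ?_⟩⟩
    · have := (hmem 1).1 (h ▸ Submodule.mem_top)
      rw [DirectSum.decompose_of_mem_same 𝒜 (SetLike.one_mem_graded 𝒜)] at this
      exact one_ne_zero this
    · obtain ⟨x, hxN, hxM⟩ := Set.exists_of_ssubset hN
      obtain ⟨c, hc⟩ := h0 _ (DirectSum.decompose 𝒜 x 0).2
      have hc0 : c ≠ 0 := fun h => hxM ((hmem x).2 (by rw [← hc, h, map_zero]))
      refine Ideal.eq_top_of_isUnit_mem N ?_ ((isUnit_iff_ne_zero.2 hc0).map (algebraMap K A))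
      have hd : x - algebraMap K A c ∈ M₀ := (hmem _).2 (by
        rw [DirectSum.decompose_sub, DirectSum.sub_apply, AddSubgroupClass.coe_sub,
          DirectSum.decompose_of_mem_same 𝒜 (show algebraMap K A c ∈ 𝒜 0 from by
            rw [Algebra.algebraMap_eq_smul_one]; exact Submodule.smul_mem _ _ (SetLike.one_mem_graded 𝒜)), hc, sub_self])
      simpa using sub_mem hxN (hN.le hd)
  have hle : ∀ L : Ideal A, L.IsHomogeneous 𝒜 → L ≠ ⊤ → L ≤ M₀ := by
    intro L hL hne x hx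
    refine (hmem x).2 ?_
    obtain ⟨c, hc⟩ := h0 _ (DirectSum.decompose 𝒜 x 0).2
    rcases eq_or_ne c 0 with rfl | hc0
    · rw [← hc, map_zero]
    · exact absurd (L.eq_top_of_isUnit_mem (hc.symm ▸ hL 0 hx) ((isUnit_iff_ne_zero.2 hc0).map _)) hne
  have hmax : ∀ L : Ideal A, L.IsHomogeneous 𝒜 → L ≠ ⊤ → (M₀.map (Ideal.Quotient.mk L)).IsMaximal := fun L hL hne =>
    (Ideal.map_eq_top_or_isMaximal_of_surjective _ Ideal.Quotient.mk_surjective hM₀max).resolve_left fun h => by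
      have := congrArg (Ideal.comap (Ideal.Quotient.mk L)) h
      rw [Ideal.comap_map_of_surjective _ Ideal.Quotient.mk_surjective, ← RingHom.ker_eq_comap_bot,
        Ideal.mk_ker, sup_eq_left.2 (hle L hL hne), Ideal.comap_top] at this
      exact hM₀max.ne_top this
  have hne : ∀ (L : Ideal A) (d : ℕ), ringKrullDim (A ⧸ L) = (d : WithBot ℕ∞) → L ≠ ⊤ := by
    rintro L d hd rfl
    haveI : Subsingleton (A ⧸ (⊤ : Ideal A)) := Ideal.Quotient.subsingleton_iff.2 rfl
    rw [ringKrullDim_eq_bot_of_subsingleton] at hd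
    exact WithBot.bot_ne_coe hd
  have hdimL : ∀ (L : Ideal A) (hL : L.IsHomogeneous 𝒜) (d : ℕ) (hd : ringKrullDim (A ⧸ L) = (d : WithBot ℕ∞)),
      haveI := (hmax L hL (hne L d hd)).isPrime
      ringKrullDim (Localization.AtPrime (M₀.map (Ideal.Quotient.mk L))) = (d : WithBot ℕ∞) := by
    intro L hL d hd
    haveI := hmax L hL (hne L d hd)
    rw [IsLocalization.AtPrime.ringKrullDim_eq_height (M₀.map (Ideal.Quotient.mk L)),
      height_eq_ringKrullDim K _ fun q hq => ?_, hd]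
    have hq' : q.comap (Ideal.Quotient.mk L) ∈ L.minimalPrimes := by
      rw [Ideal.minimalPrimes_eq_comap]
      exact ⟨q, hq, rfl⟩
    have hhom : (q.comap (Ideal.Quotient.mk L)).IsHomogeneous 𝒜 := by
      haveI := hq'.1.1
      have h := hq'.2 (y := ((q.comap (Ideal.Quotient.mk L)).homogeneousCore 𝒜).toIdeal)
        ⟨Ideal.IsPrime.homogeneousCore (𝒜 := 𝒜) hq'.1.1,
          hL.toIdeal_homogeneousCore_eq_self.ge.trans (Ideal.homogeneousCore_mono 𝒜 hq'.1.2)⟩
        (Ideal.toIdeal_homogeneousCore_le 𝒜 _)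
      rw [le_antisymm h (Ideal.toIdeal_homogeneousCore_le 𝒜 _)]
      exact HomogeneousIdeal.isHomogeneous _
    calc q = (q.comap (Ideal.Quotient.mk L)).map (Ideal.Quotient.mk L) :=
          (Ideal.map_comap_of_surjective _ Ideal.Quotient.mk_surjective q).symm
      _ ≤ _ := Ideal.map_mono (hle _ hhom hq'.1.1.ne_top)
  let B := A ⧸ (I ⊓ J)
  let m : Ideal B := M₀.map (Ideal.Quotient.mk (I ⊓ J))
  have hmeq : (HomogeneousIdeal.irrelevant 𝒜).toIdeal.map (Ideal.Quotient.mk (I ⊓ J)) = m := by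
    change _ = M₀.map _
    rw [hM₀]
  subst hM₀
  have hIJ : (I ⊔ J).IsHomogeneous 𝒜 := Ideal.IsHomogeneous.sup hI hJ
  let φ : ∀ L : Ideal A, I ⊓ J ≤ L → B →+* A ⧸ L := fun L hL => Ideal.Quotient.factor hL
  have hφs : ∀ L hL, Function.Surjective (φ L hL) := fun L hL x => by
    obtain ⟨a, rfl⟩ := Ideal.Quotient.mk_surjective x
    exact ⟨Ideal.Quotient.mk _ a, rfl⟩
  have hkerφ : ∀ L hL, RingHom.ker (φ L hL) = L.map (Ideal.Quotient.mk (I ⊓ J)) := fun L hL => by
    refine le_antisymm (fun x hx => ?_) (Ideal.map_le_iff_le_comap.2 fun a ha => Ideal.Quotient.eq_zero_iff_mem.2 ha)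
    obtain ⟨a, rfl⟩ := Ideal.Quotient.mk_surjective x
    exact Ideal.mem_map_of_mem _ (Ideal.Quotient.eq_zero_iff_mem.1 hx)
  have hcomap : ∀ (L : Ideal A) (hL : I ⊓ J ≤ L), L.IsHomogeneous 𝒜 → L ≠ ⊤ →
      (HomogeneousIdeal.irrelevant 𝒜).toIdeal.map (Ideal.Quotient.mk (I ⊓ J)) =
        ((HomogeneousIdeal.irrelevant 𝒜).toIdeal.map (Ideal.Quotient.mk L)).comap (φ L hL) := by
    intro L hL hLh hLne
    refine Ideal.comap_injective_of_surjective _ Ideal.Quotient.mk_surjective ?_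
    rw [Ideal.comap_comap, Ideal.comap_map_of_surjective _ Ideal.Quotient.mk_surjective,
      ← RingHom.ker_eq_comap_bot, Ideal.mk_ker, sup_eq_left.2 (hL.trans (hle L hLh hLne)),
      show (φ L hL).comp (Ideal.Quotient.mk (I ⊓ J)) = Ideal.Quotient.mk L from RingHom.ext fun a => rfl,
      Ideal.comap_map_of_surjective _ Ideal.Quotient.mk_surjective, ← RingHom.ker_eq_comap_bot,
      Ideal.mk_ker, sup_eq_left.2 (hle L hLh hLne)]
  haveI := (hmax I hI (hne I e hIdim)).isPrime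
  haveI := (hmax J hJ (hne J e hJdim)).isPrime
  haveI := (hmax (I ⊔ J) hIJ (hne _ _ hIJdim)).isPrime
  let R := Localization.AtPrime ((HomogeneousIdeal.irrelevant 𝒜).toIdeal.map (Ideal.Quotient.mk (I ⊓ J)))
  let T₁ := Localization.AtPrime ((HomogeneousIdeal.irrelevant 𝒜).toIdeal.map (Ideal.Quotient.mk I))
  let T₂ := Localization.AtPrime ((HomogeneousIdeal.irrelevant 𝒜).toIdeal.map (Ideal.Quotient.mk J))
  let T₃ := Localization.AtPrime ((HomogeneousIdeal.irrelevant 𝒜).toIdeal.map (Ideal.Quotient.mk (I ⊔ J)))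
  let ψ₁ : R →+* T₁ := Localization.localRingHom _ _ (φ I inf_le_left) (hcomap I inf_le_left hI (hne I e hIdim))
  let ψ₂ : R →+* T₂ := Localization.localRingHom _ _ (φ J inf_le_right) (hcomap J inf_le_right hJ (hne J e hJdim))
  let ψ₃ : R →+* T₃ := Localization.localRingHom _ _ (φ (I ⊔ J) (inf_le_left.trans le_sup_left)) (hcomap (I ⊔ J) _ hIJ (hne _ _ hIJdim))
  letI := ψ₁.toAlgebra
  letI := ψ₂.toAlgebra
  letI := ψ₃.toAlgebra
  haveI := hIcm.isCohenMacaulayLocalRing_localization ((HomogeneousIdeal.irrelevant 𝒜).toIdeal.map (Ideal.Quotient.mk I))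
  haveI := hJcm.isCohenMacaulayLocalRing_localization ((HomogeneousIdeal.irrelevant 𝒜).toIdeal.map (Ideal.Quotient.mk J))
  haveI := hIJcm.isCohenMacaulayLocalRing_localization ((HomogeneousIdeal.irrelevant 𝒜).toIdeal.map (Ideal.Quotient.mk (I ⊔ J)))
  -- localising a surjection
  have hloc : ∀ (L : Ideal A) (hL : I ⊓ J ≤ L) (hLh : L.IsHomogeneous 𝒜) (hLne : L ≠ ⊤),
      haveI := (hmax L hLh hLne).isPrime
      Function.Surjective (Localization.localRingHom _ _ (φ L hL) (hcomap L hL hLh hLne)) ∧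
      ∀ (b : B) (s : ((HomogeneousIdeal.irrelevant 𝒜).toIdeal.map (Ideal.Quotient.mk (I ⊓ J))).primeCompl),
        IsLocalization.mk' R b s ∈ RingHom.ker (Localization.localRingHom _ _ (φ L hL) (hcomap L hL hLh hLne)) ↔
          ∃ u ∈ ((HomogeneousIdeal.irrelevant 𝒜).toIdeal.map (Ideal.Quotient.mk (I ⊓ J))).primeCompl,
            u * b ∈ L.map (Ideal.Quotient.mk (I ⊓ J)) := by
    intro L hL hLh hLne
    haveI := (hmax L hLh hLne).isPrime
    refine ⟨fun t => ?_, fun b s => ?_⟩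
    · obtain ⟨⟨a, u, hu⟩, rfl⟩ := IsLocalization.mk'_surjective ((HomogeneousIdeal.irrelevant 𝒜).toIdeal.map (Ideal.Quotient.mk L)).primeCompl t
      obtain ⟨b, rfl⟩ := hφs L hL a
      obtain ⟨v, rfl⟩ := hφs L hL u
      refine ⟨IsLocalization.mk' R b (⟨v, fun h => hu ((hcomap L hL hLh hLne).le h)⟩ : ((HomogeneousIdeal.irrelevant 𝒜).toIdeal.map (Ideal.Quotient.mk (I ⊓ J))).primeCompl), ?_⟩
      rw [Localization.localRingHom_mk']
    · rw [RingHom.mem_ker, Localization.localRingHom_mk', IsLocalization.mk'_eq_zero_iff]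
      constructor
      · rintro ⟨⟨w, hw⟩, h⟩
        obtain ⟨u, rfl⟩ := hφs L hL w
        refine ⟨u, fun h' => hw ((hcomap L hL hLh hLne).le h'), ?_⟩
        rw [← hkerφ L hL, RingHom.mem_ker, map_mul]
        exact h
      · rintro ⟨u, hu, h⟩
        rw [← hkerφ L hL, RingHom.mem_ker, map_mul] at h
        exact ⟨⟨φ L hL u, fun h' => hu ((hcomap L hL hLh hLne).ge h')⟩, h⟩
  obtain ⟨hs₁, hk₁⟩ := hloc I inf_le_left hI (hne I e hIdim)
  obtain ⟨hs₂, hk₂⟩ := hloc J inf_le_right hJ (hne J e hJdim)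
  obtain ⟨hs₃, hk₃⟩ := hloc (I ⊔ J) (inf_le_left.trans le_sup_left) hIJ (hne _ _ hIJdim)
  have hinf0 : I.map (Ideal.Quotient.mk (I ⊓ J)) ⊓ J.map (Ideal.Quotient.mk (I ⊓ J)) = ⊥ := by
    rw [← hkerφ I inf_le_left, ← hkerφ J inf_le_right, eq_bot_iff]
    intro x ⟨hx, hy⟩
    obtain ⟨a, rfl⟩ := Ideal.Quotient.mk_surjective x
    exact Ideal.Quotient.eq_zero_iff_mem.2 ⟨Ideal.Quotient.eq_zero_iff_mem.1 hx, Ideal.Quotient.eq_zero_iff_mem.1 hy⟩
  haveI : IsNoetherianRing R := IsLocalization.isNoetherianRing ((HomogeneousIdeal.irrelevant 𝒜).toIdeal.map (Ideal.Quotient.mk (I ⊓ J))).primeCompl R inferInstance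
  have hR : ringKrullDim R = (e : WithBot ℕ∞) := by
    refine le_antisymm ?_ ((hdimL I hI e hIdim).ge.trans (ringKrullDim_le_of_surjective ψ₁ hs₁))
    rw [IsLocalization.AtPrime.ringKrullDim_eq_height ((HomogeneousIdeal.irrelevant 𝒜).toIdeal.map (Ideal.Quotient.mk (I ⊓ J))) R]
    refine (Ideal.height_le_ringKrullDim_of_ne_top hm.ne_top).trans ?_
    rw [ringKrullDim, Order.krullDim]
    refine iSup_le fun l => ?_
    have key : ∀ (L : Ideal A) (hL : I ⊓ J ≤ L), ringKrullDim (A ⧸ L) = (e : WithBot ℕ∞) → L.map (Ideal.Quotient.mk (I ⊓ J)) ≤ l.head.asIdeal →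
        (l.length : WithBot ℕ∞) ≤ (e : WithBot ℕ∞) := by
      intro L hL hd hh
      obtain ⟨N, hN, hlN⟩ := Ideal.exists_le_maximal l.last.asIdeal l.last.isPrime.ne_top
      haveI := hN
      have hLN : L.map (Ideal.Quotient.mk (I ⊓ J)) ≤ N :=
        hh.trans ((PrimeSpectrum.asIdeal_le_asIdeal _ _ |>.2 (LTSeries.head_le l _)).trans hlN)
      have h1 := GrothLib.GrBass.length_le_height_map _ N hLN l hh hlN
      haveI := Ideal.isPrime_map_quotientMk_of_isPrime (hLN)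
      have h2 := Ideal.height_le_ringKrullDim_of_ne_top
        (‹(N.map (Ideal.Quotient.mk (L.map (Ideal.Quotient.mk (I ⊓ J))))).IsPrime›.ne_top)
      rw [ringKrullDim_eq_of_ringEquiv ((Ideal.quotEquivOfEq (hkerφ L hL).symm).trans (RingHom.quotientKerEquivOfSurjective (hφs L hL))), hd] at h2
      exact le_trans (by exact_mod_cast WithBot.coe_le_coe.2 h1) h2
    rcases (l.head.isPrime.inf_le.1 (hinf0.le.trans bot_le)) with h | h
    · exact key I inf_le_left hIdim h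
    · exact key J inf_le_right hJdim h
  refine ⟨isCohenMacaulayLocalRing_of_glue (R := R) (T₁ := T₁) (T₂ := T₂) (T₃ := T₃) hs₁ hs₂ hs₃ ?_ ?_
    (hdimL I hI e hIdim) (hdimL J hJ e hJdim) (hdimL _ hIJ _ hIJdim) hR, hR⟩
  · rw [eq_bot_iff]
    intro r ⟨h1, h2⟩
    obtain ⟨⟨b, s⟩, rfl⟩ := IsLocalization.mk'_surjective ((HomogeneousIdeal.irrelevant 𝒜).toIdeal.map (Ideal.Quotient.mk (I ⊓ J))).primeCompl r
    obtain ⟨u, hu, hu'⟩ := (hk₁ b s).1 h1
    obtain ⟨v, hv, hv'⟩ := (hk₂ b s).1 h2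
    refine (IsLocalization.mk'_eq_zero_iff b s).2 ⟨⟨u * v, mul_mem hu hv⟩, ?_⟩
    refine (Submodule.mem_bot B).1 (hinf0 ▸ ⟨?_, ?_⟩)
    · change u * v * b ∈ I.map (Ideal.Quotient.mk (I ⊓ J))
      rw [show u * v * b = v * (u * b) by ring]
      exact Ideal.mul_mem_left _ _ hu'
    · change u * v * b ∈ J.map (Ideal.Quotient.mk (I ⊓ J))
      rw [mul_assoc]
      exact Ideal.mul_mem_left _ _ hv'
  · refine le_antisymm (fun r hr => ?_) (sup_le ?_ ?_)
    · obtain ⟨⟨b, s⟩, rfl⟩ := IsLocalization.mk'_surjective ((HomogeneousIdeal.irrelevant 𝒜).toIdeal.map (Ideal.Quotient.mk (I ⊓ J))).primeCompl r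
      obtain ⟨u, hu, hu'⟩ := (hk₃ b s).1 hr
      rw [Ideal.map_sup] at hu'
      obtain ⟨x, hx, y, hy, hxy⟩ := Submodule.mem_sup.1 hu'
      refine Submodule.mem_sup.2 ⟨IsLocalization.mk' R x (⟨u, hu⟩ * s), ?_, IsLocalization.mk' R y (⟨u, hu⟩ * s), ?_, ?_⟩
      · exact (hk₁ x _).2 ⟨1, one_mem _, by rwa [one_mul]⟩
      · exact (hk₂ y _).2 ⟨1, one_mem _, by rwa [one_mul]⟩
      · rw [IsLocalization.eq_mk'_iff_mul_eq]
        have e1 := IsLocalization.mk'_spec R x (⟨u, hu⟩ * s)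
        have e2 := IsLocalization.mk'_spec R y (⟨u, hu⟩ * s)
        have e3 : IsUnit (algebraMap B R u) := IsLocalization.map_units R (⟨u, hu⟩ : ((HomogeneousIdeal.irrelevant 𝒜).toIdeal.map (Ideal.Quotient.mk (I ⊓ J))).primeCompl)
        have e4 := congrArg (algebraMap B R) hxy
        simp only [Submonoid.coe_mul, map_mul, map_add] at e1 e2 e4
        exact e3.mul_left_cancel (by linear_combination e1 + e2 + e4)
    · intro r hr
      obtain ⟨⟨b, s⟩, rfl⟩ := IsLocalization.mk'_surjective ((HomogeneousIdeal.irrelevant 𝒜).toIdeal.map (Ideal.Quotient.mk (I ⊓ J))).primeCompl r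
      obtain ⟨u, hu, hu'⟩ := (hk₁ b s).1 hr
      exact (hk₃ b s).2 ⟨u, hu, Ideal.map_mono le_sup_left hu'⟩
    · intro r hr
      obtain ⟨⟨b, s⟩, rfl⟩ := IsLocalization.mk'_surjective ((HomogeneousIdeal.irrelevant 𝒜).toIdeal.map (Ideal.Quotient.mk (I ⊓ J))).primeCompl r
      obtain ⟨u, hu, hu'⟩ := (hk₂ b s).1 hr
      exact (hk₃ b s).2 ⟨u, hu, Ideal.map_mono le_sup_right hu'⟩

end Groth.Agent.S11276
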