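import Groth.Statements.S1128
import Groth.Agent.Lib.DescElem.Basic

set_option autoImplicit false
open CategoryTheory CategoryTheory.Limits AlgebraicGeometry Opposite
universe u
open Desc

namespace Groth.Agent.S1128

/-- If f is flat and surjective and the composite of f with g is flat, then g is flat; together with
stability of flatness under composition this says flatness is fpqc local on the source. -/
theorem result {X' X Y : Scheme.{u}} (f : X' ⟶ X) (g : X ⟶ Y) [Flat f]
    [Surjective f] [Flat (f ≫ g)] : Flat g := by
  refine Flat.of_stalkMap g fun x => ?_
  obtain ⟨x', rfl⟩ := f.surjective x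
  have h := Flat.stalkMap (f ≫ g) x'
  rw [Scheme.Hom.stalkMap_comp] at h
  replace h : ((f.stalkMap x').hom.comp (g.stalkMap (f x')).hom).Flat := h
  exact GrothLib.DescElem.ringHom_flat_of_comp _ _
    (GrothLib.DescElem.ringHom_faithfullyFlat_of_flat _ (Flat.stalkMap f x')) h

end Groth.Agent.S1128
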