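import Groth.Statements.S11280
import Groth.Agent.Lib.Cohen.NilpotentSmooth
import Groth.Agent.Lib.DefLift26.Basic

set_option autoImplicit false
universe u
open Deform

namespace Groth.Agent.S11280

/-- Let k be an algebraically closed field, A a local Artinian k-algebra with residue field k and t an
element of the maximal ideal of A annihilated by the maximal ideal, so that A is a small extension
of A/tA. Let B be a flat A-algebra whose closed fibre B/m_A B is a formally smooth k-algebra (an
infinitesimal deformation over A of a formally smooth k-algebra). Then every A-algebra automorphism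
of B/tB is induced by an A-algebra automorphism of B. (The published statement asks the automorphism
of B/tB to induce the identity on B/m_A B; this row does not. The published statement takes the
closed fibre smooth, that is formally smooth and essentially of finite type; this row asks the
closed fibre to be formally smooth over k in the sense of lifting along all square-zero surjections
of commutative k-algebras, with no finiteness condition.) -/
theorem result
    {k : Type u} [Field k] [IsAlgClosed k]
    {A : Type u} [CommRing A] [Algebra k A] [IsLocalRing A] [IsArtinianRing A]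
    (hres : ∀ a : A, ∃ c : k, a - algebraMap k A c ∈ IsLocalRing.maximalIdeal A)
    (t : A) (ht : t ∈ IsLocalRing.maximalIdeal A)
    (htm : ∀ a ∈ IsLocalRing.maximalIdeal A, a * t = 0)
    {B : Type u} [CommRing B] [Algebra A B] [Module.Flat A B] [Algebra k B] [IsScalarTower k A B]
    (hsm : Algebra.FormallySmooth k (B ⧸ (IsLocalRing.maximalIdeal A).map (algebraMap A B)))
    (σ : (B ⧸ Ideal.span {algebraMap A B t}) ≃ₐ[A] (B ⧸ Ideal.span {algebraMap A B t})) :
    ∃ τ : B ≃ₐ[A] B, ∀ b : B,
      Ideal.Quotient.mk (Ideal.span {algebraMap A B t}) (τ b) =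
        σ (Ideal.Quotient.mk (Ideal.span {algebraMap A B t}) b) := by
  classical
  set 𝔪 := IsLocalRing.maximalIdeal A with h𝔪
  have hm : IsNilpotent 𝔪 := by
    rw [h𝔪, ← IsLocalRing.jacobson_eq_maximalIdeal (R := A) ⊥ bot_ne_top]
    exact IsArtinianRing.isNilpotent_jacobson_bot
  have hsurjk : Function.Surjective (algebraMap k (A ⧸ 𝔪)) := fun q => by
    obtain ⟨a, rfl⟩ := Ideal.Quotient.mk_surjective q
    obtain ⟨c, hc⟩ := hres a
    exact ⟨c, (Ideal.Quotient.eq.2 hc).symm⟩
  haveI : Algebra.FormallyUnramified k (A ⧸ 𝔪) := Algebra.FormallyUnramified.of_surjective (Algebra.ofId k _) hsurjk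
  haveI : Algebra.FormallySmooth k (B ⧸ 𝔪.map (algebraMap A B)) := hsm
  haveI : IsScalarTower k (A ⧸ 𝔪) (B ⧸ 𝔪.map (algebraMap A B)) := IsScalarTower.of_algebraMap_eq fun c =>
    (IsScalarTower.algebraMap_apply k A (B ⧸ 𝔪.map (algebraMap A B)) c).trans rfl
  haveI : Algebra.FormallySmooth (A ⧸ 𝔪) (B ⧸ 𝔪.map (algebraMap A B)) :=
    Algebra.FormallySmooth.of_restrictScalars k (A ⧸ 𝔪) (B ⧸ 𝔪.map (algebraMap A B))
  haveI : Algebra.FormallySmooth A B := GrothLib.Cohen.formallySmooth_of_flat_of_nilpotent 𝔪 hm
  have hI : IsNilpotent (Ideal.span {algebraMap A B t}) := by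
    refine ⟨2, ?_⟩
    rw [Ideal.span_singleton_pow, ← map_pow, sq, htm t ht, map_zero, Ideal.span_singleton_eq_bot.2 rfl]
    rfl
  let τ : B →ₐ[A] B :=
    Algebra.FormallySmooth.lift _ hI (σ.toAlgHom.comp (Ideal.Quotient.mkₐ A _))
  have hτ : ∀ b, Ideal.Quotient.mk (Ideal.span {algebraMap A B t}) (τ b) = σ (Ideal.Quotient.mk _ b) := fun b =>
    Algebra.FormallySmooth.mk_lift _ hI _ b
  have hdecomp : ∀ y : B, ∃ b z, y = τ b + algebraMap A B t * z := fun y => by
    obtain ⟨b, hb⟩ := Ideal.Quotient.mk_surjective (σ.symm (Ideal.Quotient.mk _ y))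
    have h : y - τ b ∈ Ideal.span {algebraMap A B t} := by
      rw [← Ideal.Quotient.eq, hτ, hb, AlgEquiv.apply_symm_apply]
    obtain ⟨z, hz⟩ := Ideal.mem_span_singleton'.1 h
    exact ⟨b, z, by rw [mul_comm, hz]; ring⟩
  have htt : algebraMap A B t * algebraMap A B t = 0 := by rw [← map_mul, htm t ht, map_zero]
  have hsurj : Function.Surjective τ := fun y => by
    obtain ⟨b, z, rfl⟩ := hdecomp y
    obtain ⟨b', z', rfl⟩ := hdecomp z
    refine ⟨b + algebraMap A B t * b', ?_⟩
    rw [map_add, map_mul, AlgHom.commutes, mul_add, ← mul_assoc _ _ z', htt, zero_mul, add_zero]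
  have hinj : Function.Injective τ := by
    rw [injective_iff_map_eq_zero]
    intro b hb
    have h1 : Ideal.Quotient.mk (Ideal.span {algebraMap A B t}) b = 0 :=
      σ.injective (by rw [← hτ, hb, map_zero, map_zero])
    obtain ⟨c, rfl⟩ := Ideal.mem_span_singleton'.1 (Ideal.Quotient.eq_zero_iff_mem.1 h1)
    by_cases ht0 : t = 0
    · simp [ht0]
    rw [mul_comm c, map_mul, AlgHom.commutes, ← Algebra.smul_def] at hb
    have h2 : τ c ∈ 𝔪.map (algebraMap A B) := by
      have := GrothLib.DefLift.mem_colon_smul_top (M := B) (⊥ : Ideal A) t (w := τ c)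
        (by rw [hb]; exact Submodule.zero_mem _)
      rw [Ideal.smul_top_eq_map] at this
      refine Ideal.map_mono (fun a ha => ?_) (by exact this)
      have ha' : t * a = 0 := ha
      by_contra h
      exact ht0 ((IsLocalRing.notMem_maximalIdeal.1 h).mul_left_eq_zero.1 ha')
    have h3 : σ (Ideal.Quotient.mk _ c) ∈ 𝔪.map (algebraMap A (B ⧸ Ideal.span {algebraMap A B t})) := by
      rw [← hτ, ← Ideal.Quotient.mk_comp_algebraMap, ← Ideal.map_map]
      exact Ideal.mem_map_of_mem _ h2
    have h4 : Ideal.Quotient.mk (Ideal.span {algebraMap A B t}) c ∈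
        (𝔪.map (algebraMap A B)).map (Ideal.Quotient.mk (Ideal.span {algebraMap A B t})) := by
      have := Ideal.mem_map_of_mem σ.symm.toAlgHom h3
      rw [show (𝔪.map (algebraMap A (B ⧸ Ideal.span {algebraMap A B t}))).map σ.symm.toAlgHom =
        𝔪.map (algebraMap A (B ⧸ Ideal.span {algebraMap A B t})) by
          show Ideal.map σ.symm.toAlgHom.toRingHom _ = _
          rw [Ideal.map_map, AlgHom.toRingHom_eq_coe, AlgHom.comp_algebraMap]] at this
      rw [Ideal.map_map, Ideal.Quotient.mk_comp_algebraMap]
      simpa using this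
    rw [Ideal.mem_quotient_iff_mem (Ideal.span_le.2 (Set.singleton_subset_iff.2 (Ideal.mem_map_of_mem _ ht)))] at h4
    rw [mul_comm]
    have hle : 𝔪.map (algebraMap A B) ≤ Submodule.comap (LinearMap.mulLeft B (algebraMap A B t)) (⊥ : Submodule B B) := by
      rw [Ideal.map_le_iff_le_comap]
      intro a ha
      show algebraMap A B t * algebraMap A B a = 0
      rw [← map_mul, mul_comm, htm a ha, map_zero]
    exact hle h4
  exact ⟨AlgEquiv.ofBijective τ ⟨hinj, hsurj⟩, hτ⟩

end Groth.Agent.S11280
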