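import Groth.Agent.Lib.CotT.SqZeroExtension
import Groth.Statements.S11284
-- import your own Groth.Agent.* helpers here

set_option autoImplicit false
universe u
open Deform

namespace Groth.Agent.S11284

/-- Let k be an algebraically closed field and A → B a map of finitely generated k-algebras with B
reduced and smooth over A at every minimal prime of B (the morphism Spec B → Spec A is smooth on a
dense open subset). Let E → B be a surjection of A-algebras whose kernel I has square zero and is,
as a B-module, finitely generated and projective (an extension of B over A by a locally free
module). Then the conormal map I = I/I^2 → B ⊗_E Ω_{E/A} is injective, so that the relative conormal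
sequence 0 → I → B ⊗_E Ω_{E/A} → Ω_{B/A} → 0 of the extension is exact also on the left. This is the
affine case of the statement for a morphism of finite type of algebraic schemes and a coherent
locally free kernel. -/
theorem result
    {k : Type u} [Field k] [IsAlgClosed k]
    {A B : Type u} [CommRing A] [CommRing B] [Algebra k A] [Algebra k B] [Algebra A B]
    [IsScalarTower k A B] [Algebra.FiniteType k A] [Algebra.FiniteType k B] [IsReduced B]
    (hsm : ∀ p : PrimeSpectrum B, p.asIdeal ∈ minimalPrimes B → Algebra.IsSmoothAt A p.asIdeal)
    (P : Algebra.Extension.{u} A B) (hsq : P.ker ^ 2 = ⊥)
    [Module.Finite B P.Cotangent] [Module.Projective B P.Cotangent] :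
    Function.Injective P.cotangentComplex := by
  exact GrothLib.CotT.cotangentComplex_injective_of_smoothAt_minimalPrimes hsm P

end Groth.Agent.S11284
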