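import Groth.Agent.Lib.CotT.SqZeroExtension
import Groth.Statements.S11286
-- import your own Groth.Agent.* helpers here

set_option autoImplicit false
universe u
open Deform

namespace Groth.Agent.S11286

/-- Let k be an algebraically closed field and A → B a map of finitely generated k-algebras with B
reduced and smooth over A at every minimal prime of B (the morphism Spec B → Spec A is smooth on a
dense open subset). Let E → B and E' → B be two A-algebra extensions with square-zero kernels I, I',
where I is a finitely generated projective B-module, and suppose their relative conormal sequences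
are isomorphic as extensions of Ω_{B/A}: there are B-linear isomorphisms I ≅ I' and B ⊗_E Ω_{E/A} ≅
B ⊗_{E'} Ω_{E'/A} commuting with the conormal maps and with the canonical maps to Ω_{B/A}. Then
there is a homomorphism of extensions E → E' (a ring map over A and over B) which is bijective and
induces the given isomorphism I ≅ I'. This is the injectivity half of the identification of Ex_A(B,
M) with Ext^1_B(Ω_{B/A}, M); affine case of the statement for algebraic schemes. -/
theorem result
    {k : Type u} [Field k] [IsAlgClosed k]
    {A B : Type u} [CommRing A] [CommRing B] [Algebra k A] [Algebra k B] [Algebra A B]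
    [IsScalarTower k A B] [Algebra.FiniteType k A] [Algebra.FiniteType k B] [IsReduced B]
    (hsm : ∀ p : PrimeSpectrum B, p.asIdeal ∈ minimalPrimes B → Algebra.IsSmoothAt A p.asIdeal)
    (P P' : Algebra.Extension.{u} A B) (hsq : P.ker ^ 2 = ⊥) (hsq' : P'.ker ^ 2 = ⊥)
    [Module.Finite B P.Cotangent] [Module.Projective B P.Cotangent]
    (e₁ : P.Cotangent ≃ₗ[B] P'.Cotangent) (e₂ : P.CotangentSpace ≃ₗ[B] P'.CotangentSpace)
    (h₁ : ∀ x, e₂ (P.cotangentComplex x) = P'.cotangentComplex (e₁ x))
    (h₂ : ∀ y, P'.toKaehler (e₂ y) = P.toKaehler y) :
    ∃ f : P.Hom P', Function.Bijective f.toRingHom ∧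
      Algebra.Extension.Cotangent.map f = e₁.toLinearMap := by
  exact GrothLib.CotT.exists_hom_bijective_of_iso P P' hsq hsq'
    (GrothLib.CotT.cotangentComplex_injective_of_smoothAt_minimalPrimes hsm P) e₁ e₂ h₁ h₂

end Groth.Agent.S11286
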