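import Groth.Agent.Lib.CotT.PowerSeriesExt
import Groth.Statements.S11287
-- import your own Groth.Agent.* helpers here

set_option autoImplicit false
universe u
open Deform

namespace Groth.Agent.S11287

/-- Let k be an algebraically closed field, Λ a complete local Noetherian k-algebra with residue field
k, P = Λ[[X_1, …, X_d]] the power series ring, J an ideal of P contained in (X_1, …, X_d)^2, R =
P/J, and L a simple R-module (a copy of the residue field k). Then: (a) for every Λ-extension 0 → L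
→ E → R → 0 the quotient map P → R lifts to a Λ-algebra map u : P → E; (b) for two such extensions
E, E' with lifts u, u', the extensions are equivalent if and only if u and u' send every element of
J to the images of the same element of L (the restrictions J → L of the lifts agree); (c) every
P-linear map J → L is the restriction of a lift for some extension. Thus the classes of Λ-extensions
of R by L correspond bijectively to Hom_P(J, L), the dual of J/m_P J; this is the identification of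
the obstruction space o(R/Λ) for a complete R (the general case reduces to it by passing to the
completion). -/
theorem result
    {k : Type u} [Field k] [IsAlgClosed k]
    {Λ : Type u} [CommRing Λ] [Algebra k Λ] [IsLocalRing Λ] [IsNoetherianRing Λ]
    [IsAdicComplete (IsLocalRing.maximalIdeal Λ) Λ]
    (hΛ : ∀ a : Λ, ∃ c : k, a - algebraMap k Λ c ∈ IsLocalRing.maximalIdeal Λ)
    (d : ℕ) (J : Ideal (MvPowerSeries (Fin d) Λ))
    (hJ : J ≤ Ideal.span (Set.range (MvPowerSeries.X : Fin d → MvPowerSeries (Fin d) Λ)) ^ 2)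
    (L : Type u) [AddCommGroup L] [Module (MvPowerSeries (Fin d) Λ ⧸ J) L] [Module (MvPowerSeries (Fin d) Λ) L]
    [IsScalarTower (MvPowerSeries (Fin d) Λ) (MvPowerSeries (Fin d) Λ ⧸ J) L] [IsSimpleModule (MvPowerSeries (Fin d) Λ ⧸ J) L] :
    (∀ X : Exal.Ext Λ (MvPowerSeries (Fin d) Λ ⧸ J) L,
        ∃ u : MvPowerSeries (Fin d) Λ →ₐ[Λ] X.E, ∀ p, X.proj (u p) = Ideal.Quotient.mk J p) ∧
    (∀ (X X' : Exal.Ext Λ (MvPowerSeries (Fin d) Λ ⧸ J) L) (u : MvPowerSeries (Fin d) Λ →ₐ[Λ] X.E) (u' : MvPowerSeries (Fin d) Λ →ₐ[Λ] X'.E),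
        (∀ p, X.proj (u p) = Ideal.Quotient.mk J p) → (∀ p, X'.proj (u' p) = Ideal.Quotient.mk J p) →
        (Nonempty (X.Equiv X') ↔ ∀ j ∈ J, ∃ z : L, X.incl z = u j ∧ X'.incl z = u' j)) ∧
    (∀ δ : J →ₗ[MvPowerSeries (Fin d) Λ] L, ∃ (X : Exal.Ext Λ (MvPowerSeries (Fin d) Λ ⧸ J) L) (u : MvPowerSeries (Fin d) Λ →ₐ[Λ] X.E),
        (∀ p, X.proj (u p) = Ideal.Quotient.mk J p) ∧ ∀ j : J, X.incl (δ j) = u j) := by
  haveI : Nontrivial L := IsSimpleModule.nontrivial (MvPowerSeries (Fin d) Λ ⧸ J) L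
  haveI : Nontrivial (MvPowerSeries (Fin d) Λ ⧸ J) := Module.nontrivial _ L
  refine ⟨fun X => GrothLib.CotT.exists_lift_powerSeries X, fun X X' u u' hu hu' => ⟨fun ⟨e⟩ j hj =>
    GrothLib.CotT.lifts_agree_of_equiv hJ e u u' hu hu' j hj, fun h =>
      GrothLib.CotT.nonempty_equiv_of_lifts (Ideal.Quotient.mkₐ Λ J) Ideal.Quotient.mk_surjective X X' u u' hu hu'
        fun p hp => h p (Ideal.Quotient.eq_zero_iff_mem.1 hp)⟩, fun δ => ?_⟩
  haveI : IsSimpleModule (MvPowerSeries (Fin d) Λ) L := by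
    rw [isSimpleModule_iff_toSpanSingleton_surjective]
    refine ⟨inferInstance, fun z hz w => ?_⟩
    obtain ⟨r, hr⟩ := IsSimpleModule.toSpanSingleton_surjective (MvPowerSeries (Fin d) Λ ⧸ J) hz w
    obtain ⟨p, rfl⟩ := Ideal.Quotient.mk_surjective r
    exact ⟨p, (IsScalarTower.algebraMap_smul (MvPowerSeries (Fin d) Λ ⧸ J) p z).symm.trans hr⟩
  have hle : RingHom.ker (Ideal.Quotient.mkₐ Λ J) ≤ J := fun p hp => Ideal.Quotient.eq_zero_iff_mem.1 hp
  obtain ⟨X, u, hu, hj⟩ := GrothLib.CotT.exists_ext_of_linearMap (Ideal.Quotient.mkₐ Λ J) Ideal.Quotient.mk_surjective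
    (fun p l => (IsScalarTower.algebraMap_smul (MvPowerSeries (Fin d) Λ ⧸ J) p l).symm)
    (δ ∘ₗ Submodule.inclusion hle)
  exact ⟨X, u, hu, fun j => hj ⟨j, Ideal.Quotient.eq_zero_iff_mem.2 j.2⟩⟩

end Groth.Agent.S11287
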