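import Groth.Agent.Lib.ArtFun.DualLift
import Groth.Statements.S11288
-- import your own Groth.Agent.* helpers here

set_option autoImplicit false
universe u
open Deform

namespace Groth.Agent.S11288

/-- Let K be a field, R' a local Artinian K-algebra with residue field K, and t a nonzero element of the
maximal ideal m' of R' with m' t = 0, so that R' → R = R'/(t) is a small extension of R. Then the
extension is trivial, i.e. the projection admits a section which is a K-algebra map, if and only if
t is not in m'^2; equivalently, iff the surjection m'/m'^2 → m_R/m_R^2 induced on cotangent spaces,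
whose kernel is spanned by the class of t, is not bijective. For instance K[t]/(t^(n+1)) →
K[t]/(t^n) is a non-trivial small extension for n ≥ 2. (The published example allows any local
K-algebra with residue field K; the row takes R' Artinian, the case in which the subalgebra
generated by lifts of a basis of the cotangent space maps onto R.) -/
theorem result
    {K : Type u} [Field K]
    {R' : Type u} [CommRing R'] [Algebra K R'] [IsLocalRing R'] [IsArtinianRing R']
    (hres : ∀ a : R', ∃ c : K, a - algebraMap K R' c ∈ IsLocalRing.maximalIdeal R')
    (t : R') (ht : t ∈ IsLocalRing.maximalIdeal R') (ht0 : t ≠ 0)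
    (htm : ∀ a ∈ IsLocalRing.maximalIdeal R', a * t = 0) :
    (∃ s : (R' ⧸ Ideal.span {t}) →ₐ[K] R', ∀ x, Ideal.Quotient.mk (Ideal.span {t}) (s x) = x) ↔
      t ∉ IsLocalRing.maximalIdeal R' ^ 2 := by
  exact GrothLib.ArtFun.exists_section_iff_not_mem_sq hres t ht ht0 htm

end Groth.Agent.S11288
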