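import Groth.Statements.S11289
import Groth.Agent.Lib.DefSm26.Rigid

set_option autoImplicit false
universe u
open CategoryTheory CategoryTheory.Limits AlgebraicGeometry
open Deform

namespace Groth.Agent.S11289

/-- Let k be an algebraically closed field and X a nonsingular variety over k (an integral scheme,
separated, quasi-compact and smooth over Spec k). Call X rigid when every infinitesimal deformation
of X is trivial: for every local Artinian k-algebra A with a k-algebra augmentation e : A → k, every
scheme Y flat over Spec A and every morphism i : X → Y making X the fibre of Y over the closed point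
Spec k → Spec A, there is an isomorphism of Y with the product X ×_k Spec A over Spec A under which
i becomes the canonical inclusion of X. Then X is rigid if and only if H^1(X, T_X) = 0, written here
as the vanishing of Ext^1(Ω_{X/k}, O_X) in the category of O_X-modules (the same group, Ω_{X/k}
being locally free). The Artinian algebras A range over the universe of X. -/
theorem result
    {k : Type u} [Field k] [IsAlgClosed k]
    (X : Scheme.{u}) [X.Over (Spec (CommRingCat.of k))] [IsIntegral X]
    [Smooth (X ↘ Spec (CommRingCat.of k))] [IsSeparated (X ↘ Spec (CommRingCat.of k))]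
    [QuasiCompact (X ↘ Spec (CommRingCat.of k))] [HasExt.{u} X.Modules] :
    (∀ (A : Type u) [CommRing A] [Algebra k A] [IsLocalRing A] [IsArtinianRing A] (e : A →ₐ[k] k)
        (Y : Scheme.{u}) (f : Y ⟶ Spec (CommRingCat.of A)) (i : X ⟶ Y), Flat f →
        IsPullback i (X ↘ Spec (CommRingCat.of k)) f (Spec.map (CommRingCat.ofHom e.toRingHom)) →
        ∃ φ : Y ≅ pullback (X ↘ Spec (CommRingCat.of k)) (Spec.map (CommRingCat.ofHom (algebraMap k A))),
          φ.hom ≫ pullback.snd _ _ = f ∧ i ≫ φ.hom ≫ pullback.fst _ _ = 𝟙 X) ↔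
    Subsingleton (Abelian.Ext.{u} (Omega.sheaf (X ↘ Spec (CommRingCat.of k))) (Coh.structureModule X) 1) := by
  let x := X ↘ Spec (CommRingCat.of k)
  choose U hU hzU using fun z : X => exists_isAffineOpen_mem_and_subset (x := z) (U := ⊤) trivial
  have hcov : ∀ z : X, ∃ i, z ∈ U i := fun z => ⟨z, (hzU z).1⟩
  have hsup : iSup U = ⊤ := top_le_iff.1 fun z _ => TopologicalSpace.Opens.mem_iSup.2 (hcov z)
  have hiff := GrothLib.DefSm26.cechOne_iff_ext x U hsup hU
  have hx : Flat x := GrothLib.DefGlue19.flat_specPt x
  have hspec : ∀ (B : ArtFun.Art k k), ArtFun.Art.specMap (ArtFun.Art.ofBase B) =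
      Spec.map (CommRingCat.ofHom (algebraMap k B)) := fun B => rfl
  constructor
  · intro hrig
    refine hiff.1 (GrothLib.DefSm26.cechOne_of_subsingleton hcov ⟨fun u v => ?_⟩)
    have key : ∀ w : (ArtFun.defFunctor (Λ := k) X x).obj (ArtFun.Art.dual k k),
        w = (ArtFun.DefSch.trivial X x hx (ArtFun.Art.dual k k)).cl := fun w => by
      induction w using Quotient.inductionOn with | h ξ => ?_
      obtain ⟨φ, h1, h2⟩ := hrig (ArtFun.Art.dual k k) (ArtFun.Art.dual k k).res ξ.total ξ.f ξ.i ξ.flat ξ.isPullback
      refine Quotient.sound ⟨⟨φ, h1, ?_⟩⟩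
      apply pullback.hom_ext
      · refine (Category.assoc _ _ _).trans (h2.trans ?_)
        exact (ArtFun.DefSch.baseChange_i_fst (ArtFun.DefSch.self X x hx) (ArtFun.Art.ofBase _)).symm
      · refine (Category.assoc _ _ _).trans ?_
        refine Eq.trans (congrArg (ξ.i ≫ ·) h1) (ξ.i_f.trans ?_)
        exact (ArtFun.DefSch.baseChange_i_f (ArtFun.DefSch.self X x hx) (ArtFun.Art.ofBase _)).symm
    exact (key u).trans (key v).symm
  · intro hext A _ _ _ _ e Y f i hf hpb
    let B : ArtFun.Art k k := ArtFun.Art.of A e fun c => ⟨algebraMap k A c, e.commutes c⟩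
    let ξ : ArtFun.DefSch X x B := { total := Y, f := f, flat := hf, i := i, isPullback := hpb }
    haveI := GrothLib.DefSm26.subsingleton_defFunctor (Λ := k) hcov hU (hiff.2 hext) B
    obtain ⟨a⟩ : Nonempty (ξ.Iso (ArtFun.DefSch.trivial X x hx B)) :=
      Quotient.exact (Subsingleton.elim ξ.cl (ArtFun.DefSch.trivial X x hx B).cl)
    refine ⟨a.iso, a.hom_f, ?_⟩
    rw [← Category.assoc]
    refine (congrArg (· ≫ _) a.i_hom).trans ?_
    exact ArtFun.DefSch.baseChange_i_fst (ArtFun.DefSch.self X x hx) (ArtFun.Art.ofBase B)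

end Groth.Agent.S11289
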