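import Groth.Statements.S11290
import Groth.Agent.Lib.DefSm26.Main

set_option autoImplicit false
universe u
open CategoryTheory CategoryTheory.Limits AlgebraicGeometry
open Deform

namespace Groth.Agent.S11290

/-- Let k be an algebraically closed field and X a nonsingular variety over k (integral, separated,
quasi-compact and smooth over Spec k) with H^2(X, T_X) = 0, written as the vanishing of
Ext^2(Ω_{X/k}, O_X) in the category of O_X-modules. Then X is unobstructed: for every local Artinian
k-algebra A', every t in the maximal ideal of A' annihilated by the maximal ideal (so that A' → A =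
A'/(t) is a small extension), every k-algebra augmentation e : A → k and every infinitesimal
deformation of X over A — a scheme Y flat over Spec A with a morphism i : X → Y making X the fibre
over the point Spec k → Spec A given by e — there are a scheme Y' flat over Spec A' and a morphism Y
→ Y' making Y the base change of Y' along Spec A → Spec A' (a lifting of the deformation to A'). -/
theorem result
    {k : Type u} [Field k] [IsAlgClosed k]
    (X : Scheme.{u}) [X.Over (Spec (CommRingCat.of k))] [IsIntegral X]
    [Smooth (X ↘ Spec (CommRingCat.of k))] [IsSeparated (X ↘ Spec (CommRingCat.of k))]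
    [QuasiCompact (X ↘ Spec (CommRingCat.of k))] [HasExt.{u} X.Modules]
    (h2 : Subsingleton (Abelian.Ext.{u} (Omega.sheaf (X ↘ Spec (CommRingCat.of k))) (Coh.structureModule X) 2))
    (A' : Type u) [CommRing A'] [Algebra k A'] [IsLocalRing A'] [IsArtinianRing A']
    (t : A') (ht : t ∈ IsLocalRing.maximalIdeal A') (htm : ∀ a ∈ IsLocalRing.maximalIdeal A', a * t = 0)
    (e : (A' ⧸ Ideal.span {t}) →ₐ[k] k)
    (Y : Scheme.{u}) (f : Y ⟶ Spec (CommRingCat.of (A' ⧸ Ideal.span {t}))) (i : X ⟶ Y) (hf : Flat f)
    (hY : IsPullback i (X ↘ Spec (CommRingCat.of k)) f (Spec.map (CommRingCat.ofHom e.toRingHom))) :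
    ∃ (Y' : Scheme.{u}) (f' : Y' ⟶ Spec (CommRingCat.of A')) (j : Y ⟶ Y'), Flat f' ∧
      IsPullback j f f' (Spec.map (CommRingCat.ofHom (Ideal.Quotient.mk (Ideal.span {t})))) := by
  have hK : Ideal.span {t} ≤ IsLocalRing.maximalIdeal A' := by
    rw [Ideal.span_le, Set.singleton_subset_iff]
    exact ht
  have hr : Function.Surjective (e.comp (Ideal.Quotient.mkₐ k (Ideal.span {t}))) :=
    fun c => ⟨algebraMap k A' c, AlgHom.commutes _ c⟩
  let B : ArtFun.Art k k := ArtFun.Art.of A' (e.comp (Ideal.Quotient.mkₐ k (Ideal.span {t}))) hr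
  let A : ArtFun.Art k k := ArtFun.Art.quot B (Ideal.span {t}) hK
  have hres : A.res = e := Ideal.Quotient.algHom_ext k (Ideal.Quotient.liftₐ_comp _ _ _)
  let ξ : ArtFun.DefSch X (X ↘ Spec (CommRingCat.of k)) A :=
    { total := Y
      f := f
      flat := hf
      i := i
      isPullback := by
        have h1 : ArtFun.Art.specRes A = Spec.map (CommRingCat.ofHom e.toRingHom) := by
          show Spec.map (CommRingCat.ofHom A.res.toRingHom) = _
          rw [hres]
          rfl
        rw [h1]
        exact hY }
  obtain ⟨u, hu⟩ := GrothLib.DefSm26.isSmoothFunctor_of_ext (Λ := k) h2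
    (ArtFun.Art.quotMk B (Ideal.span {t}) hK) (ArtFun.Art.quotMk_surjective B _ hK) ξ.cl
  induction u using Quotient.inductionOn with | h ζ => ?_
  obtain ⟨a⟩ := GrothLib.DefGlue19.arr_of_eq (ξ := ζ) (η := ξ) hu
  exact ⟨ζ.total, ζ.f, a.hom, ζ.flat, a.isPullback⟩

end Groth.Agent.S11290
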