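import Groth.Agent.Lib.CotT.ExalTriv
import Groth.Statements.S11291
-- import your own Groth.Agent.* helpers here

set_option autoImplicit false
universe u
open Deform

namespace Groth.Agent.S11291

/-- Let k be an algebraically closed field and A a local Artinian k-algebra with residue field k and
non-zero maximal ideal, i.e. A is not k. Then the obstruction space o(A) = Ex_k(A, k) is not zero:
there is a k-extension 0 → k → E → A → 0 of A by its residue field which is not trivial (admits no
k-algebra section). Equivalently, k is the only formally smooth object among local Artinian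
k-algebras with residue field k. -/
theorem result
    {k : Type u} [Field k] [IsAlgClosed k]
    {A : Type u} [CommRing A] [Algebra k A] [IsLocalRing A] [IsArtinianRing A]
    (hres : ∀ a : A, ∃ c : k, a - algebraMap k A c ∈ IsLocalRing.maximalIdeal A)
    (hA : IsLocalRing.maximalIdeal A ≠ ⊥) :
    ∃ X : Exal.Ext k A (IsLocalRing.ResidueField A), ¬ X.IsTrivial := by
  by_contra hcon
  push_neg at hcon
  haveI : Algebra.FiniteType k A := GrothLib.CotT.finiteType_of_artinian hres
  haveI : Algebra.FinitePresentation k A := Algebra.FinitePresentation.of_finiteType.1 inferInstance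
  haveI : Algebra.FormallySmooth k A :=
    GrothLib.CotT.formallySmooth_of_subsingleton_T1_residueField (Algebra.Presentation.ofFinitePresentation k A)
      ((GrothLib.CotT.subsingleton_T1_iff (CotT.canon k A) _ _).1
        ((GrothLib.CotT.forall_isTrivial_iff_subsingleton_T1 (CotT.canon k A)).1 hcon))
  haveI hp : (IsLocalRing.maximalIdeal A).IsPrime := inferInstance
  haveI := (GrothLib.CotT.formallySmooth_iff_regular k A).1 inferInstance (IsLocalRing.maximalIdeal A)
  let e : A ≃ₐ[A] Localization.AtPrime (IsLocalRing.maximalIdeal A) :=
    IsLocalization.atUnits A (IsLocalRing.maximalIdeal A).primeCompl (fun x hx => by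
      exact (IsUnit.mem_submonoid_iff x).2 (by simpa [IsLocalRing.mem_maximalIdeal, mem_nonunits_iff, Ideal.primeCompl] using hx))
  haveI : IsRegularLocalRing A := IsRegularLocalRing.of_ringEquiv e.symm.toRingEquiv
  have h1 := (isRegularLocalRing_iff A).1 inferInstance
  rw [ringKrullDimZero_iff_ringKrullDim_eq_zero.1 inferInstance, ← Nat.cast_zero] at h1
  exact hA ((Submodule.spanFinrank_eq_zero_iff_eq_bot (IsNoetherian.noetherian _)).1 (by exact_mod_cast h1))

end Groth.Agent.S11291
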