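import Groth.Agent.Lib.EmbDef.Basic
import Groth.Statements.S11294
-- import your own Groth.Agent.* helpers here

set_option autoImplicit false
universe u
open Deform

namespace Groth.Agent.S11294

open TrivSqZeroExt in
/-- Let P be a commutative ring, J an ideal, and P[ε] the ring of dual numbers over P. First-order
embedded deformations of Spec(P/J) in Spec P, namely ideals J' of P[ε] lifting J (the image of J'
under ε ↦ 0 is J) with P[ε]/J' flat over the dual numbers — flatness being replaced by the condition
that every element of P[ε]/J' annihilated by ε is a multiple of ε (equivalent to flatness over k[ε]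
when P is an algebra over a field k) — are in canonical bijection with Hom_P(J, P/J) =
Hom_{P/J}(J/J^2, P/J), the normal module: to φ corresponds the ideal of all a + εb with a in J and b
reducing to φ(a) modulo J. The first clause says this rule defines exactly one ideal for each φ; the
second says an ideal J' is a flat lift of J precisely when its membership is given by this rule for
some φ. (The published statement is the global one, identifying first-order deformations of a closed
subscheme X of an algebraic scheme Y with H^0(X, N_{X/Y}); this row is the affine computation in its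
proof, valid for every commutative ring P.) -/
theorem result (P : Type u) [CommRing P] (J : Ideal P) :
    (∀ φ : J →ₗ[P] (P ⧸ J), ∃! J' : Ideal (DualNumber P),
        ∀ a b : P, (inl a + inr b : DualNumber P) ∈ J' ↔ ∃ h : a ∈ J, Ideal.Quotient.mk J b = φ ⟨a, h⟩) ∧
    (∀ J' : Ideal (DualNumber P),
      (J'.map (TrivSqZeroExt.fstHom P P P) = J ∧
        ∀ m : DualNumber P ⧸ J', Ideal.Quotient.mk J' DualNumber.eps * m = 0 →
          ∃ m' : DualNumber P ⧸ J', m = Ideal.Quotient.mk J' DualNumber.eps * m') ↔
      ∃ φ : J →ₗ[P] (P ⧸ J), ∀ a b : P,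
        (inl a + inr b : DualNumber P) ∈ J' ↔ ∃ h : a ∈ J, Ideal.Quotient.mk J b = φ ⟨a, h⟩) := by
  have hJE : ∀ c ∈ J, ∀ e : P, Submodule.mkQ J (c • e) = 0 := fun c hc e =>
    (Submodule.Quotient.mk_eq_zero J).2 (Ideal.mul_mem_right _ _ hc)
  refine ⟨fun φ => GrothLib.EmbDef.existsUnique_ideal (ρ := Submodule.mkQ J) hJE φ, fun J' => ?_⟩
  refine Iff.trans ⟨fun ⟨h1, h2⟩ => ⟨h1, fun b => ?_⟩, fun ⟨h1, h2⟩ => ⟨h1, fun x hx => ?_⟩⟩
    (GrothLib.EmbDef.exists_hom_iff (ρ := Submodule.mkQ J) (J := J) J.mkQ_surjective J')
  · rw [Submodule.mkQ_apply, Submodule.Quotient.mk_eq_zero]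
    refine ⟨fun hb => ?_, fun hb => ?_⟩
    · have e : (DualNumber.eps : DualNumber P) * inl b = inr b := by
        refine TrivSqZeroExt.ext ?_ ?_ <;> simp
      obtain ⟨m', hm'⟩ := h2 (Ideal.Quotient.mk J' (inl b)) (by
        rw [← map_mul, e]
        exact Ideal.Quotient.eq_zero_iff_mem.2 hb)
      obtain ⟨y, rfl⟩ := Ideal.Quotient.mk_surjective m'
      rw [← map_mul, Ideal.Quotient.eq] at hm'
      have := Ideal.mem_map_of_mem (TrivSqZeroExt.fstHom P P P) hm'
      rw [h1] at this
      simpa using this
    · rw [← h1, GrothLib.EmbDef.mem_map_fst_iff] at hb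
      obtain ⟨c, hc⟩ := hb
      have := J'.mul_mem_left DualNumber.eps hc
      have e : (DualNumber.eps : DualNumber P) * (inl b + inr c) = inr b := by
        refine TrivSqZeroExt.ext ?_ ?_ <;> simp
      rwa [e] at this
  · obtain ⟨z, rfl⟩ := Ideal.Quotient.mk_surjective x
    rw [← map_mul, Ideal.Quotient.eq_zero_iff_mem] at hx
    have e : (DualNumber.eps : DualNumber P) * z = inr z.fst := by
      refine TrivSqZeroExt.ext ?_ ?_ <;> simp
    rw [e, h2, Submodule.mkQ_apply, Submodule.Quotient.mk_eq_zero] at hx
    rw [← h1, GrothLib.EmbDef.mem_map_fst_iff] at hx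
    obtain ⟨c, hc⟩ := hx
    refine ⟨Ideal.Quotient.mk J' (inl (z.snd - c)), ?_⟩
    rw [← map_mul, Ideal.Quotient.eq]
    have e' : z - DualNumber.eps * inl (z.snd - c) = inl z.fst + inr c := by
      refine TrivSqZeroExt.ext ?_ ?_ <;> simp
    rwa [e']

end Groth.Agent.S11294
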