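import Groth.Statements.S11298
import Groth.Agent.Lib.Depth.Basic

set_option autoImplicit false
universe u v
open LocCoh

namespace Groth.Agent.S11298

theorem pull (B : Type u) [CommRing B] (M : Type v) [AddCommGroup M] [Module B M] (x y : B)
    (h : RingTheory.Sequence.IsWeaklyRegular B [x, y]) :
    RingTheory.Sequence.IsWeaklyRegular (M →ₗ[B] B) [x, y] := by
  rw [RingTheory.Sequence.isWeaklyRegular_cons_iff,
    RingTheory.Sequence.isWeaklyRegular_singleton_iff] at h ⊢
  refine ⟨fun f g hfg => LinearMap.ext fun m => h.1 (LinearMap.congr_fun hfg m), ?_⟩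
  rw [isSMulRegular_iff_right_eq_zero_of_smul]
  intro q hq
  obtain ⟨f, rfl⟩ := Submodule.Quotient.mk_surjective _ q
  rw [← Submodule.Quotient.mk_smul, Submodule.Quotient.mk_eq_zero,
    Submodule.mem_smul_pointwise_iff_exists] at hq
  obtain ⟨g, -, hg⟩ := hq
  have hf : ∀ m, ∃ b, x * b = f m := fun m => by
    have h0 : y • (Submodule.Quotient.mk (f m) : QuotSMulTop x B) = y • 0 := by
      rw [smul_zero, ← Submodule.Quotient.mk_smul, Submodule.Quotient.mk_eq_zero,
        Submodule.mem_smul_pointwise_iff_exists]
      exact ⟨g m, Submodule.mem_top, LinearMap.congr_fun hg m⟩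
    obtain ⟨b, -, hb⟩ := (Submodule.mem_smul_pointwise_iff_exists _ _ _).1
      ((Submodule.Quotient.mk_eq_zero _).1 (h.2 h0))
    exact ⟨b, hb⟩
  choose b hb using hf
  refine (Submodule.Quotient.mk_eq_zero _).2 ((Submodule.mem_smul_pointwise_iff_exists _ _ _).2
    ⟨{ toFun := b
       map_add' := fun m n => h.1 ?_
       map_smul' := fun c m => h.1 ?_ }, Submodule.mem_top, LinearMap.ext hb⟩)
  · simp only [smul_eq_mul]
    rw [mul_add, hb, hb, hb, map_add]
  · simp only [smul_eq_mul, RingHom.id_apply]
    rw [mul_left_comm, hb, hb, map_smul, smul_eq_mul]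


/-- Let X = Spec B be an affine Noetherian scheme, Z = V(I) a closed subscheme and G a coherent sheaf,
i.e. a finitely generated B-module M, with dual G^v = Hom_B(M, B). If depth_Z(O_X) ≥ 2 then
depth_Z(G^v) ≥ 2. Here the depth along I of a module N is the supremum of the lengths of N-regular
sequences contained in I (and is infinite when I N = N). (The published statement adds that sections
of the dual over X and over X minus Z agree; this row omits that clause.) -/
theorem result (B : Type u) [CommRing B] [IsNoetherianRing B]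
    (I : Ideal B) (M : Type v) [AddCommGroup M] [Module B M] [Module.Finite B M]
    (h : 2 ≤ LocCoh.idealDepth I B) : 2 ≤ LocCoh.idealDepth I (M →ₗ[B] B) := by
  rw [LocCoh.idealDepth]
  split_ifs with hD
  · exact le_top
  by_cases hB : I • (⊤ : Submodule B B) = ⊤
  · exact absurd (by
      rw [Ideal.smul_eq_mul, Ideal.mul_top] at hB
      rw [hB, Submodule.top_smul]) hD
  obtain ⟨rs, hlen, hmem, hreg⟩ := (GrothLib.Depth.le_idealDepth_iff_exists I hB 2).1 (by exact_mod_cast h)
  obtain ⟨x, y, rfl⟩ := List.length_eq_two.1 hlen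
  exact le_iSup₂_of_le [x, y] ⟨pull B M x y hreg, hmem⟩ (by simp)

end Groth.Agent.S11298
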