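import Groth.Statements.S11299
import Mathlib.Algebra.Module.Projective
import Mathlib.LinearAlgebra.Isomorphisms
import Mathlib.Tactic.Abel
-- import your own Groth.Agent.* helpers here

set_option autoImplicit false
universe u
open CAlg

namespace Groth.Agent.S11299

variable {P : Type u} [CommRing P] {J : Ideal P}
  {F : Type u} [AddCommGroup F] [Module P F] {F' : Type u} [AddCommGroup F'] [Module P F']

/-- The trivial relations. -/
abbrev Rtr (j : F →ₗ[P] P) : Submodule P (LinearMap.ker j) :=
  Submodule.comap (LinearMap.ker j).subtype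
    (Submodule.span P {y : F | ∃ u v : F, y = j u • v - j v • u})

/-- Restrictions of homomorphisms on the free module. -/
abbrev Bd (J : Ideal P) (j : F →ₗ[P] P) : Submodule P ((LinearMap.ker j) →ₗ[P] P ⧸ J) :=
  LinearMap.range (LinearMap.lcomp P (P ⧸ J) (LinearMap.ker j).subtype)

/-- Homomorphisms killing the trivial relations. -/
abbrev Cy (J : Ideal P) (j : F →ₗ[P] P) : Submodule P ((LinearMap.ker j) →ₗ[P] P ⧸ J) :=
  LinearMap.ker (LinearMap.lcomp P (P ⧸ J) (Rtr j).subtype)

abbrev T2 (J : Ideal P) (j : F →ₗ[P] P) : Submodule P (((LinearMap.ker j) →ₗ[P] P ⧸ J) ⧸ Bd J j) :=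
  Submodule.map (Bd J j).mkQ (Cy J j)

/-- The map on relation modules. -/
def relMap (j : F →ₗ[P] P) (j' : F' →ₗ[P] P) (g : F →ₗ[P] F') (hg : j' ∘ₗ g = j) :
    LinearMap.ker j →ₗ[P] LinearMap.ker j' :=
  g.restrict fun x hx => by
    rw [LinearMap.mem_ker] at hx ⊢
    rw [← LinearMap.comp_apply, hg, hx]

/-- The map on quotients. -/
def qMap (J : Ideal P) (j : F →ₗ[P] P) (j' : F' →ₗ[P] P) (g : F →ₗ[P] F') (hg : j' ∘ₗ g = j) :
    (((LinearMap.ker j') →ₗ[P] P ⧸ J) ⧸ Bd J j') →ₗ[P] (((LinearMap.ker j) →ₗ[P] P ⧸ J) ⧸ Bd J j) :=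
  Submodule.mapQ _ _ (LinearMap.lcomp P (P ⧸ J) (relMap j j' g hg)) (by
    rintro _ ⟨ψ, rfl⟩
    exact ⟨ψ ∘ₗ g, LinearMap.ext fun x => rfl⟩)

theorem qMap_mem (j : F →ₗ[P] P) (j' : F' →ₗ[P] P) (g : F →ₗ[P] F') (hg : j' ∘ₗ g = j) :
    ∀ x ∈ T2 J j', qMap J j j' g hg x ∈ T2 J j := by
  rintro _ ⟨φ, hφ, rfl⟩
  refine ⟨φ ∘ₗ relMap j j' g hg, ?_, rfl⟩
  apply LinearMap.ext
  rintro ⟨x, hx⟩
  have hx' : relMap j j' g hg x ∈ Rtr j' := by
    show g (x : F) ∈ Submodule.span P {y : F' | ∃ u v : F', y = j' u • v - j' v • u}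
    have hle : Submodule.span P {y : F | ∃ u v : F, y = j u • v - j v • u} ≤
        Submodule.comap g (Submodule.span P {y : F' | ∃ u v : F', y = j' u • v - j' v • u}) := by
      rw [Submodule.span_le]
      rintro _ ⟨u, v, rfl⟩
      refine Submodule.subset_span ⟨g u, g v, ?_⟩
      rw [map_sub, map_smul, map_smul, ← hg]
      rfl
    exact hle hx
  exact LinearMap.congr_fun hφ ⟨_, hx'⟩

theorem qMap_comp_eq_id (j : F →ₗ[P] P) (j' : F' →ₗ[P] P) (g : F →ₗ[P] F') (hg : j' ∘ₗ g = j)
    (g' : F' →ₗ[P] F) (hg' : j ∘ₗ g' = j') :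
    ∀ x ∈ T2 J j, qMap J j j' g hg (qMap J j' j g' hg' x) = x := by
  rintro _ ⟨φ, -, rfl⟩
  rw [Submodule.mkQ_apply]
  show Submodule.Quotient.mk ((φ ∘ₗ relMap j' j g' hg') ∘ₗ relMap j j' g hg) = Submodule.Quotient.mk φ
  rw [Submodule.Quotient.eq]
  let δ : F →ₗ[P] LinearMap.ker j := LinearMap.codRestrict _ (g' ∘ₗ g - LinearMap.id) fun x => by
    rw [LinearMap.mem_ker, LinearMap.sub_apply, map_sub, LinearMap.comp_apply, ← LinearMap.comp_apply j g', hg',
      ← LinearMap.comp_apply j' g, hg, LinearMap.id_apply, sub_self]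
  refine ⟨φ ∘ₗ δ, LinearMap.ext fun x => ?_⟩
  show φ (δ x) = φ _ - φ x
  rw [← map_sub]
  exact congrArg φ (Subtype.ext rfl)

theorem exists_lift [Module.Projective P F] (j : F →ₗ[P] P) (j' : F' →ₗ[P] P)
    (h : LinearMap.range j ≤ LinearMap.range j') : ∃ g : F →ₗ[P] F', j' ∘ₗ g = j := by
  obtain ⟨g, hg⟩ := Module.projective_lifting_property j'.rangeRestrict
    (LinearMap.codRestrict _ j fun x => h ⟨x, rfl⟩) j'.surjective_rangeRestrict
  exact ⟨g, LinearMap.ext fun x => congrArg Subtype.val (LinearMap.congr_fun hg x)⟩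

/-- The second cotangent module does not depend on the presentation: let P be a commutative ring, J an
ideal and B = P/J. For a presentation of J, i.e. a finitely generated free P-module F with a
P-linear map j : F → P with image J, let R = ker j be the relation module and R^tr ⊆ R the span of
the trivial relations j(u) • v - j(v) • u; the module T^2 of the presentation is the quotient of
Hom_B(R/R^tr, B), realised as the P-linear maps R → P/J vanishing on R^tr, by the restrictions to R
of the P-linear maps F → P/J (here: the image of that submodule in the quotient of Hom_P(R, P/J) by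
the restrictions). Then for two presentations (F, j) and (F', j') of the same ideal J the two
modules T^2 are isomorphic as P-modules (existence of an isomorphism; the comparison maps depend on
expressing one system of generators through the other). (The published statement takes B essentially
of finite type over a field and P smooth; this row allows any commutative ring P and ideal J.) -/
theorem result (P : Type u) [CommRing P] (J : Ideal P)
    (F : Type u) [AddCommGroup F] [Module P F] [Module.Free P F] [Module.Finite P F]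
    (F' : Type u) [AddCommGroup F'] [Module P F'] [Module.Free P F'] [Module.Finite P F']
    (j : F →ₗ[P] P) (j' : F' →ₗ[P] P) (hj : LinearMap.range j = J) (hj' : LinearMap.range j' = J) :
    Nonempty (↥(Submodule.map
          (LinearMap.range (LinearMap.lcomp P (P ⧸ J) (LinearMap.ker j).subtype)).mkQ
          (LinearMap.ker (LinearMap.lcomp P (P ⧸ J)
            (Submodule.comap (LinearMap.ker j).subtype
              (Submodule.span P {y : F | ∃ u v : F, y = j u • v - j v • u})).subtype))) ≃ₗ[P]
      ↥(Submodule.map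
          (LinearMap.range (LinearMap.lcomp P (P ⧸ J) (LinearMap.ker j').subtype)).mkQ
          (LinearMap.ker (LinearMap.lcomp P (P ⧸ J)
            (Submodule.comap (LinearMap.ker j').subtype
              (Submodule.span P {y : F' | ∃ u v : F', y = j' u • v - j' v • u})).subtype)))) := by
  obtain ⟨g, hg⟩ := exists_lift j j' (hj.trans hj'.symm).le
  obtain ⟨g', hg'⟩ := exists_lift j' j (hj'.trans hj.symm).le
  let a : T2 J j →ₗ[P] T2 J j' := (qMap J j' j g' hg').restrict (qMap_mem j' j g' hg')
  let b : T2 J j' →ₗ[P] T2 J j := (qMap J j j' g hg).restrict (qMap_mem j j' g hg)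
  exact ⟨{ a with
    invFun := b
    left_inv := fun x => Subtype.ext (qMap_comp_eq_id j j' g hg g' hg' x.1 x.2)
    right_inv := fun x => Subtype.ext (qMap_comp_eq_id j' j g' hg' g hg x.1 x.2) }⟩

end Groth.Agent.S11299
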