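import Groth.Statements.S11302


set_option autoImplicit false
universe u
open Deform

namespace Groth.Agent.S11302

open MvPolynomial in
/-- T^1 of a complete intersection; the hypersurface case P/(f, ∂f/∂X_1, ..., ∂f/∂X_d) is n = 1: let k
be an algebraically closed field, P = k[X_1, ..., X_d], f_1, ..., f_n a regular sequence in P (each
f_i a non-zero-divisor modulo the preceding ones), J the ideal they generate and B = P/J. The first
cotangent module T^1_B — the cokernel of Der_k(P, B) → Hom_P(J, B), a derivation being restricted to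
J — is isomorphic, as a P-module, to B^n modulo the B-submodule generated by the d columns
(∂f_1/∂X_j, ..., ∂f_n/∂X_j), j = 1, ..., d, of the Jacobian matrix reduced modulo J, through the map
sending the class of φ : J → B to the class of (φ(f_1), ..., φ(f_n)). (The published formula allows
P to be a localisation of the polynomial ring; this row takes the polynomial ring.) -/
theorem result (k : Type u) [Field k] [IsAlgClosed k] (d n : ℕ)
    (f : Fin n → MvPolynomial (Fin d) k) (hreg : RingTheory.Sequence.IsWeaklyRegular (MvPolynomial (Fin d) k) (List.ofFn f)) :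
    ∃ e : ((↥(Ideal.span (Set.range f)) →ₗ[MvPolynomial (Fin d) k] (MvPolynomial (Fin d) k ⧸ Ideal.span (Set.range f))) ⧸
            Submodule.span (MvPolynomial (Fin d) k)
              {ψ : ↥(Ideal.span (Set.range f)) →ₗ[MvPolynomial (Fin d) k] (MvPolynomial (Fin d) k ⧸ Ideal.span (Set.range f)) |
                ∃ D : Derivation k (MvPolynomial (Fin d) k) (MvPolynomial (Fin d) k ⧸ Ideal.span (Set.range f)), ∀ a : ↥(Ideal.span (Set.range f)), ψ a = D (a : MvPolynomial (Fin d) k)}) ≃ₗ[MvPolynomial (Fin d) k]
          ((Fin n → MvPolynomial (Fin d) k ⧸ Ideal.span (Set.range f)) ⧸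
            Submodule.span (MvPolynomial (Fin d) k ⧸ Ideal.span (Set.range f))
              (Set.range fun j : Fin d => fun i : Fin n => Ideal.Quotient.mk (Ideal.span (Set.range f)) (pderiv j (f i)))),
      ∀ φ : ↥(Ideal.span (Set.range f)) →ₗ[MvPolynomial (Fin d) k] (MvPolynomial (Fin d) k ⧸ Ideal.span (Set.range f)),
        e (Submodule.Quotient.mk φ) =
          Submodule.Quotient.mk (fun i : Fin n => φ ⟨f i, Ideal.subset_span (Set.mem_range_self i)⟩) := by
  classical
  let R := MvPolynomial (Fin d) k
  let J : Ideal R := Ideal.span (Set.range f)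
  let F : ℕ → R := fun i => if h : i < n then f ⟨i, h⟩ else 0
  have hF : ∀ i : Fin n, F i = f i := fun i => by simp [F, i.2]
  have hFJ : ∀ i, F i ∈ J := fun i => by
    by_cases h : i < n
    · simp only [F, dif_pos h]; exact Ideal.subset_span ⟨_, rfl⟩
    · simp only [F, dif_neg h]; exact zero_mem _
  have htake : ∀ m, m ≤ n → Ideal.ofList ((List.ofFn f).take m) = Ideal.span (Set.range fun i : Fin m => F i) :=
    fun m hm => by
      refine congrArg Ideal.span (Set.ext fun r => ?_)
      simp only [Set.mem_setOf_eq, Set.mem_range, List.mem_take_iff_getElem, List.getElem_ofFn,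
        List.length_ofFn, Nat.min_eq_left hm]
      constructor
      · rintro ⟨i, hi, rfl⟩; exact ⟨⟨i, hi⟩, by simp [F, lt_of_lt_of_le hi hm]⟩
      · rintro ⟨i, rfl⟩; exact ⟨i, i.2, by simp [F, lt_of_lt_of_le i.2 hm]⟩
  have hrel : ∀ m, m ≤ n → ∀ a : Fin m → R, ∑ i, a i * F i = 0 → ∀ i, a i ∈ J := by
    intro m
    induction m with
    | zero => exact fun _ _ _ i => i.elim0
    | succ m ih =>
      intro hm a ha
      rw [Fin.sum_univ_castSucc] at ha
      simp only [Fin.val_castSucc, Fin.val_last] at ha
      have hmn : m < n := hm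
      have hreg' := hreg.regular_mod_prev m (by rw [List.length_ofFn]; exact hmn)
      rw [htake m hmn.le, List.getElem_ofFn, smul_eq_mul, Ideal.mul_top] at hreg'
      have hFm : f ⟨m, hmn⟩ = F m := by simp [F, hmn]
      rw [hFm] at hreg'
      have h1 : F m • (Ideal.Quotient.mk (Ideal.span (Set.range fun i : Fin m => F i)) (a (Fin.last m))) =
          F m • 0 := by
        rw [smul_zero]
        refine (Submodule.Quotient.mk_eq_zero _).2 ?_
        show F m • a (Fin.last m) ∈ _
        rw [smul_eq_mul, mul_comm, eq_neg_of_add_eq_zero_right ha]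
        refine neg_mem (Ideal.sum_mem _ fun i _ => ?_)
        exact Ideal.mul_mem_left _ _ (Ideal.subset_span ⟨i, rfl⟩)
      have h2 := Ideal.Quotient.eq_zero_iff_mem.1 (hreg' h1)
      obtain ⟨b, hb⟩ := Ideal.mem_span_range_iff_exists_fun.1 h2
      have h3 := ih hmn.le (fun i => a (Fin.castSucc i) + b i * F m) (by
        rw [← hb, Finset.sum_mul, ← Finset.sum_add_distrib] at ha
        rw [← ha]
        exact Finset.sum_congr rfl fun i _ => by ring)
      intro i
      refine Fin.lastCases ?_ (fun i => ?_) i
      · rw [← hb]; exact Ideal.sum_mem _ fun i _ => Ideal.mul_mem_left _ _ (hFJ i)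
      · have := sub_mem (h3 i) (Ideal.mul_mem_left J (b i) (hFJ m))
        simpa using this
  have hrel' : ∀ a : Fin n → R, ∑ i, a i * f i = 0 → ∀ i, a i ∈ J := fun a ha =>
    hrel n le_rfl a (by simpa [hF] using ha)
  let fJ : Fin n → J := fun i => ⟨f i, Ideal.subset_span (Set.mem_range_self i)⟩
  let ev : (J →ₗ[R] R ⧸ J) →ₗ[R] (Fin n → R ⧸ J) := LinearMap.pi fun i => LinearMap.applyₗ (fJ i)
  have hexp : ∀ x : J, ∃ a : Fin n → R, x = ∑ i, a i • fJ i := fun x => by
    obtain ⟨a, ha⟩ := Ideal.mem_span_range_iff_exists_fun.1 x.2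
    exact ⟨a, Subtype.ext (by simp [fJ, ← ha])⟩
  have hev : Function.Bijective ev := by
    refine ⟨fun φ ψ h => LinearMap.ext fun x => ?_, fun v => ?_⟩
    · obtain ⟨a, rfl⟩ := hexp x
      simp only [map_sum, map_smul]
      exact Finset.sum_congr rfl fun i _ => congrArg (a i • ·) (congrFun h i)
    · choose c hc using hexp
      have hwd : ∀ (a : Fin n → R) (x : J), x = ∑ i, a i • fJ i → ∑ i, a i • v i = ∑ i, c x i • v i := by
        intro a x hx
        rw [← sub_eq_zero, ← Finset.sum_sub_distrib]
        refine Finset.sum_eq_zero fun i _ => ?_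
        rw [← sub_smul]
        have h0 := hrel' (fun i => a i - c x i) (by
          have := congrArg Subtype.val ((hx.symm.trans (hc x)))
          simp only [AddSubmonoidClass.coe_finsetSum, SetLike.val_smul, smul_eq_mul, fJ] at this
          simp only [sub_mul, Finset.sum_sub_distrib, this, sub_self]) i
        obtain ⟨w, hw⟩ := Ideal.Quotient.mk_surjective (v i)
        rw [← hw]
        refine Ideal.Quotient.eq_zero_iff_mem.2 ?_
        exact Ideal.mul_mem_right _ _ h0
      refine ⟨{ toFun := fun x => ∑ i, c x i • v i, map_add' := fun x y => ?_, map_smul' := fun r x => ?_ }, ?_⟩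
      · rw [← hwd (fun i => c x i + c y i) (x + y) (by
          simp only [add_smul, Finset.sum_add_distrib, ← hc])]
        simp only [add_smul, Finset.sum_add_distrib]
      · rw [RingHom.id_apply, ← hwd (fun i => r * c x i) (r • x) (by
          simp only [mul_smul, ← Finset.smul_sum, ← hc])]
        simp only [mul_smul, ← Finset.smul_sum]
      · funext i
        show ∑ j, c (fJ i) j • v j = v i
        rw [← hwd (Pi.single i 1) (fJ i) (by simp [Pi.single_apply, ite_smul])]
        simp [Pi.single_apply, ite_smul]
  let E := LinearEquiv.ofBijective ev hev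
  refine ⟨Submodule.Quotient.equiv _ ((Submodule.span (R ⧸ J) (Set.range fun j : Fin d => fun i : Fin n =>
    Ideal.Quotient.mk J (pderiv j (f i)))).restrictScalars R) E ?_ ≪≫ₗ
      Submodule.Quotient.restrictScalarsEquiv R _, fun φ => rfl⟩
  rw [Submodule.restrictScalars_span R (R ⧸ J) Ideal.Quotient.mk_surjective]
  refine le_antisymm ?_ (Submodule.span_le.2 ?_)
  · rw [Submodule.map_span_le]
    rintro ψ ⟨D, hD⟩
    have : (E.toLinearMap ψ) = ∑ j : Fin d, (Quotient.out (D (X j)) : R) •
        (fun i : Fin n => Ideal.Quotient.mk J (pderiv j (f i))) := by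
      funext i
      show ψ (fJ i) = _
      rw [hD, Finset.sum_apply]
      show D (f i) = _
      have hsum : ∀ (G : Fin d → Derivation k R (R ⧸ J)) (x : R), (∑ j, G j) x = ∑ j, G j x := fun G x => by
        induction (Finset.univ : Finset (Fin d)) using Finset.induction_on with
        | empty => simp
        | insert a s ha ih => rw [Finset.sum_insert ha, Finset.sum_insert ha, Derivation.add_apply, ih]
      let L : Derivation k R (R ⧸ J) := ∑ j : Fin d, (Quotient.out (D (X j)) : R) •
        (Submodule.mkQ J).compDer (pderiv j)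
      have hLD : D = L := MvPolynomial.derivation_ext fun l => by
        simp only [L]
        rw [hsum]
        rw [Finset.sum_eq_single l]
        · show D (X l) = (Quotient.out (D (X l)) : R) • Ideal.Quotient.mk J (pderiv l (X l))
          rw [pderiv_X_self, map_one]
          show D (X l) = Ideal.Quotient.mk J ((Quotient.out (D (X l)) : R) * 1)
          rw [mul_one]
          exact (Quotient.out_eq _).symm
        · intro j _ hj
          show (Quotient.out (D (X j)) : R) • Ideal.Quotient.mk J (pderiv j (X l)) = 0
          rw [pderiv_X_of_ne hj.symm, map_zero, smul_zero]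
        · simp
      conv_lhs => rw [hLD]
      simp only [L]
      rw [hsum]
      rfl
    rw [this]
    exact Submodule.sum_mem _ fun j _ => Submodule.smul_mem _ _ (Submodule.subset_span ⟨j, rfl⟩)
  · rintro v ⟨j, rfl⟩
    let D : Derivation k R (R ⧸ J) := (Submodule.mkQ J).compDer (pderiv j)
    have hD2 : ∀ (r : R) (x : J), D (r * x) = r • D x := fun r x => by
      rw [D.leibniz]
      obtain ⟨w, hw⟩ := Ideal.Quotient.mk_surjective (D r)
      rw [← hw, show (x : R) • Ideal.Quotient.mk J w = 0 from
        Ideal.Quotient.eq_zero_iff_mem.2 (Ideal.mul_mem_right _ _ x.2), add_zero]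
    let ψ : J →ₗ[R] R ⧸ J :=
      { toFun := fun x => D x
        map_add' := fun x y => map_add D _ _
        map_smul' := fun r x => hD2 r x }
    exact ⟨ψ, Submodule.subset_span ⟨D, fun _ => rfl⟩, rfl⟩

end Groth.Agent.S11302
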