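import Groth.Statements.S11306
import Mathlib
-- import your own Groth.Agent.* helpers here

set_option autoImplicit false
universe u
open TensorProduct
open CAlg

namespace Groth.Agent.S11306

/-- Take a Noetherian local domain A, with residue field k and fraction field K, and let M be a finitely
generated A-module. If k ⊗_A M and K ⊗_A M have the same dimension r (over k and over K
respectively), then M is a free A-module of rank r. -/
theorem result (A : Type u) [CommRing A] [IsDomain A]
    [IsNoetherianRing A] [IsLocalRing A] (M : Type u) [AddCommGroup M] [Module A M] [Module.Finite A M] (r : ℕ)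
    (hk : Module.finrank (IsLocalRing.ResidueField A) (IsLocalRing.ResidueField A ⊗[A] M) = r)
    (hK : Module.finrank (FractionRing A) (FractionRing A ⊗[A] M) = r) :
    Module.Free A M ∧ Module.finrank A M = r := by
  classical
  have hfr : Module.finrank A M = r := by
    rw [← hK]; exact ((TensorProduct.isBaseChange A M (FractionRing A)).finrank_eq).symm
  let b := Module.finBasisOfFinrankEq (IsLocalRing.ResidueField A) _ hk
  have hsurj : Function.Surjective (TensorProduct.mk A (IsLocalRing.ResidueField A) M 1) :=
    TensorProduct.mk_surjective A M _ IsLocalRing.residue_surjective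
  choose v hv using fun i ↦ hsurj (b i)
  let φ : (Fin r → A) →ₗ[A] M := Fintype.linearCombination A v
  have hφ : Function.Surjective φ := by
    rw [← LinearMap.range_eq_top, Fintype.range_linearCombination, ← IsLocalRing.map_tensorProduct_mk_eq_top]
    have hb : Set.range (fun i ↦ (TensorProduct.mk A (IsLocalRing.ResidueField A) M 1) (v i)) = Set.range b :=
      congrArg Set.range (funext hv)
    rw [Submodule.map_span, ← Set.range_comp, Function.comp_def, hb, ← Submodule.restrictScalars_span A _ IsLocalRing.residue_surjective, b.span_eq, Submodule.restrictScalars_top]
  have hker : LinearMap.ker φ = ⊥ := by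
    have h := φ.rank_range_add_rank_ker
    rw [LinearMap.range_eq_top.mpr hφ, rank_top, ← Module.finrank_eq_rank, ← Module.finrank_eq_rank, hfr,
      ← Module.finrank_eq_rank, Module.finrank_pi, Fintype.card_fin] at h
    norm_cast at h
    exact Submodule.finrank_eq_zero.mp (by omega)
  let e := LinearEquiv.ofBijective φ ⟨LinearMap.ker_eq_bot.mp hker, hφ⟩
  exact ⟨Module.Free.of_equiv e, hfr⟩

end Groth.Agent.S11306
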