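import Groth.Statements.S11308
import Groth.Agent.Lib.BlowUp17.Generization
import Groth.Agent.Lib.BlowUp17.Smooth
import Groth.Agent.Lib.Rigidity.Smooth.Curve
import Groth.Agent.Lib.LCI6.Kinds
import Groth.Agent.Lib.LCI6.Koszul

set_option autoImplicit false
set_option linter.all false
set_option backward.isDefEq.respectTransparency false
universe u
open CategoryTheory CategoryTheory.Limits AlgebraicGeometry
open NonsingVar

namespace Groth.Agent.S11308

/-- Let k be an algebraically closed field, X a nonsingular variety over k (an integral scheme,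
separated and of finite type over k, all of whose local rings are regular), Y a nonsingular closed
subvariety of X (an integral closed subscheme all of whose local rings are regular) with ideal sheaf
I, and π : X~ → X a blowing-up of X with respect to I, characterised by its universal property. Then
X~ is nonsingular: all of its local rings are regular. -/
theorem result (k : Type u) [Field k] [IsAlgClosed k]
    (X : Scheme.{u}) [X.Over (Spec (CommRingCat.of k))] [IsIntegral X] [IsSeparated (X ↘ (Spec (CommRingCat.of k)))]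
    [LocallyOfFiniteType (X ↘ (Spec (CommRingCat.of k)))] [QuasiCompact (X ↘ (Spec (CommRingCat.of k)))]
    (hreg : ∀ x : ↥X, IsRegularLocalRing ↑(X.presheaf.stalk x))
    (Y : Scheme.{u}) (i : Y ⟶ X) [IsClosedImmersion i] [IsIntegral Y]
    (hregY : ∀ y : ↥Y, IsRegularLocalRing ↑(Y.presheaf.stalk y))
    (Xt : Scheme.{u}) (π : Xt ⟶ X) (hπ : BlowUp.IsBlowUp π i.ker) :
    ∀ z : ↥Xt, IsRegularLocalRing ↑(Xt.presheaf.stalk z) := by
  let pX := X ↘ (Spec (CommRingCat.of k))
  haveI : IsLocallyNoetherian X := LocallyOfFiniteType.isLocallyNoetherian pX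
  haveI : Smooth pX := GrothLib.Rigidity.smooth_of_isRegular pX hreg
  haveI : IsLocallyNoetherian Y := LocallyOfFiniteType.isLocallyNoetherian i
  haveI : Smooth (i ≫ pX) := GrothLib.Rigidity.smooth_of_isRegular (i ≫ pX) hregY
  have hri : Mor2.IsRegularClosedImmersion i := by
    refine ⟨inferInstance, fun z => ?_⟩
    have h : GrothLib.LCI6.InLocus i z :=
      GrothLib.LCI6.inLocus_cancel_smooth i pX (GrothLib.LCI6.inLocus_of_smooth _ z)
    obtain ⟨U, hz, -, rs, hrs, hI⟩ :=
      (GrothLib.LCI6.isRegularImmersionAt_iff_inLocus_of_noetherian i z RegImm.Kind.regular).mpr h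
    exact ⟨U.1, U.2, hz, rs, hrs, by rw [Scheme.Hom.ker_apply]; exact hI⟩
  haveI := GrothLib.BlowUpProper.isProper_of_isBlowUp hπ
  haveI : IsLocallyNoetherian Xt := LocallyOfFiniteType.isLocallyNoetherian π
  intro x'
  by_cases hx' : π x' ∈ i.ker.support
  swap
  · obtain ⟨U, hU⟩ : ∃ U : X.Opens, U = i.ker.support.compl := ⟨_, rfl⟩
    haveI : IsIso (π ∣_ U) := hU ▸ GrothLib.BlowUp.isIso_off_center hπ
    have hxU : π x' ∈ U := hU ▸ hx'
    haveI : IsRegularLocalRing (U.toScheme.presheaf.stalk ((π ∣_ U) ⟨x', hxU⟩)) := by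
      haveI := hreg (U.ι ((π ∣_ U) ⟨x', hxU⟩))
      exact IsRegularLocalRing.of_ringEquiv (U.stalkIso _).commRingCatIsoToRingEquiv.symm
    haveI : IsRegularLocalRing ((π ⁻¹ᵁ U).toScheme.presheaf.stalk ⟨x', hxU⟩) :=
      IsRegularLocalRing.of_ringEquiv (asIso ((π ∣_ U).stalkMap ⟨x', hxU⟩)).commRingCatIsoToRingEquiv
    exact IsRegularLocalRing.of_ringEquiv ((π ⁻¹ᵁ U).stalkIso ⟨x', hxU⟩).commRingCatIsoToRingEquiv
  let b := π
  let 𝓘 := i.ker
  have hb : _root_.BlowUp.IsBlowUp b 𝓘 := hπ
  let g' := IsClosedImmersion.lift i ((_root_.BlowUp.exceptional b 𝓘).subschemeι ≫ b) (by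
    rw [← Scheme.IdealSheafData.map_ker, Scheme.IdealSheafData.ker_subschemeι]
    exact Scheme.IdealSheafData.le_map_iff_comap_le.2 le_rfl)
  haveI : Smooth g' := GrothLib.BlowUp17.smooth_exceptional i hri b hb g' (IsClosedImmersion.lift_fac _ _ _)
  let g := g'
  have hY : ∀ y : Y, IsRegularLocalRing (Y.presheaf.stalk y) := hregY
  -- the point lies on the exceptional divisor
  obtain ⟨d, hd⟩ : x' ∈ Set.range (_root_.BlowUp.exceptional b 𝓘).subschemeι := by
    rw [Scheme.IdealSheafData.range_subschemeι, Scheme.IdealSheafData.support_comap]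
    exact hx'
  subst hd
  haveI : IsRegularLocalRing ((_root_.BlowUp.exceptional b 𝓘).subscheme.presheaf.stalk d) := by
    refine (GrothLib.LocProp.isRegularLocalRing_stalk_iff_of_mem_smoothLocus g d
      (by rw [Scheme.Hom.smoothLocus_eq_top g]; trivial)).2 ?_
    exact hY _
  obtain ⟨V, hV, s, hs, hI⟩ := hb.1 ((_root_.BlowUp.exceptional b 𝓘).subschemeι d)
  let sg := Xt.presheaf.germ V.1 _ hV s
  have hker : RingHom.ker ((_root_.BlowUp.exceptional b 𝓘).subschemeι.stalkMap d).hom = Ideal.span {sg} := by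
    rw [GrothLib.BlowUp.ker_stalkMap_subschemeι _ d V hV, hI, Ideal.map_span, Set.image_singleton]
  have hsurj := SurjectiveOnStalks.stalkMap_surjective (_root_.BlowUp.exceptional b 𝓘).subschemeι d
  haveI : IsRegularLocalRing (Xt.presheaf.stalk _ ⧸ Ideal.span {sg}) :=
    IsRegularLocalRing.of_ringEquiv (R := (_root_.BlowUp.exceptional b 𝓘).subscheme.presheaf.stalk d)
      ((Ideal.quotEquivOfEq hker.symm).trans (RingHom.quotientKerEquivOfSurjective hsurj)).symm
  refine GrothLib.RegLoc.isRegularLocalRing_of_quotient (x := sg) ?_ (GrothLib.BlowUp.germ_mem_nonZeroDivisors hs hV)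
  rw [← Ideal.span_singleton_le_iff_mem, ← hker]
  exact IsLocalRing.le_maximalIdeal (RingHom.ker_ne_top _)

end Groth.Agent.S11308
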