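import Groth.Statements.S11311
import Groth.Agent.Lib.Serre.RationalPoint
import Groth.Agent.Lib.LocProp.RegularSmooth
-- import your own Groth.Agent.* helpers here

set_option autoImplicit false
universe u
open CAlg

namespace Groth.Agent.S11311

/-- Let k be a field and B a local ring containing k whose residue field is k (the composite k → B → B/m
is bijective), and which is a localization of a finitely generated k-algebra (essentially of finite
type over k); let d = dim B. If the module of differentials Ω_{B/k} is free of rank d then B is a
regular local ring. Conversely, if k is perfect and B is a regular local ring, then Ω_{B/k} is free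
of rank d. (The published statement assumes k perfect as one of its hypotheses and asserts the
equivalence; its proof of the first implication does not use perfectness, so that hypothesis is
placed on the converse only.) -/
theorem result (k B : Type u) [Field k] [CommRing B] [Algebra k B]
    [IsLocalRing B] [Algebra.EssFiniteType k B]
    (hres : Function.Bijective (algebraMap k (IsLocalRing.ResidueField B)))
    (d : ℕ) (hd : ringKrullDim B = (d : WithBot ℕ∞)) :
    ((Module.Free B (KaehlerDifferential k B) ∧ Module.finrank B (KaehlerDifferential k B) = d) →
        IsRegularLocalRing B) ∧
      (PerfectField k → IsRegularLocalRing B →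
        Module.Free B (KaehlerDifferential k B) ∧ Module.finrank B (KaehlerDifferential k B) = d) := by
  classical
  have : IsNoetherianRing B := Algebra.EssFiniteType.isNoetherianRing k B
  constructor
  · rintro ⟨hfree, hrank⟩
    let b := Module.finBasisOfFinrankEq B (KaehlerDifferential k B) hrank
    refine IsRegularLocalRing.of_spanFinrank_maximalIdeal_le B ?_
    rw [hd]
    exact_mod_cast GrothLib.Serre.spanFinrank_maximalIdeal_le_of_span k B hres.2 b b.span_eq
  · intro hk hreg
    let S := Algebra.EssFiniteType.subalgebra k B
    let q := (IsLocalRing.maximalIdeal B).comap (algebraMap S B)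
    have : IsLocalization.AtPrime B q := IsLocalization.of_le (Algebra.EssFiniteType.submonoid k B) q.primeCompl
      (fun s hs hsq => (IsLocalRing.mem_maximalIdeal _).1 hsq hs)
      (fun s hs => not_not.1 fun h => hs ((IsLocalRing.mem_maximalIdeal _).2 h))
    let eq : Localization.AtPrime q ≃ₐ[S] B := IsLocalization.algEquiv q.primeCompl _ _
    have : IsRegularLocalRing (Localization.AtPrime q) :=
      IsRegularLocalRing.of_ringEquiv (R := B) eq.symm.toRingEquiv
    have hsm : Algebra.IsSmoothAt k q :=
      GrothLib.LocProp.isSmoothAt_of_isRegularLocalRing_of_perfectField q
    have : Algebra.FormallySmooth k B := Algebra.FormallySmooth.of_equiv (eq.restrictScalars k)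
    have : Module.Free B (KaehlerDifferential k B) := Module.free_of_flat_of_isLocalRing
    refine ⟨this, le_antisymm ?_ ?_⟩
    · obtain ⟨x, hx⟩ := GrothLib.RegLoc.exists_generators_fin (IsLocalRing.maximalIdeal B)
      have h := finrank_range_le_card (R := B) fun i => KaehlerDifferential.D k B (x i)
      rw [Set.finrank, GrothLib.Serre.span_D_eq_top k B hres.2 x hx, finrank_top, Fintype.card_fin] at h
      rw [← IsRegularLocalRing.spanFinrank_maximalIdeal, Nat.cast_inj] at hd
      omega
    · have h := GrothLib.Serre.spanFinrank_maximalIdeal_le_of_span k B hres.2
        (Module.finBasis B (KaehlerDifferential k B)) (Module.finBasis B _).span_eq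
      rw [← IsRegularLocalRing.spanFinrank_maximalIdeal, Nat.cast_inj] at hd
      omega

end Groth.Agent.S11311
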