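import Groth.Statements.S1132
import Mathlib.AlgebraicGeometry.Morphisms.Flat
open CategoryTheory.Limits

set_option autoImplicit false
open CategoryTheory CategoryTheory.Limits AlgebraicGeometry Opposite
universe u
open Desc

namespace Groth.Agent.S1132

/-- If p : X ⟶ S is a surjective flat morphism of schemes, the functor sending a scheme over S to its
canonical descent datum relative to p is faithful. (This is a special case of a more general
published statement; in this case the objects being descended are simply schemes over S. Descent
data are taken in functor-of-points form, equivalent by the Yoneda lemma to an isomorphism over X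
×_S X satisfying the cocycle condition.) -/
theorem result {X S : Scheme.{u}} (p : X ⟶ S) [Surjective p] [Flat p] :
    (Desc.toDD p).Faithful := by
  constructor
  intro U U' a b hab
  ext : 1
  have e : (((Desc.toDD p).map a).hom).left ≫ pullback.snd p U'.hom =
      (((Desc.toDD p).map b).hom).left ≫ pullback.snd p U'.hom := by rw [hab]
  simp only [Desc.toDD, Desc.canonicalDD, Over.homMk_left, pullback.lift_snd] at e
  have := Flat.epi_of_flat_of_surjective (pullback.snd p U.hom)
  exact (cancel_epi (pullback.snd p U.hom)).1 e

end Groth.Agent.S1132
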