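import Groth.Statements.S11321
import Groth.Agent.Lib.FlatClosure.Basic
-- import your own Groth.Agent.* helpers here

set_option autoImplicit false
universe u
open CategoryTheory CategoryTheory.Limits AlgebraicGeometry
open FlatMor

namespace Groth.Agent.S11321

/-- Flat limits over a curve: let Y be a locally Noetherian integral scheme of dimension one all of
whose local rings are regular local rings, P a closed point of Y with open complement U, V = P^n_U
the inverse image of U in P^n_Y, and X a closed subscheme of V (a closed immersion i : X → V) which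
is flat over Y, equivalently over U. Then X extends to a closed subscheme X' of P^n_Y which is flat
over Y and whose restriction to V is X — there are a closed immersion i' : X' → P^n_Y with X' → Y
flat and a morphism j : X → X' making X the fibre product of X' and V over P^n_Y — and such an
extension is unique: for any second one (X'', i'', j'') there is an isomorphism X' ≅ X'' over P^n_Y.
(The published statement does not say that Y is locally Noetherian; the printed argument, through
associated points and the scheme-theoretic closure, uses it, and this row assumes it.) -/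
theorem result
    {Y : Scheme.{u}} [IsIntegral Y] [IsLocallyNoetherian Y] (hreg : ∀ y : Y, IsRegularLocalRing (Y.presheaf.stalk y))
    (hY : topologicalKrullDim ↥Y = 1) (P : Y) (U : Y.Opens) (hU : (U : Set ↥Y) = {P}ᶜ) (n : ℕ)
    (X : Scheme.{u}) (i : X ⟶ ↑(CohB1.ProjSpaceOver.toBase n Y ⁻¹ᵁ U)) [IsClosedImmersion i]
    [Flat (i ≫ (CohB1.ProjSpaceOver.toBase n Y ⁻¹ᵁ U).ι ≫ CohB1.ProjSpaceOver.toBase n Y)] :
    ∃ (X' : Scheme.{u}) (i' : X' ⟶ CohB1.ProjSpaceOver n Y) (j : X ⟶ X'),
      IsClosedImmersion i' ∧ Flat (i' ≫ CohB1.ProjSpaceOver.toBase n Y) ∧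
      IsPullback j i i' (CohB1.ProjSpaceOver.toBase n Y ⁻¹ᵁ U).ι ∧
      ∀ (X'' : Scheme.{u}) (i'' : X'' ⟶ CohB1.ProjSpaceOver n Y) (j'' : X ⟶ X''),
        IsClosedImmersion i'' → Flat (i'' ≫ CohB1.ProjSpaceOver.toBase n Y) →
        IsPullback j'' i i'' (CohB1.ProjSpaceOver.toBase n Y ⁻¹ᵁ U).ι →
        ∃ e : X' ≅ X'', e.hom ≫ i'' = i' := by
  haveI : Nonempty U := by
    have hP : IsClosed ({P} : Set Y) := by
      rw [← compl_compl ({P} : Set Y), ← hU]
      exact U.isOpen.isClosed_compl
    refine ⟨⟨genericPoint Y, ?_⟩⟩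
    rw [← SetLike.mem_coe, hU, Set.mem_compl_iff, Set.mem_singleton_iff]
    intro hg
    have huniv : ({P} : Set Y) = Set.univ := by
      rw [← hg, ← (genericPoint_spec Y).def, closure_eq_iff_isClosed.2 (hg ▸ hP)]
    have : Subsingleton Y := Set.subsingleton_of_univ_subsingleton (huniv ▸ Set.subsingleton_singleton)
    have h0 : topologicalKrullDim Y ≤ 0 := by
      rw [topologicalKrullDim]
      exact Order.krullDim_nonpos_iff_forall_isMax.2 fun a b hab => le_of_eq (TopologicalSpace.IrreducibleCloseds.ext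
        ((Set.eq_univ_of_forall fun x => by obtain ⟨y, hy⟩ := b.isIrreducible.1; rwa [Subsingleton.elim x y]).trans
          (Set.eq_univ_of_forall fun x => by obtain ⟨y, hy⟩ := a.isIrreducible.1; rwa [Subsingleton.elim x y]).symm))
    rw [hY] at h0
    exact absurd h0 (by decide)
  have hY' : ∀ y : Y, IsRegularLocalRing (Y.presheaf.stalk y) ∧ ringKrullDim (Y.presheaf.stalk y) ≤ 1 :=
    fun y => ⟨hreg y, by
      rw [AlgebraicGeometry.ringKrullDim_stalk_eq_coheight, ← hY]
      exact Order.coheight_le_krullDim y |>.trans (by rw [topologicalKrullDim, Order.krullDim_eq_of_orderIso irreducibleSetEquivPoints])⟩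
  haveI : IsDominant U.ι := ⟨by
    rw [DenseRange, Scheme.Opens.range_ι]
    obtain ⟨x⟩ := ‹Nonempty U›
    exact U.isOpen.dense ⟨x.1, x.2⟩⟩
  haveI : IsSchemeTheoreticallyDominant U.ι := IsSchemeTheoreticallyDominant.of_isDominant _
  haveI : IsSchemeTheoreticallyDominant (Y.fromSpecResidueField (genericPoint Y)) := inferInstance
  haveI : QuasiCompact (Y.fromSpecResidueField (genericPoint Y)) :=
    GrothLib.FlatClosure.quasiCompact_fromSpecResidueField _
  let f := i ≫ (CohB1.ProjSpaceOver.toBase n Y ⁻¹ᵁ U).ι ≫ (CohB1.ProjSpaceOver.toBase n Y)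
  let w := pullback.fst f (Y.fromSpecResidueField (genericPoint Y))
  haveI : Flat f := ‹_›
  haveI : IsSchemeTheoreticallyDominant w := inferInstanceAs
    (IsSchemeTheoreticallyDominant (pullback.fst f _))
  haveI : QuasiCompact w := MorphismProperty.pullback_fst (P := @QuasiCompact) _ _ inferInstance
  let q := i ≫ (CohB1.ProjSpaceOver.toBase n Y ⁻¹ᵁ U).ι
  haveI : QuasiCompact U.ι := inferInstance
  haveI : QuasiCompact (CohB1.ProjSpaceOver.toBase n Y ⁻¹ᵁ U).ι :=
    MorphismProperty.of_isPullback (P := @QuasiCompact) (isPullback_morphismRestrict (CohB1.ProjSpaceOver.toBase n Y) U).flip.flip ‹QuasiCompact U.ι›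
  haveI : QuasiCompact q := inferInstanceAs (QuasiCompact (i ≫ (CohB1.ProjSpaceOver.toBase n Y ⁻¹ᵁ U).ι))
  haveI : IsSchemeTheoreticallyDominant q.toImage := ⟨GrothLib.FlatClosure.ker_toImage q⟩
  have hfl : Flat (q.imageι ≫ (CohB1.ProjSpaceOver.toBase n Y)) := by
    refine GrothLib.FlatClosure.flat_of_dominant hY' _ (w ≫ q.toImage) fun z => ?_
    rw [← Scheme.Hom.comp_apply, Category.assoc, Scheme.Hom.toImage_imageι_assoc]
    show (w ≫ (i ≫ (CohB1.ProjSpaceOver.toBase n Y ⁻¹ᵁ U).ι) ≫ (CohB1.ProjSpaceOver.toBase n Y)) z = _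
    rw [Category.assoc, show i ≫ (CohB1.ProjSpaceOver.toBase n Y ⁻¹ᵁ U).ι ≫ (CohB1.ProjSpaceOver.toBase n Y) = f from rfl, pullback.condition, Scheme.Hom.comp_apply]
    exact Scheme.fromSpecResidueField_apply _ _
  have hpb : IsPullback q.toImage i q.imageι (CohB1.ProjSpaceOver.toBase n Y ⁻¹ᵁ U).ι := by
    let j : X ⟶ pullback q.imageι (CohB1.ProjSpaceOver.toBase n Y ⁻¹ᵁ U).ι := pullback.lift q.toImage i q.toImage_imageι
    haveI : IsClosedImmersion (j ≫ pullback.snd _ _) := by rw [pullback.lift_snd]; infer_instance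
    haveI : IsClosedImmersion j := IsClosedImmersion.of_comp j (pullback.snd _ _)
    have hj : IsPullback (𝟙 X) j q.toImage (pullback.fst q.imageι (CohB1.ProjSpaceOver.toBase n Y ⁻¹ᵁ U).ι) := by
      refine IsPullback.of_horiz_isIso_mono ⟨?_⟩
      rw [Category.id_comp]
      exact (pullback.lift_fst _ _ _).symm
    haveI : IsSchemeTheoreticallyDominant j := IsSchemeTheoreticallyDominant.of_isPullback hj
    haveI : IsIso j := IsClosedImmersion.isIso_iff_ker_eq_bot.2 j.ker_eq_bot
    exact (IsPullback.of_hasPullback q.imageι (CohB1.ProjSpaceOver.toBase n Y ⁻¹ᵁ U).ι).of_iso (asIso j).symm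
      (Iso.refl _) (Iso.refl _) (Iso.refl _) (by simp [j]; exact pullback.lift_fst _ _ _) (by simp [j]; exact pullback.lift_snd _ _ _) (by simp) (by simp)
  refine ⟨q.image, q.imageι, q.toImage, inferInstance, hfl, hpb, fun X'' i'' j'' hi'' hf'' hp'' => ?_⟩
  have big := hp''.paste_vert (isPullback_morphismRestrict (CohB1.ProjSpaceOver.toBase n Y) U).flip
  haveI : Flat (i'' ≫ (CohB1.ProjSpaceOver.toBase n Y)) := hf''
  haveI : IsSchemeTheoreticallyDominant j'' := IsSchemeTheoreticallyDominant.of_isPullback big.flip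
  have hk : q.imageι.ker = i''.ker := by
    have h1 : (i ≫ (CohB1.ProjSpaceOver.toBase n Y ⁻¹ᵁ U).ι).ker = i''.ker := by
      rw [← hp''.w, Scheme.Hom.ker_comp, j''.ker_eq_bot, Scheme.IdealSheafData.map_bot]
    rw [← h1]
    exact Scheme.IdealSheafData.ker_subschemeι q.ker
  haveI := hi''
  have l₁ : IsClosedImmersion.lift i'' q.imageι hk.ge ≫ i'' = q.imageι := IsClosedImmersion.lift_fac _ _ _
  have l₂ : IsClosedImmersion.lift q.imageι i'' hk.le ≫ q.imageι = i'' := IsClosedImmersion.lift_fac _ _ _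
  refine ⟨⟨IsClosedImmersion.lift i'' q.imageι hk.ge, IsClosedImmersion.lift q.imageι i'' hk.le, ?_, ?_⟩, l₁⟩
  · rw [← cancel_mono q.imageι, Category.assoc, l₂, l₁, Category.id_comp]
  · rw [← cancel_mono i'', Category.assoc, l₁, l₂, Category.id_comp]

end Groth.Agent.S11321
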