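import Groth.Statements.S15513
import Groth.Agent.Lib.CodimExt27.Basic
import Groth.Agent.S10829
import Groth.Agent.Lib.ProjDim.Const
import Groth.Agent.Lib.CurveMult.ProjSmooth
import Groth.Agent.Lib.WeilExt.Extend
-- import your own Groth.Agent.* helpers here

set_option autoImplicit false
universe u
open CategoryTheory CategoryTheory.Limits AlgebraicGeometry
open ProjDual

namespace Groth.Agent.S15513

/-- Let k be a field, P = P^N_k, ι : X → P a closed immersion, r a natural number with dim X + r ≤ N (X
has codimension at least r), and E a finite locally free O_P-module. Then for every i < r the Ext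
sheaf Ext^i_{O_P}(ι_* O_X, E) — the i-th right derived functor of the internal Hom functor Hom(ι_*
O_X, -) on O_P-modules (its existence and that of injective resolutions are the stated instance
hypotheses, both true), evaluated at E — is zero. (The published statement takes N ≥ 1 and r = N -
dim X; the case N = 0 and smaller r are trivially included.) -/
theorem result (k : Type u) [Field k] (N : ℕ)
    {X : Scheme.{u}} (ι : X ⟶ CohB1.ProjSpace N k) [IsClosedImmersion ι] (r : ℕ)
    (hr : topologicalKrullDim ↥X + (r : WithBot ℕ∞) ≤ (N : WithBot ℕ∞))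
    (E : (CohB1.ProjSpace N k).Modules) (hE : FlatMod.IsFinLocFree E)
    [ModSite.HasSheafHom (O := (CohB1.ProjSpace N k).sheaf) ((Scheme.Modules.pushforward ι).obj (Coh.structureModule X))]
    [HasInjectiveResolutions (ModSite.Mod (CohB1.ProjSpace N k).sheaf)] (i : ℕ) (hi : i < r) :
    IsZero ((ModSite.extSh (O := (CohB1.ProjSpace N k).sheaf)
      ((Scheme.Modules.pushforward ι).obj (Coh.structureModule X)) i).obj E) := by
  haveI := GrothLib.ProjDim.locallyOfFiniteType_toSpec k N
  haveI : IsIntegral (CohB1.ProjSpace N k) := GrothLib.ProjDim.isIntegral_proj k N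
  haveI : Smooth (CohB1.ProjSpace.toSpec N k) := GrothLib.CurveMult.smooth_toSpec N k
  refine GrothLib.CodimExt27.isZero_extSh_push (CohB1.ProjSpace.toSpec N k) (n := N) ?_ ?_ ι hE hr hi
  · intro Z hZ
    rw [irreducibleComponents_eq_singleton] at hZ
    rw [Set.mem_singleton_iff.1 hZ, ← Groth.Agent.S10829.result k N]
    exact (Homeomorph.Set.univ _).isHomeomorph.topologicalKrullDim_eq
  · exact GrothLib.WeilExt.isRegularLocalRing_stalk_of_smooth (CohB1.ProjSpace.toSpec N k)
      (fun s => GrothLib.WeilExt.isRegularLocalRing_stalk_spec k s)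

end Groth.Agent.S15513
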