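import Groth.Statements.S11326
import Groth.Agent.Lib.DualQCoh12.PSpace

set_option linter.all false
set_option backward.isDefEq.respectTransparency false

set_option autoImplicit false
universe u
open CategoryTheory AlgebraicGeometry
open ProjDual

namespace Groth.Agent.S11326

/-- Let A be a Noetherian ring, r ≥ 1, X = P^r_A and ω = O_X(-r-1). Then there is an A-linear
isomorphism t : H^r(X, ω) ≅ A such that for every integer n and every A-linear form ψ on H^r(X,
O_X(-n-r-1)) there is exactly one morphism of O_X-modules φ : O_X(-n-r-1) → ω with ψ = t ∘ H^r(φ).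
(The published form of the pairing assertion is a perfect pairing H^0(X, O_X(n)) × H^r(X,
O_X(-n-r-1)) → H^r(X, ω) ≅ A of finitely generated free A-modules; here the first factor is written
as Hom(O_X(-n-r-1), ω), which the pairing identifies with H^0(X, O_X(n)), and only the resulting
bijection onto the A-dual of H^r(X, O_X(-n-r-1)) is stated.) -/
theorem result (A : Type u) [CommRing A]
    [IsNoetherianRing A] (r : ℕ) (hr : 1 ≤ r) :
    ∃ t : Coh.HH (CohB1.ProjSpace r A) (Twist.twistProjSpace r A (-((r : ℤ) + 1))) r ≃ₗ[A] A,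
      ∀ (n : ℤ) (ψ : Coh.HH (CohB1.ProjSpace r A) (Twist.twistProjSpace r A (-(n + r + 1))) r →ₗ[A] A),
        ∃! φ : Twist.twistProjSpace r A (-(n + r + 1)) ⟶ Twist.twistProjSpace r A (-((r : ℤ) + 1)),
          ∀ x : Coh.HH (CohB1.ProjSpace r A) (Twist.twistProjSpace r A (-(n + r + 1))) r,
            ψ x = t (Sheaf.H.map ((SheafOfModules.toSheaf (CohB1.ProjSpace r A).ringCatSheaf).map φ) r x) := by
  obtain ⟨t, ht⟩ := GrothLib.DualQCoh12.exists_bijective_theta r A
  obtain ⟨e⟩ := GrothLib.SerrePn27.nonempty_traceEquiv r A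
  obtain ⟨φ, hφ⟩ := (ht (-((r : ℤ) + 1))).2 e.toLinearMap
  have hs : Function.Surjective t := fun a => by
    refine ⟨GrothLib.Cohom.hhMap A φ r (e.symm a), ?_⟩
    exact (LinearMap.congr_fun hφ (e.symm a)).trans (e.apply_symm_apply a)
  have hi : Function.Injective t := by
    have hE : Function.Surjective (t ∘ₗ e.symm.toLinearMap) := hs.comp e.symm.surjective
    have hE' := OrzechProperty.injective_of_surjective_endomorphism _ hE
    intro x y h
    have := hE' (a₁ := e x) (a₂ := e y) (by simpa using h)
    exact e.injective this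
  refine ⟨LinearEquiv.ofBijective t ⟨hi, hs⟩, fun n ψ => ?_⟩
  have hb := ht (-(n + r + 1))
  obtain ⟨χ, hχ⟩ := hb.2 ψ
  refine ⟨χ, fun x => ?_, fun χ' h' => ?_⟩
  · exact (LinearMap.congr_fun hχ x).symm
  · refine hb.1 (LinearMap.ext fun x => ?_)
    exact (h' x).symm.trans (LinearMap.congr_fun hχ x).symm

end Groth.Agent.S11326
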