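import Groth.Statements.S11330
import Groth.Agent.Lib.CurveMult.GenDiv
import Groth.Agent.Lib.CurveRR.FiniteField

set_option autoImplicit false
universe u
open CategoryTheory CategoryTheory.Limits AlgebraicGeometry
open Curves

namespace Groth.Agent.S11330

/-- Let k be an algebraically closed field and X a curve over k (an integral scheme, proper over k, of
dimension one, with all local rings regular), and L an invertible O_X-module. Then L is generated by
its global sections (a quotient of a free O_X-module) if and only if for every closed point P of X,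
with ideal sheaf I_P ⊆ O_X, dim_k H^0(X, L ⊗ I_P) = dim_k H^0(X, L) - 1. -/
theorem result (k : Type u) [Field k] [IsAlgClosed k] (X : Scheme.{u}) [X.Over (Spec (CommRingCat.of k))]
    [IsIntegral X] [IsProper (X ↘ (Spec (CommRingCat.of k)))] (hdim : topologicalKrullDim X = 1)
    (hreg : ∀ x : X, IsRegularLocalRing (X.presheaf.stalk x)) (L : X.Modules) (hL : PicF.IsInvertible L) :
    Curv2.IsGloballyGenerated L ↔
      ∀ (P : X) (hP : IsClosed ({P} : Set X)),
        Module.finrank k (Coh.HH X (CohB1.tensorMod L (ClSub.idealMod (Scheme.IdealSheafData.vanishingIdeal ⟨{P}, hP⟩))) 0) + 1 = Module.finrank k (Coh.HH X L 0) := by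
  haveI : IsLocallyNoetherian X := LocallyOfFiniteType.isLocallyNoetherian (X ↘ Spec (CommRingCat.of k))
  haveI := GrothLib.CurveRR.regCurve_of_isRegularLocalRing hdim fun x _ => hreg x
  obtain ⟨D, ⟨eD⟩⟩ := GrothLib.CurveRR.exists_iso_oD k hL
  rw [GrothLib.CurveMult.isGloballyGenerated_iff_ell k hL eD]
  have key : ∀ (x : GrothLib.CurveRR.CP X) (hP : IsClosed ({x.1} : Set X)),
      Module.finrank k (Coh.HH X (CohB1.tensorMod L
        (ClSub.idealMod (Scheme.IdealSheafData.vanishingIdeal ⟨{x.1}, hP⟩))) 0) =
      _root_.FunFld.ell (D - Finsupp.single (GrothLib.CurveRR.place k x) 1) := by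
    intro x hP
    obtain ⟨t⟩ := GrothLib.CurveRR.nonempty_tensor_iso k eD
      (GrothLib.CurveRR.nonempty_idealMod_point_iso k x hP).some
    rw [(GrothLib.Euler.hhEquiv (A := k) t 0).finrank_eq, GrothLib.CurveRR.finrank_H0_oD, sub_eq_add_neg]
  rw [(GrothLib.Euler.hhEquiv (A := k) eD 0).finrank_eq, GrothLib.CurveRR.finrank_H0_oD]
  constructor
  · intro h P hP
    rw [key ⟨P, (GrothLib.CurveRR.isClosed_iff_ne_genericPoint k P).1 hP⟩ hP]
    exact h _
  · intro h P
    obtain ⟨x, rfl⟩ := GrothLib.CurveRR.place_surjective (k := k) (X := X) P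
    rw [← key x ((GrothLib.CurveRR.isClosed_iff_ne_genericPoint k x.1).2 x.2)]
    exact h _ _

end Groth.Agent.S11330
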