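import Groth.Statements.S11331
import Groth.Agent.Lib.CurveMult.VeryAmpleDiv
import Groth.Agent.Lib.CurveRR.FiniteField

set_option autoImplicit false
universe u
open CategoryTheory CategoryTheory.Limits AlgebraicGeometry
open Curves

namespace Groth.Agent.S11331

/-- Let k be an algebraically closed field and X a curve over k (an integral scheme, proper over k, of
dimension one, with all local rings regular), and L an invertible O_X-module. Then L is very ample
(isomorphic to the pullback of O(1) along some closed immersion of X into a projective space P^n_k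
over k) if and only if for every two closed points P, Q of X, possibly equal, with ideal sheaves
I_P, I_Q ⊆ O_X, dim_k H^0(X, L ⊗ I_P ⊗ I_Q) = dim_k H^0(X, L) - 2. -/
theorem result (k : Type u) [Field k] [IsAlgClosed k] (X : Scheme.{u}) [X.Over (Spec (CommRingCat.of k))]
    [IsIntegral X] [IsProper (X ↘ (Spec (CommRingCat.of k)))] (hdim : topologicalKrullDim X = 1)
    (hreg : ∀ x : X, IsRegularLocalRing (X.presheaf.stalk x)) (L : X.Modules) (hL : PicF.IsInvertible L) :
    (∃ (n : ℕ) (i : X ⟶ CohB1.ProjSpace n k), IsClosedImmersion i ∧ i ≫ CohB1.ProjSpace.toSpec n k = (X ↘ (Spec (CommRingCat.of k))) ∧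
        Nonempty ((Scheme.Modules.pullback i).obj (Twist.twistProjSpace n k 1) ≅ L)) ↔
      ∀ (P Q : X) (hP : IsClosed ({P} : Set X)) (hQ : IsClosed ({Q} : Set X)),
        Module.finrank k (Coh.HH X (CohB1.tensorMod L (CohB1.tensorMod (ClSub.idealMod (Scheme.IdealSheafData.vanishingIdeal ⟨{P}, hP⟩)) (ClSub.idealMod (Scheme.IdealSheafData.vanishingIdeal ⟨{Q}, hQ⟩)))) 0) + 2 = Module.finrank k (Coh.HH X L 0) := by
  haveI : IsLocallyNoetherian X := LocallyOfFiniteType.isLocallyNoetherian (X ↘ Spec (CommRingCat.of k))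
  haveI := GrothLib.CurveRR.regCurve_of_isRegularLocalRing hdim fun x _ => hreg x
  have hK := GrothLib.CurveRR.isFunctionField k (X := X) (GrothLib.CurveRR.finrank_H0_structure_eq_one k)
  obtain ⟨D, ⟨eD⟩⟩ := GrothLib.CurveRR.exists_iso_oD k hL
  have key : ∀ (x y : GrothLib.CurveRR.CP X) (hP : IsClosed ({x.1} : Set X)) (hQ : IsClosed ({y.1} : Set X)),
      Module.finrank k (Coh.HH X (CohB1.tensorMod L (CohB1.tensorMod
        (ClSub.idealMod (Scheme.IdealSheafData.vanishingIdeal ⟨{x.1}, hP⟩))
        (ClSub.idealMod (Scheme.IdealSheafData.vanishingIdeal ⟨{y.1}, hQ⟩)))) 0) =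
      _root_.FunFld.ell (D - Finsupp.single (GrothLib.CurveRR.place k x) 1 -
        Finsupp.single (GrothLib.CurveRR.place k y) 1) := by
    intro x y hP hQ
    obtain ⟨t⟩ := GrothLib.CurveRR.nonempty_tensor_iso k
      (GrothLib.CurveRR.nonempty_idealMod_point_iso k x hP).some
      (GrothLib.CurveRR.nonempty_idealMod_point_iso k y hQ).some
    obtain ⟨t'⟩ := GrothLib.CurveRR.nonempty_tensor_iso k eD t
    rw [(GrothLib.Euler.hhEquiv (A := k) t' 0).finrank_eq, GrothLib.CurveRR.finrank_H0_oD]
    congr 1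
    abel
  have hD : Module.finrank k (Coh.HH X L 0) = _root_.FunFld.ell D := by
    rw [(GrothLib.Euler.hhEquiv (A := k) eD 0).finrank_eq, GrothLib.CurveRR.finrank_H0_oD]
  constructor
  · rintro ⟨n, i, hic, hi, ⟨t⟩⟩ P Q hP hQ
    haveI := hic
    let x : GrothLib.CurveRR.CP X := ⟨P, (GrothLib.CurveRR.isClosed_iff_ne_genericPoint k P).1 hP⟩
    let y : GrothLib.CurveRR.CP X := ⟨Q, (GrothLib.CurveRR.isClosed_iff_ne_genericPoint k Q).1 hQ⟩
    rw [key x y hP hQ, hD]
    have h1 := GrothLib.CurveMult.ell_of_closedImmersion k hL eD i hi t x y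
    have h2 := GrothLib.CurveMult.ell_le_ell_sub_succ k D (GrothLib.CurveRR.place k x)
    have h3 := GrothLib.CurveMult.ell_le_ell_sub_succ k (D - Finsupp.single (GrothLib.CurveRR.place k x) 1)
      (GrothLib.CurveRR.place k y)
    omega
  · intro h
    have h' : ∀ P Q : _root_.FunFld.Place k X.functionField,
        _root_.FunFld.ell (D - Finsupp.single P 1 - Finsupp.single Q 1) + 2 = _root_.FunFld.ell D := by
      intro P Q
      obtain ⟨x, rfl⟩ := GrothLib.CurveRR.place_surjective (k := k) (X := X) P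
      obtain ⟨y, rfl⟩ := GrothLib.CurveRR.place_surjective (k := k) (X := X) Q
      have hx := (GrothLib.CurveRR.isClosed_iff_ne_genericPoint k x.1).2 x.2
      have hy := (GrothLib.CurveRR.isClosed_iff_ne_genericPoint k y.1).2 y.2
      rw [← key x y hx hy, h x.1 y.1 hx hy, hD]
    refine GrothLib.CurveMult.exists_closedImmersion_of_ell k hL eD ?_ fun P Q => (h' P Q).le
    obtain ⟨P⟩ := hK.1 |> GrothLib.FunFld.IsFG.exists_place
    have h2 := h' P P
    by_contra hle
    rcases lt_or_eq_of_le (not_lt.1 hle) with hneg | hz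
    · rw [GrothLib.FunFld.IsFG.ell_eq_zero_of_deg_neg hK.1 hneg] at h2
      omega
    · have h3 := GrothLib.FunFld.ell_le_deg_succ hK D hz.ge
      omega

end Groth.Agent.S11331
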