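import Groth.Statements.S11332
import Groth.Agent.Lib.RelCot16.Curve

set_option autoImplicit false
set_option linter.all false
universe u
open CategoryTheory CategoryTheory.Limits AlgebraicGeometry
open Curves

namespace Groth.Agent.S11332

open GrothLib


/-- Let f : X → Y be a finite morphism over k of curves over an algebraically closed field k (integral,
proper over k, of dimension one, all local rings regular), sending the generic point of X to that of
Y, such that the function field extension K(X)/K(Y) is separable; let n = [K(X) : K(Y)] be its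
degree. Then 2 g(X) - 2 = n (2 g(Y) - 2) + deg R, where g denotes the genus dim_k H^1(O) and the
degree of the ramification divisor R = Σ_P length(Ω_{X/Y,P}) · P is written as dim_k H^0(X,
Ω_{X/Y}), Ω_{X/Y} being the (torsion) sheaf of relative differentials of f. -/
theorem result (k : Type u) [Field k] [IsAlgClosed k] (X : Scheme.{u}) [X.Over (Spec (CommRingCat.of k))]
    [IsIntegral X] [IsProper (X ↘ (Spec (CommRingCat.of k)))] (hdimX : topologicalKrullDim X = 1)
    (hregX : ∀ x : X, IsRegularLocalRing (X.presheaf.stalk x))
    (Y : Scheme.{u}) [Y.Over (Spec (CommRingCat.of k))]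
    [IsIntegral Y] [IsProper (Y ↘ (Spec (CommRingCat.of k)))] (hdimY : topologicalKrullDim Y = 1)
    (hregY : ∀ x : Y, IsRegularLocalRing (Y.presheaf.stalk x))
    (f : X ⟶ Y) [IsFinite f] (hf : f ≫ (Y ↘ (Spec (CommRingCat.of k))) = X ↘ (Spec (CommRingCat.of k)))
    (e : f (genericPoint X) = genericPoint Y) :
    letI := ((Y.presheaf.stalkSpecializes (specializes_of_eq e) ≫ f.stalkMap (genericPoint X)).hom).toAlgebra
    Algebra.IsSeparable Y.functionField X.functionField →
      2 * (Curv2.genus k X : ℤ) - 2 =
        (f.residueDegree (genericPoint X) : ℤ) * (2 * (Curv2.genus k Y : ℤ) - 2) +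
          (Module.finrank k (Coh.HH X (Omega.sheaf f) 0) : ℤ)  := by
  intro hsep
  obtain ⟨c, hmono, ⟨i⟩, h1, -⟩ := RelCot16.exists_seq k hdimX hregX hdimY hregY f hf e hsep
  haveI := hmono
  haveI := Euler.isNoetherian_of_proper (X := X) k
  haveI := Euler.isNoetherian_of_proper (X := Y) k
  have hY := RelCot16.omega_facts k hdimY hregY
  have hX := RelCot16.omega_facts k hdimX hregX
  have hA := Euler.isCoh_of_isInvertible (RelProjK.isInvertible_pullback f hY.1)
  have hB := Euler.isCoh_of_isInvertible hX.1
  let S := ShortComplex.mk c (cokernel.π c) (cokernel.condition c)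
  have hS : S.ShortExact :=
    { exact := ShortComplex.exact_of_g_is_cokernel _ (cokernelIsCokernel c) }
  have hadd := Euler.euler_additive k hS hA hB (QCoh.isCoh_cokernel c hA hB)
  have hdeg := Groth.Agent.S7640.result k X Y hdimX hdimY f hf e 1 _
    (Euler.isFinLocFreeOfRank_one' hY.1)
  haveI := (QCoh.isCoh_cokernel c hA hB).1
  have hC := Euler.euler_eq_sub (X := X) k hdimX.le (cokernel c)
  rw [Module.finrank_zero_of_subsingleton (R := k) (M := Coh.HH X (cokernel c) 1),
    (Euler.hhEquiv (A := k) i 0).finrank_eq] at hC
  rw [hY.2] at hdeg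
  have hX2 := hX.2
  simp only [Curv2.deg, Nat.cast_one, one_mul] at hdeg hX2
  change Curv2.euler k X (Omega.sheaf (X ↘ Spec (CommRingCat.of k))) = _ + Curv2.euler k X (cokernel c) at hadd
  rw [hadd] at hX2
  push_cast at hC
  linarith

end Groth.Agent.S11332
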