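import Groth.Statements.S11333
import Groth.Agent.Lib.CurveMult.InsepTwist
import Groth.Agent.Lib.CurveRR.Setup

set_option autoImplicit false
universe u
open CategoryTheory CategoryTheory.Limits AlgebraicGeometry
open Curves

namespace Groth.Agent.S11333

/-- Let f : X → Y be a finite morphism over k of curves over an algebraically closed field k (integral,
proper over k, of dimension one, all local rings regular), sending the generic point of X to that of
Y, such that the function field extension K(X)/K(Y) is purely inseparable. Then X and Y are
isomorphic as schemes (the isomorphism need not be compatible with the k-structures; existence of an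
isomorphism only). -/
theorem result (k : Type u) [Field k] [IsAlgClosed k] (X : Scheme.{u}) [X.Over (Spec (CommRingCat.of k))]
    [IsIntegral X] [IsProper (X ↘ (Spec (CommRingCat.of k)))] (hdimX : topologicalKrullDim X = 1)
    (hregX : ∀ x : X, IsRegularLocalRing (X.presheaf.stalk x))
    (Y : Scheme.{u}) [Y.Over (Spec (CommRingCat.of k))]
    [IsIntegral Y] [IsProper (Y ↘ (Spec (CommRingCat.of k)))] (hdimY : topologicalKrullDim Y = 1)
    (hregY : ∀ x : Y, IsRegularLocalRing (Y.presheaf.stalk x))
    (f : X ⟶ Y) [IsFinite f] (hf : f ≫ (Y ↘ (Spec (CommRingCat.of k))) = X ↘ (Spec (CommRingCat.of k)))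
    (e : f (genericPoint X) = genericPoint Y) :
    letI := ((Y.presheaf.stalkSpecializes (specializes_of_eq e) ≫ f.stalkMap (genericPoint X)).hom).toAlgebra
    IsPurelyInseparable Y.functionField X.functionField → Nonempty (X ≅ Y) := by
  letI := ((Y.presheaf.stalkSpecializes (specializes_of_eq e) ≫ f.stalkMap (genericPoint X)).hom).toAlgebra
  intro hpi
  haveI := GrothLib.CurveRR.regCurve_of_regular (k := k) hdimX hregX
  haveI := GrothLib.CurveRR.regCurve_of_regular (k := k) hdimY hregY
  obtain ⟨σ, i, -, -, -⟩ := GrothLib.CurveMult.InsepTwist.exists_iso_twist k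
    (GrothLib.CurveRR.finrank_H0_structure_eq_one k) f hf e hpi
  exact ⟨i⟩

end Groth.Agent.S11333
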