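import Groth.Statements.S11334
import Groth.Agent.Lib.CurveMult.OmegaApp

set_option autoImplicit false
universe u
open CategoryTheory CategoryTheory.Limits AlgebraicGeometry
open Curves

namespace Groth.Agent.S11334

/-- Let k be an algebraically closed field and X a curve over k (an integral scheme, proper over k, of
dimension one, with all local rings regular), of genus g = dim_k H^1(X, O_X) ≥ 2. Then the canonical
sheaf Ω_{X/k} is generated by its global sections (the canonical linear system has no base points). -/
theorem result (k : Type u) [Field k] [IsAlgClosed k] (X : Scheme.{u}) [X.Over (Spec (CommRingCat.of k))]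
    [IsIntegral X] [IsProper (X ↘ (Spec (CommRingCat.of k)))] (hdim : topologicalKrullDim X = 1)
    (hreg : ∀ x : X, IsRegularLocalRing (X.presheaf.stalk x)) (hg : 2 ≤ Curv2.genus k X) :
    Curv2.IsGloballyGenerated (Omega.sheaf (X ↘ (Spec (CommRingCat.of k)))) := by
  obtain ⟨hR, hsm, hK, hgen, C, hC, ⟨eC⟩⟩ := GrothLib.CurveMult.OmegaApp.setup k hdim hreg
  haveI := hR
  refine (GrothLib.CurveMult.isGloballyGenerated_iff_ell k
    (GrothLib.RelProjK.isInvertible_of_iso eC (GrothLib.CurveRR.isInvertible_oD k C)) eC).2 fun P => ?_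
  have hd : _root_.FunFld.Divisor.deg (Finsupp.single P 1 : FunFld.Divisor k X.functionField) = 1 := by
    rw [GrothLib.FunFld.deg_single, GrothLib.CurveMult.deg_place_eq_one k P]; rfl
  have h1 := GrothLib.FunFld.riemann_roch' hK hC (C - Finsupp.single P 1)
  rw [sub_sub_cancel, GrothLib.FunFld.deg_sub, hd] at h1
  obtain ⟨h2, h3⟩ := GrothLib.FunFld.ell_canonical hK hC
  have h4 := GrothLib.FunFld.ell_le_deg hK (by omega) (Finsupp.single P 1) (by omega)
  have h5 := GrothLib.CurveMult.ell_le_ell_sub_succ k C P
  haveI := hK.1
  have h6 : 0 < FunFld.ell (Finsupp.single P 1 : FunFld.Divisor k X.functionField) := by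
    haveI := GrothLib.FunFld.IsFG.finite_L hK.1 (Finsupp.single P 1 : FunFld.Divisor k X.functionField)
    have := Submodule.finrank_mono (GrothLib.FunFld.L_mono (D := (0 : FunFld.Divisor k X.functionField))
      (E := Finsupp.single P 1) (Finsupp.single_nonneg.2 zero_le_one))
    exact lt_of_lt_of_le (by rw [← FunFld.ell, GrothLib.FunFld.ell_zero hK]; norm_num) this
  omega

end Groth.Agent.S11334
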