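import Groth.Statements.S11335
import Groth.Agent.Lib.CurveMult.OmegaApp

set_option autoImplicit false
universe u
open CategoryTheory CategoryTheory.Limits AlgebraicGeometry
open Curves

namespace Groth.Agent.S11335

/-- Let k be an algebraically closed field and X a curve over k (an integral scheme, proper over k, of
dimension one, with all local rings regular), of genus g ≥ 2. Then the canonical sheaf Ω_{X/k} is
very ample (isomorphic to the pullback of O(1) along a closed immersion into some P^n_k over k)
exactly when X carries no g^1_2 (X is not hyperelliptic), a g^1_2 being an invertible module of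
degree 2 together with two k-linearly independent global sections. -/
theorem result (k : Type u) [Field k] [IsAlgClosed k] (X : Scheme.{u}) [X.Over (Spec (CommRingCat.of k))]
    [IsIntegral X] [IsProper (X ↘ (Spec (CommRingCat.of k)))] (hdim : topologicalKrullDim X = 1)
    (hreg : ∀ x : X, IsRegularLocalRing (X.presheaf.stalk x)) (hg : 2 ≤ Curv2.genus k X) :
    (∃ (n : ℕ) (i : X ⟶ CohB1.ProjSpace n k), IsClosedImmersion i ∧ i ≫ CohB1.ProjSpace.toSpec n k = (X ↘ (Spec (CommRingCat.of k))) ∧
        Nonempty ((Scheme.Modules.pullback i).obj (Twist.twistProjSpace n k 1) ≅ (Omega.sheaf (X ↘ (Spec (CommRingCat.of k)))))) ↔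
      ¬ (∃ (M : X.Modules) (s : Fin 2 → LinSer.Sect X M), LinSer.IsLinSer k X M 2 1 s) := by
  obtain ⟨hR, hsm, hK, hgen, C, hC, ⟨eC⟩⟩ := GrothLib.CurveMult.OmegaApp.setup k hdim hreg
  haveI := hR
  obtain ⟨hlC, hdC⟩ := GrothLib.FunFld.ell_canonical hK hC
  have hinv := GrothLib.RelProjK.isInvertible_of_iso eC (GrothLib.CurveRR.isInvertible_oD k C)
  have hkey : ∀ P Q : FunFld.Place k X.functionField,
      FunFld.ell (C - Finsupp.single P 1 - Finsupp.single Q 1) + 2 ≤ FunFld.ell C ↔
        FunFld.ell (Finsupp.single P 1 + Finsupp.single Q 1 : FunFld.Divisor k X.functionField) ≤ 1 := fun P Q => by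
    have h1 := GrothLib.FunFld.riemann_roch' hK hC (Finsupp.single P 1 + Finsupp.single Q 1)
    rw [GrothLib.FunFld.deg_add, GrothLib.FunFld.deg_single, GrothLib.FunFld.deg_single,
      GrothLib.CurveMult.deg_place_eq_one k P, GrothLib.CurveMult.deg_place_eq_one k Q, ← sub_sub] at h1
    constructor <;> intro h <;> omega
  constructor
  · rintro ⟨n, i, hi, hik, ⟨t⟩⟩ ⟨M, s, hM⟩
    haveI := hi
    obtain ⟨D, hd, hl⟩ := GrothLib.CurveMult.OmegaApp.exists_divisor_of_linSer k hM
    obtain ⟨x, hx0, -, hx⟩ := GrothLib.FunFld.IsFG.exists_of_ell_pos hK.1 (D := D) (by omega)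
    have hdeg : (D + FunFld.div k x).deg = 2 := by
      rw [GrothLib.FunFld.deg_add, GrothLib.FunFld.IsFG.deg_div hK.1, hd]; rfl
    have hell : 2 ≤ FunFld.ell (D + FunFld.div k x) := by
      rw [GrothLib.FunFld.IsFG.ell_add_div hK.1 _ hx0]; exact hl
    rcases GrothLib.CurveMult.effective_cases k hx (by omega) with h | ⟨P, h⟩ | ⟨P, Q, h⟩
    · rw [h, GrothLib.FunFld.deg_zero] at hdeg; omega
    · rw [h, GrothLib.FunFld.deg_single, GrothLib.CurveMult.deg_place_eq_one k P] at hdeg; omega
    · obtain ⟨p, rfl⟩ := GrothLib.CurveRR.place_surjective (k := k) (X := X) P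
      obtain ⟨q, rfl⟩ := GrothLib.CurveRR.place_surjective (k := k) (X := X) Q
      have h2 := (hkey _ _).1 (GrothLib.CurveMult.ell_of_closedImmersion k hinv eC i hik t p q)
      rw [h] at hell
      omega
  · intro hno
    refine GrothLib.CurveMult.exists_closedImmersion_of_ell k hinv eC (by omega) fun P Q => (hkey P Q).2 ?_
    by_contra hlt
    refine hno ?_
    obtain ⟨s, hs⟩ := GrothLib.CurveMult.OmegaApp.exists_linSer k (D := Finsupp.single P 1 + Finsupp.single Q 1)
      (d := 2) (r := 1) (by
        rw [GrothLib.FunFld.deg_add, GrothLib.FunFld.deg_single, GrothLib.FunFld.deg_single,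
          GrothLib.CurveMult.deg_place_eq_one k P, GrothLib.CurveMult.deg_place_eq_one k Q]; rfl) (by omega)
    exact ⟨_, s, hs⟩

end Groth.Agent.S11335
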