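import Groth.Statements.S11336
import Groth.Agent.Lib.CurveMult.OmegaApp

set_option autoImplicit false
universe u
open CategoryTheory CategoryTheory.Limits AlgebraicGeometry
open Curves

namespace Groth.Agent.S11336

/-- Let k be an algebraically closed field and X a curve over k (an integral scheme, proper over k, of
dimension one, with all local rings regular), and L an invertible O_X-module with an inverse M (L ⊗
M ≅ O_X) such that H^0(X, L) ≠ 0 and H^0(X, Ω_{X/k} ⊗ M) ≠ 0 (L comes from an effective special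
divisor D). Then dim |D| ≤ deg D / 2, i.e. 2 (dim_k H^0(X, L) - 1) ≤ deg L, with deg L = χ(L) -
χ(O_X). -/
theorem result (k : Type u) [Field k] [IsAlgClosed k] (X : Scheme.{u}) [X.Over (Spec (CommRingCat.of k))]
    [IsIntegral X] [IsProper (X ↘ (Spec (CommRingCat.of k)))] (hdim : topologicalKrullDim X = 1)
    (hreg : ∀ x : X, IsRegularLocalRing (X.presheaf.stalk x))
    (L M : X.Modules) (hL : PicF.IsInvertible L) (hM : ClSub.IsInverseOf L M)
    (hs : Nontrivial (Coh.HH X L 0)) (hsp : Nontrivial (Coh.HH X (CohB1.tensorMod (Omega.sheaf (X ↘ (Spec (CommRingCat.of k)))) M) 0)) :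
    2 * (Module.finrank k (Coh.HH X L 0) : ℤ) ≤ Curv2.deg k X L 1 + 2 := by
  obtain ⟨hR, hsm, hK, hgen, C, hC, ⟨eC⟩⟩ := GrothLib.CurveMult.OmegaApp.setup k hdim hreg
  haveI := hR
  obtain ⟨D, ⟨eD⟩⟩ := GrothLib.CurveRR.exists_iso_oD k hL
  have hM' : PicF.IsInvertible M := GrothLib.Seesaw26.isInvertible_of_tensor_iso hM.some hL
  have hpos : ∀ {N : X.Modules}, PicF.IsInvertible N → Nontrivial (Coh.HH X N 0) →
      0 < Module.finrank k (Coh.HH X N 0) := fun {N} hN h => by
    haveI := GrothLib.Euler.isNoetherian_of_proper (X := X) k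
    haveI := GrothLib.Euler.finiteDimensional_HH k (GrothLib.Euler.isCoh_of_isInvertible hN) 0
    haveI := h
    exact Module.finrank_pos
  have h1 := hpos hL hs
  rw [GrothLib.CurveMult.OmegaApp.finrank_H0_of_iso k eD] at h1 ⊢
  rw [GrothLib.CurveMult.OmegaApp.deg_of_iso k eD]
  obtain ⟨E, ⟨eE⟩⟩ := GrothLib.CurveRR.exists_iso_oD k hM'
  obtain ⟨eCE⟩ := GrothLib.CurveRR.nonempty_tensor_iso k eC eE
  have h2 := hpos (GrothLib.RelProjK.isInvertible_of_iso eCE (GrothLib.CurveRR.isInvertible_oD k _)) hsp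
  rw [GrothLib.CurveMult.OmegaApp.finrank_tensor_inverse k eC eD hM' hM] at h2
  exact GrothLib.CurveRR.FF.clifford hK hC h1 h2

end Groth.Agent.S11336
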