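import Groth.Statements.S11337
import Groth.Agent.Lib.CurveMult.OmegaApp

set_option autoImplicit false
universe u
open CategoryTheory CategoryTheory.Limits AlgebraicGeometry
open Curves

namespace Groth.Agent.S11337

/-- Let k be an algebraically closed field and X a curve over k (an integral scheme, proper over k, of
dimension one, with all local rings regular), and L an invertible O_X-module with an inverse M such
that H^0(X, L) ≠ 0, H^0(X, Ω_{X/k} ⊗ M) ≠ 0, L is isomorphic neither to O_X nor to Ω_{X/k}, and 2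
(dim_k H^0(X, L) - 1) = deg L. Then X is hyperelliptic and L is a multiple of the g^1_2: there is an
invertible module N of degree 2 with two k-linearly independent global sections (a g^1_2) such that
L ≅ N^{⊗ r} with r = dim_k H^0(X, L) - 1. (Only the implication from equality is stated here; the
converse, that on a hyperelliptic curve the effective special multiples of the g^1_2 attain
equality, is not part of this statement.) -/
theorem result (k : Type u) [Field k] [IsAlgClosed k] (X : Scheme.{u}) [X.Over (Spec (CommRingCat.of k))]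
    [IsIntegral X] [IsProper (X ↘ (Spec (CommRingCat.of k)))] (hdim : topologicalKrullDim X = 1)
    (hreg : ∀ x : X, IsRegularLocalRing (X.presheaf.stalk x))
    (L M : X.Modules) (hL : PicF.IsInvertible L) (hM : ClSub.IsInverseOf L M)
    (hs : Nontrivial (Coh.HH X L 0)) (hsp : Nontrivial (Coh.HH X (CohB1.tensorMod (Omega.sheaf (X ↘ (Spec (CommRingCat.of k)))) M) 0))
    (h0 : IsEmpty (L ≅ Coh.structureModule X)) (hK : IsEmpty (L ≅ (Omega.sheaf (X ↘ (Spec (CommRingCat.of k))))))
    (heq : 2 * (Module.finrank k (Coh.HH X L 0) : ℤ) = Curv2.deg k X L 1 + 2) :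
    ∃ (N : X.Modules) (s : Fin 2 → LinSer.Sect X N), LinSer.IsLinSer k X N 2 1 s ∧
      Nonempty (L ≅ CohB1.tensorPow N (Module.finrank k (Coh.HH X L 0) - 1)) := by
  have hK0 := hK
  obtain ⟨hR, hsm, hK, hgen, C, hC, ⟨eC⟩⟩ := GrothLib.CurveMult.OmegaApp.setup k hdim hreg
  haveI := hR
  obtain ⟨D, ⟨eD⟩⟩ := GrothLib.CurveRR.exists_iso_oD k hL
  have hM' : PicF.IsInvertible M := GrothLib.Seesaw26.isInvertible_of_tensor_iso hM.some hL
  have hpos : ∀ {N : X.Modules}, PicF.IsInvertible N → Nontrivial (Coh.HH X N 0) →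
      0 < Module.finrank k (Coh.HH X N 0) := fun {N} hN h => by
    haveI := GrothLib.Euler.isNoetherian_of_proper (X := X) k
    haveI := GrothLib.Euler.finiteDimensional_HH k (GrothLib.Euler.isCoh_of_isInvertible hN) 0
    haveI := h
    exact Module.finrank_pos
  have h1 := hpos hL hs
  rw [GrothLib.CurveMult.OmegaApp.finrank_H0_of_iso k eD] at h1 heq ⊢
  rw [GrothLib.CurveMult.OmegaApp.deg_of_iso k eD] at heq
  obtain ⟨E, ⟨eE⟩⟩ := GrothLib.CurveRR.exists_iso_oD k hM'
  obtain ⟨eCE⟩ := GrothLib.CurveRR.nonempty_tensor_iso k eC eE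
  have h2 := hpos (GrothLib.RelProjK.isInvertible_of_iso eCE (GrothLib.CurveRR.isInvertible_oD k _)) hsp
  rw [GrothLib.CurveMult.OmegaApp.finrank_tensor_inverse k eC eD hM' hM] at h2
  have hRR := GrothLib.FunFld.riemann_roch' hK hC D
  obtain ⟨hlC, hdC⟩ := GrothLib.FunFld.ell_canonical hK hC
  obtain ⟨r, hr⟩ : ∃ r, FunFld.ell D = r + 1 := ⟨FunFld.ell D - 1, by omega⟩
  have hr0 : 1 ≤ r := by
    by_contra hlt
    obtain ⟨x, hx0, -, hx⟩ := GrothLib.FunFld.IsFG.exists_of_ell_pos hK.1 (D := D) h1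
    have hz : D + FunFld.div k x = 0 := by
      by_contra hne
      obtain ⟨P, hP⟩ := GrothLib.FunFld.exists_single_le hx hne
      have h3 := GrothLib.FunFld.deg_mono hP
      rw [GrothLib.FunFld.deg_single, GrothLib.FunFld.deg_add, GrothLib.FunFld.IsFG.deg_div hK.1,
        GrothLib.CurveMult.deg_place_eq_one k P] at h3
      omega
    obtain ⟨e⟩ := GrothLib.CurveMult.DivIso.nonempty_iso_of_sub_mem k (D := D) (E := 0) (by
      rw [sub_zero, eq_neg_of_add_eq_zero_left hz]
      exact AddSubgroup.neg_mem _ ((GrothLib.FunFld.mem_prinDivs_iff hK.1 _).2 ⟨x, hx0, rfl⟩))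
    exact h0.false (eD ≪≫ e ≪≫ (GrothLib.CurveRR.nonempty_iso_oD_zero k).some.symm)
  have hrg : r + 1 < _root_.FunFld.genus k X.functionField := by
    by_contra hlt
    obtain ⟨e⟩ := GrothLib.CurveMult.DivIso.nonempty_iso_of_sub_mem k
      (GrothLib.FunFld.sub_mem_prinDivs_of_canonical hK hC (A := D) (by omega) (by omega))
    exact hK0.false (eD ≪≫ e ≪≫ eC.symm)
  obtain ⟨F, hF, hlF⟩ := GrothLib.FunFld.exists_g12_of_clifford_eq hK hC r D (by omega) hr.ge hr0 hrg
  obtain ⟨s, hs'⟩ := GrothLib.CurveMult.OmegaApp.exists_linSer k (D := F) (d := 2) (r := 1) hF hlF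
  obtain ⟨e1⟩ := GrothLib.CurveRR.nonempty_tensorPow_iso k (CategoryTheory.Iso.refl (GrothLib.CurveRR.oD k F)) r
  obtain ⟨e2⟩ := GrothLib.CurveMult.DivIso.nonempty_iso_of_sub_mem k
    (GrothLib.FunFld.sub_mem_prinDivs_nsmul hK hC (D := D) (E := F) (r := r) (by omega) hr.ge hrg.le hF hlF)
  exact ⟨_, s, hs', ⟨eD ≪≫ e2 ≪≫ e1.symm ≪≫ eqToIso (by rw [hr, Nat.add_sub_cancel])⟩⟩

end Groth.Agent.S11337
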