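import Groth.Statements.S11341
import Groth.Agent.Lib.SurfRR28.Basic
import Groth.Agent.Lib.Adj27.Variety
import Groth.Agent.Lib.HodgeIndex.Curves
import Groth.Agent.Lib.ConnH0.Basic
import Groth.Agent.Lib.Euler.Section

set_option autoImplicit false
universe u
open CategoryTheory CategoryTheory.Limits AlgebraicGeometry
open Surf

namespace Groth.Agent.S11341

/-- Let X be a surface over an algebraically closed field k (an integral scheme of dimension two with
all local rings regular, admitting a closed immersion into some P^n_k over k), let W be the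
canonical sheaf of X (a second exterior power of the sheaf of differentials Ω_{X/k}), and let C be a
nonsingular curve of genus g on X: an integral closed subscheme of dimension one with all local
rings regular, with ideal sheaf I ⊆ O_X, g = dim_k H^1(C, O_C). Then 2g - 2 = C.(C + K). Writing
(L·M) for the intersection number χ(O_X) - χ(L) - χ(M) + χ(L ⊗ M) of two invertible modules
(packaged as FGA.intNum), C.C = (I·I) and C.K = -(I·W), so the formula reads 2g - 2 = (I·I) - (I·W). -/
theorem result (k : Type u) [Field k] [IsAlgClosed k] (X : Scheme.{u}) [X.Over (Spec (CommRingCat.of k))]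
    [IsIntegral X] (hdim : topologicalKrullDim X = 2) (hreg : ∀ x : X, IsRegularLocalRing (X.presheaf.stalk x))
    (hproj : ∃ (n : ℕ) (ι : X ⟶ CohB1.ProjSpace n k), IsClosedImmersion ι ∧ ι ≫ CohB1.ProjSpace.toSpec n k = (X ↘ (Spec (CommRingCat.of k))))
    (W : X.Modules) (hW : ExtPow.IsExtPow 2 (Omega.sheaf (X ↘ (Spec (CommRingCat.of k)))) W)
    (C : Scheme.{u}) (i : C ⟶ X) [IsClosedImmersion i] [IsIntegral C] (hC : topologicalKrullDim C = 1)
    (hCreg : ∀ c : C, IsRegularLocalRing (C.presheaf.stalk c)) :
    letI : C.Over (Spec (CommRingCat.of k)) := ⟨i ≫ (X ↘ (Spec (CommRingCat.of k)))⟩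
    2 * (Curv2.genus k C : ℤ) - 2 =
      FGA.intNum k X 2 ![ClSub.idealMod i.ker, ClSub.idealMod i.ker] (Coh.structureModule X) - FGA.intNum k X 2 ![ClSub.idealMod i.ker, W] (Coh.structureModule X) := by
  obtain ⟨n, ι, hι, hιc⟩ := hproj
  haveI := hι
  haveI := GrothLib.HodgeIndex.isProper_of_proj ι hιc
  haveI := GrothLib.Adj27.smoothOfRelativeDimension_of_regular (X ↘ Spec (CommRingCat.of k)) hreg 2 hdim
  haveI := GrothLib.Euler.isNoetherian_of_proper (X := X) k
  letI : C.Over (Spec (CommRingCat.of k)) := ⟨i ≫ (X ↘ (Spec (CommRingCat.of k)))⟩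
  haveI : IsProper (C ↘ Spec (CommRingCat.of k)) := inferInstanceAs (IsProper (i ≫ X ↘ Spec (CommRingCat.of k)))
  haveI : IsIso i.toImage := inferInstance
  haveI : IsIntegral i.ker.subscheme := IsIntegral.of_isIso i.toImage
  have hc : topologicalKrullDim (i.ker.support : Set X) = 1 := by
    rw [← hC, i.isClosedEmbedding.isEmbedding.toHomeomorph.isHomeomorph.topologicalKrullDim_eq,
      i.support_ker, i.isClosedEmbedding.isClosed_range.closure_eq]
  have hE := GrothLib.HodgeIndex.isEffCartier_curve (I := i.ker) hdim hreg (GrothLib.HodgeIndex.isTop_of_curve k hc)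
  rw [GrothLib.SurfRR28.adjunction k ι hιc W hW i rfl (GrothLib.IdealModSec.isInvertible_of_isEffCartier hE),
    GrothLib.Euler.euler_structure k hC.le, GrothLib.ConnH0.finrank_H0_eq_one k]
  push_cast
  ring

end Groth.Agent.S11341
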