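import Groth.Statements.S11343
import Groth.Agent.Lib.HodgeIndex.H2Vanish
import Groth.Agent.Lib.HodgeIndex.ProjConv

set_option autoImplicit false
set_option linter.all false
universe u
open CategoryTheory CategoryTheory.Limits AlgebraicGeometry
open Surf

namespace Groth.Agent.S11343

/-- Let X be a surface over an algebraically closed field k (an integral scheme of dimension two with
all local rings regular, admitting a closed immersion into some P^n_k over k), and H an ample
invertible O_X-module. Some integer n₀ has the property that H^2(X, L) = 0 for every invertible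
module L with (L·H) > n₀; here (L·H) = χ(O_X) - χ(L) - χ(H) + χ(L ⊗ H) is the intersection number
(packaged as FGA.intNum). -/
theorem result (k : Type u) [Field k] [IsAlgClosed k] (X : Scheme.{u}) [X.Over (Spec (CommRingCat.of k))]
    [IsIntegral X] (hdim : topologicalKrullDim X = 2) (hreg : ∀ x : X, IsRegularLocalRing (X.presheaf.stalk x))
    (hproj : ∃ (n : ℕ) (ι : X ⟶ CohB1.ProjSpace n k), IsClosedImmersion ι ∧ ι ≫ CohB1.ProjSpace.toSpec n k = (X ↘ (Spec (CommRingCat.of k))))
    (H : X.Modules) (hH : CohB1.IsAmple H) :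
    ∃ n₀ : ℤ, ∀ L : X.Modules, PicF.IsInvertible L → n₀ < FGA.intNum k X 2 ![L, H] (Coh.structureModule X) → Subsingleton (Coh.HH X L 2) := by
  obtain ⟨m, ι, hι, hιc⟩ := hproj
  haveI := hι
  haveI := GrothLib.HodgeIndex.isProper_of_proj ι hιc
  have hd : topologicalKrullDim X = ((2 : ℕ) : WithBot ℕ∞) := hdim
  obtain ⟨n₀, h⟩ := GrothLib.HodgeIndex.degree_le_of_h2_ne_zero k hd hH
  refine ⟨n₀, fun L hL hlt => ?_⟩
  rw [GrothLib.HodgeIndex.intNum_eq_isect k hd.le hH hL hH.1] at hlt
  have h2 := h _ hlt
  rw [← GrothLib.HodgeIndex.hh_rep_eq k hL rfl 2] at h2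
  haveI := GrothLib.Euler.finiteDimensional_HH k (GrothLib.Euler.isCoh_of_isInvertible hL) 2
  exact Module.finrank_zero_iff.1 h2

end Groth.Agent.S11343
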