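import Groth.Statements.S11345
import Groth.Agent.Lib.BlowPt28.Canon
import Groth.Agent.Lib.Adj27.Variety
import Groth.Agent.Lib.Chow.Prod

set_option autoImplicit false
universe u
open CategoryTheory CategoryTheory.Limits AlgebraicGeometry
open Surf

namespace Groth.Agent.S11345

/-- Let X be a surface over an algebraically closed field k (an integral scheme of dimension two with
all local rings regular, admitting a closed immersion into some P^n_k over k), P a closed point of X
with ideal sheaf m_P, and π : X' → X the monoidal transformation with centre P (a blowing up of X in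
m_P, characterised by its universal property), with exceptional curve E of ideal I_E = m_P · O_{X'};
let W and W' be canonical sheaves of X and X' (second exterior powers of the sheaves of
differentials), X' being again a surface of the same kind. Then K_{X'} = π^* K_X + E in Pic X', i.e.
W' ⊗ I_E ≅ π^* W (existence of an isomorphism), and K_{X'}^2 = K_X^2 - 1, intersection numbers being
(L·M) = χ(O) - χ(L) - χ(M) + χ(L ⊗ M) (packaged as FGA.intNum). -/
theorem result (k : Type u) [Field k] [IsAlgClosed k] (X : Scheme.{u}) [X.Over (Spec (CommRingCat.of k))]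
    [IsIntegral X] (hdim : topologicalKrullDim X = 2) (hreg : ∀ x : X, IsRegularLocalRing (X.presheaf.stalk x))
    (hproj : ∃ (n : ℕ) (ι : X ⟶ CohB1.ProjSpace n k), IsClosedImmersion ι ∧ ι ≫ CohB1.ProjSpace.toSpec n k = (X ↘ (Spec (CommRingCat.of k))))
    (W : X.Modules) (hW : ExtPow.IsExtPow 2 (Omega.sheaf (X ↘ (Spec (CommRingCat.of k)))) W)
    (P : X) (hP : IsClosed ({P} : Set X))
    (X' : Scheme.{u}) (π : X' ⟶ X) (hπ : BlowUp.IsBlowUp π (Scheme.IdealSheafData.vanishingIdeal ⟨{P}, hP⟩))
    [IsIntegral X'] (hdim' : topologicalKrullDim X' = 2) (hreg' : ∀ x : X', IsRegularLocalRing (X'.presheaf.stalk x))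
    (hproj' : ∃ (n : ℕ) (ι : X' ⟶ CohB1.ProjSpace n k), IsClosedImmersion ι ∧ ι ≫ CohB1.ProjSpace.toSpec n k = π ≫ (X ↘ (Spec (CommRingCat.of k))))
    (W' : X'.Modules) (hW' : ExtPow.IsExtPow 2 (Omega.sheaf (π ≫ (X ↘ (Spec (CommRingCat.of k))))) W') :
    letI : X'.Over (Spec (CommRingCat.of k)) := ⟨π ≫ (X ↘ (Spec (CommRingCat.of k)))⟩
    Nonempty (CohB1.tensorMod W' (ClSub.idealMod (BlowUp.exceptional π (Scheme.IdealSheafData.vanishingIdeal ⟨{P}, hP⟩))) ≅
        (Scheme.Modules.pullback π).obj W) ∧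
      FGA.intNum k X' 2 ![W', W'] (Coh.structureModule X') = FGA.intNum k X 2 ![W, W] (Coh.structureModule X) - 1 := by
  letI : X'.Over (Spec (CommRingCat.of k)) := ⟨π ≫ (X ↘ (Spec (CommRingCat.of k)))⟩
  obtain ⟨n, ι, hι, hιf⟩ := hproj
  obtain ⟨n', ι', hι', hιf'⟩ := hproj'
  haveI := hι
  haveI := hι'
  haveI : IsProper (CohB1.ProjSpace.toSpec n k) := GrothLib.Chow.isProper_toSpec n k
  haveI : IsProper (CohB1.ProjSpace.toSpec n' k) := GrothLib.Chow.isProper_toSpec n' k
  haveI : IsProper (X ↘ (Spec (CommRingCat.of k))) := hιf ▸ inferInstance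
  haveI : IsProper (X' ↘ (Spec (CommRingCat.of k))) := by
    show IsProper (π ≫ (X ↘ (Spec (CommRingCat.of k))))
    rw [← hιf']
    infer_instance
  haveI : Smooth (X ↘ (Spec (CommRingCat.of k))) := GrothLib.Adj27.smooth_of_regular _ hreg
  haveI : Smooth (X' ↘ (Spec (CommRingCat.of k))) := GrothLib.Adj27.smooth_of_regular _ hreg'
  obtain ⟨hWi, hWi', h1, h2⟩ := GrothLib.BlowPt28.canonical k (GrothLib.BlowPt28.components_of_irreducible hdim)
    (GrothLib.BlowPt28.components_of_irreducible hdim') hP hπ rfl hW hW'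
  have hI := GrothLib.IdealModSec.isInvertible_of_isEffCartier hπ.1
  refine ⟨?_, ?_⟩
  · rw [← GrothLib.Cube.clsMod_tensorMod hWi' hI, ← GrothLib.Cube.clsMod_pullback π hWi] at h1
    exact (GrothLib.Cube.clsMod_eq_iff _ _).1 h1
  · rw [GrothLib.BlowPt28.intNum_eq k hdim'.le hWi' hWi', GrothLib.BlowPt28.intNum_eq k hdim.le hWi hWi]
    exact h2

end Groth.Agent.S11345
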