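import Groth.Statements.S11346
import Groth.Agent.Lib.PlaneBlow28.RuledInter

set_option autoImplicit false
universe u
open CategoryTheory CategoryTheory.Limits AlgebraicGeometry
open Surf

namespace Groth.Agent.S11346

/-- Let π : X → C be a ruled surface over an algebraically closed field k: X a surface (integral, of
dimension two, all local rings regular, with a closed immersion into some P^n_k over k), C a curve
(integral, proper over k, of dimension one, all local rings regular), π : X → C a surjective
k-morphism whose fibre over every closed point is isomorphic to P^1_k and which admits a section σ.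
If C has genus g, then p_a(X) = -g, p_g(X) = 0 and q(X) = g; that is, dim_k H^1(X, O_X) = g = dim_k
H^1(C, O_C) and H^2(X, O_X) = 0. -/
theorem result (k : Type u) [Field k] [IsAlgClosed k] (X : Scheme.{u}) [X.Over (Spec (CommRingCat.of k))]
    [IsIntegral X] (hdim : topologicalKrullDim X = 2) (hreg : ∀ x : X, IsRegularLocalRing (X.presheaf.stalk x))
    (hproj : ∃ (n : ℕ) (ι : X ⟶ CohB1.ProjSpace n k), IsClosedImmersion ι ∧ ι ≫ CohB1.ProjSpace.toSpec n k = (X ↘ (Spec (CommRingCat.of k))))
    (C : Scheme.{u}) [C.Over (Spec (CommRingCat.of k))]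
    [IsIntegral C] [IsProper (C ↘ (Spec (CommRingCat.of k)))] (hdimC : topologicalKrullDim C = 1)
    (hregC : ∀ x : C, IsRegularLocalRing (C.presheaf.stalk x))
    (π : X ⟶ C) (hπ : π ≫ (C ↘ (Spec (CommRingCat.of k))) = (X ↘ (Spec (CommRingCat.of k)))) (hsurj : Function.Surjective π)
    (hfib : ∀ y : C, IsClosed ({y} : Set C) → Nonempty (pullback π (C.fromSpecResidueField y) ≅ CohB1.ProjSpace 1 k))
    (σ : C ⟶ X) (hσ : σ ≫ π = 𝟙 C) :
    Module.finrank k (Coh.HH X (Coh.structureModule X) 1) = Curv2.genus k C ∧ Subsingleton (Coh.HH X (Coh.structureModule X) 2) := by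
  obtain ⟨N, ι, hι, hιf⟩ := hproj
  haveI := hι
  haveI : IsProper (CohB1.ProjSpace.toSpec N k) := GrothLib.Chow.isProper_toSpec N k
  haveI : IsProper (X ↘ (Spec (CommRingCat.of k))) := hιf ▸ inferInstance
  haveI : Smooth (X ↘ (Spec (CommRingCat.of k))) := GrothLib.Adj27.smooth_of_regular _ hreg
  haveI : Smooth (C ↘ (Spec (CommRingCat.of k))) := GrothLib.Adj27.smooth_of_regular _ hregC
  have hdim2 : topologicalKrullDim X = ((2 : ℕ) : WithBot ℕ∞) := hdim
  haveI := GrothLib.Euler.isNoetherian_of_proper (X := X) k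
  haveI := GrothLib.Euler.isNoetherian_of_proper (X := C) k

  letI := GrothLib.RpushSupp20.hasInjectiveResolutions X
  have hO := GrothLib.Euler.isInvertible_structure (X := X)
  have hO1 : GrothLib.Cube.clsMod hO = 1 := (GrothLib.Cube.clsMod_eq_one_iff hO).2 ⟨Iso.refl _⟩
  have hh := fun i => GrothLib.PlaneBlow28.ruled_hh k hdim2 hdimC π hπ hsurj hfib hO (fun y hy hI => by
    rw [hO1, GrothLib.HodgeIndex.isect_one_left k hdim2.le]) i
  haveI : IsIso (ClSub.unitToPush π) := GrothLib.ZClosure.isIso_of_basis _ fun w U hw =>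
    ⟨U, hw, le_rfl, GrothLib.PlaneBlow28.ruled_bijective_app k hdimC π hπ hsurj hfib U⟩
  let e : (Coh.push π).obj (Coh.structureModule X) ≅ Coh.structureModule C := (asIso (ClSub.unitToPush π)).symm
  refine ⟨?_, ?_⟩
  · obtain ⟨l⟩ := hh 1
    rw [l.finrank_eq, (GrothLib.Euler.hhEquiv (A := k) e 1).finrank_eq]
    rfl
  · obtain ⟨l⟩ := hh 2
    haveI := GrothLib.Cohom.isQuasicoherent_structureModule C
    haveI := GrothLib.Euler.subsingleton_HH_of_dim_le_one (A := k) (X := C) (by exact_mod_cast hdimC.le)
      (Coh.structureModule C) 2 le_rfl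
    exact (l.trans (GrothLib.Euler.hhEquiv (A := k) e 2)).toEquiv.subsingleton

end Groth.Agent.S11346
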