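import Groth.Statements.S12430
import Groth.Agent.Lib.CurveMult.TwistHom
import Groth.Agent.Lib.Euler.Slope

set_option autoImplicit false
universe u
open CategoryTheory CategoryTheory.Limits AlgebraicGeometry
open Curves

namespace Groth.Agent.S12430

/-- Let C be a curve over an algebraically closed field k (integral, proper over k, of dimension one,
all local rings regular) and E a locally free O_C-module of rank 2 which is normalized — H^0(C, E) ≠
0 while H^0(C, E ⊗ M) = 0 for every invertible O_C-module M of negative degree. Then for every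
nonzero morphism s : O_C → E the cokernel of s is an invertible O_C-module (so E is an extension of
an invertible module by O_C). -/
theorem result (k : Type u) [Field k] [IsAlgClosed k] (C : Scheme.{u}) [C.Over (Spec (CommRingCat.of k))]
    [IsIntegral C] [IsProper (C ↘ (Spec (CommRingCat.of k)))] (hdimC : topologicalKrullDim C = 1)
    (hregC : ∀ x : C, IsRegularLocalRing (C.presheaf.stalk x))
    (E : C.Modules) (hE : FlatMod.IsFinLocFreeOfRank 2 E)
    (hE0 : Nontrivial (Coh.HH C E 0))
    (hEneg : ∀ M : C.Modules, PicF.IsInvertible M → Curv2.deg k C M 1 < 0 → Subsingleton (Coh.HH C (CohB1.tensorMod E M) 0))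
    (s : Coh.structureModule C ⟶ E) (hs : s ≠ 0) :
    PicF.IsInvertible (cokernel s) := by
  haveI := GrothLib.Euler.isNoetherian_of_proper (X := C) k
  have hpid := fun x => GrothLib.Euler.isPrincipalIdealRing_stalk hdimC.le (fun y _ => hregC y) x
  have hO : PicF.IsInvertible (Coh.structureModule C) := GrothLib.Euler.isInvertible_structure
  have hO1 := GrothLib.Euler.isFinLocFreeOfRank_one_of_invertible hO
  obtain ⟨K, I, a, p, j, rK, rI, -, -, -, -, -, -, -, hrk, -, h0, hmono⟩ := GrothLib.Euler.exists_image_data k hpid
    (GrothLib.FinCov.isFinLocFree_of_rank hO1) (GrothLib.FinCov.isFinLocFree_of_rank hE) s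
  rw [GrothLib.Euler.grank_of_locFree hO1] at hrk
  have hrI : rI ≠ 0 := fun h => hs (h0 h)
  haveI : Mono s := hmono (by omega)
  refine GrothLib.CurveMult.isInvertible_cokernel_of_max k hdimC.le hpid hO hE s fun P' i' hi' hP' => ?_
  rw [GrothLib.Euler.deg_structure k]
  by_contra hlt
  haveI := hi'
  have hne : i' ≠ 0 := fun h => by
    haveI : Mono (0 : P' ⟶ E) := h ▸ hi'
    have hz : IsZero P' := (IsZero.iff_id_eq_zero P').2 ((cancel_mono (0 : P' ⟶ E)).1 (by simp))
    have h1 := GrothLib.Euler.degree_of_isZero k hz
    rw [← GrothLib.Euler.deg_eq_degree k (GrothLib.Euler.isFinLocFreeOfRank_one_of_invertible hP')] at h1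
    omega
  obtain ⟨M, hM, hdeg, hnt⟩ := GrothLib.CurveMult.exists_twist_section k hdimC.le hP' hne
  exact (not_subsingleton_iff_nontrivial.2 hnt) (hEneg M hM (by omega))

end Groth.Agent.S12430
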