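import Groth.Statements.S11347
import Groth.Agent.Lib.CurveMult.TwistSplit
import Groth.Agent.Lib.Euler.Slope
import Groth.Agent.Lib.CurveRR.Main
import Groth.Agent.Lib.CurveRR.Stable
import Groth.Agent.Lib.CurveRR.Setup
import Groth.Agent.S12430

set_option autoImplicit false
universe u
open CategoryTheory CategoryTheory.Limits AlgebraicGeometry
open Curves

namespace Groth.Agent.S11347

/-- Let C be a genus-g curve over an algebraically closed field k (integral, proper over k, of dimension
one, all local rings regular), and E a locally free O_C-module of rank 2 which is normalized —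
H^0(C, E) ≠ 0 while H^0(C, E ⊗ M) = 0 for every invertible M with deg M < 0 — and indecomposable —
not isomorphic to a direct sum of two invertible modules. Then the invariant e = -deg E of the ruled
surface P(E) satisfies -2g ≤ e ≤ 2g - 2; here deg E = χ(E) - 2 χ(O_C). -/
theorem result (k : Type u) [Field k] [IsAlgClosed k] (C : Scheme.{u}) [C.Over (Spec (CommRingCat.of k))]
    [IsIntegral C] [IsProper (C ↘ (Spec (CommRingCat.of k)))] (hdimC : topologicalKrullDim C = 1)
    (hregC : ∀ x : C, IsRegularLocalRing (C.presheaf.stalk x))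
    (E : C.Modules) (hE : FlatMod.IsFinLocFreeOfRank 2 E)
    (hn0 : Nontrivial (Coh.HH C E 0))
    (hneg : ∀ M : C.Modules, PicF.IsInvertible M → Curv2.deg k C M 1 < 0 → Subsingleton (Coh.HH C (CohB1.tensorMod E M) 0))
    (hind : ∀ L₁ L₂ : C.Modules, PicF.IsInvertible L₁ → PicF.IsInvertible L₂ → IsEmpty (E ≅ L₁ ⊞ L₂)) :
    2 - 2 * (Curv2.genus k C : ℤ) ≤ Curv2.deg k C E 2 ∧ Curv2.deg k C E 2 ≤ 2 * (Curv2.genus k C : ℤ) := by
  haveI := GrothLib.Euler.isNoetherian_of_proper (X := C) k
  haveI := GrothLib.CurveRR.regCurve_of_isRegularLocalRing hdimC (fun y _ => hregC y)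
  have h0 := GrothLib.CurveRR.finrank_H0_structure_eq_one k (X := C)
  have hK := GrothLib.CurveRR.isFunctionField k h0
  have hgen := GrothLib.CurveRR.genus_eq k h0
  obtain ⟨K, hKc⟩ := GrothLib.FunFld.exists_isCanonical hK
  have hKd := GrothLib.CurveRR.deg_canonical k hK hKc
  have hEc := GrothLib.Euler.isCoh_of_isFinLocFree (GrothLib.FinCov.isFinLocFree_of_rank hE)
  have hO : PicF.IsInvertible (Coh.structureModule C) := GrothLib.Euler.isInvertible_structure
  have e0 := GrothLib.Euler.euler_structure k (X := C) hdimC.le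
  rw [h0] at e0
  refine ⟨?_, ?_⟩
  · obtain ⟨u, hu⟩ := GrothLib.Euler.exists_ne_zero_section hn0
    have hs : GrothLib.FinCov.homOfSection u ≠ 0 := fun h => hu (by
      have h1 := GrothLib.FinCov.homOfSection_one u ⊤
      rw [h] at h1
      rw [show (homOfLE (le_top : (⊤ : C.Opens) ≤ ⊤)).op = 𝟙 _ from Subsingleton.elim _ _,
        CategoryTheory.Functor.map_id] at h1
      exact h1.symm)
    have hL := Groth.Agent.S12430.result k C hdimC hregC E hE hn0 hneg _ hs
    have hL1 := GrothLib.Euler.isFinLocFreeOfRank_one_of_invertible hL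
    have hO1 := GrothLib.Euler.isFinLocFreeOfRank_one_of_invertible hO
    haveI : Mono (GrothLib.FinCov.homOfSection u) := by
      have hpid := fun x => GrothLib.Euler.isPrincipalIdealRing_stalk hdimC.le (fun y _ => hregC y) x
      obtain ⟨A, I, a, p, j, rK, rI, -, -, -, -, -, -, -, hrk, -, hz, hmono⟩ := GrothLib.Euler.exists_image_data k hpid
        (GrothLib.FinCov.isFinLocFree_of_rank hO1) (GrothLib.FinCov.isFinLocFree_of_rank hE)
        (GrothLib.FinCov.homOfSection u)
      rw [GrothLib.Euler.grank_of_locFree hO1] at hrk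
      have : rI ≠ 0 := fun h => hs (hz h)
      exact hmono (by omega)
    have hSe := GrothLib.Euler.cokernel_shortExact (GrothLib.FinCov.homOfSection u)
    obtain ⟨hd, -⟩ := GrothLib.Euler.degree_quotient k _ _ _ hSe (GrothLib.Euler.isCoh_of_isInvertible hO) hEc
      (GrothLib.Euler.isCoh_of_isInvertible hL)
    rw [← GrothLib.Euler.deg_eq_degree k hE, ← GrothLib.Euler.deg_eq_degree k hO1,
      ← GrothLib.Euler.deg_eq_degree k hL1, GrothLib.Euler.deg_structure k, zero_add] at hd
    by_contra hlt
    obtain ⟨M, hM, hMd, ⟨e⟩, ⟨e'⟩⟩ := GrothLib.CurveMult.exists_inverse k hdimC.le hL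
    obtain ⟨D, -, hD, -, hh1⟩ := GrothLib.CurveRR.exists_divisor k h0 hKc hM
    rw [hgen] at hlt
    haveI hM1 : Subsingleton (Coh.HH C M 1) := by
      haveI := GrothLib.Euler.finiteDimensional_HH k (GrothLib.Euler.isCoh_of_isInvertible hM) 1
      refine Module.finrank_zero_iff.1 (hh1.trans ?_)
      exact GrothLib.FunFld.IsFG.ell_eq_zero_of_deg_neg hK.1 (by rw [GrothLib.FunFld.deg_sub]; omega)
    haveI : IsSplitEpi (cokernel.π (GrothLib.FinCov.homOfSection u)) :=
      GrothLib.CurveMult.isSplitEpi_of_H1 k hSe e e' (GrothLib.Euler.hhEquiv (A := k)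
        (((GrothLib.OX.tensorBraiding (X := C)).app M).app (Coh.structureModule C) ≪≫
          ((GrothLib.OX.tensorBraiding (X := C)).app (Coh.structureModule C)).app M ≪≫
          GrothLib.OX.tensorUnitLeftIso M) 1).toEquiv.subsingleton
    exact (hind _ _ hO hL).false (ShortComplex.Splitting.ofExactOfSection _ hSe.exact
      (section_ (cokernel.π (GrothLib.FinCov.homOfSection u))) (IsSplitEpi.id _) inferInstance).isoBinaryBiproduct
  · haveI := GrothLib.CurveRR.isFG k (X := C)
    obtain ⟨P⟩ := GrothLib.FunFld.IsFG.exists_place hK.1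
    have hPd : P.deg = 1 := GrothLib.FunFld.IsFG.deg_eq_one hK.1 P
    have hM := GrothLib.CurveRR.isInvertible_oD k (Finsupp.single P (-1) : FunFld.Divisor k C.functionField)
    have hMd : Curv2.deg k C (GrothLib.CurveRR.oD k (Finsupp.single P (-1) : FunFld.Divisor k C.functionField)) 1 = -1 := by
      rw [GrothLib.CurveRR.deg_oD, GrothLib.FunFld.deg_single, hPd]; norm_num
    have hz := hneg _ hM (by rw [hMd]; norm_num)
    have hM1 := GrothLib.Euler.isFinLocFreeOfRank_one_of_invertible hM
    obtain ⟨U, hU, ⟨φ⟩⟩ := GrothLib.Euler.exists_trivial_genericPoints k hM1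
    have h := GrothLib.Euler.euler_tF k hdimC.le hE (GrothLib.Euler.isCoh_of_isInvertible hM) hU φ
    have e1 : Curv2.euler k C ((GrothLib.Euler.tF E).obj _) = _ := GrothLib.Euler.euler_of_iso k
      (((GrothLib.OX.tensorBraiding (X := C)).app E).app
        (GrothLib.CurveRR.oD k (Finsupp.single P (-1) : FunFld.Divisor k C.functionField)))
    have hT : Coh.IsCoh (CohB1.tensorMod E (GrothLib.CurveRR.oD k (Finsupp.single P (-1) : FunFld.Divisor k C.functionField))) :=
      GrothLib.Euler.isCoh_tF hEc (GrothLib.FinCov.isFinLocFree_of_rank hM1)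
    have hle : Curv2.euler k C (CohB1.tensorMod E (GrothLib.CurveRR.oD k (Finsupp.single P (-1) : FunFld.Divisor k C.functionField))) ≤ 0 := by
      by_contra hpos
      exact (not_subsingleton_iff_nontrivial.2
        (GrothLib.Euler.nontrivial_H0_of_euler_pos k hdimC.le hT (not_le.1 hpos))) hz
    rw [Curv2.deg] at hMd
    rw [e1] at h
    push_cast at h hMd e0 ⊢
    simp only [Curv2.deg] at h hle ⊢
    push_cast at h ⊢
    have h2 := h.symm.trans_le hle
    omega

end Groth.Agent.S11347
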