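import Groth.Statements.S11348
import Groth.Agent.Lib.CurveMult.EllipticRankTwo
import Groth.Agent.S11347

set_option autoImplicit false
universe u
open CategoryTheory CategoryTheory.Limits AlgebraicGeometry
open Curves

namespace Groth.Agent.S11348

/-- Let C be an elliptic curve over an algebraically closed field k — integral, proper over k, of
dimension one, all local rings regular, of genus dim_k H^1(C, O_C) = 1 — and E a locally free
O_C-module of rank 2 which is normalized (H^0(C, E) ≠ 0 while H^0(C, E ⊗ M) = 0 for every invertible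
M of negative degree) and indecomposable (not isomorphic to a direct sum of two invertible modules).
Then the invariant e = -deg E is 0 or -1, i.e. deg E ∈ {0, 1}, with deg E = χ(E) - 2 χ(O_C). -/
theorem result (k : Type u) [Field k] [IsAlgClosed k] (C : Scheme.{u}) [C.Over (Spec (CommRingCat.of k))]
    [IsIntegral C] [IsProper (C ↘ (Spec (CommRingCat.of k)))] (hdimC : topologicalKrullDim C = 1)
    (hregC : ∀ x : C, IsRegularLocalRing (C.presheaf.stalk x)) (hg : Curv2.genus k C = 1)
    (E : C.Modules) (hE : FlatMod.IsFinLocFreeOfRank 2 E)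
    (hn0 : Nontrivial (Coh.HH C E 0))
    (hneg : ∀ M : C.Modules, PicF.IsInvertible M → Curv2.deg k C M 1 < 0 → Subsingleton (Coh.HH C (CohB1.tensorMod E M) 0))
    (hind : ∀ L₁ L₂ : C.Modules, PicF.IsInvertible L₁ → PicF.IsInvertible L₂ → IsEmpty (E ≅ L₁ ⊞ L₂)) :
    Curv2.deg k C E 2 = 0 ∨ Curv2.deg k C E 2 = 1 := by
  have hb := Groth.Agent.S11347.result k C hdimC hregC E hE hn0 hneg hind
  rw [hg] at hb
  haveI := GrothLib.Euler.isNoetherian_of_proper (X := C) k
  haveI := GrothLib.CurveRR.regCurve_of_isRegularLocalRing hdimC (fun y _ => hregC y)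
  by_contra hcon
  push Not at hcon
  have hd : Curv2.deg k C E 2 = 2 * 1 := by omega
  obtain ⟨L, i, hi, hL, -, hl, -, -⟩ := GrothLib.CurveMult.exists_ses_of_even_deg k hg hE hd
  have hne : i ≠ 0 := fun h => by
    haveI : Mono (0 : L ⟶ E) := h ▸ hi
    exact GrothLib.CurveMult.not_isZero_of_invertible hL ((IsZero.iff_id_eq_zero _).2
      ((cancel_mono (0 : L ⟶ E)).1 (by simp)))
  obtain ⟨M, hM, hMd, hnt⟩ := GrothLib.CurveMult.exists_twist_section k hdimC.le hL hne
  exact (not_subsingleton_iff_nontrivial.2 hnt) (hneg M hM (by omega))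

end Groth.Agent.S11348
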