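import Groth.Statements.S11349
import Groth.Agent.Lib.CurveMult.SwapCurve

set_option autoImplicit false
universe u
open CategoryTheory CategoryTheory.Limits AlgebraicGeometry
open Curves

namespace Groth.Agent.S11349

set_option backward.isDefEq.respectTransparency false


/-- Take an algebraically closed field k of characteristic different from 2 and an elliptic curve X over
k — an integral scheme, proper over k, of dimension one, all local rings regular, of genus dim_k
H^1(X, O_X) = 1 — and let P, Q be closed points of X, possibly equal. Then there is an automorphism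
σ of X over k with σ² = id and σ(P) = Q such that R + σ(R) is linearly equivalent to P + Q for every
closed point R; the last condition is written on ideal sheaves of points: I_R ⊗ I_{σ(R)} ≅ I_P ⊗
I_Q. -/
theorem result (k : Type u) [Field k] [IsAlgClosed k] (X : Scheme.{u}) [X.Over (Spec (CommRingCat.of k))]
    [IsIntegral X] [IsProper (X ↘ (Spec (CommRingCat.of k)))] (hdim : topologicalKrullDim X = 1)
    (hreg : ∀ x : X, IsRegularLocalRing (X.presheaf.stalk x)) (hchar : ringChar k ≠ 2) (hg : Curv2.genus k X = 1)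
    (P Q : X) (hP : IsClosed ({P} : Set X)) (hQ : IsClosed ({Q} : Set X)) :
    ∃ σ : X ≅ X, σ.hom ≫ (X ↘ (Spec (CommRingCat.of k))) = (X ↘ (Spec (CommRingCat.of k))) ∧ σ.hom ≫ σ.hom = 𝟙 X ∧ σ.hom P = Q ∧
      ∀ (R R' : X) (hR : IsClosed ({R} : Set X)) (hR' : IsClosed ({R'} : Set X)), σ.hom R = R' →
        Nonempty (CohB1.tensorMod (ClSub.idealMod (Scheme.IdealSheafData.vanishingIdeal ⟨{R}, hR⟩)) (ClSub.idealMod (Scheme.IdealSheafData.vanishingIdeal ⟨{R'}, hR'⟩)) ≅ CohB1.tensorMod (ClSub.idealMod (Scheme.IdealSheafData.vanishingIdeal ⟨{P}, hP⟩)) (ClSub.idealMod (Scheme.IdealSheafData.vanishingIdeal ⟨{Q}, hQ⟩))) := by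
  haveI := GrothLib.CurveRR.regCurve_of_regular (k := k) hdim hreg
  have hne : ∀ x : X, IsClosed ({x} : Set X) → x ≠ genericPoint X := fun x hx =>
    (GrothLib.CurveRR.isClosed_iff_ne_genericPoint k x).1 hx
  obtain ⟨σ, hσ, hσσ, hPQ, hR⟩ :=
    GrothLib.CurveMult.SwapCurve.exists_swap k hreg hg ⟨P, hne P hP⟩ ⟨Q, hne Q hQ⟩
  refine ⟨⟨σ, σ, hσσ, hσσ⟩, hσ, hσσ, hPQ, fun R R' hcR hcR' he => ?_⟩
  exact GrothLib.CurveMult.SwapCurve.nonempty_ideal_tensor_iso k ⟨P, hne P hP⟩ ⟨Q, hne Q hQ⟩
    ⟨R, hne R hcR⟩ ⟨R', hne R' hcR'⟩ hP hQ hcR hcR' (hR _ _ he)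

end Groth.Agent.S11349
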