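import Groth.Statements.S11351
import Groth.Agent.Lib.CurveMult.DoubleMatchCurve

set_option autoImplicit false
universe u
open CategoryTheory CategoryTheory.Limits AlgebraicGeometry
open Curves

namespace Groth.Agent.S11351

set_option backward.isDefEq.respectTransparency false


/-- Take an algebraically closed field k of characteristic different from 2 and an elliptic curve X over
k (integral, proper over k, of dimension one, all local rings regular, of genus dim_k H^1(X, O_X) =
1), and let f₁, f₂ : X → P^1_k be two finite morphisms over k of degree 2 (the direct image of O_X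
is locally free of rank 2). Then there are an automorphism σ of X over k and an automorphism τ of
P^1_k over k such that f₂ ∘ σ = τ ∘ f₁. -/
theorem result (k : Type u) [Field k] [IsAlgClosed k] (X : Scheme.{u}) [X.Over (Spec (CommRingCat.of k))]
    [IsIntegral X] [IsProper (X ↘ (Spec (CommRingCat.of k)))] (hdim : topologicalKrullDim X = 1)
    (hreg : ∀ x : X, IsRegularLocalRing (X.presheaf.stalk x)) (hchar : ringChar k ≠ 2) (hg : Curv2.genus k X = 1)
    (f₁ f₂ : X ⟶ (CohB1.ProjSpace 1 k)) [IsFinite f₁] [IsFinite f₂]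
    (hf₁ : f₁ ≫ CohB1.ProjSpace.toSpec 1 k = (X ↘ (Spec (CommRingCat.of k)))) (hf₂ : f₂ ≫ CohB1.ProjSpace.toSpec 1 k = (X ↘ (Spec (CommRingCat.of k))))
    (hd₁ : FlatMod.IsFinLocFreeOfRank 2 ((Scheme.Modules.pushforward f₁).obj (Coh.structureModule X)))
    (hd₂ : FlatMod.IsFinLocFreeOfRank 2 ((Scheme.Modules.pushforward f₂).obj (Coh.structureModule X))) :
    ∃ (σ : X ≅ X) (τ : (CohB1.ProjSpace 1 k) ≅ (CohB1.ProjSpace 1 k)), σ.hom ≫ (X ↘ (Spec (CommRingCat.of k))) = (X ↘ (Spec (CommRingCat.of k))) ∧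
      τ.hom ≫ CohB1.ProjSpace.toSpec 1 k = CohB1.ProjSpace.toSpec 1 k ∧ σ.hom ≫ f₂ = f₁ ≫ τ.hom := by
  haveI := GrothLib.CurveRR.regCurve_of_regular (k := k) hdim hreg
  have h2 : (2 : k) ≠ 0 := Ring.two_ne_zero hchar
  exact GrothLib.CurveMult.DoubleMatchCurve.exists_match hreg h2 hg f₁ f₂ hf₁ hf₂ hd₁ hd₂

end Groth.Agent.S11351
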