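import Groth.Statements.S11352
import Groth.Agent.Lib.CurveRR.Special
import Groth.Agent.Lib.CurveRR.Tensor

set_option autoImplicit false
universe u
open CategoryTheory CategoryTheory.Limits AlgebraicGeometry
open Curves

namespace Groth.Agent.S11352

/-- Let k be an algebraically closed field and X a curve over k (an integral scheme, proper over k, of
dimension one, with all local rings regular), and L, L' invertible O_X-modules each with a nonzero
global section (the sheaves of effective divisors D and E). Then dim |D| + dim |E| ≤ dim |D + E|; in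
terms of sections, dim_k H^0(X, L) + dim_k H^0(X, L') ≤ dim_k H^0(X, L ⊗ L') + 1. -/
theorem result (k : Type u) [Field k] [IsAlgClosed k] (X : Scheme.{u}) [X.Over (Spec (CommRingCat.of k))]
    [IsIntegral X] [IsProper (X ↘ (Spec (CommRingCat.of k)))] (hdim : topologicalKrullDim X = 1)
    (hreg : ∀ x : X, IsRegularLocalRing (X.presheaf.stalk x))
    (L L' : X.Modules) (hL : PicF.IsInvertible L) (hL' : PicF.IsInvertible L')
    (hs : Nontrivial (Coh.HH X L 0)) (hs' : Nontrivial (Coh.HH X L' 0)) :
    Module.finrank k (Coh.HH X L 0) + Module.finrank k (Coh.HH X L' 0) ≤ Module.finrank k (Coh.HH X (CohB1.tensorMod L L') 0) + 1 := by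
  haveI := GrothLib.CurveRR.regCurve_of_regular (k := k) hdim hreg
  have h0' := GrothLib.CurveRR.finrank_H0_structure_eq_one k (X := X)
  have hK := GrothLib.CurveRR.isFunctionField k h0'
  obtain ⟨C, hC⟩ := GrothLib.FunFld.exists_isCanonical hK
  obtain ⟨D, ⟨e⟩⟩ := GrothLib.CurveRR.exists_iso_oD k hL
  obtain ⟨E, ⟨e'⟩⟩ := GrothLib.CurveRR.exists_iso_oD k hL'
  obtain ⟨g⟩ := GrothLib.CurveRR.nonempty_tensor_iso k e e'
  haveI := GrothLib.Euler.finiteDimensional_HH k (GrothLib.Euler.isCoh_of_isInvertible hL) 0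
  haveI := GrothLib.Euler.finiteDimensional_HH k (GrothLib.Euler.isCoh_of_isInvertible hL') 0
  have a : Module.finrank k (Coh.HH X L 0) = FunFld.ell D := by
    rw [(GrothLib.Euler.hhEquiv (A := k) e 0).finrank_eq, GrothLib.CurveRR.finrank_H0_oD]
  have b : Module.finrank k (Coh.HH X L' 0) = FunFld.ell E := by
    rw [(GrothLib.Euler.hhEquiv (A := k) e' 0).finrank_eq, GrothLib.CurveRR.finrank_H0_oD]
  rw [(GrothLib.Euler.hhEquiv (A := k) g 0).finrank_eq, GrothLib.CurveRR.finrank_H0_oD, a, b]
  exact GrothLib.CurveRR.FF.ell_add_ell_le hK (a ▸ Module.finrank_pos) (b ▸ Module.finrank_pos)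

end Groth.Agent.S11352
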