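import Groth.Statements.S11353
import Groth.Agent.Lib.CurveMult.RankTwo
import Groth.Agent.Lib.Euler.InvHom

set_option autoImplicit false
universe u
open CategoryTheory CategoryTheory.Limits AlgebraicGeometry
open Curves

namespace Groth.Agent.S11353

/-- Let C be a curve over an algebraically closed field k (integral, proper over k, of dimension one,
all local rings regular) and E a decomposable locally free sheaf of rank 2 — E ≅ L₁ ⊕ L₂ with L₁, L₂
invertible — which is normalized: H^0(C, E) ≠ 0 while H^0(C, E ⊗ M) = 0 for every invertible M of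
negative degree. Then E ≅ O_C ⊕ L for an invertible L with deg L ≤ 0; in particular e = -deg E ≥ 0. -/
theorem result (k : Type u) [Field k] [IsAlgClosed k] (C : Scheme.{u}) [C.Over (Spec (CommRingCat.of k))]
    [IsIntegral C] [IsProper (C ↘ (Spec (CommRingCat.of k)))] (hdimC : topologicalKrullDim C = 1)
    (hregC : ∀ x : C, IsRegularLocalRing (C.presheaf.stalk x))
    (E L₁ L₂ : C.Modules) (hL₁ : PicF.IsInvertible L₁) (hL₂ : PicF.IsInvertible L₂) (hE : Nonempty (E ≅ L₁ ⊞ L₂))
    (hn0 : Nontrivial (Coh.HH C E 0))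
    (hneg : ∀ M : C.Modules, PicF.IsInvertible M → Curv2.deg k C M 1 < 0 → Subsingleton (Coh.HH C (CohB1.tensorMod E M) 0)) :
    ∃ L : C.Modules, PicF.IsInvertible L ∧ Curv2.deg k C L 1 ≤ 0 ∧ Nonempty (E ≅ Coh.structureModule C ⊞ L) := by
  haveI := GrothLib.Euler.isNoetherian_of_proper (X := C) k
  obtain ⟨e⟩ := hE
  have hd : topologicalKrullDim C ≤ 1 := hdimC.le
  -- subbundles have nonpositive degree
  have key : ∀ (L : C.Modules) (j : L ⟶ E), PicF.IsInvertible L → j ≠ 0 → Curv2.deg k C L 1 ≤ 0 := by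
    intro L j hL hj
    obtain ⟨M, hM, hMd, hnt⟩ := GrothLib.CurveMult.exists_twist_section k hd hL hj
    by_contra h
    exact @not_subsingleton _ hnt (hneg M hM (by omega))
  have hinl : biprod.inl ≫ e.inv ≠ 0 := fun h => GrothLib.CurveMult.not_isZero_of_invertible hL₁
    ((IsZero.iff_id_eq_zero _).2 (by simpa using congrArg (fun f => f ≫ e.hom ≫ biprod.fst) h))
  have hinr : biprod.inr ≫ e.inv ≠ 0 := fun h => GrothLib.CurveMult.not_isZero_of_invertible hL₂
    ((IsZero.iff_id_eq_zero _).2 (by simpa using congrArg (fun f => f ≫ e.hom ≫ biprod.snd) h))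
  obtain ⟨u, hu⟩ := GrothLib.Euler.exists_ne_zero_section hn0
  let f : Coh.structureModule C ⟶ E := GrothLib.FinCov.homOfSection u
  have hf : f ≠ 0 := fun h => hu (by
    have h1 := GrothLib.FinCov.homOfSection_one u ⊤
    rw [show GrothLib.FinCov.homOfSection u = 0 from h] at h1
    rw [show (homOfLE (le_top : (⊤ : C.Opens) ≤ ⊤)).op = 𝟙 _ from Subsingleton.elim _ _,
      CategoryTheory.Functor.map_id] at h1
    exact h1.symm)
  by_cases h1 : f ≫ e.hom ≫ biprod.fst = 0
  · have h2 : f ≫ e.hom ≫ biprod.snd ≠ 0 := fun h => hf ((cancel_mono e.hom).1 (by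
      rw [zero_comp]; apply biprod.hom_ext <;> simp only [Category.assoc, zero_comp] <;> assumption))
    haveI := (GrothLib.Euler.deg_of_section k hd hL₂ h2).2 (key L₂ _ hL₂ hinr)
    exact ⟨L₁, hL₁, key L₁ _ hL₁ hinl,
      ⟨e ≪≫ biprod.braiding L₁ L₂ ≪≫ biprod.mapIso (asIso (f ≫ e.hom ≫ biprod.snd)).symm (Iso.refl L₁)⟩⟩
  · haveI := (GrothLib.Euler.deg_of_section k hd hL₁ h1).2 (key L₁ _ hL₁ hinl)
    exact ⟨L₂, hL₂, key L₂ _ hL₂ hinr,
      ⟨e ≪≫ biprod.mapIso (asIso (f ≫ e.hom ≫ biprod.fst)).symm (Iso.refl L₂)⟩⟩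

end Groth.Agent.S11353
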