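import Groth.Statements.S11355
import Groth.Agent.Lib.CurveMult.G12

set_option autoImplicit false
universe u
open CategoryTheory CategoryTheory.Limits AlgebraicGeometry
open Curves

namespace Groth.Agent.S11355

/-- Let k be an algebraically closed field and X a curve over k (an integral scheme, proper over k, of
dimension one, with all local rings regular), of genus g ≥ 2. If X is hyperelliptic its g^1_2 is
unique: for any two linear series (M, s), (M', s') of degree 2 and dimension 1 on X (invertible
modules of degree 2, each with two k-linearly independent global sections), M ≅ M' (existence of an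
isomorphism; for g ≥ 2 such a module has exactly a 2-dimensional space of sections, so the linear
series coincide). -/
theorem result (k : Type u) [Field k] [IsAlgClosed k] (X : Scheme.{u}) [X.Over (Spec (CommRingCat.of k))]
    [IsIntegral X] [IsProper (X ↘ (Spec (CommRingCat.of k)))] (hdim : topologicalKrullDim X = 1)
    (hreg : ∀ x : X, IsRegularLocalRing (X.presheaf.stalk x)) (hg : 2 ≤ Curv2.genus k X)
    (M : X.Modules) (s : Fin 2 → LinSer.Sect X M) (hM : LinSer.IsLinSer k X M 2 1 s)
    (M' : X.Modules) (s' : Fin 2 → LinSer.Sect X M') (hM' : LinSer.IsLinSer k X M' 2 1 s') :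
    Nonempty (M ≅ M') := by
  haveI : IsLocallyNoetherian X := LocallyOfFiniteType.isLocallyNoetherian (X ↘ Spec (CommRingCat.of k))
  haveI := GrothLib.CurveRR.regCurve_of_isRegularLocalRing hdim fun x _ => hreg x
  have h0 := GrothLib.CurveRR.finrank_H0_structure_eq_one k (X := X)
  have hK := GrothLib.CurveRR.isFunctionField k (X := X) h0
  have hg' : 2 ≤ _root_.FunFld.genus k X.functionField := GrothLib.CurveRR.genus_eq k (X := X) h0 ▸ hg
  have key : ∀ (N : X.Modules) (t : Fin 2 → LinSer.Sect X N), LinSer.IsLinSer k X N 2 1 t →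
      ∃ D : _root_.FunFld.Divisor k X.functionField, Nonempty (N ≅ GrothLib.CurveRR.oD k D) ∧
        D.deg = 2 ∧ 2 ≤ _root_.FunFld.ell D := by
    intro N t hN
    obtain ⟨hinv, hdeg, hli⟩ := hN
    obtain ⟨D, ⟨e⟩⟩ := GrothLib.CurveRR.exists_iso_oD k hinv
    refine ⟨D, ⟨e⟩, ?_, ?_⟩
    · rw [← GrothLib.CurveRR.deg_oD D, ← GrothLib.Euler.deg_of_iso k e]
      exact_mod_cast hdeg
    · rw [← GrothLib.CurveRR.finrank_H0_oD, ← (GrothLib.Euler.hhEquiv (A := k) e 0).finrank_eq]
      haveI := GrothLib.Euler.isNoetherian_of_proper (X := X) k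
      haveI := GrothLib.Euler.finiteDimensional_HH k (GrothLib.Euler.isCoh_of_isInvertible hinv) 0
      have hz : LinearIndependent k fun i => (GrothLib.ProjCoh.H0top N).symm (t i) := by
        rw [Fintype.linearIndependent_iff]
        intro c hc
        refine congrFun (hli c ?_)
        have h1 := congrArg (GrothLib.ProjCoh.H0top N) hc
        rw [map_sum, map_zero] at h1
        refine Eq.trans ?_ h1
        refine Finset.sum_congr rfl fun i _ => ?_
        rw [GrothLib.ProjCoh.H0top_smul, AddEquiv.apply_symm_apply]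
        rfl
      have := hz.fintype_card_le_finrank
      rwa [Fintype.card_fin] at this
  obtain ⟨D, ⟨e⟩, hD, hlD⟩ := key M s hM
  obtain ⟨E, ⟨e'⟩, hE, hlE⟩ := key M' s' hM'
  obtain ⟨i⟩ := GrothLib.CurveMult.DivIso.nonempty_iso_of_sub_mem k
    (GrothLib.CurveMult.sub_mem_prinDivs_of_g12 hK hg' hD hE hlD hlE)
  exact ⟨e ≪≫ i ≪≫ e'.symm⟩

end Groth.Agent.S11355
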