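import Groth.Statements.S11356
import Groth.Agent.Lib.PlaneBlow28.RuledInter

set_option autoImplicit false
universe u
open CategoryTheory CategoryTheory.Limits AlgebraicGeometry
open Surf

namespace Groth.Agent.S11356

/-- Let π : X → C be a ruled surface over an algebraically closed field k: X a surface (integral, of
dimension two, all local rings regular, with a closed immersion into some P^n_k over k), C a curve
(integral, proper over k, of dimension one, all local rings regular), π : X → C a surjective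
k-morphism whose fibre over every closed point is isomorphic to P^1_k and which admits a section σ;
let L be an invertible O_X-module (the sheaf of a divisor D) with D.f ≥ 0 for every closed fibre f =
π⁻¹(y) — written (L·I_f) ≤ 0 for the ideal I_f = m_y · O_X of the fibre, where (L·M) = χ(O) - χ(L) -
χ(M) + χ(L ⊗ M) is the intersection number (packaged as FGA.intNum) and (L·I_f) = -D.f. Then R^p π_*
L = 0 for every p > 0, and H^i(X, L) ≅ H^i(C, π_* L) for all i (existence of a k-linear isomorphism;
the canonical one is the edge map of the Leray spectral sequence). -/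
theorem result (k : Type u) [Field k] [IsAlgClosed k] (X : Scheme.{u}) [X.Over (Spec (CommRingCat.of k))]
    [IsIntegral X] (hdim : topologicalKrullDim X = 2) (hreg : ∀ x : X, IsRegularLocalRing (X.presheaf.stalk x))
    (hproj : ∃ (n : ℕ) (ι : X ⟶ CohB1.ProjSpace n k), IsClosedImmersion ι ∧ ι ≫ CohB1.ProjSpace.toSpec n k = (X ↘ (Spec (CommRingCat.of k))))
    (C : Scheme.{u}) [C.Over (Spec (CommRingCat.of k))]
    [IsIntegral C] [IsProper (C ↘ (Spec (CommRingCat.of k)))] (hdimC : topologicalKrullDim C = 1)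
    (hregC : ∀ x : C, IsRegularLocalRing (C.presheaf.stalk x))
    (π : X ⟶ C) (hπ : π ≫ (C ↘ (Spec (CommRingCat.of k))) = (X ↘ (Spec (CommRingCat.of k)))) (hsurj : Function.Surjective π)
    (hfib : ∀ y : C, IsClosed ({y} : Set C) → Nonempty (pullback π (C.fromSpecResidueField y) ≅ CohB1.ProjSpace 1 k))
    (σ : C ⟶ X) (hσ : σ ≫ π = 𝟙 C)
    [HasInjectiveResolutions X.Modules] (L : X.Modules) (hL : PicF.IsInvertible L)
    (hdeg : ∀ (y : C) (hy : IsClosed ({y} : Set C)), FGA.intNum k X 2 ![L, (ClSub.idealMod ((Scheme.IdealSheafData.vanishingIdeal ⟨{y}, hy⟩).comap π))] (Coh.structureModule X) ≤ 0) :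
    (∀ p : ℕ, 0 < p → IsZero ((Coh.Rpush π p).obj L)) ∧
      ∀ i : ℕ, Nonempty (Coh.HH X L i ≃ₗ[k] Coh.HH C ((Coh.push π).obj L) i) := by
  obtain ⟨N, ι, hι, hιf⟩ := hproj
  haveI := hι
  haveI : IsProper (CohB1.ProjSpace.toSpec N k) := GrothLib.Chow.isProper_toSpec N k
  haveI : IsProper (X ↘ (Spec (CommRingCat.of k))) := hιf ▸ inferInstance
  haveI : Smooth (X ↘ (Spec (CommRingCat.of k))) := GrothLib.Adj27.smooth_of_regular _ hreg
  haveI : Smooth (C ↘ (Spec (CommRingCat.of k))) := GrothLib.Adj27.smooth_of_regular _ hregC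
  have hdim2 : topologicalKrullDim X = ((2 : ℕ) : WithBot ℕ∞) := hdim
  haveI := GrothLib.Euler.isNoetherian_of_proper (X := X) k
  haveI := GrothLib.Euler.isNoetherian_of_proper (X := C) k

  have hd : ∀ (y : C) (hy : IsClosed ({y} : Set C))
      (hI : PicF.IsInvertible (ClSub.idealMod ((Scheme.IdealSheafData.vanishingIdeal ⟨{y}, hy⟩).comap π))),
      GrothLib.HodgeIndex.isect k (GrothLib.Cube.clsMod hL) (GrothLib.Cube.clsMod hI) ≤ 0 := fun y hy hI => by
    rw [← GrothLib.BlowPt28.intNum_eq k hdim2.le hL hI]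
    exact hdeg y hy
  exact ⟨fun p hp => GrothLib.PlaneBlow28.ruled_vanish k hdim2 hdimC π hπ hsurj hfib hL hd p hp,
    fun i => GrothLib.PlaneBlow28.ruled_hh k hdim2 hdimC π hπ hsurj hfib hL hd i⟩

end Groth.Agent.S11356
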