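import Groth.Statements.S11360
import Groth.Agent.Lib.DualCx22.Cover

set_option autoImplicit false
universe u
open CategoryTheory CategoryTheory.Limits
attribute [local instance] HasDerivedCategory.standard
open Dual

namespace Groth.Agent.S11360

/-- Let A be a Noetherian ring and R an object of D(A) with finite cohomology modules and of finite
injective dimension (isomorphic to a bounded complex of injective modules). If for every prime p of
A the derived base change of R to A_p (the total left derived functor of extension of scalars,
assumed to exist) is a dualizing complex for A_p, then R is a dualizing complex for A. (The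
published statement is for a locally Noetherian scheme and the stalks at all points; this row is the
affine case. Without the global finite injective dimension hypothesis the conclusion fails, e.g. for
a regular Noetherian ring of infinite Krull dimension.) -/
theorem result (A : Type u) [CommRing A] [IsNoetherianRing A] (R : Dual.D A) (hfin : ∀ i : ℤ, Module.Finite A (Dual.HD A R i)) (hfid : DRing.HasFiniteInjDim A R) [∀ p : PrimeSpectrum A, DRing.HasLBaseChange (algebraMap A (Localization.AtPrime p.asIdeal))] (h : ∀ p : PrimeSpectrum A, Dual.IsDualizing (Localization.AtPrime p.asIdeal) ((DRing.LBaseChange (algebraMap A (Localization.AtPrime p.asIdeal))).obj R)) : Dual.IsDualizing A R := by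
  obtain ⟨a, b, hR⟩ := hfid
  obtain ⟨E, hv, hE, ⟨e⟩⟩ := hR
  have hamp : DRing.HasInjAmplitudeIn A a b R := ⟨E, hv, hE, ⟨e⟩⟩
  have hinj : ∀ (M : Type u) [AddCommGroup M] [Module A M] (i : ℤ),
      (i < a ∨ b < i) → Subsingleton (Dual.inD A M ⟶ R⟦i⟧) := fun M _ _ i hi =>
    GrothLib.DR.subsingleton_ext_of_injAmp hamp M i hi
  haveI : R.IsGE a := GrothLib.DualCx22.isGE_of_hom_ring R a fun i hi => hinj A i (Or.inl hi)
  haveI : R.IsLE b := GrothLib.DualCx22.isLE_of_hom_ring R b fun i hi => hinj A i (Or.inr hi)
  haveI : ∀ p : PrimeSpectrum A, Module.Flat A (Localization.AtPrime p.asIdeal) := fun p =>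
    IsLocalization.flat _ p.asIdeal.primeCompl
  haveI : ∀ p : PrimeSpectrum A,
      PreservesFiniteLimits (GrothLib.DualCx22.bcMod (A := A) (Localization.AtPrime p.asIdeal)) := fun p =>
    GrothLib.DR.preservesFiniteLimits_extendScalars (algebraMap A (Localization.AtPrime p.asIdeal))
      GrothLib.DR.flat_algebraMap
  have hS : ∀ I : Ideal A, (∀ p : PrimeSpectrum A, ∃ s ∈ p.asIdeal.primeCompl, s ∈ I) → I = ⊤ := by
    intro I hI
    by_contra hne
    obtain ⟨m, hm, hle⟩ := Ideal.exists_le_maximal I hne
    obtain ⟨s, hs, hsI⟩ := hI ⟨m, hm.isPrime⟩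
    exact hs (hle hsI)
  refine GrothLib.DualCx22.isDualizing_of_family (fun p : PrimeSpectrum A => Localization.AtPrime p.asIdeal)
    (GrothLib.DualCx22.detectsZero_localization (fun p : PrimeSpectrum A => p.asIdeal.primeCompl) hS _)
    (GrothLib.DualCx22.detectsZero_localization (fun p : PrimeSpectrum A => p.asIdeal.primeCompl) hS _)
    a b hfin ⟨a, b, hinj⟩ fun p => ?_
  obtain ⟨e'⟩ := GrothLib.DualCx22.nonempty_lBase_iso_bcD (A := A) (Localization.AtPrime p.asIdeal)
  exact GrothLib.DualCx22.isDualizing_of_iso (e'.app R) (h p)

end Groth.Agent.S11360
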