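import Groth.Statements.S11362
import Groth.Agent.S11361
import Groth.Agent.Lib.AffRelExt22.Crit
import Groth.Agent.Lib.AffRelExt22.Fibre
import Groth.Agent.Lib.FlatFP.Kernel
import Mathlib

set_option autoImplicit false
universe u
open CategoryTheory
open scoped TensorProduct
open Dual

namespace Groth.Agent.S11362

attribute [local instance] MvPolynomial.algebraMvPolynomial

/-- The fibres satisfy the hypotheses of the theorem over a field. -/
theorem fibre_vanishing (A : Type u) [CommRing A] (N n : ℕ) (hnN : n ≤ N) (I : Ideal (MvPolynomial (Fin N) A))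
    (p : PrimeSpectrum A)
    (h : LocCoh.IsCohenMacaulayRing ((MvPolynomial (Fin N) A ⧸ I) ⊗[A] p.asIdeal.ResidueField) ∧
      ∀ Q : PrimeSpectrum ((MvPolynomial (Fin N) A ⧸ I) ⊗[A] p.asIdeal.ResidueField),
        Q.asIdeal ∈ minimalPrimes ((MvPolynomial (Fin N) A ⧸ I) ⊗[A] p.asIdeal.ResidueField) →
          Order.coheight Q = (n : ℕ∞))
    (j : ℕ) (hj : j ≠ N - n) :
    Subsingleton (Abelian.Ext
      (ModuleCat.of (MvPolynomial (Fin N) p.asIdeal.ResidueField)
        (MvPolynomial (Fin N) p.asIdeal.ResidueField ⧸ I.map (algebraMap (MvPolynomial (Fin N) A) (MvPolynomial (Fin N) p.asIdeal.ResidueField))))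
      (ModuleCat.of (MvPolynomial (Fin N) p.asIdeal.ResidueField) (MvPolynomial (Fin N) p.asIdeal.ResidueField)) j) := by
  let κ := p.asIdeal.ResidueField
  let C := MvPolynomial (Fin N) κ
  let X := C ⧸ I.map (algebraMap (MvPolynomial (Fin N) A) C)
  let e1 : X ≃+* C ⊗[MvPolynomial (Fin N) A] (MvPolynomial (Fin N) A ⧸ I) :=
    (Algebra.TensorProduct.quotIdealMapEquivTensorQuot C I).toRingEquiv
  let e2 : C ⊗[MvPolynomial (Fin N) A] (MvPolynomial (Fin N) A ⧸ I) ≃+* κ ⊗[A] (MvPolynomial (Fin N) A ⧸ I) :=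
    (Algebra.IsPushout.cancelBaseChangeAlg A κ (MvPolynomial (Fin N) A) C (MvPolynomial (Fin N) A ⧸ I)).toRingEquiv
  let e3 : κ ⊗[A] (MvPolynomial (Fin N) A ⧸ I) ≃+* (MvPolynomial (Fin N) A ⧸ I) ⊗[A] κ :=
    (Algebra.TensorProduct.comm A κ (MvPolynomial (Fin N) A ⧸ I)).toRingEquiv
  refine ((Groth.Agent.S11361.result κ N n hnN (I.map (algebraMap (MvPolynomial (Fin N) A) C))).1 fun q => ?_).1 j hj
  have hq : q.asIdeal = ⊥ := (Ideal.eq_bot_or_top _).resolve_right q.isPrime.ne_top
  have hb : Function.Bijective (algebraMap κ q.asIdeal.ResidueField) := by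
    refine ⟨RingHom.injective _, fun x => ?_⟩
    haveI : q.asIdeal.IsMaximal := hq ▸ Ideal.bot_isMaximal
    obtain ⟨y, hy⟩ := (Ideal.bijective_algebraMap_quotient_residueField q.asIdeal).2 x
    obtain ⟨z, rfl⟩ := Ideal.Quotient.mk_surjective y
    exact ⟨z, hy⟩
  let eF : q.asIdeal.ResidueField ≃ₐ[κ] κ := (AlgEquiv.ofBijective (Algebra.ofId κ q.asIdeal.ResidueField) hb).symm
  let e4 : X ⊗[κ] q.asIdeal.ResidueField ≃+* X :=
    ((Algebra.TensorProduct.congr AlgEquiv.refl eF).trans (Algebra.TensorProduct.rid κ κ X)).toRingEquiv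
  exact GrothLib.AffRelDual22.cm_dim_of_ringEquiv (e4.trans (e1.trans (e2.trans e3))).symm h


/-- Let A be any commutative ring, n ≤ N, P = A[t_1, …, t_N], I a finitely generated ideal of P and B =
P/I, flat over A with every fibre ring B ⊗_A κ(p) Cohen–Macaulay and all its minimal primes of
coheight n (all irreducible components of dimension n). Then Ext^j_P(B, P) vanishes for j ≠ N − n,
and Ext^{N−n}_P(B, P) is A-flat and finitely presented over P. (The published statement is for a
closed subscheme of a smooth scheme of relative dimension N over an arbitrary base, with sheaf Ext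
into the canonical module or the structure sheaf, and adds compatibility with base change; this row
is the affine-space case with the structure sheaf and does not restate the base-change assertion.) -/
theorem result (A : Type u) [CommRing A] (N n : ℕ) (hnN : n ≤ N) (I : Ideal (MvPolynomial (Fin N) A)) (hI : I.FG) [Module.Flat A (MvPolynomial (Fin N) A ⧸ I)] (hCM : ∀ p : PrimeSpectrum A, LocCoh.IsCohenMacaulayRing ((MvPolynomial (Fin N) A ⧸ I) ⊗[A] p.asIdeal.ResidueField)) (hdim : ∀ p : PrimeSpectrum A, ∀ Q : PrimeSpectrum ((MvPolynomial (Fin N) A ⧸ I) ⊗[A] p.asIdeal.ResidueField), Q.asIdeal ∈ minimalPrimes ((MvPolynomial (Fin N) A ⧸ I) ⊗[A] p.asIdeal.ResidueField) → Order.coheight Q = (n : ℕ∞)) : (∀ j : ℕ, j ≠ N - n → Subsingleton (Abelian.Ext (ModuleCat.of (MvPolynomial (Fin N) A) (MvPolynomial (Fin N) A ⧸ I)) (ModuleCat.of (MvPolynomial (Fin N) A) (MvPolynomial (Fin N) A)) j)) ∧ Module.Flat A (RestrictScalars A (MvPolynomial (Fin N) A) (Abelian.Ext (ModuleCat.of (MvPolynomial (Fin N) A) (MvPolynomial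 (Fin N) A ⧸ I)) (ModuleCat.of (MvPolynomial (Fin N) A) (MvPolynomial (Fin N) A)) (N - n))) ∧ Module.FinitePresentation (MvPolynomial (Fin N) A) (Abelian.Ext (ModuleCat.of (MvPolynomial (Fin N) A) (MvPolynomial (Fin N) A ⧸ I)) (ModuleCat.of (MvPolynomial (Fin N) A) (MvPolynomial (Fin N) A)) (N - n)) := by
  let P := MvPolynomial (Fin N) A
  haveI : Module.FinitePresentation P (P ⧸ I) :=
    Module.finitePresentation_of_surjective I.mkQ I.mkQ_surjective (by rw [Submodule.ker_mkQ]; exact hI)
  let S : GrothLib.FlatFP.FlatFPMod A P := { carrier := P ⧸ I }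
  let R := GrothLib.AffRelExt22.ofFlatFP S
  haveI hF : ∀ k, Module.Flat A (Fin k → P) := fun k => Module.Flat.trans A P (Fin k → P)
  haveI hfp : ∀ j, Module.FinitePresentation P (R.coker j) := fun j =>
    Module.finitePresentation_of_surjective (R.cob j).mkQ (R.cob j).mkQ_surjective
      (by rw [Submodule.ker_mkQ]; exact R.fg_cob j)
  have hu : ∀ j, j ≠ N - n → Function.Injective (R.u j) ∧ Module.Flat A (R.coker (j + 1)) := by
    intro j hj
    obtain ⟨h1, h2⟩ := GrothLib.AffRelExt22.injective_flat_coker (A := A) (R.u j) fun p => by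
      let κ := p.asIdeal.ResidueField
      let C := MvPolynomial (Fin N) κ
      let e : C ⊗[P] (P ⧸ I) ≃ₗ[C] C ⧸ I.map (algebraMap P C) :=
        (Algebra.TensorProduct.quotIdealMapEquivTensorQuot C I).symm.toLinearEquiv
      have h := GrothLib.AffRelExt22.FreeRes.injective_lTensor_u (C := C) R e
        (GrothLib.AffRelExt22.exact_lTensor_zero κ S) (GrothLib.AffRelExt22.exact_lTensor_succ κ S) j
        (((R.baseChange e (GrothLib.AffRelExt22.exact_lTensor_zero κ S)
          (GrothLib.AffRelExt22.exact_lTensor_succ κ S)).ker_le_cob_iff j).2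
            (fibre_vanishing A N n hnN I p ⟨hCM p, hdim p⟩ j hj))
      rw [GrothLib.AffRelExt22.injective_lTensor_poly_iff] at h
      intro x y hxy
      apply (TensorProduct.comm A _ κ).injective
      apply h
      rw [← LinearMap.comm_comp_rTensor_comp_comm_eq]
      simp only [LinearMap.comp_apply, LinearEquiv.coe_coe, TensorProduct.comm_comm]
      rw [hxy]
    refine ⟨h1, ?_⟩
    haveI := h2
    exact Module.Flat.of_linearEquiv ((Submodule.quotEquivOfEq _ _ (R.range_u j).symm).restrictScalars A)
  refine ⟨fun j hj => (R.ker_le_cob_iff j).1 ((R.injective_u_iff j).1 (hu j hj).1), ?_⟩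
  have hrange : ∀ j, Module.Flat A (R.coker (j + 1)) →
      Module.Flat A (LinearMap.range (R.u j)) ∧ Module.FinitePresentation P (LinearMap.range (R.u j)) := by
    intro j hflat
    haveI := hflat
    have e := R.range_u j
    constructor
    · haveI : Module.Flat A (LinearMap.ker ((R.cob (j + 1)).mkQ.restrictScalars A)) :=
        GrothLib.FlatFP.flat_ker ((R.cob (j + 1)).mkQ.restrictScalars A) (R.cob (j + 1)).mkQ_surjective
      have e' : LinearMap.ker ((R.cob (j + 1)).mkQ.restrictScalars A) = (LinearMap.range (R.u j)).restrictScalars A := by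
        rw [LinearMap.ker_restrictScalars, Submodule.ker_mkQ, e]
      exact Module.Flat.of_linearEquiv (LinearEquiv.ofEq _ _ e').symm
    · haveI := GrothLib.FlatFP.finitePresentation_ker A P (Fin (R.rk (j + 1)) → P) (R.coker (j + 1))
        (R.cob (j + 1)).mkQ (R.cob (j + 1)).mkQ_surjective
      exact Module.FinitePresentation.of_equiv (R := P) (M := LinearMap.ker (R.cob (j + 1)).mkQ)
        (LinearEquiv.ofEq _ _ ((Submodule.ker_mkQ _).trans e.symm))
  have hflatC : Module.Flat A (R.coker (N - n)) := by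
    rcases Nat.eq_zero_or_pos (N - n) with h | h
    · rw [h]
      haveI : Module.Flat A (Fin (R.rk 0) → P) := hF _
      exact Module.Flat.of_linearEquiv ((Submodule.quotEquivOfEqBot (R.cob 0) rfl).restrictScalars A)
    · obtain ⟨q, hq⟩ := Nat.exists_eq_add_of_le h
      rw [hq, show Nat.succ 0 + q = q + 1 by omega]
      exact (hu q (by omega)).2
  have hflatC' : Module.Flat A (R.coker (N - n + 1)) := by
    obtain ⟨hinj, hflat⟩ := hu (N - n + 1) (by omega)
    haveI := (hrange (N - n + 1) hflat).1
    exact Module.Flat.of_linearEquiv ((LinearEquiv.ofInjective (R.u (N - n + 1)) hinj).restrictScalars A)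
  obtain ⟨hflatB, hfpB⟩ := hrange (N - n) hflatC'
  let π : R.coker (N - n) →ₗ[P] LinearMap.range (R.u (N - n)) := (R.u (N - n)).rangeRestrict
  have hπ : Function.Surjective π := LinearMap.surjective_rangeRestrict _
  haveI := hflatB
  haveI := hflatC
  haveI := hfpB
  haveI hK : Module.Flat A (LinearMap.ker (π.restrictScalars A)) := GrothLib.FlatFP.flat_ker (π.restrictScalars A) hπ
  haveI hK' : Module.FinitePresentation P (LinearMap.ker π) :=
    GrothLib.FlatFP.finitePresentation_ker A P _ _ π hπ
  let E : LinearMap.ker π ≃ₗ[P] Abelian.Ext (ModuleCat.of P (P ⧸ I)) (ModuleCat.of P P) (N - n) :=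
    (LinearEquiv.ofEq _ _ (LinearMap.ker_rangeRestrict (R.u (N - n)))).trans (R.kerEquiv (N - n))
  refine ⟨?_, Module.FinitePresentation.of_equiv E⟩
  haveI : Module.Flat A (LinearMap.ker π) := hK
  let E' : LinearMap.ker π ≃ₗ[A] RestrictScalars A P (Abelian.Ext (ModuleCat.of P (P ⧸ I)) (ModuleCat.of P P) (N - n)) :=
    AddEquiv.toLinearEquiv (E.toAddEquiv.trans (RestrictScalars.addEquiv A P _).symm) fun a x => by
      apply (RestrictScalars.addEquiv A P _).injective
      rw [RestrictScalars.addEquiv_map_smul]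
      show E (a • x) = algebraMap A P a • E x
      rw [← map_smul]
      congr 1
      exact (algebraMap_smul P a x).symm
  exact Module.Flat.of_linearEquiv E'.symm

end Groth.Agent.S11362
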