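import Groth.Statements.S11364
import Groth.Agent.Lib.DualCx22.ExtEventually

set_option autoImplicit false
universe u
open CategoryTheory
attribute [local instance] HasDerivedCategory.standard
open Dual

namespace Groth.Agent.S11364

/-- Let A be a Noetherian ring and R an object of D(A) with finite cohomology modules vanishing outside
a bounded range, such that for every prime p of A the derived base change of R to A_p (total left
derived functor of extension of scalars, assumed to exist) has finite injective dimension over A_p.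
Then for every finite A-module M, the groups Hom_{D(A)}(M, R[i]) vanish for all sufficiently large
i. (The published statement is for a locally Noetherian scheme, complexes with coherent locally
bounded cohomology, and local boundedness of the internal RHom; this row is the affine case with the
first argument a single finite module, to which the published proof reduces.) -/
theorem result (A : Type u) [CommRing A] [IsNoetherianRing A] (R : Dual.D A) (hfin : ∀ i : ℤ, Module.Finite A (Dual.HD A R i)) (hbdd : ∃ a b : ℤ, ∀ i : ℤ, (i < a ∨ b < i) → Subsingleton (Dual.HD A R i)) [∀ p : PrimeSpectrum A, DRing.HasLBaseChange (algebraMap A (Localization.AtPrime p.asIdeal))] (hpw : ∀ p : PrimeSpectrum A, DRing.HasFiniteInjDim (Localization.AtPrime p.asIdeal) ((DRing.LBaseChange (algebraMap A (Localization.AtPrime p.asIdeal))).obj R)) (M : Type u) [AddCommGroup M] [Module A M] [Module.Finite A M] : ∃ N : ℤ, ∀ i : ℤ, N < i → Subsingleton (Dual.inD A M ⟶ R⟦i⟧) := by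
  obtain ⟨a, b, hab⟩ := hbdd
  haveI : R.IsGE a := (DerivedCategory.isGE_iff _ _).2 fun i hi =>
    (GrothLib.DR.subsingleton_iff_isZero _).1 (hab i (Or.inl hi))
  have hb : ∀ i, b < i → Subsingleton (Dual.inD A A ⟶ R⟦i⟧) := fun i hi => by
    obtain ⟨e⟩ := GrothLib.DualRing.exists_hom_ring_equiv R i
    haveI := hab i (Or.inr hi)
    exact e.toEquiv.subsingleton
  have hq := fun q : PrimeSpectrum A => GrothLib.DualCx22.Evz.exists_vh_bound (R := R) ⟨a, inferInstance⟩ q (hpw q)
  suffices h : ∃ N : ℤ, ∀ (q : PrimeSpectrum A) (i : ℤ), N < i →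
      GrothLib.DualCx22.Evz.VH R q.asIdeal (Dual.inD A M) i by
    obtain ⟨N, hN⟩ := h
    exact ⟨N, fun i hi => GrothLib.DualCx22.Evz.vh_global fun q => hN q i hi⟩
  refine IsNoetherianRing.induction_on_isQuotientEquivQuotientPrime A
    (motive := fun N' _ _ _ => ∃ N : ℤ, ∀ (q : PrimeSpectrum A) (i : ℤ), N < i →
      GrothLib.DualCx22.Evz.VH R q.asIdeal (Dual.inD A N') i) inferInstance ?_ ?_ ?_
  · intro N' _ _ _ _
    exact ⟨0, fun q i _ => GrothLib.DualCx22.Evz.vh_of_subsingleton ⟨fun x y => Limits.IsZero.eq_of_src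
      (Functor.map_isZero _ (ModuleCat.isZero_of_subsingleton (ModuleCat.of A N'))) x y⟩⟩
  · intro N' _ _ _ r e
    obtain ⟨N, hN⟩ := GrothLib.DualCx22.Evz.exists_bound a b hb hq r.asIdeal r.2
    exact ⟨N, fun q i hi => GrothLib.DualCx22.Evz.vh_congr e.symm
      (GrothLib.DualCx22.Evz.vh_of_subsingleton (hN i hi))⟩
  · intro N₁ _ _ _ N₂ _ _ _ N₃ _ _ _ f g hf hg hfg h₁ h₃
    obtain ⟨T, hT, e₁, e₂, e₃⟩ := GrothLib.DualRing.exists_triangle hf hg hfg
    obtain ⟨M₁, hM₁⟩ := h₁
    obtain ⟨M₃, hM₃⟩ := h₃
    refine ⟨max M₁ M₃, fun q i hi => ?_⟩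
    rw [← e₂]
    refine GrothLib.DualCx22.Evz.vh_mid T hT ?_ ?_
    · rw [e₁]; exact hM₁ q i (lt_of_le_of_lt (le_max_left _ _) hi)
    · rw [e₃]; exact hM₃ q i (lt_of_le_of_lt (le_max_right _ _) hi)

end Groth.Agent.S11364
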