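import Groth.Statements.S11365
import Groth.Agent.Lib.AffRelDual22.Gor

set_option autoImplicit false
universe u
open CategoryTheory
open scoped TensorProduct
open Dual

namespace Groth.Agent.S11365

/-- Let A be a Noetherian ring, n ≤ N, P = A[t_1, …, t_N], I an ideal of P with B = P/I flat over A, and
suppose Ext^j_P(B, P) vanishes for j ≠ N − n while Ext^{N−n}_P(B, P) is A-flat. Then Ext^{N−n}_P(B,
P) is P-isomorphic to an invertible B-module if and only if all fibre rings B ⊗_A κ(p) are
Gorenstein. (The published statement is for the degree −n cohomology of f^! of the structure sheaf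
of a CM morphism of locally Noetherian schemes with pure relative dimension n; this row is the
affine case of a closed subscheme of affine N-space.) -/
theorem result (A : Type u) [CommRing A] [IsNoetherianRing A] (N n : ℕ) (hnN : n ≤ N) (I : Ideal (MvPolynomial (Fin N) A)) [Module.Flat A (MvPolynomial (Fin N) A ⧸ I)] (hvan : ∀ j : ℕ, j ≠ N - n → Subsingleton (Abelian.Ext (ModuleCat.of (MvPolynomial (Fin N) A) (MvPolynomial (Fin N) A ⧸ I)) (ModuleCat.of (MvPolynomial (Fin N) A) (MvPolynomial (Fin N) A)) j)) (hflat : Module.Flat A (RestrictScalars A (MvPolynomial (Fin N) A) (Abelian.Ext (ModuleCat.of (MvPolynomial (Fin N) A) (MvPolynomial (Fin N) A ⧸ I)) (ModuleCat.of (MvPolynomial (Fin N) A) (MvPolynomial (Fin N) A)) (N - n)))) : (∃ (L : Type u) (_ : AddCommGroup L) (_ : Module (MvPolynomial (Fin N) A ⧸ I) L), Module.Invertible (MvPolynomial (Fin N) A ⧸ I) L ∧ Nonempty (RestrictScalars (MvPolynomial (Fin N) A) (MvPolynomial (Fin N) A ⧸ I) L ≃ₗ[(MvPolynomial (Fin N) A)] Abelian.Ext (ModuleCat.of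 (MvPolynomial (Fin N) A) (MvPolynomial (Fin N) A ⧸ I)) (ModuleCat.of (MvPolynomial (Fin N) A) (MvPolynomial (Fin N) A)) (N - n))) ↔ ∀ p : PrimeSpectrum A, LocCoh.IsGorensteinRing ((MvPolynomial (Fin N) A ⧸ I) ⊗[A] p.asIdeal.ResidueField) := by
  haveI : Algebra.FinitePresentation A (MvPolynomial (Fin N) A ⧸ I) :=
    Algebra.FinitePresentation.of_finiteType.1 inferInstance
  let ψ := Ideal.Quotient.mkₐ A I
  have hψ : ∀ x, ψ x = algebraMap (MvPolynomial (Fin N) A) (MvPolynomial (Fin N) A ⧸ I) x := fun _ => rfl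
  have hs : Function.Surjective ψ := Ideal.Quotient.mkₐ_surjective A I
  rw [GrothLib.AffRelDual22.invertible_iff ψ hψ hs hnN, GrothLib.AffRelDual22.invertible_iff_gorenstein ψ hs n
    ((GrothLib.AffRelDual22.vanishing_iff ψ hψ hnN).1 hvan)]
  exact forall_congr' fun p => ⟨
    fun h => GrothLib.GorFlat.isGorensteinRing_of_ringEquiv (R := p.asIdeal.ResidueField ⊗[A] (MvPolynomial (Fin N) A ⧸ I))
      (Algebra.TensorProduct.comm A p.asIdeal.ResidueField (MvPolynomial (Fin N) A ⧸ I)).toRingEquiv h,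
    fun h => GrothLib.GorFlat.isGorensteinRing_of_ringEquiv (R := (MvPolynomial (Fin N) A ⧸ I) ⊗[A] p.asIdeal.ResidueField)
      (Algebra.TensorProduct.comm A (MvPolynomial (Fin N) A ⧸ I) p.asIdeal.ResidueField).toRingEquiv h⟩

end Groth.Agent.S11365
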