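import Groth.Statements.S11366
import Groth.Agent.Lib.DualFree20.TraceBij

set_option autoImplicit false
set_option maxHeartbeats 1000000
set_option linter.style.haveILetI false
set_option backward.isDefEq.respectTransparency false
universe u
open CategoryTheory AlgebraicGeometry
open Dual

namespace Groth.Agent.S11366

/-- Let A be any commutative ring and X a scheme proper, flat and locally of finite presentation over
Spec A, Cohen–Macaulay at every point, with every irreducible component of every fibre of dimension
n and with geometrically reduced and geometrically connected (hence non-empty) fibres. If ω is a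
quasi-coherent O_X-module and γ : H^n(X, ω) → A an A-linear map such that φ ↦ γ ∘ H^n(φ) is a
bijection from Hom(F, ω) onto the A-linear maps H^n(X, F) → A for every quasi-coherent F, then γ is
bijective. (The published statement is that the trace γ_f : R^n f_*(ω_f) → O_Y of the relative
dualizing module is surjective in general and an isomorphism when the fibres are geometrically
reduced and geometrically connected; this row characterises (ω_f, γ_f) by its universal property
over an affine base and keeps the isomorphism assertion; for an empty fibre the conclusion fails,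
which the connectedness class used here excludes.) -/
theorem result (A : Type u) [CommRing A] (X : Scheme.{u}) [X.Over (Spec (CommRingCat.of A))] [IsProper (X ↘ Spec (CommRingCat.of A))] [Flat (X ↘ Spec (CommRingCat.of A))] [LocallyOfFinitePresentation (X ↘ Spec (CommRingCat.of A))] (hCM : ∀ x : X, MoreMor.IsCMAt (X ↘ Spec (CommRingCat.of A)) x) (n : ℕ) (hd : ∀ (y : ↥(Spec (CommRingCat.of A))) (Z : Set ↥((X ↘ Spec (CommRingCat.of A)).fiber y)), Z ∈ irreducibleComponents ↥((X ↘ Spec (CommRingCat.of A)).fiber y) → topologicalKrullDim ↥Z = (n : WithBot ℕ∞)) [GeometricallyReduced (X ↘ Spec (CommRingCat.of A))] [GeometricallyConnected (X ↘ Spec (CommRingCat.of A))] (ω : X.Modules) (hω : Coh.IsQCoh ω) (γ : Coh.HH X ω n →ₗ[A] A) (huniv : (∀ F : X.Modules, Coh.IsQCoh F → ((∀ φ ψ : F ⟶ ω, (∀ x : Coh.HH X F n, γ (Sheaf.H.map ((SheafOfModules.toSheaf X.ringCatSheaf).map φ) n x) = γ (Sheaf.H.map ((SheafOfModules.toSheaf X.ringCatSheaf).map ψ) n x)) → φ = ψ) ∧ (∀ g : Coh.HH X F n →ₗ[A] A, ∃ φ : F ⟶ ω, ∀ x : Coh.HH X F n, γ (Sheaf.H.map ((SheafOfModules.toSheaf X.ringCatSheaf).map φ) n x)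 = g x)))) : Function.Bijective γ := by
  refine GrothLib.DualFree20.trace_bijective hCM n hd γ ⟨hω, fun F hF => ⟨fun φ ψ h => ?_, fun g => ?_⟩⟩
    fun F hF g => (huniv F hF).2 g
  · exact (huniv F hF).1 φ ψ fun x => LinearMap.congr_fun h x
  · obtain ⟨φ, hφ⟩ := (huniv F hF).2 g
    exact ⟨φ, LinearMap.ext hφ⟩

end Groth.Agent.S11366
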