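import Groth.Statements.S11368
import Groth.Agent.Lib.Nakai.Restrict
import Groth.Agent.Lib.SchImage.Reduced

set_option autoImplicit false
universe u
open CategoryTheory CategoryTheory.Limits AlgebraicGeometry TopologicalSpace
open Variety

namespace Groth.Agent.S11368

/-- For X proper over an algebraically closed field k and L an invertible O_X-module, L is ample on X if
and only if for every irreducible component X_i of X, with its reduced closed subscheme structure
(the vanishing ideal of the closed set X_i), the pullback of L to X_i is ample. -/
theorem result (k : Type u) [Field k] [IsAlgClosed k] (X : Scheme.{u})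
    [X.Over (Spec (CommRingCat.of k))] [IsProper (X ↘ (Spec (CommRingCat.of k)))]
    (L : X.Modules) (hL : PicF.IsInvertible L) :
    CohB1.IsAmple L ↔
      ∀ Z : Closeds X, (Z : Set X) ∈ irreducibleComponents X →
        CohB1.IsAmple ((Scheme.Modules.pullback
          (Scheme.IdealSheafData.vanishingIdeal Z).subschemeι).obj L) := by
  classical
  constructor
  · intro hA Z _
    exact GrothLib.Ample.isAmple_pullback_of_isAffineHom _ hA
  · intro h
    refine GrothLib.Nakai.isAmple_of_integral k hL fun Z i hi hZ => ?_
    obtain ⟨C, hC, hZC⟩ : ∃ C ∈ irreducibleComponents X, Set.range i ⊆ C := by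
      have hirr : IsIrreducible (Set.range i) := by
        rw [← Set.image_univ]
        exact (IrreducibleSpace.isIrreducible_univ _).image i i.continuous.continuousOn
      obtain ⟨C, hC, hC'⟩ := exists_mem_irreducibleComponents_subset_of_isIrreducible _ hirr
      exact ⟨C, hC, hC'⟩
    let T : TopologicalSpace.Closeds X := ⟨C, isClosed_of_mem_irreducibleComponents C hC⟩
    let ι := (Scheme.IdealSheafData.vanishingIdeal T).subschemeι
    have hle : ι.ker ≤ i.ker := by
      rw [Scheme.IdealSheafData.ker_subschemeι, GrothLib.SchImage.ker_eq_vanishingIdeal i]
      refine Scheme.IdealSheafData.le_support_iff_le_vanishingIdeal.1 ?_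
      change closure (Set.range i) ⊆ ((Scheme.IdealSheafData.vanishingIdeal T).support : Set X)
      rw [Scheme.IdealSheafData.coe_support_vanishingIdeal]
      exact closure_minimal hZC T.isClosed
    let g := IsClosedImmersion.lift ι i hle
    have hg : g ≫ ι = i := IsClosedImmersion.lift_fac ι i hle
    haveI : IsClosedImmersion (g ≫ ι) := hg ▸ hi
    haveI : IsClosedImmersion g := IsClosedImmersion.of_comp g ι
    have h' := GrothLib.Ample.isAmple_pullback_of_isAffineHom g (h T hC)
    rw [GrothLib.Ample.isAmple_pullback_comp_iff, hg] at h'
    exact h'

end Groth.Agent.S11368
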