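import Groth.Statements.S11369
import Groth.Agent.Lib.Semiample.Criterion

set_option autoImplicit false
universe u
open CategoryTheory CategoryTheory.Limits AlgebraicGeometry TopologicalSpace
open Variety

namespace Groth.Agent.S11369

/-- Let X be proper over an algebraically closed field k and L an invertible O_X-module generated by its
global sections. If for every integral closed subscheme C of X of dimension one the pullback of L to
C is ample, then L is ample. -/
theorem result (k : Type u) [Field k] [IsAlgClosed k] (X : Scheme.{u})
    [X.Over (Spec (CommRingCat.of k))] [IsProper (X ↘ (Spec (CommRingCat.of k)))]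
    (L : X.Modules) (hL : PicF.IsInvertible L) (hgen : Curv2.IsGloballyGenerated L)
    (hcurves : ∀ C : X.IdealSheafData, IsIntegral C.subscheme →
      topologicalKrullDim (C.support : Set X) = 1 →
        CohB1.IsAmple ((Scheme.Modules.pullback C.subschemeι).obj L)) :
    CohB1.IsAmple L := by
  haveI := GrothLib.Euler.isNoetherian_of_proper (X := X) k
  refine GrothLib.Semiample.isAmple_of_semiample k hL (fun C hC hd => ?_) (m := 0) ?_
  · letI : C.subscheme.Over (Spec (CommRingCat.of k)) := ⟨C.subschemeι ≫ X ↘ Spec (CommRingCat.of k)⟩
    haveI : IsProper (C.subscheme ↘ Spec (CommRingCat.of k)) :=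
      inferInstanceAs (IsProper (C.subschemeι ≫ X ↘ Spec (CommRingCat.of k)))
    haveI := hC
    have hdim : topologicalKrullDim C.subscheme = 1 := by
      refine (IsHomeomorph.topologicalKrullDim_eq _
        C.subschemeι.isClosedEmbedding.isEmbedding.toHomeomorph.isHomeomorph).trans ?_
      rw [Scheme.IdealSheafData.range_subschemeι]
      exact hd
    have h := (GrothLib.Euler.isAmple_iff_deg_pos k hdim (GrothLib.Ample.isInvertible_pullback _ hL)).1 (hcurves C hC hd)
    have h6 : Curv2.euler k C.subscheme (Coh.structureModule C.subscheme) = Curv2.euler k X (ClSub.quotMod C) := by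
      rw [← GrothLib.Euler.euler_of_iso k (GrothLib.Ample.nonempty_pullback_structureModule C.subschemeι).some,
        GrothLib.Kleiman.euler_pullback_eq_quotMod k C.subschemeι rfl GrothLib.Euler.isInvertible_structure,
        Scheme.IdealSheafData.ker_subschemeι]
      exact GrothLib.Kleiman.euler_tensor_structure k _
    unfold Curv2.deg at h
    rw [GrothLib.Kleiman.euler_pullback_eq_quotMod k C.subschemeι rfl hL, Scheme.IdealSheafData.ker_subschemeι,
      h6, Nat.cast_one, one_mul] at h
    exact h
  · exact GrothLib.Ample.isGloballyGenerated_of_iso (GrothLib.OX.tensorUnitLeftIso L).symm hgen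

end Groth.Agent.S11369
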