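import Groth.Statements.S11370
import Groth.Agent.Lib.Kleiman.Proper

set_option autoImplicit false
universe u
open CategoryTheory CategoryTheory.Limits AlgebraicGeometry TopologicalSpace
open Variety

namespace Groth.Agent.S11370

/-- Let X be proper over an algebraically closed field k and L an invertible O_X-module such that (L ·
C) = χ(O_C ⊗ L) - χ(O_C) ≥ 0 for every integral closed subscheme C ⊆ X of dimension one. Then for
every integral closed subscheme Z ⊆ X of dimension d > 0 the intersection number (L^d · Z) is ≥ 0;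
here (L^d · Z) is the coefficient of n_1⋯n_d in any rational polynomial P with χ(X, O_Z ⊗ L^{⊗n_1} ⊗
⋯ ⊗ L^{⊗n_d}) = P(n_1, …, n_d) for all exponents in ℕ^d. (The published statement is phrased for a
Cartier divisor D; it depends on D only through L = O_X(D), and the printed reduction to integral X
covers every invertible L.) -/
theorem result (k : Type u) [Field k] [IsAlgClosed k] (X : Scheme.{u})
    [X.Over (Spec (CommRingCat.of k))] [IsProper (X ↘ (Spec (CommRingCat.of k)))]
    (L : X.Modules) (hL : PicF.IsInvertible L)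
    (hnef : ∀ C : X.IdealSheafData, IsIntegral C.subscheme →
      topologicalKrullDim (C.support : Set X) = 1 → 0 ≤ (Curv2.euler k X (CohB1.tensorMod (ClSub.quotMod C) L) - Curv2.euler k X (ClSub.quotMod C)))
    (Z : X.IdealSheafData) [IsIntegral Z.subscheme] (d : ℕ) (hd : 0 < d)
    (hZ : topologicalKrullDim (Z.support : Set X) = d)
    (P : MvPolynomial (Fin d) ℚ)
    (hP : ∀ n : Fin d → ℕ, (Curv2.euler k X (Curv2.tensorPows (ClSub.quotMod Z) d (fun _ => L) n) : ℚ) =
      MvPolynomial.eval (fun i => (n i : ℚ)) P) :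
    0 ≤ MvPolynomial.coeff (Finsupp.equivFunOnFinite.symm fun _ : Fin d => 1) P := by
  haveI := GrothLib.Euler.isNoetherian_of_proper (X := X) k
  letI : Z.subscheme.Over (Spec (CommRingCat.of k)) := ⟨Z.subschemeι ≫ X ↘ Spec (CommRingCat.of k)⟩
  haveI : IsProper (Z.subscheme ↘ Spec (CommRingCat.of k)) :=
    inferInstanceAs (IsProper (Z.subschemeι ≫ X ↘ Spec (CommRingCat.of k)))
  have hn := GrothLib.Kleiman.isNef_of_euler k hL hnef
  have hdim : topologicalKrullDim Z.subscheme = (d : WithBot ℕ∞) := by
    refine (IsHomeomorph.topologicalKrullDim_eq _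
      Z.subschemeι.isClosedEmbedding.isEmbedding.toHomeomorph.isHomeomorph).trans ?_
    rw [Scheme.IdealSheafData.range_subschemeι]
    exact hZ
  rw [GrothLib.Snapper.coeff_eq_mixed_phi k (fun _ => hL) (GrothLib.Snapper.isCoh_quotMod k Z)
    (GrothLib.Snapper.dimLT_quotMod Z hZ.le) P hP]
  have he : GrothLib.Snapper.phi k d (fun _ => L) (ClSub.quotMod Z) = GrothLib.Snapper.phi k d
      (fun _ => (Scheme.Modules.pullback Z.subschemeι).obj L) (Coh.structureModule Z.subscheme) := by
    funext n
    refine (GrothLib.Snapper.phi_push k Z.subschemeι rfl (fun _ => hL) n).trans ?_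
    exact congrArg Int.cast (GrothLib.Euler.euler_of_iso k (GrothLib.OX.tensorUnitLeftIso _).symm)
  rw [he]
  exact GrothLib.Kleiman.mixed_nonneg_of_nef k hdim (GrothLib.Kleiman.isInv_pullback _ hL)
    (GrothLib.Kleiman.isNef_pullback_proper k hL hn Z.subschemeι rfl)

end Groth.Agent.S11370
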