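import Groth.Statements.S11371
import Groth.Agent.Lib.Kleiman.Proper
import Groth.Agent.Lib.CurveMult.DegHom

set_option autoImplicit false
universe u
open CategoryTheory CategoryTheory.Limits AlgebraicGeometry TopologicalSpace
open Variety

namespace Groth.Agent.S11371

/-- Let X be proper over an algebraically closed field k and L, L' invertible O_X-modules that are
numerically equivalent: (L · C) = (L' · C), i.e. χ(O_C ⊗ L) = χ(O_C ⊗ L'), for every integral closed
subscheme C ⊆ X of dimension one. If L is ample then L' is ample. (The published statement is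
phrased for Cartier divisors; it depends on them only through the associated invertible modules, and
the printed reduction to integral X covers every invertible module.) -/
theorem result (k : Type u) [Field k] [IsAlgClosed k] (X : Scheme.{u})
    [X.Over (Spec (CommRingCat.of k))] [IsProper (X ↘ (Spec (CommRingCat.of k)))]
    (L L' : X.Modules) (hL : PicF.IsInvertible L) (hL' : PicF.IsInvertible L')
    (hnum : ∀ C : X.IdealSheafData, IsIntegral C.subscheme →
      topologicalKrullDim (C.support : Set X) = 1 →
        Curv2.euler k X (CohB1.tensorMod (ClSub.quotMod C) L) =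
          Curv2.euler k X (CohB1.tensorMod (ClSub.quotMod C) L'))
    (hamp : CohB1.IsAmple L) : CohB1.IsAmple L' := by
  obtain ⟨N, hN, hcls⟩ := GrothLib.Kleiman.exists_cls (GrothLib.Cube.clsMod hL') (GrothLib.Cube.clsMod hL)⁻¹
  have hn : NumR.IsNef k X N := by
    intro Y i hi hY hdim
    haveI := hY
    letI : Y.Over (Spec (CommRingCat.of k)) := ⟨i ≫ X ↘ Spec (CommRingCat.of k)⟩
    haveI : IsProper (Y ↘ Spec (CommRingCat.of k)) := inferInstanceAs (IsProper (i ≫ X ↘ Spec (CommRingCat.of k)))
    haveI : IsIso i.toImage := inferInstance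
    haveI : Nonempty i.ker.subscheme := (IsIntegral.nonempty (X := Y)).map i.toImage
    haveI : IsIntegral i.ker.subscheme := isIntegral_of_isOpenImmersion (inv i.toImage)
    have hd : topologicalKrullDim (i.ker.support : Set X) = 1 := by
      rw [← hdim, ← Scheme.IdealSheafData.range_subschemeι]
      refine ((IsHomeomorph.topologicalKrullDim_eq _
        i.ker.subschemeι.isClosedEmbedding.isEmbedding.toHomeomorph.isHomeomorph).symm).trans ?_
      exact (IsHomeomorph.topologicalKrullDim_eq _ i.toImage.homeomorph.isHomeomorph).symm
    have h0 := hnum i.ker inferInstance hd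
    rw [← GrothLib.Kleiman.euler_pullback_eq_quotMod k i rfl hL,
      ← GrothLib.Kleiman.euler_pullback_eq_quotMod k i rfl hL'] at h0
    have hN' := GrothLib.Kleiman.isInv_pullback i hN
    have hLi := GrothLib.Kleiman.isInv_pullback i hL
    have hL'i := GrothLib.Kleiman.isInv_pullback i hL'
    obtain ⟨e⟩ : Nonempty (CohB1.tensorMod ((Scheme.Modules.pullback i).obj N) ((Scheme.Modules.pullback i).obj L) ≅
        (Scheme.Modules.pullback i).obj L') :=
      (GrothLib.Cube.clsMod_eq_iff (GrothLib.Ample.isInvertible_tensorMod hN' hLi) hL'i).1 (by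
        rw [GrothLib.Cube.clsMod_tensorMod hN' hLi, GrothLib.Cube.clsMod_pullback i hN,
          GrothLib.Cube.clsMod_pullback i hL, GrothLib.Cube.clsMod_pullback i hL', ← map_mul, hcls,
          inv_mul_cancel_right])
    have h2 := GrothLib.CurveMult.deg_tensorMod k hdim.le hN' hLi
    simp only [Curv2.deg] at h2
    show 0 ≤ Pic13.curveDeg k (Y ↘ Spec (CommRingCat.of k)) ((Scheme.Modules.pullback i).obj N)
    rw [GrothLib.Kleiman.curveDeg_eq_euler k hdim.le hN']
    rw [GrothLib.Euler.euler_of_iso k e] at h2
    push_cast at h2
    linarith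
  refine GrothLib.Kleiman.isAmple_of_nef k hN hn hamp hL' (p := 1) (q := 1) one_pos ?_
  rw [pow_one, pow_one, hcls, inv_mul_cancel_right]

end Groth.Agent.S11371
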