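import Groth.Statements.S11372
import Groth.Agent.Lib.Semiample.Criterion

set_option autoImplicit false
set_option backward.isDefEq.respectTransparency false
universe u
open CategoryTheory CategoryTheory.Limits AlgebraicGeometry TopologicalSpace
open Variety

namespace Groth.Agent.S11372

theorem isAffineOpen_of_no_curves {k : Type u} [Field k] {X : Scheme.{u}} [X.Over (Spec (CommRingCat.of k))]
    [IsProper (X ↘ Spec (CommRingCat.of k))] {L : X.Modules} (hL : PicF.IsInvertible L)
    (hgen : Curv2.IsGloballyGenerated L) (s : Coh.structureModule X ⟶ L)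
    (hcurves : ∀ C : X.IdealSheafData, IsIntegral C.subscheme →
      topologicalKrullDim (C.support : Set X) = 1 →
        ¬ ((C.support : Set X) ⊆ (CohB1.genLocus L s : Set X))) :
    IsAffineOpen (CohB1.genLocus L s) := by
  haveI := GrothLib.Euler.isNoetherian_of_proper (X := X) k
  obtain ⟨c, ⟨e⟩⟩ := GrothLib.Ample.exists_cocycle hL
  obtain ⟨a0, ha0⟩ := c.exists_sect_of_section e s
  obtain ⟨n, a, ha⟩ := GrothLib.Semiample.exists_sections c (GrothLib.Ample.isGloballyGenerated_of_iso e hgen)
  let b : Fin (n + 1 + 1) → c.sect 1 ⊤ := Fin.cons a0 a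
  let σ : Fin (n + 1 + 1) → ProjUP.Γm (c.twist 1) := fun i => b i
  have hσ : ⨆ i, c.locus (GrothLib.Ample.ProjMap.sec c (Iso.refl _) σ i) = ⊤ :=
    eq_top_iff.2 (ha.ge.trans (iSup_le fun i => le_iSup_of_le i.succ (le_of_eq (by
      show c.locus (a i) = c.locus (b i.succ)
      simp [b]))))
  let D := GrothLib.Ample.ProjMap.dataOfSections c (Iso.refl _) σ hσ (X ↘ Spec (CommRingCat.of k))
  let φ := D.map
  let V := Proj.basicOpen (CohB1.polyGrading (n + 1) k) (MvPolynomial.X 0)
  have hpre : φ ⁻¹ᵁ V = CohB1.genLocus L s := ha0 ▸ D.map_preimage 0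
  have hV : IsAffineOpen V := Proj.isAffineOpen_basicOpen _ _ (GrothLib.Ample.ProjMap.X_mem 0) one_pos
  haveI := GrothLib.Chow.isProper_toSpec (n + 1) k
  haveI : IsProper (φ ≫ CohB1.ProjSpace.toSpec (n + 1) k) := by rw [D.map_toSpec]; infer_instance
  haveI : IsProper φ := IsProper.of_comp φ (CohB1.ProjSpace.toSpec (n + 1) k)
  have hclosed : ∀ y ∈ V, IsClosed ({y} : Set (CohB1.ProjSpace (n + 1) k)) → ∀ z ∈ φ ⁻¹' {y},
      IsClosed ({z} : Set X) := by
    intro y hyV hy z hzy
    by_contra hzc
    obtain ⟨w, hzw, hw⟩ := GrothLib.Semiample.exists_isTop_one hzc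
    let I := Scheme.IdealSheafData.vanishingIdeal (⟨closure ({w} : Set X), isClosed_closure⟩ : Closeds X)
    have hI : IsIntegral I.subscheme := GrothLib.Snapper.isIntegral_pt w
    refine hcurves I hI ?_ ?_
    · rw [← Scheme.IdealSheafData.range_subschemeι, GrothLib.Snapper.range_pt]
      exact hw
    · rw [← Scheme.IdealSheafData.range_subschemeι, GrothLib.Snapper.range_pt]
      intro v hv
      have hv' : φ v = y := (hy.preimage φ.continuous).closure_subset_iff.2
        (Set.singleton_subset_iff.2 (hzw.mem_closed (hy.preimage φ.continuous) hzy)) hv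
      rw [← hpre]
      show φ v ∈ V
      rw [hv']
      exact hyV
  haveI : JacobsonSpace X := LocallyOfFiniteType.jacobsonSpace (X ↘ Spec (CommRingCat.of k))
  have hqf : φ ⁻¹ᵁ V ≤ φ.quasiFiniteLocus := by
    intro x hx
    obtain ⟨p, ⟨hpU, hp⟩, hpc⟩ := nonempty_inter_closedPoints (Z := ((φ ⁻¹ᵁ V : X.Opens) : Set X) ∩ closure {x})
      ⟨x, hx, subset_closure rfl⟩ ((φ ⁻¹ᵁ V).isOpen.isLocallyClosed.inter isClosed_closure.isLocallyClosed)
    refine (specializes_iff_mem_closure.2 hp).mem_open φ.quasiFiniteLocus.isOpen ?_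
    show φ.QuasiFiniteAt p
    have hy : IsClosed ({φ p} : Set (CohB1.ProjSpace (n + 1) k)) := by
      have := φ.isClosedMap _ (mem_closedPoints_iff.1 hpc)
      rwa [Set.image_singleton] at this
    have hfin : (φ ⁻¹' {φ p}).Finite :=
      GrothLib.CurveModel.finite_of_forall_isClosed (hy.preimage φ.continuous) (hclosed _ hpU hy)
    rw [Scheme.Hom.quasiFiniteAt_iff_isOpen_singleton_asFiber]
    haveI := hfin.to_subtype
    haveI : Finite (φ.fiber (φ p)) := Finite.of_equiv _ (φ.fiberHomeo (φ p)).symm.toEquiv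
    haveI : T1Space (φ.fiber (φ p)) := ⟨fun v => by
      rw [← Set.preimage_image_eq {v} (φ.fiberι _).isEmbedding.injective, Set.image_singleton]
      exact (hclosed _ hpU hy _ (by
        have : φ.fiberι (φ p) v ∈ Set.range (φ.fiberι (φ p)) := ⟨v, rfl⟩
        rwa [Scheme.Hom.range_fiberι] at this)).preimage (φ.fiberι _).continuous⟩
    exact isOpen_discrete _
  haveI : LocallyQuasiFinite (φ ∣_ V) := by
    have h1 : LocallyQuasiFinite ((φ ⁻¹ᵁ V).ι ≫ φ) := by
      rw [← Scheme.Hom.quasiFiniteLocus_eq_top_iff, Scheme.Hom.quasiFiniteLocus_comp]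
      exact eq_top_iff.2 fun v _ => hqf v.2
    rw [← morphismRestrict_ι] at h1
    haveI := h1
    exact LocallyQuasiFinite.of_comp _ V.ι
  haveI : IsFinite (φ ∣_ V) := IsFinite.of_isProper_of_locallyQuasiFinite _
  rw [← hpre]
  haveI : IsAffine V.toScheme := hV
  exact isAffine_of_isAffineHom (φ ∣_ V)

/-- Let X be proper and integral over an algebraically closed field k, L an invertible O_X-module
generated by its global sections, and s : O_X ⟶ L a global section, with U = X_s the open subset
where s generates L (the complement of the support of the effective divisor of s). If U contains no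
integral closed subscheme of X of dimension one, then U is an affine open of X. -/
theorem result (k : Type u) [Field k] [IsAlgClosed k] (X : Scheme.{u})
    [X.Over (Spec (CommRingCat.of k))] [IsProper (X ↘ (Spec (CommRingCat.of k)))] [IsIntegral X]
    (L : X.Modules) (hL : PicF.IsInvertible L) (hgen : Curv2.IsGloballyGenerated L)
    (s : Coh.structureModule X ⟶ L)
    (hcurves : ∀ C : X.IdealSheafData, IsIntegral C.subscheme →
      topologicalKrullDim (C.support : Set X) = 1 →
        ¬ ((C.support : Set X) ⊆ (CohB1.genLocus L s : Set X))) :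
    IsAffineOpen (CohB1.genLocus L s) := by
  exact isAffineOpen_of_no_curves (k := k) hL hgen s hcurves

end Groth.Agent.S11372
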