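import Groth.Statements.S4270
import Groth.Agent.Lib.KSix19.ProjPush.AmpleFam
-- import your own Groth.Agent.* helpers here

set_option autoImplicit false
universe u
open CategoryTheory CategoryTheory.Limits AlgebraicGeometry
attribute [local instance] HasDerivedCategory.standard
open KSix

namespace Groth.Agent.S4270

/-- A scheme admitting an ample family of invertible modules has the resolution property: every
quasi-coherent module of finite type is a quotient of a finite locally free module. -/
theorem result (X : Scheme.{u}) (hX : MoreMor.HasAmpleFamily X) :
    PerfAux.HasResolutionProperty X := fun M hM hM' => by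
  obtain ⟨ι, L, hL⟩ := GrothLib.KSix19.ProjPush.exists_isAmpleFamily hX
  obtain ⟨k, N, χ, -, hfl, he⟩ := GrothLib.KSix19.ProjPush.exists_negPower_cover hL hM hM hM' (𝟙 M)
  rw [Category.comp_id] at he
  exact ⟨⨁ N, biproduct.desc χ, hfl, he⟩

end Groth.Agent.S4270
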