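import Groth.Statements.S11376
import Groth.Agent.S4270
import Groth.Agent.S4271
import Groth.Agent.Lib.AmpleCd10.Main
import Groth.Agent.Lib.Cohom.LinearLES

set_option autoImplicit false
universe u
open CategoryTheory CategoryTheory.Limits AlgebraicGeometry TopologicalSpace
open CohDim

namespace Groth.Agent.S11376

set_option backward.isDefEq.respectTransparency false


/-- Let S be an integral scheme, separated and of finite type over an algebraically closed field k, with
all local rings regular, and let r ≥ 0. If H^i(S, E) is finite-dimensional over k for every i > r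
and every finite locally free O_S-module E, then H^i(S, F) is finite-dimensional over k for every i
> r and every coherent O_S-module F. -/
theorem result (k : Type u) [Field k] [IsAlgClosed k] (S : Scheme.{u})
    [S.Over (Spec (CommRingCat.of k))] [IsSeparated (S ↘ (Spec (CommRingCat.of k)))]
    [LocallyOfFiniteType (S ↘ (Spec (CommRingCat.of k)))] [QuasiCompact (S ↘ (Spec (CommRingCat.of k)))]
    [IsIntegral S] (hreg : ∀ x : S, IsRegularLocalRing (S.presheaf.stalk x)) (r : ℕ)
    (hlf : ∀ E : S.Modules, FlatMod.IsFinLocFree E → ∀ i : ℕ, r < i → Module.Finite k (Coh.HH S E i))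
    (F : S.Modules) (hF : Coh.IsCoh F) (i : ℕ) (hi : r < i) :
    Module.Finite k (Coh.HH S F i) := by
  haveI : IsLocallyNoetherian S := LocallyOfFiniteType.isLocallyNoetherian (S ↘ Spec (CommRingCat.of k))
  haveI : CompactSpace S := QuasiCompact.compactSpace_of_compactSpace (S ↘ Spec (CommRingCat.of k))
  haveI : S.IsSeparated := ⟨by
    rw [← terminal.comp_from (S ↘ Spec (CommRingCat.of k))]; infer_instance⟩
  have hres := Groth.Agent.S4270.result S (Groth.Agent.S4271.result S hreg fun U V hU hV => hU.inf hV)
  obtain ⟨d, hd⟩ := GrothLib.Cohom.exists_vanishFrom_of_isCompact (X := S) (V := ⊤) (by simpa using isCompact_univ)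
  suffices h : ∀ (j : ℕ) (F : S.Modules), Coh.IsCoh F → ∀ i, r < i → d ≤ i + j → Module.Finite k (Coh.HH S F i) from
    h d F hF i hi (by omega)
  intro j
  induction j with
  | zero =>
    intro F hF i _ hid
    haveI := hF.1
    haveI := (hd F).subsingleton_HH hid
    infer_instance
  | succ j ih =>
    intro F hF i hi hid
    obtain ⟨E, p, hE, hp⟩ := hres F hF.1 hF.2
    haveI := hp
    have hK := GrothLib.QCoh.isCoh_kernel p (GrothLib.Euler.isCoh_of_isFinLocFree hE) hF
    let T := ShortComplex.mk (kernel.ι p) p (kernel.condition p)
    have hS : T.ShortExact :=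
      { exact := ShortComplex.exact_of_f_is_kernel _ (kernelIsKernel p) }
    haveI : Module.Finite k (Coh.HH S T.X₂ i) := hlf E hE i hi
    haveI : Module.Finite k (Coh.HH S T.X₁ (i + 1)) := ih _ hK (i + 1) (by omega) (by omega)
    exact GrothLib.Cohom.finite_X₃ (A := k) (S := T) hS i

end Groth.Agent.S11376
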