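import Groth.Statements.S11378
import Groth.Agent.Lib.Lichtenbaum22.Main
import Groth.Agent.Lib.Lichtenbaum22.Nonvanish
import Groth.Agent.Lib.Cohom.RpushModules
import Groth.Agent.Lib.Cohom.Compare
import Groth.Agent.Lib.ConnDim.Basic

set_option linter.all false
set_option backward.isDefEq.respectTransparency false

set_option autoImplicit false
universe u
open CategoryTheory CategoryTheory.Limits AlgebraicGeometry TopologicalSpace
open CohDim

namespace Groth.Agent.S11378

open Abelian in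
/-- Vanishing on a union from vanishing on the parts and on the intersection. -/
theorem subsingleton_ext_sup {T : Type u} [TopologicalSpace T] (F : GrothLib.Cohom.AbSheaf T) (V W : TopologicalSpace.Opens T) (m : ℕ)
    (hV : Subsingleton (Ext.{u} (GrothLib.Cohom.freeFun.obj V) F (m + 1)))
    (hW : Subsingleton (Ext.{u} (GrothLib.Cohom.freeFun.obj W) F (m + 1)))
    (hI : Subsingleton (Ext.{u} (GrothLib.Cohom.freeFun.obj (V ⊓ W)) F m)) :
    Subsingleton (Ext.{u} (GrothLib.Cohom.freeFun.obj (V ⊔ W)) F (m + 1)) := by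
  let hS := (Opens.mayerVietorisSquare V W).shortComplex_shortExact
  refine subsingleton_of_forall_eq 0 fun x₃ => ?_
  have h2 : (Ext.mk₀ (Opens.mayerVietorisSquare V W).shortComplex.g).comp x₃ (zero_add (m + 1)) = 0 := by
    haveI : Subsingleton (Ext.{u} (GrothLib.Cohom.freeFun.obj V) F (m + 1) × Ext.{u} (GrothLib.Cohom.freeFun.obj W) F (m + 1)) :=
      inferInstance
    exact (Ext.biprodAddEquiv (X₁ := GrothLib.Cohom.freeFun.obj V) (X₂ := GrothLib.Cohom.freeFun.obj W) (Y := F) (n := m + 1)).injective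
      (Subsingleton.elim _ _)
  obtain ⟨x₁, rfl⟩ := Ext.contravariant_sequence_exact₃ hS F x₃ h2 (by omega : 1 + m = m + 1)
  rw [show x₁ = 0 from @Subsingleton.elim _ hI _ _, Ext.comp_zero]

/-- Top cohomology on a proper nonempty open subscheme of a proper integral scheme vanishes. -/
theorem subsingleton_HHon_top {k : Type u} [Field k] (X : Scheme.{u}) [X.Over (Spec (CommRingCat.of k))]
    [IsProper (X ↘ (Spec (CommRingCat.of k)))] [IsIntegral X] (n : ℕ) (hdim : topologicalKrullDim X = n)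
    (V : X.Opens) (hV : V ≠ ⊤) (hVne : (V : Set X).Nonempty) (G : X.Modules) (hG : Coh.IsCoh G) :
    Subsingleton (Coh.HHon X G V n) := by
  let p := X ↘ Spec (CommRingCat.of k)
  haveI : IsLocallyNoetherian X := LocallyOfFiniteType.isLocallyNoetherian p
  haveI : CompactSpace X := QuasiCompact.compactSpace_of_compactSpace p
  haveI : IsNoetherian X := {}
  haveI : QuasiCompact V.ι := inferInstance
  have hd : topologicalKrullDim (V : Scheme.{u}) ≤ (n : WithBot ℕ∞) :=
    (topologicalKrullDim_subspace_le X (V : Set X)).trans hdim.le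
  haveI := GrothLib.Cohom.isCoh_restrict G hG V.ι
  haveI : (G.restrict V.ι).IsQuasicoherent := (GrothLib.Cohom.isCoh_restrict G hG V.ι).1
  refine GrothLib.Lichtenbaum22.subsingleton_HH_of_no_proper (V : Scheme.{u}) (V.ι ≫ p) n hd (fun Z i _ _ hZd hZp => hV ?_) _
  haveI := hZp
  haveI : IsProper ((i ≫ V.ι) ≫ p) := by rw [Category.assoc]; exact hZp
  haveI : IsProper (i ≫ V.ι) := IsProper.of_comp (i ≫ V.ι) p
  have hc := (i ≫ V.ι).isClosedMap.isClosed_range
  have hr : Set.range (i ≫ V.ι) = Set.univ := by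
    by_contra hne
    have h1 := GrothLib.ConnDim.dim_lt (Set.subset_univ (Set.range (i ≫ V.ι))) hne hc
      isClosed_univ (IrreducibleSpace.isIrreducible_univ X) ?_
    · have he : topologicalKrullDim (Set.range (i ≫ V.ι)) = topologicalKrullDim Z :=
        (IsHomeomorph.topologicalKrullDim_eq _
          (V.ι.isOpenEmbedding.isEmbedding.comp i.isClosedEmbedding.isEmbedding).toHomeomorph.isHomeomorph).symm
      rw [IsHomeomorph.topologicalKrullDim_eq _ (Homeomorph.Set.univ X).isHomeomorph, hdim, he, hZd] at h1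
      exact lt_irrefl _ h1
    · rw [IsHomeomorph.topologicalKrullDim_eq _ (Homeomorph.Set.univ X).isHomeomorph, hdim]
      exact WithBot.coe_lt_coe.2 (ENat.coe_lt_top n)
  refine TopologicalSpace.Opens.ext (Set.eq_univ_of_univ_subset ?_)
  rw [← hr, ← V.range_ι]
  rintro _ ⟨z, rfl⟩
  exact ⟨i z, rfl⟩

/-- Let X be proper and integral over an algebraically closed field k, of dimension n ≥ 2, with all
local rings regular, and let U ≠ X be an open subscheme whose cohomological dimension is at most n -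
2: H^i(U, F) = 0 for every coherent O_U-module F and every i with n - 2 < i. Then Y = X ∖ U is
connected. -/
theorem result (k : Type u) [Field k] [IsAlgClosed k] (X : Scheme.{u})
    [X.Over (Spec (CommRingCat.of k))] [IsProper (X ↘ (Spec (CommRingCat.of k)))] [IsIntegral X]
    (hreg : ∀ x : X, IsRegularLocalRing (X.presheaf.stalk x))
    (n : ℕ) (hn : 2 ≤ n) (hdim : topologicalKrullDim X = n)
    (U : X.Opens) (hUX : U ≠ ⊤)
    (hcd : ∀ F : (U : Scheme.{u}).Modules, Coh.IsCoh F → ∀ i : ℕ, n - 2 < i → Subsingleton (Coh.HH (U : Scheme.{u}) F i)) :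
    _root_.IsConnected ((U : Set X)ᶜ) := by
  let p := X ↘ Spec (CommRingCat.of k)
  haveI : IsLocallyNoetherian X := LocallyOfFiniteType.isLocallyNoetherian p
  haveI : CompactSpace X := QuasiCompact.compactSpace_of_compactSpace p
  haveI : IsNoetherian X := {}
  obtain ⟨G, hG, hnt⟩ := GrothLib.Lichtenbaum22.exists_nontrivial_HH_top (k := k) X n hdim
  have hne : ((U : Set X)ᶜ).Nonempty := by
    rw [Set.nonempty_compl]
    exact fun h => hUX (TopologicalSpace.Opens.ext h)
  refine ⟨hne, isPreconnected_closed_iff.2 fun A B hA hB hAB hYA hYB => ?_⟩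
  by_contra hI
  rw [Set.not_nonempty_iff_eq_empty] at hI
  let Y : Set X := (U : Set X)ᶜ
  have hYc : IsClosed Y := U.isOpen.isClosed_compl
  let V : X.Opens := ⟨(Y ∩ A)ᶜ, (hYc.inter hA).isOpen_compl⟩
  let W : X.Opens := ⟨(Y ∩ B)ᶜ, (hYc.inter hB).isOpen_compl⟩
  have hsup : V ⊔ W = ⊤ := TopologicalSpace.Opens.ext (Set.eq_univ_of_forall fun x => by
    show x ∈ (Y ∩ A)ᶜ ∪ (Y ∩ B)ᶜ
    by_contra hx
    simp only [Set.mem_union, Set.mem_compl_iff, not_or, not_not] at hx
    exact Set.eq_empty_iff_forall_notMem.1 hI x ⟨hx.1.1, hx.1.2, hx.2.2⟩)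
  have hinf : V ⊓ W = U := TopologicalSpace.Opens.ext (Set.ext fun x => by
    show x ∈ (Y ∩ A)ᶜ ∩ (Y ∩ B)ᶜ ↔ x ∈ (U : Set X)
    constructor
    · intro h
      by_contra hx
      rcases hAB hx with h' | h'
      · exact h.1 ⟨hx, h'⟩
      · exact h.2 ⟨hx, h'⟩
    · intro hx
      exact ⟨fun h => h.1 hx, fun h => h.1 hx⟩)
  have hVT : V ≠ ⊤ := fun h => by
    obtain ⟨a, ha⟩ := hYA
    exact (h ▸ (trivial : a ∈ (⊤ : X.Opens)) : a ∈ V) ha
  have hWT : W ≠ ⊤ := fun h => by
    obtain ⟨b, hb⟩ := hYB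
    exact (h ▸ (trivial : b ∈ (⊤ : X.Opens)) : b ∈ W) hb
  have hVne : (V : Set X).Nonempty := by
    obtain ⟨b, hb⟩ := hYB
    exact ⟨b, fun h => Set.eq_empty_iff_forall_notMem.1 hI b ⟨hb.1, h.2, hb.2⟩⟩
  have hWne : (W : Set X).Nonempty := by
    obtain ⟨a, ha⟩ := hYA
    exact ⟨a, fun h => Set.eq_empty_iff_forall_notMem.1 hI a ⟨ha.1, ha.2, h.2⟩⟩
  obtain ⟨m, rfl⟩ : ∃ m, n = m + 1 := ⟨n - 1, by omega⟩
  obtain ⟨eV⟩ := GrothLib.Cohom.nonempty_HHon_equiv G V (m + 1)
  obtain ⟨eW⟩ := GrothLib.Cohom.nonempty_HHon_equiv G W (m + 1)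
  obtain ⟨eU⟩ := GrothLib.Cohom.nonempty_HHon_equiv G U m
  haveI := subsingleton_HHon_top (k := k) X (m + 1) hdim V hVT hVne G hG
  haveI := subsingleton_HHon_top (k := k) X (m + 1) hdim W hWT hWne G hG
  haveI : Subsingleton (Coh.HHon X G U m) :=
    hcd _ (GrothLib.Cohom.isCoh_restrict G hG U.ι) m (by omega)
  have key := subsingleton_ext_sup (T := X.toTopCat) (Coh.toAb G) V W m
    eV.symm.toEquiv.subsingleton eW.symm.toEquiv.subsingleton (hinf.symm ▸ eU.symm.toEquiv.subsingleton)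
  rw [hsup] at key
  haveI := key
  haveI := hnt
  exact not_subsingleton (Coh.HH X G (m + 1)) (@Equiv.subsingleton _ _ (GrothLib.Cohom.HEquivTop (Coh.toAb G) (m + 1)).toEquiv key)

end Groth.Agent.S11378
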