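import Groth.Statements.S11389
import Groth.Agent.Lib.ChevPush5.Basic

set_option autoImplicit false
universe u
open CategoryTheory CategoryTheory.Limits AlgebraicGeometry TopologicalSpace
open Variety

namespace Groth.Agent.S11389

/-- Let k be an algebraically closed field, X and Y integral schemes separated and of finite type over
k, and f : X ⟶ Y a finite surjective k-morphism of degree m = [K(X) : K(Y)], computed as the rank of
the stalk of f_*O_X at the generic point of Y over the function field K(Y). Then for every coherent
O_Y-module F there exist a coherent O_X-module G and a morphism u : f_*G ⟶ F^{⊕m} whose restriction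
to some open neighbourhood of the generic point of Y is an isomorphism. -/
theorem result
    (k : Type u) [Field k] [IsAlgClosed k] (X Y : Scheme.{u})
    [X.Over (Spec (CommRingCat.of k))] [Y.Over (Spec (CommRingCat.of k))]
    [IsSeparated (X ↘ (Spec (CommRingCat.of k)))] [LocallyOfFiniteType (X ↘ (Spec (CommRingCat.of k)))]
    [IsSeparated (Y ↘ (Spec (CommRingCat.of k)))] [LocallyOfFiniteType (Y ↘ (Spec (CommRingCat.of k)))]
    [QuasiCompact (Y ↘ (Spec (CommRingCat.of k)))]
    [IsIntegral X] [IsIntegral Y] (f : X ⟶ Y) [IsFinite f] [Surjective f]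
    (hf : f ≫ (Y ↘ (Spec (CommRingCat.of k))) = X ↘ (Spec (CommRingCat.of k)))
    (F : Y.Modules) (hF : Coh.IsCoh F) :
    ∃ (G : X.Modules) (u : (Scheme.Modules.pushforward f).obj G ⟶
        ∐ fun _ : Fin (Module.finrank (Y.functionField)
            (((Scheme.Modules.pushforward f).obj (Coh.structureModule X)).presheaf.stalk (genericPoint Y))) => F),
      Coh.IsCoh G ∧ ∃ V : Y.Opens, genericPoint Y ∈ V ∧
        IsIso ((Scheme.Modules.restrictFunctor V.ι).map u) := by
  haveI : IsLocallyNoetherian Y := LocallyOfFiniteType.isLocallyNoetherian (Y ↘ Spec (CommRingCat.of k))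
  haveI : CompactSpace Y := QuasiCompact.compactSpace_of_compactSpace (Y ↘ Spec (CommRingCat.of k))
  haveI : IsNoetherian Y := ⟨⟩
  exact GrothLib.ChevPush5.exists_coh_hom_pushforward f F hF

end Groth.Agent.S11389
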