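import Groth.Prelude
import Groth.Agent.Lib.SemiTriv10.LocalLim

set_option autoImplicit false
universe u
open CategoryTheory CategoryTheory.Limits AlgebraicGeometry TopologicalSpace
namespace Variety
end Variety
open Variety

namespace Groth.Agent.S11393

/-- Let X be proper over an algebraically closed field k and 𝓘 a quasi-coherent ideal whose closed
subscheme Y is connected (and nonempty); let Y_m be the closed subscheme of 𝓘^{m+1} and A = lim_m
Γ(Y_m, O_{Y_m}) the ring of formal-regular functions along Y (global sections of the structure sheaf
of the formal completion), formed as the limit in commutative rings along the restriction maps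
Γ(Y_{m+1}, O) → Γ(Y_m, O). Then A is a local ring, and every element a of A differs from the image
of some constant c ∈ k by an element whose image in each Γ(Y_m, O_{Y_m}) is nilpotent (so the
residue field of A is k through the structure map). (The published statement also asserts that A is
a complete local ring; that clause is not included here.) -/
theorem result (k : Type u) [Field k] [IsAlgClosed k] (X : Scheme.{u})
    [X.Over (Spec (CommRingCat.of k))] [IsProper (X ↘ (Spec (CommRingCat.of k)))]
    (𝓘 : X.IdealSheafData) (hY : _root_.IsConnected (𝓘.support : Set X)) :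
    IsLocalRing ↑(limit (Functor.ofOpSequence
        (X := fun m : ℕ => Γ((𝓘 ^ (m + 1)).subscheme, ⊤))
        (fun m : ℕ => (Scheme.IdealSheafData.inclusion (Lef.pow_succ_le 𝓘 m)).appTop))) ∧
      ∀ a : ↑(limit (Functor.ofOpSequence
        (X := fun m : ℕ => Γ((𝓘 ^ (m + 1)).subscheme, ⊤))
        (fun m : ℕ => (Scheme.IdealSheafData.inclusion (Lef.pow_succ_le 𝓘 m)).appTop))),
        ∃ c : k, ∀ m : ℕ, IsNilpotent (Sub.sub (α := ↑Γ((𝓘 ^ (m + 1)).subscheme, ⊤))
          ((limit.π (Functor.ofOpSequence
              (X := fun m : ℕ => Γ((𝓘 ^ (m + 1)).subscheme, ⊤))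
              (fun m : ℕ => (Scheme.IdealSheafData.inclusion (Lef.pow_succ_le 𝓘 m)).appTop)) (Opposite.op m)).hom a)
          (((𝓘 ^ (m + 1)).subschemeι ≫ (X ↘ Spec (CommRingCat.of k))).appTop.hom
            ((Scheme.ΓSpecIso (CommRingCat.of k)).inv.hom c))) := GrothLib.SemiTriv10.formal_isLocalRing k X 𝓘 hY

end Groth.Agent.S11393
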