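import Groth.Statements.S11395
import Groth.Agent.Lib.AntiAffine.RigidityMain
import Mathlib.AlgebraicGeometry.AlgClosed.Basic
import Mathlib.AlgebraicGeometry.Morphisms.Finite
import Mathlib.AlgebraicGeometry.Noetherian
-- import your own Groth.Agent.* helpers here

set_option autoImplicit false
universe u
open CategoryTheory MonoidalCategory CartesianMonoidalCategory MonObj GrpObj AlgebraicGeometry CategoryTheory.Limits
open AlgGrp

namespace Groth.Agent.S11395

/-- Over an algebraically closed field k, let X, Y and Z be k-schemes of finite type such that the only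
global functions on X are the constants, Y is connected and Z is separated over k. Let f : X × Y → Z
be a k-morphism and y₀, z₀ rational points of Y, Z such that the restriction of f to X × y₀ is the
constant morphism with value z₀ (as a morphism of schemes; for reduced X this is the condition on
closed points). Then there is a unique morphism g : Y → Z with f = g ∘ pr₂. -/
theorem result (k : Type u) [Field k] [IsAlgClosed k]
    (X Y Z : Over (Spec (CommRingCat.of k))) [LocallyOfFiniteType X.hom] [QuasiCompact X.hom]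
    [LocallyOfFiniteType Y.hom] [QuasiCompact Y.hom] [LocallyOfFiniteType Z.hom] [QuasiCompact Z.hom]
    (hX : Function.Bijective ((Scheme.ΓSpecIso (CommRingCat.of k)).inv ≫ X.hom.appTop).hom)
    [ConnectedSpace ↥Y.left] [IsSeparated Z.hom]
    (f : X ⊗ Y ⟶ Z) (y₀ : 𝟙_ (Over (Spec (CommRingCat.of k))) ⟶ Y) (z₀ : 𝟙_ (Over (Spec (CommRingCat.of k))) ⟶ Z)
    (hf : (X ◁ y₀) ≫ f = toUnit _ ≫ z₀) :
    ∃! g : Y ⟶ Z, f = snd X Y ≫ g := by
  have : IsLocallyNoetherian Y.left := LocallyOfFiniteType.isLocallyNoetherian Y.hom
  have : IsLocallyNoetherian X.left := LocallyOfFiniteType.isLocallyNoetherian X.hom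
  have : QuasiSeparated X.hom := QuasiSeparated.of_quasiSeparatedSpace _
  have : Nonempty X.left := by
    by_contra h
    rw [not_nonempty_iff] at h
    have : Subsingleton Γ(X.left, ⊤) := by
      rw [show (⊤ : X.left.Opens) = ⊥ from TopologicalSpace.Opens.ext (Subsingleton.elim _ _)]
      infer_instance
    exact one_ne_zero (hX.injective (Subsingleton.elim _
      (((Scheme.ΓSpecIso (CommRingCat.of k)).inv ≫ X.hom.appTop).hom 0)))
  have : JacobsonSpace X.left := LocallyOfFiniteType.jacobsonSpace X.hom
  obtain ⟨p, -, hp⟩ := nonempty_inter_closedPoints (X := X.left) (Z := Set.univ) Set.univ_nonempty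
    isClosed_univ.isLocallyClosed
  let x₀ : 𝟙_ (Over (Spec (CommRingCat.of k))) ⟶ X :=
    Over.homMk (pointOfClosedPoint X.hom p hp) (pointOfClosedPoint_comp X.hom p hp)
  have h2 : lift x₀ y₀ ≫ f = z₀ := by
    have e : lift x₀ y₀ = lift x₀ (𝟙 _) ≫ X ◁ y₀ := by
      ext1 <;> simp
    rw [e, Category.assoc, hf, ← Category.assoc, Subsingleton.elim (lift x₀ (𝟙 _) ≫ toUnit _) (𝟙 _),
      Category.id_comp]
  have key := GrothLib.AntiAffine.eq_snd_slice hX x₀ y₀ f (by rw [hf, h2])
  refine ⟨GrothLib.AntiAffine.slice x₀ Y ≫ f, key, fun g hg => ?_⟩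
  rw [hg, GrothLib.AntiAffine.slice, lift_snd_assoc, Category.id_comp]


end Groth.Agent.S11395
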