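import Groth.Statements.S11400
import Groth.Agent.Lib.AffPart16.Basic

set_option autoImplicit false
universe u
open CategoryTheory MonoidalCategory CartesianMonoidalCategory MonObj GrpObj AlgebraicGeometry CategoryTheory.Limits
open AlgGrp

namespace Groth.Agent.S11400

open GrothLib

/-- Over an algebraically closed field k, let G be a connected algebraic group (smooth k-group scheme of
finite type), let i : N → G be its largest connected affine normal algebraic subgroup G_aff (a
homomorphism and closed immersion from a smooth, connected, affine k-group scheme, normal in G,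
through which every other such subgroup factors), and let j : Z → G be the scheme-theoretic centre
of G. Then G = Z · G_aff, in the sense that the multiplication morphism Z × G_aff → G is surjective,
and G is commutative exactly when G_aff is. (The published statement also gives G = Z⁰_red · G_aff
and identifies the scheme-theoretic intersection Z ∩ G_aff with the centre of G_aff; those clauses
are not stated here.) -/
theorem result (k : Type u) [Field k] [IsAlgClosed k]
    (G : Over (Spec (CommRingCat.of k))) [GrpObj G] [Smooth G.hom] [QuasiCompact G.hom] [ConnectedSpace ↥G.left]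
    (N : Over (Spec (CommRingCat.of k))) [GrpObj N] (i : N ⟶ G) [IsMonHom i] [IsClosedImmersion i.left]
    [Smooth N.hom] [ConnectedSpace ↥N.left] [IsAffine N.left] (hN : AlgGrp.IsNormalHom i)
    (hNmax : ∀ (N' : Over (Spec (CommRingCat.of k))) [GrpObj N'] (i' : N' ⟶ G) [IsMonHom i'] [IsClosedImmersion i'.left]
      [Smooth N'.hom] [ConnectedSpace ↥N'.left] [IsAffine N'.left], AlgGrp.IsNormalHom i' → ∃ f : N' ⟶ N, f ≫ i = i')
    (Z : Over (Spec (CommRingCat.of k))) [GrpObj Z] (j : Z ⟶ G) (hZ : Red.IsCentre j) :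
    Surjective ((j ⊗ₘ i) ≫ μ[G]).left ∧ (IsCommMonObj G ↔ IsCommMonObj N) := by
  haveI : IsSeparated G.hom := GrpSchField.isSeparated G
  haveI : QuasiCompact N.hom := by rw [← Over.w i]; infer_instance
  obtain ⟨Q, _, q, hq, hQs, hQq, hqf, hqs, -, hker⟩ := Chev24.exists_quot i hN
  haveI := hq; haveI := hQs; haveI := hQq; haveI := hqf; haveI := hqs
  haveI := Chev24.isProper_quotient i hNmax q hker
  obtain ⟨M, _, jM, hjM, hjMc, hM, -, hmax, -⟩ := AntMax16.exists_ant G
  haveI := hjM; haveI := hjMc
  obtain ⟨hlM, hqM⟩ := AntMax16.props_of_mono jM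
  obtain ⟨h1, -⟩ := AntMax16.ant_generates i q hker jM hM (fun K _ _ _ u _ _ hK => hmax K u hK)
  have hcen : ∀ {T : Over (Spec (CommRingCat.of k))} (g : T ⟶ G) (y : T ⟶ M),
      g * (y ≫ jM) = (y ≫ jM) * g := fun g y => (hM.central jM y g).symm
  obtain ⟨hjm, -, hZc⟩ := hZ
  haveI := hjm
  obtain ⟨l, hl⟩ := (hZc M jM).2 fun X x h => (hcen (h ≫ 𝟙 G) x).symm
  have hsur : Surjective ((j ⊗ₘ i) ≫ μ[G]).left := by
    haveI := AffPart16.surjective_swap i jM h1
    haveI : Surjective ((l ⊗ₘ 𝟙 N).left ≫ ((j ⊗ₘ i) ≫ μ[G]).left) := by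
      rw [← Over.comp_left, ← Category.assoc, tensorHom_comp_tensorHom, hl, Category.id_comp]
      infer_instance
    exact Surjective.of_comp (l ⊗ₘ 𝟙 N).left _
  refine ⟨hsur, fun h => ?_, fun h => ?_⟩
  · haveI := h
    haveI : Mono i := Over.mono_of_mono_left i
    exact AbAff14.isCommMonObj_of_mono i
  · haveI := h
    haveI := h1
    refine AffPart16.isCommMonObj_of_surjective ((i ⊗ₘ jM) ≫ μ[G]) fun T a b => ?_
    rw [AffPart16.prod_eq, MonObj.comp_mul, MonObj.comp_mul, ← Category.assoc, ← Category.assoc, ← Category.assoc,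
      ← Category.assoc]
    have hn : Commute ((a ≫ fst N M) ≫ i) ((b ≫ fst N M) ≫ i) := by
      show _ = _
      rw [← MonObj.mul_comp (a ≫ fst N M) (b ≫ fst N M) i, ← MonObj.mul_comp (b ≫ fst N M) (a ≫ fst N M) i,
        _root_.mul_comm (a ≫ fst N M)]
    have hm : ∀ (y : T ⟶ M) (g : T ⟶ G), Commute g (y ≫ jM) := fun y g => hcen g y
    exact ((hn.mul_right (hm _ _)).mul_left ((hm _ _).symm.mul_right (hm _ _))).eq


end Groth.Agent.S11400
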