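import Groth.Statements.S11404
import Groth.Agent.Lib.Rigidity.Relative.Hom
import Groth.Agent.Lib.Rigidity.Hom
import Groth.Agent.Lib.Rigidity.AbImage
import Groth.Agent.Lib.Rigidity.SmoothGroup
import Groth.Agent.Lib.BaseChange.Field
import Groth.Agent.Lib.SquareOpen.Connected
-- import your own Groth.Agent.* helpers here

set_option autoImplicit false
universe u
open CategoryTheory MonoidalCategory CartesianMonoidalCategory MonObj GrpObj AlgebraicGeometry CategoryTheory.Limits
open AlgGrp

namespace Groth.Agent.S11404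

/-- Over an algebraically closed field k, let A be an abelian variety (a proper, smooth, connected
k-group scheme) and S a connected k-scheme of finite type. For every automorphism f of A × S over S
there are a unique k-morphism g : S → A and a unique group automorphism h of A with f(a, s) = (g(s)
· h(a), s) on points. (This is the functor-of-points form, over a connected base, of the
identification of the automorphism group scheme of A with the semidirect product of A, acting by
translations, and the constant group of group automorphisms; in particular the neutral component is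
A.) -/
theorem result (k : Type u) [Field k] [IsAlgClosed k]
    (A S : Over (Spec (CommRingCat.of k))) [GrpObj A] [IsProper A.hom] [Smooth A.hom] [ConnectedSpace ↥A.left]
    [LocallyOfFiniteType S.hom] [QuasiCompact S.hom] [ConnectedSpace ↥S.left]
    (f : A ⊗ S ≅ A ⊗ S) (hf : f.hom ≫ snd A S = snd A S) :
    ∃ (g : S ⟶ A) (h : A ⟶ A), IsMonHom h ∧ IsIso h ∧
      f.hom ≫ fst A S = (snd A S ≫ g) * (fst A S ≫ h) ∧
      ∀ (g' : S ⟶ A) (h' : A ⟶ A), IsMonHom h' →
        f.hom ≫ fst A S = (snd A S ≫ g') * (fst A S ≫ h') → g' = g ∧ h' = h := by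
  haveI : GeometricallyReduced A.hom := GrothLib.Rigidity.geometricallyReduced_of_smooth A.hom
  haveI : GeometricallyIntegral A.hom := GrothLib.Rigidity.geometricallyIntegral_of_connected A
  haveI : GeometricallyConnected A.hom := GrothLib.Rigidity.geometricallyConnected_of_geometricallyIrreducible A.hom
  haveI : IsCommMonObj A := isCommMonObj_of_isProper_of_geometricallyIntegral A
  haveI : IsSeparated A.hom := inferInstance
  haveI : GeometricallyConnected S.hom := ⟨fun L _ y Z pfst psnd hp => by
    let φ := Spec.preimage y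
    letI : Algebra k L := φ.hom.toAlgebra
    have hy : y = Spec.map (CommRingCat.ofHom (algebraMap k L)) := (Spec.map_preimage y).symm
    haveI : GeometricallyConnected y := by
      rw [hy]
      haveI := GrothLib.BaseChange.geometricallyIrreducible_spec k L
      exact GrothLib.Rigidity.geometricallyConnected_of_geometricallyIrreducible _
    haveI : ConnectedSpace ↥(Limits.pullback S.hom y) := inferInstance
    exact hp.isoPullback.inv.homeomorph.surjective.connectedSpace hp.isoPullback.inv.continuous⟩
  obtain ⟨s₀, -⟩ := GrothLib.Cube.exists_ptOf_mem (A := S) (O := ⊤) ⟨Classical.arbitrary _, trivial⟩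
  have hs : s₀ ≫ toUnit S = 𝟙 _ := toUnit_unique _ _
  let F := f.hom ≫ fst A S
  let g : S ⟶ A := lift (toUnit S ≫ η[A]) (𝟙 S) ≫ F
  let D : A ⊗ S ⟶ A := F * (snd A S ≫ g)⁻¹
  let h : A ⟶ A := lift (𝟙 A) (toUnit A ≫ s₀) ≫ D
  have hD : D = fst A S ≫ h := by
    let d : A ⊗ S ⟶ A := D * (fst A S ≫ h)⁻¹
    have h1 : lift (𝟙 A) (toUnit A ≫ s₀) ≫ d = toUnit A ≫ η[A] := by
      rw [← Hom.one_def]
      simp only [d, MonObj.comp_mul, GrpObj.comp_inv, lift_fst_assoc, Category.id_comp]
      exact mul_inv_cancel _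
    have h0 : ∀ {Z : Over (Spec (CommRingCat.of k))} (b : Z ⟶ S), lift (toUnit Z ≫ η[A]) b ≫ D = 1 := fun b => by
      simp [D, g, F, MonObj.comp_mul, GrpObj.comp_inv, comp_lift_assoc]
    have key := GrothLib.Rigidity.eq_snd_comp_of_slice d η[A] s₀ η[A] h1
    have e : lift (toUnit S ≫ η[A]) (𝟙 S) ≫ d = 1 := by
      have e1 : η[A] ≫ toUnit A = 𝟙 _ := toUnit_unique _ _
      simp only [d, MonObj.comp_mul, GrpObj.comp_inv, h0, lift_fst_assoc, h, Category.assoc, comp_lift_assoc,
        Category.comp_id, reassoc_of% e1, lift_fst, inv_one, _root_.mul_one]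
    rw [e, MonObj.comp_one] at key
    exact mul_inv_eq_one.mp key
  have hF : F = (snd A S ≫ g) * (fst A S ≫ h) := by
    rw [← hD]; simp [D, mul_comm]
  have hh1 : η[A] ≫ h = η[A] := by
    have e1 : η[A] ≫ toUnit A = 𝟙 _ := toUnit_unique _ _
    simp [h, D, g, F, MonObj.comp_mul, GrpObj.comp_inv, comp_lift_assoc, reassoc_of% e1, reassoc_of% hs]
    simp [Hom.one_def, Subsingleton.elim (toUnit (𝟙_ (Over (Spec (CommRingCat.of k))))) (𝟙 _)]
  have hhom : IsMonHom h := GrothLib.Rigidity.isMonHom_of_one_comp h hh1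
  refine ⟨g, h, hhom, ?_, hF, fun g' h' hh' e => ?_⟩
  · let F' := f.inv ≫ fst A S
    let σ : A ⟶ A := toUnit A ≫ s₀ ≫ g
    let u : A ⟶ A := lift (𝟙 A * σ) (toUnit A ≫ s₀) ≫ F'
    have hf' : f.inv ≫ snd A S = snd A S := by rw [Iso.inv_comp_eq, hf]
    have eP : ∀ {Z : Over (Spec (CommRingCat.of k))} (a : Z ⟶ A) (b : Z ⟶ S),
        lift a b ≫ f.hom = lift (lift a b ≫ F) b := fun a b => by
      apply CartesianMonoidalCategory.hom_ext
      · simp [F]
      · simp [hf]
    have eF : ∀ {Z : Over (Spec (CommRingCat.of k))} (a : Z ⟶ A),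
        lift a (toUnit Z ≫ s₀) ≫ F = (toUnit Z ≫ s₀ ≫ g) * (a ≫ h) := fun a => by
      rw [hF]; simp [MonObj.comp_mul]
    have hu : h ≫ u = 𝟙 A := by
      have e := congrArg (· ≫ F') (eP (𝟙 A) (toUnit A ≫ s₀))
      rw [eF, Category.id_comp] at e
      simp only [F', Category.assoc, Iso.hom_inv_id_assoc, lift_fst] at e
      refine Eq.trans ?_ e.symm
      simp [u, F', σ, MonObj.comp_mul, comp_lift_assoc, mul_comm]
    have hu' : u ≫ h = 𝟙 A := by
      have e := eF u
      have e2 : lift u (toUnit A ≫ s₀) = lift (𝟙 A * σ) (toUnit A ≫ s₀) ≫ f.inv := by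
        apply CartesianMonoidalCategory.hom_ext <;> simp [u, F', hf']
      rw [e2] at e
      simp only [F, Category.assoc, Iso.inv_hom_id_assoc, lift_fst] at e
      rw [mul_comm (𝟙 A) σ] at e
      exact (mul_left_cancel (a := σ) e).symm
    exact ⟨u, hu, hu'⟩
  · have eh : ∀ {Z : Over (Spec (CommRingCat.of k))}, (toUnit Z ≫ η[A]) ≫ h' = 1 := fun {Z} => by
      rw [← Hom.one_def, MonObj.one_comp]
    have hg : g' = g := by
      have := congrArg (fun t => lift (toUnit S ≫ η[A]) (𝟙 S) ≫ t) e
      simpa [MonObj.comp_mul, eh, g, F] using this.symm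
    subst hg
    refine ⟨rfl, ?_⟩
    have := congrArg (fun t => lift (𝟙 A) (toUnit A ≫ s₀) ≫ t) (hF.symm.trans e)
    simpa [MonObj.comp_mul] using this.symm

end Groth.Agent.S11404
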