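import Groth.Statements.S11405
import Groth.Agent.Lib.Repr.AntiAffine
import Groth.Agent.Lib.Repr.AffineSpaceRep
import Groth.Agent.Lib.Repr.FixedPoint
-- import your own Groth.Agent.* helpers here

set_option autoImplicit false
universe u
open CategoryTheory MonoidalCategory CartesianMonoidalCategory MonObj GrpObj AlgebraicGeometry CategoryTheory.Limits
open AlgGrp

namespace Groth.Agent.S11405

/-- Over an algebraically closed field k, the following are equivalent for an algebraic group G (a
smooth k-group scheme of finite type): (i) the only global functions on G are the constants; (ii)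
every finite-dimensional linear representation of G is trivial (every point of G with values in a
k-algebra B acts as the identity on B ⊗ M, for every G-module structure on a finite-dimensional
k-vector space M); (iii) every action of G on a variety (integral, separated k-scheme of finite
type) with a fixed rational point is the trivial action. Stated as (i) ⇔ (ii) and (i) ⇔ (iii). -/
theorem result (k : Type u) [Field k] [IsAlgClosed k]
    (G : Over (Spec (CommRingCat.of k))) [GrpObj G] [Smooth G.hom] [QuasiCompact G.hom] :
    (Function.Bijective ((Scheme.ΓSpecIso (CommRingCat.of k)).inv ≫ G.hom.appTop).hom ↔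
      ∀ (M : Type u) [AddCommGroup M] [Module k M] [Module.Finite k M] (m : VecGrp.GMod G M)
        (B : Type u) [CommRing B] [Algebra k B] (g : VecGrp.pt k B ⟶ G), m.ρ B g = 1) ∧
    (Function.Bijective ((Scheme.ΓSpecIso (CommRingCat.of k)).inv ≫ G.hom.appTop).hom ↔
      ∀ (X : Over (Spec (CommRingCat.of k))) [LocallyOfFiniteType X.hom] [QuasiCompact X.hom] [IsSeparated X.hom]
        [IsIntegral X.left] (a : AlgGrp.Action G X) (x : 𝟙_ (Over (Spec (CommRingCat.of k))) ⟶ X), a.IsFixedPt x → a.act = snd G X) := by
  constructor
  · constructor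
    · intro h M _ _ _ m B _ _ g
      obtain ⟨D, ρ, hρm, hρ⟩ := GrothLib.Repr.exists_hom_detect (fun _ : PUnit.{u+1} => m)
      haveI := hρm
      haveI := GrothLib.Repr.isAffine_GLsch (k := k) D
      have hρ1 : ρ = 1 := GrothLib.Repr.hom_eq_one_of_antiAffine h ρ
      have hfix := (hρ B g).1 (by rw [hρ1, MonObj.comp_one]) PUnit.unit
      refine LinearEquiv.ext fun y => ?_
      induction y using TensorProduct.induction_on with
      | zero => simp
      | tmul r x =>
        rw [show r ⊗ₜ[k] x = r • ((1 : B) ⊗ₜ[k] x) by rw [TensorProduct.smul_tmul', smul_eq_mul, _root_.mul_one],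
          LinearEquiv.map_smul]
        exact congrArg (r • ·) (hfix x)
      | add c d hc hd => simp only [map_add, hc, hd]
    · intro h
      refine GrothLib.Repr.antiAffine_of_trivial fun N ρ hρ => ?_
      haveI := hρ
      refine GrothLib.Repr.hom_ext_pts fun R _ _ u => ?_
      rw [MonObj.comp_one]
      refine GrothLib.Repr.comp_eq_one_of_matOf ρ (GrothLib.Repr.matOf_eq_one_of_glModule ρ u fun x => ?_)
      rw [h (Fin N → k) (GrothLib.Repr.glModule ρ) R u]
      rfl
  · constructor
    · intro h X _ _ _ _ a x hx
      haveI : IsLocallyNoetherian X.left := LocallyOfFiniteType.isLocallyNoetherian X.hom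
      obtain ⟨Ms, _, _, ms, hms⟩ := GrothLib.Repr.exists_modules_trivial a x hx
      obtain ⟨D, ρ, hρm, hρ⟩ := GrothLib.Repr.exists_hom_detect ms
      haveI := hρm
      haveI := GrothLib.Repr.isAffine_GLsch (k := k) D
      have hρ1 : ρ = 1 := GrothLib.Repr.hom_eq_one_of_antiAffine h ρ
      refine GrothLib.Repr.hom_ext_pts fun R _ _ p => ?_
      have h2 := (hms R (p ≫ fst G X)).1 ((hρ R _).1 (by rw [hρ1, MonObj.comp_one])) _ (𝟙 _) (p ≫ snd G X)
      rw [Category.id_comp, GrothLib.GrpSchField.lift_fst_snd_comp] at h2
      exact h2
    · intro h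
      refine GrothLib.Repr.antiAffine_of_trivial fun N ρ hρ => ?_
      haveI := hρ
      obtain ⟨a, x, hx, hone⟩ := GrothLib.Repr.exists_linAction ρ
      obtain ⟨h1, h2, h3, h4, h5⟩ := GrothLib.Repr.affSp_props (k := k) N
      exact hone (h _ a x hx)


end Groth.Agent.S11405
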