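import Groth.Statements.S11407
-- import your own Groth.Agent.* helpers here
import Groth.Agent.Lib.UnipSplit24.AntiAffine

set_option autoImplicit false
universe u
open CategoryTheory MonoidalCategory CartesianMonoidalCategory MonObj GrpObj AlgebraicGeometry CategoryTheory.Limits
open AlgGrp

namespace Groth.Agent.S11407

/-- Over an algebraically closed field k of characteristic p > 0, let G be a connected commutative
algebraic group (smooth k-group scheme of finite type) which is an extension of an abelian variety A
(a proper, smooth, connected k-group scheme) by a connected unipotent algebraic group U: i : U → G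
is a homomorphism and closed immersion from a smooth, connected, affine k-group scheme containing no
non-trivial subtorus (for smooth connected affine groups over an algebraically closed field this is
unipotency), and α : G → A is a flat surjective homomorphism with kernel i. Then the only global
functions on G are the constants if and only if U is the trivial group. -/
theorem result (k : Type u) [Field k] [IsAlgClosed k]
    (p : ℕ) [Fact p.Prime] [CharP k p]
    (G : Over (Spec (CommRingCat.of k))) [GrpObj G] [Smooth G.hom] [QuasiCompact G.hom] [ConnectedSpace ↥G.left] [IsCommMonObj G]
    (U : Over (Spec (CommRingCat.of k))) [GrpObj U] (i : U ⟶ G) [IsMonHom i] [IsClosedImmersion i.left]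
    [Smooth U.hom] [ConnectedSpace ↥U.left] [IsAffine U.left] (hU : Red.HasNoSubtorus k U)
    (A : Over (Spec (CommRingCat.of k))) [GrpObj A] [IsProper A.hom] [Smooth A.hom] [ConnectedSpace ↥A.left]
    (α : G ⟶ A) [IsMonHom α] [Surjective α.left] [Flat α.left] (hker : AlgGrp.IsKernel i α) :
    Function.Bijective ((Scheme.ΓSpecIso (CommRingCat.of k)).inv ≫ G.hom.appTop).hom ↔ IsIso U.hom := by
  exact GrothLib.UnipSplit24.antiAffine_iff p G U i hU A α hker

end Groth.Agent.S11407
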