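import Groth.Statements.S11408
-- import your own Groth.Agent.* helpers here
import Groth.Agent.Lib.Chev24.QuasiComp

set_option autoImplicit false
universe u
open CategoryTheory MonoidalCategory CartesianMonoidalCategory MonObj GrpObj AlgebraicGeometry CategoryTheory.Limits
open AlgGrp

namespace Groth.Agent.S11408

/-- Over an algebraically closed field k, let G be a connected algebraic group (smooth k-group scheme of
finite type) and i : A → G a homomorphism and closed immersion from an abelian variety A (a proper,
smooth, connected k-group scheme). Then A has a quasi-complement: a smooth, connected, normal closed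
subgroup H of G with G = A · H, in the sense that the multiplication A × H → G is surjective, and
with the scheme-theoretic intersection A ∩ H finite over k. (The published statement first records
that A is central in G; that clause is not restated here.) -/
theorem result (k : Type u) [Field k] [IsAlgClosed k]
    (G : Over (Spec (CommRingCat.of k))) [GrpObj G] [Smooth G.hom] [QuasiCompact G.hom] [ConnectedSpace ↥G.left]
    (A : Over (Spec (CommRingCat.of k))) [GrpObj A] [IsProper A.hom] [Smooth A.hom] [ConnectedSpace ↥A.left]
    (i : A ⟶ G) [IsMonHom i] [IsClosedImmersion i.left] :
    ∃ (H : Over (Spec (CommRingCat.of k))) (_ : GrpObj H) (h : H ⟶ G), IsMonHom h ∧ IsClosedImmersion h.left ∧ Smooth H.hom ∧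
      ConnectedSpace ↥H.left ∧ AlgGrp.IsNormalHom h ∧ Surjective ((i ⊗ₘ h) ≫ μ[G]).left ∧
      IsFinite (pullback.fst i.left h.left ≫ A.hom) := by
  exact GrothLib.Chev24.exists_quasiComplement G A i

end Groth.Agent.S11408
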