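import Groth.Statements.S11409
import Groth.Agent.Lib.Repr.Adjoint
import Groth.Agent.Lib.Repr.Quotient
-- import your own Groth.Agent.* helpers here

set_option autoImplicit false
universe u
open CategoryTheory MonoidalCategory CartesianMonoidalCategory MonObj GrpObj AlgebraicGeometry CategoryTheory.Limits
open AlgGrp

namespace Groth.Agent.S11409

/-- Over an algebraically closed field k, let G be a connected algebraic group (smooth k-group scheme of
finite type), j : Z → G its scheme-theoretic centre, and q : G → Q a flat surjective homomorphism of
k-group schemes of finite type with kernel j (so Q = G/Z). Then Q is affine. (The published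
statement also treats the quotients by Z_red and by its identity component; those are not stated
here.) -/
theorem result (k : Type u) [Field k] [IsAlgClosed k]
    (G : Over (Spec (CommRingCat.of k))) [GrpObj G] [Smooth G.hom] [QuasiCompact G.hom] [ConnectedSpace ↥G.left]
    (Z : Over (Spec (CommRingCat.of k))) [GrpObj Z] (j : Z ⟶ G) (hZ : Red.IsCentre j)
    (Q : Over (Spec (CommRingCat.of k))) [GrpObj Q] [LocallyOfFiniteType Q.hom] [QuasiCompact Q.hom]
    (q : G ⟶ Q) [IsMonHom q] [Surjective q.left] [Flat q.left] (hker : AlgGrp.IsKernel j q) :
    IsAffine Q.left := by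
  obtain ⟨Ms, _, _, ms, hms⟩ := GrothLib.Repr.exists_modules_centre G
  refine GrothLib.Repr.isAffine_quotient j q hker ms fun R _ _ u => (hms R u).trans ?_
  have hc := hZ.2.2 _ u
  simp only [Category.comp_id] at hc
  refine hc.symm.trans ⟨fun ⟨z, hz⟩ => ?_, GrothLib.GrpSchField.exists_lift_of_comp_eq_one hker u⟩
  rw [← hz, Category.assoc, GrothLib.GrpSchField.comp_eq_one hker, MonObj.comp_one]


end Groth.Agent.S11409
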