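import Groth.Statements.S11410
import Groth.Agent.Lib.Repr.FixedPoint
import Groth.Agent.Lib.Repr.Quotient
import Groth.Agent.Lib.MonoHom.FiniteKernel
-- import your own Groth.Agent.* helpers here

set_option autoImplicit false
universe u
open CategoryTheory MonoidalCategory CartesianMonoidalCategory MonObj GrpObj AlgebraicGeometry CategoryTheory.Limits
open AlgGrp

namespace Groth.Agent.S11410

/-- Over an algebraically closed field k, let G be an algebraic group (a smooth k-group scheme of finite
type) acting on a variety X (an integral, separated k-scheme of finite type), faithfully in the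
sense that every rational point of G acting as the identity of X is the identity element. Then for
every rational point x of X, the isotropy subgroup scheme of x (a closed subgroup scheme of G whose
points are exactly the points of G fixing x) is affine. -/
theorem result (k : Type u) [Field k] [IsAlgClosed k]
    (G X : Over (Spec (CommRingCat.of k))) [GrpObj G] [Smooth G.hom] [QuasiCompact G.hom]
    [LocallyOfFiniteType X.hom] [QuasiCompact X.hom] [IsSeparated X.hom] [IsIntegral X.left]
    (a : AlgGrp.Action G X)
    (hfaith : ∀ g : 𝟙_ (Over (Spec (CommRingCat.of k))) ⟶ G, lift (toUnit X ≫ g) (𝟙 X) ≫ a.act = 𝟙 X → g = η[G])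
    (x : 𝟙_ (Over (Spec (CommRingCat.of k))) ⟶ X) (St : Over (Spec (CommRingCat.of k))) [GrpObj St] (s : St ⟶ G) [IsMonHom s] [IsClosedImmersion s.left]
    (hs : ∀ (T : Over (Spec (CommRingCat.of k))) (g : T ⟶ G), (∃ t : T ⟶ St, t ≫ s = g) ↔ lift g (toUnit T ≫ x) ≫ a.act = toUnit T ≫ x) :
    IsAffine St.left := by
  haveI : IsLocallyNoetherian X.left := LocallyOfFiniteType.isLocallyNoetherian X.hom
  haveI : LocallyOfFiniteType St.hom := by rw [← Over.w s]; infer_instance
  haveI : QuasiCompact St.hom := by rw [← Over.w s]; infer_instance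
  let b : AlgGrp.Action St X :=
    { act := (s ▷ X) ≫ a.act
      one_act := by rw [← comp_whiskerRight_assoc, IsMonHom.one_hom, a.one_act]
      mul_act := by
        apply GrothLib.GrpSchField.hom_ext_points₂
        intro T p y
        rw [← GrothLib.GrpSchField.lift_fst_snd_comp p]
        generalize p ≫ fst St St = g
        generalize p ≫ snd St St = g'
        simp only [lift_lift_associator_hom_assoc, lift_whiskerRight_assoc, lift_whiskerLeft_assoc,
          ← Hom.mul_def, MonObj.mul_comp, GrothLib.Repr.lift_act_mul] }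
  have hb : b.IsFixedPt x := fun T g => by
    show lift g (toUnit T ≫ x) ≫ (s ▷ X) ≫ a.act = _
    rw [lift_whiskerRight_assoc]
    exact (hs T (g ≫ s)).1 ⟨g, rfl⟩
  obtain ⟨Ms, _, _, ms, hms⟩ := GrothLib.Repr.exists_modules_trivial b x hb
  obtain ⟨D, ρ, hρm, hρ⟩ := GrothLib.Repr.exists_hom_detect ms
  haveI := GrothLib.Repr.finiteType_GLsch (k := k) D
  haveI := GrothLib.Repr.isAffine_GLsch (k := k) D
  haveI : Mono s := (Over.forget _).mono_of_mono_map (inferInstanceAs (Mono s.left))
  haveI : IsFinite ρ.left := GrothLib.MonoHom.isFinite_of_pts ρ fun g hg => by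
    let j : 𝟙_ (Over (Spec (CommRingCat.of k))) ⟶ VecGrp.pt k k :=
      Over.homMk (𝟙 _) (by
        show 𝟙 _ ≫ Spec.map (CommRingCat.ofHom (algebraMap k k)) = 𝟙 _
        rw [Category.id_comp]
        exact Spec.map_id _)
    have h1 := (hms k g).1 ((hρ k g).1 hg) X (toUnit X ≫ j) (𝟙 X)
    simp only [b, lift_whiskerRight_assoc, Category.assoc] at h1
    have h2 : (j ≫ g) ≫ s = η[G] := hfaith _ (by rw [Category.assoc]; exact h1)
    rw [← cancel_mono s, MonObj.one_comp]
    have h3 : toUnit (VecGrp.pt k k) ≫ j = 𝟙 _ := by
      refine Over.OverMorphism.ext ?_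
      show (VecGrp.pt k k).hom ≫ 𝟙 _ = 𝟙 _
      rw [Category.comp_id]
      exact (congrArg Spec.map CommRingCat.ofHom_id).trans (Spec.map_id _)
    have h4 := congrArg (toUnit (VecGrp.pt k k) ≫ ·) h2
    rw [← Category.assoc, ← Category.assoc, h3, Category.id_comp, ← Hom.one_def] at h4
    exact h4
  exact isAffine_of_isAffineHom ρ.left


end Groth.Agent.S11410
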