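import Groth.Statements.S11411
import Groth.Agent.Lib.AntiAffine.Hom
import Groth.Agent.Lib.GrpSchField.Field
import Groth.Agent.Lib.GrpSchField.Points
-- import your own Groth.Agent.* helpers here

set_option autoImplicit false
universe u
open CategoryTheory MonoidalCategory CartesianMonoidalCategory MonObj GrpObj AlgebraicGeometry CategoryTheory.Limits
open AlgGrp

namespace Groth.Agent.S11411

/-- Over an algebraically closed field k, let G be an algebraic group (a smooth k-group scheme of finite
type) and N the kernel of the canonical morphism ρ : G → Spec O(G), i.e. the fibre of ρ over the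
image of the unit. Then N is the smallest normal subgroup scheme of G with affine quotient: for
every closed normal subgroup scheme H of G with a flat surjective homomorphism G → Q of k-group
schemes of finite type with kernel H and Q affine, the inclusion of N factors through H. And N is
the largest anti-affine subgroup scheme: every homomorphism and closed immersion into G from a
k-group scheme whose only global functions are the constants factors through N. (The published
statement also asserts O(N) = k, that N is a connected algebraic group central in G⁰, and O(G/N) =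
O(G) finitely generated; those parts are not restated here.) -/
theorem result (k : Type u) [Field k] [IsAlgClosed k]
    (G : Over (Spec (CommRingCat.of k))) [GrpObj G] [Smooth G.hom] [QuasiCompact G.hom] :
    (∀ (H Q : Over (Spec (CommRingCat.of k))) [GrpObj H] [GrpObj Q] (h : H ⟶ G) [IsMonHom h] [IsClosedImmersion h.left]
        [LocallyOfFiniteType Q.hom] [QuasiCompact Q.hom] (q : G ⟶ Q) [IsMonHom q] [Surjective q.left] [Flat q.left],
        AlgGrp.IsKernel h q → IsAffine Q.left →
        ∃ f : pullback G.left.toSpecΓ (η[G].left ≫ G.left.toSpecΓ) ⟶ H.left, f ≫ h.left = pullback.fst G.left.toSpecΓ (η[G].left ≫ G.left.toSpecΓ)) ∧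
    (∀ (M : Over (Spec (CommRingCat.of k))) [GrpObj M] (j : M ⟶ G) [IsMonHom j] [IsClosedImmersion j.left],
        Function.Bijective ((Scheme.ΓSpecIso (CommRingCat.of k)).inv ≫ M.hom.appTop).hom →
        ∃ f : M.left ⟶ pullback G.left.toSpecΓ (η[G].left ≫ G.left.toSpecΓ), f ≫ pullback.fst G.left.toSpecΓ (η[G].left ≫ G.left.toSpecΓ) = j.left) := by
  refine ⟨?_, ?_⟩
  · intro H Q _ _ h _ _ _ _ q _ _ _ hK hQ
    let p := Limits.pullback.fst G.left.toSpecΓ (η[G].left ≫ G.left.toSpecΓ)
    let s := Limits.pullback.snd G.left.toSpecΓ (η[G].left ≫ G.left.toSpecΓ)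
    obtain ⟨qa, hqa⟩ : ∃ qa : Spec Γ(G.left, ⊤) ⟶ Q.left, G.left.toSpecΓ ≫ qa = q.left :=
      ⟨Spec.map q.left.appTop ≫ Q.left.isoSpec.inv, by
        rw [← Scheme.toSpecΓ_naturality_assoc, ← Scheme.isoSpec_hom, Iso.hom_inv_id, Category.comp_id]⟩
    have h1 : p ≫ q.left = s ≫ η[Q].left := by
      have e : η[G].left ≫ q.left = η[Q].left := by rw [← Over.comp_left, IsMonHom.one_hom]
      rw [← hqa, ← e, ← hqa]
      simp only [← Category.assoc]
      congr 1
      simpa [p, s] using Limits.pullback.condition (f := G.left.toSpecΓ) (g := η[G].left ≫ G.left.toSpecΓ)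
    have h2 : p ≫ G.hom = s := by
      have e := congrArg (· ≫ Q.hom) h1
      simp only [Category.assoc] at e
      rwa [Over.w q, show η[Q].left ≫ Q.hom = 𝟙 _ from Over.w η[Q], Category.comp_id] at e
    let P : Over (Spec (CommRingCat.of k)) := Over.mk s
    let g : P ⟶ G := Over.homMk p h2
    have hg : g ≫ q = 1 := by
      rw [Hom.one_def]
      exact Over.OverMorphism.ext h1
    obtain ⟨n, hn⟩ := GrothLib.GrpSchField.exists_lift_of_comp_eq_one hK g hg
    exact ⟨n.left, congrArg (fun t => t.left) hn⟩
  · intro M _ j _ _ hM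
    haveI : IsSeparated G.hom := GrothLib.GrpSchField.isSeparated G
    haveI : QuasiCompact M.hom := by rw [← Over.w j]; infer_instance
    haveI : QuasiSeparated M.hom := by rw [← Over.w j]; infer_instance
    let A : Over (Spec (CommRingCat.of k)) :=
      Over.mk (Spec.map ((Scheme.ΓSpecIso (CommRingCat.of k)).inv ≫ G.hom.appTop))
    haveI : IsAffine A.left := inferInstanceAs (IsAffine (Spec Γ(G.left, ⊤)))
    let t : G ⟶ A := Over.homMk G.left.toSpecΓ (by
      show G.left.toSpecΓ ≫ Spec.map ((Scheme.ΓSpecIso (CommRingCat.of k)).inv ≫ G.hom.appTop) = G.hom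
      rw [Spec.map_comp, ← Scheme.toSpecΓ_naturality_assoc]
      rw [toSpecΓ_SpecMap_ΓSpecIso_inv, Category.comp_id])
    have h1 := GrothLib.AntiAffine.IsAntiAffine.eq_const hM η[M] (j ≫ t)
    rw [← Category.assoc η[M], IsMonHom.one_hom] at h1
    have h2 : j.left ≫ G.left.toSpecΓ = M.hom ≫ η[G].left ≫ G.left.toSpecΓ := congrArg (fun z => z.left) h1
    exact ⟨Limits.pullback.lift j.left M.hom h2, Limits.pullback.lift_fst _ _ _⟩


end Groth.Agent.S11411
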