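import Groth.Statements.S11414
import Groth.Agent.Lib.Flag27.Conj
import Groth.Agent.Lib.Chev24.AffPart
import Groth.Agent.Lib.AlbTors16.Main
import Groth.Agent.Lib.DiagGrp.SubgroupEq

set_option autoImplicit false
universe u
open CategoryTheory MonoidalCategory CartesianMonoidalCategory MonObj GrpObj AlgebraicGeometry CategoryTheory.Limits
open AlgGrp

namespace Groth.Agent.S11414

open GrothLib GrothLib.Flag27

variable {k : Type u} [Field k] [IsAlgClosed k]

/-- Closed sets stable under a subgroup with a Borel subgroup of the affine part have closed images. -/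
theorem uc_aux {G N B Q H : Over (Spec (CommRingCat.of k))} [GrpObj G] [GrpObj N] [GrpObj B] [GrpObj Q] [GrpObj H]
    [Smooth G.hom] [QuasiCompact G.hom] [IsAffine N.left] [Smooth N.hom] [ConnectedSpace N.left]
    (i : N ⟶ G) [IsMonHom i] (q : G ⟶ Q) [IsMonHom q] [Flat q.left] [Surjective q.left] [IsProper Q.hom]
    (hk : AlgGrp.IsKernel i q) {b : B ⟶ N} (hb : Red.IsBorelOver k b) (f : B ⟶ H) (h : H ⟶ G)
    (hf : f ≫ h = b ≫ i) : Flag27.UC h := by
  intro T hT hTc C hC hst
  haveI := hT; haveI := hTc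
  haveI : LocallyOfFiniteType (G ⊗ T).hom := by
    show LocallyOfFiniteType (pullback.fst G.hom T.hom ≫ G.hom)
    infer_instance
  haveI : QuasiCompact (G ⊗ T).hom := by
    show QuasiCompact (pullback.fst G.hom T.hom ≫ G.hom)
    infer_instance
  haveI : LocallyOfFiniteType (Q ⊗ T).hom := by
    show LocallyOfFiniteType (pullback.fst Q.hom T.hom ≫ Q.hom)
    infer_instance
  haveI : LocallyOfFiniteType (N ⊗ (G ⊗ T)).hom := by
    show LocallyOfFiniteType (pullback.fst N.hom (G ⊗ T).hom ≫ N.hom)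
    infer_instance
  haveI : QuasiCompact N.hom := inferInstance
  -- translate along the affine part
  let m : N ⊗ (G ⊗ T) ⟶ G ⊗ T :=
    lift ((snd N (G ⊗ T) ≫ fst G T) * (fst N (G ⊗ T) ≫ i)) (snd N (G ⊗ T) ≫ snd G T)
  have hm : ∀ (n : 𝟙_ (Over (Spec (CommRingCat.of k))) ⟶ N) (g : 𝟙_ (Over (Spec (CommRingCat.of k))) ⟶ G)
      (t : 𝟙_ (Over (Spec (CommRingCat.of k))) ⟶ T), lift n (lift g t) ≫ m = lift (g * (n ≫ i)) t := by
    intro n g t
    simp [m, comp_lift, MonObj.comp_mul]
  let C' : Set (N ⊗ (G ⊗ T)).left := m.left.base ⁻¹' C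
  have hC' : IsClosed C' := hC.preimage m.left.continuous
  have hD := uc_of_borel hb (G ⊗ T) inferInstance inferInstance C' hC' (by
    intro z n gt hz
    have egt : gt = lift (gt ≫ fst G T) (gt ≫ snd G T) := by rw [← comp_lift, lift_fst_snd, Category.comp_id]
    rw [egt] at hz ⊢
    simp only [C', Set.mem_preimage, ← cl_comp, hm] at hz ⊢
    rw [MonObj.mul_comp, ← _root_.mul_assoc, Category.assoc, ← hf, ← Category.assoc z f]
    exact hst (z ≫ f) _ _ hz)
  let D : Set (G ⊗ T).left := (snd N (G ⊗ T)).left.base '' C'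
  -- push to the abelian quotient
  haveI := AlbTors16.lfp_of_surj q
  haveI : UniversallyOpen q.left := inferInstance
  have ho : UniversallyOpen (q ▷ T).left := GrpSchField.whiskerRight_property @UniversallyOpen q T inferInstance
  have hs : Surjective (q ▷ T).left := GrpSchField.whiskerRight_property @Surjective q T inferInstance
  have hE : IsClosed ((q ▷ T).left.base '' D) := by
    refine isClosed_image (q ▷ T) (q ▷ T).left.isOpenMap hs.surj hD fun z z' hzz hz => ?_
    obtain ⟨w, hw, hwz⟩ := exists_cl_lift (snd N (G ⊗ T)) hC'.isLocallyClosed hz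
    have ez : ∀ x : 𝟙_ (Over (Spec (CommRingCat.of k))) ⟶ G ⊗ T,
        x = lift (x ≫ fst G T) (x ≫ snd G T) := fun x => by rw [← comp_lift, lift_fst_snd, Category.comp_id]
    rw [ez z, ez z', lift_whiskerRight, lift_whiskerRight] at hzz
    have h1 := congrArg (· ≫ fst Q T) hzz
    have h2 := congrArg (· ≫ snd Q T) hzz
    simp only [lift_fst, lift_snd] at h1 h2
    obtain ⟨n₁, hn₁⟩ := GrpSchField.exists_lift_of_comp_eq_one hk ((z' ≫ fst G T)⁻¹ * (z ≫ fst G T))
      (by rw [MonObj.mul_comp, GrpObj.inv_comp, h1, inv_mul_cancel])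
    have ew : w = lift (w ≫ fst N (G ⊗ T)) (lift (z ≫ fst G T) (z ≫ snd G T)) := by
      rw [← ez z, ← hwz, ← comp_lift, lift_fst_snd, Category.comp_id]
    rw [ew] at hw
    simp only [C', Set.mem_preimage, ← cl_comp, hm] at hw
    show cl z' ∈ (snd N (G ⊗ T)).left.base '' C'
    refine ⟨cl (lift (n₁ * (w ≫ fst N (G ⊗ T))) (lift (z' ≫ fst G T) (z' ≫ snd G T))), ?_, ?_⟩
    · simp only [C', Set.mem_preimage, ← cl_comp, hm]
      rw [MonObj.mul_comp, hn₁, ← h2, ← _root_.mul_assoc, mul_inv_cancel_left]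
      exact hw
    · rw [← cl_comp, lift_snd, ← ez z']
  haveI : IsProper (snd Q T).left := inferInstanceAs (IsProper (pullback.snd Q.hom T.hom))
  have hF := (snd Q T).left.isClosedMap _ hE
  have e1 : (snd Q T).left.base '' ((q ▷ T).left.base '' D) = (snd G T).left.base '' D := by
    rw [← Set.image_comp]
    refine congrArg (· '' D) (funext fun y => ?_)
    show (snd Q T).left ((q ▷ T).left y) = _
    rw [← Scheme.Hom.comp_apply, ← Over.comp_left, whiskerRight_snd]
  have e2 : (snd G T).left.base '' D = (snd G T).left.base '' C := by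
    have em : m ≫ snd G T = snd N (G ⊗ T) ≫ snd G T := by simp [m]
    refine Set.Subset.antisymm ?_ (Set.image_mono fun p hp => ?_)
    · rintro _ ⟨_, ⟨p, hp, rfl⟩, rfl⟩
      refine ⟨m.left.base p, hp, ?_⟩
      show (snd G T).left (m.left p) = (snd G T).left ((snd N (G ⊗ T)).left p)
      rw [← Scheme.Hom.comp_apply, ← Scheme.Hom.comp_apply, ← Over.comp_left, ← Over.comp_left, em]
    · let s : G ⊗ T ⟶ N ⊗ (G ⊗ T) := lift 1 (𝟙 _)
      have es : s ≫ m = 𝟙 _ := by simp [s, m, comp_lift, MonObj.comp_mul, MonObj.one_comp]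
      have es' : s ≫ snd N (G ⊗ T) = 𝟙 _ := by simp [s]
      refine ⟨s.left.base p, ?_, ?_⟩
      · show m.left (s.left p) ∈ C
        rw [← Scheme.Hom.comp_apply, ← Over.comp_left, es]
        exact hp
      · show (snd N (G ⊗ T)).left (s.left p) = p
        rw [← Scheme.Hom.comp_apply, ← Over.comp_left, es']
        rfl
  rw [e1, e2] at hF
  exact hF

/-- Quotients by such subgroups are proper. -/
theorem isProper_of_uc' {G H : Over (Spec (CommRingCat.of k))} [GrpObj G] [GrpObj H] [Smooth G.hom] [QuasiCompact G.hom]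
    {i : H ⟶ G} [IsMonHom i]
    [IsClosedImmersion i.left] (hU : Flag27.UC i) {X : Over (Spec (CommRingCat.of k))} (a : AlgGrp.Action G X)
    (o : 𝟙_ (Over (Spec (CommRingCat.of k))) ⟶ X) (hX : AGF.IsQuotient i X a o) : IsProper X.hom := by
  haveI := GrothLib.Induce27.isSeparated_quotient a o hX
  obtain ⟨hXl, -, hsurj, hpb⟩ := hX
  haveI := hXl
  haveI := hsurj
  let π := a.orbitMap o
  haveI : CompactSpace G.left := QuasiCompact.compactSpace_of_compactSpace G.hom
  haveI : CompactSpace X.left := π.left.surjective.compactSpace π.left.continuous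
  haveI : QuasiCompact X.hom := inferInstance
  haveI : UniversallyClosed X.hom := by
    refine GrothLib.UCTest.universallyClosed_of_affineSpace X.hom fun m Z hZ => ?_
    let T : Over (Spec (CommRingCat.of k)) :=
      Over.mk (𝔸(ULift.{u} (Fin m); Spec (CommRingCat.of k)) ↘ Spec (CommRingCat.of k))
    have hT₁ : LocallyOfFiniteType T.hom := by
      show LocallyOfFiniteType (𝔸(ULift.{u} (Fin m); Spec (CommRingCat.of k)) ↘ Spec (CommRingCat.of k))
      infer_instance
    have hT₂ : QuasiCompact T.hom := by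
      show QuasiCompact (𝔸(ULift.{u} (Fin m); Spec (CommRingCat.of k)) ↘ Spec (CommRingCat.of k))
      infer_instance
    let q : G ⊗ T ⟶ X ⊗ T := π ▷ T
    have hq : Surjective q.left := GrothLib.GrpSchField.whiskerRight_property @Surjective π T inferInstance
    have hst : ∀ (b : 𝟙_ (Over (Spec (CommRingCat.of k))) ⟶ H) (g : 𝟙_ (Over (Spec (CommRingCat.of k))) ⟶ G)
        (t : 𝟙_ (Over (Spec (CommRingCat.of k))) ⟶ T),
        cl (lift g t) ∈ q.left.base ⁻¹' Z → cl (lift (g * (b ≫ i)) t) ∈ q.left.base ⁻¹' Z := by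
      intro b g t h
      simp only [Set.mem_preimage, ← cl_comp, q, lift_whiskerRight] at h ⊢
      have e : g ≫ π = (g * (b ≫ i)) ≫ π := by
        have w := congrArg (lift g b ≫ ·) hpb.w
        simp only [← Category.assoc, lift_fst, lift_whiskerLeft] at w
        rw [← Hom.mul_def] at w
        exact w
      rwa [← e]
    have h := hU T hT₁ hT₂ _ (hZ.preimage q.left.continuous) hst
    have e : (snd G T).left.base '' (q.left.base ⁻¹' Z) = (snd X T).left.base '' Z := by
      have hc : ⇑(snd G T).left.base = ⇑(snd X T).left.base ∘ ⇑q.left.base := funext fun y => by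
        show _ = (snd X T).left (q.left y)
        rw [← Scheme.Hom.comp_apply, ← Over.comp_left, whiskerRight_snd]
      rw [hc, Set.image_comp, Set.image_preimage_eq _ hq.surj]
    rw [e] at h
    exact h
  exact {}

/-- A solvable connected affine group acting on a proper quotient has a conjugate in the subgroup. -/
theorem exists_conj_into' {G B H : Over (Spec (CommRingCat.of k))} [GrpObj G] [Smooth G.hom] [GrpObj B] [GrpObj H]
    {h : H ⟶ G} [IsMonHom h]
    {X : Over (Spec (CommRingCat.of k))} (a : AlgGrp.Action G X) (o : 𝟙_ (Over (Spec (CommRingCat.of k))) ⟶ X)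
    (hX : AGF.IsQuotient h X a o) [IsProper X.hom] (j : B ⟶ G) [IsMonHom j] [IsAffine B.left]
    [Smooth B.hom] [ConnectedSpace B.left] (hs : Group.IsSolvable (𝟙_ (Over (Spec (CommRingCat.of k))) ⟶ B)) :
    ∃ (g : 𝟙_ (Over (Spec (CommRingCat.of k))) ⟶ G) (f : B ⟶ H), f ≫ h = AGF.conjBy g j := by
  obtain ⟨hXl, -, hsurj, hpb⟩ := hX
  haveI := hXl
  haveI := hsurj
  haveI : Nonempty X.left := ⟨o.left.base (IsLocalRing.closedPoint k)⟩
  haveI := hs
  haveI : LocallyOfFiniteType G.hom := inferInstance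
  obtain ⟨y, hy⟩ := GrothLib.BorelFix27.exists_fixedPt (a.restrict j)
  obtain ⟨g, -, hg⟩ := exists_cl_lift (a.orbitMap o) (E := Set.univ) isClosed_univ.isLocallyClosed (w := y)
    (by rw [Set.image_univ]; exact hsurj.surj _)
  refine ⟨g⁻¹, ?_⟩
  have h0 := hy B (𝟙 B)
  rw [AlgGrp.Action.lift_restrict_act, Category.id_comp, ← hg, GrothLib.FlatFactor.comp_orbitMap,
    ← Category.assoc (toUnit B), comp_lift, ← Category.assoc (toUnit B) (toUnit _),
    toUnit_unique (toUnit B ≫ toUnit _) (toUnit B), ← GrothLib.DiagGrp.act_mul,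
    ← GrothLib.FlatFactor.comp_orbitMap, ← GrothLib.FlatFactor.comp_orbitMap] at h0
  refine ⟨hpb.lift (toUnit B ≫ g) (j * (toUnit B ≫ g)) h0.symm ≫ snd G H, ?_⟩
  have e1 := hpb.lift_fst (toUnit B ≫ g) (j * (toUnit B ≫ g)) h0.symm
  have e2 := hpb.lift_snd (toUnit B ≫ g) (j * (toUnit B ≫ g)) h0.symm
  generalize hpb.lift (toUnit B ≫ g) (j * (toUnit B ≫ g)) h0.symm = l at e1 e2
  have el : l = lift (l ≫ fst G H) (l ≫ snd G H) := by rw [← comp_lift, lift_fst_snd, Category.comp_id]
  rw [el, lift_whiskerLeft_assoc, ← Hom.mul_def, e1] at e2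
  rw [← inv_mul_cancel_left (toUnit B ≫ g) ((l ≫ snd G H) ≫ h), e2, AGF.conjBy, GrpObj.comp_inv,
    _root_.inv_inv, _root_.mul_assoc]



/-- Over an algebraically closed field k, let G be a connected algebraic group (smooth k-group scheme of
finite type), let i : N → G be its largest connected affine normal algebraic subgroup G_aff (a
homomorphism and closed immersion from a smooth, connected, affine k-group scheme, normal in G,
through which every other such subgroup factors), let H be a closed subgroup scheme of G and X = G/H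
a quotient (a k-scheme with a G-action and a rational point o whose orbit map is flat and surjective
and identifies G × H with G ×_X G). Then X is proper over k exactly when some Borel subgroup of
G_aff lies in H (factors through H). (The published statement adds, for such a Borel subgroup B, an
isomorphism of G/B with the product of G/G_aff and G_aff/B; it is not stated here.) -/
theorem result (k : Type u) [Field k] [IsAlgClosed k]
    (G : Over (Spec (CommRingCat.of k))) [GrpObj G] [Smooth G.hom] [QuasiCompact G.hom] [ConnectedSpace ↥G.left]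
    (N : Over (Spec (CommRingCat.of k))) [GrpObj N] (i : N ⟶ G) [IsMonHom i] [IsClosedImmersion i.left]
    [Smooth N.hom] [ConnectedSpace ↥N.left] [IsAffine N.left] (hN : AlgGrp.IsNormalHom i)
    (hNmax : ∀ (N' : Over (Spec (CommRingCat.of k))) [GrpObj N'] (i' : N' ⟶ G) [IsMonHom i'] [IsClosedImmersion i'.left]
      [Smooth N'.hom] [ConnectedSpace ↥N'.left] [IsAffine N'.left], AlgGrp.IsNormalHom i' → ∃ f : N' ⟶ N, f ≫ i = i')
    (H : Over (Spec (CommRingCat.of k))) [GrpObj H] (h : H ⟶ G) [IsMonHom h] [IsClosedImmersion h.left]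
    (X : Over (Spec (CommRingCat.of k))) (a : AlgGrp.Action G X) (o : 𝟙_ (Over (Spec (CommRingCat.of k))) ⟶ X) (hX : AGF.IsQuotient h X a o) :
    IsProper X.hom ↔ ∃ (B : Over (Spec (CommRingCat.of k))) (_ : GrpObj B) (b : B ⟶ N) (f : B ⟶ H),
      Red.IsBorelOver k b ∧ f ≫ h = b ≫ i := by
  haveI : IsSeparated G.hom := GrpSchField.isSeparated G
  haveI : QuasiCompact N.hom := inferInstance
  constructor
  · intro hXp
    obtain ⟨B, _, b, hB, -⟩ := Flag27.exists_borel (G := N)
    have hB' := hB
    obtain ⟨hbm, hbc, hBs, hBc, hBsol, -⟩ := id hB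
    haveI := hbm; haveI := hbc; haveI := hBs; haveI := hBc
    haveI : IsAffine B.left := isAffine_of_isAffineHom b.left
    obtain ⟨g, f, hf⟩ := exists_conj_into' a o hX (b ≫ i) (isSolvable_points hBsol)
    -- the conjugation restricted to the normal subgroup
    have hc : ∀ g : 𝟙_ (Over (Spec (CommRingCat.of k))) ⟶ G, ∃ σ : N ⟶ N, σ ≫ i = AGF.conjBy g i := by
      intro g
      obtain ⟨σ, hσ⟩ := hN N (toUnit N ≫ g) (𝟙 N)
      exact ⟨σ, by rw [← hσ, Category.id_comp]⟩
    obtain ⟨σ, hσ⟩ := hc g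
    obtain ⟨τ, hτ⟩ := hc g⁻¹
    haveI : Mono i := Over.mono_of_mono_left i
    have hστ : σ ≫ τ = 𝟙 N := by
      rw [← cancel_mono i, Category.assoc, hτ, Flag27.comp_conjBy', hσ, conjBy_conjBy, inv_mul_cancel,
        conjBy_one, Category.id_comp]
    have hτσ : τ ≫ σ = 𝟙 N := by
      rw [← cancel_mono i, Category.assoc, hσ, Flag27.comp_conjBy', hτ, conjBy_conjBy, mul_inv_cancel,
        conjBy_one, Category.id_comp]
    haveI : IsMonHom (σ ≫ i) := by rw [hσ]; exact isMonHom_conjBy g i
    haveI : IsMonHom (τ ≫ i) := by rw [hτ]; exact isMonHom_conjBy g⁻¹ i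
    haveI : IsMonHom σ := DiagGrp.isMonHom_of_comp_mono σ i
    haveI : IsMonHom τ := DiagGrp.isMonHom_of_comp_mono τ i
    haveI : IsIso σ := ⟨τ, hστ, hτσ⟩
    haveI : IsIso τ := ⟨σ, hτσ, hστ⟩
    haveI : IsIso σ.left := inferInstanceAs (IsIso ((Over.forget _).map σ))
    haveI : IsIso τ.left := inferInstanceAs (IsIso ((Over.forget _).map τ))
    refine ⟨B, inferInstance, b ≫ σ, f, ⟨inferInstance, ?_, hBs, hBc, hBsol, ?_⟩, ?_⟩
    · rw [Over.comp_left]; infer_instance
    · intro B' _ i' _ f' hic' hsm' hc' hs' hf'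
      haveI : IsClosedImmersion (i' ≫ τ).left := by rw [Over.comp_left]; haveI := hic'; infer_instance
      exact hB'.2.2.2.2.2 B' (i' ≫ τ) f' inferInstance hsm' hc' hs'
        (by rw [← Category.assoc, hf', Category.assoc, hστ, Category.comp_id])
    · rw [hf, Category.assoc, hσ, Flag27.comp_conjBy']
  · rintro ⟨B, _, b, f, hB, hf⟩
    obtain ⟨Q, _, q, hq, hQs, hQq, hqf, hqs, -, hker⟩ := Chev24.exists_quot i hN
    haveI := hq; haveI := hQs; haveI := hQq; haveI := hqf; haveI := hqs
    haveI : IsProper Q.hom := Chev24.isProper_quotient i hNmax q hker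
    exact isProper_of_uc' (uc_aux i q hker hB f h hf) a o hX


end Groth.Agent.S11414
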