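import Groth.Statements.S11415
import Groth.Agent.Lib.TorusGenFree16

set_option autoImplicit false
universe u
open CategoryTheory MonoidalCategory CartesianMonoidalCategory MonObj GrpObj AlgebraicGeometry CategoryTheory.Limits
open AlgGrp

namespace Groth.Agent.S11415

/-- Over an algebraically closed field k, let T be a torus (a k-group scheme isomorphic to the
diagonalizable group of ℤ^r for some r) acting on a variety X (an integral, separated k-scheme of
finite type), faithfully in the scheme-theoretic sense: every point of T with values in a k-scheme S
which acts as the identity on X × S is the identity. Then there is a dense open subset U of X such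
that for every rational point x of X in U the isotropy subgroup scheme of x is trivial: every
S-valued point of T fixing x is the identity. -/
theorem result (k : Type u) [Field k] [IsAlgClosed k]
    (T X : Over (Spec (CommRingCat.of k))) [GrpObj T] (r : ℕ) (hT : Red.IsSplitTorusWith (Fin r → ℤ) T)
    [LocallyOfFiniteType X.hom] [QuasiCompact X.hom] [IsSeparated X.hom] [IsIntegral X.left]
    (a : AlgGrp.Action T X)
    (hfaith : ∀ (S : Over (Spec (CommRingCat.of k))) (g : S ⟶ T),
      (∀ (S' : Over (Spec (CommRingCat.of k))) (s : S' ⟶ S) (x : S' ⟶ X), lift (s ≫ g) x ≫ a.act = x) → g = 1) :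
    ∃ U : X.left.Opens, Dense (U : Set ↥X.left) ∧
      ∀ x : 𝟙_ (Over (Spec (CommRingCat.of k))) ⟶ X, x.left (IsLocalRing.closedPoint k) ∈ U →
        ∀ (S : Over (Spec (CommRingCat.of k))) (g : S ⟶ T), lift g (toUnit S ≫ x) ≫ a.act = toUnit S ≫ x → g = 1 := by
  obtain ⟨e⟩ := hT
  exact GrothLib.TorusGenFree16.generic_free e a (AddEquiv.refl _) hfaith


end Groth.Agent.S11415
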