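import Groth.Statements.S11416
import Groth.Agent.Lib.Repr.GLHom
import Groth.Agent.Lib.MonoHom.FiniteKernel
-- import your own Groth.Agent.* helpers here

set_option autoImplicit false
universe u
open CategoryTheory MonoidalCategory CartesianMonoidalCategory MonObj GrpObj AlgebraicGeometry CategoryTheory.Limits
open AlgGrp

namespace Groth.Agent.S11416

/-- Over an algebraically closed field k, let G be an algebraic group (a smooth k-group scheme of finite
type) and M a rational G-module, not necessarily finite-dimensional: a k-vector space with a
G-module structure (points of G with values in a k-algebra B act B-linearly on B ⊗ M, naturally in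
B) such that every vector lies in a finite-dimensional subspace N with B ⊗ N stable under all
B-points of G. If the representation is faithful, in the sense that every rational point of G acting
as the identity on M is the identity element, then G is affine. -/
theorem result (k : Type u) [Field k] [IsAlgClosed k]
    (G : Over (Spec (CommRingCat.of k))) [GrpObj G] [Smooth G.hom] [QuasiCompact G.hom]
    (M : Type u) [AddCommGroup M] [Module k M] (m : VecGrp.GMod G M)
    (hlf : ∀ v : M, ∃ N : Submodule k M, v ∈ N ∧ Module.Finite k ↥N ∧
      ∀ (B : Type u) [CommRing B] [Algebra k B] (g : VecGrp.pt k B ⟶ G) (x : VecGrp.W k M B),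
        x ∈ Submodule.baseChange B N → m.ρ B g x ∈ Submodule.baseChange B N)
    (hfaith : ∀ g : VecGrp.pt k k ⟶ G, m.ρ k g = 1 → g = 1) :
    IsAffine G.left := by
  obtain ⟨N, ρ, hρm, hρ⟩ := GrothLib.Repr.exists_hom_detect (fun _ : PUnit.{u+1} => m)
  haveI : LocallyOfFiniteType (GrothLib.Repr.GLsch k N).hom :=
    (HasRingHomProperty.Spec_iff (P := @LocallyOfFiniteType)
      (φ := CommRingCat.ofHom (algebraMap k (CoordGrp.GLn N k)))).2
      (RingHom.finiteType_algebraMap.2 (GrothLib.Repr.finiteType_GLn N))
  haveI : IsAffine (GrothLib.Repr.GLsch k N).left :=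
    inferInstanceAs (IsAffine (Spec (CommRingCat.of (CoordGrp.GLn N k))))
  haveI : IsFinite ρ.left := GrothLib.MonoHom.isFinite_of_pts ρ fun g hg => by
    refine hfaith g (LinearEquiv.ext fun y => ?_)
    have h := (hρ k g).1 hg PUnit.unit
    induction y using TensorProduct.induction_on with
    | zero => simp
    | tmul r x =>
      rw [show r ⊗ₜ[k] x = r • ((1 : k) ⊗ₜ[k] x) by rw [TensorProduct.smul_tmul', smul_eq_mul, _root_.mul_one],
        LinearEquiv.map_smul]
      exact congrArg (r • ·) (h x)
    | add c d hc hd => simp only [map_add, hc, hd]
  exact isAffine_of_isAffineHom ρ.left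


end Groth.Agent.S11416
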