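import Groth.Statements.S11418
import Groth.Prelude.Def_ChGrp
-- import your own Groth.Agent.* helpers here

set_option autoImplicit false
universe u
open CategoryTheory MonoidalCategory CartesianMonoidalCategory MonObj GrpObj AlgebraicGeometry CategoryTheory.Limits
open AlgGrp

namespace Groth.Agent.S11418

/-- Over an algebraically closed field k, let G be an affine algebraic group (smooth affine k-group
scheme of finite type) and π : X → Y a principal G-bundle of k-schemes of finite type: G acts on X,
π is G-invariant, faithfully flat, and the square formed by the action, the second projection G × X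
→ X and π is cartesian. Then the map θ sending a G-equivariant morphism f : X → G (for the
conjugation action on G, i.e. f(g·x) = g f(x) g⁻¹ on points) to the automorphism x ↦ f(x)·x is a
bijection onto the bundle automorphisms: every G-equivariant automorphism φ of X with π ∘ φ = π
equals θ(f) for exactly one such f. -/
theorem result (k : Type u) [Field k] [IsAlgClosed k]
    (G X Y : Over (Spec (CommRingCat.of k))) [GrpObj G] [Smooth G.hom] [QuasiCompact G.hom] [IsAffine G.left]
    [LocallyOfFiniteType X.hom] [QuasiCompact X.hom] [LocallyOfFiniteType Y.hom] [QuasiCompact Y.hom]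
    (a : AlgGrp.Action G X) (π : X ⟶ Y) (hinv : a.act ≫ π = snd G X ≫ π) [Flat π.left] [Surjective π.left]
    (hcart : IsPullback (snd G X) a.act π π)
    (φ : X ≅ X) (hφ : φ.hom ≫ π = π) (hφeq : (G ◁ φ.hom) ≫ a.act = a.act ≫ φ.hom) :
    ∃! f : X ⟶ G, (∀ (S : Over (Spec (CommRingCat.of k))) (g : S ⟶ G) (x : S ⟶ X),
        lift g x ≫ a.act ≫ f = g * (x ≫ f) * g⁻¹) ∧ φ.hom = lift f (𝟙 X) ≫ a.act := by
  let L : X ⟶ G ⊗ X := hcart.lift (𝟙 X) φ.hom (by rw [hφ, Category.id_comp])
  have hL1 : L ≫ snd G X = 𝟙 X := hcart.lift_fst _ _ _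
  have hL2 : L ≫ a.act = φ.hom := hcart.lift_snd _ _ _
  have hLf : lift (L ≫ fst G X) (𝟙 X) = L := by
    apply CartesianMonoidalCategory.hom_ext
    · simp
    · simp [hL1]
  have hpt : ∀ {S : Over (Spec (CommRingCat.of k))} (x : S ⟶ X),
      lift (x ≫ L ≫ fst G X) x ≫ a.act = x ≫ φ.hom := by
    intro S x
    have h1 : lift (x ≫ L ≫ fst G X) x = x ≫ L := by
      rw [← hLf, comp_lift]; simp
    rw [h1, Category.assoc, hL2]
  refine ⟨L ≫ fst G X, ⟨fun S g x => ?_, ?_⟩, fun f hf => ?_⟩
  · have h : lift ((lift g x ≫ a.act) ≫ L ≫ fst G X) (lift g x ≫ a.act)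
        = lift (g * (x ≫ L ≫ fst G X) * g⁻¹) (lift g x ≫ a.act) := by
      apply hcart.hom_ext
      · simp
      · rw [hpt, AlgGrp.Action.lift_mul_act, ← AlgGrp.Action.lift_mul_act a g⁻¹ g, inv_mul_cancel,
          AlgGrp.Action.lift_one_act, AlgGrp.Action.lift_mul_act, hpt, Category.assoc, ← hφeq, ← Category.assoc, lift_whiskerLeft]
    simpa using congrArg (· ≫ fst G X) h
  · rw [hLf, hL2]
  · have h : lift f (𝟙 X) = L := by
      apply hcart.hom_ext
      · simp [hL1]
      · rw [hL2, hf.2]
    rw [← h, lift_fst]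

end Groth.Agent.S11418
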