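import Groth.Statements.S11419
import Groth.Agent.Lib.SolvMax16.Main

set_option autoImplicit false
universe u
open CategoryTheory MonoidalCategory CartesianMonoidalCategory MonObj GrpObj AlgebraicGeometry CategoryTheory.Limits
open AlgGrp

namespace Groth.Agent.S11419

/-- Over an algebraically closed field k, let G be a connected algebraic group (smooth k-group scheme of
finite type), let i : N → G be its largest connected affine normal algebraic subgroup G_aff (a
homomorphism and closed immersion from a smooth, connected, affine k-group scheme, normal in G,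
through which every other such subgroup factors), let j : M → G be its largest anti-affine subgroup
scheme G_ant (a homomorphism and closed immersion from a k-group scheme M whose only global
functions are the constants, through which every other such subgroup scheme factors), and let h : H
→ G be a maximal connected solvable algebraic subgroup (maximal among smooth, connected, solvable
closed subgroup schemes). Then H contains G_ant; there is a Borel subgroup B of G_aff contained in H
with H = B · G_ant (the multiplication B × G_ant → H is surjective); and every other maximal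
connected solvable algebraic subgroup of G is conjugate to H by a rational point of G. (The
published statement also identifies B with the scheme-theoretic intersection of G_aff and H, says H
is its own set-theoretic normalizer, and gives G/H ≅ G_aff/B; those clauses are not stated here.) -/
theorem result (k : Type u) [Field k] [IsAlgClosed k]
    (G : Over (Spec (CommRingCat.of k))) [GrpObj G] [Smooth G.hom] [QuasiCompact G.hom] [ConnectedSpace ↥G.left]
    (N : Over (Spec (CommRingCat.of k))) [GrpObj N] (i : N ⟶ G) [IsMonHom i] [IsClosedImmersion i.left]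
    [Smooth N.hom] [ConnectedSpace ↥N.left] [IsAffine N.left] (hN : AlgGrp.IsNormalHom i)
    (hNmax : ∀ (N' : Over (Spec (CommRingCat.of k))) [GrpObj N'] (i' : N' ⟶ G) [IsMonHom i'] [IsClosedImmersion i'.left]
      [Smooth N'.hom] [ConnectedSpace ↥N'.left] [IsAffine N'.left], AlgGrp.IsNormalHom i' → ∃ f : N' ⟶ N, f ≫ i = i')
    (M : Over (Spec (CommRingCat.of k))) [GrpObj M] (j : M ⟶ G) [IsMonHom j] [IsClosedImmersion j.left]
    (hM : Function.Bijective ((Scheme.ΓSpecIso (CommRingCat.of k)).inv ≫ M.hom.appTop).hom)
    (hMmax : ∀ (M' : Over (Spec (CommRingCat.of k))) [GrpObj M'] (j' : M' ⟶ G) [IsMonHom j'] [IsClosedImmersion j'.left],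
      Function.Bijective ((Scheme.ΓSpecIso (CommRingCat.of k)).inv ≫ M'.hom.appTop).hom → ∃ f : M' ⟶ M, f ≫ j = j')
    (H : Over (Spec (CommRingCat.of k))) [GrpObj H] (h : H ⟶ G) (hH : Red.IsBorelOver k h) :
    (∃ f : M ⟶ H, f ≫ h = j) ∧
    (∃ (B : Over (Spec (CommRingCat.of k))) (_ : GrpObj B) (b : B ⟶ N) (f : B ⟶ H), Red.IsBorelOver k b ∧ f ≫ h = b ≫ i ∧
        ∀ f' : M ⟶ H, f' ≫ h = j → Surjective ((f ⊗ₘ f') ≫ μ[H]).left) ∧
    (∀ (H' : Over (Spec (CommRingCat.of k))) [GrpObj H'] (h' : H' ⟶ G), Red.IsBorelOver k h' →
        ∃ (g : 𝟙_ (Over (Spec (CommRingCat.of k))) ⟶ G) (e : H' ≅ H), e.hom ≫ h = AGF.conjBy g h') := by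
  exact GrothLib.SolvMax16.solvMax_structure i hN hNmax j hM hMmax h hH


end Groth.Agent.S11419
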