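import Groth.Statements.S11420
import Groth.Agent.Lib.AntiAffine.RigidityMain
import Groth.Agent.Lib.Cube.Generic
import Groth.Agent.Lib.Cube.AmpleCrit
import Groth.Agent.Lib.SquareOpen.Curves
-- import your own Groth.Agent.* helpers here

set_option autoImplicit false
universe u
open CategoryTheory MonoidalCategory CartesianMonoidalCategory MonObj GrpObj AlgebraicGeometry CategoryTheory.Limits
open AlgGrp

namespace Groth.Agent.S11420

open GrothLib in
theorem key {k : Type u} [Field k] [IsAlgClosed k] {G P Q : Over (Spec (CommRingCat.of k))} [GrpObj G]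
    [LocallyOfFiniteType G.hom] [ConnectedSpace ↥G.left]
    [IsProper P.hom] [IsIntegral P.left] [IsProper Q.hom] [IsIntegral Q.left]
    (f : Q ⊗ (G ⊗ P) ⟶ P) (p₀ : 𝟙_ (Over (Spec (CommRingCat.of k))) ⟶ P)
    (q₀ : 𝟙_ (Over (Spec (CommRingCat.of k))) ⟶ Q)
    (hf : (Q ◁ lift η[G] p₀) ≫ f = toUnit _ ≫ lift q₀ (lift η[G] p₀) ≫ f) :
    f = snd Q (G ⊗ P) ≫ AntiAffine.slice q₀ (G ⊗ P) ≫ f := by
  haveI := Cube.geometricallyIntegral_of_isIntegral P.hom
  haveI := Cube.geometricallyIntegral_of_isIntegral Q.hom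
  haveI : GeometricallyConnected P.hom := ⟨fun K _ y Z a b h => by
    haveI := GeometricallyIrreducible.geometrically_irreducibleSpace (f := P.hom) y a b h
    infer_instance⟩
  haveI : LocallyOfFinitePresentation P.hom := inferInstance
  haveI : IsLocallyNoetherian G.left := LocallyOfFiniteType.isLocallyNoetherian G.hom
  haveI : LocallyOfFiniteType (G ⊗ P).hom :=
    inferInstanceAs (LocallyOfFiniteType (pullback.fst G.hom P.hom ≫ G.hom))
  haveI : IsLocallyNoetherian (G ⊗ P).left := LocallyOfFiniteType.isLocallyNoetherian (G ⊗ P).hom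
  haveI : ConnectedSpace ↥(G ⊗ P).left := inferInstanceAs (ConnectedSpace ↥(pullback G.hom P.hom))
  haveI : PreconnectedSpace ↥(G ⊗ P).left := inferInstance
  exact AntiAffine.eq_snd_slice (Cube.isAntiAffine_of_proper Q q₀) q₀ (lift η[G] p₀) f hf

/-- An action which is compatible with a retraction descends along it. -/
theorem descend {k : Type u} [Field k] {G W P : Over (Spec (CommRingCat.of k))} [GrpObj G]
    (a : AlgGrp.Action G W) (p : W ⟶ P) (σ : P ⟶ W) (hσ : σ ≫ p = 𝟙 P)
    (h : a.act ≫ p = (G ◁ p) ≫ (G ◁ σ) ≫ a.act ≫ p) :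
    ∃ b : AlgGrp.Action G P, b.act = (G ◁ σ) ≫ a.act ≫ p := by
  refine ⟨⟨(G ◁ σ) ≫ a.act ≫ p, ?_, ?_⟩, rfl⟩
  · rw [← whisker_exchange_assoc, reassoc_of% a.one_act, leftUnitor_naturality_assoc, hσ,
      Category.comp_id]
  · rw [← whisker_exchange_assoc, reassoc_of% a.mul_act]
    conv_lhs => rw [h]
    simp only [whiskerLeft_comp, Category.assoc, associator_naturality_right_assoc]

theorem one_act' {k : Type u} [Field k] {G W : Over (Spec (CommRingCat.of k))} [GrpObj G]
    (a : AlgGrp.Action G W) {T : Over (Spec (CommRingCat.of k))} (p : T ⟶ W) :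
    lift (toUnit T ≫ η[G]) p ≫ a.act = p := by
  have h := congrArg (lift (toUnit T) p ≫ ·) a.one_act
  simpa [lift_whiskerRight_assoc] using h


/-- Over an algebraically closed field k, let X and Y be complete varieties (proper, integral, separated
k-schemes of finite type) and let a connected k-group scheme of finite type G act on X × Y. Then
there are unique actions of G on X and on Y such that the given action is the product action g·(x,
y) = (g·x, g·y). (This is the form, for actions of connected group schemes, of the identification of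
the neutral component of the automorphism group scheme of X × Y with the product of those of X and
Y; the representability of these group schemes is not asserted here.) -/
theorem result (k : Type u) [Field k] [IsAlgClosed k]
    (G X Y : Over (Spec (CommRingCat.of k))) [GrpObj G] [LocallyOfFiniteType G.hom] [QuasiCompact G.hom] [ConnectedSpace ↥G.left]
    [IsProper X.hom] [IsIntegral X.left]
    [IsProper Y.hom] [IsIntegral Y.left]
    (a : AlgGrp.Action G (X ⊗ Y)) :
    ∃ (b : AlgGrp.Action G X) (c : AlgGrp.Action G Y),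
      a.act = lift ((G ◁ fst X Y) ≫ b.act) ((G ◁ snd X Y) ≫ c.act) ∧
      ∀ (b' : AlgGrp.Action G X) (c' : AlgGrp.Action G Y),
        a.act = lift ((G ◁ fst X Y) ≫ b'.act) ((G ◁ snd X Y) ≫ c'.act) → b' = b ∧ c' = c := by
  classical
  haveI : Nonempty ↥X.left := inferInstance
  haveI : Nonempty ↥Y.left := inferInstance
  obtain ⟨x₀⟩ := GrothLib.Cube.exists_point X
  obtain ⟨y₀⟩ := GrothLib.Cube.exists_point Y
  have h₁ := key (G := G) (P := X) (Q := Y)
    (lift (snd Y (G ⊗ X) ≫ fst G X) (lift (snd Y (G ⊗ X) ≫ snd G X) (fst Y (G ⊗ X))) ≫ a.act ≫ fst X Y)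
    x₀ y₀ ?_
  have h₂ := key (G := G) (P := Y) (Q := X)
    (lift (snd X (G ⊗ Y) ≫ fst G Y) (lift (fst X (G ⊗ Y)) (snd X (G ⊗ Y) ≫ snd G Y)) ≫ a.act ≫ snd X Y)
    y₀ x₀ ?_
  · have e₁ := congrArg (lift (snd G (X ⊗ Y) ≫ snd X Y) (lift (fst G _) (snd G (X ⊗ Y) ≫ fst X Y)) ≫ ·) h₁
    have e₂ := congrArg (lift (snd G (X ⊗ Y) ≫ fst X Y) (lift (fst G _) (snd G (X ⊗ Y) ≫ snd X Y)) ≫ ·) h₂
    let σX : X ⟶ X ⊗ Y := lift (𝟙 X) (toUnit X ≫ y₀)
    let σY : Y ⟶ X ⊗ Y := lift (toUnit Y ≫ x₀) (𝟙 Y)
    have hX : a.act ≫ fst X Y = (G ◁ fst X Y) ≫ (G ◁ σX) ≫ a.act ≫ fst X Y := by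
      simp [GrothLib.AntiAffine.slice, σX, comp_lift_assoc, comp_lift] at e₁ ⊢
      conv_lhs => rw [e₁]
      simp only [← Category.assoc]
      congr 2
      ext <;> simp
    have hY : a.act ≫ snd X Y = (G ◁ snd X Y) ≫ (G ◁ σY) ≫ a.act ≫ snd X Y := by
      simp [GrothLib.AntiAffine.slice, σY, comp_lift_assoc, comp_lift] at e₂ ⊢
      conv_lhs => rw [e₂]
      simp only [← Category.assoc]
      congr 2
      ext <;> simp
    obtain ⟨b, hb⟩ := descend a (fst X Y) σX (lift_fst _ _) hX
    obtain ⟨c, hc⟩ := descend a (snd X Y) σY (lift_snd _ _) hY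
    refine ⟨b, c, CartesianMonoidalCategory.hom_ext _ _ ?_ ?_, fun b' c' h' => ⟨?_, ?_⟩⟩
    · rw [lift_fst, hb]
      exact hX
    · rw [lift_snd, hc]
      exact hY
    · have : b'.act = b.act := by
        rw [hb, h', lift_fst, ← whiskerLeft_comp_assoc, lift_fst, whiskerLeft_id, Category.id_comp]
      cases b; cases b'; congr
    · have : c'.act = c.act := by
        rw [hc, h', lift_snd, ← whiskerLeft_comp_assoc, lift_snd, whiskerLeft_id, Category.id_comp]
      cases c; cases c'; congr
  all_goals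
    simp [comp_lift_assoc, comp_lift, reassoc_of% (one_act' a), toUnit_unique (snd X (𝟙_ _)) (toUnit _),
      toUnit_unique (snd Y (𝟙_ _)) (toUnit _)]

end Groth.Agent.S11420
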