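import Groth.Statements.S11421
import Groth.Agent.Lib.AntiAffine.Hom
import Mathlib.AlgebraicGeometry.AlgClosed.Basic
import Mathlib.AlgebraicGeometry.Morphisms.Finite
import Mathlib.AlgebraicGeometry.Noetherian
-- import your own Groth.Agent.* helpers here

set_option autoImplicit false
universe u
open CategoryTheory MonoidalCategory CartesianMonoidalCategory MonObj GrpObj AlgebraicGeometry CategoryTheory.Limits
open AlgGrp

namespace Groth.Agent.S11421

/-- Over an algebraically closed field k, let G be an algebraic group (smooth k-group scheme of finite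
type) whose only global functions are the constants, H a connected algebraic group, S a connected
k-scheme of finite type and f : G × S → H a morphism of k-schemes. Then there are a unique
k-morphism φ : S → H and a unique homomorphism ψ : G → H with f(g, s) = φ(s) · ψ(g) on points. (This
is the decomposition, over a connected base, behind the identification of the functor of morphisms
from G to H with H × Hom_gp(G, H); the published statement is the equivalence of representability of
that functor with anti-affineness of G, whose converse direction is not stated here.) -/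
theorem result (k : Type u) [Field k] [IsAlgClosed k]
    (G H S : Over (Spec (CommRingCat.of k))) [GrpObj G] [Smooth G.hom] [QuasiCompact G.hom]
    (hG : Function.Bijective ((Scheme.ΓSpecIso (CommRingCat.of k)).inv ≫ G.hom.appTop).hom)
    [GrpObj H] [Smooth H.hom] [QuasiCompact H.hom] [ConnectedSpace ↥H.left]
    [LocallyOfFiniteType S.hom] [QuasiCompact S.hom] [ConnectedSpace ↥S.left]
    (f : G ⊗ S ⟶ H) :
    ∃ (φ : S ⟶ H) (ψ : G ⟶ H), IsMonHom ψ ∧ f = (snd G S ≫ φ) * (fst G S ≫ ψ) ∧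
      ∀ (φ' : S ⟶ H) (ψ' : G ⟶ H), IsMonHom ψ' → f = (snd G S ≫ φ') * (fst G S ≫ ψ') → φ' = φ ∧ ψ' = ψ := by
  have : IsSeparated G.hom := GrothLib.GrpSchField.isSeparated G
  have : IsSeparated H.hom := GrothLib.GrpSchField.isSeparated H
  have : IsLocallyNoetherian S.left := LocallyOfFiniteType.isLocallyNoetherian S.hom
  have : JacobsonSpace S.left := LocallyOfFiniteType.jacobsonSpace S.hom
  obtain ⟨p, -, hp⟩ := nonempty_inter_closedPoints (X := S.left) (Z := Set.univ) Set.univ_nonempty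
    isClosed_univ.isLocallyClosed
  let s₀ : 𝟙_ (Over (Spec (CommRingCat.of k))) ⟶ S :=
    Over.homMk (pointOfClosedPoint S.hom p hp) (pointOfClosedPoint_comp S.hom p hp)
  let φ : S ⟶ H := lift (toUnit S ≫ η[G]) (𝟙 S) ≫ f
  let ψ : G ⟶ H := (toUnit G ≫ s₀ ≫ φ)⁻¹ * (lift (𝟙 G) (toUnit G ≫ s₀) ≫ f)
  have hs : s₀ ≫ φ = lift η[G] s₀ ≫ f := by
    rw [← Category.assoc, comp_lift, Category.comp_id, ← Category.assoc,
      Subsingleton.elim (s₀ ≫ toUnit S) (𝟙 _), Category.id_comp]
  have hψ1 : η[G] ≫ ψ = η[H] := by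
    rw [MonObj.comp_mul, GrpObj.comp_inv, ← Category.assoc η[G] (lift _ _), comp_lift, Category.comp_id,
      ← Category.assoc η[G] (toUnit G), ← Category.assoc η[G] (toUnit G),
      Subsingleton.elim (η[G] ≫ toUnit G) (𝟙 _), Category.id_comp, Category.id_comp, hs, inv_mul_cancel,
      one_eq_one]
  have hψ : IsMonHom ψ := GrothLib.AntiAffine.IsAntiAffine.isMonHom hG ψ hψ1
  have hone : ∀ (W : Over (Spec (CommRingCat.of k))) (ψ' : G ⟶ H) [IsMonHom ψ'],
      toUnit W ≫ η[G] ≫ ψ' = 1 := fun W ψ' _ => by rw [IsMonHom.one_hom, Hom.one_def]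
  let F : G ⊗ S ⟶ H := (snd G S ≫ φ)⁻¹ * f * (fst G S ≫ ψ)⁻¹
  have hF : ∀ {W : Over (Spec (CommRingCat.of k))} (a : W ⟶ G) (b : W ⟶ S),
      lift a b ≫ F = (b ≫ φ)⁻¹ * (lift a b ≫ f) * (a ≫ ψ)⁻¹ := fun a b => by
    rw [MonObj.comp_mul, MonObj.comp_mul, GrpObj.comp_inv, GrpObj.comp_inv, lift_snd_assoc, lift_fst_assoc]
  have hl : lift (toUnit S ≫ η[G]) (𝟙 S) ≫ F = 1 := by
    rw [hF, Category.id_comp, inv_mul_cancel, _root_.one_mul, Category.assoc, hone, inv_one]
  have key := GrothLib.AntiAffine.eq_snd_slice hG η[G] s₀ F (by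
    have e : (G ◁ s₀) = lift (fst G (𝟙_ _)) (toUnit _ ≫ s₀) := by
      ext1
      · simp
      · rw [whiskerLeft_snd, lift_snd]
        congr 1
        exact Subsingleton.elim _ _
    have e2 : toUnit (G ⊗ 𝟙_ _) = fst G (𝟙_ _) ≫ toUnit G := Subsingleton.elim _ _
    rw [e, hF, MonObj.comp_mul, GrpObj.comp_inv]
    have e3 : fst G (𝟙_ _) ≫ lift (𝟙 G) (toUnit G ≫ s₀) ≫ f = lift (fst G (𝟙_ _)) (toUnit _ ≫ s₀) ≫ f := by
      rw [← Category.assoc, comp_lift, Category.comp_id, ← Category.assoc, ← e2]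
    rw [_root_.mul_inv_rev, _root_.inv_inv, ← Category.assoc (fst G (𝟙_ _)) (toUnit G), ← e2, e3]
    have e4 : lift η[G] s₀ ≫ F = 1 := by
      rw [hF, hs, inv_mul_cancel, hψ1, one_eq_one, _root_.one_mul, inv_one]
    rw [e4, MonObj.comp_one, Category.assoc, _root_.mul_assoc, mul_inv_cancel_left, inv_mul_cancel])
  rw [hl, MonObj.comp_one, mul_inv_eq_one, inv_mul_eq_iff_eq_mul] at key
  refine ⟨φ, ψ, hψ, key, fun φ' ψ' hψ' h => ?_⟩
  have hφ : φ' = φ := by
    show φ' = lift (toUnit S ≫ η[G]) (𝟙 S) ≫ f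
    rw [h, MonObj.comp_mul, lift_snd_assoc, lift_fst_assoc, Category.id_comp, Category.assoc, hone, _root_.mul_one]
  refine ⟨hφ, ?_⟩
  have h2 := h.symm.trans key
  rw [hφ] at h2
  have h3 := congrArg (lift (𝟙 G) (toUnit G ≫ s₀) ≫ ·) (mul_left_cancel h2)
  simpa only [lift_fst_assoc, Category.id_comp] using h3


end Groth.Agent.S11421
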