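import Groth.Statements.S11423
import Groth.Agent.Lib.AlbTors16.Main

set_option autoImplicit false
universe u
open CategoryTheory MonoidalCategory CartesianMonoidalCategory MonObj GrpObj AlgebraicGeometry CategoryTheory.Limits
open AlgGrp

namespace Groth.Agent.S11423

/-- Over an algebraically closed field k, let G be a connected affine algebraic group (smooth, affine,
connected k-group scheme of finite type), A an abelian variety (proper, smooth, connected k-group
scheme) and π : X → A a principal G-bundle of k-schemes of finite type (G acts on X, π is
G-invariant and faithfully flat, and the square formed by the action, the second projection and π is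
cartesian). Suppose π is trivialized by an anti-affine extension of A: there are an algebraic group
𝒢 whose only global functions are the constants, a flat surjective homomorphism φ : 𝒢 → A with
affine kernel, and a morphism σ : 𝒢 → X with π ∘ σ = φ (a section of the pulled-back bundle). Then π
is homogeneous: for every rational point a of A there is a G-equivariant automorphism of X over the
translation of A by a. (The published statement is the equivalence; only this direction is stated
here.) -/
theorem result (k : Type u) [Field k] [IsAlgClosed k]
    (G X A : Over (Spec (CommRingCat.of k))) [GrpObj G] [Smooth G.hom] [QuasiCompact G.hom] [IsAffine G.left] [ConnectedSpace ↥G.left]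
    [LocallyOfFiniteType X.hom] [QuasiCompact X.hom]
    [GrpObj A] [IsProper A.hom] [Smooth A.hom] [ConnectedSpace ↥A.left]
    (a : AlgGrp.Action G X) (π : X ⟶ A) (hinv : a.act ≫ π = snd G X ≫ π) [Flat π.left] [Surjective π.left]
    (hcart : IsPullback (snd G X) a.act π π)
    (E : Over (Spec (CommRingCat.of k))) [GrpObj E] [Smooth E.hom] [QuasiCompact E.hom]
    (hE : Function.Bijective ((Scheme.ΓSpecIso (CommRingCat.of k)).inv ≫ E.hom.appTop).hom)
    (φ : E ⟶ A) [IsMonHom φ] [Flat φ.left] [Surjective φ.left]
    (Hk : Over (Spec (CommRingCat.of k))) [GrpObj Hk] (h : Hk ⟶ E) [IsMonHom h] (hk : AlgGrp.IsKernel h φ) [IsAffine Hk.left]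
    (σ : E ⟶ X) (hσ : σ ≫ π = φ)
    (t : 𝟙_ (Over (Spec (CommRingCat.of k))) ⟶ A) :
    ∃ ψ : X ≅ X, (G ◁ ψ.hom) ≫ a.act = a.act ≫ ψ.hom ∧
      ψ.hom ≫ π = π ≫ (lift (𝟙 A) (toUnit A ≫ t) ≫ μ[A]) := by
  exact GrothLib.AlbTors16.exists_translation a π hcart hE φ h hk σ hσ t


end Groth.Agent.S11423
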