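import Groth.Statements.S11424
import Groth.Agent.Lib.EtSite.FpqcDescent
import Groth.Agent.Lib.AssocBundle.Basic
import Groth.Agent.Lib.GrpSchField.Field
-- import your own Groth.Agent.* helpers here

set_option autoImplicit false
universe u
open CategoryTheory MonoidalCategory CartesianMonoidalCategory MonObj GrpObj AlgebraicGeometry CategoryTheory.Limits
open AlgGrp

namespace Groth.Agent.S11424

/-- Over an algebraically closed field k, let G be an algebraic group (a smooth k-group scheme of finite
type), h : H → G a smooth affine closed normal subgroup, and q : G → Q a flat surjective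
homomorphism of k-group schemes of finite type with kernel h (so Q = G/H). Then the quotient
morphism q is affine. (The published statement is the equivalence between affineness of G and of
both H and G/H; this row states that the quotient morphism G → G/H is affine.) -/
theorem result (k : Type u) [Field k] [IsAlgClosed k]
    (G H Q : Over (Spec (CommRingCat.of k))) [GrpObj G] [Smooth G.hom] [QuasiCompact G.hom]
    [GrpObj H] (h : H ⟶ G) [IsMonHom h] [IsClosedImmersion h.left] [Smooth H.hom] [IsAffine H.left]
    [GrpObj Q] [LocallyOfFiniteType Q.hom] [QuasiCompact Q.hom]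
    (q : G ⟶ Q) [IsMonHom q] [Surjective q.left] [Flat q.left] (hk : AlgGrp.IsKernel h q) :
    IsAffineHom q.left := by
  let σ : G ⊗ H ⟶ G := fst G H * (snd G H ≫ h)
  have hhq : h ≫ q = 1 := by rw [Hom.one_def]; exact hk.w
  have hσ : σ ≫ q = fst G H ≫ q := by
    rw [MonObj.mul_comp, Category.assoc, hhq, MonObj.comp_one, _root_.mul_one]
  have hker : ∀ {T : Over (Spec (CommRingCat.of k))} (x : T ⟶ G), x ≫ q = 1 → ∃ n : T ⟶ H, n ≫ h = x := by
    intro T x hx
    exact ⟨hk.lift x (toUnit T) (by rw [hx, Hom.one_def]), hk.lift_fst _ _ _⟩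
  haveI : Mono h := by
    haveI : Mono h.left := inferInstance
    exact Functor.mono_of_mono_map (Over.forget _) (inferInstanceAs (Mono h.left))
  have sq : IsPullback σ (fst G H) q q := by
    refine IsPullback.of_isLimit' ⟨hσ⟩ (PullbackCone.isLimitAux _ (fun c => ?_) ?_ ?_ ?_)
    · exact lift c.snd (hker (c.snd⁻¹ * c.fst) (by
        rw [MonObj.mul_comp, GrpObj.inv_comp, c.condition]; exact _root_.inv_mul_cancel _)).choose
    · intro c
      show lift _ _ ≫ σ = c.fst
      have e := (hker (c.snd⁻¹ * c.fst) (by
        rw [MonObj.mul_comp, GrpObj.inv_comp, c.condition]; exact _root_.inv_mul_cancel _)).choose_spec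
      simp only [σ, MonObj.comp_mul, lift_fst, lift_snd_assoc, e, _root_.mul_inv_cancel_left]
    · intro c
      exact lift_fst _ _
    · intro c m hm
      have e := (hker (c.snd⁻¹ * c.fst) (by
        rw [MonObj.mul_comp, GrpObj.inv_comp, c.condition]; exact _root_.inv_mul_cancel _)).choose_spec
      have key : ∀ m' : c.pt ⟶ G ⊗ H, m' ≫ σ = c.fst → m' ≫ fst G H = c.snd →
          m' = lift c.snd (hker (c.snd⁻¹ * c.fst) (by
            rw [MonObj.mul_comp, GrpObj.inv_comp, c.condition]; exact _root_.inv_mul_cancel _)).choose := by
        intro m' h1 h2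
        apply CartesianMonoidalCategory.hom_ext
        · rw [lift_fst, h2]
        · rw [lift_snd, ← cancel_mono h]
          refine Eq.trans ?_ e.symm
          rw [← h1, ← h2, MonObj.comp_mul, _root_.inv_mul_cancel_left, Category.assoc]
      exact key m (hm WalkingCospan.left) (hm WalkingCospan.right)
  haveI : IsAffineHom H.hom := isAffineHom_of_isAffine H.hom
  haveI : IsSeparated Q.hom := GrothLib.GrpSchField.isSeparated Q
  haveI : QuasiCompact q.left := GrothLib.AssocBundle.quasiCompact_left q
  exact MorphismProperty.of_isPullback_of_descendsAlong (P := @IsAffineHom)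
    (Q := GrothLib.EtSite.fpqcCov) (sq.map (Over.forget _)).flip ⟨⟨‹_›, ‹_›⟩, ‹_›⟩
    (MorphismProperty.pullback_fst (P := @IsAffineHom) G.hom H.hom ‹_› : IsAffineHom (pullback.fst G.hom H.hom))


end Groth.Agent.S11424
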