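import Groth.Statements.S11428
import Groth.Agent.Lib.GITQuot.Orbit

set_option autoImplicit false
universe u
open CategoryTheory MonoidalCategory CartesianMonoidalCategory MonObj GrpObj AlgebraicGeometry Topology
open GIT

namespace Groth.Agent.S11428

/-- If (Y, φ) is a geometric quotient of X by G over S, then Y is separated over S exactly when the
action is separated, i.e. the image of (σ, p₂) : G ×_S X → X ×_S X is closed. -/
theorem result (S : Scheme.{u}) (G X Y : Over S) [GrpObj G]
    (a : AlgGrp.Action G X) (φ : X ⟶ Y) (h : GIT.IsGeomQuot a φ) :
    IsSeparated Y.hom ↔ IsClosed (Set.range (GIT.psi a (𝟙 X)).left.base) := by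
  exact GrothLib.GITQuot.isSeparated_iff h

end Groth.Agent.S11428
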