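import Groth.Statements.S11435
import Groth.Agent.Lib.OrbitProper27.Main
-- import your own Groth.Agent.* helpers here

set_option autoImplicit false
universe u
open CategoryTheory MonoidalCategory CartesianMonoidalCategory MonObj GrpObj AlgebraicGeometry Topology
open GIT

namespace Groth.Agent.S11435

/-- Over an algebraically closed field k, let a group scheme G of finite type act on a scheme X of
finite type and let x be a k-rational point of X. Then the orbit morphism ψ_x : G × Spec k → X ×
Spec k, g ↦ (g · x, pt), is proper if and only if the orbit of x (the image of ψ_x) is closed and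
the stabilizer of x (the fibre of ψ_x over (x, pt)) is proper over k. -/
theorem result (k : Type u) [Field k] [IsAlgClosed k]
    (G X : Over (Spec (CommRingCat.of k))) [GrpObj G] [LocallyOfFiniteType G.hom] [QuasiCompact G.hom]
    [LocallyOfFiniteType X.hom] [QuasiCompact X.hom] (a : AlgGrp.Action G X)
    (x : 𝟙_ (Over (Spec (CommRingCat.of k))) ⟶ X) :
    IsProper (GIT.psi a x).left ↔
      IsClosed (Set.range (GIT.psi a x).left.base) ∧
        IsProper (Limits.pullback.snd (GIT.psi a x).left (lift x (𝟙 (𝟙_ (Over (Spec (CommRingCat.of k)))))).left ≫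
          (𝟙_ (Over (Spec (CommRingCat.of k)))).hom) := by
  let o := 𝟙_ (Over (Spec (CommRingCat.of k)))
  haveI : IsIso (fst X o).left := GrothLib.GrpSchField.isIso_left (ρ_ X).hom
  haveI : IsIso (fst G o).left := GrothLib.GrpSchField.isIso_left (ρ_ G).hom
  haveI : IsIso o.hom := inferInstanceAs (IsIso (𝟙 _))
  have hfac : GIT.psi a x ≫ fst X o = fst G o ≫ a.orbitMap x := by
    rw [GIT.psi, lift_fst, GrothLib.FlatFactor.comp_orbitMap]
    congr 1
    apply CartesianMonoidalCategory.hom_ext <;> simp [o, toUnit_unique (snd G o) (toUnit (G ⊗ o))]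
  have hl : (GIT.psi a x).left ≫ (fst X o).left = (fst G o).left ≫ (a.orbitMap x).left := by
    rw [← Over.comp_left, hfac, Over.comp_left]
  have hpf : IsProper (GIT.psi a x).left ↔ IsProper (a.orbitMap x).left := by
    rw [← MorphismProperty.cancel_right_of_respectsIso @IsProper (GIT.psi a x).left (fst X o).left, hl,
      MorphismProperty.cancel_left_of_respectsIso @IsProper]
  have hstab : IsProper (Limits.pullback.snd (GIT.psi a x).left (lift x (𝟙 o)).left ≫ o.hom) ↔
      IsProper (Limits.pullback.snd (a.orbitMap x).left x.left ≫ o.hom) := by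
    have hg : (lift x (𝟙 o)).left ≫ (fst X o).left = 𝟙 _ ≫ x.left := by
      rw [← Over.comp_left, lift_fst, Category.id_comp]
    let m := Limits.pullback.map (GIT.psi a x).left (lift x (𝟙 o)).left (a.orbitMap x).left x.left
      (fst G o).left (𝟙 _) (fst X o).left hl hg
    have hm : m ≫ Limits.pullback.snd (a.orbitMap x).left x.left =
        Limits.pullback.snd (GIT.psi a x).left (lift x (𝟙 o)).left :=
      (Limits.pullback.lift_snd _ _ _).trans (Category.comp_id _)
    rw [← hm, Category.assoc, MorphismProperty.cancel_left_of_respectsIso @IsProper]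
  have hrange : IsClosed (Set.range (GIT.psi a x).left.base) ↔ IsClosed (Set.range (a.orbitMap x).left.base) := by
    have h1 : Set.range (a.orbitMap x).left.base = Set.range ((fst G o).left ≫ (a.orbitMap x).left).base := by
      rw [Scheme.Hom.comp_base, TopCat.coe_comp, Set.range_comp, Set.range_eq_univ.2 (fst G o).left.surjective,
        Set.image_univ]
    rw [h1, ← hl, Scheme.Hom.comp_base, TopCat.coe_comp, Set.range_comp]
    exact (fst X o).left.homeomorph.isClosed_image.symm
  haveI : IsSeparated o.hom := inferInstance
  rw [hpf, hrange, hstab]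
  refine ⟨fun hp => ⟨(a.orbitMap x).left.isClosedMap.isClosed_range, ?_⟩,
    fun h => GrothLib.OrbitProper27.isProper_orbitMap a x h.1 h.2⟩
  exact MorphismProperty.comp_mem _ _ _ (MorphismProperty.pullback_snd (P := @IsProper) _ _ hp) inferInstance

end Groth.Agent.S11435
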