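import Groth.Statements.S11438
import Groth.Agent.Lib.Rigid27.Basic
-- import your own Groth.Agent.* helpers here

set_option autoImplicit false
universe u
open CategoryTheory MonoidalCategory CartesianMonoidalCategory MonObj GrpObj AlgebraicGeometry Topology
open GIT

namespace Groth.Agent.S11438

/-- Let S be connected and locally Noetherian, G a locally Noetherian group scheme separated over S, X →
S proper and flat with κ(s) → H⁰(X_s, O_{X_s}) bijective for every s, and f, g : X → G morphisms
over S which agree on one fibre X_s. Then there is a section t of G over S with f = (t ∘ p) · g, the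
product taken in the group of X-valued points of G. -/
theorem result (S : Scheme.{u}) [IsLocallyNoetherian S] [ConnectedSpace S]
    (X G : Over S) [GrpObj G] [IsLocallyNoetherian G.left] [IsSeparated G.hom] [IsProper X.hom] [Flat X.hom]
    (h0 : ∀ s : S, Function.Bijective (Limits.pullback.snd X.hom (S.fromSpecResidueField s)).appTop)
    (f g : X ⟶ G) (s : S)
    (hs : Limits.pullback.fst X.hom (S.fromSpecResidueField s) ≫ f.left =
      Limits.pullback.fst X.hom (S.fromSpecResidueField s) ≫ g.left) :
    ∃ t : 𝟙_ (Over S) ⟶ G, f = (toUnit X ≫ t) * g := by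
  haveI := GrothLib.Rigid27.surjective_of_h0 X.hom h0
  haveI := GrothLib.Rigidity.FibrewiseConst.of_bijective X.hom h0
  obtain ⟨k, hk, e⟩ := GrothLib.Rigid27.exists_factor X.hom (𝟙 S) G.hom (f * g⁻¹).left
    (by rw [Over.w, Category.comp_id]) s
    (fun x x' => GrothLib.Rigid27.collapse X G (f * g⁻¹) s (by
      let P := Over.mk (Limits.pullback.fst X.hom (S.fromSpecResidueField s) ≫ X.hom)
      let i : P ⟶ X := Over.homMk (Limits.pullback.fst X.hom (S.fromSpecResidueField s)) rfl
      have h1 : i ≫ f = i ≫ g := Over.OverMorphism.ext hs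
      exact congrArg CommaMorphism.left (show i ≫ (f * g⁻¹) = i ≫ (1 : X ⟶ G) by
        rw [MonObj.comp_mul, GrpObj.comp_inv, h1, mul_inv_cancel, MonObj.comp_one])) x x')
  refine ⟨Over.homMk k hk, ?_⟩
  have e' : f * g⁻¹ = toUnit X ≫ Over.homMk k hk :=
    Over.OverMorphism.ext (by rw [Over.comp_left, GrothLib.Rigidity.toUnit_left, e]; rfl)
  rw [← e', inv_mul_cancel_right]

end Groth.Agent.S11438
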