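import Groth.Statements.S11439
import Groth.Agent.Lib.Rigid27.Basic
-- import your own Groth.Agent.* helpers here

set_option autoImplicit false
universe u
open CategoryTheory MonoidalCategory CartesianMonoidalCategory MonObj GrpObj AlgebraicGeometry Topology
open GIT

namespace Groth.Agent.S11439

/-- Let S be locally Noetherian, G a locally Noetherian group scheme separated over S, X → S proper and
flat with κ(s) → H⁰(X_s, O_{X_s}) bijective for every s, and Y connected, locally Noetherian,
separated over S with a section over S. Then every morphism f : X ×_S Y → G over S factors as f = (g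
∘ p₁) · (h ∘ p₂) with g : X → G and h : Y → G. -/
theorem result (S : Scheme.{u}) [IsLocallyNoetherian S]
    (X Y G : Over S) [GrpObj G] [IsLocallyNoetherian G.left] [IsSeparated G.hom] [IsProper X.hom] [Flat X.hom]
    (h0 : ∀ s : S, Function.Bijective (Limits.pullback.snd X.hom (S.fromSpecResidueField s)).appTop)
    [IsLocallyNoetherian Y.left] [IsSeparated Y.hom] [ConnectedSpace Y.left] (e : 𝟙_ (Over S) ⟶ Y)
    (f : X ⊗ Y ⟶ G) :
    ∃ (g : X ⟶ G) (h : Y ⟶ G), f = (fst X Y ≫ g) * (snd X Y ≫ h) := by
  haveI := GrothLib.Rigid27.surjective_of_h0 X.hom h0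
  haveI := GrothLib.Rigidity.FibrewiseConst.of_bijective X.hom h0
  haveI : IsProper (snd X Y).left := inferInstanceAs (IsProper (Limits.pullback.snd X.hom Y.hom))
  haveI : Flat (snd X Y).left := inferInstanceAs (Flat (Limits.pullback.snd X.hom Y.hom))
  haveI : Surjective (snd X Y).left := inferInstanceAs (Surjective (Limits.pullback.snd X.hom Y.hom))
  haveI : GrothLib.Rigidity.FibrewiseConst (snd X Y).left :=
    inferInstanceAs (GrothLib.Rigidity.FibrewiseConst (Limits.pullback.snd X.hom Y.hom))
  haveI : LocallyOfFinitePresentation (snd X Y).left :=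
    LocallyOfFinitePresentation.iff_locallyOfFiniteType.mpr inferInstance
  let ge : X ⟶ G := lift (𝟙 X) (toUnit X ≫ e) ≫ f
  obtain ⟨p⟩ : Nonempty Y.left := inferInstance
  let y₀ := e.left (Y.hom p)
  let d : X ⊗ Y ⟶ G := (fst X Y ≫ ge)⁻¹ * f
  haveI : IsSeparated (Limits.pullback.snd G.hom Y.hom) := inferInstance
  obtain ⟨k, hk, he⟩ := GrothLib.Rigid27.exists_factor (snd X Y).left (𝟙 Y.left)
    (Limits.pullback.snd G.hom Y.hom) (lift d (snd X Y)).left
    (by
      change (lift d (snd X Y)).left ≫ (snd G Y).left = _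
      rw [← Over.comp_left, lift_snd, Category.comp_id]) y₀ (by
    intro x x' hx hx'
    -- both points come from the fibre over the section
    have key : ∀ z : (X ⊗ Y).left, (snd X Y).left z = y₀ →
        (lift d (snd X Y)).left z = (lift (1 : Y ⟶ G) (𝟙 Y)).left y₀ := by
      intro z hz
      let j : X ⟶ X ⊗ Y := lift (𝟙 X) (toUnit X ≫ e)
      have hj : j ≫ lift d (snd X Y) = (toUnit X ≫ e) ≫ lift (1 : Y ⟶ G) (𝟙 Y) := by
        simp only [comp_lift, j, lift_snd, d, MonObj.comp_mul, GrpObj.comp_inv, lift_fst_assoc,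
          Category.id_comp, ge, inv_mul_cancel, MonObj.comp_one, Category.comp_id]
      have hsq : IsPullback j.left X.hom (snd X Y).left e.left := by
        refine IsPullback.of_right ?_ ?_ (IsPullback.of_hasPullback X.hom Y.hom)
        · have h1 : j.left ≫ Limits.pullback.fst X.hom Y.hom = 𝟙 X.left := by
            change (j ≫ fst X Y).left = _
            rw [lift_fst]; rfl
          rw [h1, show e.left ≫ Y.hom = 𝟙 S from Over.w e]
          exact IsPullback.of_horiz_isIso ⟨by simp⟩
        · rw [← GrothLib.Rigidity.toUnit_left, ← Over.comp_left, ← Over.comp_left, lift_snd]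
      obtain ⟨x₁, hx₁, hx₁'⟩ : ∃ x₁, j.left x₁ = z ∧ X.hom x₁ = Y.hom p := by
        obtain ⟨w, hw, hw'⟩ := Scheme.Pullback.exists_preimage_pullback (f := (snd X Y).left) (g := e.left)
          z (Y.hom p) hz
        refine ⟨hsq.isoPullback.inv w, ?_, ?_⟩
        · rw [← Scheme.Hom.comp_apply, IsPullback.isoPullback_inv_fst, hw]
        · rw [← Scheme.Hom.comp_apply, IsPullback.isoPullback_inv_snd, hw']
      rw [← hx₁, ← Scheme.Hom.comp_apply, ← Over.comp_left, hj, Category.assoc, Over.comp_left, Over.comp_left,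
        Scheme.Hom.comp_apply, Scheme.Hom.comp_apply, GrothLib.Rigidity.toUnit_left, hx₁']
    rw [key x hx, key x' hx'])
  let h : Y ⟶ G := Over.homMk (k ≫ Limits.pullback.fst G.hom Y.hom) (by
    rw [Category.assoc, Limits.pullback.condition , reassoc_of% hk])
  refine ⟨ge, h, ?_⟩
  have hd : d = snd X Y ≫ h := by
    apply Over.OverMorphism.ext
    rw [Over.comp_left]
    change d.left = (snd X Y).left ≫ k ≫ Limits.pullback.fst G.hom Y.hom
    rw [← reassoc_of% he]
    change d.left = (lift d (snd X Y)).left ≫ (fst G Y).left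
    rw [← Over.comp_left, lift_fst]
  rw [← hd, mul_inv_cancel_left]

end Groth.Agent.S11439
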