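import Groth.Statements.S1144
import Groth.Agent.SplitPunct21.Main

set_option autoImplicit false
universe u
open Pi1

namespace Groth.Agent.S1144

open AlgebraicGeometry CategoryTheory CategoryTheory.Limits in
/-- Let A be a local ring whose punctured spectrum U is quasi-compact, R a strict henselization of A
(with A → R a local homomorphism), and U' the base change of U to Spec R (the punctured spectrum of
R); assume U' is connected. If V is a finite etale cover of U whose base change to U' is split, then
V is the restriction of a finite etale cover of Spec A (only the existence of such a cover Y
together with an isomorphism between its restriction to U and V is asserted). -/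
theorem result (A : Type u) [CommRing A] [IsLocalRing A] (R : Type u) [CommRing R] [IsLocalRing R] [Algebra A R] [IsLocalHom (algebraMap A R)] [Hensel.IsStrictHenselization A R]
    [CompactSpace (FEt.puncturedSpec A : Scheme.{u})]
    (hc : ConnectedSpace ↑(pullback (FEt.puncturedSpec A).ι (Spec.map (CommRingCat.ofHom (algebraMap A R)))))
    (V : FEt.Cat (FEt.puncturedSpec A : Scheme.{u}))
    (hV : Pi1.IsSplit ((FEt.restrict (pullback.fst (FEt.puncturedSpec A).ι (Spec.map (CommRingCat.ofHom (algebraMap A R))))).obj V)) :
    ∃ Y : FEt.Cat (Spec (CommRingCat.of A)), Nonempty ((FEt.restrict (FEt.puncturedSpec A).ι).obj Y ≅ V) := by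
  exact Groth.Agent.SplitPunct21.exists_extension R hc V hV

end Groth.Agent.S1144
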