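import Groth.Statements.S11444
import Groth.Agent.Lib.KSix19.SmoothPush

set_option autoImplicit false
universe u
open CategoryTheory MonoidalCategory CartesianMonoidalCategory MonObj GrpObj AlgebraicGeometry Topology
open GIT

namespace Groth.Agent.S11444

/-- Let X → Y → S be morphisms of finite type of Noetherian schemes with Y → S smooth with all fibres of
dimension n and X → S flat. Then X → Y has Tor-dimension at most n. -/
theorem result (S X Y : Scheme.{u}) [IsNoetherian S] [IsNoetherian X] [IsNoetherian Y]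
    (p : X ⟶ S) (q : Y ⟶ S) (f : X ⟶ Y) (hf : f ≫ q = p) [LocallyOfFiniteType f] (n : ℕ)
    [SmoothOfRelativeDimension n q] [Flat p] : DerSch.HasTorDimLE f n := by
  subst hf
  intro x
  obtain ⟨W, hW, U, hU, hy, e, hstd⟩ :=
    SmoothOfRelativeDimension.exists_isStandardSmoothOfRelativeDimension (n := n) (f := q) (f x)
  obtain ⟨g, hg, hge⟩ := hstd.exists_etale_mvPolynomial
  obtain ⟨c⟩ := GrothLib.KSix19.nonempty_stalkCxOver_comp f q x (DerSch.unitCx X)
  have h := GrothLib.KSix19.amp_of_iso c (GrothLib.KSix19.hasTorAmplitudeAt_of_flat (f ≫ q) x)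
  have := GrothLib.KSix19.amp_stalk_smooth q (d := n) (y := f x) ⟨W, U, hW, hU, hy, e, n, g, le_rfl, hg, hge⟩ h
  rw [zero_sub] at this
  exact this

end Groth.Agent.S11444
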