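import Groth.Statements.S11451
import Groth.Agent.Lib.ArtSmooth26.Jets

set_option autoImplicit false
universe u
open DefT

namespace Groth.Agent.S11451

/-- Let k be an algebraically closed field and A a local k-algebra essentially of finite type over k
with residue field k. Then regularity of A as a local ring is equivalent to the following: for every
local k-algebra B' of finite dimension over k, every ideal J of B' of square zero and every
k-algebra homomorphism f : A → B'/J, there is a k-algebra homomorphism g : A → B' lifting f. (Local
k-algebras of finite k-dimension are exactly the local Artin rings finite over k; lifting against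
square-zero kernels is equivalent to lifting against nilpotent ones by induction.) -/
theorem result (k : Type u) [Field k] [IsAlgClosed k]
    (A : Type u) [CommRing A] [IsLocalRing A] [Algebra k A] [Algebra.EssFiniteType k A]
    (hres : Function.Surjective (algebraMap k (IsLocalRing.ResidueField A))) :
    IsRegularLocalRing A ↔
      ∀ (B' : Type u) [CommRing B'] [IsLocalRing B'] [Algebra k B'] [Module.Finite k B']
        (J : Ideal B'), J ^ 2 = ⊥ → ∀ f : A →ₐ[k] B' ⧸ J,
          ∃ g : A →ₐ[k] B', (Ideal.Quotient.mkₐ k J).comp g = f := by
  constructor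
  · intro hA B' _ _ _ _ J hJ f
    haveI := GrothLib.ArtSmooth26.formallySmooth_of_isRegularLocalRing k A hres
    have hn : IsNilpotent J := ⟨2, hJ⟩
    exact ⟨Algebra.FormallySmooth.lift J hn f, Algebra.FormallySmooth.comp_lift J hn f⟩
  · intro h
    haveI : Infinite k := inferInstance
    refine GrothLib.ArtSmooth26.isRegularLocalRing_of_jets k A hres fun l hl φ => ?_
    haveI := GrothLib.ArtSmooth26.isLocalRing_jet (k := k) (l + 1) (by omega)
    haveI := GrothLib.ArtSmooth26.moduleFinite_jet (k := k) (l + 1)
    have hsurj : Function.Surjective (GrothLib.ArtSmooth26.jetMap k (Nat.le_succ l)) := fun z => by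
      obtain ⟨p, rfl⟩ := Ideal.Quotient.mk_surjective z
      exact ⟨Ideal.Quotient.mk _ p, rfl⟩
    let e := Ideal.quotientKerAlgEquivOfSurjective hsurj
    obtain ⟨g, hg⟩ := h (GrothLib.ArtSmooth26.Jet k (l + 1)) _
      (GrothLib.ArtSmooth26.ker_jetMap_sq l hl) (e.symm.toAlgHom.comp φ)
    refine ⟨g, AlgHom.ext fun a => ?_⟩
    have h1 := congrArg e (AlgHom.congr_fun hg a)
    refine Eq.trans ?_ (h1.trans (e.apply_symm_apply (φ a)))
    rfl

end Groth.Agent.S11451
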