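import Groth.Statements.S11452
import Groth.Agent.Lib.AffDef26.Rigid
import Groth.Agent.Lib.CotT.ExalTriv
import Groth.Agent.Lib.Rigidity.Smooth.Curve

set_option autoImplicit false
universe u
open CategoryTheory AlgebraicGeometry
open DefT

namespace Groth.Agent.S11452

/-- Let k be an algebraically closed field, X an affine scheme of finite type over k whose local rings
are all regular, A a local Artin k-algebra with a k-algebra augmentation e : A → k, and g : X' →
Spec A a flat morphism whose fibre over the k-point Spec k → Spec A given by e is X (with its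
structure map to Spec k). Then there is an isomorphism from X' to the trivial deformation X ×_{Spec
k} Spec A compatible with the projections to Spec A. -/
theorem result (k : Type u) [Field k]
    [IsAlgClosed k] (X : Scheme.{u}) (hX : X ⟶ Spec (CommRingCat.of k)) [IsAffine X]
    [LocallyOfFiniteType hX] (hreg : ∀ x : X, IsRegularLocalRing (X.presheaf.stalk x))
    (A : Type u) [CommRing A] [IsLocalRing A] [IsArtinianRing A] [Algebra k A] (e : A →ₐ[k] k)
    (X' : Scheme.{u}) (g : X' ⟶ Spec (CommRingCat.of A)) [Flat g] (i : X ⟶ X')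
    (hsq : IsPullback i hX g (Spec.map (CommRingCat.ofHom e.toRingHom))) :
    ∃ φ : X' ≅ Limits.pullback hX (Spec.map (CommRingCat.ofHom (algebraMap k A))),
      φ.hom ≫ Limits.pullback.snd hX (Spec.map (CommRingCat.ofHom (algebraMap k A))) = g := by
  let B₀ : CommRingCat.{u} := Γ(X, ⊤)
  let α : CommRingCat.of k ⟶ B₀ := Spec.preimage (X.isoSpec.inv ≫ hX)
  have hα : Spec.map α = X.isoSpec.inv ≫ hX := Spec.map_preimage _
  letI : Algebra k B₀ := α.hom.toAlgebra
  haveI : Smooth hX := GrothLib.Rigidity.smooth_of_isRegular hX hreg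
  have hsm : α.hom.Smooth := by
    rw [← HasRingHomProperty.Spec_iff (P := @Smooth), hα]
    infer_instance
  haveI : Algebra.Smooth k B₀ := RingHom.smooth_algebraMap.1 hsm
  have hT : Subsingleton (CotT.T1 (CotT.canon k B₀) B₀) :=
    (GrothLib.CotT.forall_isTrivial_iff_subsingleton_T1 (CotT.canon k B₀)).1
      fun E => GrothLib.CotT.isTrivial_of_formallySmooth E
  let 𝔄 : ArtFun.Art k k := ArtFun.Art.of A e (fun c => ⟨algebraMap k A c, e.commutes c⟩)
  let x₀ := Spec.map (CommRingCat.ofHom (algebraMap k B₀))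
  have hx₀ : x₀ = X.isoSpec.inv ≫ hX := hα
  let ξ : ArtFun.DefSch (Spec (CommRingCat.of B₀)) x₀ 𝔄 :=
    { total := X'
      f := g
      flat := (inferInstance : Flat g)
      i := X.isoSpec.inv ≫ i
      isPullback := hsq.of_iso X.isoSpec (Iso.refl _) (Iso.refl _) (Iso.refl _) (by simp) (by simp [hx₀]) (Category.comp_id g) ((Category.comp_id _).trans (Category.id_comp _).symm) }
  have hx : Flat x₀ := by
    rw [HasRingHomProperty.Spec_iff (P := @Flat)]
    exact RingHom.flat_algebraMap_iff.2 inferInstance
  obtain ⟨ψ⟩ := GrothLib.AffDef.nonempty_iso_trivial hT hx 𝔄 ξ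
  let s := Spec.map (CommRingCat.ofHom (algebraMap k A))
  have sq : IsPullback (Limits.pullback.fst x₀ s ≫ X.isoSpec.inv) (Limits.pullback.snd x₀ s) hX s :=
    (IsPullback.of_hasPullback x₀ s).of_iso (Iso.refl _) X.isoSpec.symm (Iso.refl _) (Iso.refl _)
      (by simp) (by simp) (by simp [hx₀]) (by simp)
  refine ⟨ψ.iso ≪≫ sq.isoPullback, ?_⟩
  rw [Iso.trans_hom, Category.assoc]
  exact (congrArg (fun m => ψ.iso.hom ≫ m) sq.isoPullback_hom_snd).trans ψ.hom_f

end Groth.Agent.S11452
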