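import Groth.Statements.S11453
import Mathlib

set_option autoImplicit false
universe u
open scoped Polynomial
open DefT

namespace Groth.Agent.S11453

noncomputable section
open Polynomial
section
variable {k : Type u} [Field k]

local notation "P" => MvPolynomial (Fin 2) k

/-- `t ↦ t`, `X i ↦ x`, `X j ↦ t`. -/
def ev (i : Fin 2) : Polynomial P →+* Polynomial (Polynomial k) :=
  Polynomial.eval₂RingHom
    (MvPolynomial.eval₂Hom (Polynomial.C.comp Polynomial.C)
      (fun l => if l = i then Polynomial.X else Polynomial.C Polynomial.X))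
    (Polynomial.C Polynomial.X)

/-- A section of `ev`. -/
def sec (i : Fin 2) : Polynomial (Polynomial k) →+* Polynomial P :=
  Polynomial.eval₂RingHom (Polynomial.mapRingHom (algebraMap k P)) (Polynomial.C (MvPolynomial.X i))

variable {i j : Fin 2} (hij : i ≠ j)
include hij

lemma eq_or (l : Fin 2) : l = i ∨ l = j := by omega

lemma sub_sec_mem (p : Polynomial P) :
    p - sec i (ev i p) ∈ Ideal.span {(Polynomial.C (MvPolynomial.X j : P) - Polynomial.X)} := by
  rw [← Ideal.Quotient.eq_zero_iff_mem, map_sub, sub_eq_zero]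
  set q := Ideal.Quotient.mk (Ideal.span {(Polynomial.C (MvPolynomial.X j : P) - Polynomial.X)})
  have hq : q (Polynomial.C (MvPolynomial.X j)) = q Polynomial.X :=
    (Ideal.Quotient.eq).2 (Ideal.mem_span_singleton_self _)
  have : q = (q.comp (sec i)).comp (ev i) := by
    refine Polynomial.ringHom_ext' (MvPolynomial.ringHom_ext (fun c => ?_) (fun l => ?_)) ?_
    · simp [ev, sec]
    · rcases eq_or hij l with rfl | rfl
      · simp [ev, sec]
      · simp [ev, sec, hij.symm, hq]
    · simp [ev, sec]
  exact congrArg (fun g => g p) this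

lemma ev_lin : ev i ((Polynomial.C (MvPolynomial.X j : P) - Polynomial.X)) = 0 := by
  simp [ev, hij.symm]

variable [IsAlgClosed k]

/-- The family `(f) + (y - t)·𝔟`. -/
def famIdeal (j : Fin 2) (f : P) (𝔟 : Ideal P) : Ideal (Polynomial P) :=
  Ideal.span {Polynomial.C f} ⊔ Ideal.span {Polynomial.C (MvPolynomial.X j : P) - Polynomial.X} * 𝔟.map Polynomial.C

omit hij [IsAlgClosed k] in
lemma famIdeal_mem {f : P} {𝔟 : Ideal P} {z : Polynomial P} (hz : z ∈ famIdeal j f 𝔟) :
    ∃ h, ∃ β ∈ 𝔟.map (Polynomial.C : P →+* Polynomial P),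
      z = h * Polynomial.C f + (Polynomial.C (MvPolynomial.X j : P) - Polynomial.X) * β := by
  obtain ⟨a, ha, b, hb', rfl⟩ := Submodule.mem_sup.1 hz
  obtain ⟨h, rfl⟩ := Ideal.mem_span_singleton'.1 ha
  obtain ⟨β, hβ, rfl⟩ := Ideal.mem_span_singleton_mul.1 hb'
  exact ⟨h, β, hβ, rfl⟩

omit [IsAlgClosed k] in
lemma flat_finite (f : P) (𝔟 : Ideal P) [Module.Finite k (P ⧸ 𝔟)] (hfb : f ∈ 𝔟)
    (hFm : (ev i (Polynomial.C f)).Monic) (d : ℕ) (hd1 : 1 ≤ d) (hFd : (ev i (Polynomial.C f)).natDegree = d)
    (Q : Type u) [CommRing Q] [Algebra (Polynomial k) Q] (π : Polynomial P →+* Q) (hπ : Function.Surjective π)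
    (hker : RingHom.ker π = famIdeal j f 𝔟)
    (halg : ∀ q, algebraMap (Polynomial k) Q q = π (Polynomial.mapRingHom (algebraMap k P) q)) :
    Module.Flat (Polynomial k) Q ∧ Module.Finite (Polynomial k) Q := by
  classical
  set F : Polynomial (Polynomial k) := ev i (Polynomial.C f) with hF
  set L : Polynomial P := Polynomial.C (MvPolynomial.X j) - Polynomial.X with hL
  let bB := Module.finBasis k (P ⧸ 𝔟)
  choose u hu using fun l => Ideal.Quotient.mk_surjective (bB l)
  let n := Module.finrank k (P ⧸ 𝔟)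
  let Ψ : ((Fin d → Polynomial k) × (Fin n → Polynomial k)) →ₗ[Polynomial k] Q :=
    ((Fintype.linearCombination (Polynomial k) fun a : Fin d => π (Polynomial.C (MvPolynomial.X i : P) ^ (a : ℕ))).coprod
      (Fintype.linearCombination (Polynomial k) fun l : Fin n => π (L * Polynomial.C (u l))))
  let κ : Polynomial k →+* Polynomial P := Polynomial.mapRingHom (algebraMap k P)
  let A : (Fin d → Polynomial k) → Polynomial P := fun a => ∑ s : Fin d, κ (a s) * Polynomial.C (MvPolynomial.X i : P) ^ (s : ℕ)
  let B : (Fin n → Polynomial k) → Polynomial P := fun b => ∑ l : Fin n, κ (b l) * Polynomial.C (u l)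
  have hsmul : ∀ (q : Polynomial k) (z : Polynomial P),
      q • π z = π (κ q * z) := fun q z => by
    rw [Algebra.smul_def, map_mul, halg]
  have hΨ : ∀ a b, Ψ (a, b) = π (A a + L * B b) := by
    intro a b
    have e1 : π (A a) = ∑ s : Fin d, (a s) • π (Polynomial.C (MvPolynomial.X i : P) ^ (s : ℕ)) := by
      rw [map_sum]
      exact Finset.sum_congr rfl fun s _ => (hsmul _ _).symm
    have e2 : π (L * B b) = ∑ l : Fin n, (b l) • π (L * Polynomial.C (u l)) := by
      rw [Finset.mul_sum, map_sum]
      exact Finset.sum_congr rfl fun l _ => (congrArg π (mul_left_comm _ _ _)).trans (hsmul _ _).symm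
    rw [map_add, e1, e2]
    exact (LinearMap.coprod_apply _ _ _).trans (congrArg₂ (· + ·) (Fintype.linearCombination_apply _ _ _) (Fintype.linearCombination_apply _ _ _))
  have hevκ : ∀ q : Polynomial k, ev i (κ q) = Polynomial.C q := by
    intro q
    have : (ev i).comp κ = Polynomial.C := Polynomial.ringHom_ext (fun c => by simp [ev, κ]) (by simp [ev, κ])
    exact congrArg (fun φ => φ q) this
  have hevA : ∀ a, ev i (A a) = ∑ s : Fin d, Polynomial.C (a s) * Polynomial.X ^ (s : ℕ) := by
    intro a
    simp only [A, map_sum, map_mul, map_pow, hevκ]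
    simp [ev]
  have hcoefB : ∀ b N, Ideal.Quotient.mk 𝔟 ((B b).coeff N) = ∑ l, (b l).coeff N • bB l := by
    intro b N
    simp only [B, Polynomial.finsetSum_coeff, Polynomial.coeff_mul_C, map_sum, map_mul, hu]
    refine Finset.sum_congr rfl fun l _ => ?_
    have e1 : (κ (b l)).coeff N = algebraMap k P ((b l).coeff N) := Polynomial.coeff_map _ _
    rw [e1]
    exact (Algebra.smul_def ((b l).coeff N) (bB l)).symm
  have hbij : Function.Bijective Ψ := by
    constructor
    · rw [injective_iff_map_eq_zero]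
      rintro ⟨a, b⟩ h0
      rw [hΨ, ← RingHom.mem_ker, hker] at h0
      obtain ⟨h, β, hβ, he⟩ := famIdeal_mem h0
      have e1 : ∑ s : Fin d, Polynomial.C (a s) * Polynomial.X ^ (s : ℕ) = ev i h * F := by
        have := congrArg (ev i) he
        simpa [hevA, hL, ev_lin hij, ← hF] using this
      have hdeg : (∑ s : Fin d, Polynomial.C (a s) * (Polynomial.X : Polynomial (Polynomial k)) ^ (s : ℕ)).degree < F.degree := by
        rw [Polynomial.degree_eq_natDegree hFm.ne_zero, hFd]
        exact Polynomial.degree_sum_fin_lt a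
      have hh0 : ev i h = 0 := by
        by_contra hne
        rw [e1] at hdeg
        rw [hFm.degree_mul, Polynomial.degree_eq_natDegree hne, Polynomial.degree_eq_natDegree hFm.ne_zero] at hdeg
        norm_cast at hdeg
        omega
      have ha : a = 0 := by
        funext s
        have h2 := congrArg (fun p => Polynomial.coeff p (s : ℕ)) e1
        rw [hh0, zero_mul] at h2
        simpa [Polynomial.finsetSum_coeff, Polynomial.coeff_C_mul, Polynomial.coeff_X_pow, Fin.val_inj] using h2
      obtain ⟨h', hh'⟩ := Ideal.mem_span_singleton.1 (sub_sec_mem hij h)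
      rw [hh0, map_zero, sub_zero] at hh'
      have hA0 : A a = 0 := by subst ha; simp [A]
      rw [hA0, zero_add, hh'] at he
      have hLne : L ≠ 0 := fun h => by simpa [hL, Polynomial.coeff_C, Polynomial.coeff_X] using congrArg (fun p => Polynomial.coeff p 1) h
      have hB : B b = h' * Polynomial.C f + β := mul_left_cancel₀ hLne (by rw [he]; ring)
      have hb0 : b = 0 := by
        funext l
        ext N
        have hmem : (B b).coeff N ∈ 𝔟 := by
          rw [hB, Polynomial.coeff_add, Polynomial.coeff_mul_C]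
          exact add_mem (Ideal.mul_mem_left _ _ hfb) (Ideal.mem_map_C_iff.1 hβ N)
        have h3 := hcoefB b N
        rw [Ideal.Quotient.eq_zero_iff_mem.2 hmem] at h3
        simpa using Fintype.linearIndependent_iff.1 bB.linearIndependent (fun l => (b l).coeff N) h3.symm l
      rw [ha, hb0]
      rfl
    · intro z
      obtain ⟨p, rfl⟩ := hπ z
      set r := ev i p %ₘ F with hr
      set q := ev i p /ₘ F
      have hqr : r + F * q = ev i p := Polynomial.modByMonic_add_div _ _
      let a : Fin d → Polynomial k := fun s => r.coeff (s : ℕ)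
      have hrd : r.natDegree < d := by
        rw [hr, ← hFd]
        exact Polynomial.natDegree_modByMonic_lt _ hFm (fun h => by rw [h] at hFd; simp at hFd; omega)
      have hra : ∑ s : Fin d, Polynomial.C (a s) * Polynomial.X ^ (s : ℕ) = r := by
        conv_rhs => rw [r.as_sum_range' d hrd, ← Fin.sum_univ_eq_sum_range]
        simp [a, Polynomial.C_mul_X_pow_eq_monomial]
      set p' := p - A a - sec i q * Polynomial.C f with hp'
      have hev0 : ev i p' = 0 := by
        have hes : ∀ w : Polynomial (Polynomial k), ev i (sec i w) = w := by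
          intro w
          have : (ev i).comp (sec i) = RingHom.id _ := Polynomial.ringHom_ext (fun c => by
            simpa [sec, κ] using hevκ c) (by simp [ev, sec])
          exact congrArg (fun φ => φ w) this
        rw [hp', map_sub, map_sub, map_mul, hevA, hra, hes, ← hF]
        linear_combination -hqr
      obtain ⟨B', hB'⟩ := Ideal.mem_span_singleton.1 (sub_sec_mem hij p')
      rw [hev0, map_zero, sub_zero] at hB'
      let b : Fin n → Polynomial k := fun l =>
        ∑ N ∈ B'.support, Polynomial.monomial N (bB.repr (Ideal.Quotient.mk 𝔟 (B'.coeff N)) l)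
      refine ⟨(a, b), ?_⟩
      rw [hΨ]
      rw [← sub_eq_zero, ← map_sub, ← RingHom.mem_ker, hker]
      have hdiff : B b - B' ∈ 𝔟.map (Polynomial.C : P →+* Polynomial P) := Ideal.mem_map_C_iff.2 fun N => by
        rw [Polynomial.coeff_sub, ← Ideal.Quotient.eq, hcoefB]
        have hcb : ∀ l, (b l).coeff N = bB.repr (Ideal.Quotient.mk 𝔟 (B'.coeff N)) l := by
          intro l
          simp only [b, Polynomial.finsetSum_coeff, Polynomial.coeff_monomial, Finset.sum_ite_eq']
          split_ifs with hN
          · rfl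
          · rw [Polynomial.notMem_support_iff.1 hN]
            simp
        simp only [hcb]
        exact bB.sum_repr _
      have e : A a + L * B b - p = L * (B b - B') - sec i q * Polynomial.C f := by
        linear_combination hp' - hB'
      rw [e]
      exact sub_mem (Ideal.mem_sup_right (Ideal.mul_mem_mul (Ideal.mem_span_singleton_self L) hdiff))
        (Ideal.mem_sup_left (Ideal.mul_mem_left _ _ (Ideal.mem_span_singleton_self _)))
  exact ⟨Module.Flat.of_linearEquiv (LinearEquiv.ofBijective Ψ hbij).symm,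
    Module.Finite.equiv (LinearEquiv.ofBijective Ψ hbij)⟩

lemma main (𝔞 : Ideal P) [Module.Finite k (P ⧸ 𝔞)]
    (hrad : 𝔞.radical = Ideal.span {MvPolynomial.X 0, MvPolynomial.X 1})
    (hy : (MvPolynomial.X j : P) ∉ 𝔞) :
    ∃ 𝔞' : Ideal (MvPolynomial (Fin 2) k)[X],
      RingHom.Flat (R := k[X]) (S := (MvPolynomial (Fin 2) k)[X] ⧸ 𝔞')
        ((Ideal.Quotient.mk 𝔞').comp (Polynomial.mapRingHom (algebraMap k (MvPolynomial (Fin 2) k)))) ∧
      RingHom.Finite (A := k[X]) (B := (MvPolynomial (Fin 2) k)[X] ⧸ 𝔞')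
        ((Ideal.Quotient.mk 𝔞').comp (Polynomial.mapRingHom (algebraMap k (MvPolynomial (Fin 2) k)))) ∧
      Ideal.map (Polynomial.evalRingHom (0 : MvPolynomial (Fin 2) k)) 𝔞' = 𝔞 ∧
      ∀ c : k, c ≠ 0 →
        Ideal.map (Polynomial.evalRingHom (MvPolynomial.C c)) 𝔞' ≤ Ideal.span {MvPolynomial.X 0, MvPolynomial.X 1} ∧
        ∃ p : Fin 2 → k, p ≠ 0 ∧
          Ideal.map (Polynomial.evalRingHom (MvPolynomial.C c)) 𝔞' ≤
            Ideal.span (Set.range (fun i : Fin 2 => MvPolynomial.X i - MvPolynomial.C (p i))) := by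
  classical
  set x : P := MvPolynomial.X i with hxdef
  set y : P := MvPolynomial.X j with hydef
  set m : Ideal P := Ideal.span {MvPolynomial.X 0, MvPolynomial.X 1} with hm
  -- evaluation at points
  have hpt : ∀ (p : Fin 2 → k) (g : P),
      g - MvPolynomial.C (MvPolynomial.eval p g) ∈ Ideal.span (Set.range (fun i : Fin 2 => MvPolynomial.X i - MvPolynomial.C (p i))) := by
    intro p g
    rw [← Ideal.Quotient.eq_zero_iff_mem, map_sub, sub_eq_zero]
    set q := Ideal.Quotient.mk (Ideal.span (Set.range (fun i : Fin 2 => (MvPolynomial.X i - MvPolynomial.C (p i) : P))))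
    have : q = (q.comp MvPolynomial.C).comp (MvPolynomial.eval p) := MvPolynomial.ringHom_ext (fun c => by simp) fun l => by
      simpa using (Ideal.Quotient.eq).2 (Ideal.subset_span (Set.mem_range_self (f := fun i : Fin 2 => (MvPolynomial.X i - MvPolynomial.C (p i) : P)) l))
    exact congrArg (fun φ => φ g) this
  have hm0 : ∀ g : P, g ∈ m ↔ MvPolynomial.eval (0 : Fin 2 → k) g = 0 := by
    have e : m = Ideal.span (Set.range (fun i : Fin 2 => MvPolynomial.X i - MvPolynomial.C ((0 : Fin 2 → k) i))) := by
      rw [hm]; congr 1; ext z; simp [Fin.exists_fin_two, eq_comm]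
    intro g
    constructor
    · intro hg
      have : m ≤ RingHom.ker (MvPolynomial.eval (0 : Fin 2 → k)) := Ideal.span_le.2 (by
        rintro z (rfl | rfl) <;> simp [RingHom.mem_ker])
      exact this hg
    · intro hg
      have h := hpt 0 g
      rwa [hg, map_zero, sub_zero, ← e] at h
  have hle : 𝔞 ≤ m := hrad ▸ Ideal.le_radical
  have hrad_mem : ∀ g ∈ m, ∃ N : ℕ, g ^ N ∈ 𝔞 := fun g hg => by rw [← hrad] at hg; exact hg
  have hxm : x ∈ m := (hm0 _).2 (by simp [hxdef])
  have hym : y ∈ m := (hm0 _).2 (by simp [hydef])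
  -- restriction to the line `y = 0`
  let ε : P →+* Polynomial k := MvPolynomial.eval₂Hom Polynomial.C (fun l => if l = i then Polynomial.X else 0)
  let σ : Polynomial k →+* P := Polynomial.eval₂RingHom MvPolynomial.C x
  have hσ : ∀ g : P, g - σ (ε g) ∈ Ideal.span {y} := by
    intro g
    rw [← Ideal.Quotient.eq_zero_iff_mem, map_sub, sub_eq_zero]
    set q := Ideal.Quotient.mk (Ideal.span {y})
    have hq : q y = 0 := Ideal.Quotient.eq_zero_iff_mem.2 (Ideal.mem_span_singleton_self y)
    have : q = (q.comp σ).comp ε := MvPolynomial.ringHom_ext (fun c => by simp [ε, σ]) fun l => by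
      rcases eq_or hij l with rfl | rfl
      · simp [ε, σ, hxdef]
      · show q y = q (σ (ε y))
        have e1 : ε y = 0 := by simp [ε, hydef, hij.symm]
        rw [e1, hq, map_zero, map_zero]
    exact congrArg (fun φ => φ g) this
  have hεσ : ∀ h, ε (σ h) = h := by
    intro h
    have : ε.comp σ = RingHom.id _ := Polynomial.ringHom_ext (fun c => by simp [ε, σ]) (by simp [ε, σ, hxdef])
    exact congrArg (fun φ => φ h) this
  let 𝔟 : Ideal P := 𝔞.colon {y}
  have hb : ∀ g, g ∈ 𝔟 ↔ g * y ∈ 𝔞 := fun g => by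
    simp [𝔟, Submodule.mem_colon_singleton]
  have hab : 𝔞 ≤ 𝔟 := fun g hg => (hb g).2 (Ideal.mul_mem_right _ _ hg)
  have hbm : 𝔟 ≤ m := by
    intro g hg
    by_contra hgm
    apply hy
    obtain ⟨N, hN⟩ := hrad_mem (g - MvPolynomial.C (MvPolynomial.eval (0 : Fin 2 → k) g)) ((hm0 _).2 (by simp))
    set e := MvPolynomial.eval (0 : Fin 2 → k) g with he
    have he0 : e ≠ 0 := fun h0 => hgm ((hm0 g).2 h0)
    -- g is a unit modulo 𝔞
    have hu : IsUnit (Ideal.Quotient.mk 𝔞 g) := by
      have hn : IsNilpotent (Ideal.Quotient.mk 𝔞 (g - MvPolynomial.C e)) :=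
        ⟨N, by rw [← map_pow, Ideal.Quotient.eq_zero_iff_mem]; exact hN⟩
      have hc : IsUnit (Ideal.Quotient.mk 𝔞 (MvPolynomial.C e)) :=
        ((isUnit_iff_ne_zero.2 he0).map MvPolynomial.C).map _
      have := hn.isUnit_add_left_of_commute hc (Commute.all _ _)
      rwa [← map_add, add_sub_cancel] at this
    have h0 : Ideal.Quotient.mk 𝔞 g * Ideal.Quotient.mk 𝔞 y = 0 := by
      rw [← map_mul, Ideal.Quotient.eq_zero_iff_mem]; exact (hb g).1 hg
    exact Ideal.Quotient.eq_zero_iff_mem.1 (hu.mul_right_eq_zero.1 h0)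
  obtain ⟨Nx, hNx⟩ := hrad_mem x hxm
  obtain ⟨Ny, hNy⟩ := hrad_mem y hym
  -- the degree of 𝔞 + (y)
  have hex : ∃ d : ℕ, (Polynomial.X : Polynomial k) ^ d ∈ 𝔞.map ε :=
    ⟨Nx, by simpa [ε, hxdef] using Ideal.mem_map_of_mem ε hNx⟩
  set d := Nat.find hex with hd
  have hεs : Function.Surjective ε := fun h => ⟨σ h, hεσ h⟩
  obtain ⟨f₀, hf₀, hεf₀⟩ := (Ideal.mem_map_iff_of_surjective ε hεs).1 (Nat.find_spec hex)
  rw [← hd] at hεf₀
  have hdiv : ∀ a ∈ 𝔞, (Polynomial.X : Polynomial k) ^ d ∣ ε a := by
    intro a ha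
    by_cases h0 : ε a = 0
    · rw [h0]; exact dvd_zero _
    obtain ⟨r, hr, hrn⟩ := Polynomial.exists_eq_pow_rootMultiplicity_mul_and_not_dvd (ε a) h0 0
    set e := Polynomial.rootMultiplicity 0 (ε a)
    rw [map_zero, sub_zero] at hr hrn
    rw [hr]
    refine Dvd.dvd.mul_right (pow_dvd_pow _ (Nat.find_min' hex ?_)) _
    have hco : IsCoprime r ((Polynomial.X : Polynomial k) ^ Nx) :=
      IsCoprime.pow_right ((Polynomial.prime_X.irreducible.coprime_iff_not_dvd).2 hrn).symm
    obtain ⟨α, β, hαβ⟩ := hco
    have e1 : (Polynomial.X : Polynomial k) ^ e = α * (Polynomial.X ^ e * r) + β * Polynomial.X ^ e * Polynomial.X ^ Nx := by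
      linear_combination -(Polynomial.X : Polynomial k) ^ e * hαβ
    rw [e1]
    refine Ideal.add_mem _ (Ideal.mul_mem_left _ _ ?_) (Ideal.mul_mem_left _ _ ?_)
    · rw [← hr]; exact Ideal.mem_map_of_mem ε ha
    · simpa [ε, hxdef] using Ideal.mem_map_of_mem ε hNx
  have hd1 : 1 ≤ d := by
    rw [Nat.one_le_iff_ne_zero]
    intro h0
    rw [h0, pow_zero] at hεf₀
    have hk := (hm0 f₀).1 (hle hf₀)
    have : MvPolynomial.eval (0 : Fin 2 → k) f₀ = Polynomial.eval 0 (ε f₀) := by
      have he : MvPolynomial.eval (0 : Fin 2 → k) = (Polynomial.evalRingHom 0).comp ε :=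
        MvPolynomial.ringHom_ext (fun c => by simp [ε]) fun l => by
          rcases eq_or hij l with rfl | rfl <;> simp [ε, hij.symm]
      exact congrArg (fun φ => φ f₀) he
    rw [hk, hεf₀] at this
    simp at this
  obtain ⟨g₀, hg₀⟩ : ∃ g₀, f₀ = x ^ d + y * g₀ := by
    obtain ⟨g₀, hg⟩ := Ideal.mem_span_singleton.1 (hσ f₀)
    exact ⟨g₀, by rw [← hg, hεf₀]; simp [σ]⟩
  let W : Submodule k P := Submodule.span k {z | ∃ a b : ℕ, a < d ∧ z = x ^ a * y ^ b}
  have hW : ∀ g : P, ∀ N : ℕ, ∃ w ∈ W, ∃ h, g - w - y ^ N * h ∈ 𝔟 := by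
    have step : ∀ g : P, ∃ w ∈ Submodule.span k ((fun a => x ^ a) '' {a | a < d}), ∃ h, g - w - y * h ∈ 𝔟 := by
      intro g
      set q := ε g /ₘ (Polynomial.X : Polynomial k) ^ d
      set r := ε g %ₘ (Polynomial.X : Polynomial k) ^ d
      have hdm : r + Polynomial.X ^ d * q = ε g := Polynomial.modByMonic_add_div _ _
      obtain ⟨h1, hh1⟩ := Ideal.mem_span_singleton.1 (hσ g)
      refine ⟨σ r, ?_, h1 - σ q * g₀, ?_⟩
      · have hdeg : r.natDegree < d := by
          have := Polynomial.natDegree_modByMonic_lt (ε g) (Polynomial.monic_X_pow d) (by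
            intro h
            have := congrArg Polynomial.natDegree h
            simp at this
            omega)
          simpa using this
        rw [r.as_sum_range' d hdeg, map_sum]
        refine Submodule.sum_mem _ fun a ha => ?_
        have : σ (Polynomial.monomial a (r.coeff a)) = (r.coeff a) • x ^ a := by
          simp [σ, MvPolynomial.smul_eq_C_mul]
        rw [this]
        exact Submodule.smul_mem _ _ (Submodule.subset_span ⟨a, Finset.mem_range.1 ha, rfl⟩)
      · have e : g - σ r - y * (h1 - σ q * g₀) = σ q * f₀ := by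
          have e1 : σ (ε g) = σ r + x ^ d * σ q := by rw [← hdm]; simp [σ]
          rw [hg₀]
          linear_combination hh1 + e1
        rw [e]
        exact hab (Ideal.mul_mem_left _ _ hf₀)
    intro g N
    induction N with
    | zero => exact ⟨0, zero_mem _, g, by simp⟩
    | succ N ih =>
      obtain ⟨w, hw, h, hh⟩ := ih
      obtain ⟨w', hw', h', hh'⟩ := step h
      refine ⟨w + y ^ N * w', add_mem hw ?_, h', ?_⟩
      · refine Submodule.span_induction ?_ ?_ ?_ ?_ hw'
        · rintro _ ⟨a, ha, rfl⟩
          exact Submodule.subset_span ⟨a, N, ha, mul_comm _ _⟩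
        · simp
        · intro u v _ _ hu hv; rw [mul_add]; exact add_mem hu hv
        · intro c u _ hu; rw [mul_smul_comm]; exact Submodule.smul_mem _ _ hu
      · have e : g - (w + y ^ N * w') - y ^ (N + 1) * h' = (g - w - y ^ N * h) + y ^ N * (h - w' - y * h') := by ring
        rw [e]
        exact add_mem hh (Ideal.mul_mem_left _ _ hh')
  -- the polynomial `f`
  obtain ⟨gw, hgw, hh, hhb⟩ := hW g₀ Ny
  have hgb : g₀ - gw ∈ 𝔟 := by
    have e : g₀ - gw = (g₀ - gw - y ^ Ny * hh) + y ^ Ny * hh := by ring
    rw [e]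
    exact add_mem hhb (Ideal.mul_mem_right _ _ (hab hNy))
  set f : P := x ^ d + y * gw with hf
  have hfa : f ∈ 𝔞 := by
    have e : f = f₀ - (g₀ - gw) * y := by rw [hf, hg₀]; ring
    rw [e]
    exact sub_mem hf₀ ((hb _).1 hgb)
  set F : Polynomial (Polynomial k) := ev i (Polynomial.C f) with hF
  have hFm : F.Monic ∧ F.natDegree = d := by
    have hlow : (ev i (Polynomial.C (y * gw))).degree < (d : ℕ) := by
      have : ∀ z ∈ W, (ev i (Polynomial.C (y * z))).degree < (d : ℕ) := by
        intro z hz
        refine Submodule.span_induction ?_ ?_ ?_ ?_ hz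
        · rintro _ ⟨a, b, ha, rfl⟩
          have e : ev i (Polynomial.C (y * (x ^ a * y ^ b))) =
              Polynomial.C (Polynomial.X ^ (b + 1)) * Polynomial.X ^ a := by
            simp [ev, hxdef, hydef, hij.symm, pow_succ, Polynomial.eval₂_pow]
            ring
          rw [e]
          exact lt_of_le_of_lt (Polynomial.degree_C_mul_X_pow_le a _) (by exact_mod_cast ha)
        · simp
        · intro u v _ _ hu hv
          rw [mul_add, map_add, map_add]
          exact lt_of_le_of_lt (Polynomial.degree_add_le _ _) (max_lt hu hv)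
        · intro c u _ hu
          have e : ev i (Polynomial.C (y * c • u)) = Polynomial.C (Polynomial.C c) * ev i (Polynomial.C (y * u)) := by
            simp [ev, MvPolynomial.smul_eq_C_mul, hydef, hij.symm]
            ring
          rw [e]
          refine lt_of_le_of_lt ((Polynomial.degree_mul_le _ _).trans ?_) hu
          simpa using add_le_add (Polynomial.degree_C_le (a := Polynomial.C c)) (le_refl (ev i (Polynomial.C (y * u))).degree)
      exact this gw hgw
    have e : F = Polynomial.X ^ d + ev i (Polynomial.C (y * gw)) := by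
      rw [hF, hf]; simp [ev, hxdef, Polynomial.eval₂_pow]
    have hm' : F.Monic := e ▸ Polynomial.monic_X_pow_add hlow
    refine ⟨hm', Polynomial.natDegree_eq_of_degree_eq_some ?_⟩
    rw [e, Polynomial.degree_add_eq_left_of_degree_lt (by rwa [Polynomial.degree_X_pow]), Polynomial.degree_X_pow]
  obtain ⟨hFm, hFd⟩ := hFm
  -- the family
  set L : Polynomial P := Polynomial.C y - Polynomial.X with hL
  let 𝔞' : Ideal (Polynomial P) := famIdeal j f 𝔟
  have hmem' : ∀ z ∈ 𝔞', ∃ h, ∃ β ∈ 𝔟.map (Polynomial.C : P →+* Polynomial P), z = h * Polynomial.C f + L * β :=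
    fun z hz => famIdeal_mem hz
  refine ⟨𝔞', ?_⟩
  let φ : Polynomial k →+* (Polynomial P ⧸ 𝔞') := (Ideal.Quotient.mk 𝔞').comp (Polynomial.mapRingHom (algebraMap k P))
  letI : Algebra (Polynomial k) (Polynomial P ⧸ 𝔞') := RingHom.toAlgebra (R := Polynomial k) (S := Polynomial P ⧸ 𝔞') φ
  haveI : Module.Finite k (P ⧸ 𝔟) := Module.Finite.of_surjective (Ideal.Quotient.factorₐ k hab).toLinearMap
    (Ideal.Quotient.factor_surjective hab)
  have hff := flat_finite hij f 𝔟 (hab hfa) hFm d hd1 hFd (Polynomial P ⧸ 𝔞') (Ideal.Quotient.mk 𝔞')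
    Ideal.Quotient.mk_surjective Ideal.mk_ker (fun q => rfl)
  refine ⟨?_, ?_, ?_, ?_⟩
  · exact hff.1
  · exact hff.2
  · refine le_antisymm (Ideal.map_le_iff_le_comap.2 fun z hz => ?_) fun a ha => ?_
    · obtain ⟨h, β, hβ, rfl⟩ := hmem' z hz
      have hβ0 : β.eval 0 ∈ 𝔟 := by
        rw [← Polynomial.coeff_zero_eq_eval_zero]; exact Ideal.mem_map_C_iff.1 hβ 0
      show Polynomial.evalRingHom (0 : P) (h * Polynomial.C f + L * β) ∈ 𝔞
      rw [map_add, map_mul, map_mul]
      refine add_mem (Ideal.mul_mem_left _ _ (by simpa using hfa)) ?_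
      simpa [hL, mul_comm] using (hb _).1 hβ0
    · obtain ⟨q, hq⟩ := hdiv a ha
      obtain ⟨b, hb'⟩ := Ideal.mem_span_singleton.1 (hσ (a - σ q * f))
      have hε0 : ε (a - σ q * f) = 0 := by
        rw [map_sub, map_mul, hεσ, hq, hf]
        have e1 : ε y = 0 := by simp [ε, hydef, hij.symm]
        have e2 : ε x = Polynomial.X := by simp [ε, hxdef]
        rw [map_add, map_mul, map_pow, e1, e2]
        ring
      rw [hε0, map_zero, sub_zero] at hb'
      have hbb : b ∈ 𝔟 := (hb b).2 (by rw [mul_comm, ← hb']; exact sub_mem ha (Ideal.mul_mem_left _ _ hfa))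
      have e : a = Polynomial.evalRingHom (0 : P) (Polynomial.C (σ q) * Polynomial.C f + L * Polynomial.C b) := by
        simp [hL]
        linear_combination hb'
      rw [e]
      exact Ideal.mem_map_of_mem _ (add_mem (Ideal.mem_sup_left (Ideal.mul_mem_left _ _ (Ideal.mem_span_singleton_self _)))
        (Ideal.mem_sup_right (Ideal.mul_mem_mul (Ideal.mem_span_singleton_self L) (Ideal.mem_map_of_mem _ hbb))))
  · intro c hc
    refine ⟨Ideal.map_le_iff_le_comap.2 fun z hz => ?_, ?_⟩
    · obtain ⟨h, β, hβ, rfl⟩ := hmem' z hz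
      have hβc : β.eval (MvPolynomial.C c) ∈ 𝔟 := by
        rw [Polynomial.eval_eq_sum, Polynomial.sum]
        exact Ideal.sum_mem _ fun N _ => Ideal.mul_mem_right _ _ (Ideal.mem_map_C_iff.1 hβ N)
      show Polynomial.evalRingHom (MvPolynomial.C c : P) (h * Polynomial.C f + L * β) ∈ m
      rw [map_add, map_mul, map_mul]
      exact add_mem (Ideal.mul_mem_left _ _ (by simpa using hle hfa)) (Ideal.mul_mem_left _ _ (hbm hβc))
    · set G : Polynomial k := Polynomial.map (Polynomial.evalRingHom c) F with hG
      obtain ⟨x₀, hx₀⟩ : ∃ x₀, G.IsRoot x₀ := IsAlgClosed.exists_root G (by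
        rw [Polynomial.degree_eq_natDegree (hFm.map _).ne_zero, hFm.natDegree_map, hFd]
        norm_cast
        omega)
      let pt : Fin 2 → k := fun l => if l = i then x₀ else c
      refine ⟨pt, fun h => hc (by simpa [pt, hij.symm] using congrFun h j), Ideal.map_le_iff_le_comap.2 fun z hz => ?_⟩
      have hev : ∀ w : P, MvPolynomial.eval pt w = ((ev i (Polynomial.C w)).map (Polynomial.evalRingHom c)).eval x₀ := by
        intro w
        have he : MvPolynomial.eval pt = (Polynomial.evalRingHom x₀).comp ((Polynomial.mapRingHom (Polynomial.evalRingHom c)).comp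
            ((ev i).comp Polynomial.C)) :=
          MvPolynomial.ringHom_ext (fun a => by simp [ev]) fun l => by
            rcases eq_or hij l with rfl | rfl <;> simp [ev, pt, hij.symm]
        exact congrArg (fun φ => φ w) he
      have hfp : MvPolynomial.eval pt f = 0 := by rw [hev]; exact hx₀
      rw [Ideal.mem_comap]
      obtain ⟨h, β, hβ, rfl⟩ := hmem' z hz
      rw [map_add, map_mul, map_mul]
      refine add_mem (Ideal.mul_mem_left _ _ ?_) (Ideal.mul_mem_right _ _ ?_)
      · have := hpt pt f
        rw [hfp, map_zero, sub_zero] at this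
        simpa using this
      · have : Polynomial.evalRingHom (MvPolynomial.C c : P) L = MvPolynomial.X j - MvPolynomial.C (pt j) := by
          simp [hL, hydef, pt, hij.symm]
        rw [this]
        exact Ideal.subset_span ⟨j, rfl⟩

end
end


/-- Let k be an algebraically closed field, A = k[x, y], and 𝔞 ⊆ A an ideal of finite colength n ≥ 2
with radical (x, y), i.e. Spec(A/𝔞) is supported at the origin. Then there is an ideal 𝔞' ⊆ A[t]
defining a family finite and flat over k[t] (A[t]/𝔞' is a finitely generated flat k[t]-module, hence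
locally free of rank n) whose fibre at t = 0 is 𝔞 and whose fibre ideal 𝔞_c at every c ≠ 0 is
contained in the maximal ideal of the origin and in the maximal ideal of some other k-point p ≠ (0,
0); so for t ≠ 0 the fibre is supported at two or more distinct points. (The published statement
allows colength 1 and puts the second point at (0, t); for colength 1 every finite flat family has
one-point fibres, and the family constructed in the published proof has its second piece at the
roots of f(x, t) on the line y = t after a linear change of the coordinates x, y, which need not lie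
at x = 0; this row states what that construction yields. The published statement asks the family to
be flat over k[t]; this row asks it to be finite and flat, as the constructed family is — f is monic
in x and (y − t)·y^N lies in the ideal for some N — and as the published proof's count of the
constant fibre length n presupposes; with flatness alone the fibre conditions here could be met by
adjoining a component that never meets t = 0.) -/
theorem result (k : Type u) [Field k] [IsAlgClosed k]
    (𝔞 : Ideal (MvPolynomial (Fin 2) k)) [Module.Finite k (MvPolynomial (Fin 2) k ⧸ 𝔞)]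
    (hn : 2 ≤ Module.finrank k (MvPolynomial (Fin 2) k ⧸ 𝔞))
    (hsupp : 𝔞.radical = Ideal.span {MvPolynomial.X 0, MvPolynomial.X 1}) :
    ∃ 𝔞' : Ideal (MvPolynomial (Fin 2) k)[X],
      RingHom.Flat (R := k[X]) (S := (MvPolynomial (Fin 2) k)[X] ⧸ 𝔞')
        ((Ideal.Quotient.mk 𝔞').comp (Polynomial.mapRingHom (algebraMap k (MvPolynomial (Fin 2) k)))) ∧
      RingHom.Finite (A := k[X]) (B := (MvPolynomial (Fin 2) k)[X] ⧸ 𝔞')
        ((Ideal.Quotient.mk 𝔞').comp (Polynomial.mapRingHom (algebraMap k (MvPolynomial (Fin 2) k)))) ∧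
      Ideal.map (Polynomial.evalRingHom (0 : MvPolynomial (Fin 2) k)) 𝔞' = 𝔞 ∧
      ∀ c : k, c ≠ 0 →
        Ideal.map (Polynomial.evalRingHom (MvPolynomial.C c)) 𝔞' ≤ Ideal.span {MvPolynomial.X 0, MvPolynomial.X 1} ∧
        ∃ p : Fin 2 → k, p ≠ 0 ∧
          Ideal.map (Polynomial.evalRingHom (MvPolynomial.C c)) 𝔞' ≤
            Ideal.span (Set.range (fun i : Fin 2 => MvPolynomial.X i - MvPolynomial.C (p i))) := by
  by_cases h1 : (MvPolynomial.X 1 : MvPolynomial (Fin 2) k) ∈ 𝔞
  · refine main (i := 1) (j := 0) (by decide) 𝔞 hsupp fun h0 => ?_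
    have hle : 𝔞 = Ideal.span {MvPolynomial.X 0, MvPolynomial.X 1} :=
      le_antisymm (hsupp ▸ Ideal.le_radical) (Ideal.span_le.2 (by rintro z (rfl | rfl) <;> assumption))
    have hsurj : Function.Surjective (algebraMap k (MvPolynomial (Fin 2) k ⧸ 𝔞)) := by
      intro z
      obtain ⟨g, rfl⟩ := Ideal.Quotient.mk_surjective z
      induction g using MvPolynomial.induction_on with
      | C c => exact ⟨c, rfl⟩
      | add p q hp hq =>
        obtain ⟨a, ha⟩ := hp; obtain ⟨b, hb⟩ := hq
        exact ⟨a + b, by rw [map_add, map_add, ha, hb]⟩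
      | mul_X p l _ =>
        refine ⟨0, ?_⟩
        rw [map_zero, eq_comm, Ideal.Quotient.eq_zero_iff_mem]
        refine Ideal.mul_mem_left _ _ ?_
        revert l
        exact Fin.forall_fin_two.2 ⟨h0, h1⟩
    have h2 := (Algebra.linearMap k (MvPolynomial (Fin 2) k ⧸ 𝔞)).finrank_range_le
    rw [LinearMap.range_eq_top.2 hsurj, finrank_top, Module.finrank_self] at h2
    omega
  · exact main (i := 0) (j := 1) (by decide) 𝔞 hsupp h1

end Groth.Agent.S11453
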