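import Groth.Agent.Lib.DefLift26.Basic
import Groth.Statements.S11454
-- import your own Groth.Agent.* helpers here

set_option autoImplicit false
universe u
open DefT

namespace Groth.Agent.S11454

/-- Let C' be a local Artin ring, J ⊊ C' a proper ideal annihilated by the maximal ideal, C = C'/J, A' a
flat C'-algebra whose reduction modulo the maximal ideal of C' is a Cohen–Macaulay local ring, and A
= A'/JA'. If a'_1, …, a'_r ∈ A' have images in A forming a regular sequence with A/(a_1, …, a_r)
flat over C, then a'_1, …, a'_r is a regular sequence on A' and A'/(a'_1, …, a'_r) is flat over C'.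
(Regular sequences stand in for the exactness of the Koszul complexes in the published statement;
over a Noetherian local ring with the elements in the maximal ideal the two are equivalent.) -/
theorem result (C' : Type u) [CommRing C'] [IsLocalRing C'] [IsArtinianRing C'] (J : Ideal C')
    (hJ : IsLocalRing.maximalIdeal C' * J = ⊥) (hJne : J ≠ ⊤) (A' : Type u) [CommRing A'] [Algebra C' A'] [Module.Flat C' A']
    [LocCoh.IsCohenMacaulayLocalRing (A' ⧸ (IsLocalRing.maximalIdeal C').map (algebraMap C' A'))]
    (r : ℕ) (a' : Fin r → A')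
    (hreg : RingTheory.Sequence.IsRegular (A' ⧸ J.map (algebraMap C' A'))
      (List.ofFn (fun i => Ideal.Quotient.mk (J.map (algebraMap C' A')) (a' i))))
    [Module.Flat (C' ⧸ J) ((A' ⧸ J.map (algebraMap C' A')) ⧸
      Ideal.span (Set.range (fun i => Ideal.Quotient.mk (J.map (algebraMap C' A')) (a' i))))] :
    RingTheory.Sequence.IsRegular A' (List.ofFn a') ∧ Module.Flat C' (A' ⧸ Ideal.span (Set.range a')) := by
  haveI : IsNoetherianRing C' := inferInstance
  have hM : IsNilpotent ((IsLocalRing.maximalIdeal C').map (algebraMap C' A')) := by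
    obtain ⟨n, hn⟩ : IsNilpotent (IsLocalRing.maximalIdeal C') :=
      IsLocalRing.maximalIdeal_le_jacobson (⊥ : Ideal C') |>.antisymm
        (IsLocalRing.jacobson_eq_maximalIdeal ⊥ bot_ne_top).le ▸ IsArtinianRing.isNilpotent_jacobson_bot
    exact ⟨n, by rw [← Ideal.map_pow, hn, Ideal.zero_eq_bot, Ideal.map_bot]; rfl⟩
  have h0 := GrothLib.DefLift.fibre_regular_of_reduction (J.map (algebraMap C' A'))
    ((IsLocalRing.maximalIdeal C').map (algebraMap C' A')) (Ideal.map_mono (IsLocalRing.le_maximalIdeal hJne)) hM
    (Ideal.FG.map (IsNoetherian.noetherian (IsLocalRing.maximalIdeal C')) _) (List.ofFn a') (by rw [List.map_ofFn]; exact hreg)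
  obtain ⟨h1, h2⟩ := GrothLib.DefLift.regular_of_fibre (List.ofFn a') h0
  refine ⟨⟨h1, fun htop => hreg.2 ?_⟩, ?_⟩
  · rw [smul_eq_mul, Ideal.mul_top] at htop ⊢
    rw [show List.ofFn (fun i => Ideal.Quotient.mk (J.map (algebraMap C' A')) (a' i)) =
      (List.ofFn a').map (Ideal.Quotient.mk _) by rw [List.map_ofFn]; rfl, ← Ideal.map_ofList, ← htop, Ideal.map_top]
  · rwa [show Ideal.ofList (List.ofFn a') = Ideal.span (Set.range a') by
      simp only [Ideal.ofList, List.mem_ofFn']; rfl] at h2

end Groth.Agent.S11454
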