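import Groth.Agent.Lib.DefLift26.Basic
import Groth.Statements.S11456
-- import your own Groth.Agent.* helpers here

set_option autoImplicit false
universe u
open DefT

namespace Groth.Agent.S11456

/-- Let C be a local Artin ring with maximal ideal m, A a flat C-algebra such that A₀ = A/mA is a
Cohen–Macaulay local ring, and I ⊆ A an ideal with A/I flat over C whose image in A₀ is generated by
a regular sequence b_1, …, b_r on A₀. Then I is generated by r elements a_1, …, a_r forming a
regular sequence on A (so the Koszul complex on the a_i resolves A/I). -/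
theorem result (C : Type u) [CommRing C]
    [IsLocalRing C] [IsArtinianRing C] (A : Type u) [CommRing A] [Algebra C A] [Module.Flat C A]
    [LocCoh.IsCohenMacaulayLocalRing (A ⧸ (IsLocalRing.maximalIdeal C).map (algebraMap C A))]
    (I : Ideal A) [Module.Flat C (A ⧸ I)] (r : ℕ)
    (b : Fin r → A ⧸ (IsLocalRing.maximalIdeal C).map (algebraMap C A))
    (hb : RingTheory.Sequence.IsRegular (A ⧸ (IsLocalRing.maximalIdeal C).map (algebraMap C A)) (List.ofFn b))
    (hI : I.map (Ideal.Quotient.mk ((IsLocalRing.maximalIdeal C).map (algebraMap C A))) = Ideal.span (Set.range b)) :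
    ∃ a : Fin r → A, RingTheory.Sequence.IsRegular A (List.ofFn a) ∧ I = Ideal.span (Set.range a) := by
  have hm : IsNilpotent (IsLocalRing.maximalIdeal C) :=
    IsLocalRing.maximalIdeal_le_jacobson (⊥ : Ideal C) |>.antisymm
      (IsLocalRing.jacobson_eq_maximalIdeal ⊥ bot_ne_top).le ▸ IsArtinianRing.isNilpotent_jacobson_bot
  obtain ⟨a, ha, hIa⟩ := GrothLib.DefLift.exists_lift_generators (IsLocalRing.maximalIdeal C) hm I b hI
  obtain ⟨h1, -⟩ := GrothLib.DefLift.regular_of_fibre (C := C) (List.ofFn a)
    (by rw [List.map_ofFn, show _ ∘ a = b from funext ha]; exact hb.1)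
  refine ⟨a, ⟨h1, fun htop => hb.2 ?_⟩, hIa⟩
  rw [smul_eq_mul, Ideal.mul_top] at htop ⊢
  rw [show List.ofFn b = (List.ofFn a).map (Ideal.Quotient.mk _) by
    rw [List.map_ofFn, show _ ∘ a = b from funext ha], ← Ideal.map_ofList, ← htop, Ideal.map_top]

end Groth.Agent.S11456
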