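import Mathlib.RingTheory.Ideal.AssociatedPrime.Finiteness
import Mathlib.RingTheory.Nakayama
import Mathlib.CategoryTheory.Linear.LinearFunctor
import Mathlib.Algebra.Homology.ShortComplex.ModuleCat
import Groth.Statements.S11461
-- import your own Groth.Agent.* helpers here

set_option autoImplicit false
universe u
open CategoryTheory
open DefT

namespace Groth.Agent.S11461

/-- Let B be a Noetherian ring and F an additive, B-linear endofunctor of B-modules which preserves
finite generation and is semi-exact on short exact sequences of finitely generated modules (the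
image sequence is exact in the middle). If F kills B/m for every maximal ideal m, then F kills every
finitely generated B-module. (The published statement assumes F only additive; this row assumes F
B-linear, and takes the functor on all B-modules with the hypotheses and the conclusion on the
finitely generated ones.) -/
theorem result (B : Type u) [CommRing B]
    [IsNoetherianRing B] (F : ModuleCat.{u} B ⥤ ModuleCat.{u} B) [F.Additive] [F.Linear B]
    (hfg : ∀ M : ModuleCat.{u} B, Module.Finite B M → Module.Finite B (F.obj M))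
    (hex : ∀ S : ShortComplex (ModuleCat.{u} B), S.ShortExact → Module.Finite B S.X₂ → (S.map F).Exact)
    (h0 : ∀ m : Ideal B, m.IsMaximal → Limits.IsZero (F.obj (ModuleCat.of B (B ⧸ m))))
    (M : ModuleCat.{u} B) (hM : Module.Finite B M) : Limits.IsZero (F.obj M) := by
  classical
  suffices key : ∀ J : Ideal B, ∀ (N : Type u) [AddCommGroup N] [Module B N], Module.Finite B N →
      (∀ r ∈ J, ∀ x : N, r • x = 0) → Limits.IsZero (F.obj (ModuleCat.of B N)) from
    key ⊥ M hM fun r hr x => by rw [Ideal.mem_bot.1 hr, zero_smul]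
  intro J
  induction J using IsNoetherian.induction with
  | _ J IH =>
  intro N _ _ hN hJN
  refine IsNoetherianRing.induction_on_isQuotientEquivQuotientPrime B (M := N) hN
    (motive := fun N _ _ _ => (∀ r ∈ J, ∀ x : N, r • x = 0) → Limits.IsZero (F.obj (ModuleCat.of B N)))
    ?_ ?_ ?_ hJN
  · intro N _ _ _ _ _
    exact F.map_isZero (ModuleCat.isZero_of_subsingleton _)
  · intro N _ _ _ p e hp
    refine Limits.IsZero.of_iso ?_ (F.mapIso e.toModuleIso)
    have hJp : J ≤ p.1 := fun r hr => by
      have h1 := congrArg e (hp r hr (e.symm (Ideal.Quotient.mk p.1 1)))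
      rw [map_smul, e.apply_symm_apply, map_zero] at h1
      change Ideal.Quotient.mk p.1 (r * 1) = 0 at h1
      rwa [mul_one, Ideal.Quotient.eq_zero_iff_mem] at h1
    haveI := p.2
    have hkill : ∀ r ∈ p.1, ∀ x : B ⧸ p.1, r • x = 0 := fun r hr x => by
      obtain ⟨b, rfl⟩ := Ideal.Quotient.mk_surjective x
      exact Ideal.Quotient.eq_zero_iff_mem.2 (p.1.mul_mem_right b hr)
    rcases hJp.eq_or_lt with hJp | hJp
    swap
    · exact IH p.1 hJp (B ⧸ p.1) inferInstance hkill
    -- every element outside `p` acts surjectively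
    let X := ModuleCat.of B (B ⧸ p.1)
    haveI := hfg X inferInstance
    have hsurj : ∀ x : B, x ∉ p.1 → ∀ y : F.obj X, ∃ z, x • z = y := by
      intro x hx y
      let J' := p.1 ⊔ Ideal.span {x}
      have hlt : J < J' := hJp ▸ lt_of_le_of_ne le_sup_left
        (fun h => hx (h ▸ Ideal.mem_sup_right (Ideal.mem_span_singleton_self x)))
      let g : (B ⧸ p.1) →ₗ[B] (B ⧸ J') := Submodule.factor le_sup_left
      let S : ShortComplex (ModuleCat.{u} B) :=
        ShortComplex.mk (X₁ := X) (X₂ := X) (X₃ := ModuleCat.of B (B ⧸ J')) (x • 𝟙 X) (ModuleCat.ofHom g)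
          (ModuleCat.hom_ext (LinearMap.ext fun z => by
            obtain ⟨b, rfl⟩ := Ideal.Quotient.mk_surjective z
            exact Ideal.Quotient.eq_zero_iff_mem.2
              (Ideal.mem_sup_right (Ideal.mem_span_singleton.2 (dvd_mul_right x b)))))
      have hS : S.ShortExact :=
        { exact := (ShortComplex.moduleCat_exact_iff S).2 fun z hz => by
            obtain ⟨b, rfl⟩ := Ideal.Quotient.mk_surjective z
            obtain ⟨a, ha, c, hc, hac⟩ := Submodule.mem_sup.1 (Ideal.Quotient.eq_zero_iff_mem.1 (hz : Ideal.Quotient.mk J' b = 0))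
            obtain ⟨d, rfl⟩ := Ideal.mem_span_singleton.1 hc
            refine ⟨Ideal.Quotient.mk p.1 d, Ideal.Quotient.eq.2 ?_⟩
            have hac' : a + x * d = b := hac
            change x * d - b ∈ p.1
            rw [show x * d - b = -a by rw [← hac']; ring]
            exact p.1.neg_mem ha
          mono_f := (ModuleCat.mono_iff_injective _).2 (by
            refine (injective_iff_map_eq_zero (x • 𝟙 X : X ⟶ X).hom).2 fun z hz => ?_
            obtain ⟨b, rfl⟩ := Ideal.Quotient.mk_surjective z
            exact Ideal.Quotient.eq_zero_iff_mem.2 ((p.2.mem_or_mem (Ideal.Quotient.eq_zero_iff_mem.1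
              (hz : Ideal.Quotient.mk p.1 (x * b) = 0))).resolve_left hx))
          epi_g := (ModuleCat.epi_iff_surjective _).2 (Submodule.factor_surjective (p := p.1) (p' := J') le_sup_left) }
      have h3 : Limits.IsZero (F.obj (ModuleCat.of B (B ⧸ J'))) := IH J' hlt (B ⧸ J') inferInstance
        (fun r hr z => by
          obtain ⟨b, rfl⟩ := Ideal.Quotient.mk_surjective z
          exact Ideal.Quotient.eq_zero_iff_mem.2 (J'.mul_mem_right b hr))
      obtain ⟨z, hz⟩ := (ShortComplex.moduleCat_exact_iff _).1 (hex S hS (show Module.Finite B X from inferInstance)) y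
        (by rw [show (S.map F).g = 0 from h3.eq_of_tgt _ _]; rfl)
      refine ⟨z, ?_⟩
      rw [← hz]
      change x • z = (F.map (x • 𝟙 X)).hom z
      rw [F.map_smul, F.map_id]
      rfl
    have hker : ∀ r ∈ p.1, ∀ z : F.obj X, r • z = 0 := fun r hr z => by
      have h1 : (r • 𝟙 X : X ⟶ X) = 0 := ModuleCat.hom_ext (LinearMap.ext fun y => hkill r hr y)
      have h2 := congrArg (fun f => f.hom z) (congrArg F.map h1)
      simp only [F.map_smul, F.map_id, F.map_zero] at h2
      exact h2
    have htop : Submodule.annihilator (⊤ : Submodule B (F.obj X)) = ⊤ := by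
      by_contra hne
      obtain ⟨m, hm, hle⟩ := Ideal.exists_le_maximal _ hne
      have hpm : p.1 ≤ m := fun r hr => hle (Submodule.mem_annihilator.2 fun z _ => hker r hr z)
      rcases eq_or_lt_of_le hpm with hpm | hpm
      · have h0' := h0 m hm
        rw [← hpm] at h0'
        haveI := ModuleCat.subsingleton_of_isZero h0'
        exact hm.ne_top (top_le_iff.1 ((le_of_eq (Submodule.annihilator_eq_top_iff.2 (Subsingleton.elim _ _)).symm).trans hle))
      obtain ⟨x, hxm, hxp⟩ := SetLike.exists_of_lt hpm
      obtain ⟨r, hr1, hr2⟩ := Submodule.exists_sub_one_mem_and_smul_eq_zero_of_fg_of_le_smul (Ideal.span {x})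
        (⊤ : Submodule B (F.obj X)) Module.Finite.fg_top (fun y _ => by
          obtain ⟨z, rfl⟩ := hsurj x hxp y
          exact Submodule.smul_mem_smul (Ideal.mem_span_singleton_self x) Submodule.mem_top)
      have hrm : r ∈ m := hle (Submodule.mem_annihilator.2 fun z hz => hr2 z hz)
      exact hm.ne_top ((Ideal.eq_top_iff_one m).2 (by
        have := sub_mem hrm ((Ideal.span_singleton_le_iff_mem m).2 hxm hr1)
        rwa [sub_sub_cancel] at this))
    haveI : Subsingleton (F.obj X) := subsingleton_of_forall_eq 0 fun z => by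
      have := Submodule.mem_annihilator.1 (htop.ge (Submodule.mem_top (x := (1 : B)))) z Submodule.mem_top
      rwa [one_smul] at this
    exact ModuleCat.isZero_of_subsingleton _
  · intro N₁ _ _ _ N₂ _ _ _ N₃ _ _ _ f g hf hg hfg h₁ h₃ hann
    let S : ShortComplex (ModuleCat.{u} B) :=
      ShortComplex.mk (ModuleCat.ofHom f) (ModuleCat.ofHom g)
        (ModuleCat.hom_ext hfg.linearMap_comp_eq_zero)
    have hS : S.ShortExact :=
      { exact := (ShortComplex.moduleCat_exact_iff S).2 fun z hz => (hfg z).1 hz
        mono_f := (ModuleCat.mono_iff_injective _).2 hf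
        epi_g := (ModuleCat.epi_iff_surjective _).2 hg }
    refine ShortComplex.Exact.isZero_X₂ (hex S hS (show Module.Finite B N₂ from inferInstance)) ?_ ?_
    · exact (h₁ fun r hr x => hf (by rw [map_smul, hann r hr, map_zero])).eq_of_src _ _
    · exact (h₃ fun r hr x => by
        obtain ⟨y, rfl⟩ := hg x
        rw [← map_smul, hann r hr, map_zero]).eq_of_tgt _ _

end Groth.Agent.S11461
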