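import Groth.Statements.S11462
-- import your own Groth.Agent.* helpers here
import Groth.Agent.Lib.Depth.Hartogs
import Groth.Agent.Lib.NormalSerre.Serre
import Groth.Agent.Lib.DimCut.StalkFibre
import Groth.Agent.Lib.NormFlat11.Scheme

set_option autoImplicit false
universe u
open CategoryTheory AlgebraicGeometry Opposite
open DefT

set_option backward.isDefEq.respectTransparency false
set_option linter.style.haveILetI false

noncomputable section

open GrothLib

open IsLocalRing RingTheory.Sequence in
/-- Over an Artinian local base, a flat local ring with normal closed fibre of dimension `≥ 2` has depth `≥ 2`. -/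
theorem exists_pair_of_fibre (C : Type u) [CommRing C] [IsLocalRing C] [IsArtinianRing C] (B : Type u) [CommRing B]
    [IsLocalRing B] [IsNoetherianRing B] [Algebra C B] [Module.Flat C B]
    (hd : IsDomain (B ⧸ (maximalIdeal C).map (algebraMap C B)))
    (hi : IsIntegrallyClosed (B ⧸ (maximalIdeal C).map (algebraMap C B)))
    (h : (2 : ℕ∞) ≤ (maximalIdeal B).height) :
    ∃ x y : B, x ∈ maximalIdeal B ∧ y ∈ maximalIdeal B ∧ IsWeaklyRegular B [x, y] := by
  set K := (maximalIdeal C).map (algebraMap C B)
  have hnilC : IsNilpotent (maximalIdeal C) := by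
    rw [← IsLocalRing.jacobson_eq_maximalIdeal (⊥ : Ideal C) bot_ne_top]
    exact IsArtinianRing.isNilpotent_jacobson_bot
  have hnil : K ≤ nilradical B := by
    obtain ⟨n, hn⟩ := hnilC
    intro z hz
    refine ⟨n, ?_⟩
    have := Ideal.pow_mem_pow hz n
    rwa [← Ideal.map_pow, hn, Ideal.zero_eq_bot, Ideal.map_bot, Ideal.mem_bot] at this
  have hKm : K ≤ maximalIdeal B := hnil.trans (nilradical_le_prime _)
  have : IsLocalHom (algebraMap C B) :=
    ((IsLocalRing.local_hom_TFAE (algebraMap C B)).out 0 2).mpr hKm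
  have : IsLocalRing (B ⧸ K) := IsLocalRing.of_surjective' _ Ideal.Quotient.mk_surjective
  have hdim : ringKrullDim (B ⧸ K) = ringKrullDim B := by
    rw [ringKrullDim_quotient, ringKrullDim]
    have hz : PrimeSpectrum.zeroLocus (K : Set B) = Set.univ :=
      Set.eq_univ_of_forall fun q => hnil.trans (nilradical_le_prime q.asIdeal)
    exact Order.krullDim_eq_of_orderIso ((OrderIso.setCongr _ _ hz).trans OrderIso.Set.univ)
  have h' : (1 : ℕ∞) < (maximalIdeal (B ⧸ K)).height := by
    have e : (((maximalIdeal (B ⧸ K)).height : ℕ∞) : WithBot ℕ∞) = (maximalIdeal B).height := by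
      rw [IsLocalRing.maximalIdeal_height_eq_ringKrullDim, IsLocalRing.maximalIdeal_height_eq_ringKrullDim, hdim]
    rw [WithBot.coe_inj.mp e]
    exact lt_of_lt_of_le (by norm_num) h
  obtain ⟨x', y', hx', hy', hreg⟩ := GrothLib.NormalSerre.exists_pair_of_isIntegrallyClosed (A := B ⧸ K) h'
  obtain ⟨x, rfl⟩ := Ideal.Quotient.mk_surjective x'
  obtain ⟨y, rfl⟩ := Ideal.Quotient.mk_surjective y'
  have hm : ∀ z : B, Ideal.Quotient.mk K z ∈ maximalIdeal (B ⧸ K) → z ∈ maximalIdeal B := fun z hz hu =>
    hz (hu.map _)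
  refine ⟨x, y, hm x hx', hm y hy', GrothLib.DimCut.isWeaklyRegular_of_fibre (A := C) [x, y] B ?_⟩
  have h1 : IsWeaklyRegular (B ⧸ K) [x, y] :=
    (isWeaklyRegular_map_algebraMap_iff (B ⧸ K) (B ⧸ K) [x, y]).mp hreg
  exact (LinearEquiv.isWeaklyRegular_congr
    (Submodule.quotEquivOfEq _ _ (show ((K • ⊤ : Submodule B B)) = K by rw [smul_eq_mul, Ideal.mul_top]) :
      (B ⧸ (K • ⊤ : Submodule B B)) ≃ₗ[B] (B ⧸ K)) [x, y]).mpr h1
namespace Groth.Agent.S11462

/-- Let C be a local Artin ring with maximal ideal m, A a Noetherian C-algebra flat over C such that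
Spec(A/mA) is a normal scheme, and U ⊆ X = Spec A an open subset whose closed complement has
codimension ≥ 2, i.e. every prime of A not in U has height at least 2. Then the restriction map Γ(X,
O_X) → Γ(U, O_X) is bijective. (The published statement assumes only that A is flat over C with
normal special fibre; this row also assumes A Noetherian: for a valuation ring of rank two over a
field, which is normal and flat, the functions on the complement of the closed point are not all
global.) -/
theorem result (C : Type u) [CommRing C]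
    [IsLocalRing C] [IsArtinianRing C] (A : Type u) [CommRing A] [IsNoetherianRing A] [Algebra C A]
    [Module.Flat C A]
    (hnorm : Pi1.IsNormalScheme (Spec (CommRingCat.of (A ⧸ (IsLocalRing.maximalIdeal C).map (algebraMap C A)))))
    (U : (Spec (CommRingCat.of A)).Opens)
    (hU : ∀ p : ↥(Spec (CommRingCat.of A)), p ∉ U → (2 : ℕ∞) ≤ p.asIdeal.height) :
    Function.Bijective ((Spec (CommRingCat.of A)).presheaf.map (homOfLE (le_top : U ≤ ⊤)).op) := by
  refine GrothLib.Depth.res_bijective (X := Spec (CommRingCat.of A)) (U := U) ?_ ⊤ |> fun hb => ?_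
  rotate_left
  · intro p hp
    let P : Ideal A := p.asIdeal
    let K : Ideal A := (IsLocalRing.maximalIdeal C).map (algebraMap C A)
    let M : Submonoid A := P.primeCompl
    have : IsNilpotent (IsLocalRing.maximalIdeal C) := by
      rw [← IsLocalRing.jacobson_eq_maximalIdeal (⊥ : Ideal C) bot_ne_top]
      exact IsArtinianRing.isNilpotent_jacobson_bot
    obtain ⟨n, hn⟩ := this
    have hKP : K ≤ P := fun z hz => p.2.mem_of_pow_mem n (by
      have := Ideal.pow_mem_pow hz n
      rw [← Ideal.map_pow, hn, Ideal.zero_eq_bot, Ideal.map_bot, Ideal.mem_bot] at this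
      exact this ▸ zero_mem _)
    let Q : Ideal (A ⧸ K) := P.map (Ideal.Quotient.mk K)
    have hQ : Q.IsPrime := Ideal.map_isPrime_of_surjective Ideal.Quotient.mk_surjective (by rwa [Ideal.mk_ker])
    obtain ⟨hd, hi⟩ := hnorm ⟨Q, hQ⟩
    have : Module.Flat C (Localization.AtPrime P) := Module.Flat.trans C A (Localization.AtPrime P)
    have hK : (IsLocalRing.maximalIdeal C).map (algebraMap C (Localization.AtPrime P)) =
        K.map (algebraMap A (Localization.AtPrime P)) := by
      rw [Ideal.map_map, ← IsScalarTower.algebraMap_eq]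
    have hMQ : Algebra.algebraMapSubmonoid (A ⧸ K) P.primeCompl = Q.primeCompl := by
      ext z
      obtain ⟨z, rfl⟩ := Ideal.Quotient.mk_surjective z
      constructor
      · rintro ⟨w, hw, e⟩ hz
        apply hw
        obtain ⟨v, hv, e'⟩ := (Ideal.mem_map_iff_of_surjective _ Ideal.Quotient.mk_surjective).1 hz
        have := hKP (Ideal.Quotient.eq.mp (show Ideal.Quotient.mk K w = Ideal.Quotient.mk K v from e.trans e'.symm))
        simpa using P.add_mem this hv
      · exact fun hz => ⟨z, fun hzP => hz (Ideal.mem_map_of_mem _ hzP), rfl⟩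
    have hloc : IsLocalization.AtPrime (Localization.AtPrime P ⧸ K.map (algebraMap A (Localization.AtPrime P))) Q := by
      show IsLocalization Q.primeCompl _
      rw [← hMQ]; infer_instance
    let _ : Algebra (A ⧸ K) ((Spec (CommRingCat.of (A ⧸ K))).presheaf.stalk (⟨Q, hQ⟩ : PrimeSpectrum (A ⧸ K))) :=
      StructureSheaf.stalkAlgebra (A ⧸ K) ⟨Q, hQ⟩
    have : IsLocalization.AtPrime ((Spec (CommRingCat.of (A ⧸ K))).presheaf.stalk (⟨Q, hQ⟩ : PrimeSpectrum (A ⧸ K))) Q :=
      StructureSheaf.IsLocalization.to_stalk (A ⧸ K) ⟨Q, hQ⟩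
    let e₁ : (Localization.AtPrime P ⧸ K.map (algebraMap A (Localization.AtPrime P))) ≃ₐ[A ⧸ K]
        ((Spec (CommRingCat.of (A ⧸ K))).presheaf.stalk (⟨Q, hQ⟩ : PrimeSpectrum (A ⧸ K))) :=
      IsLocalization.algEquiv Q.primeCompl _ _
    let e : (Localization.AtPrime P ⧸ (IsLocalRing.maximalIdeal C).map (algebraMap C (Localization.AtPrime P))) ≃+*
        ((Spec (CommRingCat.of (A ⧸ K))).presheaf.stalk (⟨Q, hQ⟩ : PrimeSpectrum (A ⧸ K))) :=
      (Ideal.quotEquivOfEq hK).trans e₁.toRingEquiv
    have hd' := e.toMulEquiv.isDomain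
    have hi' := IsIntegrallyClosed.of_equiv e.symm
    obtain ⟨x, y, hx, hy, hxy⟩ := exists_pair_of_fibre C (Localization.AtPrime P) hd' hi' (by
      have e : (((IsLocalRing.maximalIdeal (Localization.AtPrime P)).height : ℕ∞) : WithBot ℕ∞) = P.height := by
        rw [IsLocalRing.maximalIdeal_height_eq_ringKrullDim, IsLocalization.AtPrime.ringKrullDim_eq_height P (Localization.AtPrime P)]
      rw [WithBot.coe_inj.mp e]
      exact hU p hp)
    let _ : Algebra A ((Spec (CommRingCat.of A)).presheaf.stalk p) := StructureSheaf.stalkAlgebra A p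
    have : IsLocalization.AtPrime ((Spec (CommRingCat.of A)).presheaf.stalk p) P :=
      StructureSheaf.IsLocalization.to_stalk A p
    have : IsNoetherianRing ((Spec (CommRingCat.of A)).presheaf.stalk p) :=
      IsLocalization.isNoetherianRing P.primeCompl _ inferInstance
    let e₂ : Localization.AtPrime P ≃ₐ[A] ((Spec (CommRingCat.of A)).presheaf.stalk p) :=
      IsLocalization.algEquiv P.primeCompl _ _
    obtain ⟨x, y, hx, hy, hxy⟩ := GrothLib.NormFlat11.pair_of_ringEquiv e₂.toRingEquiv ⟨x, y, hx, hy, hxy⟩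
    refine (GrothLib.Depth.le_idealDepth_iff_exists (IsLocalRing.maximalIdeal _) ?_ 2).mpr
      ⟨[x, y], rfl, List.forall_mem_cons.mpr ⟨hx, List.forall_mem_cons.mpr ⟨hy, fun _ h => absurd h List.not_mem_nil⟩⟩, hxy⟩
    rw [smul_eq_mul, Ideal.mul_top]
    exact (IsLocalRing.maximalIdeal.isMaximal _).ne_top
  · have e : (⊤ : (Spec (CommRingCat.of A)).Opens) ⊓ U = U := top_inf_eq U
    revert hb
    generalize (inf_le_left : (⊤ : (Spec (CommRingCat.of A)).Opens) ⊓ U ≤ ⊤) = h
    revert h
    rw [e]
    exact fun h hb => hb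

end Groth.Agent.S11462
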