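import Groth.Agent.Lib.EmbDef.Torsor
import Groth.Statements.S11464
-- import your own Groth.Agent.* helpers here

set_option autoImplicit false
universe u
open scoped TensorProduct
open DefT

namespace Groth.Agent.S11464

/-- Let C' be a local Artin ring, J ⊊ C' a proper ideal annihilated by the maximal ideal, C = C'/J, A' a
flat C'-algebra, A = A'/JA', I ⊆ A an ideal with B = A/I flat over C, and I', I'' ⊆ A' two ideals
with C'-flat quotients both reducing to I. Then there is a unique A'-linear φ : I → B ⊗_{C'} J (=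
Hom_A(I, J ⊗_C B)) such that for all x ∈ I, all lifts x' ∈ I' and x'' ∈ I'' of x, and every z ∈ A'
⊗_{C'} J mapping to x'' − x' under multiplication, the image of z in B ⊗_{C'} J is φ(x). With the
existence half this makes the set of such ideals a pseudotorsor under Hom_A(I, J ⊗_C B). -/
theorem result (C' : Type u) [CommRing C'] [IsLocalRing C'] [IsArtinianRing C'] (J : Ideal C')
    (hJ : IsLocalRing.maximalIdeal C' * J = ⊥) (hJne : J ≠ ⊤) (A' : Type u) [CommRing A'] [Algebra C' A'] [Module.Flat C' A']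
    (I : Ideal (A' ⧸ J.map (algebraMap C' A')))
    [Module.Flat (C' ⧸ J) ((A' ⧸ J.map (algebraMap C' A')) ⧸ I)]
    (I' I'' : Ideal A') [Module.Flat C' (A' ⧸ I')] [Module.Flat C' (A' ⧸ I'')]
    (hI' : I'.map (Ideal.Quotient.mk (J.map (algebraMap C' A'))) = I)
    (hI'' : I''.map (Ideal.Quotient.mk (J.map (algebraMap C' A'))) = I) :
    ∃! φ : ↥I →ₗ[A'] (((A' ⧸ J.map (algebraMap C' A')) ⧸ I) ⊗[C'] ↥J),
      (∀ (x : (A' ⧸ J.map (algebraMap C' A'))) (hx : x ∈ I) (x' x'' : A'), x' ∈ I' → x'' ∈ I'' →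
          Ideal.Quotient.mk (J.map (algebraMap C' A')) x' = x → Ideal.Quotient.mk (J.map (algebraMap C' A')) x'' = x →
          ∀ z : A' ⊗[C'] ↥J, TensorProduct.rid C' A' (LinearMap.lTensor A' (Submodule.subtype J) z) = x'' - x' →
            LinearMap.rTensor ↥J (IsScalarTower.toAlgHom C' A' ((A' ⧸ J.map (algebraMap C' A')) ⧸ I)).toLinearMap z = φ ⟨x, hx⟩) := by
  exact GrothLib.EmbDef.existsUnique_difference J I I' I'' hI' hI'' 

end Groth.Agent.S11464
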