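import Groth.Agent.Lib.FSchSys.SpecKer
import Groth.Agent.Lib.BlowUp.IdealComap
import Groth.Agent.Lib.DefLift26.Basic
import Mathlib
import Groth.Statements.S11468
-- import your own Groth.Agent.* helpers here

set_option autoImplicit false
universe u
open CategoryTheory AlgebraicGeometry
open DefT

namespace Groth.Agent.S11468

/-- Let C be a local Artin ring with maximal ideal m and residue field k = C/m, g : X → Spec C a flat
morphism, and i : X₀ → X the fibre of g over the closed point, i.e. a pullback of g along Spec k →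
Spec C, with structure map f₀ : X₀ → Spec k. If the induced ring map k → Γ(X₀, O_{X₀}) is bijective,
then so is C → Γ(X, O_X). -/
theorem result (C : Type u) [CommRing C]
    [IsLocalRing C] [IsArtinianRing C] (X X₀ : Scheme.{u}) (g : X ⟶ Spec (CommRingCat.of C)) [Flat g]
    (i : X₀ ⟶ X) (f₀ : X₀ ⟶ Spec (CommRingCat.of (C ⧸ IsLocalRing.maximalIdeal C)))
    (hsq : IsPullback i f₀ g
      (Spec.map (CommRingCat.ofHom (Ideal.Quotient.mk (IsLocalRing.maximalIdeal C)))))
    (h0 : Function.Bijective ((Scheme.ΓSpecIso (CommRingCat.of (C ⧸ IsLocalRing.maximalIdeal C))).inv ≫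
      f₀.appTop)) :
    Function.Bijective ((Scheme.ΓSpecIso (CommRingCat.of C)).inv ≫ g.appTop) := by
  classical
  let mk := CommRingCat.ofHom (Ideal.Quotient.mk (IsLocalRing.maximalIdeal C))
  haveI : IsClosedImmersion (Spec.map mk) := IsClosedImmersion.spec_of_surjective _ Ideal.Quotient.mk_surjective
  haveI : IsClosedImmersion i := MorphismProperty.of_isPullback (P := @IsClosedImmersion) hsq.flip inferInstance
  let ψ : CommRingCat.of C ⟶ Γ(X, ⊤) := (Scheme.ΓSpecIso (CommRingCat.of C)).inv ≫ g.appTop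
  let χ : CommRingCat.of (C ⧸ (IsLocalRing.maximalIdeal C)) ⟶ Γ(X₀, ⊤) :=
    (Scheme.ΓSpecIso (CommRingCat.of (C ⧸ (IsLocalRing.maximalIdeal C)))).inv ≫ f₀.appTop
  show Function.Bijective ψ.hom
  have hψχ : ψ ≫ i.appTop = mk ≫ χ := by
    show ((Scheme.ΓSpecIso (CommRingCat.of C)).inv ≫ g.appTop) ≫ i.appTop = _
    rw [Category.assoc, ← Scheme.Hom.comp_appTop, hsq.w, Scheme.Hom.comp_appTop,
      ← Scheme.ΓSpecIso_inv_naturality_assoc]
  -- sections over affine opens
  let res : ∀ V : X.Opens, Γ(X, ⊤) →+* Γ(X, V) := fun V => (X.presheaf.map (homOfLE le_top).op).hom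
  have hker : ∀ V : X.affineOpens, RingHom.ker (i.app V.1).hom = (IsLocalRing.maximalIdeal C).map ((res V.1).comp ψ.hom) := fun V => by
    rw [← i.ker_apply V, GrothLib.FSchSys.ker_eq_comap_of_isPullback hsq,
      GrothLib.BlowUp.ideal_comap_eq_map _ g ⟨⊤, isAffineOpen_top _⟩ V le_top,
      GrothLib.FSchSys.ideal_ker_SpecMap, CommRingCat.hom_ofHom, Ideal.mk_ker, Ideal.map_map]
    rfl
  have hflat : ∀ V : X.affineOpens, ((res V.1).comp ψ.hom).Flat := fun V => by
    have h1 : (g.appLE ⊤ V.1 le_top).hom.Flat :=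
      HasRingHomProperty.appLE @Flat g inferInstance ⟨⊤, isAffineOpen_top _⟩ V le_top
    have h2 : ((Scheme.ΓSpecIso (CommRingCat.of C)).inv.hom).Flat :=
      RingHom.Flat.of_bijective (ConcreteCategory.bijective_of_isIso _)
    exact h2.comp h1
  have hann : ∀ (V : X.affineOpens) (J : Ideal C) (t : C) (y : Γ(X, V.1)), (∀ a, t * a ∈ J → a ∈ (IsLocalRing.maximalIdeal C)) →
      res V.1 (ψ.hom t) * y ∈ J.map ((res V.1).comp ψ.hom) → (i.app V.1).hom y = 0 := fun V J t y ht hy => by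
    letI := ((res V.1).comp ψ.hom).toAlgebra
    haveI : Module.Flat C Γ(X, V.1) := hflat V
    rw [← RingHom.mem_ker, hker V]
    have := GrothLib.DefLift.mem_colon_smul_top (M := Γ(X, V.1)) J t (w := y) (by
      rw [Ideal.smul_top_eq_map, Submodule.restrictScalars_mem, Algebra.smul_def]; exact hy)
    rw [Ideal.smul_top_eq_map, Submodule.restrictScalars_mem] at this
    exact Ideal.map_mono ht this
  have hnat : ∀ (V W : X.Opens) (h : W ≤ V) (y : Γ(X, V)),
      (i.app W).hom ((X.presheaf.map (homOfLE h).op).hom y) =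
        (X₀.presheaf.map ((TopologicalSpace.Opens.map i.base).map (homOfLE h)).op).hom ((i.app V).hom y) :=
    fun V W h y => congrArg (fun q : Γ(X, V) ⟶ Γ(X₀, i ⁻¹ᵁ W) => q.hom y) (i.naturality (homOfLE h).op)
  have hres : ∀ (V W : X.Opens) (h : W ≤ V) (y : Γ(X, ⊤)),
      (X.presheaf.map (homOfLE h).op).hom (res V y) = res W y := fun V W h y => by
    show ((X.presheaf.map (homOfLE le_top).op) ≫ (X.presheaf.map (homOfLE h).op)).hom y = _
    rw [← Functor.map_comp]
    rfl
  have hcover : ∀ U : X.Opens, U ≤ ⨆ W : {W : X.affineOpens // W.1 ≤ U}, W.1.1 := fun U x hx => by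
    obtain ⟨_, ⟨W, hW, rfl⟩, hxW, hWU⟩ := X.isBasis_affineOpens.exists_subset_of_mem_open hx U.2
    exact TopologicalSpace.Opens.mem_iSup.2 ⟨⟨⟨W, hW⟩, hWU⟩, hxW⟩
  refine ⟨(injective_iff_map_eq_zero _).2 fun c hc => ?_, fun x => ?_⟩
  · by_contra hc0
    have hV : ∀ V : X.affineOpens, (1 : Γ(X₀, i ⁻¹ᵁ V.1)) = 0 := fun V => by
      rw [← map_one (i.app V.1).hom]
      refine hann V ⊥ c 1 (fun a ha => ?_) (by rw [hc, map_zero, zero_mul]; exact zero_mem _)
      by_contra hu
      exact hc0 ((IsLocalRing.notMem_maximalIdeal.1 hu).mul_left_eq_zero.1 ha)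
    have h10 : (1 : Γ(X₀, ⊤)) = 0 := by
      refine X₀.sheaf.eq_of_locally_eq' (fun V : X.affineOpens => i ⁻¹ᵁ V.1) ⊤ (fun V => homOfLE le_top)
        (fun x _ => ?_) 1 0 fun V => ?_
      · obtain ⟨W, hW⟩ := TopologicalSpace.Opens.mem_iSup.1 (hcover ⊤ (show i.base x ∈ (⊤ : X.Opens) from trivial))
        exact TopologicalSpace.Opens.mem_iSup.2 ⟨W.1, hW⟩
      · show (X₀.presheaf.map _).hom 1 = (X₀.presheaf.map _).hom 0
        rw [map_one, map_zero]; exact hV V
    exact one_ne_zero (h0.1 (show χ.hom 1 = χ.hom 0 by rw [map_one, map_zero, h10]))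
  suffices H : ∀ J : Ideal C, (∃ c, ∀ V : X.affineOpens, res V.1 (x - ψ.hom c) ∈ J.map ((res V.1).comp ψ.hom)) →
      ∃ c, ψ.hom c = x from H ⊤ ⟨0, fun V => by rw [Ideal.map_top]; trivial⟩
  intro J
  induction J using WellFoundedLT.induction with
  | ind J ih =>
    rintro ⟨c, hc⟩
    by_cases hJ : J = ⊥
    · refine ⟨c, (sub_eq_zero.1 ?_).symm⟩
      refine X.sheaf.eq_of_locally_eq' (fun V : {V : X.affineOpens // V.1 ≤ ⊤} => V.1.1) ⊤
        (fun V => homOfLE le_top) (hcover ⊤) _ 0 fun V => ?_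
      show res V.1.1 (x - ψ.hom c) = (X.presheaf.map _).hom 0
      rw [map_zero]
      have := hc V.1
      rwa [hJ, Ideal.map_bot] at this
    obtain ⟨J', hJ', hmax⟩ := (wellFounded_gt (α := Ideal C)).has_min {I : Ideal C | I < J}
      ⟨⊥, bot_lt_iff_ne_bot.2 hJ⟩
    have hJ'' : J' < J := hJ'
    have hmax' : ∀ I : Ideal C, I < J → J' ≤ I → I = J' := fun I h1 h2 => by
      by_contra h
      exact hmax I h1 (lt_of_le_of_ne h2 (Ne.symm h))
    obtain ⟨t, htJ, htJ'⟩ := SetLike.exists_of_lt hJ''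
    have hJt : J = J' ⊔ Ideal.span {t} := by
      by_contra h
      have hle : J' ⊔ Ideal.span {t} ≤ J := sup_le hJ''.le (by rwa [Ideal.span_le, Set.singleton_subset_iff])
      exact htJ' (sup_eq_left.1 (hmax' _ (lt_of_le_of_ne hle (Ne.symm h)) le_sup_left)
        (Ideal.mem_span_singleton_self t))
    have hmJ : (IsLocalRing.maximalIdeal C) * J ≤ J' := by
      by_contra h
      have h1 : J' ⊔ (IsLocalRing.maximalIdeal C) * J = J := by
        by_contra h2
        exact h (sup_eq_left.1 (hmax' _ (lt_of_le_of_ne (sup_le hJ''.le Ideal.mul_le_right) h2) le_sup_left))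
      exact hJ''.not_ge (Submodule.le_of_le_smul_of_le_jacobson_bot (IsNoetherian.noetherian J)
        (IsLocalRing.maximalIdeal_le_jacobson _) (h1.ge.trans (sup_le_sup_left (by rw [smul_eq_mul]) _)))
    have ht : ∀ a, t * a ∈ J' → a ∈ (IsLocalRing.maximalIdeal C) := fun a ha => by
      by_contra hu
      exact htJ' ((Ideal.mul_unit_mem_iff_mem J' (IsLocalRing.notMem_maximalIdeal.1 hu)).1 ha)
    have hy : ∀ V : X.affineOpens, ∃ y, res V.1 (x - ψ.hom c) - res V.1 (ψ.hom t) * y ∈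
        J'.map ((res V.1).comp ψ.hom) := fun V => by
      have := hc V
      rw [hJt, Ideal.map_sup, Ideal.map_span, Set.image_singleton] at this
      obtain ⟨a, ha, b, hb, hab⟩ := Submodule.mem_sup.1 this
      obtain ⟨y, rfl⟩ := Ideal.mem_span_singleton'.1 hb
      refine ⟨y, ?_⟩
      rw [← hab]
      show a + y * res V.1 (ψ.hom t) - res V.1 (ψ.hom t) * y ∈ _
      rw [show a + y * res V.1 (ψ.hom t) - res V.1 (ψ.hom t) * y = a by ring]
      exact ha
    choose y hy using hy
    let z : ∀ V : X.affineOpens, Γ(X₀, i ⁻¹ᵁ V.1) := fun V => (i.app V.1).hom (y V)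
    have hzres : ∀ (V W : X.affineOpens) (h : W.1 ≤ V.1),
        (X₀.presheaf.map ((TopologicalSpace.Opens.map i.base).map (homOfLE h)).op).hom (z V) = z W := fun V W h => by
      rw [← hnat, ← sub_eq_zero, ← map_sub]
      refine hann W J' t _ ht ?_
      have h1 := Ideal.mem_map_of_mem (X.presheaf.map (homOfLE h).op).hom (hy V)
      rw [Ideal.map_map, show (X.presheaf.map (homOfLE h).op).hom.comp ((res V.1).comp ψ.hom) = (res W.1).comp ψ.hom
        from RingHom.ext fun a => hres V.1 W.1 h (ψ.hom a), map_sub, map_mul, hres, hres] at h1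
      have := sub_mem (hy W) h1
      rwa [show res W.1 (x - ψ.hom c) - res W.1 (ψ.hom t) * y W -
          (res W.1 (x - ψ.hom c) - res W.1 (ψ.hom t) * (X.presheaf.map (homOfLE h).op).hom (y V)) =
          res W.1 (ψ.hom t) * ((X.presheaf.map (homOfLE h).op).hom (y V) - y W) by ring] at this
    have hcompat : TopCat.Presheaf.IsCompatible X₀.sheaf.1 (fun V : X.affineOpens => i ⁻¹ᵁ V.1) z := fun V V' => by
      refine X₀.sheaf.eq_of_locally_eq' (fun W : {W : X.affineOpens // W.1 ≤ V.1 ⊓ V'.1} => i ⁻¹ᵁ W.1.1) _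
        (fun W => (TopologicalSpace.Opens.map i.base).map (homOfLE W.2)) (fun a ha => ?_) _ _ fun W => ?_
      · obtain ⟨W, hW⟩ := TopologicalSpace.Opens.mem_iSup.1 (hcover (V.1 ⊓ V'.1) (show i.base a ∈ _ from ha))
        exact TopologicalSpace.Opens.mem_iSup.2 ⟨W, hW⟩
      · show (X₀.presheaf.map _).hom ((X₀.presheaf.map _).hom (z V)) =
          (X₀.presheaf.map _).hom ((X₀.presheaf.map _).hom (z V'))
        have hcomb : ∀ (U₁ U₂ U₃ : X₀.Opens) (a : U₂ ⟶ U₁) (b : U₃ ⟶ U₂) (w : Γ(X₀, U₁)),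
            (X₀.presheaf.map b.op).hom ((X₀.presheaf.map a.op).hom w) = (X₀.presheaf.map (b ≫ a).op).hom w :=
          fun U₁ U₂ U₃ a b w => by rw [op_comp, Functor.map_comp]; rfl
        erw [hcomb, hcomb]
        exact (hzres V W.1 (W.2.trans inf_le_left)).trans (hzres V' W.1 (W.2.trans inf_le_right)).symm
    obtain ⟨s, hs, -⟩ := X₀.sheaf.existsUnique_gluing' (fun V : X.affineOpens => i ⁻¹ᵁ V.1) ⊤
      (fun V => homOfLE le_top) (fun a _ => by
        obtain ⟨W, hW⟩ := TopologicalSpace.Opens.mem_iSup.1 (hcover ⊤ (show i.base a ∈ (⊤ : X.Opens) from trivial))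
        exact TopologicalSpace.Opens.mem_iSup.2 ⟨W.1, hW⟩) z hcompat
    obtain ⟨d', hd'⟩ := h0.2 s
    obtain ⟨d, rfl⟩ := Ideal.Quotient.mk_surjective d'
    refine ih J' hJ'' ⟨c + t * d, fun V => ?_⟩
    have h1 : (i.app V.1).hom (y V - res V.1 (ψ.hom d)) = 0 := by
      have e1 : (i.app V.1).hom (res V.1 (ψ.hom d)) = z V := by
        rw [show res V.1 (ψ.hom d) = (X.presheaf.map (homOfLE le_top).op).hom (ψ.hom d) from rfl, hnat]
        have h2 := congrArg (fun q : CommRingCat.of C ⟶ Γ(X₀, ⊤) => q.hom d) hψχ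
        simp only [CommRingCat.hom_comp, RingHom.comp_apply] at h2
        refine Eq.trans (congrArg _ (h2.trans hd')) ?_
        exact hs V
      rw [map_sub, e1, sub_self]
    rw [← RingHom.mem_ker, hker V] at h1
    have h3 : res V.1 (ψ.hom t) * (y V - res V.1 (ψ.hom d)) ∈ J'.map ((res V.1).comp ψ.hom) := by
      refine Ideal.map_mono hmJ ?_
      rw [Ideal.map_mul, mul_comm (Ideal.map _ (IsLocalRing.maximalIdeal C))]
      exact Ideal.mul_mem_mul (Ideal.mem_map_of_mem ((res V.1).comp ψ.hom) htJ) h1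
    have := add_mem (hy V) h3
    rwa [show res V.1 (x - ψ.hom c) - res V.1 (ψ.hom t) * y V + res V.1 (ψ.hom t) * (y V - res V.1 (ψ.hom d)) =
        res V.1 (x - ψ.hom (c + t * d)) by simp only [map_add, map_mul, map_sub]; ring] at this

end Groth.Agent.S11468
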