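import Groth.Statements.S11470
import Mathlib.Algebra.Polynomial.Reverse
import Mathlib.Tactic

set_option autoImplicit false
universe u
open Curves

namespace Groth.Agent.S11470

open Polynomial in
theorem aeval_ratFuncX {k : Type u} [Field k] (P : k[X]) :
    aeval (RatFunc.X : RatFunc k) P = algebraMap k[X] (RatFunc k) P := by
  conv_rhs => rw [← aeval_X_left_apply P]
  rw [← aeval_algebraMap_apply, RatFunc.algebraMap_X]

open Polynomial in
theorem coeff_of_reflect {k : Type u} [Field k] {P : k[X]} {n : ℕ}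
    (h : reflect (P.natDegree + 3 * n) P = C ((-1) ^ n) * X ^ P.natDegree * P) :
    P.natDegree ≤ 3 * n ∧ P.coeff 0 = (-1) ^ n * P.coeff (3 * n) := by
  constructor
  · by_contra hlt
    have h1 := congrArg (fun q => q.coeff (P.natDegree + P.natDegree)) h
    simp only [coeff_reflect, mul_assoc, coeff_C_mul, coeff_X_pow_mul] at h1
    have h2 : revAt (P.natDegree + 3 * n) (P.natDegree + P.natDegree) = P.natDegree + P.natDegree := by
      simp [revAt]; omega
    rw [h2, coeff_eq_zero_of_natDegree_lt (by omega : P.natDegree < P.natDegree + P.natDegree),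
      zero_eq_mul] at h1
    rcases h1 with h1 | h1
    · exact absurd h1 (pow_ne_zero _ (by norm_num))
    · have hP : P = 0 := leadingCoeff_eq_zero.mp h1
      simp [hP] at hlt
  · have h1 := congrArg (fun q => q.coeff (3 * n + P.natDegree)) h
    simp only [coeff_reflect, mul_assoc, coeff_C_mul, coeff_X_pow_mul] at h1
    rwa [revAt_le (by omega), show P.natDegree + 3 * n - (3 * n + P.natDegree) = 0 by omega] at h1

open Polynomial in
theorem mem_of_invariant {k : Type u} [Field k] (h2 : (2 : k) ≠ 0)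
    (σ τ : RatFunc k ≃ₐ[k] RatFunc k) (hσ : σ RatFunc.X = (RatFunc.X : RatFunc k)⁻¹)
    (hτ : τ RatFunc.X = 1 - (RatFunc.X : RatFunc k)) (S : Subalgebra k (RatFunc k))
    (hS : ((RatFunc.X : RatFunc k) ^ 2 - RatFunc.X + 1) ^ 3 /
      ((RatFunc.X : RatFunc k) * (RatFunc.X - 1)) ^ 2 ∈ S) :
    ∀ (n : ℕ) (b : RatFunc k) (P : k[X]),
      b * ((RatFunc.X : RatFunc k) * (RatFunc.X - 1)) ^ n = algebraMap k[X] (RatFunc k) P →
      σ b = b → τ b = b → b ∈ S := by
  set x : RatFunc k := RatFunc.X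
  have hx : x ≠ 0 := RatFunc.X_ne_zero
  have hx1 : x - 1 ≠ 0 := by
    intro h
    have : algebraMap k[X] (RatFunc k) (X - C 1) = 0 := by simpa [x] using h
    exact X_sub_C_ne_zero 1 ((map_eq_zero_iff _ (IsFractionRing.injective _ _)).mp this)
  set t : RatFunc k := (x ^ 2 - x + 1) ^ 3 / (x * (x - 1)) ^ 2
  have hσt : σ t = t := by
    simp only [t, map_div₀, map_pow, map_mul, map_sub, map_add, map_one, hσ]
    have hx2 : 1 - x ≠ 0 := by rwa [← neg_sub, neg_ne_zero]
    have e1 : x⁻¹ - 1 = (1 - x) / x := by field_simp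
    have e2 : x⁻¹ ^ 2 - x⁻¹ + 1 = (x ^ 2 - x + 1) / x ^ 2 := by field_simp; ring
    rw [e1, e2, div_eq_div_iff (pow_ne_zero 2 (mul_ne_zero (inv_ne_zero hx) (div_ne_zero hx2 hx)))
      (pow_ne_zero 2 (mul_ne_zero hx hx1))]
    field_simp
    ring
  have hτt : τ t = t := by
    simp only [t, map_div₀, map_pow, map_mul, map_sub, map_add, map_one, hτ]
    ring
  have hτu : τ (x * (x - 1)) = x * (x - 1) := by
    simp only [map_mul, map_sub, map_one, hτ]; ring
  have hσu : σ (x * (x - 1)) = -(x * (x - 1)) * x⁻¹ ^ 3 := by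
    simp only [map_mul, map_sub, map_one, hσ]
    field_simp
    ring
  have hrel : ∀ (n : ℕ) (b : RatFunc k) (P : k[X]),
      b * (x * (x - 1)) ^ n = algebraMap k[X] (RatFunc k) P → σ b = b →
      reflect (P.natDegree + 3 * n) P = C ((-1) ^ n) * X ^ P.natDegree * P := by
    intro n b P hb hbσ
    apply IsFractionRing.injective k[X] (RatFunc k)
    have h1 := congrArg σ hb
    rw [map_mul, map_pow, hbσ, hσu, ← aeval_ratFuncX, ← aeval_algHom_apply, hσ] at h1
    let : Invertible (x⁻¹) := invertibleOfNonzero (inv_ne_zero hx)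
    have h3 := eval₂_reflect_mul_pow (algebraMap k (RatFunc k)) (x⁻¹) (P.natDegree + 3 * n) P
      (Nat.le_add_right _ _)
    rw [invOf_eq_inv, inv_inv, ← aeval_def, ← aeval_def, aeval_ratFuncX, ← h1] at h3
    have h4 : algebraMap k[X] (RatFunc k) (reflect (P.natDegree + 3 * n) P) =
        b * (-(x * (x - 1)) * x⁻¹ ^ 3) ^ n * x ^ (P.natDegree + 3 * n) := by
      rw [← h3, mul_assoc, ← mul_pow, inv_mul_cancel₀ hx, one_pow, mul_one]
    have h5 : x⁻¹ ^ (3 * n) * x ^ (3 * n) = 1 := by
      rw [← mul_pow, inv_mul_cancel₀ hx, one_pow]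
    rw [h4, map_mul, map_mul, ← hb, neg_mul, neg_pow, mul_pow,
      ← pow_mul, pow_add]
    simp only [map_pow, map_neg, map_one, RatFunc.algebraMap_X]
    linear_combination ((-1 : RatFunc k) ^ n * b * (x * (x - 1)) ^ n * x ^ P.natDegree) * h5
  intro n
  induction n with
  | zero =>
    intro b P hb hbσ _
    have h := (coeff_of_reflect (hrel 0 b P hb hbσ)).1
    rw [pow_zero, mul_one] at hb
    rw [hb, eq_C_of_natDegree_le_zero (p := P) (by simpa using h), RatFunc.algebraMap_C,
      ← RatFunc.algebraMap_eq_C]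
    exact S.algebraMap_mem _
  | succ n ih =>
    have main : ∀ (b : RatFunc k) (P : k[X]), P.coeff 0 = 0 →
        b * (x * (x - 1)) ^ (n + 1) = algebraMap k[X] (RatFunc k) P →
        σ b = b → τ b = b → b ∈ S := by
      intro b P h0 hb hbσ hbτ
      have h1 := congrArg τ hb
      rw [map_mul, map_pow, hbτ, hτu, hb, ← aeval_ratFuncX, ← aeval_algHom_apply, hτ] at h1
      have hcomp : P = P.comp (1 - X) := by
        apply IsFractionRing.injective k[X] (RatFunc k)
        rw [← aeval_ratFuncX, h1, ← aeval_ratFuncX, aeval_comp]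
        simp [x]
      have he1 : P.eval 1 = 0 := by
        rw [hcomp, eval_comp]
        simpa [coeff_zero_eq_eval_zero] using h0
      obtain ⟨Q, rfl⟩ := (Polynomial.dvd_iff_isRoot (p := P) (a := (1 : k))).mpr he1
      have hQ : Q.coeff 0 = 0 := by
        simpa [coeff_zero_eq_eval_zero] using h0
      obtain ⟨R, rfl⟩ := X_dvd_iff.mpr hQ
      refine ih b R (mul_right_cancel₀ (mul_ne_zero hx hx1) ?_) hbσ hbτ
      rw [mul_assoc, ← pow_succ, hb]
      simp only [map_mul, map_sub, map_one, RatFunc.algebraMap_X]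
      ring
    intro b P hb hbσ hbτ
    by_cases h0 : P.coeff 0 = 0
    · exact main b P h0 hb hbσ hbτ
    have h := coeff_of_reflect (hrel (n + 1) b P hb hbσ)
    have hdeg : P.natDegree = 3 * (n + 1) := le_antisymm h.1 (le_natDegree_of_ne_zero fun hz =>
      h0 (by rw [h.2, hz, mul_zero]))
    obtain ⟨m, hm⟩ : Even P.natDegree := by
      have h1 := congrArg τ hb
      rw [map_mul, map_pow, hbτ, hτu, hb, ← aeval_ratFuncX, ← aeval_algHom_apply, hτ] at h1
      have hcomp : P = P.comp (1 - X) := by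
        apply IsFractionRing.injective k[X] (RatFunc k)
        rw [← aeval_ratFuncX, h1, ← aeval_ratFuncX, aeval_comp]
        simp [x]
      by_contra hodd
      rw [Nat.not_even_iff_odd] at hodd
      have hdeg1 : (1 - X : k[X]).natDegree = 1 := by
        rw [show (1 - X : k[X]) = -(X - C 1) by simp, natDegree_neg, natDegree_X_sub_C]
      have hl := congrArg leadingCoeff hcomp
      rw [leadingCoeff_comp (by omega), show (1 - X : k[X]).leadingCoeff = -1 by
        rw [show (1 - X : k[X]) = -(X - C 1) by simp, leadingCoeff_neg, leadingCoeff_X_sub_C],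
        hodd.neg_one_pow] at hl
      have hP0 : P ≠ 0 := fun hP => h0 (by simp [hP])
      exact mul_ne_zero h2 (leadingCoeff_ne_zero.mpr hP0) (by linear_combination hl)
    obtain ⟨m', hm'⟩ : ∃ m', n + 1 = 2 * m' := by
      rcases Nat.even_or_odd (n + 1) with h' | h'
      · exact ⟨_, h'.exists_two_nsmul _ |>.choose_spec⟩
      · obtain ⟨l, hl⟩ := h'
        omega
    let c : k := P.coeff 0
    have key : b - algebraMap k (RatFunc k) c * t ^ m' ∈ S := by
      refine main _ (P - C c * (X ^ 2 - X + 1) ^ (3 * m')) ?_ ?_ ?_ ?_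
      · simp only [coeff_zero_eq_eval_zero, eval_sub, eval_mul, eval_C, eval_pow, eval_add, eval_X,
          eval_one, c]
        simp
      · rw [sub_mul, hb, map_sub, map_mul, map_pow, RatFunc.algebraMap_C, RatFunc.algebraMap_eq_C,
          mul_assoc]
        congr 1
        congr 1
        rw [hm', pow_mul _ 2 m', ← mul_pow, pow_mul _ 3 m']
        congr 1
        simp only [t, map_add, map_sub, map_pow, map_one, RatFunc.algebraMap_X]
        exact div_mul_cancel₀ _ (pow_ne_zero 2 (mul_ne_zero hx hx1))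
      · rw [map_sub, map_mul, map_pow, AlgEquiv.commutes, hbσ, hσt]
      · rw [map_sub, map_mul, map_pow, AlgEquiv.commutes, hbτ, hτt]
    have h3 := add_mem key (S.mul_mem (S.algebraMap_mem c) (pow_mem hS m'))
    rwa [sub_add_cancel] at h3

/-- The algebraic step of its proof: Fix an algebraically closed field k whose characteristic is neither
2 nor 3, let B ⊆ k(λ) be the k-subalgebra generated by λ, λ⁻¹ and (λ - 1)⁻¹ (the coordinate ring of
the λ-line with 0 and 1 removed), and let σ and τ be the k-algebra automorphisms of k(λ) determined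
by σ(λ) = λ⁻¹ and τ(λ) = 1 - λ (they generate the group of order six permuting λ, 1/λ, 1-λ, 1/(1-λ),
λ/(λ-1), (λ-1)/λ). Then the elements of B fixed by σ and τ are exactly the elements of the
k-subalgebra generated by j = 256 (λ² - λ + 1)³ / (λ² (λ - 1)²); in other words the ring of
invariants of B is the polynomial ring k[j]. -/
theorem result (k : Type u) [Field k] [IsAlgClosed k]
    (h2 : (2 : k) ≠ 0) (h3 : (3 : k) ≠ 0)
    (σ τ : RatFunc k ≃ₐ[k] RatFunc k) (hσ : σ RatFunc.X = (RatFunc.X : RatFunc k)⁻¹)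
    (hτ : τ RatFunc.X = 1 - (RatFunc.X : RatFunc k)) (b : RatFunc k) :
    (b ∈ Algebra.adjoin k ({RatFunc.X, (RatFunc.X : RatFunc k)⁻¹, ((RatFunc.X : RatFunc k) - 1)⁻¹} : Set (RatFunc k)) ∧
        σ b = b ∧ τ b = b) ↔
      b ∈ Algebra.adjoin k ({(256 : RatFunc k) * ((RatFunc.X : RatFunc k) ^ 2 - RatFunc.X + 1) ^ 3 /
        ((RatFunc.X : RatFunc k) ^ 2 * ((RatFunc.X : RatFunc k) - 1) ^ 2)} : Set (RatFunc k)) := by
  have h256 : (256 : k) ≠ 0 := by
    rw [show (256 : k) = 2 ^ 8 by norm_num]; exact pow_ne_zero _ h2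
  have hx : (RatFunc.X : RatFunc k) ≠ 0 := RatFunc.X_ne_zero
  have hx1 : (RatFunc.X : RatFunc k) - 1 ≠ 0 := by
    intro h
    have : algebraMap (Polynomial k) (RatFunc k) (Polynomial.X - Polynomial.C 1) = 0 := by
      simpa using h
    exact Polynomial.X_sub_C_ne_zero 1 ((map_eq_zero_iff _ (IsFractionRing.injective _ _)).mp this)
  set x : RatFunc k := RatFunc.X
  set B := Algebra.adjoin k ({x, x⁻¹, (x - 1)⁻¹} : Set (RatFunc k))
  set j : RatFunc k := 256 * (x ^ 2 - x + 1) ^ 3 / (x ^ 2 * (x - 1) ^ 2)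
  set J := Algebra.adjoin k ({j} : Set (RatFunc k))
  have hjσ : σ j = j := by
    simp only [j, map_div₀, map_mul, map_pow, map_sub, map_add, map_one, map_ofNat, hσ]
    have hx2 : 1 - x ≠ 0 := by rwa [← neg_sub, neg_ne_zero]
    have e1 : x⁻¹ - 1 = (1 - x) / x := by field_simp
    have e2 : x⁻¹ ^ 2 - x⁻¹ + 1 = (x ^ 2 - x + 1) / x ^ 2 := by field_simp; ring
    rw [e1, e2, div_eq_div_iff
      (mul_ne_zero (pow_ne_zero 2 (inv_ne_zero hx)) (pow_ne_zero 2 (div_ne_zero hx2 hx)))
      (mul_ne_zero (pow_ne_zero 2 hx) (pow_ne_zero 2 hx1))]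
    field_simp
    ring
  have hjτ : τ j = j := by
    simp only [j, map_div₀, map_mul, map_pow, map_sub, map_add, map_one, map_ofNat, hτ]
    ring
  constructor
  · rintro ⟨hb, hbσ, hbτ⟩
    obtain ⟨n, P, hP⟩ : ∃ n P, b * (x * (x - 1)) ^ n = algebraMap (Polynomial k) (RatFunc k) P := by
      clear hbσ hbτ
      induction hb using Algebra.adjoin_induction with
      | mem y hy =>
        rcases hy with rfl | rfl | rfl
        · exact ⟨0, Polynomial.X, by simp [x]⟩
        · exact ⟨1, Polynomial.X - 1, by rw [pow_one, ← mul_assoc, inv_mul_cancel₀ hx, one_mul]; simp [x]⟩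
        · refine ⟨1, Polynomial.X, ?_⟩
          rw [RatFunc.algebraMap_X]
          field_simp
          rfl
      | algebraMap r =>
        exact ⟨0, Polynomial.C r, by simp [RatFunc.algebraMap_eq_C]⟩
      | add y z _ _ hy hz =>
        obtain ⟨n, P, hP⟩ := hy
        obtain ⟨m, Q, hQ⟩ := hz
        refine ⟨n + m, P * (Polynomial.X * (Polynomial.X - 1)) ^ m +
          Q * (Polynomial.X * (Polynomial.X - 1)) ^ n, ?_⟩
        simp only [map_add, map_mul, map_pow, map_sub, map_one, RatFunc.algebraMap_X, ← hP, ← hQ]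
        ring
      | mul y z _ _ hy hz =>
        obtain ⟨n, P, hP⟩ := hy
        obtain ⟨m, Q, hQ⟩ := hz
        exact ⟨n + m, P * Q, by rw [map_mul, ← hP, ← hQ]; ring⟩
    refine mem_of_invariant h2 σ τ hσ hτ J ?_ n b P hP hbσ hbτ
    have : (x ^ 2 - x + 1) ^ 3 / (x * (x - 1)) ^ 2 = algebraMap k (RatFunc k) (256 : k)⁻¹ * j := by
      have h256' : (256 : RatFunc k) ≠ 0 := by
        rw [← map_ofNat (algebraMap k (RatFunc k)) 256]; simpa using h256
      rw [map_inv₀, map_ofNat]
      simp only [j]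
      field_simp
    rw [this]
    exact J.mul_mem (J.algebraMap_mem _) (Algebra.self_mem_adjoin_singleton k j)
  · intro hb
    refine ⟨?_, ?_⟩
    · refine Algebra.adjoin_le (S := B) ?_ hb
      rintro _ rfl
      have hj : j = algebraMap k (RatFunc k) 256 * ((x ^ 2 - x + 1) ^ 3 *
          (x⁻¹ ^ 2 * ((x - 1)⁻¹) ^ 2)) := by
        rw [map_ofNat]; simp only [j]; field_simp
      rw [SetLike.mem_coe, hj]
      have hxB : x ∈ B := Algebra.subset_adjoin (by simp)
      exact B.mul_mem (B.algebraMap_mem _) (B.mul_mem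
        (pow_mem (add_mem (sub_mem (pow_mem hxB 2) hxB) B.one_mem) 3)
        (B.mul_mem (pow_mem (Algebra.subset_adjoin (by simp)) 2)
          (pow_mem (Algebra.subset_adjoin (by simp)) 2)))
    · exact ⟨(AlgHom.eqOn_adjoin_iff (φ := σ.toAlgHom) (ψ := AlgHom.id k _)).mpr (by simpa using hjσ) hb,
        (AlgHom.eqOn_adjoin_iff (φ := τ.toAlgHom) (ψ := AlgHom.id k _)).mpr (by simpa using hjτ) hb⟩

end Groth.Agent.S11470
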