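import Groth.Statements.S11473
import Groth.Agent.Lib.GenusZeroFam2.Artinian

set_option autoImplicit false
set_option linter.all false
universe u
open CategoryTheory CategoryTheory.Limits AlgebraicGeometry
open Curves

namespace Groth.Agent.S11473

/-- Let C be an Artinian local ring whose residue field k is algebraically closed, and let f : X → Spec
C be a family of curves of genus zero: f is smooth and proper and its closed fibre X ×_C k is an
integral k-scheme of dimension one with H¹(O) = 0 (over the algebraically closed field k this is the
condition on the one geometric fibre). Then the family is trivial: X is C-isomorphic to P¹_C. -/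
theorem result (C : Type u) [CommRing C] [IsArtinianRing C] [IsLocalRing C]
    [IsAlgClosed (IsLocalRing.ResidueField C)] {X : Scheme.{u}} (f : X ⟶ Spec (CommRingCat.of C)) [Smooth f] [IsProper f]
    (hint : IsIntegral (pullback f (Spec.map (CommRingCat.ofHom (IsLocalRing.residue C)))))
    (hdim : topologicalKrullDim ↥(pullback f (Spec.map (CommRingCat.ofHom (IsLocalRing.residue C)))) = 1)
    (hg : @Curv2.genus (IsLocalRing.ResidueField C) _ (pullback f (Spec.map (CommRingCat.ofHom (IsLocalRing.residue C))))
        ⟨pullback.snd f (Spec.map (CommRingCat.ofHom (IsLocalRing.residue C)))⟩ = 0) :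
    ∃ e : X ≅ CohB1.ProjSpace 1 C, e.hom ≫ CohB1.ProjSpace.toSpec 1 C = f :=
  GrothLib.GenusZeroFam2.artinian_projSpace f hint hdim hg

end Groth.Agent.S11473
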