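import Groth.Statements.S1148
import Mathlib

set_option autoImplicit false
universe u
open Desc

namespace Groth.Agent.S1148

/-- Affine form (finiteness of irreducible components of quasi-compact opens is fppf local; this is the
ascent direction for a morphism of affine schemes). Let A → B be a flat ring map of finite
presentation. If Spec A has finitely many irreducible components, then so does Spec B. -/
theorem result (A B : Type u) [CommRing A] [CommRing B] [Algebra A B]
    [Module.Flat A B] [Algebra.FinitePresentation A B] (h : (irreducibleComponents (PrimeSpectrum A)).Finite) :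
    (irreducibleComponents (PrimeSpectrum B)).Finite := by
  have hA : (minimalPrimes A).Finite := by
    rw [← PrimeSpectrum.vanishingIdeal_irreducibleComponents A]; exact h.image _
  rw [← PrimeSpectrum.zeroLocus_minimalPrimes B]
  refine Set.Finite.image _ ?_
  let F : {p : PrimeSpectrum A // IsMin p} → Set (Ideal B) := fun p =>
    (fun q : PrimeSpectrum (p.1.asIdeal.Fiber B) => q.1.comap Algebra.TensorProduct.includeRight.toRingHom) ''
      {q | IsMin q}
  haveI : Finite {p : PrimeSpectrum A // IsMin p} := by
    haveI := hA.to_subtype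
    exact Finite.of_injective (fun p => (⟨p.1.asIdeal, PrimeSpectrum.isMin_iff.mp p.2⟩ : minimalPrimes A))
      fun p q e => Subtype.ext (PrimeSpectrum.ext (congrArg Subtype.val e))
  refine (Set.finite_iUnion (f := F) fun p => ?_).subset ?_
  · refine Set.Finite.image _ ?_
    haveI : IsNoetherianRing (p.1.asIdeal.Fiber B) :=
      Algebra.FiniteType.isNoetherianRing p.1.asIdeal.ResidueField _
    refine ((minimalPrimes.finite_of_isNoetherianRing (p.1.asIdeal.Fiber B)).preimage
      (fun a _ b _ e => PrimeSpectrum.ext e)).subset fun q hq => PrimeSpectrum.isMin_iff.mp hq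
  · intro q hq
    haveI : q.IsPrime := hq.1.1
    have hmin : ∀ P : Ideal B, P.IsPrime → P ≤ q → P = q := fun P hP hle =>
      le_antisymm hle (hq.2 ⟨hP, bot_le⟩ hle)
    let p : PrimeSpectrum A := ⟨q.under A, inferInstance⟩
    have hp : IsMin p := fun p' hp' => by
      obtain ⟨P, hPq, hP, hPp⟩ := Ideal.exists_ideal_le_liesOver_of_le (p := p'.asIdeal) (q := q.under A) q hp'
      have := hPp.over
      rw [hmin P hP hPq] at this
      exact this.ge
    refine Set.mem_iUnion.mpr ⟨⟨p, hp⟩, ?_⟩
    let e := PrimeSpectrum.primesOverOrderIsoFiber A B p.asIdeal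
    let qq : p.asIdeal.primesOver B := ⟨q, inferInstance, ⟨rfl⟩⟩
    refine ⟨e qq, (e.isMin_apply).mpr fun P hP => ?_, ?_⟩
    · show q ≤ P.1
      exact (hmin P.1 P.2.1 hP).ge
    · have := PrimeSpectrum.coe_primesOverOrderIsoFiber_symm_apply p.asIdeal (e qq)
      rw [e.symm_apply_apply] at this
      exact this.symm

end Groth.Agent.S1148
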