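import Groth.Statements.S11482
import Groth.Agent.Lib.CurveMult.RankTwo

set_option autoImplicit false
universe u
open CategoryTheory CategoryTheory.Limits AlgebraicGeometry
open Curves

namespace Groth.Agent.S11482

/-- Fix an algebraically closed field k and a nonsingular projective curve X over k of genus g (smooth,
proper, integral, of dimension one, g = dim H¹(X, O_X)) and E a locally free sheaf of rank 2 and
degree d (degree = χ(E) − 2χ(O_X)) that is indecomposable: in any decomposition E ≅ E₁ ⊕ E₂ one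
summand is zero. Then (a) every invertible subsheaf L ⊆ E has 2·deg L ≤ d + 2g − 2, and (b) there is
an invertible subsheaf L ⊆ E with d − 2g ≤ 2·deg L. (The published statement is that indecomposable
bundles of fixed rank and degree form a bounded family; this row states, in rank two, the degree
bounds for invertible subsheaves on which its proof rests.) -/
theorem result (k : Type u) [Field k] [IsAlgClosed k]
    (X : Scheme.{u}) [X.Over (Spec (CommRingCat.of k))] (hX : Curve.IsSmoothProperCurve k X (X ↘ Spec (CommRingCat.of k)))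
    (E : X.Modules) (hE : FlatMod.IsFinLocFreeOfRank 2 E)
    (hind : ∀ (E₁ E₂ : X.Modules), Nonempty (E ≅ E₁ ⊞ E₂) → IsZero E₁ ∨ IsZero E₂) :
    (∀ (L : X.Modules) (ι : L ⟶ E), PicF.IsInvertible L → Mono ι →
        2 * Curv2.deg k X L 1 ≤ Curv2.deg k X E 2 + 2 * (Curv2.genus k X : ℤ) - 2) ∧
      ∃ (L : X.Modules) (ι : L ⟶ E), PicF.IsInvertible L ∧ Mono ι ∧
        Curv2.deg k X E 2 - 2 * (Curv2.genus k X : ℤ) ≤ 2 * Curv2.deg k X L 1 := by
  obtain ⟨hp, hs, hint, hd⟩ := hX
  haveI := hp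
  haveI := hs
  haveI := hint
  haveI := GrothLib.Euler.isNoetherian_of_proper (X := X) k
  haveI := GrothLib.CurveRR.regCurve_of_smooth (X ↘ Spec (CommRingCat.of k)) hd
  have hpid := GrothLib.Euler.isPrincipalIdealRing_stalk_of_smooth (X ↘ Spec (CommRingCat.of k)) hd.le
  have hE' := GrothLib.FinCov.isFinLocFree_of_rank hE
  have hEc := GrothLib.Euler.isCoh_of_isFinLocFree hE'
  -- a line subbundle of degree at least `(d - 2g) / 2`
  have hex : ∃ (L : X.Modules) (ι : L ⟶ E), PicF.IsInvertible L ∧ Mono ι ∧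
      Curv2.deg k X E 2 - 2 * (Curv2.genus k X : ℤ) ≤ 2 * Curv2.deg k X L 1 := by
    obtain ⟨m, hm1, hm2⟩ : ∃ m : ℤ, 2 * m ≤ 2 * (Curv2.genus k X : ℤ) - Curv2.deg k X E 2 ∧
        2 * (Curv2.genus k X : ℤ) - Curv2.deg k X E 2 - 1 ≤ 2 * m :=
      ⟨(2 * (Curv2.genus k X : ℤ) - Curv2.deg k X E 2) / 2, by omega, by omega⟩
    obtain ⟨M, hM, hMd⟩ := GrothLib.CurveMult.exists_invertible_of_deg k (X := X) m
    have hM1 := GrothLib.Euler.isFinLocFreeOfRank_one_of_invertible hM
    obtain ⟨U, hU, ⟨φ⟩⟩ := GrothLib.Euler.exists_trivial_genericPoints k hM1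
    have h := GrothLib.Euler.euler_tF k hd.le hE (GrothLib.Euler.isCoh_of_isInvertible hM) hU φ
    have e1 : Curv2.euler k X ((GrothLib.Euler.tF E).obj M) = Curv2.euler k X (CohB1.tensorMod E M) :=
      GrothLib.Euler.euler_of_iso k (((GrothLib.OX.tensorBraiding (X := X)).app E).app M)
    have hT : Coh.IsCoh (CohB1.tensorMod E M) :=
      GrothLib.Euler.isCoh_tF hEc (GrothLib.FinCov.isFinLocFree_of_rank hM1)
    have h0 := GrothLib.CurveRR.finrank_H0_structure_eq_one k (X := X)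
    have e0 := GrothLib.Euler.euler_structure k (X := X) hd.le
    rw [h0] at e0
    have hpos : 0 < Curv2.euler k X (CohB1.tensorMod E M) := by
      rw [← e1, h]
      simp only [Curv2.deg] at hMd hm1 hm2 ⊢
      push_cast at hMd hm1 hm2 e0 ⊢
      omega
    obtain ⟨L, j, hL, hj, hLd⟩ := GrothLib.CurveMult.exists_hom_of_twist_section k hM
      (GrothLib.Euler.nontrivial_H0_of_euler_pos k hd.le hT hpos)
    refine ⟨L, j, hL, GrothLib.CurveMult.mono_of_ne_zero_invertible k hpid hL hE' hj, ?_⟩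
    rw [hLd, hMd]
    omega
  refine ⟨fun L ι hL hι => ?_, hex⟩
  -- a line subbundle of maximal degree containing the bound
  let S : Set ℤ := {n | ∃ (L : X.Modules) (ι : L ⟶ E), PicF.IsInvertible L ∧ Mono ι ∧ Curv2.deg k X L 1 = n}
  obtain ⟨n, ⟨L₀, ι₀, hL₀, hι₀, hn⟩, hmax⟩ := Int.exists_greatest_of_bdd (P := fun n => n ∈ S)
    ⟨(Module.finrank k (Coh.HH X E 0) : ℤ) + (1 : ℕ) * ((Curv2.genus k X : ℤ) - 1), fun n ⟨L, ι, hL, hι, e⟩ => e ▸
      (haveI := hι; GrothLib.Euler.deg_le_of_sub k hd.le ι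
        (GrothLib.Euler.isFinLocFreeOfRank_one_of_invertible hL) hEc)⟩ ⟨_, L, ι, hL, hι, rfl⟩
  haveI := hι₀
  have hle : Curv2.deg k X L 1 ≤ n := hmax _ ⟨L, ι, hL, hι, rfl⟩
  have hQ := GrothLib.CurveMult.isInvertible_cokernel_of_max k hd.le hpid hL₀ hE ι₀
    fun P' i' hi' hP' => hn.symm ▸ hmax _ ⟨P', i', hP', hi', rfl⟩
  have hSe := GrothLib.Euler.cokernel_shortExact ι₀
  have hL1 := GrothLib.Euler.isFinLocFreeOfRank_one_of_invertible hL₀
  have hQ1 := GrothLib.Euler.isFinLocFreeOfRank_one_of_invertible hQ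
  obtain ⟨hdeg, -⟩ := GrothLib.Euler.degree_quotient k _ _ _ hSe (GrothLib.Euler.isCoh_of_isInvertible hL₀) hEc
    (GrothLib.Euler.isCoh_of_isInvertible hQ)
  rw [← GrothLib.Euler.deg_eq_degree k hE, ← GrothLib.Euler.deg_eq_degree k hL1,
    ← GrothLib.Euler.deg_eq_degree k hQ1] at hdeg
  by_contra hlt
  haveI : IsSplitEpi (cokernel.π ι₀) :=
    GrothLib.CurveMult.isSplitEpi_of_deg k hSe hL₀ hQ (by show _ < Curv2.deg k X L₀ 1 - Curv2.deg k X (cokernel ι₀) 1; omega)
  rcases hind _ _ ⟨(ShortComplex.Splitting.ofExactOfSection _ hSe.exact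
    (section_ (cokernel.π ι₀)) (IsSplitEpi.id _) inferInstance).isoBinaryBiproduct⟩ with hz | hz
  · exact GrothLib.CurveMult.not_isZero_of_invertible hL₀ hz
  · exact GrothLib.CurveMult.not_isZero_of_invertible hQ hz

end Groth.Agent.S11482
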