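import Groth.Statements.S11484
import Groth.Agent.Lib.CurveMult.TwistSplit
import Groth.Agent.Lib.ProjCohom.Results
import Groth.Agent.Lib.GrTilde.Mul
import Groth.Agent.Lib.ProjPic26.Relative
import Groth.Agent.Lib.Euler.Basic

set_option autoImplicit false
set_option linter.all false
universe u
open VBPn

namespace Groth.Agent.S11484

open CategoryTheory CategoryTheory.Limits AlgebraicGeometry in
/-- Let k be an algebraically closed field of characteristic zero and n ≥ 2. On P^n_k every short exact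
sequence of O-modules whose first term is isomorphic to O(a) and whose third term is isomorphic to
O(b), for integers a and b, admits a splitting; in particular its middle term is isomorphic to O(a)
⊕ O(b). -/
theorem result (k : Type u) [Field k] [IsAlgClosed k] [CharZero k]
    (n : ℕ) (hn : 2 ≤ n) (a b : ℤ) (S : ShortComplex (CohB1.ProjSpace n k).Modules) (hS : S.ShortExact)
    (ha : Nonempty (S.X₁ ≅ Twist.twistProjSpace n k a)) (hb : Nonempty (S.X₃ ≅ Twist.twistProjSpace n k b)) :
    Nonempty S.Splitting := by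
  letI : (CohB1.ProjSpace n k).Over (Spec (CommRingCat.of k)) := ⟨CohB1.ProjSpace.toSpec n k⟩
  have h1 := GrothLib.ProjPic26.h1_polyGrading n k
  obtain ⟨ea⟩ := ha
  obtain ⟨eb⟩ := hb
  obtain ⟨z⟩ := GrothLib.GrTilde.nonempty_structureModule_iso_twist_zero (CohB1.polyGrading n k)
  obtain ⟨t⟩ := GrothLib.GrTilde.nonempty_twist_tensor_twist h1 b (-b)
  obtain ⟨t'⟩ := GrothLib.GrTilde.nonempty_twist_tensor_twist h1 (-b) b
  obtain ⟨s⟩ := GrothLib.GrTilde.nonempty_twist_tensor_twist h1 a (-b)
  let M := Twist.twistProjSpace n k (-b)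
  let e : CohB1.tensorMod S.X₃ M ≅ Coh.structureModule (CohB1.ProjSpace n k) :=
    GrothLib.Ample.LineData.tensorModMapIso eb (Iso.refl M) ≪≫ t ≪≫ eqToIso (by rw [add_neg_cancel]) ≪≫ z.symm
  let e' : CohB1.tensorMod M S.X₃ ≅ Coh.structureModule (CohB1.ProjSpace n k) :=
    GrothLib.Ample.LineData.tensorModMapIso (Iso.refl M) eb ≪≫ t' ≪≫ eqToIso (by rw [neg_add_cancel]) ≪≫ z.symm
  have h : Subsingleton (Coh.HH (CohB1.ProjSpace n k) ((GrothLib.Euler.tF M).obj S.X₁) 1) := by
    have hh : Subsingleton (Coh.HH (CohB1.ProjSpace n k) (Twist.twistProjSpace n k (a + -b)) 1) :=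
      GrothLib.ProjCohom.subsingleton_HH (by omega) (by omega)
    let φ : (GrothLib.Euler.tF M).obj S.X₁ ≅ Twist.twistProjSpace n k (a + -b) :=
      GrothLib.Ample.LineData.tensorModMapIso ea (Iso.refl M) ≪≫ s
    exact (GrothLib.Euler.hhEquiv (A := k) φ 1).toEquiv.subsingleton
  haveI := GrothLib.CurveMult.isSplitEpi_of_H1 k hS e e' h
  haveI := hS.mono_f
  exact ⟨ShortComplex.Splitting.ofExactOfSection S hS.exact (section_ S.g) (IsSplitEpi.id S.g) hS.mono_f⟩

end Groth.Agent.S11484
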