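import Groth.Statements.S11487
import Groth.Agent.Lib.LineFlag12.Split

set_option autoImplicit false
universe u
open VBPn

namespace Groth.Agent.S11487

open CategoryTheory CategoryTheory.Limits AlgebraicGeometry in
/-- Let k be an algebraically closed field of characteristic zero, n ≥ 2, E a finite locally free
O-module of rank r on P^n_k, and i : P^2_k → P^n_k a closed immersion of k-schemes along which O(1)
pulls back to O(1) (the embedding of a plane). If i^*E ≅ O(a_1) ⊕ ⋯ ⊕ O(a_r) on P^2_k for some
integers a_j, then E ≅ O(b_1) ⊕ ⋯ ⊕ O(b_r) on P^n_k for some integers b_j. The published statement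
is an equivalence; this row states the direction from the plane to P^n_k, the converse being
immediate. -/
theorem result (k : Type u) [Field k] [IsAlgClosed k] [CharZero k]
    (n r : ℕ) (hn : 2 ≤ n) (E : (CohB1.ProjSpace n k).Modules) (hE : FlatMod.IsFinLocFreeOfRank r E)
    (i : CohB1.ProjSpace 2 k ⟶ CohB1.ProjSpace n k) [IsClosedImmersion i]
    (hi : i ≫ CohB1.ProjSpace.toSpec n k = CohB1.ProjSpace.toSpec 2 k)
    (hO : Nonempty ((Scheme.Modules.pullback i).obj (Twist.twistProjSpace n k 1) ≅ Twist.twistProjSpace 2 k 1))
    (hsplit : ∃ a : Fin r → ℤ,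
      Nonempty ((Scheme.Modules.pullback i).obj E ≅ ∐ fun j : Fin r => Twist.twistProjSpace 2 k (a j))) :
    ∃ b : Fin r → ℤ, Nonempty (E ≅ ∐ fun j : Fin r => Twist.twistProjSpace n k (b j)) := by
  exact GrothLib.LineFlag12.exists_split_of_plane n r E hE i inferInstance hi hO hsplit

end Groth.Agent.S11487
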