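import Groth.Statements.S11488
-- import your own Groth.Agent.* helpers here
import Groth.Agent.Lib.LinesPt28.Main
import Groth.Agent.Lib.Dim.Morphism
import Groth.Agent.Lib.EulerPull.Abelian

set_option autoImplicit false
set_option maxHeartbeats 1600000
set_option linter.style.haveILetI false
set_option backward.isDefEq.respectTransparency false
universe u
open VBPn

namespace Groth.Agent.S11488

open CategoryTheory CategoryTheory.Limits AlgebraicGeometry in
/-- Let k be an algebraically closed field of characteristic zero, E a finite locally free O-module of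
rank r on P^n_k and x a closed point of P^n_k. If i^*E ≅ O^r for every line through x, that is for
every closed immersion of k-schemes i : P^1_k → P^n_k along which O(1) pulls back to O(1) and whose
image contains x, then E ≅ O^r. -/
theorem result (k : Type u) [Field k] [IsAlgClosed k] [CharZero k]
    (n r : ℕ) (E : (CohB1.ProjSpace n k).Modules) (hE : FlatMod.IsFinLocFreeOfRank r E) (x : ↥(CohB1.ProjSpace n k))
    (hx : IsClosed ({x} : Set ↥(CohB1.ProjSpace n k)))
    (h : ∀ (i : CohB1.ProjSpace 1 k ⟶ CohB1.ProjSpace n k) [IsClosedImmersion i],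
      i ≫ CohB1.ProjSpace.toSpec n k = CohB1.ProjSpace.toSpec 1 k →
      Nonempty ((Scheme.Modules.pullback i).obj (Twist.twistProjSpace n k 1) ≅ Twist.twistProjSpace 1 k 1) →
      x ∈ Set.range i.base →
      Nonempty ((Scheme.Modules.pullback i).obj E ≅ FlatMod.freeMod (CohB1.ProjSpace 1 k) r)) :
    Nonempty (E ≅ FlatMod.freeMod (CohB1.ProjSpace n k) r) := by
  classical
  haveI : IsIntegral (CohB1.ProjSpace n k) := GrothLib.ProjDim.isIntegral_proj k n
  rcases Nat.lt_or_ge n 2 with hn | hn
  · rcases Nat.eq_zero_or_pos n with rfl | hn0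
    · haveI : Nonempty ↥(CohB1.ProjSpace 0 k) := ⟨x⟩
      haveI : Subsingleton ↥(CohB1.ProjSpace 0 k) := Set.subsingleton_univ_iff.1
        (GrothLib.Dim.subsingleton_of_dim_eq_zero isClosed_univ ⟨Set.univ_nonempty, PreirreducibleSpace.isPreirreducible_univ⟩
          (by rw [(Homeomorph.Set.univ _).isHomeomorph.topologicalKrullDim_eq, GrothLib.LineFlag12.dim_projSpace]; simp))
      exact GrothLib.EulerPull.nonempty_free_iso_of_subsingleton hE
    · obtain rfl : n = 1 := by omega
      obtain ⟨e⟩ := h (𝟙 _) (Category.id_comp _) ⟨(Scheme.Modules.pullbackId _).app _⟩ ⟨x, rfl⟩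
      exact ⟨((Scheme.Modules.pullbackId _).app E).symm ≪≫ e⟩
  · obtain ⟨i, hic, hi, hO, -, ⟨e⟩⟩ := GrothLib.LinesPt28.exists_plane n hn r E hE x hx (fun j hj h1 h2 h3 => @h j hj h1 h2 h3)
    haveI := hic
    obtain ⟨b, ⟨eb⟩⟩ := GrothLib.LineFlag12.exists_split_of_plane n r E hE i hic hi hO
      ⟨fun _ => 0, ⟨e ≪≫ GrothLib.LinesPt28.freeSplit 2 r⟩⟩
    obtain ⟨l, hlc, -, -, hel⟩ := GrothLib.LinesPt28.exists_hyperplane (k := k) (n := 1) (fun _ => 1)
      (fun h0 => one_ne_zero (congrFun h0 0))
    haveI := hlc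
    have hil : Nonempty ((Scheme.Modules.pullback (l ≫ i)).obj (Twist.twistProjSpace n k 1) ≅ Twist.twistProjSpace 1 k 1) :=
      ⟨((Scheme.Modules.pullbackComp l i).app _).symm ≪≫ (Scheme.Modules.pullback l).mapIso hO.some ≪≫ hel.some⟩
    let es : GrothLib.ASBun21.Horrocks.split 1 k b ≅ FlatMod.freeMod (CohB1.ProjSpace 1 k) r :=
      (Sigma.mapIso fun j => (GrothLib.CMReg.nonempty_pullback_twist hil (b j)).some).symm ≪≫
        (PreservesCoproduct.iso (Scheme.Modules.pullback (l ≫ i)) _).symm ≪≫
        (Scheme.Modules.pullback (l ≫ i)).mapIso eb.symm ≪≫ ((Scheme.Modules.pullbackComp l i).app E).symm ≪≫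
        (Scheme.Modules.pullback l).mapIso e ≪≫ GrothLib.OX.pullFreeModIso l r
    obtain rfl : b = fun _ => 0 := funext (GrothLib.LinesPt28.split_zero es)
    exact ⟨eb ≪≫ (GrothLib.LinesPt28.freeSplit n r).symm⟩

end Groth.Agent.S11488
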