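import Groth.Statements.S11489
import Groth.Agent.Lib.GGTriv27.Basic
import Groth.Agent.Lib.CMReg.Linear
import Groth.Agent.Lib.OmegaPn27.Bott
import Groth.Agent.Lib.OmegaPn27.Euler
import Groth.Agent.Lib.EssDim.GenusZero
-- import your own Groth.Agent.* helpers here

set_option autoImplicit false
universe u
open VBPn

namespace Groth.Agent.S11489

open CategoryTheory CategoryTheory.Limits AlgebraicGeometry in
/-- Let k be a characteristic-zero algebraically closed field and E a finite locally free O-module of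
rank r on P^n_k. If E is globally generated (there is an epimorphism O^N → E for some N) and its
first Chern class vanishes, in the sense that an r-th exterior power det E of E is isomorphic to O,
then E ≅ O^r. -/
theorem result (k : Type u) [Field k] [IsAlgClosed k] [CharZero k]
    (n r : ℕ) (E : (CohB1.ProjSpace n k).Modules) (hE : FlatMod.IsFinLocFreeOfRank r E)
    (hgen : ∃ (N : ℕ) (φ : FlatMod.freeMod (CohB1.ProjSpace n k) N ⟶ E), Epi φ)
    (hdet : ∃ L : (CohB1.ProjSpace n k).Modules, ExtPow.IsExtPow r E L ∧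
      Nonempty (L ≅ Coh.structureModule (CohB1.ProjSpace n k))) :
    Nonempty (E ≅ FlatMod.freeMod (CohB1.ProjSpace n k) r) := by
  obtain ⟨N, φ, hφ⟩ := hgen
  obtain ⟨L, hL, ⟨l⟩⟩ := hdet
  have hfl : FlatMod.IsFinLocFree E := GrothLib.FinCov.isFinLocFree_of_rank hE
  obtain ⟨w⟩ := GrothLib.ExtPowX.nonempty_iso (GrothLib.ExtPowX.isExtPow_wedge hfl r) hL (Iso.refl E)
  haveI := hφ
  haveI : IsIntegral (CohB1.ProjSpace n k) := GrothLib.ProjDim.isIntegral_proj k n
  refine GrothLib.GGTriv27.nonempty_iso_free (fun t ht => ?_) hE φ (w ≪≫ l)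
  obtain ⟨c, rfl⟩ := GrothLib.CMReg.exists_toGlobal_eq t
  exact (IsUnit.mk0 c fun h => ht (h ▸ map_zero _)).map _

end Groth.Agent.S11489
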