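import Groth.Statements.S1149
import Groth.Agent.Lib.FEt21.HomCover

set_option autoImplicit false
universe u
open Pi1

namespace Groth.Agent.S1149

open AlgebraicGeometry CategoryTheory CategoryTheory.Limits in
open AlgebraicGeometry CategoryTheory CategoryTheory.Limits in
set_option backward.isDefEq.respectTransparency false in
/-- Morphisms over `g` are morphisms of the base-changed covers. -/
noncomputable def homsEquiv {X : Scheme.{u}} (U V : FEt.Cat X) {T : Scheme.{u}} (g : T ⟶ X) :
    GrothLib.FEt21.HomsOver U V g ≃ ((FEt.restrict g).obj U ⟶ (FEt.restrict g).obj V) where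
  toFun ψ := MorphismProperty.Over.homMk
    (pullback.lift ψ.1 (pullback.snd U.hom g) (ψ.2.trans pullback.condition)) (pullback.lift_snd _ _ _)
  invFun β := ⟨β.left ≫ pullback.fst V.hom g, by
    rw [Category.assoc, pullback.condition, ← Category.assoc]
    erw [MorphismProperty.Over.w β]
    exact pullback.condition.symm⟩
  left_inv ψ := Subtype.ext (pullback.lift_fst _ _ _)
  right_inv β := MorphismProperty.Over.Hom.ext (pullback.hom_ext (pullback.lift_fst _ _ _)
    ((pullback.lift_snd _ _ _).trans (MorphismProperty.Over.w β).symm))

open AlgebraicGeometry CategoryTheory CategoryTheory.Limits in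

/-- Let U and V be finite etale over a scheme X. Then some W finite etale over X has the following
property: for every morphism g : T ⟶ X the X-morphisms T ⟶ W are in bijection with the T-morphisms
U_T ⟶ V_T between the base changes. (The source's identification is moreover compatible with base
change; only the bijections are asserted here.) -/
theorem result {X : Scheme.{u}} (U V : FEt.Cat X) :
    ∃ W : FEt.Cat X, ∀ (T : Scheme.{u}) (g : T ⟶ X),
      Nonempty ({s : T ⟶ W.left // s ≫ W.hom = g} ≃ ((FEt.restrict g).obj U ⟶ (FEt.restrict g).obj V)) := by
  obtain ⟨W, hW⟩ := GrothLib.FEt21.exists_homCover U V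
  exact ⟨W, fun T g => ⟨(hW T g).some.trans (homsEquiv U V g)⟩⟩

end Groth.Agent.S1149
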