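import Groth.Statements.S11492
import Groth.Agent.Lib.GenSect12.Main

set_option autoImplicit false
universe u
open VBPn

namespace Groth.Agent.S11492

open CategoryTheory CategoryTheory.Limits AlgebraicGeometry in
/-- Let k be a characteristic-zero algebraically closed field and E a finite locally free O-module of
rank r > n on P^n_k. Then for some integer a, E sits in a short exact sequence of vector bundles 0 →
O(a)^(r−n) → E → F → 0 with F of rank n: a monomorphism from the direct sum of r − n copies of O(a)
into E whose cokernel is finite locally free of rank n. -/
theorem result (k : Type u) [Field k] [IsAlgClosed k] [CharZero k]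
    (n r : ℕ) (hrn : n < r) (E : (CohB1.ProjSpace n k).Modules) (hE : FlatMod.IsFinLocFreeOfRank r E) :
    ∃ (a : ℤ) (φ : (∐ fun _ : Fin (r - n) => Twist.twistProjSpace n k a) ⟶ E),
      Mono φ ∧ FlatMod.IsFinLocFreeOfRank n (cokernel φ) := by
  exact GrothLib.GenSect12.exists_twist_subbundle hrn.le hE

end Groth.Agent.S11492
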