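import Groth.Statements.S11493
import Mathlib

set_option autoImplicit false
universe u
open CategoryTheory
open VBPn

namespace Groth.Agent.S11493

/-- Let A be a Noetherian local ring and I an ideal with a free resolution of length 1, 0 → A^p → A^q →
I → 0 (equivalently: a surjection A^q → I with free kernel). Let 0 → A → M → I → 0 be an extension
with class e ∈ Ext^1(I, A). Then M is free if and only if e generates the A-module Ext^1(I, A); the
A-module structure being through End(A) = A, this says every element of Ext^1(I, A) is the composite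
of e with an endomorphism of A. -/
theorem result (A : Type u) [CommRing A] [IsNoetherianRing A] [IsLocalRing A]
    (I : Ideal A)
    (hres : ∃ (q : ℕ) (φ : (Fin q → A) →ₗ[A] ↥I), Function.Surjective φ ∧ Module.Free A ↥(LinearMap.ker φ))
    (S : ShortComplex (ModuleCat.{u} A)) (hS : S.ShortExact)
    (h₁ : Nonempty (S.X₁ ≅ ModuleCat.of A A)) (h₃ : Nonempty (S.X₃ ≅ ModuleCat.of A ↥I)) :
    Module.Free A S.X₂ ↔
      ∀ x : Abelian.Ext S.X₃ S.X₁ 1, ∃ f : S.X₁ ⟶ S.X₁, hS.extClass.comp (Abelian.Ext.mk₀ f) (add_zero 1) = x := by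
  classical
  obtain ⟨q, φ, hφ, hfree⟩ := hres
  obtain ⟨e₁⟩ := h₁
  obtain ⟨e₃⟩ := h₃
  have hz1 : ∀ (P : ModuleCat.{u} A) [Projective P] (Y : ModuleCat.{u} A) (z : Abelian.Ext P Y 1), z = 0 :=
    fun P _ Y z => Abelian.Ext.eq_zero_of_projective z
  constructor
  · intro hM x
    have : Projective S.X₂ := (IsProjective.iff_projective S.X₂).mp (Module.Projective.of_free)
    obtain ⟨y, hy⟩ := Abelian.Ext.contravariant_sequence_exact₃ hS S.X₁ x (hz1 _ _ _) (n₀ := 0) rfl
    obtain ⟨f, rfl⟩ := Abelian.Ext.addEquiv₀.symm.surjective y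
    exact ⟨f, by simpa using hy⟩
  · intro hgen
    have : Module.Projective A S.X₁ := Module.Projective.of_equiv e₁.toLinearEquiv.symm
    have hP1 : Projective S.X₁ := (IsProjective.iff_projective S.X₁).mp inferInstance
    have hM1 : ∀ z : Abelian.Ext S.X₂ S.X₁ 1, z = 0 := by
      intro z
      obtain ⟨w, hw⟩ := Abelian.Ext.contravariant_sequence_exact₂ hS S.X₁ z (hz1 S.X₁ _ _)
      obtain ⟨f, hf⟩ := hgen w
      rw [← hw, ← hf, ← Abelian.Ext.comp_assoc_of_third_deg_zero,
        hS.comp_extClass, Abelian.Ext.zero_comp]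
    -- a presentation of `S.X₂` with free kernel
    let g : S.X₂ →ₗ[A] ↥I := e₃.toLinearEquiv.toLinearMap ∘ₗ S.g.hom
    have hg : Function.Surjective g := e₃.toLinearEquiv.surjective.comp
      ((ModuleCat.epi_iff_surjective S.g).mp hS.epi_g)
    obtain ⟨ψ, hψ⟩ := Module.projective_lifting_property g φ hg
    let j : A →ₗ[A] S.X₂ := S.f.hom ∘ₗ e₁.toLinearEquiv.symm.toLinearMap
    have hj : Function.Injective j := ((ModuleCat.mono_iff_injective S.f).mp hS.mono_f).comp
      e₁.toLinearEquiv.symm.injective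
    have hgj : ∀ a, g (j a) = 0 := fun a => by
      have h0 : S.g.hom (S.f.hom (e₁.toLinearEquiv.symm a)) = 0 := by
        exact congr(ModuleCat.Hom.hom $(S.zero) (e₁.toLinearEquiv.symm a))
      simp [g, j, h0]
    have hexact : ∀ m, g m = 0 → ∃ a, j a = m := fun m hm => by
      have hm0 : S.g.hom m = 0 := e₃.toLinearEquiv.injective (hm.trans (map_zero _).symm)
      obtain ⟨x, hx⟩ := (ShortComplex.moduleCat_exact_iff S).mp hS.exact m hm0
      exact ⟨e₁.toLinearEquiv x, (congrArg S.f.hom (e₁.toLinearEquiv.symm_apply_apply x)).trans hx⟩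
    have hgψ : ∀ v, g (ψ v) = φ v := fun v => congr($hψ v)
    let Φ : (A × (Fin q → A)) →ₗ[A] S.X₂ := j.coprod ψ
    have hΦ : Function.Surjective Φ := by
      intro m
      obtain ⟨v, hv⟩ := hφ (g m)
      obtain ⟨a, ha⟩ := hexact (m - ψ v) (by rw [map_sub, hgψ, hv, sub_self])
      exact ⟨(a, v), by simp [Φ, ha]⟩
    let π : LinearMap.ker Φ →ₗ[A] LinearMap.ker φ :=
      ((LinearMap.snd A A (Fin q → A)).comp (LinearMap.ker Φ).subtype).codRestrict _ fun x => by
        have h := LinearMap.mem_ker.mp x.2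
        have h2 := congrArg g h
        rw [LinearMap.coprod_apply, map_add, hgj, hgψ, map_zero, zero_add] at h2
        exact LinearMap.mem_ker.mpr h2
    have hπ : Function.Bijective π := by
      refine ⟨(injective_iff_map_eq_zero π).mpr fun x hx => ?_, fun y => ?_⟩
      · have hsnd : x.1.2 = 0 := congrArg Subtype.val hx
        have h := LinearMap.mem_ker.mp x.2
        simp only [Φ, LinearMap.coprod_apply, hsnd, map_zero, add_zero] at h
        exact Subtype.ext (Prod.ext (hj (by rw [h]; exact (map_zero j).symm)) hsnd)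
      · obtain ⟨a, ha⟩ := hexact (-ψ y.1) (by rw [map_neg, hgψ, LinearMap.mem_ker.mp y.2, neg_zero])
        exact ⟨⟨(a, y.1), by simp [Φ, ha]⟩, rfl⟩
    have hKfree : Module.Free A (LinearMap.ker Φ) := Module.Free.of_equiv (LinearEquiv.ofBijective π hπ).symm
    let T : ShortComplex (ModuleCat.{u} A) := ShortComplex.mk
      (ModuleCat.ofHom (LinearMap.ker Φ).subtype) (ModuleCat.ofHom Φ) (by ext x; exact x.2)
    have hT : T.ShortExact :=
      { exact := (ShortComplex.moduleCat_exact_iff T).mpr fun x hx => ⟨⟨x, hx⟩, rfl⟩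
        mono_f := (ModuleCat.mono_iff_injective _).mpr Subtype.val_injective
        epi_g := (ModuleCat.epi_iff_surjective _).mpr hΦ }
    -- the extension class of the presentation vanishes
    have hzero : hT.extClass = 0 := by
      let b := Module.Free.chooseBasis A (LinearMap.ker Φ)
      let c : Module.Free.ChooseBasisIndex A (LinearMap.ker Φ) → (T.X₁ ⟶ S.X₁) := fun i =>
        ModuleCat.ofHom (e₁.toLinearEquiv.symm.toLinearMap ∘ₗ b.coord i)
      let d : Module.Free.ChooseBasisIndex A (LinearMap.ker Φ) → (S.X₁ ⟶ T.X₁) := fun i =>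
        ModuleCat.ofHom ((LinearMap.toSpanSingleton A _ (b i)) ∘ₗ e₁.toLinearEquiv.toLinearMap)
      have hid : ∑ i, c i ≫ d i = 𝟙 T.X₁ := by
        refine ModuleCat.hom_ext (LinearMap.ext fun x => ?_)
        rw [ModuleCat.hom_sum, LinearMap.sum_apply]
        refine Eq.trans (Finset.sum_congr rfl fun i _ => ?_) (b.sum_repr x)
        simp [c, d]
        congr 1
        exact e₁.toLinearEquiv.apply_symm_apply _
      calc hT.extClass = hT.extClass.comp (Abelian.Ext.mk₀ (∑ i, c i ≫ d i)) (add_zero 1) := by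
            rw [hid, Abelian.Ext.comp_mk₀_id]
        _ = 0 := by
          rw [Abelian.Ext.mk₀_sum, Abelian.Ext.comp_sum]
          refine Finset.sum_eq_zero fun i _ => ?_
          rw [← Abelian.Ext.mk₀_comp_mk₀, ← Abelian.Ext.comp_assoc_of_second_deg_zero,
            hM1 (hT.extClass.comp (Abelian.Ext.mk₀ (c i)) (add_zero 1)), Abelian.Ext.zero_comp]
    obtain ⟨s, hs⟩ : ∃ s : T.X₃ ⟶ T.X₂, s ≫ T.g = 𝟙 _ := by
      obtain ⟨x, hx⟩ := Abelian.Ext.covariant_sequence_exact₃ T.X₃ hT (Abelian.Ext.mk₀ (𝟙 T.X₃)) (n₁ := 1) rfl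
        (by rw [Abelian.Ext.mk₀_id_comp, hzero])
      obtain ⟨s, rfl⟩ := Abelian.Ext.addEquiv₀.symm.surjective x
      exact ⟨s, (Abelian.Ext.addEquiv₀ (C := ModuleCat.{u} A)).symm.injective (by simpa using hx)⟩
    have hproj : Module.Projective A S.X₂ :=
      Module.Projective.of_split s.hom Φ (LinearMap.ext fun x => congr(ModuleCat.Hom.hom $hs x))
    have : Module.Finite A S.X₂ := Module.Finite.of_surjective Φ hΦ
    exact Module.free_of_flat_of_isLocalRing

end Groth.Agent.S11493
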