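import Groth.Statements.S11496
import Mathlib
import Groth.Agent.Lib.Serre.Regular

set_option autoImplicit false
universe u
open CategoryTheory
open VBPn

namespace Groth.Agent.S11496

/-- Let A be a regular local ring, M a finitely generated A-module and i ≥ 0. The support of Ext^i_A(M,
A) has dimension at most dim A − i: for every prime ideal p of A such that Ext^i over the
localization A_p of M_p into A_p is nonzero (this Ext group is the localization at p of Ext^i_A(M,
A)), one has dim(A/p) + i ≤ dim A. The published statement is for coherent analytic sheaves on an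
n-dimensional complex manifold; this row is stated for any regular local ring. -/
theorem result (A : Type u) [CommRing A] [IsRegularLocalRing A]
    (M : Type u) [AddCommGroup M] [Module A M] [Module.Finite A M] (i : ℕ) (p : Ideal A) [p.IsPrime]
    (h : Nontrivial (Abelian.Ext
      (ModuleCat.of (Localization.AtPrime p) (LocalizedModule p.primeCompl M))
      (ModuleCat.of (Localization.AtPrime p) (Localization.AtPrime p)) i)) :
    ringKrullDim (A ⧸ p) + (i : WithBot ℕ∞) ≤ ringKrullDim A := by
  classical
  set Ap := Localization.AtPrime p
  have hreg : IsRegularLocalRing Ap := GrothLib.Serre.isRegularLocalRing_localization A p _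
  obtain ⟨e, he, -⟩ := GrothLib.RegLoc.exists_dim_eq (R := Ap)
  have hie : i ≤ e := by
    by_contra hlt
    have hpd := GrothLib.Serre.pdLE_of_isRegularLocalRing Ap e he (LocalizedModule p.primeCompl M)
    have := HasProjectiveDimensionLT.subsingleton (ModuleCat.of Ap (LocalizedModule p.primeCompl M)) (e + 1) i
      (by omega) (ModuleCat.of Ap Ap)
    exact not_nontrivial_iff_subsingleton.mpr this h
  have hi : (i : WithBot ℕ∞) ≤ ((p.height : ℕ∞) : WithBot ℕ∞) := by
    rw [← IsLocalization.AtPrime.ringKrullDim_eq_height p Ap, he]
    exact_mod_cast hie
  refine (add_le_add le_rfl hi).trans ?_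
  rw [add_comm]
  -- chains below and above `p` concatenate
  let x : PrimeSpectrum A := ⟨p, inferInstance⟩
  have hco : ringKrullDim (A ⧸ p) = (Order.coheight x : WithBot ℕ∞) := by
    rw [Order.coheight_eq_krullDim_Ici]
    unfold ringKrullDim
    refine (Order.krullDim_eq_of_orderIso ?_)
    exact (p.primeSpectrumQuotientOrderIsoZeroLocus).trans
      (OrderIso.setCongr _ _ (by ext y; simp [PrimeSpectrum.mem_zeroLocus, x]; rfl))
  have hht : p.height = Order.height x := PrimeSpectrum.height_eq_orderHeight x
  rw [hco, hht, ← WithBot.coe_add, ringKrullDim,
    Order.krullDim_eq_iSup_height_add_coheight_of_nonempty, WithBot.coe_le_coe]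
  exact le_iSup (fun a : PrimeSpectrum A => Order.height a + Order.coheight a) x

end Groth.Agent.S11496
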