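import Groth.Statements.S11497
import Mathlib.Algebra.Homology.DerivedCategory.Ext.ExactSequences

set_option autoImplicit false
universe w v u
open CategoryTheory
open VBPn

namespace Groth.Agent.S11497

/-- In an abelian category, let M : A → B → C and M' : A' → B' → C' be monads, i.e. short complexes
whose first map is a monomorphism and whose second map is an epimorphism, with cohomology (homology)
objects E and E'. Suppose Hom(B, A') = 0, Hom(C, B') = 0 and Ext^1(C, A') = Ext^1(B, A') = Ext^1(C,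
B') = Ext^2(C, A') = 0. Then the map sending a morphism of monads M → M' to the induced morphism E →
E' is bijective. The published statement is for monads of vector bundles on a complex manifold X,
with Ext^i(C, A') written H^i(X, C^* ⊗ A'); this row is stated in any abelian category. -/
theorem result {C : Type u} [Category.{v} C] [Abelian C] [HasExt.{w} C]
    (M M' : ShortComplex C) [Mono M.f] [Epi M.g] [Mono M'.f] [Epi M'.g]
    (hBA : ∀ f : M.X₂ ⟶ M'.X₁, f = 0) (hCB : ∀ f : M.X₃ ⟶ M'.X₂, f = 0)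
    (hCA₁ : Subsingleton (Abelian.Ext M.X₃ M'.X₁ 1)) (hBA₁ : Subsingleton (Abelian.Ext M.X₂ M'.X₁ 1))
    (hCB₁ : Subsingleton (Abelian.Ext M.X₃ M'.X₂ 1)) (hCA₂ : Subsingleton (Abelian.Ext M.X₃ M'.X₁ 2)) :
    Function.Bijective (fun φ : M ⟶ M' => ShortComplex.homologyMap φ) := by
  classical
  -- auxiliary exactness statements
  have hext : ∀ {S : ShortComplex C} (_ : S.ShortExact) {Y : C} (_ : Subsingleton (Abelian.Ext S.X₃ Y 1))
      (f : S.X₁ ⟶ Y), ∃ g : S.X₂ ⟶ Y, S.f ≫ g = f := by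
    intro S hS Y hY f
    obtain ⟨x, hx⟩ := Abelian.Ext.contravariant_sequence_exact₁ hS Y (Abelian.Ext.mk₀ f) (n₁ := 1) rfl
      (hY.elim _ _)
    obtain ⟨g, rfl⟩ := Abelian.Ext.addEquiv₀.symm.surjective x
    refine ⟨g, (Abelian.Ext.addEquiv₀ (C := C)).symm.injective ?_⟩
    simpa using hx
  have hlift : ∀ {S : ShortComplex C} (_ : S.ShortExact) {X : C} (_ : Subsingleton (Abelian.Ext X S.X₁ 1))
      (f : X ⟶ S.X₃), ∃ g : X ⟶ S.X₂, g ≫ S.g = f := by
    intro S hS X hX f
    obtain ⟨x, hx⟩ := Abelian.Ext.covariant_sequence_exact₃ X hS (Abelian.Ext.mk₀ f) (n₁ := 1) rfl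
      (hX.elim _ _)
    obtain ⟨g, rfl⟩ := Abelian.Ext.addEquiv₀.symm.surjective x
    refine ⟨g, (Abelian.Ext.addEquiv₀ (C := C)).symm.injective ?_⟩
    simpa using hx
  have hcyc : ∀ (N : ShortComplex C) [Epi N.g], (ShortComplex.mk N.iCycles N.g N.iCycles_g).ShortExact :=
    fun N _ => { exact := ShortComplex.exact_of_f_is_kernel _ N.cyclesIsKernel }
  have hhom : ∀ (N : ShortComplex C) [Mono N.f],
      (ShortComplex.mk N.toCycles N.homologyπ N.toCycles_comp_homologyπ).ShortExact :=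
    fun N _ =>
      have : Mono N.toCycles := mono_of_mono_fac N.toCycles_i
      { exact := ShortComplex.exact_of_g_is_cokernel _ N.homologyIsCokernel }
  have hK1 : Subsingleton (Abelian.Ext M.cycles M'.X₁ 1) := by
    refine ⟨fun x y => ?_⟩
    suffices h : ∀ z : Abelian.Ext M.cycles M'.X₁ 1, z = 0 by rw [h x, h y]
    intro z
    obtain ⟨w, hw⟩ := Abelian.Ext.contravariant_sequence_exact₁ (hcyc M) M'.X₁ z (n₁ := 2) rfl
      (hCA₂.elim _ _)
    rw [← hw, hBA₁.elim w 0, Abelian.Ext.comp_zero]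
  have hK0 : ∀ k : M.cycles ⟶ M'.X₁, k = 0 := by
    intro k
    obtain ⟨g, hg⟩ := hext (hcyc M) hCA₁ k
    rw [← hg, hBA g, Limits.comp_zero]
  constructor
  · intro φ ψ h
    rw [← sub_eq_zero]
    have h0 : ShortComplex.homologyMap (φ - ψ) = 0 := by
      rw [ShortComplex.homologyMap_sub]
      exact sub_eq_zero.mpr h
    generalize φ - ψ = χ at h0 ⊢
    have h1 : ShortComplex.cyclesMap χ ≫ M'.homologyπ = 0 := by
      rw [← ShortComplex.homologyπ_naturality, h0, Limits.comp_zero]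
    have : Mono M'.toCycles := mono_of_mono_fac M'.toCycles_i
    have h2 : ShortComplex.cyclesMap χ = 0 := by
      have hl := (hhom M').exact.lift_f (ShortComplex.cyclesMap χ) h1
      rw [hK0 ((hhom M').exact.lift (ShortComplex.cyclesMap χ) h1), Limits.zero_comp] at hl
      exact hl.symm
    have h3 : M.iCycles ≫ χ.τ₂ = 0 := by
      rw [← ShortComplex.cyclesMap_i, h2, Limits.zero_comp]
    have hτ₂ : χ.τ₂ = 0 := by
      have := (hcyc M).exact.g_desc χ.τ₂ h3
      rw [hCB ((hcyc M).exact.desc χ.τ₂ h3), Limits.comp_zero] at this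
      exact this.symm
    ext
    · rw [← cancel_mono M'.f]
      simp [χ.comm₁₂, hτ₂]
    · exact hτ₂
    · rw [← cancel_epi M.g]
      simp [← χ.comm₂₃, hτ₂]
  · intro e
    obtain ⟨k, hk⟩ : ∃ k : M.cycles ⟶ M'.cycles, k ≫ M'.homologyπ = M.homologyπ ≫ e :=
      hlift (hhom M') hK1 (M.homologyπ ≫ e)
    obtain ⟨b, hb⟩ : ∃ b : M.X₂ ⟶ M'.X₂, M.iCycles ≫ b = k ≫ M'.iCycles :=
      hext (hcyc M) hCB₁ (k ≫ M'.iCycles)
    have hb3 : M.iCycles ≫ b ≫ M'.g = 0 := by
      rw [reassoc_of% hb, M'.iCycles_g, Limits.comp_zero]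
    have : Mono M'.toCycles := mono_of_mono_fac M'.toCycles_i
    have ha : (M.toCycles ≫ k) ≫ M'.homologyπ = 0 := by
      rw [Category.assoc, hk, ShortComplex.toCycles_comp_homologyπ_assoc, Limits.zero_comp]
    let a : M.X₁ ⟶ M'.X₁ := (hhom M').exact.lift (M.toCycles ≫ k) ha
    have ha' : a ≫ M'.toCycles = M.toCycles ≫ k := (hhom M').exact.lift_f (M.toCycles ≫ k) ha
    let φ : M ⟶ M' :=
      { τ₁ := a
        τ₂ := b
        τ₃ := (hcyc M).exact.desc (b ≫ M'.g) hb3
        comm₁₂ := by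
          rw [← M'.toCycles_i, reassoc_of% ha', ← hb, M.toCycles_i_assoc]
        comm₂₃ := ((hcyc M).exact.g_desc (b ≫ M'.g) hb3).symm }
    refine ⟨φ, ?_⟩
    have hφk : ShortComplex.cyclesMap φ = k := by
      rw [← cancel_mono M'.iCycles, ShortComplex.cyclesMap_i]
      exact hb
    show ShortComplex.homologyMap φ = e
    rw [← cancel_epi M.homologyπ, ShortComplex.homologyπ_naturality, hφk, hk]

end Groth.Agent.S11497
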