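import Groth.Statements.S11499
import Mathlib

set_option autoImplicit false
universe u
open TensorProduct
open VBPn

namespace Groth.Agent.S11499

/-- Let A be an integral domain with fraction field K and M a finitely generated torsion-free A-module
of rank r (K ⊗_A M is r-dimensional over K). Then there is an injective A-linear map M → A^r. The
published statement is for torsion-free coherent sheaves on a complex manifold, locally near a
point; this row is its statement for one stalk, over any domain. -/
theorem result (A : Type u) [CommRing A] [IsDomain A]
    (M : Type u) [AddCommGroup M] [Module A M] [Module.Finite A M] [NoZeroSMulDivisors A M] (r : ℕ)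
    (hr : Module.finrank (FractionRing A) (FractionRing A ⊗[A] M) = r) :
    ∃ f : M →ₗ[A] (Fin r → A), Function.Injective f := by
  classical
  let K := FractionRing A
  have : Module.IsTorsionFree A M := inferInstance
  let ι : M →ₗ[A] K ⊗[A] M := (TensorProduct.mk A K M 1)
  have hι : IsLocalizedModule (nonZeroDivisors A) ι :=
    (isLocalizedModule_iff_isBaseChange (nonZeroDivisors A) K ι).mpr (TensorProduct.isBaseChange A M K)
  have hιinj : Function.Injective ι := by
    intro x y hxy
    obtain ⟨c, hc⟩ := (IsLocalizedModule.eq_iff_exists (nonZeroDivisors A) ι).mp hxy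
    exact smul_right_injective M (nonZeroDivisors.ne_zero c.2) hc
  let e : K ⊗[A] M ≃ₗ[K] (Fin r → K) := LinearEquiv.ofFinrankEq _ _ (by rw [hr, Module.finrank_fin_fun])
  let g : M →ₗ[A] (Fin r → K) := (e.toLinearMap.restrictScalars A) ∘ₗ ι
  have hg : Function.Injective g := e.injective.comp hιinj
  obtain ⟨s, hs⟩ := Module.Finite.fg_top (R := A) (M := M)
  obtain ⟨d, hd⟩ := IsLocalization.exist_integer_multiples_of_finset (nonZeroDivisors A)
    ((s ×ˢ (Finset.univ : Finset (Fin r))).image fun p => g p.1 p.2)
  have hint : ∀ m : M, (d : A) • g m ∈ LinearMap.range ((Algebra.linearMap A K).compLeft (Fin r)) := by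
    intro m
    have hm : m ∈ Submodule.span A (s : Set M) := by rw [hs]; trivial
    induction hm using Submodule.span_induction with
    | mem x hx =>
      choose w hw using fun i => hd (g x i) (Finset.mem_image.mpr ⟨(x, i), Finset.mem_product.mpr ⟨hx, Finset.mem_univ i⟩, rfl⟩)
      exact ⟨w, funext fun i => by simpa using hw i⟩
    | zero => simp
    | add x y _ _ hx hy => rw [map_add, smul_add]; exact Submodule.add_mem _ hx hy
    | smul a x _ hx => rw [map_smul, smul_comm]; exact Submodule.smul_mem _ a hx
  have hj : Function.Injective ((Algebra.linearMap A K).compLeft (Fin r)) := fun x y h =>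
    funext fun i => IsFractionRing.injective A K (congrFun h i)
  refine ⟨(LinearEquiv.ofInjective _ hj).symm.toLinearMap ∘ₗ
    (((d : A) • g).codRestrict _ hint), ?_⟩
  refine (LinearEquiv.ofInjective _ hj).symm.injective.comp fun x y h => hg ?_
  have := congrArg Subtype.val h
  simp only [LinearMap.codRestrict_apply, LinearMap.smul_apply] at this
  exact smul_right_injective (Fin r → K) (nonZeroDivisors.ne_zero d.2) this

end Groth.Agent.S11499
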