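import Groth.Statements.S1150
import Groth.Agent.LefFF21.Main

set_option autoImplicit false
universe u
open Pi1

namespace Groth.Agent.S1150

open AlgebraicGeometry CategoryTheory CategoryTheory.Limits in
/-- Let X be a proper scheme over a field k, L an ample invertible O_X-module, s a global section of L
and Y = Z(s) its zero scheme. Assume depth(O_{X,x}) + dim(closure of x) > 1 for every point x of X
not in Y. Then for every open subscheme V of X containing Y, restriction of finite etale covers from
V to Y (realised as Y ×_X V ⟶ V) is fully faithful; V = X is allowed. -/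
theorem result (k : Type u) [Field k] (X : Scheme.{u})
    (f : X ⟶ Spec (CommRingCat.of k)) [IsProper f] (L : X.Modules) (hL : CohB1.IsAmple L)
    (s : Coh.structureModule X ⟶ L)
    (hd : ∀ x : X, x ∉ (PicF2.zeroScheme L s).support →
      (1 : WithBot ℕ∞) < (LocCoh.depth (X.presheaf.stalk x) (X.presheaf.stalk x) : WithBot ℕ∞) +
        topologicalKrullDim (closure ({x} : Set X)))
    (V : X.Opens) (hV : ((PicF2.zeroScheme L s).support : Set X) ⊆ V) :
    (FEt.restrict (pullback.snd (PicF2.zeroScheme L s).subschemeι V.ι)).Full ∧
    (FEt.restrict (pullback.snd (PicF2.zeroScheme L s).subschemeι V.ι)).Faithful := by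
  letI : X.Over (Spec (CommRingCat.of k)) := ⟨f⟩
  haveI : IsProper (X ↘ Spec (CommRingCat.of k)) := ‹IsProper f›
  let j := pullback.snd (PicF2.zeroScheme L s).subschemeι V.ι
  have hrange : ∀ A : FEt.Cat (V : Scheme.{u}), Set.range (pullback.fst A.hom j) =
      GrothLib.LefFF21.trace s V A.hom := fun A => by
    rw [Scheme.Pullback.range_fst, Scheme.Pullback.range_snd, Scheme.IdealSheafData.range_subschemeι]
    rfl
  refine GrothLib.FEt21.fullyFaithful_of_clopen j (fun A D hD hpre => ?_) (fun A C hC => ?_)
  · haveI : IsFinite A.hom := A.prop.1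
    haveI : Etale A.hom := A.prop.2
    refine GrothLib.LefFF21.eq_empty_of_disjoint k hL s hd V hV A.hom hD ?_
    rw [← hrange A, ← Set.image_preimage_eq_inter_range, hpre, Set.image_empty]
  · haveI : IsFinite A.hom := A.prop.1
    haveI : Etale A.hom := A.prop.2
    have he : Topology.IsClosedEmbedding (pullback.fst A.hom j) := (pullback.fst A.hom j).isClosedEmbedding
    have hsub : pullback.fst A.hom j '' C ⊆ GrothLib.LefFF21.trace s V A.hom :=
      hrange A ▸ Set.image_subset_range _ _
    have hcompl : GrothLib.LefFF21.trace s V A.hom \ pullback.fst A.hom j '' C = pullback.fst A.hom j '' Cᶜ := by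
      rw [← hrange A, ← Set.image_univ, ← Set.image_sdiff he.injective, Set.compl_eq_univ_sdiff]
    obtain ⟨E, hE, hET⟩ := GrothLib.LefFF21.exists_clopen_extension k hL s hd V hV A.hom
      (he.isClosedMap _ hC.1) (hcompl ▸ he.isClosedMap _ hC.compl.1) hsub
    refine ⟨E, hE, ?_⟩
    rw [← Set.image_injective.2 he.injective |>.eq_iff, Set.image_preimage_eq_inter_range, hrange A, hET]

end Groth.Agent.S1150
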