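import Groth.Statements.S11500
-- import your own Groth.Agent.* helpers here
import Groth.Agent.Lib.NegRes28.Main
import Groth.Agent.Lib.RankTwo12.Converse

set_option autoImplicit false
set_option maxHeartbeats 1600000
set_option linter.style.haveILetI false
set_option backward.isDefEq.respectTransparency false
universe u
open VBPn

namespace Groth.Agent.S11500

open CategoryTheory CategoryTheory.Limits AlgebraicGeometry in
/-- Let k be a characteristic-zero algebraically closed field and E a semistable rank-2 vector bundle on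
P^2_k with c_1(E) = 0; here, for a finite locally free O-module E of rank 2, c_1(E) = 0 is expressed
as 'a second exterior power of E is isomorphic to O' and semistability as H^0(P^2_k, E ⊗ O(−1)) = 0,
which for such E is equivalent to it. Then there is a short exact sequence 0 → ⊕_i O(k_i) → ⊕_j
O(m_j) → E ⊗ O(−1) → 0 with finitely many integers k_i, m_j, all negative. -/
theorem result (k : Type u) [Field k] [IsAlgClosed k]
    [CharZero k] (E : (CohB1.ProjSpace 2 k).Modules) (hE : FlatMod.IsFinLocFreeOfRank 2 E)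
    (hdet : ∃ L : (CohB1.ProjSpace 2 k).Modules, ExtPow.IsExtPow 2 E L ∧
      Nonempty (L ≅ Coh.structureModule (CohB1.ProjSpace 2 k)))
    (hss : Subsingleton (Coh.HH (CohB1.ProjSpace 2 k) (CohB1.tensorMod E (Twist.twistProjSpace 2 k (-1))) 0)) :
    ∃ (r s : ℕ) (kk : Fin r → ℤ) (mm : Fin s → ℤ) (S : ShortComplex (CohB1.ProjSpace 2 k).Modules),
      S.ShortExact ∧ (∀ i, kk i < 0) ∧ (∀ j, mm j < 0) ∧
      Nonempty (S.X₁ ≅ ∐ fun i : Fin r => Twist.twistProjSpace 2 k (kk i)) ∧
      Nonempty (S.X₂ ≅ ∐ fun j : Fin s => Twist.twistProjSpace 2 k (mm j)) ∧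
      Nonempty (S.X₃ ≅ CohB1.tensorMod E (Twist.twistProjSpace 2 k (-1))) := by
  obtain ⟨r, s, kk, mm, S, h1, h2, h3, h4, h5, h6⟩ := GrothLib.NegRes28.exists_resolution
    (CohB1.tensorMod E (Twist.twistProjSpace 2 k (-1)))
    (GrothLib.RankTwo12.isFinLocFreeOfRank_tensor hE (GrothLib.ProjPic26.isInvertible_twistProjSpace 2 k (-1))) hss
  exact ⟨r, s, kk, mm, S, h1, h2, h3, h4, h5, h6⟩

end Groth.Agent.S11500
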