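import Groth.Statements.S11501
-- import your own Groth.Agent.* helpers here
import Groth.Agent.Lib.SerreCor28.Build
import Groth.Agent.Lib.SerreCor28.Det

set_option autoImplicit false
set_option maxHeartbeats 1600000
set_option linter.style.haveILetI false
set_option backward.isDefEq.respectTransparency false
universe u
open VBPn

namespace Groth.Agent.S11501

open CategoryTheory CategoryTheory.Limits AlgebraicGeometry in
/-- Let k be an algebraically closed field of characteristic zero, n ≥ 3, and i : Y → P^n_k a closed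
immersion which is a local complete intersection of codimension 2 (a regular immersion of
codimension 2), with ideal sheaf J_Y. Assume the determinant of the normal bundle extends to P^n_k:
some second exterior power of the conormal sheaf of i is isomorphic to i^*O(−c) for an integer c.
Then there is a rank-2 vector bundle E on P^n_k (finite locally free of rank 2), with a second
exterior power isomorphic to O(c), and a short exact sequence 0 → O → E → J_Y ⊗ O(c) → 0; the first
map is a section of E whose zero scheme is Y. The published statement also gives c_2(E) = deg Y;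
this row does not state it. -/
theorem result (k : Type u) [Field k] [IsAlgClosed k] [CharZero k]
    (n : ℕ) (hn : 3 ≤ n) {Y : Scheme.{u}} (i : Y ⟶ CohB1.ProjSpace n k) [IsClosedImmersion i]
    (hlci : RegImm.IsRegularImmersionOfCodim RegImm.Kind.regular 2 i) (c : ℤ)
    (hdet : ∃ L : Y.Modules, ExtPow.IsExtPow 2 (Omega.conormal i) L ∧
      Nonempty (L ≅ (Scheme.Modules.pullback i).obj (Twist.twistProjSpace n k (-c)))) :
    ∃ S : ShortComplex (CohB1.ProjSpace n k).Modules, S.ShortExact ∧ FlatMod.IsFinLocFreeOfRank 2 S.X₂ ∧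
      Nonempty (S.X₁ ≅ Coh.structureModule (CohB1.ProjSpace n k)) ∧
      Nonempty (S.X₃ ≅ CohB1.tensorMod (ClSub.idealMod i.ker) (Twist.twistProjSpace n k c)) ∧
      ∃ D : (CohB1.ProjSpace n k).Modules, ExtPow.IsExtPow 2 S.X₂ D ∧ Nonempty (D ≅ Twist.twistProjSpace n k c) := by
  classical
  haveI : IsIntegral (CohB1.ProjSpace n k) := GrothLib.ProjDim.isIntegral_proj k n
  letI : (CohB1.ProjSpace n k).Over (Spec (CommRingCat.of k)) := ⟨CohB1.ProjSpace.toSpec n k⟩
  haveI : IsProper (CohB1.ProjSpace.toSpec n k) := GrothLib.Chow.isProper_toSpec n k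
  haveI : IsProper (CohB1.ProjSpace n k ↘ Spec (CommRingCat.of k)) := GrothLib.Chow.isProper_toSpec n k
  haveI : IsLocallyNoetherian (CohB1.ProjSpace n k) :=
    LocallyOfFiniteType.isLocallyNoetherian (CohB1.ProjSpace.toSpec n k)
  obtain ⟨F, a, b, w, hS, hF⟩ := GrothLib.SerreCor28.exists_extension i hlci hn c hdet
  obtain ⟨z⟩ := GrothLib.CMReg.nonempty_twist_zero (n := n) (k := k)
  obtain ⟨t₁⟩ := GrothLib.CMReg.nonempty_twist_add (n := n) (k := k) (add_neg_cancel c)
  obtain ⟨t₂⟩ := GrothLib.CMReg.nonempty_twist_add (n := n) (k := k) (neg_add_cancel c)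
  obtain ⟨E, s, p, w', hE, hS'⟩ := (GrothLib.CBExt28.exists_rankTwo_iff k
    (GrothLib.ProjPic26.isInvertible_twistProjSpace n k c) (GrothLib.ProjPic26.isInvertible_twistProjSpace n k (-c))
    (t₁ ≪≫ z) (t₂ ≪≫ z) (GrothLib.RegPow.isCoh_idealMod i.ker)
    (GrothLib.SerreCor28.grank_idealMod i hlci)).2 ⟨F, a, b, w, hS, hF⟩
  let e₃ : CohB1.tensorMod (Twist.twistProjSpace n k c) (ClSub.idealMod i.ker) ≅
      CohB1.tensorMod (ClSub.idealMod i.ker) (Twist.twistProjSpace n k c) :=
    GrothLib.GrTilde.tensorModComm (X := CohB1.ProjSpace n k) _ _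
  have hD := GrothLib.ExtPowX.isExtPow_wedge (GrothLib.FinCov.isFinLocFree_of_rank hE) 2
  obtain ⟨eD⟩ := GrothLib.SerreCor28.nonempty_det_iso i hlci s p w' hS' hE c e₃ hD
  exact ⟨ShortComplex.mk s p w', hS', hE, ⟨Iso.refl _⟩, ⟨e₃⟩, _, hD, ⟨eD⟩⟩

end Groth.Agent.S11501
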