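import Groth.Statements.S11503
import Groth.Agent.Lib.RankTwo12.Kernel
import Groth.Agent.Lib.RankTwo12.Proj
import Groth.Agent.Lib.ProjDim.Const
import Groth.Agent.Lib.FinCov.FrameFree
import Groth.Agent.Lib.InvExt.Transfer

set_option autoImplicit false
set_option linter.all false
set_option backward.isDefEq.respectTransparency false
universe u
open VBPn

namespace Groth.Agent.S11503

open CategoryTheory CategoryTheory.Limits AlgebraicGeometry in
/-- Let k be a characteristic-zero algebraically closed field and E a finite locally free O-module of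
rank r > 1 on P^n_k. If E has a nonzero section (a nonzero morphism O → E) and its dual has a
nonzero section (a nonzero morphism E → O), then E is not simple: there is an endomorphism of E
which is not a homothety, i.e. whose underlying map of abelian sheaves is not multiplication by any
scalar c ∈ k. -/
theorem result (k : Type u) [Field k] [IsAlgClosed k] [CharZero k]
    (n r : ℕ) (hr : 1 < r) (E : (CohB1.ProjSpace n k).Modules) (hE : FlatMod.IsFinLocFreeOfRank r E)
    (s : Coh.structureModule (CohB1.ProjSpace n k) ⟶ E) (hs : s ≠ 0)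
    (t : E ⟶ Coh.structureModule (CohB1.ProjSpace n k)) (ht : t ≠ 0) :
    ∃ φ : E ⟶ E, ∀ c : k, (SheafOfModules.toSheaf (CohB1.ProjSpace n k).ringCatSheaf).map φ ≠
      Coh.smulAb E (Coh.toGlobal (CohB1.ProjSpace.toSpec n k) c) := by
  haveI : IsIntegral (CohB1.ProjSpace n k) := GrothLib.ProjDim.isIntegral_proj k n
  refine ⟨t ≫ s, fun c hc => ?_⟩
  haveI : Mono s := GrothLib.RankTwo12.mono_of_ne_zero (GrothLib.InvExt.isInvertible_of_gens
    (M := Coh.structureModule _) fun x => ⟨⊤, _, trivial, GrothLib.InvExt.isGen_one (⊤ : (CohB1.ProjSpace n k).Opens)⟩) hE hs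
  have hne : t ≫ s ≠ 0 := fun h => ht ((cancel_mono s).1 (h.trans zero_comp.symm))
  have happ : ∀ (U : (CohB1.ProjSpace n k).Opens) (m : Γ(E, U)),
      s.app U (t.app U m) = (show Γ((CohB1.ProjSpace n k), U) from
        Coh.resTop _ (Opposite.op U) (Coh.toGlobal (CohB1.ProjSpace.toSpec n k) c)) • m :=
    fun U m => congr($(hc).hom.app (Opposite.op U) m)
  by_cases hc0 : c = 0
  · refine hne (Scheme.Modules.hom_ext _ _ fun U => AddCommGrpCat.ext fun m => ?_)
    show s.app U (t.app U m) = 0
    rw [happ, hc0]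
    simp
  obtain ⟨x⟩ := (inferInstance : Nonempty (CohB1.ProjSpace n k))
  obtain ⟨U, e, hxU, he⟩ := GrothLib.FinCov.exists_frame_nhd_of_rank hE x
  haveI : Nonempty U := ⟨⟨x, hxU⟩⟩
  let R := Γ((CohB1.ProjSpace n k), U)
  let u : R := Coh.resTop _ (Opposite.op U) (Coh.toGlobal (CohB1.ProjSpace.toSpec n k) c)
  obtain ⟨u', hu'⟩ : ∃ u' : R, u' * u = 1 := ((((isUnit_iff_ne_zero.2 hc0).map
    (Coh.toGlobal (CohB1.ProjSpace.toSpec n k))).map (Coh.resTop _ (Opposite.op U)))).exists_left_inv
  let b := he.basis U le_rfl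
  let σ : Γ(E, U) := s.app U (GrothLib.FinCov.one _ U)
  have hmul : ∀ m : Γ(E, U), ∃ a : R, m = a • σ := fun m => by
    refine ⟨u' * (show R from t.app U m), ?_⟩
    rw [mul_smul, ← Scheme.Modules.Hom.app_smul, GrothLib.FinCov.smul_one]
    exact (((congrArg (u' • ·) (happ U m)).trans (smul_smul u' u m)).trans (by rw [hu', one_smul])).symm
  obtain ⟨a₀, ha₀⟩ := hmul (b ⟨0, by omega⟩)
  obtain ⟨a₁, ha₁⟩ := hmul (b ⟨1, hr⟩)
  have h0 := congrArg b.repr ha₀
  have h1 := congrArg b.repr ha₁
  simp only [map_smul, Module.Basis.repr_self] at h0 h1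
  have e00 := congr($h0 ⟨0, by omega⟩)
  have e01 := congr($h0 ⟨1, hr⟩)
  have e11 := congr($h1 ⟨1, hr⟩)
  simp at e00 e01 e11
  have hu : IsUnit a₀ := IsUnit.of_mul_eq_one _ e00.symm
  rw [e01.resolve_left hu.ne_zero, mul_zero] at e11
  exact one_ne_zero e11

end Groth.Agent.S11503
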