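import Groth.Statements.S11507
-- import your own Groth.Agent.* helpers here
import Groth.Agent.Lib.NullCorrEx28.Exists

set_option autoImplicit false
set_option maxHeartbeats 1600000
set_option linter.style.haveILetI false
set_option backward.isDefEq.respectTransparency false
universe u
open VBPn

namespace Groth.Agent.S11507

open CategoryTheory CategoryTheory.Limits AlgebraicGeometry in
/-- Let k be an algebraically closed field of characteristic zero and n odd. Then there is a
monomorphism of O-modules O(−1) → Ω^1 ⊗ O(1) on P^n_k (Ω^1 the sheaf of differentials of P^n_k over
k) whose cokernel is finite locally free of rank n − 1; dually, a bundle epimorphism T(−1) → O(1)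
whose kernel is a null-correlation bundle. The published statement also gives the total Chern class
1 + h^2 + ⋯ + h^{n−1} of the null-correlation bundle; this row does not state it. -/
theorem result (k : Type u) [Field k] [IsAlgClosed k] [CharZero k]
    (n : ℕ) (hn : Odd n) :
    ∃ u : Twist.twistProjSpace n k (-1) ⟶
        CohB1.tensorMod (Omega.sheaf (CohB1.ProjSpace.toSpec n k)) (Twist.twistProjSpace n k 1),
      Mono u ∧ FlatMod.IsFinLocFreeOfRank (n - 1) (cokernel u) := by
  obtain ⟨q, rfl⟩ := hn
  rw [show 2 * q + 1 - 1 = 2 * q by omega]
  exact GrothLib.NullCorrEx28.exists_null_correlation k q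

end Groth.Agent.S11507
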