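import Groth.Statements.S11510
-- import your own Groth.Agent.* helpers here
import Groth.Agent.Lib.HypRestrict28.NullCorr

set_option autoImplicit false
set_option maxHeartbeats 1600000
set_option linter.style.haveILetI false
set_option backward.isDefEq.respectTransparency false
universe u
open VBPn

namespace Groth.Agent.S11510

open CategoryTheory CategoryTheory.Limits AlgebraicGeometry in
/-- Let k be an algebraically closed field of characteristic zero, u : O(−1) → Ω^1 ⊗ O(1) a monomorphism
of O-modules on P^3_k with cokernel M finite locally free of rank 2 (the dual of a null-correlation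
bundle N; N|H ≅ M|H as c_1 = 0), and i : P^2_k → P^3_k a closed immersion of k-schemes along which
O(1) pulls back to O(1), the embedding of a plane H. Then H^0(P^2_k, i^*M ⊗ O(−1)) = 0 while
H^0(P^2_k, i^*M) ≠ 0. The published statement says N|H is semistable but not stable; for rank 2 with
c_1 = 0 this is the pair of conditions stated here. -/
theorem result (k : Type u) [Field k] [IsAlgClosed k] [CharZero k]
    (u : Twist.twistProjSpace 3 k (-1) ⟶
      CohB1.tensorMod (Omega.sheaf (CohB1.ProjSpace.toSpec 3 k)) (Twist.twistProjSpace 3 k 1))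
    [Mono u] (hM : FlatMod.IsFinLocFreeOfRank 2 (cokernel u))
    (i : CohB1.ProjSpace 2 k ⟶ CohB1.ProjSpace 3 k) [IsClosedImmersion i]
    (hi : i ≫ CohB1.ProjSpace.toSpec 3 k = CohB1.ProjSpace.toSpec 2 k)
    (hO : Nonempty ((Scheme.Modules.pullback i).obj (Twist.twistProjSpace 3 k 1) ≅ Twist.twistProjSpace 2 k 1)) :
    Subsingleton (Coh.HH (CohB1.ProjSpace 2 k)
        (CohB1.tensorMod ((Scheme.Modules.pullback i).obj (cokernel u)) (Twist.twistProjSpace 2 k (-1))) 0) ∧
      Nontrivial (Coh.HH (CohB1.ProjSpace 2 k) ((Scheme.Modules.pullback i).obj (cokernel u)) 0) := by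
  exact GrothLib.HypRestrict28.semistable_restrict 2 le_rfl u hM i hi hO

end Groth.Agent.S11510
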