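import Groth.Statements.S11518
-- import your own Groth.Agent.* helpers here
import Groth.Agent.Lib.Tango28.Simple
import Groth.Agent.Lib.ModelK.PBT

set_option autoImplicit false
set_option maxHeartbeats 1600000
set_option linter.style.haveILetI false
set_option backward.isDefEq.respectTransparency false
universe u
open VBPn

namespace Groth.Agent.S11518

open CategoryTheory CategoryTheory.Limits AlgebraicGeometry in
/-- Let k be an algebraically closed field of characteristic zero. For every n there is a finite locally
free O-module F of rank n − 1 on P^n_k which is simple, i.e. every endomorphism of F is a homothety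
(its underlying map of abelian sheaves is multiplication by a scalar in k); in particular F is
indecomposable. (For n ≤ 2 the assertion is trivial. The published statement also gives the total
Chern class (1 − 2h)/(1 − h)^{n+1}; this row does not state it.) -/
theorem result (k : Type u) [Field k] [IsAlgClosed k] [CharZero k] (n : ℕ) :
    ∃ F : (CohB1.ProjSpace n k).Modules, FlatMod.IsFinLocFreeOfRank (n - 1) F ∧
      ∀ φ : F ⟶ F, ∃ c : k, (SheafOfModules.toSheaf (CohB1.ProjSpace n k).ringCatSheaf).map φ =
        Coh.smulAb F (Coh.toGlobal (CohB1.ProjSpace.toSpec n k) c) := by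
  refine ⟨GrothLib.Tango28.F n k, GrothLib.Tango28.isFinLocFreeOfRank_F, fun φ => ?_⟩
  haveI : HasExt.{u} (GrothLib.GenHom20.P n k).Modules := GrothLib.ModSupp25.hasExt_mod (GrothLib.GenHom20.P n k).sheaf
  obtain ⟨c, rfl⟩ : ∃ c : k, φ = c • 𝟙 _ := by
    by_cases hn : 2 ≤ n
    · exact GrothLib.Tango28.exists_eq_smul_id_F hn φ
    · have h0 : FlatMod.IsFinLocFreeOfRank 0 (GrothLib.Tango28.F n k) := by
        have := GrothLib.Tango28.isFinLocFreeOfRank_F (n := n) (k := k)
        rwa [show n - 1 = 0 by omega] at this
      exact ⟨0, (GrothLib.ModelK.isZero_of_rank_zero' h0).eq_of_src _ _⟩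
  refine ⟨c, ?_⟩
  rw [KLin.smul_id]
  rfl

end Groth.Agent.S11518
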