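import Groth.Statements.S11519
import Groth.Agent.Lib.NullCorr27.Bundle
-- import your own Groth.Agent.* helpers here

set_option autoImplicit false
universe u
open VBPn

namespace Groth.Agent.S11519

open CategoryTheory CategoryTheory.Limits AlgebraicGeometry in
/-- Let k be an algebraically closed field of characteristic zero and a, a' : O(−1) → Ω^1 ⊗ O(1) two
bundle monomorphisms of O-modules on P^3_k, i.e. monomorphisms whose cokernels E, E' are finite
locally free of rank 2 (null-correlation bundles up to duality). Then E ≅ E' if and only if a' = c·a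
for a nonzero constant c ∈ k: the underlying map of abelian sheaves of a' equals that of a followed
by multiplication by c on Ω^1 ⊗ O(1). -/
theorem result (k : Type u) [Field k] [IsAlgClosed k] [CharZero k]
    (a a' : Twist.twistProjSpace 3 k (-1) ⟶
      CohB1.tensorMod (Omega.sheaf (CohB1.ProjSpace.toSpec 3 k)) (Twist.twistProjSpace 3 k 1))
    [Mono a] [Mono a'] (hE : FlatMod.IsFinLocFreeOfRank 2 (cokernel a)) (hE' : FlatMod.IsFinLocFreeOfRank 2 (cokernel a')) :
    Nonempty (cokernel a ≅ cokernel a') ↔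
      ∃ c : k, c ≠ 0 ∧ (SheafOfModules.toSheaf (CohB1.ProjSpace 3 k).ringCatSheaf).map a' =
        (SheafOfModules.toSheaf (CohB1.ProjSpace 3 k).ringCatSheaf).map a ≫
          Coh.smulAb (CohB1.tensorMod (Omega.sheaf (CohB1.ProjSpace.toSpec 3 k)) (Twist.twistProjSpace 3 k 1))
            (Coh.toGlobal (CohB1.ProjSpace.toSpec 3 k) c) := by
  haveI := GrothLib.Chow.isProper_toSpec 3 k
  haveI : QuasiSeparated (CohB1.ProjSpace.toSpec 3 k) := inferInstance
  have key : ∀ c : k, (SheafOfModules.toSheaf (CohB1.ProjSpace 3 k).ringCatSheaf).map (c • a) =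
      (SheafOfModules.toSheaf (CohB1.ProjSpace 3 k).ringCatSheaf).map a ≫
        Coh.smulAb (CohB1.tensorMod (Omega.sheaf (CohB1.ProjSpace.toSpec 3 k)) (Twist.twistProjSpace 3 k 1))
          (Coh.toGlobal (CohB1.ProjSpace.toSpec 3 k) c) := fun c => by
    rw [show c • a = a ≫ (c • 𝟙 _) by rw [Linear.comp_smul, Category.comp_id], KLin.smul_id]
    exact (SheafOfModules.toSheaf (CohB1.ProjSpace 3 k).ringCatSheaf).map_comp a _
  constructor
  · rintro ⟨φ⟩
    obtain ⟨c, hc0, hc⟩ := GrothLib.NullCorr27.exists_smul_of_iso 3 k (by norm_num) a a' (fun h => by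
      obtain ⟨x⟩ := (GrothLib.ProjDim.isIntegral_proj k 3).nonempty
      obtain ⟨U, e, hx, he⟩ := GrothLib.FinCov.exists_frame_nhd_of_rank hE' x
      have hid : 𝟙 (Limits.cokernel a') = 0 := by
        rw [← cancel_epi (Limits.cokernel.π a'), h, Limits.zero_comp, Limits.zero_comp]
      have hz : ∀ m : Γ(Limits.cokernel a', U), m = 0 := fun m => by
        have h1 := congrArg (fun g : Limits.cokernel a' ⟶ Limits.cokernel a' => g.app U m) hid
        exact h1
      haveI : Nonempty U := ⟨⟨x, hx⟩⟩
      have h2 := congrFun ((he U le_rfl).1 (a₁ := fun _ => 1) (a₂ := fun _ => 0) ((hz _).trans (hz _).symm)) 0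
      exact one_ne_zero h2) φ
    exact ⟨c, hc0, by rw [hc]; exact key c⟩
  · rintro ⟨c, hc0, hc⟩
    refine GrothLib.NullCorr27.nonempty_iso_of_smul 3 k a a' hc0 ?_
    exact (SheafOfModules.toSheaf (CohB1.ProjSpace 3 k).ringCatSheaf).map_injective (hc.trans (key c).symm)

end Groth.Agent.S11519
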