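import Groth.Statements.S11521
import Groth.Agent.Lib.THeart.Basic
import Mathlib.Algebra.Homology.ShortComplex.ShortExact

set_option autoImplicit false
universe v u v' u'
open CategoryTheory CategoryTheory.Limits CategoryTheory.Pretriangulated CategoryTheory.Triangulated
open PervT

namespace Groth.Agent.S11521

/-- Let `C` be a triangulated category (octahedron axiom included) with a t-structure `t`, and let `H`
be an abelian category identified with the heart of `t` through a fully faithful additive functor
`ι` whose essential image is the heart. For morphisms `u : X ⟶ Y` and `v : Y ⟶ Z` in `H`, the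
sequence `0 ⟶ X ⟶ Y ⟶ Z ⟶ 0` is a complex and is short exact if and only if there is a morphism `w :
ι Z ⟶ (ι X)⟦1⟧` such that `(ι u, ι v, w)` is a distinguished triangle of `C`. -/
theorem result {C : Type u} [Category.{v} C] [Preadditive C] [HasZeroObject C] [HasShift C ℤ] [∀ n : ℤ, (shiftFunctor C n).Additive] [Pretriangulated C] [IsTriangulated C] (t : TStructure C) {H : Type u'} [Category.{v'} H] [Abelian H] [t.Heart H] {X Y Z : H} (u : X ⟶ Y) (v : Y ⟶ Z) :
    (∃ huv : u ≫ v = 0, (ShortComplex.mk u v huv).ShortExact) ↔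
      ∃ (w : t.ιHeart.obj Z ⟶ (t.ιHeart.obj X)⟦(1 : ℤ)⟧),
        Triangle.mk (t.ιHeart.map u) (t.ιHeart.map v) w ∈ distTriang C := by
  haveI : HasFiniteProducts H := inferInstance
  constructor
  · rintro ⟨huv, hS⟩
    haveI : Epi v := hS.epi_g
    obtain ⟨X', i, w, hT⟩ := GrothLib.THeart.exists_triangle_of_epi t v
    have hk := AbelianSubcategory.isLimitKernelForkOfDistTriang (GrothLib.THeart.hι t) i v w hT
    let e : X ≅ X' := hS.fIsKernel.conePointUniqueUpToIso hk
    have he : e.hom ≫ i = u := IsLimit.conePointUniqueUpToIso_hom_comp hS.fIsKernel hk WalkingParallelPair.zero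
    refine ⟨w ≫ (t.ιHeart.map e.inv)⟦(1 : ℤ)⟧', isomorphic_distinguished _ hT _
      (Triangle.isoMk _ _ (t.ιHeart.mapIso e) (Iso.refl _) (Iso.refl _) ?_ ?_ ?_)⟩
    · exact (Category.comp_id _).trans ((congrArg t.ιHeart.map he.symm).trans (t.ιHeart.map_comp _ _))
    · exact (Category.comp_id _).trans (Category.id_comp _).symm
    · refine (Category.assoc _ _ _).trans ?_
      have h1 : (shiftFunctor C (1 : ℤ)).map (t.ιHeart.map e.inv) ≫ (shiftFunctor C (1 : ℤ)).map (t.ιHeart.mapIso e).hom = 𝟙 _ :=
        ((shiftFunctor C (1 : ℤ)).mapIso (t.ιHeart.mapIso e)).inv_hom_id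
      exact ((congrArg (fun z => w ≫ z) h1).trans (Category.comp_id _)).trans (Category.id_comp _).symm
  · rintro ⟨w, hT⟩
    have huv : u ≫ v = 0 := t.ιHeart.map_injective (by
      rw [Functor.map_comp, Functor.map_zero]
      exact comp_distTriang_mor_zero₁₂ _ hT)
    have hk := AbelianSubcategory.isLimitKernelForkOfDistTriang (GrothLib.THeart.hι t) u v w hT
    have hc := AbelianSubcategory.isColimitCokernelCoforkOfDistTriang (GrothLib.THeart.hι t) u v w hT
    exact ⟨huv, { exact := ShortComplex.exact_of_f_is_kernel _ hk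
                  mono_f := Fork.IsLimit.mono hk
                  epi_g := Cofork.IsColimit.epi hc }⟩

end Groth.Agent.S11521
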