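import Groth.Statements.S11523
import Mathlib.CategoryTheory.Subobject.Limits
import Mathlib.CategoryTheory.Abelian.Exact
import Mathlib.CategoryTheory.Subobject.ArtinianObject
import Mathlib.CategoryTheory.Subobject.NoetherianObject
import Mathlib.CategoryTheory.Adjunction.FullyFaithful


set_option autoImplicit false
universe v u v' u'
open CategoryTheory CategoryTheory.Limits
open PervT

namespace Groth.Agent.S11523

/-- Let `u : A ⥤ B` be a fully faithful exact functor of abelian categories admitting a left adjoint and
a right adjoint `uStar`. Suppose every object of `A` has finite length (it is both an artinian and a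
noetherian object) and that `u` sends simple objects to simple objects. Then for every object `Y` of
`B` the counit `u (uStar Y) ⟶ Y` of the adjunction `u ⊣ uStar` is a monomorphism. (The published
statement also lists two further conditions equivalent to this one: that for every object `Y` of `B`
the unit `Y ⟶ u (L Y)` of the adjunction `L ⊣ u` of the left adjoint `L` is an epimorphism, and that
the essential image of `u` is stable under subobjects and quotients; this row states only the counit
condition.) -/
theorem result {A : Type u} [Category.{v} A] [Abelian A] {B : Type u'} [Category.{v'} B] [Abelian B]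
    (u : A ⥤ B) [u.Full] [u.Faithful] [PreservesFiniteLimits u] [PreservesFiniteColimits u] [u.IsRightAdjoint]
    (uStar : B ⥤ A) (adj : u ⊣ uStar)
    (hlen : ∀ X : A, IsArtinianObject X ∧ IsNoetherianObject X)
    (hsimple : ∀ X : A, Simple X → Simple (u.obj X)) (Y : B) :
    Mono (adj.counit.app Y) := by
  haveI := Functor.additive_of_preserves_binary_products u
  haveI : PreservesLimitsOfSize.{0, 0} uStar := adj.rightAdjoint_preservesLimits
  haveI := Functor.additive_of_preserves_binary_products uStar
  apply Preadditive.mono_of_kernel_zero
  by_contra hK0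
  let k := kernel.ι (adj.counit.app Y)
  haveI : IsIso (adj.unit.app (uStar.obj Y)) := inferInstance
  haveI : IsIso (uStar.map (adj.counit.app Y)) := by
    have h := adj.right_triangle_components Y
    rw [IsIso.eq_inv_of_hom_inv_id h]
    infer_instance
  have hz : IsZero (uStar.obj (kernel (adj.counit.app Y))) := by
    rw [IsZero.iff_id_eq_zero, ← cancel_mono (uStar.map k)]
    rw [Category.id_comp, zero_comp, ← cancel_mono (uStar.map (adj.counit.app Y)), zero_comp, ← uStar.map_comp,
      kernel.condition, uStar.map_zero]
  suffices h : ∃ (S : A) (_ : Simple S) (g : u.obj S ⟶ kernel (adj.counit.app Y)), g ≠ 0 by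
    obtain ⟨S, _, g, hg⟩ := h
    refine hg ((adj.homEquiv _ _).injective ?_)
    exact hz.eq_of_tgt _ _
  haveI := (hlen (uStar.obj Y)).2
  suffices h : ∀ (N : Subobject (uStar.obj Y)) (Q : A) (π : uStar.obj Y ⟶ Q), Epi π → kernelSubobject π = N →
      Mono (k ≫ u.map π) → ∃ (S : A) (_ : Simple S) (g : u.obj S ⟶ kernel (adj.counit.app Y)), g ≠ 0 from
    h _ _ (𝟙 _) inferInstance rfl (by rw [u.map_id]; exact mono_comp k (𝟙 _))
  intro N
  induction N using WellFoundedGT.induction with
  | _ N ih =>
    intro Q π _ hN hmono
    have hQ : ¬ IsZero Q := fun h => hK0 ((IsZero.of_mono (k ≫ u.map π) (u.map_isZero h)).eq_of_src _ _)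
    haveI := (hlen Q).1
    obtain ⟨S, hS⟩ := exists_simple_subobject hQ
    haveI := hsimple (S : A) hS
    let w : pullback (k ≫ u.map π) (u.map S.arrow) ⟶ u.obj (S : A) := pullback.snd _ _
    by_cases hw : w = 0
    · let c := cokernel.π S.arrow
      haveI : Mono (k ≫ u.map (π ≫ c)) := by
        apply Preadditive.mono_of_cancel_zero
        intro T x hx
        have hk : IsLimit (KernelFork.ofι (u.map S.arrow) (by rw [← u.map_comp, cokernel.condition, u.map_zero] :
            u.map S.arrow ≫ u.map c = 0)) :=
          isLimitForkMapOfIsLimit' u _ (Abelian.monoIsKernelOfCokernel _ (colimit.isColimit _))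
        obtain ⟨y, hy⟩ := KernelFork.IsLimit.lift' hk (x ≫ k ≫ u.map π) (by simpa [u.map_comp] using hx)
        have hy' : y ≫ u.map S.arrow = x ≫ k ≫ u.map π := hy
        have := pullback.lift_snd (f := k ≫ u.map π) (g := u.map S.arrow) x y hy'.symm
        change _ ≫ w = y at this
        rw [hw, comp_zero] at this
        rw [← this, zero_comp] at hy'
        exact (cancel_mono (k ≫ u.map π)).1 (by rw [zero_comp]; exact hy'.symm)
      refine ih _ ?_ _ (π ≫ c) inferInstance rfl inferInstance
      rw [← hN]
      refine lt_of_le_of_ne (le_kernelSubobject _ _ (by rw [← Category.assoc, kernelSubobject_arrow_comp, zero_comp])) fun he => ?_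
      have hf : (kernelSubobject (π ≫ c)).Factors (pullback.fst π S.arrow) :=
        (kernelSubobject_factors_iff _ _).2 (by rw [pullback.condition_assoc, cokernel.condition, comp_zero])
      rw [← he, kernelSubobject_factors_iff, pullback.condition] at hf
      have : S.arrow = 0 := (cancel_epi (pullback.snd π S.arrow)).1 (by rw [hf, comp_zero])
      exact Simple.not_isZero (S : A) (IsZero.of_mono_eq_zero _ this)
    · haveI : IsIso w := isIso_of_mono_of_nonzero hw
      refine ⟨_, hS, inv w ≫ pullback.fst _ _, fun h0 => ?_⟩
      have h1 : pullback.fst (k ≫ u.map π) (u.map S.arrow) = 0 := by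
        rw [← IsIso.hom_inv_id_assoc w (pullback.fst _ _), h0, comp_zero]
      have h2 := pullback.condition (f := k ≫ u.map π) (g := u.map S.arrow)
      rw [h1, zero_comp] at h2
      exact hw ((cancel_mono (u.map S.arrow)).1 (by rw [zero_comp]; exact h2.symm))

end Groth.Agent.S11523
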