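import Groth.Statements.S11528
import Groth.Agent.Lib.RigidBase.Algebra

set_option autoImplicit false
universe u
open AdicRing

namespace Groth.Agent.S11528

/-- Let R be a base ring of class (N) or (V) for the ideal I, A an R-algebra topologically of finite
type, M a finite A-module and N a submodule of M. Then for some n₀ and all m, the intersection of
I^(m+n₀) M with N lies in I^m N. (The published statement asserts only that the I-adic topology of M
induces that of N; this row states the uniform form: for some n₀ and all m, I^(m+n₀) M ∩ N lies in
I^m N.) -/
theorem result
    (R : Type u) [CommRing R] (I : Ideal R) (hR : AdicRing.IsBase R I)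
    (A : Type u) [CommRing A] [Algebra R A] (hA : AdicRing.TopFiniteType R I A)
    (M : Type u) [AddCommGroup M] [Module A M] [Module R M] [IsScalarTower R A M]
    [Module.Finite A M] (N : Submodule A M) :
    ∃ n₀ : ℕ, ∀ m : ℕ,
      (I ^ (m + n₀) • (⊤ : Submodule R M)) ⊓ N.restrictScalars R ≤ I ^ m • N.restrictScalars R := by
  exact GrothLib.RigidBase.artinRees_alg hR hA N

end Groth.Agent.S11528
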