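import Groth.Statements.S1153
import Groth.Agent.Lib.EtSite.FpqcDescent
import Groth.Agent.Lib.Thickening.Morphisms
import Mathlib.AlgebraicGeometry.Morphisms.Immersion

set_option autoImplicit false
open CategoryTheory CategoryTheory.Limits AlgebraicGeometry Opposite
universe u
open Desc

namespace Groth.Agent.S1153

/-- Let f : X ⟶ Y be locally of finite type, Z a closed subset of X and g : Y' ⟶ Y quasi-compact, flat
and surjective. If the preimage of Z in X ×_Y Y' is proper over Y', then Z is proper over Y. -/
theorem result {X Y Y' : Scheme.{u}} (f : X ⟶ Y) [LocallyOfFiniteType f] (Z : Set X) (hZ : IsClosed Z)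
    (g : Y' ⟶ Y) [QuasiCompact g] [Flat g] [Surjective g]
    (h : ClSub.IsProperOver (pullback.snd f g) ((pullback.fst f g).base ⁻¹' Z)) :
    ClSub.IsProperOver f Z := by
  refine ⟨hZ, ?_⟩
  obtain ⟨hc, hp⟩ := h
  let I := Scheme.IdealSheafData.vanishingIdeal (⟨Z, hZ⟩ : TopologicalSpace.Closeds X)
  let ι := I.subschemeι
  let J := Scheme.IdealSheafData.vanishingIdeal (⟨(pullback.fst f g).base ⁻¹' Z, hc⟩ : TopologicalSpace.Closeds ↥(pullback f g))
  have hrι : Set.range ι.base = Z := (Scheme.IdealSheafData.range_subschemeι I).trans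
    (Scheme.IdealSheafData.coe_support_vanishingIdeal _)
  have hrJ : Set.range J.subschemeι.base = (pullback.fst f g).base ⁻¹' Z :=
    (Scheme.IdealSheafData.range_subschemeι J).trans (Scheme.IdealSheafData.coe_support_vanishingIdeal _)
  let W := pullback ι (pullback.fst f g)
  let j : W ⟶ pullback f g := pullback.snd ι (pullback.fst f g)
  have hj : Set.range j.base = (pullback.fst f g).base ⁻¹' Z := by
    rw [show Set.range j.base = _ from Scheme.Pullback.range_snd ι (pullback.fst f g), hrι]
  -- the reduced structure factors through `W`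
  have hle : j.ker ≤ J.subschemeι.ker := by
    rw [Scheme.IdealSheafData.ker_subschemeι]
    refine Scheme.IdealSheafData.le_support_iff_le_vanishingIdeal.1 fun x hx => ?_
    refine j.range_subset_ker_support ?_
    rw [hj]; exact hx
  let i : J.subscheme ⟶ W := IsClosedImmersion.lift j J.subschemeι hle
  have hi : i ≫ j = J.subschemeι := IsClosedImmersion.lift_fac _ _ _
  haveI : IsClosedImmersion i := by
    haveI : IsClosedImmersion (i ≫ j) := hi.symm ▸ inferInstance
    exact IsClosedImmersion.of_comp i j
  haveI : Surjective i := ⟨fun w => by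
    have : j w ∈ Set.range J.subschemeι.base := by rw [hrJ, ← hj]; exact ⟨w, rfl⟩
    obtain ⟨t, ht⟩ := this
    refine ⟨t, j.isEmbedding.injective ?_⟩
    rw [← Scheme.Hom.comp_apply, hi]; exact ht⟩
  let φ : W ⟶ Y' := j ≫ pullback.snd f g
  haveI hip : IsProper (i ≫ φ) := by
    rw [← Category.assoc, hi]; exact hp
  have hsep : IsSeparated φ := by
    haveI : IsSeparated (i ≫ φ) := hip.toIsSeparated
    refine ⟨IsClosedImmersion.of_isPreimmersion _ ?_⟩
    have e : Set.range (pullback.diagonal φ).base = Set.range (i ≫ pullback.diagonal φ).base := by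
      rw [Scheme.Hom.comp_base, TopCat.coe_comp, Set.range_comp, i.surjective.range_eq, Set.image_univ]
    rw [e, GrothLib.Thickening.diagonal_comp i φ]
    haveI : IsClosedImmersion (pullback.map (i ≫ φ) (i ≫ φ) φ φ i i (𝟙 Y') (by simp) (by simp)) :=
      MorphismProperty.pullbackMap (P := @IsClosedImmersion) inferInstance inferInstance rfl rfl
    exact (Scheme.Hom.isClosedEmbedding _).isClosed_range
  haveI := hsep
  haveI : UniversallyClosed φ :=
    (GrothLib.Thickening.universallyClosed_comp_iff i φ).1 hip.toUniversallyClosed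
  haveI : LocallyOfFiniteType φ := inferInstance
  haveI : IsProper φ := {}
  have hsq : IsPullback φ (pullback.fst ι (pullback.fst f g)) g (ι ≫ f) :=
    ((IsPullback.of_hasPullback ι (pullback.fst f g)).paste_vert (IsPullback.of_hasPullback f g).flip.flip).flip
  exact MorphismProperty.of_isPullback_of_descendsAlong (P := @IsProper) (Q := GrothLib.EtSite.fpqcCov)
    hsq ⟨⟨inferInstance, inferInstance⟩, inferInstance⟩ inferInstance

end Groth.Agent.S1153
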