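import Groth.Statements.S11530
import Groth.Agent.Lib.RigidBase.TopFP

set_option autoImplicit false
universe u
open AdicRing

namespace Groth.Agent.S11530

/-- Let R be a base ring of class (N) or (V) for the ideal I and A an R-algebra which is complete and
separated for the I-adic topology. Then A is topologically of finite presentation over R if and only
if, for every n, the truncation A/I^(n+1)A is an algebra of finite presentation over R/I^(n+1). -/
theorem result
    (R : Type u) [CommRing R] (I : Ideal R) (hR : AdicRing.IsBase R I)
    (A : Type u) [CommRing A] [Algebra R A] [IsAdicComplete (I.map (algebraMap R A)) A] :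
    AdicRing.TopFinitePresentation R I A ↔
      ∀ n : ℕ, (Ideal.quotientMap ((I ^ (n + 1)).map (algebraMap R A)) (algebraMap R A)
        Ideal.le_comap_map).FinitePresentation := by
  exact GrothLib.RigidBase.topFinitePresentation_iff_trunc hR

end Groth.Agent.S11530
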