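import Groth.Statements.S1154
import Groth.Agent.Lib.InsepPic2.Basic


set_option autoImplicit false
set_option linter.all false
set_option maxHeartbeats 1000000
open CategoryTheory CategoryTheory.Limits AlgebraicGeometry Opposite
universe u
open PicF

namespace Groth.Agent.S1154

/-- Let k have characteristic p > 0, let X be quasi-compact and quasi-separated over k whose ring of
global functions is k itself (the structure morphism induces an isomorphism on global sections), let
n be prime to p and k'/k purely inseparable. Then every isomorphism class of invertible modules M on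
X_{k'} with M^n trivial is the pullback of such a class on X (injectivity of this pullback on
classes being a separate fact). -/
theorem result (k : Type u) [Field k] (p : ℕ) [Fact p.Prime] [CharP k p]
    (X : Scheme.{u}) (f : X ⟶ Spec (CommRingCat.of k)) [CompactSpace X] [QuasiSeparatedSpace X]
    (hH0 : IsIso f.appTop) (n : ℕ) (hn : ¬ p ∣ n) (k' : Type u) [Field k'] [Algebra k k'] [IsPurelyInseparable k k'] :
    ∀ d : PicF.Cl (pullback f (Spec.map (CommRingCat.ofHom (algebraMap k k')))), (PicF.IsInvertibleCl d ∧ ∃ M : ((pullback f (Spec.map (CommRingCat.ofHom (algebraMap k k'))))).Modules, PicF.cl M = d ∧ Nonempty (CohB1.tensorPow M n ≅ Coh.structureModule ((pullback f (Spec.map (CommRingCat.ofHom (algebraMap k k'))))))) →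
      ∃ c : PicF.Cl X, (PicF.IsInvertibleCl c ∧ ∃ M : (X).Modules, PicF.cl M = c ∧ Nonempty (CohB1.tensorPow M n ≅ Coh.structureModule (X))) ∧ PicF.pullCl (pullback.fst f (Spec.map (CommRingCat.ofHom (algebraMap k k')))) c = d := by
  rintro d ⟨⟨L, hLd, hL⟩, M, hMd, ⟨φ⟩⟩
  obtain ⟨ψ⟩ : Nonempty (M ≅ L) := by
    have hr : Equivalence fun L L' : (pullback f (Spec.map (CommRingCat.ofHom (algebraMap k k')))).Modules => Nonempty (L ≅ L') :=
      ⟨fun _ => ⟨Iso.refl _⟩, fun ⟨e⟩ => ⟨e.symm⟩, fun ⟨e⟩ ⟨e'⟩ => ⟨e ≪≫ e'⟩⟩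
    exact hr.eqvGen_iff.mp (Quot.eqvGen_exact (hMd.trans hLd.symm))
  have hM : PicF.IsInvertible M := fun y => by
    obtain ⟨U, hy, ⟨e⟩⟩ := hL y
    exact ⟨U, hy, ⟨(Scheme.Modules.restrictFunctor U.ι).mapIso ψ ≪≫ e⟩⟩
  set π := pullback.fst f (Spec.map (CommRingCat.ofHom (algebraMap k k')))
  let x := GrothLib.Cube.clsMod hM
  have hx : x ^ n = 1 := by
    rw [← GrothLib.Cube.clsMod_tensorPow hM, GrothLib.Cube.clsMod_eq_one_iff]
    exact ⟨φ⟩
  obtain ⟨e, y, hy⟩ := GrothLib.InsepPic2.exists_pow_mem_range (f := f) (p := p) x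
  have hyn : GrothLib.Cube.pull π (y ^ n) = 1 := by
    rw [map_pow, hy, ← pow_mul, mul_comm, pow_mul, hx, one_pow]
  obtain ⟨e', he'⟩ := GrothLib.InsepPic2.exists_pow_eq_one_of_pull_eq_one (f := f) (p := p) (y ^ n) hyn
  have hcop : Nat.Coprime (p ^ e * p ^ e') n := by
    rw [← pow_add]
    exact Nat.Coprime.pow_left _ ((Fact.out : p.Prime).coprime_iff_not_dvd.2 hn)
  have hbez := Nat.gcd_eq_gcd_ab (p ^ e * p ^ e') n
  rw [hcop.gcd_eq_one] at hbez
  set A := Nat.gcdA (p ^ e * p ^ e') n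
  set B := Nat.gcdB (p ^ e * p ^ e') n
  let c0 := (y ^ p ^ e') ^ A
  have hc0 : c0 ^ n = 1 := by
    show ((y ^ p ^ e') ^ A) ^ n = 1
    rw [← zpow_natCast, ← zpow_mul, mul_comm, zpow_mul, zpow_natCast, ← pow_mul, mul_comm, pow_mul, he', one_zpow]
  have hpull : GrothLib.Cube.pull π c0 = x := by
    rw [map_zpow, map_pow, hy, ← pow_mul, ← zpow_natCast, ← zpow_mul]
    calc x ^ (((p ^ e * p ^ e' : ℕ) : ℤ) * A) = x ^ (((p ^ e * p ^ e' : ℕ) : ℤ) * A) * (x ^ n) ^ B := by
          rw [hx, one_zpow, mul_one]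
      _ = x := by rw [← zpow_natCast x n, ← zpow_mul, ← zpow_add, ← hbez, Nat.cast_one, zpow_one]
  obtain ⟨cw, hcw⟩ := Quotient.exists_rep c0
  have hN : PicF.IsInvertible (cw.twist 1) := cw.isInvertible_twist 1
  have hclsN : GrothLib.Cube.clsMod hN = c0 := by
    rw [GrothLib.Cube.clsMod_eq hN (Iso.refl _)]
    exact hcw
  refine ⟨PicF.cl (cw.twist 1), ⟨⟨cw.twist 1, rfl, hN⟩, cw.twist 1, rfl, ?_⟩, ?_⟩
  · rw [← GrothLib.Cube.clsMod_eq_one_iff (GrothLib.Ample.isInvertible_tensorPow hN n),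
      GrothLib.Cube.clsMod_tensorPow hN, hclsN, hc0]
  · rw [← hMd]
    refine Quot.sound ?_
    rw [← GrothLib.Cube.clsMod_eq_iff (GrothLib.Ample.isInvertible_pullback π hN) hM,
      GrothLib.Cube.clsMod_pullback, hclsN]
    exact hpull
    exact hN

end Groth.Agent.S1154
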