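import Groth.Statements.S11540
import Groth.Agent.Lib.RigidBase.Chart

set_option autoImplicit false
universe u
open AdicRing

namespace Groth.Agent.S11540

/-- Let R be a base ring of class (N) or (V) for the ideal I, A an admissible R-algebra and f_0, ...,
f_r elements of A generating an open ideal, i.e. one containing I^k A for some k. Fix i and let C_i
be the I-adic completion of the chart algebra A[ζ_j ; j ≠ i]/(f_i ζ_j − f_j ; j ≠ i). Then the
I-power torsion of C_i coincides with its f_i-power torsion. (That f_i-power torsion is I-power
torsion is elementary; the content is the converse.) -/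
theorem result
    (R : Type u) [CommRing R] (I : Ideal R) (hR : AdicRing.IsBase R I)
    (A : Type u) [CommRing A] [Algebra R A] (hA : AdicRing.Admissible R I A)
    (r : ℕ) (f : Fin (r + 1) → A) (k : ℕ)
    (hopen : (I ^ k).map (algebraMap R A) ≤ Ideal.span (Set.range f)) (i : Fin (r + 1))
    (x : AdicRing.chartCompl I f i) :
    (∃ n : ℕ, ∀ a ∈ I ^ n, a • x = 0) ↔
      ∃ n : ℕ, algebraMap A (AdicRing.chartCompl I f i) (f i) ^ n * x = 0 := by
  exact GrothLib.RigidBase.powTorsion_iff f i hR hA k hopen x

end Groth.Agent.S11540
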