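import Groth.Statements.S11542
import Groth.Agent.Lib.RigidBase.RigPoint

set_option autoImplicit false
universe u
open AdicRing

namespace Groth.Agent.S11542

/-- Let R be a complete valuation ring of height one with t a nonzero element generating an ideal of
definition, A and B admissible R-algebras with B a local integral domain of Krull dimension one, f
an element of A and u a surjective R-algebra homomorphism from the complete localization A⟨f⁻¹⟩ onto
B. Then the composite of u with the canonical map A → A⟨f⁻¹⟩ is surjective. -/
theorem result
    (R : Type u) [CommRing R] [IsDomain R] [ValuationRing R] [Ring.KrullDimLE 1 R]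
    (t : R) (ht : t ≠ 0) [IsAdicComplete (Ideal.span {t}) R]
    (A : Type u) [CommRing A] [Algebra R A] (hA : AdicRing.Admissible R (Ideal.span {t}) A) (f : A)
    (B : Type u) [CommRing B] [Algebra R B] [IsDomain B] [IsLocalRing B]
    (hB : AdicRing.Admissible R (Ideal.span {t}) B) (hdim : ringKrullDim B = 1)
    (u : AdicRing.CLoc (Ideal.span {t}) f →ₐ[R] B) (hu : Function.Surjective u) :
    Function.Surjective
      (u.toRingHom.comp (algebraMap A (AdicRing.CLoc (Ideal.span {t}) f))) := by
  have hT := GrothLib.RigidBase.injective_of_noPowTorsion ht hB.2
  obtain ⟨n, φ, hφ, -⟩ := hB.1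
  have := GrothLib.RigidBase.finite_of_ringKrullDim_le_one ht ⟨n, φ, hφ⟩ hT hdim.le
  exact GrothLib.RigidBase.surjective_comp_cLoc ht f u hu

end Groth.Agent.S11542
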