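import Groth.Statements.S11543
import Groth.Agent.Lib.RigidBase.GenericFibre

set_option autoImplicit false
universe u
open scoped TensorProduct
open AdicRing

namespace Groth.Agent.S11543

/-- Let R be a complete valuation ring of height one with t a nonzero element generating an ideal of
definition and K its field of fractions, and let A be an admissible R-algebra. Then the non-open
prime ideals p of A (those not containing t) with A/p of Krull dimension one correspond bijectively
to the maximal ideals of A ⊗_R K: the extension of such a p along A → A ⊗_R K is maximal and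
contracts back to p, and every maximal ideal of A ⊗_R K contracts to such a prime and is the
extension of its contraction. -/
theorem result
    (R : Type u) [CommRing R] [IsDomain R] [ValuationRing R] [Ring.KrullDimLE 1 R]
    (t : R) (ht : t ≠ 0) [IsAdicComplete (Ideal.span {t}) R]
    (A : Type u) [CommRing A] [Algebra R A] (hA : AdicRing.Admissible R (Ideal.span {t}) A) :
    (∀ p : Ideal A, p.IsPrime → algebraMap R A t ∉ p → ringKrullDim (A ⧸ p) = 1 →
        (p.map (Algebra.TensorProduct.includeLeftRingHom :
          A →+* A ⊗[R] FractionRing R)).IsMaximal ∧
        (p.map (Algebra.TensorProduct.includeLeftRingHom :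
          A →+* A ⊗[R] FractionRing R)).comap (Algebra.TensorProduct.includeLeftRingHom :
          A →+* A ⊗[R] FractionRing R) = p) ∧
      (∀ m : Ideal (A ⊗[R] FractionRing R), m.IsMaximal →
        algebraMap R A t ∉ m.comap (Algebra.TensorProduct.includeLeftRingHom :
            A →+* A ⊗[R] FractionRing R) ∧
          ringKrullDim (A ⧸ m.comap (Algebra.TensorProduct.includeLeftRingHom :
            A →+* A ⊗[R] FractionRing R)) = 1 ∧
          (m.comap (Algebra.TensorProduct.includeLeftRingHom :
            A →+* A ⊗[R] FractionRing R)).map (Algebra.TensorProduct.includeLeftRingHom :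
            A →+* A ⊗[R] FractionRing R) = m) := by
  obtain ⟨n, φ, hφ, -⟩ := hA.1
  refine ⟨fun p hp htp hdim => GrothLib.RigidBase.isMaximal_map_tensor ht ⟨n, φ, hφ⟩ p htp hdim,
    fun m hm => ?_⟩
  exact GrothLib.RigidBase.comap_isMaximal_tensor ht ⟨n, φ, hφ⟩ m

end Groth.Agent.S11543
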