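import Groth.Statements.S11546
import Groth.Agent.Lib.RigidBase.Completion

set_option autoImplicit false
universe u
open AdicRing

namespace Groth.Agent.S11546

/-- Let R be a base ring of class (N) or (V) for the ideal I. Then the restricted power series ring
R⟨ζ_1, ..., ζ_n⟩ is flat over R. -/
theorem result
    (R : Type u) [CommRing R] (I : Ideal R) (hR : AdicRing.IsBase R I) (n : ℕ) :
    Module.Flat R (AdicRing.RPow R I n) := by
  rcases GrothLib.RigidBase.isBase_cases hR with ⟨hN, -⟩ | ⟨t, rfl, hV⟩
  · exact Module.Flat.trans R (MvPolynomial (Fin n) R) _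
  · have := hV.isDomain
    have := hV.preValuationRing
    have : ValuationRing R := { }
    rw [Module.Flat.flat_iff_torsion_eq_bot_of_isBezout, eq_bot_iff]
    rintro x ⟨⟨γ, hγ⟩, hx⟩
    exact GrothLib.RigidBase.eq_zero_of_smul_eq_zero hV n (nonZeroDivisors.ne_zero hγ) x hx

end Groth.Agent.S11546
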