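import Groth.Statements.S11548
import Groth.Agent.Lib.RigidBase.GenericFibre

set_option autoImplicit false
universe u
open AdicRing

namespace Groth.Agent.S11548

/-- Let R be a complete valuation ring of height one with t a nonzero element generating an ideal of
definition, and m a maximal ideal of R⟨ζ_1, ..., ζ_n⟩ containing t (a closed point of the special
fibre). Then there is a prime ideal p contained in m and not containing t such that R⟨ζ_1, ...,
ζ_n⟩/p has Krull dimension one. (This is the affine content of the surjectivity of the
specialization map onto closed points, for the formal affine space.) -/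
theorem result
    (R : Type u) [CommRing R] [IsDomain R] [ValuationRing R] [Ring.KrullDimLE 1 R]
    (t : R) (ht : t ≠ 0) [IsAdicComplete (Ideal.span {t}) R]
    (n : ℕ) (m : Ideal (AdicRing.RPow R (Ideal.span {t}) n)) [m.IsMaximal]
    (hm : algebraMap R (AdicRing.RPow R (Ideal.span {t}) n) t ∈ m) :
    ∃ p : Ideal (AdicRing.RPow R (Ideal.span {t}) n), p.IsPrime ∧ p ≤ m ∧
      algebraMap R (AdicRing.RPow R (Ideal.span {t}) n) t ∉ p ∧
      ringKrullDim (AdicRing.RPow R (Ideal.span {t}) n ⧸ p) = 1 := by
  exact GrothLib.RigidBase.exists_prime_rPow ht n m hm

end Groth.Agent.S11548
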