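import Groth.Statements.S2219
import Mathlib

set_option autoImplicit false
universe u
open Disc

namespace Groth.Agent.S2219

theorem trace_add_of_mapsTo {k V : Type u} [Field k] [AddCommGroup V] [Module k V] [FiniteDimensional k V]
    (N : Submodule k V) (f : V →ₗ[k] V) (hf : ∀ x ∈ N, f x ∈ N) :
    LinearMap.trace k V f = LinearMap.trace k N (f.restrict hf) +
      LinearMap.trace k (V ⧸ N) (N.mapQ N f fun x hx => hf x hx) := by
  obtain ⟨π, hπ⟩ := N.subtype.exists_leftInverse_of_injective N.ker_subtype
  obtain ⟨s, hs⟩ := N.mkQ.exists_rightInverse_of_surjective N.range_mkQ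
  let P := N.subtype ∘ₗ π
  let s' : (V ⧸ N) →ₗ[k] V := N.liftQ (LinearMap.id - P) fun x hx => by
    show x - N.subtype (π x) = 0
    rw [show π x = ⟨x, hx⟩ from LinearMap.congr_fun hπ ⟨x, hx⟩, Submodule.subtype_apply, sub_self]
  have hdec : f = (f ∘ₗ N.subtype) ∘ₗ π + (f ∘ₗ s') ∘ₗ N.mkQ := LinearMap.ext fun x => by
    show f x = f (P x) + f (x - P x)
    rw [← map_add, add_sub_cancel]
  have h1 : π ∘ₗ f ∘ₗ N.subtype = f.restrict hf := LinearMap.ext fun x => LinearMap.congr_fun hπ ⟨f x, hf x x.2⟩
  have h2 : N.mkQ ∘ₗ f ∘ₗ s' = N.mapQ N f (fun x hx => hf x hx) := by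
    refine Submodule.linearMap_qext N (LinearMap.ext fun x => ?_)
    show Submodule.Quotient.mk (f (x - P x)) = Submodule.Quotient.mk (f x)
    rw [map_sub, Submodule.Quotient.mk_sub, show (Submodule.Quotient.mk (f (P x)) : V ⧸ N) = 0 from
      (Submodule.Quotient.mk_eq_zero N).2 (hf _ (π x).2), sub_zero]
  conv_lhs => rw [hdec]
  rw [map_add, LinearMap.trace_comp_comm', LinearMap.trace_comp_comm' N.mkQ, h1, h2]

theorem trace_lsmul_eq {k A : Type u} [Field k] [CommRing A] [Algebra k A] [FiniteDimensional k A] [IsLocalRing A]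
    (a : A) : ∀ (n : ℕ) (M : Type u) [AddCommGroup M] [Module A M] [Module k M] [IsScalarTower k A M]
      [FiniteDimensional k M], Module.finrank k M = n → ∃ ℓ : ℕ, Module.length A M = ℓ ∧
      LinearMap.trace k M ((LinearMap.lsmul A M a).restrictScalars k) =
        (ℓ : k) * Algebra.trace k (IsLocalRing.ResidueField A) (IsLocalRing.residue A a) := by
  intro n
  induction n using Nat.strong_induction_on with
  | _ n ih =>
  intro M _ _ _ _ _ hn
  rcases subsingleton_or_nontrivial M with hM | hM
  · refine ⟨0, by simp [Module.length_eq_zero], ?_⟩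
    rw [show (LinearMap.lsmul A M a).restrictScalars k = 0 from LinearMap.ext fun x => Subsingleton.elim _ _,
      map_zero, Nat.cast_zero, zero_mul]
  haveI : IsArtinianRing A := IsArtinianRing.of_finite k A
  obtain ⟨P, hP⟩ := associatedPrimes.nonempty A M
  obtain ⟨hprime, v, hv⟩ := isAssociatedPrime_iff.1 hP
  have hPm : P = IsLocalRing.maximalIdeal A :=
    IsLocalRing.eq_maximalIdeal (haveI := hprime; IsArtinianRing.isMaximal_of_isPrime P)
  let g : A →ₗ[A] M := LinearMap.toSpanSingleton A M v
  have hker : LinearMap.ker g = IsLocalRing.maximalIdeal A := by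
    rw [← hPm, hv]
    ext x
    simp [g, Submodule.mem_colon_singleton]
  let S : Submodule A M := LinearMap.range g
  let eS : IsLocalRing.ResidueField A ≃ₗ[A] S :=
    (Submodule.quotEquivOfEq _ _ hker.symm).trans g.quotKerEquivRange
  let f := (LinearMap.lsmul A M a).restrictScalars k
  have hf : ∀ x ∈ S.restrictScalars k, f x ∈ S.restrictScalars k := fun x hx => S.smul_mem a hx
  haveI : FiniteDimensional k (M ⧸ S) := Module.Finite.of_surjective (S.mkQ.restrictScalars k) S.mkQ_surjective
  have hlt : Module.finrank k (M ⧸ S) < n := by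
    have h1 := Submodule.finrank_quotient_add_finrank (S.restrictScalars k)
    have h2 : 0 < Module.finrank k (S.restrictScalars k) :=
      Module.finrank_pos_iff.2 (by
        haveI : Nontrivial S := eS.toEquiv.symm.nontrivial
        exact inferInstanceAs (Nontrivial S))
    have h3 : Module.finrank k (M ⧸ S) = Module.finrank k (M ⧸ S.restrictScalars k) :=
      (Submodule.Quotient.restrictScalarsEquiv k S).finrank_eq.symm
    omega
  obtain ⟨ℓ, hℓ, htr⟩ := ih _ hlt (M ⧸ S) rfl
  refine ⟨ℓ + 1, ?_, ?_⟩
  · rw [Module.length_eq_add_of_exact S.subtype S.mkQ Subtype.val_injective S.mkQ_surjective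
      (LinearMap.exact_subtype_mkQ S), ← eS.length_eq, hℓ]
    haveI : IsSimpleModule A (IsLocalRing.ResidueField A) :=
      isSimpleModule_iff_quot_maximal.mpr ⟨_, IsLocalRing.maximalIdeal.isMaximal A, ⟨LinearEquiv.refl A _⟩⟩
    rw [Module.length_eq_one]
    push_cast
    rw [add_comm]
  · rw [trace_add_of_mapsTo (S.restrictScalars k) f hf]
    have hA : LinearMap.trace k (S.restrictScalars k) (f.restrict hf) =
        Algebra.trace k (IsLocalRing.ResidueField A) (IsLocalRing.residue A a) := by
      let eS' : IsLocalRing.ResidueField A ≃ₗ[k] (S.restrictScalars k) :=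
        { eS.restrictScalars k with }
      rw [Algebra.trace_apply, ← LinearMap.trace_conj' _ eS']
      congr 1
      refine LinearMap.ext fun x => ?_
      obtain ⟨y, rfl⟩ := eS'.surjective x
      rw [LinearEquiv.conj_apply_apply, LinearEquiv.symm_apply_apply]
      apply Subtype.ext
      show a • ((eS y : S) : M) = ((eS (IsLocalRing.residue A a * y) : S) : M)
      rw [show IsLocalRing.residue A a * y = a • y from (Algebra.smul_def a y).symm, map_smul]
      rfl
    have hB : LinearMap.trace k (M ⧸ S.restrictScalars k)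
        ((S.restrictScalars k).mapQ _ f fun x hx => hf x hx) = LinearMap.trace k (M ⧸ S) ((LinearMap.lsmul A (M ⧸ S) a).restrictScalars k) := by
      rw [← LinearMap.trace_conj' _ (Submodule.Quotient.restrictScalarsEquiv k S)]
      congr 1
      refine LinearMap.ext fun x => ?_
      obtain ⟨y, rfl⟩ := S.mkQ_surjective x
      rfl
    rw [hA, hB, htr]
    push_cast
    ring


/-- Equivalence of (1) and (3): let k be a field and A a finite-dimensional local k-algebra with residue
field k'. Then the trace map Tr_{A/k} is not identically zero if and only if k' is separable over k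
and the length of A as a module over itself is not divisible by the characteristic of k (no
condition in characteristic zero). -/
theorem result (k A : Type u) [Field k] [CommRing A]
    [Algebra k A] [FiniteDimensional k A] [IsLocalRing A] :
    Algebra.trace k A ≠ 0 ↔
      (Algebra.IsSeparable k (IsLocalRing.ResidueField A) ∧
        ∀ p : ℕ, p.Prime → CharP k p → ¬ p ∣ (Module.length A A).toNat) := by
  classical
  obtain ⟨ℓ, hℓ, -⟩ := trace_lsmul_eq (k := k) (0 : A) _ A rfl
  have htr : ∀ a : A, Algebra.trace k A a =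
      (ℓ : k) * Algebra.trace k (IsLocalRing.ResidueField A) (IsLocalRing.residue A a) := by
    intro a
    obtain ⟨m, hm, h⟩ := trace_lsmul_eq (k := k) a _ A rfl
    obtain rfl : m = ℓ := by exact_mod_cast hm.symm.trans hℓ
    rw [← h, Algebra.trace_apply]
    rfl
  rw [hℓ, ENat.toNat_natCast]
  haveI : FiniteDimensional k (IsLocalRing.ResidueField A) := inferInstance
  constructor
  · intro hne
    obtain ⟨a, ha⟩ : ∃ a, Algebra.trace k A a ≠ 0 := by
      by_contra! h0
      exact hne (LinearMap.ext h0)
    rw [htr] at ha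
    refine ⟨by_contra fun hsep => ha ?_, fun p hp hchar hdvd => ha ?_⟩
    · rw [Algebra.trace_eq_zero_of_not_isSeparable hsep, LinearMap.zero_apply, mul_zero]
    · haveI := hchar
      rw [(CharP.cast_eq_zero_iff k p ℓ).2 hdvd, zero_mul]
  · rintro ⟨hsep, hdvd⟩ h0
    have hℓ0 : (ℓ : k) ≠ 0 := by
      obtain ⟨p, hp⟩ := CharP.exists k
      rcases CharP.char_is_prime_or_zero k p with hprime | rfl
      · intro h
        exact hdvd p hprime hp ((CharP.cast_eq_zero_iff k p ℓ).1 h)
      · haveI := CharP.charP_to_charZero k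
        have : ℓ ≠ 0 := fun h => by
          rw [h, Nat.cast_zero, Module.length_eq_zero_iff] at hℓ
          exact not_subsingleton A hℓ
        exact_mod_cast this
    haveI := hsep
    obtain ⟨x, hx⟩ := Algebra.trace_surjective k (IsLocalRing.ResidueField A) 1
    obtain ⟨a, rfl⟩ := IsLocalRing.residue_surjective x
    have := htr a
    rw [h0, LinearMap.zero_apply, hx, mul_one] at this
    exact hℓ0 this.symm

end Groth.Agent.S2219
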