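import Groth.Statements.S1157
-- import your own Groth.Agent.* helpers here
import Groth.Agent.Lib.GalPic26.Main

set_option autoImplicit false
open CategoryTheory CategoryTheory.Limits AlgebraicGeometry Opposite
universe u
open PicF

set_option backward.isDefEq.respectTransparency false
set_option linter.style.haveILetI false

noncomputable section

open GrothLib

namespace Groth.Agent.S1157

/-- The descent statement only; injectivity of pullback on Picard groups and continuity of the Galois
action are not asserted: Let X be quasi-compact and quasi-separated over a field k, with ring of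
global functions k itself and with a k-rational point, and let k'/k be a Galois extension. Then
every isomorphism class of invertible modules on X ×_k Spec k' which is fixed by all the
automorphisms id_X × Spec σ, σ ∈ Gal(k'/k), is the pullback of the class of an invertible module on
X. -/
theorem result (k : Type u) [Field k] (X : Scheme.{u}) (f : X ⟶ Spec (CommRingCat.of k))
    [CompactSpace X] [QuasiSeparatedSpace X] (hH0 : IsIso f.appTop)
    (x : Spec (CommRingCat.of k) ⟶ X) (hx : x ≫ f = 𝟙 _)
    (k' : Type u) [Field k'] [Algebra k k'] [IsGalois k k']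
    (d : PicF.Cl (pullback f (Spec.map (CommRingCat.ofHom (algebraMap k k'))))) (hd : PicF.IsInvertibleCl d)
    (hfix : ∀ σ : k' ≃ₐ[k] k', PicF.pullCl (PicF2.twistAut f σ) d = d) :
    ∃ c : PicF.Cl X, PicF.IsInvertibleCl c ∧ PicF.pullCl (pullback.fst f (Spec.map (CommRingCat.ofHom (algebraMap k k')))) c = d := by
  haveI : QuasiCompact f := (quasiCompact_iff_compactSpace f).2 inferInstance
  haveI : QuasiSeparated f := (quasiSeparated_iff_quasiSeparatedSpace f).2 inferInstance
  obtain ⟨L, rfl, hL⟩ := hd
  obtain ⟨n, hn⟩ := GrothLib.GalPic26.exists_of_fix_galois f x hx hH0 k' (GrothLib.Cube.clsMod hL) fun σ => by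
    rw [← GrothLib.Cube.clsMod_pullback _ hL]
    exact (GrothLib.Cube.clsMod_eq_iff _ _).2 (GrothLib.PicSep26.cl_eq_iff.1 (hfix σ))
  obtain ⟨M, hM, rfl⟩ := GrothLib.RigDesc26.exists_module n
  refine ⟨PicF.cl M, ⟨M, rfl, hM⟩, GrothLib.PicSep26.cl_eq_iff.2
    ((GrothLib.Cube.clsMod_eq_iff (GrothLib.Ample.isInvertible_pullback _ hM) hL).1
      ((GrothLib.Cube.clsMod_pullback _ hM).trans hn))⟩

end Groth.Agent.S1157
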