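import Groth.Statements.S1159
import Groth.Agent.PurityLef21.LefPower
import Groth.Agent.Lib.FEt21.Thick
import Groth.Agent.Lib.FEt21.RegularExtend

set_option autoImplicit false
universe u
open Pi1

namespace Groth.Agent.S1159

open AlgebraicGeometry CategoryTheory CategoryTheory.Limits in
/-- Let A be a Noetherian local ring of depth at least 2, d ≥ 1, B = A[[x_1, ..., x_d]] (assumed local,
as it is), Y = Spec B and Y₀ = V(x_1, ..., x_d), identified with Spec A via the quotient map. Let V
be an open subscheme of Y whose intersection with Y₀ is Y₀ minus the closed point. Then restriction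
of finite etale covers from V to V ×_Y Y₀ is fully faithful. -/
theorem result (A : Type u) [CommRing A] [IsNoetherianRing A] [IsLocalRing A]
    (hA : (2 : ℕ∞) ≤ LocCoh.depth A A) (d : ℕ) (hd : 1 ≤ d)
    [IsLocalRing (MvPowerSeries (Fin d) A)]
    (V : (Spec (CommRingCat.of (MvPowerSeries (Fin d) A))).Opens)
    (hV : ∀ y : Spec (CommRingCat.of (MvPowerSeries (Fin d) A)),
      (∀ i : Fin d, MvPowerSeries.X i ∈ (y : PrimeSpectrum (MvPowerSeries (Fin d) A)).asIdeal) →
      (y ∈ V ↔ y ≠ IsLocalRing.closedPoint (MvPowerSeries (Fin d) A))) :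
    (FEt.restrict (pullback.fst V.ι (Spec.map (CommRingCat.ofHom
      (MvPowerSeries.constantCoeff : MvPowerSeries (Fin d) A →+* A))))).Full ∧
    (FEt.restrict (pullback.fst V.ι (Spec.map (CommRingCat.ofHom
      (MvPowerSeries.constantCoeff : MvPowerSeries (Fin d) A →+* A))))).Faithful := by
  let B := MvPowerSeries (Fin d) A
  let J := GrothLib.AdicFS.varsIdeal A d
  let cl : Spec (CommRingCat.of (B ⧸ J)) ⟶ Spec (CommRingCat.of B) := Spec.map (CommRingCat.ofHom (Ideal.Quotient.mk J))
  haveI : IsClosedImmersion cl := IsClosedImmersion.spec_of_surjective _ Ideal.Quotient.mk_surjective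
  let e : B ⧸ J ≃+* A := (Ideal.quotEquivOfEq GrothLib.AdicFS.ker_constantCoeff.symm).trans
    (RingHom.quotientKerEquivOfSurjective fun a => ⟨MvPowerSeries.C a, MvPowerSeries.constantCoeff_C a⟩)
  let s : Spec (CommRingCat.of A) ⟶ Spec (CommRingCat.of B) :=
    Spec.map (CommRingCat.ofHom (MvPowerSeries.constantCoeff : B →+* A))
  let σ : Spec (CommRingCat.of A) ⟶ cl.ker.subscheme := Spec.map (CommRingCat.ofHom e.toRingHom) ≫ cl.toImage
  haveI : IsIso (CommRingCat.ofHom e.toRingHom) := (ConcreteCategory.isIso_iff_bijective _).2 e.bijective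
  have hσ : σ ≫ cl.ker.subschemeι = s := by
    have h : cl.toImage ≫ cl.ker.subschemeι = cl := cl.toImage_imageι
    rw [Category.assoc, h]
    show Spec.map _ ≫ Spec.map _ = Spec.map _
    rw [← Spec.map_comp, ← CommRingCat.ofHom_comp]
    rfl
  haveI : IsIso σ := inferInstance
  let m : pullback V.ι s ⟶ pullback V.ι cl.ker.subschemeι :=
    pullback.lift (pullback.fst _ _) (pullback.snd _ _ ≫ σ) (by rw [Category.assoc, hσ, pullback.condition])
  have sq : IsPullback m (pullback.snd V.ι s) (pullback.snd V.ι cl.ker.subschemeι) σ := by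
    refine IsPullback.of_right (h₁₂ := pullback.fst V.ι cl.ker.subschemeι) (v₁₃ := V.ι)
      (h₂₂ := cl.ker.subschemeι) ?_ (pullback.lift_snd _ _ _) (IsPullback.of_hasPullback _ _)
    rw [hσ, show m ≫ pullback.fst V.ι cl.ker.subschemeι = pullback.fst V.ι s from pullback.lift_fst _ _ _]
    exact IsPullback.of_hasPullback _ _
  haveI : IsIso m := sq.isIso_fst_of_isIso
  let φ : pullback V.ι s ⟶ (cl.ker.comap V.ι).subscheme := m ≫ (cl.ker.comapIso V.ι).inv
  have hφ : φ ≫ (cl.ker.comap V.ι).subschemeι = pullback.fst V.ι s := by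
    rw [← cl.ker.comapIso_hom_fst V.ι, Category.assoc, Iso.inv_hom_id_assoc]
    exact pullback.lift_fst _ _ _
  haveI : IsIso φ := inferInstance
  obtain ⟨hfull, hfaith⟩ := Groth.Agent.PurityLef21.fullyFaithful_restrict_powerSeries A hA V fun y hy => hV y fun i =>
    hy (by
      rw [← GrothLib.AdicFS.ker_constantCoeff, RingHom.mem_ker, MvPowerSeries.constantCoeff_X])
  haveI : (FEt.restrict φ).IsEquivalence := GrothLib.FEt21.isEquivalence_of_thickening φ
  let η : FEt.restrict (pullback.fst V.ι s) ≅ FEt.restrict (cl.ker.comap V.ι).subschemeι ⋙ FEt.restrict φ :=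
    (MorphismProperty.Over.pullbackCongr (Q := ⊤) hφ.symm) ≪≫
      MorphismProperty.Over.pullbackComp (P := FEt.prop) (Q := ⊤) φ (cl.ker.comap V.ι).subschemeι
  haveI := hfull
  haveI := hfaith
  exact ⟨Functor.Full.of_iso η.symm, Functor.Faithful.of_iso η.symm⟩

end Groth.Agent.S1159
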