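import Groth.Statements.S1162
import Mathlib

set_option autoImplicit false
open CategoryTheory CategoryTheory.Limits AlgebraicGeometry Opposite
universe u
open Desc

namespace Groth.Agent.S1162

/-- Let f : X ⟶ Y be flat and separated. Write X⁰ for the generic points of the irreducible components
of X. If for every ξ in X⁰ the residue field extension κ(f ξ) ⊆ κ(ξ) is trivial and f is injective
on X⁰, then f is universally injective. -/
theorem result {X Y : Scheme.{u}} (f : X ⟶ Y) [Flat f] [IsSeparated f]
    (h2 : ∀ ξ : X, closure ({ξ} : Set X) ∈ irreducibleComponents (X : Type u) →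
      Function.Surjective (f.residueFieldMap ξ).hom)
    (h3 : Set.InjOn f.base {ξ : X | closure ({ξ} : Set X) ∈ irreducibleComponents (X : Type u)}) :
    UniversallyInjective f := by
  let P := pullback f f
  have hkey : ∀ (K : Type u) [Field K] (g₁ g₂ : Spec (CommRingCat.of K) ⟶ X),
      ∀ s : Spec (CommRingCat.of K), g₁ s = g₂ s →
      (∀ x, g₁ s = x → Function.Surjective (f.residueFieldMap x).hom) →
      g₁ ≫ f = g₂ ≫ f → g₁ = g₂ := by
    intro K _ g₁ g₂ s hx hs hg
    obtain ⟨⟨x, φ⟩, rfl⟩ := (Scheme.SpecToEquivOfField K X).symm.surjective g₁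
    obtain ⟨⟨x', φ'⟩, rfl⟩ := (Scheme.SpecToEquivOfField K X).symm.surjective g₂
    simp only [Scheme.SpecToEquivOfField, Equiv.coe_fn_symm_mk] at hx hs hg ⊢
    rw [Scheme.Hom.comp_apply, Scheme.Hom.comp_apply, Scheme.fromSpecResidueField_apply,
      Scheme.fromSpecResidueField_apply] at hx
    subst hx
    replace hs := hs x (by rw [Scheme.Hom.comp_apply, Scheme.fromSpecResidueField_apply])
    haveI : Epi (f.residueFieldMap x) := ConcreteCategory.epi_of_surjective _ hs
    rw [Category.assoc, Category.assoc, ← Scheme.Hom.SpecMap_residueFieldMap_fromSpecResidueField,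
      ← Category.assoc, ← Category.assoc, cancel_mono, ← Spec.map_comp, ← Spec.map_comp] at hg
    rw [(cancel_epi _).1 (Spec.map_injective hg)]
  have hmin : ∀ (Z : Scheme.{u}) (ζ : Z), closure ({ζ} : Set Z) ∈ irreducibleComponents Z ↔ ∀ w, w ⤳ ζ → w = ζ := by
    intro Z ζ
    constructor
    · intro h w hw
      have hle : closure ({ζ} : Set Z) ⊆ closure {w} := specializes_iff_closure_subset.1 hw
      exact ((specializes_iff_closure_subset.2 (h.2 isIrreducible_singleton.closure hle)).antisymm hw).eq.symm
    · intro h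
      obtain ⟨s, hs, hsub⟩ := exists_mem_irreducibleComponents_subset_of_isIrreducible _
        (isIrreducible_singleton (x := ζ)).closure
      obtain ⟨w, hw⟩ := QuasiSober.sober hs.1 (isClosed_of_mem_irreducibleComponents s hs)
      have : w = ζ := h w (hw.specializes (hsub (subset_closure rfl)))
      rw [← this, hw]
      exact hs
  rw [UniversallyInjective.iff_diagonal]
  refine ⟨fun z => ?_⟩
  obtain ⟨ζ, hζz, hζ⟩ : ∃ ζ : P, ζ ⤳ z ∧ ∀ w, w ⤳ ζ → w = ζ := by
    obtain ⟨s, hs, hsub⟩ := exists_mem_irreducibleComponents_subset_of_isIrreducible _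
      (isIrreducible_singleton (x := z)).closure
    obtain ⟨w, hw⟩ := QuasiSober.sober hs.1 (isClosed_of_mem_irreducibleComponents s hs)
    exact ⟨w, hw.specializes (hsub (subset_closure rfl)), (hmin P w).1 (hw.symm ▸ hs)⟩
  have hfst : ∀ (p : P ⟶ X), Flat p → closure ({p ζ} : Set X) ∈ irreducibleComponents X := by
    intro p hp
    refine (hmin X _).2 fun w hw => ?_
    obtain ⟨v, hv, rfl⟩ := (Flat.generalizingMap p) hw
    rw [hζ v hv]
  have h₁ := hfst (pullback.fst f f) inferInstance
  have h₂ := hfst (pullback.snd f f) inferInstance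
  have heq : pullback.fst f f ζ = pullback.snd f f ζ := h3 h₁ h₂ (by
    change f (pullback.fst f f ζ) = f (pullback.snd f f ζ)
    rw [← Scheme.Hom.comp_apply, ← Scheme.Hom.comp_apply, pullback.condition])
  let ι := P.fromSpecResidueField ζ
  let s₀ : Spec (P.residueField ζ) := IsLocalRing.closedPoint (P.residueField ζ)
  have hι : ι s₀ = ζ := Scheme.fromSpecResidueField_apply _ _
  have hg := hkey (P.residueField ζ) (ι ≫ pullback.fst f f) (ι ≫ pullback.snd f f) s₀
    (by rw [Scheme.Hom.comp_apply, Scheme.Hom.comp_apply, hι, heq])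
    (by rintro x rfl; exact h2 _ (by rw [Scheme.Hom.comp_apply, hι]; exact h₁))
    (by rw [Category.assoc, Category.assoc, pullback.condition])
  have hfac : ι = (ι ≫ pullback.fst f f) ≫ pullback.diagonal f := by
    apply pullback.hom_ext
    · simp
    · simpa using hg.symm
  have hmem : ζ ∈ Set.range (pullback.diagonal f) :=
    ⟨(ι ≫ pullback.fst f f) s₀, by rw [← Scheme.Hom.comp_apply, ← hfac, hι]⟩
  exact hζz.mem_closed (pullback.diagonal f).isClosedEmbedding.isClosed_range hmem

end Groth.Agent.S1162
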