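import Groth.Statements.S1173
import Groth.Agent.Lib.SymHilb26.AddPoint

set_option autoImplicit false
open CategoryTheory CategoryTheory.Limits AlgebraicGeometry
universe u
open HilbD

namespace Groth.Agent.S1173

/-- With X ⟶ S assumed separated, so that graphs of sections are closed subschemes: Let f : X ⟶ S be
smooth of relative dimension 1 and separated, and let (H, Z) and (H', Z') represent the Hilbert
functors of points of X over S in degrees d and d + 1. Let T = H ×_S X with its point x : T ⟶ X.
Then the S-morphism T ⟶ H' classifying the closed subscheme Z_T + (graph of x) of X ×_S T is finite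
locally free of degree d + 1. -/
theorem result {X S : Scheme.{u}} (f : X ⟶ S) [SmoothOfRelativeDimension 1 f] [IsSeparated f]
    (d : ℕ) (H : Over S) (Z : HilbD.Obj f d H) (hZ : HilbD.IsUniversal f d H Z)
    (H' : Over S) (Z' : HilbD.Obj f (d + 1) H') (hZ' : HilbD.IsUniversal f (d + 1) H' Z')
    (m : Over.mk (pullback.fst H.hom f ≫ H.hom) ⟶ H')
    (hm : HilbD.pull f m Z'.1 =
      HilbD.pull f (Over.homMk (pullback.fst H.hom f) rfl : Over.mk (pullback.fst H.hom f ≫ H.hom) ⟶ H) Z.1 *
        HilbD.secGraph f (Over.mk (pullback.fst H.hom f ≫ H.hom)) (pullback.snd H.hom f) pullback.condition.symm) :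
    Mor2.IsFinLocFreeOfDeg (d + 1) m.left := by
  exact GrothLib.SymHilb26.addPoint_finLocFree f d H Z hZ H' Z' hZ' m hm

end Groth.Agent.S1173
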