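import Groth.Statements.S1178
import Groth.Agent.Lib.FlatFP.Kernel
import Groth.Agent.Lib.QCoh.Qcqs
import Mathlib.RingTheory.Finiteness.ModuleFinitePresentation
set_option backward.isDefEq.respectTransparency false

set_option autoImplicit false
open CategoryTheory CategoryTheory.Limits AlgebraicGeometry Opposite
universe u
open Desc

namespace Groth.Agent.S1178

/-- Let f : X ⟶ Y be finite and locally of finite presentation and F a quasi-coherent O_X-module. Then F
is finitely presented exactly when its pushforward f_*F is a finitely presented O_Y-module. -/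
theorem result {X Y : Scheme.{u}} (f : X ⟶ Y) [IsFinite f] [LocallyOfFinitePresentation f]
    (F : X.Modules) [F.IsQuasicoherent] :
    CohB1.IsFP F ↔ CohB1.IsFP ((Scheme.Modules.pushforward f).obj F) := by
  classical
  haveI := GrothLib.QCoh.isQuasicoherent_pushforward f F
  have setup : ∀ V : Y.affineOpens, ∀ (M : Y.Modules), M = (Scheme.Modules.pushforward f).obj F →
      (Module.FinitePresentation Γ(X, f ⁻¹ᵁ V.1) Γ(F, f ⁻¹ᵁ V.1) ↔
        Module.FinitePresentation Γ(Y, V.1) Γ((Scheme.Modules.pushforward f).obj F, V.1)) := by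
    intro V _ _
    have hU : IsAffineOpen (f ⁻¹ᵁ V.1) := V.2.preimage f
    letI : Algebra Γ(Y, V.1) Γ(X, f ⁻¹ᵁ V.1) := (f.app V.1).hom.toAlgebra
    haveI : Module.Finite Γ(Y, V.1) Γ(X, f ⁻¹ᵁ V.1) := IsFinite.finite_app f V.1 V.2
    haveI : Algebra.FinitePresentation Γ(Y, V.1) Γ(X, f ⁻¹ᵁ V.1) := by
      have h := LocallyOfFinitePresentation.finitePresentation_appLE f V.2 hU le_rfl
      rw [Scheme.Hom.appLE_eq_app] at h
      exact h
    haveI := Module.FinitePresentation.of_finite_of_finitePresentation (R := Γ(Y, V.1)) (S := Γ(X, f ⁻¹ᵁ V.1))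
    letI : Module Γ(Y, V.1) Γ(F, f ⁻¹ᵁ V.1) := Module.compHom _ (f.app V.1).hom
    haveI : IsScalarTower Γ(Y, V.1) Γ(X, f ⁻¹ᵁ V.1) Γ(F, f ⁻¹ᵁ V.1) :=
      IsScalarTower.of_algebraMap_smul fun _ _ => rfl
    let e : Γ((Scheme.Modules.pushforward f).obj F, V.1) ≃ₗ[Γ(Y, V.1)] Γ(F, f ⁻¹ᵁ V.1) :=
      { toFun := fun x => x
        invFun := fun x => x
        map_add' := fun _ _ => rfl
        map_smul' := fun r x => GrothLib.QCoh.pushforward_smul f F r x
        left_inv := fun _ => rfl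
        right_inv := fun _ => rfl }
    refine Iff.trans ⟨fun h => ?_, fun h => ?_⟩ e.finitePresentation_iff.symm
    · haveI := h
      exact Module.FinitePresentation.trans (R := Γ(Y, V.1)) Γ(F, f ⁻¹ᵁ V.1) Γ(X, f ⁻¹ᵁ V.1)
    · haveI := h
      haveI : Module.Finite Γ(X, f ⁻¹ᵁ V.1) Γ(F, f ⁻¹ᵁ V.1) :=
        Module.Finite.of_restrictScalars_finite Γ(Y, V.1) _ _
      obtain ⟨n, π, hπ⟩ := Module.Finite.exists_fin' Γ(X, f ⁻¹ᵁ V.1) Γ(F, f ⁻¹ᵁ V.1)
      refine Module.finitePresentation_of_surjective π hπ ?_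
      have hk : (LinearMap.ker (π.restrictScalars Γ(Y, V.1))).FG :=
        Module.FinitePresentation.fg_ker _ hπ
      obtain ⟨s, hs⟩ := hk
      refine ⟨s, le_antisymm (Submodule.span_le.2 fun x hx => ?_) fun x hx => ?_⟩
      · have hx' : x ∈ LinearMap.ker (π.restrictScalars Γ(Y, V.1)) := hs ▸ Submodule.subset_span hx
        exact hx'
      · have hx' : x ∈ Submodule.span Γ(Y, V.1) (s : Set (Fin n → Γ(X, f ⁻¹ᵁ V.1))) := by rw [hs]; exact hx
        exact Submodule.span_le_restrictScalars Γ(Y, V.1) Γ(X, f ⁻¹ᵁ V.1) _ hx'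
  refine ⟨fun h => GrothLib.FlatFP.isFP_of_sections _ (fun V : Y.affineOpens => V.1)
      (TopologicalSpace.IsOpenCover.mk (iSup_affineOpens_eq_top Y)) (fun V => V.2) fun V => ?_,
    fun h => GrothLib.FlatFP.isFP_of_sections _ (fun V : Y.affineOpens => f ⁻¹ᵁ V.1)
      (TopologicalSpace.IsOpenCover.mk (by rw [← f.preimage_iSup, iSup_affineOpens_eq_top, Scheme.Hom.preimage_top]))
      (fun V => V.2.preimage f) fun V => ?_⟩
  · exact (setup V _ rfl).1 (GrothLib.FlatFP.finitePresentation_sections _ h (V.2.preimage f))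
  · exact (setup V _ rfl).2 (GrothLib.FlatFP.finitePresentation_sections _ h V.2)

end Groth.Agent.S1178
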