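import Groth.Statements.S1183
import Mathlib
import Groth.Agent.Lib.LocProp.SmoothRegularLocal

set_option autoImplicit false
universe u
open Desc

namespace Groth.Agent.S1183

/-- Let A → B be a smooth ring map of Noetherian rings and k a natural number. If A satisfies (R_k) then
so does B; and if moreover A → B is faithfully flat and B satisfies (R_k), then A does. -/
theorem result (A B : Type u) [CommRing A] [CommRing B] [IsNoetherianRing A] [IsNoetherianRing B]
    [Algebra A B] [Algebra.Smooth A B] (k : ℕ) :
    (LocCoh.HasRk k A → LocCoh.HasRk k B) ∧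
    (Module.FaithfullyFlat A B → LocCoh.HasRk k B → LocCoh.HasRk k A) := by
  have key : ∀ (q : Ideal B) [q.IsPrime], IsRegularLocalRing (Localization.AtPrime q) ↔
      IsRegularLocalRing (Localization.AtPrime (q.under A)) := fun q _ => by
    haveI : Algebra.FormallySmooth B (Localization.AtPrime q) := Algebra.FormallySmooth.of_isLocalization q.primeCompl
    haveI : Algebra.IsSmoothAt A q := Algebra.FormallySmooth.comp A B (Localization.AtPrime q)
    exact GrothLib.LocProp.isRegularLocalRing_iff_of_isSmoothAt q
  refine ⟨fun h q hq hk => (key q).mpr (h _ ?_), fun hff h p hp hk => ?_⟩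
  · have := Ideal.height_eq_height_add_of_liesOver_of_hasGoingDown (q.under A) q
    exact le_trans (le_add_of_nonneg_right zero_le) (this.symm.le.trans hk)
  · obtain ⟨⟨Q, hQ⟩, hQp⟩ := PrimeSpectrum.comap_surjective_of_faithfullyFlat (A := A) (B := B) ⟨p, hp⟩
    have hQp' : Q.comap (algebraMap A B) = p := congrArg PrimeSpectrum.asIdeal hQp
    obtain ⟨q, hq, hqQ⟩ := Ideal.exists_minimalPrimes_le
      (Ideal.map_le_iff_le_comap.mpr hQp'.ge : p.map (algebraMap A B) ≤ Q)
    haveI : q.IsPrime := hq.1.1
    have hqp : q.under A = p := le_antisymm ((Ideal.comap_mono hqQ).trans hQp'.le)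
      (Ideal.map_le_iff_le_comap.mp hq.1.2)
    subst hqp
    refine (key q).mp (h q ?_)
    have hh := Ideal.height_eq_height_add_of_liesOver_of_hasGoingDown (q.under A) q
    have hmem : q.map (Ideal.Quotient.mk ((q.under A).map (algebraMap A B))) ∈
        minimalPrimes (B ⧸ (q.under A).map (algebraMap A B)) := by
      have hI : (q.under A).map (algebraMap A B) ≤ q := Ideal.map_comap_le
      have hc : (q.map (Ideal.Quotient.mk ((q.under A).map (algebraMap A B)))).comap
          (Ideal.Quotient.mk _) = q := by
        rw [Ideal.comap_map_of_surjective _ Ideal.Quotient.mk_surjective, ← RingHom.ker_eq_comap_bot,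
          Ideal.mk_ker, sup_eq_left.mpr hI]
      haveI hprime : (q.map (Ideal.Quotient.mk ((q.under A).map (algebraMap A B)))).IsPrime :=
        Ideal.map_isPrime_of_surjective Ideal.Quotient.mk_surjective (by rw [Ideal.mk_ker]; exact hI)
      refine ⟨⟨hprime, bot_le⟩, fun P hP hle => ?_⟩
      haveI := hP.1
      have h1 : q ≤ P.comap (Ideal.Quotient.mk _) := hq.2
        ⟨Ideal.comap_isPrime _ _, (Ideal.mk_ker.symm.le.trans (RingHom.ker_eq_comap_bot _).le).trans (Ideal.comap_mono bot_le)⟩
        ((Ideal.comap_mono hle).trans hc.le)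
      rw [← Ideal.map_comap_of_surjective _ Ideal.Quotient.mk_surjective P]
      exact Ideal.map_mono h1
    haveI := hmem.1.1
    rw [Ideal.height_eq_zero_iff.mpr hmem, add_zero] at hh
    exact hh.le.trans hk

end Groth.Agent.S1183
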