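import Groth.Statements.S1186
import Groth.Agent.Lib.PushoutFEt21.FiniteEtale
import Groth.Agent.Lib.FEt21.Basic
import Groth.Agent.Lib.Pushout6.Exists
set_option backward.isDefEq.respectTransparency false

set_option autoImplicit false
universe u
open Pi1

namespace Groth.Agent.S1186

open AlgebraicGeometry CategoryTheory CategoryTheory.Limits in
open AlgebraicGeometry CategoryTheory CategoryTheory.Limits in
/-- An isomorphism onto a cover from a cartesian square. -/
theorem nonempty_restrict_iso {X W : Scheme.{u}} (a : X ⟶ W) (T : FEt.Cat W) (U : FEt.Cat X)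
    {t : U.left ⟶ T.left} (h : IsPullback t U.hom T.hom a) :
    Nonempty ((FEt.restrict a).obj T ≅ U) :=
  ⟨(MorphismProperty.Over.isoMk h.isoPullback h.isoPullback_hom_snd).symm⟩

open AlgebraicGeometry CategoryTheory CategoryTheory.Limits in

/-- Let i : Z ⟶ X be a closed immersion and j : Z ⟶ Y an integral morphism such that every fibre of j
lies in the preimage under i of some affine open of X, and let a : X ⟶ W, b : Y ⟶ W exhibit W as the
pushout of i and j in the category of schemes. If U is finite étale over X and V is finite étale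
over Y with U ×_X Z ≅ V ×_Y Z over Z, then there is a finite étale cover T of W whose restrictions
to X and to Y are isomorphic to U and to V respectively. (This is the essential-surjectivity part of
an equivalence between finite étale covers of W and the 2-fibre product of the categories of finite
étale covers of X and of Y over that of Z; only the gluing of objects is asserted, and the
compatibility of the two identifications over Z is not asserted.) -/
theorem result {Z X Y W : Scheme.{u}} (i : Z ⟶ X) [IsClosedImmersion i] (j : Z ⟶ Y) [IsIntegralHom j]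
    (h3 : ∀ y : Y, ∃ U : X.Opens, IsAffineOpen U ∧ ∀ z : Z, j.base z = y → i.base z ∈ U)
    (a : X ⟶ W) (b : Y ⟶ W) (hpo : IsPushout i j a b)
    (U : FEt.Cat X) (V : FEt.Cat Y) (e : (FEt.restrict i).obj U ≅ (FEt.restrict j).obj V) :
    ∃ T : FEt.Cat W, Nonempty ((FEt.restrict a).obj T ≅ U) ∧ Nonempty ((FEt.restrict b).obj T ≅ V) := by
  have hC := GrothLib.Pushout6.covered_of_integral (i := i) (j := j) fun y => by
    obtain ⟨O, hO, h⟩ := h3 y
    exact ⟨O, hO, fun z hz => h z hz⟩
  haveI := U.prop.1
  haveI := U.prop.2
  haveI := V.prop.1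
  haveI := V.prop.2
  let ε : pullback V.hom j ≅ pullback U.hom i :=
    ((MorphismProperty.Over.forget FEt.prop ⊤ Z ⋙ Over.forget Z).mapIso e).symm
  have hε : ε.hom ≫ pullback.snd U.hom i = pullback.snd V.hom j := Over.w e.inv.hom
  have hX : IsPullback (pullback.snd V.hom j) (ε.hom ≫ pullback.fst U.hom i) i U.hom :=
    (IsPullback.of_hasPullback U.hom i).flip.of_iso ε.symm (Iso.refl _) (Iso.refl _) (Iso.refl _)
      (by simp [← hε]) (by simp) (by simp) (by simp)
  have hY : IsPullback (pullback.snd V.hom j) (pullback.fst V.hom j) j V.hom :=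
    (IsPullback.of_hasPullback V.hom j).flip
  haveI : IsClosedImmersion (ε.hom ≫ pullback.fst U.hom i) :=
    MorphismProperty.of_isPullback hX inferInstance
  have hC' := GrothLib.Pushout6.covered_preimage hX hY hC
  obtain ⟨h1, h2⟩ := GrothLib.Pushout6.finite_etale_mapObj hX hY hC hC'
  let φ := GrothLib.Pushout6.objIso hC hpo
  let T : FEt.Cat W := MorphismProperty.Over.mk ⊤ (GrothLib.Pushout6.mapObj hX hY hC hC' ≫ φ.hom)
    (GrothLib.FEt21.prop_of _)
  refine ⟨T, nonempty_restrict_iso a T U (t := GrothLib.Pushout6.inl hC') ?_,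
    nonempty_restrict_iso b T V (t := GrothLib.Pushout6.inr hC') ?_⟩
  · exact (GrothLib.Pushout6.isPullback_inl_mapObj hX hY hC hC').flip.of_iso (Iso.refl _) (Iso.refl _)
      (Iso.refl _) φ (by simp) (by simp) (by simp [T]) (by simp [φ, GrothLib.Pushout6.inl_objIso])
  · exact (GrothLib.Pushout6.isPullback_inr_mapObj hX hY hC hC').flip.of_iso (Iso.refl _) (Iso.refl _)
      (Iso.refl _) φ (by simp) (by simp) (by simp [T]) (by simp [φ, GrothLib.Pushout6.inr_objIso])

end Groth.Agent.S1186
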