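import Groth.Statements.S1188
import Groth.Agent.Lib.GalCat21.Exact

set_option autoImplicit false
universe u v w
open CategoryTheory PreGaloisCategory
open Pi1

namespace Groth.Agent.S1188

/-- Let H : C ⥤ C' be an exact functor between Galois categories and F' a fibre functor on C' such that
F' ∘ H is a fibre functor on C; write h : π_1(C', F') → π_1(C, F' ∘ H) for the induced homomorphism
of fundamental groups. Then h is injective if and only if for every connected object X' of C' there
are an object X of C, an object Y' of C', an epimorphism Y' ⟶ X' and a monomorphism Y' ⟶ H(X). -/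
theorem result {C C' : Type u} [Category.{v} C] [Category.{v} C'] [GaloisCategory C] [GaloisCategory C']
    (H : C ⥤ C') [Limits.PreservesFiniteLimits H] [Limits.PreservesFiniteColimits H]
    (F' : C' ⥤ FintypeCat.{w}) [FiberFunctor F'] [FiberFunctor (H ⋙ F')] :
    Function.Injective (Pi1X.autWhisker H F') ↔
      ∀ X' : C', IsConnected X' → ∃ (X : C) (Y' : C') (p : Y' ⟶ X') (q : Y' ⟶ H.obj X), Epi p ∧ Mono q := by
  constructor
  · intro hinj X' hX'
    haveI := hX'
    obtain ⟨a'⟩ := nonempty_fiber_of_isConnected F' X'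
    obtain ⟨X, Y', i, q, hi, -, hq⟩ := GrothLib.GalCat21.exists_dom_of_ker_le H F' X' a'
      (by rw [(MonoidHom.ker_eq_bot_iff _).2 hinj]; exact bot_le)
    exact ⟨X, Y', q, i, hq, hi⟩
  · intro h
    rw [← MonoidHom.ker_eq_bot_iff, eq_bot_iff]
    intro τ hτ
    rw [Subgroup.mem_bot]
    refine GrothLib.GalCat21.eq_one_of_forall_connected F' fun X' hX' a => ?_
    haveI := hX'
    obtain ⟨X, Y', p, q, hp, hq⟩ := h X' hX'
    obtain ⟨y, -⟩ := surjective_on_fiber_of_epi F' p a
    haveI : Nonempty (F'.obj Y') := ⟨y⟩
    exact GrothLib.GalCat21.ker_le_of_dom H F' X' a X Y' q p hτ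

end Groth.Agent.S1188
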