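import Groth.Statements.S5436
import Groth.Agent.Lib.SchDense14.Rel

set_option autoImplicit false
universe u
open CategoryTheory MonoidalCategory CartesianMonoidalCategory MonObj GrpObj AlgebraicGeometry CategoryTheory.Limits
open SGA3x

namespace Groth.Agent.S5436

/-- Let G be an S-group scheme, flat and locally of finite presentation over S, U an open subscheme of G
schematically dense in G relative to S, H an S-group scheme and f̄ : U → H an S-morphism. Let V be
an open of G ×_S G contained in (U ×_S U) ∩ m⁻¹(U) and schematically dense in G ×_S G relative to S,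
such that for every S-scheme X and all X-points a, b of U with (a, b) in V, the product ab (a point
of U) satisfies f̄(ab) = f̄(a) f̄(b). Then there is a unique homomorphism of S-groups f : G → H
whose restriction to U is f̄. (The published statement also covers certain sheaves of groups H for
the fppf topology that are not schemes; this row takes H a group scheme.) -/
theorem result (S : Scheme.{u}) (G H : Over S) [GrpObj G] [GrpObj H] [Flat G.hom] [LocallyOfFinitePresentation G.hom]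
    (U : G.left.Opens) (hU : (∀ (S' : Scheme.{u}) (g : S' ⟶ S), CInt.IsSchematicallyDense ((pullback.fst G.hom g) ⁻¹ᵁ U)))
    (jU : Over.mk (U.ι ≫ G.hom) ⟶ G) (hjU : jU.left = U.ι) (fbar : Over.mk (U.ι ≫ G.hom) ⟶ H)
    (V : (G ⊗ G).left.Opens) (hV : (∀ (S' : Scheme.{u}) (g : S' ⟶ S), CInt.IsSchematicallyDense ((pullback.fst (G ⊗ G).hom g) ⁻¹ᵁ V)))
    (hV1 : V ≤ (fst G G).left ⁻¹ᵁ U) (hV2 : V ≤ (snd G G).left ⁻¹ᵁ U) (hVm : V ≤ μ[G].left ⁻¹ᵁ U)
    (hmul : ∀ (X : Over S) (a b : X ⟶ Over.mk (U.ι ≫ G.hom)),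
      Set.range (lift (a ≫ jU) (b ≫ jU)).left.base ⊆ (V : Set ↥(G ⊗ G).left) →
      ∃ c : X ⟶ Over.mk (U.ι ≫ G.hom), c ≫ jU = (a ≫ jU) * (b ≫ jU) ∧ c ≫ fbar = (a ≫ fbar) * (b ≫ fbar)) :
    ∃! f : G ⟶ H, IsMonHom f ∧ jU ≫ f = fbar := by
  haveI hjo : IsOpenImmersion jU.left := by rw [hjU]; infer_instance
  haveI : Mono jU := (Over.forget S).mono_of_mono_map (show Mono jU.left from inferInstance)
  have hjr : Set.range jU.left = (U : Set G.left) := by rw [hjU]; exact U.range_ι
  have hsep : ∀ s : S, IsSeparated (Limits.pullback.snd H.hom (S.fromSpecResidueField s)) := fun s =>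
    GrothLib.GrpSchField.isSeparated (K := S.residueField s) (Red.bc (S.fromSpecResidueField s) H)
  obtain ⟨D, jD, hjD, hDr⟩ := GrothLib.SchDense14.exists_open_over
    ((fst G G).left ⁻¹ᵁ U ⊓ (snd G G).left ⁻¹ᵁ U)
  haveI := hjD
  haveI : Mono jD := (Over.forget S).mono_of_mono_map (show Mono jD.left from inferInstance)
  obtain ⟨a, ha⟩ := GrothLib.SchDense14.exists_lift_over jU (jD ≫ fst G G) (by
    rintro _ ⟨z, rfl⟩
    rw [hjr, Over.comp_left, Scheme.Hom.comp_apply]
    have hz : jD.left z ∈ ((fst G G).left ⁻¹ᵁ U ⊓ (snd G G).left ⁻¹ᵁ U : (G ⊗ G).left.Opens) :=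
      hDr.subset ⟨z, rfl⟩
    exact hz.1)
  obtain ⟨b, hb⟩ := GrothLib.SchDense14.exists_lift_over jU (jD ≫ snd G G) (by
    rintro _ ⟨z, rfl⟩
    rw [hjr, Over.comp_left, Scheme.Hom.comp_apply]
    have hz : jD.left z ∈ ((fst G G).left ⁻¹ᵁ U ⊓ (snd G G).left ⁻¹ᵁ U : (G ⊗ G).left.Opens) :=
      hDr.subset ⟨z, rfl⟩
    exact hz.2)
  let f₁ : D ⟶ H := (a ≫ fbar) * (b ≫ fbar)
  let mD : D ⟶ G := jD ≫ μ[G]
  haveI : Flat μ[G].left := GrothLib.GrpSchField.mul_property @Flat ‹Flat G.hom›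
  haveI : LocallyOfFinitePresentation μ[G].left :=
    GrothLib.GrpSchField.mul_property @LocallyOfFinitePresentation ‹LocallyOfFinitePresentation G.hom›
  haveI : Flat mD.left := by
    rw [Over.comp_left]
    exact MorphismProperty.comp_mem (W := @Flat) _ _ inferInstance inferInstance
  haveI : LocallyOfFinitePresentation mD.left := by
    rw [Over.comp_left]
    exact MorphismProperty.comp_mem (W := @LocallyOfFinitePresentation) _ _ inferInstance inferInstance
  haveI : Surjective mD.left := by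
    refine ⟨fun x => ?_⟩
    obtain ⟨z, hz1, hz2, hz⟩ := GrothLib.SchDense14.surjective_mul hU x
    obtain ⟨w, hw⟩ := hDr.superset ⟨hz1, hz2⟩
    exact ⟨w, by rw [Over.comp_left, Scheme.Hom.comp_apply, hw, hz]⟩
  have hfl : ∀ {A : Over S} (r : A ⟶ D), Flat r.left → LocallyOfFinitePresentation r.left →
      Flat (r ≫ jD).left ∧ LocallyOfFinitePresentation (r ≫ jD).left := by
    intro A r h1 h2
    rw [Over.comp_left]
    exact ⟨MorphismProperty.comp_mem (W := @Flat) _ _ h1 inferInstance,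
      MorphismProperty.comp_mem (W := @LocallyOfFinitePresentation) _ _ h2 inferInstance⟩
  -- on `V` the value is forced
  have forced : ∀ {W : Over S} (w : W ⟶ D), Set.range (w ≫ jD).left ⊆ (V : Set ↥(G ⊗ G).left) →
      ∃ c : W ⟶ Over.mk (U.ι ≫ G.hom), c ≫ jU = w ≫ mD ∧ w ≫ f₁ = c ≫ fbar := by
    intro W w hw
    have e1 : lift ((w ≫ a) ≫ jU) ((w ≫ b) ≫ jU) = w ≫ jD := by
      rw [Category.assoc, ha, Category.assoc, hb]; ext <;> simp
    obtain ⟨c, hc, hc'⟩ := hmul W (w ≫ a) (w ≫ b) (by rw [e1]; exact hw)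
    refine ⟨c, ?_, ?_⟩
    · rw [hc, Hom.mul_def, e1, Category.assoc]
    · rw [hc']; simp [f₁, MonObj.comp_mul]
  -- well-definedness
  obtain ⟨P, p₁, p₂, hp, hP⟩ := GrothLib.SchDense14.exists_pullback_over mD mD
  have key : p₁ ≫ f₁ = p₂ ≫ f₁ := by
    obtain ⟨_, _⟩ := hfl p₁ (MorphismProperty.of_isPullback hP.flip ‹Flat mD.left›)
      (MorphismProperty.of_isPullback hP.flip ‹LocallyOfFinitePresentation mD.left›)
    obtain ⟨_, _⟩ := hfl p₂ (MorphismProperty.of_isPullback hP ‹Flat mD.left›)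
      (MorphismProperty.of_isPullback hP ‹LocallyOfFinitePresentation mD.left›)
    obtain ⟨Wo, w, _, hwr⟩ := GrothLib.SchDense14.exists_open_over
      ((p₁ ≫ jD).left ⁻¹ᵁ V ⊓ (p₂ ≫ jD).left ⁻¹ᵁ V)
    refine GrothLib.SchDense14.eq_of_agree' w _ hwr ?_ hsep _ _ ?_
    · intro S' g
      have h1 := GrothLib.SchDense14.urel_preimage (p₁ ≫ jD) hV S' g
      have h2 := GrothLib.SchDense14.urel_preimage (p₂ ≫ jD) hV S' g
      exact GrothLib.SchDense14.urel_inf h1 h2
    have hmem : ∀ x, w.left x ∈ ((p₁ ≫ jD).left ⁻¹ᵁ V ⊓ (p₂ ≫ jD).left ⁻¹ᵁ V : P.left.Opens) :=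
      fun x => hwr.subset ⟨x, rfl⟩
    obtain ⟨c₁, hc₁, hc₁'⟩ := forced (w ≫ p₁) (by
      rintro _ ⟨x, rfl⟩
      rw [Category.assoc, Over.comp_left, Scheme.Hom.comp_apply]
      exact (hmem x).1)
    obtain ⟨c₂, hc₂, hc₂'⟩ := forced (w ≫ p₂) (by
      rintro _ ⟨x, rfl⟩
      rw [Category.assoc, Over.comp_left, Scheme.Hom.comp_apply]
      exact (hmem x).2)
    have hcc : c₁ = c₂ := by
      rw [← cancel_mono jU, hc₁, hc₂, Category.assoc, Category.assoc, hp]
    rw [← Category.assoc, hc₁', ← Category.assoc w p₂, hc₂', hcc]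
  have hdesc : ∀ {Z : Scheme.{u}} (g₁ g₂ : Z ⟶ D.left), g₁ ≫ mD.left = g₂ ≫ mD.left →
      g₁ ≫ f₁.left = g₂ ≫ f₁.left := by
    intro Z g₁ g₂ hg
    rw [← hP.lift_fst g₁ g₂ hg, Category.assoc]
    conv_rhs => rw [← hP.lift_snd g₁ g₂ hg, Category.assoc]
    rw [← Over.comp_left, ← Over.comp_left, key]
  let fl : G.left ⟶ H.left := EffectiveEpi.desc mD.left f₁.left hdesc
  have hfac : mD.left ≫ fl = f₁.left := EffectiveEpi.fac _ _ _
  let f : G ⟶ H := Over.homMk fl (by
    rw [← cancel_epi mD.left, reassoc_of% hfac, Over.w f₁, Over.w mD])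
  have hf : mD ≫ f = f₁ := Over.OverMorphism.ext hfac
  clear_value f
  -- `f` extends `fbar`
  have hext : jU ≫ f = fbar := by
    obtain ⟨E, e₁, e₂, he, hE⟩ := GrothLib.SchDense14.exists_pullback_over mD jU
    obtain ⟨_, _⟩ := hfl e₁ (MorphismProperty.of_isPullback hE.flip inferInstance)
      (MorphismProperty.of_isPullback hE.flip inferInstance)
    obtain ⟨Wo, w, _, hwr⟩ := GrothLib.SchDense14.exists_open_over ((e₁ ≫ jD).left ⁻¹ᵁ V)
    have key : e₁ ≫ f₁ = e₂ ≫ fbar := by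
      refine GrothLib.SchDense14.eq_of_agree' w _ hwr
        (GrothLib.SchDense14.urel_preimage (e₁ ≫ jD) hV) hsep _ _ ?_
      obtain ⟨c, hc, hc'⟩ := forced (w ≫ e₁) (by
        rintro _ ⟨x, rfl⟩
        rw [Category.assoc, Over.comp_left, Scheme.Hom.comp_apply]
        exact hwr.subset ⟨x, rfl⟩)
      have hcc : c = w ≫ e₂ := by
        rw [← cancel_mono jU, hc, Category.assoc, Category.assoc, he]
      rw [← Category.assoc, hc', hcc, Category.assoc]
    haveI : Surjective e₂.left := MorphismProperty.of_isPullback hE ‹Surjective mD.left›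
    haveI : Flat e₂.left := MorphismProperty.of_isPullback hE ‹Flat mD.left›
    haveI : LocallyOfFinitePresentation e₂.left :=
      MorphismProperty.of_isPullback hE ‹LocallyOfFinitePresentation mD.left›
    haveI : Epi e₂ := (Over.forget S).epi_of_epi_map (show Epi e₂.left from inferInstance)
    rw [← cancel_epi e₂, ← key, ← hf, ← Category.assoc, ← Category.assoc, he]
  -- `f` is multiplicative
  have hmulf : μ[G] ≫ f = (fst G G ≫ f) * (snd G G ≫ f) := by
    obtain ⟨Wo, w, _, hwr⟩ := GrothLib.SchDense14.exists_open_over V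
    refine GrothLib.SchDense14.eq_of_agree' w V hwr hV hsep _ _ ?_
    obtain ⟨wD, hwD⟩ := GrothLib.SchDense14.exists_lift_over jD w (by
      rw [hwr, hDr]
      exact fun z hz => ⟨hV1 hz, hV2 hz⟩)
    subst hwD
    rw [Category.assoc, Category.assoc, ← Category.assoc jD, hf]
    congr 1
    rw [MonObj.comp_mul, ← Category.assoc, ← Category.assoc, ← ha, ← hb, Category.assoc, Category.assoc, hext]
  have hmon : IsMonHom f := GrothLib.GrpSchField.isMonHom_of_mul f (by
    rw [hmulf, Hom.mul_def]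
    congr 1)
  refine ⟨f, ⟨hmon, hext⟩, fun f' ⟨_, hf'⟩ => ?_⟩
  refine GrothLib.SchDense14.eq_of_agree' jU U hjr hU hsep _ _ ?_
  rw [hf', hext]

end Groth.Agent.S5436
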