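import Groth.Statements.S17831
import Groth.Agent.Lib.DefAut26.Main
import Groth.Agent.Lib.UnramLoc9.DualPoints
import Groth.Agent.Lib.GrpSchField.Shear
import Groth.Agent.Lib.DiagGrp.TrivOver
-- import your own Groth.Agent.* helpers here

set_option autoImplicit false
set_option backward.isDefEq.respectTransparency false
universe u
open CategoryTheory MonoidalCategory CartesianMonoidalCategory MonObj GrpObj AlgebraicGeometry
open AutSch

namespace Groth.Agent.S17831

noncomputable section

variable (k : Type u) [Field k]

/-- The dual numbers as a test scheme. -/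
abbrev Tε : Over (Spec (CommRingCat.of k)) :=
  Over.mk (Spec.map (CommRingCat.ofHom (algebraMap k (DualNumber k))))

/-- Reduction modulo `ε`. -/
abbrev res : DualNumber k →+* k := (TrivSqZeroExt.fstHom k k k).toRingHom

/-- The base point of the dual numbers. -/
abbrev zε : 𝟙_ (Over (Spec (CommRingCat.of k))) ⟶ Tε k :=
  Over.homMk (Spec.map (CommRingCat.ofHom (res k))) (by
    show Spec.map _ ≫ Spec.map _ = 𝟙 _
    rw [← Spec.map_comp, ← Spec.map_id]
    congr 1)

theorem res_ker : RingHom.ker (res k) = Ideal.span {DualNumber.eps} := by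
  ext a
  rw [RingHom.mem_ker, Ideal.mem_span_singleton]
  constructor
  · intro h
    exact ⟨TrivSqZeroExt.inl (TrivSqZeroExt.snd a), TrivSqZeroExt.ext (by simpa [res] using h) (by simp)⟩
  · rintro ⟨c, rfl⟩
    simp [res]

theorem surjective_zε : Surjective (Spec.map (CommRingCat.ofHom (res k))) := by
  refine ⟨fun q => ⟨IsLocalRing.closedPoint k, PrimeSpectrum.ext ?_⟩⟩
  have hker : RingHom.ker (res k) ≤ q.asIdeal := fun a ha => by
    rw [res_ker] at ha
    obtain ⟨c, rfl⟩ := Ideal.mem_span_singleton.mp ha
    refine q.asIdeal.mul_mem_right _ (q.isPrime.mem_of_pow_mem 2 ?_)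
    rw [sq, DualNumber.eps_mul_eps]
    exact zero_mem _
  haveI : (RingHom.ker (res k)).IsMaximal :=
    RingHom.ker_isMaximal_of_surjective _ fun a => ⟨TrivSqZeroExt.inl a, rfl⟩
  refine Eq.trans ?_ (Ideal.IsMaximal.eq_of_le inferInstance q.isPrime.ne_top hker)
  show Ideal.comap (res k) (IsLocalRing.maximalIdeal k) = _
  rw [IsLocalRing.maximalIdeal_eq_bot, ← RingHom.ker_eq_comap_bot]

variable {k}

/-- No nonzero tangent vectors at the unit makes a group scheme over a field unramified. -/
theorem formallyUnramified_of_tangent (G : Over (Spec (CommRingCat.of k))) [GrpObj G]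
    [LocallyOfFiniteType G.hom] (H : ∀ g : Tε k ⟶ G, zε k ≫ g = 1 → g = 1) : FormallyUnramified G.hom := by
  suffices IsOpenImmersion η[G].left by
    have : IsOpenImmersion (Limits.pullback.diagonal G.hom) :=
      GrothLib.GrpSchField.diagonal_property (P := @IsOpenImmersion) this
    infer_instance
  obtain ⟨U, hU, hxU, -⟩ := exists_isAffineOpen_mem_and_subset
    (TopologicalSpace.Opens.mem_top (η[G].left.base (IsLocalRing.closedPoint k)))
  have htop : (⊤ : (Spec (CommRingCat.of k)).Opens) ≤ η[G].left ⁻¹ᵁ U := fun p _ => by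
    haveI : Subsingleton (Spec (CommRingCat.of k)) := inferInstanceAs (Subsingleton (PrimeSpectrum k))
    rw [Subsingleton.elim p (IsLocalRing.closedPoint k)]
    exact hxU
  let χ : Γ(G.left, U) ⟶ CommRingCat.of k :=
    η[G].left.appLE U ⊤ htop ≫ (Scheme.ΓSpecIso (CommRingCat.of k)).hom
  have hχ : Spec.map χ ≫ hU.fromSpec = η[G].left := by
    rw [Spec.map_comp, Category.assoc, IsAffineOpen.SpecMap_appLE_fromSpec _ hU (isAffineOpen_top _) htop,
      IsAffineOpen.fromSpec_top, Scheme.isoSpec_Spec_inv, ← Category.assoc, ← Spec.map_comp, Iso.inv_hom_id]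
    simp
  let φ₀ : CommRingCat.of k ⟶ Γ(G.left, U) := Spec.preimage (hU.fromSpec ≫ G.hom)
  have hφ₀ : Spec.map φ₀ = hU.fromSpec ≫ G.hom := Spec.map_preimage _
  have hsplit : φ₀ ≫ χ = 𝟙 _ := Spec.map_injective (by
    rw [Spec.map_comp, Spec.map_id, hφ₀, reassoc_of% hχ]
    exact Over.w η[G])
  letI := φ₀.hom.toAlgebra
  have hft : φ₀.hom.FiniteType := by
    rw [← HasRingHomProperty.Spec_iff (P := @LocallyOfFiniteType), hφ₀]
    infer_instance
  haveI : Algebra.FiniteType k Γ(G.left, U) := hft
  haveI : IsNoetherianRing Γ(G.left, U) := Algebra.FiniteType.isNoetherianRing k _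
  let A := Γ(G.left, U)
  let c : A →+* k := χ.hom
  have hc : ∀ r : k, c (algebraMap k A r) = r := fun r => congr($hsplit r)
  let 𝔮 : Ideal A := RingHom.ker c
  have hmem : ∀ a, a - algebraMap k A (c a) ∈ 𝔮 := fun a => by
    show c _ = 0
    rw [map_sub, hc, sub_self]
  have hsq : 𝔮 ≤ 𝔮 ^ 2 := by
    by_contra hne
    obtain ⟨a, ha, ha2⟩ := SetLike.not_le_iff_exists.mp hne
    let W := Submodule.restrictScalars k (𝔮 ^ 2 : Ideal A)
    obtain ⟨l, hl, hlW⟩ := Submodule.exists_dual_map_eq_bot_of_notMem (p := W) ha2 inferInstance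
    have hW : ∀ w ∈ 𝔮 ^ 2, l w = 0 := fun w hw => by
      have : l w ∈ Submodule.map l W := ⟨w, hw, rfl⟩
      rwa [hlW] at this
    let D : A → k := fun a => l (a - algebraMap k A (c a))
    have hadd : ∀ a b, D (a + b) = D a + D b := fun a b => by
      simp only [D, map_add, map_sub]; ring
    have hmul : ∀ a b, D (a * b) = c a * D b + c b * D a := fun a b => by
      show l _ = c a * l _ + c b * l _
      rw [← smul_eq_mul (c a) (l _), ← smul_eq_mul (c b) (l _), ← map_smul l, ← map_smul l, ← map_add,
        ← sub_eq_zero, ← map_sub]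
      refine hW _ ?_
      rw [map_mul, map_mul, Algebra.smul_def, Algebra.smul_def,
        show a * b - algebraMap k A (c a) * algebraMap k A (c b) -
          (algebraMap k A (c a) * (b - algebraMap k A (c b)) + algebraMap k A (c b) * (a - algebraMap k A (c a))) =
          (a - algebraMap k A (c a)) * (b - algebraMap k A (c b)) by ring, pow_two]
      exact Ideal.mul_mem_mul (hmem a) (hmem b)
    have hDc : ∀ r : k, D (algebraMap k A r) = 0 := fun r => by simp [D, hc]
    let φ : A →+* DualNumber k :=
      { toFun := fun a => TrivSqZeroExt.inl (c a) + TrivSqZeroExt.inr (D a)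
        map_one' := by
          rw [← map_one (algebraMap k A), hDc, hc, TrivSqZeroExt.inr_zero, add_zero, TrivSqZeroExt.inl_one]
        map_mul' := fun a b => by
          refine TrivSqZeroExt.ext ?_ ?_
          · simp
          · simp [hmul]
            ring
        map_zero' := by
          rw [← map_zero (algebraMap k A), hDc, hc, TrivSqZeroExt.inr_zero, add_zero, TrivSqZeroExt.inl_zero]
        map_add' := fun a b => by
          refine TrivSqZeroExt.ext ?_ ?_ <;> simp [hadd] }
    have hg : (Spec.map (CommRingCat.ofHom φ) ≫ hU.fromSpec) ≫ G.hom = (Tε k).hom := by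
      rw [Category.assoc, ← hφ₀, ← Spec.map_comp]
      congr 1
      ext r : 2
      refine TrivSqZeroExt.ext ?_ ?_
      · exact (TrivSqZeroExt.fst_add _ _).trans (by
        simp only [TrivSqZeroExt.fst_inl, TrivSqZeroExt.fst_inr, add_zero]
        exact hc r)
      · exact (TrivSqZeroExt.snd_add _ _).trans (by
        simp only [TrivSqZeroExt.snd_inl, TrivSqZeroExt.snd_inr, zero_add]
        exact hDc r)
    let g : Tε k ⟶ G := Over.homMk (Spec.map (CommRingCat.ofHom φ) ≫ hU.fromSpec) hg
    have h1 := congrArg (fun m => Over.Hom.left m) (H g (by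
      rw [← one_eq_one]
      ext1
      show Spec.map _ ≫ Spec.map _ ≫ hU.fromSpec = η[G].left
      rw [← Category.assoc, ← Spec.map_comp, ← hχ]
      congr 2
      ext b : 2
      show TrivSqZeroExt.fst (TrivSqZeroExt.inl (c b) + TrivSqZeroExt.inr (D b)) = c b
      simp))
    rw [Hom.one_def] at h1
    change Spec.map _ ≫ hU.fromSpec = Spec.map (CommRingCat.ofHom (algebraMap k (DualNumber k))) ≫ η[G].left at h1
    rw [← hχ, ← Spec.map_comp_assoc, cancel_mono] at h1
    have h2 := congrArg TrivSqZeroExt.snd (congr($(Spec.map_injective h1) a))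
    have h3 : D a = 0 := by
      simpa [TrivSqZeroExt.algebraMap_eq_inl, φ] using h2
    simp only [D, show c a = 0 from ha, map_zero, sub_zero] at h3
    exact hl h3
  have : IsOpenImmersion (Spec.map χ) := by
    have hsurj : Function.Surjective χ.hom := fun r => ⟨algebraMap k A r, hc r⟩
    rw [isOpenImmersion_SpecMap_iff_of_surjective _ hsurj]
    refine (Ideal.isIdempotentElem_iff_of_fg _ (IsNoetherian.noetherian _)).mp ?_
    show 𝔮 * 𝔮 = 𝔮
    exact le_antisymm Ideal.mul_le_right (by rw [← pow_two]; exact hsq)
  rw [← hχ]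
  infer_instance

variable (X : Over (Spec (CommRingCat.of k)))

/-- The closed fibre of the trivial deformation. -/
abbrev iε : X ⟶ X ⊗ Tε k := lift (𝟙 X) (toUnit X ≫ zε k)

theorem setup : GrothLib.DefAut26.Setup (DualNumber.eps : DualNumber k) (res k) X.hom (snd X (Tε k)).left
    (iε X).left := by
  have hsnd : IsPullback (fst X (Tε k)).left (snd X (Tε k)).left X.hom (Tε k).hom :=
    IsPullback.of_hasPullback X.hom (Tε k).hom
  have houter : IsPullback ((iε X).left ≫ (fst X (Tε k)).left) X.hom X.hom ((zε k).left ≫ (Tε k).hom) := by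
    rw [← Over.comp_left, lift_fst, Over.w (zε k)]
    haveI : IsIso (𝟙_ (Over (Spec (CommRingCat.of k)))).hom := inferInstanceAs (IsIso (𝟙 _))
    exact IsPullback.of_horiz_isIso ⟨by simp⟩
  have hpb : IsPullback (iε X).left X.hom (snd X (Tε k)).left (zε k).left :=
    IsPullback.of_right houter (by
      rw [← Over.comp_left, lift_snd, Over.comp_left, Over.toUnit_left]) hsnd
  refine ⟨fun a => ⟨TrivSqZeroExt.inl a, rfl⟩, by simp [res], fun a ha => ?_, fun a ha => ?_, ?_, hpb, ?_⟩
  · refine TrivSqZeroExt.ext ?_ ?_ <;> simp_all [res]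
  · have := congrArg TrivSqZeroExt.snd ha
    simpa [res] using this
  · haveI : Flat X.hom := GrothLib.DiagGrp.flat_of_field _
    exact MorphismProperty.of_isPullback (P := @Flat) hsnd inferInstance
  · haveI : Surjective (zε k).left := surjective_zε k
    exact MorphismProperty.of_isPullback (P := @Surjective) hpb.flip inferInstance

theorem triv_of_closed {e : (X ⊗ Tε k).left ⟶ (X ⊗ Tε k).left}
    (hf : e ≫ (snd X (Tε k)).left = (snd X (Tε k)).left) (hc : (iε X).left ≫ e = (iε X).left) :
    GrothLib.DefAut26.Triv (DualNumber.eps : DualNumber k) (snd X (Tε k)).left (iε X).left e := by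
  have h := setup X
  have hle := GrothLib.DefAut26.le_preimage h.isEmbedding_surjective.1 hc
  refine ⟨hf, hc, hle, fun V b => ?_⟩
  have hker : (e.appLE V.1 V.1 (hle V.1)).hom b - b ∈ RingHom.ker ((iε X).left.app V.1).hom := by
    rw [RingHom.mem_ker, map_sub, Scheme.Hom.app_eq_appLE, ← ConcreteCategory.comp_apply,
      Scheme.Hom.appLE_comp_appLE]
    simp only [hc]
    exact sub_self _
  rw [GrothLib.DefAut26.ker_app _ h.surj h.isPullback V, res_ker, Ideal.map_span, Set.image_singleton,
    Ideal.mem_span_singleton'] at hker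
  obtain ⟨d, hd⟩ := hker
  exact ⟨d, by linear_combination -hd⟩

theorem iε_famOf {G : Over (Spec (CommRingCat.of k))} [GrpObj G] (a : AlgGrp.Action G X) (g : Tε k ⟶ G)
    (hg : zε k ≫ g = 1) : iε X ≫ famOf a g = 𝟙 X := by
  rw [famOf, comp_lift_assoc, ← Category.assoc, lift_fst, lift_snd, Category.assoc, hg, ← one_eq_one]
  have : lift (toUnit X ≫ η[G]) (𝟙 X) = (λ_ X).inv ≫ (η[G] ▷ X) := by
    apply CartesianMonoidalCategory.hom_ext <;> simp
  rw [this, Category.assoc, a.one_act, Iso.inv_hom_id]

theorem famOf_one {G : Over (Spec (CommRingCat.of k))} [GrpObj G] (a : AlgGrp.Action G X)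
    (T : Over (Spec (CommRingCat.of k))) : famOf a (1 : T ⟶ G) = fst X T := by
  have : lift (snd X T ≫ (1 : T ⟶ G)) (fst X T) = fst X T ≫ (λ_ X).inv ≫ (η[G] ▷ X) := by
    rw [Hom.one_def]
    apply CartesianMonoidalCategory.hom_ext
    · simp only [lift_fst, Category.assoc, whiskerRight_fst, leftUnitor_inv_fst_assoc]
      rw [← Category.assoc, ← Category.assoc]
      congr 1
      exact Subsingleton.elim _ _
    · simp
  rw [famOf, this, Category.assoc, Category.assoc, a.one_act, Iso.inv_hom_id, Category.comp_id]

end

/-- Let k be a field and X a proper k-scheme of dimension at most 1, and let the k-group scheme G,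
locally of finite type over k, with its action a be the automorphism group scheme of X over k. Then
G → Spec k is unramified exactly when Der_k(O_X, O_X) = 0, i.e. when every k-derivation of O_X into
O_X takes the value zero on every section over every open. (Unramified is stated as formally
unramified, G being locally of finite type. The published statement also lists as equivalent that
the automorphism group scheme is geometrically reduced of dimension zero, and a condition on the
moduli stack of curves; this row states the unramified condition only.) -/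
theorem result (k : Type u) [Field k]
    (X : Over (Spec (CommRingCat.of k))) [IsProper X.hom] (hdim : topologicalKrullDim ↥X.left ≤ 1)
    (G : Over (Spec (CommRingCat.of k))) [GrpObj G] [LocallyOfFiniteType G.hom] (a : AlgGrp.Action G X)
    (hG : AutSch.Represents X G a) :
    FormallyUnramified G.hom ↔
      ∀ (D : OmegaSh.Der X.hom (Coh.structureModule X.left)) (U : X.left.Opens) (s : Γ(X.left, U)),
        D.app U s = 0 := by
  rw [represents_iff] at hG
  have h := setup X
  constructor
  · intro hur D U s
    obtain ⟨α, hα, -⟩ := Groth.Agent.S5005.result X.hom (Coh.structureModule X.left) D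
    obtain ⟨e, he, hcorr⟩ := GrothLib.DefAut26.exists_triv h α
    haveI : IsIso e := GrothLib.DefAut26.isIso_of_triv h he
    let E : X ⊗ Tε k ⟶ X ⊗ Tε k := Over.homMk e (by
      rw [← Over.w (snd X (Tε k)), ← Category.assoc, he.hom_f])
    haveI : IsIso ((Over.forget _).map E) := inferInstanceAs (IsIso e)
    haveI : IsIso E := isIso_of_reflects_iso E (Over.forget _)
    have hE : endOf (E ≫ fst X (Tε k)) = E := by
      apply CartesianMonoidalCategory.hom_ext
      · rw [endOf_fst]
      · rw [endOf_snd]
        ext1
        exact he.hom_f.symm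
    obtain ⟨g, hg, -⟩ := hG _ (E ≫ fst X (Tε k)) (by rw [IsAutFamily, hE]; infer_instance)
    have hz : zε k ≫ g = 1 := by
      obtain ⟨g₀, -, hu⟩ := hG (𝟙_ _) (fst X (𝟙_ _)) (by
        rw [IsAutFamily, endOf, lift_fst_snd]; infer_instance)
      refine (hu _ ?_).trans (hu _ (famOf_one X a _)).symm
      show famOf a (zε k ≫ g) = _
      rw [famOf_comp, hg, pullFam]
      have : (X ◁ zε k) = fst X (𝟙_ _) ≫ iε X := by
        apply CartesianMonoidalCategory.hom_ext
        · simp
        · simp only [whiskerLeft_snd, Category.assoc, lift_snd]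
          rw [← Category.assoc]
          congr 1
          exact Subsingleton.elim _ _
      rw [this, Category.assoc]
      have hc : iε X ≫ E = iε X := Over.OverMorphism.ext he.closed
      rw [reassoc_of% hc, lift_fst, Category.comp_id]
    have hg1 : g = 1 := by
      ext1
      haveI : Surjective (zε k).left := surjective_zε k
      refine GrothLib.UnramLoc9.hom_ext_of_thickening G.hom (zε k).left _ _ (by rw [Over.w, Over.w]) ?_
      rw [← Over.comp_left, ← Over.comp_left, hz, MonObj.comp_one]
    have he1 : e = 𝟙 _ := by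
      have h1 : E ≫ fst X (Tε k) = fst X (Tε k) := by rw [← hg, hg1, famOf_one]
      have h2 : E = 𝟙 _ := by rw [← hE, h1, endOf, lift_fst_snd]
      exact congrArg (fun m => Over.Hom.left m) h2
    have h0 : α = 0 := by
      obtain ⟨β, -, hβ⟩ := GrothLib.DefAut26.existsUnique_corr h (GrothLib.DefAut26.triv_id h)
      have h00 := GrothLib.DefAut26.corr_comp h he he hcorr hcorr
      have hid : GrothLib.DefAut26.Corr h (GrothLib.DefAut26.triv_id h) α := by
        subst he1; exact hcorr
      have hid2 : GrothLib.DefAut26.Corr h (GrothLib.DefAut26.triv_id h) (α + α) := by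
        subst he1; simpa [Category.id_comp] using h00
      simpa using (hβ _ hid2).trans (hβ _ hid).symm
    subst h0
    rw [← hα]
    rfl
  · intro hder
    refine formallyUnramified_of_tangent G fun g hg => ?_
    haveI : Subsingleton (Omega.sheaf X.hom ⟶ Coh.structureModule X.left) := ⟨fun α β =>
      GrothLib.PPGen.hom_ext_universal (Groth.Agent.S5005.result X.hom) α β fun U s =>
        (hder ((OmegaSh.dOmega X.hom).postcomp α.val) U s).trans
          (hder ((OmegaSh.dOmega X.hom).postcomp β.val) U s).symm⟩
    have hc : (iε X).left ≫ (endOf (famOf a g)).left = (iε X).left := by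
      rw [← Over.comp_left]
      congr 1
      apply CartesianMonoidalCategory.hom_ext
      · rw [Category.assoc, endOf_fst, iε_famOf X a g hg, lift_fst]
      · rw [Category.assoc, endOf_snd]
    have he := triv_of_closed X (e := (endOf (famOf a g)).left) (by rw [← Over.comp_left, endOf_snd]) hc
    have he1 : endOf (famOf a g) = 𝟙 _ :=
      Over.OverMorphism.ext (GrothLib.DefAut26.eq_id_of_subsingleton h he)
    have hfam : famOf a g = fst X (Tε k) := by rw [← endOf_fst (famOf a g), he1, Category.id_comp]
    obtain ⟨g₀, -, hu⟩ := hG (Tε k) (fst X (Tε k)) (by rw [IsAutFamily, endOf, lift_fst_snd]; infer_instance)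
    exact (hu g hfam).trans (hu 1 (famOf_one X a _)).symm

end Groth.Agent.S17831
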