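import Groth.Statements.S1190
import Groth.Agent.Lib.GalCat21.Exact

set_option autoImplicit false
universe u v w
open CategoryTheory PreGaloisCategory
open Pi1

namespace Groth.Agent.S1190

/-- Let H : C ⥤ C' and H' : C' ⥤ C'' be exact functors between Galois categories, F'' a fibre functor on
C'' with F'' ∘ H' and F'' ∘ H' ∘ H fibre functors, and h', h the induced homomorphisms of
fundamental groups. Then: h is surjective, h ∘ h' is trivial and the kernel of h is the closed
normal subgroup generated by the image of h', if and only if H is fully faithful and its essential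
image consists exactly of those X' in C' for which H'(X') is a finite coproduct of copies of the
final object. -/
theorem result {C C' C'' : Type u} [Category.{v} C] [Category.{v} C'] [Category.{v} C'']
    [GaloisCategory C] [GaloisCategory C'] [GaloisCategory C'']
    (H : C ⥤ C') [Limits.PreservesFiniteLimits H] [Limits.PreservesFiniteColimits H]
    (H' : C' ⥤ C'') [Limits.PreservesFiniteLimits H'] [Limits.PreservesFiniteColimits H']
    (F'' : C'' ⥤ FintypeCat.{w}) [FiberFunctor F''] [FiberFunctor (H' ⋙ F'')] [FiberFunctor (H ⋙ (H' ⋙ F''))] :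
    (Function.Surjective (Pi1X.autWhisker H (H' ⋙ F'')) ∧
      (∀ σ : Aut F'', Pi1X.autWhisker H (H' ⋙ F'') (Pi1X.autWhisker H' F'' σ) = 1) ∧
      (Pi1X.autWhisker H (H' ⋙ F'')).ker = (Subgroup.normalClosure (Set.range (Pi1X.autWhisker H' F''))).topologicalClosure) ↔
    ((H.Full ∧ H.Faithful) ∧
      ∀ X' : C', (∃ X : C, Nonempty (H.obj X ≅ X')) ↔ ∃ n : ℕ, Nonempty (H'.obj X' ≅ ∐ fun _ : Fin n => ⊤_ C'')) := by
  have htriv : ∀ X' : C', (∃ n : ℕ, Nonempty (H'.obj X' ≅ ∐ fun _ : Fin n => ⊤_ C'')) ↔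
      ∀ (σ : Aut F'') (a : (H' ⋙ F'').obj X'), Pi1X.autWhisker H' F'' σ • a = a := fun X' =>
    (GrothLib.GalCat21.trivial_iff_coprod F'' (H'.obj X')).symm
  constructor
  · rintro ⟨hs, hcomp, hker⟩
    refine ⟨(GrothLib.GalCat21.surjective_iff H (H' ⋙ F'')).1 hs, fun X' => ⟨?_, fun hX' => ?_⟩⟩
    · rintro ⟨X, ⟨e⟩⟩
      rw [htriv]
      intro σ a
      obtain ⟨b, rfl⟩ : ∃ b, (H' ⋙ F'').map e.hom b = a :=
        ⟨(H' ⋙ F'').map e.inv a, by rw [← GrothLib.GalCat21.map_comp', e.inv_hom_id, CategoryTheory.Functor.map_id]; rfl⟩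
      rw [← GrothLib.GalCat21.map_smul]
      refine congrArg _ ?_
      show Pi1X.autWhisker H (H' ⋙ F'') (Pi1X.autWhisker H' F'' σ) • (show (H ⋙ (H' ⋙ F'')).obj X from b) = b
      rw [hcomp σ, one_smul]
    · refine GrothLib.GalCat21.exists_preimage H (H' ⋙ F'') hs X' fun τ hτ z => ?_
      rw [htriv] at hX'
      let K : Subgroup (Aut (H' ⋙ F'')) := ⨅ a : (H' ⋙ F'').obj X', MulAction.stabilizer (Aut (H' ⋙ F'')) a
      have hKc : IsClosed (K : Set (Aut (H' ⋙ F''))) := by
        rw [Subgroup.coe_iInf]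
        exact isClosed_iInter fun a => (⟨_, stabilizer_isOpen (Aut (H' ⋙ F'')) a⟩ : OpenSubgroup _).isClosed
      haveI : K.Normal := ⟨fun n hn g => by
        simp only [K, Subgroup.mem_iInf, MulAction.mem_stabilizer_iff] at hn ⊢
        intro a
        rw [mul_smul, mul_smul, hn, smul_inv_smul]⟩
      have hle : (Subgroup.normalClosure (Set.range (Pi1X.autWhisker H' F''))).topologicalClosure ≤ K := by
        refine Subgroup.topologicalClosure_minimal _ (Subgroup.normalClosure_le_normal ?_) hKc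
        rintro _ ⟨σ, rfl⟩
        simp only [K, SetLike.mem_coe, Subgroup.mem_iInf, MulAction.mem_stabilizer_iff]
        exact hX' σ
      rw [hker] at hτ
      exact (Subgroup.mem_iInf.1 (hle hτ) z)
  · rintro ⟨hff, hiff⟩
    have hs := (GrothLib.GalCat21.surjective_iff H (H' ⋙ F'')).2 hff
    have hcomp : ∀ σ : Aut F'', Pi1X.autWhisker H (H' ⋙ F'') (Pi1X.autWhisker H' F'' σ) = 1 := fun σ => by
      refine GrothLib.GalCat21.eq_one_of_forall_connected (H ⋙ (H' ⋙ F'')) fun X _ a => ?_
      exact (htriv (H.obj X)).1 ((hiff (H.obj X)).1 ⟨X, ⟨Iso.refl _⟩⟩) σ a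
    refine ⟨hs, hcomp, le_antisymm ?_ ?_⟩
    · intro σ hσ
      by_contra hσN
      set N := (Subgroup.normalClosure (Set.range (Pi1X.autWhisker H' F''))).topologicalClosure
      haveI : N.Normal := Subgroup.is_normal_topologicalClosure _
      obtain ⟨X, hX⟩ : ∃ X : PointedGaloisObject (H' ⋙ F''), ∀ τ ∈ N, τ • X.pt ≠ σ • X.pt := by
        by_contra hne
        push Not at hne
        exact hσN (GrothLib.GalCat21.mem_of_forall_exists _ (Subgroup.isClosed_topologicalClosure _) hne)
      let U := N ⊔ MulAction.stabilizer (Aut (H' ⋙ F'')) X.pt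
      have hU : IsOpen (U : Set (Aut (H' ⋙ F''))) :=
        Subgroup.isOpen_mono le_sup_right (stabilizer_isOpen (Aut (H' ⋙ F'')) X.pt)
      obtain ⟨Q, q, hQ, hstab⟩ := GrothLib.GalCat21.exists_stabilizer_eq (H' ⋙ F'') U hU
      haveI := hQ
      have hall : ∀ τ ∈ N, ∀ x : (H' ⋙ F'').obj Q, τ • x = x := fun τ hτ x =>
        GrothLib.GalCat21.smul_eq_of_normal (N := N) (a := q) (by rw [hstab]; exact le_sup_left) hτ x
      obtain ⟨Q₀, ⟨e⟩⟩ := (hiff Q).2 ((htriv Q).2 fun s x =>
        hall _ (Subgroup.le_topologicalClosure _ (Subgroup.subset_normalClosure ⟨s, rfl⟩)) x)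
      have hσq : σ • q = q := by
        obtain ⟨b, hb⟩ : ∃ b, (H' ⋙ F'').map e.hom b = q :=
          ⟨(H' ⋙ F'').map e.inv q, by rw [← GrothLib.GalCat21.map_comp', e.inv_hom_id, CategoryTheory.Functor.map_id]; rfl⟩
        rw [← hb, ← GrothLib.GalCat21.map_smul]
        refine congrArg _ ?_
        show Pi1X.autWhisker H (H' ⋙ F'') σ • (show (H ⋙ (H' ⋙ F'')).obj Q₀ from b) = b
        rw [MonoidHom.mem_ker.1 hσ, one_smul]
      have hσU : σ ∈ U := by rw [← hstab]; exact hσq
      obtain ⟨τ, hτ, s, hsS, rfl⟩ := Subgroup.mem_sup_of_normal_left.1 hσU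
      exact hX τ hτ (by rw [mul_smul, show s • X.pt = X.pt from hsS])
    · refine Subgroup.topologicalClosure_minimal _ (Subgroup.normalClosure_le_normal ?_) ?_
      · rintro _ ⟨σ, rfl⟩
        exact hcomp σ
      · exact isClosed_singleton.preimage (GrothLib.GalCat21.continuous_autWhisker H (H' ⋙ F''))

end Groth.Agent.S1190
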