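import Groth.Statements.S1191
import Mathlib

set_option autoImplicit false
universe u
open FlatMor

namespace Groth.Agent.S1191

set_option linter.style.haveILetI false
attribute [local instance] Algebra.TensorProduct.rightAlgebra

open TensorProduct in
/-- Elements of a fibre ring are unit multiples of elements of the ring. -/
theorem exists_unit_mul {R S : Type u} [CommRing R] [CommRing S] [Algebra R S] (p : Ideal R) [p.IsPrime] (z : p.Fiber S) :
    ∃ (c : p.Fiber S) (s : S), IsUnit c ∧ c * z = (1 : p.ResidueField) ⊗ₜ[R] s := by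
  have hfrac : ∀ c : p.ResidueField, ∃ a b : R, algebraMap R p.ResidueField b ≠ 0 ∧
      algebraMap R p.ResidueField b * c = algebraMap R p.ResidueField a := fun c => by
    obtain ⟨⟨a, b⟩, hx⟩ := IsLocalization.surj (nonZeroDivisors (R ⧸ p)) c
    obtain ⟨a', rfl⟩ := Ideal.Quotient.mk_surjective a
    obtain ⟨b', hb'⟩ := Ideal.Quotient.mk_surjective (b : R ⧸ p)
    refine ⟨a', b', ?_, ?_⟩
    · rw [IsScalarTower.algebraMap_apply R (R ⧸ p) p.ResidueField, Ideal.Quotient.algebraMap_eq, hb']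
      exact (IsLocalization.map_units p.ResidueField b).ne_zero
    · rw [IsScalarTower.algebraMap_apply R (R ⧸ p) p.ResidueField, Ideal.Quotient.algebraMap_eq, hb', mul_comm, hx,
        IsScalarTower.algebraMap_apply R (R ⧸ p) p.ResidueField a', Ideal.Quotient.algebraMap_eq]
  have hu : ∀ b : R, algebraMap R p.ResidueField b ≠ 0 → IsUnit ((algebraMap R p.ResidueField b) ⊗ₜ[R] (1 : S) : p.Fiber S) :=
    fun b hb => (Ne.isUnit hb).map (Algebra.TensorProduct.includeLeftRingHom : p.ResidueField →+* p.Fiber S)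
  suffices ∃ (b : R) (s : S), algebraMap R p.ResidueField b ≠ 0 ∧
      ((algebraMap R p.ResidueField b) ⊗ₜ[R] (1 : S) : p.Fiber S) * z = (1 : p.ResidueField) ⊗ₜ[R] s by
    obtain ⟨b, s, hb, h⟩ := this
    exact ⟨_, s, hu b hb, h⟩
  induction z using TensorProduct.induction_on with
  | zero => exact ⟨1, 0, by rw [map_one]; exact one_ne_zero, by rw [mul_zero, tmul_zero]⟩
  | tmul c s =>
    obtain ⟨a, b, hb, hab⟩ := hfrac c
    refine ⟨b, a • s, hb, ?_⟩
    rw [Algebra.TensorProduct.tmul_mul_tmul, one_mul, hab, Algebra.algebraMap_eq_smul_one, TensorProduct.smul_tmul]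
  | add v w hv hw =>
    obtain ⟨b, s, hb, hs⟩ := hv
    obtain ⟨d, t, hd, ht⟩ := hw
    refine ⟨b * d, d • s + b • t, by rw [map_mul]; exact mul_ne_zero hb hd, ?_⟩
    have e : ((algebraMap R p.ResidueField (b * d)) ⊗ₜ[R] (1 : S) : p.Fiber S) =
        ((algebraMap R p.ResidueField b) ⊗ₜ[R] (1 : S)) * ((algebraMap R p.ResidueField d) ⊗ₜ[R] (1 : S)) := by
      rw [Algebra.TensorProduct.tmul_mul_tmul, one_mul, map_mul]
    have e2 : ∀ (d : R) (s : S), ((algebraMap R p.ResidueField d) ⊗ₜ[R] (1 : S) : p.Fiber S) *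
        ((1 : p.ResidueField) ⊗ₜ[R] s) = (1 : p.ResidueField) ⊗ₜ[R] (d • s) := fun d s => by
      rw [Algebra.TensorProduct.tmul_mul_tmul, mul_one, one_mul, Algebra.algebraMap_eq_smul_one, TensorProduct.smul_tmul]
    rw [e, mul_add, tmul_add, ← e2 d s, ← e2 b t, ← hs, ← ht]
    ring


open TensorProduct in
/-- For a finitely presented algebra S over R, a finitely presented S-module N and a prime q of S over
p, some element of S outside q maps into every associated prime of the fibre module of N over p that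
is not contained in the extension of q to the fibre ring. -/
theorem result {R S : Type u} [CommRing R] [CommRing S] [Algebra R S] [Algebra.FinitePresentation R S]
    (N : Type u) [AddCommGroup N] [Module S N] [Module R N] [IsScalarTower R S N] [Module.FinitePresentation S N]
    (p : Ideal R) [p.IsPrime] (q : Ideal S) [q.IsPrime] [q.LiesOver p] :
    ∃ g : S, g ∉ q ∧ ∀ r ∈ associatedPrimes (p.Fiber S) (FlatCA.fiberMod p S N),
      ¬ r ≤ FlatCA.fiberIdeal p q → (1 : p.ResidueField) ⊗ₜ[R] g ∈ r := by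
  classical
  haveI : IsNoetherianRing (p.Fiber S) := Algebra.FiniteType.isNoetherianRing p.ResidueField (p.Fiber S)
  haveI : Module.Finite (p.Fiber S) (FlatCA.fiberMod p S N) := Module.Finite.base_change S (p.Fiber S) N
  have hfin : (associatedPrimes (p.Fiber S) (FlatCA.fiberMod p S N)).Finite := associatedPrimes.finite _ _
  let F := hfin.toFinset.filter fun r => ¬ r ≤ FlatCA.fiberIdeal p q
  have hex : ∀ r ∈ F, ∃ s : S, s ∉ q ∧ (1 : p.ResidueField) ⊗ₜ[R] s ∈ r := fun r hr => by
    obtain ⟨z, hzr, hzq⟩ := SetLike.not_le_iff_exists.1 (Finset.mem_filter.1 hr).2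
    obtain ⟨c, s, hc, hcz⟩ := exists_unit_mul p z
    refine ⟨s, fun hs => hzq ?_, hcz ▸ Ideal.mul_mem_left _ _ hzr⟩
    have h1 : c * z ∈ FlatCA.fiberIdeal p q := hcz ▸ Ideal.mem_map_of_mem _ hs
    rwa [Ideal.unit_mul_mem_iff_mem _ hc] at h1
  choose s hs hsr using hex
  refine ⟨∏ r : F, s r.1 r.2, ?_, fun r hr hrq => ?_⟩
  · rw [Ideal.IsPrime.prod_mem_iff]
    rintro ⟨r, -, hr⟩
    exact hs r.1 r.2 hr
  · have hmem : r ∈ F := Finset.mem_filter.2 ⟨hfin.mem_toFinset.2 hr, hrq⟩
    change (Algebra.TensorProduct.includeRight : S →ₐ[R] p.Fiber S) (∏ r : F, s r.1 r.2) ∈ r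
    rw [map_prod, ← Finset.mul_prod_erase _ _ (Finset.mem_univ (⟨r, hmem⟩ : F))]
    exact Ideal.mul_mem_right _ _ (hsr r hmem)


end Groth.Agent.S1191
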