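import Groth.Statements.S1193
import Mathlib

set_option autoImplicit false
universe u
open FlatMor

namespace Groth.Agent.S1193

set_option linter.style.haveILetI false
attribute [local instance] Algebra.TensorProduct.rightAlgebra

/-- Semilocalization at the regular elements of a module over a Noetherian quotient. -/
theorem main {S F M : Type u} [CommRing S] [CommRing F] [Algebra S F] [IsNoetherianRing F]
    (hf : Function.Surjective (algebraMap S F)) [AddCommGroup M] [Module F M] [Module S M] [IsScalarTower S F M]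
    [Module.Finite F M] :
    (∀ (q : Ideal S) [q.IsPrime], Disjoint (q : Set S) (nonZeroSMulDivisors S M) ↔
        ∃ q' ∈ associatedPrimes S M, q ≤ q') ∧
    {Q : Ideal (Localization (nonZeroSMulDivisors S M)) | Q.IsMaximal}.Finite ∧
    (∀ Q : Ideal (Localization (nonZeroSMulDivisors S M)), Q.IsMaximal ↔ (Q.IsPrime ∧
        Maximal (fun r => r ∈ associatedPrimes S M)
          (Q.comap (algebraMap S (Localization (nonZeroSMulDivisors S M)))))) := by
  classical
  have hcolon : ∀ x : M, (⊥ : Submodule S M).colon {x} = ((⊥ : Submodule F M).colon {x}).comap (algebraMap S F) := fun x => by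
    ext s
    rw [Ideal.mem_comap, Submodule.mem_colon_singleton, Submodule.mem_colon_singleton, Submodule.mem_bot, Submodule.mem_bot,
      algebraMap_smul]
  have hAss : associatedPrimes S M = Ideal.comap (algebraMap S F) '' associatedPrimes F M := by
    ext r
    constructor
    · rintro ⟨hr, x, hx⟩
      rw [hcolon, ← Ideal.comap_radical] at hx
      refine ⟨((⊥ : Submodule F M).colon {x}).radical, ⟨⟨?_, x, rfl⟩, hx.symm⟩⟩
      refine ⟨fun h => hr.ne_top (by rw [hx, h, Ideal.comap_top]), fun {a b} hab => ?_⟩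
      obtain ⟨a, rfl⟩ := hf a
      obtain ⟨b, rfl⟩ := hf b
      rw [← map_mul, ← Ideal.mem_comap, ← hx] at hab
      rw [← Ideal.mem_comap, ← Ideal.mem_comap, ← hx]
      exact hr.mem_or_mem hab
    · rintro ⟨P, ⟨hP, x, hx⟩, rfl⟩
      exact ⟨Ideal.IsPrime.comap _, x, by rw [hcolon, ← Ideal.comap_radical, ← hx]⟩
  have hfin : (associatedPrimes S M).Finite := hAss ▸ (associatedPrimes.finite F M).image _
  have hmem : ∀ s : S, s ∉ nonZeroSMulDivisors S M ↔ ∃ r ∈ associatedPrimes S M, s ∈ r := fun s => by
    have h1 : algebraMap S F s ∈ ⋃ p ∈ associatedPrimes F M, (p : Set F) ↔ ∃ x : M, x ≠ 0 ∧ algebraMap S F s • x = 0 := by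
      rw [biUnion_associatedPrimes_eq_zero_divisors]
      exact Iff.rfl
    simp only [algebraMap_smul] at h1
    constructor
    · intro hs
      obtain ⟨P, hP, hsP⟩ := Set.mem_iUnion₂.1 (h1.2 (by
        by_contra hne
        push Not at hne
        exact hs fun x hx => by_contra fun hx0 => hne x hx0 hx))
      exact ⟨P.comap (algebraMap S F), by rw [hAss]; exact ⟨P, hP, rfl⟩, hsP⟩
    · rintro ⟨r, hr, hsr⟩ hs
      rw [hAss] at hr
      obtain ⟨P, hP, rfl⟩ := hr
      obtain ⟨x, hx, hsx⟩ := h1.1 (Set.mem_iUnion₂.2 ⟨P, hP, hsr⟩)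
      exact hx (hs x hsx)
  have hA : ∀ (q : Ideal S) [q.IsPrime], Disjoint (q : Set S) (nonZeroSMulDivisors S M) ↔
      ∃ q' ∈ associatedPrimes S M, q ≤ q' := fun q _ => by
    constructor
    · intro hq
      have hsub : (q : Set S) ⊆ ⋃ i ∈ (hfin.toFinset : Set (Ideal S)), (i : Set S) := fun s hs => by
        obtain ⟨r, hr, hsr⟩ := (hmem s).1 fun h => Set.disjoint_left.1 hq hs h
        exact Set.mem_iUnion₂.2 ⟨r, hfin.mem_toFinset.2 hr, hsr⟩
      obtain ⟨r, hr, hqr⟩ := (Ideal.subset_union_prime (⊤ : Ideal S) ⊤ (f := fun r : Ideal S => r)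
        fun r hr _ _ => (hfin.mem_toFinset.1 hr).1).1 hsub
      exact ⟨r, hfin.mem_toFinset.1 hr, hqr⟩
    · rintro ⟨r, hr, hqr⟩
      exact Set.disjoint_left.2 fun s hs h => (hmem s).2 ⟨r, hr, hqr hs⟩ h
  let L := Localization (nonZeroSMulDivisors S M)
  have hlift : ∀ (Q : Ideal L) [Q.IsMaximal], Maximal (fun r => r ∈ associatedPrimes S M) (Q.comap (algebraMap S L)) := by
    intro Q hQ
    have hd := (IsLocalization.isPrime_iff_isPrime_disjoint (nonZeroSMulDivisors S M) L Q).1 hQ.isPrime
    haveI := hd.1
    obtain ⟨r, hr, hle⟩ := (hA (Q.comap (algebraMap S L))).1 hd.2.symm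
    obtain ⟨r', hrr', hr'⟩ := hfin.exists_le_maximal hr
    haveI : r'.IsPrime := hr'.1.1
    have hd' : Disjoint (r' : Set S) (nonZeroSMulDivisors S M) := (hA r').2 ⟨r', hr'.1, le_rfl⟩
    have hp := IsLocalization.isPrime_of_isPrime_disjoint (nonZeroSMulDivisors S M) L r' inferInstance hd'.symm
    have hc := IsLocalization.comap_map_of_isPrime_disjoint (nonZeroSMulDivisors S M) L (I := r') inferInstance hd'.symm
    have hQle : Q ≤ r'.map (algebraMap S L) := by
      rw [← IsLocalization.map_comap (nonZeroSMulDivisors S M) L Q]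
      exact Ideal.map_mono (hle.trans hrr')
    rw [hQ.eq_of_le hp.ne_top hQle]
    show Maximal _ (Ideal.under S _)
    rw [hc]
    exact hr'
  refine ⟨hA, ?_, fun Q => ⟨fun hQ => ⟨hQ.isPrime, @hlift Q hQ⟩, fun ⟨hQ, hm⟩ => ?_⟩⟩
  · refine Set.Finite.of_finite_image (f := Ideal.comap (algebraMap S L)) (hfin.subset ?_) ?_
    · rintro _ ⟨Q, hQ, rfl⟩
      exact (@hlift Q hQ).1
    · intro a _ b _ hab
      exact (IsLocalization.map_under (nonZeroSMulDivisors S M) L a).symm.trans
        ((congrArg (Ideal.map (algebraMap S L)) hab).trans (IsLocalization.map_under (nonZeroSMulDivisors S M) L b))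
  · obtain ⟨Q', hQ', hle⟩ := Ideal.exists_le_maximal Q hQ.ne_top
    have h1 : Q'.comap (algebraMap S L) = Q.comap (algebraMap S L) :=
      le_antisymm (hm.2 (@hlift Q' hQ').1 (Ideal.comap_mono hle)) (Ideal.comap_mono hle)
    have h2 : Q = Q' := (IsLocalization.map_under (nonZeroSMulDivisors S M) L Q).symm.trans
      ((congrArg (Ideal.map (algebraMap S L)) h1.symm).trans (IsLocalization.map_under (nonZeroSMulDivisors S M) L Q'))
    exact h2.symm ▸ hQ'


open IsLocalRing in
/-- Let R be a local ring, S an R-algebra whose closed fibre ring is Noetherian and N an S-module whose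
closed fibre module N/𝔪N is finite. Let Σ be the set of elements of S acting injectively on N/𝔪N.
Then a prime of S is disjoint from Σ exactly when it lies inside an associated prime of N/𝔪N (the
primes of the localization at Σ), the localization of S at Σ has finitely many maximal ideals, and
an ideal of that localization is maximal exactly when it is prime and contracts to a maximal member
of the set of associated primes of N/𝔪N. -/
theorem result {R S : Type u} [CommRing R] [IsLocalRing R] [CommRing S] [Algebra R S]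
    (N : Type u) [AddCommGroup N] [Module S N] [Module R N] [IsScalarTower R S N]
    [IsNoetherianRing ((maximalIdeal R).Fiber S)]
    [Module.Finite ((maximalIdeal R).Fiber S) (FlatCA.fiberMod (maximalIdeal R) S N)] :
    (∀ (q : Ideal S) [q.IsPrime], Disjoint (q : Set S) (FlatCA.nzdFiber R S N) ↔
        ∃ q' ∈ associatedPrimes S (FlatCA.fiberMod (maximalIdeal R) S N), q ≤ q') ∧
    {Q : Ideal (Localization (FlatCA.nzdFiber R S N)) | Q.IsMaximal}.Finite ∧
    (∀ Q : Ideal (Localization (FlatCA.nzdFiber R S N)), Q.IsMaximal ↔ (Q.IsPrime ∧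
        Maximal (fun r => r ∈ associatedPrimes S (FlatCA.fiberMod (maximalIdeal R) S N))
          (Q.comap (algebraMap S (Localization (FlatCA.nzdFiber R S N)))))) := by
  have hk : Function.Surjective (algebraMap R (IsLocalRing.maximalIdeal R).ResidueField) :=
    Ideal.algebraMap_residueField_surjective _
  haveI : IsScalarTower S ((IsLocalRing.maximalIdeal R).Fiber S) (FlatCA.fiberMod (IsLocalRing.maximalIdeal R) S N) :=
    inferInstanceAs (IsScalarTower S ((IsLocalRing.maximalIdeal R).Fiber S) (TensorProduct S ((IsLocalRing.maximalIdeal R).Fiber S) N))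
  exact main (Algebra.TensorProduct.includeRight_surjective S hk)


end Groth.Agent.S1193
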