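import Groth.Statements.S1194
import Groth.Agent.Lib.FibreFlat.InjLocal

set_option autoImplicit false
universe u
open FlatMor
open TensorProduct

namespace Groth.Agent.S1194

open IsLocalRing in
/-- Let R → S be a local homomorphism of local rings which is essentially of finite presentation, and N
a finitely presented S-module flat over R. Then multiplication by any element of S acting
injectively on N/𝔪_R N is a universally injective map of R-modules on N, and the localization map
from N to its localization at all such elements is universally injective over R. -/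
theorem result {R S : Type u} [CommRing R] [IsLocalRing R] [CommRing S] [IsLocalRing S] [Algebra R S]
    [IsLocalHom (algebraMap R S)] (hS : FlatCA.EssFinitePresentation R S)
    (N : Type u) [AddCommGroup N] [Module S N] [Module R N] [IsScalarTower R S N] [Module.FinitePresentation S N] [Module.Flat R N] :
    (∀ s ∈ FlatCA.nzdFiber R S N, FlatCA.UnivInj R ((LinearMap.lsmul S N s).restrictScalars R)) ∧
    FlatCA.UnivInj R ((LocalizedModule.mkLinearMap (FlatCA.nzdFiber R S N) N).restrictScalars R) := by
  classical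
  let 𝔪 := IsLocalRing.maximalIdeal R
  letI : Algebra S (𝔪.Fiber S) := Algebra.TensorProduct.rightAlgebra
  have hJ : ∀ a : S, a ∈ 𝔪.map (algebraMap R S) →
      (1 : 𝔪.ResidueField) ⊗ₜ[R] a = 0 := by
    intro a ha
    induction ha using Submodule.span_induction with
    | mem x hx =>
      obtain ⟨r, hr, rfl⟩ := hx
      rw [Algebra.algebraMap_eq_smul_one, ← TensorProduct.smul_tmul,
        Algebra.smul_def, Ideal.algebraMap_residueField_eq_zero.mpr hr, zero_mul,
        TensorProduct.zero_tmul]
    | zero => exact TensorProduct.tmul_zero _ _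
    | add p q _ _ hp hq => rw [TensorProduct.tmul_add, hp, hq, add_zero]
    | smul c p _ hp =>
      have : (1 : 𝔪.ResidueField) ⊗ₜ[R] (c • p) =
          ((1 : 𝔪.ResidueField) ⊗ₜ[R] c) * ((1 : 𝔪.ResidueField) ⊗ₜ[R] p) := by
        rw [Algebra.TensorProduct.tmul_mul_tmul, one_mul, smul_eq_mul]
      rw [this, hp, mul_zero]
  let J := 𝔪.map (algebraMap R S)
  have hsurj : Function.Surjective (algebraMap S (𝔪.Fiber S)) := by
    intro z
    induction z using TensorProduct.induction_on with
    | zero => exact ⟨0, map_zero _⟩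
    | add p q hp hq =>
      obtain ⟨a, rfl⟩ := hp
      obtain ⟨b, rfl⟩ := hq
      exact ⟨a + b, map_add _ _ _⟩
    | tmul k s =>
      obtain ⟨r, rfl⟩ := Ideal.algebraMap_residueField_surjective 𝔪 k
      refine ⟨r • s, ?_⟩
      show (1 : 𝔪.ResidueField) ⊗ₜ[R] (r • s) = algebraMap R 𝔪.ResidueField r ⊗ₜ[R] s
      rw [← TensorProduct.smul_tmul, Algebra.smul_def, mul_one]
  have hker : RingHom.ker (algebraMap S (𝔪.Fiber S)) = J := by
    refine le_antisymm (fun a ha => ?_) (fun a ha => hJ a ha)
    rw [RingHom.mem_ker] at ha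
    let g : 𝔪.ResidueField ⊗[R] S →ₐ[R] (S ⧸ J) := Algebra.TensorProduct.lift
      (Ideal.ResidueField.liftₐ 𝔪 (Algebra.ofId R (S ⧸ J))
        (fun r hr => by
          show algebraMap R (S ⧸ J) r = 0
          rw [IsScalarTower.algebraMap_apply R S (S ⧸ J)]
          exact Ideal.Quotient.eq_zero_iff_mem.mpr (Ideal.mem_map_of_mem _ hr))
        (fun r hr => ((IsLocalRing.notMem_maximalIdeal.mp hr).map _)))
      (Ideal.Quotient.mkₐ R J) (fun _ _ => Commute.all _ _)
    have h1 : g ((1 : 𝔪.ResidueField) ⊗ₜ[R] a) = Ideal.Quotient.mk J a := by simp [g]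
    rw [show (1 : 𝔪.ResidueField) ⊗ₜ[R] a = algebraMap S (𝔪.Fiber S) a from rfl, ha, map_zero] at h1
    exact Ideal.Quotient.eq_zero_iff_mem.mp h1.symm
  have hmem : ∀ x : N, x ∈ J • (⊤ : Submodule S N) ↔
      (1 : 𝔪.Fiber S) ⊗ₜ[S] x = (0 : FlatCA.fiberMod 𝔪 S N) := by
    intro x
    rw [← GrothLib.Flatness.one_tmul_eq_zero_iff J x]
    let e : (S ⧸ J) ≃ₗ[S] 𝔪.Fiber S := ((Ideal.quotientEquivAlgOfEq S hker.symm).trans
      (Ideal.quotientKerAlgEquivOfSurjective (f := Algebra.ofId S (𝔪.Fiber S)) hsurj)).toLinearEquiv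
    have h1 : TensorProduct.congr e (LinearEquiv.refl S N) ((1 : S ⧸ J) ⊗ₜ[S] x) =
        (1 : 𝔪.Fiber S) ⊗ₜ[S] x := by
      rw [TensorProduct.congr_tmul]
      congr 1
    constructor
    · intro h
      rw [← h1, h, map_zero]
      rfl
    · intro h
      exact (TensorProduct.congr e (LinearEquiv.refl S N)).injective
        ((h1.trans h).trans (map_zero _).symm)
  have hcore : ∀ s ∈ FlatCA.nzdFiber R S N,
      FlatCA.UnivInj R ((LinearMap.lsmul S N s).restrictScalars R) := by
    intro s hs
    let φ : N →ₗ[S] N := LinearMap.lsmul S N s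
    obtain ⟨hinj, hC⟩ := GrothLib.FibreFlat.injective_flat_coker_local (R := R) hS φ (fun x hx => by
        rw [hmem] at hx ⊢
        exact hs _ (Eq.trans (TensorProduct.tmul_smul s (1 : 𝔪.Fiber S) x).symm hx))
    intro Q _ _
    haveI := hC
    let π : N →ₗ[R] (N ⧸ LinearMap.range φ) := (LinearMap.range φ).mkQ.restrictScalars R
    have hπ : Function.Surjective π := (LinearMap.range φ).mkQ_surjective
    have hex : Function.Exact (φ.restrictScalars R) π := LinearMap.exact_map_mkQ_range φ
    exact LinearMap.lTensor_injective_of_exact_of_flat π hπ (φ.restrictScalars R) hinj hex Q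
  refine ⟨hcore, fun Q _ _ => ?_⟩
  let W := FlatCA.nzdFiber R S N
  let fN := LocalizedModule.mkLinearMap W N
  refine (LinearMap.lTensor_inj_iff_rTensor_inj Q _).mpr ?_
  rw [injective_iff_map_eq_zero]
  intro z hz
  obtain ⟨c, hc⟩ := (IsLocalizedModule.eq_zero_iff W
    (TensorProduct.AlgebraTensorModule.rTensor R Q fN)).mp hz
  refine (LinearMap.lTensor_inj_iff_rTensor_inj Q _).mp (hcore c c.2 Q) ?_
  rw [map_zero]
  refine Eq.trans ?_ hc
  clear hz hc
  induction z using TensorProduct.induction_on with
  | zero => simp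
  | add p q hp hq => simp only [map_add, smul_add, hp, hq]
  | tmul n q => rfl

end Groth.Agent.S1194
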