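import Groth.Statements.S1195
import Groth.Agent.Lib.FibreFlat.UnivInjTensor
import Groth.Agent.Lib.FibreFlat.UnivRegular
import Groth.Agent.Lib.FlatModel.Descent
import Groth.Agent.Lib.AssPts.Alg
import Mathlib.RingTheory.LocalRing.ResidueField.Fiber

set_option autoImplicit false
universe u
open FlatMor

namespace Groth.Agent.S1195

open TensorProduct in
/-- Let S be a finitely presented R-algebra, N a finitely presented S-module flat over R, and S' a flat
S-algebra such that every prime q of S (over p in R) whose extension to the fibre ring over p is an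
associated prime of the fibre module of N is the contraction of a prime of S'. Then the base change
map N → S' ⊗_S N is universally injective as a map of R-modules. -/
theorem result {R S S' : Type u} [CommRing R] [CommRing S] [CommRing S'] [Algebra R S] [Algebra S S'] [Algebra R S'] [IsScalarTower R S S']
    [Algebra.FinitePresentation R S] [Module.Flat S S']
    (N : Type u) [AddCommGroup N] [Module S N] [Module R N] [IsScalarTower R S N] [Module.FinitePresentation S N] [Module.Flat R N]
    (h : ∀ (p : Ideal R) (q : Ideal S) [p.IsPrime] [q.IsPrime] [q.LiesOver p],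
      FlatCA.fiberIdeal p q ∈ associatedPrimes (p.Fiber S) (FlatCA.fiberMod p S N) →
      ∃ q' : Ideal S', q'.IsPrime ∧ q'.comap (algebraMap S S') = q) :
    FlatCA.UnivInj R ((TensorProduct.mk S S' N 1).restrictScalars R) := by
  classical
  intro Q _ _
  refine GrothLib.FibreFlat.univInj_mk (S := S) (S' := S') Q fun z hz => ?_
  have htop := GrothLib.FibreFlat.map_colon_eq_top z hz
  suffices ((⊥ : Submodule S (N ⊗[R] Q)).colon {z}) = ⊤ by
    have h1 : (1 : S) ∈ (⊥ : Submodule S (N ⊗[R] Q)).colon {z} := this ▸ Submodule.mem_top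
    simpa [Submodule.mem_colon_singleton] using h1
  by_contra hne
  obtain ⟨q, hq, haq⟩ := Ideal.exists_le_maximal _ hne
  haveI := hq.isPrime
  let p := q.comap (algebraMap R S)
  letI : Algebra S (p.Fiber S) := Algebra.TensorProduct.rightAlgebra
  haveI : IsNoetherianRing (p.Fiber S) :=
    Algebra.FiniteType.isNoetherianRing p.ResidueField (p.Fiber S)
  haveI : IsScalarTower S (p.Fiber S) (FlatCA.fiberMod p S N) :=
    inferInstanceAs (IsScalarTower S (p.Fiber S) ((p.Fiber S) ⊗[S] N))
  haveI : Module.Finite (p.Fiber S) (FlatCA.fiberMod p S N) :=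
    inferInstanceAs (Module.Finite (p.Fiber S) ((p.Fiber S) ⊗[S] N))
  let T := (associatedPrimes.finite (p.Fiber S) (FlatCA.fiberMod p S N)).toFinset.filter
    fun P => P.comap (algebraMap S (p.Fiber S)) ≤ q
  have hT : ∀ P ∈ T, P ∈ associatedPrimes (p.Fiber S) (FlatCA.fiberMod p S N) ∧
      P.comap (algebraMap S (p.Fiber S)) ≤ q := fun P hP => by
    obtain ⟨h1, h2⟩ := Finset.mem_filter.mp hP
    exact ⟨(associatedPrimes.finite (p.Fiber S) (FlatCA.fiberMod p S N)).mem_toFinset.mp h1, h2⟩
  by_cases hsub : (((⊥ : Submodule S (N ⊗[R] Q)).colon {z}) : Set S) ⊆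
      ⋃ P ∈ (T : Set (Ideal (p.Fiber S))), (P.comap (algebraMap S (p.Fiber S)) : Set S)
  · -- the annihilator lies in a prime coming from `S'`
    obtain ⟨P, hP, haP⟩ := (Ideal.subset_union_prime (R := S)
      (f := fun P : Ideal (p.Fiber S) => P.comap (algebraMap S (p.Fiber S))) ⊥ ⊥ fun P hP _ _ => by
        haveI := (hT P hP).1.1
        infer_instance).mp hsub
    obtain ⟨hPass, hPq⟩ := hT P hP
    haveI := hPass.1
    let q₁ := P.comap (algebraMap S (p.Fiber S))
    haveI : q₁.LiesOver p := ⟨by
      refine le_antisymm (fun r hr => ?_) fun r hr => hPq hr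
      show algebraMap S (p.Fiber S) (algebraMap R S r) ∈ P
      rw [← IsScalarTower.algebraMap_apply, IsScalarTower.algebraMap_apply R p.ResidueField (p.Fiber S),
        Ideal.algebraMap_residueField_eq_zero.mpr hr, map_zero]
      exact zero_mem P⟩
    have hmap : FlatCA.fiberIdeal p q₁ = P := by
      refine le_antisymm Ideal.map_comap_le fun x hx => ?_
      obtain ⟨r, hr, s, e⟩ := Ideal.Fiber.exists_smul_eq_one_tmul p x
      have hs : s ∈ q₁ := by
        show (1 : p.ResidueField) ⊗ₜ[R] s ∈ P
        rw [← e]
        exact P.smul_of_tower_mem r hx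
      have hu : IsUnit (algebraMap R (p.Fiber S) r) := by
        rw [IsScalarTower.algebraMap_apply R p.ResidueField (p.Fiber S)]
        exact (isUnit_iff_ne_zero.mpr fun h0 => hr (Ideal.algebraMap_residueField_eq_zero.mp h0)).map _
      rw [← Ideal.unit_mul_mem_iff_mem _ hu, ← Algebra.smul_def, e]
      exact Ideal.mem_map_of_mem _ hs
    obtain ⟨q', hq', hqP⟩ := h p q₁ (hmap.symm ▸ hPass)
    refine hq'.ne_top (eq_top_iff.mpr (htop ▸ Ideal.map_le_iff_le_comap.mpr ?_))
    rw [hqP]
    exact haP
  · -- an element regular on the fibre kills `z`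
    obtain ⟨g, hga, hg⟩ := Set.not_subset.mp hsub
    have hreg : ∀ w : FlatCA.fiberMod p S N, g • w = 0 → ∃ t ∉ q, t • w = 0 := by
      intro w hw
      by_contra hc
      push_neg at hc
      have hle : ((⊥ : Submodule S (FlatCA.fiberMod p S N)).colon {w}) ≤ q := fun t ht => by
        by_contra htq
        exact hc t htq ((Submodule.mem_bot _).mp (Submodule.mem_colon_singleton.mp ht))
      obtain ⟨p₀, hp₀, hp₀q⟩ := Ideal.exists_minimalPrimes_le hle
      obtain ⟨P, hP, hPp⟩ := GrothLib.AssPts.weakAss_subset_image (B := p.Fiber S)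
        (GrothLib.AssPts.mem_weakAss_iff.mpr ⟨w, hp₀⟩)
      rw [GrothLib.AssPts.weakAss_eq_associatedPrimes] at hP
      refine hg (Set.mem_iUnion₂.mpr ⟨P, Finset.mem_filter.mpr
        ⟨(associatedPrimes.finite _ _).mem_toFinset.mpr hP, hPp.le.trans hp₀q⟩, ?_⟩)
      rw [hPp]
      exact hp₀.1.2 (Submodule.mem_colon_singleton.mpr ((Submodule.mem_bot _).mpr hw))
    let e : N ⊗[R] p.ResidueField ≃ₗ[R] (p.Fiber S) ⊗[S] N := TensorProduct.comm R N p.ResidueField ≪≫ₗ
      ((Algebra.IsPushout.cancelBaseChange R p.ResidueField S (p.Fiber S) N).symm.restrictScalars R)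
    have he : ∀ (b : S) (y : N ⊗[R] p.ResidueField), e (b • y) = b • e y := fun b y => by
      induction y using TensorProduct.induction_on with
      | zero => simp
      | add u v hu hv => simp only [smul_add, map_add, hu, hv]
      | tmul m c =>
        rw [smul_tmul']
        simp [e, tmul_smul]
    obtain ⟨t, ht, ht0⟩ := GrothLib.FibreFlat.univ_regular (A := R) q
      (GrothLib.FlatModel.flat_localizedModule _)
      (K := p.ResidueField) (Ideal.ker_algebraMap_residueField p) g
      (fun y hy => by
        obtain ⟨t, ht, ht0⟩ := hreg (e y) (Eq.trans (he g y).symm ((congrArg e hy).trans (map_zero e)))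
        exact ⟨t, ht, e.injective ((he t y).trans (ht0.trans (map_zero e).symm))⟩)
      Q z ((Submodule.mem_bot _).mp (Submodule.mem_colon_singleton.mp hga))
    exact ht (haq (Submodule.mem_colon_singleton.mpr ((Submodule.mem_bot _).mpr ht0)))

end Groth.Agent.S1195
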