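import Groth.Statements.S1994
import Groth.Agent.Lib.Hensel.Noetherian
-- import your own Groth.Agent.* helpers here

set_option autoImplicit false
universe u
open EtAlg

namespace Groth.Agent.S1994

/-- Let (A, I) be a pair with A Noetherian and B a henselization of the pair. Then B is Noetherian and
flat over A, and the induced map of adic completions, from the I-adic completion of A to the IB-adic
completion of B, is bijective. -/
theorem result (A : Type u) [CommRing A] [IsNoetherianRing A] (I : Ideal A)
    (B : Type u) [CommRing B] [Algebra A B] (hB : Hens2.IsPairHenselization A I B) :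
    IsNoetherianRing B ∧ Module.Flat A B ∧
      Function.Bijective (AdicCompletion.map I (Algebra.linearMap A B) :
        AdicCompletion I A → AdicCompletion I B) := by
  have hJ : ∀ (J : Ideal A) (z : B),
      z ∈ (J • ⊤ : Submodule A B) ↔ z ∈ J.map (algebraMap A B) := fun J z ↦ by
    rw [Ideal.smul_top_eq_map]; rfl
  refine ⟨GrothLib.Hensel.IsPairHenselization.isNoetherianRing hB,
    GrothLib.Hensel.IsPairHenselization.flat hB, ?_, ?_⟩
  · rw [injective_iff_map_eq_zero]
    intro x hx
    ext n
    obtain ⟨a, ha⟩ := Submodule.Quotient.mk_surjective _ (x.val n)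
    have h := congrArg (fun z : AdicCompletion I B ↦ z.val n) hx
    simp only [AdicCompletion.map_val_apply, ← ha] at h
    change Submodule.Quotient.mk (algebraMap A B a) = 0 at h
    rw [Submodule.Quotient.mk_eq_zero, hJ] at h
    rw [← ha]
    refine ((Submodule.Quotient.mk_eq_zero _).mpr ?_)
    simpa using GrothLib.Hensel.IsPairHenselization.mem_pow_of_algebraMap_mem hB h
  · refine AdicCompletion.map_surjective_of_mkQ_comp_surjective (I := I) fun y ↦ ?_
    obtain ⟨y, rfl⟩ := Submodule.Quotient.mk_surjective _ y
    obtain ⟨a, ha⟩ := GrothLib.Hensel.IsPairHenselization.exists_sub_mem hB y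
    exact ⟨a, (Submodule.Quotient.eq _).mpr ((hJ I _).mpr (by rw [← neg_sub]; exact neg_mem ha))⟩
end Groth.Agent.S1994
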