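import Groth.Statements.S1196
import Groth.Agent.Lib.FibreFlat.UnivInjTensor
import Groth.Agent.S1194
import Groth.Agent.Lib.AssPts.Alg
import Mathlib.RingTheory.Ideal.AssociatedPrime.Finiteness
import Mathlib.RingTheory.Localization.Submodule

set_option autoImplicit false
universe u
open FlatMor

namespace Groth.Agent.S1196

open TensorProduct IsLocalRing in
/-- Let R → S be a local homomorphism of local rings, essentially of finite presentation, N a finitely
presented S-module flat over R, and S' a flat S-algebra such that every prime of S which is an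
associated prime of N/𝔪_R N is the contraction of a prime of S'. Then N → S' ⊗_S N is universally
injective as a map of R-modules. -/
theorem result {R S S' : Type u} [CommRing R] [IsLocalRing R] [CommRing S] [IsLocalRing S] [CommRing S'] [Algebra R S] [IsLocalHom (algebraMap R S)] [Algebra S S'] [Algebra R S'] [IsScalarTower R S S']
    (hS : FlatCA.EssFinitePresentation R S) [Module.Flat S S']
    (N : Type u) [AddCommGroup N] [Module S N] [Module R N] [IsScalarTower R S N] [Module.FinitePresentation S N] [Module.Flat R N]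
    (h : ∀ q ∈ associatedPrimes S (FlatCA.fiberMod (maximalIdeal R) S N),
      ∃ q' : Ideal S', q'.IsPrime ∧ q'.comap (algebraMap S S') = q) :
    FlatCA.UnivInj R ((TensorProduct.mk S S' N 1).restrictScalars R) := by
  classical
  intro Q _ _
  refine GrothLib.FibreFlat.univInj_mk (S := S) (S' := S') Q fun z hz => ?_
  let a := (⊥ : Submodule S (N ⊗[R] Q)).colon {z}
  have htop : a.map (algebraMap S S') = ⊤ := GrothLib.FibreFlat.map_colon_eq_top z hz
  let 𝔪 := maximalIdeal R
  letI : Algebra S (𝔪.Fiber S) := Algebra.TensorProduct.rightAlgebra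
  haveI : Algebra.EssFiniteType R S := by
    obtain ⟨S₀, _, _, _, _, M, hfp, hloc⟩ := hS
    haveI := hfp
    haveI := hloc
    haveI : Algebra.EssFiniteType S₀ S := Algebra.EssFiniteType.of_isLocalization S M
    exact Algebra.EssFiniteType.comp R S₀ S
  haveI : IsNoetherianRing (𝔪.Fiber S) :=
    Algebra.EssFiniteType.isNoetherianRing 𝔪.ResidueField (𝔪.Fiber S)
  haveI : IsScalarTower S (𝔪.Fiber S) (FlatCA.fiberMod 𝔪 S N) :=
    inferInstanceAs (IsScalarTower S (𝔪.Fiber S) ((𝔪.Fiber S) ⊗[S] N))
  haveI : Module.Finite (𝔪.Fiber S) (FlatCA.fiberMod 𝔪 S N) :=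
    inferInstanceAs (Module.Finite (𝔪.Fiber S) ((𝔪.Fiber S) ⊗[S] N))
  have hfin : (associatedPrimes S (FlatCA.fiberMod 𝔪 S N)).Finite := by
    rw [GrothLib.AssPts.associatedPrimes_eq_image (A := S) (B := 𝔪.Fiber S)]
    exact (associatedPrimes.finite (𝔪.Fiber S) (FlatCA.fiberMod 𝔪 S N)).image _
  -- an element of the annihilator regular on the fibre
  obtain ⟨g, hga, hg⟩ : ∃ g ∈ a, g ∈ FlatCA.nzdFiber R S N := by
    by_contra hc
    push_neg at hc
    have hsub : (a : Set S) ⊆ ⋃ P ∈ (hfin.toFinset : Set (Ideal S)), (P : Set S) := by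
      intro g hg
      have hz' : ∃ w : FlatCA.fiberMod 𝔪 S N, g • w = 0 ∧ w ≠ 0 := by
        by_contra hw
        push_neg at hw
        exact hc g hg hw
      obtain ⟨w, hw, hw0⟩ := hz'
      have : algebraMap S (𝔪.Fiber S) g ∈
          {r : 𝔪.Fiber S | ∃ x : FlatCA.fiberMod 𝔪 S N, x ≠ 0 ∧ r • x = 0} :=
        ⟨w, hw0, (algebraMap_smul (𝔪.Fiber S) g w).trans hw⟩
      rw [← biUnion_associatedPrimes_eq_zero_divisors] at this
      obtain ⟨P, hP, hgP⟩ := Set.mem_iUnion₂.mp this
      refine Set.mem_iUnion₂.mpr ⟨P.comap (algebraMap S (𝔪.Fiber S)), hfin.mem_toFinset.mpr ?_, hgP⟩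
      rw [GrothLib.AssPts.associatedPrimes_eq_image (A := S) (B := 𝔪.Fiber S)]
      exact ⟨P, hP, rfl⟩
    obtain ⟨P, hP, haP⟩ := (Ideal.subset_union_prime (R := S) (f := id) ⊥ ⊥
      fun P hP _ _ => (hfin.mem_toFinset.mp hP).1).mp hsub
    obtain ⟨q', hq', hqP⟩ := h P (hfin.mem_toFinset.mp hP)
    refine hq'.ne_top (eq_top_iff.mpr (htop ▸ Ideal.map_le_iff_le_comap.mpr ?_))
    rw [hqP]
    exact haP
  -- multiplication by it is universally injective
  have hgz := (Groth.Agent.S1194.result (R := R) hS N).1 g hg Q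
  refine (LinearMap.lTensor_inj_iff_rTensor_inj Q _).mp hgz ?_
  rw [map_zero]
  refine Eq.trans ?_ ((Submodule.mem_bot _).mp (Submodule.mem_colon_singleton.mp hga))
  clear hz hga
  clear_value a
  clear htop a
  induction z using TensorProduct.induction_on with
  | zero => simp
  | add p q hp hq => simp only [map_add, smul_add, hp, hq]
  | tmul n q => rfl

end Groth.Agent.S1196
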