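import Groth.Statements.S2124
import Groth.Agent.Lib.Decaying.Completion
-- import your own Groth.Agent.* helpers here

set_option autoImplicit false
universe u
open CAlg

namespace Groth.Agent.S2124

/-- Let `R` be Noetherian and `I`-adically complete and `α` any index set. The map from the `I`-adic
completion of the direct sum `⊕_α R` to the product `∏_α R^∧ = ∏_α R`, induced by the coordinate
projections, is universally injective. -/
theorem result {R : Type u} [CommRing R] [IsNoetherianRing R] (I : Ideal R)
    [IsAdicComplete I R] (α : Type u) :
    CAlgX.UniversallyInjective R
      (LinearMap.pi fun a : α => AdicCompletion.map I (Finsupp.lapply a : (α →₀ R) →ₗ[R] R) :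
        AdicCompletion I (α →₀ R) →ₗ[R] (α → AdicCompletion I R)) := by
  intro Q _ _
  exact GrothLib.Decaying.rTensor_completion_pi_injective I α Q

end Groth.Agent.S2124
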