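import Groth.Statements.S1197
import Groth.Agent.S0550
import Groth.Agent.S2124
import Groth.Agent.Lib.ML.Flat
import Mathlib.RingTheory.AdicCompletion.Algebra

set_option autoImplicit false
universe u
open FlatMor

namespace Groth.Agent.S1197

/-- Over a Noetherian ring R which is I-adically complete, the I-adic completion of a free module on an
arbitrary index set is a flat and Mittag-Leffler R-module. (Flatness alone, without completeness of
R, is stated separately.) -/
theorem result (R : Type u) [CommRing R] [IsNoetherianRing R] (I : Ideal R) [IsAdicComplete I R] (α : Type u) :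
    Module.Flat R (AdicCompletion I (α →₀ R)) ∧ CAlg.IsMittagLeffler R (AdicCompletion I (α →₀ R)) := by
  refine ⟨Groth.Agent.S0550.result R I α, ?_⟩
  have e : (α → AdicCompletion I R) ≃ₗ[R] (α → R) :=
    LinearEquiv.piCongrRight fun _ => (AdicCompletion.ofLinearEquiv I R).symm
  have hpi : CAlg.IsMittagLeffler R (α → AdicCompletion I R) :=
    GrothLib.ML.ml_of_retract e.toLinearMap e.symm.toLinearMap (LinearMap.ext fun x => e.symm_apply_apply x)
      (GrothLib.ML.ml_pi_of_noetherian α).2
  set f : AdicCompletion I (α →₀ R) →ₗ[R] (α → AdicCompletion I R) :=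
    LinearMap.pi fun a : α => AdicCompletion.map I (Finsupp.lapply a : (α →₀ R) →ₗ[R] R)
  have hf := Groth.Agent.S2124.result I α
  intro ι Q _ _ x y hxy
  refine hf (∀ i, Q i) (hpi ι Q ?_)
  have key : ∀ z, TensorProduct.piRightHom R R _ Q (f.rTensor (∀ i, Q i) z) =
      fun i => f.rTensor (Q i) (TensorProduct.piRightHom R R _ Q z i) := by
    intro z
    induction z using TensorProduct.induction_on with
    | zero => ext i; simp
    | tmul a b => ext i; simp
    | add a b ha hb => ext i; simp [ha, hb]
  rw [key, key, hxy]

end Groth.Agent.S1197
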