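import Groth.Statements.S9131
import Mathlib
import Groth.Agent.Lib.ComplSplit.Basic
-- import your own Groth.Agent.* helpers here

set_option autoImplicit false
universe u
open CAlg

namespace Groth.Agent.S9131

/-- Let R be a ring, I an ideal, and 0 → K → P → M → 0 a short exact sequence of R-modules with M flat
over R and M/IM projective over R/I. Then the induced sequence of I-adic completions is split short
exact: the map on completions of K → P is injective, the sequence is exact in the middle, and the
map on completions of P → M has a section linear over the completion of R (so it is surjective). -/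
theorem result (R : Type u) [CommRing R] (I : Ideal R)
    (K P M : Type u) [AddCommGroup K] [Module R K] [AddCommGroup P] [Module R P]
    [AddCommGroup M] [Module R M] (f : K →ₗ[R] P) (g : P →ₗ[R] M)
    (hf : Function.Injective f) (hg : Function.Surjective g) (hfg : Function.Exact f g)
    [Module.Flat R M] [Module.Projective (R ⧸ I) (M ⧸ (I • ⊤ : Submodule R M))] :
    Function.Injective (AdicCompletion.map I f) ∧
      Function.Exact (AdicCompletion.map I f) (AdicCompletion.map I g) ∧
      ∃ s : AdicCompletion I M →ₗ[AdicCompletion I R] AdicCompletion I P,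
        AdicCompletion.map I g ∘ₗ s = LinearMap.id := by
  classical
  let π : (M →₀ R) →ₗ[R] M := Finsupp.linearCombination R (id : M → M)
  let h : (M →₀ R) →ₗ[R] P := Finsupp.linearCombination R (Function.surjInv hg)
  have hh : ∀ z, g (h z) = π z := fun z => by
    refine LinearMap.congr_fun (?_ : g ∘ₗ h = π) z
    refine Finsupp.lhom_ext fun a b => ?_
    simp [h, π, Function.surjInv_eq hg]
  have hkillP : ∀ n (N : M →ₗ[R] P ⧸ (I ^ n • ⊤ : Submodule R P)) (x : M), x ∈ I ^ n • (⊤ : Submodule R M) → N x = 0 :=
    fun n N x hx => by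
      refine Submodule.smul_induction_on hx (fun a ha y _ => ?_) fun a b ha hb => by rw [map_add, ha, hb, add_zero]
      obtain ⟨p, hp⟩ := Submodule.Quotient.mk_surjective _ (N y)
      rw [map_smul, ← hp, ← Submodule.Quotient.mk_smul, Submodule.Quotient.mk_eq_zero]
      exact Submodule.smul_mem_smul ha Submodule.mem_top
  let pr : ∀ n, (P ⧸ (I ^ (n + 1) • ⊤ : Submodule R P)) →ₗ[R] (P ⧸ (I ^ n • ⊤ : Submodule R P)) := fun n =>
    AdicCompletion.transitionMap I P (Nat.le_succ n)
  let Good : ∀ n, (M →ₗ[R] P ⧸ (I ^ n • ⊤ : Submodule R P)) → Prop := fun n u =>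
    ∀ m p, Submodule.Quotient.mk p = u m → g p - m ∈ I ^ n • (⊤ : Submodule R M)
  have step : ∀ n u, Good n u → ∃ v, Good (n + 1) v ∧ ∀ m, pr n (v m) = u m := by
    intro n u hu
    obtain ⟨s, hs⟩ := GrothLib.ComplSplit.exists_section (M := M) I n
    have hz : ∀ m, ∃ z, Submodule.Quotient.mk z = s m := fun m => Submodule.Quotient.mk_surjective _ _
    let hq : (M →₀ R) ⧸ (I ^ (n + 1) • ⊤ : Submodule R (M →₀ R)) →ₗ[R] P ⧸ (I ^ (n + 1) • ⊤ : Submodule R P) :=
      Submodule.mapQ _ _ h (Submodule.map_le_iff_le_comap.1 (by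
        rw [Submodule.map_smul'']; exact Submodule.smul_mono le_rfl le_top))
    let w := hq ∘ₗ s
    have hw : ∀ m z, Submodule.Quotient.mk z = s m → pr n (w m) = Submodule.Quotient.mk (h z) := fun m z hz => by
      show pr n (hq (s m)) = _
      rw [← hz]
      rfl
    let δ : M →ₗ[R] P ⧸ (I ^ n • ⊤ : Submodule R P) := pr n ∘ₗ w - u
    have hδ : ∀ m, ∃ k, Submodule.Quotient.mk (f k) = δ m := fun m => by
      obtain ⟨z, hz⟩ := hz m
      obtain ⟨p, hp⟩ := Submodule.Quotient.mk_surjective _ (u m)
      have h1 : g (h z - p) ∈ I ^ n • (⊤ : Submodule R M) := by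
        rw [map_sub, hh, ← sub_sub_sub_cancel_right _ _ m]
        exact sub_mem (Submodule.smul_mono (Ideal.pow_le_pow_right (Nat.le_succ n)) le_rfl (hs m z hz)) (hu m p hp)
      obtain ⟨b, hb, hbg⟩ := (GrothLib.ComplSplit.map_smul_top_of_surjective (I ^ n) g hg).ge h1
      obtain ⟨k, hk⟩ := (hfg (h z - p - b)).1 (by rw [map_sub g (h z - p) b, hbg, sub_self])
      refine ⟨k, ?_⟩
      show _ = pr n (w m) - u m
      rw [hk, hw m z hz, ← hp, Submodule.Quotient.mk_sub, Submodule.Quotient.mk_sub,
        (Submodule.Quotient.mk_eq_zero _).2 hb, sub_zero]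
    choose k hk using hδ
    let lam : (M →₀ R) →ₗ[R] P := Finsupp.linearCombination R (fun m => f (k m))
    have hlam : ∀ z, Submodule.Quotient.mk (lam z) = δ (π z) := fun z => by
      refine LinearMap.congr_fun (?_ : (I ^ n • ⊤ : Submodule R P).mkQ ∘ₗ lam = δ ∘ₗ π) z
      refine Finsupp.lhom_ext fun a b => ?_
      simp only [LinearMap.comp_apply, lam, π, Finsupp.linearCombination_single, Submodule.mkQ_apply, id_eq, map_smul]
      rw [hk]
    let c : (M →₀ R) ⧸ (I ^ (n + 1) • ⊤ : Submodule R (M →₀ R)) →ₗ[R] P ⧸ (I ^ (n + 1) • ⊤ : Submodule R P) :=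
      Submodule.mapQ _ _ (h - lam) (Submodule.map_le_iff_le_comap.1 (by
        rw [Submodule.map_smul'']; exact Submodule.smul_mono le_rfl le_top))
    refine ⟨c ∘ₗ s, fun m p hp => ?_, fun m => ?_⟩
    · obtain ⟨z, hz⟩ := hz m
      have h2 : p - (h z - lam z) ∈ I ^ (n + 1) • (⊤ : Submodule R P) := by
        rw [← Submodule.Quotient.eq, hp]
        show c (s m) = _
        rw [← hz]; rfl
      have h3 : g (lam z) = 0 := by
        refine LinearMap.congr_fun (?_ : g ∘ₗ lam = 0) z
        refine Finsupp.lhom_ext fun a b => ?_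
        simp [lam, hfg.apply_apply_eq_zero]
      have h4 := (GrothLib.ComplSplit.map_smul_top_of_surjective (I ^ (n + 1)) g hg).le
        (Submodule.mem_map_of_mem h2)
      rw [map_sub, map_sub, h3, sub_zero, hh] at h4
      have h5 := add_mem h4 (hs m z hz)
      change g p - π z + (π z - m) ∈ _ at h5
      rwa [sub_add_sub_cancel] at h5
    · obtain ⟨z, hz⟩ := hz m
      show pr n (c (s m)) = u m
      rw [← hz]
      show Submodule.Quotient.mk (h z - lam z) = u m
      rw [Submodule.Quotient.mk_sub, ← hw m z hz, hlam,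
        show δ (π z) = δ m from sub_eq_zero.1 (by
          rw [← map_sub]; exact hkillP n δ _ (Submodule.smul_mono (Ideal.pow_le_pow_right (Nat.le_succ n)) le_rfl (hs m z hz)))]
      show pr n (w m) - (pr n (w m) - u m) = u m
      rw [sub_sub_cancel]
  choose next hnext1 hnext2 using step
  let U : ∀ n, {u : M →ₗ[R] P ⧸ (I ^ n • ⊤ : Submodule R P) // Good n u} := fun n =>
    Nat.rec ⟨0, fun m p _ => by rw [pow_zero, Ideal.one_eq_top, Submodule.top_smul]; trivial⟩
      (fun n u => ⟨next n u.1 u.2, hnext1 n u.1 u.2⟩) n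
  have hU : ∀ n m, pr n ((U (n + 1)).1 m) = (U n).1 m := fun n m => hnext2 n _ (U n).2 m
  let t : ∀ n, (M ⧸ (I ^ n • ⊤ : Submodule R M)) →ₗ[R] (P ⧸ (I ^ n • ⊤ : Submodule R P)) := fun n =>
    Submodule.liftQ _ (U n).1 fun x hx => hkillP n _ x hx
  have ht : ∀ {i j : ℕ} (hij : i ≤ j) (y : M ⧸ (I ^ j • ⊤ : Submodule R M)),
      AdicCompletion.transitionMap I P hij (t j y) = t i (AdicCompletion.transitionMap I M hij y) := by
    intro i j hij y
    obtain ⟨m, rfl⟩ := Submodule.Quotient.mk_surjective _ y
    show AdicCompletion.transitionMap I P hij ((U j).1 m) = (U i).1 m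
    induction j, hij using Nat.le_induction with
    | base => simp
    | succ j hij ih =>
      have h0 : ∀ y : P ⧸ (I ^ (j + 1) • ⊤ : Submodule R P), AdicCompletion.transitionMap I P hij (pr j y) =
          AdicCompletion.transitionMap I P (hij.trans (Nat.le_succ j)) y := fun y => by
        obtain ⟨p, rfl⟩ := Submodule.Quotient.mk_surjective _ y
        rfl
      rw [← ih, ← h0]
      exact congrArg _ (hU j m)
  refine ⟨?_, ?_, ?_⟩
  · rw [injective_iff_map_eq_zero]
    intro x hx
    refine AdicCompletion.ext fun {n} => ?_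
    obtain ⟨k, hk⟩ := Submodule.Quotient.mk_surjective _ (x.val n)
    have h1 : f k ∈ I ^ n • (⊤ : Submodule R P) := by
      rw [← Submodule.Quotient.mk_eq_zero]
      have := congrArg (fun y => y.val n) hx
      simp only [AdicCompletion.val_zero_apply, AdicCompletion.map_val_apply, ← hk] at this
      exact this
    have h2 := GrothLib.ComplSplit.mem_smul_ker_of_flat (I ^ n) g hg h1 (hfg.apply_apply_eq_zero k)
    rw [LinearMap.exact_iff.1 hfg, ← Submodule.map_top f, ← Submodule.map_smul''] at h2
    obtain ⟨k', hk', hk''⟩ := h2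
    rw [AdicCompletion.val_zero_apply, ← hk, ← hf hk'', Submodule.Quotient.mk_eq_zero]
    exact hk'
  · intro y
    refine ⟨fun hy => ?_, ?_⟩
    · have h0 : ∀ n, ∃ k : K, Submodule.Quotient.mk (f k) = y.val n := fun n => by
        obtain ⟨p, hp⟩ := Submodule.Quotient.mk_surjective _ (y.val n)
        have h1 : g p ∈ I ^ n • (⊤ : Submodule R M) := by
          rw [← Submodule.Quotient.mk_eq_zero]
          have := congrArg (fun z => z.val n) hy
          simp only [AdicCompletion.val_zero_apply, AdicCompletion.map_val_apply, ← hp] at this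
          exact this
        obtain ⟨b, hb, hbg⟩ := (GrothLib.ComplSplit.map_smul_top_of_surjective (I ^ n) g hg).ge h1
        obtain ⟨k, hk⟩ := (hfg (p - b)).1 (by rw [map_sub, hbg, sub_self])
        exact ⟨k, by rw [hk, Submodule.Quotient.mk_sub, (Submodule.Quotient.mk_eq_zero _).2 hb, sub_zero, hp]⟩
      choose k hk using h0
      refine ⟨⟨fun n => Submodule.Quotient.mk (k n), fun {i j} hij => ?_⟩, AdicCompletion.ext fun {n} => ?_⟩
      · show Submodule.Quotient.mk (k j) = Submodule.Quotient.mk (k i)
        rw [Submodule.Quotient.eq]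
        have h1 : f (k j - k i) ∈ I ^ i • (⊤ : Submodule R P) := by
          rw [map_sub, ← Submodule.Quotient.eq, hk i, ← y.property hij, ← hk j]
          rfl
        have h2 := GrothLib.ComplSplit.mem_smul_ker_of_flat (I ^ i) g hg h1 (hfg.apply_apply_eq_zero _)
        rw [LinearMap.exact_iff.1 hfg, ← Submodule.map_top f, ← Submodule.map_smul''] at h2
        obtain ⟨k', hk', hk''⟩ := h2
        rwa [← hf hk'']
      · rw [AdicCompletion.map_val_apply]
        exact hk n
    · rintro ⟨x, rfl⟩
      refine AdicCompletion.ext fun {n} => ?_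
      obtain ⟨k, hk⟩ := Submodule.Quotient.mk_surjective _ (x.val n)
      rw [AdicCompletion.map_val_apply, AdicCompletion.map_val_apply, AdicCompletion.val_zero_apply, ← hk]
      show Submodule.Quotient.mk (g (f k)) = 0
      rw [hfg.apply_apply_eq_zero, Submodule.Quotient.mk_zero]
  · refine ⟨{ toFun := fun x => ⟨fun n => t n (x.val n), fun {i j} hij => by rw [ht, x.property hij]⟩
              map_add' := fun x y => AdicCompletion.ext fun {n} => map_add (t n) _ _
              map_smul' := fun r x => AdicCompletion.ext fun {n} => ?_ }, ?_⟩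
    · obtain ⟨a, ha⟩ := Submodule.Quotient.mk_surjective _ (r.val n)
      show t n (r.val n • x.val n) = r.val n • t n (x.val n)
      rw [← ha]
      show t n (a • x.val n) = a • t n (x.val n)
      exact map_smul (t n) a _
    · refine LinearMap.ext fun x => AdicCompletion.ext fun {n} => ?_
      obtain ⟨m, hm⟩ := Submodule.Quotient.mk_surjective _ (x.val n)
      obtain ⟨p, hp⟩ := Submodule.Quotient.mk_surjective _ ((U n).1 m)
      rw [LinearMap.comp_apply, AdicCompletion.map_val_apply, LinearMap.id_apply]
      show LinearMap.reduceModIdeal _ g (t n (x.val n)) = x.val n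
      rw [← hm, show t n (Submodule.Quotient.mk m) = (U n).1 m from rfl, ← hp]
      exact (Submodule.Quotient.eq _).2 ((U n).2 m p hp)

end Groth.Agent.S9131
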