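import Groth.Statements.S1198
import Groth.Agent.S9131
import Groth.Agent.S1197

set_option autoImplicit false
universe u
open FlatMor

namespace Groth.Agent.S1198

/-- Let R be a Noetherian ring complete with respect to an ideal I and M a flat R-module whose reduction
M/IM is projective over R/I. Then M's I-adic completion is a flat and Mittag-Leffler R-module. -/
theorem result (R : Type u) [CommRing R] [IsNoetherianRing R] (I : Ideal R) [IsAdicComplete I R]
    (M : Type u) [AddCommGroup M] [Module R M] [Module.Flat R M]
    [Module.Projective (R ⧸ I) (M ⧸ (I • ⊤ : Submodule R M))] :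
    Module.Flat R (AdicCompletion I M) ∧ CAlg.IsMittagLeffler R (AdicCompletion I M) := by
  let π : (M →₀ R) →ₗ[R] M := Finsupp.linearCombination R (id : M → M)
  have hπ : Function.Surjective π := fun m => ⟨Finsupp.single m 1, by
    simp [π, Finsupp.linearCombination_single]⟩
  obtain ⟨-, -, s, hs⟩ := Groth.Agent.S9131.result R I (LinearMap.ker π) (M →₀ R) M
    (LinearMap.ker π).subtype π (Submodule.injective_subtype _) hπ (LinearMap.exact_subtype_ker_map π)
  obtain ⟨hflat, hml⟩ := Groth.Agent.S1197.result R I M
  have h : (AdicCompletion.map I π).restrictScalars R ∘ₗ s.restrictScalars R = LinearMap.id := by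
    refine LinearMap.ext fun x => ?_
    exact LinearMap.congr_fun hs x
  exact ⟨Module.Flat.of_retract (s.restrictScalars R) ((AdicCompletion.map I π).restrictScalars R) h,
    GrothLib.ML.ml_of_retract (s.restrictScalars R) ((AdicCompletion.map I π).restrictScalars R) h hml⟩

end Groth.Agent.S1198
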