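import Groth.Statements.S1199
import Mathlib

set_option autoImplicit false
universe u
open FlatMor

namespace Groth.Agent.S1199


open TensorProduct

variable {R S : Type u} [CommRing R] [CommRing S] [Algebra R S] [IsNoetherianRing R] [IsNoetherianRing S] (I : Ideal R)
  (N : Type u) [AddCommGroup N] [Module S N] [Module R N] [IsScalarTower R S N] [Module.Finite S N]

theorem eq_zero_of_map_of_eq_zero (Q : Type u) [AddCommGroup Q] [Module R Q] [Module.Finite R Q]
    (hQ : ∀ q ∈ associatedPrimes S (N ⊗[R] Q), I.map (algebraMap R S) ⊔ q ≠ ⊤)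
    (x : N ⊗[R] Q) (hx : (AdicCompletion.of I N).rTensor Q x = 0) : x = 0 := by
  by_contra hne
  obtain ⟨k, g, hg⟩ := Module.Finite.exists_fin' R Q
  haveI : Module.Finite S (N ⊗[R] Q) :=
    Module.Finite.of_surjective ((AlgebraTensorModule.lTensor S N g) ∘ₗ (TensorProduct.piScalarRight R S N (Fin k)).symm.toLinearMap)
      ((LinearMap.lTensor_surjective N hg).comp (TensorProduct.piScalarRight R S N (Fin k)).symm.surjective)
  have hmem : x ∈ (⨅ i : ℕ, I.map (algebraMap R S) ^ i • ⊤ : Submodule S (N ⊗[R] Q)) := by
    rw [Submodule.mem_iInf]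
    intro i
    have h1 : (Submodule.mkQ (I ^ i • ⊤ : Submodule R N)).rTensor Q x = 0 := by
      rw [show Submodule.mkQ (I ^ i • ⊤ : Submodule R N) = AdicCompletion.eval I N i ∘ₗ AdicCompletion.of I N from
        LinearMap.ext fun y => (AdicCompletion.eval_of I N i y).symm, LinearMap.rTensor_comp_apply, hx, map_zero]
    obtain ⟨z, rfl⟩ := (rTensor_exact Q (LinearMap.exact_subtype_mkQ (I ^ i • ⊤ : Submodule R N))
      (Submodule.mkQ_surjective _) x).1 h1
    clear h1 hx hne
    induction z using TensorProduct.induction_on with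
    | zero => rw [map_zero]; exact zero_mem _
    | add a b ha hb => rw [map_add]; exact add_mem ha hb
    | tmul m q =>
      rw [LinearMap.rTensor_tmul]
      obtain ⟨m, hm⟩ := m
      show m ⊗ₜ[R] q ∈ _
      refine Submodule.smul_induction_on (p := fun m => m ⊗ₜ[R] q ∈ (I.map (algebraMap R S) ^ i • ⊤ : Submodule S (N ⊗[R] Q))) hm
        (fun a ha n _ => ?_) (fun a b ha hb => by rw [TensorProduct.add_tmul]; exact add_mem ha hb)
      rw [← algebraMap_smul S a n, ← TensorProduct.smul_tmul']
      refine Submodule.smul_mem_smul ?_ trivial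
      rw [← Ideal.map_pow]
      exact Ideal.mem_map_of_mem _ ha
  obtain ⟨⟨r, hr⟩, hrx⟩ := ((I.map (algebraMap R S)).mem_iInf_smul_pow_eq_bot_iff x).1 hmem
  obtain ⟨q, hq, hqle⟩ := exists_le_isAssociatedPrime_of_isNoetherianRing S x hne
  have h1 : (1 - r) • x = 0 := by rw [sub_smul, one_smul, hrx, sub_self]
  refine hQ q hq ((Ideal.eq_top_iff_one _).2 ?_)
  have h2 := hqle (show (1 - r) ∈ _ from Submodule.mem_colon_singleton.2 ((Submodule.mem_bot S).2 h1))
  rw [show (1 : S) = r + (1 - r) by ring]
  exact Submodule.add_mem_sup hr h2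


open TensorProduct in
/-- Let R → S be a map of Noetherian rings, I an ideal of R and N a finite S-module. Assume that for
every finite R-module Q and every associated prime q of the S-module N ⊗_R Q the ideal IS + q is
proper. Then the canonical map from N to its I-adic completion is universally injective as a map of
R-modules. -/
theorem result {R S : Type u} [CommRing R] [CommRing S] [Algebra R S] [IsNoetherianRing R] [IsNoetherianRing S] (I : Ideal R)
    (N : Type u) [AddCommGroup N] [Module S N] [Module R N] [IsScalarTower R S N] [Module.Finite S N]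
    (h : ∀ (Q : Type u) [AddCommGroup Q] [Module R Q], Module.Finite R Q →
      ∀ q ∈ associatedPrimes S (N ⊗[R] Q), I.map (algebraMap R S) ⊔ q ≠ ⊤) :
    FlatCA.UnivInj R (AdicCompletion.of I N) := by
  intro Q _ _
  refine (injective_iff_map_eq_zero _).2 fun x hx => ?_
  obtain ⟨P, hP, t, rfl⟩ := TensorProduct.exists_of_fg x
  rw [← LinearMap.comp_apply, LinearMap.lTensor_comp_rTensor, ← LinearMap.rTensor_comp_lTensor,
    LinearMap.comp_apply] at hx
  obtain ⟨P', hPP', hP', h0⟩ := TensorProduct.eq_zero_of_fg_of_subtype_eq_zero hP hx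
  rw [← LinearMap.comp_apply, LinearMap.rTensor_comp_lTensor, ← LinearMap.lTensor_comp_rTensor,
    LinearMap.comp_apply] at h0
  haveI : Module.Finite R P' := Module.Finite.iff_fg.2 hP'
  have h1 := eq_zero_of_map_of_eq_zero I N P' (h P' inferInstance)
    (TensorProduct.comm R P' N (LinearMap.rTensor N (Submodule.inclusion hPP') t)) (by
      have hc : ∀ z : P' ⊗[R] N, (AdicCompletion.of I N).rTensor P' (TensorProduct.comm R P' N z) =
          TensorProduct.comm R P' _ ((AdicCompletion.of I N).lTensor P' z) := fun z => by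
        induction z using TensorProduct.induction_on with
        | zero => simp only [map_zero]
        | add a b ha hb => simp only [map_add, ha, hb]
        | tmul a b => rfl
      rw [hc, h0, map_zero])
  have h2 : LinearMap.rTensor N (Submodule.inclusion hPP') t = 0 :=
    (TensorProduct.comm R P' N).map_eq_zero_iff.1 h1
  rw [← Submodule.subtype_comp_inclusion P P' hPP', LinearMap.rTensor_comp_apply, h2, map_zero]

end Groth.Agent.S1199
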