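import Groth.Statements.S1203
import Groth.Agent.S1198
import Groth.Agent.Lib.RG6.AdicUniv
import Groth.Agent.Lib.RG6.AssFlat
import Groth.Agent.Lib.ML.Countable
-- import your own Groth.Agent.* helpers here

set_option autoImplicit false
universe u
open FlatMor

namespace Groth.Agent.S1203

/-- Let R be a Noetherian ring complete with respect to an ideal I, S a finite type R-algebra and N a
finite S-module which is flat over R, such that N/IN is a projective R/I-module and such that for
every prime q of S, over p in R, whose extension to the fibre ring over p is an associated prime of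
the fibre module of N, the ideal IS + q is proper. Then N is a projective R-module. -/
theorem result {R S : Type u} [CommRing R] [CommRing S] [Algebra R S] [IsNoetherianRing R] (I : Ideal R) [IsAdicComplete I R]
    [Algebra.FiniteType R S]
    (N : Type u) [AddCommGroup N] [Module S N] [Module R N] [IsScalarTower R S N] [Module.Finite S N] [Module.Flat R N]
    [Module.Projective (R ⧸ I) (N ⧸ (I • ⊤ : Submodule R N))]
    (h : ∀ (p : Ideal R) (q : Ideal S) [p.IsPrime] [q.IsPrime] [q.LiesOver p],
      FlatCA.fiberIdeal p q ∈ associatedPrimes (p.Fiber S) (FlatCA.fiberMod p S N) → I.map (algebraMap R S) ⊔ q ≠ ⊤) :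
    Module.Projective R N := by
    haveI : IsNoetherianRing S := Algebra.FiniteType.isNoetherianRing R S
    have hU : FlatCA.UnivInj R (AdicCompletion.of I N) :=
      GrothLib.RG6.univInj_of_ass (S := S) I fun Q _ _ _ q hq => by
        obtain ⟨p, _, _, _, -, hass⟩ := GrothLib.RG6.fiber_mem_ass_of_mem_ass Q q hq
        exact h p q hass
    obtain ⟨-, hML⟩ := Groth.Agent.S1198.result R I N
    have hMLN : CAlg.IsMittagLeffler R N := by
      intro ι Q _ _ a b hab
      have hinj := (LinearMap.lTensor_inj_iff_rTensor_inj (∀ i, Q i) (AdicCompletion.of I N)).1 (hU (∀ i, Q i))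
      refine hinj (hML ι Q ?_)
      have key : ∀ z : TensorProduct R N (∀ i, Q i),
          TensorProduct.piRightHom R R (AdicCompletion I N) Q ((AdicCompletion.of I N).rTensor _ z) =
            fun i => (AdicCompletion.of I N).rTensor (Q i) (TensorProduct.piRightHom R R N Q z i) := fun z => by
        induction z using TensorProduct.induction_on with
        | zero => simp [Pi.zero_def]
        | tmul x y => ext i; simp
        | add x y hx hy => ext i; simp [hx, hy]
      rw [key, key, hab]
    refine GrothLib.ML.projective_of_countable hMLN ?_
    classical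
    obtain ⟨n, π, hπ⟩ := Algebra.FiniteType.iff_quotient_mvPolynomial''.1 ‹Algebra.FiniteType R S›
    obtain ⟨a, ha⟩ := Module.Finite.fg_top (R := S) (M := N)
    refine ⟨Set.range fun x : (Fin n →₀ ℕ) × a => π (MvPolynomial.monomial x.1 1) • (x.2 : N), Set.countable_range _,
      Submodule.eq_top_iff'.2 fun z => ?_⟩
    set U := Submodule.span R (Set.range fun x : (Fin n →₀ ℕ) × a => π (MvPolynomial.monomial x.1 1) • (x.2 : N))
    have hs : ∀ (s : S) (x : N), x ∈ a → s • x ∈ U := fun s x hx => by
      obtain ⟨f, rfl⟩ := hπ s
      induction f using MvPolynomial.induction_on' with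
      | monomial m c =>
        rw [show MvPolynomial.monomial m c = c • MvPolynomial.monomial m (1 : R) by
          rw [MvPolynomial.smul_monomial, smul_eq_mul, mul_one], map_smul, smul_assoc]
        exact Submodule.smul_mem _ _ (Submodule.subset_span ⟨(m, ⟨x, hx⟩), rfl⟩)
      | add p q hp hq => rw [map_add, add_smul]; exact add_mem hp hq
    suffices hz : ∀ s : S, s • z ∈ U by simpa using hz 1
    have hz : z ∈ Submodule.span S (a : Set N) := ha.ge trivial
    induction hz using Submodule.span_induction with
    | mem x hx => exact fun s => hs s x hx
    | zero => intro s; rw [smul_zero]; exact zero_mem _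
    | add x y _ _ hx hy => intro s; rw [smul_add]; exact add_mem (hx s) (hy s)
    | smul c x _ hx => intro s; rw [smul_smul]; exact hx _

end Groth.Agent.S1203
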