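import Groth.Statements.S12056
import Mathlib.RingTheory.PowerSeries.Derivative
import Mathlib.RingTheory.PowerSeries.Substitution
import Mathlib.RingTheory.PowerSeries.Trunc
import Mathlib.RingTheory.MvPowerSeries.Order
import Mathlib.Tactic.LinearCombination
import Mathlib.Tactic.FinCases
import Mathlib.Tactic.Ring

set_option autoImplicit false
open Red

namespace Groth.Agent.S12056

abbrev HasSubst' {R : Type} [CommRing R] (g : MvPowerSeries (Fin 2) R) : Prop := PowerSeries.HasSubst g

/-- Chain rule for substitution of a series without constant term into a univariate series. -/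
lemma pderiv_subst {σ R : Type} [CommRing R] (i : σ) {g : MvPowerSeries σ R}
    (hg : MvPowerSeries.constantCoeff g = 0) (f : PowerSeries R) :
    MvPowerSeries.pderiv R i (PowerSeries.subst g f) =
      PowerSeries.subst g (PowerSeries.derivative R f) * MvPowerSeries.pderiv R i g := by
  have hs : PowerSeries.HasSubst g := PowerSeries.HasSubst.of_constantCoeff_zero hg
  ext e
  rw [← sub_eq_zero, ← map_sub]
  set N := e.degree + 1 with hN
  set h : PowerSeries R := PowerSeries.mk fun k => PowerSeries.coeff (k + N) f
  set p : Polynomial R := PowerSeries.trunc N f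
  have hf : f = PowerSeries.X ^ N * h + (p : PowerSeries R) := PowerSeries.eq_X_pow_mul_shift_add_trunc N f
  rw [hf]
  simp only [← PowerSeries.coe_substAlgHom hs, map_add, map_mul, map_pow, Derivation.leibniz, Derivation.leibniz_pow,
    PowerSeries.substAlgHom_X, PowerSeries.substAlgHom_coe, PowerSeries.derivative_coe, Derivation.comp_aeval_eq,
    smul_eq_mul, nsmul_eq_mul, map_natCast, PowerSeries.derivative_X, map_one]
  refine Eq.trans (congrArg (MvPowerSeries.coeff e) (?_ : _ = g ^ N * (MvPowerSeries.pderiv R i (PowerSeries.substAlgHom hs h) -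
    PowerSeries.substAlgHom hs (PowerSeries.derivative R h) * MvPowerSeries.pderiv R i g))) ?_
  · ring
  · refine MvPowerSeries.coeff_of_lt_order (lt_of_lt_of_le ?_ (MvPowerSeries.le_order_mul))
    refine lt_of_lt_of_le ?_ (le_add_right (MvPowerSeries.le_order_pow N))
    have h1 : (1 : ℕ∞) ≤ g.order := by
      rw [ENat.one_le_iff_ne_zero, MvPowerSeries.order_ne_zero_iff_constCoeff_eq_zero]
      exact hg
    calc ((e.degree : ℕ) : ℕ∞) < (N : ℕ∞) := by exact_mod_cast Nat.lt_succ_self _
      _ = N • (1 : ℕ∞) := by simp
      _ ≤ _ := nsmul_le_nsmul_right h1 N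

/-- In formal-power-series form, let R be a commutative ring and F ∈ R⟦X⟧ with constant term 1 whose
linear coefficient a is a unit of R. Suppose that in R⟦X₀, X₁⟧ one has F(X₀ + X₁ · F(X₀)) = F(X₀) ·
F(X₁) (the functional equation F(x + y F(x)) = F(x) F(y)). Then F = 1 + a X. (The published
statement concerns a morphism to the multiplicative group from an open neighbourhood of the zero
section in the additive group over a base scheme, the identity holding on an open neighbourhood of
the origin of the plane on which all terms are defined, with a the derivative at 0; this row states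
it for formal power series over a ring.) -/
theorem result (R : Type) [CommRing R] (F : PowerSeries R)
    (h0 : PowerSeries.constantCoeff F = 1) (ha : IsUnit (PowerSeries.coeff 1 F))
    (hFE : PowerSeries.subst
        (MvPowerSeries.X (0 : Fin 2) + MvPowerSeries.X 1 * PowerSeries.subst (MvPowerSeries.X (0 : Fin 2)) F :
          MvPowerSeries (Fin 2) R) F =
      PowerSeries.subst (MvPowerSeries.X (0 : Fin 2)) F * PowerSeries.subst (MvPowerSeries.X (1 : Fin 2)) F) :
    F = 1 + PowerSeries.C (PowerSeries.coeff 1 F) * PowerSeries.X := by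
  set x : MvPowerSeries (Fin 2) R := MvPowerSeries.X 0 with hxdef
  set y : MvPowerSeries (Fin 2) R := MvPowerSeries.X 1 with hydef
  set a := PowerSeries.coeff 1 F
  set F' := PowerSeries.derivative R F with hF'
  set A := PowerSeries.subst x F
  have hx : MvPowerSeries.constantCoeff x = 0 := MvPowerSeries.constantCoeff_X 0
  have hy : MvPowerSeries.constantCoeff y = 0 := MvPowerSeries.constantCoeff_X 1
  have hu : MvPowerSeries.constantCoeff (x + y * A) = 0 := by simp [hx, hy]
  have hA0 : MvPowerSeries.constantCoeff A = 1 := by
    have := PowerSeries.constantCoeff_subst_eq_zero hx (F - 1) (by simp [h0])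
    have hsub : HasSubst' x := PowerSeries.HasSubst.of_constantCoeff_zero hx
    rw [PowerSeries.subst_sub hsub, ← PowerSeries.coe_substAlgHom hsub, map_one, map_sub, map_one, sub_eq_zero] at this
    simpa [A, PowerSeries.coe_substAlgHom] using this
  have hAu : IsUnit A := MvPowerSeries.isUnit_iff_constantCoeff.mpr (hA0 ▸ isUnit_one)
  -- differentiate in y
  have hDy := congrArg (MvPowerSeries.pderiv R (1 : Fin 2)) hFE
  rw [pderiv_subst 1 hu, Derivation.leibniz, map_add, Derivation.leibniz, pderiv_subst 1 hx,
    pderiv_subst 1 hy] at hDy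
  simp only [x, y, MvPowerSeries.pderiv_X_of_ne (show (0 : Fin 2) ≠ 1 by decide), MvPowerSeries.pderiv_X_self,
    smul_eq_mul, mul_zero, mul_one, zero_add, add_zero] at hDy
  rw [← hF', ← hxdef, ← hydef, mul_comm A] at hDy
  have hy' : PowerSeries.subst (x + y * A) F' = PowerSeries.subst y F' := hAu.mul_right_cancel hDy
  -- differentiate in x
  have hDx := congrArg (MvPowerSeries.pderiv R (0 : Fin 2)) hFE
  rw [pderiv_subst 0 hu, Derivation.leibniz, map_add, Derivation.leibniz, pderiv_subst 0 hx,
    pderiv_subst 0 hy] at hDx
  simp only [x, y, MvPowerSeries.pderiv_X_of_ne (show (1 : Fin 2) ≠ 0 by decide), MvPowerSeries.pderiv_X_self,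
    smul_eq_mul, mul_zero, mul_one, zero_add, add_zero] at hDx
  rw [← hF', ← hxdef, ← hydef, hy'] at hDx
  -- specialise at x = 0 and at y = 0
  have ha0 : PowerSeries.constantCoeff F' = a := by
    rw [← PowerSeries.coeff_zero_eq_constantCoeff_apply, hF', PowerSeries.coeff_derivative]; simp [a]
  have hzero : ∀ G : PowerSeries R, PowerSeries.subst (0 : PowerSeries R) G = PowerSeries.C (PowerSeries.constantCoeff G) := fun G => by
    rw [PowerSeries.subst_zero_eq_C_constantCoeff]; rfl
  -- y = 0
  let vy : Fin 2 → PowerSeries R := ![PowerSeries.X, 0]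
  have hvy : MvPowerSeries.HasSubst vy := MvPowerSeries.hasSubst_of_constantCoeff_zero fun i => by fin_cases i; exacts [PowerSeries.constantCoeff_X, map_zero _]
  have hcomp : ∀ (v : Fin 2 → PowerSeries R) (hv : MvPowerSeries.HasSubst v) (i : Fin 2) (G : PowerSeries R),
      MvPowerSeries.substAlgHom (R := R) (S := R) hv (PowerSeries.subst (MvPowerSeries.X i : MvPowerSeries (Fin 2) R) G) = PowerSeries.subst (v i) G := by
    intro v hv i G
    rw [MvPowerSeries.substAlgHom_apply, PowerSeries.subst_def, PowerSeries.subst_def,
      MvPowerSeries.subst_comp_subst_apply (PowerSeries.HasSubst.X (S := R) i).const hv]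
    congr 1
    funext _
    exact MvPowerSeries.subst_X hv i
  have hconst : F' = PowerSeries.C a := by
    have := congrArg (MvPowerSeries.substAlgHom (R := R) hvy) hDx
    simp only [map_mul, map_add, map_one, hcomp vy hvy, x, y, A, MvPowerSeries.substAlgHom_apply, MvPowerSeries.subst_X hvy] at this
    simp [vy, hzero, ha0, h0, PowerSeries.X_subst] at this
    exact this.symm
  let vx : Fin 2 → PowerSeries R := ![0, PowerSeries.X]
  have hvx : MvPowerSeries.HasSubst vx := MvPowerSeries.hasSubst_of_constantCoeff_zero fun i => by fin_cases i; exacts [map_zero _, PowerSeries.constantCoeff_X]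
  have := congrArg (MvPowerSeries.substAlgHom (R := R) hvx) hDx
  simp only [map_mul, map_add, map_one, hcomp vx hvx, x, y, A, MvPowerSeries.substAlgHom_apply, MvPowerSeries.subst_X hvx] at this
  simp [vx, hzero, ha0, PowerSeries.X_subst] at this
  rw [hconst] at this
  have hau : IsUnit (PowerSeries.C a) := ha.map PowerSeries.C
  refine hau.mul_left_cancel ?_
  linear_combination -this

end Groth.Agent.S12056
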