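import Groth.Statements.S12058
import Mathlib
-- import your own Groth.Agent.* helpers here

set_option autoImplicit false
universe w v u
open CategoryTheory CategoryTheory.Limits CategoryTheory.Abelian
open SGA3

namespace Groth.Agent.S12058

/-- In an abelian category, let 0 → A' → A → A'' → 0 be a short exact sequence, φ : A' ⟶ Q a morphism
and π : A'' ⟶ P an epimorphism with kernel C. Consider the quadruples (B, f, g, h) with 0 → Q → B →
P → 0 short exact (maps f, g) and h : A ⟶ B such that the squares commute: (A' → A → B) = (A' → Q →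
B) and (A → B → P) = (A → A'' → P). Such a quadruple exists if and only if the image in Ext¹(C, Q)
of the class of the given extension in Ext¹(A'', A') (push forward along φ, pull back along the
inclusion C → A'') is zero. -/
theorem result {C : Type u} [Category.{v} C] [Abelian C]
    [HasExt.{w} C] {S : ShortComplex C} (hS : S.ShortExact) {Q P : C} (φ : S.X₁ ⟶ Q) (π : S.X₃ ⟶ P) [Epi π] :
    (∃ (B : C) (f : Q ⟶ B) (g : B ⟶ P) (h : S.X₂ ⟶ B) (w : f ≫ g = 0),
        (ShortComplex.mk f g w).ShortExact ∧ S.f ≫ h = φ ≫ f ∧ h ≫ g = S.g ≫ π) ↔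
      (Ext.mk₀ (kernel.ι π)).comp (hS.extClass.comp (Ext.mk₀ φ) (add_zero 1)) (zero_add 1) = 0 := by
  constructor
  · rintro ⟨B, f, g, h, w, hT, h₁, h₂⟩
    have := ShortComplex.ShortExact.extClass_naturality hS hT
      ({ τ₁ := φ, τ₂ := h, τ₃ := π, comm₁₂ := h₁.symm, comm₂₃ := h₂ } : S ⟶ ShortComplex.mk f g w)
    rw [this, ← Ext.comp_assoc_of_second_deg_zero, Ext.mk₀_comp_mk₀, kernel.condition, Ext.mk₀_zero,
      Ext.zero_comp]
  · intro hx
    haveI := hS.mono_f
    haveI := hS.epi_g
    -- the pushed out extension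
    let g₀ : pushout φ S.f ⟶ S.X₃ := pushout.desc 0 S.g (by simp)
    have hinl : pushout.inl φ S.f ≫ g₀ = 0 := pushout.inl_desc _ _ _
    have hinr : pushout.inr φ S.f ≫ g₀ = S.g := pushout.inr_desc _ _ _
    haveI : Epi g₀ := by
      have : Epi (pushout.inr φ S.f ≫ g₀) := hinr ▸ inferInstance
      exact epi_of_epi (pushout.inr φ S.f) g₀
    let T := ShortComplex.mk (pushout.inl φ S.f) g₀ hinl
    have hT₀ : T.Exact := by
      apply ShortComplex.exact_of_g_is_cokernel
      refine CokernelCofork.IsColimit.ofπ' _ _ fun {K} k hk => ?_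
      have hk' : S.f ≫ pushout.inr φ S.f ≫ k = 0 := by
        rw [← pushout.condition_assoc, hk, comp_zero]
      obtain ⟨l, hl⟩ := CokernelCofork.IsColimit.desc' hS.gIsCokernel _ hk'
      refine ⟨l, pushout.hom_ext ?_ ?_⟩
      · rw [← Category.assoc, hinl, zero_comp, hk]
      · rw [← Category.assoc, hinr]; exact hl
    haveI : Mono T.f := inferInstanceAs (Mono (pushout.inl φ S.f))
    haveI : Epi T.g := inferInstanceAs (Epi g₀)
    have hT : T.ShortExact := { exact := hT₀ }
    have hnat := ShortComplex.ShortExact.extClass_naturality hS hT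
      ({ τ₁ := φ, τ₂ := pushout.inr φ S.f, τ₃ := 𝟙 _, comm₁₂ := pushout.condition,
         comm₂₃ := by simp [T, hinr] } : S ⟶ T)
    rw [Ext.mk₀_id_comp] at hnat
    rw [hnat] at hx
    obtain ⟨x₂, hx₂⟩ := Ext.covariant_sequence_exact₃ _ hT (Ext.mk₀ (kernel.ι π)) (zero_add 1) hx
    obtain ⟨σ, rfl⟩ := Ext.homEquiv₀.symm.surjective x₂
    simp only [Ext.homEquiv₀_symm_apply, Ext.mk₀_comp_mk₀] at hx₂
    have hσ : σ ≫ g₀ = kernel.ι π := (Ext.mk₀_bijective _ _).1 hx₂
    haveI : Mono σ := mono_of_mono_fac hσ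
    let f : Q ⟶ cokernel σ := pushout.inl φ S.f ≫ cokernel.π σ
    let g : cokernel σ ⟶ P := cokernel.desc σ (g₀ ≫ π) (by rw [reassoc_of% hσ, kernel.condition])
    have w : f ≫ g = 0 := by simp [f, g, reassoc_of% hinl]
    refine ⟨cokernel σ, f, g, pushout.inr φ S.f ≫ cokernel.π σ, w, ?_, ?_, ?_⟩
    · haveI : Mono f := by
        refine Preadditive.mono_of_cancel_zero _ fun {K} x hx => ?_
        have hx' : (x ≫ pushout.inl φ S.f) ≫ cokernel.π σ = 0 := by simpa [f] using hx
        obtain ⟨y, hy⟩ : ∃ y, y ≫ σ = x ≫ pushout.inl φ S.f :=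
          ⟨(ShortComplex.exact_cokernel σ).lift _ hx', (ShortComplex.exact_cokernel σ).lift_f _ hx'⟩
        have : y ≫ kernel.ι π = 0 := by rw [← hσ, ← Category.assoc, hy, Category.assoc, hinl, comp_zero]
        rw [← cancel_mono (pushout.inl φ S.f), ← hy, (cancel_mono (kernel.ι π)).1 (this.trans zero_comp.symm)]
        simp
      haveI : Epi g := by
        have e : cokernel.π σ ≫ g = g₀ ≫ π := cokernel.π_desc _ _ _
        have : Epi (cokernel.π σ ≫ g) := by rw [e]; infer_instance
        exact epi_of_epi (cokernel.π σ) g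
      refine { exact := ?_ }
      apply ShortComplex.exact_of_g_is_cokernel
      refine CokernelCofork.IsColimit.ofπ' _ _ fun {K} k hk => ?_
      have hk' : pushout.inl φ S.f ≫ cokernel.π σ ≫ k = 0 := by simpa [f] using hk
      obtain ⟨k', hk₁⟩ := CokernelCofork.IsColimit.desc' hT.gIsCokernel _ hk'
      change g₀ ≫ k' = _ at hk₁
      have hk₂ : kernel.ι π ≫ k' = 0 := by
        rw [← hσ, Category.assoc, hk₁, cokernel.condition_assoc, zero_comp]
      obtain ⟨l, hl⟩ := CokernelCofork.IsColimit.desc' (Abelian.epiIsCokernelOfKernel _ (kernelIsKernel π)) _ hk₂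
      change π ≫ l = _ at hl
      refine ⟨l, coequalizer.hom_ext ?_⟩
      change cokernel.π σ ≫ g ≫ l = cokernel.π σ ≫ k
      rw [cokernel.π_desc_assoc, Category.assoc, hl, hk₁]
    · simp [f, pushout.condition_assoc]
    · simp [g, reassoc_of% hinr]

end Groth.Agent.S12058
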