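import Groth.Statements.S1206
import Groth.Agent.Lib.Misc6.Small
import Mathlib.RingTheory.Localization.Ideal
-- import your own Groth.Agent.* helpers here

set_option autoImplicit false
universe u
open FlatMor

namespace Groth.Agent.S1206

/-- Let A be a local domain which is not a field and 𝒮 a set of finitely generated ideals of A, closed
under products, such that the union of the closed sets V(I), I ∈ 𝒮, is exactly the set of nonzero
primes (every nonzero prime contains a member of 𝒮 and no member is zero). Then the intersection of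
all members of 𝒮 is zero. -/
theorem result (A : Type u) [CommRing A] [IsDomain A] [IsLocalRing A] (hA : ¬ IsField A)
    (𝒮 : Set (Ideal A)) (hfg : ∀ I ∈ 𝒮, I.FG) (hmul : ∀ I ∈ 𝒮, ∀ J ∈ 𝒮, I * J ∈ 𝒮)
    (hne : ∀ I ∈ 𝒮, I ≠ ⊥) (hcov : ∀ (p : Ideal A), p.IsPrime → p ≠ ⊥ → ∃ I ∈ 𝒮, I ≤ p) :
    sInf 𝒮 = ⊥ := by
  by_contra hne'
  obtain ⟨x, hx, hx0⟩ := Submodule.exists_mem_ne_zero_of_ne_bot hne'
  obtain ⟨I₀, hI₀, hI₀m⟩ := hcov (IsLocalRing.maximalIdeal A) inferInstance
    (fun h => hA (IsLocalRing.isField_iff_maximalIdeal_eq.mpr h))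
  have hxm : x ∈ IsLocalRing.maximalIdeal A := hI₀m (Ideal.mem_sInf.mp hx hI₀)
  obtain ⟨p, hp, -⟩ := Ideal.exists_minimalPrimes_le (I := Ideal.span {x}) (J := IsLocalRing.maximalIdeal A)
    ((Ideal.span_singleton_le_iff_mem _).mpr hxm)
  haveI := hp.1.1
  obtain ⟨I, hI, hIp⟩ := hcov p inferInstance (fun h => hx0 (by
    have := hp.1.2 (Ideal.mem_span_singleton_self x)
    rwa [h, Submodule.mem_bot] at this))
  have hpow : ∀ n : ℕ, 1 ≤ n → I ^ n ∈ 𝒮 := by
    intro n hn
    induction n, hn using Nat.le_induction with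
    | base => rwa [pow_one]
    | succ n _ ih => rw [pow_succ]; exact hmul _ ih _ hI
  let L := Localization.AtPrime p
  have hinj : Function.Injective (algebraMap A L) := IsLocalization.injective L p.primeCompl_le_nonZeroDivisors
  refine GrothLib.Misc6.not_forall_mem_pow (D := L) (x := algebraMap A L x)
    (fun h => hx0 (hinj (h.trans (map_zero _).symm))) (fun hu => ?_) ((hfg I hI).map (algebraMap A L)) ?_ fun n hn => ?_
  · exact ((IsLocalization.AtPrime.isUnit_to_map_iff L p x).mp hu) (hp.1.2 (Ideal.mem_span_singleton_self x))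
  · have hrad := IsLocalization.AtPrime.radical_map_of_mem_minimalPrimes L p _ hp
    rw [← Set.image_singleton, ← Ideal.map_span, hrad]
    exact Ideal.map_mono hIp
  · rw [← Ideal.map_pow]
    exact Ideal.mem_map_of_mem _ (Ideal.mem_sInf.mp hx (hpow n hn))

end Groth.Agent.S1206
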