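import Groth.Statements.S12060
import Groth.Agent.Lib.GModStable14.Proj

set_option autoImplicit false
universe u
open CategoryTheory MonObj GrpObj AlgebraicGeometry
open scoped TensorProduct
open SGA3

namespace Groth.Agent.S12060

/-- Let R be a commutative ring, G a group scheme over Spec R which is flat, quasi-compact and
quasi-separated over Spec R (not necessarily affine) and whose ring of global functions, as an
R-module through the structure map, is projective; let E be a flat R-module with a G-module
structure (for every R-algebra B, a natural action of the B-points of G on B ⊗_R E by B-linear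
automorphisms) and M a finitely generated R-submodule of E. Then M is contained in a finitely
generated submodule N of E stable under G: for every R-algebra B and every B-valued point g of G,
the action of g carries the image of B ⊗_R N in B ⊗_R E into itself. Equivalently E is the filtered
union of its finitely generated G-stable submodules. (The published statement is over a
quasi-compact quasi-separated base scheme with quasi-coherent modules and a locally projective
algebra of functions of G, and also covers the case of G affine and flat with no flatness assumption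
on E; this row is the case of G flat, quasi-compact and quasi-separated and E flat, over an affine
base, with affine test schemes.) -/
theorem result (R : Type u) [CommRing R]
    (G : Over (Spec (CommRingCat.of R))) [GrpObj G] [Flat G.hom] [QuasiCompact G.hom] [QuasiSeparated G.hom]
    (hA : letI : Algebra R Γ(G.left, ⊤) :=
        (((Scheme.ΓSpecIso (CommRingCat.of R)).inv ≫ G.hom.appTop).hom).toAlgebra;
      Module.Projective R Γ(G.left, ⊤))
    (E : Type u) [AddCommGroup E] [Module R E] [Module.Flat R E] (m : VecGrp.GMod G E)
    (M : Submodule R E) (hM : M.FG) :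
    ∃ N : Submodule R E, M ≤ N ∧ N.FG ∧
      ∀ (B : Type u) [CommRing B] [Algebra R B] (g : VecGrp.pt R B ⟶ G) (x : E), x ∈ N →
        m.ρ B g ((1 : B) ⊗ₜ[R] x) ∈ LinearMap.range (N.subtype.baseChange B) := by
  classical
  letI : ∀ V : G.left.Opens, Algebra R Γ(G.left, V) := GrothLib.GModStable14.secAlg G
  haveI : Module.Projective R Γ(G.left, (⊤ : G.left.Opens)) := by
    have h := hA
    rw [← GrothLib.GModStable14.secAlg_top] at h
    exact h
  obtain ⟨K⟩ := GrothLib.GModStable14.nonempty_cov G
  obtain ⟨S, hS⟩ := hM
  choose z hz using fun s : S => GrothLib.GModStable14.exists_coact K m (s : E)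
  choose T hT using fun s : S => GrothLib.GModStable14.exists_content (z s)
  let y : (Σ s : S, T s) → E := fun q => TensorProduct.rid R E (q.2.1.lTensor E (z q.1))
  let N : Submodule R E := Submodule.span R (Set.range y)
  have hNfg : N.FG := Submodule.fg_span (Set.finite_range y)
  have hzN : ∀ s, z s ∈ LinearMap.range (N.subtype.rTensor Γ(G.left, (⊤ : G.left.Opens))) := by
    intro s
    obtain ⟨n, hn⟩ := hT s
    have hle : Submodule.span R (Set.range fun φ : T s => TensorProduct.rid R E (φ.1.lTensor E (z s))) ≤ N :=
      Submodule.span_mono (by rintro _ ⟨φ, rfl⟩; exact ⟨⟨s, φ⟩, rfl⟩)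
    exact ⟨(Submodule.inclusion hle).rTensor _ n, by
      rw [← LinearMap.comp_apply, ← LinearMap.rTensor_comp, Submodule.subtype_comp_inclusion, hn]⟩
  have hcoord : ∀ s (φ : Γ(G.left, (⊤ : G.left.Opens)) →ₗ[R] R), TensorProduct.rid R E (φ.lTensor E (z s)) ∈ N := by
    intro s φ
    obtain ⟨n, hn⟩ := hzN s
    rw [← hn]
    clear hn
    induction n using TensorProduct.induction_on with
    | zero => simp
    | add p q hp hq => simp only [map_add]; exact add_mem hp hq
    | tmul e a => simp only [LinearMap.rTensor_tmul, LinearMap.lTensor_tmul, TensorProduct.rid_tmul]; exact N.smul_mem _ e.2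
  refine ⟨N, ?_, hNfg, ?_⟩
  · rw [← hS, Submodule.span_le]
    intro s hs
    have h := GrothLib.GModStable14.ρ_eq_coact K m (hz ⟨s, hs⟩) (1 : VecGrp.pt R R ⟶ G)
    rw [map_one, LinearEquiv.coe_one, id_eq] at h
    have h2 := congrArg (TensorProduct.lid R E) h
    rw [TensorProduct.lid_tmul, one_smul] at h2
    show (↑(⟨s, hs⟩ : S) : E) ∈ N
    rw [h2]
    rw [show ∀ w : TensorProduct R E R, TensorProduct.lid R E (TensorProduct.comm R E R w) = TensorProduct.rid R E w from
      fun w => (LinearMap.congr_fun (TensorProduct.ext' fun e r => by simp :
        (TensorProduct.lid R E).toLinearMap ∘ₗ (TensorProduct.comm R E R).toLinearMap = (TensorProduct.rid R E).toLinearMap) w)]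
    exact hcoord _ _
  · intro B _ _ g x hx
    let P : Submodule R E :=
      { carrier := {x | m.ρ B g ((1 : B) ⊗ₜ[R] x) ∈ LinearMap.range (N.subtype.baseChange B)}
        add_mem' := fun {p q} hp hq => by
          simp only [Set.mem_setOf_eq, TensorProduct.tmul_add, map_add] at hp hq ⊢
          exact add_mem hp hq
        zero_mem' := ⟨0, by simp⟩
        smul_mem' := fun r p hp => by
          simp only [Set.mem_setOf_eq] at hp ⊢
          rw [show (1 : B) ⊗ₜ[R] (r • p) = (algebraMap R B r) • ((1 : B) ⊗ₜ[R] p) by
            rw [TensorProduct.tmul_smul]; exact (algebraMap_smul B r _).symm, map_smul]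
          exact Submodule.smul_mem _ _ hp }
    suffices h : N ≤ P from h hx
    rw [Submodule.span_le]
    rintro _ ⟨⟨s, φ⟩, rfl⟩
    show m.ρ B g _ ∈ LinearMap.range _
    refine GrothLib.GModStable14.mem_range_of_local N _ fun p => ?_
    obtain ⟨b, hb⟩ := K.cover (g.left.base p)
    obtain ⟨f, hf, ψ, hψ⟩ := GrothLib.GModStable14.exists_local_factor g (GrothLib.GModStable14.chart (K.hU b)) p
      (by show _ ∈ Set.range (K.hU b).fromSpec.base; rw [(K.hU b).range_fromSpec]; exact hb)
    refine ⟨f, hf, ?_⟩
    rw [m.naturality, hψ, VecGrp.Wmap_tmul, map_one]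
    have := GrothLib.GModStable14.Wmap_mem_range N ψ
      (GrothLib.GModStable14.coact_content_stable K m (hz s) N (hzN s) φ.1 b)
    rw [m.naturality, VecGrp.Wmap_tmul, map_one] at this
    exact this

end Groth.Agent.S12060
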