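import Groth.Statements.S12061
-- import your own Groth.Agent.* helpers here
import Groth.Agent.Lib.Chev24.BorelRadGeom

set_option autoImplicit false
universe u
open CategoryTheory MonoidalCategory CartesianMonoidalCategory MonObj GrpObj AlgebraicGeometry
open SGA3x

namespace Groth.Agent.S12061

/-- Let k be a field, G and G′ smooth connected k-group schemes of finite type and u : G → G′ a
faithfully flat homomorphism whose kernel, after base change to an algebraic closure of k, is
contained in the radical of G, i.e. in some smooth connected solvable normal subgroup. Then B′ ↦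
u⁻¹(B′) sends Borel subgroups of G′ (subgroup schemes, smooth of finite type over k, whose geometric
fibre is a Borel subgroup) to Borel subgroups of G, and every Borel subgroup of G arises in this
way: if B′ is a Borel subgroup of G′ and B is a k-group scheme with homomorphisms b : B → G and v :
B → B′ making B = G ×_{G′} B′, then B is a Borel subgroup of G; and every Borel subgroup of G is
such an inverse image of some Borel subgroup of G′. (The published statement says that B′ ↦ u⁻¹(B′)
is a bijection; its injectivity, a consequence of faithful flatness of u, is not stated here.) -/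
theorem result (k : Type u) [Field k] (G G' : Over (Spec (CommRingCat.of k)))
    [GrpObj G] [GrpObj G'] [Smooth G.hom] [QuasiCompact G.hom] [Smooth G'.hom] [QuasiCompact G'.hom]
    [ConnectedSpace ↥G.left] [ConnectedSpace ↥G'.left]
    (u : G ⟶ G') [IsMonHom u] [Flat u.left] [Surjective u.left]
    (hrad : ∀ s : ↥(Spec (CommRingCat.of k)), ∃ (R : Over (Spec (CommRingCat.of (AlgebraicClosure ((Spec (CommRingCat.of k)).residueField s)))))
      (_ : GrpObj R) (r : R ⟶ Red.geomFibre s G), IsMonHom r ∧ IsClosedImmersion r.left ∧ Smooth R.hom ∧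
      ConnectedSpace ↥R.left ∧ Red.IsSolvableGrp R ∧
      (∀ (X : Over (Spec (CommRingCat.of (AlgebraicClosure ((Spec (CommRingCat.of k)).residueField s))))) (g : X ⟶ Red.geomFibre s G)
        (x : X ⟶ R), ∃ x' : X ⟶ R, g * (x ≫ r) * g⁻¹ = x' ≫ r) ∧
      (∀ (X : Over (Spec (CommRingCat.of (AlgebraicClosure ((Spec (CommRingCat.of k)).residueField s))))) (g : X ⟶ Red.geomFibre s G),
        g ≫ (Over.pullback (Red.geomPt s)).map u = 1 → ∃ x : X ⟶ R, x ≫ r = g)) :
    (∀ (B' : Over (Spec (CommRingCat.of k))) [GrpObj B'] (b' : B' ⟶ G'), (IsMonHom b' ∧ Mono b' ∧ Smooth B'.hom ∧ QuasiCompact B'.hom ∧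
      ∀ s : ↥(Spec (CommRingCat.of k)), Red.IsBorelOver (AlgebraicClosure ((Spec (CommRingCat.of k)).residueField s)) ((Over.pullback (Red.geomPt s)).map b')) →
      ∀ (B : Over (Spec (CommRingCat.of k))) [GrpObj B] (b : B ⟶ G) [IsMonHom b] (v : B ⟶ B') [IsMonHom v], IsPullback b v u b' →
      (IsMonHom b ∧ Mono b ∧ Smooth B.hom ∧ QuasiCompact B.hom ∧
      ∀ s : ↥(Spec (CommRingCat.of k)), Red.IsBorelOver (AlgebraicClosure ((Spec (CommRingCat.of k)).residueField s)) ((Over.pullback (Red.geomPt s)).map b))) ∧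
    (∀ (B : Over (Spec (CommRingCat.of k))) [GrpObj B] (b : B ⟶ G), (IsMonHom b ∧ Mono b ∧ Smooth B.hom ∧ QuasiCompact B.hom ∧
      ∀ s : ↥(Spec (CommRingCat.of k)), Red.IsBorelOver (AlgebraicClosure ((Spec (CommRingCat.of k)).residueField s)) ((Over.pullback (Red.geomPt s)).map b)) →
      ∃ (B' : Over (Spec (CommRingCat.of k))) (_ : GrpObj B') (b' : B' ⟶ G') (v : B ⟶ B'), (IsMonHom b' ∧ Mono b' ∧ Smooth B'.hom ∧ QuasiCompact B'.hom ∧
      ∀ s : ↥(Spec (CommRingCat.of k)), Red.IsBorelOver (AlgebraicClosure ((Spec (CommRingCat.of k)).residueField s)) ((Over.pullback (Red.geomPt s)).map b')) ∧ IsMonHom v ∧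
        IsPullback b v u b') := by
  have hne : Nonempty ↥(Spec (CommRingCat.of k)) := inferInstanceAs (Nonempty (PrimeSpectrum k))
  let s₀ := Classical.arbitrary ↥(Spec (CommRingCat.of k))
  have hq : ∀ s : ↥(Spec (CommRingCat.of k)), Surjective (Red.geomPt s) ∧ Flat (Red.geomPt s) ∧
      QuasiCompact (Red.geomPt s) := fun s =>
    ⟨GrothLib.Flag27.surjective_to_field _, GrothLib.Flag27.flat_to_field _, inferInstance⟩
  haveI := (hq s₀).1
  haveI := (hq s₀).2.1
  haveI := (hq s₀).2.2
  refine ⟨?_, ?_⟩
  · intro B' _ b' hb' B _ b _ v _ sq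
    obtain ⟨-, hbm, hbs, hbq, hbor⟩ := hb'
    have hgeo : ∀ s, Red.IsBorelOver (AlgebraicClosure ((Spec (CommRingCat.of k)).residueField s))
        ((Over.pullback (Red.geomPt s)).map b) := fun s => by
      obtain ⟨R, _, r, hr, hrc, hRs, hRconn, hRsolv, hn, hK⟩ := hrad s
      haveI := hr; haveI := hrc; haveI := hRs; haveI := hRconn
      exact GrothLib.Chev24.isBorelOver_preimage_geom (Red.geomPt s) u r hRsolv hn hK b b' v sq (hbor s)
    have sqL : IsPullback b.left v.left u.left b'.left := sq.map (Over.forget _)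
    haveI : QuasiCompact b'.left := by
      haveI : IsSeparated G'.hom := GrothLib.GrpSchField.isSeparated G'
      haveI : QuasiCompact (b'.left ≫ G'.hom) := by rw [Over.w]; exact hbq
      exact QuasiCompact.of_comp _ G'.hom
    haveI : QuasiCompact b.left := MorphismProperty.of_isPullback sqL.flip ‹QuasiCompact b'.left›
    refine ⟨inferInstance, MorphismProperty.of_isPullback (P := MorphismProperty.monomorphisms _) sq.flip hbm,
      GrothLib.Flag27.smooth_of_smooth_bc (Red.geomPt s₀) B (hgeo s₀).2.2.1, ?_, hgeo⟩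
    rw [← Over.w b]
    infer_instance
  · intro B _ b hb
    obtain ⟨hbh, hbm, hbs, hbq, hbor⟩ := hb
    haveI := hbh; haveI := hbm; haveI := hbs; haveI := hbq
    obtain ⟨R, _, r, hr, hrc, hRs, hRconn, hRsolv, hn, hK⟩ := hrad s₀
    haveI := hr; haveI := hrc; haveI := hRs; haveI := hRconn
    obtain ⟨B', _, b', v, hb', hv', hb'c, hB's, hB'q, hvs, hvb, hsq⟩ :=
      GrothLib.Chev24.exists_image_borel_geom (Red.geomPt s₀) u r hRsolv hn hK b (hbor s₀)
    haveI := hb'; haveI := hv'; haveI := hb'c; haveI := hB's; haveI := hvs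
    refine ⟨B', inferInstance, b', v, ⟨hb', Over.mono_of_mono_left b', hB's, hB'q, fun s => ?_⟩, hv', hsq⟩
    obtain ⟨R', _, r', hr', hrc', hRs', hRconn', hRsolv', hn', hK'⟩ := hrad s
    haveI := hr'; haveI := hrc'; haveI := hRs'; haveI := hRconn'
    haveI := (hq s).1
    haveI := (hq s).2.1
    haveI := (hq s).2.2
    exact GrothLib.Chev24.isBorelOver_image_geom (Red.geomPt s) u r' hRsolv' hn' hK' (hbor s) b' v hvb

end Groth.Agent.S12061
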