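import Groth.Statements.S1207
import Groth.Agent.Lib.Misc6.Small
import Mathlib.RingTheory.Ideal.Quotient.Basic
-- import your own Groth.Agent.* helpers here

set_option autoImplicit false
universe u
open FlatMor

namespace Groth.Agent.S1207

/-- Let A be a local ring and I, J ideals of A with J finitely generated, J ≠ A, and I ⊆ J^n for all n ≥
1. Then every prime p not containing J which is maximal among the primes not containing J (a closed
point of Spec A ∖ V(J)) contains I. (The published statement leaves the hypothesis J ≠ A implicit;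
for J = A the assertion fails.) -/
theorem result (A : Type u) [CommRing A] [IsLocalRing A] (I J : Ideal A) (hJ : J.FG) (hJ1 : J ≠ ⊤)
    (hI : ∀ n : ℕ, 1 ≤ n → I ≤ J ^ n) (p : Ideal A) [p.IsPrime] (hp : ¬ J ≤ p)
    (hmax : ∀ (p' : Ideal A), p'.IsPrime → p ≤ p' → ¬ J ≤ p' → p' = p) : I ≤ p := by
  intro x hx
  by_contra hxp
  let q := Ideal.Quotient.mk p
  have hle : J.map q ≤ (Ideal.span {q x}).radical := by
    rw [Ideal.radical_eq_sInf]
    refine le_sInf fun P ⟨hP, hPp⟩ => ?_
    rw [Ideal.map_le_iff_le_comap]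
    by_contra hJP
    haveI := hPp
    have hle : p ≤ P.comap q := fun y hy => by
      rw [Ideal.mem_comap, Ideal.Quotient.eq_zero_iff_mem.mpr hy]
      exact P.zero_mem
    have := hmax (P.comap q) inferInstance hle hJP
    exact hxp (this ▸ Ideal.mem_comap.mpr (hP (Ideal.mem_span_singleton_self _)))
  refine GrothLib.Misc6.not_forall_mem_pow (x := q x) (fun h => hxp (Ideal.Quotient.eq_zero_iff_mem.mp h))
    (fun hu => ?_) (hJ.map q) hle fun n hn => ?_
  · have hxm : x ∈ IsLocalRing.maximalIdeal A := IsLocalRing.le_maximalIdeal hJ1 (by simpa using hI 1 le_rfl hx)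
    obtain ⟨y, hy⟩ := Ideal.Quotient.mk_surjective (hu.unit⁻¹).1
    have h1 : q (x * y) = 1 := by rw [map_mul, hy]; exact hu.mul_val_inv
    have h2 : 1 - x * y ∈ p := Ideal.Quotient.eq.mp h1.symm
    exact (IsLocalRing.mem_maximalIdeal _).mp (IsLocalRing.le_maximalIdeal (Ideal.IsPrime.ne_top ‹_›) h2)
      (IsLocalRing.isUnit_one_sub_self_of_mem_nonunits _ ((IsLocalRing.maximalIdeal A).mul_mem_right y hxm))
  · rw [← Ideal.map_pow]
    exact Ideal.mem_map_of_mem q (hI n hn hx)

end Groth.Agent.S1207
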