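import Groth.Statements.S12070
import Groth.Agent.S5184
import Groth.Agent.S2944
import Groth.Agent.S0250
import Groth.Agent.LefZero21.Basic
import Groth.Agent.Lib.LeffAmp7.Kernel
import Groth.Agent.Lib.LefEt7.FullFaith

set_option autoImplicit false
universe u
open Pi1

namespace Groth.Agent.S12070

open AlgebraicGeometry CategoryTheory CategoryTheory.Limits in
/-- Let X be a proper scheme over a field k, L an ample O_X-module, t a global section of L which is
regular (the map O_X → L it defines is a monomorphism) and X_0 = Z(t) its zero scheme. Assume that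
the local ring of X at every closed point has depth ≥ 2, that it has depth ≥ 3 at every closed point
of X_0, and that purity holds for the local ring of X at every closed point not in X_0 (for instance
a regular local ring or a complete intersection). Then restriction of finite étale covers from X to
X_0 is an equivalence of categories; in particular, for a geometric base point on X_0, π_1(X_0) →
π_1(X) is an isomorphism. (The published statement is phrased with π_0 and π_1; this row states the
equivalence of the categories of finite étale covers that underlies it.) -/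
theorem result (k : Type u) [Field k] (X : Scheme.{u})
    (f : X ⟶ Spec (CommRingCat.of k)) [IsProper f] (L : X.Modules) (hL : CohB1.IsAmple L)
    (s : Coh.structureModule X ⟶ L) [Mono s]
    (hd2 : ∀ x : X, IsClosed ({x} : Set X) → (2 : ℕ∞) ≤ LocCoh.depth (X.presheaf.stalk x) (X.presheaf.stalk x))
    (hd3 : ∀ x : X, IsClosed ({x} : Set X) → x ∈ (PicF2.zeroScheme L s).support →
      (3 : ℕ∞) ≤ LocCoh.depth (X.presheaf.stalk x) (X.presheaf.stalk x))
    (hp : ∀ x : X, IsClosed ({x} : Set X) → x ∉ (PicF2.zeroScheme L s).support →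
      FEt.PurityHolds (X.presheaf.stalk x)) :
    (FEt.restrict (PicF2.zeroScheme L s).subschemeι).IsEquivalence := by
  letI : X.Over (Spec (CommRingCat.of k)) := ⟨f⟩
  haveI : IsProper (X ↘ Spec (CommRingCat.of k)) := ‹IsProper f›
  haveI : IsNoetherian X := GrothLib.Euler.isNoetherian_of_proper (X := X) k
  have hinv := GrothLib.LefZero21.isInverseOf hL.1 s
  have hI := GrothLib.LefAmp7.isInvertible_idealMod_of_inverse hL.1 hinv
  have hcart := GrothLib.LefZero21.isEffCartier hL.1 s
  have hY : ∀ x : X, IsClosed ({x} : Set X) → (2 : ℕ∞) ≤ LocCoh.depth (X.presheaf.stalk x)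
      ((ClSub.quotMod (X := X) (PicF2.zeroScheme L s ^ (0 + 1))).presheaf.stalk x) := by
    intro x hx
    rw [zero_add, pow_one]
    exact GrothLib.LefZero21.depth_quot_stalk hcart x (n := 2) (hd3 x hx)
  have hLef := Groth.Agent.S2944.result k X (PicF2.zeroScheme L s) L hinv hL hd2
  have hLeff : LefX.LeffCond X (PicF2.zeroScheme L s) := ⟨hLef, fun 𝔐 h𝔐 =>
    GrothLib.LeffAmp7.exists_bundle_of_ample k hL (PicF2.zeroScheme L s) hinv hd2 hY 𝔐 h𝔐⟩
  obtain ⟨hfull, hfaith⟩ := GrothLib.LefEt7.fullyFaithful_restrict (PicF2.zeroScheme L s)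
    (fun D hD => GrothLib.LefAmp7.homBij_of_isCoh k (PicF2.zeroScheme L s) hinv hL hd2
      (GrothLib.Euler.isCoh_of_isFinLocFree hD))
  haveI := hfull
  haveI := hfaith
  haveI : (FEt.restrict (PicF2.zeroScheme L s).subschemeι).EssSurj := by
    refine ⟨fun R => ?_⟩
    obtain ⟨U, R', hU, hiso⟩ := Groth.Agent.S5184.result X _ hLeff R
    haveI := Groth.Agent.S0250.result U (fun x hx => hp x
      (GrothLib.LefAmp7.isClosed_of_notMem k _ hinv hI hL hU hx) fun h => hx (hU h))
    let i : (PicF2.zeroScheme L s).subscheme ⟶ (U : Scheme.{u}) :=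
      IsOpenImmersion.lift U.ι (PicF2.zeroScheme L s).subschemeι (by
        rw [Scheme.Opens.range_ι, Scheme.IdealSheafData.range_subschemeι]; exact hU)
    have hi : i ≫ U.ι = (PicF2.zeroScheme L s).subschemeι := IsOpenImmersion.lift_fac _ _ _
    obtain ⟨e⟩ := hiso i hi
    refine ⟨(FEt.restrict U.ι).objPreimage R', ⟨?_ ≪≫ (FEt.restrict i).mapIso
      ((FEt.restrict U.ι).objObjPreimageIso R') ≪≫ e⟩⟩
    exact ((MorphismProperty.Over.pullbackCongr (P := FEt.prop) (Q := ⊤) hi.symm ≪≫
      MorphismProperty.Over.pullbackComp (P := FEt.prop) (Q := ⊤) i U.ι).app _)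
  exact { }

end Groth.Agent.S12070
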