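import Groth.Statements.S12071
import Mathlib.GroupTheory.Archimedean
import Groth.Agent.Lib.RootDatum.Quad

set_option autoImplicit false
open RootD

namespace Groth.Agent.S12071

open GrothLib.RootDatum


/-- Let G be the group generated by two elements x, y subject to x² = y² = 1 (the infinite dihedral
group; here Mathlib's DihedralGroup 0 with x = sr 0 and y = sr 1, so that x y = r 1). Then every
normal subgroup of G containing neither x nor y is generated by an element (x y)^n with n > 0; such
a subgroup is cyclic, generated by r n. (The published statement does not exclude the trivial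
subgroup, for which no n > 0 works; this row assumes the subgroup nontrivial.) -/
theorem result (N : Subgroup (DihedralGroup 0)) [N.Normal]
    (hN : N ≠ ⊥) (hx : DihedralGroup.sr (0 : ZMod 0) ∉ N) (hy : DihedralGroup.sr (1 : ZMod 0) ∉ N) :
    ∃ n : ℕ, 0 < n ∧ N = Subgroup.zpowers (DihedralGroup.r (n : ZMod 0)) := by
  have hsr : ∀ k : ℤ, DihedralGroup.sr (k : ZMod 0) ∉ N := by
    intro k hk
    have hconj : ∀ j : ℤ, DihedralGroup.sr ((k + 2 * j : ℤ) : ZMod 0) ∈ N := fun j => by
      have := ‹N.Normal›.conj_mem _ hk (DihedralGroup.r ((Int.cast (-j) : ZMod 0)))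
      simp only [DihedralGroup.r_mul_sr, DihedralGroup.inv_r, DihedralGroup.sr_mul_r] at this
      convert this using 2
      push_cast
      ring
    rcases Int.even_or_odd k with ⟨l, hl⟩ | ⟨l, hl⟩
    · refine hx ?_
      have h0 : k + 2 * -l = 0 := by omega
      have := hconj (-l)
      rwa [h0, Int.cast_zero] at this
    · refine hy ?_
      have h1 : k + 2 * -l = 1 := by omega
      have := hconj (-l)
      rwa [h1, Int.cast_one] at this
  have hrot : ∀ x ∈ N, ∃ k : ℤ, x = DihedralGroup.r (k : ZMod 0) := by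
    rintro (k | k) hk
    · obtain ⟨l, rfl⟩ := ZMod.intCast_surjective k
      exact ⟨l, rfl⟩
    · obtain ⟨l, rfl⟩ := ZMod.intCast_surjective k
      exact absurd hk (hsr l)
  let A : AddSubgroup ℤ :=
    { carrier := {k : ℤ | DihedralGroup.r (k : ZMod 0) ∈ N}
      zero_mem' := by exact (show (1 : DihedralGroup 0) ∈ N from one_mem N)
      add_mem' := fun {a c} ha hc => by
        rw [Set.mem_ofPred_eq] at ha hc ⊢
        rw [Int.cast_add, ← DihedralGroup.r_mul_r]
        exact mul_mem ha hc
      neg_mem' := fun {a} ha => by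
        rw [Set.mem_ofPred_eq] at ha ⊢
        rw [Int.cast_neg, ← DihedralGroup.inv_r]
        exact inv_mem ha }
  obtain ⟨a, ha⟩ := Int.subgroup_cyclic A
  have hA : ∀ k : ℤ, DihedralGroup.r (k : ZMod 0) ∈ N ↔ ∃ z : ℤ, k = z * (a.natAbs : ℤ) := fun k => by
    change k ∈ A ↔ _
    rw [ha, AddSubgroup.mem_closure_singleton]
    constructor
    · rintro ⟨z, rfl⟩
      refine ⟨z * a.sign, ?_⟩
      rw [mul_assoc, Int.sign_mul_natAbs, smul_eq_mul]
    · rintro ⟨z, rfl⟩
      refine ⟨z * a.sign, ?_⟩
      rw [smul_eq_mul, mul_assoc, Int.sign_mul_self_eq_natAbs a]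
  have hpow : ∀ (n : ℕ) (z : ℤ), (DihedralGroup.r (n : ZMod 0)) ^ z = DihedralGroup.r ((z * n : ℤ) : ZMod 0) :=
    fun n z => by rw [DihedralGroup.r_zpow]; exact congrArg DihedralGroup.r (Int.mul_comm _ _)
  refine ⟨a.natAbs, Nat.pos_of_ne_zero fun h0 => hN ((Subgroup.eq_bot_iff_forall _).mpr fun x hxN => ?_), ?_⟩
  · obtain ⟨k, rfl⟩ := hrot x hxN
    obtain ⟨z, hz⟩ := (hA k).mp hxN
    rw [h0, Nat.cast_zero, mul_zero] at hz
    subst hz
    rfl
  · ext x
    rw [Subgroup.mem_zpowers_iff]
    constructor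
    · intro hxN
      obtain ⟨k, rfl⟩ := hrot x hxN
      obtain ⟨z, hz⟩ := (hA k).mp hxN
      exact ⟨z, by rw [hpow, hz]⟩
    · rintro ⟨z, rfl⟩
      rw [hpow]
      exact (hA _).mpr ⟨z, rfl⟩

end Groth.Agent.S12071
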