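import Groth.Statements.S12073
import Groth.Agent.Lib.FEtLimit21.Basic

set_option autoImplicit false
universe u
open CategoryTheory CategoryTheory.Limits AlgebraicGeometry
open Pi1

namespace Groth.Agent.S12073

/-- Let X = lim X_i be the limit of a cofiltered system of quasi-compact quasi-separated schemes with
affine transition morphisms, given by a limit cone. Then: (1) every finite étale cover of X is
isomorphic, over X, to the base change of a finite étale cover of some X_i; (2) if two morphisms
between finite étale covers of some X_i have the same base change to X, then they have the same base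
change to some X_j with j → i. (Fullness — every morphism over X between base changes comes from
some stage — is part of the published statement and is not stated here; nor is the consequence on
fundamental groups.) -/
theorem result {I : Type u} [SmallCategory I] [IsCofiltered I]
    (D : I ⥤ Scheme.{u}) (c : Limits.Cone D) (hc : Limits.IsLimit c)
    [∀ (i j : I) (f : i ⟶ j), IsAffineHom (D.map f)] [∀ i, CompactSpace (D.obj i)]
    [∀ i, QuasiSeparatedSpace (D.obj i)] :
    (∀ V : FEt.Cat c.pt, ∃ (i : I) (Vi : FEt.Cat (D.obj i)), Nonempty ((FEt.restrict (c.π.app i)).obj Vi ≅ V)) ∧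
    (∀ (i : I) (Vi Wi : FEt.Cat (D.obj i)) (φ ψ : Vi ⟶ Wi),
      (FEt.restrict (c.π.app i)).map φ = (FEt.restrict (c.π.app i)).map ψ →
      ∃ (j : I) (a : j ⟶ i), (FEt.restrict (D.map a)).map φ = (FEt.restrict (D.map a)).map ψ) := by
  exact ⟨GrothLib.FEtLimit21.exists_cover D c hc, GrothLib.FEtLimit21.exists_hom_stage_eq D c hc⟩

end Groth.Agent.S12073
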