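import Groth.Statements.S12076
import Groth.Agent.Lib.RootDatum.Base
import Mathlib.Data.Finsupp.Lex

set_option autoImplicit false
open RootD

namespace Groth.Agent.S12076

open GrothLib.RootDatum


/-- Let Δ be a system of simple roots (a base b of a root pairing P over ℤ) and Γ₀ the subgroup
generated by the roots. Then Γ₀ has a structure of totally ordered group for which the roots > 0 are
exactly the positive roots defined by Δ and for which the height (the additive function with value 1
on each simple root) is monotone. The order is given here by its positive cone C ⊆ Γ₀: 0 ∉ C, C + C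
⊆ C, and for every x ≠ 0 exactly one of x, −x lies in C (x < y meaning y − x ∈ C). -/
theorem result {ι M N : Type*} [AddCommGroup M] [AddCommGroup N]
    (P : RootPairing ι ℤ M N) [Finite ι] (b : P.Base) :
    ∃ C : Set ↥(Submodule.span ℤ (Set.range P.root)),
      0 ∉ C ∧ (∀ x ∈ C, ∀ y ∈ C, x + y ∈ C) ∧ (∀ x, x ≠ 0 → (x ∈ C ∨ -x ∈ C)) ∧ (∀ x ∈ C, -x ∉ C) ∧
      (∀ i : ι, (⟨P.root i, Submodule.subset_span (Set.mem_range_self i)⟩ : ↥(Submodule.span ℤ (Set.range P.root))) ∈ C ↔
        b.IsPos i) ∧
      ∀ φ : ↥(Submodule.span ℤ (Set.range P.root)) →+ ℤ,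
        (∀ j ∈ b.support, φ ⟨P.root j, Submodule.subset_span (Set.mem_range_self j)⟩ = 1) →
        ∀ x y : ↥(Submodule.span ℤ (Set.range P.root)), y - x ∈ C → φ x ≤ φ y := by
  classical
  let L := Submodule.span ℤ (Set.range P.root)
  let e := Fintype.equivFin b.support
  let B : Module.Basis (Fin (Fintype.card b.support)) ℤ L := b.toWeightBasisInt.reindex e
  let H : L →ₗ[ℤ] ℤ := B.constr ℤ fun _ => (1 : ℤ)
  let C : Set L := {x | 0 < H x ∨ (H x = 0 ∧ 0 < toLex (B.repr x))}
  have hH1 : ∀ j ∈ b.support, H ⟨P.root j, Submodule.subset_span (Set.mem_range_self j)⟩ = 1 := by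
    intro j hj
    have : (⟨P.root j, Submodule.subset_span (Set.mem_range_self j)⟩ : L) = B (e ⟨j, hj⟩) := by
      apply Subtype.ext
      simp [B]
    rw [this, Module.Basis.constr_basis]
  have hHh : ∀ i, H ⟨P.root i, Submodule.subset_span (Set.mem_range_self i)⟩ = b.height i := by
    intro i
    obtain ⟨f, -, -, hf⟩ := b.exists_root_eq_sum_int i
    rw [RootPairing.Base.height_eq_sum hf]
    have : (⟨P.root i, Submodule.subset_span (Set.mem_range_self i)⟩ : L) =
        ∑ j ∈ b.support, f j • (⟨P.root j, Submodule.subset_span (Set.mem_range_self j)⟩ : L) := by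
      apply Subtype.ext
      simp [hf]
    rw [this, map_sum]
    exact Finset.sum_congr rfl fun j hj => by rw [map_zsmul, hH1 j hj, smul_eq_mul, mul_one]
  have hC : ∀ x, x ∈ C ↔ (0 < H x ∨ (H x = 0 ∧ 0 < toLex (B.repr x))) := fun x => Iff.rfl
  refine ⟨C, ?_, ?_, ?_, ?_, fun i => ?_, fun φ hφ x y hxy => ?_⟩
  · rintro (h | h)
    · simp at h
    · simp at h
  · rintro x hx y hy
    have e1 : H (x + y) = H x + H y := map_add H x y
    have e2 : toLex (B.repr (x + y)) = toLex (B.repr x) + toLex (B.repr y) := congrArg toLex (map_add B.repr x y)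
    rw [hC] at hx hy ⊢
    rw [e1, e2]
    rcases hx with hx | ⟨hx, hx'⟩ <;> rcases hy with hy | ⟨hy, hy'⟩
    · left; omega
    · left; omega
    · left; omega
    · exact Or.inr ⟨by omega, add_pos hx' hy'⟩
  · intro x hx
    have e1 : H (-x) = -H x := map_neg H x
    have e2 : toLex (B.repr (-x)) = -toLex (B.repr x) := congrArg toLex (map_neg B.repr x)
    rw [hC, hC, e1, e2]
    rcases lt_trichotomy (H x) 0 with h | h | h
    · right; left; omega
    · rcases lt_trichotomy (toLex (B.repr x)) 0 with h' | h' | h'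
      · exact Or.inr (Or.inr ⟨by omega, neg_pos.mpr h'⟩)
      · exact absurd (B.repr.map_eq_zero_iff.mp h') hx
      · exact Or.inl (Or.inr ⟨h, h'⟩)
    · left; left; exact h
  · intro x hx hx'
    have e1 : H (-x) = -H x := map_neg H x
    have e2 : toLex (B.repr (-x)) = -toLex (B.repr x) := congrArg toLex (map_neg B.repr x)
    rw [hC] at hx hx'
    rw [e1, e2] at hx'
    rcases hx with hx | ⟨hx, h1⟩ <;> rcases hx' with hx' | ⟨hx', h2⟩ <;> first
      | omega
      | exact lt_asymm h1 (neg_pos.mp h2)
  · rw [hC, hHh, RootPairing.Base.isPos_iff]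
    exact ⟨fun h => h.resolve_right fun h' => b.height_ne_zero i h'.1, Or.inl⟩
  · have e1 : φ = H.toAddMonoidHom := by
      have : φ.toIntLinearMap = H := B.ext fun k => by
        obtain ⟨⟨j, hj⟩, rfl⟩ := e.surjective k
        have hB : B (e ⟨j, hj⟩) = ⟨P.root j, Submodule.subset_span (Set.mem_range_self j)⟩ := by
          apply Subtype.ext
          simp [B]
        rw [hB, hH1 j hj]
        exact hφ j hj
      rw [← this]
      rfl
    rw [e1]
    simp only [LinearMap.toAddMonoidHom_coe]
    have e3 : H (y - x) = H y - H x := map_sub H y x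
    rcases hxy with h | ⟨h, -⟩ <;> omega

end Groth.Agent.S12076
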