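import Groth.Statements.S12077
import Mathlib
-- import your own Groth.Agent.* helpers here

set_option autoImplicit false
universe u
open Polynomial
open CAlg

namespace Groth.Agent.S12077

/-- Every commutative ring `A` admits an injective ring map into an absolutely integrally closed
commutative ring `B`, that is, one over which every monic polynomial is a product of linear factors
`X - b`. (Only the existence of such an extension is stated, not the finer structure of the
construction.) -/
theorem result (A : Type u) [CommRing A] :
    ∃ (B : Type u) (_ : CommRing B) (_ : Algebra A B), Function.Injective (algebraMap A B) ∧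
      ∀ f : B[X], f.Monic → ∃ s : Multiset B, f = (s.map fun b => X - C b).prod := by
  classical
  let Idx : CommRingCat.{u} → Type u := fun T => {P : Polynomial T // P.Monic ∧ 0 < P.natDegree}
  let gen : ∀ T : CommRingCat.{u}, Idx T → MvPolynomial (Idx T) T := fun T P =>
    Polynomial.aeval (MvPolynomial.X (R := T) P) P.1
  let next : CommRingCat.{u} → CommRingCat.{u} := fun T =>
    CommRingCat.of (MvPolynomial (Idx T) T ⧸ Ideal.span (Set.range (gen T)))
  let ι : ∀ T : CommRingCat.{u}, T →+* next T := fun T =>
    (Ideal.Quotient.mk _).comp MvPolynomial.C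
  have hroot : ∀ (T : CommRingCat.{u}) (P : Idx T), ∃ r : next T, (P.1.map (ι T)).eval r = 0 := by
    intro T P
    refine ⟨Ideal.Quotient.mk _ (MvPolynomial.X P), ?_⟩
    change (P.1.map ((Ideal.Quotient.mk (Ideal.span (Set.range (gen T)))).comp
      (algebraMap T (MvPolynomial (Idx T) T)))).eval _ = 0
    rw [← Polynomial.map_map, Polynomial.eval_map_apply, Polynomial.eval_map, ← Polynomial.aeval_def]
    exact Ideal.Quotient.eq_zero_iff_mem.mpr (Ideal.subset_span ⟨P, rfl⟩)
  have hext : ∀ (T : CommRingCat.{u}) (s : Finset (Idx T)),
      ∃ (R' : Type u) (_ : CommRing R') (_ : Algebra T R') (v : Idx T → R'),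
        Function.Injective (algebraMap T R') ∧ ∀ P ∈ s, Polynomial.aeval (v P) P.1 = 0 := by
    intro T s
    induction s using Finset.induction_on with
    | empty => exact ⟨T, inferInstance, inferInstance, fun _ => 0, fun a b h => h, fun P hP => absurd hP (Finset.notMem_empty P)⟩
    | @insert P s hPs ih =>
      obtain ⟨R₁, _, _, v, hinj, hv⟩ := ih
      by_cases hR : Nontrivial R₁
      swap
      · haveI := not_nontrivial_iff_subsingleton.mp hR
        exact ⟨R₁, inferInstance, inferInstance, v, hinj, fun Q _ => Subsingleton.elim _ _⟩
      set Q := P.1.map (algebraMap T R₁) with hQ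
      have hQm : Q.Monic := P.2.1.map _
      have hQd : Q.natDegree ≠ 0 := by
        rw [hQ, P.2.1.natDegree_map]
        exact P.2.2.ne'
      have hinj' : Function.Injective (AdjoinRoot.of Q) := by
        rw [injective_iff_map_eq_zero]
        intro a ha
        rw [← AdjoinRoot.mk_C, AdjoinRoot.mk_eq_zero] at ha
        obtain ⟨U, hU⟩ := ha
        by_contra ha0
        have hU0 : U ≠ 0 := by
          rintro rfl
          rw [mul_zero, Polynomial.C_eq_zero] at hU
          exact ha0 hU
        have h1 := congrArg Polynomial.natDegree hU
        rw [Polynomial.natDegree_C, hQm.natDegree_mul' hU0] at h1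
        omega
      refine ⟨AdjoinRoot Q, inferInstance, inferInstance,
        Function.update (fun P' => AdjoinRoot.of Q (v P')) P (AdjoinRoot.root Q), ?_, fun P' hP' => ?_⟩
      · rw [IsScalarTower.algebraMap_eq T R₁ (AdjoinRoot Q)]
        exact hinj'.comp hinj
      · by_cases h : P' = P
        · subst h
          rw [Function.update_self, ← Polynomial.aeval_map_algebraMap R₁, ← hQ, AdjoinRoot.aeval_eq,
            AdjoinRoot.mk_self]
        · rw [Function.update_of_ne h]
          change Polynomial.aeval (algebraMap R₁ (AdjoinRoot Q) (v P')) P'.1 = 0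
          rw [Polynomial.aeval_algebraMap_apply,
            hv P' ((Finset.mem_insert.mp hP').resolve_left h), map_zero]
  have hι : ∀ T, Function.Injective (ι T) := by
    intro T
    rw [injective_iff_map_eq_zero]
    intro a ha
    have ha' : MvPolynomial.C a ∈ Ideal.span (Set.range (gen T)) := Ideal.Quotient.eq_zero_iff_mem.mp ha
    obtain ⟨c, hc⟩ := (Finsupp.mem_ideal_span_range_iff_exists_finsupp).mp ha'
    obtain ⟨R', _, _, v, hinj, hv⟩ := hext T c.support
    apply hinj
    have h := congrArg (MvPolynomial.aeval v) hc
    rw [map_finsuppSum, MvPolynomial.aeval_C] at h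
    rw [map_zero, ← h]
    refine Finset.sum_eq_zero fun P hP => ?_
    dsimp only
    rw [map_mul, show MvPolynomial.aeval v (gen T P) = 0 by
      rw [← Polynomial.aeval_algHom_apply, MvPolynomial.aeval_X]
      exact hv P hP, mul_zero]
  let S : ℕ → CommRingCat.{u} := fun n => Nat.rec (motive := fun _ => CommRingCat.{u}) (CommRingCat.of A) (fun _ T => next T) n
  let tr : ∀ m n : ℕ, m ≤ n → ((S m : Type u) →+* (S n : Type u)) := fun m n h =>
    @Nat.leRecOn (fun k => ((S m : Type u) →+* (S k : Type u))) m n h (fun {k} g => (ι (S k)).comp g) (RingHom.id (S m : Type u))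
  have htr_self : ∀ m, tr m m le_rfl = RingHom.id _ := fun m => Nat.leRecOn_self _
  have htr_succ : ∀ m n (h : m ≤ n), tr m (n + 1) (h.trans n.le_succ) = (ι (S n)).comp (tr m n h) :=
    fun m n h => Nat.leRecOn_succ h _
  have htr_inj : ∀ m n h, Function.Injective (tr m n h) := by
    intro m n h
    induction h with
    | refl => rw [htr_self]; exact fun a b h => h
    | @step n h ih => rw [htr_succ m n h]; exact (hι _).comp ih
  haveI hds : DirectedSystem (fun n => (S n : Type u)) (fun i j h => tr i j h) :=
    { map_self := fun i x => by rw [htr_self]; rfl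
      map_map := by
        intro l j i hij hjl x
        induction hjl with
        | refl => rw [htr_self]; rfl
        | @step l hjl ih =>
          rw [htr_succ j l hjl, htr_succ i l (hij.trans hjl), RingHom.comp_apply, RingHom.comp_apply, ih]
          rfl }
  let B := Ring.DirectLimit (fun n => (S n : Type u)) (fun i j h => tr i j h)
  let toB : ∀ n, S n →+* B := fun n => Ring.DirectLimit.of (fun n => (S n : Type u)) (fun i j h => tr i j h) n
  letI : Algebra A B := (toB 0).toAlgebra
  refine ⟨B, inferInstance, inferInstance, ?_, ?_⟩
  · exact Ring.DirectLimit.of_injective (G := fun n => (S n : Type u)) tr htr_inj 0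
  · intro f hf
    rcases subsingleton_or_nontrivial B with hB | hB
    · exact ⟨0, Subsingleton.elim _ _⟩
    suffices key : ∀ d (f : Polynomial B), f.Monic → f.natDegree = d →
        ∃ s : Multiset B, f = (s.map fun b => Polynomial.X - Polynomial.C b).prod from key _ f hf rfl
    intro d
    induction d with
    | zero => exact fun f hf hd => ⟨0, by simpa using hf.natDegree_eq_zero.mp hd⟩
    | succ d ih =>
      intro f hf hd
      obtain ⟨i, p, hp⟩ := Ring.DirectLimit.Polynomial.exists_of
        (G := fun n => (S n : Type u)) (f' := tr) f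
      have hl : f ∈ Polynomial.lifts (toB i) := (Polynomial.mem_lifts f).mpr ⟨p, hp⟩
      haveI : Nontrivial (S i) := (toB i).domain_nontrivial
      obtain ⟨P, hP, hPd, hPm⟩ := Polynomial.lifts_and_natDegree_eq_and_monic hl hf
      obtain ⟨r, hr⟩ := hroot (S i) ⟨P, hPm, by omega⟩
      have hcomp : toB i = (toB (i + 1)).comp (ι (S i)) := by
        ext x
        have h1 : tr i (i + 1) i.le_succ x = ι (S i) x := by
          rw [show tr i (i + 1) i.le_succ = (ι (S i)).comp (tr i i le_rfl) from htr_succ i i le_rfl,
            htr_self]
          rfl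
        rw [RingHom.comp_apply, ← h1]
        exact (Ring.DirectLimit.of_f (G := fun n => (S n : Type u)) (f := fun i j h => tr i j h) i.le_succ x).symm
      have hroot' : f.IsRoot (toB (i + 1) r) := by
        change f.eval _ = 0
        rw [← hP, hcomp, ← Polynomial.map_map, Polynomial.eval_map_apply, hr, map_zero]
      obtain ⟨q, hq⟩ := Polynomial.dvd_iff_isRoot.mpr hroot'
      have hXm := Polynomial.monic_X_sub_C (toB (i + 1) r)
      have hqm : q.Monic := hXm.of_mul_monic_left (hq ▸ hf)
      have hqd : q.natDegree = d := by
        have h1 := congrArg Polynomial.natDegree hq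
        rw [hd, hXm.natDegree_mul hqm, Polynomial.natDegree_X_sub_C] at h1
        omega
      obtain ⟨s, hs⟩ := ih q hqm hqd
      exact ⟨toB (i + 1) r ::ₘ s, by rw [Multiset.map_cons, Multiset.prod_cons, ← hs, hq]⟩

end Groth.Agent.S12077
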