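import Groth.Statements.S12078
import Mathlib
-- import your own Groth.Agent.* helpers here

set_option autoImplicit false
universe u
open CAlg

namespace Groth.Agent.S12078

/-- An elementary divisor domain is Bézout. Here `R` is a domain such that for all `n, m ≥ 1` and every
`n × m` matrix `A` there are invertible matrices `U` (`n × n`) and `V` (`m × m`) with `U * A * V`
zero off the diagonal and with diagonal entries `f 0 ∣ f 1 ∣ f 2 ∣ …`; the conclusion is that every
finitely generated ideal of `R` is principal. -/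
theorem result (R : Type u) [CommRing R] [IsDomain R]
    (hR : ∀ n m : ℕ, 1 ≤ n → 1 ≤ m → ∀ A : Matrix (Fin n) (Fin m) R,
      ∃ (U : (Matrix (Fin n) (Fin n) R)ˣ) (V : (Matrix (Fin m) (Fin m) R)ˣ) (f : ℕ → R),
        (∀ k : ℕ, f k ∣ f (k + 1)) ∧
        ∀ (i : Fin n) (j : Fin m), ((U : Matrix (Fin n) (Fin n) R) * A * (V : Matrix (Fin m) (Fin m) R)) i j =
          if (i : ℕ) = (j : ℕ) then f i else 0) :
    IsBezout R := by
  rw [IsBezout.iff_span_pair_isPrincipal]
  intro a b
  obtain ⟨U, V, f, -, hf⟩ := hR 1 2 le_rfl (by norm_num) !![a, b]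
  let u : R := (U : Matrix (Fin 1) (Fin 1) R) 0 0
  let W : Matrix (Fin 2) (Fin 2) R := (V : Matrix (Fin 2) (Fin 2) R)
  let W' : Matrix (Fin 2) (Fin 2) R := (V : Matrix (Fin 2) (Fin 2) R)⁻¹
  have hU : IsUnit u := by
    have := (Matrix.isUnit_iff_isUnit_det _).mp U.isUnit
    simpa [Matrix.det_fin_one] using this
  have h0 := hf 0 0
  have h1 := hf 0 1
  simp [Matrix.mul_apply, Fin.sum_univ_two] at h0 h1
  have e := V.mul_inv
  have e00 := congrFun (congrFun e 0) 0
  have e11 := congrFun (congrFun e 1) 1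
  have e01 := congrFun (congrFun e 0) 1
  have e10 := congrFun (congrFun e 1) 0
  simp [Matrix.mul_apply, Fin.sum_univ_two] at e00 e11 e01 e10
  refine ⟨⟨f 0, ?_⟩⟩
  rw [Ideal.submodule_span_eq]
  refine le_antisymm (Ideal.span_le.mpr ?_) ((Ideal.span_singleton_le_iff_mem _).mpr (Ideal.mem_span_pair.mpr ⟨u * W 0 0, u * W 1 0, by rw [← h0]; ring⟩))
  rintro z (rfl | rfl)
  · obtain ⟨w, hw⟩ := hU.exists_left_inv
    exact Ideal.mem_span_singleton'.mpr ⟨w * W' 0 0, by simp only [W'] at *; linear_combination (-(w * W' 0 0)) * h0 - (w * W' 1 0) * h1 + (w * u * z) * e00 + (w * u * b) * e10 + z * hw⟩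
  · obtain ⟨w, hw⟩ := hU.exists_left_inv
    exact Ideal.mem_span_singleton'.mpr ⟨w * W' 0 1, by simp only [W'] at *; linear_combination (-(w * W' 0 1)) * h0 - (w * W' 1 1) * h1 + (w * u * a) * e01 + (w * u * z) * e11 + z * hw⟩

end Groth.Agent.S12078
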