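import Groth.Statements.S12079
import Mathlib.LinearAlgebra.Contraction
import Mathlib.RingTheory.Flat.Basic
import Mathlib.Algebra.Module.FinitePresentation

set_option autoImplicit false
universe u
open TensorProduct
open CAlg

namespace Groth.Agent.S12079

open TensorProduct

/-- For a finitely presented `R`-module `M`, any `R`-module `N` and a flat `R`-module `L`, the canonical
map `Hom_R(M, N) ⊗_R L → Hom_R(M, N ⊗_R L)` sending `f ⊗ l` to `m ↦ f m ⊗ l` is bijective. -/
theorem result (R : Type u) [CommRing R]
    (M N L : Type u) [AddCommGroup M] [Module R M] [AddCommGroup N] [Module R N] [AddCommGroup L] [Module R L]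
    [Module.FinitePresentation R M] [Module.Flat R L] :
    Function.Bijective (TensorProduct.rTensorHomToHomRTensor (RingHom.id R) M N L) := by
  obtain ⟨n, m, π, A, hπ, hex⟩ := Module.FinitePresentation.exists_fin' R M
  let Φ := fun (X : Type u) [AddCommGroup X] [Module R X] =>
    TensorProduct.rTensorHomToHomRTensor (RingHom.id R) X N L
  have hnat : ∀ (X Y : Type u) [AddCommGroup X] [Module R X] [AddCommGroup Y] [Module R Y]
      (h : X →ₗ[R] Y) (z : (Y →ₗ[R] N) ⊗[R] L),
      Φ X ((LinearMap.lcomp R N h).rTensor L z) = (Φ Y z).comp h := by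
    intro X Y _ _ _ _ h z
    induction z using TensorProduct.induction_on with
    | zero => simp [Φ]
    | add a b ha hb => simp only [map_add, ha, hb, LinearMap.add_comp]
    | tmul f l => ext x; simp [Φ]
  have hbij : ∀ k : ℕ, Function.Bijective (Φ (Fin k → R)) := by
    intro k
    simp only [Φ]
    rw [← rTensorHomEquivHomRTensor_toLinearMap]
    exact (rTensorHomEquivHomRTensor R (Fin k → R) N L).bijective
  have hinj : Function.Injective ((LinearMap.lcomp R N π).rTensor L) :=
    Module.Flat.rTensor_preserves_injective_linearMap _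
      (fun a b h => LinearMap.ext fun x => by
        obtain ⟨y, rfl⟩ := hπ x
        exact LinearMap.congr_fun h y)
  have hex2 : Function.Exact ((LinearMap.lcomp R N π).rTensor L)
      ((LinearMap.lcomp R N A).rTensor L) := by
    apply Module.Flat.rTensor_exact
    intro f
    constructor
    · intro hf
      have hle : LinearMap.ker π ≤ LinearMap.ker f := by
        rw [LinearMap.exact_iff.1 hex]
        rintro _ ⟨y, rfl⟩
        exact LinearMap.congr_fun hf y
      refine ⟨(Submodule.liftQ _ f hle) ∘ₗ (π.quotKerEquivOfSurjective hπ).symm.toLinearMap,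
        LinearMap.ext fun y => ?_⟩
      have : (π.quotKerEquivOfSurjective hπ).symm (π y) = Submodule.Quotient.mk y := by
        rw [LinearEquiv.symm_apply_eq]
        rfl
      simp [this]
    · rintro ⟨g, rfl⟩
      refine LinearMap.ext fun y => ?_
      simp [hex.apply_apply_eq_zero]
  constructor
  · intro z z' h
    apply hinj
    apply (hbij n).1
    rw [hnat, hnat]
    exact congrArg (fun t => LinearMap.comp t π) h
  · intro w
    obtain ⟨z, hz⟩ := (hbij n).2 (w.comp π)
    have h0 : (LinearMap.lcomp R N A).rTensor L z = 0 := by
      apply (hbij m).1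
      rw [hnat, hz, map_zero]
      refine LinearMap.ext fun y => ?_
      simp [hex.apply_apply_eq_zero]
    obtain ⟨z', rfl⟩ := (hex2 z).1 h0
    refine ⟨z', ?_⟩
    rw [hnat] at hz
    refine LinearMap.ext fun x => ?_
    obtain ⟨y, rfl⟩ := hπ x
    exact LinearMap.congr_fun hz y

end Groth.Agent.S12079
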