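import Groth.Statements.S1208
import Groth.Agent.Lib.RG6.FlatAt
-- import your own Groth.Agent.* helpers here

set_option autoImplicit false
universe u
open FlatMor

namespace Groth.Agent.S1208

/-- Let S be a finitely presented R-algebra, N a finite S-module and q a prime of S such that N_q is
flat over R. Then N_q is a finitely presented module over S_q. -/
theorem result {R S : Type u} [CommRing R] [CommRing S] [Algebra R S] [Algebra.FinitePresentation R S]
    (N : Type u) [AddCommGroup N] [Module S N] [Module R N] [IsScalarTower R S N] [Module.Finite S N]
    (q : Ideal S) [q.IsPrime] (h : FlatCA.FlatAt R q N) :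
    Module.FinitePresentation (Localization.AtPrime q) (LocalizedModule q.primeCompl N) := by
    exact GrothLib.RG6.fp_of_flatAt N q h

end Groth.Agent.S1208
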