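import Groth.Statements.S12081
import Groth.Agent.Lib.Milnor.Basic
import Mathlib.Tactic.Ring
-- import your own Groth.Agent.* helpers here

set_option autoImplicit false
universe u
open TensorProduct
open EtAlg

namespace Groth.Agent.S12081

/-- Let `B' = B ×_A A'` be a fibre square of rings with `A' → A` surjective with kernel `I`, let `J =
Ker(B' → B)`, let `D'` be a `B'`-algebra and `C' = D' ⊗_{B'} A'`. Then the ideal `I C'` is, as a
subset of `C'`, the image of the ideal `J D'` under `D' → C'`; that is, the map `J D' → I C'` is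
surjective. -/
theorem result (B' B A' A : Type u) [CommRing B'] [CommRing B] [CommRing A'] [CommRing A]
    [Algebra B' B] [Algebra B' A'] [Algebra B A] [Algebra A' A] [Algebra B' A] [IsScalarTower B' B A] [IsScalarTower B' A' A]
    (hsq : EtMil.IsFibreSquare B' B A' A)
    (D' C' : Type u) [CommRing D'] [CommRing C'] [Algebra B' D'] [Algebra A' C']
    [Algebra D' C'] [Algebra B' C'] [IsScalarTower B' A' C'] [IsScalarTower B' D' C'] [Algebra.IsPushout B' A' D' C'] :
    (algebraMap D' C') '' ((RingHom.ker (algebraMap B' B)).map (algebraMap B' D') : Set D') =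
      ((RingHom.ker (algebraMap A' A)).map (algebraMap A' C') : Set C') := by
  have hS := Milnor.sq_of_isFibreSquare hsq
  ext z
  constructor
  · rintro ⟨y, hy, rfl⟩
    have hle : (RingHom.ker (algebraMap B' B)).map ((algebraMap D' C').comp (algebraMap B' D')) ≤
        (RingHom.ker (algebraMap A' A)).map (algebraMap A' C') := by
      rw [← IsScalarTower.algebraMap_eq B' D' C', IsScalarTower.algebraMap_eq B' A' C', ← Ideal.map_map]
      exact Ideal.map_mono (Ideal.map_le_iff_le_comap.mpr fun j hj => Milnor.algebraMap_eq_zero_of (A := A) j hj)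
    exact hle (Ideal.map_map (algebraMap B' D') (algebraMap D' C') ▸ Ideal.mem_map_of_mem _ hy)
  · intro hz
    let K := (RingHom.ker (algebraMap B' B)).map (algebraMap B' D')
    have key : ∀ c : C', ∀ i ∈ RingHom.ker (algebraMap A' A),
        ∃ y ∈ K, algebraMap D' C' y = c * algebraMap A' C' i := by
      intro c
      refine (Algebra.IsPushout.out (R := B') (S := A') (R' := D') (S' := C')).inductionOn c _ ?_ ?_ ?_ ?_
      · exact fun i _ => ⟨0, zero_mem _, by simp⟩
      · intro d i hi
        obtain ⟨j, hj, rfl⟩ := hS.lift i hi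
        refine ⟨d * algebraMap B' D' j, Ideal.mul_mem_left _ _ (Ideal.mem_map_of_mem _ hj), ?_⟩
        rw [map_mul, ← IsScalarTower.algebraMap_apply B' D' C', ← IsScalarTower.algebraMap_apply B' A' C']
        rfl
      · intro a c hc i hi
        obtain ⟨y, hy, e⟩ := hc (i * a) (Ideal.mul_mem_right _ _ hi)
        exact ⟨y, hy, by rw [e, Algebra.smul_def, map_mul]; ring⟩
      · intro c₁ c₂ h₁ h₂ i hi
        obtain ⟨y₁, hy₁, e₁⟩ := h₁ i hi
        obtain ⟨y₂, hy₂, e₂⟩ := h₂ i hi
        exact ⟨y₁ + y₂, add_mem hy₁ hy₂, by rw [map_add, e₁, e₂, add_mul]⟩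
    suffices ∀ w ∈ (RingHom.ker (algebraMap A' A)).map (algebraMap A' C'), ∀ c : C', ∃ y ∈ K,
        algebraMap D' C' y = c * w by
      obtain ⟨y, hy, e⟩ := this z hz 1
      exact ⟨y, hy, by rw [e, one_mul]⟩
    intro w hw
    induction hw using Submodule.span_induction with
    | mem w hw =>
      obtain ⟨i, hi, rfl⟩ := hw
      exact fun c => key c i hi
    | zero => exact fun c => ⟨0, zero_mem _, by simp⟩
    | add w₁ w₂ _ _ h₁ h₂ =>
      intro c
      obtain ⟨y₁, hy₁, e₁⟩ := h₁ c
      obtain ⟨y₂, hy₂, e₂⟩ := h₂ c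
      exact ⟨y₁ + y₂, add_mem hy₁ hy₂, by rw [map_add, e₁, e₂, mul_add]⟩
    | smul a w _ h =>
      intro c
      obtain ⟨y, hy, e⟩ := h (c * a)
      exact ⟨y, hy, by rw [e, smul_eq_mul, mul_assoc]⟩

end Groth.Agent.S12081
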