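import Groth.Statements.S12082
import Groth.Agent.Lib.CMFree.Params
import Groth.Agent.Lib.LCI6.Field

set_option autoImplicit false
universe u
open Synt

namespace Groth.Agent.S12082

theorem result (k : Type u) [Field k] (n : ℕ)
    (I : Ideal (MvPolynomial (Fin n) k)) (q : Ideal (MvPolynomial (Fin n) k ⧸ I)) [q.IsPrime] (c : ℕ)
    (hc : (c : ℕ∞) + q.height = (q.comap (Ideal.Quotient.mk I)).height)
    (f : Fin c → Localization.AtPrime (q.comap (Ideal.Quotient.mk I)))
    (hf : ∀ i, f i ∈ I.map (algebraMap _ (Localization.AtPrime (q.comap (Ideal.Quotient.mk I)))))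
    (hgen : Ideal.span (Set.range f) ⊔
        IsLocalRing.maximalIdeal (Localization.AtPrime (q.comap (Ideal.Quotient.mk I))) *
          I.map (algebraMap _ (Localization.AtPrime (q.comap (Ideal.Quotient.mk I)))) =
      I.map (algebraMap _ (Localization.AtPrime (q.comap (Ideal.Quotient.mk I))))) :
    RingTheory.Sequence.IsRegular (Localization.AtPrime (q.comap (Ideal.Quotient.mk I))) (List.ofFn f) := by
  let p := q.comap (Ideal.Quotient.mk I)
  let L := Localization.AtPrime p
  have hIp : I ≤ p := fun x hx => by
    rw [Ideal.mem_comap, Ideal.Quotient.eq_zero_iff_mem.mpr hx]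
    exact q.zero_mem
  let J := I.map (algebraMap _ L)
  have hJ : Ideal.span (Set.range f) = J := le_antisymm (Ideal.span_le.mpr (Set.range_subset_iff.mpr hf))
    (Submodule.le_of_le_smul_of_le_jacobson_bot (IsNoetherian.noetherian J)
      (IsLocalRing.maximalIdeal_le_jacobson _) hgen.ge)
  have hof : Ideal.ofList (List.ofFn f) = J := by
    rw [← hJ]
    exact congrArg Ideal.span (Set.ext fun y => List.mem_ofFn)
  refine GrothLib.CMFree.isRegular_of_ringKrullDim_quotient L _ ?_ ?_
  · rw [hof]
    intro htop
    refine (IsLocalRing.maximalIdeal.isMaximal L).ne_top (top_unique (htop.ge.trans ?_))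
    rw [← Localization.AtPrime.map_eq_maximalIdeal]
    exact Ideal.map_mono hIp
  · rw [hof, GrothLib.LCI6.ringKrullDim_localization_quotient I p hIp,
      IsLocalization.AtPrime.ringKrullDim_eq_height p L, List.length_ofFn,
      Ideal.map_comap_of_surjective _ Ideal.Quotient.mk_surjective, ← hc]
    rw [add_comm (c : ℕ∞)]
    push_cast
    exact le_rfl

end Groth.Agent.S12082
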