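import Groth.Statements.S12086
import Groth.Agent.Lib.DCxKFlat.Bridge


set_option autoImplicit false
universe u
open CategoryTheory CategoryTheory.Limits MonoidalCategory CategoryTheory.Pretriangulated
open DRing

namespace Groth.Agent.S12086

/-- Let `(K₁•, K₂•, K₃•)` be a distinguished triangle in the homotopy category `K(R)` of complexes of
`R`-modules. If two out of the three complexes are K-flat (tensoring with them carries acyclic
complexes to acyclic complexes), then so is the third. -/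
theorem result (R : Type u) [CommRing R]
    (T : Pretriangulated.Triangle (HomotopyCategory (ModuleCat.{u} R) (ComplexShape.up ℤ)))
    (hT : T ∈ Pretriangulated.distinguishedTriangles) :
    ((∀ L : DRing.Cx R, (∀ i : ℤ, IsZero (L.homology i)) → ∀ i : ℤ, IsZero ((L ⊗ T.obj₁.as).homology i)) → (∀ L : DRing.Cx R, (∀ i : ℤ, IsZero (L.homology i)) → ∀ i : ℤ, IsZero ((L ⊗ T.obj₂.as).homology i)) → (∀ L : DRing.Cx R, (∀ i : ℤ, IsZero (L.homology i)) → ∀ i : ℤ, IsZero ((L ⊗ T.obj₃.as).homology i))) ∧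
    ((∀ L : DRing.Cx R, (∀ i : ℤ, IsZero (L.homology i)) → ∀ i : ℤ, IsZero ((L ⊗ T.obj₁.as).homology i)) → (∀ L : DRing.Cx R, (∀ i : ℤ, IsZero (L.homology i)) → ∀ i : ℤ, IsZero ((L ⊗ T.obj₃.as).homology i)) → (∀ L : DRing.Cx R, (∀ i : ℤ, IsZero (L.homology i)) → ∀ i : ℤ, IsZero ((L ⊗ T.obj₂.as).homology i))) ∧
    ((∀ L : DRing.Cx R, (∀ i : ℤ, IsZero (L.homology i)) → ∀ i : ℤ, IsZero ((L ⊗ T.obj₂.as).homology i)) → (∀ L : DRing.Cx R, (∀ i : ℤ, IsZero (L.homology i)) → ∀ i : ℤ, IsZero ((L ⊗ T.obj₃.as).homology i)) → (∀ L : DRing.Cx R, (∀ i : ℤ, IsZero (L.homology i)) → ∀ i : ℤ, IsZero ((L ⊗ T.obj₁.as).homology i))) := by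
  obtain ⟨K, L, φ, ⟨e⟩⟩ := hT
  have inv : ∀ {X Y : DRing.Cx R},
      ((HomotopyCategory.quotient (ModuleCat.{u} R) (ComplexShape.up ℤ)).obj X ≅
        (HomotopyCategory.quotient (ModuleCat.{u} R) (ComplexShape.up ℤ)).obj Y) →
      (GrothLib.KF.IsKFlat X ↔ GrothLib.KF.IsKFlat Y) := fun e =>
    ⟨GrothLib.KF.isKFlat_of_homotopyEquiv (HomotopyCategory.homotopyEquivOfIso e),
      GrothLib.KF.isKFlat_of_homotopyEquiv (HomotopyCategory.homotopyEquivOfIso e).symm⟩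
  have h₁ : GrothLib.KF.IsKFlat T.obj₁.as ↔ GrothLib.KF.IsKFlat K := inv (Triangle.π₁.mapIso e)
  have h₂ : GrothLib.KF.IsKFlat T.obj₂.as ↔ GrothLib.KF.IsKFlat L := inv (Triangle.π₂.mapIso e)
  have h₃ : GrothLib.KF.IsKFlat T.obj₃.as ↔ GrothLib.KF.IsKFlat (CochainComplex.mappingCone φ) :=
    inv (Triangle.π₃.mapIso e)
  obtain ⟨c₁, c₂⟩ := GrothLib.KF.isKFlat_cone_two_out_of_three φ
  exact ⟨fun a b => h₃.2 (GrothLib.KF.isKFlat_mappingCone φ (h₁.1 a) (h₂.1 b)),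
    fun a b => h₂.2 (c₁ (h₁.1 a) (h₃.1 b)), fun a b => h₁.2 (c₂ (h₂.1 a) (h₃.1 b))⟩

end Groth.Agent.S12086
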