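import Groth.Statements.S12087
import Groth.Agent.Lib.BCPerf20.Reduce
import Groth.Agent.Lib.BCCrit.ModelExists
import Groth.Agent.Lib.HilbObs26.ClosedPush
import Groth.Agent.Lib.DCxRing.Coherent
import Groth.Agent.Lib.Euler.Basic
import Groth.Agent.Lib.FibPd.OpenScheme

set_option autoImplicit false
set_option maxHeartbeats 1000000
set_option linter.style.haveILetI false
set_option backward.isDefEq.respectTransparency false
universe u
open CategoryTheory CategoryTheory.Limits AlgebraicGeometry
open Perf

namespace Groth.Agent.S12087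

/-- Let `R` be a coherent ring (every finitely generated ideal is finitely presented), `X` a scheme of
finite presentation over `R` (quasi-compact, quasi-separated, locally of finite presentation over
`Spec R`), and `G` an `O_X`-module of finite presentation that is flat over `R` and whose support is
proper over `R`. Then each `H^i(X, G)` is a coherent `R`-module, that is (over a coherent ring) a
finitely presented `R`-module. -/
theorem result (R : Type u) [CommRing R]
    (hR : ∀ I : Ideal R, I.FG → Module.FinitePresentation R I)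
    (X : Scheme.{u}) [X.Over (Spec (CommRingCat.of R))]
    [QuasiCompact (X ↘ Spec (CommRingCat.of R))] [QuasiSeparated (X ↘ Spec (CommRingCat.of R))]
    [LocallyOfFinitePresentation (X ↘ Spec (CommRingCat.of R))]
    (G : X.Modules) (hG : CohB1.IsFP G) (hflat : FlatMod.IsFlatOver (X ↘ Spec (CommRingCat.of R)) G)
    (hsupp : ClSub.IsProperOver (X ↘ Spec (CommRingCat.of R)) (CohB1.support G)) (i : ℕ) :
    Module.FinitePresentation R (Coh.HH X G i) := by
  let f := X ↘ Spec (CommRingCat.of R)
  haveI : G.IsQuasicoherent := GrothLib.FibPd.isQuasicoherent_of_isFP hG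
  obtain ⟨Z, j, GZ, hj, hlfp, hprop, hq, hfp, hfl, ⟨eG⟩⟩ := GrothLib.BCPerf20.exists_proper_model f G hG hflat hsupp
  haveI := hj
  haveI := hlfp
  haveI := hprop
  haveI := hq
  letI : Z.Over (Spec (CommRingCat.of R)) := ⟨j ≫ f⟩
  obtain ⟨m⟩ := GrothLib.BCCrit.nonempty_model_fp (j ≫ f) GZ hfp hfl
  obtain ⟨c⟩ := GrothLib.HilbObs26.nonempty_HH_linearEquiv_closed (A := R) j rfl GZ i
  obtain ⟨e, he, -⟩ := GrothLib.BCCoh.exists_linearEquiv (j ≫ f) m.U m.cover m.aff i
  haveI : ∀ k, Module.FinitePresentation R (m.L.X k) := fun k =>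
    haveI := (m.finFree k).1
    haveI := (m.finFree k).2
    Module.finitePresentation_of_projective R _
  haveI := m.qis
  haveI : Module.FinitePresentation R (m.L.homology (i : ℤ)) :=
    GrothLib.DR.finitePresentation_homology_of_coherent hR m.L _ inferInstance
  haveI : Module.FinitePresentation R ((GrothLib.BCCoh.cx (j ≫ f) m.U GZ).homology i) :=
    Module.FinitePresentation.of_equiv (asIso (HomologicalComplex.homologyMap m.u (i : ℤ)) ≪≫
      (GrothLib.BCCoh.cx (j ≫ f) m.U GZ).extendHomologyIso ComplexShape.embeddingUpNat rfl).toLinearEquiv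
  let e' : Coh.HH Z GZ i ≃ₗ[R] (GrothLib.BCCoh.cx (j ≫ f) m.U GZ).homology i :=
    { e GZ hq with map_smul' := fun r x => he GZ hq r x }
  exact Module.FinitePresentation.of_equiv
    (e'.symm.trans (c.trans (GrothLib.Euler.hhEquiv eG i)))

end Groth.Agent.S12087
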