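import Groth.Statements.S1209
import Groth.Agent.Lib.RG6.FlatAt
-- import your own Groth.Agent.* helpers here

set_option autoImplicit false
universe u
open FlatMor

namespace Groth.Agent.S1209

/-- Let R → S be a ring map of finite type and q a prime of S such that the local ring S_q is flat over
R. Then S_q is essentially of finite presentation over R. (The published statement concludes that
S_q is essentially of finite presentation over R_p, where p is the prime of R below q; the two are
equivalent, since R_p is itself a localization of R.) -/
theorem result {R S : Type u} [CommRing R] [CommRing S] [Algebra R S] [Algebra.FiniteType R S]
    (q : Ideal S) [q.IsPrime] [Module.Flat R (Localization.AtPrime q)] :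
    FlatCA.EssFinitePresentation R (Localization.AtPrime q) := by
    exact GrothLib.RG6.exists_fp_localization q

end Groth.Agent.S1209
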