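import Groth.Statements.S12091
import Groth.Agent.Lib.SymPres6.Main
-- import your own Groth.Agent.* helpers here

set_option autoImplicit false
set_option backward.isDefEq.respectTransparency false
universe u
open TensorProduct MvPolynomial
open FlatMor

namespace Groth.Agent.S12091

/-- Let `x_1, …, x_m` generate the `A`-module `M`, let `K ⊆ A^m` be the module of relations, `C =
Sym_A(M)` and `α : A[y_1, …, y_m] → C` the presentation with `y_j ↦ x_j`, with kernel `J`. Then the
`C`-linear map `C ⊗_A K → J/J²` sending `1 ⊗ k` to the class of `Σ_j k_j y_j` is surjective, and it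
is bijective when `M` is a projective `A`-module (so that then `J/J² ≅ K ⊗_A C` and the naive
cotangent complex of `α` is `K ⊗_A C → ⊕_j C dy_j`). (The published statement asserts `J/J² ≅ K ⊗_A
C` for every `M`. For `A = ℤ`, `M = (ℤ/2)²`, `m = 2` and the two unit vectors, `K = 2ℤ²` and the
element `y_2 ⊗ (2, 0) - y_1 ⊗ (0, 2)` of `C ⊗_A K` is non-zero but maps to the class of `y_2 · 2y_1
- y_1 · 2y_2 = 0`; in degree `2` the graded piece of `J/J²` has `8` elements and that of `K ⊗_A C`
has `16`. The published degree-by-degree computation does show that `J` is generated by the linear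
forms coming from `K`, which is the surjectivity, and it is valid as written when `0 → K → A^m → M →
0` splits, which is the projective case.) -/
theorem result (A : Type u) [CommRing A] (M : Type u)
    [AddCommGroup M] [Module A M] (m : ℕ) (x : Fin m → M)
    (hx : Function.Surjective (Fintype.linearCombination A x))
    (G : Algebra.Generators A (SymmetricAlgebra A M) (Fin m))
    (hG : ∀ j, G.val j = SymmetricAlgebra.ι A M (x j)) :
    ∃ e : SymmetricAlgebra A M ⊗[A] (LinearMap.ker (Fintype.linearCombination A x)) →ₗ[SymmetricAlgebra A M]
        G.toExtension.Cotangent,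
      (∀ (k : LinearMap.ker (Fintype.linearCombination A x))
        (hk : (∑ j, C ((k : Fin m → A) j) * X j : MvPolynomial (Fin m) A) ∈ G.toExtension.ker),
        e (1 ⊗ₜ k) = Algebra.Extension.Cotangent.mk ⟨_, hk⟩) ∧
      Function.Surjective e ∧ (Module.Projective A M → Function.Bijective e) := by
    exact ⟨GrothLib.SymPres6.cmp x G hG, fun k hk => GrothLib.SymPres6.cmp_tmul x G hG k hk,
      GrothLib.SymPres6.cmp_surjective x G hG hx, fun _ => ⟨GrothLib.SymPres6.cmp_injective x G hG hx,
        GrothLib.SymPres6.cmp_surjective x G hG hx⟩⟩

end Groth.Agent.S12091
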