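import Groth.Statements.S12093
import Groth.Agent.Lib.DCxRing.TorGE


set_option autoImplicit false
universe u
open CategoryTheory CategoryTheory.Limits MonoidalCategory
attribute [local instance] HasDerivedCategory.standard
open DRing

namespace Groth.Agent.S12093

/-- Let `K•` be a complex of `R`-modules (for which `− ⊗^L_R K•` is assumed to exist) and `a` an
integer. Then `K•` has tor amplitude in `[a, ∞)`, i.e. `H^i(M ⊗^L_R K•) = 0` for every `R`-module
`M` and every `i < a`, if and only if `K•` is quasi-isomorphic to a K-flat complex `E•` (tensoring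
with `E•` preserves acyclic complexes) with flat terms and `E^i = 0` for `i < a`. -/
theorem result (R : Type u) [CommRing R] (a : ℤ) (K : DRing.Cx R)
    [DRing.HasLTensorCx R K] :
    (∀ (M : ModuleCat.{u} R) (i : ℤ), i < a →
        Subsingleton (Dual.HD R ((DRing.LTensorCx R K).obj
          (DRing.toD ((CochainComplex.singleFunctor (ModuleCat.{u} R) 0).obj M))) i)) ↔
      ∃ E : DRing.Cx R, (∀ L : DRing.Cx R, (∀ i : ℤ, IsZero (L.homology i)) → ∀ i : ℤ, IsZero ((L ⊗ E).homology i)) ∧
        DRing.TermwiseFlat E ∧ (∀ i : ℤ, i < a → IsZero (E.X i)) ∧ Nonempty (DRing.toD E ≅ DRing.toD K) := by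
  constructor
  · intro h
    obtain ⟨P, p, hP, hPf, hp, -⟩ := GrothLib.KF.exists_kflat_resolution K
    haveI := hp
    let e : DRing.toD P ≅ DRing.toD K := asIso (DerivedCategory.Q.map p)
    obtain ⟨E, π, hπ, hE, hEf, hE0⟩ := GrothLib.KF.exists_trunc P a hP hPf
      fun M i hi => (GrothLib.KF.exactAt_tensorCx_iff_lTensorCx K hP e M i).2 (h M i hi)
    haveI := hπ
    refine ⟨E, fun L hL i => ?_, hEf, hE0, ⟨(asIso (DerivedCategory.Q.map π)).symm ≪≫ e⟩⟩
    exact ((GrothLib.KF.isKFlat_iff E).1 hE L (fun j => (HomologicalComplex.exactAt_iff_isZero_homology L j).2 (hL j)) i).isZero_homology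
  · rintro ⟨E, hE, -, hE0, ⟨e⟩⟩ M i hi
    have hE' : GrothLib.KF.IsKFlat E := (GrothLib.KF.isKFlat_iff E).2 fun L hL j =>
      (HomologicalComplex.exactAt_iff_isZero_homology _ j).2 (hE L (fun k => (hL k).isZero_homology) j)
    refine (GrothLib.KF.exactAt_tensorCx_iff_lTensorCx K hE' e M i).1 (ShortComplex.exact_of_isZero_X₂ _ ?_)
    exact (MonoidalCategory.tensorRight M).map_isZero (hE0 i hi)

end Groth.Agent.S12093
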