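import Groth.Statements.S12094
import Groth.Agent.Lib.DCxRing.TwoTermHom

set_option autoImplicit false
universe u
open CategoryTheory
attribute [local instance] HasDerivedCategory.standard
open DRing

namespace Groth.Agent.S12094

open HomologicalComplex

variable {R : Type u} [CommRing R]

/-- A two-term complex with injective differential represents its top cohomology. -/
lemma exists_iso_inD {E : DRing.Cx R} (hE : DRing.VanishesOutside E (-1) 0)
    (hinj : ∀ x, (E.d (-1) 0).hom x = 0 → x = 0) (H : Type u) [AddCommGroup H] [Module R H]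
    (e : (E.X 0 ⧸ LinearMap.range (E.d (-1) 0).hom) ≃ₗ[R] H) : Nonempty (DRing.toD E ≅ Dual.inD R H) := by
  have hv : ∀ i : ℤ, i ≠ 0 → Subsingleton (Dual.HD R (DRing.toD E) i) := fun i hi => by
    refine (GrothLib.DR.exactAt_iff E i).1 ?_
    by_cases h : i = -1
    · subst h
      exact (GrothLib.DR.element_exact E (-2) (-1) 0 (by omega) (by omega)).2 fun x hx => ⟨0, by
        rw [map_zero, hinj x hx]⟩
    · exact ShortComplex.exact_of_isZero_X₂ _ (hE i (by omega))
  haveI : (DRing.toD E).IsLE 0 := by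
    rw [DerivedCategory.isLE_iff]
    exact fun i hi => (GrothLib.DR.subsingleton_iff_isZero _).1 (hv i (by omega))
  haveI : (DRing.toD E).IsGE 0 := by
    rw [DerivedCategory.isGE_iff]
    exact fun i hi => (GrothLib.DR.subsingleton_iff_isZero _).1 (hv i (by omega))
  obtain ⟨X, ⟨eX⟩⟩ := DerivedCategory.exists_iso_singleFunctor_obj_of_isGE_of_isLE (DRing.toD E) 0
  have hd : E.d 0 (0 + 1) = 0 := (hE _ (Or.inr (by omega))).eq_of_tgt _ _
  let e' : X ≅ ModuleCat.of R H := (GrothLib.DR.inDHomologyIso X).symm ≪≫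
    ((DerivedCategory.homologyFunctor (ModuleCat.{u} R) 0).mapIso eX).symm ≪≫
    GrothLib.DR.homologyIso E 0 ≪≫ GrothLib.DR.topIso₀ E hd ≪≫ e.toModuleIso
  exact ⟨eX ≪≫ (DerivedCategory.singleFunctor (ModuleCat.{u} R) 0).mapIso e'⟩

/-- The annihilators of first extensions. -/
def annIdeal (K : Dual.D R) : Ideal R where
  carrier := {a | ∀ (N : Type u) [AddCommGroup N] [Module R N] (ξ : K ⟶ (Dual.inD R N)⟦(1 : ℤ)⟧), a • ξ = 0}
  add_mem' {a b} ha hb N _ _ ξ := by rw [add_smul, ha N ξ, hb N ξ, add_zero]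
  zero_mem' N _ _ ξ := zero_smul _ _
  smul_mem' c a ha N _ _ ξ := by rw [smul_eq_mul, ← smul_smul, ha N ξ, smul_zero]

/-- (1) ⇔ (2): let `I ⊆ R` be an ideal and `K ∈ D(R)` with `H^i(K) = 0` for `i ∉ {-1, 0}`. Then some
power `I^c` annihilates `Ext¹_R(K, N) = Hom_{D(R)}(K, N[1])` for every `R`-module `N` if and only
if, for some `c`, (a) `I^c` annihilates `H^{-1}(K)` and (b) `H^0(K)` is `I^c`-projective, i.e. `I^c`
annihilates `Ext¹_R(H^0(K), N)` for every `R`-module `N`. -/
theorem result {R : Type u} [CommRing R] (I : Ideal R) (K : Dual.D R)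
    (hK : ∀ i : ℤ, i ≠ -1 → i ≠ 0 → Subsingleton (Dual.HD R K i)) :
    (∃ c : ℕ, ∀ (N : Type u) [AddCommGroup N] [Module R N] (a : R), a ∈ I ^ c →
        ∀ ξ : K ⟶ (Dual.inD R N)⟦(1 : ℤ)⟧, a • ξ = 0) ↔
      ∃ c : ℕ, (∀ a : R, a ∈ I ^ c → ∀ x : Dual.HD R K (-1), a • x = 0) ∧
        ∀ (N : Type u) [AddCommGroup N] [Module R N] (a : R), a ∈ I ^ c →
          ∀ ξ : Dual.inD R (Dual.HD R K 0) ⟶ (Dual.inD R N)⟦(1 : ℤ)⟧, a • ξ = 0 := by
  obtain ⟨E, hE, hE0, ⟨eE⟩⟩ := GrothLib.DR.exists_twoTerm_free K hK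
  haveI := hE0
  let d := (E.d (-1) 0).hom
  let E' : DRing.Cx R := HomologicalComplex.double (ModuleCat.ofHom (LinearMap.range d).subtype)
    GrothLib.DR.rel_neg_one_zero
  have hE' : DRing.VanishesOutside E' (-1) 0 := fun i hi =>
    HomologicalComplex.isZero_double_X _ GrothLib.DR.rel_neg_one_zero i (by omega) (by omega)
  let i₁ : E'.X 0 ≅ E.X 0 := doubleXIso₁ (ModuleCat.ofHom (LinearMap.range d).subtype) GrothLib.DR.rel_neg_one_zero
    (by omega)
  let i₀ : E'.X (-1) ≅ ModuleCat.of R (LinearMap.range d) := doubleXIso₀ _ GrothLib.DR.rel_neg_one_zero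
  have hd' : E'.d (-1) 0 = i₀.hom ≫ ModuleCat.ofHom (LinearMap.range d).subtype ≫ i₁.inv :=
    double_d _ GrothLib.DR.rel_neg_one_zero (by omega)
  have hE'0 : Module.Projective R (E'.X 0) := Module.Projective.of_equiv i₁.toLinearEquiv.symm
  have hd : E.d 0 (0 + 1) = 0 := (hE _ (Or.inr (by omega))).eq_of_tgt _ _
  obtain ⟨eE'⟩ : Nonempty (DRing.toD E' ≅ Dual.inD R (Dual.HD R K 0)) := by
    refine exists_iso_inD hE' (fun x hx => ?_) _ ?_
    · rw [hd'] at hx
      have h1 : (LinearMap.range d).subtype (i₀.hom x) = 0 := by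
        have := congrArg i₁.hom hx
        simpa using this
      have h2 : i₀.hom x = 0 := Subtype.ext h1
      have := congrArg i₀.inv h2
      simpa using this
    · refine (Submodule.Quotient.equiv _ _ i₁.toLinearEquiv ?_).trans
        ((GrothLib.DR.topIso₀ E hd).symm ≪≫ (GrothLib.DR.homologyIso E 0).symm ≪≫
          (DerivedCategory.homologyFunctor (ModuleCat.{u} R) 0).mapIso eE).toLinearEquiv
      ext y
      constructor
      · rintro ⟨_, ⟨x, rfl⟩, rfl⟩
        have : i₁.hom (E'.d (-1) 0 x) = (i₀.hom x : LinearMap.range d).1 := by rw [hd']; simp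
        exact this ▸ (i₀.hom x : LinearMap.range d).2
      · rintro hy
        refine ⟨_, ⟨i₀.inv ⟨y, hy⟩, rfl⟩, ?_⟩
        change i₁.hom (E'.d (-1) 0 (i₀.inv ⟨y, hy⟩)) = y
        rw [hd']
        simp
  have hfwd : ∀ a, a ∈ annIdeal K → (∀ x : Dual.HD R K (-1), a • x = 0) ∧
      a ∈ annIdeal (Dual.inD R (Dual.HD R K 0)) := by
    intro a ha
    obtain ⟨h, hh⟩ := (GrothLib.DR.annihilates_ext_one_iff hE inferInstance a).1
      (GrothLib.DR.annihilates_of_iso eE.symm a fun N _ _ => ha N)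
    have hhx : ∀ x, h.hom (d x) = a • x := fun x => ConcreteCategory.congr_hom hh x
    refine ⟨fun x => ?_, GrothLib.DR.annihilates_of_iso eE' a ?_⟩
    · let ι := (HomologicalComplex.homologyFunctor (ModuleCat.{u} R) (ComplexShape.up ℤ) (-1)).obj E
      let eH := ((GrothLib.DR.homologyIso E (-1)).symm ≪≫
        (DerivedCategory.homologyFunctor (ModuleCat.{u} R) (-1)).mapIso eE).toLinearEquiv
      obtain ⟨z, rfl⟩ := eH.surjective x
      rw [← map_smul]
      refine (congrArg eH ?_).trans (map_zero eH)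
      obtain ⟨c, rfl⟩ := (ModuleCat.epi_iff_surjective (E.homologyπ (-1))).1 inferInstance z
      rw [← map_smul]
      refine (congrArg (E.homologyπ (-1)) ?_).trans (map_zero _)
      apply (ModuleCat.mono_iff_injective (E.iCycles (-1))).1 inferInstance
      rw [map_smul, map_zero, ← hhx]
      have hz : d (E.iCycles (-1) c) = 0 := ConcreteCategory.congr_hom (E.iCycles_d (-1) 0) c
      rw [hz, map_zero]
    · refine (GrothLib.DR.annihilates_ext_one_iff hE' hE'0 a).2 ⟨i₁.hom ≫ ModuleCat.ofHom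
        (d.rangeRestrict.comp h.hom) ≫ i₀.inv, ?_⟩
      refine ModuleCat.hom_ext (LinearMap.ext fun x => ?_)
      rw [hd']
      apply i₀.toLinearEquiv.injective
      obtain ⟨y, hy⟩ := (i₀.hom x).2
      have key : d.rangeRestrict (h.hom ((i₀.hom x : LinearMap.range d).1)) = a • i₀.hom x := by
        refine Subtype.ext ?_
        change d (h.hom _) = a • (i₀.hom x : LinearMap.range d).1
        rw [← hy, hhx, map_smul]
      change i₀.hom (i₀.inv (d.rangeRestrict (h.hom (i₁.hom (i₁.inv ((i₀.hom x : LinearMap.range d).1)))))) =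
        i₀.hom (a • x)
      rw [Iso.inv_hom_id_apply, Iso.inv_hom_id_apply, map_smul]
      exact key
  have hbwd : ∀ a b, a ∈ annIdeal (Dual.inD R (Dual.HD R K 0)) → (∀ x : Dual.HD R K (-1), b • x = 0) →
      b * a ∈ annIdeal K := by
    intro a b ha hb
    obtain ⟨h, hh⟩ := (GrothLib.DR.annihilates_ext_one_iff hE' hE'0 a).1
      (GrothLib.DR.annihilates_of_iso eE'.symm a fun N _ _ => ha N)
    haveI : CategoryTheory.Projective (E.X 0) := (GrothLib.DR.projective_iff _).1 inferInstance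
    let h₀ : E.X 0 →ₗ[R] LinearMap.range d := i₀.hom.hom.comp (h.hom.comp i₁.inv.hom)
    haveI : Epi (ModuleCat.ofHom d.rangeRestrict) :=
      (ModuleCat.epi_iff_surjective _).2 d.surjective_rangeRestrict
    let h₁ := CategoryTheory.Projective.factorThru (ModuleCat.ofHom h₀) (ModuleCat.ofHom d.rangeRestrict)
    have h₁spec : ∀ y, d.rangeRestrict (h₁.hom y) = h₀ y := fun y =>
      ConcreteCategory.congr_hom (CategoryTheory.Projective.factorThru_comp (ModuleCat.ofHom h₀)
        (ModuleCat.ofHom d.rangeRestrict)) y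
    have hker : ∀ z, d z = 0 → b • z = 0 := by
      intro z hz
      obtain ⟨c, hc⟩ : ∃ c, E.iCycles (-1) c = z :=
        (ShortComplex.moduleCat_exact_iff _).1 (ShortComplex.exact_of_f_is_kernel (ShortComplex.mk _ _
          (E.iCycles_d (-1) 0)) (E.cyclesIsKernel (-1) 0 (by simp))) z hz
      haveI : IsIso (E.homologyπ (-1)) :=
        E.isIso_homologyπ (-2) (-1) (by simp) ((hE (-2) (Or.inl (by omega))).eq_of_src _ _)
      let eH := ((GrothLib.DR.homologyIso E (-1)).symm ≪≫
        (DerivedCategory.homologyFunctor (ModuleCat.{u} R) (-1)).mapIso eE).toLinearEquiv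
      have h1 : b • (eH (E.homologyπ (-1) c)) = 0 := hb _
      rw [← map_smul] at h1
      have h2 : b • E.homologyπ (-1) c = 0 := eH.injective (h1.trans (map_zero eH).symm)
      rw [← map_smul] at h2
      have h3 : b • c = 0 := (ConcreteCategory.bijective_of_isIso (E.homologyπ (-1))).1 (h2.trans (map_zero _).symm)
      rw [← hc, ← map_smul, h3, map_zero]
    refine GrothLib.DR.annihilates_of_iso eE (b * a) ((GrothLib.DR.annihilates_ext_one_iff hE inferInstance (b * a)).2
      ⟨b • h₁, ModuleCat.hom_ext (LinearMap.ext fun x => ?_)⟩)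
    change b • h₁.hom (d x) = (b * a) • x
    have hd0 : d (h₁.hom (d x) - a • x) = 0 := by
      have h4 := congrArg Subtype.val (h₁spec (d x))
      have h5 := ConcreteCategory.congr_hom hh (i₀.inv ⟨d x, x, rfl⟩)
      rw [hd'] at h5
      have h6 : h₀ (d x) = a • (⟨d x, x, rfl⟩ : LinearMap.range d) := by
        have := congrArg i₀.hom h5
        simpa [h₀] using this
      rw [h6] at h4
      rw [map_sub, map_smul]
      exact sub_eq_zero.2 h4
    have := hker _ hd0
    rwa [smul_sub, sub_eq_zero, smul_smul] at this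
  constructor
  · rintro ⟨c, hc⟩
    exact ⟨c, fun a ha => (hfwd a fun N _ _ => hc N a ha).1, fun N _ _ a ha => (hfwd a fun N _ _ => hc N a ha).2 N⟩
  · rintro ⟨c, h1, h2⟩
    refine ⟨c + c, fun N _ _ a ha => ?_⟩
    have hle : I ^ (c + c) ≤ annIdeal K := by
      rw [pow_add, Ideal.mul_le]
      exact fun r hr s hs => hbwd s r (fun N _ _ => h2 N s hs) (h1 r hr)
    exact fun ξ => hle ha N ξ

end Groth.Agent.S12094
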