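import Groth.Statements.S12095
import Groth.Agent.Lib.GrModAway2.Basic


set_option autoImplicit false
universe u
open CAlg

namespace Groth.Agent.S12095

/-- Let `R'` be an `R`-algebra of finite type, `M` a finite `R'`-module, and `S` an `ℕ`-graded
`R`-algebra with `f ∈ S_1` and a ring isomorphism `e : S_(f) ≅ R'` compatible with the maps from
`R`. Then there is a finite graded `S`-module `N` whose degree-zero localization `N_(f)` (the
elements `n / f^k` of `N_f` with `n` homogeneous of degree `k`) is identified with `M`: an
`R`-linear bijection `e' : N_(f) → M` with `e'(a · x) = e(a) · e'(x)` for all `a ∈ S_(f)`. (The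
published lemma produces `S`, `f` and `N` together from `R'` and `M`; here `N` is produced for any
such `S`, `f`, `e`, which the same construction gives.) -/
theorem result (R R' : Type u) [CommRing R] [CommRing R']
    [Algebra R R'] [Algebra.FiniteType R R']
    (M : Type u) [AddCommGroup M] [Module R' M] [Module R M] [IsScalarTower R R' M] [Module.Finite R' M]
    (S : Type u) [CommRing S] [Algebra R S] (𝒜 : ℕ → Submodule R S) [GradedAlgebra 𝒜] (f : S) (hf : f ∈ 𝒜 1)
    (e : HomogeneousLocalization.Away 𝒜 f ≃+* R')
    (he : ∀ r : R, (e.symm (algebraMap R R' r)).val = algebraMap S (Localization.Away f) (algebraMap R S r)) :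
    ∃ (N : Type u) (_ : AddCommGroup N) (_ : Module S N) (_ : Module R N) (_ : IsScalarTower R S N)
      (ℳ : ℕ → Submodule R N) (_ : DirectSum.Decomposition ℳ) (_ : SetLike.GradedSMul 𝒜 ℳ)
      (Nf : Submodule R (LocalizedModule (Submonoid.powers f) N)) (e' : ↥Nf ≃ₗ[R] M),
      Module.Finite S N ∧
      (∀ x, x ∈ Nf ↔ ∃ k : ℕ, ∃ n ∈ ℳ k, f ^ k • x = LocalizedModule.mk n 1) ∧
      (∀ (a : HomogeneousLocalization.Away 𝒜 f) (x y : ↥Nf),
        a.val • (x : LocalizedModule (Submonoid.powers f) N) = y → e' y = e a • e' x) := by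
  exact GrothLib.GrModAway2.exists_gradedModule 𝒜 hf e M he

end Groth.Agent.S12095
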