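import Groth.Statements.S12096
import Groth.Agent.Lib.Nagata6.Charts

set_option autoImplicit false
set_option backward.isDefEq.respectTransparency false
universe u
open BlowUp

namespace Groth.Agent.S12096

/-- Néron's blowup is compatible with localization. For a ring `A`, an ideal `I`, elements `π, a ∈ A`,
`A' = A[I/π] ⊆ A_π` the affine blowup algebra and `(A_a)' = A_a[I A_a/π]` that of the localization,
the canonical map `A' → (A_a)'` (the restriction of `A_π → (A_a)_π`, given here as a datum with that
compatibility) identifies `(A_a)'` with the localization `A'_a`. In Néron's situation (`I` the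
inverse image of the maximal ideal of `Λ`, `π` a uniformizer, `a ∉ I`) this reads: the Néron blowup
of `A_a` is `A'_a`; the identity holds for arbitrary `A, I, π, a`. -/
theorem result (A : Type u) [CommRing A] (I : Ideal A) (π a : A) (hπ : π ∈ I)
    (ψ : BlowUp.affineAlgebra A I π →+*
      BlowUp.affineAlgebra (Localization.Away a) (I.map (algebraMap A (Localization.Away a))) (algebraMap A (Localization.Away a) π))
    (hψ : ∀ x : BlowUp.affineAlgebra A I π,
      ((ψ x : BlowUp.affineAlgebra (Localization.Away a) (I.map (algebraMap A (Localization.Away a))) (algebraMap A (Localization.Away a) π)) :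
          Localization.Away (algebraMap A (Localization.Away a) π)) =
        Localization.awayMap (algebraMap A (Localization.Away a)) π (x : Localization.Away π)) :
    letI := ψ.toAlgebra
    IsLocalization.Away (algebraMap A (BlowUp.affineAlgebra A I π) a)
      (BlowUp.affineAlgebra (Localization.Away a) (I.map (algebraMap A (Localization.Away a))) (algebraMap A (Localization.Away a) π)) := by
  letI := ψ.toAlgebra
  let A₁ := Localization.Away a
  let f := algebraMap A A₁
  have hc : ∀ r : A, ψ (algebraMap A _ r) = algebraMap A₁ _ (f r) := fun r => Subtype.ext (by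
    rw [hψ]
    exact IsLocalization.map_eq _ r)
  have hnz := GrothLib.BlowUp.algebraMap_mem_nonZeroDivisors (I := I) π
  have hnz₁ := GrothLib.BlowUp.algebraMap_mem_nonZeroDivisors (I := I.map f) (f π)
  have hfrac : ∀ (n : ℕ) (x : A), x ∈ I ^ n → ∃ z : BlowUp.affineAlgebra A I π,
      z * algebraMap A _ π ^ n = algebraMap A _ x := fun n x hx =>
    ⟨⟨_, GrothLib.BlowUp.mk'_mem_of_mem_pow π n hx⟩, Subtype.ext (by
      show _ * (algebraMap A (Localization.Away π) π) ^ n = _
      rw [← map_pow]
      exact IsLocalization.mk'_spec _ _ _)⟩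
  refine ⟨?_, ?_, ?_⟩
  · rintro ⟨_, k, rfl⟩
    rw [map_pow]
    refine IsUnit.pow k ?_
    rw [RingHom.algebraMap_toAlgebra, hc]
    exact (IsLocalization.Away.algebraMap_isUnit a).map _
  · intro y
    obtain ⟨m, ξ, hξ, hyξ⟩ := GrothLib.Nagata6.exists_num_affineAlgebra
      (⟨f π, Ideal.mem_map_of_mem f hπ⟩ : I.map f) y
    rw [← Ideal.map_pow] at hξ
    obtain ⟨⟨⟨r, hr⟩, ⟨_, k, rfl⟩⟩, hξr⟩ := (IsLocalization.mem_map_algebraMap_iff (Submonoid.powers a) A₁).mp hξ
    obtain ⟨z, hz⟩ := hfrac m r hr
    refine ⟨(z, ⟨_, k, rfl⟩), ?_⟩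
    refine (mul_cancel_right_mem_nonZeroDivisors (pow_mem hnz₁ m)).mp ?_
    dsimp only at hξr ⊢
    rw [map_pow, RingHom.algebraMap_toAlgebra, hc, mul_right_comm, ← hyξ, ← map_pow,
      ← map_mul, ← map_pow f a k, hξr, ← hc, ← hz, map_mul, map_pow, hc]
  · intro x x' hxx
    obtain ⟨m, r, hr, hd⟩ := GrothLib.Nagata6.exists_num_affineAlgebra (⟨π, hπ⟩ : I) (x - x')
    have h0 : Localization.awayMap f π (algebraMap A (Localization.Away π) r) = 0 := by
      have h1 : ψ (algebraMap A _ r) = 0 := by
        rw [hd, map_mul, map_sub, RingHom.algebraMap_toAlgebra] at *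
        rw [sub_eq_zero.mpr hxx, zero_mul]
      have h2 := congrArg Subtype.val h1
      rw [hψ] at h2
      exact h2
    rw [show Localization.awayMap f π (algebraMap A (Localization.Away π) r) = algebraMap A₁ _ (f r) from
      IsLocalization.map_eq _ r] at h0
    obtain ⟨⟨_, j, rfl⟩, hj⟩ := (IsLocalization.map_eq_zero_iff (Submonoid.powers (f π)) _ _).mp h0
    have hj' : f (π ^ j * r) = 0 := by rw [map_mul, map_pow]; exact hj
    obtain ⟨⟨_, i, rfl⟩, hi⟩ := (IsLocalization.map_eq_zero_iff (Submonoid.powers a) A₁ _).mp hj'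
    refine ⟨⟨_, i, rfl⟩, ?_⟩
    have h3 : algebraMap A (BlowUp.affineAlgebra A I π) (a ^ i) * (x - x') * algebraMap A _ π ^ (j + m) = 0 := by
      have := congrArg (algebraMap A (BlowUp.affineAlgebra A I π)) hi
      rw [map_zero, map_mul, map_mul, hd, map_pow _ π] at this
      rw [← this, pow_add]
      ring
    have h4 := (mul_right_mem_nonZeroDivisors_eq_zero_iff (pow_mem hnz _)).mp h3
    rw [mul_sub, sub_eq_zero, map_pow] at h4
    exact h4

end Groth.Agent.S12096
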