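import Groth.Statements.S12097
import Groth.Agent.Lib.Nagata6.Charts

set_option autoImplicit false
set_option backward.isDefEq.respectTransparency false
universe u
open BlowUp

namespace Groth.Agent.S12097

/-- Néron's blowup is compatible with closed immersions. For a surjective ring map `B → A` with kernel
`J`, an ideal `I ⊆ B` containing `π`, and the affine blowup algebras `B' = B[I/π] ⊆ B_π`, `A' =
A[IA/π] ⊆ A_π`, the canonical map `B' → A'` (the restriction of `B_π → A_π`, given as a datum with
that compatibility) is surjective with kernel the elements `x` such that `π^n x ∈ J B'` for some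
`n`: `A'` is the quotient of `B'/JB'` by its `π`-power torsion. In Néron's situation (`I` the
inverse image of the maximal ideal of `Λ`, `π` a uniformizer) this is the printed functoriality; the
identity holds for any surjection. -/
theorem result (B A : Type u) [CommRing B] [CommRing A] [Algebra B A]
    (hq : Function.Surjective (algebraMap B A)) (I : Ideal B) (π : B) (hπ : π ∈ I)
    (ψ : BlowUp.affineAlgebra B I π →+* BlowUp.affineAlgebra A (I.map (algebraMap B A)) (algebraMap B A π))
    (hψ : ∀ x : BlowUp.affineAlgebra B I π,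
      ((ψ x : BlowUp.affineAlgebra A (I.map (algebraMap B A)) (algebraMap B A π)) : Localization.Away (algebraMap B A π)) =
        Localization.awayMap (algebraMap B A) π (x : Localization.Away π)) :
    Function.Surjective ψ ∧
      ∀ x : BlowUp.affineAlgebra B I π, x ∈ RingHom.ker ψ ↔
        ∃ n : ℕ, algebraMap B (BlowUp.affineAlgebra B I π) π ^ n * x ∈
          (RingHom.ker (algebraMap B A)).map (algebraMap B (BlowUp.affineAlgebra B I π)) := by
  let f := algebraMap B A
  have hc : ∀ r : B, ψ (algebraMap B _ r) = algebraMap A _ (f r) := fun r => Subtype.ext (by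
    rw [hψ]
    exact IsLocalization.map_eq _ r)
  have hnz := GrothLib.BlowUp.algebraMap_mem_nonZeroDivisors (I := I) π
  have hnz₁ := GrothLib.BlowUp.algebraMap_mem_nonZeroDivisors (I := I.map f) (f π)
  have hfrac : ∀ (n : ℕ) (x : B), x ∈ I ^ n → ∃ z : BlowUp.affineAlgebra B I π,
      z * algebraMap B _ π ^ n = algebraMap B _ x := fun n x hx =>
    ⟨⟨_, GrothLib.BlowUp.mk'_mem_of_mem_pow π n hx⟩, Subtype.ext (by
      show _ * (algebraMap B (Localization.Away π) π) ^ n = _
      rw [← map_pow]
      exact IsLocalization.mk'_spec _ _ _)⟩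
  refine ⟨fun y => ?_, fun x => ⟨fun hx => ?_, fun ⟨n, hn⟩ => ?_⟩⟩
  · obtain ⟨m, ξ, hξ, hyξ⟩ := GrothLib.Nagata6.exists_num_affineAlgebra
      (⟨f π, Ideal.mem_map_of_mem f hπ⟩ : I.map f) y
    rw [← Ideal.map_pow, Ideal.mem_map_iff_of_surjective f hq] at hξ
    obtain ⟨r, hr, rfl⟩ := hξ
    obtain ⟨z, hz⟩ := hfrac m r hr
    refine ⟨z, (mul_cancel_right_mem_nonZeroDivisors (pow_mem hnz₁ m)).mp ?_⟩
    rw [← hyξ, ← hc r, ← hz, map_mul, map_pow, hc]
  · obtain ⟨m, r, hr, hd⟩ := GrothLib.Nagata6.exists_num_affineAlgebra (⟨π, hπ⟩ : I) x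
    have h1 : ψ (algebraMap B _ r) = 0 := by
      rw [hd, map_mul, RingHom.mem_ker.mp hx, zero_mul]
    have h2 := congrArg Subtype.val h1
    rw [hc] at h2
    change algebraMap A (Localization.Away (f π)) (f r) = 0 at h2
    obtain ⟨⟨_, j, rfl⟩, hj⟩ := (IsLocalization.map_eq_zero_iff (Submonoid.powers (f π)) _ _).mp h2
    refine ⟨j + m, ?_⟩
    have hker : π ^ j * r ∈ RingHom.ker f := by
      rw [RingHom.mem_ker, map_mul, map_pow]; exact hj
    have h3 := Ideal.mem_map_of_mem (algebraMap B (BlowUp.affineAlgebra B I π)) hker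
    rw [map_mul, map_pow, hd] at h3
    rwa [pow_add, mul_assoc, mul_comm _ x]
  · have hle : (RingHom.ker f).map (algebraMap B (BlowUp.affineAlgebra B I π)) ≤ RingHom.ker ψ :=
      Ideal.map_le_iff_le_comap.mpr fun r hr => by
        rw [Ideal.mem_comap, RingHom.mem_ker, hc, RingHom.mem_ker.mp hr, map_zero]
    have h := RingHom.mem_ker.mp (hle hn)
    rw [map_mul, map_pow, hc] at h
    exact RingHom.mem_ker.mpr ((mul_left_mem_nonZeroDivisors_eq_zero_iff (pow_mem hnz₁ n)).mp h)

end Groth.Agent.S12097
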