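import Groth.Statements.S12098
import Groth.Agent.Lib.DCxRing.StableIso

set_option autoImplicit false
universe u
open CategoryTheory CategoryTheory.Limits
attribute [local instance] HasDerivedCategory.standard
open DRing

namespace Groth.Agent.S12098

/-- Let `p ⊆ R` be a prime and `M•`, `N•` bounded complexes whose terms are finite projective
`R`-modules and which are isomorphic in `D(R)`. Then for some `f ∉ p` the localized complexes `M•_f`
and `N•_f` become isomorphic once a finite direct sum of trivial complexes is added to each: `M•_f ⊕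
P•` and `N•_f ⊕ Q•` are isomorphic as complexes, with `P•`, `Q•` finite direct sums of copies of `0
→ R_f = R_f → 0` (placed in arbitrary degrees), expressed here as: bounded, with finite free terms
and free boundary modules, and with null-homotopic identity. -/
theorem result (R : Type u) [CommRing R] (p : Ideal R) [p.IsPrime]
    (M N : DRing.Cx R) (a b : ℤ) (hM : DRing.VanishesOutside M a b) (hN : DRing.VanishesOutside N a b)
    (hMp : DRing.TermwiseFiniteProjective M) (hNp : DRing.TermwiseFiniteProjective N)
    (h : Nonempty (DRing.toD M ≅ DRing.toD N)) :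
    ∃ f : R, f ∉ p ∧ ∃ P Q : DRing.Cx (Localization.Away f),
      ((∃ a' b' : ℤ, DRing.VanishesOutside P a' b') ∧ DRing.TermwiseFiniteFree P ∧
          (∀ i : ℤ, Module.Free (Localization.Away f) (LinearMap.range (P.d i (i + 1)).hom)) ∧ Nonempty (Homotopy (𝟙 P) 0)) ∧
      ((∃ a' b' : ℤ, DRing.VanishesOutside Q a' b') ∧ DRing.TermwiseFiniteFree Q ∧
          (∀ i : ℤ, Module.Free (Localization.Away f) (LinearMap.range (Q.d i (i + 1)).hom)) ∧ Nonempty (Homotopy (𝟙 Q) 0)) ∧
      Nonempty ((((ModuleCat.extendScalars (algebraMap R (Localization.Away f))).mapHomologicalComplex (ComplexShape.up ℤ)).obj M) ⊞ P ≅ (((ModuleCat.extendScalars (algebraMap R (Localization.Away f))).mapHomologicalComplex (ComplexShape.up ℤ)).obj N) ⊞ Q) :=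
  GrothLib.DR.exists_away_iso p hM hN hMp hNp h

end Groth.Agent.S12098
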