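import Groth.Statements.S12104
import Mathlib.AlgebraicGeometry.Sites.Fpqc
import Groth.Agent.Lib.DescentHom.GeomConnected
-- import your own Groth.Agent.* helpers here

set_option autoImplicit false
open CategoryTheory MonoidalCategory CartesianMonoidalCategory MonObj GrpObj AlgebraicGeometry
universe u
set_option linter.all false
set_option maxHeartbeats 2000000
set_option synthInstance.maxHeartbeats 200000
set_option backward.isDefEq.respectTransparency false
open RedSub

namespace Groth.Agent.S12104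

open CategoryTheory.Limits in
/-- A morphism to an étale separated scheme factors through a covering with connected fibres. -/
theorem factor_of_connected_fibres {S : Scheme.{u}} {M A B : Over S} (a : M ⟶ A) (b : M ⟶ B)
    [Smooth a.left] [Surjective a.left] [QuasiCompact a.left] [GeometricallyConnected a.left]
    [IsSeparated B.hom] [FormallyUnramified B.hom] [LocallyOfFiniteType B.hom] :
    ∃ f : A ⟶ B, a ≫ f = b := by
  let P := pullback a.left a.left
  let u₁ : P ⟶ B.left := pullback.fst a.left a.left ≫ b.left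
  let u₂ : P ⟶ B.left := pullback.snd a.left a.left ≫ b.left
  have w : u₁ ≫ B.hom = u₂ ≫ B.hom := by
    simp only [u₁, u₂, Category.assoc, Over.w b, ← Over.w a]
    exact pullback.condition_assoc _
  let l : P ⟶ pullback B.hom B.hom := pullback.lift u₁ u₂ w
  let e := pullback.snd (pullback.diagonal B.hom) l
  have hc : pullback.fst (pullback.diagonal B.hom) l ≫ pullback.diagonal B.hom = e ≫ l := pullback.condition
  haveI : IsOpenImmersion e := inferInstanceAs (IsOpenImmersion (pullback.snd _ _))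
  haveI : IsClosedImmersion e := inferInstanceAs (IsClosedImmersion (pullback.snd _ _))
  have hdiag : ∀ m : ↥M.left, (pullback.diagonal a.left) m ∈ Set.range e := fun m => by
    have h1 : b.left ≫ pullback.diagonal B.hom = pullback.diagonal a.left ≫ l := by
      apply pullback.hom_ext <;>
        simp only [l, u₁, u₂, Category.assoc, pullback.diagonal_fst, pullback.diagonal_snd, pullback.lift_fst,
          pullback.lift_snd, pullback.diagonal_fst_assoc, pullback.diagonal_snd_assoc, Category.comp_id]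
    refine ⟨(pullback.lift b.left (pullback.diagonal a.left) h1) m, ?_⟩
    rw [← Scheme.Hom.comp_apply, pullback.lift_snd]
  haveI : Surjective e := ⟨fun x => by
    have hconn := (pullback.fst a.left a.left).isConnected_preimage_singleton (pullback.fst a.left a.left x)
    refine hconn.isPreconnected.subset_isClopen
      ⟨e.isClosedEmbedding.isClosed_range, e.isOpenEmbedding.isOpen_range⟩
      ⟨_, ?_, hdiag (pullback.fst a.left a.left x)⟩ rfl
    rw [Set.mem_preimage, Set.mem_singleton_iff, ← Scheme.Hom.comp_apply, pullback.diagonal_fst]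
    rfl⟩
  haveI : IsIso e := (isIso_iff_isOpenImmersion_and_surjective e).2 ⟨inferInstance, inferInstance⟩
  have heq : u₁ = u₂ := by
    rw [← cancel_epi e]
    calc e ≫ u₁ = (e ≫ l) ≫ pullback.fst _ _ := by rw [Category.assoc, pullback.lift_fst]
      _ = (e ≫ l) ≫ pullback.snd _ _ := by
        rw [← hc, Category.assoc, Category.assoc, pullback.diagonal_fst, pullback.diagonal_snd]
      _ = e ≫ u₂ := by rw [Category.assoc, pullback.lift_snd]
  have hd : ∀ {Z : Scheme.{u}} (g₁ g₂ : Z ⟶ M.left), g₁ ≫ a.left = g₂ ≫ a.left → g₁ ≫ b.left = g₂ ≫ b.left := by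
    intro Z g₁ g₂ hg
    have := congrArg (fun t => pullback.lift g₁ g₂ hg ≫ t) heq
    simpa [u₁, u₂] using this
  refine ⟨Over.homMk (EffectiveEpi.desc a.left b.left hd) ?_, ?_⟩
  · rw [← cancel_epi a.left, ← Category.assoc, EffectiveEpi.fac, Over.w a, Over.w b]
  · exact Over.OverMorphism.ext (EffectiveEpi.fac a.left b.left hd)

/-- Let G be a reductive S-group and (M, h : H ⟶ G_M) a representing pair for the functor of subgroups
of type (RC) of G (type (R) with closed root sets on the geometric fibres; every such subgroup of a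
base change G_{S'} has the same points as the pullback of h along exactly one S-morphism S' ⟶ M).
Suppose (Cl₁, cl₁ : M ⟶ Cl₁) and (Cl₂, cl₂ : M ⟶ Cl₂) are two pairs with the following properties:
Clᵢ finite and etale over S; clᵢ smooth, surjective, quasi-compact, locally of finite presentation
and locally quasi-projective with connected geometric fibres; and two subgroups of type (RC) of
G_{S'} with classifying maps g₁, g₂ : S' ⟶ M have the same image under clᵢ if and only if at every
point of S' their geometric fibres are conjugate under a point of the geometric fibre of G. Then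
there is exactly one S-isomorphism e : Cl₁ ≅ Cl₂ with cl₁ ≫ e.hom = cl₂. -/
theorem result {S : Scheme.{u}} (G : Over S) [GrpObj G] (hG : Red.IsReductive G)
    (M : Over S) (H : Over M.left) [GrpObj H] (h : H ⟶ Red.bc M.hom G) (hh : RedSub.IsTypeR h)
    (hRC : (∀ (s : ↥M.left) (D' : Red.SplitRed (Red.geomFibre s (Red.bc M.hom G))) (t' : D'.T ⟶ Red.geomFibre s _),
        t' ≫ (Over.pullback (Red.geomPt s)).map h = D'.i →
        ∀ a b c : D'.idx, (∃ v, v ≫ (Over.pullback (Red.geomPt s)).map h = D'.u a) →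
          (∃ v, v ≫ (Over.pullback (Red.geomPt s)).map h = D'.u b) → D'.P.root a + D'.P.root b = D'.P.root c →
          ∃ v, v ≫ (Over.pullback (Red.geomPt s)).map h = D'.u c))
    (huniv : ∀ (S' : Scheme.{u}) (f : S' ⟶ S) (H' : Over S') [GrpObj H'] (h' : H' ⟶ Red.bc f G), RedSub.IsTypeR h' →
        (∀ (s : ↥S') (D' : Red.SplitRed (Red.geomFibre s (Red.bc f G))) (t' : D'.T ⟶ Red.geomFibre s _),
        t' ≫ (Over.pullback (Red.geomPt s)).map h' = D'.i →
        ∀ a b c : D'.idx, (∃ v, v ≫ (Over.pullback (Red.geomPt s)).map h' = D'.u a) →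
          (∃ v, v ≫ (Over.pullback (Red.geomPt s)).map h' = D'.u b) → D'.P.root a + D'.P.root b = D'.P.root c →
          ∃ v, v ≫ (Over.pullback (Red.geomPt s)).map h' = D'.u c) →
        ∃! g : S' ⟶ M.left, g ≫ M.hom = f ∧ RedSub.SamePoints G f h' M h g) 
    (Cl₁ : Over S) (cl₁ : M ⟶ Cl₁) (Cl₂ : Over S) (cl₂ : M ⟶ Cl₂)
    (hCl₁ : IsFinite Cl₁.hom ∧ Etale Cl₁.hom ∧ Smooth cl₁.left ∧ Surjective cl₁.left ∧
      QuasiCompact cl₁.left ∧ LocallyOfFinitePresentation cl₁.left ∧ RedSub.IsLocallyQuasiProjective (Over.mk cl₁.left) ∧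
      (∀ c : ↥Cl₁.left, ConnectedSpace ↥(Red.geomFibre c (Over.mk cl₁.left)).left) ∧
      ∀ (S' : Scheme.{u}) (f : S' ⟶ S) (H₁ H₂ : Over S') [GrpObj H₁] [GrpObj H₂] (h₁ : H₁ ⟶ Red.bc f G)
        (h₂ : H₂ ⟶ Red.bc f G) (g₁ g₂ : S' ⟶ M.left), RedSub.IsTypeR h₁ → RedSub.IsTypeR h₂ →
        g₁ ≫ M.hom = f → g₂ ≫ M.hom = f → RedSub.SamePoints G f h₁ M h g₁ → RedSub.SamePoints G f h₂ M h g₂ →
        (g₁ ≫ cl₁.left = g₂ ≫ cl₁.left ↔
          ∀ s : ↥S', ∃ gpt : 𝟙_ _ ⟶ Red.geomFibre s (Red.bc f G),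
            RedSub.ConjEq ((Over.pullback (Red.geomPt s)).map h₁) ((Over.pullback (Red.geomPt s)).map h₂) gpt))
    (hCl₂ : IsFinite Cl₂.hom ∧ Etale Cl₂.hom ∧ Smooth cl₂.left ∧ Surjective cl₂.left ∧
      QuasiCompact cl₂.left ∧ LocallyOfFinitePresentation cl₂.left ∧ RedSub.IsLocallyQuasiProjective (Over.mk cl₂.left) ∧
      (∀ c : ↥Cl₂.left, ConnectedSpace ↥(Red.geomFibre c (Over.mk cl₂.left)).left) ∧
      ∀ (S' : Scheme.{u}) (f : S' ⟶ S) (H₁ H₂ : Over S') [GrpObj H₁] [GrpObj H₂] (h₁ : H₁ ⟶ Red.bc f G)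
        (h₂ : H₂ ⟶ Red.bc f G) (g₁ g₂ : S' ⟶ M.left), RedSub.IsTypeR h₁ → RedSub.IsTypeR h₂ →
        g₁ ≫ M.hom = f → g₂ ≫ M.hom = f → RedSub.SamePoints G f h₁ M h g₁ → RedSub.SamePoints G f h₂ M h g₂ →
        (g₁ ≫ cl₂.left = g₂ ≫ cl₂.left ↔
          ∀ s : ↥S', ∃ gpt : 𝟙_ _ ⟶ Red.geomFibre s (Red.bc f G),
            RedSub.ConjEq ((Over.pullback (Red.geomPt s)).map h₁) ((Over.pullback (Red.geomPt s)).map h₂) gpt)) :
    ∃! e : Cl₁ ≅ Cl₂, cl₁ ≫ e.hom = cl₂ := by
  obtain ⟨hfi1, he1, hs1, hsu1, hq1, -, -, hc1, -⟩ := hCl₁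
  obtain ⟨hfi2, he2, hs2, hsu2, hq2, -, -, hc2, -⟩ := hCl₂
  haveI := hfi1; haveI := hfi2; haveI := he1; haveI := he2; haveI := hs1; haveI := hs2
  haveI := hsu1; haveI := hsu2; haveI := hq1; haveI := hq2
  haveI : GeometricallyConnected cl₁.left := GrothLib.DescentHom.geometricallyConnected_of_geomPt _ hc1
  haveI : GeometricallyConnected cl₂.left := GrothLib.DescentHom.geometricallyConnected_of_geomPt _ hc2
  obtain ⟨f, hf⟩ := factor_of_connected_fibres cl₁ cl₂
  obtain ⟨f', hf'⟩ := factor_of_connected_fibres cl₂ cl₁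
  haveI : Epi cl₁.left := Flat.epi_of_flat_of_surjective cl₁.left
  haveI : Epi cl₂.left := Flat.epi_of_flat_of_surjective cl₂.left
  refine ⟨⟨f, f', ?_, ?_⟩, hf, fun e he => ?_⟩
  · refine Over.OverMorphism.ext ((cancel_epi cl₁.left).1 ?_)
    rw [← Over.comp_left, ← Over.comp_left, ← Category.assoc, hf, hf', Category.comp_id]
  · refine Over.OverMorphism.ext ((cancel_epi cl₂.left).1 ?_)
    rw [← Over.comp_left, ← Over.comp_left, ← Category.assoc, hf', hf, Category.comp_id]
  · refine Iso.ext (Over.OverMorphism.ext ((cancel_epi cl₁.left).1 ?_))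
    rw [← Over.comp_left, ← Over.comp_left, he, hf]

end Groth.Agent.S12104
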