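import Groth.Statements.S12107
import Groth.Agent.Lib.Topos.OpenClosed

set_option autoImplicit false
universe u
open CategoryTheory
open SGA4

namespace Groth.Agent.S12107

open CategoryTheory.Limits in
/-- In the topos of sheaves of sets on a small site, let U be an open (a subobject of the final object)
and, for an object X, let X_CU be the pushout of U ← U × X → X along the two projections. For a
morphism m : X ⟶ X' let k : X_CU ⟶ X'_CU be the induced morphism (compatible with the maps from U
and with m). Then the square with sides m, k and the canonical maps X ⟶ X_CU, X' ⟶ X'_CU is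
cartesian if and only if id_U × m : U × X ⟶ U × X' is an isomorphism (that is, m restricts to an
isomorphism over U). -/
theorem result {C : Type u} [SmallCategory C] (J : GrothendieckTopology C)
    (U : Sheaf J (Type u)) (hU : SGA4.IsOpen U) {X X' : Sheaf J (Type u)} (m : X ⟶ X')
    (k : pushout (prod.fst : U ⨯ X ⟶ U) (prod.snd : U ⨯ X ⟶ X) ⟶
      pushout (prod.fst : U ⨯ X' ⟶ U) (prod.snd : U ⨯ X' ⟶ X'))
    (hk₁ : pushout.inl (prod.fst : U ⨯ X ⟶ U) (prod.snd : U ⨯ X ⟶ X) ≫ k =
      pushout.inl (prod.fst : U ⨯ X' ⟶ U) (prod.snd : U ⨯ X' ⟶ X'))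
    (hk₂ : pushout.inr (prod.fst : U ⨯ X ⟶ U) (prod.snd : U ⨯ X ⟶ X) ≫ k =
      m ≫ pushout.inr (prod.fst : U ⨯ X' ⟶ U) (prod.snd : U ⨯ X' ⟶ X')) :
    IsPullback m (pushout.inr (prod.fst : U ⨯ X ⟶ U) (prod.snd : U ⨯ X ⟶ X))
        (pushout.inr (prod.fst : U ⨯ X' ⟶ U) (prod.snd : U ⨯ X' ⟶ X')) k ↔
      IsIso (prod.map (𝟙 U) m) := by
  let hX := GrothLib.Topos.OpenClosed.isPushout U hU X
  let hX' := GrothLib.Topos.OpenClosed.isPushout U hU X'
  let CP := GrothLib.Topos.OpenClosed.closedPart U
  have ek : hX.isoPushout.hom ≫ k = CP.map m ≫ hX'.isoPushout.hom := by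
    apply hX.hom_ext
    · rw [hX.inl_isoPushout_hom_assoc, hk₁]
      have e : GrothLib.Topos.OpenClosed.inlU U X ≫ CP.map m =
          GrothLib.Topos.OpenClosed.inlU U X' :=
        GrothLib.Topos.OpenClosed.hom_closed_eq U
          (GrothLib.Topos.OpenClosed.closedCompl_closedPart U X') (𝟙 U) _ _
      rw [← Category.assoc, e, hX'.inl_isoPushout_hom]
    · rw [hX.inr_isoPushout_hom_assoc, hk₂, ← Category.assoc,
        GrothLib.Topos.OpenClosed.q_naturality, Category.assoc, hX'.inr_isoPushout_hom]
  have hiff : IsPullback m (GrothLib.Topos.OpenClosed.q U X) (GrothLib.Topos.OpenClosed.q U X')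
      (CP.map m) ↔ IsPullback m (pushout.inr (prod.fst : U ⨯ X ⟶ U) (prod.snd : U ⨯ X ⟶ X))
        (pushout.inr (prod.fst : U ⨯ X' ⟶ U) (prod.snd : U ⨯ X' ⟶ X')) k := by
    constructor <;> intro h
    · exact h.of_iso (Iso.refl _) (Iso.refl _) hX.isoPushout hX'.isoPushout (by simp)
        (by simp [hX.inr_isoPushout_hom]) (by simp [hX'.inr_isoPushout_hom]) ek.symm
    · exact h.of_iso (Iso.refl _) (Iso.refl _) hX.isoPushout.symm hX'.isoPushout.symm (by simp)
        (by simp [hX.inr_isoPushout_hom]) (by simp [hX'.inr_isoPushout_hom])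
        (by rw [Iso.symm_hom, Iso.symm_hom, Iso.eq_inv_comp, ← Category.assoc, ek,
          Category.assoc, Iso.hom_inv_id, Category.comp_id])
  have hUk : IsIso ((Over.star U).map (CP.map m)) := by
    rw [GrothLib.Topos.OpenClosed.isIso_star_map_iff]
    have : IsIso (prod.fst : U ⨯ CP.obj X ⟶ U) :=
      GrothLib.Topos.OpenClosed.closedCompl_closedPart U X
    have : IsIso (prod.fst : U ⨯ CP.obj X' ⟶ U) :=
      GrothLib.Topos.OpenClosed.closedCompl_closedPart U X'
    have : IsIso (prod.map (𝟙 U) (CP.map m) ≫ prod.fst) := by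
      rw [prod.map_fst, Category.comp_id]; infer_instance
    exact IsIso.of_isIso_comp_right _ (prod.fst : U ⨯ CP.obj X' ⟶ U)
  have : (Over.star U).IsRightAdjoint := (Over.forgetAdjStar U).isRightAdjoint
  rw [← hiff, ← GrothLib.Topos.OpenClosed.isIso_star_map_iff]
  constructor
  · intro h
    exact (h.map (Over.star U)).isIso_fst_of_isIso
  · intro hm
    let sq := IsPullback.of_hasPullback (GrothLib.Topos.OpenClosed.q U X') (CP.map m)
    have w := GrothLib.Topos.OpenClosed.q_naturality U m
    let c := sq.lift m (GrothLib.Topos.OpenClosed.q U X) w.symm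
    have : IsIso c := by
      apply GrothLib.Topos.OpenClosed.isIso_of_open_closed U
      · rw [← GrothLib.Topos.OpenClosed.isIso_star_map_iff]
        have := (sq.map (Over.star U)).isIso_fst_of_isIso
        have : IsIso ((Over.star U).map c ≫
            (Over.star U).map (pullback.fst (GrothLib.Topos.OpenClosed.q U X') (CP.map m))) := by
          rw [← Functor.map_comp, sq.lift_fst]; exact hm
        exact IsIso.of_isIso_comp_right _
          ((Over.star U).map (pullback.fst (GrothLib.Topos.OpenClosed.q U X') (CP.map m)))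
      · have hq : ∀ Z, IsIso (CP.map (GrothLib.Topos.OpenClosed.q U Z)) := fun Z => by
          have e : CP.map (GrothLib.Topos.OpenClosed.q U Z) =
              GrothLib.Topos.OpenClosed.q U (CP.obj Z) := by
            apply (GrothLib.Topos.OpenClosed.isPushout U hU Z).hom_ext
            · exact GrothLib.Topos.OpenClosed.hom_closed_eq U
                (GrothLib.Topos.OpenClosed.closedCompl_closedPart U (CP.obj Z)) (𝟙 U) _ _
            · exact GrothLib.Topos.OpenClosed.q_naturality U (GrothLib.Topos.OpenClosed.q U Z)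
          rw [e]
          exact (GrothLib.Topos.OpenClosed.closedCompl_iff_isIso_q U hU _).1
            (GrothLib.Topos.OpenClosed.closedCompl_closedPart U Z)
        have : PreservesFiniteLimits CP := comp_preservesFiniteLimits _ _
        have := hq X'
        have := (sq.map CP).isIso_snd_of_isIso
        have : IsIso (CP.map c ≫
            CP.map (pullback.snd (GrothLib.Topos.OpenClosed.q U X') (CP.map m))) := by
          rw [← Functor.map_comp, sq.lift_snd]; exact hq X
        exact IsIso.of_isIso_comp_right _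
          (CP.map (pullback.snd (GrothLib.Topos.OpenClosed.q U X') (CP.map m)))
    exact sq.of_iso (asIso c).symm (Iso.refl _) (Iso.refl _) (Iso.refl _)
      (by simp [c]) (by simp [c]) (by simp) (by simp)

end Groth.Agent.S12107
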