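import Groth.Statements.S12111
import Groth.Agent.Lib.BddFam20.Embedded

set_option autoImplicit false
set_option linter.style.haveILetI false
set_option maxHeartbeats 800000
universe u
open CategoryTheory CategoryTheory.Limits AlgebraicGeometry
open Pic13

namespace Groth.Agent.S12111

/-- Let k be an algebraically closed field, i : X ⟶ P^n_k a closed immersion and O_X(1) = i^*O(1). If a
coherent O_X-module F is m-regular (H^q(X, F(m - q)) = 0 for every q ≥ 1) then for every integer n'
≥ m, F is n'-regular and F(n') is generated by its global sections. (The published statement is for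
a projective k-scheme with an ample O_X(1) generated by its sections at the points of the support of
F; this row is the case of a closed subscheme of projective space.) -/
theorem result (k : Type u) [Field k] [IsAlgClosed k] (n : ℕ) {X : Scheme.{u}}
    (i : X ⟶ CohB1.ProjSpace n k) [IsClosedImmersion i] (F : X.Modules) (hF : Coh.IsCoh F) (m : ℤ)
    (h : Pic13.IsMRegular k i F m) (n' : ℤ) (hn' : m ≤ n') :
    Pic13.IsMRegular k i F n' ∧ Curv2.IsGloballyGenerated (Pic13.twistOn k i F n') := by
  letI : X.Over (Spec (CommRingCat.of k)) := ⟨i ≫ CohB1.ProjSpace.toSpec n k⟩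
  have hi : i ≫ CohB1.ProjSpace.toSpec n k = X ↘ Spec (CommRingCat.of k) := rfl
  haveI := GrothLib.BddFam20.isProper_of_closed i hi
  haveI := GrothLib.Euler.isNoetherian_of_proper (X := X) k
  have hP := GrothLib.BddFam20.isMRegular_push i hi hF h
  refine ⟨fun q hq => ?_, ?_⟩
  · obtain ⟨e⟩ := GrothLib.BddFam20.nonempty_HH_twistOn i hi hF (n' - q) q
    haveI := GrothLib.BddFam20.subsingleton_of_regular i hi hF hP (n' - q) q hq (by omega)
    exact e.toEquiv.subsingleton
  · have h1 := GrothLib.CMReg.spanned_of_regular (GrothLib.FormalExist7.isCoh_pushforward i hF) m hP n' hn'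
    obtain ⟨g⟩ := GrothLib.Regularity.nonempty_push_tensor i
      (GrothLib.Euler.isFinLocFree_of_isInvertible (GrothLib.CMReg.isInvertible_twist (n := n) (k := k) n')) F
      (Iso.refl ((Scheme.Modules.pullback i).obj (Twist.twistProjSpace n k n')))
    exact GrothLib.Ample.isGloballyGenerated_of_local _
      (GrothLib.Regularity.spanned_of_push i (GrothLib.CMReg.Spanned.of_iso g.symm h1))

end Groth.Agent.S12111
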