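import Groth.Statements.S12112
import Groth.Agent.Lib.BddFam20.Embedded
import Groth.Agent.Lib.CMReg.Extension
import Groth.Agent.Lib.K0Sub.PushExact
import Groth.Prelude.Def_PicGrp

set_option autoImplicit false
set_option linter.style.haveILetI false
set_option maxHeartbeats 800000
universe u
open CategoryTheory CategoryTheory.Limits AlgebraicGeometry
open Pic13

namespace Groth.Agent.S12112

/-- Let k be an algebraically closed field, i : X ⟶ P^n_k a closed k-immersion, O_X(1) = i^*O(1), and F,
G coherent O_X-modules with a short exact sequence 0 → F(-1) → F → G → 0 and G m-regular. Then (i)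
H^q(X, F(n')) = 0 for q ≥ 2 and n' ≥ m - q; (ii) h^1(F(n' - 1)) ≥ h^1(F(n')) for n' ≥ m - 1, h^1
being the dimension over k; (iii) H^1(X, F(n')) = 0 for n' ≥ (m - 1) + h^1(F(m - 1)); in particular
F is (m + h^1(F(m - 1)))-regular. (The published statement takes F(-1) → F given by a section of
O_X(1); the printed argument uses only the short exact sequence and its twists, so any short exact
sequence of this shape is allowed here.) -/
theorem result (k : Type u) [Field k] [IsAlgClosed k] (n : ℕ) (X : Scheme.{u})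
    [X.Over (Spec (CommRingCat.of k))] (i : X ⟶ CohB1.ProjSpace n k) [IsClosedImmersion i]
    (hi : i ≫ CohB1.ProjSpace.toSpec n k = X ↘ Spec (CommRingCat.of k))
    (F G : X.Modules) (hF : Coh.IsCoh F) (hG : Coh.IsCoh G)
    (f : Pic13.twistOn k i F (-1) ⟶ F) (g : F ⟶ G) (hfg : f ≫ g = 0) (hS : (ShortComplex.mk f g hfg).ShortExact)
    (m : ℤ) (hGm : Pic13.IsMRegular k i G m) :
    (∀ (q : ℕ) (n' : ℤ), 2 ≤ q → m - q ≤ n' → Subsingleton (Coh.HH X (Pic13.twistOn k i F n') q)) ∧
    (∀ n' : ℤ, m - 1 ≤ n' →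
      Module.finrank k (Coh.HH X (Pic13.twistOn k i F n') 1) ≤ Module.finrank k (Coh.HH X (Pic13.twistOn k i F (n' - 1)) 1)) ∧
    (∀ n' : ℤ, (m - 1) + (Module.finrank k (Coh.HH X (Pic13.twistOn k i F (m - 1)) 1) : ℤ) ≤ n' →
      Subsingleton (Coh.HH X (Pic13.twistOn k i F n') 1)) ∧
    Pic13.IsMRegular k i F (m + Module.finrank k (Coh.HH X (Pic13.twistOn k i F (m - 1)) 1)) := by
  haveI := GrothLib.BddFam20.isProper_of_closed i hi
  haveI := GrothLib.Euler.isNoetherian_of_proper (X := X) k
  obtain ⟨_, _, _⟩ := GrothLib.K0Sub.pushforward_exact i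
  have hS' := hS.map_of_exact (Scheme.Modules.pushforward i)
  have hPF := GrothLib.FormalExist7.isCoh_pushforward i hF
  obtain ⟨g0⟩ := GrothLib.Regularity.nonempty_push_tensor i
    (GrothLib.Euler.isFinLocFree_of_isInvertible (GrothLib.CMReg.isInvertible_twist (n := n) (k := k) (-1))) F
    (Iso.refl ((Scheme.Modules.pullback i).obj (Twist.twistProjSpace n k (-1))))
  haveI : Mono ((Scheme.Modules.pushforward i).map f) := hS'.mono_f
  let ι : CohB1.tensorMod ((Scheme.Modules.pushforward i).obj F) (Twist.twistProjSpace n k (-1)) ⟶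
      (Scheme.Modules.pushforward i).obj F := g0.inv ≫ (Scheme.Modules.pushforward i).map f
  haveI : Mono ι := @mono_comp _ _ _ _ _ g0.inv inferInstance _ hS'.mono_f
  haveI : Epi (ShortComplex.mk f g hfg |>.map (Scheme.Modules.pushforward i)).g := hS'.epi_g
  let c : cokernel ι ≅ (Scheme.Modules.pushforward i).obj G :=
    cokernelEpiComp g0.inv ((Scheme.Modules.pushforward i).map f) ≪≫
      (cokernelIsCokernel _).coconePointUniqueUpToIso hS'.gIsCokernel
  have hG' : Curv2.IsMRegular k n (cokernel ι) m := fun q hq hqn => by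
    haveI := GrothLib.BddFam20.isMRegular_push i hi hG hGm q hq hqn
    exact (GrothLib.Euler.hhEquiv (A := k)
      (PicGrp.tensorModIso c (Iso.refl (Twist.twistProjSpace n k (m - q)))) q).toEquiv.subsingleton
  have hd : ∀ t : ℤ, Module.finrank k (Coh.HH X (Pic13.twistOn k i F t) 1) =
      GrothLib.CMReg.h1dim ((Scheme.Modules.pushforward i).obj F) t := fun t => by
    obtain ⟨e⟩ := GrothLib.BddFam20.nonempty_HH_twistOn i hi hF t 1
    exact e.finrank_eq
  refine ⟨fun q t hq ht => ?_, fun t ht => ?_, fun t ht => ?_, ?_⟩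
  · obtain ⟨e⟩ := GrothLib.BddFam20.nonempty_HH_twistOn i hi hF t q
    haveI := GrothLib.CMReg.vanish_two_le hPF hG' q t hq ht
    exact e.toEquiv.subsingleton
  · rw [hd, hd]
    exact GrothLib.CMReg.h1dim_le hPF hG' t ht
  · rw [hd] at ht
    obtain ⟨e⟩ := GrothLib.BddFam20.nonempty_HH_twistOn i hi hF t 1
    haveI := GrothLib.CMReg.vanish_one hPF hG' t ht
    exact e.toEquiv.subsingleton
  · intro q hq
    rw [hd]
    obtain ⟨e⟩ := GrothLib.BddFam20.nonempty_HH_twistOn i hi hF
      (m + (GrothLib.CMReg.h1dim ((Scheme.Modules.pushforward i).obj F) (m - 1) : ℤ) - q) q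
    haveI := GrothLib.CMReg.regular_of_extension hPF hG' q hq
    exact e.toEquiv.subsingleton

end Groth.Agent.S12112
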