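import Groth.Statements.S12113
import Groth.Agent.Lib.GrpExt19.Bitorsor
-- import your own Groth.Agent.* helpers here

set_option autoImplicit false
universe u
open CategoryTheory CategoryTheory.Limits MonoidalCategory CartesianMonoidalCategory MonObj AlgebraicGeometry
open SGA7

namespace Groth.Agent.S12113

/-- Group schemes, fppf site: over a base scheme S, let P and G be S-group schemes with G commutative,
and let u : G → E, v : E → P and u' : G → E', v' : E' → P be homomorphisms forming sequences 1 → G →
E → P → 1 and 1 → G → E' → P → 1 exact for the fppf topology. Suppose every morphism of S-schemes P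
×_S P → G trivial on P × e_P and on e_P × P is trivial. Let f : E → E' be a morphism of S-schemes
over P (f ≫ v' = v) and under G (u ≫ f = u'), preserving the unit section, and compatible with left
and right translations by G: for all points g of G and x of E with values in any S-scheme, f(u(g) x)
= u'(g) f(x) and f(x u(g)) = f(x) u'(g). Then f is a homomorphism of S-group schemes: such
extensions have no non-multiplicative morphisms of their underlying rigidified bitorsors. (The
published statement is for sheaves of groups on an arbitrary topos and phrased as full faithfulness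
of the functor from extensions to rigidified bitorsors; this row is the case of representable
sheaves on the fppf site of S, with G commutative so that the defect of multiplicativity descends to
P ×_S P as in the printed argument. Morphisms to a group scheme form a group; trivial means equal to
its unit.) -/
theorem result (S : Scheme.{u})
    (P G E E' : Over S) [GrpObj P] [GrpObj G] [GrpObj E] [GrpObj E'] [IsCommMonObj G]
    (u : G ⟶ E) (v : E ⟶ P) (hex : NonAbH1.IsExactSeq Scheme.fppfPrecoverage u v)
    (u' : G ⟶ E') (v' : E' ⟶ P) (hex' : NonAbH1.IsExactSeq Scheme.fppfPrecoverage u' v')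
    (hPP : ∀ c : P ⊗ P ⟶ G, lift (𝟙 P) (toUnit P ≫ η[P]) ≫ c = 1 → lift (toUnit P ≫ η[P]) (𝟙 P) ≫ c = 1 → c = 1)
    (f : E ⟶ E') (hv : f ≫ v' = v) (hu : u ≫ f = u') (h1 : η[E] ≫ f = η[E'])
    (hl : ∀ (T : Over S) (g : T ⟶ G) (x : T ⟶ E), ((g ≫ u) * x) ≫ f = (g ≫ u') * (x ≫ f))
    (hr : ∀ (T : Over S) (g : T ⟶ G) (x : T ⟶ E), (x * (g ≫ u)) ≫ f = (x ≫ f) * (g ≫ u')) :
    IsMonHom f := GrothLib.GrpExt19.isMonHom_of_biequivariant u v hex u' v' hex' hPP f hv h1 hl hr

end Groth.Agent.S12113
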