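import Groth.Statements.S12118

set_option autoImplicit false
universe u v
open EGA41

namespace Groth.Agent.S12118

/-- Let A be a commutative ring, M an A-module, (M_k)_{k ≥ 0} a decreasing filtration of M by submodules
with M_0 = M and ⋂_k M_k = 0, and f an element of A which is a non-zero-divisor on every graded
piece M_k/M_{k+1} (equivalently on the associated graded module). Then (i) f is a non-zero-divisor
on M, and (ii) M_k ∩ fM = fM_k for every k ≥ 0. -/
theorem result {A : Type u} [CommRing A] {M : Type v} [AddCommGroup M] [Module A M]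
    (F : ℕ → Submodule A M) (hanti : Antitone F) (h0 : F 0 = ⊤) (hsep : ⨅ k, F k = ⊥) (f : A)
    (hreg : ∀ k : ℕ, IsSMulRegular (↥(F k) ⧸ Submodule.comap (F k).subtype (F (k + 1))) f) :
    IsSMulRegular M f ∧ ∀ k : ℕ, F k ⊓ (Ideal.span {f} • (⊤ : Submodule A M)) = Ideal.span {f} • F k := by
  have key : ∀ (k : ℕ) (x : M), x ∈ F k → f • x ∈ F (k + 1) → x ∈ F (k + 1) := by
    intro k x hx hfx
    have h1 : f • (Submodule.Quotient.mk (⟨x, hx⟩ : F k) : ↥(F k) ⧸ Submodule.comap (F k).subtype (F (k + 1))) =
        f • 0 := by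
      rw [smul_zero, ← Submodule.Quotient.mk_smul, Submodule.Quotient.mk_eq_zero]
      exact hfx
    exact (Submodule.Quotient.mk_eq_zero (Submodule.comap (F k).subtype (F (k + 1))) (x := ⟨x, hx⟩)).1 (hreg k h1)
  refine ⟨(isSMulRegular_iff_right_eq_zero_of_smul (R := A) (M := M)).2 fun x hx => ?_, fun k => le_antisymm ?_ ?_⟩
  · have h : ∀ k, x ∈ F k := by
      intro k
      induction k with
      | zero => rw [h0]; trivial
      | succ k ih => exact key k x ih (by rw [hx]; exact zero_mem _)
    exact (Submodule.mem_bot A).1 (hsep ▸ Submodule.mem_iInf _ |>.2 h)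
  · open scoped Pointwise in
    rintro y ⟨hy, hy'⟩
    obtain ⟨m, -, rfl⟩ := (Submodule.mem_smul_pointwise_iff_exists _ _ _).1
      (by rwa [Submodule.ideal_span_singleton_smul] at hy')
    have h : ∀ j, j ≤ k → m ∈ F j := by
      intro j
      induction j with
      | zero => intro; rw [h0]; trivial
      | succ j ih => exact fun hj => key j m (ih (by omega)) (hanti hj hy)
    exact Submodule.smul_mem_smul (Ideal.mem_span_singleton_self f) (h k le_rfl)
  · exact le_inf Submodule.smul_le_right (Submodule.smul_mono le_rfl le_top)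

end Groth.Agent.S12118
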