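import Groth.Statements.S1212
import Mathlib

set_option autoImplicit false
universe u
open FlatMor

namespace Groth.Agent.S1212

open TensorProduct IsLocalRing


open TensorProduct IsLocalRing in
/-- Let R be a local ring, S an R-algebra and N an S-module which is projective as an R-module, such
that the closed fibre ring of S is Noetherian and the closed fibre module of N is finite over it.
Then every prime q of S, over p in R, which is an associated prime (the annihilator of an element)
of the S-module N ⊗_R κ(p) satisfies q + 𝔪_R S ≠ S. -/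
theorem result {R S : Type u} [CommRing R] [IsLocalRing R] [CommRing S] [Algebra R S]
    (N : Type u) [AddCommGroup N] [Module S N] [Module R N] [IsScalarTower R S N] [Module.Projective R N]
    [IsNoetherianRing ((maximalIdeal R).Fiber S)]
    [Module.Finite ((maximalIdeal R).Fiber S) (FlatCA.fiberMod (maximalIdeal R) S N)]
    (p : Ideal R) [p.IsPrime] (q : Ideal S) [q.IsPrime] [q.LiesOver p]
    (hq : q ∈ FlatCA.ass S (N ⊗[R] p.ResidueField)) :
    q ⊔ (maximalIdeal R).map (algebraMap R S) ≠ ⊤ := by
  intro htop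
  obtain ⟨_, z, hz⟩ := hq
  obtain ⟨a, haq, x, hx, hax⟩ := Submodule.mem_sup.1 (htop.symm ▸ Submodule.mem_top : (1 : S) ∈ q ⊔ (maximalIdeal R).map (algebraMap R S))
  have hkill : ∀ c ∈ q, c • z = 0 := fun c hc => by
    rw [hz] at hc
    simpa using hc
  have hxz : x • z = z := by
    have h := congrArg (· • z) hax
    simp only [add_smul, hkill a haq, zero_add, one_smul] at h
    exact h
  -- clear denominators
  obtain ⟨r, hr, n, hn⟩ : ∃ r : R, r ∉ p ∧ ∃ n : N, r • z = n ⊗ₜ[R] (1 : p.ResidueField) := by
    clear hz hkill hxz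
    induction z using TensorProduct.induction_on with
    | zero => exact ⟨1, fun h => ‹p.IsPrime›.ne_top ((Ideal.eq_top_iff_one _).2 h), 0, by rw [smul_zero, zero_tmul]⟩
    | tmul n c =>
      obtain ⟨b, d, hd, rfl⟩ := IsFractionRing.div_surjective (R ⧸ p) c
      obtain ⟨b, rfl⟩ := Ideal.Quotient.mk_surjective b
      obtain ⟨d, rfl⟩ := Ideal.Quotient.mk_surjective d
      have hd' : algebraMap (R ⧸ p) p.ResidueField (Ideal.Quotient.mk p d) ≠ 0 :=
        (map_ne_zero_iff _ (IsFractionRing.injective (R ⧸ p) p.ResidueField)).2 (nonZeroDivisors.ne_zero hd)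
      refine ⟨d, fun h => hd' (by rw [Ideal.Quotient.eq_zero_iff_mem.2 h, map_zero]), b • n, ?_⟩
      rw [smul_tmul', smul_tmul, smul_tmul]
      congr 1
      rw [Algebra.smul_def, Algebra.smul_def, IsScalarTower.algebraMap_apply R (R ⧸ p) p.ResidueField,
        IsScalarTower.algebraMap_apply R (R ⧸ p) p.ResidueField, mul_one, Ideal.Quotient.algebraMap_eq,
        mul_div_cancel₀ _ hd']
    | add y w hy hw =>
      obtain ⟨r1, h1, n1, e1⟩ := hy
      obtain ⟨r2, h2, n2, e2⟩ := hw
      refine ⟨r1 * r2, fun h => (‹p.IsPrime›.mem_or_mem h).elim h1 h2, r2 • n1 + r1 • n2, ?_⟩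
      rw [smul_add, add_tmul, mul_comm r1 r2, mul_smul, e1, mul_comm r2 r1, mul_smul, e2, smul_tmul', smul_tmul']
  have hzne : n ⊗ₜ[R] (1 : p.ResidueField) ≠ 0 := by
    rw [← hn]
    intro h0
    refine ‹q.IsPrime›.ne_top ((Ideal.eq_top_iff_one _).2 ?_)
    have hu : IsUnit (algebraMap R p.ResidueField r) := IsUnit.mk0 _ fun h => hr (Ideal.algebraMap_residueField_eq_zero.1 h)
    have hinj : ∀ w : N ⊗[R] p.ResidueField, r • w = 0 → w = 0 := fun w hw => by
      have hmap : ∀ y : N ⊗[R] p.ResidueField,
          LinearMap.lTensor N (LinearMap.mulLeft R (hu.unit⁻¹ : p.ResidueFieldˣ).1) (r • y) = y := fun y => by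
        induction y using TensorProduct.induction_on with
        | zero => simp
        | tmul m c =>
          rw [smul_tmul', smul_tmul, LinearMap.lTensor_tmul, LinearMap.mulLeft_apply, Algebra.smul_def,
            ← mul_assoc, IsUnit.val_inv_mul, one_mul]
        | add y w hy hw => simp only [smul_add, map_add, hy, hw]
      rw [← hmap w, hw, map_zero]
    rw [hz]
    simp [hinj z h0, Submodule.annihilator_bot]
  have hfix : (x • n - n) ⊗ₜ[R] (1 : p.ResidueField) = 0 := by
    rw [sub_tmul, ← smul_tmul', ← hn, smul_comm, hxz, sub_self]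
  obtain ⟨s, hs⟩ := Module.projective_def'.1 (inferInstance : Module.Projective R N)
  have hcoord : ∀ (v : N) (j : N), v ⊗ₜ[R] (1 : p.ResidueField) = 0 → s v j ∈ p := fun v j hv => by
    have h := congrArg ((TensorProduct.lid R p.ResidueField).toLinearMap ∘ₗ
      LinearMap.rTensor p.ResidueField ((Finsupp.lapply j).comp s)) hv
    rw [map_zero, LinearMap.comp_apply, LinearMap.rTensor_tmul] at h
    simp only [LinearEquiv.coe_coe, TensorProduct.lid_tmul, LinearMap.comp_apply, Finsupp.lapply_apply,
      Algebra.smul_def, mul_one] at h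
    exact Ideal.algebraMap_residueField_eq_zero.1 h
  classical
  let I : Ideal R := Ideal.span ((s n).support.image (s n) : Finset R)
  have hnI : n ∈ I • (⊤ : Submodule R N) := by
    have h := congrArg (fun f : N →ₗ[R] N => f n) hs
    simp only [LinearMap.comp_apply, LinearMap.id_apply, Finsupp.linearCombination_apply] at h
    rw [← h]
    exact Submodule.sum_mem _ fun j hj => Submodule.smul_mem_smul
      (Ideal.subset_span (Finset.mem_image_of_mem _ hj)) Submodule.mem_top
  have hxn : ∀ t : S, t ∈ (maximalIdeal R).map (algebraMap R S) → t • n ∈ maximalIdeal R • I • (⊤ : Submodule R N) := by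
    have hS : ∀ (t : S) (v : N), v ∈ I • (⊤ : Submodule R N) → t • v ∈ I • (⊤ : Submodule R N) := fun t v hv => by
      refine Submodule.smul_induction_on hv (fun c hc w _ => ?_) fun u w hu hw => by rw [smul_add]; exact add_mem hu hw
      rw [smul_comm]
      exact Submodule.smul_mem_smul hc Submodule.mem_top
    intro t ht
    suffices ∀ w : S, (t * w) • n ∈ maximalIdeal R • I • (⊤ : Submodule R N) by simpa using this 1
    refine Submodule.span_induction ?_ ?_ ?_ ?_ ht
    · rintro _ ⟨c, hc, rfl⟩ w
      rw [mul_smul, algebraMap_smul]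
      exact Submodule.smul_mem_smul hc (hS w n hnI)
    · intro w; rw [zero_mul, zero_smul]; exact zero_mem _
    · intro u v _ _ hu hv w; rw [add_mul, add_smul]; exact add_mem (hu w) (hv w)
    · intro c u _ hu w; rw [smul_eq_mul, mul_comm c u, mul_assoc]; exact hu (c * w)
  have hle : I ≤ p ⊔ maximalIdeal R • I := by
    refine Ideal.span_le.2 fun c hc => ?_
    obtain ⟨j, -, rfl⟩ := Finset.mem_image.1 (Finset.mem_coe.1 hc)
    have h1 : s (x • n) j ∈ maximalIdeal R • I := by
      have h := Submodule.mem_map_of_mem (f := (Finsupp.lapply j).comp s) (hxn x hx)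
      rw [Submodule.map_smul'', Submodule.map_smul''] at h
      exact smul_mono_right _ (Submodule.smul_le.2 fun c hc y _ => I.mul_mem_right y hc) h
    have h2 := hcoord _ j hfix
    rw [map_sub, Finsupp.sub_apply] at h2
    have h3 := sub_mem (Submodule.mem_sup_right (S := p) h1) (Submodule.mem_sup_left (T := maximalIdeal R • I) h2)
    rwa [sub_sub_cancel] at h3
  have hIp : I ≤ p := Submodule.le_of_le_smul_of_le_jacobson_bot ⟨(s n).support.image (s n), rfl⟩
    (by rw [IsLocalRing.jacobson_eq_maximalIdeal ⊥ bot_ne_top]) hle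
  refine hzne ?_
  have h := congrArg (fun f : N →ₗ[R] N => f n) hs
  simp only [LinearMap.comp_apply, LinearMap.id_apply, Finsupp.linearCombination_apply] at h
  rw [← h, Finsupp.sum, TensorProduct.sum_tmul]
  refine Finset.sum_eq_zero fun j hj => ?_
  rw [smul_tmul, Algebra.smul_def,
    Ideal.algebraMap_residueField_eq_zero.2 (hIp (Ideal.subset_span (Finset.mem_image_of_mem _ hj))),
    zero_mul, tmul_zero]

end Groth.Agent.S1212
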