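import Groth.Statements.S12123
import Groth.Agent.Lib.Constr.Topology

set_option autoImplicit false
universe u
open EGA41

namespace Groth.Agent.S12123

theorem withTopology_props {α : Type u} (t : TopologicalSpace α) [h1 : @T2Space α t]
    [h2 : @LocallyCompactSpace α t] [h3 : @TotallyDisconnectedSpace α t] :
    T2Space (WithTopology α t) ∧ LocallyCompactSpace (WithTopology α t) ∧
      TotallyDisconnectedSpace (WithTopology α t) := by
  letI := t
  let e : α ≃ₜ WithTopology α t :=
    { (WithTopology.equiv α t).symm with
      continuous_toFun := WithTopology.continuous_toTopology t
      continuous_invFun := WithTopology.continuous_ofTopology t }
  exact ⟨e.t2Space, e.symm.isClosedEmbedding.locallyCompactSpace, e.totallyDisconnectedSpace⟩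

open AlgebraicGeometry Topology in
/-- Let X be a quasi-separated scheme and X^cons its underlying set with the constructible topology,
generated by the quasi-compact open subsets and their complements (for X quasi-separated this is the
topology whose open sets are the ind-constructible subsets). Then X^cons is a Hausdorff, locally
compact, totally disconnected space. (The published statement also asserts that X^cons is Hausdorff
only if X is quasi-separated; for the topology used here that converse fails when X is not
quasi-separated, where the two constructible topologies differ, so it is not part of this row.) -/
theorem result (X : Scheme.{u}) [QuasiSeparatedSpace X] :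
    T2Space (WithConstructibleTopology X) ∧ LocallyCompactSpace (WithConstructibleTopology X) ∧
      TotallyDisconnectedSpace (WithConstructibleTopology X) := by
  haveI : @LocallyCompactSpace X (constructibleTopology X) :=
    GrothLib.Constr.locallyCompactSpace_constructibleTopology
  haveI : @T2Space X (constructibleTopology X) := GrothLib.Constr.t2Space_constructibleTopology
  haveI : @TotallyDisconnectedSpace X (constructibleTopology X) :=
    GrothLib.Constr.totallyDisconnectedSpace_constructibleTopology
  exact withTopology_props (constructibleTopology X)

end Groth.Agent.S12123
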