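import Groth.Statements.S12126
import Groth.Agent.Lib.Altitude.Basic
import Groth.Agent.Lib.CatBasics.Basic
import Mathlib

set_option autoImplicit false
universe u
open CAlg

namespace Groth.Agent.S12126

open Polynomial

/-- Heights add in a catenary localization. -/
theorem height_eq_add_atPrime {A : Type u} [CommRing A] [IsDomain A] [IsNoetherianRing A] (Q M : Ideal A)
    [Q.IsPrime] [M.IsPrime] (hQM : Q ≤ M) (hcat : CAlg.IsCatenary (Localization.AtPrime M)) :
    M.height = Q.height + (M.map (Ideal.Quotient.mk Q)).height := by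
  have hdisj : ∀ J : Ideal A, J ≤ M → Disjoint (M.primeCompl : Set A) J := fun J hJ =>
    Set.disjoint_left.2 fun a ha haJ => ha (hJ haJ)
  obtain ⟨Q', hQ'⟩ : ∃ Q' : Ideal (Localization.AtPrime M), Q' = Q.map (algebraMap A _) := ⟨_, rfl⟩
  obtain ⟨M', hM'⟩ : ∃ M' : Ideal (Localization.AtPrime M), M' = M.map (algebraMap A _) := ⟨_, rfl⟩
  have : Q'.IsPrime := hQ' ▸ IsLocalization.isPrime_of_isPrime_disjoint M.primeCompl _ Q inferInstance (hdisj Q hQM)
  have : M'.IsPrime := hM' ▸ IsLocalization.isPrime_of_isPrime_disjoint M.primeCompl _ M inferInstance (hdisj M le_rfl)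
  have hle' : Q' ≤ M' := hQ' ▸ hM' ▸ Ideal.map_mono hQM
  have hQu : Q'.under A = Q :=
    hQ' ▸ IsLocalization.under_map_of_isPrime_disjoint M.primeCompl _ inferInstance (hdisj Q hQM)
  have hMu : M'.under A = M :=
    hM' ▸ IsLocalization.under_map_of_isPrime_disjoint M.primeCompl _ inferInstance (hdisj M le_rfl)
  have heq := GrothLib.Altitude.height_eq_add_of_isCatenary hcat Q' M' hle'
  rw [← IsLocalization.height_under M.primeCompl M', hMu, ← IsLocalization.height_under M.primeCompl Q', hQu] at heq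
  refine le_antisymm (heq.le.trans (add_le_add le_rfl ?_)) (GrothLib.Altitude.height_add_height_map_le Q M hQM)
  have : (M'.map (Ideal.Quotient.mk Q')).IsPrime := Ideal.isPrime_map_quotientMk_of_isPrime hle'
  have : (M.map (Ideal.Quotient.mk Q)).IsPrime := Ideal.isPrime_map_quotientMk_of_isPrime hQM
  obtain ⟨f, hf⟩ : ∃ f : A ⧸ Q →+* Localization.AtPrime M ⧸ Q', f.comp (Ideal.Quotient.mk Q) =
      (Ideal.Quotient.mk Q').comp (algebraMap A _) :=
    ⟨Ideal.quotientMap Q' (algebraMap A _) hQu.ge, Ideal.quotientMap_comp_mk hQu.ge⟩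
  have hmono : StrictMono (PrimeSpectrum.comap f) := by
    refine Monotone.strictMono_of_injective (fun x y hxy => Ideal.comap_mono hxy) fun x y hxy => ?_
    have h1 := congrArg (fun z => (PrimeSpectrum.asIdeal z).comap (Ideal.Quotient.mk Q)) hxy
    simp only [PrimeSpectrum.comap_asIdeal, Ideal.comap_comap, hf] at h1
    rw [← Ideal.comap_comap, ← Ideal.comap_comap] at h1
    refine PrimeSpectrum.ext (Ideal.comap_injective_of_surjective _ Ideal.Quotient.mk_surjective ?_)
    rw [← IsLocalization.map_under M.primeCompl _ (x.asIdeal.comap (Ideal.Quotient.mk Q')),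
      ← IsLocalization.map_under M.primeCompl _ (y.asIdeal.comap (Ideal.Quotient.mk Q'))]
    exact congrArg (Ideal.map (algebraMap A (Localization.AtPrime M))) h1
  rw [PrimeSpectrum.height_eq_orderHeight (⟨M'.map (Ideal.Quotient.mk Q'), inferInstance⟩ : PrimeSpectrum _),
    PrimeSpectrum.height_eq_orderHeight (⟨M.map (Ideal.Quotient.mk Q), inferInstance⟩ : PrimeSpectrum _)]
  refine (Order.height_le_height_apply_of_strictMono _ hmono _).trans (le_of_eq (congrArg Order.height ?_))
  refine PrimeSpectrum.ext (Ideal.comap_injective_of_surjective _ Ideal.Quotient.mk_surjective ?_)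
  show ((M'.map (Ideal.Quotient.mk Q')).comap f).comap (Ideal.Quotient.mk Q) = _
  rw [Ideal.comap_comap, hf, ← Ideal.comap_comap, Ideal.comap_map_of_surjective _ Ideal.Quotient.mk_surjective,
    ← RingHom.ker_eq_comap_bot, Ideal.mk_ker, sup_eq_left.2 hle',
    Ideal.comap_map_of_surjective _ Ideal.Quotient.mk_surjective, ← RingHom.ker_eq_comap_bot, Ideal.mk_ker,
    sup_eq_left.2 hQM]
  exact hMu

/-- The hypothesis transported along an embedding. -/
theorem isCatenary_of_embedding {R S C : Type u} [CommRing R] [CommRing S] [Algebra R S] [CommRing C] [Algebra R C]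
    [Algebra.FiniteType R C] (m : Ideal R)
    (hcat : ∀ A' : Subalgebra R S[X], A'.FG → ∀ (m' : Ideal A') [m'.IsMaximal], m'.LiesOver m →
      CAlg.IsCatenary (Localization.AtPrime m'))
    (φ : C →ₐ[R] S[X]) (hφ : Function.Injective φ) (M : Ideal C) [M.IsMaximal] (hM : M.under R = m) :
    CAlg.IsCatenary (Localization.AtPrime M) := by
  have hfg : φ.range.FG := (Subalgebra.fg_iff_finiteType _).2
    (Algebra.FiniteType.of_surjective φ.rangeRestrict φ.rangeRestrict_surjective)
  obtain ⟨e, he⟩ : ∃ e : C ≃ₐ[R] φ.range, ∀ c, e c = φ.rangeRestrict c := ⟨AlgEquiv.ofInjective φ hφ, fun c => rfl⟩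
  obtain ⟨M', hM'⟩ : ∃ M' : Ideal φ.range, M' = M.comap (e.symm : φ.range →+* C) := ⟨_, rfl⟩
  have : M'.IsMaximal := hM' ▸ Ideal.comap_isMaximal_of_surjective _ e.symm.surjective
  have hover : M'.LiesOver m := ⟨by
    rw [← hM, hM', Ideal.under, Ideal.under, Ideal.comap_comap]
    congr 1
    exact RingHom.ext fun r => (e.symm.commutes r).symm⟩
  have hmap : M'.primeCompl.map (e.symm.toRingEquiv : φ.range →* C) = M.primeCompl := by
    ext c
    constructor
    · rintro ⟨a, ha, rfl⟩
      exact fun h => ha (by rw [hM']; exact h)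
    · intro hc
      exact ⟨e c, fun h => hc (by rw [hM'] at h; simpa using h), e.symm_apply_apply c⟩
  exact GrothLib.CatBasics.isCatenary_of_surjective
    (IsLocalization.ringEquivOfRingEquiv (Localization.AtPrime M') (Localization.AtPrime M) e.symm.toRingEquiv hmap).toRingHom
    (RingEquiv.surjective _) (hcat _ hfg M' hover)

/-- Adjoining one element. -/
theorem height_eq_step {C D : Type u} [CommRing C] [IsDomain C] [IsNoetherianRing C] [CommRing D] [IsDomain D]
    [Algebra C D] [FaithfulSMul C D] (x : D) (hx : Function.Surjective (Polynomial.aeval x : C[X] →ₐ[C] D))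
    (p : Ideal C) [p.IsMaximal] (q : Ideal D) [q.IsMaximal] [q.LiesOver p]
    (hcat : ∀ (M : Ideal C[X]) [M.IsMaximal], M.under C = p → CAlg.IsCatenary (Localization.AtPrime M)) :
    ∃ d : ℕ, Algebra.trdeg C D = d ∧ q.height = p.height + d := by
  obtain ⟨M, hM⟩ : ∃ M : Ideal C[X], M = q.comap (Polynomial.aeval x : C[X] →ₐ[C] D).toRingHom := ⟨_, rfl⟩
  have hMmax : M.IsMaximal := hM ▸ Ideal.comap_isMaximal_of_surjective _ hx
  have hMp : M.under C = p := by
    rw [hM, Ideal.LiesOver.over (P := q) (p := p), Ideal.under, Ideal.under, Ideal.comap_comap]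
    congr 1
    exact (Polynomial.aeval x : C[X] →ₐ[C] D).comp_algebraMap
  have : M.LiesOver p := ⟨hMp.symm⟩
  have hMh := Polynomial.height_eq_height_add_one p M
  rcases eq_or_ne (RingHom.ker (Polynomial.aeval x : C[X] →ₐ[C] D).toRingHom) ⊥ with h0 | h0
  · refine ⟨1, ?_, ?_⟩
    · obtain ⟨e, -⟩ : ∃ e : C[X] ≃ₐ[C] D, True :=
        ⟨AlgEquiv.ofBijective _ ⟨(RingHom.injective_iff_ker_eq_bot _).2 h0, hx⟩, trivial⟩
      rw [← e.trdeg_eq, Polynomial.trdeg_of_isDomain, Nat.cast_one]
    · obtain ⟨e, he⟩ : ∃ e : C[X] ≃+* D, (e : C[X] →+* D) = (Polynomial.aeval x : C[X] →ₐ[C] D).toRingHom :=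
        ⟨RingEquiv.ofBijective _ ⟨(RingHom.injective_iff_ker_eq_bot _).2 h0, hx⟩, rfl⟩
      rw [Nat.cast_one, ← hMh, ← e.height_map M]
      congr 1
      show q = M.map (e : C[X] →+* D)
      rw [he, hM]
      exact (Ideal.map_comap_of_surjective (Polynomial.aeval x : C[X] →ₐ[C] D).toRingHom hx q).symm
  · obtain ⟨Q, hQ⟩ : ∃ Q : Ideal C[X], Q = RingHom.ker (Polynomial.aeval x : C[X] →ₐ[C] D).toRingHom := ⟨_, rfl⟩
    rw [← hQ] at h0
    have : Q.IsPrime := hQ ▸ RingHom.ker_isPrime _
    refine ⟨0, ?_, ?_⟩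
    · obtain ⟨f, hfQ, hf⟩ := Submodule.exists_mem_ne_zero_of_ne_bot h0
      have halg : IsAlgebraic C x := ⟨f, hf, by rw [hQ] at hfQ; exact hfQ⟩
      have : Algebra.IsAlgebraic C D := ⟨fun y => by
        obtain ⟨g, rfl⟩ := hx y
        induction g using Polynomial.induction_on with
        | C c => rw [Polynomial.aeval_C]; exact isAlgebraic_algebraMap c
        | add g g' hg hg' => rw [map_add]; exact hg.add hg'
        | monomial n c ih => rw [pow_succ, ← mul_assoc, map_mul, Polynomial.aeval_X]; exact ih.mul halg⟩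
      rw [trdeg_eq_zero, Nat.cast_zero]
    · have hQM : Q ≤ M := by
        rw [hQ, hM]
        exact fun z hz => by rw [Ideal.mem_comap, RingHom.mem_ker.1 hz]; exact zero_mem _
      have hQ1 : Q.height = 1 := by
        obtain ⟨e, -⟩ : ∃ e : MvPolynomial (Fin 1) C ≃ₐ[C] C[X], True := ⟨MvPolynomial.uniqueAlgEquiv C (Fin 1), trivial⟩
        obtain ⟨Q₁, hQ₁⟩ : ∃ Q₁ : Ideal (MvPolynomial (Fin 1) C), Q₁ = Q.comap e.toRingEquiv := ⟨_, rfl⟩
        have : Q₁.IsPrime := hQ₁ ▸ Ideal.comap_isPrime _ _
        have hb : Q₁.under C = ⊥ := by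
          rw [eq_bot_iff]
          intro c hc
          rw [Ideal.mem_comap, hQ₁, Ideal.mem_comap] at hc
          change e (algebraMap C (MvPolynomial (Fin 1) C) c) ∈ Q at hc
          rw [AlgEquiv.commutes, hQ, RingHom.mem_ker] at hc
          refine FaithfulSMul.algebraMap_injective C D ?_
          rw [map_zero, ← hc]
          exact ((Polynomial.aeval x : C[X] →ₐ[C] D).commutes c).symm
        obtain ⟨s, -, hs⟩ := GrothLib.Altitude.height_add_trdeg_mvPolynomial_of_under_eq_bot Q₁ hb
        have hh : Q₁.height = Q.height := by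
          rw [← e.toRingEquiv.height_map Q₁, hQ₁]
          congr 1
          exact Ideal.map_comap_of_surjective _ e.toRingEquiv.surjective Q
        rw [hh] at hs
        refine le_antisymm ?_ ?_
        · calc Q.height ≤ Q.height + s := le_self_add
            _ = 1 := hs
        · rw [ENat.one_le_iff_ne_zero]
          intro hz
          rw [Ideal.height_eq_zero_iff (I := Q) , IsDomain.minimalPrimes_eq_singleton_bot, Set.mem_singleton_iff] at hz
          exact h0 hz
      have heq := height_eq_add_atPrime Q M hQM (hcat M hMp)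
      have hq : (M.map (Ideal.Quotient.mk Q)).height = q.height := by
        obtain ⟨e, he⟩ : ∃ e : C[X] ⧸ Q ≃+* D, (e : C[X] ⧸ Q →+* D).comp (Ideal.Quotient.mk Q) =
            (Polynomial.aeval x : C[X] →ₐ[C] D).toRingHom :=
          ⟨(Ideal.quotEquivOfEq hQ).trans (RingHom.quotientKerEquivOfSurjective hx), RingHom.ext fun y => rfl⟩
        rw [← e.height_map (M.map (Ideal.Quotient.mk Q))]
        congr 1
        show (M.map (Ideal.Quotient.mk Q)).map (e : C[X] ⧸ Q →+* D) = q
        rw [Ideal.map_map, he, hM]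
        exact Ideal.map_comap_of_surjective (Polynomial.aeval x : C[X] →ₐ[C] D).toRingHom hx q
      rw [hQ1, hq, hMh, add_comm p.height 1] at heq
      rw [Nat.cast_zero, add_zero]
      exact (ENat.addLECancellable_of_ne_top ENat.one_ne_top).inj.1 heq.symm

theorem main {R S : Type u} [CommRing R] [IsDomain R] [IsNoetherianRing R] [IsLocalRing R] [CommRing S] [IsDomain S]
    [Algebra R S] [FaithfulSMul R S]
    (hcat : ∀ A' : Subalgebra R S[X], A'.FG → ∀ (m' : Ideal A') [m'.IsMaximal],
      m'.LiesOver (IsLocalRing.maximalIdeal R) → CAlg.IsCatenary (Localization.AtPrime m'))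
    (t : Finset S) (q : Ideal (Algebra.adjoin R (t : Set S))) [q.IsMaximal] [q.LiesOver (IsLocalRing.maximalIdeal R)] :
    ∃ d : ℕ, Algebra.trdeg R (Algebra.adjoin R (t : Set S)) = d ∧
      q.height = (IsLocalRing.maximalIdeal R).height + d := by
  classical
  induction t using Finset.induction_on with
  | empty =>
    have hbij : Function.Bijective (algebraMap R (Algebra.adjoin R ((∅ : Finset S) : Set S))) := by
      refine ⟨fun a b hab => FaithfulSMul.algebraMap_injective R S (congrArg Subtype.val hab), ?_⟩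
      rintro ⟨y, hy⟩
      rw [Finset.coe_empty, Algebra.adjoin_empty, Algebra.mem_bot] at hy
      obtain ⟨r, hr⟩ := hy
      exact ⟨r, Subtype.ext hr⟩
    refine ⟨0, ?_, ?_⟩
    · have : Algebra.IsAlgebraic R (Algebra.adjoin R ((∅ : Finset S) : Set S)) := ⟨fun y => by
        obtain ⟨r, rfl⟩ := hbij.2 y
        exact isAlgebraic_algebraMap r⟩
      rw [trdeg_eq_zero, Nat.cast_zero]
    · obtain ⟨e, he⟩ : ∃ e : R ≃+* Algebra.adjoin R ((∅ : Finset S) : Set S), (e : R →+* Algebra.adjoin R ((∅ : Finset S) : Set S)) = algebraMap R (Algebra.adjoin R ((∅ : Finset S) : Set S)) :=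
        ⟨RingEquiv.ofBijective _ hbij, rfl⟩
      rw [Nat.cast_zero, add_zero, ← e.height_map (IsLocalRing.maximalIdeal R)]
      congr 1
      show q = (IsLocalRing.maximalIdeal R).map (e : R →+* _)
      rw [he, Ideal.LiesOver.over (P := q) (p := IsLocalRing.maximalIdeal R)]
      exact (Ideal.map_comap_of_surjective _ hbij.2 q).symm
  | insert x t hxt ih =>
    have hle : Algebra.adjoin R (t : Set S) ≤ Algebra.adjoin R ((insert x t : Finset S) : Set S) :=
      Algebra.adjoin_mono (by simp)
    letI := (Subalgebra.inclusion hle).toRingHom.toAlgebra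
    have : IsScalarTower R (Algebra.adjoin R (t : Set S)) (Algebra.adjoin R ((insert x t : Finset S) : Set S)) :=
      IsScalarTower.of_algebraMap_eq fun r => ((Subalgebra.inclusion hle).commutes r).symm
    have : FaithfulSMul (Algebra.adjoin R (t : Set S)) (Algebra.adjoin R ((insert x t : Finset S) : Set S)) :=
      (faithfulSMul_iff_algebraMap_injective _ _).2 (Subalgebra.inclusion_injective hle)
    have : FaithfulSMul R (Algebra.adjoin R (t : Set S)) := (faithfulSMul_iff_algebraMap_injective _ _).2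
      fun a b hab => FaithfulSMul.algebraMap_injective R S (congrArg Subtype.val hab)
    have : Algebra.FiniteType R (Algebra.adjoin R (t : Set S)) := (Subalgebra.fg_iff_finiteType _).1 ⟨t, rfl⟩
    have : Algebra.FiniteType R (Algebra.adjoin R ((insert x t : Finset S) : Set S)) :=
      (Subalgebra.fg_iff_finiteType _).1 ⟨_, rfl⟩
    have : IsNoetherianRing (Algebra.adjoin R (t : Set S)) := Algebra.FiniteType.isNoetherianRing R _
    obtain ⟨p, hp⟩ : ∃ p : Ideal (Algebra.adjoin R (t : Set S)), p = q.under _ := ⟨_, rfl⟩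
    have : q.LiesOver p := ⟨hp⟩
    have hpm : p.under R = IsLocalRing.maximalIdeal R := by
      rw [hp, Ideal.under_under, ← Ideal.LiesOver.over (P := q) (p := IsLocalRing.maximalIdeal R)]
    have : p.LiesOver (IsLocalRing.maximalIdeal R) := ⟨hpm.symm⟩
    have : p.IsMaximal := by
      letI : Field (R ⧸ IsLocalRing.maximalIdeal R) := Ideal.Quotient.field _
      letI : Field ((Algebra.adjoin R ((insert x t : Finset S) : Set S)) ⧸ q) := Ideal.Quotient.field _
      have : Algebra.FiniteType (R ⧸ IsLocalRing.maximalIdeal R) ((Algebra.adjoin R ((insert x t : Finset S) : Set S)) ⧸ q) :=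
        Algebra.FiniteType.of_restrictScalars_finiteType R _ _
      have : Module.Finite (R ⧸ IsLocalRing.maximalIdeal R) ((Algebra.adjoin R ((insert x t : Finset S) : Set S)) ⧸ q) :=
        finite_of_finite_type_of_isJacobsonRing _ _
      have : Module.Finite R ((Algebra.adjoin R ((insert x t : Finset S) : Set S)) ⧸ q) :=
        Module.Finite.trans (R ⧸ IsLocalRing.maximalIdeal R) _
      have hint : (algebraMap (Algebra.adjoin R (t : Set S))
          ((Algebra.adjoin R ((insert x t : Finset S) : Set S)) ⧸ q)).IsIntegral := by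
        intro y
        exact (Algebra.IsIntegral.isIntegral (R := R) y).tower_top
      have hc := Ideal.isMaximal_comap_of_isIntegral_of_isMaximal' _ hint
        (⊥ : Ideal ((Algebra.adjoin R ((insert x t : Finset S) : Set S)) ⧸ q))
      rwa [← RingHom.ker_eq_comap_bot, IsScalarTower.algebraMap_eq _ (Algebra.adjoin R ((insert x t : Finset S) : Set S)) _,
        ← RingHom.comap_ker, Ideal.Quotient.algebraMap_eq, Ideal.mk_ker, ← Ideal.under_def, ← hp] at hc
    obtain ⟨d, hd, hdh⟩ := ih p
    obtain ⟨x', hx'⟩ : ∃ x' : Algebra.adjoin R ((insert x t : Finset S) : Set S), (x' : S) = x :=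
      ⟨⟨x, Algebra.subset_adjoin (Finset.mem_coe.2 (Finset.mem_insert_self x t))⟩, rfl⟩
    have hsurj : Function.Surjective (Polynomial.aeval x' :
        (Algebra.adjoin R (t : Set S))[X] →ₐ[Algebra.adjoin R (t : Set S)] _) := by
      rintro ⟨y, hy⟩
      have hsub : Algebra.adjoin R ((insert x t : Finset S) : Set S) ≤
          ((Algebra.adjoin R ((insert x t : Finset S) : Set S)).val.comp
            ((Polynomial.aeval x' : (Algebra.adjoin R (t : Set S))[X] →ₐ[Algebra.adjoin R (t : Set S)] _).restrictScalars R)).range := by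
        rw [Algebra.adjoin_le_iff]
        intro z hz
        rcases Finset.mem_insert.1 (Finset.mem_coe.1 hz) with rfl | hz
        · exact ⟨X, by simp [hx']⟩
        · exact ⟨C ⟨z, Algebra.subset_adjoin hz⟩, by simp [RingHom.algebraMap_toAlgebra]⟩
      obtain ⟨g, hg⟩ := hsub hy
      exact ⟨g, Subtype.ext hg⟩
    obtain ⟨d', hd', hdh'⟩ := height_eq_step x' hsurj p q (fun M _ hMp =>
      isCatenary_of_embedding (IsLocalRing.maximalIdeal R) hcat (Polynomial.mapAlgHom (Algebra.adjoin R (t : Set S)).val)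
        (Polynomial.map_injective _ Subtype.val_injective) M (by rw [← Ideal.under_under (B := Algebra.adjoin R (t : Set S)), hMp, hpm]))
    refine ⟨d + d', ?_, by rw [hdh', hdh, Nat.cast_add, add_assoc]⟩
    rw [← trdeg_add_eq R (Algebra.adjoin R (t : Set S)), hd, hd', Nat.cast_add]

/-- Let A be a Noetherian local domain with maximal ideal m and residue field k, B a domain containing A
which is an A-algebra of finite type, q a prime ideal of B over m and k' the residue field of B_q.
If for every sub-A-algebra A' of finite type of the polynomial ring B[T] and every maximal ideal m'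
of A' lying over m the local ring A'_{m'} is catenary, then ht(q) + trdeg_k k' = dim(A) + trdeg_A B,
stated with heights and transcendence degrees as cardinals (the transcendence degree of B over A is
that of the fraction fields, and that of k' over k is that of B/q over A/m). -/
theorem result (R : Type u) [CommRing R] [IsDomain R]
    [IsNoetherianRing R] [IsLocalRing R] (S : Type u) [CommRing S] [IsDomain S] [Algebra R S]
    [FaithfulSMul R S] [Algebra.FiniteType R S] (q : Ideal S) [q.IsPrime]
    [q.LiesOver (IsLocalRing.maximalIdeal R)]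
    (hcat : ∀ A' : Subalgebra R (Polynomial S), A'.FG →
      ∀ (m' : Ideal A') [m'.IsMaximal], m'.LiesOver (IsLocalRing.maximalIdeal R) →
        CAlg.IsCatenary (Localization.AtPrime m')) :
    (q.height : Cardinal.{u}) + Algebra.trdeg (R ⧸ IsLocalRing.maximalIdeal R) (S ⧸ q) =
      ((IsLocalRing.maximalIdeal R).height : Cardinal.{u}) + Algebra.trdeg R S := by
  classical
  obtain ⟨t, ht⟩ := (inferInstance : Algebra.FiniteType R S).1
  -- the affine fibre
  letI : Field (R ⧸ IsLocalRing.maximalIdeal R) := Ideal.Quotient.field _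
  have : Algebra.FiniteType (R ⧸ IsLocalRing.maximalIdeal R) (S ⧸ q) :=
    Algebra.FiniteType.of_restrictScalars_finiteType R _ _
  obtain ⟨s, hs, hdim⟩ := GrothLib.Dim.exists_nat_trdeg_eq_and_ringKrullDim_eq (R ⧸ IsLocalRing.maximalIdeal R) (S ⧸ q)
  obtain ⟨M, hMmax, hqM⟩ := q.exists_le_maximal Ideal.IsPrime.ne_top'
  have hMm : M.under R = IsLocalRing.maximalIdeal R :=
    ((IsLocalRing.maximalIdeal.isMaximal R).eq_of_le (Ideal.IsPrime.comap (algebraMap R S)).ne_top
      ((Ideal.LiesOver.over (P := q) (p := IsLocalRing.maximalIdeal R)).le.trans (Ideal.comap_mono hqM))).symm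
  have : M.LiesOver (IsLocalRing.maximalIdeal R) := ⟨hMm.symm⟩
  have : IsNoetherianRing S := Algebra.FiniteType.isNoetherianRing R S
  have hadd := height_eq_add_atPrime q M hqM
    (isCatenary_of_embedding (IsLocalRing.maximalIdeal R) hcat Polynomial.CAlgHom Polynomial.C_injective M hMm)
  have hMq : (M.map (Ideal.Quotient.mk q)).height = s := by
    have : (M.map (Ideal.Quotient.mk q)).IsMaximal := Ideal.IsMaximal.map_of_surjective_of_ker_le
      Ideal.Quotient.mk_surjective (by rwa [Ideal.mk_ker])
    have hf := GrothLib.AffDom.height_add_ringKrullDim_quotient (R ⧸ IsLocalRing.maximalIdeal R) (S ⧸ q)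
      (M.map (Ideal.Quotient.mk q))
    rw [ringKrullDim_eq_zero_of_isField ((Ideal.Quotient.maximal_ideal_iff_isField_quotient _).1 this), add_zero, hdim] at hf
    exact WithBot.coe_injective hf
  obtain ⟨e, he⟩ : ∃ e : Algebra.adjoin R (t : Set S) ≃ₐ[R] S, ∀ z, e z = (z : S) :=
    ⟨(Subalgebra.equivOfEq _ _ ht).trans Subalgebra.topEquiv, fun z => rfl⟩
  obtain ⟨M', hM'⟩ : ∃ M' : Ideal (Algebra.adjoin R (t : Set S)), M' = M.comap (e : _ →+* S) := ⟨_, rfl⟩
  have : M'.IsMaximal := hM' ▸ Ideal.comap_isMaximal_of_surjective _ e.surjective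
  have : M'.LiesOver (IsLocalRing.maximalIdeal R) := ⟨by
    rw [hM', ← hMm, Ideal.under, Ideal.under, Ideal.comap_comap]
    congr 1
    exact RingHom.ext fun r => (e.commutes r).symm⟩
  obtain ⟨d, hd, hdh⟩ := main hcat t M'
  have hh : M'.height = M.height := by
    rw [← e.toRingEquiv.height_map M', hM']
    congr 1
    exact Ideal.map_comap_of_surjective _ e.toRingEquiv.surjective M
  rw [hh, hadd, hMq] at hdh
  rw [e.trdeg_eq] at hd
  obtain ⟨a, ha⟩ := ENat.ne_top_iff_exists.1 (Ideal.height_ne_top (I := q) Ideal.IsPrime.ne_top')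
  obtain ⟨h, hh'⟩ := ENat.ne_top_iff_exists.1 (Ideal.height_ne_top (I := IsLocalRing.maximalIdeal R) Ideal.IsPrime.ne_top')
  rw [← ha, ← hh'] at hdh
  rw [← ha, ← hh', hs, hd, Cardinal.ofENat_nat, Cardinal.ofENat_nat]
  exact_mod_cast hdh

end Groth.Agent.S12126
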