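import Groth.Agent.Lib.AmpSpread10.RelCrit

set_option autoImplicit false
set_option linter.all false
set_option backward.isDefEq.respectTransparency false
namespace Cons9
end Cons9
universe u
open Cons9

namespace Groth.Agent.S12128

open AlgebraicGeometry CategoryTheory Limits in
/-- Let f : X → S be a proper morphism of finite presentation and L an invertible O_X-module. Then L is
ample relative to f if and only if, for every point s of S, the pullback of L to the fibre X_s is
ample (relative to X_s → Spec k(s), i.e. an ample invertible sheaf on the quasi-compact scheme X_s). -/
theorem result {X S : Scheme.{u}} (f : X ⟶ S)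
    [IsProper f] [LocallyOfFinitePresentation f] (L : X.Modules) (hL : PicF.IsInvertible L) :
    RelAmple.IsRelAmple f L ↔
      ∀ s : S, CohB1.IsAmple ((Scheme.Modules.pullback (f.fiberι s)).obj L) := by
  exact GrothLib.AmpSpread10.isRelAmple_iff_forall_fibre f hL


end Groth.Agent.S12128
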