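import Groth.Statements.S12129
import Groth.Agent.Lib.CurvPt8.Basic

set_option autoImplicit false
set_option backward.isDefEq.respectTransparency false
universe u
open EGA2

namespace Groth.Agent.S12129

open AlgebraicGeometry CategoryTheory in
/-- Let X be a scheme of finite type over a field k. Then the local ring of X at every closed point has
dimension one if and only if the irreducible closed subsets of X other than its irreducible
components are exactly the (singletons of) closed points of X — that is, every irreducible closed
subset which is not an irreducible component is a closed point, and no closed point is by itself an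
irreducible component. -/
theorem result (k : Type u) [Field k] (X : Scheme.{u})
    [X.Over (Spec (CommRingCat.of k))] [LocallyOfFiniteType (X ↘ (Spec (CommRingCat.of k)))]
    [QuasiCompact (X ↘ (Spec (CommRingCat.of k)))] :
    (∀ x : X, IsClosed ({x} : Set X) → ringKrullDim (X.presheaf.stalk x) = 1) ↔
      ((∀ F : Set X, IsClosed F → IsIrreducible F → F ∉ irreducibleComponents (X : Type u) →
          ∃ x : X, IsClosed ({x} : Set X) ∧ F = {x}) ∧
        ∀ x : X, IsClosed ({x} : Set X) → ({x} : Set X) ∉ irreducibleComponents (X : Type u)) := by
  have : CompactSpace X := HasAffineProperty.iff_of_isAffine.mp ‹QuasiCompact (X ↘ (Spec (CommRingCat.of k)))›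
  rw [GrothLib.CurvPt8.dim_stalk_iff]
  refine and_congr ⟨fun h F hF hirr hne => ?_, fun h z hz => ?_⟩ (forall₂_congr fun z hz => ?_)
  · have hη := hirr.isGenericPoint_genericPoint hF
    have hx : IsClosed ({hirr.genericPoint} : Set X) := h _ fun hm => hne
      (hη.def ▸ GrothLib.CurvPt8.isMax_iff_closure_mem.1 hm)
    exact ⟨_, hx, hη.def.symm.trans hx.closure_eq⟩
  · obtain ⟨x, hx, he⟩ := h _ isClosed_closure isIrreducible_singleton.closure
      fun hm => hz (GrothLib.CurvPt8.isMax_iff_closure_mem.2 hm)
    have hzx : z ∈ closure ({z} : Set X) := subset_closure rfl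
    rw [he, Set.mem_singleton_iff] at hzx
    rwa [hzx]
  · rw [GrothLib.CurvPt8.isMax_iff_closure_mem, hz.closure_eq]

end Groth.Agent.S12129
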