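import Groth.Statements.S12130
import Groth.Agent.Lib.CurvePI4.Chart

set_option autoImplicit false
universe u
open Unram17

namespace Groth.Agent.S12130

open CategoryTheory AlgebraicGeometry in
/-- Let k be a field and X an integral k-scheme of finite type of dimension ≤ 1. Then there is a finite
purely inseparable field extension k' of k such that the reduced closed subscheme Z = (X_{k'})_red
of the base change X_{k'} is integral and the normalization of Z is smooth over k'. (The published
statement is for an arbitrary k-scheme of finite type of dimension ≤ 1, with the normalization of a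
reduced scheme with finitely many irreducible components; this row states the case X integral, where
Z is integral because X_{k'} → X is a homeomorphism. The instance hypotheses on the morphism from
the generic point inside the existential always hold and only serve to form the normalization.) -/
theorem result (k : Type u) [Field k]
    (X : Scheme.{u}) [X.Over (Spec (CommRingCat.of k))] [IsIntegral X]
    [LocallyOfFiniteType (X ↘ Spec (CommRingCat.of k))] [QuasiCompact (X ↘ Spec (CommRingCat.of k))]
    (hdim : topologicalKrullDim X ≤ 1) :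
    ∃ (k' : Type u) (_ : Field k') (_ : Algebra k k'), FiniteDimensional k k' ∧ IsPurelyInseparable k k' ∧
      ∃ (_ : IsIntegral (Curv2.bc k X k').nilradical.subscheme)
        (_ : QuasiCompact ((Curv2.bc k X k').nilradical.subscheme.fromSpecStalk
              (genericPoint (Curv2.bc k X k').nilradical.subscheme)))
        (_ : QuasiSeparated ((Curv2.bc k X k').nilradical.subscheme.fromSpecStalk
              (genericPoint (Curv2.bc k X k').nilradical.subscheme))),
        Smooth (Curv2.normalizationι (Curv2.bc k X k').nilradical.subscheme ≫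
          (Curv2.bc k X k').nilradical.subschemeι ≫ Curv2.bcSnd k X k') := by
  classical
  haveI : CompactSpace X := QuasiCompact.compactSpace_of_compactSpace (X ↘ Spec (CommRingCat.of k))
  obtain ⟨T, hT⟩ := isCompact_univ.elim_finite_subcover
    (fun U : {U : X.Opens // IsAffineOpen U ∧ Nonempty U} => (U.1 : Set X)) (fun U => U.1.2) (fun x _ => by
      obtain ⟨U, hU, hxU, -⟩ := exists_isAffineOpen_mem_and_subset (U := (⊤ : X.Opens)) (x := x) trivial
      exact Set.mem_iUnion.mpr ⟨⟨U, hU, ⟨⟨x, hxU⟩⟩⟩, hxU⟩)
  have key : ∀ U : {U : X.Opens // IsAffineOpen U ∧ Nonempty U},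
      ∃ L₁ : IntermediateField k (perfectClosure k (AlgebraicClosure k)), FiniteDimensional k L₁ ∧
        ∀ L : IntermediateField k (perfectClosure k (AlgebraicClosure k)), L₁ ≤ L →
          ∀ [IsIntegral (GrothLib.CurvePI4.redBC k X L)]
            [QuasiCompact ((GrothLib.CurvePI4.redBC k X L).fromSpecStalk (genericPoint (GrothLib.CurvePI4.redBC k X L)))]
            [QuasiSeparated ((GrothLib.CurvePI4.redBC k X L).fromSpecStalk (genericPoint (GrothLib.CurvePI4.redBC k X L)))],
            Smooth ((GrothLib.CurvePI4.chartOpen k X L U.1).ι ≫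
              Curv2.normalizationι (GrothLib.CurvePI4.redBC k X L) ≫
              (Curv2.bc k X L).nilradical.subschemeι ≫ Curv2.bcSnd k X L) := by
    rintro ⟨U, hU, hne⟩
    haveI := hne
    obtain ⟨φ, hφ⟩ := Spec.map_surjective (hU.fromSpec ≫ (X ↘ Spec (CommRingCat.of k)))
    letI : Algebra k Γ(X, U) := φ.hom.toAlgebra
    haveI : Algebra.FiniteType k Γ(X, U) := by
      have h1 : LocallyOfFiniteType (Spec.map φ) := hφ ▸ inferInstance
      exact HasRingHomProperty.Spec_iff.mp h1
    obtain ⟨L₁, h1, h2⟩ := GrothLib.CurvePI4.exists_smooth_integralClosure k Γ(X, U)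
      (GrothLib.CurvePI4.dimensionLEOne_of_topologicalKrullDim hdim hU)
    refine ⟨L₁, h1, fun L hL _ _ _ => ?_⟩
    haveI : IsPurelyInseparable k L :=
      IsPurelyInseparable.tower_bot k L (perfectClosure k (AlgebraicClosure k))
    exact GrothLib.CurvePI4.smooth_chart k X L hU hφ.symm (h2 L hL)
  choose L₁ hfin hL₁ using key
  let L : IntermediateField k (perfectClosure k (AlgebraicClosure k)) := ⨆ U : T, L₁ U.1
  haveI : ∀ U : T, FiniteDimensional k (L₁ U.1) := fun U => hfin U.1
  haveI : FiniteDimensional k L := IntermediateField.finiteDimensional_iSup_of_finite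
  haveI : IsPurelyInseparable k L :=
    IsPurelyInseparable.tower_bot k L (perfectClosure k (AlgebraicClosure k))
  haveI hint : IsIntegral (GrothLib.CurvePI4.redBC k X L) := GrothLib.CurvePI4.isIntegral_redBC k X L
  haveI : LocallyOfFiniteType ((Curv2.bc k X L).nilradical.subschemeι ≫ Curv2.bcSnd k X L) := inferInstance
  haveI : IsLocallyNoetherian (GrothLib.CurvePI4.redBC k X L) :=
    LocallyOfFiniteType.isLocallyNoetherian ((Curv2.bc k X L).nilradical.subschemeι ≫ Curv2.bcSnd k X L)
  haveI hqc : QuasiCompact ((GrothLib.CurvePI4.redBC k X L).fromSpecStalk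
      (genericPoint (GrothLib.CurvePI4.redBC k X L))) := inferInstance
  haveI hqs : QuasiSeparated ((GrothLib.CurvePI4.redBC k X L).fromSpecStalk
      (genericPoint (GrothLib.CurvePI4.redBC k X L))) := inferInstance
  refine ⟨L, inferInstance, inferInstance, inferInstance, inferInstance, hint, hqc, hqs, ?_⟩
  refine (IsZariskiLocalAtSource.iff_of_iSup_eq_top (P := @Smooth)
    (fun U : T => GrothLib.CurvePI4.chartOpen k X L U.1.1) ?_).mpr fun U => ?_
  · refine GrothLib.CurvePI4.iSup_chartOpen k X L (fun U : T => U.1.1) (top_le_iff.mp fun x _ => ?_)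
    obtain ⟨U, hU, hx⟩ := Set.mem_iUnion₂.mp (hT (Set.mem_univ x))
    exact TopologicalSpace.Opens.mem_iSup.mpr ⟨⟨U, hU⟩, hx⟩
  · exact hL₁ U.1 L (le_iSup (fun U : T => L₁ U.1) U)

end Groth.Agent.S12130
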