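import Groth.Statements.S12131
import Groth.Agent.Lib.AffBC.Basic

set_option autoImplicit false
set_option linter.all false
universe u
open EGA2

namespace Groth.Agent.S12131

open AlgebraicGeometry CategoryTheory Scheme.Modules in
/-- Let f : X → S be an affine morphism, g : S' → S a morphism, X' = X ×_S S' with projections g' : X' →
X and f' : X' → S', and F a quasi-coherent O_X-module. Let ρ : F → g'_* g'^* F be the unit of
adjunction and v = f_*(ρ) : f_* F → f_* g'_* g'^* F = g_* f'_* g'^* F; then the map u : g^*(f_* F) →
f'_*(g'^* F) adjoint to v is an isomorphism. -/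
theorem result {X S X' S' : Scheme.{u}} (f : X ⟶ S) (g : S' ⟶ S)
    (g' : X' ⟶ X) (f' : X' ⟶ S') (h : IsPullback g' f' f g) [IsAffineHom f]
    (F : X.Modules) [Coh.IsQCoh F] :
    IsIso (((pullbackPushforwardAdjunction g).homEquiv ((pushforward f).obj F)
        ((pushforward f').obj ((pullback g').obj F))).symm
      ((pushforward f).map ((pullbackPushforwardAdjunction g').unit.app F) ≫
        (pushforwardComp g' f).hom.app ((pullback g').obj F) ≫
        (pushforwardCongr h.w).hom.app ((pullback g').obj F) ≫
        (pushforwardComp f' g).inv.app ((pullback g').obj F))) := by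
  haveI : F.IsQuasicoherent := ‹Coh.IsQCoh F›
  exact GrothLib.AffBC.isIso_bcMap h F

end Groth.Agent.S12131
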