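import Groth.Statements.S12134
import Groth.Agent.Lib.FlatGr5.Fin
import Mathlib.RingTheory.Ideal.MinimalPrime.Noetherian

set_option autoImplicit false
universe u
open scoped TensorProduct
open EGA43

namespace Groth.Agent.S12134

open TensorProduct

/-- One step of the stratification. -/
theorem exists_step {A₀ : Type u} [CommRing A₀] [IsNoetherianRing A₀]
    {B₀ : Type u} [CommRing B₀] [Algebra A₀ B₀] [Algebra.FiniteType A₀ B₀]
    (M₀ : Type u) [AddCommGroup M₀] [Module B₀ M₀] [Module A₀ M₀] [IsScalarTower A₀ B₀ M₀]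
    [Module.Finite B₀ M₀] {r : ℕ} (b : Fin r → B₀) (I : Ideal A₀) (hI : I.IsRadical) (hne : I ≠ ⊤) :
    ∃ (P : Ideal A₀) (g : A₀), g ∉ I ∧
      PrimeSpectrum.zeroLocus (P : Set A₀) ∩ PrimeSpectrum.basicOpen g =
        PrimeSpectrum.zeroLocus (I : Set A₀) ∩ PrimeSpectrum.basicOpen g ∧
      GrothLib.FlatGr5.QFlat A₀ M₀ b (Localization.Away (Ideal.Quotient.mk P g)) := by
  classical
  obtain ⟨P, hP⟩ := Ideal.nonempty_minimalPrimes hne
  have hfin : I.minimalPrimes.Finite := Ideal.finite_minimalPrimes_of_isNoetherianRing A₀ I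
  haveI hPp : P.IsPrime := hP.1.1
  have hnle : ¬ (hfin.toFinset.erase P).inf id ≤ P := fun h => by
    obtain ⟨Q, hQ, hQP⟩ := (Ideal.IsPrime.inf_le' hPp).1 h
    rw [Finset.mem_erase, hfin.mem_toFinset] at hQ
    exact hQ.1 (le_antisymm hQP (hP.2 hQ.2.1 hQP))
  obtain ⟨h, hh, hhP⟩ := Set.not_subset.1 hnle
  have hmul : ∀ p ∈ P, h * p ∈ I := fun p hp => by
    rw [← hI.radical, ← Ideal.sInf_minimalPrimes, Ideal.mem_sInf]
    intro Q hQ
    by_cases hQP : Q = P
    · exact hQP ▸ Ideal.mul_mem_left _ _ hp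
    · exact Ideal.mul_mem_right _ _ (Finset.inf_le (f := id) (Finset.mem_erase.2 ⟨hQP, hfin.mem_toFinset.2 hQ⟩) hh)
  obtain ⟨f, hf, hflat⟩ := GrothLib.FlatGr5.exists_flat_away (C := A₀) M₀ b (A₀ ⧸ P)
  obtain ⟨f₀, rfl⟩ := Ideal.Quotient.mk_surjective f
  have hf₀ : f₀ ∉ P := fun hm => hf (Ideal.Quotient.eq_zero_iff_mem.2 hm)
  refine ⟨P, h * f₀, fun hm => (hPp.mem_or_mem (hP.1.2 hm)).elim hhP hf₀, ?_, ?_⟩
  · ext q
    simp only [Set.mem_inter_iff, PrimeSpectrum.mem_zeroLocus, SetLike.coe_subset_coe, SetLike.mem_coe,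
      PrimeSpectrum.mem_basicOpen]
    refine ⟨fun hq => ⟨hP.1.2.trans hq.1, hq.2⟩, fun hq => ⟨fun p hp => ?_, hq.2⟩⟩
    exact (q.2.mem_or_mem (hq.1 (hmul p hp))).resolve_left fun hh' => hq.2 (Ideal.mul_mem_right _ _ hh')
  · let D := A₀ ⧸ P
    let R := Localization.Away (Ideal.Quotient.mk P f₀)
    let R' := Localization.Away (Ideal.Quotient.mk P (h * f₀))
    have hu : IsUnit (algebraMap D R' (Ideal.Quotient.mk P f₀)) := by
      have := IsLocalization.Away.algebraMap_isUnit (S := R') (Ideal.Quotient.mk P (h * f₀))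
      exact isUnit_of_dvd_unit (map_dvd _ (map_dvd _ (dvd_mul_left f₀ h))) this
    letI : Algebra R R' := (IsLocalization.Away.lift (S := R) (Ideal.Quotient.mk P f₀) (g := algebraMap D R') hu).toAlgebra
    haveI : IsScalarTower A₀ R R' := IsScalarTower.of_algebraMap_eq fun a => by
      rw [IsScalarTower.algebraMap_apply A₀ D R', IsScalarTower.algebraMap_apply A₀ D R]
      exact (IsLocalization.Away.lift_eq (S := R) _ hu _).symm
    exact GrothLib.FlatGr5.qFlat_baseChange M₀ b R R' hflat

/-- The stratification, by Noetherian induction. -/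
theorem exists_strata {A₀ : Type u} [CommRing A₀] [IsNoetherianRing A₀]
    {B₀ : Type u} [CommRing B₀] [Algebra A₀ B₀] [Algebra.FiniteType A₀ B₀]
    (M₀ : Type u) [AddCommGroup M₀] [Module B₀ M₀] [Module A₀ M₀] [IsScalarTower A₀ B₀ M₀]
    [Module.Finite B₀ M₀] {r : ℕ} (b : Fin r → B₀) (I : Ideal A₀) :
    ∃ (m : ℕ) (s : Fin m → Ideal A₀ × A₀),
      (∀ i j, i ≠ j → Disjoint (PrimeSpectrum.zeroLocus ((s i).1 : Set A₀) ∩ PrimeSpectrum.basicOpen (s i).2)
        (PrimeSpectrum.zeroLocus ((s j).1 : Set A₀) ∩ PrimeSpectrum.basicOpen (s j).2)) ∧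
      (⋃ i, PrimeSpectrum.zeroLocus ((s i).1 : Set A₀) ∩ PrimeSpectrum.basicOpen (s i).2) =
        PrimeSpectrum.zeroLocus (I : Set A₀) ∧
      (∀ i, ∃ U : Set (PrimeSpectrum A₀), IsOpen U ∧
        U ∩ (⋃ j, ⋃ (_ : i ≤ j), PrimeSpectrum.zeroLocus ((s j).1 : Set A₀) ∩ PrimeSpectrum.basicOpen (s j).2) =
          PrimeSpectrum.zeroLocus ((s i).1 : Set A₀) ∩ PrimeSpectrum.basicOpen (s i).2) ∧
      ∀ i, GrothLib.FlatGr5.QFlat A₀ M₀ b (Localization.Away (Ideal.Quotient.mk (s i).1 (s i).2)) := by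
  induction I using WellFoundedGT.induction with
  | _ I ih =>
  by_cases hrad : I.IsRadical
  · by_cases hne : I = ⊤
    · refine ⟨0, Fin.elim0, fun i => i.elim0, ?_, fun i => i.elim0, fun i => i.elim0⟩
      rw [hne]; simp
    · obtain ⟨P, g, hg, heq, hflat⟩ := exists_step M₀ b I hrad hne
      obtain ⟨m, s, hdis, hun, hop, hfl⟩ := ih (I ⊔ Ideal.span {g})
        (left_lt_sup.2 fun hle => hg (hle (Ideal.mem_span_singleton_self g)))
      let T : Fin m → Set (PrimeSpectrum A₀) := fun j =>
        PrimeSpectrum.zeroLocus ((s j).1 : Set A₀) ∩ PrimeSpectrum.basicOpen (s j).2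
      have hsub : ∀ j, T j ⊆ PrimeSpectrum.zeroLocus (I : Set A₀) ∧ ∀ q ∈ T j, g ∈ q.asIdeal := fun j => by
        have h1 : T j ⊆ PrimeSpectrum.zeroLocus ((I ⊔ Ideal.span {g} : Ideal A₀) : Set A₀) :=
          hun ▸ Set.subset_iUnion T j
        exact ⟨h1.trans (PrimeSpectrum.zeroLocus_anti_mono (SetLike.coe_subset_coe.2 le_sup_left)),
          fun q hq => h1 hq (SetLike.mem_coe.2 (Ideal.mem_sup_right (Ideal.mem_span_singleton_self g)))⟩
      refine ⟨m + 1, Fin.cons (P, g) s, ?_, ?_, ?_, ?_⟩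
      · intro i j hij
        induction i using Fin.cases with
        | zero =>
          induction j using Fin.cases with
          | zero => exact absurd rfl hij
          | succ j =>
            simp only [Fin.cons_zero, Fin.cons_succ]
            exact Set.disjoint_left.2 fun q hq hq' => hq.2 ((hsub j).2 q hq')
        | succ i =>
          induction j using Fin.cases with
          | zero =>
            simp only [Fin.cons_zero, Fin.cons_succ]
            exact Set.disjoint_left.2 fun q hq hq' => hq'.2 ((hsub i).2 q hq)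
          | succ j =>
            simp only [Fin.cons_succ]
            exact hdis i j fun h => hij (h ▸ rfl)
      · ext q
        simp only [Set.mem_iUnion, Fin.exists_fin_succ, Fin.cons_zero, Fin.cons_succ]
        rw [show (∃ i, q ∈ PrimeSpectrum.zeroLocus ((s i).1 : Set A₀) ∩ PrimeSpectrum.basicOpen (s i).2) ↔
          q ∈ PrimeSpectrum.zeroLocus ((I ⊔ Ideal.span {g} : Ideal A₀) : Set A₀) from
          by rw [← hun, Set.mem_iUnion], heq]
        simp only [Set.mem_inter_iff, PrimeSpectrum.mem_zeroLocus, SetLike.coe_subset_coe, SetLike.mem_coe,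
          PrimeSpectrum.mem_basicOpen, sup_le_iff, Ideal.span_singleton_le_iff_mem]
        tauto
      · intro i
        induction i using Fin.cases with
        | zero =>
          refine ⟨PrimeSpectrum.basicOpen g, (PrimeSpectrum.basicOpen g).2, ?_⟩
          ext q
          simp only [Set.mem_inter_iff, Set.mem_iUnion]
          constructor
          · rintro ⟨hq, j, -, hj⟩
            induction j using Fin.cases with
            | zero => exact hj
            | succ j =>
              simp only [Fin.cons_succ] at hj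
              exact absurd ((hsub j).2 q hj) hq
          · intro hq
            exact ⟨hq.2, 0, le_rfl, hq⟩
        | succ i =>
          obtain ⟨U, hU, hU'⟩ := hop i
          refine ⟨U, hU, ?_⟩
          simp only [Fin.cons_succ]
          rw [← hU']
          congr 1
          ext q
          simp only [Set.mem_iUnion]
          constructor
          · rintro ⟨j, hj, hq⟩
            induction j using Fin.cases with
            | zero => exact absurd hj (by simp)
            | succ j => exact ⟨j, Fin.succ_le_succ_iff.1 hj, by simpa only [Fin.cons_succ] using hq⟩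
          · rintro ⟨j, hj, hq⟩
            exact ⟨j.succ, Fin.succ_le_succ_iff.2 hj, by simpa only [Fin.cons_succ] using hq⟩
      · intro i
        induction i using Fin.cases with
        | zero =>
          show GrothLib.FlatGr5.QFlat A₀ M₀ b (Localization.Away (Ideal.Quotient.mk P g))
          exact hflat
        | succ i => rw [Fin.cons_succ]; exact hfl i
  · obtain ⟨m, s, hdis, hun, hop, hfl⟩ := ih I.radical
      (lt_of_le_of_ne Ideal.le_radical fun h => hrad (Ideal.radical_eq_iff.1 h.symm))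
    exact ⟨m, s, hdis, hun.trans (PrimeSpectrum.zeroLocus_radical I), hop, hfl⟩

open AlgebraicGeometry CategoryTheory in
/-- Suppose A₀ is a Noetherian ring and B₀ is a finitely generated A₀-algebra; fix an ideal J₀ ⊆ B₀ and
a finite B₀-module M₀. Then Spec A₀ admits finitely many affine subschemes S_1, …, S_m — presented
as immersions Spec A_i → Spec A₀ — whose underlying sets are mutually disjoint with union all of
Spec A₀, such that each S_i is open in S_i ∪ S_{i+1} ∪ … ∪ S_m, and such that for each i, setting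
N_i = A_i ⊗_{A₀} M₀, the graded module associated to the J₀-adic filtration on N_i is A_i-flat.
Concretely, for every n the A_i-module J₀ⁿN_i / J₀ⁿ⁺¹N_i is flat, where this quotient is encoded as
the image of J₀ⁿN_i inside N_i / J₀ⁿ⁺¹N_i, and J₀ⁿN_i denotes the image in N_i of A_i ⊗_{A₀} J₀ⁿM₀. -/
theorem result {A₀ : Type u} [CommRing A₀] [IsNoetherianRing A₀]
    {B₀ : Type u} [CommRing B₀] [Algebra A₀ B₀] [Algebra.FiniteType A₀ B₀] (J₀ : Ideal B₀)
    (M₀ : Type u) [AddCommGroup M₀] [Module B₀ M₀] [Module A₀ M₀] [IsScalarTower A₀ B₀ M₀]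
    [Module.Finite B₀ M₀] :
    ∃ (m : ℕ) (A : Fin m → Type u) (_ : ∀ i, CommRing (A i)) (_ : ∀ i, Algebra A₀ (A i)),
      (∀ i, IsImmersion (Spec.map (CommRingCat.ofHom (algebraMap A₀ (A i))))) ∧
      (∀ i j, i ≠ j → Disjoint (Set.range (Spec.map (CommRingCat.ofHom (algebraMap A₀ (A i)))))
        (Set.range (Spec.map (CommRingCat.ofHom (algebraMap A₀ (A j)))))) ∧
      (⋃ i, Set.range (Spec.map (CommRingCat.ofHom (algebraMap A₀ (A i)))) = Set.univ) ∧
      (∀ i, ∃ U : Set (Spec (CommRingCat.of A₀)), IsOpen U ∧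
        U ∩ (⋃ j, ⋃ (_ : i ≤ j), Set.range (Spec.map (CommRingCat.ofHom (algebraMap A₀ (A j))))) =
          Set.range (Spec.map (CommRingCat.ofHom (algebraMap A₀ (A i))))) ∧
      ∀ i (n : ℕ), Module.Flat (A i)
        ↥(Submodule.map
            (LinearMap.range (LinearMap.baseChange (A i)
              ((J₀ ^ (n + 1) • (⊤ : Submodule B₀ M₀)).restrictScalars A₀).subtype)).mkQ
            (LinearMap.range (LinearMap.baseChange (A i)
              ((J₀ ^ n • (⊤ : Submodule B₀ M₀)).restrictScalars A₀).subtype))) := by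
  classical
  haveI : IsNoetherianRing B₀ := Algebra.FiniteType.isNoetherianRing A₀ B₀
  obtain ⟨r, b, rfl⟩ := Submodule.fg_iff_exists_fin_generating_family.1 (IsNoetherian.noetherian J₀)
  obtain ⟨m, s, hdis, hun, hop, hfl⟩ := exists_strata M₀ b (⊥ : Ideal A₀)
  have hr : ∀ i, Set.range (Spec.map (CommRingCat.ofHom
      (algebraMap A₀ (Localization.Away (Ideal.Quotient.mk (s i).1 (s i).2))))) =
      PrimeSpectrum.zeroLocus ((s i).1 : Set A₀) ∩ PrimeSpectrum.basicOpen (s i).2 := fun i => by
    let D := A₀ ⧸ (s i).1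
    let R := Localization.Away (Ideal.Quotient.mk (s i).1 (s i).2)
    show Set.range (PrimeSpectrum.comap (algebraMap A₀ R)) = _
    rw [IsScalarTower.algebraMap_eq A₀ D R, PrimeSpectrum.comap_comp, Set.range_comp,
      PrimeSpectrum.localization_away_comap_range R (Ideal.Quotient.mk (s i).1 (s i).2)]
    ext q
    constructor
    · rintro ⟨p, hp, rfl⟩
      refine ⟨fun a ha => ?_, hp⟩
      show algebraMap A₀ D a ∈ p.asIdeal
      rw [Ideal.Quotient.algebraMap_eq, Ideal.Quotient.eq_zero_iff_mem.2 ha]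
      exact zero_mem _
    · rintro ⟨hq, hq'⟩
      obtain ⟨p, rfl⟩ : q ∈ Set.range (PrimeSpectrum.comap (algebraMap A₀ D)) := by
        rw [Ideal.Quotient.algebraMap_eq, range_comap_of_surjective _ _ Ideal.Quotient.mk_surjective, Ideal.mk_ker]
        exact hq
      exact ⟨p, hq', rfl⟩
  refine ⟨m, fun i => Localization.Away (Ideal.Quotient.mk (s i).1 (s i).2), fun i => inferInstance,
    fun i => inferInstance, fun i => ?_, fun i j hij => ?_, ?_, fun i => ?_, fun i n => ?_⟩
  · let D := A₀ ⧸ (s i).1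
    let R := Localization.Away (Ideal.Quotient.mk (s i).1 (s i).2)
    haveI : IsClosedImmersion (Spec.map (CommRingCat.ofHom (algebraMap A₀ D))) :=
      IsClosedImmersion.spec_of_surjective _ Ideal.Quotient.mk_surjective
    haveI : IsOpenImmersion (Spec.map (CommRingCat.ofHom (algebraMap D R))) :=
      IsOpenImmersion.of_isLocalization (Ideal.Quotient.mk (s i).1 (s i).2)
    rw [IsScalarTower.algebraMap_eq A₀ D R, CommRingCat.ofHom_comp, Spec.map_comp]
    exact inferInstance
  · rw [hr, hr]; exact hdis i j hij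
  · simp only [hr]
    exact hun.trans ((congrArg _ (Submodule.bot_coe)).trans (PrimeSpectrum.zeroLocus_singleton_zero))
  · obtain ⟨U, hU, hU'⟩ := hop i
    exact ⟨U, hU, by simp only [hr]; exact hU'⟩
  · let R := Localization.Away (Ideal.Quotient.mk (s i).1 (s i).2)
    let F : ℕ → Submodule R (R ⊗[A₀] M₀) := GrothLib.FlatGr5.F A₀ M₀ b R
    haveI hn1 : Module.Flat R ((R ⊗[A₀] M₀) ⧸ F (n + 1)) :=
      (GrothLib.FlatGr5.flat_quot_iff M₀ b R (n + 1)).2 (hfl i (n + 1))
    haveI hn : Module.Flat R ((R ⊗[A₀] M₀) ⧸ F n) :=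
      (GrothLib.FlatGr5.flat_quot_iff M₀ b R n).2 (hfl i n)
    let f : ((R ⊗[A₀] M₀) ⧸ F (n + 1)) →ₗ[R] (R ⊗[A₀] M₀) ⧸ F n :=
      Submodule.factor (GrothLib.FlatGr5.F_succ_le M₀ b R n)
    exact GrothLib.FlatGr5.flat_left ((F n).map (F (n + 1)).mkQ).subtype f (Submodule.subtype_injective _)
      (Submodule.factor_surjective _) (fun y => by
        obtain ⟨y, rfl⟩ := Submodule.Quotient.mk_surjective _ y
        show (Submodule.Quotient.mk y : _ ⧸ F n) = 0 ↔ _
        rw [Submodule.Quotient.mk_eq_zero]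
        constructor
        · exact fun hy => ⟨⟨_, y, hy, rfl⟩, rfl⟩
        · rintro ⟨⟨_, z, hz, rfl⟩, hz'⟩
          have h2 : z - y ∈ F (n + 1) := (Submodule.Quotient.eq _).1 hz'
          have h3 := sub_mem (show z ∈ F n from hz) (GrothLib.FlatGr5.F_succ_le M₀ b R n h2)
          rwa [sub_sub_cancel] at h3)

end Groth.Agent.S12134
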