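import Groth.Statements.S12135
import Groth.Agent.Lib.Constr.Topology

set_option autoImplicit false
universe u
open EGA41

namespace Groth.Agent.S12135

open AlgebraicGeometry Topology in
/-- Let f : X → Y be a morphism of schemes with X and Y quasi-separated, and let X^cons, Y^cons denote
the underlying sets with the constructible topology (generated by the quasi-compact open subsets and
their complements; for quasi-separated schemes the open sets are exactly the ind-constructible
subsets). Then f is quasi-compact if and only if the map X^cons → Y^cons underlying f is proper
(continuous and universally closed). (The published statement is for arbitrary schemes with the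
ind-constructible topology; this row covers the quasi-separated case, where that topology is the one
used here.) -/
theorem result {X Y : Scheme.{u}} [QuasiSeparatedSpace X]
    [QuasiSeparatedSpace Y] (f : X ⟶ Y) :
    QuasiCompact f ↔ @IsProperMap X Y (constructibleTopology X) (constructibleTopology Y) f := by
  have hcompact : ∀ {Z : Scheme.{u}} [QuasiSeparatedSpace Z] {K : Set Z},
      @IsCompact Z (constructibleTopology Z) K → IsCompact K := fun {Z} _ {K} hK => by
    have := @IsCompact.image Z Z (constructibleTopology Z) _ _ _ hK
      GrothLib.Constr.continuous_id_constructibleTopology
    rwa [Set.image_id] at this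
  constructor
  · intro hf
    have hcont : @Continuous X Y (constructibleTopology X) (constructibleTopology Y) f :=
      @Continuous.mk X Y (constructibleTopology X) (constructibleTopology Y) _ fun s hs =>
        GrothLib.Constr.isOpen_constructibleTopology_iff_isIndConstructible.2
          (GrothLib.Constr.isIndConstructible_preimage f
            (GrothLib.Constr.isOpen_constructibleTopology_iff_isIndConstructible.1 hs))
    haveI : @T2Space Y (constructibleTopology Y) :=
      @GrothLib.Constr.t2Space_constructibleTopology Y Y.carrier.str inferInstance inferInstance
    haveI : @LocallyCompactSpace Y (constructibleTopology Y) :=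
      @GrothLib.Constr.locallyCompactSpace_constructibleTopology Y inferInstance
    refine (@isProperMap_iff_isCompact_preimage X Y (constructibleTopology X)
      (constructibleTopology Y) _ _ f).2 ⟨hcont, fun K hK => ?_⟩
    choose W hW hyW hWU using fun y : Y => GrothLib.Constr.exists_affine_nhd y isOpen_univ (Set.mem_univ y)
    obtain ⟨t, ht⟩ := @IsCompact.elim_finite_subcover Y (constructibleTopology Y) K Y hK
      (fun y => (W y : Set Y)) (fun y => (hW y).isCompact.isOpen_constructibleTopology_of_isOpen (W y).2)
      (fun y _ => Set.mem_iUnion.2 ⟨y, hyW y⟩)
    have hWc : ∀ y, @IsCompact X (constructibleTopology X) (f ⁻¹' (W y : Set Y)) := fun y =>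
      GrothLib.Constr.isCompact_constructibleTopology_of_isOpen (f ⁻¹ᵁ W y).2
        (f.isCompact_preimage (hW y).isCompact)
    have hU : @IsCompact X (constructibleTopology X) (⋃ y ∈ t, f ⁻¹' (W y : Set Y)) := by
      letI := constructibleTopology X
      exact t.isCompact_biUnion fun y _ => hWc y
    refine @IsCompact.of_isClosed_subset X (constructibleTopology X) _ _ hU
      (@IsClosed.preimage X Y (constructibleTopology X) (constructibleTopology Y) f hcont K
        (@IsCompact.isClosed Y (constructibleTopology Y) _ K hK)) ?_
    intro x hx
    obtain ⟨y, hy, hxy⟩ := Set.mem_iUnion₂.1 (ht hx)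
    exact Set.mem_iUnion₂.2 ⟨y, hy, hxy⟩
  · intro hf
    refine (quasiCompact_iff _).2 fun U hU hUc => hcompact ?_
    exact @IsProperMap.isCompact_preimage X Y (constructibleTopology X) (constructibleTopology Y) f hf U
      (GrothLib.Constr.isCompact_constructibleTopology_of_isOpen hU hUc)

end Groth.Agent.S12135
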