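import Groth.Statements.S1214
import Groth.Agent.Lib.Misc6.AssTop
-- import your own Groth.Agent.* helpers here

set_option autoImplicit false
universe u
open FlatMor

namespace Groth.Agent.S1214

open TensorProduct in
/-- Let R → S be a ring map, I an ideal of R and N an S-module which is I-adically complete. Then for
every R-module M and every prime q of S which is the annihilator of an element of the S-module N ⊗_R
M we have q + IS ≠ S. -/
theorem result {R S : Type u} [CommRing R] [CommRing S] [Algebra R S] (I : Ideal R)
    (N : Type u) [AddCommGroup N] [Module S N] [Module R N] [IsScalarTower R S N] [IsAdicComplete I N]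
    (M : Type u) [AddCommGroup M] [Module R M]
    (q : Ideal S) [q.IsPrime] (hq : q ∈ FlatCA.ass S (N ⊗[R] M)) :
    q ⊔ I.map (algebraMap R S) ≠ ⊤ := by
  intro h
  obtain ⟨x, hx0, e, he, hx⟩ := GrothLib.Misc6.exists_fixed N M _ q hq h
  exact hx0 (GrothLib.Misc6.eq_zero_of_fixed_isAdicComplete N M I he hx)

end Groth.Agent.S1214
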