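import Groth.Statements.S12141
import Groth.Agent.Lib.RelCone8.BaseChangeRel

set_option autoImplicit false
set_option backward.isDefEq.respectTransparency false
universe u
open CategoryTheory CategoryTheory.Limits AlgebraicGeometry TopologicalSpace Opposite
open scoped HomogeneousIdeal
noncomputable section
open EGA2

namespace Groth.Agent.S12141

/-- Let ψ : Y' → Y be a morphism of schemes, 𝒮 a quasi-coherent positively graded O_Y-algebra and 𝒮' =
ψ^*𝒮, presented as a quasi-coherent graded O_{Y'}-algebra with a graded ψ-morphism u : 𝒮 → ψ_*𝒮'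
whose squares over affine opens U' ⊆ ψ⁻¹(U) are pushouts of rings; let P = Proj(𝒮), P' = Proj(𝒮')
with their charts. Then the morphism Proj(u) : P' → P is everywhere defined (its open of definition
G(u) is P' and it exists, pinned on the standard affine charts), and any such morphism identifies P'
with the fibre product P ×_Y Y'. -/
theorem result {Y Y' P P' : Scheme.{u}} (ψ : Y' ⟶ Y)
    (𝒮 : RelProj.QCGrAlg Y) (𝒮' : RelProj.QCGrAlg Y') (u : RelProj.QGrHom ψ 𝒮 𝒮')
    (hu : RelSpec.IsQBaseChange u.toQHom)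
    (p : P ⟶ Y) (chart : ∀ (U : Y.Opens) (hU : IsAffineOpen U), (((p ⁻¹ᵁ U : P.Opens) : Scheme.{u}) ≅ Proj (𝒮.deg U hU)))
    (hP : RelProj.IsRelProj 𝒮 p chart)
    (p' : P' ⟶ Y') (chart' : ∀ (U : Y'.Opens) (hU : IsAffineOpen U), (((p' ⁻¹ᵁ U : P'.Opens) : Scheme.{u}) ≅ Proj (𝒮'.deg U hU)))
    (hP' : RelProj.IsRelProj 𝒮' p' chart') :
    (∃ h : P' ⟶ P, RelProj.IsProjQMap u p chart p' chart' h) ∧
      ∀ h : P' ⟶ P, RelProj.IsProjQMap u p chart p' chart' h → IsPullback h p' p ψ := by
  exact ⟨GrothLib.RelCone8.exists_projQMap_of_baseChange u hu hP hP',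
    fun h hh => GrothLib.RelCone8.isPullback_projQMap u hu hP hP' hh⟩

end Groth.Agent.S12141
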