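import Groth.Statements.S12143
import Groth.Agent.Lib.RLpsi8.Local

set_option autoImplicit false
set_option backward.isDefEq.respectTransparency false
universe u
open CategoryTheory CategoryTheory.Limits AlgebraicGeometry TopologicalSpace Opposite
open scoped HomogeneousIdeal
noncomputable section
open EGA2

namespace Groth.Agent.S12143

/-- Let L be an invertible O_X-module and 𝒮L = ⊕_{n ≥ 0} L^{⊗n} its graded symmetric algebra; then the
structure morphism Proj(𝒮L) → X of the relative homogeneous spectrum is an isomorphism (the graded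
algebra O_X[T] twisted by L has the same Proj as O_X[T], which is X). -/
theorem result {X PL : Scheme.{u}} (L : X.Modules)
    (hL : PicF.IsInvertible L) (hLq : Coh.IsQCoh L)
    (𝒮L : RelProj.QCGrAlg X) (j : L ⟶ 𝒮L.toModule) (hj : RelProj.IsGrSymAlg L 𝒮L j)
    (pL : PL ⟶ X) (chartL : ∀ (U : X.Opens) (hU : IsAffineOpen U), (((pL ⁻¹ᵁ U : PL.Opens) : Scheme.{u}) ≅ Proj (𝒮L.deg U hU)))
    (hPL : RelProj.IsRelProj 𝒮L pL chartL) :
    IsIso pL := by
  exact GrothLib.RLpsi8.isIso_relProj hLq hj hPL hL

end Groth.Agent.S12143
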