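import Groth.Statements.S12151
import Groth.Agent.Lib.RLpsi8.Immersion

set_option autoImplicit false
set_option backward.isDefEq.respectTransparency false
universe u
open CategoryTheory CategoryTheory.Limits AlgebraicGeometry TopologicalSpace Opposite
open scoped HomogeneousIdeal
noncomputable section
open EGA2

namespace Groth.Agent.S12151

/-- Let q : X → Y be a morphism with Y affine, L an invertible O_X-module with 𝒮L = ⊕ L^{⊗n} (whose Proj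
is X), 𝒮 a quasi-coherent positively graded O_Y-algebra with S = Γ(Y, 𝒮), ψ♭ = u : 𝒮 → q_*𝒮L a
graded q-morphism and r = r_{L,ψ} : G(ψ) → P = Proj(𝒮). For a family s_a ∈ S_{n_a} (n_a > 0) put f_a
= ψ♭(s_a) ∈ Γ(X, L^{⊗n_a}) and let X_{f_a} be the open where f_a does not vanish; conditions: (i)
the X_{f_a} cover X; (ii) the X_{f_a} are affine; (iii) every function t on X_{f_a} is of the form
ψ♭(s') f_a^{-m} with m > 0 and s' ∈ S_{m n_a} (that is, t f_a^m = ψ♭(s') in 𝒮L(X_{f_a})); (iv) for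
every m > 0 and s' ∈ S_{m n_a} with ψ♭(s')|X_{f_a} = 0 there is k > 0 with s_a^k s' = 0. Then r is
everywhere defined and an open immersion if and only if there is a family (s_a) satisfying (i),
(ii), (iii) and (iv). -/
theorem result {Y X P PL : Scheme.{u}} (q : X ⟶ Y)
    (L : X.Modules) (hL : PicF.IsInvertible L) (hLq : Coh.IsQCoh L)
    (𝒮 : RelProj.QCGrAlg Y) (𝒮L : RelProj.QCGrAlg X) (j : L ⟶ 𝒮L.toModule) (hj : RelProj.IsGrSymAlg L 𝒮L j)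
    (u : RelProj.QGrHom q 𝒮 𝒮L)
    (p : P ⟶ Y) (chart : ∀ (U : Y.Opens) (hU : IsAffineOpen U), (((p ⁻¹ᵁ U : P.Opens) : Scheme.{u}) ≅ Proj (𝒮.deg U hU)))
    (hP : RelProj.IsRelProj 𝒮 p chart)
    (pL : PL ⟶ X) (chartL : ∀ (U : X.Opens) (hU : IsAffineOpen U), (((pL ⁻¹ᵁ U : PL.Opens) : Scheme.{u}) ≅ Proj (𝒮L.deg U hU)))
    (hPL : RelProj.IsRelProj 𝒮L pL chartL)
    (r : ((RelProj.domQ u pL chartL : PL.Opens) : Scheme.{u}) ⟶ P)
    (hr : RelProj.IsProjQMapOn u p chart pL chartL (RelProj.domQ u pL chartL) r)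
    (hY : IsAffineOpen (⊤ : Y.Opens)) :
    (RelProj.domQ u pL chartL = ⊤ ∧ IsOpenImmersion r) ↔
      ∃ (ι : Type u) (n : ι → ℕ) (s : ι → 𝒮.presheaf.obj (op ⊤)) (XT : ι → X.Opens),
        (∀ a, 0 < n a ∧ s a ∈ 𝒮.deg ⊤ hY (n a)) ∧
        (∀ a, XT a = (⨆ V : {V : X.affineOpens //
          ((𝒮L.deg V.1 V.2 (n a) : AddSubgroup (𝒮L.presheaf.obj (op (V.1 : X.Opens)))) : Set (𝒮L.presheaf.obj (op (V.1 : X.Opens)))) ⊆
            (Ideal.span {(u.appLE ⊤ (V.1 : X.Opens) (le_top.trans (Scheme.Hom.preimage_top q).ge)).hom (s a)} : Set (𝒮L.presheaf.obj (op (V.1 : X.Opens))))},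
          (V.1.1 : X.Opens))) ∧
        (⨆ a, XT a) = ⊤ ∧ (∀ a, IsAffineOpen (XT a)) ∧
        (∀ (a : ι) (t : X.presheaf.obj (op (XT a))), ∃ (m : ℕ) (_ : 0 < m) (s' : 𝒮.presheaf.obj (op ⊤)) (_ : s' ∈ 𝒮.deg ⊤ hY (m * n a)),
            (𝒮L.str.app (op (XT a))).hom t * ((u.appLE ⊤ (XT a) (le_top.trans (Scheme.Hom.preimage_top q).ge)).hom (s a)) ^ m =
              (u.appLE ⊤ (XT a) (le_top.trans (Scheme.Hom.preimage_top q).ge)).hom s') ∧
        (∀ (a : ι) (m : ℕ), 0 < m → ∀ s' ∈ 𝒮.deg ⊤ hY (m * n a),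
            (u.appLE ⊤ (XT a) (le_top.trans (Scheme.Hom.preimage_top q).ge)).hom s' = 0 → ∃ (k : ℕ), 0 < k ∧ (s a) ^ k * s' = 0) := by
  constructor
  · rintro ⟨htop, himm⟩
    obtain ⟨g, hg, hQ⟩ := GrothLib.RLpsi8.exists_g hL hLq hj u hPL htop hr
    haveI : IsOpenImmersion g := (hQ @IsOpenImmersion).mp himm
    have key : ∀ x : X, ∃ (n : ℕ) (s : 𝒮.presheaf.obj (op ⊤)), 0 < n ∧ s ∈ 𝒮.deg ⊤ hY n ∧
        x ∈ GrothLib.RLpsi8.XS u ⟨⊤, hY⟩ n s ∧ GrothLib.RLpsi8.IsGood u ⟨⊤, hY⟩ n s ∧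
          GrothLib.RLpsi8.IsInj u ⟨⊤, hY⟩ n s := fun x => by
      obtain ⟨⟨U, n, hn, s, hs⟩, rfl, hx, hgood⟩ :=
        GrothLib.RLpsi8.exists_good_inj hL hLq hj u hP hPL htop hg x ⟨⊤, hY⟩ trivial
      exact ⟨n, s, hn, hs, hx, hgood⟩
    choose n s hn hs hx hgood hinj using key
    refine ⟨X, n, s, fun a => GrothLib.RLpsi8.XS u ⟨⊤, hY⟩ (n a) (s a), fun a => ⟨hn a, hs a⟩,
      fun a => GrothLib.RLpsi8.XS_top u hY (n a) (s a), top_le_iff.mp fun x _ => Opens.mem_iSup.mpr ⟨x, hx x⟩,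
      fun a => (hgood a).1, fun a t => (hgood a).2 t, fun a m hm s' hs' e => hinj a m hm s' hs' e⟩
  · rintro ⟨ι, n, s, XT, hns, hXT, hcov, haff, heq, hinj⟩
    obtain rfl : XT = fun a => GrothLib.RLpsi8.XS u ⟨⊤, hY⟩ (n a) (s a) :=
      funext fun a => (hXT a).trans (GrothLib.RLpsi8.XS_top u hY (n a) (s a)).symm
    let c : ι → GrothLib.RLpsi8.Piece 𝒮 := fun a => ⟨⟨⊤, hY⟩, n a, (hns a).1, s a, (hns a).2⟩
    have htop := GrothLib.RLpsi8.domQ_eq_top_of_cover hL hLq hj u hPL c hcov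
    obtain ⟨g, hg, hQ⟩ := GrothLib.RLpsi8.exists_g hL hLq hj u hPL htop hr
    exact ⟨htop, (hQ @IsOpenImmersion).mpr
      (GrothLib.RLpsi8.isOpenImmersion_of_good hL hLq hj u hP hPL htop hg c hcov
        fun a => ⟨⟨haff a, heq a⟩, hinj a⟩)⟩

end Groth.Agent.S12151
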