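import Groth.Statements.S12152
import Groth.Agent.Lib.RLpsi8.Immersion

set_option autoImplicit false
set_option backward.isDefEq.respectTransparency false
universe u
open CategoryTheory CategoryTheory.Limits AlgebraicGeometry TopologicalSpace Opposite
open scoped HomogeneousIdeal
noncomputable section
open EGA2

namespace Groth.Agent.S12152

/-- Let q : X → Y be a morphism with Y affine, L an invertible O_X-module with 𝒮L = ⊕ L^{⊗n} (whose Proj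
is X), 𝒮 a quasi-coherent positively graded O_Y-algebra with S = Γ(Y, 𝒮), ψ♭ = u : 𝒮 → q_*𝒮L a
graded q-morphism and r = r_{L,ψ} : G(ψ) → P = Proj(𝒮). For a family s_a ∈ S_{n_a} (n_a > 0) put f_a
= ψ♭(s_a) ∈ Γ(X, L^{⊗n_a}) and let X_{f_a} be the open where f_a does not vanish; conditions: (i)
the X_{f_a} cover X; (ii) the X_{f_a} are affine; (iii) every function t on X_{f_a} is of the form
ψ♭(s') f_a^{-m} with m > 0 and s' ∈ S_{m n_a} (that is, t f_a^m = ψ♭(s') in 𝒮L(X_{f_a})); (v) the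
opens D_+(s_a) cover Proj S. Then r is everywhere defined and a closed immersion if and only if
there is a family (s_a) satisfying (i), (ii), (iii) and (v). -/
theorem result {Y X P PL : Scheme.{u}} (q : X ⟶ Y)
    (L : X.Modules) (hL : PicF.IsInvertible L) (hLq : Coh.IsQCoh L)
    (𝒮 : RelProj.QCGrAlg Y) (𝒮L : RelProj.QCGrAlg X) (j : L ⟶ 𝒮L.toModule) (hj : RelProj.IsGrSymAlg L 𝒮L j)
    (u : RelProj.QGrHom q 𝒮 𝒮L)
    (p : P ⟶ Y) (chart : ∀ (U : Y.Opens) (hU : IsAffineOpen U), (((p ⁻¹ᵁ U : P.Opens) : Scheme.{u}) ≅ Proj (𝒮.deg U hU)))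
    (hP : RelProj.IsRelProj 𝒮 p chart)
    (pL : PL ⟶ X) (chartL : ∀ (U : X.Opens) (hU : IsAffineOpen U), (((pL ⁻¹ᵁ U : PL.Opens) : Scheme.{u}) ≅ Proj (𝒮L.deg U hU)))
    (hPL : RelProj.IsRelProj 𝒮L pL chartL)
    (r : ((RelProj.domQ u pL chartL : PL.Opens) : Scheme.{u}) ⟶ P)
    (hr : RelProj.IsProjQMapOn u p chart pL chartL (RelProj.domQ u pL chartL) r)
    (hY : IsAffineOpen (⊤ : Y.Opens)) :
    (RelProj.domQ u pL chartL = ⊤ ∧ IsClosedImmersion r) ↔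
      ∃ (ι : Type u) (n : ι → ℕ) (s : ι → 𝒮.presheaf.obj (op ⊤)) (XT : ι → X.Opens),
        (∀ a, 0 < n a ∧ s a ∈ 𝒮.deg ⊤ hY (n a)) ∧
        (∀ a, XT a = (⨆ V : {V : X.affineOpens //
          ((𝒮L.deg V.1 V.2 (n a) : AddSubgroup (𝒮L.presheaf.obj (op (V.1 : X.Opens)))) : Set (𝒮L.presheaf.obj (op (V.1 : X.Opens)))) ⊆
            (Ideal.span {(u.appLE ⊤ (V.1 : X.Opens) (le_top.trans (Scheme.Hom.preimage_top q).ge)).hom (s a)} : Set (𝒮L.presheaf.obj (op (V.1 : X.Opens))))},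
          (V.1.1 : X.Opens))) ∧
        (⨆ a, XT a) = ⊤ ∧ (∀ a, IsAffineOpen (XT a)) ∧
        (∀ (a : ι) (t : X.presheaf.obj (op (XT a))), ∃ (m : ℕ) (_ : 0 < m) (s' : 𝒮.presheaf.obj (op ⊤)) (_ : s' ∈ 𝒮.deg ⊤ hY (m * n a)),
            (𝒮L.str.app (op (XT a))).hom t * ((u.appLE ⊤ (XT a) (le_top.trans (Scheme.Hom.preimage_top q).ge)).hom (s a)) ^ m =
              (u.appLE ⊤ (XT a) (le_top.trans (Scheme.Hom.preimage_top q).ge)).hom s') ∧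
        (⨆ a, Proj.basicOpen (𝒮.deg ⊤ hY) (s a)) = ⊤ := by
  constructor
  · rintro ⟨htop, himm⟩
    obtain ⟨g, hg, hQ⟩ := GrothLib.RLpsi8.exists_g hL hLq hj u hPL htop hr
    haveI : IsClosedImmersion g := (hQ @IsClosedImmersion).mp himm
    let ι := Σ n : ℕ, {s : 𝒮.presheaf.obj (op ⊤) // 0 < n ∧ s ∈ 𝒮.deg ⊤ hY n}
    have hgood : ∀ a : ι, GrothLib.RLpsi8.IsGood u ⟨⊤, hY⟩ a.1 a.2.1 := fun a =>
      GrothLib.RLpsi8.good_of_isClosedImmersion hL hLq hj u hP hPL htop hg ⟨⟨⊤, hY⟩, a.1, a.2.2.1, a.2.1, a.2.2.2⟩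
    refine ⟨ι, fun a => a.1, fun a => a.2.1, fun a => GrothLib.RLpsi8.XS u ⟨⊤, hY⟩ a.1 a.2.1,
      fun a => a.2.2, fun a => GrothLib.RLpsi8.XS_top u hY a.1 a.2.1, top_le_iff.mp fun x _ => ?_,
      fun a => (hgood a).1, fun a t => (hgood a).2 t, top_le_iff.mp fun y hy => ?_⟩
    · obtain ⟨⟨U, n, hn, s, hs⟩, rfl, hx, -⟩ :=
        GrothLib.RLpsi8.exists_piece_le hL hLq hj u hP hPL htop hg (O := ⊤) (x := x) trivial ⟨⊤, hY⟩ trivial
      exact Opens.mem_iSup.mpr ⟨⟨n, s, hn, hs⟩, hx⟩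
    · obtain ⟨n, s, hn, hs, hys, -⟩ := GrothLib.RLpsi8.exists_pos_basicOpen_le (O := ⊤) hy
      exact Opens.mem_iSup.mpr ⟨⟨n, s, hn, hs⟩, hys⟩
  · rintro ⟨ι, n, s, XT, hns, hXT, hcov, haff, heq, hall⟩
    obtain rfl : XT = fun a => GrothLib.RLpsi8.XS u ⟨⊤, hY⟩ (n a) (s a) :=
      funext fun a => (hXT a).trans (GrothLib.RLpsi8.XS_top u hY (n a) (s a)).symm
    let c : ι → GrothLib.RLpsi8.Piece 𝒮 := fun a => ⟨⟨⊤, hY⟩, n a, (hns a).1, s a, (hns a).2⟩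
    have htop := GrothLib.RLpsi8.domQ_eq_top_of_cover hL hLq hj u hPL c hcov
    obtain ⟨g, hg, hQ⟩ := GrothLib.RLpsi8.exists_g hL hLq hj u hPL htop hr
    refine ⟨htop, (hQ @IsClosedImmersion).mpr
      (GrothLib.RLpsi8.isClosedImmersion_of_good hL hLq hj u hP hPL htop hg c ?_ fun a => ⟨haff a, heq a⟩)⟩
    refine top_le_iff.mp fun z _ => ?_
    obtain ⟨y, rfl⟩ := (GrothLib.RelProjK.mem_opensRange_em (chart := chart) (⟨⊤, hY⟩ : Y.AffineZariskiSite) (x := z)).mpr trivial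
    obtain ⟨a, ha⟩ := Opens.mem_iSup.mp (hall.ge (Opens.mem_top y))
    refine Opens.mem_iSup.mpr ⟨a, ?_⟩
    show _ ∈ (GrothLib.RLpsi8.sEmb p chart _ _ _).opensRange
    rw [GrothLib.RLpsi8.opensRange_sEmb]
    exact ⟨y, ha, rfl⟩

end Groth.Agent.S12152
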