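import Groth.Statements.S12154
import Groth.Agent.Lib.RLpsi8.ImmersionComp

set_option autoImplicit false
set_option backward.isDefEq.respectTransparency false
universe u
open CategoryTheory CategoryTheory.Limits AlgebraicGeometry TopologicalSpace Opposite
open scoped HomogeneousIdeal
noncomputable section
open EGA2

namespace Groth.Agent.S12154

/-- Let q : X → Y be a morphism, L an invertible O_X-module with 𝒮L = ⊕ L^{⊗n} (whose Proj, with its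
charts, is X), v : 𝒯 → 𝒮 a graded homomorphism of quasi-coherent positively graded O_Y-algebras, ψ♭
= u : 𝒮 → q_*𝒮L a graded q-morphism and ψ'♭ = u' its composite with v; let r = r_{L,ψ} : G(ψ) →
Proj(𝒮) and r' = r_{L,ψ'} : G(ψ') → Proj(𝒯), with r' everywhere defined and v (TN)-surjective (v :
𝒯_k → 𝒮_k surjective for all large k, on sections over affine opens). If r' is an open immersion, so
is r; if r' is a closed immersion, so is r. -/
theorem result {Y X P PL P' : Scheme.{u}} (q : X ⟶ Y)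
    (L : X.Modules) (hL : PicF.IsInvertible L) (hLq : Coh.IsQCoh L)
    (𝒮 : RelProj.QCGrAlg Y) (𝒮L : RelProj.QCGrAlg X) (j : L ⟶ 𝒮L.toModule) (hj : RelProj.IsGrSymAlg L 𝒮L j)
    (u : RelProj.QGrHom q 𝒮 𝒮L)
    (p : P ⟶ Y) (chart : ∀ (U : Y.Opens) (hU : IsAffineOpen U), (((p ⁻¹ᵁ U : P.Opens) : Scheme.{u}) ≅ Proj (𝒮.deg U hU)))
    (hP : RelProj.IsRelProj 𝒮 p chart)
    (pL : PL ⟶ X) (chartL : ∀ (U : X.Opens) (hU : IsAffineOpen U), (((pL ⁻¹ᵁ U : PL.Opens) : Scheme.{u}) ≅ Proj (𝒮L.deg U hU)))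
    (hPL : RelProj.IsRelProj 𝒮L pL chartL)
    (r : ((RelProj.domQ u pL chartL : PL.Opens) : Scheme.{u}) ⟶ P)
    (hr : RelProj.IsProjQMapOn u p chart pL chartL (RelProj.domQ u pL chartL) r)
    (𝒯 : RelProj.QCGrAlg Y) (v : 𝒯.toQCAlg ⟶ 𝒮.toQCAlg) (hv : RelProj.IsGradedHom v)
    (u' : RelProj.QGrHom q 𝒯 𝒮L) (hu' : ∀ U : Y.Opens, u'.app U = v.hom.app (op U) ≫ u.app U)
    (p' : P' ⟶ Y) (chart' : ∀ (U : Y.Opens) (hU : IsAffineOpen U), (((p' ⁻¹ᵁ U : P'.Opens) : Scheme.{u}) ≅ Proj (𝒯.deg U hU)))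
    (hP' : RelProj.IsRelProj 𝒯 p' chart')
    (r' : ((RelProj.domQ u' pL chartL : PL.Opens) : Scheme.{u}) ⟶ P')
    (hr' : RelProj.IsProjQMapOn u' p' chart' pL chartL (RelProj.domQ u' pL chartL) r')
    (hTN : ∃ n : ℕ, ∀ k, n ≤ k → ∀ (U : Y.Opens) (hU : IsAffineOpen U), ∀ y ∈ 𝒮.deg U hU k,
      ∃ x ∈ 𝒯.deg U hU k, (v.hom.app (op U)).hom x = y)
    (hdef : RelProj.domQ u' pL chartL = ⊤) :
    (IsOpenImmersion r' → IsOpenImmersion r) ∧ (IsClosedImmersion r' → IsClosedImmersion r) := by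
  obtain ⟨n₀, hn₀⟩ := hTN
  obtain ⟨g', hg', hQ'⟩ := GrothLib.RLpsi8.exists_g hL hLq hj u' hPL hdef hr'
  refine ⟨fun himm => ?_, fun himm => ?_⟩
  · haveI : IsOpenImmersion g' := (hQ' @IsOpenImmersion).mp himm
    have key : ∀ x : X, ∃ c : GrothLib.RLpsi8.Piece 𝒯, x ∈ c.locus u' ∧
        GrothLib.RLpsi8.IsGood u' c.U c.n c.s ∧ GrothLib.RLpsi8.IsInj u' c.U c.n c.s := fun x => by
      obtain ⟨U, hU, hx, -⟩ := exists_isAffineOpen_mem_and_subset (Opens.mem_top (q x))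
      obtain ⟨c, -, h⟩ := GrothLib.RLpsi8.exists_good_inj hL hLq hj u' hP' hPL hdef hg' x ⟨U, hU⟩ hx
      exact ⟨c, h⟩
    choose c hx hgood hinj using key
    have hcov : ⨆ x, ((c x).map v hv).locus u = ⊤ := top_le_iff.mp fun x _ => Opens.mem_iSup.mpr
      ⟨x, by rw [GrothLib.RLpsi8.Piece.locus_map u v hv u' hu']; exact hx x⟩
    have htop := GrothLib.RLpsi8.domQ_eq_top_of_cover hL hLq hj u hPL (fun x => (c x).map v hv) hcov
    obtain ⟨g, hg, hQ⟩ := GrothLib.RLpsi8.exists_g hL hLq hj u hPL htop hr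
    exact (hQ @IsOpenImmersion).mpr (GrothLib.RLpsi8.isOpenImmersion_of_good hL hLq hj u hP hPL htop hg _ hcov
      fun x => ⟨GrothLib.RLpsi8.good_of_comp u v hv u' hu' (hgood x),
        GrothLib.RLpsi8.inj_of_comp u v u' hu' (c x).hn (c x).hs hv n₀ hn₀ (hinj x)⟩)
  · haveI : IsClosedImmersion g' := (hQ' @IsClosedImmersion).mp himm
    let ι := {c : GrothLib.RLpsi8.Piece 𝒯 // GrothLib.RLpsi8.IsGood u' c.U c.n c.s}
    have hgood : ∀ c : GrothLib.RLpsi8.Piece 𝒯, GrothLib.RLpsi8.IsGood u' c.U c.n c.s :=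
      GrothLib.RLpsi8.good_of_isClosedImmersion hL hLq hj u' hP' hPL hdef hg'
    have hcov' : ∀ x : X, ∃ c : GrothLib.RLpsi8.Piece 𝒯, x ∈ c.locus u' := fun x => by
      obtain ⟨U, hU, hx, -⟩ := exists_isAffineOpen_mem_and_subset (Opens.mem_top (q x))
      obtain ⟨c, -, h, -⟩ := GrothLib.RLpsi8.exists_piece_le hL hLq hj u' hP' hPL hdef hg' (O := ⊤) (x := x) trivial ⟨U, hU⟩ hx
      exact ⟨c, h⟩
    have hcov : ⨆ c : ι, (c.1.map v hv).locus u = ⊤ := top_le_iff.mp fun x _ => by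
      obtain ⟨c, hc⟩ := hcov' x
      exact Opens.mem_iSup.mpr ⟨⟨c, hgood c⟩, by rw [GrothLib.RLpsi8.Piece.locus_map u v hv u' hu']; exact hc⟩
    have htop := GrothLib.RLpsi8.domQ_eq_top_of_cover hL hLq hj u hPL (fun c : ι => c.1.map v hv) hcov
    obtain ⟨g, hg, hQ⟩ := GrothLib.RLpsi8.exists_g hL hLq hj u hPL htop hr
    refine (hQ @IsClosedImmersion).mpr (GrothLib.RLpsi8.isClosedImmersion_of_good hL hLq hj u hP hPL htop hg
      (fun c : ι => c.1.map v hv) ?_ fun c => GrothLib.RLpsi8.good_of_comp u v hv u' hu' c.2)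
    refine top_le_iff.mp fun z _ => ?_
    obtain ⟨U, hU, hz, -⟩ := exists_isAffineOpen_mem_and_subset (Opens.mem_top (p z))
    obtain ⟨y, rfl⟩ := (GrothLib.RelProjK.mem_opensRange_em (chart := chart) (⟨U, hU⟩ : Y.AffineZariskiSite) (x := z)).mpr hz
    obtain ⟨n, s, hn, hs, hys, -⟩ := GrothLib.RLpsi8.exists_pos_basicOpen_le (O := ⊤) (y := y) trivial
    have hsk : s ^ (n₀ + 1) ∈ 𝒮.deg U hU ((n₀ + 1) * n) := by
      simpa [smul_eq_mul] using SetLike.pow_mem_graded (n₀ + 1) hs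
    obtain ⟨x, hx, hxs⟩ := hn₀ _ ((Nat.le_succ n₀).trans (Nat.le_mul_of_pos_right _ hn)) U hU _ hsk
    let c : GrothLib.RLpsi8.Piece 𝒯 := ⟨⟨U, hU⟩, (n₀ + 1) * n, Nat.mul_pos (Nat.succ_pos n₀) hn, x, hx⟩
    refine Opens.mem_iSup.mpr ⟨⟨c, hgood c⟩, ?_⟩
    show _ ∈ (GrothLib.RLpsi8.sEmb p chart _ _ _).opensRange
    rw [GrothLib.RLpsi8.opensRange_sEmb]
    refine ⟨y, ?_, rfl⟩
    show y ∈ Proj.basicOpen _ ((v.hom.app (op U)).hom x)
    rw [hxs]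
    exact (Proj.basicOpen_pow _ s (n₀ + 1) (Nat.succ_pos n₀)).ge hys

end Groth.Agent.S12154
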