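import Groth.Statements.S12156
import Groth.Agent.Lib.RelCone8.ConeQMap

set_option autoImplicit false
set_option backward.isDefEq.respectTransparency false
universe u
open CategoryTheory CategoryTheory.Limits AlgebraicGeometry TopologicalSpace Opposite
open scoped HomogeneousIdeal
noncomputable section
open EGA2

namespace Groth.Agent.S12156

/-- Let q : Y' → Y be a morphism, φ : 𝒮 → q_*𝒮' a graded q-morphism of quasi-coherent positively graded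
algebras with 𝒮_0 = O_Y, 𝒮'_0 = O_{Y'}, φ̂ : 𝒮[z] → q_*𝒮'[z] its extension with φ̂(z) = z, Ĉ =
Proj(𝒮[z]), Ĉ' = Proj(𝒮'[z]) the projective cones with pointed cones Ê, Ê', and Φ̂ = Proj(φ̂) :
G(φ̂) → Ĉ; let X = Proj(𝒮), X' = Proj(𝒮'), Proj(φ) : G(φ) → X on its open of definition G(φ) ⊆ X',
and p̂ : Ê → X, p̂' : Ê' → X' the canonical retractions. Then p̂'(Φ̂⁻¹(Ê)) ⊆ G(φ) and on Φ̂⁻¹(Ê) the
composites p̂ ∘ Φ̂ and Proj(φ) ∘ p̂' agree (stated on T-valued points: a : T → Ê' and b : T → G(φ̂)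
agreeing in Ĉ' with Φ̂ ∘ b = c : T → Ê). -/
theorem result {Y Y' PC PC' : Scheme.{u}} (q : Y' ⟶ Y)
    (𝒮 : RelProj.QCGrAlg Y) (𝒮' : RelProj.QCGrAlg Y') (h0 : RelCone.StrZeroBij 𝒮) (h0' : RelCone.StrZeroBij 𝒮')
    (u : RelProj.QGrHom q 𝒮 𝒮')
    (𝒮h : RelProj.QCGrAlg Y) (ι : 𝒮.toQCAlg ⟶ 𝒮h.toQCAlg) (z : 𝒮h.presheaf.obj (op ⊤))
    (hz : RelCone.IsPolyOver 𝒮 𝒮h ι z)
    (pC : PC ⟶ Y) (chartC : ∀ (U : Y.Opens) (hU : IsAffineOpen U), (((pC ⁻¹ᵁ U : PC.Opens) : Scheme.{u}) ≅ Proj (𝒮h.deg U hU)))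
    (hC : RelProj.IsRelProj 𝒮h pC chartC)
    (𝒮h' : RelProj.QCGrAlg Y') (ι' : 𝒮'.toQCAlg ⟶ 𝒮h'.toQCAlg) (z' : 𝒮h'.presheaf.obj (op ⊤))
    (hz' : RelCone.IsPolyOver 𝒮' 𝒮h' ι' z')
    (pC' : PC' ⟶ Y') (chartC' : ∀ (U : Y'.Opens) (hU : IsAffineOpen U), (((pC' ⁻¹ᵁ U : PC'.Opens) : Scheme.{u}) ≅ Proj (𝒮h'.deg U hU)))
    (hC' : RelProj.IsRelProj 𝒮h' pC' chartC')
    (uh : RelProj.QGrHom q 𝒮h 𝒮h')
    (huh : ∀ U : Y.Opens, ι.hom.app (op U) ≫ uh.app U = u.app U ≫ ι'.hom.app (op (q ⁻¹ᵁ U)))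
    (huhz : (uh.app ⊤).hom z = RelCone.restrictTop 𝒮h' z' (q ⁻¹ᵁ ⊤))
    (Φh : ((RelProj.domQ uh pC' chartC' : PC'.Opens) : Scheme.{u}) ⟶ PC)
    (hΦh : RelProj.IsProjQMapOn uh pC chartC pC' chartC' (RelProj.domQ uh pC' chartC') Φh)
    {P P' : Scheme.{u}} (p : P ⟶ Y) (chart : ∀ (U : Y.Opens) (hU : IsAffineOpen U), (((p ⁻¹ᵁ U : P.Opens) : Scheme.{u}) ≅ Proj (𝒮.deg U hU)))
    (hP : RelProj.IsRelProj 𝒮 p chart)
    (p' : P' ⟶ Y') (chart' : ∀ (U : Y'.Opens) (hU : IsAffineOpen U), (((p' ⁻¹ᵁ U : P'.Opens) : Scheme.{u}) ≅ Proj (𝒮'.deg U hU)))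
    (hP' : RelProj.IsRelProj 𝒮' p' chart')
    (Φ : ((RelProj.domQ u p' chart' : P'.Opens) : Scheme.{u}) ⟶ P)
    (hΦ : RelProj.IsProjQMapOn u p chart p' chart' (RelProj.domQ u p' chart') Φ)
    (r : ((RelCone.pointedProjCone 𝒮 hz pC chartC : PC.Opens) : Scheme.{u}) ⟶ P)
    (hr : RelProj.IsProjQMapOn (RelProj.QGrHom.ofHom ι hz.graded) p chart pC chartC (RelCone.pointedProjCone 𝒮 hz pC chartC) r)
    (r' : ((RelCone.pointedProjCone 𝒮' hz' pC' chartC' : PC'.Opens) : Scheme.{u}) ⟶ P')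
    (hr' : RelProj.IsProjQMapOn (RelProj.QGrHom.ofHom ι' hz'.graded) p' chart' pC' chartC' (RelCone.pointedProjCone 𝒮' hz' pC' chartC') r')
    (T : Scheme.{u}) (a : T ⟶ ((RelCone.pointedProjCone 𝒮' hz' pC' chartC' : PC'.Opens) : Scheme.{u}))
    (b : T ⟶ ((RelProj.domQ uh pC' chartC' : PC'.Opens) : Scheme.{u}))
    (c : T ⟶ ((RelCone.pointedProjCone 𝒮 hz pC chartC : PC.Opens) : Scheme.{u}))
    (hab : a ≫ (RelCone.pointedProjCone 𝒮' hz' pC' chartC').ι = b ≫ (RelProj.domQ uh pC' chartC').ι) (hbc : b ≫ Φh = c ≫ (RelCone.pointedProjCone 𝒮 hz pC chartC).ι) :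
    Set.range (a ≫ r').base ⊆ ((RelProj.domQ u p' chart' : P'.Opens) : Set P') ∧
      ∀ d : T ⟶ ((RelProj.domQ u p' chart' : P'.Opens) : Scheme.{u}),
        a ≫ r' = d ≫ (RelProj.domQ u p' chart').ι → c ≫ r = d ≫ Φ := by
  exact GrothLib.RelCone8.retraction_comm u uh hz hz' huh hC hC'
    ((GrothLib.RelCone8.isQ_iff uh Φh).2 hΦh) hP' ((GrothLib.RelCone8.isQ_iff u Φ).2 hΦ)
    (GrothLib.RelCone8.isRetr_of_qMapOn hz hC hr) (GrothLib.RelCone8.isRetr_of_qMapOn hz' hC' hr') a b c hab hbc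

end Groth.Agent.S12156
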