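import Groth.Statements.S1216
import Groth.Agent.Lib.RG6.ContentMain
-- import your own Groth.Agent.* helpers here

set_option autoImplicit false
universe u
open FlatMor

namespace Groth.Agent.S1216

/-- Let A → B be a local homomorphism of local rings which is essentially of finite type, with A a
valuation ring, and N a finite B-module flat over A. Then every element x of N has a content ideal,
that is a smallest ideal I of A with x ∈ IN, and this ideal is principal. -/
theorem result {A B : Type u} [CommRing A] [IsDomain A] [ValuationRing A] [CommRing B] [IsLocalRing B] [Algebra A B]
    [IsLocalHom (algebraMap A B)] [Algebra.EssFiniteType A B]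
    (N : Type u) [AddCommGroup N] [Module B N] [Module A N] [IsScalarTower A B N] [Module.Finite B N] [Module.Flat A N] (x : N) :
    ∃ I : Ideal A, I.IsPrincipal ∧ x ∈ I • (⊤ : Submodule A N) ∧ ∀ J : Ideal A, x ∈ J • (⊤ : Submodule A N) → I ≤ J := by
    exact (GrothLib.RG6.hasContent_essFiniteType (B := B) N x).exists_principal

end Groth.Agent.S1216
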