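import Groth.Statements.S12162
import Groth.Agent.Lib.RLpsi8.FTDescent
import Groth.Agent.Lib.RLpsi8.SubAlg
import Groth.Agent.Lib.RLpsi8.ImmersionComp

set_option autoImplicit false
set_option backward.isDefEq.respectTransparency false
set_option maxHeartbeats 800000
universe u
open CategoryTheory CategoryTheory.Limits AlgebraicGeometry TopologicalSpace Opposite
open scoped HomogeneousIdeal
noncomputable section
open EGA2

namespace Groth.Agent.S12162

/-- Let Y be a quasi-compact separated scheme or a scheme with Noetherian underlying space, q : X → Y a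
morphism of finite type, L an invertible O_X-module with 𝒮L = ⊕ L^{⊗n} (whose Proj is X), 𝒮 a
quasi-coherent positively graded O_Y-algebra, ψ♭ = u : 𝒮 → q_*𝒮L a graded q-morphism and r = r_{L,ψ}
: G(ψ) → Proj(𝒮). Then r is everywhere defined and an immersion if and only if there are n > 0 and a
quasi-coherent sub-O_Y-module E ⊆ 𝒮_n of finite type such that (a) q^*(E) → L^{⊗n} (induced by ψ_n)
is surjective and (b) for the graded sub-algebra 𝒮' of 𝒮 generated by E and ψ' = ψ ∘ q^*(𝒮' ⊆ 𝒮),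
r_{L,ψ'} is everywhere defined and an immersion. (Here E is written as the degree-n part of 𝒮',
which it equals; 𝒮' is given abstractly with an injective graded homomorphism into 𝒮 and degree-zero
part the image of O_Y; surjectivity in (a) is stated stalkwise: every point of X has an affine
neighbourhood V over which some section of E generates L^{⊗n}.) -/
theorem result {Y X P PL : Scheme.{u}} (q : X ⟶ Y)
    (L : X.Modules) (hL : PicF.IsInvertible L) (hLq : Coh.IsQCoh L)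
    (𝒮 : RelProj.QCGrAlg Y) (𝒮L : RelProj.QCGrAlg X) (j : L ⟶ 𝒮L.toModule) (hj : RelProj.IsGrSymAlg L 𝒮L j)
    (u : RelProj.QGrHom q 𝒮 𝒮L)
    (p : P ⟶ Y) (chart : ∀ (U : Y.Opens) (hU : IsAffineOpen U), (((p ⁻¹ᵁ U : P.Opens) : Scheme.{u}) ≅ Proj (𝒮.deg U hU)))
    (hP : RelProj.IsRelProj 𝒮 p chart)
    (pL : PL ⟶ X) (chartL : ∀ (U : X.Opens) (hU : IsAffineOpen U), (((pL ⁻¹ᵁ U : PL.Opens) : Scheme.{u}) ≅ Proj (𝒮L.deg U hU)))
    (hPL : RelProj.IsRelProj 𝒮L pL chartL)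
    (r : ((RelProj.domQ u pL chartL : PL.Opens) : Scheme.{u}) ⟶ P)
    (hr : RelProj.IsProjQMapOn u p chart pL chartL (RelProj.domQ u pL chartL) r)
    (hYs : (CompactSpace Y ∧ Y.IsSeparated) ∨ NoetherianSpace Y) [QuasiCompact q] [LocallyOfFiniteType q] :
    (RelProj.domQ u pL chartL = ⊤ ∧ IsImmersion r) ↔
      ∃ (n : ℕ) (_ : 0 < n) (𝒮' : RelProj.QCGrAlg Y) (j' : 𝒮'.toQCAlg ⟶ 𝒮.toQCAlg) (_ : RelProj.IsGradedHom j')
        (_ : ∀ (U : Y.Opens), IsAffineOpen U → Function.Injective (j'.hom.app (op U)).hom)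
        (_ : ∀ (U : Y.Opens) (hU : IsAffineOpen U),
          ((𝒮'.deg U hU 0 : AddSubgroup (𝒮'.presheaf.obj (op U))) : Set (𝒮'.presheaf.obj (op U))) =
            Set.range (𝒮'.str.app (op U)).hom)
        (_ : ∀ (U : Y.Opens) (hU : IsAffineOpen U),
          Subring.closure (((𝒮'.deg U hU 0 : AddSubgroup (𝒮'.presheaf.obj (op U))) : Set (𝒮'.presheaf.obj (op U))) ∪
            ((𝒮'.deg U hU n : AddSubgroup (𝒮'.presheaf.obj (op U))) : Set (𝒮'.presheaf.obj (op U)))) = ⊤)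
        (_ : 𝒮'.IsFTDeg n)
        (u' : RelProj.QGrHom q 𝒮' 𝒮L) (_ : ∀ U : Y.Opens, u'.app U = j'.hom.app (op U) ≫ u.app U),
        (∀ x : X, ∃ (U : Y.Opens) (hU : IsAffineOpen U) (e : 𝒮'.presheaf.obj (op U)) (_ : e ∈ 𝒮'.deg U hU n)
            (V : X.Opens) (hV : IsAffineOpen V) (hVU : V ≤ q ⁻¹ᵁ U), x ∈ V ∧
              ((𝒮L.deg V hV n : AddSubgroup (𝒮L.presheaf.obj (op V))) : Set (𝒮L.presheaf.obj (op V))) ⊆
                (Ideal.span {(u'.appLE U V hVU).hom e} : Set (𝒮L.presheaf.obj (op V)))) ∧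
        (∀ (P' : Scheme.{u}) (p' : P' ⟶ Y)
            (chart' : ∀ (U : Y.Opens) (hU : IsAffineOpen U), (((p' ⁻¹ᵁ U : P'.Opens) : Scheme.{u}) ≅ Proj (𝒮'.deg U hU)))
            (_ : RelProj.IsRelProj 𝒮' p' chart')
            (r' : ((RelProj.domQ u' pL chartL : PL.Opens) : Scheme.{u}) ⟶ P')
            (_ : RelProj.IsProjQMapOn u' p' chart' pL chartL (RelProj.domQ u' pL chartL) r'),
          RelProj.domQ u' pL chartL = ⊤ ∧ IsImmersion r') := by
  classical
  obtain ⟨hc, hqs⟩ : CompactSpace Y ∧ QuasiSeparatedSpace Y := by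
    rcases hYs with ⟨h1, h2⟩ | h'
    · haveI := h2
      exact ⟨h1, inferInstance⟩
    · haveI := h'
      exact ⟨inferInstance, inferInstance⟩
  constructor
  · rintro ⟨htop, himm⟩
    obtain ⟨g, hg, hQ⟩ := GrothLib.RLpsi8.exists_g hL hLq hj u hPL htop hr
    haveI : IsImmersion g := (hQ @IsImmersion).mp himm
    haveI : CompactSpace X := QuasiCompact.compactSpace_of_compactSpace q
    have hx : ∀ x : X, ∃ c : GrothLib.RLpsi8.Piece 𝒮, x ∈ c.locus u ∧ GrothLib.RLpsi8.IsGood u c.U c.n c.s := fun x => by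
      obtain ⟨U, hU, hxU, -⟩ := exists_isAffineOpen_mem_and_subset (Opens.mem_top (q x))
      obtain ⟨c, -, h⟩ := GrothLib.RLpsi8.exists_good hL hLq hj u hP hPL htop hg x ⟨U, hU⟩ hxU
      exact ⟨c, h⟩
    choose c hc hgood using hx
    obtain ⟨F₂, hF₂⟩ := isCompact_univ.elim_finite_subcover (fun x => ((c x).locus u : Set X))
      (fun x => ((c x).locus u).isOpen) fun x _ => Set.mem_iUnion.mpr ⟨x, hc x⟩
    choose G hG using fun x => GrothLib.RLpsi8.exists_finite_generators (q := q) (U := (c x).U) (hgood x).1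
      (GrothLib.RLpsi8.XS_le u _ (c x).n (c x).s)
    choose m hm a ha heq using fun x => (hgood x).2
    let K : ℕ := (F₂.sup fun x => (G x).sup (m x)) + 1
    let N : ℕ := (∏ x ∈ F₂, (c x).n) * K
    have hN : 0 < N := Nat.mul_pos (Finset.prod_pos fun x _ => (c x).hn) (Nat.succ_pos _)
    have hM : ∀ x : F₂, ∃ M : ℕ, 0 < M ∧ M * (c x.1).n = N ∧ ∀ b ∈ G x.1, m x.1 b ≤ M := fun x => by
      obtain ⟨d, hd⟩ := Finset.dvd_prod_of_mem (fun y => (c y).n) x.2
      have hd0 : 0 < d := Nat.pos_of_ne_zero fun h => (Finset.prod_pos fun y (_ : y ∈ F₂) => (c y).hn).ne' (by rw [hd, h, mul_zero])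
      refine ⟨d * K, Nat.mul_pos hd0 (Nat.succ_pos _), ?_, fun b hb => ?_⟩
      · show _ = (∏ y ∈ F₂, (c y).n) * K
        rw [hd]; ring
      · have h1 : (G x.1).sup (m x.1) ≤ F₂.sup fun y => (G y).sup (m y) :=
          Finset.le_sup (f := fun y => (G y).sup (m y)) x.2
        exact ((Finset.le_sup (f := m x.1) hb).trans h1).trans ((Nat.le_succ _).trans (Nat.le_mul_of_pos_left _ hd0))
    choose M hM0 hMN hMm using hM
    have hsN : ∀ x : F₂, (c x.1).s ^ M x ∈ 𝒮.deg (c x.1).U.1 (c x.1).U.2 N := fun x => by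
      rw [← hMN x]
      simpa [smul_eq_mul] using SetLike.pow_mem_graded (M x) (c x.1).hs
    haveI := GrothLib.ProjQ8.isQuasicoherent_toModule 𝒮
    let S : ∀ x : F₂, Set Γ(𝒮.toModule, (c x.1).U.1) := fun x =>
      insert ((c x.1).s ^ M x) ((fun b => (c x.1).s ^ (M x - m x.1 b) * a x.1 b) '' (G x.1 : Set _))
    obtain ⟨Q, hQl, hmem⟩ := GrothLib.RLpsi8.exists_locGen_forall_mem (F := 𝒮.toModule) Finset.univ
      (fun x : F₂ => (c x.1).U.1) (fun x => (c x.1).U.2) S fun x => Set.Finite.insert _ ((G x.1).finite_toSet.image _)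
    obtain ⟨𝒮', j', hj', hinj, h0, hgen, hft, hsec⟩ :=
      GrothLib.RLpsi8.exists_finiteType_subalgebra 𝒮 hN hQl
    obtain ⟨u', hu'⟩ : ∃ u' : RelProj.QGrHom q 𝒮' 𝒮L, ∀ U : Y.Opens, u'.app U = j'.hom.app (op U) ≫ u.app U :=
      ⟨GrothLib.RLpsi8.qComp u j' hj', fun _ => rfl⟩
    have hc' : ∀ x : F₂, ∃ c' : GrothLib.RLpsi8.Piece 𝒮', c'.n = N ∧ c'.locus u' = (c x.1).locus u ∧
        GrothLib.RLpsi8.IsGood u' c'.U c'.n c'.s := fun x => by
      refine GrothLib.RLpsi8.good_lift_pow hL hLq hj u j' hj' u' hu' (c x.1) (hgood x.1).1 (hM0 x) (hMN x)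
        (G x.1 : Set _) (m x.1) (a x.1) (hMm x) (fun b _ => ha x.1 b) (fun b _ => heq x.1 b) ?hgen
        (hsec _ (c x.1).U.2 _ (hmem x (Finset.mem_univ x) (Set.mem_insert _ _)) (hsN x)) fun b hb => ?_
      case hgen => exact hG x.1
      refine hsec _ (c x.1).U.2 _ (hmem x (Finset.mem_univ x) (Set.mem_insert_of_mem _ ⟨b, hb, rfl⟩)) ?_
      obtain ⟨d, hd⟩ := Nat.exists_eq_add_of_le (hMm x b hb)
      rw [← hMN x, show M x - m x.1 b = d by omega, hd, add_mul, add_comm]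
      exact SetLike.mul_mem_graded (by simpa [smul_eq_mul] using SetLike.pow_mem_graded d (c x.1).hs) (ha x.1 b)
    choose c' hn' hloc' hgood' using hc'
    have hcov : ∀ z : X, ∃ x : F₂, z ∈ (c' x).locus u' := fun z => by
      obtain ⟨x, hxF, hz⟩ := Set.mem_iUnion₂.mp (hF₂ (Set.mem_univ z))
      exact ⟨⟨x, hxF⟩, (hloc' ⟨x, hxF⟩).ge hz⟩
    refine ⟨N, hN, 𝒮', j', hj', hinj, h0, hgen, hft, u', hu', fun z => ?_, ?_⟩
    · obtain ⟨x, hz⟩ := hcov z
      obtain ⟨⟨⟨V, hV⟩, hVU, hsub⟩, hzV⟩ := Opens.mem_iSup.mp hz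
      rw [hn' x] at hsub
      exact ⟨(c' x).U.1, (c' x).U.2, (c' x).s, hn' x ▸ (c' x).hs, V, hV, hVU, hzV, hsub⟩
    · intro P' p' chart' hP' r' hr'
      have hcov' : ⨆ x, (c' x).locus u' = ⊤ := top_le_iff.mp fun z _ => Opens.mem_iSup.mpr (hcov z)
      have ht := GrothLib.RLpsi8.domQ_eq_top_of_cover hL hLq hj u' hPL c' hcov'
      obtain ⟨g', hg', hQ'⟩ := GrothLib.RLpsi8.exists_g hL hLq hj u' hPL ht hr'
      exact ⟨ht, (hQ' @IsImmersion).mpr
        (GrothLib.RLpsi8.isImmersion_of_good hL hLq hj u' hP' hPL ht hg' c' hcov' hgood')⟩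
  · rintro ⟨n, hn, 𝒮', j', hj', -, -, -, -, u', hu', -, h⟩
    have hP' := GrothLib.RelProjK.isRelProj_proj 𝒮'
    obtain ⟨r', hr', -⟩ := GrothLib.RelCone8.existsUnique_isQ (p' := pL) (chart' := chartL) u' hPL hP'
    have hr'' := (GrothLib.RelCone8.isQ_iff u' r').mp hr'
    obtain ⟨htop', himm'⟩ := h _ _ _ hP' r' hr''
    obtain ⟨g', hg', hQ'⟩ := GrothLib.RLpsi8.exists_g hL hLq hj u' hPL htop' hr''
    haveI : IsImmersion g' := (hQ' @IsImmersion).mp himm'
    refine GrothLib.RLpsi8.isImmersion_of_comp hL hLq hj u j' hj' u' hu' hP hPL hr fun x => ?_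
    obtain ⟨U, hU, hxU, -⟩ := exists_isAffineOpen_mem_and_subset (Opens.mem_top (q x))
    obtain ⟨c, -, hc⟩ := GrothLib.RLpsi8.exists_good hL hLq hj u' hP' hPL htop' hg' x ⟨U, hU⟩ hxU
    exact ⟨c, hc⟩

end Groth.Agent.S12162
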