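import Groth.Statements.S12163
import Groth.Agent.Lib.RelCone8.QMapId

set_option autoImplicit false
set_option backward.isDefEq.respectTransparency false
universe u
open CategoryTheory CategoryTheory.Limits AlgebraicGeometry TopologicalSpace Opposite
open scoped HomogeneousIdeal
noncomputable section
open EGA2

namespace Groth.Agent.S12163

/-- Let φ : 𝒜 → ℬ be a graded homomorphism of quasi-coherent positively graded O_Y-algebras and PB =
Proj(ℬ) with its charts. If every point of Y has an affine neighbourhood U over which the irrelevant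
ideal of ℬ(U) is contained in the ideal generated by φ(𝒜(U)_+), then the open of definition G(φ) of
Proj(φ) is all of PB. (The published condition asks 𝒮_+ to be generated by the image as a module
over the functions on U; generation as an ideal, used here, is implied by it.) -/
theorem result {Y PB : Scheme.{u}} (𝒜 ℬ : RelProj.QCGrAlg Y)
    (φ : 𝒜.toQCAlg ⟶ ℬ.toQCAlg) (hφ : RelProj.IsGradedHom φ)
    (pB : PB ⟶ Y) (chartB : ∀ (U : Y.Opens) (hU : IsAffineOpen U), (((pB ⁻¹ᵁ U : PB.Opens) : Scheme.{u}) ≅ Proj (ℬ.deg U hU)))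
    (hB : RelProj.IsRelProj ℬ pB chartB)
    (hcov : ∀ y : Y, ∃ (U : Y.Opens) (hU : IsAffineOpen U), y ∈ U ∧
      (ℬ.deg U hU)₊ ≤ ((𝒜.deg U hU)₊).map (RelProj.gradedHomAt φ hφ U hU)) :
    RelProj.domQ (RelProj.QGrHom.ofHom φ hφ) pB chartB = ⊤ := by
  refine GrothLib.RelCone8.Gu_eq_top_of_cover φ hφ hB fun y => ?_
  obtain ⟨U, hU, hy, hle⟩ := hcov y
  refine ⟨⟨U, hU⟩, hy, (GrothLib.RelCone8.domOpen_eq_top_iff _).2 fun p hp hA => ?_⟩
  exact (GrothLib.RelCone8.irrelevant_le_comap_iff (RelProj.gradedHomAt φ hφ U hU) hle p).1 hA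

end Groth.Agent.S12163
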