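import Groth.Statements.S12164
import Groth.Agent.Lib.RelCone8.SymBaseChange

set_option autoImplicit false
set_option backward.isDefEq.respectTransparency false
universe u
open CategoryTheory CategoryTheory.Limits AlgebraicGeometry TopologicalSpace Opposite
open scoped HomogeneousIdeal
noncomputable section
open EGA2

namespace Groth.Agent.S12164

/-- Let g : S' → S be a morphism, E a quasi-coherent O_S-module, A = Sym(E) and B = Sym(g^*E) the
symmetric algebras (given by their universal properties among quasi-coherent algebras, with
structure maps j : E → A and j' : g^*E → B), u : A → g_*B the g-morphism of algebras extending the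
adjunction unit E → g_*g^*E followed by g_*(j'), and h = Spec(u) : V(g^*E) = Spec(B) → V(E) =
Spec(A). Then h identifies V(g^*E) with the base change V(E) ×_S S'. -/
theorem result {S S' : Scheme.{u}} (g : S' ⟶ S)
    (E : S.Modules) (hE : Coh.IsQCoh E) (A : RelSpec.QCAlg S) (j : E ⟶ A.toModule) (hA : RelSpec.IsSymAlg E A j)
    (B : RelSpec.QCAlg S') (j' : (Scheme.Modules.pullback g).obj E ⟶ B.toModule)
    (hB : RelSpec.IsSymAlg ((Scheme.Modules.pullback g).obj E) B j')
    (u : RelSpec.QHom g A B)
    (hu : ∀ (U : S.Opens) (x : Γ(E, U)),
      (u.app U).hom ((j.app U) x) =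
        (j'.app (g ⁻¹ᵁ U)) (((Scheme.Modules.pullbackPushforwardAdjunction g).unit.app E).app U x))
    (h : B.spec ⟶ A.spec) (hh : RelSpec.IsSpecQMap u h) :
    IsPullback h B.π A.π g := by
  exact GrothLib.RelCone8.isPullback_spec_of_isQBaseChange u
    (GrothLib.RelCone8.isQBaseChange_symAlg g E hE hA hB u hu) hh

end Groth.Agent.S12164
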