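import Groth.Statements.S12166
import Groth.Agent.Lib.RelCone8.QMapId

set_option autoImplicit false
set_option backward.isDefEq.respectTransparency false
universe u
open CategoryTheory CategoryTheory.Limits AlgebraicGeometry TopologicalSpace Opposite
open scoped HomogeneousIdeal
noncomputable section
open EGA2

namespace Groth.Agent.S12166

/-- Let φ : 𝒜 → ℬ be a graded homomorphism of quasi-coherent positively graded O_Y-algebras which is a
(TN)-isomorphism (φ : 𝒜_k → ℬ_k bijective for all large k, on sections over affine opens), PA =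
Proj(𝒜), PB = Proj(ℬ) with their charts. Then Proj(φ) is defined on all of PB and is an isomorphism
PB → PA. -/
theorem result {Y PA PB : Scheme.{u}} (𝒜 ℬ : RelProj.QCGrAlg Y)
    (φ : 𝒜.toQCAlg ⟶ ℬ.toQCAlg) (hφ : RelProj.IsGradedHom φ)
    (hTN : ∃ n : ℕ, ∀ k, n ≤ k → ∀ (U : Y.Opens) (hU : IsAffineOpen U),
      (∀ x ∈ 𝒜.deg U hU k, (φ.hom.app (op U)).hom x = 0 → x = 0) ∧
        ∀ y ∈ ℬ.deg U hU k, ∃ x ∈ 𝒜.deg U hU k, (φ.hom.app (op U)).hom x = y)
    (pA : PA ⟶ Y) (chartA : ∀ (U : Y.Opens) (hU : IsAffineOpen U), (((pA ⁻¹ᵁ U : PA.Opens) : Scheme.{u}) ≅ Proj (𝒜.deg U hU)))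
    (hA : RelProj.IsRelProj 𝒜 pA chartA)
    (pB : PB ⟶ Y) (chartB : ∀ (U : Y.Opens) (hU : IsAffineOpen U), (((pB ⁻¹ᵁ U : PB.Opens) : Scheme.{u}) ≅ Proj (ℬ.deg U hU)))
    (hB : RelProj.IsRelProj ℬ pB chartB) :
    RelProj.domQ (RelProj.QGrHom.ofHom φ hφ) pB chartB = ⊤ ∧
      ∀ h : PB ⟶ PA, RelProj.IsProjQMap (RelProj.QGrHom.ofHom φ hφ) pA chartA pB chartB h → IsIso h := by
  obtain ⟨n, hn⟩ := hTN
  refine ⟨GrothLib.RelCone8.eventually_top φ hφ hB fun U k hk => (hn k hk U.1 U.2).2, fun h hh => ?_⟩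
  refine GrothLib.RelCone8.property_projQMap φ hφ hA hB (MorphismProperty.isomorphisms Scheme) hh fun U d f hd hf => ?_
  haveI : IsIso (CommRingCat.ofHom (HomogeneousLocalization.Away.map
      (GrothLib.RelCone8.gu (RelProj.QGrHom.ofHom φ hφ) (GrothLib.RelCone8.pairSelf U)) f)) := by
    refine (ConcreteCategory.isIso_iff_bijective _).2 ⟨
      GrothLib.RelCone8.away_map_injective_of_eventually _ (n := n) (fun k hk x hx h0 => ?_) f hd hf,
      GrothLib.RelCone8.away_map_surjective_of_eventually _ (n := n) (fun k hk y hy => ?_) f hd hf⟩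
    · exact (hn k hk U.1 U.2).1 x hx ((GrothLib.RelCone8.gu_ofHom_self φ hφ U x).symm.trans h0)
    · obtain ⟨x, hx, hxy⟩ := (hn k hk U.1 U.2).2 y hy
      exact ⟨x, hx, (GrothLib.RelCone8.gu_ofHom_self φ hφ U x).trans hxy⟩
  exact inferInstanceAs (IsIso (Spec.map _))

end Groth.Agent.S12166
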