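import Groth.Statements.S12187
import Groth.Agent.Lib.Glue.RingTransfer
-- import your own Groth.Agent.* helpers here

set_option autoImplicit false
universe u
open TensorProduct
attribute [local instance] Algebra.TensorProduct.rightAlgebra
open EtAlg

namespace Groth.Agent.S12187

/-- Glueing along a glueing pair detects finite morphisms of affine schemes, stated for coordinate
rings. Let (R → R', f) be a glueing pair and φ : A → B a homomorphism of R-algebras with A and B
glueable as R-modules. Then φ is finite exactly when both induced maps A_f → B_f and R' ⊗_R A → R'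
⊗_R B are finite. -/
theorem result (R : Type u) [CommRing R] (R' : Type u) [CommRing R'] [Algebra R R'] (f : R)
    (hRR' : EtGlue.IsGlueingPair R R' f) (A B : Type u) [CommRing A] [Algebra R A] [CommRing B] [Algebra R B]
    (hA : EtGlue.IsGlueable R R' f A) (hB : EtGlue.IsGlueable R R' f B) (φ : A →ₐ[R] B) :
    φ.toRingHom.Finite ↔ (Localization.awayMap φ.toRingHom (algebraMap R A f)).Finite ∧
      (Algebra.TensorProduct.map (AlgHom.id R R') φ).toRingHom.Finite := by
  letI : Algebra A B := φ.toRingHom.toAlgebra
  haveI : IsScalarTower R A B := IsScalarTower.of_algebraMap_eq fun r => (φ.commutes r).symm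
  show (algebraMap A B).Finite ↔ (Localization.awayMap (algebraMap A B) (algebraMap R A f)).Finite ∧ (Algebra.TensorProduct.map (AlgHom.id R R') (IsScalarTower.toAlgHom R A B)).toRingHom.Finite
  rw [Glue.awayMap_iff RingHom.finite_respectsIso, Glue.map_iff (A := A) (B := B) RingHom.finite_respectsIso, RingHom.finite_algebraMap, RingHom.finite_algebraMap, RingHom.finite_algebraMap]
  exact ⟨fun _ => ⟨inferInstance, inferInstance⟩, fun ⟨_, _⟩ => Glue.finite_of_tensor (Glue.quotPowBijective_tensor hRR'.1 A) (Localization.Away (algebraMap R A f)) B⟩

end Groth.Agent.S12187
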