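import Groth.Statements.S12192
import Groth.Agent.Lib.AlgSp.UHEtale
import Groth.Agent.Lib.AlgSp.ClosedSub
import Groth.Agent.Lib.AlgSp.ProperSub
-- import your own Groth.Agent.* helpers here

set_option autoImplicit false
universe u
open CategoryTheory CategoryTheory.Limits AlgebraicGeometry
open AlgSp GrothLib.AlgSp
set_option backward.isDefEq.respectTransparency false

namespace Groth.Agent.S12192

/-- Base change of a morphism which is an isomorphism over an open: points over the open are unique. -/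
theorem eq_of_over_open {S : Scheme.{u}} {Y Y' U U' P P' : Sp S} {f : Y' ⟶ Y} {g : P ⟶ Y} {fst : P' ⟶ Y'} {snd : P' ⟶ P}
    (sq : IsPullback fst snd f g) {jU : U ⟶ Y} {jU' : U' ⟶ Y'} {fU : U' ⟶ U} (sqU : IsPullback jU' fU f jU)
    (hfU : IsIso fU) (z z' : Points P') (he : Points.map snd z = Points.map snd z')
    (hg : Points.map g (Points.map snd z) ∈ Set.range (Points.map jU)) : z = z' := by
  obtain ⟨c, hc⟩ := hg
  obtain ⟨PU, π₁, π₂, sqp⟩ : ∃ (PU : Sp S) (π₁ : PU ⟶ P) (π₂ : PU ⟶ U), IsPullback π₁ π₂ g jU :=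
    ⟨_, _, _, IsPullback.of_hasPullback g jU⟩
  obtain ⟨Q, q₁, q₂, sqq⟩ : ∃ (Q : Sp S) (q₁ : Q ⟶ P') (q₂ : Q ⟶ PU), IsPullback q₁ q₂ snd π₁ :=
    ⟨_, _, _, IsPullback.of_hasPullback snd π₁⟩
  have big : IsPullback (q₁ ≫ fst) q₂ f (π₂ ≫ jU) := by
    rw [← sqp.w]
    exact sqq.paste_horiz sq
  have sql : IsPullback (sqU.lift (q₁ ≫ fst) (q₂ ≫ π₂) (by rw [big.w, Category.assoc])) q₂ fU π₂ :=
    IsPullback.of_right (by rw [sqU.lift_fst]; exact big) (sqU.lift_snd _ _ _) sqU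
  haveI : IsIso q₂ := sql.isIso_snd_of_isIso hfU
  obtain ⟨p, hp, -⟩ := exists_of_isPullback sqp hc.symm
  obtain ⟨y, hy, hy'⟩ := exists_of_isPullback sqq hp.symm
  obtain ⟨y₂, hy₂, hy₂'⟩ := exists_of_isPullback sqq (x := z') (y := p) (by rw [← he]; exact hp.symm)
  rw [← hy, ← hy₂, (map_bijective_of_iso (asIso q₂)).1 (hy'.trans hy₂'.symm)]

/-- Sections of an etale morphism glue along a universally closed morphism and a closed immersion. -/
theorem existsUnique_section_glue {S : Scheme.{u}} {P V V' W E : Sp S} (hP : IsAlgSpace P) (hV : IsAlgSpace V)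
    (hV' : IsAlgSpace V') (hW : IsAlgSpace W) {p : P ⟶ V} (hp : IsEtaleMor p) {k₁ : V' ⟶ V} (hk₁ : IsUnivClosedMor k₁)
    {k₂ : W ⟶ V} (hk₂ : RepWith @IsClosedImmersion k₂) {r : E ⟶ V'} {s : E ⟶ W} (sqE : IsPullback r s k₁ k₂)
    (hoff : ∀ (Q Q' : Sp S) (g : Q ⟶ V) (fst : Q' ⟶ V') (snd : Q' ⟶ Q), IsPullback fst snd k₁ g →
      ∀ z z', Points.map snd z = Points.map snd z' →
        Points.map g (Points.map snd z) ∉ Set.range (Points.map k₂) → z = z')
    (hne : ∀ v, v ∉ Set.range (Points.map k₂) → v ∈ Set.range (Points.map k₁))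
    (t₁ : V' ⟶ P) (ht₁ : t₁ ≫ p = k₁) (t₂ : W ⟶ P) (ht₂ : t₂ ≫ p = k₂) (hcomp : r ≫ t₁ = s ≫ t₂) :
    ∃! σ : V ⟶ P, σ ≫ p = 𝟙 V ∧ k₁ ≫ σ = t₁ ∧ k₂ ≫ σ = t₂ := by
  haveI := mono_of_closedImmersion hk₂
  have hinj₂ := injective_map_of_mono k₂
  have hpl := locP_of_isEtaleMor hV hp
  have het : ∀ (A B C : Scheme.{u}) (f : A ⟶ B) (g : B ⟶ C), Etale (f ≫ g) → Etale g → Etale f :=
    fun A B C f g h1 h2 => by haveI := h1; haveI := h2; exact Etale.of_comp f g
  -- the two base changes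
  obtain ⟨P', g₁, f₁, sq₁⟩ : ∃ (P' : Sp S) (g₁ : P' ⟶ P) (f₁ : P' ⟶ V'), IsPullback g₁ f₁ p k₁ :=
    ⟨_, _, _, IsPullback.of_hasPullback p k₁⟩
  obtain ⟨PW, g₂, f₂, sq₂⟩ : ∃ (PW : Sp S) (g₂ : PW ⟶ P) (f₂ : PW ⟶ W), IsPullback g₂ f₂ p k₂ :=
    ⟨_, _, _, IsPullback.of_hasPullback p k₂⟩
  haveI : Mono g₂ := sq₂.mono_fst_of_mono
  have hP' : IsAlgSpace P' := isAlgSpace_pullback hV.diag hP hV' sq₁
  have hPW : IsAlgSpace PW := isAlgSpace_pullback hV.diag hP hW sq₂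
  let σ₁ := sq₁.lift t₁ (𝟙 V') (by rw [ht₁, Category.id_comp])
  let σ₂ := sq₂.lift t₂ (𝟙 W) (by rw [ht₂, Category.id_comp])
  have he₁ : LocP @Etale σ₁ := EtLocal.locP_cancel EtLocal.etale het hV' hP' hV'
    (by rw [sq₁.lift_snd]; exact EtLocal.locP_of_repWith .etale hV' (repWith_iso (𝟙 V')))
    (EtLocal.etale.locP_of_isPullback hP hV hV' sq₁ hpl)
  have he₂ : LocP @Etale σ₂ := EtLocal.locP_cancel EtLocal.etale het hW hPW hW
    (by rw [sq₂.lift_snd]; exact EtLocal.locP_of_repWith .etale hW (repWith_iso (𝟙 W)))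
    (EtLocal.etale.locP_of_isPullback hP hV hW sq₂ hpl)
  have ho₁ : IsOpen (Set.range (Points.map σ₁)) :=
    (isOpenMap_map_of_locP (fun _ _ h (hh : Etale h) => h.isOpenMap) hV' hP' he₁).isOpen_range
  have ho₂ : IsOpen (Set.range (Points.map σ₂)) :=
    (isOpenMap_map_of_locP (fun _ _ h (hh : Etale h) => h.isOpenMap) hW hPW he₂).isOpen_range
  have hg1 : ∀ v, Points.map g₁ (Points.map σ₁ v) = Points.map t₁ v := fun v => by
    rw [← Points.map_comp, sq₁.lift_fst]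
  have hg2 : ∀ w, Points.map g₂ (Points.map σ₂ w) = Points.map t₂ w := fun w => by
    rw [← Points.map_comp, sq₂.lift_fst]
  have hpt1 : ∀ v, Points.map p (Points.map t₁ v) = Points.map k₁ v := fun v => by rw [← Points.map_comp, ht₁]
  have hpt2 : ∀ w, Points.map p (Points.map t₂ w) = Points.map k₂ w := fun w => by rw [← Points.map_comp, ht₂]
  let O : Set (Points P) := Set.range (Points.map t₁) ∪ Set.range (Points.map t₂)
  -- points over the closed part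
  have hsame : ∀ v w, Points.map k₁ v = Points.map k₂ w → Points.map t₁ v = Points.map t₂ w := by
    intro v w e
    obtain ⟨x, rfl, rfl⟩ := exists_of_isPullback sqE e
    rw [← Points.map_comp, hcomp, Points.map_comp]
  have hmem : ∀ w, ∀ x ∈ O, Points.map p x = Points.map k₂ w → x = Points.map t₂ w := by
    rintro w x (⟨v, rfl⟩ | ⟨w', rfl⟩) e
    · exact hsame v w (by rw [← hpt1]; exact e)
    · rw [hinj₂ (a₁ := w') (a₂ := w) (by rw [← hpt2]; exact e)]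
  have hpre₂ : ∀ z, Points.map g₂ z ∈ O → z ∈ Set.range (Points.map σ₂) := by
    intro z hz
    refine ⟨Points.map f₂ z, injective_map_of_mono g₂ ?_⟩
    rw [hg2]
    exact (hmem _ _ hz (by rw [← Points.map_comp, sq₂.w, Points.map_comp])).symm
  have hpre₁ : ∀ z, Points.map g₁ z ∈ O → z ∈ Set.range (Points.map σ₁) := by
    intro z hz
    by_cases hv : Points.map k₁ (Points.map f₁ z) ∈ Set.range (Points.map k₂)
    · obtain ⟨w, hw⟩ := hv
      obtain ⟨x, hx, hxw⟩ := exists_of_isPullback sqE hw.symm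
      -- lift to the base change over `E`
      obtain ⟨Q, q₁, q₂, sqQ⟩ : ∃ (Q : Sp S) (q₁ : Q ⟶ P') (q₂ : Q ⟶ E), IsPullback q₁ q₂ f₁ r :=
        ⟨_, _, _, IsPullback.of_hasPullback f₁ r⟩
      obtain ⟨z', hz'₁, hz'₂⟩ := exists_of_isPullback sqQ hx.symm
      let l := sq₂.lift (q₁ ≫ g₁) (q₂ ≫ s) (by
        rw [Category.assoc, sq₁.w, ← Category.assoc, sqQ.w, Category.assoc, Category.assoc, sqE.w])
      have sql : IsPullback l q₂ f₂ s := by
        refine IsPullback.of_right ?_ (sq₂.lift_snd _ _ _) sq₂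
        rw [sq₂.lift_fst, ← sqE.w]
        exact sqQ.paste_horiz sq₁
      obtain ⟨w', hw'⟩ := hpre₂ (Points.map l z') (by
        rw [← Points.map_comp, sq₂.lift_fst, Points.map_comp, hz'₁]; exact hz)
      have hτw : (r ≫ σ₁) ≫ f₁ = 𝟙 E ≫ r := by
        rw [Category.assoc, show σ₁ ≫ f₁ = 𝟙 V' from sq₁.lift_snd _ _ _, Category.comp_id, Category.id_comp]
      let τ := sqQ.lift (r ≫ σ₁) (𝟙 E) hτw
      have hτ : τ ≫ l = s ≫ σ₂ := by
        apply sq₂.hom_ext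
        · simp only [τ, l, σ₂, Category.assoc, sq₂.lift_fst]
          rw [← Category.assoc, sqQ.lift_fst, Category.assoc, sq₁.lift_fst, hcomp]
        · simp only [τ, l, σ₂, Category.assoc, sq₂.lift_snd]
          rw [← Category.assoc, sqQ.lift_snd, Category.id_comp, Category.comp_id]
      have sqτ : IsPullback s τ σ₂ l := by
        refine (IsPullback.of_right (h₁₂ := q₂) (h₂₂ := f₂) (v₁₃ := s) ?_ hτ sql.flip).flip
        rw [sqQ.lift_snd, sq₂.lift_snd]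
        exact IsPullback.of_horiz_isIso ⟨by simp⟩
      obtain ⟨x', -, hx'⟩ := exists_of_isPullback sqτ hw'
      refine ⟨Points.map r x', ?_⟩
      rw [← Points.map_comp, ← sqQ.lift_fst (r ≫ σ₁) (𝟙 E) hτw, Points.map_comp, hx', hz'₁]
    · refine ⟨Points.map f₁ z, hoff P P' p f₁ g₁ sq₁.flip _ z ?_ ?_⟩
      · rw [hg1]
        rcases hz with ⟨v, hv'⟩ | ⟨w, hw⟩
        · rw [← hv', ← hg1, ← hg1]
          have : v = Points.map f₁ z := by
            refine hoff V V' (𝟙 V) (𝟙 V') k₁ IsPullback.of_id_fst v _ ?_ ?_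
            · rw [← hpt1, hv', ← Points.map_comp, sq₁.w, Points.map_comp]
            · rw [Points.map_id, ← hpt1, hv', ← Points.map_comp, sq₁.w, Points.map_comp]; exact hv
          rw [this]
        · exact absurd ⟨w, by rw [← hpt2, hw, ← Points.map_comp, sq₁.w, Points.map_comp]⟩ hv
      · rw [hg1, hpt1]; exact hv
  have hcov : ∀ v, (∃ v', Points.map k₁ v' = v) ∨ ∃ w, Points.map k₂ w = v := fun v => by
    by_cases hv : v ∈ Set.range (Points.map k₂)
    · exact Or.inr hv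
    · exact Or.inl (hne v hv)
  have hO : IsOpen O := by
    have hc₁ : IsClosedMap (Points.map g₁) := (univSp_of_isPullback sq₁.flip hk₁) hP (𝟙 P) (𝟙 P') g₁ IsPullback.of_id_fst
    have hc₂ : IsClosedMap (Points.map g₂) := isClosedMap_map_of_repWith
      (fun A B g (hg : IsClosedImmersion g) => g.isClosedEmbedding.isClosedMap) (repWith_of_isPullback sq₂.flip hk₂)
    have e : O = (Points.map g₁ '' (Set.range (Points.map σ₁))ᶜ ∪ Points.map g₂ '' (Set.range (Points.map σ₂))ᶜ)ᶜ := by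
      ext x
      constructor
      · rintro hx (⟨z, hz, rfl⟩ | ⟨z, hz, rfl⟩)
        · exact hz (hpre₁ z hx)
        · exact hz (hpre₂ z hx)
      · intro hx
        by_contra hxO
        apply hx
        rcases hcov (Points.map p x) with ⟨v, hv⟩ | ⟨w, hw⟩
        · obtain ⟨z, rfl, -⟩ := exists_of_isPullback sq₁ hv.symm
          exact Or.inl ⟨z, fun ⟨v', hv'⟩ => hxO (Or.inl ⟨v', by rw [← hg1, hv']⟩), rfl⟩
        · obtain ⟨z, rfl, -⟩ := exists_of_isPullback sq₂ hw.symm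
          exact Or.inr ⟨z, fun ⟨v', hv'⟩ => hxO (Or.inr ⟨v', by rw [← hg2, hv']⟩), rfl⟩
    rw [e]
    exact ((hc₁ _ ho₁.isClosed_compl).union (hc₂ _ ho₂.isClosed_compl)).isOpen_compl
  let ι := openSubι P O
  haveI : Mono ι := mono_openSubι _ _
  have hι : RepWith @IsOpenImmersion ι := repWith_openSubι hO
  have hrO : Set.range (Points.map ι) = O := range_openSubι
  have hO' : IsAlgSpace (openSub P O) := isAlgSpace_openSub hP hO
  let q := ι ≫ p
  have hql : LocP @Etale q := EtLocal.locP_comp .etale hO' hP hV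
    (EtLocal.locP_of_repWith .etale hP (repWith_mono hι fun A B m (hm : IsOpenImmersion m) => inferInstance)) hpl
  obtain ⟨t₁', ht₁'⟩ := (exists_factor_iff hι t₁).2 (fun x hx => hrO.ge (Or.inl hx))
  obtain ⟨t₂', ht₂'⟩ := (exists_factor_iff hι t₂).2 (fun x hx => hrO.ge (Or.inr hx))
  have hq₁ : t₁' ≫ q = k₁ := by rw [← Category.assoc, ht₁', ht₁]
  have hq₂ : t₂' ≫ q = k₂ := by rw [← Category.assoc, ht₂', ht₂]
  -- each base change of `q` is an isomorphism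
  have hiso : ∀ {W' : Sp S} (hW' : IsAlgSpace W') (k : W' ⟶ V) (P₀ : Sp S) (g₀ : P₀ ⟶ P) (f₀ : P₀ ⟶ W')
      (sq₀ : IsPullback g₀ f₀ p k) (σ₀ : W' ⟶ P₀) (hσ : σ₀ ≫ f₀ = 𝟙 W') (t' : W' ⟶ openSub P O) (ht : t' ≫ ι = σ₀ ≫ g₀)
      (hpre : ∀ z, Points.map g₀ z ∈ O → z ∈ Set.range (Points.map σ₀))
      (OW : Sp S) (o₁ : OW ⟶ openSub P O) (o₂ : OW ⟶ W'), IsPullback o₁ o₂ q k → IsIso o₂ := by
    intro W' hW' k P₀ g₀ f₀ sq₀ σ₀ hσ t' ht hpre OW o₁ o₂ sqO
    have hOW : IsAlgSpace OW := isAlgSpace_pullback hV.diag hO' hW' sqO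
    let l := sq₀.lift (o₁ ≫ ι) o₂ (by rw [Category.assoc]; exact sqO.w)
    have sql : IsPullback o₁ l ι g₀ := by
      refine IsPullback.of_bot ?_ (sq₀.lift_fst _ _ _).symm sq₀
      rw [sq₀.lift_snd]; exact sqO
    haveI : Mono l := sql.mono_snd_of_mono
    let σ' := sqO.lift t' (𝟙 W') (by rw [← Category.assoc, ht, Category.assoc, sq₀.w, ← Category.assoc, hσ])
    have hσ' : σ' ≫ o₂ = 𝟙 W' := sqO.lift_snd _ _ _
    have hσl : σ' ≫ l = σ₀ := by
      apply sq₀.hom_ext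
      · rw [Category.assoc, sq₀.lift_fst, ← Category.assoc, sqO.lift_fst, ht]
      · rw [Category.assoc, sq₀.lift_snd, hσ', hσ]
    haveI : Mono σ' := (SplitMono.mk o₂ hσ').mono
    have ho₂e : LocP @Etale o₂ := EtLocal.etale.locP_of_isPullback hO' hV hW' sqO hql
    have hσe : LocP @Etale σ' := EtLocal.locP_cancel EtLocal.etale het hW' hOW hW'
      (by rw [hσ']; exact EtLocal.locP_of_repWith .etale hW' (repWith_iso (𝟙 W'))) ho₂e
    haveI : IsIso σ' := isIso_of_openImmersion_surjective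
      (repWith_openImmersion_of_etale_univInjective hW' hOW (isEtaleMor_of_locP hOW hσe)
        (isUnivInjectiveMor_of_mono σ')) (fun z => by
        obtain ⟨w, hw⟩ := hpre (Points.map l z) (by
          rw [← Points.map_comp, sq₀.lift_fst, Points.map_comp]; exact hrO.le ⟨_, rfl⟩)
        exact ⟨w, injective_map_of_mono l (by rw [← Points.map_comp, hσl, hw])⟩)
    have e : o₂ = inv σ' := IsIso.eq_inv_of_hom_inv_id hσ'
    rw [e]; infer_instance
  have hui : IsUnivInjectiveMor q := by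
    intro T Q hT g a b sqT z z' e
    have key : ∀ {W' : Sp S} (hW' : IsAlgSpace W') (k : W' ⟶ V), (∀ (OW : Sp S) (o₁ : OW ⟶ openSub P O) (o₂ : OW ⟶ W'), IsPullback o₁ o₂ q k → IsIso o₂) →
        (∃ w, Points.map k w = Points.map g (Points.map b z)) → z = z' := by
      rintro W' hW' k hk ⟨w, hw⟩
      obtain ⟨TW, w', tp, sqW⟩ : ∃ (TW : Sp S) (w' : TW ⟶ W') (tp : TW ⟶ T), IsPullback w' tp k g :=
        ⟨_, _, _, IsPullback.of_hasPullback k g⟩
      obtain ⟨t', -, ht'⟩ := exists_of_isPullback sqW hw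
      obtain ⟨PW', pT, pP, sqP⟩ : ∃ (PW' : Sp S) (pT : PW' ⟶ Q) (pP : PW' ⟶ TW), IsPullback pT pP b tp :=
        ⟨_, _, _, IsPullback.of_hasPullback b tp⟩
      obtain ⟨y, hy, hy'⟩ := exists_of_isPullback sqP (x := z) (y := t') ht'.symm
      obtain ⟨y', hy₂, hy₂'⟩ := exists_of_isPullback sqP (x := z') (y := t') (by rw [← e]; exact ht'.symm)
      obtain ⟨OW, o₁, o₂, sqO⟩ : ∃ (OW : Sp S) (o₁ : OW ⟶ openSub P O) (o₂ : OW ⟶ W'), IsPullback o₁ o₂ q k :=
        ⟨_, _, _, IsPullback.of_hasPullback q k⟩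
      have big : IsPullback (pT ≫ a) pP q (w' ≫ k) := by
        rw [sqW.w]; exact sqP.paste_horiz sqT
      have sql : IsPullback (sqO.lift (pT ≫ a) (pP ≫ w') (by rw [big.w, Category.assoc])) pP o₂ w' :=
        IsPullback.of_right (by rw [sqO.lift_fst]; exact big) (sqO.lift_snd _ _ _) sqO
      haveI : IsIso pP := sql.isIso_snd_of_isIso (hk _ _ _ sqO)
      rw [← hy, ← hy₂, (map_bijective_of_iso (asIso pP)).1 (hy'.trans hy₂'.symm)]
    rcases hcov (Points.map g (Points.map b z)) with hv | hw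
    · exact key hV' k₁ (fun _ _ _ => hiso hV' k₁ P' g₁ f₁ sq₁ σ₁ (sq₁.lift_snd _ _ _) t₁' (by rw [ht₁', sq₁.lift_fst]) hpre₁ _ _ _) hv
    · exact key hW k₂ (fun _ _ _ => hiso hW k₂ PW g₂ f₂ sq₂ σ₂ (sq₂.lift_snd _ _ _) t₂' (by rw [ht₂', sq₂.lift_fst]) hpre₂ _ _ _) hw
  haveI : IsIso q := isIso_of_openImmersion_surjective
    (repWith_openImmersion_of_etale_univInjective hO' hV (isEtaleMor_of_locP hV hql) hui) (fun x => by
      rcases hcov x with ⟨v, rfl⟩ | ⟨w, rfl⟩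
      · exact ⟨Points.map t₁' v, by rw [← Points.map_comp, hq₁]⟩
      · exact ⟨Points.map t₂' w, by rw [← Points.map_comp, hq₂]⟩)
  refine ⟨inv q ≫ ι, ⟨by rw [Category.assoc]; exact IsIso.inv_hom_id q, ?_, ?_⟩, fun σ ⟨h₁, h₂, h₃⟩ => ?_⟩
  · rw [← Category.assoc, ← hq₁, Category.assoc t₁', IsIso.hom_inv_id, Category.comp_id, ht₁']
  · rw [← Category.assoc, ← hq₂, Category.assoc t₂', IsIso.hom_inv_id, Category.comp_id, ht₂']
  · obtain ⟨σ', hσ'⟩ := (exists_factor_iff hι σ).2 (by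
      rintro _ ⟨x, rfl⟩
      apply hrO.ge
      rcases hcov x with ⟨v, rfl⟩ | ⟨w, rfl⟩
      · exact Or.inl ⟨v, by rw [← h₂, Points.map_comp]⟩
      · exact Or.inr ⟨w, by rw [← h₃, Points.map_comp]⟩)
    have h3 : σ' ≫ q = 𝟙 V := by rw [← Category.assoc, hσ', h₁]
    rw [← hσ', IsIso.eq_inv_of_inv_hom_id h3]

/-- Let f : Y' → Y be a proper morphism between algebraic spaces over the scheme S, i : Z → Y a closed
immersion, E = Z ×_Y Y', and assume f is an isomorphism over the open complement of Z. Let V₁, V₂ be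
etale over Y, with base changes V₁', V₂' to Y' and W₁, W₂ to Z, and let P₁ be the base change of V₁
to E (through both V₁' and W₁). Then a morphism m' : V₁' → V₂' over Y' and a morphism n : W₁ → W₂
over Z inducing the same morphism P₁ → V₂ are the base changes of exactly one morphism V₁ → V₂ over
Y. (The published statement asserts that the functor sending a space etale over Y to its base
changes to Y' and to Z, glued along E, is an equivalence of categories onto such glueing data; this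
row states that it is fully faithful.) -/
theorem result {S : Scheme.{u}}
    {Y Y' Z E U U' V₁ V₂ V₁' V₂' W₁ W₂ P₁ : AlgSp.Space S} (f : Y' ⟶ Y)
    (hf : AlgSp.IsProperMor f.hom) (i : Z ⟶ Y) (hi : AlgSp.RepWith @IsClosedImmersion i.hom) (j : E ⟶ Y')
    (g : E ⟶ Z) (hE : IsPullback j.hom g.hom f.hom i.hom) (jU : U ⟶ Y)
    (hjU : AlgSp.RepWith @IsOpenImmersion jU.hom)
    (hU : Set.range (AlgSp.Points.map jU.hom) = (Set.range (AlgSp.Points.map i.hom))ᶜ) (fU : U' ⟶ U)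
    (jU' : U' ⟶ Y') (hU' : IsPullback jU'.hom fU.hom f.hom jU.hom) [IsIso fU]
    (v₁ : V₁ ⟶ Y) (v₂ : V₂ ⟶ Y) (hv₁ : AlgSp.IsEtaleMor v₁.hom) (hv₂ : AlgSp.IsEtaleMor v₂.hom)
    (a₁ : V₁' ⟶ V₁) (p₁ : V₁' ⟶ Y') (ha₁ : IsPullback a₁.hom p₁.hom v₁.hom f.hom)
    (a₂ : V₂' ⟶ V₂) (p₂ : V₂' ⟶ Y') (ha₂ : IsPullback a₂.hom p₂.hom v₂.hom f.hom)
    (b₁ : W₁ ⟶ V₁) (q₁ : W₁ ⟶ Z) (hb₁ : IsPullback b₁.hom q₁.hom v₁.hom i.hom)
    (b₂ : W₂ ⟶ V₂) (q₂ : W₂ ⟶ Z) (hb₂ : IsPullback b₂.hom q₂.hom v₂.hom i.hom)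
    (r₁ : P₁ ⟶ V₁') (s₁ : P₁ ⟶ W₁) (e₁ : P₁ ⟶ E)
    (hr₁ : IsPullback r₁.hom e₁.hom p₁.hom j.hom) (hs₁ : IsPullback s₁.hom e₁.hom q₁.hom g.hom)
    (hP₁ : r₁ ≫ a₁ = s₁ ≫ b₁)
    (m' : V₁' ⟶ V₂') (hm' : m' ≫ p₂ = p₁) (n : W₁ ⟶ W₂) (hn : n ≫ q₂ = q₁)
    (hmn : r₁ ≫ m' ≫ a₂ = s₁ ≫ n ≫ b₂) :
    ∃! m : V₁ ⟶ V₂, m ≫ v₂ = v₁ ∧ a₁ ≫ m = m' ≫ a₂ ∧ b₁ ≫ m = n ≫ b₂ := by
  have hYa := Y.property
  have hV₁a := V₁.property
  have hV₂a := V₂.property
  -- the square over `V₁`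
  have sqR : IsPullback r₁.hom s₁.hom a₁.hom b₁.hom := by
    have h := hr₁.paste_vert hE
    rw [← hs₁.w, ← ha₁.w] at h
    exact (IsPullback.of_right h.flip (congrArg InducedCategory.Hom.hom hP₁).symm hb₁.flip).flip
  have sqP := IsPullback.of_hasPullback v₁.hom v₂.hom
  have hPa := isAlgSpace_pullback' hYa hV₁a hV₂a v₁.hom v₂.hom
  have hpe : IsEtaleMor (pullback.fst v₁.hom v₂.hom) := isEtaleMor_of_locP hV₁a
    (EtLocal.etale.locP_of_isPullback hV₂a hYa hV₁a sqP.flip (locP_of_isEtaleMor hYa hv₂))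
  have hm'h : m'.hom ≫ p₂.hom = p₁.hom := congrArg InducedCategory.Hom.hom hm'
  have hnh : n.hom ≫ q₂.hom = q₁.hom := congrArg InducedCategory.Hom.hom hn
  have e1 : a₁.hom ≫ v₁.hom = (m'.hom ≫ a₂.hom) ≫ v₂.hom := by
    rw [Category.assoc, ha₂.w, ← Category.assoc, hm'h, ha₁.w]
  have e2 : b₁.hom ≫ v₁.hom = (n.hom ≫ b₂.hom) ≫ v₂.hom := by
    rw [Category.assoc, hb₂.w, ← Category.assoc, hnh, hb₁.w]
  let t₁ := sqP.lift a₁.hom (m'.hom ≫ a₂.hom) e1
  let t₂ := sqP.lift b₁.hom (n.hom ≫ b₂.hom) e2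
  have hoff : ∀ (Q Q' : Sp S) (g : Q ⟶ V₁.obj) (fst : Q' ⟶ V₁'.obj) (snd : Q' ⟶ Q), IsPullback fst snd a₁.hom g →
      ∀ z z', Points.map snd z = Points.map snd z' →
        Points.map g (Points.map snd z) ∉ Set.range (Points.map b₁.hom) → z = z' := by
    intro Q Q' g fst snd sq z z' he hg
    refine eq_of_over_open (sq.paste_horiz ha₁.flip) hU' (inferInstanceAs (IsIso ((ObjectProperty.ι _).map fU))) z z' he ?_
    rw [hU]
    rintro ⟨c, hc⟩
    rw [Points.map_comp] at hc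
    obtain ⟨w, hw, -⟩ := exists_of_isPullback hb₁ hc.symm
    exact hg ⟨w, hw⟩
  have hne : ∀ v, v ∉ Set.range (Points.map b₁.hom) → v ∈ Set.range (Points.map a₁.hom) := by
    intro v hv
    have hr : Points.map v₁.hom v ∈ Set.range (Points.map jU.hom) := by
      rw [hU]
      rintro ⟨c, hc⟩
      obtain ⟨w, hw, -⟩ := exists_of_isPullback hb₁ hc.symm
      exact hv ⟨w, hw⟩
    obtain ⟨c, hc⟩ := hr
    haveI : IsIso fU.hom := inferInstanceAs (IsIso ((ObjectProperty.ι _).map fU))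
    obtain ⟨c', rfl⟩ := (map_bijective_of_iso (asIso fU.hom)).2 c
    obtain ⟨x, hx, -⟩ := exists_of_isPullback ha₁ (x := v) (y := Points.map jU'.hom c') (by
      rw [← hc, ← Points.map_comp, ← Points.map_comp, hU'.w]; rfl)
    exact ⟨x, hx⟩
  have huc : IsUnivClosedMor a₁.hom := univSp_of_isPullback ha₁.flip (hf.2.2)
  obtain ⟨σ, ⟨hσ1, hσ2, hσ3⟩, huniq⟩ := existsUnique_section_glue hPa hV₁a V₁'.property W₁.property hpe huc
    (repWith_of_isPullback hb₁.flip hi) sqR hoff hne t₁ (sqP.lift_fst _ _ _) t₂ (sqP.lift_fst _ _ _) (by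
      apply sqP.hom_ext
      · simp only [t₁, t₂, Category.assoc, sqP.lift_fst]
        exact sqR.w
      · simp only [t₁, t₂, Category.assoc, sqP.lift_snd]
        exact congrArg InducedCategory.Hom.hom hmn)
  refine ⟨ObjectProperty.homMk (σ ≫ pullback.snd v₁.hom v₂.hom), ⟨?_, ?_, ?_⟩, ?_⟩
  · apply ObjectProperty.hom_ext
    show (σ ≫ pullback.snd v₁.hom v₂.hom) ≫ v₂.hom = v₁.hom
    rw [Category.assoc, ← sqP.w, ← Category.assoc, hσ1, Category.id_comp]
  · apply ObjectProperty.hom_ext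
    show a₁.hom ≫ σ ≫ pullback.snd v₁.hom v₂.hom = m'.hom ≫ a₂.hom
    rw [← Category.assoc, hσ2, sqP.lift_snd]
  · apply ObjectProperty.hom_ext
    show b₁.hom ≫ σ ≫ pullback.snd v₁.hom v₂.hom = n.hom ≫ b₂.hom
    rw [← Category.assoc, hσ3, sqP.lift_snd]
  · rintro m ⟨hm1, hm2, hm3⟩
    have h1 : m.hom ≫ v₂.hom = v₁.hom := congrArg InducedCategory.Hom.hom hm1
    have e := huniq (sqP.lift (𝟙 _) m.hom (by rw [Category.id_comp, h1])) ⟨sqP.lift_fst _ _ _, sqP.hom_ext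
      (by rw [Category.assoc, sqP.lift_fst, sqP.lift_fst, Category.comp_id])
      (by rw [Category.assoc, sqP.lift_snd, sqP.lift_snd]; exact congrArg InducedCategory.Hom.hom hm2),
      sqP.hom_ext
      (by rw [Category.assoc, sqP.lift_fst, sqP.lift_fst, Category.comp_id])
      (by rw [Category.assoc, sqP.lift_snd, sqP.lift_snd]; exact congrArg InducedCategory.Hom.hom hm3)⟩
    apply ObjectProperty.hom_ext
    show m.hom = σ ≫ pullback.snd v₁.hom v₂.hom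
    rw [← e, sqP.lift_snd]

end Groth.Agent.S12192
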