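import Groth.Statements.S1220
import Groth.Agent.Lib.ProjPure13.Main
import Groth.Agent.S1217
import Groth.Agent.S9005
-- import your own Groth.Agent.* helpers here

set_option autoImplicit false
universe u
open FlatMor

namespace Groth.Agent.S1220

/-- Ring form, X = Spec B affine: let B be a finitely presented A-algebra and N a finitely presented
B-module flat over A. Then the set of points p of Spec A such that N is pure along the fibre over p
is open. -/
theorem result {A B : Type u} [CommRing A] [CommRing B] [Algebra A B] [Algebra.FinitePresentation A B]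
    (N : Type u) [AddCommGroup N] [Module B N] [Module A N] [IsScalarTower A B N] [Module.FinitePresentation B N] [Module.Flat A N] :
    IsOpen {p : PrimeSpectrum A | FlatCA.IsPureAlong A B N p.asIdeal} := by
  rw [isOpen_iff_forall_mem_open]
  intro p hp
  obtain ⟨A₁, _, _, het, hmem, hml⟩ := GrothLib.ProjPure13.exists_ml_nhd (A := A) (B := B) N p.asIdeal hp
  haveI : Algebra.Etale A A₁ := het
  letI : Algebra B (TensorProduct A A₁ B) := Algebra.TensorProduct.rightAlgebra
  let e : TensorProduct B (TensorProduct A A₁ B) N ≃ₗ[A₁] TensorProduct A A₁ N :=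
    Algebra.IsPushout.cancelBaseChange A A₁ B (TensorProduct A A₁ B) N
  haveI : Module.Flat A₁ (TensorProduct B (TensorProduct A A₁ B) N) := Module.Flat.of_linearEquiv e
  have hml' : CAlg.IsMittagLeffler A₁ (TensorProduct B (TensorProduct A A₁ B) N) :=
    GrothLib.ML.ml_of_retract e.toLinearMap e.symm.toLinearMap (LinearMap.ext fun x => e.symm_apply_apply x) hml
  haveI : Module.Projective A₁ (TensorProduct B (TensorProduct A A₁ B) N) :=
    GrothLib.ML.projective_of_countable hml'
      (GrothLib.RGProj13.countablyGenerated_of_finite (B := TensorProduct A A₁ B))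
  refine ⟨Set.range (PrimeSpectrum.comap (algebraMap A A₁)), ?_,
    (PrimeSpectrum.isOpenMap_comap_of_hasGoingDown_of_finitePresentation (R := A) (S := A₁)).isOpen_range, hmem⟩
  rintro _ ⟨z, rfl⟩
  haveI : z.asIdeal.LiesOver (PrimeSpectrum.comap (algebraMap A A₁) z).asIdeal := ⟨rfl⟩
  haveI : Module.Flat A (Localization.AtPrime z.asIdeal) := Module.Flat.trans A A₁ _
  refine (Groth.Agent.S1217.result (A := A) (B := B) N (PrimeSpectrum.comap (algebraMap A A₁) z).asIdeal A₁
    (TensorProduct A A₁ B) (TensorProduct B (TensorProduct A A₁ B) N) (TensorProduct.mk B (TensorProduct A A₁ B) N 1)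
    (TensorProduct.isBaseChange B N _) z.asIdeal).1 ?_
  intro A' B' N' _ _ _ _ _ _ _ _ _ _ _ _ _ _ f t' t _ _ P _ _ hi
  exact Groth.Agent.S9005.result (A := A₁) (B := TensorProduct A A₁ B) (TensorProduct B (TensorProduct A A₁ B) N)
    z.asIdeal A' B' N' f t' t P hi

end Groth.Agent.S1220
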