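import Groth.Statements.S12205
import Groth.Agent.Lib.Flatness.Tor
import Groth.Agent.Lib.Flatness.Criterion
import Mathlib

set_option autoImplicit false
universe u
open CategoryTheory
open scoped TensorProduct
open CAlg

namespace Groth.Agent.S12205

open GrothLib.Flatness TensorProduct in
theorem good_symm_aux {R : Type u} [CommRing R] {M N K L F G : Type u} [AddCommGroup M] [Module R M]
    [AddCommGroup N] [Module R N] [AddCommGroup K] [Module R K] [AddCommGroup L] [Module R L]
    [AddCommGroup F] [Module R F] [AddCommGroup G] [Module R G] [Module.Free R F] [Module.Free R G]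
    (k : K →ₗ[R] F) (π : F →ₗ[R] N) (l : L →ₗ[R] G) (ρ : G →ₗ[R] M) (hk : Function.Injective k)
    (hl : Function.Injective l) (hπ : Function.Surjective π) (hρ : Function.Surjective ρ)
    (hK : Function.Exact k π) (hL : Function.Exact l ρ) (h : Good R N M) : Good R M N := by
  refine Good.of_presentation k π hk hπ hK Good.of_projective ?_
  rw [LinearMap.lTensor_inj_iff_rTensor_inj, injective_iff_map_eq_zero]
  intro x hx
  obtain ⟨y, rfl⟩ := LinearMap.lTensor_surjective K hρ x
  rw [← LinearMap.comp_apply, LinearMap.rTensor_comp_lTensor, ← LinearMap.lTensor_comp_rTensor,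
    LinearMap.comp_apply] at hx
  obtain ⟨z, hz⟩ := (lTensor_exact F hL hρ _).mp hx
  have h1 : l.lTensor N (π.rTensor L z) = 0 := by
    rw [← LinearMap.comp_apply, LinearMap.lTensor_comp_rTensor, ← LinearMap.rTensor_comp_lTensor,
      LinearMap.comp_apply, hz, ← LinearMap.comp_apply, ← LinearMap.rTensor_comp, hK.linearMap_comp_eq_zero,
      LinearMap.rTensor_zero, LinearMap.zero_apply]
  have h2 : π.rTensor L z = 0 := h L G l ρ hl hρ hL (h1.trans (map_zero _).symm)
  obtain ⟨w, rfl⟩ := (rTensor_exact L hK hπ z).mp h2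
  have h3 : y = l.lTensor K w := by
    apply Module.Flat.rTensor_preserves_injective_linearMap (M := G) k hk
    rw [← hz, ← LinearMap.comp_apply, ← LinearMap.comp_apply, LinearMap.lTensor_comp_rTensor,
      LinearMap.rTensor_comp_lTensor]
  rw [h3, ← LinearMap.comp_apply, ← LinearMap.lTensor_comp, hL.linearMap_comp_eq_zero, LinearMap.lTensor_zero,
    LinearMap.zero_apply]

open GrothLib.Flatness in
theorem good_symm {R : Type u} [CommRing R] {M N : Type u} [AddCommGroup M] [Module R M] [AddCommGroup N]
    [Module R N] (h : Good R N M) : Good R M N := by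
  have key : ∀ (π : (N →₀ R) →ₗ[R] N) (ρ : (M →₀ R) →ₗ[R] M), Function.Surjective π → Function.Surjective ρ →
      Good R M N := fun π ρ hπ hρ =>
    good_symm_aux (K := ↥(LinearMap.ker π)) (L := ↥(LinearMap.ker ρ)) (LinearMap.ker π).subtype π
      (LinearMap.ker ρ).subtype ρ (Submodule.injective_subtype _) (Submodule.injective_subtype _) hπ hρ
      (LinearMap.exact_subtype_ker_map π) (LinearMap.exact_subtype_ker_map ρ) h
  exact key (Finsupp.linearCombination R id) (Finsupp.linearCombination R id)
    (fun n => ⟨Finsupp.single n 1, by simp⟩) (fun n => ⟨Finsupp.single n 1, by simp⟩)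

/-- Let I be an ideal of a commutative ring R and M an R-module such that M/IM is flat over R/I and
Tor_1^R(R/I, M) = 0. Then Tor_1^R(N, M) = 0 for every R-module N annihilated by I^m for some m ≥ 0.
Here Tor_1^R(N, M) is the first left derived functor of N ⊗_R − evaluated at M. -/
theorem result (R : Type u) [CommRing R] (I : Ideal R) (M : Type u)
    [AddCommGroup M] [Module R M] [Module.Flat (R ⧸ I) ((R ⧸ I) ⊗[R] M)]
    (h : Limits.IsZero (((CategoryTheory.Tor (ModuleCat.{u} R) 1).obj (ModuleCat.of R (R ⧸ I))).obj (ModuleCat.of R M)))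
    (N : Type u) [AddCommGroup N] [Module R N] (m : ℕ) (hN : ∀ a : R, a ∈ I ^ m → ∀ x : N, a • x = 0) :
    Limits.IsZero (((CategoryTheory.Tor (ModuleCat.{u} R) 1).obj (ModuleCat.of R N)).obj (ModuleCat.of R M)) := by
  rw [GrothLib.Flatness.isZero_tor_one_iff_good] at h ⊢
  refine good_symm (GrothLib.Flatness.good_of_pow I ?_ inferInstance m N fun x a => hN a.1 a.2 x)
  exact good_symm h I R I.subtype I.mkQ I.injective_subtype I.mkQ_surjective (LinearMap.exact_subtype_mkQ I)

end Groth.Agent.S12205
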