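import Groth.Statements.S12209
import Groth.Agent.Lib.Gonflement.Limit

set_option autoImplicit false
universe u
open CAlg

namespace Groth.Agent.S12209

/-- Let (R_i) be a system of commutative rings over a nonempty directed preorder, with colimit R, and
let M be an R-module which is flat as an R_i-module for every i (the R_i-module structure being
restriction of scalars along R_i → R). Then M is flat as an R-module. -/
theorem result {ι : Type u} [Preorder ι] [Nonempty ι] [IsDirectedOrder ι]
    (G : ι → Type u) [∀ i, CommRing (G i)] (f : ∀ i j, i ≤ j → G i →+* G j)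
    [DirectedSystem G fun i j h => f i j h]
    (M : Type u) [AddCommGroup M] [Module (Ring.DirectLimit G fun i j h => f i j h) M]
    (hflat : ∀ i, letI : Module (G i) M := Module.compHom M (Ring.DirectLimit.of G (fun i j h => f i j h) i);
      Module.Flat (G i) M) :
    Module.Flat (Ring.DirectLimit G fun i j h => f i j h) M := by
  classical
  rw [Module.Flat.iff_forall_isTrivialRelation]
  intro n r x hx
  obtain ⟨j, -, hj⟩ := GrothLib.Gonflement.exists_stage_finset G f
    (fun i => Ring.DirectLimit.of G (fun i j h => f i j h) i)
    (fun i j h => RingHom.ext fun x => Ring.DirectLimit.of_f h x)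
    (fun b => Ring.DirectLimit.exists_of b) (Classical.arbitrary ι) (Finset.univ.image r)
  have hy : ∀ t, ∃ y, Ring.DirectLimit.of G (fun i j h => f i j h) j y = r t :=
    fun t => hj (by simp)
  choose y hy using hy
  letI : Module (G j) M := Module.compHom M (Ring.DirectLimit.of G (fun i j h => f i j h) j)
  have hsm : ∀ (a : G j) (v : M),
      a • v = Ring.DirectLimit.of G (fun i j h => f i j h) j a • v := fun _ _ => rfl
  have h0 : ∑ t, y t • x t = 0 := by simpa [hsm, hy] using hx
  obtain ⟨k, a, z, h1, h2⟩ := Module.Flat.iff_forall_isTrivialRelation.1 (hflat j) h0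
  refine ⟨k, fun t u => Ring.DirectLimit.of G (fun i j h => f i j h) j (a t u), z,
    fun t => (h1 t).trans (Finset.sum_congr rfl fun u _ => hsm _ _), fun u => ?_⟩
  have := congrArg (Ring.DirectLimit.of G (fun i j h => f i j h) j) (h2 u)
  simpa [map_sum, hy] using this

end Groth.Agent.S12209
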