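import Groth.Statements.S12212
import Groth.Agent.Lib.HilbSam.Assoc

set_option autoImplicit false
universe u
open IntMult

namespace Groth.Agent.S12212

/-- Suppose A is a local Noetherian ring with an ideal of definition I, take M to be a finite A-module,
and fix d with dim Supp(M) ≤ d. Then e_I(M, d) equals Σ_p length_{A_p}(M_p) · e_I(A/p, d), where p
ranges over the primes satisfying dim(A/p) = d (all but finitely many summands vanish); here e_I(N,
d) denotes the limit of d! · length_A(N/I^t N)/t^d, and the formal version says: assuming these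
limits e_p exist for the A-modules A/p, the limit attached to M is the sum shown. -/
theorem result (A : Type u) [CommRing A] [IsNoetherianRing A] [IsLocalRing A]
    (I : Ideal A) (hI : I ≤ IsLocalRing.maximalIdeal A ∧ ∃ n : ℕ, IsLocalRing.maximalIdeal A ^ n ≤ I)
    (M : Type u) [AddCommGroup M] [Module A M] [Module.Finite A M]
    (d : ℕ) (hd : Module.supportDim A M ≤ d) (e : PrimeSpectrum A → ℝ)
    (he : ∀ p : PrimeSpectrum A, ringKrullDim (A ⧸ p.asIdeal) = d →
      Filter.Tendsto (fun t : ℕ => (d.factorial : ℝ) *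
        ((Module.length A ((A ⧸ p.asIdeal) ⧸ (I ^ t • (⊤ : Submodule A (A ⧸ p.asIdeal))))).toNat : ℝ) / (t : ℝ) ^ d)
        Filter.atTop (nhds (e p))) :
    Filter.Tendsto (fun t : ℕ => (d.factorial : ℝ) * ((Module.length A (M ⧸ (I ^ t • (⊤ : Submodule A M)))).toNat : ℝ) / (t : ℝ) ^ d) Filter.atTop
      (nhds (∑ᶠ (p : PrimeSpectrum A) (_ : ringKrullDim (A ⧸ p.asIdeal) = d),
        ((Module.length (Localization.AtPrime p.asIdeal) (LocalizedModule p.asIdeal.primeCompl M)).toNat : ℝ) * e p)) := by
  obtain ⟨n, hn⟩ := hI.2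
  rw [GrothLib.HilbSam.tendsto_factorial_mul_iff]
  have h := (GrothLib.HilbSam.tendsto_samuel_assoc (GrothLib.HilbSam.maximal_of_pow_le hn)
    (fun p => e p / (d.factorial : ℝ))
    (fun p hp => GrothLib.HilbSam.tendsto_factorial_mul_iff.mp (he p hp)) M hd).2.2
  convert h using 2
  rw [div_eq_mul_inv, finsum_mul]
  refine finsum_congr fun p => ?_
  rw [finsum_eq_if, GrothLib.HilbSam.wgt]
  split
  · ring
  · simp

end Groth.Agent.S12212
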