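import Groth.Statements.S12215
import Groth.Agent.Lib.AssPts.Points

set_option autoImplicit false
universe u
open CategoryTheory CategoryTheory.Limits AlgebraicGeometry
open Divisors

namespace Groth.Agent.S12215

theorem weakAss_linearEquiv {R : Type u} [CommRing R] {N N' : Type u} [AddCommGroup N] [Module R N]
    [AddCommGroup N'] [Module R N'] (e : N ≃ₗ[R] N') : FlatCA.weakAss R N = FlatCA.weakAss R N' := by
  have key : ∀ m : N, (⊥ : Submodule R N').colon {e m} = (⊥ : Submodule R N).colon {m} := fun m => by
    ext a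
    simp only [Submodule.mem_colon_singleton, Submodule.mem_bot, ← map_smul, LinearEquiv.map_eq_zero_iff]
  ext q
  rw [GrothLib.AssPts.mem_weakAss_iff, GrothLib.AssPts.mem_weakAss_iff]
  constructor
  · rintro ⟨m, hm⟩
    exact ⟨e m, by rw [key]; exact hm⟩
  · rintro ⟨m, hm⟩
    exact ⟨e.symm m, by rw [← key, e.apply_symm_apply]; exact hm⟩

/-- Let M be a module over a ring A, M~ the associated quasi-coherent module on Spec A and p a prime of
A. Then p is weakly associated to M — p is minimal among the prime ideals containing the annihilator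
of some element of M — if and only if the point p of Spec A is weakly associated to M~, i.e. some
element of the stalk of M~ at p has annihilator whose radical is the maximal ideal of the local
ring. -/
theorem result (A : CommRingCat.{u}) (M : ModuleCat.{u} A) (p : Spec A) :
    p.asIdeal ∈ FlatCA.weakAss A M ↔ Curv2.IsWeakAssPoint (tilde M) p := by
  have : (tilde M).IsQuasicoherent := inferInstance
  rw [GrothLib.AssPts.weak_iff (tilde M) (isAffineOpen_top (Spec A)) (x := p) trivial]
  have hmap : ∀ a, algebraMap A Γ(Spec A, ⊤) a = (Scheme.ΓSpecIso A).inv a := fun a => rfl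
  have hs : Function.Surjective (algebraMap A Γ(Spec A, ⊤)) := fun b => by
    obtain ⟨a, ha⟩ := (ConcreteCategory.bijective_of_isIso (Scheme.ΓSpecIso A).inv).2 b
    exact ⟨a, (hmap a).trans ha⟩
  have : Module.Finite A Γ(Spec A, ⊤) := Module.Finite.of_surjective (Algebra.linearMap A _) hs
  have : Algebra.IsIntegral A Γ(Spec A, ⊤) := Algebra.IsIntegral.of_finite A _
  have heq : FlatCA.weakAss A M = Ideal.comap (algebraMap A Γ(Spec A, ⊤)) '' FlatCA.weakAss Γ(Spec A, ⊤) Γ(tilde M, ⊤) := by
    let e : M ≃ₗ[A] Γ(tilde M, ⊤) := (asIso (tilde.toOpen M ⊤)).toLinearEquiv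
    rw [weakAss_linearEquiv e]
    exact le_antisymm GrothLib.AssPts.weakAss_subset_image
      (GrothLib.AssPts.image_subset_weakAss fun q _ => Algebra.QuasiFinite.finite_primesOver q)
  have hp : Ideal.comap (algebraMap A Γ(Spec A, ⊤)) (GrothLib.WeakAss.primeAt (V := (⊤ : (Spec A).Opens)) p trivial) = p.asIdeal := by
    ext a
    rw [← not_iff_not, Ideal.mem_comap, GrothLib.WeakAss.notMem_primeAt_iff]
    show p ∈ (Spec A).basicOpen ((Scheme.ΓSpecIso A).inv a) ↔ _
    rw [basicOpen_eq_of_affine]
    rfl
  rw [heq]
  constructor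
  · rintro ⟨Q, hQ, hQp⟩
    have : Q = GrothLib.WeakAss.primeAt (V := (⊤ : (Spec A).Opens)) p trivial :=
      Ideal.comap_injective_of_surjective _ hs (hQp.trans hp.symm)
    exact this ▸ hQ
  · intro h
    exact ⟨_, h, hp⟩

end Groth.Agent.S12215
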