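import Groth.Statements.S12217
import Groth.Agent.Lib.Multicross.Gor

set_option autoImplicit false
universe u
open Curves

namespace Groth.Agent.S12217

/-- In this form A is the local ring of the curve at the point, and a Gorenstein scheme has Gorenstein
local rings. Let k be an algebraically closed field and A a Gorenstein local ring whose completion
with respect to its maximal ideal is isomorphic to the multicross ring with n ≥ 2 branches, the
subring of (k[[t]])^n consisting of the n-tuples of power series having a common constant term. Then
n = 2: a Gorenstein multicross singularity is a node. The isomorphism is given as an injective ring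
map from the completion to (k[[t]])^n with that subring as its range. -/
theorem result (k : Type u) [Field k] [IsAlgClosed k]
    (A : Type u) [CommRing A] [LocCoh.IsGorensteinLocalRing A] (n : ℕ) (hn : 2 ≤ n)
    (φ : AdicCompletion (IsLocalRing.maximalIdeal A) A →+* (Fin n → PowerSeries k))
    (hinj : Function.Injective φ)
    (hrange : Set.range φ = {f : Fin n → PowerSeries k | ∀ i j : Fin n, PowerSeries.constantCoeff (f i) = PowerSeries.constantCoeff (f j)}) :
    n = 2 :=
  le_antisymm (GrothLib.Multicross.le_two_of_gorenstein φ hinj hrange) hn

end Groth.Agent.S12217
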