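import Groth.Statements.S1224
import Mathlib
-- import your own Groth.Agent.* helpers here

set_option autoImplicit false
universe u
open FlatMor

namespace Groth.Agent.S1224

/-- Ring form, X = Spec B affine, where proper support means finite support: let B be a finite type
A-algebra and N a finite B-module such that B modulo the annihilator of N is finite over A. Then N
is universally pure relative to Spec A. -/
theorem result {A B : Type u} [CommRing A] [CommRing B] [Algebra A B] [Algebra.FiniteType A B]
    (N : Type u) [AddCommGroup N] [Module B N] [Module A N] [IsScalarTower A B N] [Module.Finite B N]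
    [Module.Finite A (B ⧸ Module.annihilator B N)] : FlatCA.IsUnivPure A B N := by
  intro p _ A' B' N' _ _ _ _ _ _ _ _ _ _ _ _ _ _ f t' t _ _ P _ himp
  obtain ⟨hpo, hf, hle, -, -, hass, hno⟩ := himp
  let J := Module.annihilator B N
  let J' := J.map (algebraMap B B')
  have hfi : (FlatCA.fiberIdeal t' P).IsPrime := hass.isPrime
  let Q := (FlatCA.fiberIdeal t' P).comap (Algebra.TensorProduct.includeRight (R := A') (A := t'.ResidueField) (B := B')).toRingHom
  have hPQ : P ≤ Q := Ideal.le_comap_map
  have hQt : Q.comap (algebraMap A' B') = t' := by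
    have h1 : Q.comap (algebraMap A' B') = (FlatCA.fiberIdeal t' P).comap (algebraMap A' (t'.Fiber B')) := by
      rw [Ideal.comap_comap]
      congr 1
      exact (Algebra.TensorProduct.includeRight (R := A') (A := t'.ResidueField) (B := B')).comp_algebraMap
    have h2 : (FlatCA.fiberIdeal t' P).comap (algebraMap t'.ResidueField (t'.Fiber B')) = ⊥ :=
      (IsSimpleOrder.eq_bot_or_eq_top _).resolve_right (Ideal.IsPrime.comap _).ne_top
    rw [h1, IsScalarTower.algebraMap_eq A' t'.ResidueField (t'.Fiber B'), ← Ideal.comap_comap, h2]
    exact Ideal.ext fun a => Ideal.algebraMap_residueField_eq_zero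
  have hJQ : J' ≤ Q := by
    refine Ideal.map_le_iff_le_comap.2 fun b hb => ?_
    obtain ⟨hp, x, hx⟩ := hass
    show Algebra.TensorProduct.includeRight (R := A') (A := t'.ResidueField) (B := B') (algebraMap B B' b) ∈
      FlatCA.fiberIdeal t' P
    have hkillN' : ∀ n : N', algebraMap B B' b • n = 0 := fun n => by
      induction n using hf.inductionOn with
      | zero => rw [smul_zero]
      | tmul m => rw [algebraMap_smul, ← map_smul, Module.mem_annihilator.1 hb, map_zero]
      | smul r y hy => rw [smul_comm, hy, smul_zero]
      | add y z hy hz => rw [smul_add, hy, hz, add_zero]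
    have hkill : ∀ y : FlatCA.fiberMod t' B' N',
        Algebra.TensorProduct.includeRight (R := A') (A := t'.ResidueField) (B := B') (algebraMap B B' b) • y = 0 := by
      intro y
      letI := Algebra.TensorProduct.rightAlgebra (R := A') (A := t'.ResidueField) (B := B')
      revert y
      intro (y : TensorProduct B' (t'.Fiber B') N')
      show Algebra.TensorProduct.includeRight (R := A') (A := t'.ResidueField) (B := B') (algebraMap B B' b) • y =
        (0 : TensorProduct B' (t'.Fiber B') N')
      induction y using TensorProduct.induction_on with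
      | zero => rw [smul_zero]
      | tmul a n =>
        rw [TensorProduct.smul_tmul', smul_eq_mul]; erw [← Algebra.smul_def' (algebraMap B B' b) a] 
        rw [TensorProduct.smul_tmul, hkillN', TensorProduct.tmul_zero]
      | add y z hy hz => rw [smul_add, hy, hz, add_zero]
    rw [hx]
    exact Ideal.le_radical (Submodule.mem_colon_singleton.2 ((Submodule.mem_bot _).2 (hkill x)))
  have hint : Algebra.IsIntegral A' (B' ⧸ J') := by
    refine ⟨fun z => ?_⟩
    obtain ⟨z, rfl⟩ := Ideal.Quotient.mk_surjective z
    have hpo' := (Algebra.IsPushout.symm hpo).out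
    induction z using hpo'.inductionOn with
    | zero => rw [map_zero]; exact isIntegral_zero
    | tmul b =>
      have h0 : IsIntegral A (Ideal.Quotient.mk J b) := Algebra.IsIntegral.isIntegral _
      let ψ : B ⧸ J →ₐ[A] B' ⧸ J' :=
        Ideal.Quotient.liftₐ J ((Ideal.Quotient.mkₐ A J').comp (IsScalarTower.toAlgHom A B B'))
          (fun x hx => Ideal.Quotient.eq_zero_iff_mem.2 (Ideal.mem_map_of_mem _ hx))
      exact (h0.map ψ).tower_top
    | smul r y hy =>
      rw [Algebra.smul_def, map_mul]
      exact isIntegral_algebraMap.mul hy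
    | add y z hy hz => rw [map_add]; exact hy.add hz
  have : Q.IsPrime := Ideal.IsPrime.comap _
  have hQ' : (Q.map (Ideal.Quotient.mk J')).IsPrime :=
    Ideal.map_isPrime_of_surjective Ideal.Quotient.mk_surjective (by rwa [Ideal.mk_ker])
  have hQc : (Q.map (Ideal.Quotient.mk J')).comap (Ideal.Quotient.mk J') = Q := by
    rw [Ideal.comap_map_of_surjective _ Ideal.Quotient.mk_surjective, ← RingHom.ker_eq_comap_bot, Ideal.mk_ker,
      sup_eq_left.2 hJQ]
  obtain ⟨R', hR'le, hR'p, hR'⟩ := Ideal.exists_ideal_over_prime_of_isIntegral_of_isPrime (S := B' ⧸ J') t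
    (Q.map (Ideal.Quotient.mk J')) (by
      show (Q.map (Ideal.Quotient.mk J')).comap (algebraMap A' (B' ⧸ J')) ≤ t
      rw [show algebraMap A' (B' ⧸ J') = (Ideal.Quotient.mk J').comp (algebraMap A' B') from rfl,
        ← Ideal.comap_comap, hQc, hQt]
      exact hle)
  exact hno (R'.comap (Ideal.Quotient.mk J')) ((hPQ.trans hQc.ge).trans (Ideal.comap_mono hR'le))
    ⟨by rw [Ideal.under_def, Ideal.comap_comap]; exact hR'.symm⟩

end Groth.Agent.S1224
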