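import Groth.Statements.S8999
import Groth.Agent.Lib.RG6.Impure.Closed
-- import your own Groth.Agent.* helpers here

set_option autoImplicit false
universe u
open FlatMor

namespace Groth.Agent.S8999

/-- For affine finite type schemes over Spec A: purity and universal purity along a fibre of a finite
module are unchanged when the module is pushed forward along a closed immersion Spec C → Spec B (a
surjective algebra map B → C). -/
theorem result {A B C : Type u} [CommRing A] [CommRing B] [CommRing C] [Algebra A B] [Algebra B C] [Algebra A C] [IsScalarTower A B C] [Algebra.FiniteType A B] (hBC : Function.Surjective (algebraMap B C)) (N : Type u) [AddCommGroup N] [Module C N] [Module B N] [IsScalarTower B C N] [Module.Finite C N] (p : Ideal A) [p.IsPrime] : (FlatCA.IsPureAlong A C N p ↔ FlatCA.IsPureAlong A B N p) ∧ (FlatCA.IsUnivPureAlong A C N p ↔ FlatCA.IsUnivPureAlong A B N p) := by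
  have h1 : ∀ (D : Type u) [CommRing D] [Algebra A D] (M : Type u) [AddCommGroup M] [Module D M],
      FlatCA.IsPureAlong A D M p ↔
        ¬ FlatCA.HasImpurity A D M p (fun A' _ _ t => ∃ _ : t.IsPrime, FlatCA.IsEtaleNhd A A' p t) := by
    intro D _ _ M _ _
    refine ⟨?_, ?_⟩
    · rintro h ⟨A', B', N', _, _, _, _, _, _, _, _, _, _, _, _, _, _, f, t', t, _, _, P, _, himp, _, het⟩
      exact h A' B' N' f t' t P het himp
    · intro h A' B' N' _ _ _ _ _ _ _ _ _ _ _ _ _ _ f t' t _ _ P _ het himp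
      exact h ⟨A', B', N', _, _, _, _, _, _, ‹_›, ‹_›, _, _, _, ‹_›, _, ‹_›, f, t', t, ‹_›, ‹_›, P, ‹_›, himp, ‹_›, het⟩
  have h2 : ∀ (D : Type u) [CommRing D] [Algebra A D] (M : Type u) [AddCommGroup M] [Module D M],
      FlatCA.IsUnivPureAlong A D M p ↔ ¬ FlatCA.HasImpurity A D M p (fun _ _ _ _ => True) := by
    intro D _ _ M _ _
    refine ⟨?_, ?_⟩
    · rintro h ⟨A', B', N', _, _, _, _, _, _, _, _, _, _, _, _, _, _, f, t', t, _, _, P, _, himp, -⟩
      exact h A' B' N' f t' t P himp
    · intro h A' B' N' _ _ _ _ _ _ _ _ _ _ _ _ _ _ f t' t _ _ P _ himp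
      exact h ⟨A', B', N', _, _, _, _, _, _, ‹_›, ‹_›, _, _, _, ‹_›, _, ‹_›, f, t', t, ‹_›, ‹_›, P, ‹_›, himp, trivial⟩
  rw [h1, h1, h2, h2, GrothLib.RG6.Impure.hasImpurity_surjective_iff hBC,
    GrothLib.RG6.Impure.hasImpurity_surjective_iff hBC]
  exact ⟨Iff.rfl, Iff.rfl⟩

end Groth.Agent.S8999
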