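import Groth.Statements.S1222
import Groth.Agent.Lib.RG6.Impure.Finite
import Groth.Agent.S8999
import Groth.Agent.S1224
-- import your own Groth.Agent.* helpers here

set_option autoImplicit false
universe u
open FlatMor

namespace Groth.Agent.S1222

/-- Ring form, X = Spec B affine hence separated over Spec A: let B be a finite type A-algebra and N a
finite B-module such that for every prime p of A the fibre module of N over p has finite support.
Then the following are equivalent: N is pure relative to Spec A; the scheme-theoretic support of N,
namely B modulo the annihilator of N, is finite over A; N is universally pure relative to Spec A. -/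
theorem result {A B : Type u} [CommRing A] [CommRing B] [Algebra A B] [Algebra.FiniteType A B]
    (N : Type u) [AddCommGroup N] [Module B N] [Module A N] [IsScalarTower A B N] [Module.Finite B N]
    (hfin : ∀ (p : Ideal A) [p.IsPrime], (Module.support (p.Fiber B) (FlatCA.fiberMod p B N)).Finite) :
    [FlatCA.IsPure A B N, Module.Finite A (B ⧸ Module.annihilator B N), FlatCA.IsUnivPure A B N].TFAE := by
  classical
  tfae_have 2 → 3 := fun h => @Groth.Agent.S1224.result A B _ _ _ _ N _ _ _ _ _ h
  tfae_have 3 → 1 := fun h p _ A' B' N' _ _ _ _ _ _ _ _ _ _ _ _ _ _ f t' t _ _ P _ _ himp =>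
    h p A' B' N' f t' t P himp
  tfae_have 1 → 2 := by
    intro h
    let I := Module.annihilator B N
    let C := B ⧸ I
    letI : Module C N := Module.IsTorsionBySet.module
      (show Module.IsTorsionBySet B N (I : Set B) from fun n a => Module.mem_annihilator.1 a.2 n)
    haveI : IsScalarTower B C N := IsScalarTower.of_algebraMap_smul fun b n => rfl
    haveI : Module.Finite C N := Module.Finite.of_restrictScalars_finite B C N
    have hs : Function.Surjective (algebraMap B C) := Ideal.Quotient.mk_surjective
    haveI : Algebra.FiniteType A C := (inferInstance : Algebra.FiniteType A B).of_surjective (Ideal.Quotient.mkₐ A I) hs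
    haveI : Algebra.QuasiFinite A C := Algebra.QuasiFinite.iff_finite_primesOver.2 fun p hp => by
      haveI := hp
      haveI : IsNoetherianRing (p.Fiber B) := Algebra.FiniteType.isNoetherianRing p.ResidueField _
      letI : Algebra B (p.Fiber B) := Algebra.TensorProduct.rightAlgebra
      haveI : Module.Finite (p.Fiber B) (FlatCA.fiberMod p B N) :=
        inferInstanceAs (Module.Finite (p.Fiber B) (TensorProduct B (p.Fiber B) N))
      let Φ : Ideal C → Ideal (p.Fiber B) := fun q => FlatCA.fiberIdeal p (q.comap (algebraMap B C))
      refine Set.Finite.of_finite_image (f := Φ) (((hfin p).image PrimeSpectrum.asIdeal).subset ?_) ?_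
      · rintro _ ⟨q, ⟨hq, hqp⟩, rfl⟩
        haveI := hq
        haveI := hqp
        haveI : (q.comap (algebraMap B C)).LiesOver p := ⟨(q.over_def p).trans (by
          show Ideal.comap _ _ = Ideal.comap _ (Ideal.comap _ _)
          rw [Ideal.comap_comap, ← IsScalarTower.algebraMap_eq A B C])⟩
        haveI hP := GrothLib.RG6.isPrime_fiberIdeal p (q.comap (algebraMap B C))
        refine ⟨⟨_, hP⟩, Module.mem_support_iff_of_finite.2
          (GrothLib.RG6.Impure.annihilator_fiber_le p _ ?_), rfl⟩
        refine GrothLib.RG6.Impure.nontrivial_residue (C := B) (C' := B) (f := LinearMap.id)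
          (IsBaseChange.of_equiv (TensorProduct.lid B N) fun x => by simp) _ ?_
        intro b hb
        show algebraMap B C (algebraMap B B b) ∈ q
        rw [Algebra.algebraMap_self_apply, show algebraMap B C b = 0 from Ideal.Quotient.eq_zero_iff_mem.2 hb]
        exact zero_mem q
      · intro q hq q' hq' he
        haveI := hq.1
        haveI := hq.2
        haveI := hq'.1
        haveI := hq'.2
        haveI : (q.comap (algebraMap B C)).LiesOver p := ⟨(q.over_def p).trans (by
          show Ideal.comap _ _ = Ideal.comap _ (Ideal.comap _ _)
          rw [Ideal.comap_comap, ← IsScalarTower.algebraMap_eq A B C])⟩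
        haveI : (q'.comap (algebraMap B C)).LiesOver p := ⟨(q'.over_def p).trans (by
          show Ideal.comap _ _ = Ideal.comap _ (Ideal.comap _ _)
          rw [Ideal.comap_comap, ← IsScalarTower.algebraMap_eq A B C])⟩
        have h2 := congrArg (Ideal.comap (GrothLib.WeakAssFib.toFib p)) he
        simp only [Φ, GrothLib.WeakAssFib.comap_fiberIdeal] at h2
        exact Ideal.comap_injective_of_surjective _ hs h2
    refine GrothLib.RG6.Impure.finite_of_isPure (N := N) ?_ fun p _ => ((Groth.Agent.S8999.result hs N p).1).2 (h p)
    refine eq_bot_iff.2 fun c hc => ?_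
    obtain ⟨b, rfl⟩ := hs c
    exact Ideal.Quotient.eq_zero_iff_mem.2 (Module.mem_annihilator.2 fun n => by
      rw [← algebraMap_smul C b n]
      exact Module.mem_annihilator.1 hc n)
  tfae_finish

end Groth.Agent.S1222
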