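import Groth.Statements.S12221
import Groth.Agent.Lib.CanExt7.Split
import Groth.Agent.Lib.CanExt7.QReg

set_option autoImplicit false
universe u
open CategoryTheory AlgebraicGeometry Opposite
open Algz

namespace Groth.Agent.S12221

/-- Let A be a Noetherian ring, I ⊆ 𝔞 ideals, U the complement of V(𝔞) in Spec A and (F_n) an object of
Coh(U, IO_U), indexed here from 0. Assume that for some Noetherian local ring R with maximal ideal 𝔪
and some ring map φ : R → A we have (1) I = 𝔪A, (2) for every point y of U lying in V(I) the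
completed stalk F_y^∧ is flat as an R-module (through R → A → O_{U,y} → O_{U,y}^∧), and (3) the
cohomology groups H^0(U, F_0), H^1(U, F_0) are finitely generated over A. Then (F_n) has a canonical
extension to Spec A. -/
theorem result (A : Type u) [CommRing A] [IsNoetherianRing A] (I 𝔞 : Ideal A) (hI𝔞 : I ≤ 𝔞)
    (G : ℕᵒᵖ ⥤ (↑(LocCoh.puncturedOpen A 𝔞) : Scheme.{u}).Modules) (hG : Formal.IsCohFormal I G)
    (R : Type u) [CommRing R] [IsNoetherianRing R] [IsLocalRing R] (φ : R →+* A)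
    (h1 : I = Ideal.map φ (IsLocalRing.maximalIdeal R))
    (h2 : ∀ (y : (↑(LocCoh.puncturedOpen A 𝔞) : Scheme.{u})), (LocCoh.puncturedOpen A 𝔞).ι.base y ∈ PrimeSpectrum.zeroLocus (R := A) I →
      letI : Module R ↥(Algz.hatStalk I G y) := Module.compHom ↥(Algz.hatStalk I G y)
        ((algebraMap ((↑(LocCoh.puncturedOpen A 𝔞) : Scheme.{u}).presheaf.stalk y) (Algz.hatRing I y)).comp ((Algz.toStalk A (↑(LocCoh.puncturedOpen A 𝔞) : Scheme.{u}) y).comp φ));
      Module.Flat R ↥(Algz.hatStalk I G y))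
    (h3 : Module.Finite A (Coh.HH (↑(LocCoh.puncturedOpen A 𝔞) : Scheme.{u}) (G.obj (op 0)) 0) ∧ Module.Finite A (Coh.HH (↑(LocCoh.puncturedOpen A 𝔞) : Scheme.{u}) (G.obj (op 0)) 1)) :
    Algz.CanonicallyExtends A I (LocCoh.puncturedOpen A 𝔞) G := by
  obtain ⟨h0, h1'⟩ := h3
  refine GrothLib.CanExt7.canonicallyExtends_of_coeff hI𝔞 G hG h0 h1' fun n => ?_
  obtain ⟨N, b, hb, hmin⟩ := GrothLib.CanExt7.exists_minimal_generators (R := R) (n + 1)
  have hpow : Ideal.span (Set.range fun k => φ (b k)) = I ^ (n + 1) := by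
    rw [h1, ← Ideal.map_pow, ← hb, Ideal.map_span, ← Set.range_comp]; rfl
  refine ⟨N, fun k => φ (b k), fun k => hpow.le (Ideal.subset_span ⟨k, rfl⟩), fun x hxI => ?_⟩
  let U := LocCoh.puncturedOpen A 𝔞
  let t := Algz.toStalk A (U : Scheme.{u}) x
  let μ := algebraMap ((U : Scheme.{u}).presheaf.stalk x) (Algz.hatRing I x)
  refine ⟨?_, fun z hz k => ?_⟩
  · show Ideal.span (Set.range fun k => t (φ (b k))) = (I.map t) ^ (n + 1)
    rw [← Ideal.map_pow, ← hpow, Ideal.map_span, ← Set.range_comp]; rfl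
  · have hflat := h2 x (show (I : Set A) ⊆ x.1.asIdeal from hxI)
    letI : Module R ↥(Algz.hatStalk I G x) := Module.compHom ↥(Algz.hatStalk I G x) (μ.comp (t.comp φ))
    haveI : Module.Flat R ↥(Algz.hatStalk I G x) := hflat
    refine Submodule.smul_induction_on (GrothLib.CanExt7.mem_maximal_smul_of_flat b hmin z hz k) ?_ fun a c ha hc => add_mem ha hc
    intro r hr v _
    refine Submodule.smul_mem_smul (?_ : μ (t (φ r)) ∈ Algz.hatIdeal I x) (Submodule.mem_top : v ∈ _)
    refine Ideal.mem_map_of_mem μ (?_ : t (φ r) ∈ Algz.stalkIdeal I x)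
    exact Ideal.mem_map_of_mem t (h1 ▸ Ideal.mem_map_of_mem φ hr)

end Groth.Agent.S12221
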