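import Groth.Statements.S12226
import Groth.Agent.Lib.Depth.HartogsUnit
-- import your own Groth.Agent.* helpers here

set_option autoImplicit false
universe u
open CategoryTheory CategoryTheory.Limits AlgebraicGeometry TopologicalSpace
open LocCoh

namespace Groth.Agent.S12226

/-- Let j : U → X be the inclusion of an open subscheme of a Noetherian scheme X and F a coherent
O_X-module such that F' = j_*(F|_U) is coherent. Then (a) for every point x of X outside U the stalk
F'_x has depth at least 2 over O_{X,x}, and (b) F → F' is the unique map with these properties: for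
every coherent O_X-module G and every map φ : F → G whose restriction to U is an isomorphism and
such that depth(G_x) ≥ 2 for all x outside U, there is exactly one map ψ : G → F' whose composite
with φ is the canonical map F → j_*(F|_U), and this ψ is an isomorphism. (The compatibility of this
construction with flat base change is not part of this statement.) -/
theorem result (X : Scheme.{u}) [IsNoetherian X] (U : X.Opens)
    (F : X.Modules) (hF : Coh.IsCoh F) (hF' : Coh.IsCoh ((Coh.push U.ι).obj (F.restrict U.ι))) :
    (∀ x : ↥X, x ∉ U → (2 : ℕ∞) ≤ LocCoh.depth (X.presheaf.stalk x)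
        (((Coh.push U.ι).obj (F.restrict U.ι)).presheaf.stalk x)) ∧
    ∀ (G : X.Modules) (hG : Coh.IsCoh G) (φ : F ⟶ G),
      IsIso ((Scheme.Modules.restrictFunctor U.ι).map φ) →
      (∀ x : ↥X, x ∉ U → (2 : ℕ∞) ≤ LocCoh.depth (X.presheaf.stalk x) (G.presheaf.stalk x)) →
        (∃! ψ : G ⟶ (Coh.push U.ι).obj (F.restrict U.ι),
            φ ≫ ψ = (Scheme.Modules.restrictAdjunction U.ι).unit.app F) ∧
          ∀ ψ : G ⟶ (Coh.push U.ι).obj (F.restrict U.ι),
            φ ≫ ψ = (Scheme.Modules.restrictAdjunction U.ι).unit.app F → IsIso ψ := by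
  let adj := Scheme.Modules.restrictAdjunction U.ι
  let R := Scheme.Modules.restrictFunctor U.ι
  have hd : ∀ x : ↥X, x ∉ U → (2 : ℕ∞) ≤ LocCoh.depth (X.presheaf.stalk x)
      (((Coh.push U.ι).obj (F.restrict U.ι)).presheaf.stalk x) := fun x hx => by
    have := hF'.1
    have := hF'.2
    exact GrothLib.Depth.depth_ge_two_of_bijective (U := U)
      (GrothLib.Depth.mres_push_bijective U _) hx
  refine ⟨hd, fun G hG φ hφ hdG => ?_⟩
  have := hG.1
  have := hG.2
  have : IsIso (adj.unit.app G) := GrothLib.Depth.isIso_unit_app hdG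
  have key : ∀ ψ : G ⟶ (Coh.push U.ι).obj (F.restrict U.ι),
      φ ≫ ψ = adj.unit.app F ↔
        ψ = adj.unit.app G ≫ (Coh.push U.ι).map (inv (R.map φ)) := by
    intro ψ
    constructor
    · intro h
      obtain ⟨θ, rfl⟩ := (adj.homEquiv G _).surjective ψ
      rw [← adj.homEquiv_naturality_left, ← adj.homEquiv_id, Equiv.apply_eq_iff_eq] at h
      rw [IsIso.eq_inv_of_hom_inv_id h]
      exact adj.homEquiv_unit _ _ _
    · rintro rfl
      rw [← Category.assoc, show φ ≫ adj.unit.app G = adj.unit.app F ≫ (Coh.push U.ι).map (R.map φ)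
        from adj.unit.naturality φ, Category.assoc, ← CategoryTheory.Functor.map_comp, IsIso.hom_inv_id,
        CategoryTheory.Functor.map_id]
      exact Category.comp_id _
  refine ⟨⟨_, (key _).mpr rfl, fun ψ h => (key ψ).mp h⟩, fun ψ h => ?_⟩
  rw [(key ψ).mp h]
  infer_instance


end Groth.Agent.S12226
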