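import Groth.Statements.S12227
import Groth.Agent.Lib.BoundedRoofs

set_option autoImplicit false
universe w v u
open CategoryTheory CategoryTheory.Limits
open CohDer

namespace Groth.Agent.S12227

/-- Full faithfulness of K⁻(A)[Qis⁻¹] → D⁻(A), written in terms of roofs. Let A be an abelian category
and K, L complexes which are zero above some degree, viewed in the homotopy category. Then every
morphism Qh(K) → Qh(L) in the derived category is Qh(s)⁻¹ ≫ Qh(f) for some quasi-isomorphism s : K'
→ K and map f : K' → L of K(A) with K' again zero above some degree; and two maps f₁, f₂ : K → L of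
K(A) become equal in D(A) only if s ≫ f₁ = s ≫ f₂ for some quasi-isomorphism s : K' → K with K' zero
above some degree. (That the kernel of K⁻(A) → D(A) consists of the acyclic complexes and that the
essential image is D⁻(A) are separate statements.) -/
theorem result {A : Type u} [Category.{v} A] [Abelian A] [HasDerivedCategory.{w} A]
    (K L : HomotopyCategory A (ComplexShape.up ℤ)) (a b : ℤ) [CochainComplex.IsStrictlyLE K.as a] [CochainComplex.IsStrictlyLE L.as b] :
    (∀ φ : DerivedCategory.Qh.obj K ⟶ DerivedCategory.Qh.obj L,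
      ∃ (K' : HomotopyCategory A (ComplexShape.up ℤ)) (n : ℤ) (_ : CochainComplex.IsStrictlyLE K'.as n) (s : K' ⟶ K) (f : K' ⟶ L),
        HomotopyCategory.quasiIso A (ComplexShape.up ℤ) s ∧ DerivedCategory.Qh.map s ≫ φ = DerivedCategory.Qh.map f) ∧
    (∀ f₁ f₂ : K ⟶ L, DerivedCategory.Qh.map f₁ = DerivedCategory.Qh.map f₂ →
      ∃ (K' : HomotopyCategory A (ComplexShape.up ℤ)) (n : ℤ) (_ : CochainComplex.IsStrictlyLE K'.as n) (s : K' ⟶ K),
        HomotopyCategory.quasiIso A (ComplexShape.up ℤ) s ∧ s ≫ f₁ = s ≫ f₂) := by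
  obtain ⟨K, rfl⟩ := HomotopyCategory.quotient_obj_surjective K
  have : CochainComplex.IsStrictlyLE K a := ‹CochainComplex.IsStrictlyLE _ a›
  refine ⟨fun φ => ?_, fun f₁ f₂ h => ?_⟩
  · obtain ⟨ψ, hψ⟩ := Localization.exists_rightFraction DerivedCategory.Qh
      (HomotopyCategory.quasiIso A (ComplexShape.up ℤ)) φ
    obtain ⟨X, s, hs, g, rfl⟩ := ψ.cases
    obtain ⟨X, rfl⟩ := HomotopyCategory.quotient_obj_surjective X
    obtain ⟨X', hX', i, hi⟩ := BoundedRoofs.exists_le a s hs
    refine ⟨X', a, hX', i ≫ s, i ≫ g, hi, ?_⟩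
    rw [hψ, Functor.map_comp, Functor.map_comp, Category.assoc]
    exact congrArg (DerivedCategory.Qh.map i ≫ ·)
      (MorphismProperty.RightFraction.map_s_comp_map
        (W := HomotopyCategory.quasiIso A (ComplexShape.up ℤ)) (MorphismProperty.RightFraction.mk s hs g) DerivedCategory.Qh _)
  · obtain ⟨X, s, hs, fac⟩ := (MorphismProperty.map_eq_iff_precomp DerivedCategory.Qh
      (HomotopyCategory.quasiIso A (ComplexShape.up ℤ)) f₁ f₂).1 h
    obtain ⟨X, rfl⟩ := HomotopyCategory.quotient_obj_surjective X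
    obtain ⟨X', hX', i, hi⟩ := BoundedRoofs.exists_le a s hs
    exact ⟨X', a, hX', i ≫ s, hi, by rw [Category.assoc, Category.assoc, fac]⟩

end Groth.Agent.S12227
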