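import Groth.Statements.S12228
import Groth.Agent.Lib.BoundedRoofs

set_option autoImplicit false
universe w v u
open CategoryTheory CategoryTheory.Limits
open CohDer

namespace Groth.Agent.S12228

/-- Full faithfulness of Kᵇ(A)[Qis⁻¹] → Dᵇ(A), written in terms of roofs. Let A be an abelian category
and K, L bounded complexes (zero outside a finite range of degrees), viewed in the homotopy
category. Then every morphism Qh(K) → Qh(L) in the derived category is Qh(f) ≫ Qh(t)⁻¹ for some map
f : K → L' and quasi-isomorphism t : L → L' of K(A) with L' again bounded; and two maps f₁, f₂ : K →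
L of K(A) become equal in D(A) only if f₁ ≫ t = f₂ ≫ t for some quasi-isomorphism t : L → L' with L'
bounded. -/
theorem result {A : Type u} [Category.{v} A] [Abelian A] [HasDerivedCategory.{w} A]
    (K L : HomotopyCategory A (ComplexShape.up ℤ)) (a b a' b' : ℤ) [CochainComplex.IsStrictlyGE K.as a] [CochainComplex.IsStrictlyLE K.as b]
    [CochainComplex.IsStrictlyGE L.as a'] [CochainComplex.IsStrictlyLE L.as b'] :
    (∀ φ : DerivedCategory.Qh.obj K ⟶ DerivedCategory.Qh.obj L,
      ∃ (L' : HomotopyCategory A (ComplexShape.up ℤ)) (m n : ℤ) (_ : CochainComplex.IsStrictlyGE L'.as m) (_ : CochainComplex.IsStrictlyLE L'.as n) (f : K ⟶ L') (t : L ⟶ L'),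
        HomotopyCategory.quasiIso A (ComplexShape.up ℤ) t ∧ φ ≫ DerivedCategory.Qh.map t = DerivedCategory.Qh.map f) ∧
    (∀ f₁ f₂ : K ⟶ L, DerivedCategory.Qh.map f₁ = DerivedCategory.Qh.map f₂ →
      ∃ (L' : HomotopyCategory A (ComplexShape.up ℤ)) (m n : ℤ) (_ : CochainComplex.IsStrictlyGE L'.as m) (_ : CochainComplex.IsStrictlyLE L'.as n) (t : L ⟶ L'),
        HomotopyCategory.quasiIso A (ComplexShape.up ℤ) t ∧ f₁ ≫ t = f₂ ≫ t) := by
  obtain ⟨K, rfl⟩ := HomotopyCategory.quotient_obj_surjective K
  obtain ⟨L, rfl⟩ := HomotopyCategory.quotient_obj_surjective L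
  have hK : CochainComplex.IsStrictlyLE K b := ‹CochainComplex.IsStrictlyLE
    ((HomotopyCategory.quotient A _).obj K).as b›
  have : CochainComplex.IsStrictlyLE L b' := ‹CochainComplex.IsStrictlyLE
    ((HomotopyCategory.quotient A _).obj L).as b'›
  have : CochainComplex.IsStrictlyGE L a' := ‹CochainComplex.IsStrictlyGE
    ((HomotopyCategory.quotient A _).obj L).as a'›
  have := CochainComplex.isStrictlyLE_of_le L b' (max b b') (le_max_right _ _)
  have hK' := CochainComplex.isStrictlyLE_of_le K b (max b b') (le_max_left _ _)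
  refine ⟨fun φ => ?_, fun f₁ f₂ h => ?_⟩
  · obtain ⟨ψ, hψ⟩ := Localization.exists_leftFraction DerivedCategory.Qh
      (HomotopyCategory.quasiIso A (ComplexShape.up ℤ)) φ
    obtain ⟨X, g, t, ht, rfl⟩ := ψ.cases
    obtain ⟨X, rfl⟩ := HomotopyCategory.quotient_obj_surjective X
    obtain ⟨M, N, hN, hN', π, i, t', ht', hi, htπ, hN''⟩ :=
      BoundedRoofs.exists_bounded a' (max b b') t ht
    obtain ⟨g', hg'⟩ := (hN'' ((HomotopyCategory.quotient A _).obj K) hK').1 (g ≫ π)
    refine ⟨N, a', max b b', hN, hN', g', t', ht', ?_⟩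
    have : IsIso (DerivedCategory.Qh.map i) :=
      Localization.inverts DerivedCategory.Qh (HomotopyCategory.quasiIso A (ComplexShape.up ℤ)) i hi
    rw [← cancel_mono (DerivedCategory.Qh.map i), Category.assoc, ← Functor.map_comp,
      ← Functor.map_comp, htπ, hg', Functor.map_comp, Functor.map_comp, hψ, ← Category.assoc,
      MorphismProperty.LeftFraction.map_comp_map_s]
  · obtain ⟨X, t, ht, fac⟩ := (MorphismProperty.map_eq_iff_postcomp DerivedCategory.Qh
      (HomotopyCategory.quasiIso A (ComplexShape.up ℤ)) f₁ f₂).1 h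
    obtain ⟨X, rfl⟩ := HomotopyCategory.quotient_obj_surjective X
    obtain ⟨M, N, hN, hN', π, i, t', ht', hi, htπ, hN''⟩ :=
      BoundedRoofs.exists_bounded a' (max b b') t ht
    refine ⟨N, a', max b b', hN, hN', t', ht', (hN'' ((HomotopyCategory.quotient A _).obj K) hK').2 _ _ ?_⟩
    rw [Category.assoc, Category.assoc, htπ, reassoc_of% fac]

end Groth.Agent.S12228
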