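import Groth.Statements.S12229
import Mathlib.Algebra.Homology.DerivedCategory.ShortExact
import Mathlib.CategoryTheory.Abelian.Exact

set_option autoImplicit false
universe w w' v v' u u'
open CategoryTheory CategoryTheory.Limits
open CohDer
open CategoryTheory.Pretriangulated

namespace Groth.Agent.S12229

lemma kernel_eq_image {A : Type u} [Category.{v} A] [Abelian A] {S : ShortComplex A} (h : S.Exact) :
    kernelSubobject S.g = imageSubobject S.f :=
  (S.exact_iff_image_eq_kernel.mp h).symm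

lemma transfer {A : Type u} [Category.{v} A] [Abelian A] {X Y Z X' Y' Z' : A} {f : X ⟶ Y}
    {g : Y ⟶ Z} {f' : X' ⟶ Y'} {g' : Y' ⟶ Z'} {w' : f' ≫ g' = 0}
    (h : (ShortComplex.mk f' g' w').Exact) (a : X ≅ X') (b : Y ≅ Y') (c : Z ≅ Z')
    (hf : a.hom ≫ f' = f ≫ b.hom) (hg : b.hom ≫ g' = g ≫ c.hom) :
    kernelSubobject g = imageSubobject f := by
  have w : f ≫ g = 0 := by
    rw [← cancel_mono c.hom, Category.assoc, ← hg, ← Category.assoc, ← hf, Category.assoc, w',
      comp_zero, zero_comp]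
  exact kernel_eq_image (S := ShortComplex.mk f g w)
    (ShortComplex.exact_of_iso (ShortComplex.isoMk a b c hf hg).symm h)

lemma conj_comm {A : Type u} [Category.{v} A] {X X' Y Y' : A} (a : X ≅ X') (b : Y ≅ Y')
    (d : X' ⟶ Y') : a.hom ≫ d = (a.hom ≫ d ≫ b.inv) ≫ b.hom := by simp

lemma shortExact_of {A : Type u} [Category.{v} A] [Abelian A] {X Y Z : A} (f : X ⟶ Y) (g : Y ⟶ Z)
    [Mono f] [Epi g] (hex : kernelSubobject g = imageSubobject f) :
    ∃ w : f ≫ g = 0, (ShortComplex.mk f g w).ShortExact := by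
  have w : f ≫ g = 0 := by
    have hle : imageSubobject f ≤ kernelSubobject g := hex.ge
    rw [← imageSubobject_arrow_comp f, ← Subobject.ofLE_arrow hle, Category.assoc, Category.assoc,
      kernelSubobject_arrow_comp, comp_zero, comp_zero]
  refine ⟨w, ⟨?_⟩⟩
  exact (ShortComplex.exact_iff_image_eq_kernel _).mpr hex.symm

section

variable {C : Type u} [Category.{v} C] [Abelian C] [HasDerivedCategory.{w} C] [EnoughInjectives C]

/-- Abbreviation: injective complexes into `D⁺`. -/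
noncomputable abbrev injQ : HomotopyCategory.Plus (InjectiveObject C) ⥤ DerivedCategory.Plus C :=
  (InjectiveObject.ι C).mapHomotopyCategoryPlus ⋙ DerivedCategory.Plus.Qh

lemma injQ_map_surjective {I J : HomotopyCategory.Plus (InjectiveObject C)}
    (φ : injQ.obj I ⟶ injQ.obj J) : ∃ ψ : I ⟶ J, injQ.map ψ = φ := by
  obtain ⟨⟨K⟩, hK⟩ := J
  have hK' : (HomotopyCategory.plus (InjectiveObject C))
      ((HomotopyCategory.quotient _ _).obj K) := hK
  obtain ⟨n, hn⟩ := (HomotopyCategory.plus_quotient_obj_iff _).mp hK'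
  let L := ((InjectiveObject.ι C).mapHomologicalComplex (.up ℤ)).obj K
  have : CochainComplex.IsStrictlyGE L n := by dsimp only [L]; infer_instance
  have (j : ℤ) : Injective (L.X j) := (K.X j).property
  obtain ⟨θ, hθ⟩ := (DerivedCategory.Plus.Qh_map_bijective_of_isKInjective _ _
    (CochainComplex.isKInjective_of_injective L n : CochainComplex.IsKInjective L)).2 φ
  obtain ⟨ψ, rfl⟩ := (InjectiveObject.ι C).mapHomotopyCategoryPlus.map_surjective θ
  exact ⟨ψ, hθ⟩

lemma exists_injQ_iso (A : DerivedCategory.Plus C) :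
    ∃ I : HomotopyCategory.Plus (InjectiveObject C), Nonempty (A ≅ injQ.obj I) := by
  obtain ⟨n, hn⟩ := A.2
  have : A.IsGE n := (DerivedCategory.Plus.isGE_ι_obj_iff A n).mp hn
  obtain ⟨L, -, ⟨e⟩⟩ := DerivedCategory.Plus.exists_injective_nonempty_iso A n
  exact ⟨(HomotopyCategory.Plus.quotient _).obj L, ⟨e.symm⟩⟩

end


/-- Let F : C → D be a left exact functor between abelian categories with C having enough injectives,
and let 0 → X₁ → X₂ → X₃ → 0 be a short exact sequence of bounded below complexes of C (maps f, g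
with f a monomorphism, g an epimorphism and ker g = im f, degreewise). Then there is a long exact
cohomology sequence … → H^i(RF X₁) → H^i(RF X₂) → H^i(RF X₃) → H^{i+1}(RF X₁) → …: for every i the
induced sequence is exact at H^i(RF X₂), and there is a connecting morphism H^i(RF X₃) → H^{i+1}(RF
X₁) with exactness at H^i(RF X₃) and at H^{i+1}(RF X₁). Here RF is the right derived functor on the
bounded below derived category and H^i is computed in D(D); exactness is expressed as equality of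
kernel and image subobjects. Existence of such a connecting morphism only; the canonical one coming
from the distinguished triangle of the short exact sequence is not named. -/
theorem result {C : Type u} [Category.{v} C] [Abelian C] [HasDerivedCategory.{w} C]
    [EnoughInjectives C] {D : Type u'} [Category.{v'} D] [Abelian D] [HasDerivedCategory.{w'} D]
    (F : C ⥤ D) [F.Additive] [PreservesFiniteLimits F]
    {X₁ X₂ X₃ : CochainComplex.Plus C} (f : X₁ ⟶ X₂) (g : X₂ ⟶ X₃)
    (hf : Mono ((CochainComplex.Plus.ι C).map f)) (hg : Epi ((CochainComplex.Plus.ι C).map g))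
    (hex : kernelSubobject ((CochainComplex.Plus.ι C).map g) = imageSubobject ((CochainComplex.Plus.ι C).map f))
    (i : ℤ) :
    let Φ := HomotopyCategory.Plus.quotient C ⋙ DerivedCategory.Plus.Qh ⋙ F.rightDerivedFunctorPlus ⋙
      DerivedCategory.Plus.ι ⋙ DerivedCategory.homologyFunctor D i
    let Ψ := HomotopyCategory.Plus.quotient C ⋙ DerivedCategory.Plus.Qh ⋙ F.rightDerivedFunctorPlus ⋙
      DerivedCategory.Plus.ι ⋙ DerivedCategory.homologyFunctor D (i + 1)
    kernelSubobject (Φ.map g) = imageSubobject (Φ.map f) ∧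
      ∃ δ : Φ.obj X₃ ⟶ Ψ.obj X₁,
        kernelSubobject δ = imageSubobject (Φ.map g) ∧ kernelSubobject (Ψ.map f) = imageSubobject δ := by
  intro Φ Ψ
  obtain ⟨w, hS⟩ := shortExact_of ((CochainComplex.Plus.ι C).map f) ((CochainComplex.Plus.ι C).map g) hex
  let QQ := HomotopyCategory.Plus.quotient C ⋙ DerivedCategory.Plus.Qh
  obtain ⟨I₁, ⟨e₁⟩⟩ := exists_injQ_iso (QQ.obj X₁)
  obtain ⟨I₂, ⟨e₂⟩⟩ := exists_injQ_iso (QQ.obj X₂)
  obtain ⟨φ, hφ⟩ := injQ_map_surjective (e₁.inv ≫ QQ.map f ≫ e₂.hom)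
  obtain ⟨I₃, ψ, δI, hT⟩ := distinguished_cocone_triangle φ
  let T := Triangle.mk φ ψ δI
  have hT₁ := (DerivedCategory.Plus.ι).map_distinguished _
    (DerivedCategory.Plus.Qh.map_distinguished _
      ((InjectiveObject.ι C).mapHomotopyCategoryPlus.map_distinguished T hT))
  let κ : QQ ⋙ DerivedCategory.Plus.ι ≅ CochainComplex.Plus.ι C ⋙ DerivedCategory.Q :=
    Functor.isoWhiskerLeft (CochainComplex.Plus.ι C) (DerivedCategory.quotientCompQhIso C)
  have hκ : ∀ {K L : CochainComplex.Plus C} (u : K ⟶ L),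
      DerivedCategory.Q.map ((CochainComplex.Plus.ι C).map u) ≫ κ.inv.app L =
        κ.inv.app K ≫ DerivedCategory.Plus.ι.map (QQ.map u) := fun u => κ.inv.naturality u
  let T₁ : Triangle (DerivedCategory C) := DerivedCategory.Plus.ι.mapTriangle.obj
    (DerivedCategory.Plus.Qh.mapTriangle.obj
      ((InjectiveObject.ι C).mapHomotopyCategoryPlus.mapTriangle.obj T))
  let a₁ : (CochainComplex.Plus.ι C ⋙ DerivedCategory.Q).obj X₁ ⟶
      DerivedCategory.Plus.ι.obj (injQ.obj I₁) :=
    κ.inv.app X₁ ≫ DerivedCategory.Plus.ι.map e₁.hom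
  let a₂ : (CochainComplex.Plus.ι C ⋙ DerivedCategory.Q).obj X₂ ⟶
      DerivedCategory.Plus.ι.obj (injQ.obj I₂) :=
    κ.inv.app X₂ ≫ DerivedCategory.Plus.ι.map e₂.hom
  have ha₁ : IsIso a₁ := inferInstance
  have ha₂ : IsIso a₂ := inferInstance
  let a₁' : (DerivedCategory.triangleOfSES hS).obj₁ ⟶ T₁.obj₁ := a₁
  let a₂' : (DerivedCategory.triangleOfSES hS).obj₂ ⟶ T₁.obj₂ := a₂
  have he₁ : QQ.map f ≫ e₂.hom = e₁.hom ≫ injQ.map φ := by rw [hφ, Iso.hom_inv_id_assoc]
  have comm' : DerivedCategory.Q.map ((CochainComplex.Plus.ι C).map f) ≫ a₂ =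
      a₁ ≫ DerivedCategory.Plus.ι.map (injQ.map φ) := by
    refine ((Category.assoc _ _ _).symm.trans (congrArg (· ≫ DerivedCategory.Plus.ι.map e₂.hom) (hκ f))).trans ?_
    simp only [a₁]
    rw [Category.assoc, Category.assoc, ← Functor.map_comp, ← Functor.map_comp, he₁]
  have comm : (DerivedCategory.triangleOfSES hS).mor₁ ≫ a₂' = a₁' ≫ T₁.mor₁ := comm'
  obtain ⟨c, hc₂, hc₃⟩ := complete_distinguished_triangle_morphism _ T₁
    (DerivedCategory.triangleOfSES_distinguished hS) hT₁ a₁' a₂' comm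
  have : IsIso c := isIso₃_of_isIso₁₂ (Triangle.homMk (DerivedCategory.triangleOfSES hS) T₁
    a₁' a₂' c comm hc₂ hc₃) (DerivedCategory.triangleOfSES_distinguished hS) hT₁ ha₁ ha₂
  let c' : (CochainComplex.Plus.ι C ⋙ DerivedCategory.Q).obj X₃ ⟶
      DerivedCategory.Plus.ι.obj (injQ.obj I₃) := c
  have hc' : IsIso c' := this
  have hc₂' : (CochainComplex.Plus.ι C ⋙ DerivedCategory.Q).map g ≫ c' =
      a₂ ≫ DerivedCategory.Plus.ι.map (injQ.map ψ) := hc₂
  let e₃ : QQ.obj X₃ ≅ injQ.obj I₃ :=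
    DerivedCategory.Plus.ι.preimageIso ((κ.app X₃) ≪≫ asIso c')
  have he₂ : QQ.map g ≫ e₃.hom = e₂.hom ≫ injQ.map ψ := by
    apply DerivedCategory.Plus.ι.map_injective
    have h3 : DerivedCategory.Plus.ι.map e₃.hom = κ.hom.app X₃ ≫ c' :=
      DerivedCategory.Plus.ι.map_preimage _
    rw [Functor.map_comp, Functor.map_comp, h3, ← Category.assoc]
    refine (congrArg (· ≫ c') (κ.hom.naturality g)).trans ?_
    simp only [Category.assoc, hc₂', a₂]
    exact Iso.hom_inv_id_app_assoc κ X₂ _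
  -- the derived functor on injective complexes
  let G := (InjectiveObject.ι C).mapHomotopyCategoryPlus ⋙ F.mapHomotopyCategoryPlus ⋙
    DerivedCategory.Plus.Qh
  have hu : ∀ I : HomotopyCategory.Plus (InjectiveObject C), IsIso (F.rightDerivedFunctorPlusUnit.app
      ((InjectiveObject.ι C).mapHomotopyCategoryPlus.obj I)) := fun I => inferInstance
  let ν : G ≅ injQ ⋙ F.rightDerivedFunctorPlus :=
    NatIso.ofComponents (fun I => @asIso _ _ _ _ _ (hu I))
      (fun u => F.rightDerivedFunctorPlusUnit.naturality _)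
  let H : ℤ → DerivedCategory.Plus D ⥤ D := fun j =>
    DerivedCategory.Plus.ι ⋙ DerivedCategory.homologyFunctor D j
  let b : ∀ (j : ℤ) (X : CochainComplex.Plus C) (I : HomotopyCategory.Plus (InjectiveObject C)),
      (QQ.obj X ≅ injQ.obj I) → ((H j).obj (F.rightDerivedFunctorPlus.obj (QQ.obj X)) ≅ (H j).obj (G.obj I)) :=
    fun j X I e => (H j).mapIso (F.rightDerivedFunctorPlus.mapIso e ≪≫ (ν.app I).symm)
  have hb : ∀ (j : ℤ) {X Y : CochainComplex.Plus C} {I J : HomotopyCategory.Plus (InjectiveObject C)}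
      (e : QQ.obj X ≅ injQ.obj I) (e' : QQ.obj Y ≅ injQ.obj J) (u : X ⟶ Y) (θ : I ⟶ J),
      QQ.map u ≫ e'.hom = e.hom ≫ injQ.map θ →
      (b j X I e).hom ≫ (H j).map (G.map θ) =
        (H j).map (F.rightDerivedFunctorPlus.map (QQ.map u)) ≫ (b j Y J e').hom := by
    intro j X Y I J e e' u θ h
    simp only [b, Functor.mapIso_hom, ← Functor.map_comp, Iso.trans_hom, Iso.symm_hom, Iso.app_inv,
      Category.assoc]
    congr 1
    rw [← ν.inv.naturality θ, ← Category.assoc, ← Category.assoc]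
    congr 1
    simp only [Functor.comp_map, ← Functor.map_comp, h]
  let T' := DerivedCategory.Plus.ι.mapTriangle.obj (DerivedCategory.Plus.Qh.mapTriangle.obj
    (F.mapHomotopyCategoryPlus.mapTriangle.obj
      ((InjectiveObject.ι C).mapHomotopyCategoryPlus.mapTriangle.obj T)))
  have hT' : T' ∈ distTriang _ :=
    DerivedCategory.Plus.ι.map_distinguished _ (DerivedCategory.Plus.Qh.map_distinguished _
      (F.mapHomotopyCategoryPlus.map_distinguished _
        ((InjectiveObject.ι C).mapHomotopyCategoryPlus.map_distinguished T hT)))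
  let δ : Φ.obj X₃ ⟶ Ψ.obj X₁ :=
    (b i X₃ I₃ e₃).hom ≫ DerivedCategory.HomologySequence.δ T' i (i + 1) rfl ≫
      (b (i + 1) X₁ I₁ e₁).inv
  refine ⟨?_, δ, ?_, ?_⟩
  · exact transfer (DerivedCategory.HomologySequence.exact₂ T' hT' i) (b i X₁ I₁ e₁) (b i X₂ I₂ e₂)
      (b i X₃ I₃ e₃) (hb i e₁ e₂ f φ he₁) (hb i e₂ e₃ g ψ he₂)
  · exact transfer (DerivedCategory.HomologySequence.exact₃ T' hT' i (i + 1) rfl) (b i X₂ I₂ e₂)
      (b i X₃ I₃ e₃) (b (i + 1) X₁ I₁ e₁) (hb i e₂ e₃ g ψ he₂)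
      (conj_comm (b i X₃ I₃ e₃) (b (i + 1) X₁ I₁ e₁) _)
  · exact transfer (DerivedCategory.HomologySequence.exact₁ T' hT' i (i + 1) rfl) (b i X₃ I₃ e₃)
      (b (i + 1) X₁ I₁ e₁) (b (i + 1) X₂ I₂ e₂)
      (conj_comm (b i X₃ I₃ e₃) (b (i + 1) X₁ I₁ e₁) _) (hb (i + 1) e₁ e₂ f φ he₁)

end Groth.Agent.S12229
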