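import Groth.Statements.S1223
import Mathlib
-- import your own Groth.Agent.* helpers here

set_option autoImplicit false
universe u
open FlatMor

namespace Groth.Agent.S1223

/-- Ring form, X = Spec B affine: a finite type, flat A-algebra B with geometrically integral fibres is
universally pure relative to Spec A. -/
theorem result {A B : Type u} [CommRing A] [CommRing B] [Algebra A B] [Algebra.FiniteType A B] [Module.Flat A B]
    (h : FlatCA.GeomIntegralFibres A B) : FlatCA.IsUnivPure A B B := by
  intro p _ A' B' N' _ _ _ _ _ _ _ _ _ _ _ _ _ _ f t' t _ _ P _ himp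
  obtain ⟨hpo, hf, hle, -, -, hass, hno⟩ := himp
  have hpo' : Algebra.IsPushout A A' B B' := Algebra.IsPushout.symm hpo
  have : Module.Flat A' B' := Module.Flat.of_linearEquiv hpo'.equiv.toLinearEquiv.symm
  have hdom : ∀ (q : Ideal A') [q.IsPrime], IsDomain (q.Fiber B') := by
    intro q _
    have sq1 := AlgebraicGeometry.isPullback_SpecMap_of_isPushout _ _ _ _
      (CommRingCat.isPushout_tensorProduct A' q.ResidueField B')
    have sq2 := AlgebraicGeometry.isPullback_SpecMap_of_isPushout _ _ _ _
      ((CommRingCat.isPushout_iff_isPushout (R := A) (S := A') (R' := B) (S' := B')).2 hpo)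
    have : AlgebraicGeometry.IsIntegral (AlgebraicGeometry.Spec (CommRingCat.of (q.Fiber B'))) :=
      AlgebraicGeometry.GeometricallyIntegral.geometrically_isIntegral (f := AlgebraicGeometry.Spec.map (CommRingCat.ofHom (algebraMap A B)))
        _ _ _ (sq1.flip.paste_horiz sq2)
    exact (AlgebraicGeometry.affine_isIntegral_iff (CommRingCat.of (q.Fiber B'))).1 this
  have : IsDomain (t'.Fiber B') := hdom t'
  letI := Algebra.TensorProduct.rightAlgebra (R := A') (A := t'.ResidueField) (B := B')
  let e : FlatCA.fiberMod t' B' N' ≃ₗ[t'.Fiber B'] t'.Fiber B' :=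
    (TensorProduct.AlgebraTensorModule.congr (LinearEquiv.refl (t'.Fiber B') (t'.Fiber B'))
      (hf.equiv.symm.trans (TensorProduct.AlgebraTensorModule.rid B B' B'))).trans
      (TensorProduct.AlgebraTensorModule.rid B' (t'.Fiber B') (t'.Fiber B'))
  have hbot : FlatCA.fiberIdeal t' P = ⊥ := by
    rw [LinearEquiv.AssociatedPrimes.eq e] at hass
    obtain ⟨hp, x, hx⟩ := hass
    have hx0 : x ≠ 0 := by
      rintro rfl
      refine hp.ne_top ?_
      rw [hx, Ideal.radical_eq_top, eq_top_iff]
      exact fun r _ => Submodule.mem_colon_singleton.2 (by simp)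
    rw [hx, eq_bot_iff]
    rintro r ⟨n, hn⟩
    have h1 : r ^ n * x = 0 := (Submodule.mem_bot _).1 (Submodule.mem_colon_singleton.1 hn)
    exact (Submodule.mem_bot _).2 (eq_zero_of_pow_eq_zero ((mul_eq_zero.1 h1).resolve_right hx0))
  obtain ⟨⟨Q, hQp⟩, hQ⟩ : (⟨t, inferInstance⟩ : PrimeSpectrum A') ∈ Set.range (PrimeSpectrum.comap (algebraMap A' B')) :=
    (PrimeSpectrum.nontrivial_iff_mem_rangeComap (R := A') (S := B') ⟨t, inferInstance⟩).1 (hdom t).toNontrivial
  have : Q.LiesOver t := ⟨(congrArg PrimeSpectrum.asIdeal hQ).symm⟩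
  obtain ⟨P'', hP''Q, hP''p, hP''⟩ := Ideal.exists_ideal_le_liesOver_of_le (p := t') (q := t) Q hle
  refine hno Q (le_trans ?_ hP''Q) ‹_›
  intro x hx
  let ψ : t'.Fiber B' →ₐ[A'] P''.ResidueField :=
    Algebra.TensorProduct.lift (Ideal.ResidueField.mapₐ t' P'' (Algebra.ofId A' B') hP''.over)
      (IsScalarTower.toAlgHom A' B' P''.ResidueField) (fun _ _ => Commute.all _ _)
  have h0 : Algebra.TensorProduct.includeRight (R := A') (A := t'.ResidueField) (B := B') x = 0 := by
    have : Algebra.TensorProduct.includeRight (R := A') (A := t'.ResidueField) (B := B') x ∈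
        FlatCA.fiberIdeal t' P := Ideal.mem_map_of_mem _ hx
    rwa [hbot] at this
  have h1 := congrArg ψ h0
  rw [map_zero] at h1
  simp only [ψ, Algebra.TensorProduct.includeRight_apply, Algebra.TensorProduct.lift_tmul, map_one,
    one_mul] at h1
  exact Ideal.algebraMap_residueField_eq_zero.1 h1

end Groth.Agent.S1223
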