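import Groth.Statements.S12230
import Groth.Agent.Lib.FibCat.Factorization


set_option autoImplicit false
set_option backward.isDefEq.respectTransparency false
set_option backward.isDefEq.respectTransparency.types false
universe v u
open CategoryTheory
open FibCat

namespace Groth.Agent.S12230

open GrothLib.FibCat CategoryTheory.Functor

/-- Let C be a category and F : 𝒳 → 𝒴 a 1-morphism of fibred categories over C. Then there are a fibred
category 𝒳' over C and 1-morphisms of fibred categories u : 𝒳 → 𝒳', v : 𝒳' → 𝒴, w : 𝒳' → 𝒳 over C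
with F = v ∘ u such that u is fully faithful with w as its left adjoint, and v : 𝒳' → 𝒴 makes 𝒳' a
fibred category over 𝒴. (Stated for 𝒳, 𝒴 whose morphisms live in the universe of the morphisms of C
and whose objects live one universe level up, the size of categories of C-data; the adjunction w ⊣ u
is of the underlying functors.) -/
theorem result {C : Type u} [Category.{v} C]
    {𝒳 𝒴 : BasedCategory.{v, max u v} C} [𝒳.p.IsFibered] [𝒴.p.IsFibered]
    (F : 𝒳 ⥤ᵇ 𝒴) (hF : FibCat.PreservesStronglyCartesian F) :
    ∃ (𝒳' : BasedCategory.{v, max u v} C) (u : 𝒳 ⥤ᵇ 𝒳') (v : 𝒳' ⥤ᵇ 𝒴) (w : 𝒳' ⥤ᵇ 𝒳),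
      𝒳'.p.IsFibered ∧ FibCat.PreservesStronglyCartesian u ∧ FibCat.PreservesStronglyCartesian v ∧
        FibCat.PreservesStronglyCartesian w ∧ BasedFunctor.comp u v = F ∧
        u.toFunctor.Full ∧ u.toFunctor.Faithful ∧ Nonempty (w.toFunctor ⊣ u.toFunctor) ∧
        v.toFunctor.IsFibered := by
  refine ⟨Factorization.tot F, Factorization.inc F, Factorization.proj F, Factorization.ret F,
    Factorization.isFibered_tot hF, fun R S f a b φ h => Factorization.isStronglyCartesian_of_components hF f _ h (hF f φ h),
    fun R S f a b φ h => (Factorization.components_of_isStronglyCartesian hF f φ h).2,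
    fun R S f a b φ h => (Factorization.components_of_isStronglyCartesian hF f φ h).1, rfl, ⟨fun {x x'} φ => ?_⟩,
    ⟨fun {x x'} {φ ψ} e => congrArg Factorization.Hom.a e⟩, ⟨Factorization.adj F⟩, Factorization.isFibered_proj hF⟩
  refine ⟨φ.a, Factorization.hom_ext rfl ?_⟩
  have := φ.w
  change φ.c ≫ 𝟙 _ = 𝟙 _ ≫ F.map φ.a at this
  rw [Category.comp_id, Category.id_comp] at this
  exact this.symm

end Groth.Agent.S12230
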