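import Groth.Statements.S12232
import Groth.Agent.Lib.KInj.Adjoint
import Mathlib.Algebra.Category.ModuleCat.AB
import Mathlib.CategoryTheory.Monad.Adjunction

set_option autoImplicit false
universe w w' v u
open CategoryTheory CategoryTheory.Limits
open CohDer

namespace Groth.Agent.S12232

/-- Let C be a Grothendieck abelian category, U a generator, R = End(U)ᵒᵖ, G = Hom(U, −) : C → Mod_R and
F : Mod_R → C its left adjoint, which is exact and makes G fully faithful (Gabriel–Popescu). Then on
derived categories F : D(Mod_R) → D(C) (induced by the exact functor F) is left adjoint to the total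
right derived functor RG : D(C) → D(Mod_R), RG is fully faithful, and F ∘ RG ≅ id. Existence of the
adjunction and of the isomorphism is asserted (the derived unit/counit are not named); the existence
of RG and the exactness and additivity of F are carried as instance hypotheses, all of which hold. -/
theorem result {C : Type u} [Category.{v} C] [Abelian C]
    [IsGrothendieckAbelian.{v} C] [HasDerivedCategory.{w} C] (U : C) (hU : IsSeparator U)
    [HasDerivedCategory.{w'} (ModuleCat.{v} (End U)ᵐᵒᵖ)]
    [(IsGrothendieckAbelian.tensorObj U).Additive] [PreservesFiniteLimits (IsGrothendieckAbelian.tensorObj U)]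
    [PreservesFiniteColimits (IsGrothendieckAbelian.tensorObj U)]
    [((preadditiveCoyonedaObj U).mapHomotopyCategory (ComplexShape.up ℤ) ⋙ DerivedCategory.Qh).HasRightDerivedFunctor
      (HomotopyCategory.quasiIso C (ComplexShape.up ℤ))] :
    let RG := ((preadditiveCoyonedaObj U).mapHomotopyCategory (ComplexShape.up ℤ) ⋙ DerivedCategory.Qh).totalRightDerived
      DerivedCategory.Qh (HomotopyCategory.quasiIso C (ComplexShape.up ℤ))
    let LF := (IsGrothendieckAbelian.tensorObj U).mapDerivedCategory
    Nonempty (LF ⊣ RG) ∧ RG.Full ∧ RG.Faithful ∧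
      Nonempty (RG ⋙ LF ≅ 𝟭 (DerivedCategory C)) := by
  intro RG LF
  let adj := IsGrothendieckAbelian.tensorObjPreadditiveCoyonedaObjAdjunction U
  have := IsGrothendieckAbelian.GabrielPopescu.full U hU
  have := (isSeparator_iff_faithful_preadditiveCoyonedaObj U).1 hU
  obtain ⟨a⟩ := GrothLib.KInj.nonempty_mapDerivedCategory_adj_totalRightDerived adj
  let G := preadditiveCoyonedaObj U
  let L := IsGrothendieckAbelian.tensorObj U
  let j : RG ⋙ LF ≅ 𝟭 (DerivedCategory C) :=
    Functor.isoWhiskerRight (GrothLib.KInj.totalRightDerivedIso _) LF ≪≫ Functor.associator _ _ _ ≪≫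
      Functor.isoWhiskerLeft _ (Functor.associator _ _ _ ≪≫
        Functor.isoWhiskerLeft _ L.mapDerivedCategoryFactorsh ≪≫ (Functor.associator _ _ _).symm ≪≫
        Functor.isoWhiskerRight (Functor.mapHomotopyCategoryCompIso (asIso adj.counit) (ComplexShape.up ℤ) ≪≫
          NatIso.ofComponents (fun K => (HomotopyCategory.quotient C _).mapIso
            ((Functor.mapHomologicalComplexIdIso C (ComplexShape.up ℤ)).app K.as)) (by
              rintro ⟨K⟩ ⟨K'⟩ ⟨f : K ⟶ K'⟩
              change (HomotopyCategory.quotient C _).map _ ≫ (HomotopyCategory.quotient C _).map _ =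
                (HomotopyCategory.quotient C _).map _ ≫ (HomotopyCategory.quotient C _).map f
              rw [← Functor.map_comp, ← Functor.map_comp]
              exact congrArg _ ((Functor.mapHomologicalComplexIdIso C (ComplexShape.up ℤ)).hom.naturality f)) :
            _ ≅ 𝟭 _) DerivedCategory.Qh ≪≫ Functor.leftUnitor _) ≪≫
      asIso (GrothLib.KInj.resAdj C).counit
  have h := a.fullyFaithfulROfCompIsoId j
  exact ⟨⟨a⟩, h.full, h.faithful, ⟨j⟩⟩

end Groth.Agent.S12232
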