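import Groth.Statements.S12233
import Groth.Agent.Lib.FlatTor.Localised
import Mathlib.RingTheory.IsTensorProduct
import Mathlib.RingTheory.Localization.BaseChange
import Mathlib.RingTheory.TensorProduct.Basic


set_option autoImplicit false
universe u
open scoped TensorProduct
open CAlg

namespace Groth.Agent.S12233

/-- Let R → S, R → R', S → S' and R' → S' be local homomorphisms of Noetherian local rings forming a
commutative square, I ⊊ R an ideal, M a finite S-module, I' = IR' and M' = M ⊗_S S' (given through a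
base-change map f : M → M'). Assume (1) S' is a localization of S ⊗_R R' via the induced map, (2)
M/IM is flat over R/I, and (3) the map Tor_1^R(M, R/I) → Tor_1^{R'}(M', R'/I') is zero — with
Tor_1(−, R/I) computed as the kernel of I ⊗_R M → M, this says that every element of that kernel
goes to zero under the natural map I ⊗_R M → I' ⊗_{R'} M'. Then M' is flat over R'. -/
theorem result
    (R S R' S' : Type u) [CommRing R] [CommRing S] [CommRing R'] [CommRing S']
    [IsLocalRing R] [IsLocalRing S] [IsLocalRing R'] [IsLocalRing S']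
    [IsNoetherianRing R] [IsNoetherianRing S] [IsNoetherianRing R'] [IsNoetherianRing S']
    [Algebra R S] [Algebra R R'] [Algebra S S'] [Algebra R' S'] [Algebra R S']
    [IsScalarTower R S S'] [IsScalarTower R R' S']
    [IsLocalHom (algebraMap R S)] [IsLocalHom (algebraMap R R')] [IsLocalHom (algebraMap S S')]
    [IsLocalHom (algebraMap R' S')]
    (I : Ideal R) (hI : I ≠ ⊤) (M : Type u) [AddCommGroup M] [Module S M] [Module R M] [IsScalarTower R S M]
    [Module.Finite S M]
    (M' : Type u) [AddCommGroup M'] [Module S' M'] [Module R' M'] [IsScalarTower R' S' M']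
    [Module S M'] [IsScalarTower S S' M'] [Module R M'] [IsScalarTower R R' M'] [IsScalarTower R S M']
    (f : M →ₗ[S] M') (hf : IsBaseChange S' f)
    (h1 : ∃ W : Submonoid (S ⊗[R] R'),
      letI : Algebra (S ⊗[R] R') S' :=
        (Algebra.TensorProduct.lift (IsScalarTower.toAlgHom R S S') (IsScalarTower.toAlgHom R R' S')
          (fun s r => Commute.all _ _)).toRingHom.toAlgebra;
      IsLocalization W S')
    (h2 : Module.Flat (R ⧸ I) ((R ⧸ I) ⊗[R] M))
    (h3 : ∀ x : ↥I ⊗[R] M, (Submodule.subtype I).rTensor M x = 0 →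
      (TensorProduct.mapOfCompatibleSMul R' R R ↥(I.map (algebraMap R R')) M')
        ((TensorProduct.map (Algebra.idealMap R' I) (f.restrictScalars R)) x) = 0) :
    Module.Flat R' M' := by
  obtain ⟨W, hW⟩ := h1
  let ψ : (S ⊗[R] R') →ₐ[R] S' := Algebra.TensorProduct.lift (IsScalarTower.toAlgHom R S S')
    (IsScalarTower.toAlgHom R R' S') (fun s r => Commute.all _ _)
  letI : Algebra (S ⊗[R] R') S' := ψ.toRingHom.toAlgebra
  haveI : IsLocalization W S' := hW
  letI : Algebra R' (S ⊗[R] R') := Algebra.TensorProduct.rightAlgebra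
  haveI : IsScalarTower R' (S ⊗[R] R') S' := IsScalarTower.of_algebraMap_eq fun r => by
    show algebraMap R' S' r = ψ ((1 : S) ⊗ₜ[R] r)
    simp [ψ]
  haveI : IsScalarTower S (S ⊗[R] R') S' := IsScalarTower.of_algebraMap_eq fun s => by
    show algebraMap S S' s = ψ (s ⊗ₜ[R] (1 : R'))
    simp [ψ]
  letI : Module (S ⊗[R] R') M' := Module.compHom M' (algebraMap (S ⊗[R] R') S')
  haveI : IsScalarTower (S ⊗[R] R') S' M' := IsScalarTower.of_algebraMap_smul fun _ _ => rfl
  haveI : IsScalarTower S (S ⊗[R] R') M' := IsScalarTower.of_algebraMap_smul fun s m => by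
    show algebraMap (S ⊗[R] R') S' (algebraMap S (S ⊗[R] R') s) • m = s • m
    rw [← IsScalarTower.algebraMap_apply, algebraMap_smul]
  haveI : IsScalarTower R' (S ⊗[R] R') M' := IsScalarTower.of_algebraMap_smul fun r m => by
    show algebraMap (S ⊗[R] R') S' (algebraMap R' (S ⊗[R] R') r) • m = r • m
    rw [← IsScalarTower.algebraMap_apply, algebraMap_smul]
  haveI : Algebra.IsPushout R R' S (S ⊗[R] R') := TensorProduct.isPushout'
  let ι : (S ⊗[R] R') ⊗[S] M →ₗ[S ⊗[R] R'] M' := f.liftBaseChange (S ⊗[R] R')
  have hι : IsBaseChange S' ι :=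
    IsBaseChange.of_comp (TensorProduct.isBaseChange S M (S ⊗[R] R')) (by
      convert hf using 1
      exact LinearMap.ext fun m => by simp [ι])
  haveI : IsLocalizedModule W ι := (isLocalizedModule_iff_isBaseChange W S' ι).2 hι
  let e : (S ⊗[R] R') ⊗[S] M ≃ₗ[R'] R' ⊗[R] M :=
    Algebra.IsPushout.cancelBaseChange R R' S (S ⊗[R] R') M
  haveI : Module.Finite S' M' := Module.Finite.equiv hf.equiv
  refine GrothLib.FlatTor.flat_localised_baseChange R' (S' := S') I ?_ h2 e W ι fun x hx => ?_
  · refine le_trans ?_ (IsLocalRing.maximalIdeal_le_jacobson _)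
    refine (Ideal.map_mono ?_).trans (IsLocalRing.map_maximalIdeal_le (algebraMap R' S'))
    exact (Ideal.map_mono (IsLocalRing.le_maximalIdeal hI)).trans
      (IsLocalRing.map_maximalIdeal_le (algebraMap R R'))
  · have hcomp : (ι.restrictScalars R' ∘ₗ e.symm.toLinearMap).restrictScalars R ∘ₗ
        TensorProduct.mk R R' M 1 = f.restrictScalars R := LinearMap.ext fun m => by
      simp [ι, e]
    rw [hcomp]
    exact h3 x hx

end Groth.Agent.S12233
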