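import Groth.Statements.S12244
import Groth.Agent.Lib.DevBC13.Complete
import Groth.Agent.Lib.RG6.Dev.Elem
-- import your own Groth.Agent.* helpers here

set_option autoImplicit false
universe u
open FlatMor

namespace Groth.Agent.S12244

open TensorProduct in
/-- All schemes are affine. Let R → S be of finite type, N a finite S-module, p ⊆ R and q ⊆ S primes, 𝒟
a complete dévissage of N/S/R over p in the prelude's algebraic form and 𝒜 a datum making it a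
complete dévissage at q (primes qB_i ⊆ B_i over p with purely transcendental residue fields, unique
primes qA_i ⊆ A_i over them, threaded through q and through the maps B_i → A_{i+1}, relative
dimensions d_i of R → B_i equal to the local dimension of the fibre support of M_i at qB_i). Let R →
R' be a ring map and p' a prime over p with κ(p) → κ(p') bijective, S' the base change of S, N' = N
⊗_S S', and q' a prime of S' over q and over p'. Let 𝒟' be a complete dévissage of N'/S'/R' over p'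
of the same length whose rings A'_i, B'_i (i below the length) are base changes of A_i, B_i along R
→ R' compatibly with B_i → A_i, B_i → A_{i+1}, S → A_0 and S' → A'_0, and whose modules M'_i are
base changes of M_i along A_i → A'_i compatibly with N ≅ M_0 and N' ≅ M'_0. Assume moreover that at
every index at or beyond the length the ring B'_i has a prime over p' and A'_i a prime over that one
(the structure's families run over all natural numbers and constrain nothing at those indices, while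
a datum at a point asks for such primes at every index; the condition touches only this
unconstrained tail and holds, for instance, when the tail repeats the last genuine step — without it
the zero ring could sit there and no datum would exist). Then 𝒟' is a complete dévissage at q' with
the same relative dimensions: there is a datum 𝒜' for (𝒟', q') with d' = d whose primes qB'_i, qA'_i
lie over qB_i, qA_i for every step i below the length. -/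
theorem result
    (R S : Type u) [CommRing R] [CommRing S] [Algebra R S] [Algebra.FiniteType R S]
    (N : Type u) [AddCommGroup N] [Module S N] [Module.Finite S N]
    (p : Ideal R) [p.IsPrime] (q : Ideal S) [q.IsPrime] (𝒟 : FlatCA.CompleteDevissage R S N p)
    (𝒜 : FlatCA.CompleteDevissageAt R S N p q 𝒟)
    (R' : Type u) [CommRing R'] [Algebra R R'] (p' : Ideal R') [p'.IsPrime] [hp' : p'.LiesOver p]
    (hκ : Function.Bijective (Ideal.ResidueField.mapₐ p p' (Algebra.ofId R R') hp'.over))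
    (S' : Type u) [CommRing S'] [Algebra R' S'] [Algebra R S'] [Algebra S S'] [IsScalarTower R R' S']
    [IsScalarTower R S S'] [Algebra.IsPushout R R' S S']
    (N' : Type u) [AddCommGroup N'] [Module S' N'] [Module S N'] [IsScalarTower S S' N']
    (f : N →ₗ[S] N') (hf : IsBaseChange S' f)
    (q' : Ideal S') [q'.IsPrime] [q'.LiesOver q] [q'.LiesOver p']
    (𝒟' : FlatCA.CompleteDevissage R' S' N' p') (hn : 𝒟'.n = 𝒟.n)
    (htail : ∀ i, 𝒟.n ≤ i → ∃ (Q : Ideal (𝒟'.B i)) (P : Ideal (𝒟'.A i)),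
      Q.IsPrime ∧ P.IsPrime ∧ Q.LiesOver p' ∧ P.LiesOver Q)
    [aA : ∀ i : Fin 𝒟.n, Algebra (𝒟.A i) (𝒟'.A i)] [rA : ∀ i : Fin 𝒟.n, Algebra R (𝒟'.A i)]
      [∀ i : Fin 𝒟.n, IsScalarTower R (R') (𝒟'.A i)] [∀ i : Fin 𝒟.n, IsScalarTower R (𝒟.A i) (𝒟'.A i)]
      [aB : ∀ i : Fin 𝒟.n, Algebra (𝒟.B i) (𝒟'.B i)] [rB : ∀ i : Fin 𝒟.n, Algebra R (𝒟'.B i)]
      [∀ i : Fin 𝒟.n, IsScalarTower R (R') (𝒟'.B i)] [∀ i : Fin 𝒟.n, IsScalarTower R (𝒟.B i) (𝒟'.B i)]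
      [bA : ∀ i : Fin 𝒟.n, Algebra (𝒟.B i) (𝒟'.A i)] [∀ i : Fin 𝒟.n, IsScalarTower (𝒟.B i) (𝒟.A i) (𝒟'.A i)]
      [∀ i : Fin 𝒟.n, IsScalarTower (𝒟.B i) (𝒟'.B i) (𝒟'.A i)]
      [bA' : ∀ i : Fin 𝒟.n, Algebra (𝒟.B i) (𝒟'.A (i + 1))]
      [∀ i : Fin 𝒟.n, IsScalarTower (𝒟.B i) (𝒟'.B i) (𝒟'.A (i + 1))]
      [sA : Algebra S (𝒟'.A 0)] [IsScalarTower S (S') (𝒟'.A 0)]
      [mA : ∀ i : Fin 𝒟.n, Module (𝒟.A i) (𝒟'.M i)] [∀ i : Fin 𝒟.n, IsScalarTower (𝒟.A i) (𝒟'.A i) (𝒟'.M i)]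
      (gM : ∀ i : Fin 𝒟.n, 𝒟.M i →ₗ[𝒟.A i] 𝒟'.M i)
    (hbc : (letI := aA ⟨0, 𝒟.pos⟩; IsScalarTower S (𝒟.A 0) (𝒟'.A 0)) ∧
      (∀ x : N, 𝒟'.isoN (f x) = gM ⟨0, 𝒟.pos⟩ (𝒟.isoN x)) ∧
      (∀ (i : Fin 𝒟.n) (h : (i : ℕ) + 1 < 𝒟.n),
        letI := aA ⟨i + 1, h⟩; IsScalarTower (𝒟.B i) (𝒟.A (i + 1)) (𝒟'.A (i + 1))) ∧
      ∀ i : Fin 𝒟.n,
        Algebra.IsPushout R R' (𝒟.A i) (𝒟'.A i) ∧ Algebra.IsPushout R R' (𝒟.B i) (𝒟'.B i) ∧
        IsBaseChange (𝒟'.A i) (gM i)) :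
    ∃ 𝒜' : FlatCA.CompleteDevissageAt R' S' N' p' q' 𝒟', 𝒜'.d = 𝒜.d ∧
      ∀ i : Fin 𝒟.n, (𝒜'.qB i).LiesOver (𝒜.qB i) ∧ (𝒜'.qA i).LiesOver (𝒜.qA i) := by
  haveI := 𝒜.hqB
  haveI := 𝒜.hqA
  haveI := 𝒜.overB
  haveI := 𝒜.overA
  obtain ⟨h0, hN, hstep, hall⟩ := hbc
  haveI hqp : ∀ i, (𝒜.qA i).LiesOver p := fun i => Ideal.LiesOver.trans (𝒜.qA i) (𝒜.qB i) p
  have hpts : ∀ i, ∃ (Q : Ideal (𝒟'.B i)) (P : Ideal (𝒟'.A i)), Q.IsPrime ∧ P.IsPrime ∧ Q.LiesOver p' ∧ P.LiesOver Q ∧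
      ∀ h : i < 𝒟.n, (letI : Algebra (𝒟.A i) (𝒟'.A i) := aA ⟨i, h⟩; P.comap (algebraMap (𝒟.A i) (𝒟'.A i)) = 𝒜.qA i) ∧
        (letI : Algebra (𝒟.B i) (𝒟'.B i) := aB ⟨i, h⟩; Q.comap (algebraMap (𝒟.B i) (𝒟'.B i)) = 𝒜.qB i) := by
    intro i
    by_cases h : i < 𝒟.n
    · let j : Fin 𝒟.n := ⟨i, h⟩
      haveI := (hall j).1
      obtain ⟨P, hP, hPq, hPp⟩ := GrothLib.DevBC13.exists_liesOver (S := 𝒟.A j) (S' := 𝒟'.A j) p p' hκ (𝒜.qA j)
      refine ⟨P.comap (algebraMap (𝒟'.B j) (𝒟'.A j)), P, inferInstance, hP, ⟨?_⟩, ⟨rfl⟩, fun _ => ⟨hPq.over.symm, ?_⟩⟩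
      · rw [Ideal.under, Ideal.comap_comap, ← IsScalarTower.algebraMap_eq]; exact hPp.over
      · rw [(𝒜.overA j).over, hPq.over, Ideal.under, Ideal.under, Ideal.comap_comap, Ideal.comap_comap,
          ← IsScalarTower.algebraMap_eq (𝒟.B j) (𝒟'.B j) (𝒟'.A j), ← IsScalarTower.algebraMap_eq (𝒟.B j) (𝒟.A j) (𝒟'.A j)]
    · obtain ⟨Q, P, h1, h2, h3, h4⟩ := htail i (not_lt.1 h)
      exact ⟨Q, P, h1, h2, h3, h4, fun h' => absurd h' h⟩
  choose qB' qA' hqB' hqA' hBp' hAB' hover using hpts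
  haveI := hqB'
  haveI := hqA'
  haveI := hBp'
  haveI := hAB'
  haveI hAp' : ∀ i, (qA' i).LiesOver p' := fun i => Ideal.LiesOver.trans (qA' i) (qB' i) p'
  haveI hAA : ∀ i : Fin 𝒟.n, (qA' i).LiesOver (𝒜.qA i) := fun i => ⟨(hover i i.2).1.symm⟩
  haveI hBB : ∀ i : Fin 𝒟.n, (qB' i).LiesOver (𝒜.qB i) := fun i => ⟨(hover i i.2).2.symm⟩
  refine ⟨⟨qB', qA', fun i hi => ?_, fun i hi P _ hP => ?_, ?_, fun i hi => ?_, 𝒜.d, fun i hi => ?_, fun i hi => ?_⟩, rfl,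
    fun i => ⟨hBB i, hAA i⟩⟩
  · obtain ⟨j, rfl⟩ : ∃ j : Fin 𝒟.n, (j : ℕ) = i := ⟨⟨i, hn ▸ hi⟩, rfl⟩
    haveI := (hall j).2.1
    exact GrothLib.RG6.Dev.purelyTranscendental_map p (𝒜.qB j) p' (qB' j) hp' inferInstance hκ
      (GrothLib.DevBC13.bijective_residueField (S := 𝒟.B j) (S' := 𝒟'.B j) p p' hκ (𝒜.qB j) (qB' j))
      (𝒜.pureTrans j j.2)
  · obtain ⟨j, rfl⟩ : ∃ j : Fin 𝒟.n, (j : ℕ) = i := ⟨⟨i, hn ▸ hi⟩, rfl⟩
    haveI := (hall j).1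
    haveI := hP
    haveI : P.LiesOver p' := Ideal.LiesOver.trans P (qB' j) p'
    haveI : (P.comap (algebraMap (𝒟.A j) (𝒟'.A j))).LiesOver (𝒜.qB j) := ⟨by
      rw [(hBB j).over, hP.over, Ideal.under, Ideal.under, Ideal.under, Ideal.comap_comap, Ideal.comap_comap,
        ← IsScalarTower.algebraMap_eq (𝒟.B j) (𝒟'.B j) (𝒟'.A j), ← IsScalarTower.algebraMap_eq (𝒟.B j) (𝒟.A j) (𝒟'.A j)]⟩
    haveI : P.LiesOver (𝒜.qA j) := ⟨(𝒜.uniq j j.2 (P.comap (algebraMap (𝒟.A j) (𝒟'.A j))) inferInstance).symm⟩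
    exact GrothLib.DevBC13.eq_of_liesOver (S := 𝒟.A j) (S' := 𝒟'.A j) p p' hκ (𝒜.qA j) P (qA' j)
  · letI := aA ⟨0, 𝒟.pos⟩
    haveI := h0
    haveI hq₁ : ((qA' 0).comap (algebraMap S' (𝒟'.A 0))).LiesOver q := ⟨by
      rw [Ideal.under, Ideal.comap_comap, ← IsScalarTower.algebraMap_eq S S' (𝒟'.A 0),
        IsScalarTower.algebraMap_eq S (𝒟.A 0) (𝒟'.A 0), ← Ideal.comap_comap]
      exact (congrArg (Ideal.comap (algebraMap S (𝒟.A 0))) (hover 0 𝒟.pos).1).trans 𝒜.q0 |>.symm⟩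
    haveI : ((qA' 0).comap (algebraMap S' (𝒟'.A 0))).LiesOver p' := ⟨by
      rw [Ideal.under, Ideal.comap_comap, ← IsScalarTower.algebraMap_eq R' S' (𝒟'.A 0)]
      exact (hAp' 0).over⟩
    haveI : q.LiesOver p := ⟨by
      rw [← 𝒜.q0, Ideal.under, Ideal.comap_comap, ← IsScalarTower.algebraMap_eq R S (𝒟.A 0)]
      exact (hqp 0).over⟩
    exact GrothLib.DevBC13.eq_of_liesOver (S := S) (S' := S') p p' hκ q _ q'
  · obtain ⟨j, rfl⟩ : ∃ j : Fin 𝒟.n, (j : ℕ) = i := ⟨⟨i, by omega⟩, rfl⟩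
    have hj : (j : ℕ) + 1 < 𝒟.n := by omega
    letI := aA ⟨j + 1, hj⟩
    haveI := hstep j hj
    haveI := (hall j).2.1
    haveI : ((qA' (j + 1)).comap (algebraMap (𝒟'.B j) (𝒟'.A (j + 1)))).LiesOver p' := ⟨by
      rw [Ideal.under, Ideal.comap_comap, ← IsScalarTower.algebraMap_eq R' (𝒟'.B j) (𝒟'.A (j + 1))]
      exact (hAp' _).over⟩
    haveI : ((qA' (j + 1)).comap (algebraMap (𝒟'.B j) (𝒟'.A (j + 1)))).LiesOver (𝒜.qB j) := ⟨by
      rw [← 𝒜.qStep j hj, Ideal.under, Ideal.comap_comap,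
        ← IsScalarTower.algebraMap_eq (𝒟.B j) (𝒟'.B j) (𝒟'.A (j + 1)),
        IsScalarTower.algebraMap_eq (𝒟.B j) (𝒟.A (j + 1)) (𝒟'.A (j + 1)), ← Ideal.comap_comap]
      exact congrArg (Ideal.comap (algebraMap (𝒟.B j) (𝒟.A (j + 1)))) (hover (j + 1) hj).1.symm⟩
    exact GrothLib.DevBC13.eq_of_liesOver (S := 𝒟.B j) (S' := 𝒟'.B j) p p' hκ (𝒜.qB j) _ (qB' j)
  · obtain ⟨j, rfl⟩ : ∃ j : Fin 𝒟.n, (j : ℕ) = i := ⟨⟨i, hn ▸ hi⟩, rfl⟩
    haveI := (hall j).2.1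
    exact GrothLib.DevBC13.smoothRelDim_pushout (R := R) (B := 𝒟.B j) (𝒜.d j) (𝒜.relDim j j.2)
  · obtain ⟨j, rfl⟩ : ∃ j : Fin 𝒟.n, (j : ℕ) = i := ⟨⟨i, hn ▸ hi⟩, rfl⟩
    obtain ⟨hA, hB, hg⟩ := hall j
    haveI := hA
    haveI := hB
    haveI := 𝒟.finiteBA j j.2
    haveI := 𝒟.finiteM j j.2
    haveI : Module.Finite (𝒟.B j) (𝒟.M j) := Module.Finite.trans (𝒟.A j) (𝒟.M j)
    letI : Module (𝒟.B j) (𝒟'.M j) := Module.compHom _ (algebraMap (𝒟.B j) (𝒟'.B j))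
    haveI : IsScalarTower (𝒟.B j) (𝒟'.B j) (𝒟'.M j) := IsScalarTower.of_algebraMap_smul fun _ _ => rfl
    haveI : IsScalarTower (𝒟.B j) (𝒟.A j) (𝒟'.M j) := IsScalarTower.of_algebraMap_smul fun b x => by
      rw [← algebraMap_smul (𝒟'.A j) (algebraMap (𝒟.B j) (𝒟.A j) b) x, ← IsScalarTower.algebraMap_apply,
        IsScalarTower.algebraMap_apply (𝒟.B j) (𝒟'.B j) (𝒟'.A j), algebraMap_smul]
      rfl
    exact GrothLib.DevBC13.localDim_baseChange p p' hκ (𝒟.M j) (𝒟'.M j) _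
      (GrothLib.DevBC13.isBaseChange_over (R := R) (R' := R') (gM j) hg) (𝒜.qB j) (qB' j) _ (𝒜.locDim j j.2)

end Groth.Agent.S12244
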