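import Groth.Statements.S12246
import Groth.Agent.Lib.RG6.Dev.ShrinkComplete
-- import your own Groth.Agent.* helpers here

set_option autoImplicit false
universe u
open FlatMor

namespace Groth.Agent.S12246

open TensorProduct in
/-- All schemes are affine and standard opens are rendered as localizations away from one element. Let R
→ S be of finite type, N a finite S-module, p ⊆ R and q ⊆ S primes, and (𝒟, 𝒜) a complete dévissage
of N/S/R at q in the prelude's algebraic form (rings A_i and smooth R-algebras B_i, modules M_i,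
maps α_i, points qA_i, qB_i and relative dimensions d_i). Then for every u ∈ S outside q there is a
standard shrinking inside D(u): g ∉ p and hX ∉ q with u invertible in S[1/hX], compatible structures
making S[1/hX] and N[1/hX] live over R[1/g], and a complete dévissage (𝒟', 𝒜') of N[1/hX] over
S[1/hX] relative to R[1/g] at the extended prime of q, of the same length, ranks and relative
dimensions, whose rings A'_i, B'_i are localizations of A_i, B_i away from single elements a_i ∉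
qA_i, b_i ∉ qB_i (as algebras compatible with R → R[1/g], with B_i → A_i, B_i → A_{i+1}, S → A_0 and
S[1/hX] → A'_0), whose modules M'_i are the corresponding localizations of M_i (compatibly with N ≅
M_0), whose points lie over the qA_i, qB_i, and with the image of α_i generating the image of α'_i.
(The cokernel identifications of 𝒟' are not pinned.) -/
theorem result
    (R S : Type u) [CommRing R] [CommRing S] [Algebra R S] [Algebra.FiniteType R S]
    (N : Type u) [AddCommGroup N] [Module S N] [Module.Finite S N]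
    (p : Ideal R) [p.IsPrime] (q : Ideal S) [q.IsPrime] (𝒟 : FlatCA.CompleteDevissage R S N p)
    (𝒜 : FlatCA.CompleteDevissageAt R S N p q 𝒟)
    (u : S) (hu : u ∉ q) :
    ∃ (g : R) (hX : S), g ∉ p ∧ hX ∉ q ∧
      IsUnit (algebraMap S (Localization.Away hX) u) ∧
      ∃ (_ : Algebra (Localization.Away g) (Localization.Away hX)) (_ : IsScalarTower R (Localization.Away g) (Localization.Away hX))
        (_ : Module (Localization.Away g) (LocalizedModule (Submonoid.powers hX) N)) (_ : IsScalarTower (Localization.Away g) (Localization.Away hX) (LocalizedModule (Submonoid.powers hX) N))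
        (_ : (Ideal.map (algebraMap R (Localization.Away g)) p).IsPrime) (_ : (Ideal.map (algebraMap S (Localization.Away hX)) q).IsPrime)
        (𝒟' : FlatCA.CompleteDevissage (Localization.Away g) (Localization.Away hX) (LocalizedModule (Submonoid.powers hX) N) (Ideal.map (algebraMap R (Localization.Away g)) p))
        (𝒜' : FlatCA.CompleteDevissageAt (Localization.Away g) (Localization.Away hX) (LocalizedModule (Submonoid.powers hX) N) (Ideal.map (algebraMap R (Localization.Away g)) p) (Ideal.map (algebraMap S (Localization.Away hX)) q) 𝒟')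
        (a : ∀ i : Fin 𝒟.n, 𝒟.A i) (b : ∀ i : Fin 𝒟.n, 𝒟.B i)
      (aA : ∀ i : Fin 𝒟.n, Algebra (𝒟.A i) (𝒟'.A i)) (rA : ∀ i : Fin 𝒟.n, Algebra R (𝒟'.A i))
      (_t1 : ∀ i : Fin 𝒟.n, IsScalarTower R (Localization.Away g) (𝒟'.A i)) (_t2 : ∀ i : Fin 𝒟.n, IsScalarTower R (𝒟.A i) (𝒟'.A i))
      (aB : ∀ i : Fin 𝒟.n, Algebra (𝒟.B i) (𝒟'.B i)) (rB : ∀ i : Fin 𝒟.n, Algebra R (𝒟'.B i))
      (_t3 : ∀ i : Fin 𝒟.n, IsScalarTower R (Localization.Away g) (𝒟'.B i)) (_t4 : ∀ i : Fin 𝒟.n, IsScalarTower R (𝒟.B i) (𝒟'.B i))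
      (bA : ∀ i : Fin 𝒟.n, Algebra (𝒟.B i) (𝒟'.A i)) (_t5 : ∀ i : Fin 𝒟.n, IsScalarTower (𝒟.B i) (𝒟.A i) (𝒟'.A i))
      (_t6 : ∀ i : Fin 𝒟.n, IsScalarTower (𝒟.B i) (𝒟'.B i) (𝒟'.A i))
      (bA' : ∀ i : Fin 𝒟.n, Algebra (𝒟.B i) (𝒟'.A (i + 1)))
      (_t7 : ∀ i : Fin 𝒟.n, IsScalarTower (𝒟.B i) (𝒟'.B i) (𝒟'.A (i + 1)))
      (sA : Algebra S (𝒟'.A 0)) (_t8 : IsScalarTower S (Localization.Away hX) (𝒟'.A 0))
      (mA : ∀ i : Fin 𝒟.n, Module (𝒟.A i) (𝒟'.M i)) (_t9 : ∀ i : Fin 𝒟.n, IsScalarTower (𝒟.A i) (𝒟'.A i) (𝒟'.M i))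
      (gM : ∀ i : Fin 𝒟.n, 𝒟.M i →ₗ[𝒟.A i] 𝒟'.M i),
        𝒟'.n = 𝒟.n ∧ 𝒟'.r = 𝒟.r ∧ 𝒜'.d = 𝒜.d ∧
        (letI := aA ⟨0, 𝒟.pos⟩; IsScalarTower S (𝒟.A 0) (𝒟'.A 0)) ∧
      (∀ x : N, 𝒟'.isoN (LocalizedModule.mkLinearMap (Submonoid.powers hX) N x) = gM ⟨0, 𝒟.pos⟩ (𝒟.isoN x)) ∧
      (∀ (i : Fin 𝒟.n) (h : (i : ℕ) + 1 < 𝒟.n),
        letI := aA ⟨i + 1, h⟩; IsScalarTower (𝒟.B i) (𝒟.A (i + 1)) (𝒟'.A (i + 1))) ∧
        ∀ i : Fin 𝒟.n,
          a i ∉ 𝒜.qA i ∧ b i ∉ 𝒜.qB i ∧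
          IsLocalization.Away (a i) (𝒟'.A i) ∧ IsLocalization.Away (b i) (𝒟'.B i) ∧
          IsLocalizedModule (Submonoid.powers (a i)) (gM i) ∧
          (𝒜'.qA i).LiesOver (𝒜.qA i) ∧ (𝒜'.qB i).LiesOver (𝒜.qB i) ∧
          LinearMap.range (𝒟'.α i) =
            Submodule.span (𝒟'.B i) ((gM i) '' (LinearMap.range (𝒟.α i) : Set (𝒟.M i))) := by
  classical
  haveI := 𝒜.hqB
  have he : algebraMap S (𝒟.A 0) u ∉ 𝒜.qA 0 := fun h => hu ((SetLike.ext_iff.1 𝒜.q0 u).1 h)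
  obtain ⟨w, hwq, hw0, hwup⟩ := GrothLib.RG6.Dev.exists_chain_up 𝒟 𝒜 (algebraMap S (𝒟.A 0) u) he
  obtain ⟨c, hc, -, hwc, hcstep⟩ := GrothLib.RG6.Dev.exists_chain_down 𝒟 𝒜 w hwup _ (hwq (𝒟.n - 1)) dvd_rfl
  obtain ⟨g, hg, hIm⟩ := GrothLib.RG6.Dev.exists_base_open R S N p q 𝒟 𝒜 c hc
  obtain ⟨ρ, hρ⟩ := hw0.trans (map_dvd (algebraMap (𝒟.B 0) (𝒟.A 0)) (hwc 0 𝒟.pos))
  obtain ⟨l, hl⟩ := 𝒟.surjSA ρ
  let b : ∀ i, 𝒟.B i := fun i => c i * algebraMap R (𝒟.B i) g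
  let hX : S := u * l * algebraMap R S g
  have hX0 : algebraMap S (𝒟.A 0) hX = algebraMap (𝒟.B 0) (𝒟.A 0) (b 0) := by
    simp only [hX, b, map_mul, ← IsScalarTower.algebraMap_apply, hl, hρ]
  have hXu : IsUnit (algebraMap S (Localization.Away hX) hX) := IsLocalization.Away.algebraMap_isUnit hX
  simp only [hX, map_mul] at hXu
  have hgX : IsUnit (algebraMap R (Localization.Away hX) g) := by
    rw [IsScalarTower.algebraMap_apply R S (Localization.Away hX)]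
    exact isUnit_of_mul_isUnit_right hXu
  have hXq : hX ∉ q := fun h => GrothLib.RG6.Dev.image_notMem 𝒟 𝒜 (c := b 0) (fun h' => ((𝒜.hqB 0).mem_or_mem h').elim (hc 0) fun h'' =>
    hg ((SetLike.ext_iff.1 (@Ideal.over_def _ _ _ _ _ (𝒜.qB 0) p (𝒜.overB 0)) g).2 h'')) (hX0 ▸ (SetLike.ext_iff.1 𝒜.q0 hX).2 h)
  obtain ⟨i1, i2, i3, i4, i5, i6, D', A', aA, rA, t1, t2, aB, rB, t3, t4, bA, t5, t6, bA', t7, sA, t8, mA, t9, gM, h1, h2, h3, h4, h5, h6, h7⟩ :=
    GrothLib.RG6.Dev.exists_shrink_complete R S N p q 𝒟 𝒜 g hg c b (fun i => rfl) hc (fun i hi => by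
      simp only [b, map_mul, ← IsScalarTower.algebraMap_apply, hcstep i hi]) hIm hX hgX hX0
  exact ⟨g, hX, hg, hXq, isUnit_of_mul_isUnit_left (isUnit_of_mul_isUnit_left hXu), i1, i2, i3, i4, i5, i6, D', A',
    fun i => algebraMap (𝒟.B i) (𝒟.A i) (b i), fun i => b i, aA, rA, t1, t2, aB, rB, t3, t4, bA, t5, t6, bA', t7, sA, t8,
    mA, t9, gM, h1, h2, h3, h4, h5, h6, h7⟩

end Groth.Agent.S12246
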