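import Groth.Statements.S12247
import Groth.Agent.Lib.RG6.Dev.ShrinkComplete
-- import your own Groth.Agent.* helpers here

set_option autoImplicit false
universe u
open FlatMor

namespace Groth.Agent.S12247

open TensorProduct in
/-- All schemes are affine and standard opens are rendered as localizations away from one element. Let R
→ S be of finite type, N a finite S-module, p ⊆ R and q ⊆ S primes, and (𝒟, 𝒜) a complete dévissage
of N/S/R at q in the prelude's algebraic form, of length m (rings A_i, smooth R-algebras B_i,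
modules M_i, maps α_i, points qA_i, qB_i, relative dimensions d_i, for i < m). Then for every w in
the last smooth algebra B_{m-1} outside its point qB_{m-1} there is a standard shrinking whose last
smooth piece is D(w) restricted over the shrunken base: g ∉ p and hX ∉ q, compatible structures
making S[1/hX] and N[1/hX] live over R[1/g], and a complete dévissage (𝒟', 𝒜') of N[1/hX] over
S[1/hX] relative to R[1/g] at the extended prime of q, of the same length, ranks and relative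
dimensions, whose rings A'_i, B'_i are localizations of A_i, B_i away from single elements a_i ∉
qA_i, b_i ∉ qB_i with b_{m-1} the product of w and the image of g (as algebras compatible with R →
R[1/g], with B_i → A_i, B_i → A_{i+1}, S → A_0 and S[1/hX] → A'_0), whose modules M'_i are the
corresponding localizations of M_i (compatibly with N ≅ M_0), whose points lie over the qA_i, qB_i,
and with the image of α_i generating the image of α'_i. (The cokernel identifications of 𝒟' are not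
pinned.) -/
theorem result
    (R S : Type u) [CommRing R] [CommRing S] [Algebra R S] [Algebra.FiniteType R S]
    (N : Type u) [AddCommGroup N] [Module S N] [Module.Finite S N]
    (p : Ideal R) [p.IsPrime] (q : Ideal S) [q.IsPrime] (𝒟 : FlatCA.CompleteDevissage R S N p)
    (𝒜 : FlatCA.CompleteDevissageAt R S N p q 𝒟)
    (w : 𝒟.B (𝒟.n - 1)) (hw : w ∉ 𝒜.qB (𝒟.n - 1)) :
    ∃ (g : R) (hX : S), g ∉ p ∧ hX ∉ q ∧
      ∃ (_ : Algebra (Localization.Away g) (Localization.Away hX)) (_ : IsScalarTower R (Localization.Away g) (Localization.Away hX))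
        (_ : Module (Localization.Away g) (LocalizedModule (Submonoid.powers hX) N)) (_ : IsScalarTower (Localization.Away g) (Localization.Away hX) (LocalizedModule (Submonoid.powers hX) N))
        (_ : (Ideal.map (algebraMap R (Localization.Away g)) p).IsPrime) (_ : (Ideal.map (algebraMap S (Localization.Away hX)) q).IsPrime)
        (𝒟' : FlatCA.CompleteDevissage (Localization.Away g) (Localization.Away hX) (LocalizedModule (Submonoid.powers hX) N) (Ideal.map (algebraMap R (Localization.Away g)) p))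
        (𝒜' : FlatCA.CompleteDevissageAt (Localization.Away g) (Localization.Away hX) (LocalizedModule (Submonoid.powers hX) N) (Ideal.map (algebraMap R (Localization.Away g)) p) (Ideal.map (algebraMap S (Localization.Away hX)) q) 𝒟')
        (a : ∀ i : Fin 𝒟.n, 𝒟.A i) (b : ∀ i : Fin 𝒟.n, 𝒟.B i)
      (aA : ∀ i : Fin 𝒟.n, Algebra (𝒟.A i) (𝒟'.A i)) (rA : ∀ i : Fin 𝒟.n, Algebra R (𝒟'.A i))
      (_t1 : ∀ i : Fin 𝒟.n, IsScalarTower R (Localization.Away g) (𝒟'.A i)) (_t2 : ∀ i : Fin 𝒟.n, IsScalarTower R (𝒟.A i) (𝒟'.A i))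
      (aB : ∀ i : Fin 𝒟.n, Algebra (𝒟.B i) (𝒟'.B i)) (rB : ∀ i : Fin 𝒟.n, Algebra R (𝒟'.B i))
      (_t3 : ∀ i : Fin 𝒟.n, IsScalarTower R (Localization.Away g) (𝒟'.B i)) (_t4 : ∀ i : Fin 𝒟.n, IsScalarTower R (𝒟.B i) (𝒟'.B i))
      (bA : ∀ i : Fin 𝒟.n, Algebra (𝒟.B i) (𝒟'.A i)) (_t5 : ∀ i : Fin 𝒟.n, IsScalarTower (𝒟.B i) (𝒟.A i) (𝒟'.A i))
      (_t6 : ∀ i : Fin 𝒟.n, IsScalarTower (𝒟.B i) (𝒟'.B i) (𝒟'.A i))
      (bA' : ∀ i : Fin 𝒟.n, Algebra (𝒟.B i) (𝒟'.A (i + 1)))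
      (_t7 : ∀ i : Fin 𝒟.n, IsScalarTower (𝒟.B i) (𝒟'.B i) (𝒟'.A (i + 1)))
      (sA : Algebra S (𝒟'.A 0)) (_t8 : IsScalarTower S (Localization.Away hX) (𝒟'.A 0))
      (mA : ∀ i : Fin 𝒟.n, Module (𝒟.A i) (𝒟'.M i)) (_t9 : ∀ i : Fin 𝒟.n, IsScalarTower (𝒟.A i) (𝒟'.A i) (𝒟'.M i))
      (gM : ∀ i : Fin 𝒟.n, 𝒟.M i →ₗ[𝒟.A i] 𝒟'.M i),
        𝒟'.n = 𝒟.n ∧ 𝒟'.r = 𝒟.r ∧ 𝒜'.d = 𝒜.d ∧
        (letI := aA ⟨0, 𝒟.pos⟩; IsScalarTower S (𝒟.A 0) (𝒟'.A 0)) ∧
      (∀ x : N, 𝒟'.isoN (LocalizedModule.mkLinearMap (Submonoid.powers hX) N x) = gM ⟨0, 𝒟.pos⟩ (𝒟.isoN x)) ∧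
      (∀ (i : Fin 𝒟.n) (h : (i : ℕ) + 1 < 𝒟.n),
        letI := aA ⟨i + 1, h⟩; IsScalarTower (𝒟.B i) (𝒟.A (i + 1)) (𝒟'.A (i + 1))) ∧
        b ⟨𝒟.n - 1, Nat.sub_one_lt_of_lt 𝒟.pos⟩ = w * algebraMap R (𝒟.B (𝒟.n - 1)) g ∧
        ∀ i : Fin 𝒟.n,
          a i ∉ 𝒜.qA i ∧ b i ∉ 𝒜.qB i ∧
          IsLocalization.Away (a i) (𝒟'.A i) ∧ IsLocalization.Away (b i) (𝒟'.B i) ∧
          IsLocalizedModule (Submonoid.powers (a i)) (gM i) ∧
          (𝒜'.qA i).LiesOver (𝒜.qA i) ∧ (𝒜'.qB i).LiesOver (𝒜.qB i) ∧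
          LinearMap.range (𝒟'.α i) =
            Submodule.span (𝒟'.B i) ((gM i) '' (LinearMap.range (𝒟.α i) : Set (𝒟.M i))) := by
  classical
  haveI := 𝒜.hqB
  obtain ⟨c, hc, hlast, -, hcstep⟩ := GrothLib.RG6.Dev.exists_chain_down 𝒟 𝒜 (fun i => 1)
    (fun i _ => by rw [map_one]; exact one_dvd _) w hw (one_dvd w)
  obtain ⟨g, hg, hIm⟩ := GrothLib.RG6.Dev.exists_base_open R S N p q 𝒟 𝒜 c hc
  obtain ⟨l, hl⟩ := 𝒟.surjSA (algebraMap (𝒟.B 0) (𝒟.A 0) (c 0))
  let b : ∀ i, 𝒟.B i := fun i => c i * algebraMap R (𝒟.B i) g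
  let hX : S := l * algebraMap R S g
  have hX0 : algebraMap S (𝒟.A 0) hX = algebraMap (𝒟.B 0) (𝒟.A 0) (b 0) := by
    simp only [hX, b, map_mul, ← IsScalarTower.algebraMap_apply, hl]
  have hXu : IsUnit (algebraMap S (Localization.Away hX) hX) := IsLocalization.Away.algebraMap_isUnit hX
  simp only [hX, map_mul] at hXu
  have hgX : IsUnit (algebraMap R (Localization.Away hX) g) := by
    rw [IsScalarTower.algebraMap_apply R S (Localization.Away hX)]
    exact isUnit_of_mul_isUnit_right hXu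
  have hXq : hX ∉ q := fun h => GrothLib.RG6.Dev.image_notMem 𝒟 𝒜 (c := b 0) (fun h' => ((𝒜.hqB 0).mem_or_mem h').elim (hc 0) fun h'' =>
    hg ((SetLike.ext_iff.1 (@Ideal.over_def _ _ _ _ _ (𝒜.qB 0) p (𝒜.overB 0)) g).2 h'')) (hX0 ▸ (SetLike.ext_iff.1 𝒜.q0 hX).2 h)
  obtain ⟨i1, i2, i3, i4, i5, i6, D', A', aA, rA, t1, t2, aB, rB, t3, t4, bA, t5, t6, bA', t7, sA, t8, mA, t9, gM, h1, h2, h3, h4, h5, h6, h7⟩ :=
    GrothLib.RG6.Dev.exists_shrink_complete R S N p q 𝒟 𝒜 g hg c b (fun i => rfl) hc (fun i hi => by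
      simp only [b, map_mul, ← IsScalarTower.algebraMap_apply, hcstep i hi]) hIm hX hgX hX0
  exact ⟨g, hX, hg, hXq, i1, i2, i3, i4, i5, i6, D', A',
    fun i => algebraMap (𝒟.B i) (𝒟.A i) (b i), fun i => b i, aA, rA, t1, t2, aB, rB, t3, t4, bA, t5, t6, bA', t7, sA, t8,
    mA, t9, gM, h1, h2, h3, h4, h5, h6, congrArg (· * algebraMap R (𝒟.B (𝒟.n - 1)) g) hlast, h7⟩

end Groth.Agent.S12247
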