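import Groth.Agent.Lib.ArtFun.Formal
import Groth.Agent.Lib.ArtFun.SqZero
import Mathlib.RingTheory.Nakayama
import Groth.Statements.S12249
-- import your own Groth.Agent.* helpers here

set_option autoImplicit false
universe u v
open CategoryTheory
open Deform

namespace Groth.Agent.S12249

/-- Let k be an algebraically closed field and F a set-valued functor on local Artinian k-algebras with
residue field k such that F(k) is a single point. If F has a semiuniversal formal element and its
tangent space F(k[ε]) is reduced to one element, then F(A) consists of exactly one element for every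
A: F is the constant one-point functor h_k. -/
theorem result
    {k : Type u} [Field k] [IsAlgClosed k]
    (F : ArtFun.Art k k ⥤ Type v) (h0 : ArtFun.H0 F) (hF : ArtFun.HasHull F)
    (ht : Subsingleton (ArtFun.TangentSpace F)) (A : ArtFun.Art k k) :
    Nonempty (F.obj A) ∧ Subsingleton (F.obj A) := by
  obtain ⟨H⟩ := hF
  have hsur := GrothLib.ArtFun.isVersal_surjective H.family H.miniversal.1 h0
  refine ⟨h0.1.map fun pt => F.map (ArtFun.Art.homMk (Algebra.ofId k A)
    (AlgHom.ext fun c => A.res.commutes c) : ArtFun.Art.base k k ⟶ A) pt, ⟨fun x y => ?_⟩⟩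
  obtain ⟨a, rfl⟩ := hsur A x
  obtain ⟨b, rfl⟩ := hsur A y
  have hsing : ∀ d d' : ArtFun.HomSet H.ring.carrier H.ring.res (ArtFun.Art.dual k k), d = d' :=
    fun d d' => H.miniversal.2.1 (ht.elim _ _)
  refine congrArg _ (GrothLib.ArtFun.homSet_ext fun r => ?_)
  let E := H.ring.trunc 1
  let σ : ArtFun.Art.base k k ⟶ E :=
    ArtFun.Art.homMk (Algebra.ofId k _) (AlgHom.ext fun c => E.res.commutes c)
  have hsq : IsLocalRing.maximalIdeal E ^ 2 = ⊥ := by
    rw [← le_bot_iff]
    refine le_trans (Ideal.pow_right_mono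
      (J := (IsLocalRing.maximalIdeal H.ring.carrier).map (H.ring.truncHom 1).1) ?_ 2) ?_
    · intro x hx
      obtain ⟨s, rfl⟩ := GrothLib.ArtFun.truncHom_surjective H.ring 1 x
      refine Ideal.mem_map_of_mem _ ?_
      rw [← GrothLib.ArtFun.res_eq_zero_iff, GrothLib.ArtFun.res_of_homSet] at hx
      exact (ArtFun.CRing.mem_maximalIdeal_iff H.ring s).2 hx
    · rw [← Ideal.map_pow, Ideal.map_le_iff_le_comap]
      intro x hx
      rw [Ideal.mem_comap, Ideal.mem_bot, GrothLib.ArtFun.truncHom_eq_zero_iff]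
      exact hx
  have hm : IsLocalRing.maximalIdeal H.ring.carrier = ⊥ := by
    refine Submodule.eq_bot_of_le_smul_of_le_jacobson_bot (IsLocalRing.maximalIdeal H.ring.carrier) _
      (IsNoetherian.noetherian _) ?_ (IsLocalRing.maximalIdeal_le_jacobson _)
    rw [Ideal.smul_eq_mul, ← pow_two]
    intro x hx
    by_contra hx2
    have hne : (H.ring.truncHom 1).1 x ≠ 0 := fun e0 =>
      hx2 ((GrothLib.ArtFun.truncHom_eq_zero_iff H.ring 1 x).1 e0)
    have hxm : (H.ring.truncHom 1).1 x ∈ IsLocalRing.maximalIdeal E :=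
      GrothLib.ArtFun.res_eq_zero_iff.1 ((GrothLib.ArtFun.res_of_homSet _ x).trans
        ((ArtFun.CRing.mem_maximalIdeal_iff _ x).1 hx))
    obtain ⟨hK, π, hsplit⟩ := GrothLib.ArtFun.exists_split_dual σ hsq hxm hne
    have e := hsing (ArtFun.HomSet.map π (H.ring.truncHom 1))
      (ArtFun.HomSet.map (ArtFun.Art.toBase E ≫ ArtFun.Art.baseToDual) (H.ring.truncHom 1))
    have e' : π ((H.ring.truncHom 1).1 x) = π 0 := by
      have e1 : π ((H.ring.truncHom 1).1 x) =
          ArtFun.Art.baseToDual (E.res ((H.ring.truncHom 1).1 x)) :=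
        DFunLike.congr_fun (congrArg Subtype.val e) x
      rw [e1, GrothLib.ArtFun.res_eq_zero_iff.2 hxm, map_zero]
      exact map_zero ArtFun.Art.baseToDual.toAlgHom
    refine hne (hsplit.inj _ _ ?_ e')
    rw [map_zero]
    exact (GrothLib.ArtFun.quotMk_eq_zero_iff hK).2 (Ideal.mem_span_singleton_self _)
  have hr : r = algebraMap k H.ring.carrier (H.ring.res r) := by
    rw [← sub_eq_zero, ← Ideal.mem_bot, ← hm, ArtFun.CRing.mem_maximalIdeal_iff, map_sub,
      AlgHom.commutes]
    exact sub_self _
  rw [hr, AlgHom.commutes, AlgHom.commutes]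

end Groth.Agent.S12249
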