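import Groth.Statements.S1225
import Groth.Agent.Lib.RG6.Specialize
import Groth.Agent.Lib.NagataFP.Global
-- import your own Groth.Agent.* helpers here

set_option autoImplicit false
universe u
open FlatMor

namespace Groth.Agent.S1225

open IsLocalRing TensorProduct in
/-- Ring form, X = Spec B affine: let A be a local ring, B a finite type A-algebra and N a finite
B-module which is flat over A and pure along the closed fibre. Then a B-linear map φ from N to any
B-module is injective if and only if its localization at q is injective for every prime q of B over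
𝔪_A whose extension to the closed fibre ring is an associated prime of the closed fibre module. -/
theorem result {A B : Type u} [CommRing A] [IsLocalRing A] [CommRing B] [Algebra A B] [Algebra.FiniteType A B]
    (N : Type u) [AddCommGroup N] [Module B N] [Module A N] [IsScalarTower A B N] [Module.Finite B N] [Module.Flat A N]
    (hpure : FlatCA.IsPureAlong A B N (maximalIdeal A))
    (N' : Type u) [AddCommGroup N'] [Module B N'] (φ : N →ₗ[B] N') :
    Function.Injective φ ↔ ∀ (q : Ideal B) [q.IsPrime], q.LiesOver (maximalIdeal A) →
      FlatCA.fiberIdeal (maximalIdeal A) q ∈ associatedPrimes ((maximalIdeal A).Fiber B) (FlatCA.fiberMod (maximalIdeal A) B N) →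
      Function.Injective (LocalizedModule.map q.primeCompl φ) := by
  constructor
  · intro h q _ _ _
    exact LocalizedModule.map_injective q.primeCompl φ h
  intro h
  refine (injective_iff_map_eq_zero φ).2 fun z hz => ?_
  by_contra hz0
  have hne : (Submodule.span B {z}).annihilator ≠ ⊤ := fun htop => hz0 (by
    have h1 := (Submodule.mem_annihilator_span_singleton z (1 : B)).1 (htop ▸ Submodule.mem_top)
    rwa [one_smul] at h1)
  obtain ⟨Qm, hQm, hle⟩ := Ideal.exists_le_maximal _ hne
  obtain ⟨q', hq', -⟩ := Ideal.exists_minimalPrimes_le (J := Qm) hle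
  haveI : q'.IsPrime := hq'.1.1
  let p' : Ideal A := q'.comap (algebraMap A B)
  haveI : p'.IsPrime := Ideal.IsPrime.comap _
  haveI : q'.LiesOver p' := ⟨rfl⟩
  have hw : q' ∈ FlatCA.weakAss B (N ⊗[A] A) := by
    refine ⟨z ⊗ₜ[A] (1 : A), ?_⟩
    have he : (Submodule.span B {z ⊗ₜ[A] (1 : A)}).annihilator = (Submodule.span B {z}).annihilator := by
      ext b
      rw [Submodule.mem_annihilator_span_singleton, Submodule.mem_annihilator_span_singleton,
        TensorProduct.smul_tmul']
      refine ⟨fun hb => ?_, fun hb => by rw [hb, TensorProduct.zero_tmul]⟩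
      have h1 := congrArg (TensorProduct.rid A N) hb
      simpa using h1
    rw [he]
    exact hq'
  haveI : Module.Flat A (LocalizedModule q'.primeCompl N) := GrothLib.NagataFP.flat_localized q'.primeCompl
  obtain ⟨-, hass⟩ := GrothLib.RG6.weakAss_fibre_of_flatAt N A p' q' inferInstance hw
  obtain ⟨t, ht, hqt, htm⟩ : ∃ (t : Ideal B), t.IsPrime ∧ q' ≤ t ∧ t.LiesOver (maximalIdeal A) := by
    by_contra! hne
    have hetale : FlatCA.IsEtaleNhd A A (maximalIdeal A) (maximalIdeal A) := by
      refine ⟨inferInstance, ⟨rfl⟩, ?_⟩
      constructor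
      · exact RingHom.injective _
      · intro x
        refine ⟨x, ?_⟩
        obtain ⟨x, rfl⟩ := Ideal.algebraMap_residueField_surjective (maximalIdeal A) x
        exact AlgHom.commutes _ x
    exact hpure A B N LinearMap.id p' (maximalIdeal A) q' hetale
      ⟨inferInstance, IsBaseChange.of_equiv (TensorProduct.lid B N) (fun x => by simp),
        IsLocalRing.le_maximalIdeal (Ideal.IsPrime.ne_top'), ⟨rfl⟩, inferInstance, hass,
        fun P' hP' hle => hne P' hP' hle⟩
  haveI := htm
  haveI : Module.Flat A (LocalizedModule t.primeCompl N) := GrothLib.NagataFP.flat_localized t.primeCompl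
  obtain ⟨q, hq, hq'q, -, hqm, hqass⟩ :=
    GrothLib.RG6.exists_assoc_specialization N (maximalIdeal A) p' q' hass t hqt inferInstance
  have h1 : LocalizedModule.mkLinearMap q.primeCompl N z = 0 := h q hqm hqass (by
    rw [map_zero]
    show LocalizedModule.map q.primeCompl φ (LocalizedModule.mk z 1) = 0
    rw [LocalizedModule.map_mk, hz, LocalizedModule.zero_mk])
  obtain ⟨s, hs⟩ := (IsLocalizedModule.eq_zero_iff q.primeCompl _).1 h1
  exact s.2 (hq'q (hq'.1.2 ((Submodule.mem_annihilator_span_singleton z (s : B)).2 hs)))

end Groth.Agent.S1225
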