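import Groth.Agent.Lib.ArtFun.Formal
import Groth.Statements.S12252
-- import your own Groth.Agent.* helpers here

set_option autoImplicit false
universe u v
open CategoryTheory
open Deform

namespace Groth.Agent.S12252

/-- Let k be an algebraically closed field, Λ a complete local Noetherian k-algebra with residue field k
and F a set-valued functor on local Artinian Λ-algebras with residue field k. If (R, u) and (S, v)
both prorepresent F (complete local Noetherian Λ-algebras with residue field k carrying universal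
families), then there is a unique isomorphism of Λ-algebras R ≅ S, compatible with the augmentations
to k, along which the universal family of R is transported to that of S. -/
theorem result
    {k Λ : Type u} [Field k] [IsAlgClosed k] [CommRing Λ] [IsLocalRing Λ] [IsNoetherianRing Λ]
    [IsAdicComplete (IsLocalRing.maximalIdeal Λ) Λ] [Algebra k Λ] [Algebra Λ k] [IsScalarTower k Λ k]
    {F : ArtFun.Art Λ k ⥤ Type v} (P Q : ArtFun.ProRep F) :
    ∃! e : P.ring.carrier ≃ₐ[Λ] Q.ring.carrier,
      ∃ he : Q.ring.res.comp e.toAlgHom = P.ring.res, P.family.along e.toAlgHom he = Q.family := by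
  have h0Q : ArtFun.H0 F := GrothLib.ArtFun.h0_of_family_surjective Q.family (Q.universal _).2
  have huniq : ∀ (P : ArtFun.ProRep F) (S : ArtFun.CRing Λ k) (g₁ g₂ : P.ring.carrier →ₐ[Λ] S.carrier)
      (h₁ : S.res.comp g₁ = P.ring.res) (h₂ : S.res.comp g₂ = P.ring.res),
      P.family.along g₁ h₁ = P.family.along g₂ h₂ → g₁ = g₂ := fun P S g₁ g₂ h₁ h₂ h =>
    GrothLib.ArtFun.algHom_ext_trunc fun n =>
      congrArg Subtype.val ((P.universal (S.trunc n)).1 (congrArg (fun η => η.toFormalElt.elt n) h))
  have hv : ∀ (P : ArtFun.ProRep F), ArtFun.IsVersal P.family := fun P B A μ _ φ y hy => by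
    obtain ⟨ψ, hψ⟩ := (P.universal B).2 y
    exact ⟨ψ, (P.universal A).1 (by rw [P.family.natural, hψ, hy]), hψ⟩
  obtain ⟨g, hg, eg⟩ := GrothLib.ArtFun.exists_along_toFormalElt_eq h0Q P.ring P.family (hv P)
    Q.family.toFormalElt
  obtain ⟨g', hg', eg'⟩ := GrothLib.ArtFun.exists_along_toFormalElt_eq h0Q Q.ring Q.family (hv Q)
    P.family.toFormalElt
  have e : P.family.along g hg = Q.family := GrothLib.ArtFun.family_ext eg
  have e' : Q.family.along g' hg' = P.family := GrothLib.ArtFun.family_ext eg'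
  have hid : ∀ (R : ArtFun.CRing Λ k) (ξ : ArtFun.Family R.carrier R.res F),
      ξ.along (AlgHom.id Λ R.carrier) (AlgHom.comp_id _) = ξ := fun R ξ =>
    GrothLib.ArtFun.family_ext (ArtFun.FormalElt.ext' fun n => rfl)
  have hcomp : ∀ {R S T : ArtFun.CRing Λ k} (ξ : ArtFun.Family R.carrier R.res F)
      (a : R.carrier →ₐ[Λ] S.carrier) (ha : S.res.comp a = R.res)
      (b : S.carrier →ₐ[Λ] T.carrier) (hb : T.res.comp b = S.res),
      (ξ.along a ha).along b hb = ξ.along (b.comp a) (by rw [← AlgHom.comp_assoc, hb, ha]) :=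
    fun ξ a ha b hb => rfl
  have i₁ : g'.comp g = AlgHom.id Λ _ := huniq P P.ring _ _ _ (AlgHom.comp_id _) (by
    rw [← hcomp P.family g hg g' hg', hid]; simp only [e, e'])
  have i₂ : g.comp g' = AlgHom.id Λ _ := huniq Q Q.ring _ _ _ (AlgHom.comp_id _) (by
    rw [← hcomp Q.family g' hg' g hg, hid]; simp only [e, e'])
  refine ⟨AlgEquiv.ofAlgHom g g' i₂ i₁, ⟨hg, e⟩, fun e₁ ⟨he₁, h⟩ => ?_⟩
  refine AlgEquiv.ext fun x => DFunLike.congr_fun (huniq P Q.ring e₁.toAlgHom g he₁ hg (h.trans e.symm)) x

end Groth.Agent.S12252
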