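import Groth.Statements.S12255
import Groth.Agent.Lib.DefFin26.Hfin
import Groth.Agent.Lib.DefAut26.Art

set_option autoImplicit false
universe u
open CategoryTheory CategoryTheory.Limits AlgebraicGeometry
open Deform

namespace Groth.Agent.S12255

/-- Let k be an algebraically closed field and X a projective k-scheme, given with a closed immersion
into some P^n_k over k, such that H^0(X, T_X) = Hom_{O_X}(Ω_{X/k}, O_X) = 0 (no infinitesimal
automorphisms). Then the local moduli functor Def_X, of isomorphism classes of deformations of X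
over local Artinian k-algebras with residue field k, is prorepresentable by a complete local
Noetherian k-algebra with residue field k. -/
theorem result
    {k : Type u} [Field k] [IsAlgClosed k] (X : Scheme.{u}) (x : X ⟶ Spec (CommRingCat.of k))
    [LocallyOfFiniteType x] [IsSeparated x] [QuasiCompact x]
    (hproj : ∃ (n : ℕ) (c : X ⟶ CohB1.ProjSpaceOver n (Spec (CommRingCat.of k))),
      IsClosedImmersion c ∧ c ≫ CohB1.ProjSpaceOver.toBase n (Spec (CommRingCat.of k)) = x)
    (h0 : Subsingleton (Omega.sheaf x ⟶ Coh.structureModule X)) :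
    ArtFun.IsProrepresentable (ArtFun.defFunctor (Λ := k) X x) := by
  obtain ⟨n, c, hc, hcx⟩ := hproj
  haveI := hc
  let c' : X ⟶ CohB1.ProjSpace n k := c ≫ GrothLib.Ample.ProjMap.toProjSpace n k
  haveI := GrothLib.Ample.ProjMap.isClosedImmersion_toProjSpace n k
  have hc' : c' ≫ CohB1.ProjSpace.toSpec n k = x := by
    rw [Category.assoc, GrothLib.Ample.ProjMap.toProjSpace_toSpec, hcx]
  have hlift : ∀ {A' A : ArtFun.Art k k} (g : A' ⟶ A), GrothLib.DefGlue19.AutLift X x g := fun g ξ θ =>
    ⟨ArtFun.DefSch.Iso.refl ξ, by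
      rw [GrothLib.DefAut26.iso_hom_eq_id _ θ, Category.id_comp]
      exact (Category.comp_id _).symm⟩
  have hH0 := GrothLib.DefGlue19.h0_defFunctor (Λ := k) X x
  have h2 := GrothLib.DefGlue19.heps_defFunctor (Λ := k) X x
  obtain ⟨T⟩ := GrothLib.ArtFun.nonempty_tangentStr hH0 h2
  exact (GrothLib.ArtFun.isProrepresentable_iff_schlessinger GrothLib.ArtFun.simpleRoots_of_tower hH0).2
    ⟨fun B A A' A'' p' p'' f' f'' h hf => GrothLib.DefGlue19.cmp_surjective X x h hf.1,
      h2, GrothLib.DefFin26.hfin c' hc',
      fun B A A' p₁ p₂ f h hf => ⟨GrothLib.DefGlue19.cmp_injective X x h hf.1 (hlift f),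
        GrothLib.DefGlue19.cmp_surjective X x h hf.1⟩⟩

end Groth.Agent.S12255
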