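import Groth.Statements.S12259
import Groth.Agent.S12255
import Groth.Agent.Lib.CurveMult.OmegaField
import Groth.Agent.Lib.Euler.VB
import Groth.Agent.Lib.CurveRR.Setup
import Groth.Agent.Lib.Chow.Prod

set_option autoImplicit false
universe u
open CategoryTheory CategoryTheory.Limits AlgebraicGeometry
open Deform

namespace Groth.Agent.S12259

/-- Let k be an algebraically closed field and X a nonsingular connected projective curve over k, i.e. X
is smooth over k, connected, of dimension one and a closed subscheme of some projective space P^n_k,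
and assume its genus g = dim_k H^1(X, O_X) is at least 2. Then the local moduli functor Def_X
(isomorphism classes of deformations of X over local Artinian k-algebras with residue field k) is
prorepresentable by a complete local Noetherian k-algebra with residue field k. (The published
statement treats every genus and identifies the prorepresenting ring with a power series ring in 0,
1 or 3g − 3 variables; this row is the prorepresentability for g ≥ 2 only.) -/
theorem result
    {k : Type u} [Field k] [IsAlgClosed k] (X : Scheme.{u}) [X.Over (Spec (CommRingCat.of k))]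
    [Smooth (X ↘ Spec (CommRingCat.of k))] [IsSeparated (X ↘ Spec (CommRingCat.of k))]
    [QuasiCompact (X ↘ Spec (CommRingCat.of k))] [ConnectedSpace X]
    (hdim : topologicalKrullDim X = 1)
    (hproj : ∃ (n : ℕ) (c : X ⟶ CohB1.ProjSpaceOver n (Spec (CommRingCat.of k))),
      IsClosedImmersion c ∧ c ≫ CohB1.ProjSpaceOver.toBase n (Spec (CommRingCat.of k)) = X ↘ Spec (CommRingCat.of k))
    (hg : 2 ≤ Curv2.genus k X) :
    ArtFun.IsProrepresentable (ArtFun.defFunctor (Λ := k) X (X ↘ Spec (CommRingCat.of k))) := by
  let x := X ↘ Spec (CommRingCat.of k)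
  obtain ⟨n, c, hc, hcx⟩ := hproj
  haveI : IsProper x := by
    haveI := hc
    haveI : IsProper (CohB1.ProjSpaceOver.toBase n (Spec (CommRingCat.of k))) :=
      GrothLib.Chow.isProper_toBase n _
    rw [show x = c ≫ CohB1.ProjSpaceOver.toBase n (Spec (CommRingCat.of k)) from hcx.symm]
    infer_instance
  haveI : IsIntegral X := GrothLib.Euler.isIntegral_of_smooth_connected k x
  haveI : IsLocallyNoetherian X := LocallyOfFiniteType.isLocallyNoetherian x
  have hO1 : Module.finrank k (Coh.HH X (Coh.structureModule X) 0) = 1 :=
    GrothLib.CurveRR.finrank_H0_structure_eq_one k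
  haveI := GrothLib.CurveRR.regCurve_of_smooth x hdim
  have hΩ : PicF.IsInvertible (Omega.sheaf x) := GrothLib.CurveMult.OmegaField.isInvertible k
  have hΩ1 : FlatMod.IsFinLocFreeOfRank 1 (Omega.sheaf x) := GrothLib.Euler.isFinLocFreeOfRank_one' hΩ
  have hO : PicF.IsInvertible (Coh.structureModule X) := GrothLib.Euler.isInvertible_structure
  have hS1 : FlatMod.IsFinLocFreeOfRank 1 (Coh.structureModule X) := GrothLib.Euler.isFinLocFreeOfRank_one' hO
  have h0 : Subsingleton (Omega.sheaf x ⟶ Coh.structureModule X) := by
    refine ⟨fun α β => sub_eq_zero.1 ?_⟩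
    by_contra hne
    have hpid : ∀ z : X, IsPrincipalIdealRing (X.presheaf.stalk z) :=
      GrothLib.Euler.isPrincipalIdealRing_stalk_of_smooth x hdim.le
    obtain ⟨K, I, a, p, j, rK, rI, -, -, -, -, -, -, -, hrank, -, hI0, hK0⟩ :=
      GrothLib.Euler.exists_image_data k hpid (GrothLib.FinCov.isFinLocFree_of_rank hΩ1) (GrothLib.FinCov.isFinLocFree_of_rank hS1) (α - β)
    have g1 := GrothLib.Euler.grank_of_locFree hΩ1
    have g2 := GrothLib.Euler.grank_of_locFree hS1
    have hrI : rI ≠ 0 := fun h => hne (hI0 h)
    haveI := hK0 (by omega)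
    have hle := (GrothLib.Euler.degree_le_of_mono k hdim.le (α - β) (GrothLib.Euler.isCoh_of_isInvertible hΩ)
      (GrothLib.Euler.isCoh_of_isInvertible hO) (g1.trans g2.symm)).1
    have hd := (GrothLib.CurveMult.OmegaField.finrank_deg_omega k hdim hO1).2
    rw [GrothLib.Euler.deg_eq_degree k hΩ1] at hd
    have hdO : GrothLib.Euler.degree k (Coh.structureModule X) = 0 := by
      rw [GrothLib.Euler.degree, g2]
      push_cast
      ring
    omega
  exact Groth.Agent.S12255.result X x ⟨n, c, hc, hcx⟩ h0

end Groth.Agent.S12259
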