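import Groth.Statements.S12267
import Groth.Agent.Lib.QuotTan26.Regular
import Groth.Agent.Lib.Chow.Prod
import Groth.Agent.Lib.QuotTan26.Main

set_option autoImplicit false
universe u
open CategoryTheory CategoryTheory.Limits AlgebraicGeometry
open Deform

namespace Groth.Agent.S12267

/-- Let k be an algebraically closed field, X a projective k-scheme (with a closed k-immersion into some
P^n_k) and H a coherent O_X-module. Let (Q, K_u) represent the Quot functor of H over k on locally
Noetherian k-schemes: Q is locally Noetherian, K_u ⊆ H_Q is a submodule on X ×_k Q with coherent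
Q-flat quotient, and every submodule of H_T with coherent T-flat quotient (T locally Noetherian over
k) is the pullback of K_u along a unique k-morphism T → Q. Let K ⊆ H be a submodule on X ×_k Spec k
with coherent quotient F = H/K, let g : Spec k → Q be the k-point [f] classifying it, and assume
Ext¹_{O_X}(K, F) = 0. Then the local ring of Q at the point [f] is a regular local ring. (The
published statement also identifies the tangent space T_{[f]} Q with Hom(K, F), places the
obstruction space of the local ring inside Ext¹(K, F), and gives the dimension dim Hom(K, F) at [f];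
this row keeps the nonsingularity conclusion.) -/
theorem result
    {k : Type u} [Field k] [IsAlgClosed k] (X : Scheme.{u}) (x : X ⟶ (Spec (CommRingCat.of k)))
    (hprojX : ∃ (n : ℕ) (c : X ⟶ CohB1.ProjSpaceOver n (Spec (CommRingCat.of k))),
      IsClosedImmersion c ∧ c ≫ CohB1.ProjSpaceOver.toBase n (Spec (CommRingCat.of k)) = x)
    (H : X.Modules) (hH : Coh.IsCoh H)
    (Q : Over (Spec (CommRingCat.of k))) (Ku : FGA.QuotSet x H Q) (hQ : FGA.QuotRepresentedBy x H Q Ku)
    (K₀ : FGA.QuotSet x H (Over.mk (𝟙 (Spec (CommRingCat.of k))))) (g : (Over.mk (𝟙 (Spec (CommRingCat.of k)))) ⟶ Q) (hg : FGA.quotPull x H g Ku.1 = K₀.1)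
    [HasExt.{u} (PicF.XT x (Over.mk (𝟙 (Spec (CommRingCat.of k))))).Modules]
    (hExt : Subsingleton (Abelian.Ext.{u} (Subobject.underlying.obj K₀.1) (cokernel K₀.1.arrow) 1)) :
    IsRegularLocalRing (Q.left.presheaf.stalk (g.left.base (IsLocalRing.closedPoint k))) := by
  haveI : LocallyOfFiniteType x := by
    obtain ⟨n, c, hc, he⟩ := hprojX
    haveI := hc
    haveI : IsProper (CohB1.ProjSpaceOver.toBase n (Spec (CommRingCat.of k))) := GrothLib.Chow.isProper_toBase n _
    rw [← he]
    infer_instance
  exact GrothLib.QuotTan26.isRegularLocalRing_quot x H hH _ GrothLib.QuotTan26.specOver_base.symm Ku hQ K₀ g hg hExt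

end Groth.Agent.S12267
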