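import Groth.Statements.S1227
import Mathlib.LinearAlgebra.TensorProduct.RightExactness
import Mathlib.Algebra.Module.Projective
import Mathlib.LinearAlgebra.DirectSum.Finsupp
-- import your own Groth.Agent.* helpers here

set_option autoImplicit false
universe u
open FlatMor

namespace Groth.Agent.S1227

open TensorProduct in
/-- Let u be a surjective linear map from a projective A-module M to an A-module N. Then there is an
ideal I of A such that for every A-algebra B, the base change u ⊗ 1 from B ⊗ M to B ⊗ N is bijective
if and only if the image of I in B is zero. -/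
theorem result {A : Type u} [CommRing A] {M N : Type u} [AddCommGroup M] [Module A M] [Module.Projective A M]
    [AddCommGroup N] [Module A N] (u : M →ₗ[A] N) (hu : Function.Surjective u) :
    ∃ I : Ideal A, ∀ (B : Type u) [CommRing B] [Algebra A B],
      Function.Bijective (u.baseChange B) ↔ I.map (algebraMap A B) = ⊥ := by
  classical
  obtain ⟨s, hs⟩ := Module.Projective.out (R := A) (P := M)
  refine ⟨Ideal.span {a | ∃ (φ : M →ₗ[A] A) (m : M), u m = 0 ∧ φ m = a}, fun B _ _ => ?_⟩
  have hsurj : Function.Surjective (u.baseChange B) := LinearMap.lTensor_surjective B hu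
  constructor
  · intro h
    rw [Ideal.map_span, Ideal.span_eq_bot]
    rintro _ ⟨_, ⟨φ, m, hm, rfl⟩, rfl⟩
    have h0 : (1 : B) ⊗ₜ[A] m = 0 := h.1 (by simp [hm])
    have := congrArg (fun x => TensorProduct.rid A B (φ.lTensor B x)) h0
    simpa [Algebra.algebraMap_eq_smul_one] using this
  · intro h
    have hk : ∀ m, u m = 0 → ∀ b : B, b ⊗ₜ[A] m = 0 := fun m hm b => by
      have hinj : Function.Injective (s.lTensor B) :=
        Function.LeftInverse.injective (g := (Finsupp.linearCombination A id).lTensor B) fun x => by
          rw [← LinearMap.comp_apply, ← LinearMap.lTensor_comp, show (Finsupp.linearCombination A id).comp s = LinearMap.id from LinearMap.ext hs, LinearMap.lTensor_id, LinearMap.id_apply]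
      refine hinj ((TensorProduct.finsuppScalarRight A A B M).injective ?_)
      rw [map_zero, map_zero]
      ext i
      rw [LinearMap.lTensor_tmul, TensorProduct.finsuppScalarRight_apply_tmul_apply, Finsupp.zero_apply]
      have : algebraMap A B (s m i) = 0 := (Ideal.span_eq_bot.1 (le_antisymm (((Ideal.map_span _ _).ge).trans h.le) bot_le)) _
        ⟨s m i, ⟨(Finsupp.lapply i).comp s, m, hm, rfl⟩, rfl⟩
      rw [Algebra.smul_def, this, zero_mul]
    refine ⟨?_, hsurj⟩
    rw [injective_iff_map_eq_zero]
    intro x hx
    have hex : Function.Exact ((LinearMap.ker u).subtype.lTensor B) (u.lTensor B) :=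
      lTensor_exact B (LinearMap.exact_subtype_ker_map u) hu
    obtain ⟨y, rfl⟩ := (hex x).1 hx
    induction y using TensorProduct.induction_on with
    | zero => simp
    | tmul b m => exact hk m m.2 b
    | add y z hy hz => rw [map_add, hy ((hex _).2 ⟨y, rfl⟩), hz ((hex _).2 ⟨z, rfl⟩), add_zero]

end Groth.Agent.S1227
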