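import Groth.Statements.S12273
import Groth.Agent.Lib.DefSm26.TangentH

set_option autoImplicit false
universe u
open CategoryTheory CategoryTheory.Limits AlgebraicGeometry
open scoped TensorProduct
attribute [local instance] HasDerivedCategory.standard
open DefT

namespace Groth.Agent.S12273

/-- Let k be an algebraically closed field and X a nonsingular variety over k (integral, separated and
of finite type over k, and smooth over k), with tangent sheaf T_X = Hom_{O_X}(Ω_{X/k}, O_X) (the
sheaf Hom, assumed to exist as the right adjoint of tensoring with Ω_{X/k}). Give the set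
Def_X(k[ε]) of isomorphism classes of deformations of X over the dual numbers (schemes flat over
Spec k[ε] with a morphism from X identifying X with the closed fibre) its k-vector-space structure,
in which scalars act through ε ↦ cε and addition comes from k[ε₁, ε₂] → k[ε]. Then Def_X(k[ε]) and
H^1(X, T_X) are isomorphic k-vector spaces. (The published statement gives a natural bijection
taking the trivial deformation to zero; this row asserts the existence of a k-linear isomorphism.) -/
theorem result
    {k : Type u} [Field k] [IsAlgClosed k] (X : Scheme.{u}) [X.Over (Spec (CommRingCat.of k))]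
    [IsIntegral X] [LocallyOfFiniteType (X ↘ Spec (CommRingCat.of k))]
    [IsSeparated (X ↘ Spec (CommRingCat.of k))] [QuasiCompact (X ↘ Spec (CommRingCat.of k))]
    [Smooth (X ↘ Spec (CommRingCat.of k))]
    [DCoh.HasSheafHom (Omega.sheaf (X ↘ Spec (CommRingCat.of k)))]
    [ArtFun.TangentStr (ArtFun.defFunctor (Λ := k) X (X ↘ Spec (CommRingCat.of k)))] :
    Nonempty (ArtFun.TangentSpace (ArtFun.defFunctor (Λ := k) X (X ↘ Spec (CommRingCat.of k))) ≃ₗ[k]
      Coh.HH X ((DCoh.sheafHom (Omega.sheaf (X ↘ Spec (CommRingCat.of k)))).obj (Coh.structureModule X)) 1) := by
  exact GrothLib.DefSm26.nonempty_linearEquiv_H1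

end Groth.Agent.S12273
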