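import Groth.Statements.S12274
import Groth.Agent.Lib.LocalHilb26.TangentLin

set_option autoImplicit false
universe u
open CategoryTheory CategoryTheory.Limits AlgebraicGeometry
open scoped TensorProduct
attribute [local instance] HasDerivedCategory.standard
open DefT

namespace Groth.Agent.S12274

/-- Let k be an algebraically closed field, X a separated k-scheme of finite type and Y ⊆ X the closed
subscheme cut out by a quasi-coherent ideal sheaf I, regarded as a k-scheme through X, with normal
sheaf N_{Y/X} = Hom_{O_Y}(I/I², O_Y) (the sheaf Hom, assumed to exist as the right adjoint of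
tensoring with the conormal sheaf I/I²). Give the set of deformations of Y over the dual numbers
inside X (closed subschemes of X ×_k Spec k[ε], flat over Spec k[ε], whose pull-back to the closed
fibre X is Y) its k-vector-space structure, in which scalars act through ε ↦ cε and addition comes
from k[ε₁, ε₂] → k[ε]. Then this space and H^0(Y, N_{Y/X}) are isomorphic k-vector spaces. (The
published statement is for an arbitrary scheme X over an arbitrary field and gives a natural
bijection taking the trivial deformation to zero; this row takes X separated of finite type over an
algebraically closed field, where the vector-space structure is determined, and asserts the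
existence of a k-linear isomorphism.) -/
theorem result
    {k : Type u} [Field k] [IsAlgClosed k] (X : Scheme.{u}) [X.Over (Spec (CommRingCat.of k))]
    [LocallyOfFiniteType (X ↘ Spec (CommRingCat.of k))]
    [IsSeparated (X ↘ Spec (CommRingCat.of k))] [QuasiCompact (X ↘ Spec (CommRingCat.of k))]
    (I₀ : X.IdealSheafData) [I₀.subscheme.Over (Spec (CommRingCat.of k))]
    (hY : I₀.subscheme ↘ Spec (CommRingCat.of k) = I₀.subschemeι ≫ (X ↘ Spec (CommRingCat.of k)))
    [DCoh.HasSheafHom (Omega.conormal I₀.subschemeι)]
    [ArtFun.TangentStr (ArtFun.localHilb X (X ↘ Spec (CommRingCat.of k)) I₀)] :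
    Nonempty (ArtFun.TangentSpace (ArtFun.localHilb X (X ↘ Spec (CommRingCat.of k)) I₀) ≃ₗ[k]
      Coh.HH I₀.subscheme ((DCoh.sheafHom (Omega.conormal I₀.subschemeι)).obj (Coh.structureModule I₀.subscheme)) 0) := by
  exact GrothLib.LocalHilb26.nonempty_linearEquiv_tangent (X ↘ Spec (CommRingCat.of k)) I₀ hY

end Groth.Agent.S12274
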