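import Groth.Statements.S12278
import Groth.Agent.Lib.SqLift10.ExtPush

set_option autoImplicit false
set_option linter.all false
set_option backward.isDefEq.respectTransparency false
set_option maxHeartbeats 1000000
universe u
open CategoryTheory CategoryTheory.Limits AlgebraicGeometry
open scoped TensorProduct
attribute [local instance] HasDerivedCategory.standard
open DefT

namespace Groth.Agent.S12278

/-- Let k be a field and X₀ a separated k-scheme; let C' → C be a surjection of local Artinian
k-algebras with residue field k whose kernel J is annihilated by the maximal ideal of C', X' a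
deformation of X₀ over C' (a scheme flat over Spec C' with a morphism from X₀ identifying X₀ with
the closed fibre) and X = X' ×_{Spec C'} Spec C its base change, a deformation of X₀ over C. Let F
be a finite locally free O_X-module and F₀ its restriction to X₀, and let End F₀ = Hom_{O_{X₀}}(F₀,
F₀) be the sheaf of endomorphisms (the sheaf Hom, assumed to exist as the right adjoint of tensoring
with F₀). If H^2(X₀, End F₀) = 0, then F extends over X': there is a finite locally free
O_{X'}-module F' whose restriction to X is isomorphic to F. (The published statement attaches to F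
an obstruction in H^2(X₀, End F₀ ⊗ J) whose vanishing is equivalent to the existence of an
extension, for deformations over arbitrary local Artin rings; this row states the consequence when
H^2(X₀, End F₀) = 0, over local Artinian k-algebras, and also assumes X₀ separated, so that the
second cohomology of the quasi-coherent module End F₀ is computed on affine open covers.) -/
theorem result
    {k : Type u} [Field k] (X₀ : Scheme.{u}) (x : X₀ ⟶ Spec (CommRingCat.of k)) [IsSeparated x]
    {C' C : ArtFun.Art k k} (p : C' ⟶ C) (hp : ArtFun.Art.IsSemismallExt p)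
    (X' : ArtFun.DefSch X₀ x C')
    (F : (X'.baseChange p).total.Modules) (hF : FlatMod.IsFinLocFree F)
    [DCoh.HasSheafHom ((Scheme.Modules.pullback (X'.baseChange p).i).obj F)]
    (h2 : Subsingleton (Coh.HH X₀ ((DCoh.sheafHom ((Scheme.Modules.pullback (X'.baseChange p).i).obj F)).obj
        ((Scheme.Modules.pullback (X'.baseChange p).i).obj F)) 2)) :
    ∃ F' : X'.total.Modules, FlatMod.IsFinLocFree F' ∧
      Nonempty ((Scheme.Modules.pullback (pullback.fst X'.f (ArtFun.Art.specMap p))).obj F' ≅ F) := by
  haveI := GrothLib.DefUniq10.isClosedImmersion_specMap p hp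
  haveI := GrothLib.DefUniq10.isClosedImmersion_i X'
  obtain ⟨r, a, hB⟩ := GrothLib.DefUniq10.exists_isBasis p hp X'
  obtain ⟨φ⟩ := GrothLib.DefUniq10.nonempty_iso hB
  let I := GrothLib.DefUniq10.idealC p X'
  let j := pullback.fst X'.f (ArtFun.Art.specMap p)
  let t : (X'.baseChange p).total ⟶ I.subscheme := j.toImage
  haveI : IsIso t := inferInstanceAs (IsIso j.toImage)
  have ht : t ≫ I.subschemeι = j := j.toImage_imageι
  let i₀ : X₀ ⟶ I.subscheme := (X'.baseChange p).i ≫ t
  have hi₀ : i₀ ≫ I.subschemeι = X'.i := by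
    show ((X'.baseChange p).i ≫ t) ≫ I.subschemeι = X'.i
    rw [Category.assoc, ht]
    exact ArtFun.DefSch.baseChange_i_fst X' p
  haveI : IsClosedImmersion (i₀ ≫ I.subschemeι) := by rw [hi₀]; infer_instance
  haveI : IsClosedImmersion i₀ := IsClosedImmersion.of_comp i₀ I.subschemeι
  haveI : HasExt.{u} I.subscheme.Modules := hasExt_of_enoughInjectives _
  haveI := (GrothLib.ClosedHom20.full_faithful_pushforward I.subschemeι).1
  haveI := (GrothLib.ClosedHom20.full_faithful_pushforward I.subschemeι).2
  haveI : (Scheme.Modules.pullback I.subschemeι).Additive :=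
    (Scheme.Modules.pullbackPushforwardAdjunction I.subschemeι).left_adjoint_additive
  let E₀ := (Scheme.Modules.pullback (inv t)).obj F
  have hE₀ : FlatMod.IsFinLocFree E₀ := GrothLib.OX.isFinLocFree_pullback (inv t) hF
  let c : (Scheme.Modules.pushforward X'.i).obj (Coh.structureModule X₀) ≅
      (Scheme.Modules.pushforward I.subschemeι).obj ((Scheme.Modules.pushforward i₀).obj (Coh.structureModule X₀)) :=
    (Scheme.Modules.pushforwardCongr hi₀).symm.app _ ≪≫ (Scheme.Modules.pushforwardComp i₀ I.subschemeι).symm.app _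
  let φ' : (Scheme.Modules.pullback I.subschemeι).obj (ClSub.idealMod I) ≅
      ⨁ fun _ : Fin r => (Scheme.Modules.pushforward i₀).obj (Coh.structureModule X₀) :=
    (Scheme.Modules.pullback I.subschemeι).mapIso φ ≪≫ (Scheme.Modules.pullback I.subschemeι).mapBiproduct _ ≪≫
      biproduct.mapIso fun _ => (Scheme.Modules.pullback I.subschemeι).mapIso c ≪≫
        asIso ((Scheme.Modules.pullbackPushforwardAdjunction I.subschemeι).counit.app _)
  let T := (DCoh.tensorBi (X := I.subscheme)).flip.obj E₀
  let ψ : CohB1.tensorMod ((Scheme.Modules.pullback I.subschemeι).obj (ClSub.idealMod I)) E₀ ≅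
      ⨁ fun _ : Fin r => (Scheme.Modules.pushforward i₀).obj ((Scheme.Modules.pullback i₀).obj E₀) :=
    T.mapIso φ' ≪≫ T.mapBiproduct _ ≪≫ biproduct.mapIso (fun _ => GrothLib.DefUniq10.quotIso i₀ E₀)
  have g : (Scheme.Modules.pullback i₀).obj E₀ ≅ (Scheme.Modules.pullback (X'.baseChange p).i).obj F :=
    (Scheme.Modules.pullbackComp i₀ (inv t)).app F ≪≫
      (Scheme.Modules.pullbackCongr (show i₀ ≫ inv t = (X'.baseChange p).i by simp [i₀])).app F
  haveI := GrothLib.LocFreeHom.hasSheafHom ((Scheme.Modules.pullback i₀).obj E₀)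
  have h0 : Subsingleton (Abelian.Ext.{u} E₀
      ((Scheme.Modules.pushforward i₀).obj ((Scheme.Modules.pullback i₀).obj E₀)) 2) :=
    GrothLib.SqLift10.subsingleton_ext_push i₀ hE₀ 2
      (GrothLib.SqLift10.subsingleton_HH_of_iso' (GrothLib.SqLift10.endIso g.symm) 2 h2)
  have h1 : Subsingleton (Abelian.Ext.{u} E₀
      (⨁ fun _ : Fin r => (Scheme.Modules.pushforward i₀).obj ((Scheme.Modules.pullback i₀).obj E₀)) 2) :=
    (Abelian.Ext.addEquivBiproduct _
      (biproduct.isBilimit fun _ : Fin r => (Scheme.Modules.pushforward i₀).obj ((Scheme.Modules.pullback i₀).obj E₀)) 2).toEquiv.subsingleton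
  obtain ⟨E, hE, ⟨e⟩⟩ := GrothLib.SqLift10.exists_lift (GrothLib.DefUniq10.idealC_sq p hp X') E₀ hE₀ ⟨fun x y => by
    have h := congrArg (fun z => z.comp (Abelian.Ext.mk₀ ψ.inv) (add_zero 2))
      (@Subsingleton.elim _ h1 (x.comp (Abelian.Ext.mk₀ ψ.hom) (add_zero 2)) (y.comp (Abelian.Ext.mk₀ ψ.hom) (add_zero 2)))
    simpa using h⟩
  refine ⟨E, hE, ⟨?_⟩⟩
  exact (Scheme.Modules.pullbackCongr ht).symm.app E ≪≫ (Scheme.Modules.pullbackComp t I.subschemeι).symm.app E ≪≫
    (Scheme.Modules.pullback t).mapIso e ≪≫ (Scheme.Modules.pullbackComp t (inv t)).app F ≪≫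
    (Scheme.Modules.pullbackCongr (IsIso.hom_inv_id t)).app F ≪≫ (Scheme.Modules.pullbackId _).app F

end Groth.Agent.S12278
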