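import Groth.Statements.S12279
import Groth.Agent.Lib.DefUniq10.Ext
import Groth.Agent.Lib.DefUniq10.Def
import Groth.Agent.Lib.LocFreeDual20.ExtGlobal

set_option autoImplicit false
set_option linter.all false
set_option backward.isDefEq.respectTransparency false
set_option maxHeartbeats 1000000
universe u
open CategoryTheory CategoryTheory.Limits AlgebraicGeometry
open scoped TensorProduct
attribute [local instance] HasDerivedCategory.standard
open DefT

namespace Groth.Agent.S12279

/-- Let k be a field and X₀ a k-scheme; let C' → C be a surjection of local Artinian k-algebras with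
residue field k whose kernel J is annihilated by the maximal ideal of C', X' a deformation of X₀
over C' (a scheme flat over Spec C' with a morphism from X₀ identifying X₀ with the closed fibre)
and X = X' ×_{Spec C'} Spec C its base change. Let F be a finite locally free O_X-module, F₀ its
restriction to X₀ and End F₀ = Hom_{O_{X₀}}(F₀, F₀) its sheaf of endomorphisms (the sheaf Hom,
assumed to exist as the right adjoint of tensoring with F₀). If H^1(X₀, End F₀) = 0, then any two
finite locally free O_{X'}-modules F' and F'' whose restrictions to X are both isomorphic to F are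
isomorphic. (The published statement says that the set of extensions of F over X', when non-empty,
is a torsor under H^1(X₀, End F₀ ⊗ J), for deformations over arbitrary local Artin rings; this row
states the consequence when H^1(X₀, End F₀) = 0, over local Artinian k-algebras, and compares the
extensions only as O_{X'}-modules.) -/
theorem result
    {k : Type u} [Field k] (X₀ : Scheme.{u}) (x : X₀ ⟶ Spec (CommRingCat.of k))
    {C' C : ArtFun.Art k k} (p : C' ⟶ C) (hp : ArtFun.Art.IsSemismallExt p)
    (X' : ArtFun.DefSch X₀ x C')
    (F : (X'.baseChange p).total.Modules) (hF : FlatMod.IsFinLocFree F)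
    [DCoh.HasSheafHom ((Scheme.Modules.pullback (X'.baseChange p).i).obj F)]
    (h1 : Subsingleton (Coh.HH X₀ ((DCoh.sheafHom ((Scheme.Modules.pullback (X'.baseChange p).i).obj F)).obj
        ((Scheme.Modules.pullback (X'.baseChange p).i).obj F)) 1))
    (F' F'' : X'.total.Modules) (hF' : FlatMod.IsFinLocFree F') (hF'' : FlatMod.IsFinLocFree F'')
    (e' : Nonempty ((Scheme.Modules.pullback (pullback.fst X'.f (ArtFun.Art.specMap p))).obj F' ≅ F))
    (e'' : Nonempty ((Scheme.Modules.pullback (pullback.fst X'.f (ArtFun.Art.specMap p))).obj F'' ≅ F)) :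
    Nonempty (F' ≅ F'') := by
  obtain ⟨e'⟩ := e'
  obtain ⟨e''⟩ := e''
  haveI := GrothLib.DefUniq10.isClosedImmersion_specMap p hp
  haveI := GrothLib.DefUniq10.isClosedImmersion_i X'
  haveI : HasExt.{u} X₀.Modules := hasExt_of_enoughInjectives _
  obtain ⟨r, a, hB⟩ := GrothLib.DefUniq10.exists_isBasis p hp X'
  obtain ⟨φ⟩ := GrothLib.DefUniq10.nonempty_iso hB
  let j := pullback.fst X'.f (ArtFun.Art.specMap p)
  let G := (Scheme.Modules.pullback (X'.baseChange p).i).obj F
  let c : ∀ (M : X'.total.Modules), ((Scheme.Modules.pullback j).obj M ≅ F) →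
      ((Scheme.Modules.pullback X'.i).obj M ≅ G) := fun M e =>
    (Scheme.Modules.pullbackCongr (ArtFun.DefSch.baseChange_i_fst X' p)).symm.app M ≪≫
      (Scheme.Modules.pullbackComp (X'.baseChange p).i j).symm.app M ≪≫
      (Scheme.Modules.pullback (X'.baseChange p).i).mapIso e
  let d : ∀ (M : X'.total.Modules), ((Scheme.Modules.pullback (GrothLib.DefUniq10.idealC p X').subschemeι).obj M ≅
      (Scheme.Modules.pullback (inv j.toImage)).obj ((Scheme.Modules.pullback j).obj M)) := fun M =>
    (Scheme.Modules.pullbackCongr (show (GrothLib.DefUniq10.idealC p X').subschemeι = inv j.toImage ≫ j from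
      ((IsIso.eq_inv_comp _).2 j.toImage_imageι))).app M ≪≫
      (Scheme.Modules.pullbackComp (inv j.toImage) j).symm.app M
  obtain ⟨E⟩ := GrothLib.LocFreeDual20.nonempty_ext_addEquiv_HH
    (GrothLib.OX.isFinLocFree_pullback (X'.baseChange p).i hF) G 1
  exact GrothLib.DefUniq10.nonempty_iso_of_ext φ (GrothLib.DefUniq10.idealC_sq p hp X') hF' hF''
    (d F' ≪≫ (Scheme.Modules.pullback (inv j.toImage)).mapIso (e' ≪≫ e''.symm) ≪≫ (d F'').symm)
    (c F' e') (c F'' e'') (@Equiv.subsingleton _ _ E.toEquiv h1)

end Groth.Agent.S12279
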