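import Groth.Statements.S1228
import Groth.Agent.S1219
import Groth.Agent.Lib.ProjPure13.Locus
-- import your own Groth.Agent.* helpers here

set_option autoImplicit false
universe u
open FlatMor

namespace Groth.Agent.S1228

open TensorProduct in
/-- Ring form, S = Spec A and X = Spec B affine, test schemes affine: let B be a finitely presented
A-algebra, N a finitely presented B-module which is flat over A and pure relative to Spec A, and u a
surjective B-linear map from N to a B-module N'. Then the functor 'u becomes an isomorphism after
base change' is represented by a closed subscheme of Spec A: there is an ideal I of A such that for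
every A-algebra A' the base change A' ⊗_A N → A' ⊗_A N' is bijective if and only if IA' = 0. If N'
is finitely presented then I is finitely generated. -/
theorem result {A B : Type u} [CommRing A] [CommRing B] [Algebra A B] [Algebra.FinitePresentation A B]
    (N : Type u) [AddCommGroup N] [Module B N] [Module A N] [IsScalarTower A B N] [Module.FinitePresentation B N] [Module.Flat A N]
    (hpure : FlatCA.IsPure A B N)
    (N' : Type u) [AddCommGroup N'] [Module B N'] [Module A N'] [IsScalarTower A B N'] (u : N →ₗ[B] N') (hu : Function.Surjective u) :
    ∃ I : Ideal A, (∀ (A' : Type u) [CommRing A'] [Algebra A A'],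
        Function.Bijective ((u.restrictScalars A).baseChange A') ↔ I.map (algebraMap A A') = ⊥) ∧
      (Module.FinitePresentation B N' → I.FG) := by
  classical
  haveI : Module.Projective A N := (Groth.Agent.S1219.result (A := A) (B := B) N).2 hpure
  obtain ⟨s, hs⟩ := Module.projective_def'.1 ‹Module.Projective A N›
  by_cases hfp : Module.FinitePresentation B N'
  · obtain ⟨S, hS⟩ := Module.FinitePresentation.fg_ker u hu
    refine ⟨_, fun A' _ _ => GrothLib.ProjPure13.bijective_baseChange_iff s _ hs u hu (S : Set N) hS A', fun _ => ?_⟩
    have hset : {a : A | ∃ k ∈ (S : Set N), ∃ i, s k i = a} ⊆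
        ↑(insert (0 : A) (S.biUnion fun k => (s k).support.image (s k))) := by
      rintro _ ⟨k, hk, i, rfl⟩
      by_cases h0 : s k i = 0
      · simp [h0]
      · refine Finset.mem_insert_of_mem (Finset.mem_biUnion.2 ⟨k, hk, Finset.mem_image.2 ⟨i, ?_, rfl⟩⟩)
        exact Finsupp.mem_support_iff.2 h0
    exact Submodule.fg_span ((Finset.finite_toSet _).subset hset)
  · exact ⟨_, fun A' _ _ => GrothLib.ProjPure13.bijective_baseChange_iff s _ hs u hu
      (LinearMap.ker u : Set N) (Submodule.span_eq _) A', fun h => absurd h hfp⟩

end Groth.Agent.S1228
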