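import Groth.Statements.S12281
import Groth.Agent.Lib.LocalHilb26.CodimTwo
import Groth.Agent.Lib.LocalHilb26.HilbStalk
import Groth.Agent.Lib.LocalHilb26.NormalH1Imm
import Groth.Agent.Lib.ProjPic26.Over

set_option autoImplicit false
universe u
open CategoryTheory CategoryTheory.Limits AlgebraicGeometry
open scoped TensorProduct
attribute [local instance] HasDerivedCategory.standard
open DefT

namespace Groth.Agent.S12281

/-- Let k be an algebraically closed field, X = P^n_k, and (H, Z) a Hilbert scheme of X over k: H is a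
locally Noetherian k-scheme and Z ⊆ X ×_k H a closed subscheme, proper and flat over H, such that
every closed subscheme of X ×_k T proper and flat over a locally Noetherian k-scheme T is the
pull-back of Z along a unique k-morphism T → H. Let Y ⊆ X be a closed subscheme, regarded as a
k-scheme through X, with ideal sheaf I and normal sheaf N = Hom_{O_Y}(I/I², O_Y) (the sheaf Hom,
assumed to exist as the right adjoint of tensoring with I/I²), and let y ∈ H be the k-point
classifying Y (the pull-back of Z along Spec k → H is Y). If Y is Cohen–Macaulay of codimension 2 in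
X (every local ring of Y is Cohen–Macaulay and dim O_{X,y'} = dim O_{Y,y'} + 2 at every point y' of
Y) and H^1(Y, N) = 0, then H is nonsingular at y: the local ring O_{H,y} is regular. (The published
statement assumes 'no local obstructions to deformations of Y' and H^1(Y, N) = 0; this row is the
case, named in the text, where the first hypothesis holds because Y is Cohen–Macaulay of codimension
2.) -/
theorem result
    {k : Type u} [Field k] [IsAlgClosed k] (n : ℕ)
    (H : Over (Spec (CommRingCat.of k))) (Z : FGA.HilbSet (CohB1.ProjSpaceOver.toBase n (Spec (CommRingCat.of k))) H) (hH : FGA.HilbRepresentedBy (CohB1.ProjSpaceOver.toBase n (Spec (CommRingCat.of k))) H Z)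
    (Y : Scheme.{u}) (i : Y ⟶ CohB1.ProjSpaceOver n (Spec (CommRingCat.of k))) [IsClosedImmersion i]
    (hCM : ∀ y' : Y, LocCoh.IsCohenMacaulayLocalRing (Y.presheaf.stalk y'))
    (hcodim : ∀ y' : Y, ringKrullDim (Y.presheaf.stalk y') + 2 = ringKrullDim ((CohB1.ProjSpaceOver n (Spec (CommRingCat.of k))).presheaf.stalk (i.base y')))
    [DCoh.HasSheafHom (Omega.conormal i)]
    (y : Over.mk (𝟙 (Spec (CommRingCat.of k))) ⟶ H)
    (hy : FGA.hilbPull (CohB1.ProjSpaceOver.toBase n (Spec (CommRingCat.of k))) y Z.1 = i.ker.comap (pullback.fst (CohB1.ProjSpaceOver.toBase n (Spec (CommRingCat.of k))) (Over.mk (𝟙 (Spec (CommRingCat.of k)))).hom))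
    (h1 : Subsingleton (Coh.HH Y ((DCoh.sheafHom (Omega.conormal i)).obj (Coh.structureModule Y)) 1)) :
    IsRegularLocalRing (H.left.presheaf.stalk (y.left.base (IsLocalRing.closedPoint k))) := by
  haveI : IsProper (CohB1.ProjSpaceOver.toBase n (Spec (CommRingCat.of k))) := GrothLib.Chow.isProper_toBase n _
  haveI : Smooth (CohB1.ProjSpaceOver.toBase n (Spec (CommRingCat.of k))) := GrothLib.ProjPic26.smooth_toBase _
  have he : ∀ w : Y, i.ker.subschemeι (i.toImage w) = i w := fun w => by
    rw [← Scheme.Hom.comp_apply]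
    exact congrArg (fun f : Y ⟶ _ => f w) i.toImage_imageι
  have hst : ∀ w : Y, ∃ e : (i.ker.subscheme.presheaf.stalk (i.toImage w)) ≃+* (Y.presheaf.stalk w), True :=
    fun w => ⟨(asIso (i.toImage.stalkMap w)).commRingCatIsoToRingEquiv, trivial⟩
  have hCM' : ∀ z : i.ker.subscheme, LocCoh.IsCohenMacaulayLocalRing (i.ker.subscheme.presheaf.stalk z) := fun z => by
    obtain ⟨w, rfl⟩ := i.toImage.surjective z
    obtain ⟨e, -⟩ := hst w
    haveI := hCM w
    exact GrothLib.HB26.isCohenMacaulayLocalRing_of_ringEquiv e.symm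
  have hcodim' : ∀ z : i.ker.subscheme, ringKrullDim (i.ker.subscheme.presheaf.stalk z) + 2 =
      ringKrullDim ((CohB1.ProjSpaceOver n (Spec (CommRingCat.of k))).presheaf.stalk (i.ker.subschemeι.base z)) := fun z => by
    obtain ⟨w, rfl⟩ := i.toImage.surjective z
    obtain ⟨e, -⟩ := hst w
    rw [ringKrullDim_eq_of_ringEquiv e]
    refine (hcodim w).trans ?_
    exact congrArg (fun q => ringKrullDim ((CohB1.ProjSpaceOver n (Spec (CommRingCat.of k))).presheaf.stalk q)) (he w).symm
  exact GrothLib.LocalHilb26.isRegularLocalRing_hilb _ H Z hH y i.ker hy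
    (GrothLib.LocalHilb26.isSmoothFunctor_of_h1 _ i
      (fun _ _ p hp I z => GrothLib.LocalHilb26.hloc_of_codim_two _ i.ker p I hCM' hcodim' hp.1 z) h1)

end Groth.Agent.S12281
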