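import Groth.Statements.S12282
import Groth.Agent.Lib.HilbObs26.Dims

set_option autoImplicit false
universe u
open CategoryTheory CategoryTheory.Limits AlgebraicGeometry
open scoped TensorProduct
attribute [local instance] HasDerivedCategory.standard
open DefT

namespace Groth.Agent.S12282

/-- Let k be an algebraically closed field, X = P^n_k, and (H, Z) a Hilbert scheme of X over k: H is a
locally Noetherian k-scheme and Z ⊆ X ×_k H a closed subscheme, proper and flat over H, such that
every closed subscheme of X ×_k T proper and flat over a locally Noetherian k-scheme T is the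
pull-back of Z along a unique k-morphism T → H. Let Y ⊆ X be a closed subscheme, regarded as a
k-scheme through X, with ideal sheaf I and normal sheaf N = Hom_{O_Y}(I/I², O_Y) (the sheaf Hom,
assumed to exist as the right adjoint of tensoring with I/I²), and let y ∈ H be the k-point
classifying Y (the pull-back of Z along Spec k → H is Y). If Y → X is a regular closed immersion (Y
is a local complete intersection in X), then the dimension of H at y is at least h^0(Y, N) − h^1(Y,
N), written dim_k H^0(Y, N) ≤ dim O_{H,y} + dim_k H^1(Y, N); and when equality holds, O_{H,y} is a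
complete intersection ring (its completion is the quotient of a regular local ring modulo a regular
sequence). -/
theorem result
    {k : Type u} [Field k] [IsAlgClosed k] (n : ℕ)
    (H : Over (Spec (CommRingCat.of k))) (Z : FGA.HilbSet (CohB1.ProjSpaceOver.toBase n (Spec (CommRingCat.of k))) H) (hH : FGA.HilbRepresentedBy (CohB1.ProjSpaceOver.toBase n (Spec (CommRingCat.of k))) H Z)
    (Y : Scheme.{u}) [Y.Over (Spec (CommRingCat.of k))] (i : Y ⟶ CohB1.ProjSpaceOver n (Spec (CommRingCat.of k))) [IsClosedImmersion i]
    (hi : i ≫ CohB1.ProjSpaceOver.toBase n (Spec (CommRingCat.of k)) = Y ↘ Spec (CommRingCat.of k))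
    (hreg : Mor2.IsRegularClosedImmersion i)
    [DCoh.HasSheafHom (Omega.conormal i)]
    (y : Over.mk (𝟙 (Spec (CommRingCat.of k))) ⟶ H)
    (hy : FGA.hilbPull (CohB1.ProjSpaceOver.toBase n (Spec (CommRingCat.of k))) y Z.1 = i.ker.comap (pullback.fst (CohB1.ProjSpaceOver.toBase n (Spec (CommRingCat.of k))) (Over.mk (𝟙 (Spec (CommRingCat.of k)))).hom)) :
    (Module.finrank k (Coh.HH Y ((DCoh.sheafHom (Omega.conormal i)).obj (Coh.structureModule Y)) 0) : WithBot ℕ∞) ≤
        ringKrullDim (H.left.presheaf.stalk (y.left.base (IsLocalRing.closedPoint k))) + (Module.finrank k (Coh.HH Y ((DCoh.sheafHom (Omega.conormal i)).obj (Coh.structureModule Y)) 1) : WithBot ℕ∞) ∧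
      (ringKrullDim (H.left.presheaf.stalk (y.left.base (IsLocalRing.closedPoint k))) + (Module.finrank k (Coh.HH Y ((DCoh.sheafHom (Omega.conormal i)).obj (Coh.structureModule Y)) 1) : WithBot ℕ∞) =
          (Module.finrank k (Coh.HH Y ((DCoh.sheafHom (Omega.conormal i)).obj (Coh.structureModule Y)) 0) : WithBot ℕ∞) →
        Pi1.IsCompleteIntersection (H.left.presheaf.stalk (y.left.base (IsLocalRing.closedPoint k)))) := by
  haveI : IsProper (CohB1.ProjSpaceOver.toBase n (Spec (CommRingCat.of k))) := GrothLib.Chow.isProper_toBase n _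
  haveI : IsProper (Y ↘ Spec (CommRingCat.of k)) := hi ▸ (inferInstance : IsProper (i ≫ CohB1.ProjSpaceOver.toBase n (Spec (CommRingCat.of k))))
  haveI : IsLocallyNoetherian (CohB1.ProjSpaceOver n (Spec (CommRingCat.of k))) :=
    LocallyOfFiniteType.isLocallyNoetherian (CohB1.ProjSpaceOver.toBase n (Spec (CommRingCat.of k)))
  haveI := GrothLib.HilbObs26.finite_h1_normal (k := k) i
  obtain ⟨hN, alg, res, ξ, hξ⟩ := GrothLib.LocalHilb26.exists_local_representation _ H Z hH y i.ker hy
  obtain ⟨R, η, hη, hdim, ⟨e⟩⟩ := GrothLib.HilbObs26.exists_universal_completion res ξ hξ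
  obtain ⟨-, h2, -, h4⟩ := GrothLib.HilbObs26.dims_of_universal _ i hi hreg R η hη
  rw [hdim] at h2 h4
  refine ⟨h2, fun h => ?_⟩
  obtain ⟨P, _, _, rs, hmem, hrs, ⟨e'⟩⟩ := h4 h
  exact ⟨P, inferInstance, inferInstance, rs, hmem, hrs, ⟨e.trans e'⟩⟩

end Groth.Agent.S12282
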