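import Groth.Agent.Lib.CotT.Basic
import Groth.Statements.S12286
-- import your own Groth.Agent.* helpers here

set_option autoImplicit false
universe u w m
open scoped TensorProduct
open DefT

namespace Groth.Agent.S12286

/-- Let A → B be a ring homomorphism, P a presentation of B over A and M a B-module. The canonical
B-linear map from the A-derivations Der_A(B, M) = Hom_B(Ω_{B/A}, M) to T^0(B/A, M) (the kernel of
Hom_B(L₀, M) → Hom_B(L₁, M), L₀ = B ⊗_R Ω_{R/A}), sending a derivation D to b ⊗ dr ↦ b·D(r̄), is
bijective. -/
theorem result
    (A B : Type u) [CommRing A] [CommRing B] [Algebra A B] (ι σ : Type w) (P : Algebra.Presentation A B ι σ)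
    (M : Type m) [AddCommGroup M] [Module B M] [Module A M] [IsScalarTower A B M] :
    Function.Bijective (CotT.derToT0 P M) := by
  exact GrothLib.CotT.derToT0_bijective P M

end Groth.Agent.S12286
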