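import Groth.Agent.Lib.CotT.Rel
import Groth.Statements.S12287
-- import your own Groth.Agent.* helpers here

set_option autoImplicit false
universe u w m
open scoped TensorProduct
open DefT

namespace Groth.Agent.S12287

/-- Let B be an A-algebra that is isomorphic over A to a polynomial ring A[x_j] in some set of
variables. Then for every B-module M the modules T^1(B/A, M) and T^2(B/A, M), computed from the
choice-free presentation of B over A (every element of B a variable, every element of the kernel a
relation), are zero. -/
theorem result
    (A B : Type u) [CommRing A] [CommRing B] [Algebra A B] (κ : Type u) (e : MvPolynomial κ A ≃ₐ[A] B)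
    (M : Type u) [AddCommGroup M] [Module B M] :
    Subsingleton (CotT.T1 (CotT.canon A B) M) ∧ Subsingleton (CotT.T2 (CotT.canon A B) M) := by
  have hval : (MvPolynomial.aeval (R := A) fun i : κ => e (MvPolynomial.X i)) = (e : MvPolynomial κ A →ₐ[A] B) :=
    MvPolynomial.algHom_ext fun i => by simp
  let P : Algebra.Presentation A B κ PEmpty.{u + 1} :=
    { Algebra.Generators.ofSurjective (fun i : κ => e (MvPolynomial.X i)) (by rw [hval]; exact e.surjective) with
      relation := PEmpty.elim
      span_range_relation_eq_ker := by
        rw [Set.range_eq_empty, Ideal.span_empty, Algebra.Generators.ker_eq_ker_aeval_val]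
        refine ((RingHom.injective_iff_ker_eq_bot _).1 ?_).symm
        change Function.Injective (MvPolynomial.aeval (R := A) fun i : κ => e (MvPolynomial.X i))
        rw [hval]
        exact e.injective }
  have h := GrothLib.CotT.subsingleton_T1_T2_of_isEmpty P M
  exact ⟨(GrothLib.CotT.subsingleton_T1_iff (CotT.canon A B) P M).2 h.1,
    (GrothLib.CotT.subsingleton_T2_iff (CotT.canon A B) P M).2 h.2⟩

end Groth.Agent.S12287
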