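import Groth.Agent.Lib.CotT.Rel
import Groth.Statements.S12288
-- import your own Groth.Agent.* helpers here

set_option autoImplicit false
universe u w m
open scoped TensorProduct
open DefT

namespace Groth.Agent.S12288

/-- Let A be a local ring and A → B a surjective ring homomorphism whose kernel is generated by a
regular sequence a_1, …, a_r on A (each a_i is a non-zero-divisor on A/(a_1, …, a_{i-1}) and the
ideal is proper). Then T^2(B/A, M) = 0 for every B-module M, the module being computed from the
choice-free presentation of B over A. -/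
theorem result
    (A B : Type u) [CommRing A] [IsLocalRing A] [CommRing B] [Algebra A B]
    (hs : Function.Surjective (algebraMap A B)) (rs : List A) (hreg : RingTheory.Sequence.IsRegular A rs)
    (hI : RingHom.ker (algebraMap A B) = Ideal.ofList rs) (M : Type u) [AddCommGroup M] [Module B M] :
    Subsingleton (CotT.T2 (CotT.canon A B) M) := by
  let x : Fin rs.length → MvPolynomial PEmpty.{u + 1} A := fun i => MvPolynomial.C rs[(i : ℕ)]
  have hC : Function.Surjective (MvPolynomial.C : A →+* MvPolynomial PEmpty.{u + 1} A) := MvPolynomial.C_surjective _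
  have himg : ∀ (i : ℕ), i ≤ rs.length → Ideal.span (x '' {j | (j : ℕ) < i}) = (Ideal.ofList (rs.take i)).map MvPolynomial.C := by
    intro i hi
    rw [Ideal.ofList, Ideal.map_span]
    congr 1
    ext y
    constructor
    · rintro ⟨j, hj, rfl⟩
      exact ⟨rs[(j : ℕ)], List.mem_take_iff_getElem.2 ⟨j, lt_min hj j.2, rfl⟩, rfl⟩
    · rintro ⟨a, ha, rfl⟩
      obtain ⟨j, hj, rfl⟩ := List.mem_take_iff_getElem.1 ha
      exact ⟨⟨j, (lt_min_iff.1 hj).2⟩, (lt_min_iff.1 hj).1, rfl⟩
  let P : Algebra.Presentation A B PEmpty.{u + 1} (Fin rs.length) :=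
    { Algebra.Generators.ofSurjectiveAlgebraMap hs with
      relation := x
      span_range_relation_eq_ker := by
        rw [Algebra.Generators.ker_eq_ker_aeval_val]
        have h := himg rs.length le_rfl
        rw [List.take_length, ← hI, show {j : Fin rs.length | (j : ℕ) < rs.length} = Set.univ from
          Set.eq_univ_of_forall fun j => j.2, Set.image_univ] at h
        refine h.trans (le_antisymm (Ideal.map_le_iff_le_comap.2 fun a ha => ?_) fun p hp => ?_)
        · change MvPolynomial.aeval _ (MvPolynomial.C a) = 0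
          rw [MvPolynomial.aeval_C]
          exact ha
        · obtain ⟨a, rfl⟩ := hC p
          refine Ideal.mem_map_of_mem _ ?_
          change algebraMap A B a = 0
          exact (MvPolynomial.aeval_C _ a).symm.trans hp }
  refine (GrothLib.CotT.subsingleton_T2_iff (CotT.canon A B) P M).2
    (GrothLib.CotT.subsingleton_T2_of_relations_trivial P (GrothLib.CotT.relations_trivial_of_regular P ?_) M)
  intro i a ha
  obtain ⟨a, rfl⟩ := hC a
  change MvPolynomial.C a ∈ Ideal.span (x '' {j | (j : ℕ) < (i : ℕ)})
  have ha' : MvPolynomial.C (a * rs[(i : ℕ)]) ∈ Ideal.span (x '' {j | (j : ℕ) < (i : ℕ)}) := by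
    rw [map_mul]
    exact ha
  rw [himg _ i.2.le] at ha' ⊢
  rw [Ideal.mem_map_iff_of_surjective _ hC] at ha'
  obtain ⟨b, hb, hbe⟩ := ha'
  rw [MvPolynomial.C_injective _ _ hbe] at hb
  refine Ideal.mem_map_of_mem _ ?_
  have hr := hreg.toIsWeaklyRegular.regular_mod_prev i i.2
  have e : (Ideal.ofList (rs.take i) • ⊤ : Submodule A A) = Ideal.ofList (rs.take i) := by
    rw [smul_eq_mul, Ideal.mul_top]
  have h0 : (Submodule.Quotient.mk a : A ⧸ (Ideal.ofList (rs.take i) • ⊤ : Submodule A A)) = 0 := by
    refine hr ?_
    change rs[(i : ℕ)] • (Submodule.Quotient.mk a : A ⧸ (Ideal.ofList (rs.take i) • ⊤ : Submodule A A)) = rs[(i : ℕ)] • 0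
    rw [smul_zero, ← Submodule.Quotient.mk_smul, Submodule.Quotient.mk_eq_zero, e, smul_eq_mul, mul_comm]
    exact hb
  rwa [Submodule.Quotient.mk_eq_zero, e] at h0

end Groth.Agent.S12288
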