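import Groth.Agent.Lib.CotT.CI
import Groth.Agent.Lib.CMFree.Params
import Groth.Agent.S12288
import Groth.Statements.S12291
-- import your own Groth.Agent.* helpers here

set_option autoImplicit false
universe u w m
open scoped TensorProduct
open DefT

namespace Groth.Agent.S12291

/-- Let k be an algebraically closed field and A a regular local k-algebra with residue field k such
that T^1(A/k, N) = 0 and T^2(A/k, N) = 0 for all A-modules N; let I be a proper ideal of A and B =
A/I. Then B is cut out of A as a local complete intersection — meaning I is generated by some list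
of r elements with r + dim B = dim A, i.e. by dim A − dim B elements — exactly when T^2(B/k, M)
vanishes for each B-module M. The T^i are computed from the choice-free presentations. (The
published statement assumes only that A is a regular local k-algebra with residue field k; its proof
uses the vanishing of T^1(A/k, −) and T^2(A/k, −), which holds when A is essentially of finite type
over k and which this row carries as a hypothesis.) -/
theorem result
    (k A : Type u) [Field k] [IsAlgClosed k] [CommRing A] [IsRegularLocalRing A] [Algebra k A]
    (hres : Function.Surjective (algebraMap k (IsLocalRing.ResidueField A)))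
    (hT : ∀ (N : Type u) [AddCommGroup N] [Module A N],
      Subsingleton (CotT.T1 (CotT.canon k A) N) ∧ Subsingleton (CotT.T2 (CotT.canon k A) N))
    (I : Ideal A) (hI : I ≠ ⊤) :
    (∃ rs : List A, Ideal.ofList rs = I ∧ (rs.length : WithBot ℕ∞) + ringKrullDim (A ⧸ I) = ringKrullDim A) ↔
      ∀ (M : Type u) [AddCommGroup M] [Module (A ⧸ I) M], Subsingleton (CotT.T2 (CotT.canon k (A ⧸ I)) M) := by
  constructor
  · rintro ⟨rs, rfl, hdim⟩ M _ _
    letI : Module A M := Module.compHom M (algebraMap A (A ⧸ Ideal.ofList rs))
    haveI : IsScalarTower A (A ⧸ Ideal.ofList rs) M := IsScalarTower.of_compHom A _ M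
    refine (GrothLib.CotT.subsingleton_T2_base_iff M (hT M).1 (hT M).2).2 ?_
    have hreg := GrothLib.CMFree.isRegular_of_ringKrullDim_quotient A rs hI (by rw [← hdim, add_comm])
    exact Groth.Agent.S12288.result A (A ⧸ Ideal.ofList rs) Ideal.Quotient.mk_surjective rs hreg Ideal.mk_ker M
  · intro h
    obtain ⟨rs, rfl, hreg⟩ := GrothLib.CotT.exists_isRegular_of_T2 I hI fun M _ _ => by
      letI : Module A M := Module.compHom M (algebraMap A (A ⧸ I))
      haveI : IsScalarTower A (A ⧸ I) M := IsScalarTower.of_compHom A _ M
      exact (GrothLib.CotT.subsingleton_T2_base_iff M (hT M).1 (hT M).2).1 (h M)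
    exact ⟨rs, rfl, by rw [add_comm]; exact ringKrullDim_add_length_eq_ringKrullDim_of_isRegular rs hreg⟩

end Groth.Agent.S12291
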