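import Groth.Statements.S12293
import Groth.Agent.Lib.AffDef26.Scheme
import Groth.Agent.Lib.AffDef26.Classify

set_option autoImplicit false
universe u w m
open CategoryTheory CategoryTheory.Limits AlgebraicGeometry
open scoped TensorProduct
open DefT

namespace Groth.Agent.S12293

section
open ArtFun

variable {k : Type u} [Field k] {X : Scheme.{u}} {x : X ⟶ Art.specPt k}

theorem nonempty_iso_self (hx : Flat x) (ζ : DefSch X x (Art.base k k)) :
    Nonempty (ζ.Iso (DefSch.self X x hx)) := by
  haveI : IsIso ζ.i := ζ.isPullback.isIso_fst_of_isIso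
  refine ⟨⟨(asIso ζ.i).symm, ?_, IsIso.hom_inv_id ζ.i⟩⟩
  show inv ζ.i ≫ x = ζ.f
  rw [IsIso.inv_comp_eq]
  exact (Art.comp_specRes_base x).symm.trans ζ.i_f.symm

theorem iso_self_unique (hx : Flat x) (ζ : DefSch X x (Art.base k k)) (a b : ζ.Iso (DefSch.self X x hx)) :
    a.iso = b.iso := by
  haveI : IsIso ζ.i := ζ.isPullback.isIso_fst_of_isIso
  exact CategoryTheory.Iso.ext ((cancel_epi ζ.i).1 (a.i_hom.trans b.i_hom.symm))

theorem t1_congr {A B : Type u} [CommRing A] [CommRing B] [Algebra A B] {ι σ : Type u}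
    (P : Algebra.Presentation A B ι σ) {M N : Type u} [AddCommGroup M] [Module B M] [AddCommGroup N] [Module B N]
    (e : M ≃ₗ[B] N) : Nonempty (CotT.T1 P M ≃ CotT.T1 P N) := by
  refine ⟨⟨CotT.T1map P e.toLinearMap, CotT.T1map P e.symm.toLinearMap, fun z => ?_, fun z => ?_⟩⟩
  · induction z using Submodule.Quotient.induction_on with
    | H φ => exact congrArg (Submodule.Quotient.mk) (Subtype.ext (LinearMap.ext fun y => e.symm_apply_apply _))
  · induction z using Submodule.Quotient.induction_on with
    | H φ => exact congrArg (Submodule.Quotient.mk) (Subtype.ext (LinearMap.ext fun y => e.apply_symm_apply _))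

theorem isSemismall : Art.IsSemismallExt (Art.toBase (Art.dual k k)) := by
  refine ⟨(Art.dual k k).res_surjective, le_bot_iff.1 (Ideal.mul_le.2 fun r hr s hs => ?_)⟩
  rw [Art.mem_maximalIdeal_iff] at hr
  rw [RingHom.mem_ker] at hs
  have hr' : TrivSqZeroExt.fst r = 0 := hr
  have hs' : TrivSqZeroExt.fst s = 0 := hs
  rw [Ideal.mem_bot]
  refine TrivSqZeroExt.ext ?_ ?_
  · show TrivSqZeroExt.fst r * TrivSqZeroExt.fst s = 0
    rw [hr', zero_mul]
  · show TrivSqZeroExt.fst r • TrivSqZeroExt.snd s + MulOpposite.op (TrivSqZeroExt.fst s) • TrivSqZeroExt.snd r = 0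
    rw [hr', hs', zero_smul, MulOpposite.op_zero, zero_smul, add_zero]

theorem nonempty_kerEquiv : Nonempty (RingHom.ker (Art.toBase (Art.dual k k)).toAlgHom ≃ₗ[k] k) := by
  refine ⟨{ toFun := fun j => TrivSqZeroExt.snd j.1
            map_add' := fun _ _ => rfl
            map_smul' := fun c j => ?_
            invFun := fun c => ⟨(TrivSqZeroExt.inr c : DualNumber k), ?_⟩
            left_inv := fun j => ?_
            right_inv := fun c => rfl }⟩
  · simp only [Submodule.coe_smul_of_tower, RingHom.id_apply]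
    rfl
  · rw [RingHom.mem_ker]
    exact TrivSqZeroExt.fst_inr k c
  · have h : TrivSqZeroExt.fst j.1 = 0 := j.2
    exact Subtype.ext (TrivSqZeroExt.ext h.symm rfl)

end

/-- Let k be a field and B a k-algebra. The set of isomorphism classes of deformations of X = Spec B
over the dual numbers D = k[ε] (schemes flat over Spec D with a morphism from X identifying X with
the fibre over the closed point, up to isomorphism over Spec D and under X) is in bijection with the
B-module T^1(B/k, B), computed from the choice-free presentation of B over k. (The published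
statement calls the correspondence natural; this row asserts the existence of a bijection.) -/
theorem result
    (k B : Type u) [Field k] [CommRing B] [Algebra k B] :
    Nonempty ((ArtFun.defFunctor (Λ := k) (Spec (CommRingCat.of B)) (Spec.map (CommRingCat.ofHom (algebraMap k B)))).obj
        (ArtFun.Art.dual k k) ≃ CotT.T1 (CotT.canon k B) B) := by
  set X := Spec (CommRingCat.of B)
  set x := Spec.map (CommRingCat.ofHom (algebraMap k B))
  have hx : Flat x := by
    rw [HasRingHomProperty.Spec_iff (P := @Flat)]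
    exact RingHom.flat_algebraMap_iff.2 inferInstance
  let p := ArtFun.Art.toBase (ArtFun.Art.dual k k)
  let 𝒳 : ArtFun.DefSch X x (ArtFun.Art.base k k) := ArtFun.DefSch.self X x hx
  let E₀ : (ArtFun.defFunctor (Λ := k) X x).obj (ArtFun.Art.dual k k) ≃ Quot (GrothLib.AffDef.ExtRel p 𝒳) :=
    { toFun := Quotient.lift (fun ξ => Quot.mk _ ⟨ξ, (nonempty_iso_self hx (ξ.baseChange p)).some⟩)
        fun a b ⟨ψ⟩ => Quot.sound ⟨ψ, iso_self_unique hx _ _ _⟩
      invFun := Quot.lift (fun a => a.1.cl) fun a b ⟨ψ, _⟩ => Quotient.sound ⟨ψ⟩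
      left_inv := fun q => by
        induction q using Quotient.inductionOn with
        | h ξ => rfl
      right_inv := fun q => by
        induction q using Quot.ind with
        | mk a => exact Quot.sound ⟨ArtFun.DefSch.Iso.refl _, iso_self_unique hx _ _ _⟩ }
  obtain ⟨D, ⟨e₀⟩⟩ := GrothLib.AffDef.exists_affData 𝒳
  obtain ⟨E₁⟩ := GrothLib.AffDef.nonempty_extEquiv_of_iso p e₀
  obtain ⟨E₂⟩ := GrothLib.AffDef.nonempty_extEquiv_lift p (D := D) isSemismall.1
  letI := GrothLib.AffDef.algR p D
  letI : Algebra D.E B := D.ι.toAlgebra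
  let 𝒯 := ArtFun.DefSch.trivial X x hx (ArtFun.Art.dual k k)
  obtain ⟨L, -⟩ := GrothLib.AffDef.exists_isRep p (D := D) isSemismall.1
    ⟨𝒯, (nonempty_iso_self hx (𝒯.baseChange p)).some.trans e₀⟩
  obtain ⟨E₃⟩ := GrothLib.AffDef.nonempty_equiv (GrothLib.AffDef.setting p (D := D) isSemismall) L
  obtain ⟨f⟩ := nonempty_kerEquiv (k := k)
  obtain ⟨E₄⟩ := t1_congr (CotT.canon k B)
    ((TensorProduct.AlgebraTensorModule.congr (LinearEquiv.refl B B) f).trans
      (TensorProduct.AlgebraTensorModule.rid k B B))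
  exact ⟨E₀.trans (E₁.trans (E₂.trans (E₃.trans E₄)))⟩

end Groth.Agent.S12293
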