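import Groth.Agent.Lib.CotT.Rel
import Groth.Statements.S12295
-- import your own Groth.Agent.* helpers here

set_option autoImplicit false
universe u w m
open scoped TensorProduct
open DefT

namespace Groth.Agent.S12295

/-- Let k be a commutative ring, B a k-algebra and P a presentation of B over k with polynomial ring R =
k[x_i] (any set of variables), so that B = R/I; let P' be a presentation of B over R with no
polynomial variables (R itself mapping onto B, with chosen generators of I), and M a B-module. Then
T^2(B/R, M), computed from P', and T^2(B/k, M), computed from P, are isomorphic B-modules.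
(Existence of a B-linear isomorphism only; the published statement has finitely many variables over
a field and notes that any base ring works.) -/
theorem result
    (k B : Type u) [CommRing k] [CommRing B] [Algebra k B] (ι σ ι' σ' : Type w)
    (P : Algebra.Presentation k B ι σ) [IsEmpty ι']
    (P' : Algebra.Presentation P.toExtension.Ring B ι' σ')
    (M : Type m) [AddCommGroup M] [Module B M] :
    Nonempty (CotT.T2 P' M ≃ₗ[B] CotT.T2 P M) := by
  have hR : Function.Surjective (algebraMap P.toExtension.Ring B) := GrothLib.CotT.algebraMap_surjective P
  have hC : Function.Surjective (MvPolynomial.C : P.toExtension.Ring →+* MvPolynomial PEmpty.{w + 1} P.toExtension.Ring) := MvPolynomial.C_surjective _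
  let Q : Algebra.Presentation P.toExtension.Ring B PEmpty.{w + 1} σ :=
    { Algebra.Generators.ofSurjectiveAlgebraMap hR with
      relation := fun s => MvPolynomial.C (CotT.rel P s)
      span_range_relation_eq_ker := by
        rw [Algebra.Generators.ker_eq_ker_aeval_val, Set.range_comp' MvPolynomial.C (CotT.rel P), ← Ideal.map_span]
        refine le_antisymm (Ideal.map_le_iff_le_comap.2 fun a ha => ?_) fun p hp => ?_
        · change MvPolynomial.aeval _ (MvPolynomial.C a) = 0
          rw [MvPolynomial.aeval_C]
          have : a ∈ P.toExtension.ker := P.span_range_relation_eq_ker.le ha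
          exact this
        · obtain ⟨a, rfl⟩ := hC p
          refine Ideal.mem_map_of_mem _ ?_
          have h0 : a ∈ P.toExtension.ker := (MvPolynomial.aeval_C _ a).symm.trans hp
          exact P.span_range_relation_eq_ker.ge h0 }
  let h : CotT.PresHom P Q :=
    { hom := ⟨fun i => MvPolynomial.C (MvPolynomial.X i : P.toExtension.Ring), fun i => by
        refine (MvPolynomial.aeval_C _ _).trans ?_
        exact (CotT.algebraMap_toExtension P _).trans (MvPolynomial.aeval_X _ i)⟩
      relVal := fun s => Finsupp.single s 1
      jmap_relVal := fun s => by
        rw [CotT.jmap_single, one_mul]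
        change MvPolynomial.C (CotT.rel P s) = MvPolynomial.aeval (fun i => MvPolynomial.C (MvPolynomial.X i : P.toExtension.Ring)) (CotT.rel P s)
        exact (DFunLike.congr_fun (MvPolynomial.aeval_unique
          (IsScalarTower.toAlgHom k P.toExtension.Ring (MvPolynomial PEmpty.{w + 1} P.toExtension.Ring))) (CotT.rel P s)) }
  have hring : ∀ r : P.toExtension.Ring, h.ringHom r = MvPolynomial.C r := fun r =>
    (DFunLike.congr_fun (MvPolynomial.aeval_unique
      (IsScalarTower.toAlgHom k P.toExtension.Ring (MvPolynomial PEmpty.{w + 1} P.toExtension.Ring))) r).symm
  have hb : Function.Bijective h.ringHom := by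
    constructor
    · intro a b hab
      rw [hring, hring] at hab
      exact MvPolynomial.C_injective _ _ hab
    · intro p
      obtain ⟨a, rfl⟩ := hC p
      exact ⟨a, hring a⟩
  have hmod : ∀ f : CotT.relMod P, h.relModMap f = Finsupp.mapRange h.ringHom (map_zero _) f := fun f => by
    induction f using Finsupp.induction_linear with
    | zero => simp
    | add a b ha hb => rw [map_add, ha, hb, Finsupp.mapRange_add (map_add _)]
    | single s r =>
      rw [CotT.PresHom.relModMap_single, Finsupp.mapRange_single]
      change h.ringHom r • Finsupp.single s 1 = _
      rw [Finsupp.smul_single, smul_eq_mul, mul_one]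
  have hbm : Function.Bijective h.relModMap := by
    rw [show (⇑h.relModMap) = Finsupp.mapRange h.ringHom (map_zero _) from funext hmod]
    exact ⟨Finsupp.mapRange_injective _ _ hb.1, Finsupp.mapRange_surjective _ _ hb.2⟩
  obtain ⟨e⟩ := (GrothLib.CotT.nonempty_linearEquiv P' Q M).2.2
  exact ⟨e.trans (LinearEquiv.ofBijective (h.T2pull M)
    (GrothLib.CotT.T2pull_bijective_of_bijective h hb hbm M))⟩

end Groth.Agent.S12295
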