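import Groth.Agent.Lib.ArtFun.Formal
import Groth.Agent.Lib.ArtFun.SqZero
import Groth.Statements.S12299
-- import your own Groth.Agent.* helpers here

set_option autoImplicit false
universe u v
open CategoryTheory
open ArtFun

namespace Groth.Agent.S12299

/-- Let k be an algebraically closed field, F a set-valued functor on local Artinian k-algebras with
residue field k, and (R, ξ) a miniversal family for F, with R a complete local Noetherian k-algebra
with residue field k: the morphism h_R → F has the lifting property along surjections and is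
bijective on the dual numbers. Let S be a complete local Noetherian k-algebra with residue field k
and g₁, g₂ : R → S two k-algebra maps compatible with the augmentations along which ξ induces the
same formal family over S (the same compatible sequence in the F(S/m^(n+1))). Then g₁ and g₂ induce
the same map R → S/m_S², so the map R/m_R² → S/m_S² attached to a formal family over S is well
defined. (Coefficient rings are taken Noetherian here.) -/
theorem result
    {k : Type u} [Field k] [IsAlgClosed k] {F : ArtFun.Art k k ⥤ Type v}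
    (R : ArtFun.CRing k k) (ξ : ArtFun.Family R.carrier R.res F) (hξ : ArtFun.IsMiniversal ξ)
    (S : ArtFun.CRing k k) (g₁ g₂ : R.carrier →ₐ[k] S.carrier)
    (hg₁ : S.res.comp g₁ = R.res) (hg₂ : S.res.comp g₂ = R.res)
    (h : (ξ.along g₁ hg₁).toFormalElt = (ξ.along g₂ hg₂).toFormalElt) :
    (S.truncHom 1).1.comp g₁ = (S.truncHom 1).1.comp g₂ := by
  have h1 : ξ.app (S.trunc 1) ⟨(S.truncHom 1).1.comp g₁, by
        rw [← AlgHom.comp_assoc, (S.truncHom 1).2, hg₁]⟩ =
      ξ.app (S.trunc 1) ⟨(S.truncHom 1).1.comp g₂, by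
        rw [← AlgHom.comp_assoc, (S.truncHom 1).2, hg₂]⟩ := congrArg (fun η => η.elt 1) h
  set a : ArtFun.HomSet R.carrier R.res (S.trunc 1) := ⟨(S.truncHom 1).1.comp g₁, by
    rw [← AlgHom.comp_assoc, (S.truncHom 1).2, hg₁]⟩
  set b : ArtFun.HomSet R.carrier R.res (S.trunc 1) := ⟨(S.truncHom 1).1.comp g₂, by
    rw [← AlgHom.comp_assoc, (S.truncHom 1).2, hg₂]⟩
  refine AlgHom.ext fun r => ?_
  change a.1 r = b.1 r
  by_contra hne
  let σ : ArtFun.Art.base k k ⟶ S.trunc 1 :=
    ArtFun.Art.homMk (Algebra.ofId k _) (AlgHom.ext fun c => (S.trunc 1).res.commutes c)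
  have hsq : IsLocalRing.maximalIdeal (S.trunc 1) ^ 2 = ⊥ := by
    rw [← le_bot_iff]
    refine le_trans (Ideal.pow_right_mono
      (J := (IsLocalRing.maximalIdeal S.carrier).map (S.truncHom 1).1) ?_ 2) ?_
    · intro x hx
      obtain ⟨s, rfl⟩ := GrothLib.ArtFun.truncHom_surjective S 1 x
      refine Ideal.mem_map_of_mem _ ?_
      rw [← GrothLib.ArtFun.res_eq_zero_iff, GrothLib.ArtFun.res_of_homSet] at hx
      exact (ArtFun.CRing.mem_maximalIdeal_iff S s).2 hx
    · rw [← Ideal.map_pow, Ideal.map_le_iff_le_comap]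
      intro x hx
      rw [Ideal.mem_comap, Ideal.mem_bot, GrothLib.ArtFun.truncHom_eq_zero_iff]
      exact hx
  have hm : a.1 r - b.1 r ∈ IsLocalRing.maximalIdeal (S.trunc 1) := by
    rw [← GrothLib.ArtFun.res_eq_zero_iff, map_sub, GrothLib.ArtFun.res_of_homSet,
      GrothLib.ArtFun.res_of_homSet, sub_self]
  obtain ⟨hK, π, hsplit⟩ := GrothLib.ArtFun.exists_split_dual σ hsq hm (sub_ne_zero.2 hne)
  have e : ArtFun.HomSet.map π a = ArtFun.HomSet.map π b :=
    hξ.2.1 (by rw [ξ.natural, ξ.natural, h1])
  refine hne (hsplit.inj _ _ ?_ (DFunLike.congr_fun (congrArg Subtype.val e) r))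
  exact Ideal.Quotient.eq.2 (Ideal.mem_span_singleton_self _)

end Groth.Agent.S12299
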