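import Groth.Statements.S1230
import Groth.Agent.Lib.RG6.RelAssInj
-- import your own Groth.Agent.* helpers here

set_option autoImplicit false
universe u
open FlatMor

namespace Groth.Agent.S1230

open TensorProduct in
/-- Ring form, X = Spec B, X' = Spec B' affine: let B be a finite type A-algebra, N a finite B-module
flat over A, and B' a flat B-algebra such that every prime q of B, over p in A, whose extension to
the fibre ring over p is an associated prime of the fibre module of N is the contraction of a prime
of B'. Then the canonical map N → B' ⊗_B N is injective and remains injective after tensoring over A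
with any A-algebra. -/
theorem result {A B B' : Type u} [CommRing A] [CommRing B] [CommRing B'] [Algebra A B] [Algebra B B'] [Algebra A B'] [IsScalarTower A B B']
    [Algebra.FiniteType A B] [Module.Flat B B']
    (N : Type u) [AddCommGroup N] [Module B N] [Module A N] [IsScalarTower A B N] [Module.Finite B N] [Module.Flat A N]
    (h : ∀ (p : Ideal A) (q : Ideal B) [p.IsPrime] [q.IsPrime] [q.LiesOver p],
      FlatCA.fiberIdeal p q ∈ associatedPrimes (p.Fiber B) (FlatCA.fiberMod p B N) →
      ∃ q' : Ideal B', q'.IsPrime ∧ q'.comap (algebraMap B B') = q) :
    ∀ (A' : Type u) [CommRing A'] [Algebra A A'],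
      Function.Injective (((TensorProduct.mk B B' N 1).restrictScalars A).baseChange A') := by
    intro A' _ _
    exact GrothLib.RG6.baseChange_injective_of_relAss (B' := B') N h A'

end Groth.Agent.S1230
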