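import Groth.Statements.S12304
import Groth.Agent.Lib.LocalHilb26.StalkRep
import Groth.Agent.Lib.LocalHilb26.Completion

set_option autoImplicit false
universe u
open CategoryTheory CategoryTheory.Limits AlgebraicGeometry
open ArtFun

namespace Groth.Agent.S12304

/-- Let k be an algebraically closed field, M a locally Noetherian k-scheme and x₀ : Spec k → M a
k-rational point. For a local Artinian k-algebra A with residue field k consider the k-morphisms
Spec A → M whose restriction along the closed point Spec k → Spec A is x₀ (the local functor of M at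
x₀, a morphism A → B acting by composition with Spec B → Spec A). This functor is pro-representable:
there are a complete local Noetherian k-algebra R with residue field k and bijections, natural in A,
between the augmentation-compatible k-algebra maps R → A and these morphisms. (The published
statement is phrased for the fine moduli scheme M of a moduli problem, whose local functor at the
point of a given object is this one; M is taken locally Noetherian here so that the coefficient ring
is Noetherian.) -/
theorem result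
    {k : Type u} [Field k] [IsAlgClosed k] (M : Scheme.{u}) (m : M ⟶ Spec (CommRingCat.of k))
    [IsLocallyNoetherian M] (x₀ : Spec (CommRingCat.of k) ⟶ M) (hx₀ : x₀ ≫ m = 𝟙 _) :
    ∃ (R : ArtFun.CRing k k)
      (e : ∀ A : ArtFun.Art k k, ArtFun.HomSet R.carrier R.res A ≃
        {g : ArtFun.Art.spec A ⟶ M // g ≫ m = ArtFun.Art.specMap (ArtFun.Art.ofBase A) ∧ ArtFun.Art.specRes A ≫ g = x₀}),
      ∀ (A B : ArtFun.Art k k) (h : A ⟶ B) (φ : ArtFun.HomSet R.carrier R.res A),
        ((e B) (ArtFun.HomSet.map h φ)).1 = ArtFun.Art.specMap h ≫ ((e A) φ).1 := by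
  classical
  letI := GrothLib.LocalHilb26.stalkAlgebra m x₀
  let res := GrothLib.LocalHilb26.stalkRes m x₀ hx₀
  obtain ⟨R, f, hf, -, -, -, hU⟩ := GrothLib.LocalHilb26.exists_local_completion (GrothLib.LocalHilb26.ptStalk x₀) res
    fun c => ⟨algebraMap k _ c, res.commutes c⟩
  let r : ∀ A : ArtFun.Art k k, ArtFun.HomSet R.carrier R.res A → ArtFun.HomSet _ res A := fun A φ =>
    ⟨φ.1.comp f, by rw [← AlgHom.comp_assoc, φ.2, hf]⟩
  let F : ∀ A : ArtFun.Art k k, ArtFun.HomSet R.carrier R.res A →
      {g : ArtFun.Art.spec A ⟶ M // g ≫ m = ArtFun.Art.specMap (ArtFun.Art.ofBase A) ∧ ArtFun.Art.specRes A ≫ g = x₀} :=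
    fun A φ => ⟨GrothLib.LocalHilb26.pointOf m x₀ (r A φ), GrothLib.LocalHilb26.pointOf_π m x₀ _,
      GrothLib.LocalHilb26.pointOf_res m x₀ _⟩
  have hF : ∀ A, Function.Bijective (F A) := fun A => ⟨fun φ φ' h =>
      (hU (r A φ).1 (r A φ).2).unique rfl
        (congrArg Subtype.val (GrothLib.LocalHilb26.pointOf_injective m x₀ (congrArg Subtype.val h))).symm,
    fun ⟨g, hg, hg'⟩ => by
      obtain ⟨ψ₀, h⟩ := GrothLib.LocalHilb26.exists_pointOf_eq m x₀ (hpt := hx₀) g hg hg'
      obtain ⟨ψ, hψ, -⟩ := hU ψ₀.1 ψ₀.2
      refine ⟨ψ, Subtype.ext ?_⟩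
      show GrothLib.LocalHilb26.pointOf m x₀ (r A ψ) = g
      rw [show r A ψ = ψ₀ from Subtype.ext hψ, h]⟩
  exact ⟨R, fun A => Equiv.ofBijective (F A) (hF A), fun A B h φ =>
    GrothLib.LocalHilb26.pointOf_map m x₀ h (r A φ)⟩

end Groth.Agent.S12304
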