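import Groth.Statements.S12306
import Groth.Agent.Lib.Smoothing26.Rigid

set_option autoImplicit false
universe u
open CotT

namespace Groth.Agent.S12306

/-- Let k be an algebraically closed field and B₀ a finitely generated k-algebra which is not smooth
over k and is rigid, in the sense that the cotangent module T¹(B₀/k, B₀) (from the choice-free
presentation) vanishes. Let A be a finitely generated k-algebra which is a domain, smooth over k of
Krull dimension one, t ∈ A an element generating a maximal ideal, and B a finitely generated flat
A-algebra, a k-algebra compatibly with A, whose fibre B/tB is k-isomorphic to B₀. Then this family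
does not smooth Spec B₀: there is a prime of B not containing t at which B is not smooth over A.
(The published statement asserts that a singular rigid scheme admits no smoothing by any flat
family; this row states it for flat families with affine total space over an affine nonsingular
curve whose point is cut out by one equation.) -/
theorem result
    {k : Type u} [Field k] [IsAlgClosed k] (B₀ : Type u) [CommRing B₀] [Algebra k B₀] [Algebra.FiniteType k B₀]
    (hsing : ¬ Algebra.Smooth k B₀) (hrigid : Subsingleton (CotT.T1 (CotT.canon k B₀) B₀))
    (A B : Type u) [CommRing A] [CommRing B] [IsDomain A] [Algebra k A] [Algebra.FiniteType k A]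
    [Algebra.Smooth k A] (hdim : ringKrullDim A = 1) (t : A) (ht : (Ideal.span {t}).IsMaximal)
    [Algebra A B] [Algebra.FiniteType A B] [Module.Flat A B] [Algebra k B] [IsScalarTower k A B]
    (e : (B ⧸ Ideal.span {algebraMap A B t}) ≃ₐ[k] B₀) :
    ∃ q : PrimeSpectrum B, algebraMap A B t ∉ q.asIdeal ∧ q ∉ Algebra.smoothLocus A B := by
  by_contra hcon
  push Not at hcon
  haveI : IsNoetherianRing A := Algebra.FiniteType.isNoetherianRing k A
  haveI : Algebra.FinitePresentation A B := Algebra.FinitePresentation.of_finiteType.1 inferInstance
  haveI : Algebra.FinitePresentation k B₀ := Algebra.FinitePresentation.of_finiteType.1 inferInstance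
  have hsm : Algebra.FormallySmooth A (Localization.Away (algebraMap A B t)) :=
    Algebra.basicOpen_subset_smoothLocus_iff.1 fun q hq => hcon q hq
  have ht0 : t ≠ 0 := fun h0 => by
    have hf : IsField A := by
      by_contra hnf
      obtain ⟨p, hp, hpp⟩ := Ring.not_isField_iff_exists_prime.1 hnf
      have hb : (⊥ : Ideal A).IsMaximal := by rwa [h0, Ideal.span_singleton_zero] at ht
      exact hp (hb.eq_of_le hpp.ne_top bot_le).symm
    have := ringKrullDim_eq_zero_of_isField hf
    rw [hdim] at this
    exact one_ne_zero this
  have hregA : ∀ r, t * r = 0 → r = 0 := fun r h => (mul_eq_zero.1 h).resolve_left ht0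
  have hregB : ∀ r : B, algebraMap A B t * r = 0 → r = 0 := fun r h => by
    have h1 : IsSMulRegular B (algebraMap A B t) :=
      IsSMulRegular.of_flat (fun a b hab => mul_left_cancel₀ ht0 hab)
    exact h1.right_eq_zero_of_smul h
  letI := Ideal.Quotient.field (Ideal.span {t})
  haveI : Algebra.FiniteType k (A ⧸ Ideal.span {t}) :=
    Algebra.FiniteType.of_surjective (Ideal.Quotient.mkₐ k (Ideal.span {t})) Ideal.Quotient.mk_surjective
  haveI : Module.Finite k (A ⧸ Ideal.span {t}) := finite_of_finite_type_of_isJacobsonRing k _
  let ek : k ≃ₐ[k] A ⧸ Ideal.span {t} := AlgEquiv.ofBijective (Algebra.ofId k _)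
    (IsAlgClosed.algebraMap_bijective_of_isIntegral (k := k) (K := A ⧸ Ideal.span {t}))
  let πA : A →ₐ[k] k := ek.symm.toAlgHom.comp (Ideal.Quotient.mkₐ k _)
  let π : B →ₐ[k] B₀ := e.toAlgHom.comp (Ideal.Quotient.mkₐ k _)
  refine hsing ⟨GrothLib.Smoothing26.formallySmooth_of_rigid t hregA hregB πA ?_ π
    (e.surjective.comp Ideal.Quotient.mk_surjective) ?_ hrigid hsm, inferInstance⟩
  · ext a
    rw [RingHom.mem_ker, ← Ideal.Quotient.eq_zero_iff_mem]
    exact map_eq_zero_iff _ ek.symm.injective
  · ext b
    rw [RingHom.mem_ker, ← Ideal.Quotient.eq_zero_iff_mem]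
    exact map_eq_zero_iff _ e.injective

end Groth.Agent.S12306
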