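import Groth.Statements.S12308
import Groth.Agent.Lib.DefGlue19.AffineTangent
import Groth.Agent.Lib.ArtFun.Hull
-- import your own Groth.Agent.* helpers here

set_option autoImplicit false
universe u
open CategoryTheory AlgebraicGeometry
open SGA7

namespace Groth.Agent.S12308

/-- Suppose Λ is a Noetherian local ring, complete for its maximal ideal, whose residue field is k (so
the map Λ → k is surjective), and work with functors on local Artinian Λ-algebras having residue
field k. Take X₀ to be an affine scheme of finite type over k, together with an open subscheme U ⊆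
X₀ that is smooth over k and has finite complement (thus X₀ fails to be smooth at only finitely many
points). Under these assumptions the deformation functor of X₀, which sends A to isomorphism classes
of schemes flat over Spec A whose closed fibre is X₀, has a hull; equivalently, there is a
miniversal family defined over a complete local Noetherian Λ-algebra with residue field k. -/
theorem result (Λ k : Type u) [CommRing Λ] [IsLocalRing Λ] [IsNoetherianRing Λ]
    [IsAdicComplete (IsLocalRing.maximalIdeal Λ) Λ] [Field k] [Algebra Λ k]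
    (hk : Function.Surjective (algebraMap Λ k))
    (X : Scheme.{u}) [IsAffine X] (x : X ⟶ Spec (CommRingCat.of k)) [LocallyOfFiniteType x]
    (U : X.Opens) (hU : Smooth (U.ι ≫ x)) (hfin : ((U : Set X)ᶜ).Finite) :
    ArtFun.HasHull (ArtFun.defFunctor (Λ := Λ) X x) := by
  let B₀ : CommRingCat.{u} := Γ(X, ⊤)
  let φ : CommRingCat.of k ⟶ B₀ := Spec.preimage (X.isoSpec.inv ≫ x)
  have hφ : Spec.map φ = X.isoSpec.inv ≫ x := Spec.map_preimage _
  letI : Algebra k B₀ := φ.hom.toAlgebra
  have hft : Algebra.FiniteType k B₀ := by
    have h : LocallyOfFiniteType (Spec.map φ) := by rw [hφ]; infer_instance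
    exact (HasRingHomProperty.Spec_iff (P := @LocallyOfFiniteType)).1 h
  haveI := hft
  obtain ⟨ι, σ, _, _, ⟨P⟩⟩ := GrothLib.DefGlue19.exists_presentation k B₀
  let Z : Set (PrimeSpectrum B₀) := X.isoSpec.inv ⁻¹' (U : Set X)ᶜ
  haveI : Module.Finite k (CotT.T1 P B₀) := by
    refine GrothLib.DefGlue19.finite_T1 P Z (U.2.isClosed_compl.preimage X.isoSpec.inv.continuous)
      (hfin.preimage X.isoSpec.inv.isOpenEmbedding.injective.injOn) fun g hg => ?_
    let j : Spec (CommRingCat.of (Localization.Away g)) ⟶ Spec B₀ :=
      Spec.map (CommRingCat.ofHom (algebraMap B₀ (Localization.Away g)))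
    have hrange : Set.range (j ≫ X.isoSpec.inv) ⊆ Set.range U.ι := by
      rw [Scheme.Opens.range_ι]
      rintro _ ⟨q, rfl⟩
      let y : PrimeSpectrum B₀ := j q
      have h1 : y ∈ (PrimeSpectrum.basicOpen g : Set (PrimeSpectrum B₀)) :=
        (PrimeSpectrum.localization_away_comap_range (Localization.Away g) g).subset ⟨q, rfl⟩
      exact not_not.1 (hg h1)
    haveI := hU
    have hs : Smooth (IsOpenImmersion.lift U.ι (j ≫ X.isoSpec.inv) hrange ≫ U.ι ≫ x) := inferInstance
    rw [IsOpenImmersion.lift_fac_assoc, Category.assoc, ← hφ, ← Spec.map_comp] at hs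
    have h2 : (algebraMap k (Localization.Away g)).Smooth := (HasRingHomProperty.Spec_iff (P := @Smooth)).1 hs
    exact (RingHom.smooth_algebraMap.1 h2).1
  haveI : Module.Finite Λ k := Module.Finite.of_surjective (Algebra.linearMap Λ k) hk
  obtain ⟨T⟩ := GrothLib.ArtFun.nonempty_tangentStr (GrothLib.DefGlue19.h0_defFunctor (Λ := Λ) X x)
    (GrothLib.DefGlue19.heps_defFunctor (Λ := Λ) X x)
  letI := T
  exact GrothLib.ArtFun.hasHull_of_conditions (GrothLib.ArtFun.simpleRoots_of_surjective hk)
    (GrothLib.DefGlue19.h0_defFunctor X x)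
    (fun _ _ _ _ _ _ _ _ h hf => GrothLib.DefGlue19.cmp_surjective X x h hf)
    (GrothLib.DefGlue19.heps_defFunctor X x)
    (GrothLib.DefGlue19.hfin_of_finite_T1 (X' := Spec (CommRingCat.of B₀)) (x' := Spec.map φ) X.isoSpec.symm hφ.symm
      P (CategoryTheory.Iso.refl _) (Category.id_comp _))

end Groth.Agent.S12308
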