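import Groth.Statements.S12309
import Groth.Agent.Lib.DefGlue19.Functor
-- import your own Groth.Agent.* helpers here

set_option autoImplicit false
universe u
open CategoryTheory AlgebraicGeometry
open SGA7

namespace Groth.Agent.S12309

/-- Suppose Λ is a Noetherian local ring, complete for its maximal ideal, whose residue field is k (so
that Λ → k is surjective), and work with functors defined on local Artinian Λ-algebras having
residue field k. Take a k-scheme X₀ and assume its deformation functor (sending A to isomorphism
classes of schemes flat over Spec A whose closed fibre is X₀) admits a hull. The deformation functor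
is then pro-representable exactly when the following holds: given any surjective morphism p : A' → A
and any deformation X' of X₀ over A', every automorphism of the base change of X' along p arises by
restricting some automorphism of X' (automorphisms being taken over Spec A' and inducing the
identity on X₀), i.e. the restriction map is surjective. (In the published version the assertion is
stated for X₀ proper over k, or affine of finite type with only finitely many non-smooth points,
cases in which a hull exists; here the existence of a hull is assumed outright, as that is all the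
printed proof relies on.) -/
theorem result (Λ k : Type u) [CommRing Λ] [IsLocalRing Λ] [IsNoetherianRing Λ]
    [IsAdicComplete (IsLocalRing.maximalIdeal Λ) Λ] [Field k] [Algebra Λ k]
    (hk : Function.Surjective (algebraMap Λ k))
    (X : Scheme.{u}) (x : X ⟶ Spec (CommRingCat.of k))
    (hX : ArtFun.HasHull (ArtFun.defFunctor (Λ := Λ) X x)) :
    ArtFun.IsProrepresentable (ArtFun.defFunctor (Λ := Λ) X x) ↔
      ∀ (A' A : ArtFun.Art Λ k) (p : A' ⟶ A), Function.Surjective p →
        ∀ ξ' : ArtFun.DefSch (Λ := Λ) X x A',
          Function.Surjective (fun e : ξ'.Iso ξ' => e.baseChange p) := by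
  refine ⟨fun h A' A p hp => ?_, fun H => ?_⟩
  · obtain ⟨⟨R, ξ, hξ⟩⟩ := h
    exact (GrothLib.DefGlue19.autLift_iff p).1 (GrothLib.DefGlue19.autLift_of_injective p hp
      fun _ q₁ q₂ h => (GrothLib.ArtFun.isLeftExact_of_isUniversal ξ hξ q₁ q₂ p p h).1)
  · obtain ⟨⟨R, ξ, hξ⟩⟩ := hX
    refine ⟨⟨R, ξ, GrothLib.ArtFun.isUniversal_of_isMiniversal ξ (GrothLib.DefGlue19.h0_defFunctor X x) ?_ hξ⟩⟩
    intro B A A' p₁ p₂ f h hf
    exact ⟨GrothLib.DefGlue19.cmp_injective X x h hf.1 ((GrothLib.DefGlue19.autLift_iff f).2 (H _ _ f hf.1)),
      GrothLib.DefGlue19.cmp_surjective X x h hf.1⟩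

end Groth.Agent.S12309
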