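import Groth.Statements.S12314
-- import your own Groth.Agent.* helpers here

set_option autoImplicit false
universe u
open CategoryTheory CategoryTheory.Limits AlgebraicGeometry MonObj
open SGA7

namespace Groth.Agent.S12314

/-- Let R be a henselian discrete valuation ring with fraction field K and residue field k, Ω a
separable closure of K, W a valuation subring of Ω lying over R, A and C abelian varieties over K
(proper, geometrically integral commutative group schemes), and u : C → A an isogeny, in the form: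
there are a homomorphism v : A → C and an integer n > 0 with v ∘ u = n and u ∘ v = n. Let ℓ be a
prime invertible in k and consider the ℓ-adic Tate modules of the Ω-points of C and A; call an
element fixed when all its components are fixed by the inertia group at W (for such ℓ the fixed part
is the inertia invariants). Then T_ℓ(u) maps the fixed part of T_ℓ(C) into the fixed part of T_ℓ(A)
and induces an isogeny between them: T_ℓ(u) is injective, and n times every fixed element of T_ℓ(A)
is the image of a fixed element of T_ℓ(C). (The case of a prime equal to the residue characteristic,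
where the fixed part is defined through the Néron model, is not stated.) -/
theorem result (R K Ω : Type u) [CommRing R] [IsDomain R] [IsDiscreteValuationRing R] [HenselianLocalRing R]
    [Field K] [Algebra R K] [IsFractionRing R K] [Field Ω] [Algebra K Ω] [IsSepClosure K Ω]
    (W : ValuationSubring Ω) (hW : SGA7.LiesOver K R W)
    (A C : Over (Spec (CommRingCat.of K))) [GrpObj A] [IsCommMonObj A] [IsProper A.hom] [GeometricallyIntegral A.hom]
    [GrpObj C] [IsCommMonObj C] [IsProper C.hom] [GeometricallyIntegral C.hom]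
    (u : C ⟶ A) [IsMonHom u] (v : A ⟶ C) [IsMonHom v] (n : ℕ) (hn : 0 < n)
    (huv : u ≫ v = (𝟙 C) ^ n) (hvu : v ≫ u = (𝟙 A) ^ n)
    (l : ℕ) (hl : l.Prime) (hlp : (l : IsLocalRing.ResidueField R) ≠ 0) :
    (∀ z : AbDual.TateMod C l (SGA7.pt Ω),
      (∀ (τ : Ω ≃ₐ[K] Ω) (m : ℕ), SGA7.IsInertia W τ →
        SGA7.galAct τ (AbDual.TateMod.component C l (SGA7.pt Ω) m z).toMul =
          (AbDual.TateMod.component C l (SGA7.pt Ω) m z).toMul) →
      (∀ (τ : Ω ≃ₐ[K] Ω) (m : ℕ), SGA7.IsInertia W τ →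
        SGA7.galAct τ (AbDual.TateMod.component A l (SGA7.pt Ω) m (AbDual.tateMap u z)).toMul =
          (AbDual.TateMod.component A l (SGA7.pt Ω) m (AbDual.tateMap u z)).toMul)) ∧
    (∀ z : AbDual.TateMod C l (SGA7.pt Ω), AbDual.tateMap (l := l) (T := SGA7.pt Ω) u z = 0 → z = 0) ∧
    (∀ y : AbDual.TateMod A l (SGA7.pt Ω),
      (∀ (τ : Ω ≃ₐ[K] Ω) (m : ℕ), SGA7.IsInertia W τ →
        SGA7.galAct τ (AbDual.TateMod.component A l (SGA7.pt Ω) m y).toMul =
          (AbDual.TateMod.component A l (SGA7.pt Ω) m y).toMul) →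
      ∃ z : AbDual.TateMod C l (SGA7.pt Ω),
        (∀ (τ : Ω ≃ₐ[K] Ω) (m : ℕ), SGA7.IsInertia W τ →
        SGA7.galAct τ (AbDual.TateMod.component C l (SGA7.pt Ω) m z).toMul =
          (AbDual.TateMod.component C l (SGA7.pt Ω) m z).toMul) ∧
        AbDual.tateMap (l := l) (T := SGA7.pt Ω) u z = n • y) := by
  have hgal : ∀ {P Q : Over (Spec (CommRingCat.of K))} (f : P ⟶ Q) (τ : Ω ≃ₐ[K] Ω) (x : SGA7.pt Ω ⟶ P),
      SGA7.galAct τ (x ≫ f) = SGA7.galAct τ x ≫ f := fun f τ x => by
    simp [SGA7.galAct]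
  have hnat : ∀ {B B' : Over (Spec (CommRingCat.of K))} [GrpObj B] [IsCommMonObj B] [GrpObj B'] [IsCommMonObj B']
      (f : B ⟶ B') [IsMonHom f] (g : B' ⟶ B) [IsMonHom g] (hfg : f ≫ g = (𝟙 B) ^ n)
      (z : AbDual.TateMod B l (SGA7.pt Ω)),
      AbDual.tateMap (l := l) (T := SGA7.pt Ω) g (AbDual.tateMap (l := l) (T := SGA7.pt Ω) f z) = n • z := by
    intro B B' _ _ _ _ f _ g _ hfg z
    refine AbDual.TateMod.ext fun m => ?_
    show Additive.ofMul ((((z : ℕ → Additive (SGA7.pt Ω ⟶ B)) m).toMul ≫ f) ≫ g) = _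
    rw [Category.assoc, hfg, MonObj.comp_pow, Category.comp_id]
    rfl
  refine ⟨fun z hz τ m hτ => ?_, fun z hz => ?_, fun y hy => ⟨AbDual.tateMap (l := l) (T := SGA7.pt Ω) v y,
    fun τ m hτ => ?_, hnat v u hvu y⟩⟩
  · rw [AbDual.tateMap_component, hgal, hz τ m hτ]
  · have h := hnat u v huv z
    rw [hz, map_zero] at h
    obtain ⟨a, m, hm, rfl⟩ := Nat.exists_eq_pow_mul_and_not_dvd (Nat.pos_iff_ne_zero.1 hn) l hl.ne_one
    refine AbDual.TateMod.ext fun k => ?_
    have hdiv : ∀ j, l ^ a • (z : ℕ → Additive (SGA7.pt Ω ⟶ C)) (j + a) = (z : ℕ → Additive (SGA7.pt Ω ⟶ C)) j := by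
      clear h hn huv hvu hnat
      induction a with
      | zero => intro j; simp
      | succ a ih =>
        intro j
        rw [pow_succ, mul_nsmul', ← Nat.add_assoc, z.compat, ih]
    have hk : m • (z : ℕ → Additive (SGA7.pt Ω ⟶ C)) k = 0 := by
      rw [← hdiv k, ← mul_nsmul', Nat.mul_comm]
      exact (congrArg (fun w : AbDual.TateMod C l (SGA7.pt Ω) => (w : ℕ → Additive (SGA7.pt Ω ⟶ C)) (k + a)) h).symm
    have h1 := addOrderOf_dvd_of_nsmul_eq_zero hk
    have h2 := addOrderOf_dvd_of_nsmul_eq_zero (z.torsion k)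
    have h3 : Nat.Coprime m (l ^ k) := ((hl.coprime_iff_not_dvd.2 hm).symm).pow_right k
    exact AddMonoid.addOrderOf_eq_one_iff.1 (Nat.eq_one_of_dvd_coprimes h3 h1 h2)
  · rw [AbDual.tateMap_component, hgal, hy τ m hτ]

end Groth.Agent.S12314
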