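import Groth.Statements.S12315
import Groth.Agent.Lib.ArtFun.Minimal

set_option autoImplicit false
universe u v
open CategoryTheory
open SGA7

namespace Groth.Agent.S12315

/-- Let Λ be a complete Noetherian local ring with residue field k (the map Λ → k surjective), and
consider functors on the category of local Artinian Λ-algebras with residue field k. Let F be such a
functor, R a complete local Noetherian Λ-algebra with residue field k, and ξ a family of F over R (a
morphism h_R → F) which is injective on k[ε]: distinct augmented Λ-algebra maps R → k[ε] give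
distinct elements of F(k[ε]). Then every endomorphism of the pair (R, ξ), that is every Λ-algebra
map α : R → R compatible with the augmentation such that transporting ξ along α gives back ξ, is an
automorphism of R. (The published statement is for formal objects of a cofibred groupoid; this row
is the case of a set-valued functor.) -/
theorem result (Λ k : Type u) [CommRing Λ] [IsLocalRing Λ] [IsNoetherianRing Λ]
    [IsAdicComplete (IsLocalRing.maximalIdeal Λ) Λ] [Field k] [Algebra Λ k]
    (hk : Function.Surjective (algebraMap Λ k))
    (F : ArtFun.Art Λ k ⥤ Type v) (R : ArtFun.CRing Λ k) (ξ : ArtFun.Family R.carrier R.res F)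
    (hinj : Function.Injective (ξ.app (ArtFun.Art.dual Λ k)))
    (α : R.carrier →ₐ[Λ] R.carrier) (hα : R.res.comp α = R.res) (hξ : ξ.along α hα = ξ) :
    Function.Bijective α := by
  letI : Algebra R.carrier k := (R.res : R.carrier →+* k).toAlgebra
  haveI : IsScalarTower Λ R.carrier k :=
    IsScalarTower.of_algebraMap_eq fun l => (R.res.commutes l).symm
  haveI := R.isAdicComplete
  have htower : IsScalarTower.toAlgHom Λ R.carrier k = R.res := AlgHom.ext fun _ => rfl
  have key : ∀ δ : ArtFun.HomSet R.carrier R.res (ArtFun.Art.dual Λ k), ∀ r, δ.1 (α r) = δ.1 r := fun δ => by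
    have e1 : ξ.app (ArtFun.Art.dual Λ k) ⟨δ.1.comp α, by rw [← AlgHom.comp_assoc, δ.2, hα]⟩ =
        ξ.app (ArtFun.Art.dual Λ k) δ :=
      congrArg (fun ζ : ArtFun.Family R.carrier R.res F => ζ.app (ArtFun.Art.dual Λ k) δ) hξ
    exact fun r => DFunLike.congr_fun (congrArg Subtype.val (hinj e1)) r
  have hs : Function.Surjective α := by
    refine GrothLib.ArtFun.surjective_of_derivation R R.res_surjective α (htower.symm ▸ hα) fun D₁ D₂ hD => ?_
    obtain ⟨δ₁, h₁⟩ := GrothLib.ArtFun.exists_homSet_of_derivation (fun _ => rfl) D₁
    obtain ⟨δ₂, h₂⟩ := GrothLib.ArtFun.exists_homSet_of_derivation (fun _ => rfl) D₂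
    exact Derivation.ext fun r => by
      rw [← h₁, ← key δ₁, h₁, hD, ← h₂, key δ₂, h₂]
  exact ⟨GrothLib.ArtFun.injective_of_surjective_endo α.toRingHom hs, hs⟩

end Groth.Agent.S12315
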