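import Groth.Statements.S12316
import Groth.Agent.Lib.ArtFun.Torsor

set_option autoImplicit false
universe u v
open CategoryTheory
open SGA7

namespace Groth.Agent.S12316

/-- Suppose Λ is a Noetherian local ring, complete for its maximal ideal, whose residue field is k (so Λ
→ k is surjective), and work with functors defined on the category of local Artinian Λ-algebras
having residue field k. Take morphisms φ : F → G and ψ : G → H of such functors. Assume that each of
F(k), G(k), H(k) consists of a single point; that for G the comparison map on fibre products A₁ ×_A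
A₂ is surjective as soon as A₂ → A is surjective, and is bijective for products of the form A' ×_k
k[ε]; that for H the comparison map is bijective on every fibre product A₁ ×_A A₂ with A₂ → A
surjective; and that the induced map on tangent spaces G(k[ε]) → H(k[ε]) coming from ψ is injective.
Under these assumptions, φ ≫ ψ is smooth if and only if both φ and ψ are smooth. (The published
statement is for functors of cofibred groupoids with G semi-homogeneous and H homogeneous; this row
is the case of set-valued functors.) -/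
theorem result (Λ k : Type u) [CommRing Λ] [IsLocalRing Λ] [IsNoetherianRing Λ]
    [IsAdicComplete (IsLocalRing.maximalIdeal Λ) Λ] [Field k] [Algebra Λ k]
    (hk : Function.Surjective (algebraMap Λ k))
    {F G H : ArtFun.Art Λ k ⥤ Type v} (φ : F ⟶ G) (ψ : G ⟶ H)
    (hF : ArtFun.H0 F) (hG : ArtFun.H0 G ∧ ArtFun.S1 G ∧ ArtFun.Heps G) (hH0 : ArtFun.H0 H)
    (hH : ∀ ⦃B A A' A'' : ArtFun.Art Λ k⦄ (p' : B ⟶ A') (p'' : B ⟶ A'') (f' : A' ⟶ A) (f'' : A'' ⟶ A)
      (h : ArtFun.Art.IsFibreProd p' p'' f' f''), Function.Surjective f'' → Function.Bijective (ArtFun.cmp H h))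
    (hψ : Function.Injective (ArtFun.TangentSpace.map ψ)) :
    ArtFun.IsSmooth (φ ≫ ψ) ↔ (ArtFun.IsSmooth φ ∧ ArtFun.IsSmooth ψ) := by
  refine ⟨fun h => ?_, fun h => GrothLib.ArtFun.isSmooth_comp φ ψ h.1 h.2⟩
  have hG1 : ArtFun.Hbar G := fun _ _ _ _ p' p'' f' f'' hp hs => hG.2.1 p' p'' f' f'' hp hs.1
  have hH4 : ArtFun.HSq H := fun _ _ _ p₁ p₂ f hp hs => hH p₁ p₂ f f hp hs.1
  have hφ : ArtFun.IsSmooth φ := GrothLib.ArtFun.isSmooth_of_small φ fun B A μ hμ x y hxy => by
    obtain ⟨x', hx₁, hx₂⟩ := (GrothLib.ArtFun.isSmooth_iff (φ ≫ ψ)).1 h μ hμ.1 x (ψ.app B y)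
      (by rw [← GrothLib.ArtFun.naturality', ← hxy]; rfl)
    obtain ⟨t, hker, -⟩ := GrothLib.ArtFun.smallExt_exists_gen hμ
    obtain ⟨P, p₁, p₂, hP⟩ := GrothLib.ArtFun.exists_isFibreProd_of_surjective μ μ hμ.1
    obtain ⟨g, hg⟩ := GrothLib.ArtFun.exists_isDiff hμ hker hP
    obtain ⟨θ, hθ⟩ := GrothLib.ArtFun.trel_transitive (g := g) hμ hP hG1
      (y := φ.app B x') (y' := y) (by rw [← GrothLib.ArtFun.naturality', hx₁, hxy])
    have hθH : GrothLib.ArtFun.TRel p₁ p₂ g (ψ.app _ θ) (ψ.app B (φ.app B x')) (ψ.app B y) := by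
      obtain ⟨z, a, b, c⟩ := hθ
      exact ⟨ψ.app P z, by rw [← GrothLib.ArtFun.naturality', a], by rw [← GrothLib.ArtFun.naturality', b],
        by rw [← GrothLib.ArtFun.naturality', c]⟩
    obtain ⟨pt⟩ := hG.1.1
    have hx₂' : ψ.app B (φ.app B x') = ψ.app B y := hx₂
    rw [hx₂'] at hθH
    have e := GrothLib.ArtFun.trel_free hμ hP hH4 hθH
      (GrothLib.ArtFun.trel_zero hμ hker hP hg hH0 (ψ.app B y) (ψ.app _ pt))
    rw [← GrothLib.ArtFun.naturality'] at e
    rw [hψ e] at hθ
    exact ⟨x', hx₁, GrothLib.ArtFun.trel_unique hμ hker hP hg hG.2.2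
      (GrothLib.ArtFun.trel_zero hμ hker hP hg hG.1 (φ.app B x') pt) hθ⟩
  exact ⟨hφ, GrothLib.ArtFun.isSmooth_of_comp φ ψ
    (GrothLib.ArtFun.surjective_app_of_isSmooth φ hφ (GrothLib.ArtFun.surjective_app_base_of_h0 φ hF hG.1)) h⟩

end Groth.Agent.S12316
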