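import Groth.Statements.S12320
import Groth.Agent.Lib.ArtFun.Torsor

set_option autoImplicit false
universe u v
open CategoryTheory
open SGA7

namespace Groth.Agent.S12320

theorem isSmallExt_toBase_dual (Λ k : Type u) [CommRing Λ] [Field k] [Algebra Λ k] :
    ArtFun.Art.IsSmallExt (ArtFun.Art.toBase (ArtFun.Art.dual Λ k)) := by
  let p := ArtFun.Art.toBase (ArtFun.Art.dual Λ k)
  have k1 : ∀ x : DualNumber k, TrivSqZeroExt.fst x = 0 →
      TrivSqZeroExt.inl (TrivSqZeroExt.snd x) * (DualNumber.eps : DualNumber k) = x := fun x hx =>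
    TrivSqZeroExt.ext (by simp [hx]) (by simp)
  have k2 : ∀ a b : DualNumber k, TrivSqZeroExt.fst a = 0 → TrivSqZeroExt.fst b = 0 → a * b = 0 :=
    fun a b ha hb => TrivSqZeroExt.ext (by simp [ha]) (by simp [ha, hb])
  have k3 : (DualNumber.eps : DualNumber k) ≠ 0 := fun h => by simpa using congrArg TrivSqZeroExt.snd h
  have hmem : ∀ x : DualNumber k, x ∈ RingHom.ker p.toAlgHom ↔ TrivSqZeroExt.fst x = 0 := fun x => Iff.rfl
  have hker : RingHom.ker p.toAlgHom = Ideal.span {(DualNumber.eps : DualNumber k)} :=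
    le_antisymm (fun x hx => Ideal.mem_span_singleton'.2 ⟨_, k1 x ((hmem x).1 hx)⟩)
      ((Ideal.span_singleton_le_iff_mem _).2 ((hmem _).2 (DualNumber.fst_eps (R := k))))
  refine ⟨GrothLib.ArtFun.toBase_surjective _, fun h => k3 ?_, ⟨⟨_, hker⟩⟩, ?_⟩
  · exact (Submodule.eq_bot_iff _).1 h _ ((hmem _).2 (DualNumber.fst_eps (R := k)))
  · rw [← le_bot_iff, Ideal.mul_le]
    intro a ha b hb
    exact k2 a b (GrothLib.ArtFun.res_eq_zero_iff.2 ha) ((hmem b).1 hb)

/-- Suppose Λ is a Noetherian local ring, complete for its maximal ideal, whose residue field is k (so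
that Λ → k is onto), and work with functors defined on the category of local Artinian Λ-algebras
having residue field k. Take such a functor F for which F(k) is a singleton, for which the
comparison map F(A₁ ×_A A₂) → F(A₁) ×_{F(A)} F(A₂) is surjective as soon as A₂ → A is surjective,
and for which this map is bijective in the case A' ×_k k[ε]. Call an element a ∈ F(R) versal for
small prolongations of the base point when, given any object R₀ whose augmentation R₀ → k is a small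
extension and any b ∈ F(R₀), some morphism R → R₀ sends a to b. Assume a ∈ F(R) has this versality
property, that π₁ : R₁ → R is a small extension together with a₁ ∈ F(R₁) whose image is a, and that
g : R' → R is a morphism together with a' ∈ F(R') whose image is a. Then a morphism f : R' → R₁
satisfying f ≫ π₁ = g and sending a' to a₁ exists exactly when some morphism f : R' → R₁ satisfying
f ≫ π₁ = g exists at all. (The published statement concerns semi-homogeneous cofibred groupoids;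
this row treats only the set-valued functor case.) -/
theorem result (Λ k : Type u) [CommRing Λ] [IsLocalRing Λ] [IsNoetherianRing Λ]
    [IsAdicComplete (IsLocalRing.maximalIdeal Λ) Λ] [Field k] [Algebra Λ k]
    (hk : Function.Surjective (algebraMap Λ k))
    (F : ArtFun.Art Λ k ⥤ Type v) (hF : ArtFun.H0 F ∧ ArtFun.S1 F ∧ ArtFun.Heps F)
    {R R₁ R' : ArtFun.Art Λ k} (π₁ : R₁ ⟶ R) (hπ : ArtFun.Art.IsSmallExt π₁) (g : R' ⟶ R)
    (a : F.obj R) (a₁ : F.obj R₁) (a' : F.obj R') (h₁ : F.map π₁ a₁ = a) (h' : F.map g a' = a)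
    (hvers : ∀ (R₀ : ArtFun.Art Λ k), ArtFun.Art.IsSmallExt (ArtFun.Art.toBase R₀) →
      ∀ b : F.obj R₀, ∃ φ : R ⟶ R₀, F.map φ a = b) :
    (∃ f : R' ⟶ R₁, f ≫ π₁ = g ∧ F.map f a' = a₁) ↔ (∃ f : R' ⟶ R₁, f ≫ π₁ = g) := by
  refine ⟨fun ⟨f, hf, _⟩ => ⟨f, hf⟩, fun ⟨f, hf⟩ => ?_⟩
  have hF1 : ArtFun.Hbar F := fun _ _ _ _ p' p'' f' f'' hp hs => hF.2.1 p' p'' f' f'' hp hs.1
  obtain ⟨t, hker, -⟩ := GrothLib.ArtFun.smallExt_exists_gen hπ
  obtain ⟨P, p₁, p₂, hP⟩ := GrothLib.ArtFun.exists_isFibreProd_of_surjective π₁ π₁ hπ.1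
  obtain ⟨d, hd⟩ := GrothLib.ArtFun.exists_isDiff hπ hker hP
  obtain ⟨θ, z, hz₁, hz₂, hz₃⟩ := GrothLib.ArtFun.trel_transitive (g := d) hπ hP hF1
    (y := F.map f a') (y' := a₁) (by rw [GrothLib.ArtFun.map_map, hf, h', h₁])
  obtain ⟨φ, hφ⟩ := hvers _ (isSmallExt_toBase_dual Λ k) θ
  obtain ⟨h, hh₁, hh₂⟩ := GrothLib.ArtFun.fp_exists_lift
    (GrothLib.ArtFun.isFibreProd_of_isDiff hπ hker hP hd) f (g ≫ φ)
    ((ArtFun.Art.eq_toBase _).trans (ArtFun.Art.eq_toBase _).symm)
  have hz : F.map h a' = z := GrothLib.ArtFun.eq_of_cmp_injective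
    (hF.2.2 _ _ (GrothLib.ArtFun.isFibreProd_of_isDiff hπ hker hP hd)).1
    (by rw [GrothLib.ArtFun.map_map, hh₁, hz₁])
    (by rw [GrothLib.ArtFun.map_map, hh₂, ← GrothLib.ArtFun.map_map, h', hφ, hz₂])
  refine ⟨h ≫ p₂, ?_, by rw [← GrothLib.ArtFun.map_map, hz, hz₃]⟩
  rw [Category.assoc, ← hP.w, ← Category.assoc, hh₁, hf]

end Groth.Agent.S12320
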