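import Groth.Statements.S12321
import Groth.Agent.Lib.ArtFun.SmoothFun
import Groth.Agent.Lib.ArtFun.Hull
import Groth.Agent.Lib.ArtFun.Constructions
import Groth.Agent.S12320

set_option autoImplicit false
universe u v
open CategoryTheory
open SGA7

namespace Groth.Agent.S12321

theorem map_relMax {Λ S R : Type u} [CommRing Λ] [IsLocalRing Λ] [CommRing S] [Algebra Λ S] [IsLocalRing S] [CommRing R]
    [Algebra Λ R] [IsLocalRing R] (f : S →ₐ[Λ] R) (hf : Function.Surjective f) :
    (IsLocalRing.maximalIdeal S ^ 2 ⊔ (IsLocalRing.maximalIdeal Λ).map (algebraMap Λ S)).map f.toRingHom =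
      IsLocalRing.maximalIdeal R ^ 2 ⊔ (IsLocalRing.maximalIdeal Λ).map (algebraMap Λ R) := by
  rw [Ideal.map_sup, Ideal.map_pow, IsLocalRing.map_maximalIdeal_of_surjective f.toRingHom hf, Ideal.map_map]
  congr 2
  exact f.comp_algebraMap

open GrothLib.ArtFun in
/-- A smooth cover with the same relative cotangent space. -/
theorem exists_minimal_cover (Λ k : Type u) [CommRing Λ] [IsLocalRing Λ] [IsNoetherianRing Λ]
    [IsAdicComplete (IsLocalRing.maximalIdeal Λ) Λ] [Field k] [Algebra Λ k]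
    (hk : Function.Surjective (algebraMap Λ k)) (R : ArtFun.Art Λ k) :
    ∃ (S : ArtFun.CRing Λ k) (φ : ArtFun.HomSet S.carrier S.res R), Function.Surjective φ.1 ∧
      RingHom.ker φ.1 ≤ IsLocalRing.maximalIdeal S.carrier ^ 2 ⊔
        (IsLocalRing.maximalIdeal Λ).map (algebraMap Λ S.carrier) ∧
      ∀ (B : ArtFun.Art Λ k) (p : B ⟶ R), Function.Surjective p →
        ∃ ψ : ArtFun.HomSet S.carrier S.res B, ArtFun.HomSet.map p ψ = φ := by
  classical
  haveI : Module.Finite Λ k := Module.Finite.of_surjective (Algebra.linearMap Λ k) hk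
  let B0 : ArtFun.CRing Λ k := baseCRing hk
  let N : Ideal R := IsLocalRing.maximalIdeal (R : Type u) ^ 2 ⊔ (IsLocalRing.maximalIdeal Λ).map (algebraMap Λ R)
  let P : ℕ → Prop := fun r => ∃ a : Fin r → R, (∀ i, a i ∈ IsLocalRing.maximalIdeal (R : Type u)) ∧
    IsLocalRing.maximalIdeal (R : Type u) ≤ Ideal.span (Set.range a) ⊔ N
  have hex : ∃ r, P r := by
    obtain ⟨s, hs⟩ := (IsNoetherian.noetherian (IsLocalRing.maximalIdeal (R : Type u)) :
      (IsLocalRing.maximalIdeal (R : Type u)).FG)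
    refine ⟨s.card, fun i => s.equivFin.symm i, fun i => ?_, ?_⟩
    · rw [← hs]; exact Submodule.subset_span (s.equivFin.symm i).2
    · refine le_trans hs.ge (le_sup_of_le_left (Submodule.span_mono fun x hx => ?_))
      exact ⟨s.equivFin ⟨x, hx⟩, by simp⟩
  obtain ⟨r, hr, hmin⟩ : ∃ r, P r ∧ ∀ r' < r, ¬ P r' :=
    ⟨Nat.find hex, Nat.find_spec hex, fun r' h => Nat.find_min hex h⟩
  obtain ⟨a, ha, hspan⟩ := hr
  let φ0 : ∀ B : ArtFun.Art Λ k, ArtFun.HomSet B0.carrier B0.res B := fun B =>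
    ⟨Algebra.ofId Λ B, AlgHom.ext fun l => B.res.commutes l⟩
  obtain ⟨φ, hφC, hφX⟩ := exists_homSet_ps (φ0 R) a fun i => res_eq_zero_iff.2 (ha i)
  have hφm : ∀ x, x ∈ IsLocalRing.maximalIdeal (PS B0 r) → φ.1 x ∈ IsLocalRing.maximalIdeal (R : Type u) :=
    fun x hx => res_eq_zero_iff.1 ((res_of_homSet (R := psCRing B0 r) φ x).trans ((mem_maximalIdeal_ps B0 r).1 hx))
  suffices hker : ∀ f : PS B0 r, φ.1 f = 0 → f ∈ IsLocalRing.maximalIdeal (PS B0 r) ^ 2 ⊔
      (IsLocalRing.maximalIdeal Λ).map (algebraMap Λ (PS B0 r)) by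
    refine ⟨psCRing B0 r, φ, ?_, fun f hf => hker f (RingHom.mem_ker.1 hf), fun B p hp => ?_⟩
    · haveI := isAdicComplete_art R
      refine surjective_of_cotangent' (psCRing B0 r) R.res_surjective φ.1 φ.2 (hspan.trans (sup_le ?_ (sup_le le_sup_right ?_)))
      · refine le_sup_of_le_left (Ideal.span_le.2 ?_)
        rintro _ ⟨i, rfl⟩
        rw [← hφX]
        exact Ideal.mem_map_of_mem φ.1 (X_mem B0 r i)
      · refine le_sup_of_le_left (Ideal.map_le_iff_le_comap.2 fun l hl => ?_)
        rw [Ideal.mem_comap, ← φ.1.commutes]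
        refine Ideal.mem_map_of_mem φ.1 ((mem_maximalIdeal_ps B0 r).2 ((AlgHom.commutes (psRes B0 r) l).trans ?_))
        rw [← RingHom.mem_ker, IsLocalRing.eq_maximalIdeal (RingHom.ker_isMaximal_of_surjective _ hk)]
        exact hl
    · choose b hb using fun i => hp (a i)
      obtain ⟨ψ, hψC, hψX⟩ := exists_homSet_ps (φ0 B) b fun i => by
        rw [← ArtFun.Art.res_app p, hb]; exact res_eq_zero_iff.2 (ha i)
      refine ⟨ψ, homSet_ps_ext (fun c => ?_) (fun i => ?_)⟩
      · change p.toAlgHom (ψ.1 _) = _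
        rw [hψC, hφC]; exact p.toAlgHom.commutes c
      · change p.toAlgHom (ψ.1 _) = _
        rw [hψX, hφX]; exact hb i
  intro f hf
  have hf0 : psRes B0 r f = 0 := by
    rw [← DFunLike.congr_fun φ.2 f, AlgHom.comp_apply, hf, map_zero]
  let c : B0.carrier := MvPowerSeries.constantCoeff f
  let ci : Fin r → B0.carrier := fun i => MvPowerSeries.coeff (Finsupp.single i 1) f
  have hc : c ∈ IsLocalRing.maximalIdeal Λ := by
    rw [← IsLocalRing.eq_maximalIdeal (RingHom.ker_isMaximal_of_surjective _ hk)]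
    exact RingHom.mem_ker.2 hf0
  let L : PS B0 r := MvPowerSeries.C c + ∑ i, MvPowerSeries.C (ci i) * MvPowerSeries.X i
  have hrest : f - L ∈ IsLocalRing.maximalIdeal (PS B0 r) ^ 2 := by
    rw [mem_pow_maximalIdeal_ps]
    intro d
    rcases Nat.lt_or_ge d.degree 1 with h | h
    · obtain rfl : d = 0 := (Finsupp.degree_eq_zero_iff d).1 (by omega)
      have : MvPowerSeries.coeff (0 : Fin r →₀ ℕ) (f - L) = 0 := by
        simp [L, c, MvPowerSeries.coeff_zero_eq_constantCoeff]
      rw [this]; exact zero_mem _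
    rcases Nat.lt_or_ge d.degree 2 with h' | h'
    · obtain ⟨i, rfl⟩ := (Finsupp.sum_eq_one_iff d).1 (show d.degree = 1 by omega)
      have : MvPowerSeries.coeff (Finsupp.single i 1) (f - L) = 0 := by
        simp [L, ci, MvPowerSeries.coeff_C, MvPowerSeries.coeff_X, Finsupp.single_left_inj, Finset.sum_ite_eq]
      rw [this]; exact zero_mem _
    · simp [Nat.sub_eq_zero_of_le h']
  have hCm : ∀ l ∈ IsLocalRing.maximalIdeal Λ, (MvPowerSeries.C l : PS B0 r) ∈
      (IsLocalRing.maximalIdeal Λ).map (algebraMap Λ (PS B0 r)) := fun l hl => by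
    have := Ideal.mem_map_of_mem (algebraMap Λ (PS B0 r)) hl
    rwa [MvPowerSeries.algebraMap_apply] at this
  have hci : ∀ i, (show Λ from ci i) ∈ IsLocalRing.maximalIdeal Λ := by
    intro i
    by_contra hu
    obtain ⟨m, rfl⟩ : ∃ m, r = m + 1 := ⟨r - 1, by have := i.2; omega⟩
    obtain ⟨v, hv⟩ : ∃ v : Λ, v * (show Λ from ci i) = 1 := (IsLocalRing.notMem_maximalIdeal.1 hu).exists_left_inv
    refine hmin m (Nat.lt_succ_self m) ⟨fun j => a (i.succAbove j), fun j => ha _, ?_⟩
    let J : Ideal R := Ideal.span (Set.range fun j => a (i.succAbove j)) ⊔ N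
    refine hspan.trans (sup_le (Ideal.span_le.2 ?_) le_sup_right)
    rintro _ ⟨l, rfl⟩
    have hJ : ∀ l, l ≠ i → a l ∈ J := fun l hl => by
      obtain ⟨j, rfl⟩ := Fin.exists_succAbove_eq hl
      exact Ideal.mem_sup_left (Ideal.subset_span ⟨j, rfl⟩)
    by_cases hl : l = i
    swap
    · exact hJ l hl
    subst hl
    have hφC' : ∀ x : Λ, φ.1 (MvPowerSeries.C x) = algebraMap Λ R x := fun x => hφC x
    have h1 : φ.1 L ∈ N := by
      have := Ideal.mem_map_of_mem φ.1 hrest
      rw [Ideal.map_pow, map_sub, hf, zero_sub, neg_mem_iff] at this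
      exact Ideal.mem_sup_left (Ideal.pow_right_mono (Ideal.map_le_iff_le_comap.2 hφm) 2 this)
    have hL : φ.1 L = algebraMap Λ R c + ∑ j, algebraMap Λ R (show Λ from ci j) * a j := by
      simp only [L, map_add, map_sum, map_mul, hφX]
      exact congrArg₂ (· + ·) (hφC' c) (Finset.sum_congr rfl fun j _ => congrArg (· * a j) (hφC' (ci j)))
    rw [hL, ← Finset.add_sum_erase _ _ (Finset.mem_univ l)] at h1
    have hS : ∑ j ∈ Finset.univ.erase l, algebraMap Λ R (show Λ from ci j) * a j ∈ J :=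
      Ideal.sum_mem J fun j hj => Ideal.mul_mem_left _ _ (hJ j (Finset.ne_of_mem_erase hj))
    have hcJ : algebraMap Λ R c ∈ J := Ideal.mem_sup_right (Ideal.mem_sup_right (Ideal.mem_map_of_mem _ hc))
    have h1J := Ideal.mem_sup_right (S := Ideal.span (Set.range fun j => a (l.succAbove j))) h1
    have h2 : algebraMap Λ R (show Λ from ci l) * a l ∈ J := by
      have h3 := sub_mem (sub_mem h1J hcJ) hS
      rwa [add_sub_cancel_left, add_sub_cancel_right] at h3
    have h4 := Ideal.mul_mem_left J (algebraMap Λ R v) h2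
    have h5 : algebraMap Λ R v * algebraMap Λ R (show Λ from ci l) = 1 := by rw [← map_mul, hv, map_one]
    rw [← mul_assoc] at h4
    exact (congrArg (· * a l) h5).trans (one_mul _) ▸ h4
  rw [← sub_add_cancel f L]
  exact add_mem (Ideal.mem_sup_left hrest) (Ideal.mem_sup_right (add_mem (hCm c hc)
    (Ideal.sum_mem _ fun i _ => Ideal.mul_mem_right _ _ (hCm _ (hci i)))))


/-- Suppose Λ is a Noetherian local ring that is complete, and k is its residue field, so the map Λ → k
is surjective. We look at functors on the category of local Artinian Λ-algebras whose residue field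
is k. Take such a functor F for which F(k) is a single point, the comparison map F(A₁ ×_A A₂) →
F(A₁) ×_{F(A)} F(A₂) is surjective whenever A₂ → A is surjective, and this map is bijective for A'
×_k k[ε]. Call an element a ∈ F(R) versal for small prolongations of the base point when, for each
object R₀ whose augmentation R₀ → k is a small extension and each b ∈ F(R₀), some morphism R → R₀
sends a to b. Assume a ∈ F(R) has this property. Then one can find an object R', a morphism q : R' →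
R and an element a' ∈ F(R') whose image is a, satisfying the following. First, q is surjective and
the maximal ideal annihilates its kernel. Second, q induces an isomorphism m_{R'}/(m_{R'}² + m_Λ R')
→ m_R/(m_R² + m_Λ R) between relative cotangent spaces (only injectivity is stated; surjectivity
comes for free). Third, a' is versal for small prolongations of a: given any small extension π₁ : R₁
→ R and any a₁ ∈ F(R₁) with image a, there is f : R' → R₁ satisfying f ≫ π₁ = q and sending a' to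
a₁. (The published statement concerns semi-homogeneous cofibred groupoids; this row treats the case
of set-valued functors.) -/
theorem result (Λ k : Type u) [CommRing Λ] [IsLocalRing Λ] [IsNoetherianRing Λ]
    [IsAdicComplete (IsLocalRing.maximalIdeal Λ) Λ] [Field k] [Algebra Λ k]
    (hk : Function.Surjective (algebraMap Λ k))
    (F : ArtFun.Art Λ k ⥤ Type v) (hF : ArtFun.H0 F ∧ ArtFun.S1 F ∧ ArtFun.Heps F)
    (R : ArtFun.Art Λ k) (a : F.obj R)
    (hvers : ∀ (R₀ : ArtFun.Art Λ k), ArtFun.Art.IsSmallExt (ArtFun.Art.toBase R₀) →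
      ∀ b : F.obj R₀, ∃ φ : R ⟶ R₀, F.map φ a = b) :
    ∃ (R' : ArtFun.Art Λ k) (q : R' ⟶ R) (a' : F.obj R'), F.map q a' = a ∧
      ArtFun.Art.IsSemismallExt q ∧
      (∀ x' : R', x' ∈ IsLocalRing.maximalIdeal (R' : Type u) →
        q x' ∈ (IsLocalRing.maximalIdeal (R : Type u)) ^ 2 ⊔ (IsLocalRing.maximalIdeal Λ).map (algebraMap Λ R) →
        x' ∈ (IsLocalRing.maximalIdeal (R' : Type u)) ^ 2 ⊔ (IsLocalRing.maximalIdeal Λ).map (algebraMap Λ R')) ∧
      ∀ (R₁ : ArtFun.Art Λ k) (π₁ : R₁ ⟶ R), ArtFun.Art.IsSmallExt π₁ →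
        ∀ a₁ : F.obj R₁, F.map π₁ a₁ = a → ∃ f : R' ⟶ R₁, f ≫ π₁ = q ∧ F.map f a' = a₁ := by
  obtain ⟨S, φ, hφs, hφk, hlift⟩ := exists_minimal_cover Λ k hk R
  obtain ⟨B, ψ, p, hψs, hψp, hps, hψker⟩ := GrothLib.ArtFun.exists_semismall_cover φ hφs
  obtain ⟨J, ⟨hJ, hJm, a', ha'⟩, hmin⟩ := GrothLib.ArtFun.exists_least_lift hF.2.1 hps a
  let R' := ArtFun.Art.quot B J hJm
  let q : R' ⟶ R := ArtFun.Art.quotFactor hJm p hJ
  let ψ' : ArtFun.HomSet S.carrier S.res R' := ArtFun.HomSet.map (ArtFun.Art.quotMk B J hJm) ψ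
  have hψ's : Function.Surjective ψ'.1 := (ArtFun.Art.quotMk_surjective B J hJm).comp hψs
  have hqs : Function.Surjective q := GrothLib.ArtFun.quotFactor_surjective hJm hJ hps.1
  have hqψ : ∀ x, q (ψ'.1 x) = φ.1 x := fun x => DFunLike.congr_fun (congrArg Subtype.val hψp) x
  refine ⟨R', q, a', ha', ⟨hqs, ?_⟩, fun x' hx' hqx => ?_, fun R₁ π₁ hπ a₁ ha₁ => ?_⟩
  · rw [← le_bot_iff, Ideal.mul_le]
    intro x hx y hy
    obtain ⟨x, rfl⟩ := ArtFun.Art.quotMk_surjective B J hJm x
    obtain ⟨y, rfl⟩ := ArtFun.Art.quotMk_surjective B J hJm y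
    have hx1 : x ∈ IsLocalRing.maximalIdeal (B : Type u) := by
      rw [← GrothLib.ArtFun.res_eq_zero_iff] at hx ⊢
      rw [← ArtFun.Art.res_app (ArtFun.Art.quotMk B J hJm)]
      exact hx
    have hy1 : y ∈ RingHom.ker p.toAlgHom := hy
    rw [Ideal.mem_bot]
    refine (map_mul (ArtFun.Art.quotMk B J hJm).toAlgHom x y).symm.trans ?_
    rw [show x * y = 0 from (Submodule.eq_bot_iff _).1 hps.2 _ (Ideal.mul_mem_mul hx1 hy1)]
    exact map_zero _
  · obtain ⟨s, rfl⟩ := hψ's x'
    rw [hqψ] at hqx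
    let NS : Ideal S.carrier := IsLocalRing.maximalIdeal S.carrier ^ 2 ⊔
      (IsLocalRing.maximalIdeal Λ).map (algebraMap Λ S.carrier)
    rw [← map_relMax φ.1 hφs] at hqx
    obtain ⟨n, hn, hns⟩ := (Ideal.mem_map_iff_of_surjective φ.1.toRingHom hφs).1 hqx
    have hs : s ∈ NS := by
      rw [← sub_add_cancel s n]
      exact add_mem (hφk (RingHom.mem_ker.2 (by rw [map_sub, sub_eq_zero]; exact hns.symm))) hn
    rw [← map_relMax ψ'.1 hψ's]
    exact Ideal.mem_map_of_mem ψ'.1.toRingHom hs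
  · refine (Groth.Agent.S12320.result Λ k hk F hF π₁ hπ q a a₁ a' ha₁ ha' hvers).2 ?_
    obtain ⟨χ, hχ⟩ := hlift R₁ π₁ hπ.1
    have hχa : ∀ x, π₁ (χ.1 x) = φ.1 x := fun x => DFunLike.congr_fun (congrArg Subtype.val hχ) x
    obtain ⟨g, hg⟩ := GrothLib.ArtFun.exists_factor_homSet hψs χ (le_trans hψker (Ideal.mul_le.2 fun x hx y hy => by
      refine RingHom.mem_ker.2 ?_
      rw [map_mul]
      exact GrothLib.ArtFun.mul_eq_zero_of_mem_maximalIdeal hπ.2.2.2 (GrothLib.ArtFun.apply_mem_maximalIdeal χ hx)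
        (GrothLib.ArtFun.mem_ker_iff.2 ((hχa y).trans (RingHom.mem_ker.1 hy)))))
    have hgp : g ≫ π₁ = p :=
      GrothLib.ArtFun.hom_ext_of_surjective hψs (by rw [← GrothLib.ArtFun.homSet_map_comp, hg, hχ, hψp])
    have hG := GrothLib.ArtFun.ker_le_maximalIdeal g
    have hGp : RingHom.ker g.toAlgHom ≤ RingHom.ker p.toAlgHom := fun b hb => GrothLib.ArtFun.mem_ker_iff.2 (by
      rw [← hgp]
      exact (congrArg π₁.toAlgHom (GrothLib.ArtFun.mem_ker_iff.1 hb)).trans (map_zero _))
    have hJg : J ≤ RingHom.ker g.toAlgHom := by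
      by_cases hgs : Function.Surjective g
      · refine hmin _ ⟨hGp, hG, ?_⟩
        have hb : Function.Bijective (ArtFun.Art.quotFactor hG g le_rfl) := by
          refine ⟨fun x y e => ?_, GrothLib.ArtFun.quotFactor_surjective hG le_rfl hgs⟩
          obtain ⟨x, rfl⟩ := ArtFun.Art.quotMk_surjective B _ hG x
          obtain ⟨y, rfl⟩ := ArtFun.Art.quotMk_surjective B _ hG y
          refine Ideal.Quotient.eq.2 (GrothLib.ArtFun.mem_ker_iff.2 ?_)
          rw [map_sub, sub_eq_zero]
          exact e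
        haveI := GrothLib.ArtFun.isIso_of_bijective _ hb
        refine ⟨F.map (inv (ArtFun.Art.quotFactor hG g le_rfl)) a₁, ?_⟩
        rw [← ha₁, GrothLib.ArtFun.map_map]
        refine congrArg (fun f => F.map f a₁) (show _ = π₁ from (IsIso.inv_comp_eq _).2 ?_)
        exact GrothLib.ArtFun.hom_ext_apply fun x => by
          obtain ⟨b, rfl⟩ := ArtFun.Art.quotMk_surjective B _ hG x
          exact GrothLib.ArtFun.apply_congr_hom hgp.symm b
      · refine hJ.trans fun b hb => ?_
        by_contra hne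
        refine hgs fun d => ?_
        obtain ⟨t, hker, ht0, htm, -⟩ := GrothLib.ArtFun.smallExt_exists_gen hπ
        obtain ⟨e, he⟩ := hps.1 (π₁ d)
        obtain ⟨u, hu⟩ : ∃ u, u * t = d - g e := by
          refine Ideal.mem_span_singleton'.1 ?_
          rw [← hker, GrothLib.ArtFun.mem_ker_iff, map_sub, ← GrothLib.ArtFun.mem_ker_iff.1 hb]
          rw [GrothLib.ArtFun.mem_ker_iff.1 hb, sub_eq_zero, ← he, ← hgp]
          rfl
        obtain ⟨c, hc⟩ : ∃ c, c * t = g b := by
          refine Ideal.mem_span_singleton'.1 ?_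
          rw [← hker, GrothLib.ArtFun.mem_ker_iff, ← GrothLib.ArtFun.mem_ker_iff.1 hb, ← hgp]
          rfl
        have hc0 : R₁.res c ≠ 0 := fun h => hne (GrothLib.ArtFun.mem_ker_iff.2 (by
          rw [← hc]; exact htm c (GrothLib.ArtFun.res_eq_zero_iff.1 h)))
        obtain ⟨l, hl⟩ := hk (R₁.res u / R₁.res c)
        have hres : R₁.res (algebraMap Λ R₁ l * c) = R₁.res u := by
          rw [map_mul, AlgHom.commutes, hl, div_mul_cancel₀ _ hc0]
        refine ⟨e + algebraMap Λ B l * b, ?_⟩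
        have h0 : (u - algebraMap Λ R₁ l * c) * t = 0 :=
          htm _ (GrothLib.ArtFun.res_eq_zero_iff.1 (by rw [map_sub, hres, sub_self]))
        rw [sub_mul, sub_eq_zero, hu, mul_assoc, hc] at h0
        rw [map_add, map_mul, AlgHom.commutes, ← h0, add_sub_cancel]
    refine ⟨ArtFun.Art.quotFactor hJm g hJg, ?_⟩
    exact GrothLib.ArtFun.hom_ext_apply fun x => by
      obtain ⟨b, rfl⟩ := ArtFun.Art.quotMk_surjective B _ hJm x
      exact GrothLib.ArtFun.apply_congr_hom hgp b

end Groth.Agent.S12321
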