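import Groth.Statements.S9589
import Mathlib.RingTheory.Localization.Ideal
import Mathlib.Algebra.Module.LocalizedModule.IsLocalization
import Mathlib.Tactic.LinearCombination

set_option autoImplicit false
universe u
open CAlg

namespace Groth.Agent.S9589

/-- For a ring R, an R-module M, a multiplicative subset S of R and a prime p of R not meeting S, p is
weakly associated to M if and only if the extended prime p S⁻¹R is weakly associated to the
S⁻¹R-module S⁻¹M. -/
theorem result {R : Type u} [CommRing R] (S : Submonoid R) (M : Type u) [AddCommGroup M] [Module R M] (p : Ideal R) [p.IsPrime] (hS : Disjoint (S : Set R) (p : Set R)) :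
    p ∈ FlatCA.weakAss R M ↔ Ideal.map (algebraMap R (Localization S)) p ∈ FlatCA.weakAss (Localization S) (LocalizedModule S M) := by
  let A := Localization S
  let μ := LocalizedModule.mkLinearMap S M
  have hp : p.IsPrime := inferInstance
  have hann : ∀ (m : M) (r : R), algebraMap R A r ∈ (Submodule.span A {μ m}).annihilator ↔
      ∃ s ∈ S, s * r ∈ (Submodule.span R {m}).annihilator := by
    intro m r
    rw [Submodule.mem_annihilator_span_singleton, algebraMap_smul, ← map_smul,
      ← LinearMap.mem_ker, LocalizedModule.mem_ker_mkLinearMap_iff]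
    simp only [Submodule.mem_annihilator_span_singleton, mul_smul]
  have hcm : (p.map (algebraMap R A)).comap (algebraMap R A) = p :=
    IsLocalization.comap_map_of_isPrime_disjoint S A hp hS
  have hP : (p.map (algebraMap R A)).IsPrime :=
    IsLocalization.isPrime_of_isPrime_disjoint S A p hp hS
  constructor
  · rintro ⟨m, hm⟩
    refine ⟨μ m, ⟨hP, ?_⟩, fun Q hQ hle => ?_⟩
    · rw [← IsLocalization.map_comap S A (Submodule.span A {μ m}).annihilator]
      refine Ideal.map_mono fun r hr => ?_
      obtain ⟨s, hs, hsr⟩ := (hann m r).1 hr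
      exact (hp.mem_or_mem (hm.1.2 hsr)).resolve_left (fun h => Set.disjoint_left.1 hS hs h)
    · rw [← IsLocalization.map_comap S A Q]
      refine Ideal.map_mono (hm.2 ⟨hQ.1.comap _, fun r hr => hQ.2 ?_⟩ ?_)
      · exact (hann m r).2 ⟨1, one_mem S, by rwa [one_mul]⟩
      · exact hcm ▸ Ideal.comap_mono hle
  · rintro ⟨x, hx⟩
    obtain ⟨⟨m, t⟩, hmt⟩ := IsLocalizedModule.surj S μ x
    have ht : IsUnit (algebraMap R A (t : R)) := IsLocalization.map_units A t
    have hxm : (Submodule.span A {x}).annihilator = (Submodule.span A {μ m}).annihilator := by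
      ext a
      rw [Submodule.mem_annihilator_span_singleton, Submodule.mem_annihilator_span_singleton,
        ← hmt, Submonoid.smul_def, ← algebraMap_smul A (t : R) x, smul_comm,
        ht.smul_eq_zero]
    rw [hxm] at hx
    refine ⟨m, ⟨hp, fun r hr => ?_⟩, fun q hq hle => ?_⟩
    · rw [← hcm]
      exact hx.1.2 ((hann m r).2 ⟨1, one_mem S, by rwa [one_mul]⟩)
    · have hd : Disjoint (S : Set R) (q : Set R) := Set.disjoint_of_subset_right hle hS
      have hQ := IsLocalization.isPrime_of_isPrime_disjoint S A q hq.1 hd
      rw [← IsLocalization.comap_map_of_isPrime_disjoint S A hq.1 hd, ← hcm]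
      refine Ideal.comap_mono (hx.2 ⟨hQ, ?_⟩ (Ideal.map_mono hle))
      rw [← IsLocalization.map_comap S A (Submodule.span A {μ m}).annihilator]
      refine Ideal.map_mono fun r hr => ?_
      obtain ⟨s, hs, hsr⟩ := (hann m r).1 hr
      exact (hq.1.mem_or_mem (hq.2 hsr)).resolve_left (fun h => Set.disjoint_left.1 hd hs h)

end Groth.Agent.S9589
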