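import Groth.Statements.S1234
import Groth.Agent.Lib.RG6.WeakAssIndEt
import Groth.Agent.S9589
import Groth.Agent.S0507
import Groth.Agent.S0538
import Groth.Agent.Lib.Hensel.Henselization
-- import your own Groth.Agent.* helpers here

set_option autoImplicit false
universe u
open FlatMor

namespace Groth.Agent.S1234

open TensorProduct IsLocalRing in
/-- Ring form, S = Spec A: let M be an A-module and p a prime of A; let Ah be a henselization and Ash a
strict henselization of the local ring A_p. The following are equivalent: p is a weakly associated
prime of M; the maximal ideal of A_p is a weakly associated prime of M_p; the maximal ideal of Ah is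
a weakly associated prime of Ah ⊗ M_p; the maximal ideal of Ash is a weakly associated prime of Ash
⊗ M_p. -/
theorem result {A : Type u} [CommRing A] (M : Type u) [AddCommGroup M] [Module A M] (p : Ideal A) [p.IsPrime]
    (Ah Ash : Type u) [CommRing Ah] [IsLocalRing Ah] [CommRing Ash] [IsLocalRing Ash]
    [Algebra (Localization.AtPrime p) Ah] [IsLocalHom (algebraMap (Localization.AtPrime p) Ah)] [Hensel.IsHenselization (Localization.AtPrime p) Ah]
    [Algebra (Localization.AtPrime p) Ash] [IsLocalHom (algebraMap (Localization.AtPrime p) Ash)] [Hensel.IsStrictHenselization (Localization.AtPrime p) Ash] :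
    [p ∈ FlatCA.weakAss A M,
     maximalIdeal (Localization.AtPrime p) ∈ FlatCA.weakAss (Localization.AtPrime p) (LocalizedModule p.primeCompl M),
     maximalIdeal Ah ∈ FlatCA.weakAss Ah (Ah ⊗[Localization.AtPrime p] LocalizedModule p.primeCompl M),
     maximalIdeal Ash ∈ FlatCA.weakAss Ash (Ash ⊗[Localization.AtPrime p] LocalizedModule p.primeCompl M)].TFAE := by
    let R := Localization.AtPrime p
    have h12 : p ∈ FlatCA.weakAss A M ↔
        maximalIdeal R ∈ FlatCA.weakAss R (LocalizedModule p.primeCompl M) := by
      rw [Groth.Agent.S9589.result p.primeCompl M p (Set.disjoint_left.2 fun x hx hx' => hx hx'),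
        Localization.AtPrime.map_eq_maximalIdeal]
    have h23 := GrothLib.RG6.weakAss_maximal_iff (R := R) (B := Ah) GrothLib.Hensel.IsHenselization.isIndEtale
      (Groth.Agent.S0507.result R Ah) (LocalizedModule p.primeCompl M)
    have h24 := GrothLib.RG6.weakAss_maximal_iff (R := R) (B := Ash) GrothLib.Hensel.IsStrictHenselization.isIndEtale
      (Groth.Agent.S0538.result R Ash) (LocalizedModule p.primeCompl M)
    tfae_have 1 ↔ 2 := h12
    tfae_have 2 ↔ 3 := h23
    tfae_have 2 ↔ 4 := h24
    tfae_finish

end Groth.Agent.S1234
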