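import Groth.Statements.S9431
import Mathlib
import Groth.Agent.Lib.SepField.Smooth
-- import your own Groth.Agent.* helpers here

set_option autoImplicit false
universe u
open CAlg

namespace Groth.Agent.S9431

open scoped IntermediateField.algebraAdjoinAdjoin in


/-- For a separable (geometrically reduced) field extension K/k, every finite subset of K lies in a
k-subalgebra of K which is smooth over k; in particular K is a filtered colimit of smooth
k-algebras. -/
theorem result (k : Type u) [Field k]
    (K : Type u) [Field K] [Algebra k K] [Algebra.IsGeometricallyReduced k K] (E : Finset K) :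
    ∃ A : Subalgebra k K, (↑E : Set K) ⊆ (A : Set K) ∧ Algebra.Smooth k A := by
  classical
  set L := IntermediateField.adjoin k (E : Set K) with hL
  haveI : Algebra.IsGeometricallyReduced k L :=
    Algebra.IsGeometricallyReduced.of_injective L.val Subtype.val_injective
  haveI : Algebra.FormallySmooth k L :=
    GrothLib.SepField.formallySmooth_iff_isGeometricallyReduced.mpr inferInstance
  set A := Algebra.adjoin k (E : Set K) with hA
  haveI : Algebra.FiniteType k A := Algebra.FiniteType.adjoin_of_finite E.finite_toSet
  haveI : Algebra.FinitePresentation k A := Algebra.FinitePresentation.of_finiteType.1 inferInstance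
  haveI : IsLocalization.AtPrime L (⊥ : Ideal A) := by
    have hM : (⊥ : Ideal A).primeCompl = nonZeroDivisors A := by
      ext x
      simp [Ideal.primeCompl, mem_nonZeroDivisors_iff_ne_zero]
    rw [IsLocalization.AtPrime, hM]
    exact (inferInstance : IsFractionRing A L)
  haveI : Algebra.IsSmoothAt k (⊥ : Ideal A) :=
    Algebra.FormallySmooth.of_equiv
      ((Localization.algEquiv (⊥ : Ideal A).primeCompl L).restrictScalars k).symm
  obtain ⟨f, hf, hfs⟩ := Algebra.IsSmoothAt.exists_notMem_smooth (R := k) (⊥ : Ideal A)
  have hf0 : (f : K) ≠ 0 := fun h => hf (Subtype.ext h : f = 0)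
  let φ : Localization.Away f →ₐ[k] K :=
    IsLocalization.liftAlgHom (M := Submonoid.powers f) (f := A.val) fun y => by
      obtain ⟨n, hn⟩ := y.2
      refine IsUnit.mk0 _ ?_
      rw [← hn, map_pow]
      exact pow_ne_zero _ hf0
  have hφ : Function.Injective φ := by
    rw [injective_iff_map_eq_zero]
    intro z hz
    obtain ⟨a, ⟨m, hm⟩, rfl⟩ := IsLocalization.exists_mk'_eq (Submonoid.powers f) z
    have h1 := IsLocalization.mk'_spec (Localization.Away f) a (⟨m, hm⟩ : Submonoid.powers f)
    have h2 := congrArg φ h1
    rw [map_mul, hz, zero_mul] at h2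
    simp only [φ, IsLocalization.liftAlgHom_apply, IsLocalization.lift_eq] at h2
    rw [show a = 0 from Subtype.ext h2.symm, IsLocalization.mk'_zero]
  exact ⟨φ.range, fun x hx => ⟨algebraMap A _ ⟨x, Algebra.subset_adjoin hx⟩, by simp [φ]⟩,
    Algebra.Smooth.of_equiv (AlgEquiv.ofInjective φ hφ)⟩

end Groth.Agent.S9431
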