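import Groth.Statements.S12417

set_option autoImplicit false
universe u
open CategoryTheory AlgebraicGeometry
open Props

namespace Groth.Agent.S12417

/-- Let X be a quasi-compact quasi-separated scheme and P a property of opens of X such that (a) P holds
for every affine open, and (b) whenever a quasi-compact open U has a finite affine open covering U =
V_1 ∪ … ∪ V_n with P holding for every intersection V_i ∩ V_j, P holds for U. Then P holds for every
quasi-compact open of X. -/
theorem result (X : Scheme.{u}) [CompactSpace X] [QuasiSeparatedSpace X]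
    (P : X.Opens → Prop) (ha : ∀ U : X.Opens, IsAffineOpen U → P U)
    (hb : ∀ (U : X.Opens) (n : ℕ) (V : Fin n → X.Opens), IsCompact (U : Set X) →
      (∀ i, IsAffineOpen (V i)) → ⨆ i, V i = U → (∀ i j, P (V i ⊓ V j)) → P U)
    (U : X.Opens) (hU : IsCompact (U : Set X)) : P U := by
    classical
    have cover : ∀ (W : X.Opens), IsCompact (W : Set X) → ∀ (B : Set X.Opens),
        (∀ x ∈ W, ∃ V ∈ B, x ∈ V ∧ V ≤ W) →
        ∃ (n : ℕ) (V : Fin n → X.Opens), (∀ i, V i ∈ B) ∧ (∀ i, V i ≤ W) ∧ ⨆ i, V i = W := by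
      intro W hW B hB
      choose V hVB hxV hVW using hB
      obtain ⟨t, ht⟩ := hW.elim_finite_subcover (fun x : W => (V x.1 x.2 : Set X)) (fun x => (V x.1 x.2).2)
        fun x hx => Set.mem_iUnion.mpr ⟨⟨x, hx⟩, hxV x hx⟩
      refine ⟨t.card, fun i => V (t.equivFin.symm i).1.1 (t.equivFin.symm i).1.2, fun i => hVB _ _,
        fun i => hVW _ _, le_antisymm (iSup_le fun i => hVW _ _) fun x hx => ?_⟩
      obtain ⟨y, hy, hxy⟩ := Set.mem_iUnion₂.mp (ht hx)
      refine TopologicalSpace.Opens.mem_iSup.mpr ⟨t.equivFin ⟨y, hy⟩, ?_⟩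
      show x ∈ V (t.equivFin.symm (t.equivFin ⟨y, hy⟩)).1.1 _
      have key : ∀ z : {a // a ∈ t}, z = ⟨y, hy⟩ → x ∈ V z.1.1 z.1.2 := by
        rintro z rfl; exact hxy
      exact key _ (Equiv.symm_apply_apply _ _)
    have step : ∀ (A W : X.Opens), IsAffineOpen A → W ≤ A → IsCompact (W : Set X) → P W := by
      intro A W hA hWA hW
      obtain ⟨n, V, hVB, hVW, hV⟩ := cover W hW {V | ∃ f : Γ(X, A), V = X.basicOpen f} fun x hx => by
        obtain ⟨f, hf, hxf⟩ := hA.exists_basicOpen_le (V := W) ⟨x, hx⟩ (hWA hx)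
        exact ⟨_, ⟨f, rfl⟩, hxf, hf⟩
      refine hb W n V hW (fun i => ?_) hV fun i j => ha _ ?_
      · obtain ⟨f, hf⟩ := hVB i
        rw [hf]; exact hA.basicOpen f
      · obtain ⟨f, hf⟩ := hVB i
        obtain ⟨g, hg⟩ := hVB j
        rw [hf, hg, ← Scheme.basicOpen_mul]; exact hA.basicOpen _
    obtain ⟨n, V, hVB, hVU, hV⟩ := cover U hU {V | IsAffineOpen V} fun x hx => by
      obtain ⟨V, hV, hxV, hVU⟩ := exists_isAffineOpen_mem_and_subset hx
      exact ⟨V, hV, hxV, hVU⟩
    exact hb U n V hU hVB hV fun i j => step (V i) _ (hVB i) inf_le_left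
      (QuasiSeparatedSpace.inter_isCompact _ _ (V i).2 (hVB i).isCompact (V j).2 (hVB j).isCompact)

end Groth.Agent.S12417
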