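import Groth.Statements.S12418
import Mathlib
-- import your own Groth.Agent.* helpers here

set_option autoImplicit false
universe u
open CAlg

namespace Groth.Agent.S12418

/-- Let R be a Noetherian ring and b ∈ R; for x outside the ideal (b) put I_x = ((b) : x), the ideal of
r with r x ∈ (b). If s ∉ (b) and I_s is maximal among the I_x (x ∉ (b)), then I_s is prime. -/
theorem result {R : Type u} [CommRing R] [IsNoetherianRing R]
    (b s : R) (hs : s ∉ Ideal.span {b})
    (hmax : ∀ x : R, x ∉ Ideal.span {b} →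
      Submodule.colon (Ideal.span {b}) (Ideal.span {s}) ≤ Submodule.colon (Ideal.span {b}) (Ideal.span {x}) →
      Submodule.colon (Ideal.span {b}) (Ideal.span {x}) = Submodule.colon (Ideal.span {b}) (Ideal.span {s})) :
    (Submodule.colon (Ideal.span {b}) (Ideal.span ({s} : Set R))).IsPrime := by
  refine ⟨fun h ↦ hs ?_, fun {x y} hxy ↦ or_iff_not_imp_right.mpr fun hy ↦ ?_⟩
  · have h1 : (1 : R) ∈ Submodule.colon (Ideal.span {b}) (Ideal.span ({s} : Set R)) := by rw [h]; trivial
    simpa using (Submodule.mem_colon.mp h1) s (Ideal.mem_span_singleton_self s)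
  have key : ∀ r t : R, r ∈ Submodule.colon (Ideal.span {b}) (Ideal.span ({t} : Set R)) ↔ r * t ∈ Ideal.span {b} := fun r t ↦ by
    rw [Submodule.mem_colon]
    refine ⟨fun h ↦ h t (Ideal.mem_span_singleton_self t), fun h z hz ↦ ?_⟩
    obtain ⟨c, rfl⟩ := Ideal.mem_span_singleton'.mp hz
    rw [smul_eq_mul, mul_left_comm]
    exact Ideal.mul_mem_left _ _ h
  rw [key] at hy hxy
  rw [← hmax (y * s) hy ?_, key, ← mul_assoc]
  · exact hxy
  · intro r hr
    rw [key] at hr ⊢
    rw [mul_left_comm]; exact Ideal.mul_mem_left _ _ hr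

end Groth.Agent.S12418
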