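import Groth.Statements.S12419
import Groth.Agent.S0396
import Groth.Agent.S0398
import Mathlib.RingTheory.Flat.Stability
import Mathlib.RingTheory.Artinian.Ring
import Mathlib.RingTheory.Ideal.Quotient.Noetherian
import Mathlib.RingTheory.HopkinsLevitzki


set_option autoImplicit false
universe u
open TensorProduct
open CAlg

namespace Groth.Agent.S12419

open TensorProduct

theorem flat_localizedModule_self {A B : Type u} [CommRing A] [CommRing B] [IsLocalRing B] [Algebra A B]
    (h : Module.Flat A (LocalizedModule (IsLocalRing.maximalIdeal B).primeCompl B)) : Module.Flat A B := by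
  let j := LocalizedModule.mkLinearMap (IsLocalRing.maximalIdeal B).primeCompl B
  have hu : ∀ s : (IsLocalRing.maximalIdeal B).primeCompl, IsUnit (s : B) :=
    fun s => IsLocalRing.notMem_maximalIdeal.1 s.2
  have hbij : Function.Bijective j := by
    refine ⟨fun x y hxy => ?_, fun z => ?_⟩
    · obtain ⟨s, hs⟩ := LocalizedModule.mk_eq.1 hxy
      exact (hu s).mul_left_cancel (by simpa [Submonoid.smul_def] using hs)
    · induction z using LocalizedModule.induction_on with
      | _ m s =>
        obtain ⟨v, hv⟩ := hu s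
        refine ⟨(↑v⁻¹ : B) * m, LocalizedModule.mk_eq.2 ⟨1, ?_⟩⟩
        simp [Submonoid.smul_def, ← hv, ← mul_assoc]
  exact Module.Flat.of_linearEquiv ((LinearEquiv.ofBijective j hbij).restrictScalars A)

theorem flat_quot_of_injective {A A' : Type u} [CommRing A] [CommRing A'] [Algebra A A'] (I : Ideal A') (J : Ideal A)
    (hJ : J = I.comap (algebraMap A A')) [IsArtinianRing (A ⧸ J)] (B : Type u) [AddCommGroup B] [Module A B]
    [Module.Flat A' (A' ⊗[A] B)] : Module.Flat (A ⧸ J) ((A ⧸ J) ⊗[A] B) := by
  letI : Algebra (A ⧸ J) (A' ⧸ I) := (Ideal.quotientMap I (algebraMap A A') hJ.le).toAlgebra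
  haveI : IsScalarTower A (A ⧸ J) (A' ⧸ I) := IsScalarTower.of_algebraMap_eq fun _ => rfl
  haveI : Module.Flat (A' ⧸ I) ((A' ⧸ I) ⊗[A ⧸ J] ((A ⧸ J) ⊗[A] B)) :=
    Module.Flat.of_linearEquiv
      ((AlgebraTensorModule.cancelBaseChange A (A ⧸ J) (A' ⧸ I) (A' ⧸ I) B).trans
        (AlgebraTensorModule.cancelBaseChange A A' (A' ⧸ I) (A' ⧸ I) B).symm)
  refine Groth.Agent.S0398.result (S := A' ⧸ I) ?_
  exact Ideal.quotientMap_injective' hJ.ge

theorem flat_quot_of_le {A : Type u} [CommRing A] (J K : Ideal A) (hJK : J ≤ K) (B : Type u) [AddCommGroup B] [Module A B]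
    [Module.Flat (A ⧸ J) ((A ⧸ J) ⊗[A] B)] : Module.Flat (A ⧸ K) ((A ⧸ K) ⊗[A] B) := by
  letI : Algebra (A ⧸ J) (A ⧸ K) := (Ideal.Quotient.factor hJK).toAlgebra
  haveI : IsScalarTower A (A ⧸ J) (A ⧸ K) := IsScalarTower.of_algebraMap_eq fun _ => rfl
  exact Module.Flat.of_linearEquiv
    (AlgebraTensorModule.cancelBaseChange A (A ⧸ J) (A ⧸ K) (A ⧸ K) B).symm

theorem flat_of_descent {A B A' : Type u} [CommRing A] [CommRing B] [CommRing A'] [IsNoetherianRing A]
    [IsLocalRing A] [IsNoetherianRing B] [IsLocalRing B] [Algebra A B] [IsLocalHom (algebraMap A B)]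
    [Algebra A A'] [Module.Flat A' (A' ⊗[A] B)]
    (htop : ∀ n : ℕ, ∃ N : ℕ,
      ((Ideal.jacobson (⊥ : Ideal A')) ^ N).comap (algebraMap A A') ≤ (IsLocalRing.maximalIdeal A) ^ n)
    (hrad : (Ideal.jacobson (⊥ : Ideal A')).comap (algebraMap A A') = IsLocalRing.maximalIdeal A) :
    Module.Flat A B := by
  refine flat_localizedModule_self (Groth.Agent.S0396.result (R := A) (S := B) (M := B) (IsLocalRing.maximalIdeal A) (fun n hn => ?_)
    (IsLocalRing.maximalIdeal B) ?_)
  · obtain ⟨N, hN⟩ := htop n
    set J := ((Ideal.jacobson (⊥ : Ideal A')) ^ N).comap (algebraMap A A') with hJ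
    have hle : IsLocalRing.maximalIdeal A ^ N ≤ J := by
      rw [hJ, ← hrad]; exact Ideal.le_comap_pow _ N
    haveI : IsArtinianRing (A ⧸ J) := by
      rw [isArtinianRing_iff_isNoetherianRing_krullDimLE_zero]
      refine ⟨inferInstance, Ring.KrullDimLE.mk₀ fun P hP => ?_⟩
      have hm : IsLocalRing.maximalIdeal A ≤ P.comap (Ideal.Quotient.mk J) := by
        refine fun x hx => (hP.comap (Ideal.Quotient.mk J)).mem_of_pow_mem N ?_
        rw [Ideal.mem_comap, Ideal.Quotient.eq_zero_iff_mem.2 (hle (Ideal.pow_mem_pow hx N))]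
        exact zero_mem _
      have hmax : (P.comap (Ideal.Quotient.mk J)).IsMaximal := by
        rw [← (IsLocalRing.maximalIdeal.isMaximal A).eq_of_le (hP.comap _).ne_top hm]
        exact IsLocalRing.maximalIdeal.isMaximal A
      rw [← Ideal.map_comap_of_surjective _ Ideal.Quotient.mk_surjective P]
      exact Ideal.IsMaximal.map_of_surjective_of_ker_le Ideal.Quotient.mk_surjective (by
        rw [Ideal.mk_ker]; exact Ideal.le_comap_map.trans (by rw [Ideal.map_quotient_self]; exact Ideal.comap_mono bot_le))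
    haveI := flat_quot_of_injective _ J hJ B
    exact flat_quot_of_le J _ hN B
  · exact ((IsLocalRing.local_hom_TFAE (algebraMap A B)).out 0 2 rfl rfl).1 inferInstance



/-- Let A → B be a local homomorphism of Noetherian local rings, m the maximal ideal of A, and φ : A →
A' a ring homomorphism to a semi-local Noetherian ring A' with Jacobson radical r', such that
φ⁻¹(r') = m and such that every power m^n contains φ⁻¹(r'^N) for some N. Then B is flat over A if
and only if A' ⊗_A B is flat over A'. (Given φ⁻¹(r') = m, the condition on powers says that the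
m-adic topology of A is induced by the r'-adic topology of A', equivalently that the induced
homomorphism of adic completions is injective, which is how the published statement phrases this
hypothesis.) -/
theorem result (A B A' : Type u) [CommRing A] [CommRing B]
    [CommRing A'] [IsNoetherianRing A] [IsLocalRing A] [IsNoetherianRing B] [IsLocalRing B]
    [Algebra A B] [IsLocalHom (algebraMap A B)] [IsNoetherianRing A'] [Finite (MaximalSpectrum A')]
    [Algebra A A']
    (hrad : (Ideal.jacobson (⊥ : Ideal A')).comap (algebraMap A A') = IsLocalRing.maximalIdeal A)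
    (htop : ∀ n : ℕ, ∃ N : ℕ,
      ((Ideal.jacobson (⊥ : Ideal A')) ^ N).comap (algebraMap A A') ≤ (IsLocalRing.maximalIdeal A) ^ n) :
    Module.Flat A B ↔ Module.Flat A' (A' ⊗[A] B) := by
  refine ⟨fun _ => Module.Flat.baseChange A A' B, fun h => flat_of_descent htop hrad⟩

end Groth.Agent.S12419
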