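import Groth.Statements.S12420
import Mathlib
import Groth.Agent.Lib.TopInduced1.Basic
-- import your own Groth.Agent.* helpers here

set_option autoImplicit false
universe u
open CAlg

namespace Groth.Agent.S12420

/-- Let φ : A → A' be an injective local homomorphism of Noetherian local rings, essentially of finite
type, such that the adic completion of A at its maximal ideal m is an integral domain. Then every
power m^j contains φ⁻¹(m'^n) for some n, m' the maximal ideal of A': the m-adic topology of A is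
induced from the m'-adic topology of A'. (Equivalently, the induced homomorphism of completions Â →
Â' is injective, which is how the published statement phrases the conclusion; the inclusion of
ideals is what its proof establishes.) -/
theorem result (A A' : Type u) [CommRing A]
    [CommRing A'] [IsNoetherianRing A] [IsNoetherianRing A'] [IsLocalRing A] [IsLocalRing A'] [Algebra A A']
    (hinj : Function.Injective (algebraMap A A')) [IsLocalHom (algebraMap A A')] [Algebra.EssFiniteType A A']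
    [IsDomain (AdicCompletion (IsLocalRing.maximalIdeal A) A)] (j : ℕ) :
    ∃ n : ℕ, ((IsLocalRing.maximalIdeal A') ^ n).comap (algebraMap A A') ≤ (IsLocalRing.maximalIdeal A) ^ j := by
  classical
  let Ah := AdicCompletion (IsLocalRing.maximalIdeal A) A
  haveI : IsNoetherianRing Ah := GrothLib.AdicExtra.isNoetherianRing_adicCompletion _
  haveI hff : Module.FaithfullyFlat A Ah := Module.FaithfullyFlat.of_flat_of_isLocalHom
  have hι : Function.Injective (algebraMap A Ah) := FaithfulSMul.algebraMap_injective A Ah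
  haveI : IsDomain A := hι.isDomain (algebraMap A Ah)
  obtain ⟨q₀, hq₀, hq₀A⟩ := Ideal.exists_comap_eq_of_mem_minimalPrimes_of_injective hinj ⊥
    (by rw [IsDomain.minimalPrimes_eq_singleton_bot]; rfl)
  have hq₀m : q₀ ≤ IsLocalRing.maximalIdeal A' := IsLocalRing.le_maximalIdeal hq₀.ne_top
  obtain ⟨σ, hσ⟩ := (inferInstance : Algebra.EssFiniteType A A').cond
  rw [Algebra.essFiniteType_cond_iff] at hσ
  let g : Fin σ.card → A' := fun i => σ.equivFin.symm i
  let φ : MvPolynomial (Fin σ.card) A →ₐ[A] A' := MvPolynomial.aeval g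
  have hg : ∀ x ∈ Algebra.adjoin A (σ : Set A'), x ∈ φ.range := by
    have : Set.range g = σ := by
      ext x
      exact ⟨fun ⟨i, hi⟩ => hi ▸ (σ.equivFin.symm i).2, fun hx => ⟨σ.equivFin ⟨x, hx⟩, by simp [g]⟩⟩
    rw [← this, Algebra.adjoin_range_eq_range_aeval]
    exact fun x hx => hx
  have hfrac : ∀ y : A', ∃ p s : MvPolynomial (Fin σ.card) A, IsUnit (φ s) ∧ y * φ s = φ p := fun y => by
    obtain ⟨t, ht, htu, hyt⟩ := hσ y
    obtain ⟨s, rfl⟩ := hg t ht
    obtain ⟨p, hp⟩ := hg _ hyt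
    exact ⟨p, s, htu, hp.symm⟩
  let P := (IsLocalRing.maximalIdeal A').comap φ.toRingHom
  let q := q₀.comap φ.toRingHom
  haveI : q.IsPrime := hq₀.comap _
  have hqC : q.comap MvPolynomial.C = ⊥ := by
    rw [← hq₀A, Ideal.comap_comap]
    congr 1
    exact φ.comp_algebraMap
  -- the prime of the completed polynomial ring over `P`
  let η : Ah →+* A' ⧸ IsLocalRing.maximalIdeal A' :=
    (Ideal.quotientMap (IsLocalRing.maximalIdeal A') (algebraMap A A') (by
      exact fun a ha => map_nonunit (algebraMap A A') a ha)).comp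
      (AdicCompletion.evalOneₐ (IsLocalRing.maximalIdeal A)).toRingHom
  have hη : ∀ a, η (algebraMap A Ah a) = Ideal.Quotient.mk _ (algebraMap A A' a) := fun a => rfl
  let θ : MvPolynomial (Fin σ.card) Ah →+* A' ⧸ IsLocalRing.maximalIdeal A' :=
    MvPolynomial.eval₂Hom η fun i => Ideal.Quotient.mk _ (g i)
  let ιp := MvPolynomial.map (σ := Fin σ.card) (algebraMap A Ah)
  have hθ : ∀ p, θ (ιp p) = Ideal.Quotient.mk _ (φ p) := fun p => by
    induction p using MvPolynomial.induction_on with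
    | C a =>
      rw [show ιp (MvPolynomial.C a) = MvPolynomial.C (algebraMap A Ah a) from MvPolynomial.map_C _ _,
        show θ (MvPolynomial.C (algebraMap A Ah a)) = η (algebraMap A Ah a) from MvPolynomial.eval₂Hom_C _ _ _,
        hη, show φ (MvPolynomial.C a) = algebraMap A A' a from MvPolynomial.algHom_C φ a]
    | add p q hp hq => simp only [map_add, hp, hq]
    | mul_X p i hp =>
      rw [map_mul, map_mul, hp, show ιp (MvPolynomial.X i) = MvPolynomial.X i from MvPolynomial.map_X _ _,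
        show θ (MvPolynomial.X i) = Ideal.Quotient.mk _ (g i) from MvPolynomial.eval₂Hom_X' _ _ _, map_mul φ,
        show φ (MvPolynomial.X i) = g i from MvPolynomial.aeval_X _ _, map_mul]
  haveI : IsDomain (A' ⧸ IsLocalRing.maximalIdeal A') := Ideal.Quotient.isDomain _
  let Ph := RingHom.ker θ
  haveI : Ph.IsPrime := RingHom.ker_isPrime θ
  have hPh : ∀ p, ιp p ∈ Ph ↔ φ p ∈ IsLocalRing.maximalIdeal A' := fun p => by
    rw [RingHom.mem_ker, hθ, Ideal.Quotient.eq_zero_iff_mem]
  obtain ⟨Q, hQ, hQP⟩ := Ideal.exists_minimalPrimes_le (I := q.map ιp) (J := Ph)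
    (Ideal.map_le_iff_le_comap.2 fun p hp => (hPh p).2 (hq₀m hp))
  haveI := hQ.1.1
  have hQ0 := GrothLib.TopInduced1.comap_C_eq_bot (algebraMap A Ah)
    (RingHom.flat_algebraMap_iff.2 inferInstance) hι q hqC Q hQ
  let E := Localization.AtPrime Ph
  let QE := Q.map (algebraMap (MvPolynomial (Fin σ.card) Ah) E)
  have hQE : QE ≤ IsLocalRing.maximalIdeal E := by
    rw [← Localization.AtPrime.map_eq_maximalIdeal]; exact Ideal.map_mono hQP
  haveI : Nontrivial (E ⧸ QE) := Ideal.Quotient.nontrivial_iff.2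
    (ne_top_of_le_ne_top (IsLocalRing.maximalIdeal.isMaximal E).ne_top hQE)
  haveI : IsLocalRing (E ⧸ QE) := IsLocalRing.of_surjective' (Ideal.Quotient.mk QE) Ideal.Quotient.mk_surjective
  let M : Ideal (E ⧸ QE) := (IsLocalRing.maximalIdeal E).map (Ideal.Quotient.mk QE)
  let ψ : MvPolynomial (Fin σ.card) Ah →+* E ⧸ QE :=
    (Ideal.Quotient.mk QE).comp (algebraMap (MvPolynomial (Fin σ.card) Ah) E)
  let J : ℕ → Ideal Ah := fun k => (M ^ k).comap (ψ.comp MvPolynomial.C)
  have hM : M ≠ ⊤ := by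
    intro h
    have h1 := congrArg (Ideal.comap (Ideal.Quotient.mk QE)) h
    rw [Ideal.comap_map_of_surjective _ Ideal.Quotient.mk_surjective, ← RingHom.ker_eq_comap_bot, Ideal.mk_ker,
      Ideal.comap_top, sup_eq_left.2 hQE] at h1
    exact (IsLocalRing.maximalIdeal.isMaximal E).ne_top h1
  have hJ0 : ⨅ k, J k = ⊥ := by
    refine eq_bot_iff.2 fun b hb => ?_
    rw [Ideal.mem_iInf] at hb
    have h1 : ψ (MvPolynomial.C b) ∈ ⨅ k : ℕ, M ^ k := Ideal.mem_iInf.2 hb
    rw [Ideal.iInf_pow_eq_bot_of_isLocalRing (R := E ⧸ QE) (I := M) hM, Submodule.mem_bot] at h1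
    have h2 : algebraMap _ E (MvPolynomial.C b) ∈ QE := Ideal.Quotient.eq_zero_iff_mem.1 h1
    rw [IsLocalization.algebraMap_mem_map_algebraMap_iff Ph.primeCompl E] at h2
    obtain ⟨s, hs, hsb⟩ := h2
    rw [← hQ0]
    exact ((inferInstance : Q.IsPrime).mem_or_mem hsb).resolve_left fun h => hs (hQP h)
  obtain ⟨N, hN⟩ := GrothLib.HLVT.exists_le_pow_of_iInf_eq_bot (R := Ah)
    (I := J) (fun i k h => Ideal.comap_mono (Ideal.pow_le_pow_right h)) hJ0 j
  refine ⟨N, fun a ha => ?_⟩
  suffices h : algebraMap A Ah a ∈ J N by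
    have h1 := hN h
    rw [AdicCompletion.maximalIdeal_eq_map, ← Ideal.map_pow] at h1
    rw [← Ideal.comap_map_eq_self_of_faithfullyFlat (B := Ah) (IsLocalRing.maximalIdeal A ^ j)]
    exact h1
  -- elements of powers of the maximal ideal of `A'`
  have hPm : (IsLocalRing.maximalIdeal A') ≤ P.map φ.toRingHom := fun y hy => by
    obtain ⟨p, s, hs, hys⟩ := hfrac y
    have : φ p ∈ P.map φ.toRingHom := Ideal.mem_map_of_mem _ (show φ p ∈ IsLocalRing.maximalIdeal A' from
      hys ▸ Ideal.mul_mem_right _ _ hy)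
    rw [← hys] at this
    exact (Ideal.mul_unit_mem_iff_mem _ hs).1 this
  have hden : ∀ y ∈ (P ^ N).map φ.toRingHom,
      ∃ p s : MvPolynomial (Fin σ.card) A, p ∈ P ^ N ∧ IsUnit (φ s) ∧ y * φ s = φ p := by
    intro y hy
    refine Submodule.span_induction ?_ ?_ ?_ ?_ hy
    · rintro _ ⟨p, hp, rfl⟩
      exact ⟨p, 1, hp, by simp, by simp⟩
    · exact ⟨0, 1, zero_mem _, by simp, by simp⟩
    · rintro y z _ _ ⟨p, s, hp, hs, hys⟩ ⟨p', s', hp', hs', hzs⟩
      refine ⟨p * s' + p' * s, s * s', add_mem (Ideal.mul_mem_right _ _ hp) (Ideal.mul_mem_right _ _ hp'),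
        by rw [map_mul]; exact hs.mul hs', ?_⟩
      rw [map_mul, map_add, map_mul, map_mul, ← hys, ← hzs]
      ring
    · rintro x y _ ⟨p, s, hp, hs, hys⟩
      obtain ⟨p', s', hs', hxs⟩ := hfrac x
      refine ⟨p' * p, s' * s, Ideal.mul_mem_left _ _ hp, by rw [map_mul]; exact hs'.mul hs, ?_⟩
      rw [smul_eq_mul, map_mul, map_mul, ← hys, ← hxs]
      ring
  obtain ⟨p, s, hp, hs, hps⟩ := hden _ (by
    rw [Ideal.map_pow]; exact Ideal.pow_right_mono hPm N ha)
  have hq : p - MvPolynomial.C a * s ∈ q := by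
    show φ (p - MvPolynomial.C a * s) ∈ q₀
    rw [map_sub, map_mul φ, show φ (MvPolynomial.C a) = algebraMap A A' a from MvPolynomial.algHom_C φ a, hps, sub_self]
    exact zero_mem _
  have hψq : ψ (ιp (p - MvPolynomial.C a * s)) = 0 :=
    Ideal.Quotient.eq_zero_iff_mem.2 (Ideal.mem_map_of_mem _ (hQ.1.2 (Ideal.mem_map_of_mem ιp hq)))
  rw [map_sub, map_sub, sub_eq_zero, map_mul, map_mul,
    show ιp (MvPolynomial.C a) = MvPolynomial.C (algebraMap A Ah a) from MvPolynomial.map_C _ _] at hψq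
  have hψp : ψ (ιp p) ∈ M ^ N := by
    have h1 : P ≤ M.comap (ψ.comp ιp) := fun x hx => by
      refine Ideal.mem_map_of_mem (Ideal.Quotient.mk QE) ?_
      rw [← Localization.AtPrime.map_eq_maximalIdeal]
      exact Ideal.mem_map_of_mem _ ((hPh x).2 hx)
    exact ((Ideal.pow_right_mono h1 N).trans (Ideal.le_comap_pow (ψ.comp ιp) N)) hp
  have hunit : IsUnit (ψ (ιp s)) := by
    refine IsUnit.map (Ideal.Quotient.mk QE) (IsLocalization.map_units E (⟨ιp s, fun h => ?_⟩ : Ph.primeCompl))
    exact (IsLocalRing.maximalIdeal.isMaximal A').ne_top (Ideal.eq_top_of_isUnit_mem _ ((hPh s).1 h) hs)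
  show ψ (MvPolynomial.C (algebraMap A Ah a)) ∈ M ^ N
  obtain ⟨v, hv⟩ := hunit
  have h2 := (M ^ N).mul_mem_right (↑v⁻¹) hψp
  rw [hψq, ← hv, mul_assoc, Units.mul_inv, mul_one] at h2
  exact h2

end Groth.Agent.S12420
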