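import Groth.Statements.S12421
import Groth.Agent.Lib.DescElem.Basic

set_option autoImplicit false
universe u
open TensorProduct
open Desc

namespace Groth.Agent.S12421

/-- Let R → R' be faithfully flat and M an R-module. With δ¹ : M ⊗ R' → M ⊗ (R' ⊗ R'), m ⊗ r ↦ m ⊗ (1 ⊗
r) − m ⊗ (r ⊗ 1), and δ² : M ⊗ (R' ⊗ R') → M ⊗ (R' ⊗ (R' ⊗ R')), m ⊗ x ↦ m ⊗ (1 ⊗ x) − m ⊗ (ins₁ x)
+ m ⊗ (ins₂ x), where ins₁ (r₁ ⊗ r₂) = r₁ ⊗ (1 ⊗ r₂) and ins₂ (r₁ ⊗ r₂) = r₁ ⊗ (r₂ ⊗ 1), the
sequence M ⊗ R' → M ⊗ R'^{⊗2} → M ⊗ R'^{⊗3} is exact: the kernel of δ² is the image of δ¹. (The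
published statement asserts exactness of the whole complex; this row states exactness at M ⊗ R′ ⊗ R′
only.) -/
theorem result (R R' : Type u) [CommRing R] [CommRing R'] [Algebra R R']
    [Module.FaithfullyFlat R R'] (M : Type u) [AddCommGroup M] [Module R M] :
    Function.Exact
      (LinearMap.lTensor M (Algebra.TensorProduct.includeRight : R' →ₐ[R] R' ⊗[R] R').toLinearMap -
        LinearMap.lTensor M
          (Algebra.TensorProduct.includeLeft : R' →ₐ[R] R' ⊗[R] R').toLinearMap)
      (LinearMap.lTensor M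
          (Algebra.TensorProduct.includeRight : R' ⊗[R] R' →ₐ[R] R' ⊗[R] (R' ⊗[R] R')).toLinearMap -
        LinearMap.lTensor M
          (Algebra.TensorProduct.map (AlgHom.id R R')
            (Algebra.TensorProduct.includeRight : R' →ₐ[R] R' ⊗[R] R')).toLinearMap +
        LinearMap.lTensor M
          (Algebra.TensorProduct.map (AlgHom.id R R')
            (Algebra.TensorProduct.includeLeft : R' →ₐ[R] R' ⊗[R] R')).toLinearMap) := by
  refine LinearMap.exact_of_comp_of_mem_range ?_ fun x hx => ?_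
  · apply TensorProduct.ext'
    intro m r
    simp [Algebra.TensorProduct.one_def, ← TensorProduct.tmul_sub, ← TensorProduct.tmul_add, TensorProduct.tmul_sub]
  let Φ : M ⊗[R] (R' ⊗[R] R') →ₗ[R] R' ⊗[R] (M ⊗[R] R') :=
    (TensorProduct.comm R (M ⊗[R] R') R').toLinearMap ∘ₗ (TensorProduct.assoc R M R' R').symm.toLinearMap
  let Ψ : M ⊗[R] (R' ⊗[R] (R' ⊗[R] R')) →ₗ[R] R' ⊗[R] (M ⊗[R] (R' ⊗[R] R')) :=
    (TensorProduct.comm R (M ⊗[R] (R' ⊗[R] R')) R').toLinearMap ∘ₗ
      (TensorProduct.assoc R M (R' ⊗[R] R') R').symm.toLinearMap ∘ₗ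
      LinearMap.lTensor M (TensorProduct.assoc R R' R' R').symm.toLinearMap
  set d1 := LinearMap.lTensor M (Algebra.TensorProduct.includeRight : R' →ₐ[R] R' ⊗[R] R').toLinearMap -
        LinearMap.lTensor M
          (Algebra.TensorProduct.includeLeft : R' →ₐ[R] R' ⊗[R] R').toLinearMap with hd1
  refine GrothLib.DescElem.mem_range_of_one_tmul R' d1 x ⟨-Φ x, ?_⟩
  have key : ∀ z, Ψ ((LinearMap.lTensor M
          (Algebra.TensorProduct.includeRight : R' ⊗[R] R' →ₐ[R] R' ⊗[R] (R' ⊗[R] R')).toLinearMap -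
        LinearMap.lTensor M
          (Algebra.TensorProduct.map (AlgHom.id R R')
            (Algebra.TensorProduct.includeRight : R' →ₐ[R] R' ⊗[R] R')).toLinearMap +
        LinearMap.lTensor M
          (Algebra.TensorProduct.map (AlgHom.id R R')
            (Algebra.TensorProduct.includeLeft : R' →ₐ[R] R' ⊗[R] R')).toLinearMap) z)
      = LinearMap.lTensor R' d1 (Φ z) + (1 : R') ⊗ₜ[R] z := by
    intro z
    induction z using TensorProduct.induction_on with
    | zero => simp
    | tmul m w =>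
      induction w using TensorProduct.induction_on with
      | zero => simp
      | tmul a b => simp [Φ, Ψ, hd1, TensorProduct.tmul_sub]
      | add p q hp hq =>
        simp only [TensorProduct.tmul_add, map_add] at hp hq ⊢
        rw [hp, hq]; abel
    | add p q hp hq =>
      simp only [map_add, TensorProduct.tmul_add] at hp hq ⊢
      rw [hp, hq]; abel
  have := key x
  rw [hx, map_zero] at this
  rw [map_neg]
  exact neg_eq_of_add_eq_zero_left (by rw [add_comm]; exact this.symm)

end Groth.Agent.S12421
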