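import Groth.Statements.S12423
import Groth.Agent.Lib.ConStalk4.RegularSub
-- import your own Groth.Agent.* helpers here

set_option autoImplicit false
universe u
open CategoryTheory CategoryTheory.Limits AlgebraicGeometry
open NonsingVar

namespace Groth.Agent.S12423

/-- Let k be an algebraically closed field, X a nonsingular variety over k (integral, separated and of
finite type over k, all local rings regular) of dimension n, i : Y → X an irreducible closed
subscheme of dimension q with ideal sheaf I, (Ω_X, d_X) and (Ω_Y, d_Y) sheaves of differentials of X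
and Y over k (universal derivations), and φ : I/I² → i^*Ω_X the canonical map from the conormal
sheaf (class of a local section s of I ↦ pullback of d_X s). Then Y is nonsingular if and only if
(1) Ω_Y is locally free and (2) φ is a monomorphism (the conormal sequence 0 → I/I² → i^*Ω_X → Ω_Y →
0 is exact on the left too). Moreover in that case I/I² is locally free of rank n − q, the
codimension of Y. (The clause that I is then locally generated by n − q sections is not restated.) -/
theorem result (k : Type u) [Field k]
    [IsAlgClosed k] (n q : ℕ)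
    (X : Scheme.{u}) [X.Over (Spec (CommRingCat.of k))] [IsIntegral X] [IsSeparated (X ↘ (Spec (CommRingCat.of k)))]
    [LocallyOfFiniteType (X ↘ (Spec (CommRingCat.of k)))] [QuasiCompact (X ↘ (Spec (CommRingCat.of k)))]
    (hreg : ∀ x : ↥X, IsRegularLocalRing ↑(X.presheaf.stalk x))
    (hn : topologicalKrullDim ↥X = (n : WithBot ℕ∞))
    (Y : Scheme.{u}) (i : Y ⟶ X) [IsClosedImmersion i] [IrreducibleSpace ↥Y]
    (hq : topologicalKrullDim ↥Y = (q : WithBot ℕ∞))
    (ΩX : X.Modules) (dX : OmegaSh.Der (X ↘ (Spec (CommRingCat.of k))) ΩX) (hX : OmegaSh.IsUniversal dX)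
    (ΩY : Y.Modules) (dY : OmegaSh.Der (i ≫ (X ↘ (Spec (CommRingCat.of k)))) ΩY) (hY : OmegaSh.IsUniversal dY)
    (φ : Omega.conormal i ⟶ (Scheme.Modules.pullback i).obj ΩX) (hφ : OmegaSh.IsConormalDiff i dX φ) :
    ((∀ y : ↥Y, IsRegularLocalRing ↑(Y.presheaf.stalk y)) ↔ (FlatMod.IsFinLocFree ΩY ∧ Mono φ)) ∧
      ((∀ y : ↥Y, IsRegularLocalRing ↑(Y.presheaf.stalk y)) →
        FlatMod.IsFinLocFreeOfRank (n - q) (Omega.conormal i)) := by
  exact GrothLib.ConStalk4.regular_iff n q (X ↘ (Spec (CommRingCat.of k))) hreg hn i hq ΩX dX hX ΩY dY hY φ hφ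

end Groth.Agent.S12423
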