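import Groth.Statements.S12424
import Mathlib
import Groth.Agent.Lib.MvHomog.Dvd
import Groth.Agent.Lib.CubicForm.Eckardt
import Groth.Agent.Lib.CubicForm.CommonZero

set_option autoImplicit false
universe u
open Cubic

namespace Groth.Agent.S12424

/-- Let k be an algebraically closed field of characteristic zero and S = V_+(f) ⊂ P^3_k a smooth cubic
surface, f a nonzero homogeneous cubic in four variables with the Jacobian condition at every
nonzero zero. For every hyperplane H of P^3_k the scheme-theoretic intersection S ∩ H is reduced;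
concretely, for every 4 × 3 matrix A of rank 3 over k (a linear parametrisation of H), the ternary
cubic obtained from f by substituting X_i ↦ Σ_j A_{ij} Y_j is squarefree. -/
theorem result (k : Type u) [Field k] [IsAlgClosed k] [CharZero k]
    (f : MvPolynomial (Fin 4) k) (hf : f.IsHomogeneous 3) (hf0 : f ≠ 0)
    (hsm : ∀ v : Fin 4 → k, v ≠ 0 → MvPolynomial.eval v f = 0 →
      ∃ i : Fin 4, MvPolynomial.eval v (MvPolynomial.pderiv i f) ≠ 0)
    (A : Matrix (Fin 4) (Fin 3) k) (hA : A.rank = 3) :
    Squarefree (MvPolynomial.aeval (fun i : Fin 4 => ∑ j : Fin 3, MvPolynomial.C (A i j) * MvPolynomial.X j) f) := by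
  classical
  set sub : Fin 4 → MvPolynomial (Fin 3) k := fun i => ∑ j : Fin 3, MvPolynomial.C (A i j) * MvPolynomial.X j
  set g := MvPolynomial.aeval sub f with hg
  have hsub : ∀ i, (sub i).IsHomogeneous 1 := fun i =>
    MvPolynomial.IsHomogeneous.sum _ _ _ fun j _ => (MvPolynomial.isHomogeneous_X k j).C_mul _
  have hg3 : g.IsHomogeneous 3 := by simpa [hg] using hf.aeval sub hsub
  have heval : ∀ (y : Fin 3 → k) (q : MvPolynomial (Fin 4) k),
      MvPolynomial.eval y (MvPolynomial.aeval sub q) = MvPolynomial.eval (A.mulVec y) q := by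
    intro y q
    induction q using MvPolynomial.induction_on with
    | C a => simp
    | add p q hp hq => rw [map_add, map_add, hp, hq, map_add]
    | mul_X p i hp =>
      rw [map_mul, map_mul, hp, MvPolynomial.aeval_X, map_mul, MvPolynomial.eval_X]
      simp [sub, Matrix.mulVec, dotProduct]
  set H : Submodule k (Fin 4 → k) := LinearMap.range A.mulVecLin with hH
  have hH3 : Module.finrank k H = 3 := hA
  have hinj : ∀ y : Fin 3 → k, A.mulVec y = 0 → y = 0 := by
    intro y hy
    have h := LinearMap.finrank_range_add_finrank_ker A.mulVecLin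
    rw [← hH, hH3, Module.finrank_fin_fun] at h
    have hker : LinearMap.ker A.mulVecLin = ⊥ := Submodule.finrank_eq_zero.mp (by omega)
    exact (Submodule.eq_bot_iff _).mp hker y hy
  have hT := GrothLib.CubicForm.ofPoly_smooth hf hsm
  have hg0 : g ≠ 0 := by
    intro h0
    refine GrothLib.CubicForm.Tri.no_plane _ (Module.finrank_fin_fun k) hT H hH3 ?_
    intro a ha b hb c hc
    refine GrothLib.CubicForm.Tri.eq_zero_of_cube_eq_zero _ H ?_ ha hb hc
    rintro _ ⟨y, rfl⟩
    rw [GrothLib.CubicForm.ofPoly_cube_eq_zero_iff hf, Matrix.mulVecLin_apply, ← heval, ← hg, h0, map_zero]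
  obtain ⟨w, hw⟩ : ∃ w, w ∉ H := by
    by_contra! h
    have : H = ⊤ := Submodule.eq_top_iff'.mpr h
    rw [this, finrank_top, Module.finrank_fin_fun] at hH3
    omega
  intro x hx
  obtain ⟨m, -, hxm⟩ := GrothLib.MvHomog.exists_isHomogeneous_of_dvd hg3 hg0
    ((dvd_mul_right x x).trans hx)
  rcases Nat.eq_zero_or_pos m with rfl | hm
  · have hx0 : x ≠ 0 := fun h => hg0 (by simpa [h] using hx)
    have hc : x = MvPolynomial.C (MvPolynomial.coeff 0 x) := by
      rw [← MvPolynomial.totalDegree_eq_zero_iff_eq_C]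
      exact hxm.totalDegree hx0
    rw [hc]
    refine (isUnit_iff_ne_zero.mpr ?_).map MvPolynomial.C
    intro h
    rw [h, map_zero] at hc
    exact hx0 hc
  exfalso
  set hwp : MvPolynomial (Fin 3) k :=
    ∑ i, MvPolynomial.C (w i) * MvPolynomial.aeval sub (MvPolynomial.pderiv i f) with hhwp
  have hw2 : hwp.IsHomogeneous 2 := MvPolynomial.IsHomogeneous.sum _ _ _ fun i _ => by
    refine MvPolynomial.IsHomogeneous.C_mul ?_ _
    simpa using (hf.pderiv (i := i)).aeval sub hsub
  obtain ⟨y, hy0, hy⟩ := GrothLib.CubicForm.exists_common_zero (n := 3) (r := 2) (by omega)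
    ![x, hwp] ![m, 2] (fun i => by fin_cases i <;> simp [hm]) (fun i => by fin_cases i <;> simp [hxm, hw2])
  have hyx : MvPolynomial.eval y x = 0 := by simpa using hy 0
  have hyw : MvPolynomial.eval y hwp = 0 := by simpa using hy 1
  obtain ⟨r, hr⟩ := hx
  have hfy : MvPolynomial.eval (A.mulVec y) f = 0 := by
    rw [← heval, ← hg, hr]; simp [hyx]
  have hdg : ∀ j, MvPolynomial.eval y (MvPolynomial.pderiv j g) = 0 := fun j => by
    rw [hr]; simp [MvPolynomial.pderiv_mul, hyx]
  have hv0 : A.mulVec y ≠ 0 := fun h => hy0 (hinj y h)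
  obtain ⟨i, hi⟩ := hsm _ hv0 hfy
  let L : (Fin 4 → k) →ₗ[k] k :=
    ∑ i, MvPolynomial.eval (A.mulVec y) (MvPolynomial.pderiv i f) • LinearMap.proj i
  have hLH : H ≤ LinearMap.ker L := by
    rw [hH, LinearMap.range_le_ker_iff]
    refine LinearMap.pi_ext' fun j => LinearMap.ext_ring ?_
    have := hdg j
    rw [hg, GrothLib.MvHomog.pderiv_linSubst, map_sum] at this
    simp only [map_mul, MvPolynomial.eval_C] at this
    simp only [L, LinearMap.comp_apply, LinearMap.coe_single, Matrix.mulVecLin_apply, Matrix.mulVec_single,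
      LinearMap.zero_apply, LinearMap.coe_sum, Finset.sum_apply, LinearMap.smul_apply, LinearMap.coe_proj,
      Function.eval, smul_eq_mul]
    rw [← this]
    refine Finset.sum_congr rfl fun i _ => ?_
    erw [heval y (MvPolynomial.pderiv i f)]
    simp [mul_comm]
  have hLw : w ∈ LinearMap.ker L := by
    rw [hhwp, map_sum] at hyw
    simp only [map_mul, MvPolynomial.eval_C, heval] at hyw
    simpa [L, LinearMap.mem_ker, mul_comm] using hyw
  have htop : H ⊔ Submodule.span k {w} = ⊤ := by
    apply Submodule.eq_top_of_finrank_eq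
    have h1 : H < H ⊔ Submodule.span k {w} := lt_of_le_of_ne le_sup_left fun e =>
      hw (e ▸ Submodule.mem_sup_right (Submodule.mem_span_singleton_self w))
    have h2 := Submodule.finrank_lt_finrank_of_lt h1
    have h3 := Submodule.finrank_le (H ⊔ Submodule.span k {w})
    have h4 : Module.finrank k (Fin 4 → k) = 4 := Module.finrank_fin_fun k
    omega
  have hker : LinearMap.ker L = ⊤ := top_le_iff.mp
    (htop ▸ sup_le hLH ((Submodule.span_singleton_le_iff_mem _ _).mpr hLw))
  have := LinearMap.congr_fun (LinearMap.ker_eq_top.mp hker) (Pi.single i 1)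
  exact hi (by simpa [L, Pi.single_apply] using this)

end Groth.Agent.S12424
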