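import Groth.Statements.S12425
import Groth.Agent.Lib.CubicForm.TwentySeven

set_option autoImplicit false
set_option linter.all false
universe u
open Cubic

namespace Groth.Agent.S12425

/-- Let k be an algebraically closed field of characteristic zero, S = V_+(f) ⊂ P^3_k a smooth cubic
surface (f a nonzero homogeneous cubic with the Jacobian condition at every nonzero zero) and L a
line on S, i.e. a 2-dimensional subspace of k^4 on which f vanishes. Then exactly five hyperplanes H
⊇ L have H ∩ S equal to a union of three different lines: the set of 3-dimensional subspaces H of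
k^4 containing L and containing two further lines of S, distinct from each other and from L, has
exactly 5 elements. -/
theorem result (k : Type u) [Field k] [IsAlgClosed k] [CharZero k]
    (f : MvPolynomial (Fin 4) k) (hf : f.IsHomogeneous 3) (hf0 : f ≠ 0)
    (hsm : ∀ v : Fin 4 → k, v ≠ 0 → MvPolynomial.eval v f = 0 →
      ∃ i : Fin 4, MvPolynomial.eval v (MvPolynomial.pderiv i f) ≠ 0)
    (L : Submodule k (Fin 4 → k)) (hL : Module.finrank k ↥L = 2) (hLS : ∀ u ∈ L, MvPolynomial.eval u f = 0) :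
    {H : Submodule k (Fin 4 → k) | Module.finrank k ↥H = 3 ∧ L ≤ H ∧
      ∃ L' L'' : Submodule k (Fin 4 → k), Module.finrank k ↥L' = 2 ∧ Module.finrank k ↥L'' = 2 ∧
        L' ≠ L ∧ L'' ≠ L ∧ L' ≠ L'' ∧ L' ≤ H ∧ L'' ≤ H ∧
        (∀ u ∈ L', MvPolynomial.eval u f = 0) ∧ (∀ u ∈ L'', MvPolynomial.eval u f = 0)}.ncard = 5 := by
  classical
  have hsm' := GrothLib.CubicForm.ofPoly_smooth hf hsm
  have hiff := GrothLib.CubicForm.ofPoly_line_iff hf
  have hV : Module.finrank k (Fin 4 → k) = 4 := Module.finrank_fin_fun k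
  obtain ⟨S, hS, hp, hinj, hex⟩ := GrothLib.CubicForm.Tri.exists_five_planes hV hsm' (L := L) ⟨hL, (hiff L).2 hLS⟩
  have hset : {H : Submodule k (Fin 4 → k) | Module.finrank k ↥H = 3 ∧ L ≤ H ∧
      ∃ L' L'' : Submodule k (Fin 4 → k), Module.finrank k ↥L' = 2 ∧ Module.finrank k ↥L'' = 2 ∧
        L' ≠ L ∧ L'' ≠ L ∧ L' ≠ L'' ∧ L' ≤ H ∧ L'' ≤ H ∧
        (∀ u ∈ L', MvPolynomial.eval u f = 0) ∧ (∀ u ∈ L'', MvPolynomial.eval u f = 0)} =
      ↑(S.image Prod.fst) := by
    ext H
    simp only [Set.mem_ofPred_eq, Finset.coe_image, Set.mem_image, Finset.mem_coe]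
    constructor
    · rintro ⟨hH, hLH, L', L'', h', -, hne, -, -, hle, -, hv, -⟩
      exact hex H hH hLH L' ⟨h', (hiff L').2 hv⟩ hne hle
    · rintro ⟨p, hpS, rfl⟩
      obtain ⟨h3, hLp, l1, l2, m1, m2, n1, n2, hne, -, -⟩ := hp p hpS
      exact ⟨h3, hLp, p.2.1, p.2.2, l1.1, l2.1, n1, n2, hne, m1, m2, (hiff _).1 l1.2, (hiff _).1 l2.2⟩
  rw [hset, Set.ncard_coe_finset, Finset.card_image_of_injOn fun p hp q hq h => hinj p hp q hq h, hS]

end Groth.Agent.S12425
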