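import Groth.Statements.S12431
import Groth.Agent.S12430
import Groth.Agent.Lib.CurveMult.ExtUnique
import Groth.Agent.Lib.CurveMult.SimpleRankTwo
import Groth.Agent.Lib.Euler.Slope2

set_option autoImplicit false
universe u
open CategoryTheory CategoryTheory.Limits AlgebraicGeometry
open Curves

namespace Groth.Agent.S12431

/-- Uniqueness, e = 0 case: let C be an elliptic curve over an algebraically closed field k — integral,
proper over k, of dimension one, all local rings regular, of genus 1 — and let E and E′ be locally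
free O_C-modules of rank 2 which are normalized (H^0(C, E) ≠ 0 while H^0(C, E ⊗ M) = 0 for every
invertible M of negative degree; likewise for E′), indecomposable (not isomorphic to a direct sum of
two invertible modules) and of degree 0, where deg E = χ(E) − 2χ(O_C). Then E and E′ are isomorphic:
there is exactly one elliptic ruled surface with invariant e = 0 and indecomposable E. -/
theorem result (k : Type u) [Field k] [IsAlgClosed k] (C : Scheme.{u}) [C.Over (Spec (CommRingCat.of k))]
    [IsIntegral C] [IsProper (C ↘ (Spec (CommRingCat.of k)))] (hdimC : topologicalKrullDim C = 1)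
    (hregC : ∀ x : C, IsRegularLocalRing (C.presheaf.stalk x)) (hg : Curv2.genus k C = 1)
    (E : C.Modules) (hE : FlatMod.IsFinLocFreeOfRank 2 E)
    (hE0 : Nontrivial (Coh.HH C E 0))
    (hEneg : ∀ M : C.Modules, PicF.IsInvertible M → Curv2.deg k C M 1 < 0 → Subsingleton (Coh.HH C (CohB1.tensorMod E M) 0))
    (hEind : ∀ L₁ L₂ : C.Modules, PicF.IsInvertible L₁ → PicF.IsInvertible L₂ → IsEmpty (E ≅ L₁ ⊞ L₂))
    (hEdeg : Curv2.deg k C E 2 = 0)
    (E' : C.Modules) (hE' : FlatMod.IsFinLocFreeOfRank 2 E')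
    (hE'0 : Nontrivial (Coh.HH C E' 0))
    (hE'neg : ∀ M : C.Modules, PicF.IsInvertible M → Curv2.deg k C M 1 < 0 → Subsingleton (Coh.HH C (CohB1.tensorMod E' M) 0))
    (hE'ind : ∀ L₁ L₂ : C.Modules, PicF.IsInvertible L₁ → PicF.IsInvertible L₂ → IsEmpty (E' ≅ L₁ ⊞ L₂))
    (hE'deg : Curv2.deg k C E' 2 = 0) :
    Nonempty (E ≅ E') := by
  haveI := GrothLib.Euler.isNoetherian_of_proper (X := C) k
  haveI : GrothLib.CurveRR.RegCurve C := GrothLib.CurveRR.regCurve_of_isRegularLocalRing hdimC fun x _ => hregC x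
  have hd : topologicalKrullDim C ≤ 1 := hdimC.le
  have hpid : ∀ x : C, IsPrincipalIdealRing (C.presheaf.stalk x) := GrothLib.CurveRR.pid_stalk
  have hO : PicF.IsInvertible (Coh.structureModule C) := GrothLib.Euler.isInvertible_structure
  have key : ∀ F : C.Modules, FlatMod.IsFinLocFreeOfRank 2 F → Nontrivial (Coh.HH C F 0) →
      (∀ M : C.Modules, PicF.IsInvertible M → Curv2.deg k C M 1 < 0 → Subsingleton (Coh.HH C (CohB1.tensorMod F M) 0)) →
      (∀ L₁ L₂ : C.Modules, PicF.IsInvertible L₁ → PicF.IsInvertible L₂ → IsEmpty (F ≅ L₁ ⊞ L₂)) →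
      Curv2.deg k C F 2 = 0 →
      ∃ (i : Coh.structureModule C ⟶ F) (g : F ⟶ Coh.structureModule C) (w : i ≫ g = 0)
        (hS : (ShortComplex.mk i g w).ShortExact), ∃ x, GrothLib.Cohom.hhDelta k hS 0 x ≠ 0 := by
    intro F hF hF0 hFneg hFind hFdeg
    obtain ⟨u, hu⟩ := GrothLib.Euler.exists_ne_zero_section hF0
    have hs : GrothLib.FinCov.homOfSection u ≠ 0 := fun h => hu (by
      have h1 := GrothLib.FinCov.homOfSection_one u ⊤
      rw [h] at h1
      rw [show (homOfLE (le_top : (⊤ : C.Opens) ≤ ⊤)).op = 𝟙 _ from Subsingleton.elim _ _,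
        CategoryTheory.Functor.map_id] at h1
      exact h1.symm)
    generalize GrothLib.FinCov.homOfSection u = f at hs
    haveI := GrothLib.CurveMult.mono_of_ne_zero_invertible k hpid hO (GrothLib.FinCov.isFinLocFree_of_rank hF) hs
    have hQ : PicF.IsInvertible (cokernel f) :=
      Groth.Agent.S12430.result k C hdimC hregC F hF hF0 hFneg f hs
    have hns : ¬ IsSplitEpi (cokernel.π f) := fun hsp => (hFind _ _ hO hQ).false
      (ShortComplex.Splitting.ofExactOfSection _ (GrothLib.Euler.cokernel_shortExact f).exact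
        (section_ (cokernel.π f)) (IsSplitEpi.id _) inferInstance).isoBinaryBiproduct
    have h1 := (GrothLib.Euler.degree_quotient k _ _ _ (GrothLib.Euler.cokernel_shortExact f)
      (GrothLib.Euler.isCoh_of_isInvertible hO) (GrothLib.Euler.isCoh_of_isFinLocFree (GrothLib.FinCov.isFinLocFree_of_rank hF))
      (GrothLib.Euler.isCoh_of_isInvertible hQ)).1
    rw [← GrothLib.Euler.deg_eq_degree k hF, ← GrothLib.Euler.deg_eq_degree k (GrothLib.Euler.isFinLocFreeOfRank_one_of_invertible hO),
      ← GrothLib.Euler.deg_eq_degree k (GrothLib.Euler.isFinLocFreeOfRank_one_of_invertible hQ), GrothLib.Euler.deg_structure k, hFdeg] at h1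
    obtain ⟨t⟩ := GrothLib.CurveMult.nonempty_iso_of_nonsplit k hg (GrothLib.Euler.cokernel_shortExact f) hO hQ hns
      (by show Curv2.deg k C (cokernel f) 1 ≤ Curv2.deg k C (Coh.structureModule C) 1
          rw [GrothLib.Euler.deg_structure k]; omega)
    have w : f ≫ cokernel.π f ≫ t.inv = 0 := by rw [cokernel.condition_assoc, zero_comp]
    have hS : (ShortComplex.mk f (cokernel.π f ≫ t.inv) w).ShortExact :=
      ShortComplex.shortExact_of_iso (show ShortComplex.mk f (cokernel.π f) (cokernel.condition f) ≅ ShortComplex.mk f (cokernel.π f ≫ t.inv) w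
          from ShortComplex.isoMk (Iso.refl _) (Iso.refl _) t.symm (by simp) (by simp))
        (GrothLib.Euler.cokernel_shortExact f)
    refine ⟨f, _, w, hS, ?_⟩
    by_contra! h
    obtain ⟨s, hs'⟩ := GrothLib.CurveMult.exists_section_of_delta_eq_zero k hS h
    exact hns (IsSplitEpi.mk' ⟨t.inv ≫ s, (cancel_mono t.inv).1 (by
      rw [Category.assoc, Category.assoc, hs', Category.id_comp, Category.comp_id])⟩)
  obtain ⟨i, g, w, hS, x, hx⟩ := key E hE hE0 hEneg hEind hEdeg
  obtain ⟨i', g', w', hT, x', hx'⟩ := key E' hE' hE'0 hE'neg hE'ind hE'deg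
  have h0 := GrothLib.CurveRR.finrank_H0_structure_eq_one k (X := C)
  have hx0 : x ≠ 0 := fun h => hx (by rw [h, map_zero])
  obtain ⟨a, ha⟩ := (finrank_eq_one_iff_of_nonzero' x hx0).1 h0 x'
  obtain ⟨c, hc⟩ := (finrank_eq_one_iff_of_nonzero' _ hx).1 hg (GrothLib.Cohom.hhDelta k hT 0 x)
  have hc0 : c ≠ 0 := fun h => hx' (by rw [← ha, map_smul, ← hc, h, zero_smul, smul_zero])
  refine GrothLib.CurveMult.nonempty_iso_of_delta k hS hT hc0 fun y => ?_
  obtain ⟨b, hb⟩ := (finrank_eq_one_iff_of_nonzero' x hx0).1 h0 y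
  rw [← hb, map_smul, map_smul, ← hc, smul_comm]

end Groth.Agent.S12431
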