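import Groth.Statements.S12432
import Groth.Agent.Lib.CurveMult.SpaceCurve

set_option autoImplicit false
universe u
open CategoryTheory CategoryTheory.Limits AlgebraicGeometry
open Curves

namespace Groth.Agent.S12432

/-- In degree d = 6 the curve is canonical. Take k algebraically closed and suppose X is a curve over k
(integral, proper over k, one-dimensional, with every local ring regular), equipped with a closed
immersion i : X → P^3_k over k whose image lies in no plane — that is, any nonzero global section of
O(1) on P^3_k pulls back to a nonzero global section of i^*O(1). Assume the hyperplane section is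
special, meaning H^1(X, i^*O(1)) ≠ 0, and that deg i^*O(1) = 6. Then i^*O(1) is isomorphic to the
canonical sheaf Ω_{X/k}, and X has genus 4 (so X is a canonical curve of genus 4; the isomorphism is
asserted to exist as O_X-modules). -/
theorem result (k : Type u) [Field k] [IsAlgClosed k] (X : Scheme.{u}) [X.Over (Spec (CommRingCat.of k))]
    [IsIntegral X] [IsProper (X ↘ (Spec (CommRingCat.of k)))] (hdim : topologicalKrullDim X = 1)
    (hreg : ∀ x : X, IsRegularLocalRing (X.presheaf.stalk x))
    (i : X ⟶ CohB1.ProjSpace 3 k) [IsClosedImmersion i] (hi : i ≫ CohB1.ProjSpace.toSpec 3 k = (X ↘ (Spec (CommRingCat.of k))))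
    (hplane : ∀ s : LinSer.Sect (CohB1.ProjSpace 3 k) (Twist.twistProjSpace 3 k 1), s ≠ 0 →
      OmegaSh.pullSect i (Twist.twistProjSpace 3 k 1) ⊤ s ≠ 0)
    (hspecial : Nontrivial (Coh.HH X ((Scheme.Modules.pullback i).obj (Twist.twistProjSpace 3 k 1)) 1))
    (hdeg : Curv2.deg k X ((Scheme.Modules.pullback i).obj (Twist.twistProjSpace 3 k 1)) 1 = 6) :
    Nonempty (((Scheme.Modules.pullback i).obj (Twist.twistProjSpace 3 k 1)) ≅ Omega.sheaf (X ↘ (Spec (CommRingCat.of k)))) ∧ Curv2.genus k X = 4 := by
  haveI : IsAffineHom i := inferInstance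
  exact GrothLib.CurveMult.SpaceCurve.canonical_of_special_deg_six k hdim hreg i hi
    (GrothLib.CurveMult.SpaceCurve.succ_le_finrank k i hi hplane) hspecial hdeg

end Groth.Agent.S12432
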