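import Groth.Statements.S12434
import Groth.Agent.Lib.InjIndec20.Exists
import Groth.Agent.Lib.InjQCoh20.Embed

set_option autoImplicit false
set_option maxHeartbeats 400000
set_option linter.style.haveILetI false
set_option backward.isDefEq.respectTransparency false
universe u
open CategoryTheory CategoryTheory.Limits AlgebraicGeometry
open Coherent GrothLib

namespace Groth.Agent.S12434

/-- On a locally Noetherian scheme X every injective O_X-module (injective object of the category of all
O_X-modules) is isomorphic to a direct sum of indecomposable injective O_X-modules — a coproduct of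
a family of injective modules J_i, each nonzero and such that in any decomposition J_i ≅ A ⊞ B one
of A, B is zero. (The published statement also asserts uniqueness of the decomposition, not restated
here.) -/
theorem result {X : Scheme.{u}} [IsLocallyNoetherian X]
    (I : X.Modules) (hI : Injective I) :
    ∃ (ι : Type u) (J : ι → X.Modules), (∀ i, Injective (J i)) ∧ (∀ i, ¬ IsZero (J i)) ∧
      (∀ i (A B : X.Modules), Nonempty (J i ≅ A ⊞ B) → IsZero A ∨ IsZero B) ∧ Nonempty (I ≅ ∐ J) := by
  classical
  haveI := hI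
  let good : Subobject I → Prop := fun a =>
    Injective (a : X.Modules) ∧ ¬ IsZero (a : X.Modules) ∧ InjIndec20.Indec (a : X.Modules)
  obtain ⟨s, hs, hind, hmax⟩ := InjQCoh20.exists_maximal_indepSet good
  let κ := Shrink.{u} s
  let a : κ → Subobject I := fun k => ((equivShrink.{u} s).symm k).1
  have ha : Function.Injective a := fun k l h => (equivShrink.{u} s).symm.injective (Subtype.ext h)
  have hmem : ∀ k, a k ∈ s := fun k => ((equivShrink.{u} s).symm k).2
  let Fm : κ → X.Modules := fun k => ((a k : Subobject I) : X.Modules)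
  let d : (∐ Fm) ⟶ I := Sigma.desc fun k => (a k).arrow
  haveI : Mono d := hind κ a ha hmem
  haveI : Injective (∐ Fm) := InjCoprod20.injective_coproduct Fm fun k => (hs _ (hmem k)).1
  let ρ : I ⟶ ∐ Fm := Injective.factorThru (𝟙 _) d
  have hρ : d ≫ ρ = 𝟙 _ := Injective.comp_factorThru _ _
  refine ⟨κ, Fm, fun k => (hs _ (hmem k)).1, fun k => (hs _ (hmem k)).2.1, fun k => (hs _ (hmem k)).2.2, ?_⟩
  by_cases hR : IsZero (kernel ρ)
  · haveI : Mono ρ := Preadditive.mono_of_kernel_zero (hR.eq_of_src _ _)
    exact ⟨⟨ρ, d, by rw [← cancel_mono ρ, Category.assoc, hρ, Category.comp_id, Category.id_comp], hρ⟩⟩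
  exfalso
  let proj : I ⟶ kernel ρ := kernel.lift ρ (𝟙 I - ρ ≫ d)
    (by rw [Preadditive.sub_comp, Category.id_comp, Category.assoc, hρ, Category.comp_id, sub_self])
  have hproj : kernel.ι ρ ≫ proj = 𝟙 _ := by
    rw [← cancel_mono (kernel.ι ρ), Category.assoc, kernel.lift_ι, Preadditive.comp_sub,
      Category.comp_id, kernel.condition_assoc, zero_comp, sub_zero, Category.id_comp]
  haveI : Injective (kernel ρ) := (Retract.mk (kernel.ι ρ) proj hproj).injective
  obtain ⟨J, σ, hσ, hJi, hJ0, hJind⟩ := InjIndec20.exists_indec (kernel ρ) hR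
  haveI := hσ
  let b : Subobject I := Subobject.mk (σ ≫ kernel.ι ρ)
  let eb : (b : X.Modules) ≅ J := Subobject.underlyingIso _
  have hbgood : good b := ⟨Injective.of_iso eb.symm hJi, fun h => hJ0 (h.of_iso eb.symm),
    fun A B ⟨e⟩ => hJind A B ⟨eb.symm ≪≫ e⟩⟩
  have hbρ : b.arrow ≫ ρ = 0 := by
    rw [← Subobject.underlyingIso_hom_comp_eq_mk (σ ≫ kernel.ι ρ), Category.assoc, Category.assoc,
      kernel.condition, comp_zero, comp_zero]
  have hbs : b ∉ s := fun hb => by
    obtain ⟨k, hk⟩ : ∃ k, a k = b := ⟨equivShrink.{u} s ⟨b, hb⟩, by simp [a]⟩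
    have h1 : (a k).arrow = Sigma.ι Fm k ≫ d := (Sigma.ι_desc (fun k => (a k).arrow) k).symm
    have h2 : (a k).arrow = 0 := by
      have hbρ' : (a k).arrow ≫ ρ = 0 := hk.symm ▸ hbρ
      rw [h1, Category.assoc, hρ, Category.comp_id] at hbρ'
      rw [h1, hbρ', zero_comp]
    exact (hs _ (hmem k)).2.1 (IsZero.of_mono_eq_zero _ h2)
  exact hmax b hbgood hbs (InjQCoh20.indepSet_insert ρ hmem (fun c hc =>
    ⟨equivShrink.{u} s ⟨c, hc⟩, by simp [a]⟩) hρ b hbs hbρ)

end Groth.Agent.S12434
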