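import Groth.Statements.S12435
import Groth.Agent.Lib.VADesc29.Main

set_option autoImplicit false
universe u
open CategoryTheory CategoryTheory.Limits AlgebraicGeometry
open Desc

namespace Groth.Agent.S12435

/-- Let f : X → Y be a morphism of finite type, g : Y′ → Y faithfully flat and quasi-compact, X′ = X ×_Y
Y′ with projections f′ : X′ → Y′ and g′ : X′ → X, and L an invertible O_X-module (locally isomorphic
to O_X). Then L is very ample for f — every point of Y has an open neighbourhood U with an immersion
of f⁻¹(U) into some P^n_U over U under which O(1) pulls back to L — if and only if g′^*L is very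
ample for f′ in the same sense. (The published statement has X, Y over a base S and base change
along a faithfully flat quasi-compact S′ → S; the case S = Y stated here is equivalent.) -/
theorem result {X Y Y' : Scheme.{u}} (f : X ⟶ Y)
    [LocallyOfFiniteType f] [QuasiCompact f] (g : Y' ⟶ Y) [Surjective g] [Flat g] [QuasiCompact g]
    (L : X.Modules) (hL : PicF.IsInvertible L) :
    (∀ y : Y, ∃ U : Y.Opens, y ∈ U ∧ RelAmple.IsRelVeryAmplePn (f ∣_ U) (L.restrict (f ⁻¹ᵁ U).ι)) ↔
      ∀ y' : Y', ∃ U' : Y'.Opens, y' ∈ U' ∧
        RelAmple.IsRelVeryAmplePn (pullback.snd f g ∣_ U')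
          (((Scheme.Modules.pullback (pullback.fst f g)).obj L).restrict (pullback.snd f g ⁻¹ᵁ U').ι) := by
  haveI : QuasiCompact (pullback.snd f g) := MorphismProperty.pullback_snd _ _ inferInstance
  haveI : LocallyOfFiniteType (pullback.snd f g) := MorphismProperty.pullback_snd _ _ inferInstance
  rw [GrothLib.VADesc29.pn_local_iff f hL,
    GrothLib.VADesc29.pn_local_iff (pullback.snd f g) (GrothLib.RelProjK.isInvertible_pullback (pullback.fst f g) hL)]
  exact ⟨fun h => GrothLib.VA.isRelVeryAmple_baseChange (IsPullback.of_hasPullback f g) hL h,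
    fun h => GrothLib.VADesc29.isRelVeryAmple_of_isPullback (IsPullback.of_hasPullback f g) hL h⟩

end Groth.Agent.S12435
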