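import Groth.Statements.S12436
import Groth.Agent.Lib.PlaneBlow28.RuledInter

set_option autoImplicit false
universe u
open CategoryTheory CategoryTheory.Limits AlgebraicGeometry
open Surf

namespace Groth.Agent.S12436

/-- Let π : X → C be a ruled surface over an algebraically closed field k — X a surface (integral, of
dimension two, all local rings regular, with a closed immersion into some P^n_k over k), C a curve
(integral, proper over k, of dimension one, all local rings regular), π a surjective k-morphism with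
every closed fibre isomorphic to P^1_k, σ a section — let C₀ = σ(C) with ideal sheaf ker σ, and let
f = π⁻¹(y) be the fibre over a closed point y, with ideal m_y·O_X. Then C₀.f = 1 and f² = 0; in
terms of the intersection number (L·M) = χ(O) − χ(L) − χ(M) + χ(L ⊗ M) of the ideal sheaves,
(I_{C₀}·I_f) = 1 and (I_f·I_f) = 0. -/
theorem result (k : Type u) [Field k] [IsAlgClosed k] (X : Scheme.{u}) [X.Over (Spec (CommRingCat.of k))]
    [IsIntegral X] (hdim : topologicalKrullDim X = 2) (hreg : ∀ x : X, IsRegularLocalRing (X.presheaf.stalk x))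
    (hproj : ∃ (n : ℕ) (ι : X ⟶ CohB1.ProjSpace n k), IsClosedImmersion ι ∧ ι ≫ CohB1.ProjSpace.toSpec n k = (X ↘ (Spec (CommRingCat.of k))))
    (C : Scheme.{u}) [C.Over (Spec (CommRingCat.of k))]
    [IsIntegral C] [IsProper (C ↘ (Spec (CommRingCat.of k)))] (hdimC : topologicalKrullDim C = 1)
    (hregC : ∀ x : C, IsRegularLocalRing (C.presheaf.stalk x))
    (π : X ⟶ C) (hπ : π ≫ (C ↘ (Spec (CommRingCat.of k))) = (X ↘ (Spec (CommRingCat.of k)))) (hsurj : Function.Surjective π)
    (hfib : ∀ y : C, IsClosed ({y} : Set C) → Nonempty (pullback π (C.fromSpecResidueField y) ≅ CohB1.ProjSpace 1 k))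
    (σ : C ⟶ X) (hσ : σ ≫ π = 𝟙 C)
    [HasInjectiveResolutions X.Modules] (y : C) (hy : IsClosed ({y} : Set C)) :
    FGA.intNum k X 2 ![ClSub.idealMod σ.ker, (ClSub.idealMod ((Scheme.IdealSheafData.vanishingIdeal ⟨{y}, hy⟩).comap π))] (Coh.structureModule X) = 1 ∧
      FGA.intNum k X 2 ![(ClSub.idealMod ((Scheme.IdealSheafData.vanishingIdeal ⟨{y}, hy⟩).comap π)), (ClSub.idealMod ((Scheme.IdealSheafData.vanishingIdeal ⟨{y}, hy⟩).comap π))] (Coh.structureModule X) = 0 := by
  obtain ⟨N, ι, hι, hιf⟩ := hproj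
  haveI := hι
  haveI : IsProper (CohB1.ProjSpace.toSpec N k) := GrothLib.Chow.isProper_toSpec N k
  haveI : IsProper (X ↘ (Spec (CommRingCat.of k))) := hιf ▸ inferInstance
  haveI : Smooth (X ↘ (Spec (CommRingCat.of k))) := GrothLib.Adj27.smooth_of_regular _ hreg
  haveI : Smooth (C ↘ (Spec (CommRingCat.of k))) := GrothLib.Adj27.smooth_of_regular _ hregC
  have hdim2 : topologicalKrullDim X = ((2 : ℕ) : WithBot ℕ∞) := hdim
  haveI := GrothLib.Euler.isNoetherian_of_proper (X := X) k
  haveI := GrothLib.Euler.isNoetherian_of_proper (X := C) k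

  obtain ⟨hI', -, -⟩ := GrothLib.PlaneBlow28.fibre_ideal k hdimC π hsurj hy
  haveI := isClosed_singleton_iff_isClosedImmersion.1 hy
  have hI : PicF.IsInvertible (ClSub.idealMod ((Scheme.IdealSheafData.vanishingIdeal ⟨{y}, hy⟩).comap π)) := by
    rw [← GrothLib.CurveMult.ker_fromSpecResidueField hy,
      ← Scheme.IdealSheafData.ker_fst_of_isClosedImmersion (C.fromSpecResidueField y) π]
    exact hI'
  obtain ⟨hS, h1, h2⟩ := GrothLib.PlaneBlow28.section_fibre k hdim2 hdimC π hπ hsurj hσ hy hI
  rw [GrothLib.BlowPt28.intNum_eq k hdim2.le hS hI, GrothLib.BlowPt28.intNum_eq k hdim2.le hI hI]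
  exact ⟨h1, h2⟩

end Groth.Agent.S12436
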