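import Groth.Statements.S12439
import Groth.Agent.Lib.ChainNorm5.Basic

set_option autoImplicit false
universe u
open Variety

namespace Groth.Agent.S12439

/-- Let k be a field, A an integral domain which is a finitely generated k-algebra of Krull dimension d,
and q_{h(1)} ⊊ … ⊊ q_{h(r)} a chain of prime ideals with dim A/q_{h(i)} = d − h(i), where 0 ≤ h(i) ≤
d. Then (1) there is a finite injective k-algebra homomorphism φ : k[T_1, …, T_d] → A with
φ⁻¹(q_{h(i)}) = (T_1, …, T_{h(i)}) for every i (variables indexed from 0 below: the ideal generated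
by the T_l with l < h(i)); and (2) for every such φ the given chain extends to a chain of primes q_0
⊊ … ⊊ q_d of A with φ⁻¹(q_j) = (T_1, …, T_j) for all j ≤ d. -/
theorem result (k A : Type u) [Field k]
    [CommRing A] [IsDomain A] [Algebra k A] [Algebra.FiniteType k A] (d : ℕ) (hd : ringKrullDim A = (d : WithBot ℕ∞))
    (r : ℕ) (q : Fin r → PrimeSpectrum A) (hq : StrictMono q) (h : Fin r → ℕ) (hh : ∀ i, h i ≤ d)
    (hdim : ∀ i, ringKrullDim (A ⧸ (q i).asIdeal) = ((d - h i : ℕ) : WithBot ℕ∞)) :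
    (∃ φ : MvPolynomial (Fin d) k →ₐ[k] A, φ.toRingHom.Finite ∧ Function.Injective φ ∧
      ∀ i, (q i).asIdeal.comap φ = Ideal.span (MvPolynomial.X '' {l : Fin d | (l : ℕ) < h i})) ∧
    (∀ φ : MvPolynomial (Fin d) k →ₐ[k] A, φ.toRingHom.Finite → Function.Injective φ →
      (∀ i, (q i).asIdeal.comap φ = Ideal.span (MvPolynomial.X '' {l : Fin d | (l : ℕ) < h i})) →
      ∃ Q : ℕ → PrimeSpectrum A,
        (∀ j, j ≤ d → (Q j).asIdeal.comap φ = Ideal.span (MvPolynomial.X '' {l : Fin d | (l : ℕ) < j})) ∧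
        (∀ j, j < d → Q j < Q (j + 1)) ∧ (∀ i, Q (h i) = q i)) := by
  refine ⟨GrothLib.ChainNorm5.exists_normalization hd (fun i => (q i).asIdeal) (fun i => (q i).isPrime)
    (fun i j hij => hq.monotone hij) h hh hdim, fun φ hfin hinj hc => ?_⟩
  exact GrothLib.ChainNorm5.exists_fill φ (RingHom.IsIntegral.of_finite hfin) hinj q hq.monotone h hh hc

end Groth.Agent.S12439
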