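import Groth.Statements.S7577
import Groth.Agent.Lib.Catenary20.Basic

set_option autoImplicit false
universe u
open PtTop

namespace Groth.Agent.S7577

/-- Let X be a sober topological space and δ : X → ℤ a dimension function. Then X is catenary, and for
any specialization x ⤳ y the codimension of the closure of {y} in the closure of {x} equals δ(x) −
δ(y). -/
theorem result {X : Type u} [TopologicalSpace X] [QuasiSober X] [T0Space X]
    (δ : X → ℤ) (hδ : PtTop.IsDimensionFunction δ) :
    PtTop.IsCatenarySpace X ∧
    ∀ x y : X, x ⤳ y →
      PtTop.codim (⟨closure {y}, isIrreducible_singleton.closure, isClosed_closure⟩ : TopologicalSpace.IrreducibleCloseds X)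
        (closure {x}) = ((δ x - δ y).toNat : ℕ∞) := by
  obtain ⟨h1, h2⟩ := GrothLib.Catenary20.cat_of_dim (d := fun Z => δ (GrothLib.Catenary20.pt Z))
    (fun _ _ => GrothLib.Catenary20.strict hδ) (fun _ _ => GrothLib.Catenary20.covBy_eq hδ)
  refine ⟨h1, fun x y hxy => ?_⟩
  have hle : (⟨closure {y}, isIrreducible_singleton.closure, isClosed_closure⟩ : TopologicalSpace.IrreducibleCloseds X) ≤
      ⟨closure {x}, isIrreducible_singleton.closure, isClosed_closure⟩ :=
    specializes_iff_closure_subset.1 hxy
  have hpt : ∀ z : X, GrothLib.Catenary20.pt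
      (⟨closure {z}, isIrreducible_singleton.closure, isClosed_closure⟩ : TopologicalSpace.IrreducibleCloseds X) = z :=
    fun z => irreducibleSetEquivPoints.toEquiv.apply_symm_apply z
  have := h2 _ _ hle
  rw [hpt, hpt] at this
  exact this

end Groth.Agent.S7577
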