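import Groth.Statements.S12447
import Groth.Agent.Lib.Props8.DimFun
import Groth.Agent.S7577

set_option autoImplicit false
universe u
open CategoryTheory AlgebraicGeometry
open Props

namespace Groth.Agent.S12447

/-- Let S be a locally Noetherian scheme. Then the underlying topological space of S is catenary if and
only if locally in the Zariski topology there is a dimension function, i.e. every point has an open
neighbourhood U carrying a function δ : U → ℤ which strictly decreases along nontrivial
specializations and drops by exactly one along immediate specializations. -/
theorem result (S : Scheme.{u}) [IsLocallyNoetherian S] :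
    PtTop.IsCatenarySpace S ↔
      ∀ s : S, ∃ U : S.Opens, s ∈ U ∧ ∃ δ : U → ℤ, PtTop.IsDimensionFunction δ := by
    refine ⟨fun h s => GrothLib.Props8.exists_dimensionFunction_scheme S h s, fun h => ?_⟩
    refine (Groth.Agent.S12444.result S).1.mpr fun s => ?_
    obtain ⟨U, hs, δ, hδ⟩ := h s
    haveI : QuasiSober (U : Set S) := U.2.isOpenEmbedding_subtypeVal.quasiSober
    exact ⟨U, hs, (Groth.Agent.S7577.result (X := (U : Set S)) δ hδ).1⟩

end Groth.Agent.S12447
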