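import Groth.Statements.S1245
import Groth.Agent.Lib.RG6.Impure.Stage
-- import your own Groth.Agent.* helpers here

set_option autoImplicit false
universe u
open FlatMor

namespace Groth.Agent.S1245

/-- Ring form, X = Spec B affine, base change rings affine: let B be a finite type A-algebra, N a finite
B-module and p a prime of A. If there is an impurity of N above p, then there is one whose base
change A → A' is of finite presentation and whose point t is a closed point of the fibre of Spec A'
over p (the extension of t to the fibre ring is maximal). -/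
theorem result {A B : Type u} [CommRing A] [CommRing B] [Algebra A B] [Algebra.FiniteType A B]
    (N : Type u) [AddCommGroup N] [Module B N] [Module.Finite B N] (p : Ideal A) [p.IsPrime]
    (h : FlatCA.HasImpurity A B N p (fun _ _ _ _ => True)) :
    FlatCA.HasImpurity A B N p (fun A' _ _ t => Algebra.FinitePresentation A A' ∧ (FlatCA.fiberIdeal p t).IsMaximal) := by
  classical
  obtain ⟨A', B', N', _, _, _, _, _, _, _, _, _, _, _, _, _, _, f, t', t, _, _, P, _, himp, -⟩ := h
  obtain ⟨s, F, hs, h⟩ := GrothLib.RG6.Impure.exists_stage himp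
  haveI := himp.2.2.2.1
  let σ := {x // x ∈ insert s F}
  letI : Algebra (MvPolynomial σ A) A' := (MvPolynomial.aeval (fun x : σ => (x : A'))).toRingHom.toAlgebra
  haveI : IsScalarTower A (MvPolynomial σ A) A' :=
    .of_algebraMap_eq fun x => ((MvPolynomial.aeval (fun x : σ => (x : A'))).commutes x).symm
  have hX : ∀ x : σ, algebraMap (MvPolynomial σ A) A' (MvPolynomial.X x) = (x : A') := fun x => MvPolynomial.aeval_X _ x
  let s₁ : MvPolynomial σ A := MvPolynomial.X ⟨s, Finset.mem_insert_self _ _⟩
  let q := t.comap (algebraMap (MvPolynomial σ A) A')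
  haveI : q.LiesOver p := ⟨by
    rw [t.over_def p]
    show Ideal.comap _ t = Ideal.comap _ (Ideal.comap _ t)
    rw [Ideal.comap_comap, ← IsScalarTower.algebraMap_eq A (MvPolynomial σ A) A']⟩
  haveI := GrothLib.RG6.isPrime_fiberIdeal p q
  have hs₁ : GrothLib.WeakAssFib.toFib p s₁ ∉ FlatCA.fiberIdeal p q := fun hmem => by
    have h1 : s₁ ∈ q := (SetLike.ext_iff.1 (GrothLib.WeakAssFib.comap_fiberIdeal p q) s₁).1 hmem
    refine hs ?_
    rw [Ideal.mem_comap, hX] at h1
    exact h1
  haveI : IsJacobsonRing (p.Fiber (MvPolynomial σ A)) := isJacobsonRing_of_finiteType (A := p.ResidueField)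
  obtain ⟨m, ⟨hle, hm⟩, hsm⟩ : ∃ m, (FlatCA.fiberIdeal p q ≤ m ∧ m.IsMaximal) ∧ GrothLib.WeakAssFib.toFib p s₁ ∉ m := by
    by_contra! hall
    refine hs₁ ?_
    rw [← IsJacobsonRing.out ‹IsJacobsonRing _› (Ideal.IsPrime.isRadical ‹(FlatCA.fiberIdeal p q).IsPrime›)]
    exact Ideal.mem_sInf.2 fun {I} hI => hall I hI
  haveI := hm.isPrime
  haveI : (m.comap (GrothLib.WeakAssFib.toFib p)).LiesOver p := ⟨(GrothLib.WeakAssFib.comap_comap_toFib p m).symm⟩
  refine h (MvPolynomial σ A) (fun a ha => ⟨MvPolynomial.X ⟨a, Finset.mem_insert_of_mem ha⟩, hX _⟩) s₁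
    (hX _) (m.comap (GrothLib.WeakAssFib.toFib p)) inferInstance ‹_› ?_ hsm _ ⟨inferInstance, ?_⟩
  · exact (GrothLib.WeakAssFib.comap_fiberIdeal p q).ge.trans (Ideal.comap_mono hle)
  · rw [GrothLib.WeakAssFib.fiberIdeal_comap]
    exact hm

end Groth.Agent.S1245
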