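import Groth.Statements.S12451
import Groth.Agent.Lib.LocFree8.Tilde
import Groth.Agent.Lib.OX.TildePerfect

set_option autoImplicit false
universe u
open CategoryTheory AlgebraicGeometry
open Props

namespace Groth.Agent.S12451

/-- For a commutative ring R and an R-module M, the associated quasi-coherent module M~ on Spec R is a
finite locally free O-module exactly when M is finitely generated and projective over R
(equivalently, a finite locally free R-module). -/
theorem result {R : CommRingCat.{u}} (M : ModuleCat.{u} R) :
    FlatMod.IsFinLocFree (tilde M) ↔ Module.Finite R M ∧ Module.Projective R M := by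
    refine ⟨fun h => ?_, fun ⟨_, _⟩ => GrothLib.OX.isFinLocFree_tilde M⟩
    obtain ⟨h1, h2⟩ := (GrothLib.LocFree8.isFinLocFree_iff_fp_free (tilde M)).mp h
    haveI := GrothLib.LocFree8.finitePresentation_of_isFP M h1
    haveI := GrothLib.LocFree8.flat_of_free_stalks M h2
    exact ⟨inferInstance, Module.Flat.projective_of_finitePresentation⟩

end Groth.Agent.S12451
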