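import Groth.Statements.S12452
import Groth.Agent.ShB25.Basic
import Mathlib.Topology.Sheaves.SheafCondition.Sites
import Mathlib.Topology.Sheaves.SheafCondition.UniqueGluing
-- import your own Groth.Agent.* helpers here

set_option autoImplicit false
universe u
open CategoryTheory TopologicalSpace Opposite
open ShSp

namespace Groth.Agent.S12452

/-- For sheaves of sets, let f : X → Y be a continuous map, F a sheaf of sets on X, G a sheaf of sets on
Y, and B_X, B_Y bases for the topologies of X and Y. Suppose given, for every V in B_Y and U in B_X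
with U ⊆ f⁻¹V, a map φ_V^U : G(V) → F(U), compatibly with restrictions. Then there is exactly one
morphism of sheaves ψ : G → f_*F (an f-map G → F) such that G(V) → F(f⁻¹V) → F(U) equals φ_V^U for
every such pair. -/
theorem result {X Y : TopCat.{u}} (f : X ⟶ Y) (F : X.Sheaf (Type u)) (G : Y.Sheaf (Type u))
    {BX : Set (Opens X)} (hBX : Opens.IsBasis BX) {BY : Set (Opens Y)} (hBY : Opens.IsBasis BY)
    (φ : ∀ (V : BY) (U : BX), (U : Opens X) ≤ (Opens.map f).obj V →
      (G.presheaf.obj (op (V : Opens Y)) → F.presheaf.obj (op (U : Opens X))))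
    (hφ : ∀ (V V' : BY) (U U' : BX) (hUV : (U : Opens X) ≤ (Opens.map f).obj V)
      (hU'V' : (U' : Opens X) ≤ (Opens.map f).obj V') (hV : (V' : Opens Y) ≤ V) (hU : (U' : Opens X) ≤ U)
      (s : G.presheaf.obj (op (V : Opens Y))),
      F.presheaf.map (homOfLE hU).op (φ V U hUV s) = φ V' U' hU'V' (G.presheaf.map (homOfLE hV).op s)) :
    ∃! ψ : G ⟶ (TopCat.Sheaf.pushforward (Type u) f).obj F,
      ∀ (V : BY) (U : BX) (hUV : (U : Opens X) ≤ (Opens.map f).obj V) (s : G.presheaf.obj (op (V : Opens Y))),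
        F.presheaf.map (homOfLE hUV).op (ψ.1.app (op (V : Opens Y)) s) = φ V U hUV s := by
  let B' : BY → Opens Y := Subtype.val
  have hr : Opens.IsBasis (Set.range B') := by rw [Subtype.range_coe]; exact hBY
  have hcov : ∀ W : Opens X, W ≤ ⨆ U : GrothLib.ShB25.Below BX W, (U.1 : Opens X) :=
    GrothLib.ShB25.le_iSup_below hBX
  have hcomp : ∀ (V : BY) (s : G.presheaf.obj (Opposite.op (V : Opens Y))),
      TopCat.Presheaf.IsCompatible F.1 (fun U : GrothLib.ShB25.Below BX ((Opens.map f).obj V) => (U.1 : Opens X))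
        (fun U => φ V U.1 U.2 s) := fun V s U U' => by
    refine TopCat.Sheaf.eq_of_locally_eq' F
      (fun W : GrothLib.ShB25.Below BX ((U.1 : Opens X) ⊓ U'.1) => (W.1 : Opens X))
      _ (fun W => homOfLE W.2) (hcov _) _ _ fun W => ?_
    rw [← FunctorToTypes.map_comp_apply, ← FunctorToTypes.map_comp_apply]
    exact (hφ V V U.1 W.1 U.2 ((W.2.trans inf_le_left).trans U.2) le_rfl (W.2.trans inf_le_left) s).trans
      (hφ V V U'.1 W.1 U'.2 ((W.2.trans inf_le_left).trans U.2) le_rfl (W.2.trans inf_le_right) s).symm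
  choose ψ₀ hψ₀ hu using fun (V : BY) (s : G.presheaf.obj (Opposite.op (V : Opens Y))) =>
    TopCat.Sheaf.existsUnique_gluing' F
      (fun U : GrothLib.ShB25.Below BX ((Opens.map f).obj V) => (U.1 : Opens X))
      ((Opens.map f).obj V) (fun U => homOfLE U.2) (hcov _) _ (hcomp V s)
  let α : (inducedFunctor B').op ⋙ G.presheaf ⟶
      (inducedFunctor B').op ⋙ ((TopCat.Sheaf.pushforward (Type u) f).obj F).1 :=
    { app := fun V => TypeCat.ofHom fun s => ψ₀ V.unop s
      naturality := fun V V' g => by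
        ext s
        refine (hu V'.unop (G.presheaf.map (homOfLE g.unop.hom.le).op s) _ fun U => ?_).symm
        have hU : (U.1 : Opens X) ≤ (Opens.map f).obj (B' V.unop) :=
          U.2.trans ((Opens.map f).map g.unop.hom).le
        change F.presheaf.map (homOfLE U.2).op (F.presheaf.map ((Opens.map f).map g.unop.hom).op (ψ₀ V.unop s)) = _
        rw [← FunctorToTypes.map_comp_apply]
        refine (hψ₀ V.unop s ⟨U.1, hU⟩).trans ?_
        have e := hφ V.unop V'.unop U.1 U.1 hU U.2 g.unop.hom.le le_rfl s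
        simpa using e }
  let ψ : G ⟶ (TopCat.Sheaf.pushforward (Type u) f).obj F :=
    ObjectProperty.homMk (TopCat.Sheaf.restrictHomEquivHom G.presheaf _ hr α)
  have happ : ∀ (V : BY) (s : G.presheaf.obj (Opposite.op (V : Opens Y))),
      ψ.1.app (Opposite.op (V : Opens Y)) s = ψ₀ V s := fun V s =>
    ConcreteCategory.congr_hom
      (TopCat.Sheaf.extend_hom_app (B := B') G.presheaf ((TopCat.Sheaf.pushforward (Type u) f).obj F) hr α V) s
  refine ⟨ψ, fun V U hUV s => ?_, fun χ hχ => ?_⟩
  · rw [happ]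
    exact hψ₀ V s ⟨U, hUV⟩
  · refine ObjectProperty.hom_ext _ (TopCat.Sheaf.hom_ext (B := B') G.presheaf _ hr fun V => ?_)
    ext s
    exact (hu V s _ fun U => hχ V U.1 U.2 s).trans (happ V s).symm

end Groth.Agent.S12452
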