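import Groth.Statements.S12459
import Groth.Agent.Lib.Props8.Catenary
import Groth.Agent.Lib.Altitude.Scheme

set_option autoImplicit false
universe u
open CategoryTheory AlgebraicGeometry
open Props

namespace Groth.Agent.S12459

/-- For a locally Noetherian scheme S, the scheme S is universally catenary — every scheme X locally of
finite type over S has catenary underlying topological space — if and only if all local rings
O_{S,s} are universally catenary rings. (Schemes X over S are taken in the universe of S.) -/
theorem result (S : Scheme.{u}) [IsLocallyNoetherian S] :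
    (∀ (X : Scheme.{u}) (f : X ⟶ S), LocallyOfFiniteType f → PtTop.IsCatenarySpace X) ↔
      ∀ s : S, CAlg.IsUniversallyCatenary (S.presheaf.stalk s) := by
    constructor
    · intro h s
      obtain ⟨U, hU, hs, -⟩ := exists_isAffineOpen_mem_and_subset (TopologicalSpace.Opens.mem_top s)
      haveI : IsNoetherianRing Γ(S, U) := IsLocallyNoetherian.component_noetherian ⟨U, hU⟩
      have hU' : CAlg.IsUniversallyCatenary Γ(S, U) := by
        refine ⟨inferInstance, fun A _ _ hA => ?_⟩
        let f : Spec (CommRingCat.of A) ⟶ S := Spec.map (CommRingCat.ofHom (algebraMap Γ(S, U) A)) ≫ hU.fromSpec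
        haveI : LocallyOfFiniteType (Spec.map (CommRingCat.ofHom (algebraMap Γ(S, U) A))) :=
          (HasRingHomProperty.Spec_iff (P := @LocallyOfFiniteType)).mpr (RingHom.finiteType_algebraMap.mpr hA)
        have hc := (GrothLib.Props8.isCatenarySpace_iff_affine (Spec (CommRingCat.of A))).1.mp
          (h _ f inferInstance) ⟨⊤, isAffineOpen_top _⟩
        let e := (Scheme.ΓSpecIso (CommRingCat.of A)).commRingCatIsoToRingEquiv
        exact GrothLib.CatBasics.isCatenary_of_surjective e.toRingHom e.surjective hc
      letI := S.presheaf.algebra_section_stalk ⟨s, hs⟩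
      haveI := hU.isLocalization_stalk ⟨s, hs⟩
      exact GrothLib.Excellent.isUniversallyCatenary_localization (hU.primeIdealOf ⟨s, hs⟩).asIdeal.primeCompl hU'
    · intro h X f hf
      refine (GrothLib.Props8.isCatenarySpace_iff_affine X).2.mpr fun x => ?_
      obtain ⟨U, hU, hs, -⟩ := exists_isAffineOpen_mem_and_subset (TopologicalSpace.Opens.mem_top (f x))
      obtain ⟨V, hV, hx, hVU⟩ := exists_isAffineOpen_mem_and_subset (show x ∈ f ⁻¹ᵁ U from hs)
      haveI : IsNoetherianRing Γ(S, U) := IsLocallyNoetherian.component_noetherian ⟨U, hU⟩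
      have hU' : CAlg.IsUniversallyCatenary Γ(S, U) := by
        refine GrothLib.CatBasics.isUniversallyCatenary_iff_localization_maximal.mpr fun m hm => ?_
        let z : U := (Scheme.homeoOfIso hU.isoSpec).symm ⟨m, hm.isPrime⟩
        have hz : hU.primeIdealOf z = ⟨m, hm.isPrime⟩ := (Scheme.homeoOfIso hU.isoSpec).apply_symm_apply _
        letI := S.presheaf.algebra_section_stalk z
        haveI := hU.isLocalization_stalk z
        have key : ∀ P : PrimeSpectrum Γ(S, U), P = ⟨m, hm.isPrime⟩ → IsLocalization.AtPrime (S.presheaf.stalk z.1) P.asIdeal →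
            CAlg.IsUniversallyCatenary (Localization.AtPrime m) := by
          rintro P rfl hP
          haveI : IsLocalization m.primeCompl (S.presheaf.stalk z.1) := hP
          let e := (IsLocalization.algEquiv m.primeCompl (S.presheaf.stalk z.1) (Localization.AtPrime m)).toRingEquiv
          exact GrothLib.Altitude.isUniversallyCatenary_of_surjective e.toRingHom e.surjective (h z.1)
        exact key _ hz inferInstance
      refine ⟨⟨V, hV⟩, hx, ?_⟩
      have hft := f.finiteType_appLE hU hV (V := V) hVU
      algebraize [(f.appLE U V hVU).hom]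
      exact hU'.2 Γ(X, V) ‹_›

end Groth.Agent.S12459
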