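import Groth.Statements.S12461
import Groth.Agent.Lib.IdealMul9.MaxQcoh
import Groth.Agent.Lib.QCoh.Killed
import Groth.Agent.Lib.QCoh.ClosedImmersion
import Groth.Agent.Lib.QCoh.Qcqs
import Groth.Agent.Lib.ClosedHom20.Basic
import Groth.Agent.Lib.FittSheaf.Pullback
import Mathlib.CategoryTheory.Adjunction.Comma

set_option autoImplicit false
universe u
open CategoryTheory AlgebraicGeometry
open QCohSub

namespace Groth.Agent.S12461

/-- Let i : Z → X be a closed immersion of schemes. The functor i_* : QCoh(O_Z) → QCoh(O_X) has a right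
adjoint i^! : QCoh(O_X) → QCoh(O_Z). Stated as: there is a functor L between the full subcategories
of quasi-coherent modules which agrees with i_* after the inclusion into all O_X-modules (this
determines L up to isomorphism, the inclusion being fully faithful) and which is a left adjoint. -/
theorem result {Z X : Scheme.{u}} (i : Z ⟶ X) [IsClosedImmersion i] :
    ∃ L : QCohCat.QCoh Z ⥤ QCohCat.QCoh X,
      Nonempty (L ⋙ (QCohCat.isQCoh X).ι ≅ (QCohCat.isQCoh Z).ι ⋙ Coh.push i) ∧ L.IsLeftAdjoint := by
  classical
  obtain ⟨hfull, hfaith⟩ := GrothLib.ClosedHom20.full_faithful_pushforward i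
  let L : QCohCat.QCoh Z ⥤ QCohCat.QCoh X :=
    (QCohCat.isQCoh X).lift ((QCohCat.isQCoh Z).ι ⋙ Coh.push i) fun M => by
      haveI : M.obj.IsQuasicoherent := M.property
      exact GrothLib.QCoh.isQuasicoherent_pushforward i M.obj
  refine ⟨L, ⟨Iso.refl _⟩, ?_⟩
  haveI : ∀ A, Limits.HasTerminal (CostructuredArrow L A) := fun A => by
    haveI : A.obj.IsQuasicoherent := A.property
    let K := GrothLib.QCoh.killed A.obj i.ker
    haveI : Mono K.ι := GrothLib.QCoh.mono_of_app_injective _ K.ι_app_injective
    obtain ⟨Q, k, hQ, hk, huniv⟩ := GrothLib.IdealMul9.exists_largest_qcoh (F := A.obj) K.ι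
    haveI := hQ
    haveI := hk
    have hkilled : ClSub.KilledByIdeal i.ker Q := fun U a ha m => by
      apply GrothLib.Cohom.app_injective_of_mono k U.1
      exact (k.app_smul a m).trans ((GrothLib.QCoh.killed_killedByIdeal A.obj i.ker U a ha _).trans (map_zero _).symm)
    haveI := GrothLib.QCoh.isIso_unit_of_killed i Q hkilled
    let N := (Scheme.Modules.pullback i).obj Q
    let e := asIso ((Scheme.Modules.pullbackPushforwardAdjunction i).unit.app Q)
    let t : CostructuredArrow L A := CostructuredArrow.mk
      (Y := (⟨N, GrothLib.FittSheaf.isQuasicoherent_pullback i Q⟩ : QCohCat.QCoh Z))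
      (⟨e.inv ≫ k ≫ K.ι⟩ : L.obj ⟨N, GrothLib.FittSheaf.isQuasicoherent_pullback i Q⟩ ⟶ A)
    suffices hs : ∀ P : CostructuredArrow L A, Nonempty (P ⟶ t) ∧ ∀ g g' : P ⟶ t, g = g' from
      (Limits.IsTerminal.ofUniqueHom (Y := t) (fun P => (hs P).1.some) (fun P g => (hs P).2 _ _)).hasTerminal
    refine fun P => ⟨?_, fun g g' => ?_⟩
    · haveI : P.left.obj.IsQuasicoherent := P.left.property
      let φ : (Coh.push i).obj P.left.obj ⟶ A.obj := P.hom.hom
      have hmem : ∀ (V : X.Opens) (s : Γ((Coh.push i).obj P.left.obj, V)), φ.app V s ∈ K.sec V := by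
        intro V s W hW a ha
        let s' : Γ((Coh.push i).obj P.left.obj, W.1) := ((Coh.push i).obj P.left.obj).presheaf.map (homOfLE hW).op s
        have h0 : a • s' = 0 := by
          rw [Scheme.Hom.ker_apply, RingHom.mem_ker] at ha
          show (i.app W.1).hom a • (show Γ(P.left.obj, i ⁻¹ᵁ W.1) from s') = 0
          rw [ha, zero_smul]
        have h1 := ((φ.app_smul a s').symm.trans ((congrArg (φ.app W.1) h0).trans (map_zero _)))
        refine Eq.trans (congrArg (a • ·) ?_) h1
        exact (NatTrans.naturality_apply φ.mapPresheaf (homOfLE hW).op s).symm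
      let ψ : (Coh.push i).obj P.left.obj ⟶ K.obj :=
        ⟨PresheafOfModules.homMk
          { app := fun V => AddCommGrpCat.ofHom
              { toFun := fun s => K.lift (φ.app V.unop s) (hmem V.unop s)
                map_zero' := Subtype.ext (map_zero _)
                map_add' := fun _ _ => Subtype.ext (map_add _ _ _) }
            naturality := fun V W f => by
              refine ConcreteCategory.hom_ext _ _ fun s => Subtype.ext ?_
              exact NatTrans.naturality_apply φ.mapPresheaf f s }
          fun V a s => Subtype.ext (φ.app_smul a s)⟩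
      haveI : ((Coh.push i).obj P.left.obj).IsQuasicoherent :=
        GrothLib.QCoh.isQuasicoherent_pushforward i P.left.obj
      let ρ := Classical.choose ((huniv _ inferInstance).2 ψ)
      have hρ : ρ ≫ k = ψ := Classical.choose_spec ((huniv _ inferInstance).2 ψ)
      refine ⟨CostructuredArrow.homMk ⟨(Coh.push i).preimage (ρ ≫ e.hom)⟩ ?_⟩
      refine ObjectProperty.hom_ext _ ?_
      show (Coh.push i).map ((Coh.push i).preimage (ρ ≫ e.hom)) ≫ e.inv ≫ k ≫ K.ι = φ
      rw [Functor.map_preimage]
      simp only [Category.assoc, Iso.hom_inv_id_assoc]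
      rw [reassoc_of% hρ]
      exact Scheme.Modules.hom_ext _ _ fun V => rfl
    · refine CostructuredArrow.hom_ext _ _ (ObjectProperty.hom_ext _ ((Coh.push i).map_injective ?_))
      rw [← cancel_mono (e.inv ≫ k ≫ K.ι)]
      exact (congrArg (fun q : L.obj P.left ⟶ A => q.hom) (CostructuredArrow.w g)).trans
        (congrArg (fun q : L.obj P.left ⟶ A => q.hom) (CostructuredArrow.w g')).symm
  exact isLeftAdjoint_of_costructuredArrowTerminals L

end Groth.Agent.S12461
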