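import Groth.Statements.S12463
import Groth.Agent.Lib.Wedge4.Basic

set_option autoImplicit false
universe u
open Variety

namespace Groth.Agent.S12463

/-- Let (A, m) be a strictly henselian reduced Nagata local ring of dimension one with δ-invariant equal
to the number of geometric branches minus one, and A' the integral closure of A in its total ring of
fractions. Then A is a wedge of discrete valuation rings: for every maximal ideal m' of A' the
localization A'_{m'} is a discrete valuation ring whose residue field is the image of A, and A
consists exactly of the elements of A' congruent to an element of A modulo every maximal ideal of A'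
(the displayed inclusion; the reverse inclusion is trivial). (The inequality δ ≥ branches − 1 of the
published statement holds for every reduced Nagata local ring of dimension one and is not restated.) -/
theorem result (A : Type u) [CommRing A] [HenselianLocalRing A]
    [IsSepClosed (IsLocalRing.ResidueField A)] [IsReduced A] (hN : CAlg.IsNagata A) (hdim : ringKrullDim A = 1)
    (heq : Curv2.deltaInv A + 1 = Brnch.numGeomBranches A) :
    (∀ m' : MaximalSpectrum ↥(integralClosure A (FractionRing A)),
        (∃ _ : IsDomain (Localization.AtPrime m'.asIdeal), IsDiscreteValuationRing (Localization.AtPrime m'.asIdeal)) ∧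
        Function.Surjective (⇑(IsLocalRing.residue (Localization.AtPrime m'.asIdeal)) ∘
          ⇑(algebraMap ↥(integralClosure A (FractionRing A)) (Localization.AtPrime m'.asIdeal)) ∘
          ⇑(algebraMap A ↥(integralClosure A (FractionRing A))))) ∧
    ∀ a' : ↥(integralClosure A (FractionRing A)),
      (∃ a : A, ∀ m' : MaximalSpectrum ↥(integralClosure A (FractionRing A)),
          a' - algebraMap A _ a ∈ m'.asIdeal) →
      a' ∈ (algebraMap A ↥(integralClosure A (FractionRing A))).range := by
  classical
  haveI := hN.1
  haveI := GrothLib.RedTotal.finite_integralClosure hN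
  haveI : Finite (MaximalSpectrum (integralClosure A (FractionRing A))) :=
    GrothLib.RedTotal.finite_maximalSpectrum A _
  haveI := Fintype.ofFinite (MaximalSpectrum (integralClosure A (FractionRing A)))
  have h := (le_of_eq heq).trans (GrothLib.Wedge4.numGeomBranches_le_card A)
  rw [ENat.card_eq_coe_fintype_card] at h
  obtain ⟨hsurj, hJ⟩ := GrothLib.Wedge4.bijective_and_jacobson_le A (integralClosure A (FractionRing A)) h
  refine ⟨fun m' => ⟨?_, ?_⟩, fun a' ha' => ?_⟩
  · haveI := m'.isMaximal
    exact GrothLib.Wedge4.isDVR_localization A hdim GrothLib.RedTotal.localization_normal m'.asIdeal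
  · haveI := m'.isMaximal
    intro z
    let O := Localization.AtPrime m'.asIdeal
    obtain ⟨z, rfl⟩ := IsLocalRing.residue_surjective z
    obtain ⟨b, s, rfl⟩ := IsLocalization.exists_mk'_eq m'.asIdeal.primeCompl z
    obtain ⟨v, hv⟩ := Ideal.Quotient.mk_surjective
      ((Ideal.Quotient.field m'.asIdeal).inv (Ideal.Quotient.mk m'.asIdeal s.1))
    obtain ⟨a, ha⟩ := hsurj m' (Ideal.Quotient.mk m'.asIdeal (b * v))
    refine ⟨a, (Ideal.Quotient.eq.2 ?_)⟩
    have h1 : algebraMap A _ a - b * v ∈ m'.asIdeal := Ideal.Quotient.eq.1 ha
    have h2 : s.1 * v - 1 ∈ m'.asIdeal := Ideal.Quotient.eq.1 (by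
      rw [map_mul, map_one, hv]
      letI := Ideal.Quotient.field m'.asIdeal
      exact mul_inv_cancel₀ fun h => s.2 (Ideal.Quotient.eq_zero_iff_mem.1 h))
    have h3 : algebraMap A _ a * s.1 - b ∈ m'.asIdeal := by
      convert m'.asIdeal.add_mem (m'.asIdeal.mul_mem_right s.1 h1) (m'.asIdeal.mul_mem_left b h2) using 1
      ring
    have h4 : algebraMap _ O (algebraMap A _ a * s.1 - b) ∈ IsLocalRing.maximalIdeal O :=
      (IsLocalization.AtPrime.to_map_mem_maximal_iff O m'.asIdeal _).2 h3
    refine (Ideal.mul_unit_mem_iff_mem _ (IsLocalization.map_units O s)).1 ?_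
    have e : ∀ (R : Type u) [CommRing R] (x y z : R), (x - y) * z = x * z - y * z := fun R _ x y z => sub_mul x y z
    have e' := e O (algebraMap (integralClosure A (FractionRing A)) O (algebraMap A (integralClosure A (FractionRing A)) a)) (IsLocalization.mk' O b s) (algebraMap (integralClosure A (FractionRing A)) O s.1)
    rw [IsLocalization.mk'_spec O b s] at e'
    simp only [map_sub, map_mul] at h4
    exact e'.symm ▸ h4
  · obtain ⟨a, ha⟩ := ha'
    obtain ⟨c, hc⟩ := hJ _ ha
    refine ⟨c + a, ?_⟩
    rw [map_add, show algebraMap A _ c = a' - algebraMap A _ a from hc, sub_add_cancel]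

end Groth.Agent.S12463
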