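import Groth.Statements.S12465
import Groth.Agent.Lib.BigEt.Compare
-- import your own Groth.Agent.* helpers here

set_option autoImplicit false
universe u
open CategoryTheory AlgebraicGeometry
open BigSite

namespace Groth.Agent.S12465

/-- On the big étale sites, for a cartesian square g' : T' → T, f' : T' → S', f : T → S, g : S' → S of
schemes, i_g⁻¹ ∘ f_big,* ≅ f'_small,* ∘ i_{g'}⁻¹ as functors from abelian sheaves on (Sch/T)_ét to
abelian sheaves on the small étale site of S'. (Existence of a natural isomorphism; both sides send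
F to U' ↦ F(U' ×_{S'} T'). The binder BCCont f' holds for every morphism.) -/
theorem result {S T S' T' : Scheme.{u}} (f : T ⟶ S) (g : S' ⟶ S) (g' : T' ⟶ T)
    (f' : T' ⟶ S') (hsq : IsPullback g' f' f g) [EtCoh.BCCont f'] :
    Nonempty (BigSite.pushBig Scheme.etalePrecoverage f AddCommGrpCat.{u + 1} ⋙
        BigSite.resEtAlong Scheme.etalePrecoverage g ≅
      BigSite.resEtAlong Scheme.etalePrecoverage g' ⋙ EtCoh.push f') := by
  exact ⟨GrothLib.BigEt.resEtAlongPushBigIso f g g' f' hsq⟩

end Groth.Agent.S12465
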