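import Groth.Statements.S1247
import Groth.Agent.Lib.RG6.Impure.NoethMain
import Groth.Agent.S1245
-- import your own Groth.Agent.* helpers here

set_option autoImplicit false
universe u
open FlatMor

namespace Groth.Agent.S1247

/-- Ring form, X = Spec B and S = Spec A affine with A Noetherian: let B be a finite type A-algebra, N a
finite B-module and p a prime of A. If there is an impurity of N above p then there is one whose
base change A → A' is of finite type and quasi-finite at the point t. -/
theorem result {A B : Type u} [CommRing A] [IsNoetherianRing A] [CommRing B] [Algebra A B] [Algebra.FiniteType A B]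
    (N : Type u) [AddCommGroup N] [Module B N] [Module.Finite B N] (p : Ideal A) [p.IsPrime]
    (h : FlatCA.HasImpurity A B N p (fun _ _ _ _ => True)) :
    FlatCA.HasImpurity A B N p (fun A' _ _ t => ∃ _ : t.IsPrime, Algebra.FiniteType A A' ∧ Algebra.QuasiFiniteAt A t) := by
  obtain ⟨A', B', N', _, _, _, _, _, _, _, _, _, _, _, _, _, _, f, t', t, _, _, P, _, himp, hfp, hmax⟩ :=
    Groth.Agent.S1245.result N p h
  haveI := hfp
  obtain ⟨-, -, hle, ht, -⟩ := id himp
  haveI := ht
  let D := A' ⧸ t'
  have hker : RingHom.ker (algebraMap A' D) = t' := Ideal.mk_ker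
  have hs : Function.Surjective (algebraMap A' D) := Ideal.Quotient.mk_surjective
  let tD : Ideal D := t.map (algebraMap A' D)
  haveI : tD.IsPrime := Ideal.map_isPrime_of_surjective hs (hker.trans_le hle)
  haveI : tD.LiesOver t := ⟨by
    show t = Ideal.comap _ (Ideal.map _ t)
    rw [Ideal.comap_map_of_surjective _ hs, ← RingHom.ker_eq_comap_bot, hker, sup_eq_left.2 hle]⟩
  haveI : (⊥ : Ideal D).IsPrime := Ideal.isPrime_bot
  haveI : (⊥ : Ideal D).LiesOver t' := ⟨hker.symm.trans (RingHom.ker_eq_comap_bot _)⟩
  obtain ⟨BD, ND, _, _, _, _, _, _, _, _, _, _, _, _, g, hpoD, hgD⟩ := GrothLib.RG6.Impure.exists_data A B N D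
  obtain ⟨PD, _, himpD⟩ := GrothLib.RG6.Impure.impurity_up hpoD hgD himp (⊥ : Ideal D) tD bot_le
  haveI : Algebra.FiniteType A D :=
    (inferInstance : Algebra.FiniteType A A').of_surjective (Ideal.Quotient.mkₐ A t') hs
  refine GrothLib.RG6.Impure.qf_of_domain himpD fun q hq hql hle' => ?_
  haveI : (q.comap (algebraMap A' D)).LiesOver p := ⟨by
    rw [hql.over]
    show Ideal.comap _ q = Ideal.comap _ (Ideal.comap _ q)
    rw [Ideal.comap_comap, ← IsScalarTower.algebraMap_eq]⟩
  have htc : tD.comap (algebraMap A' D) = t := (tD.over_def t).symm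
  have he := hmax.eq_of_le (GrothLib.RG6.isPrime_fiberIdeal p (q.comap (algebraMap A' D))).ne_top
    (Ideal.map_mono (htc.ge.trans (Ideal.comap_mono hle')))
  have he' := congrArg (fun I => Ideal.comap (GrothLib.WeakAssFib.toFib (S := A') p) I) he
  simp only [GrothLib.WeakAssFib.comap_fiberIdeal] at he'
  exact Ideal.comap_injective_of_surjective _ hs (he'.symm.trans htc.symm)

end Groth.Agent.S1247
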