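import Groth.Statements.S12475
import Groth.Agent.Lib.VA.Product

set_option autoImplicit false
universe u
open CategoryTheory CategoryTheory.Limits AlgebraicGeometry TopologicalSpace Opposite
open scoped HomogeneousIdeal
open EGA2

namespace Groth.Agent.S12475

/-- Let Y₁ → S and Y₂ → S be schemes over S, f₁ : X₁ → Y₁ and f₂ : X₂ → Y₂ morphisms (so that X₁, X₂ are
S-schemes through them), P with projections p₁, p₂ a fibre product X₁ ×_S X₂, Q with projections q₁,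
q₂ a fibre product Y₁ ×_S Y₂, and h : P → Q the morphism f₁ ×_S f₂, that is, the one with h ≫ q₁ =
p₁ ≫ f₁ and h ≫ q₂ = p₂ ≫ f₂. If L₁ is an invertible O_{X₁}-module very ample relative to f₁ and L₂
an invertible O_{X₂}-module very ample relative to f₂ (each isomorphic to the inverse image of O(1)
along an immersion over the base into the projective bundle of a quasi-coherent module on the base),
then the external tensor product p₁^*L₁ ⊗ p₂^*L₂ is very ample relative to h. -/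
theorem result {S X₁ X₂ Y₁ Y₂ P Q : Scheme.{u}} (y₁ : Y₁ ⟶ S) (y₂ : Y₂ ⟶ S)
    (f₁ : X₁ ⟶ Y₁) (f₂ : X₂ ⟶ Y₂) (p₁ : P ⟶ X₁) (p₂ : P ⟶ X₂) (hP : IsPullback p₁ p₂ (f₁ ≫ y₁) (f₂ ≫ y₂))
    (q₁ : Q ⟶ Y₁) (q₂ : Q ⟶ Y₂) (hQ : IsPullback q₁ q₂ y₁ y₂) (h : P ⟶ Q)
    (hh₁ : h ≫ q₁ = p₁ ≫ f₁) (hh₂ : h ≫ q₂ = p₂ ≫ f₂)
    (L₁ : X₁.Modules) (hL₁ : PicF.IsInvertible L₁) (hva₁ : RelProj.IsRelVeryAmple f₁ L₁)
    (L₂ : X₂.Modules) (hL₂ : PicF.IsInvertible L₂) (hva₂ : RelProj.IsRelVeryAmple f₂ L₂) :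
    RelProj.IsRelVeryAmple h
      (CohB1.tensorMod ((Scheme.Modules.pullback p₁).obj L₁) ((Scheme.Modules.pullback p₂).obj L₂)) := by
    exact GrothLib.VA.isRelVeryAmple_fibreProd hP hQ.w hh₁ hh₂ hL₁ hva₁ hL₂ hva₂

end Groth.Agent.S12475
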