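import Groth.Statements.S12477
import Groth.Agent.Lib.VA.Disjoint
import Groth.Agent.Lib.VA.Tensor

set_option autoImplicit false
universe u
open CategoryTheory CategoryTheory.Limits AlgebraicGeometry TopologicalSpace Opposite
open scoped HomogeneousIdeal
open EGA2

namespace Groth.Agent.S12477

/-- Let X and X' be schemes with disjoint union X ⨿ X', let f'' : X ⨿ X' → Y be a morphism (given by a
morphism f on X and a morphism f' on X') and L'' an invertible module on X ⨿ X' (given by an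
invertible O_X-module L and an invertible O_{X'}-module L'). Then L'' is very ample relative to f''
(isomorphic to the inverse image of O(1) along a Y-immersion of X into the projective bundle P(E) of
a quasi-coherent O_Y-module E) if and only if L, the inverse image of L'' on X, is very ample
relative to f and L', the inverse image of L'' on X', is very ample relative to f'. -/
theorem result {X X' Y : Scheme.{u}} (f'' : X ⨿ X' ⟶ Y) (L'' : (X ⨿ X').Modules)
    (hL'' : PicF.IsInvertible L'') :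
    RelProj.IsRelVeryAmple f'' L'' ↔
      RelProj.IsRelVeryAmple (coprod.inl ≫ f'') ((Scheme.Modules.pullback (coprod.inl : X ⟶ X ⨿ X')).obj L'') ∧
        RelProj.IsRelVeryAmple (coprod.inr ≫ f'') ((Scheme.Modules.pullback (coprod.inr : X' ⟶ X ⨿ X')).obj L'') := by
  constructor
  · intro h
    exact ⟨GrothLib.VA.isRelVeryAmple_precomp coprod.inl h, GrothLib.VA.isRelVeryAmple_precomp coprod.inr h⟩
  rintro ⟨h₁, h₂⟩
  let i₁ : X ⟶ X ⨿ X' := coprod.inl
  let i₂ : X' ⟶ X ⨿ X' := coprod.inr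
  have hc := AlgebraicGeometry.isCompl_opensRange_inl_inr X X'
  have hd₁ : ∀ x, x ∈ i₁.opensRange → x ∉ i₂.opensRange := fun x a b => by
    have : x ∈ i₁.opensRange ⊓ i₂.opensRange := ⟨a, b⟩
    rw [hc.inf_eq_bot] at this
    exact this
  have hd₂ : ∀ x, x ∈ i₂.opensRange → x ∉ i₁.opensRange := fun x a b => hd₁ x b a
  have hv₁ : i₁.opensRange ⊔ i₂.opensRange = ⊤ := hc.sup_eq_top
  have hv₂ : i₂.opensRange ⊔ i₁.opensRange = ⊤ := (sup_comm _ _).trans hv₁
  obtain ⟨E, φ, hE, hp⟩ := GrothLib.VA.isRelVeryAmple_iff.mp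
    (GrothLib.VA.isRelVeryAmple_of_iso ((Scheme.Modules.restrictFunctorIsoPullback i₁).app L'').symm h₁)
  obtain ⟨E', φ', hE', hp'⟩ := GrothLib.VA.isRelVeryAmple_iff.mp
    (GrothLib.VA.isRelVeryAmple_of_iso ((Scheme.Modules.restrictFunctorIsoPullback i₂).app L'').symm h₂)
  obtain ⟨ψ, hψ⟩ := GrothLib.VA.exists_extend i₁ i₂.opensRange f'' hd₁ hv₁ φ
  obtain ⟨ψ', hψ'⟩ := GrothLib.VA.exists_extend i₂ i₁.opensRange f'' hd₂ hv₂ φ'
  haveI : E.IsQuasicoherent := hE
  haveI : E'.IsQuasicoherent := hE'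
  refine GrothLib.VA.isRelVeryAmple_iff.mpr ⟨E ⊞ E', biprod.desc ψ ψ', GrothLib.Cohom.isQuasicoherent_biprod E E',
    fun x => ?_⟩
  have hl : ∀ (U : Y.Opens) (b : Γ(E, U)), (biprod.desc ψ ψ').app U ((biprod.inl : E ⟶ E ⊞ E').app U b) = ψ.app U b :=
    fun U b => congrArg (fun k : E ⟶ _ => k.app U b) (biprod.inl_desc ψ ψ')
  have hr : ∀ (U : Y.Opens) (b : Γ(E', U)), (biprod.desc ψ ψ').app U ((biprod.inr : E' ⟶ E ⊞ E').app U b) = ψ'.app U b :=
    fun U b => congrArg (fun k : E' ⟶ _ => k.app U b) (biprod.inr_desc ψ ψ')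
  rcases (show x ∈ i₁.opensRange ∨ x ∈ i₂.opensRange from hv₁.ge (Opens.mem_top x)) with ⟨y, rfl⟩ | ⟨y, rfl⟩
  · obtain ⟨U, e, hy, hpe⟩ := hp y
    obtain ⟨hT, hP⟩ := GrothLib.VA.exists_piece_extend (g := f'') (Ψ := biprod.desc ψ ψ') hd₁ hv₁
      (fun b => (biprod.inl : E ⟶ E ⊞ E').app U.1 b) (fun b => by rw [hl]; exact hψ U.1 U.2 b) hpe
    exact ⟨U, _, hT.le ⟨y, hy, rfl⟩, hP⟩
  · obtain ⟨U, e, hy, hpe⟩ := hp' y
    obtain ⟨hT, hP⟩ := GrothLib.VA.exists_piece_extend (g := f'') (Ψ := biprod.desc ψ ψ') hd₂ hv₂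
      (fun b => (biprod.inr : E' ⟶ E ⊞ E').app U.1 b) (fun b => by rw [hr]; exact hψ' U.1 U.2 b) hpe
    exact ⟨U, _, hT.le ⟨y, hy, rfl⟩, hP⟩

end Groth.Agent.S12477
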