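import Groth.Statements.S12480
import Groth.Agent.Lib.VA.CritOps
import Groth.Agent.Lib.QCoh.Qcqs
import Groth.Agent.Lib.Euler.Coh
import Groth.Agent.Lib.Ample.Criterion

set_option autoImplicit false
universe u
open CategoryTheory CategoryTheory.Limits AlgebraicGeometry TopologicalSpace Opposite
open scoped HomogeneousIdeal
open EGA2

namespace Groth.Agent.S12480

/-- Let X be a quasi-affine scheme and L an invertible O_X-module. Then L is very ample relative to the
canonical morphism u : X → Spec Γ(X, O_X): there are a quasi-coherent module E on that spectrum and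
an immersion i of X into the projective bundle P(E), compatible with u, with L isomorphic to
i^*O_{P(E)}(1). (The published statement adds that L is then ample; that assertion is stated
separately.) -/
theorem result (X : Scheme.{u}) [X.IsQuasiAffine] (L : X.Modules)
    (hL : PicF.IsInvertible L) : RelProj.IsRelVeryAmple X.toSpecΓ L := by
  haveI : L.IsQuasicoherent := GrothLib.Euler.isQuasicoherent_of_isFinLocFree (GrothLib.Euler.isFinLocFree_of_isInvertible hL)
  haveI : QuasiSeparatedSpace X := GrothLib.Ample.quasiSeparatedSpace_of_isAmple (GrothLib.Ample.isQuasiAffine_iff.mp ‹_›)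
  haveI : QuasiCompact X.toSpecΓ := quasiCompact_of_compactSpace _
  haveI : QuasiSeparated X.toSpecΓ := QuasiSeparated.of_comp X.toSpecΓ (terminal.from _)
  refine GrothLib.VA.isRelVeryAmple_iff.mpr ⟨_, 𝟙 _, GrothLib.QCoh.isQuasicoherent_pushforward X.toSpecΓ L, fun x => ?_⟩
  obtain ⟨T, ε, hxT, hε⟩ := GrothLib.InvExt.exists_gen_nhd hL x
  obtain ⟨_, ⟨_, ⟨f, hf, rfl⟩, rfl⟩, hxf, hfT⟩ :=
    (Scheme.IsQuasiAffine.isBasis_basicOpen X).exists_subset_of_mem_open hxT T.2
  have hfT' : X.basicOpen f ≤ T := hfT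
  obtain ⟨n, s, hs⟩ := GrothLib.QCoh.smulLift_of_isCompact L (U := ⊤) (isCompact_univ)
    (isQuasiSeparated_univ) f (GrothLib.InvExt.mres L hfT' ε)
  let U : (Spec Γ(X, ⊤)).AffineZariskiSite := ⟨⊤, isAffineOpen_top _⟩
  refine ⟨U, s, ?_, ?_⟩
  · refine GrothLib.VA.mem_genOpen.mpr ⟨X.basicOpen f, le_top, hxf, ?_⟩
    show GrothLib.InvExt.IsGen L (X.basicOpen f) (L.presheaf.map (homOfLE _).op s)
    rw [hs]
    exact (hε.restrict hfT').smul_unit ((RingedSpace.isUnit_res_basicOpen X.toRingedSpace f).pow n)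
  · refine GrothLib.VA.pieceImm_of_le (W := ⊤) le_top (RingHom.id Γ(X, ⊤)) ?_ fun a => ?_
    · have : GrothLib.VA.toAff ((⊤ : X.Opens).topIso.inv.hom.comp (RingHom.id Γ(X, ⊤))) = (⊤ : X.Opens).ι ≫ X.toSpecΓ := by
        rw [GrothLib.VA.toAff, RingHom.comp_id, CommRingCat.ofHom_hom, Scheme.toSpecΓ_naturality]
        congr 2
      rw [this]
      infer_instance
    · have hb := GrothLib.VA.base_mem_RS X.toSpecΓ (𝟙 ((Scheme.Modules.pushforward X.toSpecΓ).obj L)) U s
        ((Scheme.ΓSpecIso Γ(X, ⊤)).inv a)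
      have h0 : X.toSpecΓ.app ⊤ ((Scheme.ΓSpecIso Γ(X, ⊤)).inv a) = a := by
        show X.toSpecΓ.appTop ((Scheme.ΓSpecIso Γ(X, ⊤)).inv a) = a
        rw [Scheme.toSpecΓ_appTop]
        exact Iso.inv_hom_id_apply _ _
      show GrothLib.InvExt.fres X _ a ∈ _
      rw [h0] at hb
      exact hb

end Groth.Agent.S12480
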