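import Groth.Statements.S12482
import Mathlib

set_option autoImplicit false
universe u
open Dual

namespace Groth.Agent.S12482

theorem coeff_mem {A : Type u} [CommRing A] : ∀ (p : ℕ) (x : Fin p → A),
    RingTheory.Sequence.IsWeaklyRegular A (List.ofFn x) →
    ∀ a : Fin p → A, ∑ i, a i * x i = 0 → ∀ i, a i ∈ Ideal.span (Set.range x) := by
  intro p
  induction p with
  | zero => exact fun _ _ _ _ i => i.elim0
  | succ p ih =>
    intro x hreg a ha
    let x' : Fin p → A := fun i => x i.castSucc
    have hlast := hreg.regular_mod_prev p (by simp)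
    have htake : Ideal.ofList ((List.ofFn x).take p) = Ideal.span (Set.range x') := by
      rw [Ideal.ofList]
      congr 1
      ext y
      simp only [Set.mem_setOf_eq, List.mem_take_iff_getElem, List.length_ofFn, List.getElem_ofFn,
        Set.mem_range]
      constructor
      · rintro ⟨i, hi, rfl⟩
        exact ⟨⟨i, by omega⟩, rfl⟩
      · rintro ⟨i, rfl⟩
        exact ⟨i, by omega, rfl⟩
    have hreg' : RingTheory.Sequence.IsWeaklyRegular A (List.ofFn x') := by
      refine ⟨fun i hi => ?_⟩
      have hi' : i < p := by simpa using hi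
      have h := hreg.regular_mod_prev i (by simp; omega)
      have e1 : (List.ofFn x).take i = (List.ofFn x').take i := by
        refine List.ext_getElem (by simp; omega) fun j h1 h2 => ?_
        simp [x', List.getElem_ofFn, -List.ofFn_succ]
      have e2 : (List.ofFn x)[i]'(by simp; omega) = (List.ofFn x')[i] := by simp [x', List.getElem_ofFn, -List.ofFn_succ]
      rwa [e1, e2] at h
    have hle : Ideal.span (Set.range x') ≤ Ideal.span (Set.range x) :=
      Ideal.span_mono (Set.range_comp_subset_range _ x)
    have hsum : ∑ i, a i.castSucc * x' i + a (Fin.last p) * x (Fin.last p) = 0 := by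
      rw [← ha, Fin.sum_univ_castSucc]
    have hal : a (Fin.last p) ∈ Ideal.span (Set.range x') := by
      have hzero : (List.ofFn x)[p]'(by simp) • (Submodule.Quotient.mk (a (Fin.last p)) :
          A ⧸ (Ideal.ofList ((List.ofFn x).take p) • ⊤ : Submodule A A)) = 0 := by
        rw [← Submodule.Quotient.mk_smul, Submodule.Quotient.mk_eq_zero, List.getElem_ofFn,
          show (⟨p, _⟩ : Fin (p + 1)) = Fin.last p from rfl]
        simp only [smul_eq_mul, Ideal.mul_top]
        rw [mul_comm, eq_neg_of_add_eq_zero_right hsum, htake]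
        exact neg_mem (Ideal.sum_mem _ fun i _ => Ideal.mul_mem_left _ _ (Ideal.subset_span ⟨i, rfl⟩))
      have h := hlast.right_eq_zero_of_smul hzero
      rwa [Submodule.Quotient.mk_eq_zero, smul_eq_mul, Ideal.mul_top, htake] at h
    intro i
    refine Fin.lastCases (hle hal) (fun i => ?_) i
    obtain ⟨c, hc⟩ := Ideal.mem_span_range_iff_exists_fun.1 hal
    have h0 : ∑ j, (a j.castSucc + c j * x (Fin.last p)) * x' j = 0 := by
      simp only [add_mul, Finset.sum_add_distrib]
      rw [← hsum, ← hc, Finset.sum_mul]
      congr 1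
      exact Finset.sum_congr rfl fun j _ => by ring
    have h1 := hle (ih x' hreg' _ h0 i)
    have h2 : c i * x (Fin.last p) ∈ Ideal.span (Set.range x) :=
      Ideal.mul_mem_left _ _ (Ideal.subset_span ⟨_, rfl⟩)
    simpa using sub_mem h1 h2

/-- Let `A` be a commutative ring, `x_1, …, x_p` a sequence of elements of `A` such that each `x_i` is a
non-zero-divisor on `A/(x_1, …, x_{i-1})`, and `J` the ideal generated by the `x_i`. Then `J/J²` is
a free `(A/J)`-module with basis the classes of the `x_i`: there is a basis of `J/J²` over `A/J`,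
indexed by `1, …, p`, whose `i`-th vector is the class of `x_i`. (The other assertions of the
published statement, on the Koszul complex and on Ext and Tor against `A/J`, are stated separately.) -/
theorem result (A : Type u) [CommRing A] (p : ℕ) (x : Fin p → A)
    (hreg : RingTheory.Sequence.IsWeaklyRegular A (List.ofFn x)) :
    ∃ b : Module.Basis (Fin p) (A ⧸ Ideal.span (Set.range x)) (Ideal.span (Set.range x)).Cotangent,
      ∀ i, b i = (Ideal.span (Set.range x)).toCotangent ⟨x i, Ideal.subset_span (Set.mem_range_self i)⟩ := by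
  classical
  let v : Fin p → (Ideal.span (Set.range x)).Cotangent := fun i =>
    (Ideal.span (Set.range x)).toCotangent ⟨x i, Ideal.subset_span (Set.mem_range_self i)⟩
  have hli : LinearIndependent (A ⧸ Ideal.span (Set.range x)) v := by
    rw [Fintype.linearIndependent_iff]
    intro g hg i
    choose c hc using fun i => Ideal.Quotient.mk_surjective (g i)
    have h0 : (Ideal.span (Set.range x)).toCotangent
        (∑ i, c i • (⟨x i, Ideal.subset_span (Set.mem_range_self i)⟩ : Ideal.span (Set.range x))) = 0 := by
      rw [map_sum, ← hg]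
      refine Finset.sum_congr rfl fun i _ => ?_
      rw [map_smul, ← hc i]
      exact (IsScalarTower.algebraMap_smul (A ⧸ Ideal.span (Set.range x)) (c i) (v i)).symm
    rw [Ideal.toCotangent_eq_zero, pow_two] at h0
    obtain ⟨e, he, hes⟩ : ∃ e : Fin p → A, (∀ i, e i ∈ Ideal.span (Set.range x)) ∧
        ∑ i, e i * x i = ∑ i, c i * x i := by
      have h2 : (∑ i, c i * x i) ∈ Ideal.span (Set.range x) • Submodule.span A (Set.range x) := by
        simpa using h0
      obtain ⟨e, he, hes⟩ := (Submodule.mem_ideal_smul_span_iff_exists_sum _ x _).1 h2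
      exact ⟨fun i => e i, he, by rw [← hes, Finsupp.sum_fintype _ _ (fun i => by simp)]; rfl⟩
    rw [← hc i, Ideal.Quotient.eq_zero_iff_mem]
    have := coeff_mem p x hreg (fun i => c i - e i) (by
      simp only [sub_mul, Finset.sum_sub_distrib, hes, sub_self]) i
    simpa using add_mem this (he i)
  refine ⟨Module.Basis.mk hli ?_, fun i => Module.Basis.mk_apply _ _ i⟩
  rintro z -
  obtain ⟨⟨z, hz⟩, rfl⟩ := Ideal.toCotangent_surjective _ z
  obtain ⟨c, hc⟩ := Ideal.mem_span_range_iff_exists_fun.1 hz
  rw [show (⟨z, hz⟩ : Ideal.span (Set.range x)) =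
      ∑ i, c i • ⟨x i, Ideal.subset_span (Set.mem_range_self i)⟩ from Subtype.ext (by simp [hc]), map_sum]
  refine Submodule.sum_mem _ fun i _ => ?_
  rw [map_smul, ← IsScalarTower.algebraMap_smul (A ⧸ Ideal.span (Set.range x))]
  exact Submodule.smul_mem _ _ (Submodule.subset_span ⟨i, rfl⟩)

end Groth.Agent.S12482
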