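import Groth.Statements.S12483
import Groth.Agent.Lib.LocFreeDual20.ExtGlobal

set_option autoImplicit false
set_option maxHeartbeats 400000
set_option linter.style.haveILetI false
set_option backward.isDefEq.respectTransparency.types false
universe u
open CategoryTheory CategoryTheory.Limits AlgebraicGeometry
open Coherent

namespace Groth.Agent.S12483

/-- Let `X` be a scheme, `A` an `O_X`-module which is finite locally free (every point has an open
neighbourhood over which `A` is isomorphic to some `O^n`) and for which the internal Hom functor
`Hom_{O_X}(A, -)` exists (right adjoint of `A ⊗ -`), `B` any `O_X`-module and `p ≥ 0`. Then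
`Ext^p_{O_X}(X; A, B)`, the Ext group computed in the category of `O_X`-modules, is isomorphic to
`H^p(X, Hom_{O_X}(A, B))`. (Existence of an isomorphism of abelian groups only; the published
isomorphisms are canonical, the edge maps of the local-to-global spectral sequence for Ext. The
published statement is for an arbitrary ringed space; this row is the case of a scheme.) -/
theorem result (X : Scheme.{u}) [HasExt.{u} X.Modules]
    (A B : X.Modules) (hA : FlatMod.IsFinLocFree A) [DCoh.HasSheafHom A] (p : ℕ) :
    Nonempty (Abelian.Ext A B p ≃+ Coh.HH X ((DCoh.sheafHom A).obj B) p) := by
  exact GrothLib.LocFreeDual20.nonempty_ext_addEquiv_HH hA B p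

end Groth.Agent.S12483
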