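import Groth.Statements.S12491
import Mathlib
import Groth.Agent.Lib.Serre.Regular

set_option autoImplicit false
universe u
open VBPn

namespace Groth.Agent.S12491

/-- Let A be a regular local ring, k ≥ 0, and N_0, N_1, … A-modules with N_0 finitely generated and N_1,
…, N_k finitely generated and free, with linear maps d_i : N_i → N_{i+1} such that d_0 is injective
and the sequence 0 → N_0 → N_1 → ⋯ → N_k is exact. Then for every prime ideal p of A of height at
most k the localization of N_0 at p is a free module over A_p. The published statement is for a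
coherent analytic sheaf on a complex manifold that is locally a k-th syzygy sheaf and says its set
of non-free stalks has codimension greater than k; this row is the statement at one stalk, over any
regular local ring. -/
theorem result (A : Type u) [CommRing A] [IsRegularLocalRing A]
    (k : ℕ) (N : ℕ → Type u) [∀ i, AddCommGroup (N i)] [∀ i, Module A (N i)] [Module.Finite A (N 0)]
    (hfree : ∀ i, 1 ≤ i → i ≤ k → Module.Free A (N i) ∧ Module.Finite A (N i))
    (d : ∀ i, N i →ₗ[A] N (i + 1)) (hinj : Function.Injective (d 0))
    (hex : ∀ i, i + 1 < k → LinearMap.range (d i) = LinearMap.ker (d (i + 1)))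
    (p : Ideal A) [p.IsPrime] (hp : p.height ≤ k) :
    Module.Free (Localization.AtPrime p) (LocalizedModule p.primeCompl (N 0)) := by
  classical
  rcases Nat.eq_zero_or_pos k with rfl | hk
  · have hreg : IsRegularLocalRing (Localization.AtPrime p) :=
      GrothLib.Serre.isRegularLocalRing_localization A p _
    have hd : ringKrullDim (Localization.AtPrime p) = (0 : ℕ) := by
      rw [IsLocalization.AtPrime.ringKrullDim_eq_height p (Localization.AtPrime p)]
      have h0 : p.height = 0 := le_antisymm (by exact_mod_cast hp) (by simp)
      rw [h0]; rfl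
    have := GrothLib.Serre.pdLE_zero_iff.mp
      (GrothLib.Serre.pdLE_of_isRegularLocalRing (Localization.AtPrime p) 0 hd (LocalizedModule p.primeCompl (N 0)))
    exact Module.free_of_flat_of_isLocalRing
  set Ap := Localization.AtPrime p
  have hreg : IsRegularLocalRing Ap := GrothLib.Serre.isRegularLocalRing_localization A p _
  have hgl : ∀ (M : Type u) [AddCommGroup M] [Module Ap M], GrothLib.Serre.PdLE Ap M k := by
    intro M _ _
    obtain ⟨e, he, -⟩ := GrothLib.RegLoc.exists_dim_eq (R := Ap)
    refine GrothLib.Serre.pdLE_mono ?_ (GrothLib.Serre.pdLE_of_isRegularLocalRing Ap e he M)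
    have h1 : ((e : ℕ) : WithBot ℕ∞) = ((p.height : ℕ∞) : WithBot ℕ∞) := by
      rw [← he, IsLocalization.AtPrime.ringKrullDim_eq_height p Ap]
    have h2 : (e : ℕ∞) = p.height := WithBot.coe_eq_coe.mp h1
    rw [← h2] at hp
    exact_mod_cast hp
  let δ : ∀ i, LocalizedModule p.primeCompl (N i) →ₗ[Ap] LocalizedModule p.primeCompl (N (i + 1)) :=
    fun i => LocalizedModule.map p.primeCompl (d i)
  have hexL : ∀ i, i + 1 < k → LinearMap.range (δ i) = LinearMap.ker (δ (i + 1)) := by
    intro i hi
    have h := (LinearMap.exact_iff.mp (LocalizedModule.map_exact p.primeCompl _ _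
      (LinearMap.exact_iff.mpr (hex i hi).symm))).symm
    ext x
    exact SetLike.ext_iff.mp h x
  have hproj : ∀ i, 1 ≤ i → i ≤ k → Module.Projective Ap (LocalizedModule p.primeCompl (N i)) := by
    intro i h1 h2
    have := (hfree i h1 h2).1
    have : Module.Free Ap (LocalizedModule p.primeCompl (N i)) :=
      Module.free_of_isLocalizedModule (Rₛ := Ap) p.primeCompl (LocalizedModule.mkLinearMap p.primeCompl (N i))
    infer_instance
  have hclaim : ∀ j i, i + j + 1 = k → GrothLib.Serre.PdLE Ap (LinearMap.range (δ i)) i := by
    intro j
    induction j with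
    | zero =>
      intro i hi
      have := hproj (i + 1) (by omega) (by omega)
      have h := hgl (LocalizedModule p.primeCompl (N (i + 1)) ⧸ LinearMap.range (δ i))
      rw [show k = i + 1 by omega, GrothLib.Serre.pdLE_succ_iff _ (Submodule.mkQ_surjective _)] at h
      exact (GrothLib.Serre.pdLE_congr (LinearEquiv.ofEq _ _ (Submodule.ker_mkQ _)) i).mp h
    | succ j ih =>
      intro i hi
      have := hproj (i + 1) (by omega) (by omega)
      have h := ih (i + 1) (by omega)
      rw [GrothLib.Serre.pdLE_succ_iff _ (LinearMap.surjective_rangeRestrict (δ (i + 1)))] at h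
      refine (GrothLib.Serre.pdLE_congr (LinearEquiv.ofEq _ _ ?_) i).mp h
      rw [LinearMap.ker_rangeRestrict, hexL i (by omega)]
  have h0 := hclaim (k - 1) 0 (by omega)
  have hδ : Function.Injective (δ 0) := LocalizedModule.map_injective p.primeCompl _ hinj
  have := GrothLib.Serre.pdLE_zero_iff.mp ((GrothLib.Serre.pdLE_congr (LinearEquiv.ofInjective _ hδ).symm 0).mp h0)
  exact Module.free_of_flat_of_isLocalRing

end Groth.Agent.S12491
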