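import Groth.Agent.Lib.DefLift26.Basic
import Groth.Statements.S12498
-- import your own Groth.Agent.* helpers here

set_option autoImplicit false
universe u
open Deform

namespace Groth.Agent.S12498

/-- Let k be an algebraically closed field, A a local Artinian k-algebra with residue field k, and t a
nonzero element of the maximal ideal m_A annihilated by m_A, so that A → A/tA is a small extension.
Let B be a flat A-algebra (a deformation over A of its closed fibre B_0 = B/m_A B), and σ an
A-algebra automorphism of B/tB inducing the identity on B_0. Fix an A-algebra automorphism τ of B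
inducing σ (so τ induces the identity on B_0). Then the A-algebra automorphisms η of B inducing σ
correspond bijectively to the k-derivations d of B_0 through the rule η = τ + t·d, meaning η(b) =
τ(b) + t b′ for all b ∈ B and all b′ ∈ B lifting d applied to the image of b in B_0: every such η
determines a unique d, and every d comes from some such η. (The published statement phrases the
conclusion as a free and transitive action of Der_k(B_0, B_0) on the nonempty set of lifts of σ; the
condition that σ induces the identity on B_0 is expressed here through the chosen lift τ.) -/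
theorem result
    {k : Type u} [Field k] [IsAlgClosed k]
    {A : Type u} [CommRing A] [Algebra k A] [IsLocalRing A] [IsArtinianRing A]
    (hres : ∀ a : A, ∃ c : k, a - algebraMap k A c ∈ IsLocalRing.maximalIdeal A)
    (t : A) (ht : t ∈ IsLocalRing.maximalIdeal A) (ht0 : t ≠ 0)
    (htm : ∀ a ∈ IsLocalRing.maximalIdeal A, a * t = 0)
    {B : Type u} [CommRing B] [Algebra A B] [Module.Flat A B] [Algebra k B] [IsScalarTower k A B]
    (σ : (B ⧸ Ideal.span {algebraMap A B t}) ≃ₐ[A] (B ⧸ Ideal.span {algebraMap A B t}))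
    (τ : B ≃ₐ[A] B)
    (hτ : ∀ b : B, Ideal.Quotient.mk (Ideal.span {algebraMap A B t}) (τ b) =
      σ (Ideal.Quotient.mk (Ideal.span {algebraMap A B t}) b))
    (hτ0 : ∀ b : B, τ b - b ∈ (IsLocalRing.maximalIdeal A).map (algebraMap A B)) :
    (∀ η : B ≃ₐ[A] B, (∀ b : B, Ideal.Quotient.mk (Ideal.span {algebraMap A B t}) (η b) =
        σ (Ideal.Quotient.mk (Ideal.span {algebraMap A B t}) b)) →
      ∃! d : Derivation k (B ⧸ (IsLocalRing.maximalIdeal A).map (algebraMap A B))
          (B ⧸ (IsLocalRing.maximalIdeal A).map (algebraMap A B)),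
        ∀ b b' : B, Ideal.Quotient.mk ((IsLocalRing.maximalIdeal A).map (algebraMap A B)) b' =
            d (Ideal.Quotient.mk ((IsLocalRing.maximalIdeal A).map (algebraMap A B)) b) →
          η b = τ b + algebraMap A B t * b') ∧
    (∀ d : Derivation k (B ⧸ (IsLocalRing.maximalIdeal A).map (algebraMap A B))
        (B ⧸ (IsLocalRing.maximalIdeal A).map (algebraMap A B)),
      ∃ η : B ≃ₐ[A] B, (∀ b : B, Ideal.Quotient.mk (Ideal.span {algebraMap A B t}) (η b) =
          σ (Ideal.Quotient.mk (Ideal.span {algebraMap A B t}) b)) ∧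
        ∀ b b' : B, Ideal.Quotient.mk ((IsLocalRing.maximalIdeal A).map (algebraMap A B)) b' =
            d (Ideal.Quotient.mk ((IsLocalRing.maximalIdeal A).map (algebraMap A B)) b) →
          η b = τ b + algebraMap A B t * b') := by
  classical
  set N := (IsLocalRing.maximalIdeal A).map (algebraMap A B) with hN
  set tB := algebraMap A B t with htB
  -- multiplication by `t` identifies `B ⧸ N` with `t B`
  have hkill : ∀ x ∈ N, tB * x = 0 := by
    intro x hx
    refine (Ideal.span_le (I := LinearMap.ker (LinearMap.mulLeft B tB))).2 ?_ hx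
    rintro _ ⟨a, ha, rfl⟩
    show tB * algebraMap A B a = 0
    rw [htB, ← map_mul, mul_comm, htm a ha, map_zero]
  have hmem : ∀ x, tB * x = 0 → x ∈ N := by
    intro x hx
    have h1 := GrothLib.DefLift.mem_colon_smul_top (⊥ : Ideal A) t (w := x) (by
      rw [show t • x = tB * x from Algebra.smul_def t x, hx]; exact zero_mem _)
    have h2 : (Submodule.comap (LinearMap.mulLeft A t) (⊥ : Ideal A) : Ideal A) ≤ IsLocalRing.maximalIdeal A :=
      IsLocalRing.le_maximalIdeal fun h => ht0 (by simpa using h.ge (Submodule.mem_top (x := (1 : A))))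
    have h3 := Submodule.smul_mono_left h2 h1
    rwa [Ideal.smul_top_eq_map, Submodule.restrictScalars_mem] at h3
  let s : (B ⧸ N) → B := fun q => tB * Function.surjInv Ideal.Quotient.mk_surjective q
  have hs : ∀ b, s (Ideal.Quotient.mk N b) = tB * b := fun b => by
    rw [← sub_eq_zero, ← mul_sub]
    refine hkill _ ?_
    rw [← Ideal.Quotient.eq_zero_iff_mem, map_sub, Function.surjInv_eq Ideal.Quotient.mk_surjective, sub_self]
  have hsinj : ∀ p q, s p = s q → p = q := fun p q h => by
    obtain ⟨p, rfl⟩ := Ideal.Quotient.mk_surjective p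
    obtain ⟨q, rfl⟩ := Ideal.Quotient.mk_surjective q
    rw [hs, hs, ← sub_eq_zero, ← mul_sub] at h
    exact Ideal.Quotient.eq.2 (hmem _ h)
  have hsadd : ∀ p q, s (p + q) = s p + s q := fun p q => by
    obtain ⟨p, rfl⟩ := Ideal.Quotient.mk_surjective p
    obtain ⟨q, rfl⟩ := Ideal.Quotient.mk_surjective q
    rw [← map_add, hs, hs, hs, mul_add]
  have hsmul : ∀ (b : B) q, s (Ideal.Quotient.mk N b * q) = b * s q := fun b q => by
    obtain ⟨q, rfl⟩ := Ideal.Quotient.mk_surjective q
    rw [← map_mul, hs, hs]; ring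
  have hτN : ∀ b, Ideal.Quotient.mk N (τ b) = Ideal.Quotient.mk N b := fun b => Ideal.Quotient.eq.2 (hτ0 b)
  have htsq : tB * tB = 0 := by rw [htB, ← map_mul, htm t ht, map_zero]
  have hcb : ∀ (c : k) (b : B), c • b = (algebraMap k A c) • b := fun c b => (IsScalarTower.algebraMap_smul A c b).symm
  constructor
  · intro η hη
    have hex : ∀ b, ∃ q, η b = τ b + s q := fun b => by
      have h1 : η b - τ b ∈ Ideal.span {tB} := Ideal.Quotient.eq.1 ((hη b).trans (hτ b).symm)
      obtain ⟨w, hw⟩ := Ideal.mem_span_singleton'.1 h1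
      exact ⟨Ideal.Quotient.mk N w, by rw [hs, mul_comm, hw]; ring⟩
    choose D hD using hex
    have hDadd : ∀ x y, D (x + y) = D x + D y := fun x y => hsinj _ _ (by
      have := hD (x + y); rw [map_add, map_add, hD x, hD y] at this; rw [hsadd]; linear_combination -this)
    have hDsmul : ∀ (a : A) x, D (a • x) = Ideal.Quotient.mk N (algebraMap A B a) * D x := fun a x => hsinj _ _ (by
      have := hD (a • x); rw [map_smul, map_smul, hD x] at this; rw [hsmul]
      simp only [Algebra.smul_def] at this ⊢; linear_combination -this)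
    have hDmul : ∀ x y, D (x * y) = Ideal.Quotient.mk N x * D y + Ideal.Quotient.mk N y * D x := fun x y => hsinj _ _ (by
      have := hD (x * y)
      rw [map_mul, map_mul, hD x, hD y] at this
      rw [hsadd, ← hτN x, ← hτN y, hsmul, hsmul]
      obtain ⟨p, hp⟩ := Ideal.Quotient.mk_surjective (D x)
      obtain ⟨q, hq⟩ := Ideal.Quotient.mk_surjective (D y)
      rw [← hp, ← hq, hs, hs] at this ⊢
      linear_combination -this + p * q * htsq)
    have hDN : ∀ x ∈ N, D x = 0 := fun x hx => by
      induction hx using Submodule.span_induction with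
      | mem y hy =>
        obtain ⟨a, ha, rfl⟩ := hy
        rw [Algebra.algebraMap_eq_smul_one, hDsmul, Ideal.Quotient.eq_zero_iff_mem.2 (Ideal.mem_map_of_mem _ ha),
          zero_mul]
      | zero => rw [show (0 : B) = (0 : A) • (0 : B) by rw [zero_smul], hDsmul, map_zero, map_zero, zero_mul]
      | add p q _ _ hp hq => rw [hDadd, hp, hq, add_zero]
      | smul c p hp' hp =>
        rw [smul_eq_mul, hDmul, hp, mul_zero, zero_add,
          show Ideal.Quotient.mk N p = 0 from Ideal.Quotient.eq_zero_iff_mem.2 hp', zero_mul]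
    let d₀ : (B ⧸ N) → (B ⧸ N) := fun q => D (Function.surjInv Ideal.Quotient.mk_surjective q)
    have hd₀ : ∀ b, d₀ (Ideal.Quotient.mk N b) = D b := fun b => by
      have h1 : Function.surjInv Ideal.Quotient.mk_surjective (Ideal.Quotient.mk N b) - b ∈ N :=
        Ideal.Quotient.eq.1 (Function.surjInv_eq Ideal.Quotient.mk_surjective _)
      show D _ = _
      rw [← sub_add_cancel (Function.surjInv Ideal.Quotient.mk_surjective (Ideal.Quotient.mk N b)) b, hDadd,
        hDN _ h1, zero_add]
    let d : Derivation k (B ⧸ N) (B ⧸ N) := Derivation.mk'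
      { toFun := d₀
        map_add' := fun p q => by
          obtain ⟨p, rfl⟩ := Ideal.Quotient.mk_surjective p
          obtain ⟨q, rfl⟩ := Ideal.Quotient.mk_surjective q
          rw [← map_add, hd₀, hd₀, hd₀, hDadd]
        map_smul' := fun c q => by
          obtain ⟨q, rfl⟩ := Ideal.Quotient.mk_surjective q
          rw [RingHom.id_apply, show c • Ideal.Quotient.mk N q = Ideal.Quotient.mk N (c • q) from rfl, hd₀, hd₀,
            hcb, hDsmul, Algebra.smul_def c, IsScalarTower.algebraMap_apply k A (B ⧸ N)]
          rfl }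
      (fun p q => by
          obtain ⟨p, rfl⟩ := Ideal.Quotient.mk_surjective p
          obtain ⟨q, rfl⟩ := Ideal.Quotient.mk_surjective q
          show d₀ _ = _ • d₀ _ + _ • d₀ _
          rw [← map_mul, hd₀, hd₀, hd₀, hDmul]
          rfl)
    have hd : ∀ b, d (Ideal.Quotient.mk N b) = D b := hd₀
    refine ⟨d, fun b b' hb' => ?_, fun d' hd' => Derivation.ext fun q => ?_⟩
    · rw [hd] at hb'
      rw [hD b, ← hb', hs]
    · obtain ⟨b, rfl⟩ := Ideal.Quotient.mk_surjective q
      obtain ⟨b', hb'⟩ := Ideal.Quotient.mk_surjective (d' (Ideal.Quotient.mk N b))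
      have h1 := hd' b b' hb'
      rw [hD b, add_right_inj, ← hs b', hb'] at h1
      rw [hd]
      exact (hsinj _ _ h1).symm
  · intro d
    have hdA : ∀ (a : A), d (Ideal.Quotient.mk N (algebraMap A B a)) = 0 := fun a => by
      obtain ⟨c, hc⟩ := hres a
      have : Ideal.Quotient.mk N (algebraMap A B a) = algebraMap k (B ⧸ N) c := by
        rw [IsScalarTower.algebraMap_apply k A (B ⧸ N)]
        exact Ideal.Quotient.eq.2 (by rw [← map_sub]; exact Ideal.mem_map_of_mem _ hc)
      rw [this, Derivation.map_algebraMap]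
    let θ : ∀ (e : Derivation k (B ⧸ N) (B ⧸ N)) (_ : ∀ a : A, e (Ideal.Quotient.mk N (algebraMap A B a)) = 0),
        B →ₐ[A] B := fun e he =>
      { toFun := fun b => b + s (e (Ideal.Quotient.mk N b))
        map_one' := by
          rw [map_one, Derivation.map_one_eq_zero, show (0 : B ⧸ N) = Ideal.Quotient.mk N 0 from rfl, hs, mul_zero,
            add_zero]
        map_mul' := fun x y => by
          rw [map_mul, e.leibniz, smul_eq_mul, smul_eq_mul, hsadd, hsmul, hsmul]
          obtain ⟨p, hp⟩ := Ideal.Quotient.mk_surjective (e (Ideal.Quotient.mk N x))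
          obtain ⟨q, hq⟩ := Ideal.Quotient.mk_surjective (e (Ideal.Quotient.mk N y))
          rw [← hp, ← hq, hs, hs]
          linear_combination -(p * q) * htsq
        map_zero' := by
          rw [map_zero, map_zero, show (0 : B ⧸ N) = Ideal.Quotient.mk N 0 from rfl, hs, mul_zero, add_zero]
        map_add' := fun x y => by rw [map_add, map_add, hsadd]; ring
        commutes' := fun a => by
          rw [he a, show (0 : B ⧸ N) = Ideal.Quotient.mk N 0 from rfl, hs, mul_zero, add_zero] }
    have hθ : ∀ e he b, θ e he b = b + s (e (Ideal.Quotient.mk N b)) := fun _ _ _ => rfl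
    have hsN : ∀ q, Ideal.Quotient.mk N (s q) = 0 := fun q => by
      obtain ⟨q, rfl⟩ := Ideal.Quotient.mk_surjective q
      rw [hs, map_mul, Ideal.Quotient.eq_zero_iff_mem.2 (Ideal.mem_map_of_mem _ ht : tB ∈ N), zero_mul]
    have hneg : ∀ a : A, (-d) (Ideal.Quotient.mk N (algebraMap A B a)) = 0 := fun a => by
      rw [Derivation.neg_apply, hdA, neg_zero]
    have hcomp : ∀ e₁ h₁ e₂ h₂, e₁ + e₂ = 0 → (θ e₁ h₁).comp (θ e₂ h₂) = AlgHom.id A B := by
      intro e₁ h₁ e₂ h₂ h12
      refine AlgHom.ext fun b => ?_
      rw [AlgHom.comp_apply, AlgHom.id_apply, hθ e₂ h₂, hθ e₁ h₁, map_add, hsN, add_zero, add_assoc, ← hsadd,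
        ← Derivation.add_apply, add_comm e₂ e₁, h12, Derivation.zero_apply,
        show (0 : B ⧸ N) = Ideal.Quotient.mk N 0 from rfl, hs, mul_zero, add_zero]
    let η : B ≃ₐ[A] B := τ.trans (AlgEquiv.ofAlgHom (θ d hdA) (θ (-d) hneg)
      (hcomp d hdA (-d) hneg (add_neg_cancel d)) (hcomp (-d) hneg d hdA (neg_add_cancel d)))
    have hη : ∀ b, η b = τ b + s (d (Ideal.Quotient.mk N b)) := fun b => by
      show θ d hdA (τ b) = _
      rw [hθ d hdA, hτN]
    refine ⟨η, fun b => ?_, fun b b' hb' => ?_⟩
    · rw [← hτ b, hη]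
      refine Ideal.Quotient.eq.2 ?_
      rw [add_sub_cancel_left]
      exact Ideal.mul_mem_right _ _ (Ideal.mem_span_singleton_self _)
    · rw [hη b, ← hb', hs]

end Groth.Agent.S12498
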