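import Groth.Statements.S12505
import Groth.Agent.Lib.SheafCoh.TensorShf
-- import your own Groth.Agent.* helpers here

set_option autoImplicit false
universe u
open CategoryTheory
open ModSite

namespace Groth.Agent.S12505

open CategoryTheory.MonoidalCategory in
/-- Let (C, J) be a small site and O a sheaf of commutative rings on it; for presheaves of O-modules M
and N, with u_M : M → aM and u_N : N → aN the unit maps of the sheafification adjunction (aM, aN
regarded as presheaves), the morphism a(u_M ⊗ u_N) from the sheafification of the presheaf tensor
product M ⊗_p N to the sheafification of aM ⊗_p aN is an isomorphism. -/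
theorem result {C : Type u} [SmallCategory C] {J : GrothendieckTopology C}
    (O : Sheaf J CommRingCat.{u})
    (M N : PresheafOfModules.{u} (O.obj ⋙ forget₂ CommRingCat.{u} RingCat.{u})) :
    IsIso ((ModSite.sheafify O).map
      (MonoidalCategoryStruct.tensorHom (C := PresheafOfModules.{u} (O.obj ⋙ forget₂ CommRingCat.{u} RingCat.{u}))
        ((PresheafOfModules.sheafificationAdjunction (𝟙 (ModSite.ringSh O).obj)).unit.app M)
        ((PresheafOfModules.sheafificationAdjunction (𝟙 (ModSite.ringSh O).obj)).unit.app N))) := GrothLib.SheafCoh.isIso_shf_map_tensorHom_unit O M N

end Groth.Agent.S12505
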