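import Groth.Statements.S12509
import Groth.Agent.Lib.ColimHom20.Unit

set_option autoImplicit false
set_option maxHeartbeats 1000000
set_option linter.style.haveILetI false
set_option backward.isDefEq.respectTransparency false
universe u
open CategoryTheory CategoryTheory.Limits AlgebraicGeometry
attribute [local instance] HasDerivedCategory.standard
open Perf

namespace Groth.Agent.S12509

/-- Let f : X ⟶ Y be a quasi-compact quasi-separated morphism of schemes for which the unbounded derived
direct image Rf_* exists, J a small filtered category and C : J ⥤ (cochain complexes of O_X-modules)
a diagram with colimit colim C in the category of complexes, such that for one fixed integer n every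
C_j has cohomology sheaves vanishing below degree n. If for every j the canonical map f_* C_j ⟶ Rf_*
C_j in D(O_Y) (the unit of the total right derived functor of f_* at C_j) is an isomorphism, then
the same map for colim C is an isomorphism. (The published corollary also allows, instead of the
uniform lower bound on cohomology, the hypothesis that every C_j has quasi-coherent cohomology
sheaves; this row states the bounded-below case.) -/
theorem result {X Y : Scheme.{u}} (f : X ⟶ Y) [QuasiCompact f]
    [QuasiSeparated f] [DCoh.HasRpush f] {J : Type u} [SmallCategory J] [IsFiltered J]
    (C : J ⥤ CochainComplex X.Modules ℤ) [HasColimit C] (n : ℤ) (hC : ∀ j : J, (DCoh.toD X (C.obj j)).IsGE n)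
    (hac : ∀ j : J, IsIso (((DCoh.pushKh f).totalRightDerivedUnit DerivedCategory.Qh
      (HomotopyCategory.quasiIso X.Modules (ComplexShape.up ℤ))).app
      ((HomotopyCategory.quotient X.Modules (ComplexShape.up ℤ)).obj (C.obj j)))) :
    IsIso (((DCoh.pushKh f).totalRightDerivedUnit DerivedCategory.Qh
      (HomotopyCategory.quasiIso X.Modules (ComplexShape.up ℤ))).app
      ((HomotopyCategory.quotient X.Modules (ComplexShape.up ℤ)).obj (colimit C))) := by
  exact GrothLib.ColimHom20.isIso_unit_colimit f C n hC hac

end Groth.Agent.S12509
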