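import Groth.Statements.S1251
import Groth.Agent.Lib.RG6.Dev.FPIff
-- import your own Groth.Agent.* helpers here

set_option autoImplicit false
universe u
open FlatMor

namespace Groth.Agent.S1251

/-- Given an elementary dévissage E of N at q over p in dimension n, with S of finite presentation over
R: the finite map D → C is of finite presentation; the following are equivalent: N_q is a finitely
presented S_q-module; G_z is a finitely presented C_z-module; G_y is a finitely presented
D_y-module. Also equivalent to each other: N is finitely presented on some basic open of Spec S
containing q; G is finitely presented on some basic open of Spec C containing z; G as a D-module is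
finitely presented on some basic open of Spec D containing y. -/
theorem result {R S : Type u} [CommRing R] [CommRing S] [Algebra R S] [Algebra.FinitePresentation R S]
    (N : Type u) [AddCommGroup N] [Module S N] [Module R N] [IsScalarTower R S N] [Module.Finite S N]
    (p : Ideal R) [p.IsPrime] (q : Ideal S) [q.IsPrime] [q.LiesOver p] (n : ℕ) (E : FlatCA.ElemDevissage R S N p q n) :
    Algebra.FinitePresentation E.D E.C ∧
    [Module.FinitePresentation (Localization.AtPrime q) (LocalizedModule q.primeCompl N),
     Module.FinitePresentation (Localization.AtPrime E.z) (LocalizedModule E.z.primeCompl E.G),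
     Module.FinitePresentation (Localization.AtPrime E.y) (LocalizedModule E.y.primeCompl E.G)].TFAE ∧
    [∃ g : S, g ∉ q ∧ Module.FinitePresentation (Localization.Away g) (LocalizedModule (Submonoid.powers g) N),
     ∃ g : E.C, g ∉ E.z ∧ Module.FinitePresentation (Localization.Away g) (LocalizedModule (Submonoid.powers g) E.G),
     ∃ g : E.D, g ∉ E.y ∧ Module.FinitePresentation (Localization.Away g) (LocalizedModule (Submonoid.powers g) E.G)].TFAE := by
    exact ⟨GrothLib.RG6.Dev.fp_DC E, GrothLib.RG6.Dev.fp_tfae_point E, GrothLib.RG6.Dev.fp_tfae_open E⟩

end Groth.Agent.S1251
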