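import Groth.Statements.S12516
import Groth.Agent.Lib.FunFld.Hyperelliptic

set_option autoImplicit false
open FunFld

namespace Groth.Agent.S12516

/-- Let `char k ≠ 2`, `K` of degree `2` over `k(x)`, `y ∈ K` with `y² = f(x)` for a squarefree
polynomial `f` of degree `≥ 1`, and `P∞` the place of `k(x)` at which `x` has a pole. If `deg f` is
odd there is a unique place of `K` above `P∞`; it has ramification index `2` and degree `1`. If `deg
f` is even, every place of `K` above `P∞` is unramified and the conorm of `P∞` has degree `2` (so it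
is one place of degree `2` or the sum of two places of degree `1`). -/
theorem result (k K : Type*) [Field k] [Field K] (h2 : ringChar k ≠ 2) [Algebra k K]
    [Algebra (RatFunc k) K] [IsScalarTower k (RatFunc k) K]
    (hdeg : Module.finrank (RatFunc k) K = 2) (y : K) (f : Polynomial k) (hf : Squarefree f)
    (hd : 1 ≤ f.natDegree)
    (heq : y ^ 2 = algebraMap (RatFunc k) K (algebraMap (Polynomial k) (RatFunc k) f))
    (Pinf : FunFld.Place k (RatFunc k)) (hinf : Pinf.ord (RatFunc.X : RatFunc k) < 0) :
    (Odd f.natDegree → (∃! P : FunFld.Place k K, FunFld.IsOver P Pinf) ∧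
      ∀ P : FunFld.Place k K, FunFld.IsOver P Pinf → FunFld.IsOverWith P Pinf 2 ∧ P.deg = 1) ∧
    (Even f.natDegree → (FunFld.conorm K (Finsupp.single Pinf 1)).deg = 2 ∧
      ∀ P : FunFld.Place k K, FunFld.IsOver P Pinf → FunFld.IsOverWith P Pinf 1) := by
  exact GrothLib.FunFld.hyper_infinite h2 hdeg hf hd heq Pinf hinf

end Groth.Agent.S12516
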