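import Groth.Statements.S12517
import Groth.Agent.Lib.FunFld.Quadratic

set_option autoImplicit false
open FunFld

namespace Groth.Agent.S12517

/-- If `k` is perfect of characteristic `2` and `K` is a separable extension of degree `2` of the
rational function field `k(x)`, then `K = k(x)(y)` for some `y` with `y² + y = f(x)`, `f ∈ k(x)`.
The correspondence between such extensions and cosets of `{a² + a}` in `k(x)` is not stated. -/
theorem result (k K : Type*) [Field k] [Field K] [PerfectField k]
    (h2 : ringChar k = 2) [Algebra (RatFunc k) K] (hdeg : Module.finrank (RatFunc k) K = 2)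
    [Algebra.IsSeparable (RatFunc k) K] :
    ∃ (y : K) (f : RatFunc k), y ^ 2 + y = algebraMap (RatFunc k) K f ∧
      IntermediateField.adjoin (RatFunc k) ({y} : Set K) = ⊤ := by
  exact GrothLib.FunFld.exists_artin_schreier h2 hdeg

end Groth.Agent.S12517
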