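import Groth.Statements.S12519
import Groth.Agent.Lib.FunFld.ArtinSchreier

set_option autoImplicit false
open FunFld

namespace Groth.Agent.S12519

/-- Let `k` be perfect of characteristic `2`, `K` separable of degree `2` over `k(x)`, and `y ∈ K \
k(x)` with `y² + y = f(x)`. At a place `p` of `k(x)/k` where `f` has a pole of odd order there is a
unique place `P` of `K` above `p`, with `e(P|p) = 2` and `deg P = deg p` (residue degree `1`); at a
place where `f` has no pole, every place of `K` above it is unramified. The different is not stated. -/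
theorem result (k K : Type*) [Field k] [Field K] [PerfectField k] (h2 : ringChar k = 2)
    [Algebra k K] [Algebra (RatFunc k) K] [IsScalarTower k (RatFunc k) K]
    (hdeg : Module.finrank (RatFunc k) K = 2) [Algebra.IsSeparable (RatFunc k) K]
    (y : K) (hy : y ∉ Set.range (algebraMap (RatFunc k) K))
    (f : RatFunc k) (heq : y ^ 2 + y = algebraMap (RatFunc k) K f)
    (P₀ : FunFld.Place k (RatFunc k)) :
    ((P₀.ord f < 0 ∧ Odd (P₀.ord f)) → (∃! P : FunFld.Place k K, FunFld.IsOver P P₀) ∧
      ∀ P : FunFld.Place k K, FunFld.IsOver P P₀ → FunFld.IsOverWith P P₀ 2 ∧ P.deg = P₀.deg) ∧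
    (0 ≤ P₀.ord f → ∀ P : FunFld.Place k K, FunFld.IsOver P P₀ → FunFld.IsOverWith P P₀ 1) := by
  refine ⟨fun h => ?_, fun h => (GrothLib.FunFld.as_unramified h2 hdeg hy heq P₀ h 0 0 0).2⟩
  obtain ⟨hall, hu, -⟩ := GrothLib.FunFld.as_ramified h2 hdeg hy heq P₀ h.1 h.2
  exact ⟨hu, hall⟩

end Groth.Agent.S12519
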