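import Groth.Statements.S12526
import Groth.Agent.Lib.FunFld.ConstExt

set_option autoImplicit false
universe u v
open FunFld

namespace Groth.Agent.S12526

/-- Let `K/k` be a geometric function field of one variable, `P` a place of `K`, `k'/k` finite and `K' =
k' ⊗_k K`; let `R` be the integral closure of `O_P` in `K'` and `R̃ = k' ⊗_k O_P = O_P[k']`. Then
`R/R̃` is finite-dimensional over `k`, and `R̃` contains a nonzero ideal of `R`. -/
theorem result (k k' : Type u) (K K' : Type v) [Field k] [Field k'] [Field K] [Field K']
    [Algebra k k'] [FiniteDimensional k k'] [Algebra k K] [Algebra K K'] [Algebra k' K'] [Algebra k K']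
    [IsScalarTower k k' K'] [IsScalarTower k K K']
    (h : Function.Bijective (Algebra.TensorProduct.productMap
      (IsScalarTower.toAlgHom k k' K') (IsScalarTower.toAlgHom k K K')))
    (hK : FunFld.IsFunctionField k K) (hg : FunFld.IsGeometric k K)
    (P : FunFld.Place k K) [Algebra P.O K'] [IsScalarTower P.O K K'] :
    (∃ V : Submodule k K', FiniteDimensional k V ∧ ∀ r ∈ integralClosure P.O K',
        ∃ s ∈ Algebra.adjoin P.O (Set.range (algebraMap k' K')), r - s ∈ V) ∧
    (∃ c ∈ integralClosure P.O K', c ≠ 0 ∧ ∀ r ∈ integralClosure P.O K',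
        c * r ∈ Algebra.adjoin P.O (Set.range (algebraMap k' K'))) := by
  exact GrothLib.FunFld.conductor_and_finite h (GrothLib.FunFld.IsFG.of_isFunctionField hK) P

end Groth.Agent.S12526
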