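import Groth.Statements.S12527
import Groth.Agent.Lib.FunFld.NonsingFinite

set_option autoImplicit false
universe u v
open scoped TensorProduct
open FunFld

namespace Groth.Agent.S12527

/-- A geometric function field of one variable `K/k` has at most finitely many singular places, i.e.
places `P` for which, for some finite extension `k'/k`, the integral closure of `O_P` in `k' ⊗_k K`
is strictly larger than `k' ⊗_k O_P`. The existence of a purely inseparable finite `k'` making `k'
⊗_k K` nonsingular is not stated. -/
theorem result (k : Type u) (K : Type v) [Field k] [Field K] [Algebra k K]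
    (hK : FunFld.IsFunctionField k K) (hg : FunFld.IsGeometric k K) :
    {P : FunFld.Place k K | ∃ (k' : Type u) (_ : Field k') (_ : Algebra k k'), FiniteDimensional k k' ∧
      integralClosure (P.O.toSubring.map (Algebra.TensorProduct.includeRight : K →ₐ[k] k' ⊗[k] K).toRingHom) (k' ⊗[k] K) ≠
        Algebra.adjoin (P.O.toSubring.map (Algebra.TensorProduct.includeRight : K →ₐ[k] k' ⊗[k] K).toRingHom)
          (Set.range (Algebra.TensorProduct.includeLeftRingHom : k' →+* k' ⊗[k] K))}.Finite := by
  obtain ⟨x, y, hd⟩ := GrothLib.FunFld.NonsingFinite.exists_data hK hg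
  refine (GrothLib.FunFld.NonsingFinite.exists_finite_exceptional hK hd).subset ?_
  rintro P ⟨k', i1, i2, hfin, hne⟩ ⟨hx, hD⟩
  letI : Field (k' ⊗[k] K) := (hg k' hfin).toField
  letI : Algebra K (k' ⊗[k] K) := (Algebra.TensorProduct.includeRight : K →ₐ[k] k' ⊗[k] K).toRingHom.toAlgebra
  haveI : IsScalarTower k K (k' ⊗[k] K) := IsScalarTower.of_algebraMap_eq fun c =>
    ((Algebra.TensorProduct.includeRight : K →ₐ[k] k' ⊗[k] K).commutes c).symm
  refine hne (GrothLib.FunFld.NonsingFinite.integralClosure_eq_of_good (k' := k') (K' := k' ⊗[k] K) ?_ hK hd P hx hD)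
  have : Algebra.TensorProduct.productMap (IsScalarTower.toAlgHom k k' (k' ⊗[k] K))
      (IsScalarTower.toAlgHom k K (k' ⊗[k] K)) = AlgHom.id k (k' ⊗[k] K) := by
    refine Algebra.TensorProduct.ext' fun a b => ?_
    rw [Algebra.TensorProduct.productMap_apply_tmul]
    show (a ⊗ₜ[k] (1 : K)) * ((1 : k') ⊗ₜ[k] b) = a ⊗ₜ[k] b
    rw [Algebra.TensorProduct.tmul_mul_tmul, mul_one, one_mul]
  show Function.Bijective _
  rw [this]
  exact Function.bijective_id

end Groth.Agent.S12527
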