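import Groth.Statements.S1253
import Groth.Agent.Lib.RGProj13.Devissage
import Groth.Agent.S1204
import Groth.Agent.Lib.ProjLocal.Basic
-- import your own Groth.Agent.* helpers here

set_option autoImplicit false
universe u
open FlatMor

namespace Groth.Agent.S1253

open IsLocalRing in
/-- Let R be a local ring, S a finitely presented R-algebra, N a finite S-module and q a prime of S over
𝔪_R with N_q flat over R. If N/S/R admits a complete dévissage at q, then N is of finite
presentation over S and free over R; more precisely N is R-isomorphic to the product over the steps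
of the dévissage of the free modules B_i^{r_i}, with B_i and r_i the dévissage's own smooth algebras
and ranks. -/
theorem result {R S : Type u} [CommRing R] [IsLocalRing R] [CommRing S] [Algebra R S] [Algebra.FinitePresentation R S]
    (N : Type u) [AddCommGroup N] [Module S N] [Module R N] [IsScalarTower R S N] [Module.Finite S N]
    (q : Ideal S) [q.IsPrime] [q.LiesOver (maximalIdeal R)] (hflat : FlatCA.FlatAt R q N)
    (D : FlatCA.CompleteDevissage R S N (maximalIdeal R)) (hD : Nonempty (FlatCA.CompleteDevissageAt R S N (maximalIdeal R) q D)) :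
    Module.FinitePresentation S N ∧ Module.Free R N ∧
      Nonempty (N ≃ₗ[R] (∀ i : Fin D.n, Fin (D.r i) → D.B i)) := by
  obtain ⟨A⟩ := hD
  haveI := A.hqB
  haveI := A.hqA
  haveI := A.overB
  let P : ℕ → Prop := fun i => ∀ (Q : Ideal (D.A i)) [Q.IsPrime], Q ≤ A.qA i → FlatCA.FlatAt R Q (D.M i)
  have hstep : ∀ i, i < D.n → P i → Function.Injective (D.α i) ∧ (i + 1 < D.n → P (i + 1)) := by
    intro i hi hP
    haveI := D.smooth i hi
    haveI := GrothLib.RGProj13.finite_M D hi
    haveI := D.finiteBA i hi
    have hB : FlatCA.FlatAt R (A.qB i) (D.M i) := GrothLib.RGProj13.flatAt_B D (A.qB i) fun Q _ hQ => by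
      obtain ⟨Q₁, hle, hQ₁, hc⟩ := Ideal.exists_ideal_over_prime_of_isIntegral (A.qB i) Q hQ
      haveI := hQ₁
      exact hP Q (A.uniq i hi Q₁ ⟨hc.symm⟩ ▸ hle)
    have h := (((Groth.Agent.S1204.result (GrothLib.RGProj13.hgi_B D hi) (A.qB i) (D.M i)).2 (D.r i) (D.α i)
      (D.fibreIso i hi)).out 0 2).1 hB
    exact ⟨h.1, fun h1 Q _ hQ => GrothLib.RGProj13.flatAt_succ D h1 (A.qB i) h.2 Q
      ((Ideal.comap_mono hQ).trans (A.qStep i h1).le)⟩
  have hP : ∀ i, i < D.n → P i := by
    intro i
    induction i with
    | zero => exact fun _ Q _ hQ => GrothLib.RGProj13.flatAt_zero D hflat Q ((Ideal.comap_mono hQ).trans A.q0.le)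
    | succ i ih => exact fun hi => (hstep i (by omega) (ih (by omega))).2 hi
  have hinj : ∀ k < D.n, Function.Injective (D.α k) := fun k hk => (hstep k hk (hP k hk)).1
  obtain ⟨hproj, ⟨e⟩⟩ := GrothLib.RGProj13.chain_split' (R := R) D.n D.pos D.M (fun k => Fin (D.r k) → D.B k)
    (fun k => (D.α k).restrictScalars R) hinj (fun k hk => GrothLib.RGProj13.exists_proj' D hk) D.cokerLast
    fun k hk => haveI := GrothLib.RGProj13.projective_B D hk
      GrothLib.RGProj13.projective_pi_fin (D.B k) (D.r k)
  let eN : N ≃ₗ[R] D.M 0 := D.isoN.restrictScalars R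
  haveI : Module.Projective R N := Module.Projective.of_equiv eN.symm
  exact ⟨GrothLib.RGProj13.finitePresentation_N D hinj, GrothLib.ProjLocal.free_of_projective, ⟨eN ≪≫ₗ e⟩⟩

end Groth.Agent.S1253
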