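import Groth.Statements.S12534
import Groth.Agent.Lib.FunFld.NonsingTower

set_option autoImplicit false
universe u v
open FunFld

namespace Groth.Agent.S12534

/-- Let `K/k` be a geometric function field of one variable, `P` a place of `K`, and `k ⊆ k' ⊆ k''`
finite extensions, `K' = k' ⊗_k K`, `K'' = k'' ⊗_{k'} K'`. Then `P` is nonsingular with respect to
`k''` if and only if `P` is nonsingular with respect to `k'` and every place `Q` of `K'` above `P`
is nonsingular with respect to `k''`. Here 'nonsingular with respect to `k'`' means that the
integral closure of the valuation ring in `K'` is the ring generated over it by `k'`, both taken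
inside `K'` over the image of the valuation ring. -/
theorem result (k k' k'' : Type u) (K K' K'' : Type v) [Field k] [Field k'] [Field k''] [Field K] [Field K'] [Field K'']
    [Algebra k k'] [Algebra k' k''] [Algebra k k''] [IsScalarTower k k' k'']
    [FiniteDimensional k k'] [FiniteDimensional k' k'']
    [Algebra k K] [Algebra K K'] [Algebra k' K'] [Algebra k K'] [IsScalarTower k k' K'] [IsScalarTower k K K']
    [Algebra K' K''] [Algebra k'' K''] [Algebra k' K''] [Algebra k K''] [Algebra K K'']
    [IsScalarTower k' k'' K''] [IsScalarTower k' K' K''] [IsScalarTower K K' K''] [IsScalarTower k K K'']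
    (h1 : Function.Bijective (Algebra.TensorProduct.productMap
      (IsScalarTower.toAlgHom k k' K') (IsScalarTower.toAlgHom k K K')))
    (h2 : Function.Bijective (Algebra.TensorProduct.productMap
      (IsScalarTower.toAlgHom k' k'' K'') (IsScalarTower.toAlgHom k' K' K'')))
    (hK : FunFld.IsFunctionField k K) (hg : FunFld.IsGeometric k K) (P : FunFld.Place k K) :
    (integralClosure (P.O.toSubring.map (algebraMap K K'')) K'' =
        Algebra.adjoin (P.O.toSubring.map (algebraMap K K'')) (Set.range (algebraMap k'' K''))) ↔
      (integralClosure (P.O.toSubring.map (algebraMap K K')) K' =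
          Algebra.adjoin (P.O.toSubring.map (algebraMap K K')) (Set.range (algebraMap k' K')) ∧
        ∀ Q : FunFld.Place k K', FunFld.IsOver Q P →
          integralClosure (Q.O.toSubring.map (algebraMap K' K'')) K'' =
            Algebra.adjoin (Q.O.toSubring.map (algebraMap K' K'')) (Set.range (algebraMap k'' K''))) := by
  constructor
  · intro h
    exact ⟨GrothLib.FunFld.NonsingTower.nonsing_bot (k := k) (k'' := k'') h2 P h,
      fun Q hQ => GrothLib.FunFld.NonsingTower.nonsing_top (k' := k') h1 h2 hK.1 P h Q hQ⟩
  · rintro ⟨hb, ht⟩
    exact GrothLib.FunFld.NonsingTower.nonsing_trans h1 h2 hK.1 P hb ht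

end Groth.Agent.S12534
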