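import Groth.Statements.S12536
import Groth.Agent.Lib.ShriekBridge22.FieldPoints2
import Groth.Agent.Lib.SkAssPrimes.Basic
import Groth.Agent.Lib.ShriekBridge22.PureDim
import Groth.Agent.Lib.SkExt.Localized
import Groth.Agent.Lib.QCoh.TildeFinite
import Groth.Agent.Lib.QCoh.Abelian
-- import your own Groth.Agent.* helpers here

set_option autoImplicit false
universe u
open CategoryTheory CategoryTheory.Limits AlgebraicGeometry Opposite
attribute [local instance] HasDerivedCategory.standard
open Dual3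

namespace Groth.Agent.S12536

/-- Let `X` be proper and reduced over a field `k`, of pure dimension `1`, with dualizing module `ω =
H^{-1}(a(O))` (`a` right adjoint to `Rf_*` on `D_QCoh`, `O` the structure sheaf of `Spec k` in
degree `0`), and let `U ⊆ X` be an open subscheme containing every non-closed point. Then `ω →
j_*(ω|_U)` is injective: for every open `V`, restriction of sections `ω(V) → ω(V ∩ U)` is injective.
(The published statement takes `U` to be the dense open smooth locus of a generically smooth `X`;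
this row allows any open `U` containing the generic points, which is what the printed proof uses:
the kernel is supported at finitely many closed points.) -/
theorem result (k : Type u) [Field k] (X : Scheme.{u}) (f : X ⟶ Spec (CommRingCat.of k))
    [IsProper f] [IsReduced X]
    (hdim : ∀ Z ∈ irreducibleComponents X, topologicalKrullDim ↥Z = (1 : WithBot ℕ∞))
    [DCoh.HasRpush f] (hf : DCoh.RpushPreservesQCoh f)
    (a : DCoh.DQCoh (Spec (CommRingCat.of k)) ⥤ DCoh.DQCoh X) (adj : DCoh.RpushQ f hf ⊣ a)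
    (O : DCoh.DQCoh (Spec (CommRingCat.of k)))
    (hO : Nonempty (O.obj ≅ DCoh.inD (Spec (CommRingCat.of k)) (Coh.structureModule (Spec (CommRingCat.of k)))))
    (U : X.Opens) (hU : ∀ x : X, ¬ IsClosed ({x} : Set X) → x ∈ U) (V : X.Opens) :
    Function.Injective ((DCoh.HD (a.obj O).obj (-(1 : ℤ))).presheaf.map (homOfLE (inf_le_left : V ⊓ U ≤ V)).op) := by
  let ω := DCoh.HD (a.obj O).obj (-(1 : ℤ))
  have hcoh : Coh.IsCoh ω := GrothLib.ShriekBridge22.isCoh_HD_adjoint f hf adj O hO (-(1 : ℤ))
  haveI : ω.IsQuasicoherent := (a.obj O).property _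
  refine (injective_iff_map_eq_zero _).2 fun s hs => GrothLib.OX.section_eq_zero s fun x hx => ?_
  show ω.presheaf.germ V x hx s = 0
  by_cases hxU : x ∈ U
  · rw [← TopCat.Presheaf.germ_res_apply ω.presheaf (homOfLE (inf_le_left : V ⊓ U ≤ V)) x ⟨hx, hxU⟩ s, hs, map_zero]
  have hcl : IsClosed ({x} : Set X) := not_not.1 fun h => hxU (hU x h)
  obtain ⟨W, hW', hxW, hWV⟩ := exists_isAffineOpen_mem_and_subset (x := x) (U := V) hx
  have hW : IsAffineOpen W := hW'
  have hWle : W ≤ V := hWV
  haveI : IsLocallyNoetherian X := LocallyOfFiniteType.isLocallyNoetherian f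
  haveI : IsNoetherianRing Γ(X, W) := IsLocallyNoetherian.component_noetherian ⟨W, hW⟩
  let M := Γ(ω, W)
  haveI : Module.Finite Γ(X, W) M := GrothLib.QCoh.moduleFinite_of_isFiniteType ω hcoh.2 hW
  let t : M := ω.presheaf.map (homOfLE hWle).op s
  rw [← TopCat.Presheaf.germ_res_apply ω.presheaf (homOfLE hWle) x hxW s]
  show ω.presheaf.germ W x hxW t = 0
  have key : ∀ q : PrimeSpectrum Γ(X, W), hW.fromSpec q ∈ U → ∃ g : Γ(X, W), g ∉ q.asIdeal ∧ g • t = 0 := by
    intro q hq
    obtain ⟨hy, hyq⟩ := GrothLib.ShriekBridge22.exists_primeIdealOf_fromSpec hW q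
    letI := X.presheaf.algebra_section_stalk ⟨_, hy⟩
    letI : Module Γ(X, W) (ω.presheaf.stalk (hW.fromSpec q)) := Module.compHom _ (X.presheaf.germ W _ hy).hom
    obtain ⟨g, hg, hgeq⟩ := GrothLib.FlatFP.isLocalizedModule_germ (F := ω) hW hy
    haveI := hg
    have h0 : g t = g 0 := by
      rw [hgeq, map_zero, TopCat.Presheaf.germ_res_apply,
        ← TopCat.Presheaf.germ_res_apply ω.presheaf (homOfLE (inf_le_left : V ⊓ U ≤ V)) _ ⟨hWle hy, hq⟩ s, hs, map_zero]
    obtain ⟨c, hc⟩ := (IsLocalizedModule.eq_iff_exists (GrothLib.WeakAss.primeAt (hW.fromSpec q) hy).primeCompl g).1 h0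
    have e : q.asIdeal = GrothLib.WeakAss.primeAt (hW.fromSpec q) hy :=
      (congrArg PrimeSpectrum.asIdeal ((GrothLib.QCoh.primeAt_eq_primeIdealOf hW hy).trans hyq)).symm
    exact ⟨c, fun h => c.2 (e.le h), hc.trans (smul_zero _)⟩
  let P : PrimeSpectrum Γ(X, W) := ⟨GrothLib.WeakAss.primeAt x hxW, inferInstance⟩
  have hP : P = hW.primeIdealOf ⟨x, hxW⟩ := GrothLib.QCoh.primeAt_eq_primeIdealOf hW hxW
  letI := X.presheaf.algebra_section_stalk ⟨x, hxW⟩
  letI : Module Γ(X, W) (ω.presheaf.stalk x) := Module.compHom _ (X.presheaf.germ W x hxW).hom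
  haveI : IsScalarTower Γ(X, W) (X.presheaf.stalk x) (ω.presheaf.stalk x) :=
    IsScalarTower.of_algebraMap_smul fun _ _ => rfl
  haveI : IsLocalization.AtPrime (X.presheaf.stalk x) P.asIdeal := GrothLib.FlatFP.isLocalization_stalk_primeAt hW hxW
  obtain ⟨g, hg, hgeq⟩ := GrothLib.FlatFP.isLocalizedModule_germ (F := ω) hW hxW
  haveI := hg
  rw [← hgeq]
  by_contra hne
  have hIle : Module.annihilator Γ(X, W) (Submodule.span Γ(X, W) ({t} : Set M)) ≤ P.asIdeal := fun c hc => by
    by_contra hcP
    refine hne ?_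
    have h0 : c • t = 0 := congrArg Subtype.val
      (Module.mem_annihilator.1 hc ⟨t, Submodule.mem_span_singleton_self t⟩)
    have h1 := (IsLocalizedModule.map_units g (⟨c, hcP⟩ : P.asIdeal.primeCompl))
    rw [Module.End.isUnit_iff] at h1
    refine h1.1 ?_
    show c • g t = c • 0
    rw [← map_smul, h0, map_zero, smul_zero]
  have hq0 : ∀ q : PrimeSpectrum Γ(X, W), Module.annihilator Γ(X, W) (Submodule.span Γ(X, W) ({t} : Set M)) ≤ q.asIdeal →
      q ≤ P → q = P := by
    intro q hq hqP
    by_contra hne'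
    have hnc : ¬ IsClosed ({hW.fromSpec q} : Set X) := fun hc => by
      have hsp : hW.fromSpec q ⤳ hW.fromSpec P :=
        hW.fromSpec.isOpenEmbedding.isInducing.specializes_iff.2 ((PrimeSpectrum.le_iff_specializes q P).1 hqP)
      have := hsp.mem_closed hc rfl
      exact hne' (hW.fromSpec.isOpenEmbedding.injective (Set.mem_singleton_iff.1 this).symm)
    obtain ⟨c, hc, hct⟩ := key q (hU _ hnc)
    refine hc (hq (Module.mem_annihilator.2 fun z => Subtype.ext ?_))
    obtain ⟨b, hb⟩ := Submodule.mem_span_singleton.1 z.2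
    show c • (z : M) = 0
    rw [← hb, smul_comm, hct, smul_zero]
  have hass : P.asIdeal ∈ associatedPrimes Γ(X, W) M := by
    obtain ⟨r, hr, hrP⟩ := Ideal.exists_minimalPrimes_le hIle
    have := hq0 ⟨r, hr.isPrime⟩ hr.1.2 hrP
    have hrP' : r = P.asIdeal := congrArg PrimeSpectrum.asIdeal this
    exact associatedPrimes.subset_of_injective (Submodule.injective_subtype _)
      (Module.associatedPrimes.minimalPrimes_annihilator_subset_associatedPrimes _ _ (hrP' ▸ hr))
  have hdep := (GrothLib.SkAssPrimes.depth_eq_zero_iff_mem P.asIdeal M).2 hass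
  have hd : topologicalKrullDim X = ((1 : ℕ) : WithBot ℕ∞) := GrothLib.ShriekBridge22.dim_eq_of_pure hdim x
  have hsk : GrothLib.SkExt.SkCond 2 M P.asIdeal := by
    have h := GrothLib.ShriekBridge22.hasSk_two_adjoint f hf adj O hO 1 hd x (IsLocalRing.maximalIdeal (X.presheaf.stalk x))
    have h2 := (GrothLib.DualRing.skCond_iff_of_isLocalizedModule P.asIdeal.primeCompl g 2 _).1 h
    simp only [IsLocalization.AtPrime.under_maximalIdeal (X.presheaf.stalk x) P.asIdeal] at h2
    exact h2
  have hsupp : Module.support Γ(X, W) M = Set.univ := Set.eq_univ_of_forall fun q => by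
    obtain ⟨hy, hyq⟩ := GrothLib.ShriekBridge22.exists_primeIdealOf_fromSpec hW q
    letI := X.presheaf.algebra_section_stalk ⟨_, hy⟩
    letI : Module Γ(X, W) (ω.presheaf.stalk (hW.fromSpec q)) := Module.compHom _ (X.presheaf.germ W _ hy).hom
    obtain ⟨g', hg', -⟩ := GrothLib.FlatFP.isLocalizedModule_germ (F := ω) hW hy
    haveI := hg'
    rw [show q = (⟨GrothLib.WeakAss.primeAt (hW.fromSpec q) hy, inferInstance⟩ : PrimeSpectrum Γ(X, W)) from
      ((GrothLib.QCoh.primeAt_eq_primeIdealOf hW hy).trans hyq).symm, Module.mem_support_iff]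
    haveI : Nontrivial (ω.presheaf.stalk (hW.fromSpec q)) := by
      have h := Set.ext_iff.1 (GrothLib.ShriekBridge22.support_adjoint f hf adj O hO 1 hd) (hW.fromSpec q)
      refine h.2 ?_
      simp only [Set.mem_iUnion]
      obtain ⟨Z, hZ, hyZ⟩ := GrothLib.ShriekBridge22.exists_component (hW.fromSpec q)
      exact ⟨Z, ⟨hZ, hdim Z hZ⟩, hyZ⟩
    exact (IsLocalizedModule.iso (GrothLib.WeakAss.primeAt (hW.fromSpec q) hy).primeCompl g').toEquiv.nontrivial
  unfold GrothLib.SkExt.SkCond at hsk
  rw [hdep, GrothLib.SkExt.supportDim_localized_eq_height hsupp] at hsk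
  have hh : P.asIdeal.height = 0 := by
    rcases le_or_gt ((P.asIdeal.height : WithBot ℕ∞)) 0 with h | h
    · exact le_antisymm (WithBot.coe_le_coe.1 h) zero_le
    · exact absurd (lt_min (by exact_mod_cast (show (0 : ℕ) < 2 by norm_num)) h) (not_lt.2 hsk)
  exact GrothLib.ShriekBridge22.false_of_closed_minimal hdim hW hxW hcl
    (by rw [← hP]; exact Ideal.height_eq_zero_iff.1 hh)

end Groth.Agent.S12536
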