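import Groth.Statements.S12544
import Mathlib

set_option autoImplicit false
universe u
open TensorProduct LaurentPolynomial
open GIT

namespace Groth.Agent.S12544

theorem coeff_toLaurent_natCast {k : Type u} [CommRing k] (p : Polynomial k) (n : ℕ) :
    (Polynomial.toLaurent p).coeff (n : ℤ) = p.coeff n := by
  induction p using Polynomial.induction_on' with
  | add p q hp hq =>
    rw [map_add, AddMonoidAlgebra.coeff_add, Finsupp.add_apply, hp, hq, Polynomial.coeff_add]
  | monomial a r =>
    rw [← Polynomial.C_mul_X_pow_eq_monomial, Polynomial.toLaurent_C_mul_X_pow, ← single_eq_C_mul_T,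
      Polynomial.coeff_C_mul_X_pow, AddMonoidAlgebra.coeff_single, Finsupp.single_apply]
    exact if_congr ⟨fun h => by omega, fun h => by omega⟩ rfl rfl

theorem coeff_toLaurent_neg {k : Type u} [CommRing k] (p : Polynomial k) {n : ℤ} (hn : n < 0) :
    (Polynomial.toLaurent p).coeff n = 0 := by
  induction p using Polynomial.induction_on' with
  | add p q hp hq =>
    rw [map_add, AddMonoidAlgebra.coeff_add, Finsupp.add_apply, hp, hq, add_zero]
  | monomial a r =>
    rw [← Polynomial.C_mul_X_pow_eq_monomial, Polynomial.toLaurent_C_mul_X_pow, ← single_eq_C_mul_T,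
      AddMonoidAlgebra.coeff_single, Finsupp.single_apply, if_neg (by omega)]

theorem exists_toLaurent {k : Type u} [CommRing k] {f : k[T;T⁻¹]} (h : ∀ n < 0, f.coeff n = 0) :
    ∃ p : Polynomial k, Polynomial.toLaurent p = f := by
  change f ∈ (Polynomial.toLaurent : Polynomial k →+* k[T;T⁻¹]).range
  rw [← AddMonoidAlgebra.sum_coeff_single f]
  refine Subring.sum_mem _ fun n hn => ?_
  have : 0 ≤ n := by
    by_contra hlt
    exact (Finsupp.mem_support_iff.1 hn) (h n (not_le.1 hlt))
  obtain ⟨a, rfl⟩ := Int.eq_ofNat_of_zero_le this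
  refine ⟨Polynomial.C (f.coeff a) * Polynomial.X ^ a, ?_⟩
  rw [Polynomial.toLaurent_C_mul_X_pow]
  exact (single_eq_C_mul_T _ _).symm

theorem coeff_T_mul {k : Type u} [CommRing k] (m n : ℤ) (f : k[T;T⁻¹]) :
    (T m * f).coeff n = f.coeff (n - m) := by
  induction f using LaurentPolynomial.induction_on' with
  | add p q hp hq =>
    rw [mul_add, AddMonoidAlgebra.coeff_add, Finsupp.add_apply, hp, hq, AddMonoidAlgebra.coeff_add,
      Finsupp.add_apply]
  | C_mul_T a r =>
    rw [mul_left_comm, ← T_add, ← single_eq_C_mul_T, ← single_eq_C_mul_T]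
    simp only [AddMonoidAlgebra.coeff_single, Finsupp.single_apply]
    refine if_congr ?_ rfl rfl
    omega

section
variable {k : Type u} [Field k] {A : Type u} [CommRing A] [Bialgebra k A]
  {ι : Type u} [Fintype ι] [HopfRep.Comod k A (MvPolynomial ι k)] [GLin.IsCoactAlg k A (MvPolynomial ι k)]
  (lam : A →ₐc[k] k[T;T⁻¹]) (v : ι → k)

/-- The coordinates of the orbit of `v`. -/
noncomputable def L (i : ι) : k[T;T⁻¹] := GLin.lamOrbit k A lam (GLin.vecPt k ι v) (MvPolynomial.X i)

theorem counit_lamOrbit {R : Type u} [CommRing R] [Algebra k R] [HopfRep.Comod k A R]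
    [GLin.IsCoactAlg k A R] (x : R →ₐ[k] k) (f : R) :
    Coalgebra.counit (R := k) (GLin.lamOrbit k A lam x f) = x f := by
  change Coalgebra.counit (R := k) (lam (GLin.orbitHom k A x f)) = x f
  rw [CoalgHomClass.counit_comp_apply]
  have h := LinearMap.congr_fun (HopfRep.Comod.counit_comp (k := k) (A := A) (V := R)) f
  simp only [LinearMap.comp_apply, LinearMap.flip_apply, TensorProduct.mk_apply] at h
  have key : ∀ z : R ⊗[k] A, Coalgebra.counit (R := k)
      (Algebra.TensorProduct.lid k A (Algebra.TensorProduct.map x (AlgHom.id k A) z)) =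
      x (TensorProduct.rid k R ((Coalgebra.counit (R := k) (A := A)).lTensor R z)) := fun z => by
    induction z using TensorProduct.induction_on with
    | zero => simp
    | tmul r a => simp [mul_comm]
    | add p q hp hq => simp only [map_add, hp, hq]
  refine (key (HopfRep.Comod.coact (k := k) (A := A) f)).trans ?_
  rw [h, TensorProduct.rid_tmul, one_smul]

theorem exists_L_ne_zero (hv : v ≠ 0) : ∃ i, L lam v i ≠ 0 := by
  obtain ⟨i, hi⟩ := Function.ne_iff.1 hv
  refine ⟨i, fun h => hi ?_⟩
  have := counit_lamOrbit lam (GLin.vecPt k ι v) (MvPolynomial.X i)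
  rw [show GLin.lamOrbit k A lam (GLin.vecPt k ι v) (MvPolynomial.X i) = 0 from h, map_zero] at this
  simpa using this.symm

theorem exists_hom_iff (G : MvPolynomial ι k →ₐ[k] k[T;T⁻¹]) :
    (∃ h : MvPolynomial ι k →ₐ[k] Polynomial k, (Polynomial.toLaurentAlg (R := k)).comp h = G) ↔
      ∀ i, ∀ n < 0, (G (MvPolynomial.X i)).coeff n = 0 := by
  constructor
  · rintro ⟨h, rfl⟩ i n hn
    exact coeff_toLaurent_neg _ hn
  · intro H
    choose p hp using fun i => exists_toLaurent (H i)
    exact ⟨MvPolynomial.aeval p, MvPolynomial.algHom_ext fun i => by simp [hp]⟩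

theorem value_zero {G : MvPolynomial ι k →ₐ[k] k[T;T⁻¹]} {h : MvPolynomial ι k →ₐ[k] Polynomial k}
    (hh : (Polynomial.toLaurentAlg (R := k)).comp h = G) :
    (Polynomial.aeval (0 : k)).comp h = MvPolynomial.aeval (fun _ : ι => (0 : k)) ↔
      ∀ i, (G (MvPolynomial.X i)).coeff 0 = 0 := by
  subst hh
  have e : ∀ i, (Polynomial.toLaurent (h (MvPolynomial.X i))).coeff (0 : ℤ) =
      Polynomial.aeval (0 : k) (h (MvPolynomial.X i)) := fun i => by
    rw [← Nat.cast_zero, coeff_toLaurent_natCast, Polynomial.coe_aeval_eq_eval,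
      Polynomial.coeff_zero_eq_eval_zero]
  constructor
  · intro H i
    change (Polynomial.toLaurent (h (MvPolynomial.X i))).coeff (0 : ℤ) = 0
    rw [e i]
    simpa using AlgHom.congr_fun H (MvPolynomial.X i)
  · intro H
    refine MvPolynomial.algHom_ext fun i => ?_
    have := H i
    change (Polynomial.toLaurent (h (MvPolynomial.X i))).coeff (0 : ℤ) = 0 at this
    rw [e i] at this
    simpa using this

theorem isMu_iff (m : ℤ) :
    GLin.IsMu k A lam v m ↔
      (∀ i, ∀ n, (L lam v i).coeff n ≠ 0 → 0 ≤ n + m) ∧ ∃ i, (L lam v i).coeff (-m) ≠ 0 := by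
  have hX : ∀ i, GLin.shiftedOrbit k A lam v m (MvPolynomial.X i) = T m * L lam v i := fun i => by
    simp [GLin.shiftedOrbit, L]
  constructor
  · rintro ⟨h, hh, hne⟩
    refine ⟨fun i n hn => ?_, ?_⟩
    · by_contra hlt
      have := (exists_hom_iff _).1 ⟨h, hh⟩ i (n + m) (not_le.1 hlt)
      rw [hX, coeff_T_mul, add_sub_cancel_right] at this
      exact hn this
    · by_contra! H
      exact hne ((value_zero hh).2 fun i => by rw [hX, coeff_T_mul, zero_sub, H i])
  · rintro ⟨H, i, hi⟩
    obtain ⟨h, hh⟩ := (exists_hom_iff (GLin.shiftedOrbit k A lam v m)).2 fun j n hn => by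
      rw [hX, coeff_T_mul]
      by_contra hc
      have := H j _ hc
      omega
    refine ⟨h, hh, fun hz => hi ?_⟩
    have := (value_zero hh).1 hz i
    rwa [hX, coeff_T_mul, zero_sub] at this

theorem existsUnique_isMu (hv : v ≠ 0) : ∃! m : ℤ, GLin.IsMu k A lam v m := by
  classical
  let S : Finset ℤ := Finset.univ.biUnion fun i => (L lam v i).coeff.support
  have hmem : ∀ n, n ∈ S ↔ ∃ i, (L lam v i).coeff n ≠ 0 := fun n => by simp [S]
  have hS : S.Nonempty := by
    obtain ⟨i, hi⟩ := exists_L_ne_zero lam v hv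
    by_contra hS
    refine hi (LaurentPolynomial.ext fun n => ?_)
    by_contra hn
    exact hS ⟨n, (hmem n).2 ⟨i, by simpa using hn⟩⟩
  refine ⟨-(S.min' hS), (isMu_iff lam v _).2 ⟨fun i n hn => ?_, ?_⟩, fun m hm => ?_⟩
  · have := S.min'_le n ((hmem n).2 ⟨i, hn⟩)
    omega
  · obtain ⟨i, hi⟩ := (hmem _).1 (S.min'_mem hS)
    exact ⟨i, by simpa using hi⟩
  · obtain ⟨H, i, hi⟩ := (isMu_iff lam v m).1 hm
    have h1 := S.min'_le _ ((hmem _).2 ⟨i, hi⟩)
    obtain ⟨j, hj⟩ := (hmem _).1 (S.min'_mem hS)
    have h2 := H j _ hj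
    omega

theorem hasLimit_iff :
    GLin.HasLimit k A lam (GLin.vecPt k ι v) ↔ ∀ i, ∀ n < 0, (L lam v i).coeff n = 0 :=
  exists_hom_iff _

theorem isLimit_zero_iff :
    GLin.IsLimit k A lam (GLin.vecPt k ι v) (GLin.vecPt k ι (fun _ => (0 : k))) ↔
      ∀ i, ∀ n ≤ 0, (L lam v i).coeff n = 0 := by
  constructor
  · rintro ⟨h, hh, h0⟩ i n hn
    rcases lt_or_eq_of_le hn with hn | rfl
    · exact (exists_hom_iff _).1 ⟨h, hh⟩ i n hn
    · exact (value_zero hh).1 h0 i
  · intro H
    obtain ⟨h, hh⟩ := (hasLimit_iff lam v).2 fun i n hn => H i n hn.le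
    exact ⟨h, hh, (value_zero hh).2 fun i => H i 0 le_rfl⟩

end

/-- Let a commutative bialgebra A over a field k (an affine group or monoid G) coact linearly on affine
ι-space, let λ be a one-parameter subgroup of G (a bialgebra map to the Laurent polynomial ring) and
v ≠ 0 a vector. Then there is exactly one integer m for which t^m · (v moved by λ(t)) extends to the
affine line in t with non-zero value at t = 0; that m is the value μ(v, λ) of the numerical
function, the largest of the numbers −r_i over the non-zero coordinates of v in coordinates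
diagonalising λ. -/
theorem result (k : Type u) [Field k] (A : Type u) [CommRing A] [Bialgebra k A]
    (ι : Type u) [Fintype ι] [HopfRep.Comod k A (MvPolynomial ι k)] [GLin.IsCoactAlg k A (MvPolynomial ι k)]
    (hlin : GLin.IsLinear k A ι) (lam : A →ₐc[k] k[T;T⁻¹]) (v : ι → k) (hv : v ≠ 0) :
    ∃! m : ℤ, GLin.IsMu k A lam v m := by
  exact existsUnique_isMu lam v hv

end Groth.Agent.S12544
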