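import Groth.Statements.S12545
import Mathlib
import Groth.Agent.S12544

set_option autoImplicit false
universe u
open TensorProduct LaurentPolynomial
open GIT

namespace Groth.Agent.S12545

/-- Let a commutative bialgebra A over a field k coact linearly on affine ι-space, let λ be a
one-parameter subgroup (a bialgebra map to the Laurent polynomial ring) and v ≠ 0 a vector; write
μ(v, λ) = m when t^m · (v moved by λ(t)) extends to the affine line with non-zero value at t = 0.
Then v moved by λ(t) has no limit as t → 0 exactly when μ(v, λ) > 0, has a limit different from the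
origin exactly when μ(v, λ) = 0, and tends to the origin exactly when μ(v, λ) < 0. -/
theorem result (k : Type u) [Field k] (A : Type u) [CommRing A] [Bialgebra k A]
    (ι : Type u) [Fintype ι] [HopfRep.Comod k A (MvPolynomial ι k)] [GLin.IsCoactAlg k A (MvPolynomial ι k)]
    (hlin : GLin.IsLinear k A ι) (lam : A →ₐc[k] k[T;T⁻¹]) (v : ι → k) (hv : v ≠ 0) :
    (¬ GLin.HasLimit k A lam (GLin.vecPt k ι v) ↔ ∃ m : ℤ, GLin.IsMu k A lam v m ∧ 0 < m) ∧
      ((GLin.HasLimit k A lam (GLin.vecPt k ι v) ∧
          ¬ GLin.IsLimit k A lam (GLin.vecPt k ι v) (GLin.vecPt k ι (fun _ => (0 : k)))) ↔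
        GLin.IsMu k A lam v 0) ∧
      (GLin.IsLimit k A lam (GLin.vecPt k ι v) (GLin.vecPt k ι (fun _ => (0 : k))) ↔
        ∃ m : ℤ, GLin.IsMu k A lam v m ∧ m < 0) := by
  open Groth.Agent.S12544 in
  obtain ⟨m, hm, huniq⟩ := existsUnique_isMu lam v hv
  obtain ⟨H, i, hi⟩ := (Groth.Agent.S12544.isMu_iff lam v m).1 hm
  have hex : ∀ P : ℤ → Prop, (∃ m', GLin.IsMu k A lam v m' ∧ P m') ↔ P m := fun P =>
    ⟨fun ⟨m', h, hp⟩ => huniq m' h ▸ hp, fun hp => ⟨m, hm, hp⟩⟩
  have hlim : GLin.HasLimit k A lam (GLin.vecPt k ι v) ↔ m ≤ 0 := by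
    rw [Groth.Agent.S12544.hasLimit_iff]
    constructor
    · intro h
      by_contra hlt
      exact hi (h i _ (by omega))
    · intro hle j n hn
      by_contra hc
      have := H j n hc
      omega
  have hz : GLin.IsLimit k A lam (GLin.vecPt k ι v) (GLin.vecPt k ι (fun _ => (0 : k))) ↔ m < 0 := by
    rw [Groth.Agent.S12544.isLimit_zero_iff]
    constructor
    · intro h
      by_contra hlt
      exact hi (h i _ (by omega))
    · intro hle j n hn
      by_contra hc
      have := H j n hc
      omega
  refine ⟨?_, ?_, ?_⟩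
  · rw [hlim, hex fun m => 0 < m, not_le]
  · rw [hlim, hz]
    refine ⟨fun h => ?_, fun h => ?_⟩
    · exact (show m = 0 by omega) ▸ hm
    · have := huniq 0 h
      omega
  · rw [hz, hex fun m => m < 0]

end Groth.Agent.S12545
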