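import Groth.Statements.S12546
import Groth.Agent.Lib.HM.Binary
import Groth.Agent.Lib.HM.Destab

set_option autoImplicit false
universe u
open TensorProduct LaurentPolynomial
open GIT

namespace Groth.Agent.S12546

/-- Let k be an algebraically closed field of characteristic zero and let SL_2 act by substitution on
binary forms of degree d, a form being the point a = (a_0, …, a_d) with F = Σ_i (d choose i) a_i
x^(d−i) y^i. For a ≠ 0: a is stable (closed orbit, finite stabiliser) if and only if every non-zero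
linear form ℓ and every m with ℓ^m dividing F satisfy 2m < d, i.e. F has no root on the projective
line of multiplicity d/2 or more. -/
theorem result (k : Type u) [Field k] [IsAlgClosed k] [CharZero k]
    (d : ℕ) (a : Fin (d + 1) → k) (ha : a ≠ 0) :
    @GLin.IsStableVec k _ (CoordGrp.SLn 2 k) _ _ (CoordGrp.FormIdx 2 d) (GLin.comodAlong ((CoordGrp.SLn.mkHom 2 k).comp (CoordGrp.Mat.toGLn 2 k)) (CoordGrp.formsCoact k 2 d))
      (GLin.isCoactAlg_comodAlong ((CoordGrp.SLn.mkHom 2 k).comp (CoordGrp.Mat.toGLn 2 k)) (CoordGrp.formsCoact k 2 d)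
        (CoordGrp.formsCoact_isCoactAlg k 2 d))
      (CoordGrp.binVec d a) ↔
      ∀ ℓ : MvPolynomial (Fin 2) k, ℓ.IsHomogeneous 1 → ℓ ≠ 0 →
        ∀ m : ℕ, ℓ ^ m ∣ CoordGrp.formPoly (CoordGrp.binVec d a) → 2 * m < d := by
  classical
  have hF : CoordGrp.formPoly (CoordGrp.binVec d a) ≠ 0 := by
    intro h
    refine ha (funext fun i => ?_)
    have := congrArg (MvPolynomial.coeff (CoordGrp.binIdx d i).1) h
    rw [CoordGrp.coeff_formPoly, CoordGrp.binVec_binIdx, MvPolynomial.coeff_zero, mul_eq_zero] at this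
    exact this.resolve_left (GrothLib.HM.multinomial_ne_zero (Nat.cast_ne_zero.2 (Nat.factorial_ne_zero d)) _)
  constructor
  · intro hst ℓ hℓ hℓ0 m hdvd
    by_contra hle
    push Not at hle
    obtain ⟨q, hq⟩ := GrothLib.HM.exists_split 0 ℓ hℓ hℓ0
    rw [Fin.prod_univ_one] at hq
    obtain ⟨b, hb, hbW⟩ := GrothLib.HM.exists_adapted (k ∙ q 0)
    have hq0 : q 0 ≠ 0 := fun h => hℓ0 (by simp [hq, GrothLib.HM.linForm, h])
    have hb0 : Matrix.vecMul (q 0) b 0 = 0 :=
      hbW _ (Submodule.mem_span_singleton_self _) 0 (by rw [finrank_span_singleton hq0]; simp)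
    refine GrothLib.HM.not_isStableVec_of_destab (Nat.cast_ne_zero.2 (Nat.factorial_ne_zero d)) _ b hb ![-1, 1]
      (by simp) (fun h => by simpa using congrFun h 1) (fun e he => ?_) hst
    obtain ⟨H, hH⟩ := hdvd
    rw [GrothLib.HM.subst, Algebra.algebraMap_self, MvPolynomial.map_id, hH, map_mul, map_pow, hq,
      GrothLib.HM.lin_linForm]
    have hlf : GrothLib.HM.linForm (Matrix.vecMul (q 0) b) =
        MvPolynomial.C (Matrix.vecMul (q 0) b 1) * MvPolynomial.X 1 := by
      rw [GrothLib.HM.linForm, Fin.sum_univ_two, hb0, map_zero, zero_mul, zero_add]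
    rw [hlf, mul_pow, mul_assoc, ← MvPolynomial.C_pow, MvPolynomial.coeff_C_mul,
      MvPolynomial.X_pow_eq_monomial, MvPolynomial.coeff_monomial_mul', if_neg, mul_zero]
    intro hle'
    have h1 := hle' 1
    rw [Finsupp.single_eq_same] at h1
    have h2 : e.1 0 + e.1 1 = d := by
      conv_rhs => rw [← e.2]
      rw [Finsupp.degree_eq_sum, Fin.sum_univ_two]
    simp [Fin.sum_univ_two] at he
    omega
  · intro hall
    rcases Nat.eq_zero_or_pos d with hd | hd
    · exact absurd (hall (MvPolynomial.X 0) (MvPolynomial.isHomogeneous_X _ _) (MvPolynomial.X_ne_zero _) 0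
        (one_dvd _)) (by omega)
    obtain ⟨d, rfl⟩ : ∃ e, d = e + 1 := ⟨d - 1, by omega⟩
    obtain ⟨p, hp⟩ := GrothLib.HM.exists_split d _ (GrothLib.HM.isHomogeneous_formPoly _) hF
    have hp0 : ∀ i, p i ≠ 0 := fun i h => hF (by
      rw [hp, Finset.prod_eq_zero (Finset.mem_univ i) (by simp [GrothLib.HM.linForm, h])])
    refine GrothLib.HM.isStableVec_of_no_destab _ fun κ _ _ Γ _ _ _ b w hb hs hw =>
      GrothLib.HM.exists_monomial_of_points (n := 1) p hp0 _ hp (fun W hW hW' => ?_) b hb w hs hw
    have h1 : Module.finrank k W = 1 := by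
      have h0 : Module.finrank k W ≠ 0 := fun h => hW (Submodule.finrank_eq_zero.1 h)
      have h2 : Module.finrank k W ≠ 2 := fun h =>
        hW' (Submodule.eq_top_of_finrank_eq (by rw [h, Module.finrank_fin_fun]))
      have h3 : Module.finrank k W ≤ 2 := by simpa using Submodule.finrank_le W
      omega
    obtain ⟨v, hv0, hv⟩ := finrank_eq_one_iff'.1 h1
    rw [h1, mul_one, Nat.card_eq_fintype_card, Fintype.card_subtype, mul_comm]
    refine hall (GrothLib.HM.linForm v.1) (MvPolynomial.IsHomogeneous.sum _ _ _ fun j _ =>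
      MvPolynomial.isHomogeneous_C_mul_X _ _) (fun h => hv0 (Subtype.ext (funext fun j => ?_))) _ ?_
    · have := congrArg (MvPolynomial.coeff (Finsupp.single j 1)) h
      fin_cases j <;> simpa [Fin.sum_univ_two, GrothLib.HM.linForm, MvPolynomial.coeff_sum, MvPolynomial.coeff_C_mul, MvPolynomial.coeff_X',
        Finsupp.single_left_inj] using this
    · rw [hp]
      refine dvd_trans ?_ (Finset.prod_dvd_prod_of_subset _ _ _ (Finset.filter_subset (fun i => p i ∈ W) _))
      rw [← Finset.prod_const]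
      refine Finset.prod_dvd_prod_of_dvd _ _ fun i hi => ?_
      obtain ⟨c, hc⟩ := hv ⟨p i, (Finset.mem_filter.1 hi).2⟩
      refine ⟨MvPolynomial.C c, ?_⟩
      have hc' : c • v.1 = p i := congrArg Subtype.val hc
      rw [← hc']
      simp only [GrothLib.HM.linForm, Finset.sum_mul, Pi.smul_apply, smul_eq_mul, map_mul]
      exact Finset.sum_congr rfl fun j _ => by ring

end Groth.Agent.S12546
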