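import Groth.Statements.S12549
import Mathlib

set_option autoImplicit false
universe u
open GIT

namespace Groth.Agent.S12549

open Finset

/-- Summation by parts: raising the heights raises the chain sum. -/
lemma two_mul_le_sum (d R : ℕ → ℝ) (hd : ∀ j, 0 ≤ d j) (hd0 : d 0 = 0)
    (hR : ∀ j, R (j + 1) ≤ R j) :
    ∀ M, 2 * d M * R M ≤ ∑ j ∈ range M, (d (j + 1) - d j) * (R j + R (j + 1))
  | 0 => by simp [hd0]
  | M + 1 => by
    rw [Finset.sum_range_succ]
    nlinarith [two_mul_le_sum d R hd hd0 hR M, mul_nonneg (hd M) (sub_nonneg.2 (hR M)),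
      mul_nonneg (hd (M + 1)) (sub_nonneg.2 (hR M))]

/-- The chain `0, 1, …, p, q, q + 1, …` -/
def chain (p q j : ℕ) : ℕ := if j ≤ p then j else j + (q - p - 1)

lemma chain_step {p q : ℕ} (hpq : p < q) (j : ℕ) : chain p q j < chain p q (j + 1) := by
  unfold chain; split_ifs <;> omega

/-- Edges of the chain in terms of a function interpolating linearly on `[p, q]`. -/
lemma chain_sum (x R : ℕ → ℝ) (p q n : ℕ) (hpq : p < q) (hqn : q ≤ n) (c s X : ℝ)
    (hp : R p = c + s * (x p - X)) (hq : R q = c + s * (x q - X)) :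
    ∑ j ∈ range (n - (q - p) + 1),
        (x (chain p q (j + 1)) - x (chain p q j)) * (R (chain p q j) + R (chain p q (j + 1))) =
      ∑ i ∈ range n, (x (i + 1) - x i) *
        ((if p ≤ i ∧ i ≤ q then c + s * (x i - X) else R i) +
          (if p ≤ i + 1 ∧ i + 1 ≤ q then c + s * (x (i + 1) - X) else R (i + 1))) := by
  set h : ℕ → ℝ := fun i => if p ≤ i ∧ i ≤ q then c + s * (x i - X) else R i with hh
  have hout : ∀ i, i ≤ p ∨ q ≤ i → h i = R i := by
    intro i hi
    simp only [hh]
    split_ifs with hc
    · rcases hi with hi | hi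
      · rw [show i = p by omega, hp]
      · rw [show i = q by omega, hq]
    · rfl
  rw [show (∑ i ∈ range n, (x (i + 1) - x i) *
        ((if p ≤ i ∧ i ≤ q then c + s * (x i - X) else R i) +
          (if p ≤ i + 1 ∧ i + 1 ≤ q then c + s * (x (i + 1) - X) else R (i + 1)))) =
      ∑ i ∈ range n, (x (i + 1) - x i) * (h i + h (i + 1)) from rfl]
  set g : ℕ → ℝ := fun i => (x (i + 1) - x i) * (h i + h (i + 1)) with hg
  have hn : n = p + ((q - p) + (n - q)) := by omega
  have hN : n - (q - p) + 1 = p + (1 + (n - q)) := by omega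
  rw [hN, Finset.sum_range_add, Finset.sum_range_add, hn, Finset.sum_range_add g,
    Finset.sum_range_add (fun i => g (p + i))]
  have e1 : ∀ j ∈ range p,
      (x (chain p q (j + 1)) - x (chain p q j)) * (R (chain p q j) + R (chain p q (j + 1))) = g j := by
    intro j hj
    rw [Finset.mem_range] at hj
    simp only [hg, chain, if_pos hj.le, if_pos (show j + 1 ≤ p by omega)]
    rw [hout j (by omega), hout (j + 1) (by omega)]
  have e2 : (x (chain p q (p + 0 + 1)) - x (chain p q (p + 0))) *
      (R (chain p q (p + 0)) + R (chain p q (p + 0 + 1))) = ∑ i ∈ range (q - p), g (p + i) := by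
    have hF : ∀ i ∈ range (q - p), g (p + i) =
        (fun k => 2 * c * x (p + k) + s * (x (p + k) ^ 2 - 2 * X * x (p + k))) (i + 1) -
          (fun k => 2 * c * x (p + k) + s * (x (p + k) ^ 2 - 2 * X * x (p + k))) i := by
      intro i hi
      rw [Finset.mem_range] at hi
      simp only [hg, hh, ← add_assoc]
      rw [if_pos (by omega), if_pos (by omega)]
      ring
    rw [Finset.sum_congr rfl hF,
      Finset.sum_range_sub (fun k => 2 * c * x (p + k) + s * (x (p + k) ^ 2 - 2 * X * x (p + k)))]
    simp only [add_zero, chain, if_pos (le_refl p), if_neg (show ¬ p + 1 ≤ p by omega),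
      show p + 1 + (q - p - 1) = q by omega, Nat.add_sub_of_le hpq.le, hp, hq]
    ring
  have e3 : ∀ j ∈ range (n - q),
      (x (chain p q (p + (1 + j) + 1)) - x (chain p q (p + (1 + j)))) *
        (R (chain p q (p + (1 + j))) + R (chain p q (p + (1 + j) + 1))) = g (p + (q - p + j)) := by
    intro j hj
    simp only [hg, chain, if_neg (show ¬ p + (1 + j) ≤ p by omega),
      if_neg (show ¬ p + (1 + j) + 1 ≤ p by omega),
      show p + (1 + j) + (q - p - 1) = q + j by omega,
      show p + (1 + j) + 1 + (q - p - 1) = q + j + 1 by omega,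
      show p + (q - p + j) = q + j by omega]
    rw [hout (q + j) (by omega), hout (q + j + 1) (by omega)]
  rw [Finset.sum_congr rfl e1, Finset.sum_range_one, e2,
    show p + (q - p + (n - q)) - q = n - q by omega, Finset.sum_congr rfl e3]

/-- Let g ≥ 1 and n ≥ 2g, and let e_0, …, e_n be natural numbers with e_0 = 0, e_n = n + g, e_0 ≤ … ≤
e_n, e_i ≤ i for i ≤ n − g and e_i ≤ i + g for all i. Then for all real r_0 ≥ r_1 ≥ … ≥ r_n with Σ
r_i = 0, not all zero, some chain 0 = c_0 < c_1 < … < c_μ = n has Σ_j (e_(c_(j+1)) − e_(c_j)) ·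
(r_(c_(j+1)) + r_(c_j)) < 0. -/
theorem result (n g : ℕ) (hg : 1 ≤ g) (hn : 2 * g ≤ n)
    (e : Fin (n + 1) → ℕ) (he0 : e 0 = 0) (hen : e (Fin.last n) = n + g) (hmono : Monotone e)
    (hle : ∀ i : Fin (n + 1), (i : ℕ) ≤ n - g → e i ≤ (i : ℕ)) (hle' : ∀ i : Fin (n + 1), e i ≤ (i : ℕ) + g)
    (r : Fin (n + 1) → ℝ) (hanti : Antitone r) (hsum : ∑ i, r i = 0) (hr : r ≠ 0) :
    ∃ (μ : ℕ) (c : Fin (μ + 1) → Fin (n + 1)), StrictMono c ∧ c 0 = 0 ∧ c (Fin.last μ) = Fin.last n ∧
      ∑ j : Fin μ, ((e (c j.succ) : ℝ) - (e (c j.castSucc) : ℝ)) * (r (c j.succ) + r (c j.castSucc)) < 0 := by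
  classical
  set R : ℕ → ℝ := fun i => r ⟨min i n, by omega⟩ with hRdef
  set En : ℕ → ℝ := fun i => (e ⟨min i n, by omega⟩ : ℝ) with hEn
  have hR : ∀ j, R (j + 1) ≤ R j := fun j => hanti (by simp only [Fin.mk_le_mk]; omega)
  have hRle : ∀ i j, i ≤ j → R j ≤ R i := fun i j h => hanti (by simp only [Fin.mk_le_mk]; omega)
  have hRfin : ∀ i : Fin (n + 1), R i = r i := fun i => congrArg r (Fin.ext (by
    show min (i : ℕ) n = i
    omega))
  have hRsum : ∑ i ∈ range (n + 1), R i = 0 := by
    rw [← Fin.sum_univ_eq_sum_range R]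
    simpa [hRfin] using hsum
  have hRn : R n < 0 := by
    by_contra hc
    rw [not_lt] at hc
    refine hr (funext fun i => ?_)
    have h0 := (Finset.sum_eq_zero_iff_of_nonneg fun i _ => ?_).1 hsum i (Finset.mem_univ _)
    · exact h0
    · rw [← hRfin]; exact hc.trans (hRle _ _ (by omega))
  -- translate a chain of natural numbers
  suffices H : ∃ (μ : ℕ) (c : ℕ → ℕ), (∀ j < μ, c j < c (j + 1)) ∧ c 0 = 0 ∧ c μ = n ∧
      ∑ j ∈ range μ, (En (c (j + 1)) - En (c j)) * (R (c j) + R (c (j + 1))) < 0 by
    obtain ⟨μ, c, hstep, hc0, hcμ, hlt⟩ := H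
    have hmon : ∀ i j, i < j → j ≤ μ → c i < c j := by
      intro i j hij hj
      induction hij with
      | refl => exact hstep i (by omega)
      | step _ ih => exact (ih (by omega)).trans (hstep _ (by omega))
    have hcle : ∀ j ≤ μ, c j ≤ n := fun j hj => by
      rcases hj.lt_or_eq with h | h
      · rw [← hcμ]; exact (hmon j μ h le_rfl).le
      · rw [h, hcμ]
    refine ⟨μ, fun j => ⟨c j, by have := hcle j (by omega); omega⟩,
      fun i j hij => hmon i j hij (by omega), Fin.ext hc0, Fin.ext hcμ, ?_⟩
    rw [← Fin.sum_univ_eq_sum_range] at hlt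
    refine lt_of_eq_of_lt (Finset.sum_congr rfl fun j _ => ?_) hlt
    have h1 : min (c (j : ℕ)) n = c j := min_eq_left (hcle _ (by omega))
    have h2 : min (c ((j : ℕ) + 1)) n = c (j + 1) := min_eq_left (hcle _ (by omega))
    simp only [hEn, hRdef, h1, h2, Fin.val_succ, Fin.val_castSucc]
    ring
  by_cases hab : R 0 + R n < 0
  · refine ⟨1, fun j => if j = 0 then 0 else n, fun j hj => ?_, rfl, by simp, ?_⟩
    · rw [show j = 0 by omega]; simp <;> omega
    · simp only [Finset.sum_range_one, if_pos, zero_add, one_ne_zero, if_false]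
      have he : En n = (n + g : ℕ) := by
        simp only [hEn]; norm_cast; rw [← hen]; congr 1; ext; simp
      have he' : En 0 = 0 := by
        simp only [hEn]; norm_cast
      rw [he, he', sub_zero]
      exact mul_neg_of_pos_of_neg (by exact_mod_cast (show 0 < n + g by omega)) hab
  rw [not_lt] at hab
  set m := n - g with hm
  set x : ℕ → ℝ := fun i => if i ≤ m then (i : ℝ) else (i : ℝ) + g with hx
  set X : ℝ := (m : ℝ) + ((g : ℝ) + 1) / 2 with hX
  have hg1 : (1 : ℝ) ≤ g := by exact_mod_cast hg
  have hxlo : ∀ i, i ≤ m → x i < X := by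
    intro i hi
    have : (i : ℝ) ≤ m := by exact_mod_cast hi
    simp only [hx, if_pos hi, hX]; linarith
  have hxhi : ∀ i, m < i → X < x i := by
    intro i hi
    have : (m : ℝ) + 1 ≤ i := by exact_mod_cast hi
    simp only [hx, if_neg (show ¬ i ≤ m by omega), hX]; linarith
  -- the supporting line at `X`
  set cv : ℕ × ℕ → ℝ := fun pq =>
    (R pq.1 * (x pq.2 - X) + R pq.2 * (X - x pq.1)) / (x pq.2 - x pq.1) with hcv
  obtain ⟨⟨p, q⟩, hpqmem, hmin⟩ := Finset.exists_min_image
    ((range (m + 1)) ×ˢ (Finset.Ioc m n)) cv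
    ⟨(0, n), by simp only [Finset.mem_product, Finset.mem_range, Finset.mem_Ioc]; omega⟩
  simp only [Finset.mem_product, Finset.mem_range, Finset.mem_Ioc, Nat.lt_succ_iff] at hpqmem
  obtain ⟨hp, hq, hqn⟩ := hpqmem
  set c := cv (p, q) with hc
  have hxp := hxlo p hp
  have hxq := hxhi q hq
  set s := (R q - R p) / (x q - x p) with hs
  have hden : x q - x p ≠ 0 := ne_of_gt (by linarith)
  have hLp : R p = c + s * (x p - X) := by
    simp only [hc, hcv, hs]; field_simp; ring
  have hLq : R q = c + s * (x q - X) := by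
    simp only [hc, hcv, hs]; field_simp; ring
  have hbelow : ∀ i ≤ n, c + s * (x i - X) ≤ R i := by
    intro i hi
    rcases le_or_gt i m with him | him
    · have h1 := hmin (i, q) (by simp only [Finset.mem_product, Finset.mem_range, Finset.mem_Ioc]; omega)
      have hxi := hxlo i him
      simp only [hcv] at h1
      rw [le_div_iff₀ (by linarith)] at h1
      rw [← sub_nonneg]
      refine nonneg_of_mul_nonneg_left ?_ (sub_pos.2 hxq)
      rw [hLq] at h1
      change c * _ ≤ _ at h1
      nlinarith [h1]
    · have h1 := hmin (p, i) (by simp only [Finset.mem_product, Finset.mem_range, Finset.mem_Ioc]; omega)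
      have hxi := hxhi i him
      simp only [hcv] at h1
      rw [le_div_iff₀ (by linarith)] at h1
      rw [← sub_nonneg]
      refine nonneg_of_mul_nonneg_left ?_ (sub_pos.2 hxp)
      rw [hLp] at h1
      change c * _ ≤ _ at h1
      nlinarith [h1]
  -- moments of the nodes
  have hxsum : ∀ k, k ≤ g → 2 * ∑ i ∈ range (m + 1 + k), x i =
      ((m : ℝ) + 1 + k) * (m + k) + 2 * k * g := by
    intro k hk
    induction k with
    | zero =>
      have : ∀ j ≤ m, 2 * ∑ i ∈ range (j + 1), x i = ((j : ℝ) + 1) * j := by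
        intro j hj
        induction j with
        | zero => simp [hx]
        | succ j ih =>
          rw [Finset.sum_range_succ, mul_add, ih (by omega)]
          simp only [hx, if_pos hj]; push_cast; ring
      simpa using this m le_rfl
    | succ k ih =>
      rw [show m + 1 + (k + 1) = (m + 1 + k) + 1 by omega, Finset.sum_range_succ, mul_add,
        ih (by omega)]
      simp only [hx, if_neg (show ¬ m + 1 + k ≤ m by omega)]; push_cast; ring
  have hneg : ∑ i ∈ range (n + 1), (x i - X) < 0 := by
    have h := hxsum g le_rfl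
    rw [show m + 1 + g = n + 1 by omega] at h
    rw [Finset.sum_sub_distrib, Finset.sum_const, Finset.card_range, nsmul_eq_mul]
    have hmg : (g : ℝ) ≤ m := by exact_mod_cast (show g ≤ m by omega)
    have hnm : (n : ℝ) = m + g := by exact_mod_cast (show n = m + g by omega)
    push_cast
    rw [hnm, hX]
    nlinarith [h, hmg, hg1]
  have hcneg : c < 0 := by
    rcases lt_or_ge s 0 with hs0 | hs0
    · have h1 : ∑ i ∈ range (n + 1), (c + s * (x i - X)) ≤ 0 :=
        hRsum ▸ Finset.sum_le_sum fun i hi => hbelow i (by rw [Finset.mem_range] at hi; omega)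
      rw [Finset.sum_add_distrib, ← Finset.mul_sum, Finset.sum_const, Finset.card_range,
        nsmul_eq_mul] at h1
      have h2 : 0 < s * ∑ i ∈ range (n + 1), (x i - X) := mul_pos_of_neg_of_neg hs0 hneg
      by_contra hc0
      rw [not_lt] at hc0
      have h3 : (0 : ℝ) ≤ ((n + 1 : ℕ) : ℝ) * c := mul_nonneg (Nat.cast_nonneg _) hc0
      linarith
    · have := hbelow n le_rfl
      have : 0 ≤ s * (x n - X) := mul_nonneg hs0 (sub_nonneg.2 (hxhi n (by omega)).le)
      linarith
  -- the chain
  set h : ℕ → ℝ := fun i => if p ≤ i ∧ i ≤ q then c + s * (x i - X) else R i with hh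
  have hhle : ∀ i ≤ n, h i ≤ R i := fun i hi => by
    simp only [hh]; split_ifs
    · exact hbelow i hi
    · exact le_rfl
  have hfull : ∀ k, ∑ i ∈ range k, (x (i + 1) - x i) * (h i + h (i + 1)) =
      2 * (∑ i ∈ range (k + 1), h i) - h 0 - h k +
        if m < k then (g : ℝ) * (h m + h (m + 1)) else 0 := by
    intro k
    induction k with
    | zero => simp; ring
    | succ k ih =>
      rw [Finset.sum_range_succ, ih, Finset.sum_range_succ _ (k + 1)]
      rcases lt_trichotomy k m with hk | hk | hk
      · simp only [hx, if_pos hk.le, if_pos (show k + 1 ≤ m by omega),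
          if_neg (show ¬ m < k by omega), if_neg (show ¬ m < k + 1 by omega)]
        push_cast; ring
      · subst hk
        simp only [hx, if_pos (le_refl m), if_neg (show ¬ m + 1 ≤ m by omega),
          if_neg (lt_irrefl m), if_pos (Nat.lt_succ_self m)]
        push_cast; ring
      · simp only [hx, if_neg (show ¬ k ≤ m by omega), if_neg (show ¬ k + 1 ≤ m by omega),
          if_pos hk, if_pos (show m < k + 1 by omega)]
        push_cast; ring
  have hgap : h m + h (m + 1) = 2 * c := by
    simp only [hh, if_pos (show p ≤ m ∧ m ≤ q by omega),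
      if_pos (show p ≤ m + 1 ∧ m + 1 ≤ q by omega), hx, if_pos (le_refl m),
      if_neg (show ¬ m + 1 ≤ m by omega), hX]
    push_cast; ring
  have hh0 : h 0 = R 0 := by
    simp only [hh]; split_ifs with h0
    · have h00 : p = 0 := by omega
      subst h00; exact hLp.symm
    · rfl
  have hhn : h n = R n := by
    simp only [hh]; split_ifs with h0
    · have h00 : q = n := by omega
      subst h00; exact hLq.symm
    · rfl
  have hS : ∑ j ∈ range (n - (q - p) + 1),
      (x (chain p q (j + 1)) - x (chain p q j)) * (R (chain p q j) + R (chain p q (j + 1))) < 0 := by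
    rw [chain_sum x R p q n (by omega) hqn c s X hLp hLq]
    show ∑ i ∈ range n, (x (i + 1) - x i) * (h i + h (i + 1)) < 0
    rw [hfull n, if_pos (by omega), hgap, hh0, hhn]
    have h1 : ∑ i ∈ range (n + 1), h i ≤ 0 :=
      hRsum ▸ Finset.sum_le_sum fun i hi => hhle i (by rw [Finset.mem_range] at hi; omega)
    have h2 : (g : ℝ) * (2 * c) < 0 := mul_neg_of_pos_of_neg (by linarith) (by linarith)
    linarith
  refine ⟨n - (q - p) + 1, chain p q, fun j _ => chain_step (by omega) j, by simp [chain],
    by simp only [chain]; rw [if_neg (by omega)]; omega, lt_of_le_of_lt ?_ hS⟩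
  set μ := n - (q - p) + 1
  have hcμ : chain p q μ = n := by simp only [chain, μ]; rw [if_neg (by omega)]; omega
  set d : ℕ → ℝ := fun j => if j ≤ μ then x (chain p q j) - En (chain p q j) else 0 with hd
  have hchle : ∀ j ≤ μ, chain p q j ≤ n := fun j hj => by
    simp only [chain, μ] at *; split_ifs <;> omega
  have key := two_mul_le_sum d (fun j => R (chain p q j)) (fun j => by
      simp only [hd]; split_ifs with hj
      · rw [sub_nonneg]
        have hb := hchle j hj
        simp only [hEn, hx]
        split_ifs with hi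
        · exact_mod_cast (hle ⟨min (chain p q j) n, by omega⟩ (by simp only; omega)).trans
            (by simp only; omega)
        · exact_mod_cast (hle' ⟨min (chain p q j) n, by omega⟩).trans (by simp only; omega)
      · exact le_rfl)
    (by
      simp only [hd, if_pos (Nat.zero_le μ), chain, if_pos (Nat.zero_le p), hx,
        if_pos (Nat.zero_le m), hEn]
      norm_cast
      simp [he0])
    (fun j => hRle _ _ (chain_step (by omega) j).le) μ
  have hdμ : d μ = 0 := by
    simp only [hd, if_pos (le_refl μ), hcμ, hx, if_neg (show ¬ n ≤ m by omega), hEn]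
    have : e ⟨min n n, by omega⟩ = n + g := by rw [← hen]; congr 1; ext; simp
    rw [this]; push_cast; ring
  rw [hdμ, mul_zero, zero_mul] at key
  rw [← sub_nonneg, ← Finset.sum_sub_distrib]
  refine le_of_le_of_eq key (Finset.sum_congr rfl fun j hj => ?_)
  rw [Finset.mem_range] at hj
  simp only [hd, if_pos hj.le, if_pos (show j + 1 ≤ μ by omega)]
  ring

end Groth.Agent.S12549
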