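import Groth.Statements.S12550
import Mathlib

set_option autoImplicit false
universe u
open GIT

namespace Groth.Agent.S12550

/-- Let V be a finite-dimensional vector space over a field K and x_0, …, x_m non-zero vectors, a
configuration of m + 1 points of the projective space P(V). If for every subspace L with 0 ≠ L ≠ V
the number of indices i with x_i ∈ L, multiplied by dim V, is less than dim L · (m + 1) (the
configuration is stable), then no two proper subspaces L', L'' with L' ∩ L'' = 0 contain between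
them all the x_i. -/
theorem result (K : Type u) [Field K]
    (V : Type u) [AddCommGroup V] [Module K V] [FiniteDimensional K V]
    (m : ℕ) (x : Fin (m + 1) → V) (hx : ∀ i, x i ≠ 0)
    (hst : ∀ L : Submodule K V, L ≠ ⊥ → L ≠ ⊤ →
      Set.ncard {i : Fin (m + 1) | x i ∈ L} * Module.finrank K V < Module.finrank K L * (m + 1)) :
    ¬ ∃ L' L'' : Submodule K V, L' ≠ ⊤ ∧ L'' ≠ ⊤ ∧ Disjoint L' L'' ∧ ∀ i, x i ∈ L' ∨ x i ∈ L'' := by
  classical
  rintro ⟨L', L'', h1, h2, hd, hall⟩
  set n := Module.finrank K V with hn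
  have hcount : m + 1 ≤ Set.ncard {i : Fin (m + 1) | x i ∈ L'} + Set.ncard {i : Fin (m + 1) | x i ∈ L''} := by
    refine le_trans ?_ (Set.ncard_union_le _ _)
    rw [show {i : Fin (m + 1) | x i ∈ L'} ∪ {i | x i ∈ L''} = Set.univ from Set.eq_univ_of_forall hall]
    simp [Set.ncard_univ]
  have hdim : Module.finrank K L' + Module.finrank K L'' ≤ n := Submodule.finrank_add_finrank_le_of_disjoint hd
  have key : ∀ L : Submodule K V, L ≠ ⊤ → (L = ⊥ ∧ Set.ncard {i : Fin (m + 1) | x i ∈ L} = 0) ∨
      Set.ncard {i : Fin (m + 1) | x i ∈ L} * n < Module.finrank K L * (m + 1) := by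
    intro L hL
    by_cases hb : L = ⊥
    · left
      refine ⟨hb, ?_⟩
      rw [hb]
      simp [hx]
    · exact Or.inr (hst L hb hL)
  have hmul := Nat.mul_le_mul_right n hcount
  have hdim' := Nat.mul_le_mul_right (m + 1) hdim
  rw [add_mul] at hmul hdim'
  rcases key L' h1 with ⟨rfl, c1⟩ | l1 <;> rcases key L'' h2 with ⟨rfl, c2⟩ | l2
  · omega
  · rw [c1] at hmul; rw [finrank_bot] at hdim hdim'; nlinarith
  · rw [c2] at hmul; rw [finrank_bot] at hdim hdim'; nlinarith
  · nlinarith

end Groth.Agent.S12550
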