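import Groth.Statements.S12551
import Groth.Agent.Lib.HM.Destab
import Groth.Agent.Lib.HM.Descend
import Mathlib.Data.Fin.Tuple.Sort

set_option autoImplicit false
universe u
open TensorProduct LaurentPolynomial
open GIT

namespace Groth.Agent.S12551

/-- Let k be an algebraically closed field of characteristic zero and let SL_3 act by substitution on
ternary quartic forms, the point a having the form F = Σ_e (4; e) a_e x^e. Then a fails to be stable
(closed orbit and finite stabiliser) if and only if there is a matrix M of determinant 1 such that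
the form F'(x) = F(Mx) = Σ b_ij x_0^(4−i−j) x_1^i x_2^j has b_00 = b_10 = b_01 = b_20 = b_11 = 0 and
in addition b_02 = 0 or b_30 = 0: in suitable coordinates the quartic curve has a triple point at
(1:0:0), or a tacnode there with tangent line x_2 = 0. -/
theorem result (k : Type u) [Field k] [IsAlgClosed k] [CharZero k]
    (a : CoordGrp.FormIdx 3 4 → k) :
    ¬ @GLin.IsStableVec k _ (CoordGrp.SLn 3 k) _ _ (CoordGrp.FormIdx 3 4) (GLin.comodAlong ((CoordGrp.SLn.mkHom 3 k).comp (CoordGrp.Mat.toGLn 3 k)) (CoordGrp.formsCoact k 3 4))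
      (GLin.isCoactAlg_comodAlong ((CoordGrp.SLn.mkHom 3 k).comp (CoordGrp.Mat.toGLn 3 k)) (CoordGrp.formsCoact k 3 4)
        (CoordGrp.formsCoact_isCoactAlg k 3 4))
      a ↔
      ∃ M : Matrix (Fin 3) (Fin 3) k, M.det = 1 ∧
        ∃ F' : MvPolynomial (Fin 3) k,
          F' = MvPolynomial.aeval (fun i : Fin 3 => ∑ j : Fin 3, MvPolynomial.C (M i j) * MvPolynomial.X j)
              (CoordGrp.formPoly a) ∧
          (∀ ij : ℕ × ℕ, ij ∈ ({(0, 0), (1, 0), (0, 1), (2, 0), (1, 1)} : Finset (ℕ × ℕ)) →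
            F'.coeff (Finsupp.single 0 (4 - ij.1 - ij.2) + Finsupp.single 1 ij.1 + Finsupp.single 2 ij.2) = 0) ∧
          (F'.coeff (Finsupp.single 0 2 + Finsupp.single 2 2) = 0 ∨
            F'.coeff (Finsupp.single 0 1 + Finsupp.single 1 3) = 0) := by
  classical
  constructor
  · intro hns
    by_contra hno
    refine hns (GrothLib.HM.isStableVec_of_no_destab a fun κ _ _ Γ _ _ _ b w hb hs hw => ?_)
    by_contra hne
    push Not at hne
    apply hno
    let σ := Tuple.sort w
    have hmono : Monotone fun i => w (σ i) := Tuple.monotone_sort w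
    obtain ⟨b', hb', hcoef⟩ := GrothLib.HM.exists_perm b hb σ a
    have h01 : w (σ 0) ≤ w (σ 1) := hmono (by decide)
    have h12 : w (σ 1) ≤ w (σ 2) := hmono (by decide)
    have hsum : w (σ 0) + w (σ 1) + w (σ 2) = 0 := by
      rw [← Fin.sum_univ_three (f := fun i => w (σ i)), Equiv.sum_comp σ w, hs]
    have hr0 : w (σ 0) < 0 := by
      by_contra hge
      push Not at hge
      have hnn : ∀ i, 0 ≤ w i := fun i => by
        simpa using hge.trans (hmono (Fin.zero_le (σ.symm i)))
      exact hw (funext fun i => (Finset.sum_eq_zero_iff_of_nonneg fun j _ => hnn j).1 hs i (Finset.mem_univ i))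
    have hr2 : 0 < w (σ 2) := by
      by_contra hle
      push Not at hle
      have hlt : w (σ 0) + w (σ 1) + w (σ 2) < 0 :=
        add_neg_of_neg_of_nonpos (add_neg_of_neg_of_nonpos hr0 (h12.trans hle)) hle
      rw [hsum] at hlt
      exact lt_irrefl _ hlt
    -- coefficients of negative weight vanish
    have hz : ∀ e : Fin 3 →₀ ℕ, e 0 + e 1 + e 2 = 4 →
        e 0 • w (σ 0) + e 1 • w (σ 1) + e 2 • w (σ 2) < 0 → (GrothLib.HM.subst b' a).coeff e = 0 := by
      intro e he hlt
      refine hcoef e (hne ⟨Finsupp.mapDomain σ e, ?_⟩ ?_)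
      · rw [Finsupp.degree_eq_sum, ← Equiv.sum_comp σ]
        simp [Finsupp.mapDomain_apply σ.injective, Fin.sum_univ_three, he]
      · rw [← Equiv.sum_comp σ, Fin.sum_univ_three]
        simpa [Finsupp.mapDomain_apply σ.injective] using hlt
    let mon : ℕ × ℕ → (Fin 3 →₀ ℕ) := fun ij =>
      Finsupp.single 0 (4 - ij.1 - ij.2) + Finsupp.single 1 ij.1 + Finsupp.single 2 ij.2
    have hmon : ∀ i j, mon (i, j) 0 = 4 - i - j ∧ mon (i, j) 1 = i ∧ mon (i, j) 2 = j := fun i j => by
      refine ⟨?_, ?_, ?_⟩ <;> simp [mon]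
    have hneg : ∀ ij ∈ ({(0, 0), (1, 0), (0, 1), (2, 0), (1, 1)} : Finset (ℕ × ℕ)),
        (GrothLib.HM.subst b' a).coeff (mon ij) = 0 := by
      intro ij hij
      simp only [Finset.mem_insert, Finset.mem_singleton] at hij
      have h00 : 2 • w (σ 0) < 0 := nsmul_neg hr0 two_ne_zero
      rcases hij with rfl | rfl | rfl | rfl | rfl <;>
        obtain ⟨e0, e1, e2⟩ := hmon _ _ <;> refine hz _ (by rw [e0, e1, e2]) ?_ <;>
        rw [e0, e1, e2] <;> norm_num
      · exact nsmul_neg hr0 (by norm_num)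
      · rw [show 3 • w (σ 0) + w (σ 1) = 2 • w (σ 0) + (-w (σ 2)) by
          rw [← add_eq_zero_iff_eq_neg.1 hsum]; abel]
        exact add_neg_of_neg_of_nonpos h00 (neg_nonpos.2 hr2.le)
      · rw [show 3 • w (σ 0) + w (σ 2) = w (σ 0) + (w (σ 0) - w (σ 1)) by
          rw [show w (σ 2) = -(w (σ 0) + w (σ 1)) from (neg_eq_of_add_eq_zero_right hsum).symm]; abel]
        exact add_neg_of_neg_of_nonpos hr0 (sub_nonpos.2 h01)
      · rw [show 2 • w (σ 0) + 2 • w (σ 1) = 2 • (-w (σ 2)) by
          rw [← add_eq_zero_iff_eq_neg.1 hsum]; abel]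
        exact nsmul_neg (neg_lt_zero.2 hr2) two_ne_zero
      · rw [show 2 • w (σ 0) + w (σ 1) + w (σ 2) = w (σ 0) + (w (σ 0) + w (σ 1) + w (σ 2)) by abel, hsum, add_zero]
        exact hr0
    have hcase : (GrothLib.HM.subst b' a).coeff (mon (0, 2)) = 0 ∨
        (GrothLib.HM.subst b' a).coeff (mon (3, 0)) = 0 := by
      rcases lt_or_ge 0 (w (σ 1)) with h1 | h1
      · left
        obtain ⟨e0, e1, e2⟩ := hmon 0 2
        refine hz _ (by rw [e0, e1, e2]) ?_
        rw [e0, e1, e2]
        norm_num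
        rw [show 2 • w (σ 0) + 2 • w (σ 2) = 2 • (-w (σ 1)) by
          rw [show w (σ 2) = -(w (σ 0) + w (σ 1)) from (neg_eq_of_add_eq_zero_right hsum).symm]; abel]
        exact nsmul_neg (neg_lt_zero.2 h1) two_ne_zero
      · right
        obtain ⟨e0, e1, e2⟩ := hmon 3 0
        refine hz _ (by rw [e0, e1, e2]) ?_
        rw [e0, e1, e2]
        norm_num
        rw [show w (σ 0) + 3 • w (σ 1) = 2 • w (σ 1) + (-w (σ 2)) by
          rw [← add_eq_zero_iff_eq_neg.1 hsum]; abel]
        exact add_neg_of_nonpos_of_neg (nsmul_nonpos h1 2) (neg_lt_zero.2 hr2)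
    rcases hcase with hc | hc
    · obtain ⟨M, hM, hMz⟩ := GrothLib.HM.exists_descend a b' hb'
        (mon '' ({(0, 0), (1, 0), (0, 1), (2, 0), (1, 1), (0, 2)} : Set (ℕ × ℕ))) (by
          rintro _ ⟨ij, hij, rfl⟩
          simp only [Set.mem_insert_iff, Set.mem_singleton_iff] at hij
          rcases hij with h | h | h | h | h | h
          all_goals first
            | (subst h; exact hc)
            | exact hneg ij (by subst h; decide))
      refine ⟨M, hM, _, rfl, fun ij hij => ?_, Or.inl ?_⟩
      · rw [← GrothLib.HM.subst_eq_aeval]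
        refine hMz _ ⟨ij, ?_, rfl⟩
        simp only [Finset.mem_insert, Finset.mem_singleton] at hij
        simp only [Set.mem_insert_iff, Set.mem_singleton_iff]
        tauto
      · rw [← GrothLib.HM.subst_eq_aeval]
        rw [show Finsupp.single (0 : Fin 3) 2 + Finsupp.single 2 2 = mon (0, 2) from
          Finsupp.ext fun i => by fin_cases i <;> simp [mon]]
        exact hMz _ ⟨(0, 2), by simp, rfl⟩
    · obtain ⟨M, hM, hMz⟩ := GrothLib.HM.exists_descend a b' hb'
        (mon '' ({(0, 0), (1, 0), (0, 1), (2, 0), (1, 1), (3, 0)} : Set (ℕ × ℕ))) (by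
          rintro _ ⟨ij, hij, rfl⟩
          simp only [Set.mem_insert_iff, Set.mem_singleton_iff] at hij
          rcases hij with h | h | h | h | h | h
          all_goals first
            | (subst h; exact hc)
            | exact hneg ij (by subst h; decide))
      refine ⟨M, hM, _, rfl, fun ij hij => ?_, Or.inr ?_⟩
      · rw [← GrothLib.HM.subst_eq_aeval]
        refine hMz _ ⟨ij, ?_, rfl⟩
        simp only [Finset.mem_insert, Finset.mem_singleton] at hij
        simp only [Set.mem_insert_iff, Set.mem_singleton_iff]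
        tauto
      · rw [← GrothLib.HM.subst_eq_aeval]
        rw [show Finsupp.single (0 : Fin 3) 1 + Finsupp.single 1 3 = mon (3, 0) from
          Finsupp.ext fun i => by fin_cases i <;> simp [mon]]
        exact hMz _ ⟨(3, 0), by simp, rfl⟩
  · rintro ⟨M, hM, F', rfl, hzero, hor⟩
    rw [← GrothLib.HM.subst_eq_aeval] at hzero hor
    have hd : (Nat.factorial 4 : k) ≠ 0 := Nat.cast_ne_zero.2 (Nat.factorial_ne_zero 4)
    have hmono : ∀ e : CoordGrp.FormIdx 3 4, e.1 = Finsupp.single 0 (4 - e.1 1 - e.1 2) +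
        Finsupp.single 1 (e.1 1) + Finsupp.single 2 (e.1 2) := fun e => by
      have hdeg : e.1 0 + e.1 1 + e.1 2 = 4 := by
        conv_rhs => rw [← e.2]
        rw [Finsupp.degree_eq_sum, Fin.sum_univ_three]
      ext i
      fin_cases i <;> simp <;> omega
    rcases hor with h | h
    · refine GrothLib.HM.not_isStableVec_of_destab hd a M hM ![-2, 1, 1] (by simp [Fin.sum_univ_three])
        (fun h => by simpa using congrFun h 1) fun e he => ?_
      rw [hmono e]
      simp [Fin.sum_univ_three] at he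
      have hdeg : e.1 0 + e.1 1 + e.1 2 = 4 := by
        conv_rhs => rw [← e.2]
        rw [Finsupp.degree_eq_sum, Fin.sum_univ_three]
      rcases (by omega : e.1 1 = 0 ∧ e.1 2 = 2 ∨ e.1 1 + e.1 2 ≤ 2 ∧ ¬(e.1 1 = 0 ∧ e.1 2 = 2)) with ⟨h1, h2⟩ | hrest
      · rw [h1, h2]
        simpa using h
      · refine hzero (e.1 1, e.1 2) ?_
        simp only [Finset.mem_insert, Finset.mem_singleton, Prod.mk.injEq]
        omega
    · refine GrothLib.HM.not_isStableVec_of_destab hd a M hM ![-1, 0, 1] (by simp [Fin.sum_univ_three])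
        (fun h => by simpa using congrFun h 2) fun e he => ?_
      rw [hmono e]
      simp [Fin.sum_univ_three] at he
      have hdeg : e.1 0 + e.1 1 + e.1 2 = 4 := by
        conv_rhs => rw [← e.2]
        rw [Finsupp.degree_eq_sum, Fin.sum_univ_three]
      rcases (by omega : e.1 1 = 3 ∧ e.1 2 = 0 ∨ ¬(e.1 1 = 3 ∧ e.1 2 = 0)) with ⟨h1, h2⟩ | hrest
      · rw [h1, h2]
        simpa using h
      · refine hzero (e.1 1, e.1 2) ?_
        simp only [Finset.mem_insert, Finset.mem_singleton, Prod.mk.injEq]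
        omega

end Groth.Agent.S12551
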