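import Groth.Statements.S12552
import Groth.Agent.Lib.Rado27.Basic
-- import your own Groth.Agent.* helpers here

set_option autoImplicit false
universe u
open GIT

namespace Groth.Agent.S12552

/-- Let V be a finite-dimensional vector space over a field K and x_0, …, x_m non-zero vectors, a
configuration of m + 1 points of P(V); a set S of dim V indices with (x_j)_(j ∈ S) linearly
independent is a determinant section non-zero at the configuration. Then the configuration is stable
(for every subspace L with 0 ≠ L ≠ V, the number of i with x_i ∈ L times dim V is less than dim L ·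
(m + 1)) if and only if there are integers N ≥ N_0 > 0 such that for each index i some non-empty
finite multiset of such sets S contains every index j ≠ i exactly N times and the index i exactly N
− N_0 times (a monomial in the determinant sections, non-zero at the configuration, of multidegree
(N, …, N − N_0, …, N) with the N − N_0 in place i). -/
theorem result (K : Type u) [Field K]
    (V : Type u) [AddCommGroup V] [Module K V] [FiniteDimensional K V]
    (m : ℕ) (x : Fin (m + 1) → V) (hx : ∀ i, x i ≠ 0) :
    (∀ L : Submodule K V, L ≠ ⊥ → L ≠ ⊤ →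
        Set.ncard {i : Fin (m + 1) | x i ∈ L} * Module.finrank K V < Module.finrank K L * (m + 1)) ↔
      ∃ N N₀ : ℕ, 0 < N₀ ∧ N₀ ≤ N ∧
        ∀ i : Fin (m + 1), ∃ P : Multiset (Finset (Fin (m + 1))), P ≠ 0 ∧
          (∀ S ∈ P, S.card = Module.finrank K V ∧ LinearIndependent K (fun j : S => x j)) ∧
          ∀ j : Fin (m + 1),
            Multiset.card (P.filter (fun S => j ∈ S)) = if j = i then N - N₀ else N := by
  classical
  have hn : 0 < Module.finrank K V := by
    haveI : Nontrivial V := ⟨⟨x 0, 0, hx 0⟩⟩
    exact Module.finrank_pos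
  have hswap : ∀ (P : Multiset (Finset (Fin (m + 1)))) (A : Finset (Fin (m + 1))),
      (∑ j ∈ A, Multiset.card (P.filter (fun S => j ∈ S))) = (P.map fun S => (S ∩ A).card).sum := by
    intro P A
    induction P using Multiset.induction_on with
    | empty => simp
    | cons S P ih =>
      rw [Multiset.map_cons, Multiset.sum_cons, ← ih, Finset.inter_comm, ← Finset.filter_mem_eq_inter,
        Finset.card_filter, ← Finset.sum_add_distrib]
      refine Finset.sum_congr rfl fun j _ => ?_
      by_cases hj : j ∈ S
      · rw [if_pos hj, Multiset.filter_cons_of_pos (p := fun S : Finset (Fin (m + 1)) => j ∈ S) P hj, Multiset.card_cons, add_comm]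
      · rw [if_neg hj, Multiset.filter_cons_of_neg (p := fun S : Finset (Fin (m + 1)) => j ∈ S) P hj, zero_add]
  constructor
  · intro hst
    refine ⟨Module.finrank K V * (Module.finrank K V + 1), Module.finrank K V, hn,
      Nat.le_mul_of_pos_right _ (Nat.succ_pos _), fun i => ?_⟩
    obtain ⟨p, hp⟩ : ∃ p, p + 1 = (m + 1) * (Module.finrank K V + 1) :=
      ⟨(m + 1) * (Module.finrank K V + 1) - 1, Nat.sub_add_cancel (Nat.one_le_iff_ne_zero.2 (Nat.mul_ne_zero (Nat.succ_ne_zero _) (Nat.succ_ne_zero _)))⟩
    set n := Module.finrank K V with hndef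
    let w : Fin (m + 1) → ℕ := fun j => if j = i then n * (n + 1) - n else n * (n + 1)
    have hwtot : (∑ j, w j) = p * n := by
      have h1 : (∑ j, w j) + n = (m + 1) * (n * (n + 1)) := by
        have : ∀ j, w j + (if j = i then n else 0) = n * (n + 1) := fun j => by
          by_cases hj : j = i
          · simp only [w, if_pos hj]
            exact Nat.sub_add_cancel (Nat.le_mul_of_pos_right _ (Nat.succ_pos _))
          · simp only [w, if_neg hj, add_zero]
        have h2 := Finset.sum_congr (s₁ := (Finset.univ : Finset (Fin (m + 1)))) rfl fun j _ => this j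
        rw [Finset.sum_add_distrib, Finset.sum_ite_eq' Finset.univ i, if_pos (Finset.mem_univ i), Finset.sum_const,
          Finset.card_univ, Fintype.card_fin, smul_eq_mul] at h2
        exact h2
      have h3 : (m + 1) * (n * (n + 1)) = (p + 1) * n := by rw [hp]; ring
      rw [h3, add_mul, one_mul] at h1
      omega
    have hcond : ∀ J : Finset (Σ j, Fin (w j)),
        J.card ≤ p * Module.finrank K ↥(Submodule.span K ((fun e => x e.1) '' (↑J : Set (Σ j, Fin (w j))))) := by
      intro J
      set L := Submodule.span K ((fun e => x e.1) '' (↑J : Set (Σ j, Fin (w j)))) with hLdef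
      set A := J.image Sigma.fst with hAdef
      have hmem : ∀ j ∈ A, x j ∈ L := fun j hj => by
        obtain ⟨e, he, rfl⟩ := Finset.mem_image.1 hj
        exact Submodule.subset_span ⟨e, he, rfl⟩
      have hJA : J.card ≤ ∑ j ∈ A, w j := by
        refine le_trans (Finset.card_le_card (t := A.sigma fun j => (Finset.univ : Finset (Fin (w j))))
          fun e he => Finset.mem_sigma.2 ⟨Finset.mem_image_of_mem _ he, Finset.mem_univ _⟩) ?_
        simp
      rcases eq_or_ne L ⊤ with hT | hT
      · rw [hT, finrank_top, ← hndef, ← hwtot]
        exact hJA.trans (Finset.sum_le_sum_of_subset (Finset.subset_univ A))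
      rcases eq_or_ne L ⊥ with hB | hB
      · have hA0 : A = ∅ := Finset.eq_empty_of_forall_notMem fun j hj => hx j (by simpa [hB] using hmem j hj)
        rw [hA0, Finset.sum_empty] at hJA
        omega
      have hlt := hst L hB hT
      set d := Module.finrank K L with hddef
      have hcard : A.card ≤ Set.ncard {j : Fin (m + 1) | x j ∈ L} := by
        rw [← Set.ncard_coe_finset]
        exact Set.ncard_le_ncard (fun j hj => hmem j hj) (Set.toFinite _)
      have hd : d ≤ n := Submodule.finrank_le L
      have hs : (∑ j ∈ A, w j) ≤ A.card * (n * (n + 1)) := by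
        have := Finset.sum_le_card_nsmul A w (n * (n + 1)) fun j _ => by
          by_cases hj : j = i
          · simp only [w, if_pos hj]; exact Nat.sub_le _ _
          · simp only [w, if_neg hj, le_refl]
        simpa [smul_eq_mul] using this
      have hk : A.card * n + 1 ≤ d * (m + 1) :=
        le_trans (Nat.add_le_add_right (Nat.mul_le_mul_right n hcard) 1) hlt
      have h4 : A.card * n * (n + 1) + (n + 1) ≤ d * (p + 1) := by
        rw [hp, ← mul_assoc]
        have := Nat.mul_le_mul_right (n + 1) hk
        rw [add_mul, one_mul] at this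
        exact this
      rw [mul_comm p d]
      rw [mul_add d p 1, mul_one] at h4
      rw [← mul_assoc] at hs
      omega
    obtain ⟨c, hc⟩ := Rado27.exists_colouring p (fun e : (Σ j, Fin (w j)) => x e.1) hcond
    let S : Fin p → Finset (Fin (m + 1)) := fun q => (Finset.univ.filter fun e => c e = q).image Sigma.fst
    have hinj : ∀ q, ∀ e e', c e = q → c e' = q → (e : Σ j, Fin (w j)).1 = e'.1 → e = e' := by
      intro q e e' he he' h
      have := (hc q).injective (a₁ := ⟨e, he⟩) (a₂ := ⟨e', he'⟩) (congrArg x h)
      exact congrArg Subtype.val this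
    have hli : ∀ q, LinearIndependent K (fun j : S q => x j) := by
      intro q
      have hs : ∀ j : S q, ∃ e : {e // c e = q}, e.1.1 = (j : Fin (m + 1)) := fun j => by
        obtain ⟨e, he, h⟩ := Finset.mem_image.1 j.2
        exact ⟨⟨e, (Finset.mem_filter.1 he).2⟩, h⟩
      choose g hg using hs
      have hgi : Function.Injective g := fun a b h => Subtype.ext (by rw [← hg a, ← hg b, h])
      have := (hc q).comp g hgi
      convert this using 1
      funext j
      simp [hg j]
    have hcard : ∀ q, (S q).card = (Finset.univ.filter fun e : (Σ j, Fin (w j)) => c e = q).card := fun q =>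
      Finset.card_image_of_injOn fun e he e' he' h =>
        hinj q e e' (Finset.mem_filter.1 he).2 (Finset.mem_filter.1 he').2 h
    have hle : ∀ q, (S q).card ≤ n := fun q => by
      have := (hli q).fintype_card_le_finrank
      rwa [Fintype.card_coe] at this
    have htot : (∑ q, (S q).card) = ∑ _q : Fin p, n := by
      simp only [hcard]
      rw [← Finset.card_eq_sum_card_fiberwise (fun e _ => Finset.mem_univ (c e)), Finset.card_univ, Fintype.card_sigma,
        Finset.sum_const, Finset.card_univ, Fintype.card_fin, smul_eq_mul]
      simpa using hwtot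
    have heq := (Finset.sum_eq_sum_iff_of_le fun q _ => hle q).1 htot
    refine ⟨(Finset.univ : Finset (Fin p)).val.map S, ?_, ?_, fun j => ?_⟩
    · intro h
      have h1 := congrArg Multiset.card h
      simp at h1
      subst h1
      have : (m + 1) * (n + 1) ≥ 2 := le_trans (by omega : 2 ≤ 1 * (n + 1)) (Nat.mul_le_mul_right _ (by omega))
      omega
    · intro T hT
      obtain ⟨q, -, rfl⟩ := Multiset.mem_map.1 hT
      exact ⟨heq q (Finset.mem_univ q), hli q⟩
    · rw [Multiset.filter_map, Multiset.card_map]
      change (Finset.univ.filter fun q => j ∈ S q).card = _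
      have hw : w j = if j = i then n * (n + 1) - n else n * (n + 1) := rfl
      rw [← hw]
      refine ((Finset.card_univ.trans (Fintype.card_fin (w j))).symm.trans ?_).symm
      refine Finset.card_bij (fun a _ => c ⟨j, a⟩) ?_ ?_ ?_
      · intro a _
        exact Finset.mem_filter.2 ⟨Finset.mem_univ _, Finset.mem_image.2 ⟨⟨j, a⟩, Finset.mem_filter.2 ⟨Finset.mem_univ _, rfl⟩, rfl⟩⟩
      · intro a _ b _ h
        have := hinj _ ⟨j, a⟩ ⟨j, b⟩ rfl h.symm rfl
        simpa using this
      · intro q hq
        obtain ⟨⟨j', a⟩, he, h⟩ := Finset.mem_image.1 (Finset.mem_filter.1 hq).2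
        simp only at h
        subst h
        exact ⟨a, Finset.mem_univ _, (Finset.mem_filter.1 he).2⟩
  · rintro ⟨N, N₀, hN₀, hNN, hP⟩ L hLb hLt
    set n := Module.finrank K V
    set A := (Finset.univ : Finset (Fin (m + 1))).filter (fun j => x j ∈ L) with hA
    have hAc : Set.ncard {j : Fin (m + 1) | x j ∈ L} = A.card := by
      rw [← Set.ncard_coe_finset, hA, Finset.coe_filter_univ]
    rw [hAc]
    set d := Module.finrank K L
    have hd : d < n := Submodule.finrank_lt hLt
    have hd0 : 0 < d := Nat.pos_of_ne_zero fun h => hLb (Submodule.finrank_eq_zero.1 h)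
    have hinter : ∀ S : Finset (Fin (m + 1)), LinearIndependent K (fun j : S => x j) → (S ∩ A).card ≤ d := by
      intro S hS
      let g : ↥(S ∩ A) → L := fun j => ⟨x j, (Finset.mem_filter.1 (Finset.mem_inter.1 j.2).2).2⟩
      have h1 : LinearIndependent K g := by
        refine LinearIndependent.of_comp L.subtype ?_
        exact hS.comp (fun j : ↥(S ∩ A) => (⟨j.1, (Finset.mem_inter.1 j.2).1⟩ : S))
          fun a b h => Subtype.ext (congrArg (fun z : S => z.1) h)
      have h2 := h1.fintype_card_le_finrank
      rwa [Fintype.card_coe] at h2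
    have hi : ∃ i, i ∉ A := by
      by_contra hc
      simp only [not_exists, not_not] at hc
      obtain ⟨P, hP0, hPS, -⟩ := hP 0
      obtain ⟨S, hS⟩ := Multiset.exists_mem_of_ne_zero hP0
      obtain ⟨hScard, hSli⟩ := hPS S hS
      have h1 := hinter S hSli
      rw [Finset.inter_eq_left.2 fun j _ => hc j, hScard] at h1
      omega
    obtain ⟨i, hi⟩ := hi
    obtain ⟨P, -, hPS, hcnt⟩ := hP i
    have h1 : A.card * N ≤ Multiset.card P * d := by
      calc A.card * N = ∑ j ∈ A, Multiset.card (P.filter (fun S => j ∈ S)) := by
            rw [Finset.sum_congr rfl fun j hj => (hcnt j).trans (if_neg fun he : j = i => hi (he ▸ hj)), Finset.sum_const,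
              smul_eq_mul]
        _ = _ := hswap P A
        _ ≤ Multiset.card (P.map fun S => (S ∩ A).card) • d := Multiset.sum_le_card_nsmul _ _ (by
            intro z hz
            obtain ⟨S, hS, rfl⟩ := Multiset.mem_map.1 hz
            exact hinter S (hPS S hS).2)
        _ = _ := by rw [Multiset.card_map, smul_eq_mul]
    have h2 : Multiset.card P * n + N₀ = (m + 1) * N := by
      have h3 : (∑ j, Multiset.card (P.filter (fun S => j ∈ S))) = Multiset.card P * n := by
        rw [hswap, Multiset.map_congr rfl fun S hS => by rw [Finset.inter_univ, (hPS S hS).1], Multiset.map_const',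
          Multiset.sum_replicate, smul_eq_mul]
      rw [← h3, Finset.sum_congr rfl fun j _ => hcnt j]
      have h4 : ∀ j, (if j = i then N - N₀ else N) + (if j = i then N₀ else 0) = N := fun j => by
        by_cases hj : j = i
        · simp only [if_pos hj]; omega
        · simp only [if_neg hj, add_zero]
      have h5 := Finset.sum_congr (s₁ := (Finset.univ : Finset (Fin (m + 1)))) rfl fun j _ => h4 j
      rw [Finset.sum_add_distrib, Finset.sum_ite_eq' Finset.univ i, if_pos (Finset.mem_univ i), Finset.sum_const,
        Finset.card_univ, Fintype.card_fin, smul_eq_mul] at h5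
      exact h5
    by_contra hge
    rw [not_lt] at hge
    have h6 : d * (m + 1) * N ≤ Multiset.card P * d * n :=
      (Nat.mul_le_mul_right N hge).trans (le_of_eq_of_le (by ring) (Nat.mul_le_mul_right n h1))
    have h7 : d * (m + 1) * N = Multiset.card P * d * n + d * N₀ := by
      rw [mul_assoc, ← h2]; ring
    have := Nat.mul_pos hd0 hN₀
    omega

end Groth.Agent.S12552
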