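import Groth.Statements.S12553
import Groth.Agent.Lib.Comod.Coeff
import Mathlib.RingTheory.Coalgebra.GroupLike
import Mathlib.RingTheory.Flat.Domain

set_option autoImplicit false
universe u
open TensorProduct LaurentPolynomial
open GIT

namespace Groth.Agent.S12553

theorem weights (k : Type u) [Field k]
    (A : Type u) [CommRing A] [HopfAlgebra k A] (hdiag : HopfRep.IsDiagonalizable k A)
    (ι : Type u) [Fintype ι] [DecidableEq ι] [HopfRep.Comod k A (MvPolynomial ι k)] [GLin.IsCoactAlg k A (MvPolynomial ι k)]
    (hlin : GLin.IsLinear k A ι) :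
    ∃ (N : ℕ) (χ : Fin N → A) (P : Fin N → Matrix ι ι k), (∀ j, IsGroupLikeElem k (χ j)) ∧
      (∀ i, HopfRep.Comod.coact (k := k) (A := A) (MvPolynomial.X i : MvPolynomial ι k) =
        ∑ l, (MvPolynomial.X l : MvPolynomial ι k) ⊗ₜ[k] ∑ j, P j l i • χ j) ∧
      (∀ a b, P a * P b = if a = b then P a else 0) ∧ ∑ j, P j = 1 := by
  classical
  choose m hm using hlin
  let φ : ι → Module.Dual k (MvPolynomial ι k) := fun l => MvPolynomial.lcoeff k (Finsupp.single l 1)
  have hcf : ∀ i l, GrothLib.Comodule.cfMap (C := A) (φ l) (MvPolynomial.X i) = m i l := fun i l => by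
    rw [GrothLib.Comodule.cfMap_apply, hm, map_sum, map_sum, Finset.sum_eq_single l]
    · simp [φ]
    · intro j _ hj
      simp [φ, MvPolynomial.coeff_X', Finsupp.single_left_inj one_ne_zero, hj]
    · exact fun h => absurd (Finset.mem_univ _) h
  have hΔ : ∀ l i, Coalgebra.comul (R := k) (m i l) = ∑ j, m j l ⊗ₜ[k] m i j := fun l i => by
    have h := LinearMap.congr_fun (GrothLib.Comodule.isComodHom_cfMap (C := A) (φ l)) (MvPolynomial.X i)
    change Coalgebra.comul (R := k) (GrothLib.Comodule.cfMap (C := A) (φ l) (MvPolynomial.X i)) =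
      (GrothLib.Comodule.cfMap (C := A) (φ l)).rTensor A
        (HopfRep.Comod.coact (k := k) (A := A) (MvPolynomial.X i : MvPolynomial ι k)) at h
    rw [hcf, hm, map_sum] at h
    simp only [LinearMap.rTensor_tmul, hcf] at h
    exact h
  have hε : ∀ l i, Coalgebra.counit (R := k) (m i l) = if l = i then (1 : k) else 0 := fun l i => by
    have h := GrothLib.Comodule.counit_cfMap (C := A) (φ l) (MvPolynomial.X i)
    rw [hcf] at h
    refine h.trans ?_
    simp [φ, MvPolynomial.coeff_X', Finsupp.single_left_inj one_ne_zero, eq_comm]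
  have hspan : ∀ i l, ∃ c : A →₀ k, (↑c.support ⊆ {a : A | IsGroupLikeElem k a}) ∧
      (c.sum fun x r => r • x) = m i l := fun i l =>
    Submodule.mem_span_set.1 ((hdiag : Submodule.span k {a : A | IsGroupLikeElem k a} = ⊤) ▸ Submodule.mem_top)
  choose c hc hcs using hspan
  let G₀ : Finset A := Finset.univ.biUnion fun p : ι × ι => (c p.1 p.2).support
  let e := G₀.equivFin
  let χ : Fin G₀.card → A := fun j => ((e.symm j : G₀) : A)
  have hχ : ∀ j, IsGroupLikeElem k (χ j) := fun j => by
    obtain ⟨p, -, hp⟩ := Finset.mem_biUnion.1 (e.symm j).2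
    exact hc p.1 p.2 hp
  let P : Fin G₀.card → Matrix ι ι k := fun j => Matrix.of fun l i => c i l (χ j)
  have hm' : ∀ i l, m i l = ∑ j, P j l i • χ j := fun i l => by
    have hsub : (c i l).support ⊆ G₀ :=
      Finset.subset_biUnion_of_mem (fun p : ι × ι => (c p.1 p.2).support) (Finset.mem_univ (i, l))
    rw [← hcs i l, Finsupp.sum_of_support_subset _ hsub (fun x r => r • x) (fun _ _ => zero_smul _ _), ← Finset.sum_coe_sort]
    exact (Equiv.sum_comp e.symm (fun x : G₀ => c i l (x : A) • (x : A))).symm
  have hinj : Function.Injective χ := fun a b h => e.symm.injective (Subtype.ext h)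
  have hli : LinearIndependent k χ :=
    (linearIndepOn_isGroupLikeElem (R := k) (A := A)).linearIndependent.comp (fun j => ⟨χ j, hχ j⟩)
      fun a b h => hinj (congrArg (fun z : {a : A | IsGroupLikeElem k a} => (z : A)) h)
  have hli2 := hli.tmul_of_isDomain hli
  refine ⟨_, χ, P, hχ, fun i => by rw [hm]; exact Finset.sum_congr rfl fun l _ => by rw [hm'], fun a b => ?_, ?_⟩
  · refine Matrix.ext fun l i => ?_
    have h0 : ∑ q : Fin G₀.card × Fin G₀.card, ((P q.1 * P q.2) l i - if q.1 = q.2 then P q.1 l i else 0) •
        (χ q.1 ⊗ₜ[k] χ q.2) = 0 := by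
      simp only [sub_smul, Finset.sum_sub_distrib, sub_eq_zero, Fintype.sum_prod_type, ite_smul, zero_smul,
        Finset.sum_ite_eq, Finset.mem_univ, if_true, Matrix.mul_apply, Finset.sum_smul]
      calc ∑ a, ∑ b, ∑ j, (P a l j * P b j i) • (χ a ⊗ₜ[k] χ b)
          = ∑ j, m j l ⊗ₜ[k] m i j := by
            rw [Finset.sum_comm_cycle]
            simp only [hm', TensorProduct.sum_tmul, TensorProduct.tmul_sum, TensorProduct.smul_tmul_smul]
            refine Finset.sum_congr rfl fun j _ => ?_
            first | rfl | exact Finset.sum_comm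
        _ = Coalgebra.comul (R := k) (m i l) := (hΔ l i).symm
        _ = _ := by
            rw [hm', map_sum]
            exact Finset.sum_congr rfl fun j _ => by rw [map_smul, (hχ j).comul_eq_tmul_self]
    have := Fintype.linearIndependent_iff.1 hli2 _ h0 (a, b)
    rw [sub_eq_zero] at this
    rw [this]
    dsimp only
    split_ifs <;> rfl
  · refine Matrix.ext fun l i => ?_
    rw [Matrix.sum_apply, Matrix.one_apply, ← hε l i, hm', map_sum]
    exact Finset.sum_congr rfl fun j _ => by rw [map_smul, (hχ j).counit_eq_one, smul_eq_mul, mul_one]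


/-- Let k be a field and T = Spec A a diagonalizable affine group (A a commutative Hopf algebra spanned
by its group-like elements, e.g. a torus) acting linearly on affine ι-space. Then there are finitely
many characters χ_1, …, χ_N of T (group-like elements of A) such that every vector v ≠ 0 has a
non-empty set I of indices for which, for every one-parameter subgroup λ of T with λ(χ_j) = t^(e_j),
the numerical function μ(v, λ) (the m for which t^m · (v moved by λ(t)) tends to a non-zero vector)
equals the maximum of −e_j over j ∈ I: μ is the maximum of finitely many linear functionals on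
one-parameter subgroups. (The published proposition concerns a maximal torus of a reductive group
acting on a proper scheme with an ample linearised invertible sheaf; this row is the case of
projective space with the hyperplane bundle, for any diagonalizable group acting linearly, stated on
the affine cone.) -/
theorem result (k : Type u) [Field k]
    (A : Type u) [CommRing A] [HopfAlgebra k A] (hdiag : HopfRep.IsDiagonalizable k A)
    (ι : Type u) [Fintype ι] [HopfRep.Comod k A (MvPolynomial ι k)] [GLin.IsCoactAlg k A (MvPolynomial ι k)]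
    (hlin : GLin.IsLinear k A ι) :
    ∃ (N : ℕ) (χ : Fin N → A), (∀ j, IsGroupLikeElem k (χ j)) ∧
      ∀ v : ι → k, v ≠ 0 → ∃ I : Finset (Fin N), I.Nonempty ∧
        ∀ (lam : A →ₐc[k] k[T;T⁻¹]) (e : Fin N → ℤ), (∀ j, lam (χ j) = LaurentPolynomial.T (e j)) →
          ∀ m : ℤ, GLin.IsMu k A lam v m ↔ ((∀ j ∈ I, -e j ≤ m) ∧ ∃ j ∈ I, m = -e j) := by
  classical
  obtain ⟨N, χ, P, hχ, hco, hP, hsum⟩ := weights k A hdiag ι hlin
  refine ⟨N, χ, hχ, fun v hv => ⟨Finset.univ.filter fun j => Matrix.vecMul v (P j) ≠ 0, ?_, fun lam e he m => ?_⟩⟩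
  · by_contra hne
    rw [Finset.not_nonempty_iff_eq_empty, Finset.filter_eq_empty_iff] at hne
    apply hv
    rw [← Matrix.vecMul_one v, ← hsum, Matrix.vecMul_sum]
    exact Finset.sum_eq_zero fun j hj => not_not.1 (hne hj)
  have hval : ∀ i, GLin.lamOrbit k A lam (GLin.vecPt k ι v) (MvPolynomial.X i) =
      ∑ j, LaurentPolynomial.C (Matrix.vecMul v (P j) i) * LaurentPolynomial.T (e j) := fun i => by
    have h1 : GLin.orbitHom k A (GLin.vecPt k ι v) (MvPolynomial.X i) = ∑ j, Matrix.vecMul v (P j) i • χ j := by
      simp only [GLin.orbitHom, AlgHom.comp_apply, GLin.coactAlgHom_apply, hco, map_sum]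
      simp [Matrix.vecMul, dotProduct, Finset.sum_smul, Finset.smul_sum, smul_smul]
      rw [Finset.sum_comm]
    rw [GLin.lamOrbit, AlgHom.comp_apply, h1, map_sum]
    refine Finset.sum_congr rfl fun j _ => ?_
    rw [map_smul, Algebra.smul_def]
    exact congrArg _ (he j)
  have hcoef : ∀ i n, (LaurentPolynomial.T m * GLin.lamOrbit k A lam (GLin.vecPt k ι v) (MvPolynomial.X i)).coeff n =
      Matrix.vecMul v (∑ j ∈ Finset.univ.filter (fun j => m + e j = n), P j) i := fun i n => by
    rw [hval, Finset.mul_sum, AddMonoidAlgebra.coeff_sum, Finset.sum_apply', Matrix.vecMul_sum, Finset.sum_apply,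
      Finset.sum_filter]
    refine Finset.sum_congr rfl fun j _ => ?_
    rw [mul_left_comm, ← LaurentPolynomial.T_add, ← LaurentPolynomial.single_eq_C_mul_T, AddMonoidAlgebra.coeff_single,
      Finsupp.single_apply]
  have hproj : ∀ (S : Finset (Fin N)) j, j ∈ S → Matrix.vecMul v (P j) ≠ 0 → Matrix.vecMul v (∑ b ∈ S, P b) ≠ 0 := by
    intro S j hj hne h0
    apply hne
    have h1 := congrArg (fun w => Matrix.vecMul w (P j)) h0
    simpa [Matrix.vecMul_vecMul, Finset.sum_mul, hP, Finset.sum_ite_eq', hj] using h1
  constructor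
  · rintro ⟨q, hq, hq0⟩
    have hqi : ∀ i, Polynomial.toLaurent (q (MvPolynomial.X i)) =
        LaurentPolynomial.T m * GLin.lamOrbit k A lam (GLin.vecPt k ι v) (MvPolynomial.X i) := fun i => by
      have := AlgHom.congr_fun hq (MvPolynomial.X i)
      rwa [AlgHom.comp_apply, GLin.shiftedOrbit, MvPolynomial.aeval_X, Polynomial.toLaurentAlg_apply] at this
    have hneg : ∀ (Q : Polynomial k) (n : ℤ), n < 0 → (Polynomial.toLaurent Q).coeff n = 0 := by
      intro Q n hn
      induction Q using Polynomial.induction_on' with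
      | add a b ha hb => rw [map_add, AddMonoidAlgebra.coeff_add, Finsupp.add_apply, ha, hb, add_zero]
      | monomial l b =>
        rw [← Polynomial.C_mul_X_pow_eq_monomial, Polynomial.toLaurent_C_mul_X_pow, ← LaurentPolynomial.single_eq_C_mul_T,
          AddMonoidAlgebra.coeff_single, Finsupp.single_eq_of_ne (by omega)]
    have h0 : ∀ (Q : Polynomial k), (Polynomial.toLaurent Q).coeff 0 = Polynomial.aeval (0 : k) Q := by
      intro Q
      induction Q using Polynomial.induction_on' with
      | add a b ha hb => rw [map_add, AddMonoidAlgebra.coeff_add, Finsupp.add_apply, ha, hb, map_add]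
      | monomial l b =>
        rw [← Polynomial.C_mul_X_pow_eq_monomial, Polynomial.toLaurent_C_mul_X_pow, ← LaurentPolynomial.single_eq_C_mul_T,
          AddMonoidAlgebra.coeff_single]
        rcases Nat.eq_zero_or_pos l with rfl | hl
        · simp
        · rw [Finsupp.single_eq_of_ne (by omega)]
          simp [zero_pow hl.ne']
    constructor
    · intro j hj
      by_contra hlt
      refine hproj (Finset.univ.filter fun b => m + e b = m + e j) j (by simp) (Finset.mem_filter.1 hj).2 ?_
      funext i
      rw [← hcoef, ← hqi]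
      exact hneg _ _ (by omega)
    · by_contra hne
      push Not at hne
      refine hq0 (MvPolynomial.algHom_ext fun i => ?_)
      rw [AlgHom.comp_apply, ← h0, hqi, hcoef, MvPolynomial.aeval_X, Matrix.vecMul_sum, Finset.sum_apply]
      refine Finset.sum_eq_zero fun j hj => ?_
      by_contra hj0
      exact hne j (Finset.mem_filter.2 ⟨Finset.mem_univ _, fun h => hj0 (congrFun h i)⟩)
        (by have := (Finset.mem_filter.1 hj).2; omega)
  · rintro ⟨hge, j₀, hj₀, hm₀⟩
    refine ⟨MvPolynomial.aeval fun i => ∑ j, Polynomial.C (Matrix.vecMul v (P j) i) * Polynomial.X ^ (m + e j).toNat,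
      MvPolynomial.algHom_ext fun i => ?_, fun h0 => ?_⟩
    · rw [AlgHom.comp_apply, MvPolynomial.aeval_X, GLin.shiftedOrbit, MvPolynomial.aeval_X, hval, map_sum, Finset.mul_sum]
      refine Finset.sum_congr rfl fun j _ => ?_
      rw [Polynomial.toLaurentAlg_apply, Polynomial.toLaurent_C_mul_X_pow]
      by_cases hz : Matrix.vecMul v (P j) = 0
      · simp [hz]
      · have := hge j (Finset.mem_filter.2 ⟨Finset.mem_univ _, hz⟩)
        rw [Int.toNat_of_nonneg (by omega), mul_left_comm, LaurentPolynomial.T_add]
    · refine hproj (Finset.univ.filter fun b => m + e b = 0) j₀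
        (Finset.mem_filter.2 ⟨Finset.mem_univ _, by omega⟩) (Finset.mem_filter.1 hj₀).2 ?_
      funext i
      have h1 := AlgHom.congr_fun h0 (MvPolynomial.X i)
      simp only [AlgHom.comp_apply, MvPolynomial.aeval_X, map_sum, map_mul, map_pow, Polynomial.aeval_C,
        Polynomial.aeval_X] at h1
      rw [Pi.zero_apply, ← h1, Matrix.vecMul_sum, Finset.sum_apply, Finset.sum_filter]
      refine Finset.sum_congr rfl fun j _ => ?_
      split_ifs with hj
      · simp [hj]
      · by_cases hz : Matrix.vecMul v (P j) = 0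
        · simp [hz]
        · have := hge j (Finset.mem_filter.2 ⟨Finset.mem_univ _, hz⟩)
          simp [zero_pow (show (m + e j).toNat ≠ 0 by omega)]

end Groth.Agent.S12553
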