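import Groth.Statements.S12556
import Groth.Agent.Lib.Comod.Reynolds
import Groth.Agent.S18834

set_option autoImplicit false
universe u
open TensorProduct
open GIT

namespace Groth.Agent.S12556

/-- Let k be a field, G = Spec A a linearly reductive affine group (A a commutative Hopf algebra whose
finite-dimensional comodules are all semisimple) acting on the affine scheme Spec R (a
multiplicative coaction of A on the commutative k-algebra R), and E : R → R a linear map commuting
with the coaction, idempotent, and fixing exactly the invariant elements. Then E(x · y) = E(x) · y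
for all x in R and all invariant y. -/
theorem result (k : Type u) [Field k] (A : Type u) [CommRing A] [HopfAlgebra k A]
    (hG : HopfRep.IsLinearlyReductive k A)
    (R : Type u) [CommRing R] [Algebra k R] [HopfRep.Comod k A R] [GLin.IsCoactAlg k A R]
    (E : R →ₗ[k] R) (h₁ : Hoch.IsComodHom A E) (h₂ : E ∘ₗ E = E)
    (h₃ : ∀ x : R, E x = x ↔ x ∈ GLin.invariants k A R)
    (x y : R) (hy : y ∈ GLin.invariants k A R) : E (x * y) = E x * y := by
  rw [GrothLib.Comodule.Reynolds.eq_reynolds hG h₁ h₂ h₃, mul_comm x y, mul_comm _ y]
  exact GrothLib.Comodule.Reynolds.reynolds_comm hG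
    (Groth.Agent.S18834.isComodHom_mulLeft k A R hy) x

end Groth.Agent.S12556
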