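import Groth.Statements.S6485
-- import your own Groth.Agent.* helpers here
import Mathlib.Algebra.MvPolynomial.Monad
import Mathlib.Algebra.MvPolynomial.Nilpotent
import Mathlib.LinearAlgebra.Matrix.MvPolynomial
import Mathlib.LinearAlgebra.Matrix.Permutation
import Mathlib.Algebra.Polynomial.AlgebraMap
import Mathlib.Algebra.MvPolynomial.Variables
import Mathlib.Algebra.Polynomial.Degree.Domain

set_option autoImplicit false
universe u
open IntMult

namespace Groth.Agent.S6485

/-- Let k be a field and n ≥ 1. Then the determinant of the generic matrix (x_{ij})_{1 ≤ i, j ≤ n} is an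
irreducible element of the polynomial ring k[x_{ij}] (Mathlib's Matrix.mvPolynomialX is the generic
matrix over MvPolynomial (Fin n × Fin n) k). -/
theorem result (k : Type u) [Field k] (n : ℕ) (hn : 1 ≤ n) : Irreducible (Matrix.mvPolynomialX (Fin n) (Fin n) k).det := by
  classical
  set D := (Matrix.mvPolynomialX (Fin n) (Fin n) k).det with hD
  have hev : ∀ M : Matrix (Fin n) (Fin n) k,
      MvPolynomial.eval (fun v : Fin n × Fin n => M v.1 v.2) D = M.det := fun M => by
    rw [hD, RingHom.map_det, Matrix.mvPolynomialX_mapMatrix_eval]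
  have hperm : ∀ i j : Fin n, (i, j) ∈ D.vars := by
    intro i j
    by_contra hij
    have key : MvPolynomial.eval (fun v : Fin n × Fin n =>
          ((Equiv.swap i j).permMatrix k : Matrix (Fin n) (Fin n) k) v.1 v.2) D =
        MvPolynomial.eval (fun v : Fin n × Fin n =>
          (Matrix.updateRow ((Equiv.swap i j).permMatrix k) i (0 : Fin n → k)) v.1 v.2) D := by
      refine MvPolynomial.eval₂Hom_congr' rfl (fun v hv _ => ?_) rfl
      obtain ⟨a, b⟩ := v
      by_cases ha : a = i
      · subst ha
        have hb : b ≠ j := fun hb => hij (hb ▸ hv)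
        simp [Equiv.Perm.permMatrix, PEquiv.toMatrix_apply, Equiv.swap_apply_left, hb.symm]
      · simp [Matrix.updateRow_ne ha]
    rw [hev, hev, Matrix.det_permutation, Matrix.det_eq_zero_of_row_eq_zero i fun l => by simp] at key
    exact (Units.map (Int.castRingHom k : ℤ →* k) (Equiv.Perm.sign (Equiv.swap i j))).ne_zero key
  have hD0 : D ≠ 0 := fun h => by
    have := hperm ⟨0, by omega⟩ ⟨0, by omega⟩
    simp [h] at this
  have dich : ∀ (w : Fin n × Fin n → Bool),
      (MvPolynomial.aeval (fun v => if w v then Polynomial.X * Polynomial.C (MvPolynomial.X v)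
        else Polynomial.C (MvPolynomial.X v)) : MvPolynomial (Fin n × Fin n) k →ₐ[k]
          Polynomial (MvPolynomial (Fin n × Fin n) k)) D = Polynomial.X * Polynomial.C D →
      ∀ p q, D = p * q → (∀ v, w v = true → v ∉ p.vars) ∨ (∀ v, w v = true → v ∉ q.vars) := by
    intro w hw p q hpq
    set φ := (MvPolynomial.aeval (fun v => if w v then Polynomial.X * Polynomial.C (MvPolynomial.X v)
        else Polynomial.C (MvPolynomial.X v)) : MvPolynomial (Fin n × Fin n) k →ₐ[k]
          Polynomial (MvPolynomial (Fin n × Fin n) k))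
    have h0 : φ p * φ q ≠ 0 := by
      rw [← map_mul, ← hpq, hw]
      exact mul_ne_zero Polynomial.X_ne_zero (by simpa using hD0)
    have hdeg : (φ p).natDegree + (φ q).natDegree = 1 := by
      rw [← Polynomial.natDegree_mul (left_ne_zero_of_mul h0) (right_ne_zero_of_mul h0), ← map_mul,
        ← hpq, hw, Polynomial.natDegree_X_mul (by simpa using hD0), Polynomial.natDegree_C]
    have hfree : ∀ r, (φ r).natDegree = 0 → ∀ v, w v = true → v ∉ r.vars := by
      intro r hr v hv hmem
      obtain ⟨c, hc⟩ := Polynomial.natDegree_eq_zero.1 hr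
      have e1 : MvPolynomial.aeval (fun u => MvPolynomial.X u) r = c := by
        have h := congr_arg ((Polynomial.aeval (1 : MvPolynomial (Fin n × Fin n) k)).restrictScalars k) hc
        simp only [φ, MvPolynomial.comp_aeval_apply] at h
        simp only [AlgHom.restrictScalars_apply, Polynomial.aeval_C, Algebra.algebraMap_self,
          RingHom.id_apply] at h
        rw [h]
        congr 1
        refine MvPolynomial.algHom_ext fun u => ?_
        rw [MvPolynomial.aeval_X, MvPolynomial.aeval_X]
        split <;> simp
      have e2 : MvPolynomial.aeval (fun u => if w u then 0 else MvPolynomial.X u) r = c := by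
        have h := congr_arg ((Polynomial.aeval (0 : MvPolynomial (Fin n × Fin n) k)).restrictScalars k) hc
        simp only [φ, MvPolynomial.comp_aeval_apply] at h
        simp only [AlgHom.restrictScalars_apply, Polynomial.aeval_C, Algebra.algebraMap_self,
          RingHom.id_apply] at h
        rw [h]
        congr 1
        refine MvPolynomial.algHom_ext fun u => ?_
        rw [MvPolynomial.aeval_X, MvPolynomial.aeval_X]
        split <;> simp
      rw [MvPolynomial.aeval_X_left_apply] at e1
      rw [← e1] at e2
      rw [← e2] at hmem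
      have hsub := MvPolynomial.vars_bind₁ (fun u => if w u then 0 else MvPolynomial.X u) r
      have := hsub hmem
      rw [Finset.mem_biUnion] at this
      obtain ⟨u, -, hu⟩ := this
      by_cases hwu : w u = true
      · simp [hwu] at hu
      · simp [hwu] at hu
        subst hu
        exact hwu hv
    rcases Nat.eq_zero_or_pos (φ p).natDegree with h | h
    · exact Or.inl (hfree p h)
    · exact Or.inr (hfree q (by omega))
  have hrow : ∀ i : Fin n, ∀ p q, D = p * q →
      (∀ j, (i, j) ∉ p.vars) ∨ (∀ j, (i, j) ∉ q.vars) := by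
    intro i p q hpq
    refine (dich (fun v => decide (v.1 = i)) ?_ p q hpq).imp
      (fun h j => h (i, j) (by simp)) (fun h j => h (i, j) (by simp))
    rw [hD, AlgHom.map_det, RingHom.map_det]
    rw [← Matrix.updateRow_eq_self ((Polynomial.C : MvPolynomial (Fin n × Fin n) k →+* _).mapMatrix
      (Matrix.mvPolynomialX (Fin n) (Fin n) k)) i, ← Matrix.det_updateRow_smul]
    congr 1
    ext a b
    by_cases ha : a = i
    · subst ha; simp
    · simp [ha]
  have hcol : ∀ j : Fin n, ∀ p q, D = p * q →
      (∀ i, (i, j) ∉ p.vars) ∨ (∀ i, (i, j) ∉ q.vars) := by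
    intro j p q hpq
    refine (dich (fun v => decide (v.2 = j)) ?_ p q hpq).imp
      (fun h i => h (i, j) (by simp)) (fun h i => h (i, j) (by simp))
    rw [hD, AlgHom.map_det, RingHom.map_det]
    rw [← Matrix.updateCol_eq_self ((Polynomial.C : MvPolynomial (Fin n × Fin n) k →+* _).mapMatrix
      (Matrix.mvPolynomialX (Fin n) (Fin n) k)) j, ← Matrix.det_updateCol_smul]
    congr 1
    ext a b
    by_cases hb : b = j
    · subst hb; simp
    · simp [hb]
  have hconst : ∀ r : MvPolynomial (Fin n × Fin n) k, r ∣ D → (∀ v, v ∉ r.vars) → IsUnit r := by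
    intro r hr hv
    have h : r = MvPolynomial.C (MvPolynomial.constantCoeff r) := by
      conv_lhs => rw [← MvPolynomial.aeval_X_left_apply r]
      rw [show MvPolynomial.C (MvPolynomial.constantCoeff r) =
          MvPolynomial.aeval (fun _ : Fin n × Fin n => (0 : MvPolynomial (Fin n × Fin n) k)) r from by
        rw [MvPolynomial.aeval_zero']; rfl]
      exact MvPolynomial.eval₂Hom_congr' rfl (fun v hmem _ => absurd hmem (hv v)) rfl
    rw [h]
    refine (isUnit_iff_ne_zero.2 fun h0 => ?_).map MvPolynomial.C
    rw [h0, map_zero] at h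
    rw [h, zero_dvd_iff] at hr
    exact hD0 hr
  refine ⟨fun hu => ?_, fun p q hpq => ?_⟩
  · have := hperm ⟨0, by omega⟩ ⟨0, by omega⟩
    obtain ⟨c, -, hc⟩ := MvPolynomial.isUnit_iff_eq_C_of_isReduced.1 hu
    rw [hc, MvPolynomial.vars_C] at this
    simp at this
  · by_cases hall : ∀ i j, (i, j) ∉ p.vars
    · exact Or.inl (hconst p ⟨q, hpq⟩ fun v => hall v.1 v.2)
    · push Not at hall
      obtain ⟨i, j₀, hij⟩ := hall
      have hq : ∀ j, (i, j) ∉ q.vars := (hrow i p q hpq).resolve_left fun h => h j₀ hij
      refine Or.inr (hconst q ⟨p, by rw [hpq, mul_comm]⟩ fun v => ?_)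
      rcases hcol v.2 p q hpq with h | h
      · exfalso
        have := hperm i v.2
        rw [hpq] at this
        rcases Finset.mem_union.1 (MvPolynomial.vars_mul p q this) with h' | h'
        · exact h i h'
        · exact hq _ h'
      · exact h v.1

end Groth.Agent.S6485
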