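import Groth.Statements.S12571
import Groth.Agent.Lib.LocRes.Diff

set_option autoImplicit false
universe u v w
open FunFld

namespace Groth.Agent.S12571

/-- The different exponent `d(Q|P) = v_Q(ω) - e(Q|P) v_P(ω)` of a place `Q` of a finite separable
extension `K'` of a geometric function field of one variable `K/k` over a place `P` does not depend
on the nonzero differential `ω` of `K` used; here `ω = dx` and `ω = dx'`, read through Laurent
expansions at `P` and at `Q` (separable places). (The published statement allows any finite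
extension along which differentials of `K` pull back injectively; this row takes `K'` separable over
`K`.) -/
theorem result (k : Type u) (K K' : Type v) [Field k] [Field K] [Field K'] [Algebra k K] [Algebra K K'] [Algebra k K']
    [IsScalarTower k K K'] [FiniteDimensional K K'] [Algebra.IsSeparable K K']
    (hK : FunFld.IsFunctionField k K) (hg : FunFld.IsGeometric k K)
    (F F' : Type w) [Field F] [Algebra k F] [Field F'] [Algebra k F']
    (P : FunFld.Place k K) (Q : FunFld.Place k K') (e : ℕ) (he : FunFld.IsOverWith Q P e)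
    (φ : K →ₐ[k] LaurentSeries F) (hφ : LocRes.IsExpansionAt P.1 φ)
    (ψ : K' →ₐ[k] LaurentSeries F') (hψ : LocRes.IsExpansionAt Q.1 ψ)
    (x : K) (hx : LocRes.vDiff φ 1 x ≠ 0) (hx' : LocRes.vDiff ψ 1 (algebraMap K K' x) ≠ 0)
    (x' : K) (hx2 : LocRes.vDiff φ 1 x' ≠ 0) (hx2' : LocRes.vDiff ψ 1 (algebraMap K K' x') ≠ 0) :
    LocRes.diffExp φ ψ e x = LocRes.diffExp φ ψ e x' := by
  have hfg := GrothLib.FunFld.IsFG.of_isFunctionField hK
  obtain ⟨c, hc⟩ := GrothLib.LocRes.exists_D_eq hfg hg
    (GrothLib.LocRes.D_ne_zero_of_vDiff_ne_zero φ hx) x'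
  have hc0 : c ≠ 0 := fun h => by
    rw [h, zero_smul] at hc
    exact GrothLib.LocRes.D_ne_zero_of_vDiff_ne_zero φ hx2 hc.symm
  letI : Algebra K (LaurentSeries F') := (ψ.toRingHom.comp (algebraMap K K')).toAlgebra
  have hψc : algebraMap K K' c • KaehlerDifferential.D k K' (algebraMap K K' x) =
      KaehlerDifferential.D k K' (algebraMap K K' x') := by
    have := congrArg (KaehlerDifferential.map k k K K') hc
    rwa [map_smul, KaehlerDifferential.map_D, KaehlerDifferential.map_D, ← algebraMap_smul K' c] at this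
  have h1 : P.1 c ≠ 0 := (Valuation.ne_zero_iff _).mpr hc0
  rw [LocRes.diffExp, LocRes.diffExp,
    GrothLib.LocRes.ordDiff_one_eq φ hc (by rwa [hφ.1]) hx,
    GrothLib.LocRes.ordDiff_one_eq ψ hψc (by rw [hψ.1, he]; exact pow_ne_zero _ h1) hx',
    hφ.1, hψ.1, he, WithZero.log_pow]
  simp only [nsmul_eq_mul, Nat.cast_id]
  ring

end Groth.Agent.S12571
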