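import Groth.Statements.S12573
import Groth.Agent.Lib.LocRes.DiffExpLocal

set_option autoImplicit false
universe u v w
open FunFld

namespace Groth.Agent.S12573

/-- For a place `Q` of a finite separable extension `K'` of a geometric function field of one variable
`K/k`, lying over `P` with ramification index `e = [K' : K]`, both places with Laurent expansions
over `k` in local parameters, and any local parameter `s` at `Q` with minimal polynomial `f` over
`K`: `v_Q(f'(s)) = d(Q|P)` (computed on `dx`). -/
theorem result (k : Type u) (K K' : Type v) [Field k] [Field K] [Field K'] [Algebra k K] [Algebra K K'] [Algebra k K']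
    [IsScalarTower k K K'] [FiniteDimensional K K'] [Algebra.IsSeparable K K']
    (hK : FunFld.IsFunctionField k K) (hg : FunFld.IsGeometric k K)
    (F F' : Type w) [Field F] [Algebra k F] [Field F'] [Algebra k F']
    (P : FunFld.Place k K) (Q : FunFld.Place k K') (e : ℕ) (he : FunFld.IsOverWith Q P e)
    (φ : K →ₐ[k] LaurentSeries F) (hφ : LocRes.IsExpansionAt P.1 φ)
    (ψ : K' →ₐ[k] LaurentSeries F') (hψ : LocRes.IsExpansionAt Q.1 ψ)
    (x : K) (hx : LocRes.vDiff φ 1 x ≠ 0) (hx' : LocRes.vDiff ψ 1 (algebraMap K K' x) ≠ 0)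
    (hn : e = Module.finrank K K') (s : K') (hs : Q.1 s = WithZero.exp (-1)) :
    Q.ord (Polynomial.aeval s (Polynomial.derivative (minpoly K s))) = LocRes.diffExp φ ψ e x := by
  have hKfg := hK.1
  obtain ⟨hdeg, huniq⟩ := GrothLib.LocRes.totallyRamified hKfg he hn
  exact GrothLib.LocRes.ord_derivative_eq_diffExp hKfg he hs (fun Q' hQ' hne => absurd (huniq Q' hQ') hne) hdeg hg hφ hψ hx hx'

end Groth.Agent.S12573
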