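import Groth.Statements.S12577
import Groth.Agent.Lib.LocRes.RamificationSum

set_option autoImplicit false
universe u v w
open FunFld

namespace Groth.Agent.S12577

/-- For a place `Q` of a finite Galois extension `K'` of a geometric function field of one variable
`K/k`, lying over `P` with ramification index `e`, both places with Laurent expansions over `k` in
local parameters (separable places), the different exponent is `d(Q|P) = ∑_{i ≥ 1} (|G_i| - 1)`,
where `G_i` is the `i`-th ramification group (automorphisms moving every element of `O_Q` by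
something of valuation at least `i`); `d(Q|P)` is computed on `dx`. -/
theorem result (k : Type u) (K K' : Type v) [Field k] [Field K] [Field K'] [Algebra k K] [Algebra K K'] [Algebra k K']
    [IsScalarTower k K K'] [FiniteDimensional K K'] (hK : FunFld.IsFunctionField k K) (hg : FunFld.IsGeometric k K)
    [IsGalois K K']
    (F F' : Type w) [Field F] [Algebra k F] [Field F'] [Algebra k F']
    (P : FunFld.Place k K) (Q : FunFld.Place k K') (e : ℕ) (he : FunFld.IsOverWith Q P e)
    (φ : K →ₐ[k] LaurentSeries F) (hφ : LocRes.IsExpansionAt P.1 φ)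
    (ψ : K' →ₐ[k] LaurentSeries F') (hψ : LocRes.IsExpansionAt Q.1 ψ)
    (x : K) (hx : LocRes.vDiff φ 1 x ≠ 0) (hx' : LocRes.vDiff ψ 1 (algebraMap K K' x) ≠ 0) :
    (Function.support fun i : ℕ => (Nat.card {σ : K' ≃ₐ[K] K' //
        ∀ z : K', Q.1 z ≤ 1 → Q.1 (σ z - z) ≤ WithZero.exp (-(i : ℤ))} : ℤ) - 1).Finite ∧
    LocRes.diffExp φ ψ e x = ∑ᶠ i : ℕ, if 1 ≤ i then
      (Nat.card {σ : K' ≃ₐ[K] K' // ∀ z : K', Q.1 z ≤ 1 → Q.1 (σ z - z) ≤ WithZero.exp (-(i : ℤ))} : ℤ) - 1
      else 0 := by
  haveI := GrothLib.LocRes.isSeparable_residue (K := K) hK.1 hg hψ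
  obtain ⟨t, -, ht⟩ := GrothLib.FunFld.exists_val_eq P (-1)
  exact GrothLib.LocRes.diffExp_eq_finsum hK.1 he hg hφ hψ ht hx hx'

end Groth.Agent.S12577
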