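import Groth.Statements.S12579
import Groth.Agent.Lib.LocRes.ResidueTheorem

set_option autoImplicit false
universe u v w
open FunFld

namespace Groth.Agent.S12579

/-- For a function field of one variable `K/k` and `u, v ∈ K`, the local residues `Res_P(u dv)` vanish
for almost all places `P` and `∑_P Res_P(u dv) = 0`; stated through Laurent expansions over `k` at
every place (so for function fields all of whose places are separable), the residue at `P` being the
trace to `k` of the coefficient of `X⁻¹`. -/
theorem result (k : Type u) (K : Type v) [Field k] [Field K] [Algebra k K] (hK : FunFld.IsFunctionField k K)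
    (F : FunFld.Place k K → Type w) [∀ P, Field (F P)] [∀ P, Algebra k (F P)] [∀ P, FiniteDimensional k (F P)]
    (φ : ∀ P, K →ₐ[k] LaurentSeries (F P)) (hφ : ∀ P, LocRes.IsExpansionAt P.1 (φ P))
    (u v : K) :
    (Function.support fun P => LocRes.locRes (φ P) u v).Finite ∧ ∑ᶠ P, LocRes.locRes (φ P) u v = 0 := by
  exact GrothLib.LocRes.sum_locRes_eq_zero hφ hK u v

end Groth.Agent.S12579
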