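import Groth.Statements.S12581
import Groth.Agent.Lib.LocRes.ResidueTheorem

set_option autoImplicit false
universe u v w
open FunFld

namespace Groth.Agent.S12581

/-- For a geometric function field of one variable `K/k` and a nonzero differential `ω = u dv`, the
functional `α ↦ ∑_P Res_P(α_P ω)` on repartitions is a nonzero Weil differential whose divisor is
`[ω] = ∑_P v_P(ω) P`, `v_P(ω)` being the order of `u · dv/dt` in a local parameter `t`; stated
through Laurent expansions over `k` at every place (all places separable). (That `[ω]` is then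
canonical of degree `2g - 2` is the definition of canonical divisors together with Riemann–Roch.
That every Weil differential is of this form is not stated here.) -/
theorem result (k : Type u) (K : Type v) [Field k] [Field K] [Algebra k K] (hK : FunFld.IsFunctionField k K) (hg : FunFld.IsGeometric k K)
    (F : FunFld.Place k K → Type w) [∀ P, Field (F P)] [∀ P, Algebra k (F P)] [∀ P, FiniteDimensional k (F P)]
    (φ : ∀ P, K →ₐ[k] LaurentSeries (F P)) (hφ : ∀ P, LocRes.IsExpansionAt P.1 (φ P))
    (u v : K) (hu : u ≠ 0) (hv : KaehlerDifferential.D k K v ≠ 0) :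
    ∃ ω : Module.Dual k (FunFld.adele k K),
      (∀ a : FunFld.adele k K, (Function.support fun P => LocRes.locRes (φ P) ((a : FunFld.Place k K → K) P * u) v).Finite ∧
        ω a = ∑ᶠ P, LocRes.locRes (φ P) ((a : FunFld.Place k K → K) P * u) v) ∧
      FunFld.IsWeil ω ∧ ω ≠ 0 ∧
      (Function.support fun P => LocRes.ordDiff (φ P) u v).Finite ∧
      ∀ C : FunFld.Divisor k K, (∀ P, C P = LocRes.ordDiff (φ P) u v) → FunFld.IsDivOf ω C := by
  classical
  obtain ⟨ω, hW, hs, hsum⟩ := GrothLib.LocRes.exists_weil_mul hφ hK hg u v
  obtain ⟨h0, hdiv⟩ := GrothLib.LocRes.isDivOf_eq_ordDiff hφ hK hg hu hv hs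
  obtain ⟨C, hC⟩ := GrothLib.FunFld.exists_isDivOf' hK hW h0
  refine ⟨ω, hsum, hW, h0, C.finite_support.subset fun P hP => ?_, fun C' hC' => ?_⟩
  · rw [Function.mem_support, hdiv C hC P]; exact hP
  · rwa [show C' = C from Finsupp.ext fun P => (hC' P).trans (hdiv C hC P).symm]

end Groth.Agent.S12581
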