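import Groth.Statements.S12584
import Groth.Agent.Lib.LocRes.RegularHyper
import Groth.Agent.Lib.FunFld.HyperTransfer

set_option autoImplicit false
universe u v w
open FunFld

namespace Groth.Agent.S12584

/-- For `char k ≠ 2` and `K` of degree `2` over `k(x)` with `y² = f(x)`, `f` squarefree of degree `≥ 1`,
the forms `x^i dx/y`, `0 ≤ i < g`, are a `k`-basis of the regular differential forms: each is
regular, and every regular `z dx` has `z = a(x)/y` with `deg a < g`; regularity read through Laurent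
expansions over `k` at every place (all places separable). -/
theorem result (k : Type u) (K : Type v) [Field k] [Field K] [Algebra k K] [Algebra (RatFunc k) K] [IsScalarTower k (RatFunc k) K]
    (hK : FunFld.IsFunctionField k K) (hdeg : Module.finrank (RatFunc k) K = 2) (h2 : ringChar k ≠ 2)
    (y : K) (f : Polynomial k) (hf : Squarefree f) (hd : 1 ≤ f.natDegree)
    (heq : y ^ 2 = algebraMap (RatFunc k) K (algebraMap (Polynomial k) (RatFunc k) f))
    (F : FunFld.Place k K → Type w) [∀ P, Field (F P)] [∀ P, Algebra k (F P)] [∀ P, FiniteDimensional k (F P)]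
    (φ : ∀ P, K →ₐ[k] LaurentSeries (F P)) (hφ : ∀ P, LocRes.IsExpansionAt P.1 (φ P)) :
    (∀ i : ℕ, i < FunFld.genus k K → ∀ P,
      LocRes.vDiff (φ P) (algebraMap (RatFunc k) K RatFunc.X ^ i / y) (algebraMap (RatFunc k) K RatFunc.X) ≤ 1) ∧
    ∀ z : K, (∀ P, LocRes.vDiff (φ P) z (algebraMap (RatFunc k) K RatFunc.X) ≤ 1) →
      ∃ a : Polynomial k, a.degree < (FunFld.genus k K : WithBot ℕ) ∧
        z = algebraMap (RatFunc k) K (algebraMap (Polynomial k) (RatFunc k) a) / y := by
  have hq := GrothLib.FunFld.isQuad_hyper hdeg hf hd heq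
  haveI := GrothLib.LocRes.isSeparable_of_finrank_two h2 hdeg
  have hgeom := GrothLib.LocRes.isGeometric_of_ratFunc (k := k) hK
  have hgen : FunFld.genus k K = (f.natDegree - 1) / 2 := by
    have hg := hq.genus_eq (GrothLib.FunFld.hyper_splits h2 hdeg hf hd heq) hK
    rw [GrothLib.FunFld.deg_hyperE] at hg
    omega
  have hreg : ∀ i : ℕ, i < FunFld.genus k K → ∀ P,
      LocRes.vDiff (φ P) (algebraMap (RatFunc k) K RatFunc.X ^ i / y)
        (algebraMap (RatFunc k) K RatFunc.X) ≤ 1 :=
    fun i hi P => GrothLib.LocRes.hyper_regular h2 hdeg hf hd heq (hφ P) (hgen ▸ hi)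
  refine ⟨hreg, fun z hz => ?_⟩
  have hy0 : y ≠ 0 := by
    rintro rfl
    exact hq.not_mem ⟨0, map_zero _⟩
  obtain ⟨a, ha, rfl⟩ := GrothLib.LocRes.exists_poly_of_regular hφ hK hgeom
    (GrothLib.LocRes.transcendental_X (k := k)) (inv_ne_zero hy0)
    (GrothLib.LocRes.D_X_ne_zero (k := k) hK)
    (fun i hi P => by rw [← div_eq_mul_inv]; exact hreg i hi P) hz
  exact ⟨a, ha, by rw [GrothLib.LocRes.algebraMap_poly, div_eq_mul_inv]⟩

end Groth.Agent.S12584
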