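import Groth.Statements.S12585
import Groth.Agent.Lib.FunFld.QuadSubfield

set_option autoImplicit false
universe u v
open FunFld

namespace Groth.Agent.S12585

/-- A function field of one variable `K/k` over a perfect field `k` with `char k ≠ 2` and genus `≥ 2`
has at most one rational subfield `k(x)` with `[K : k(x)] = 2`. (The published statement allows any
field of characteristic `≠ 2`; its argument needs the squarefree polynomial `f` with `y² = f(x)` to
be prime to its derivative, which holds when `f` is separable; this row takes `k` perfect.) -/
theorem result (k : Type u) (K : Type v) [Field k] [Field K] [Algebra k K] [PerfectField k]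
    (hK : FunFld.IsFunctionField k K) (h2 : ringChar k ≠ 2) (hg : 2 ≤ FunFld.genus k K)
    (x x' : K) (hx : Module.finrank (IntermediateField.adjoin k ({x} : Set K)) K = 2)
    (hx' : Module.finrank (IntermediateField.adjoin k ({x'} : Set K)) K = 2) :
    IntermediateField.adjoin k ({x} : Set K) = IntermediateField.adjoin k ({x'} : Set K) := by
  exact GrothLib.FunFld.rational_subfield_unique hK hg x x' hx hx'

end Groth.Agent.S12585
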