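import Groth.Statements.S12587
import Groth.Agent.Lib.LocRes.RegularAS

set_option autoImplicit false
universe u v w
open FunFld

namespace Groth.Agent.S12587

/-- For `k` perfect of characteristic `2` and `K = k(x, y)` with `y² + y = f(x)`, all poles of `f` of
odd order `2d_i - 1` at `p_i`, and `q = ∏ p_i^{d_i}` over the finite poles, the forms `x^i dx/q(x)`,
`0 ≤ i < g`, are a `k`-basis of the regular differential forms; regularity read through Laurent
expansions over `k` at every place; `q` is pinned up to a constant by its orders at the finite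
places. -/
theorem result (k : Type u) (K : Type v) [Field k] [Field K] [Algebra k K] [Algebra (RatFunc k) K] [IsScalarTower k (RatFunc k) K]
    (hK : FunFld.IsFunctionField k K) (hdeg : Module.finrank (RatFunc k) K = 2) [PerfectField k] (h2 : ringChar k = 2)
    [Algebra.IsSeparable (RatFunc k) K]
    (y : K) (hy : y ∉ Set.range (algebraMap (RatFunc k) K)) (f : RatFunc k)
    (heq : y ^ 2 + y = algebraMap (RatFunc k) K f)
    (hodd : ∀ p : FunFld.Place k (RatFunc k), 1 < p.1 f → Odd (p.ord f))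
    (q : Polynomial k) (hq0 : q ≠ 0)
    (hq : ∀ p : FunFld.Place k (RatFunc k), p.1 RatFunc.X ≤ 1 →
      p.ord (algebraMap (Polynomial k) (RatFunc k) q) = if 1 < p.1 f then (1 - p.ord f) / 2 else 0)
    (F : FunFld.Place k K → Type w) [∀ P, Field (F P)] [∀ P, Algebra k (F P)] [∀ P, FiniteDimensional k (F P)]
    (φ : ∀ P, K →ₐ[k] LaurentSeries (F P)) (hφ : ∀ P, LocRes.IsExpansionAt P.1 (φ P)) :
    (∀ i : ℕ, i < FunFld.genus k K → ∀ P,
      LocRes.vDiff (φ P) (algebraMap (RatFunc k) K (RatFunc.X ^ i / algebraMap (Polynomial k) (RatFunc k) q))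
        (algebraMap (RatFunc k) K RatFunc.X) ≤ 1) ∧
    ∀ z : K, (∀ P, LocRes.vDiff (φ P) z (algebraMap (RatFunc k) K RatFunc.X) ≤ 1) →
      ∃ a : Polynomial k, a.degree < (FunFld.genus k K : WithBot ℕ) ∧
        z = algebraMap (RatFunc k) K (algebraMap (Polynomial k) (RatFunc k) a / algebraMap (Polynomial k) (RatFunc k) q) := by
  have hval : ∀ p : FunFld.Place k (RatFunc k), (1 < p.1 f ↔ p.ord f < 0) := fun p => by
    rcases eq_or_ne f 0 with rfl | hf0
    · simp [FunFld.Place.ord]
    · rw [← not_le, GrothLib.FunFld.val_le_one_iff p hf0, not_le]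
  have hodd' : ∀ p : FunFld.Place k (RatFunc k), p.ord f < 0 → Odd (p.ord f) :=
    fun p hp => hodd p ((hval p).mpr hp)
  have hq' : ∀ p : FunFld.Place k (RatFunc k), 0 ≤ p.ord (RatFunc.X : RatFunc k) →
      p.ord (algebraMap (Polynomial k) (RatFunc k) q) = if p.ord f < 0 then (1 - p.ord f) / 2 else 0 :=
    fun p hp => by
      rw [hq p ((GrothLib.FunFld.val_le_one_iff p RatFunc.X_ne_zero).mpr hp)]
      by_cases h : p.ord f < 0
      · rw [if_pos h, if_pos ((hval p).mpr h)]
      · rw [if_neg h, if_neg (fun h' => h ((hval p).mp h'))]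
  have hreg : ∀ i : ℕ, i < FunFld.genus k K → ∀ P,
      LocRes.vDiff (φ P) (algebraMap (RatFunc k) K (RatFunc.X ^ i / algebraMap (Polynomial k) (RatFunc k) q))
        (algebraMap (RatFunc k) K RatFunc.X) ≤ 1 :=
    fun i hi P => GrothLib.LocRes.as_regular h2 hdeg hy heq hodd' hq0 hq' hK (hφ P) hi
  refine ⟨hreg, fun z hz => ?_⟩
  obtain ⟨a, ha, rfl⟩ := GrothLib.LocRes.exists_poly_of_regular hφ hK
    (GrothLib.LocRes.isGeometric_of_ratFunc (k := k) hK)
    (GrothLib.LocRes.transcendental_X (k := k))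
    (inv_ne_zero ((map_ne_zero (algebraMap (RatFunc k) K)).mpr (RatFunc.algebraMap_ne_zero hq0)))
    (GrothLib.LocRes.D_X_ne_zero (k := k) hK)
    (fun i hi P => by
      have h := hreg i hi P
      rwa [map_div₀, map_pow, div_eq_mul_inv] at h) hz
  exact ⟨a, ha, by simp only [map_div₀, GrothLib.LocRes.algebraMap_poly, div_eq_mul_inv]; rw [map_mul, map_inv₀, GrothLib.LocRes.algebraMap_poly, GrothLib.LocRes.algebraMap_poly]⟩

end Groth.Agent.S12587
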