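import Groth.Statements.S12588
import Groth.Agent.Lib.FunFld.ArtinSchreier
import Groth.Agent.Lib.LocRes.DiffExpAS

set_option autoImplicit false
universe u v w
open FunFld

namespace Groth.Agent.S12588

/-- For `k` perfect of characteristic `2`, `K` separable of degree `2` over `k(x)` with `y² + y = f(x)`,
and a place `p` of `k(x)` where `f` has a pole whose order `2d - 1` is odd: a place `P` of `K` above
`p` with ramification index `e` (necessarily `e = 2`, `P` unique) has different exponent `d(P|p) =
2d = 1 - ord_p(f)`; the exponent is computed on `dz` through Laurent expansions over `k` at `p` and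
`P`. -/
theorem result (k : Type u) (K : Type v) [Field k] [Field K] [Algebra k K] [Algebra (RatFunc k) K] [IsScalarTower k (RatFunc k) K]
    (hK : FunFld.IsFunctionField k K) (hdeg : Module.finrank (RatFunc k) K = 2) [PerfectField k] (h2 : ringChar k = 2)
    [Algebra.IsSeparable (RatFunc k) K]
    (y : K) (hy : y ∉ Set.range (algebraMap (RatFunc k) K)) (f : RatFunc k)
    (heq : y ^ 2 + y = algebraMap (RatFunc k) K f)
    (p : FunFld.Place k (RatFunc k)) (hp : 1 < p.1 f) (hodd : Odd (p.ord f))
    (P : FunFld.Place k K) (e : ℕ) (he : FunFld.IsOverWith P p e)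
    (F F' : Type w) [Field F] [Algebra k F] [Field F'] [Algebra k F']
    (φ : RatFunc k →ₐ[k] LaurentSeries F) (hφ : LocRes.IsExpansionAt p.1 φ)
    (ψ : K →ₐ[k] LaurentSeries F') (hψ : LocRes.IsExpansionAt P.1 ψ)
    (z : RatFunc k) (hz : LocRes.vDiff φ 1 z ≠ 0) (hz' : LocRes.vDiff ψ 1 (algebraMap (RatFunc k) K z) ≠ 0) :
    LocRes.diffExp φ ψ e z = 1 - p.ord f := by
  have hneg : p.ord f < 0 := by
    have hf0 : f ≠ 0 := fun h0 => by rw [h0, map_zero] at hp; exact not_lt.mpr zero_le hp
    by_contra h
    exact absurd hp (not_lt.mpr ((GrothLib.FunFld.val_le_one_iff p hf0).mpr (not_lt.mp h)))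
  haveI := (GrothLib.FunFld.isQuad_as hdeg hy heq).finite
  obtain ⟨hall, -, -⟩ := GrothLib.FunFld.as_ramified h2 hdeg hy heq p hneg hodd
  obtain rfl : e = 2 := (GrothLib.FunFld.isOverWith_unique he (hall P ⟨e, he⟩).1).2
  haveI : CharP k 2 := ringChar.of_eq h2
  exact GrothLib.LocRes.diffExp_as (L := RatFunc k) GrothLib.FunFld.isFG_ratFunc
    (GrothLib.FunFld.isGeometric_of_perfectField GrothLib.FunFld.isFunctionField_ratFunc)
    CharTwo.two_eq_zero he hφ hψ hneg hodd heq hz hz'

end Groth.Agent.S12588
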