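import Groth.Statements.S12591
import Groth.Agent.Lib.FunFld.SplitField

set_option autoImplicit false
universe u v
open FunFld TensorProduct

namespace Groth.Agent.S12591

/-- Every place `P` of a geometric function field of one variable `K/k` has a splitting field of finite
degree over `k`: a finite extension `k'` such that every place of `k' ⊗_k K` above `P` has degree
one over `k'`. (The finiteness of the set of singular places and the existence of a purely
inseparable `k'` making `k' ⊗_k K` nonsingular are not stated here.) -/
theorem result (k : Type u) (K : Type v) [Field k] [Field K] [Algebra k K]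
    (hK : FunFld.IsFunctionField k K) (hg : FunFld.IsGeometric k K) (P : FunFld.Place k K) :
    ∃ (k' : Type u) (_ : Field k') (_ : Algebra k k'), FiniteDimensional k k' ∧
      ∀ (K' : Type v) [Field K'] [Algebra K K'] [Algebra k' K'] [Algebra k K']
        [IsScalarTower k k' K'] [IsScalarTower k K K'],
        Function.Bijective (Algebra.TensorProduct.productMap
          (IsScalarTower.toAlgHom k k' K') (IsScalarTower.toAlgHom k K K')) →
        ∀ Q : FunFld.Place k' K', P.1.HasExtension Q.1 → Q.deg = 1 := by
  let kb := AlgebraicClosure k
  have hF := GrothLib.FunFld.SplitField.isField_tensor (kb := kb) hg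
  let Kb := TensorProduct k kb K
  letI : Field Kb := hF.toField
  letI : Algebra K Kb := (Algebra.TensorProduct.includeRight : K →ₐ[k] Kb).toRingHom.toAlgebra
  haveI : IsScalarTower k K Kb := IsScalarTower.of_algebraMap_eq fun c =>
    ((Algebra.TensorProduct.includeRight : K →ₐ[k] Kb).commutes c).symm
  have hbar : GrothLib.FunFld.RH.IsBar k K kb Kb := by
    have : Algebra.TensorProduct.productMap (IsScalarTower.toAlgHom k kb Kb)
        (IsScalarTower.toAlgHom k K Kb) = AlgHom.id k Kb := by
      refine Algebra.TensorProduct.ext' fun a b => ?_
      rw [Algebra.TensorProduct.productMap_apply_tmul]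
      show (a ⊗ₜ[k] (1 : K)) * ((1 : kb) ⊗ₜ[k] b) = a ⊗ₜ[k] b
      rw [Algebra.TensorProduct.tmul_mul_tmul, mul_one, one_mul]
    show Function.Bijective _
    rw [this]
    exact Function.bijective_id
  obtain ⟨k', hfin, hk'⟩ := GrothLib.FunFld.SplitField.exists_splitting hbar hK P
  exact ⟨k', inferInstance, inferInstance, hfin, hk' k' le_rfl hfin⟩

end Groth.Agent.S12591
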