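import Groth.Statements.S12595
import Groth.Agent.Lib.FunFld.Orders

set_option autoImplicit false
open FunFld

namespace Groth.Agent.S12595

/-- Over an algebraically closed constant field, let `φ` be a birational projective map of the function
field `K` (the ratios `φ i / φ 0` generate `K`), `τ` a `k`-endomorphism of `K` and `H` a total Hasse
derivative. Then the first `τ`-order of `φ` is positive — the column `φ` of `0`-th Hasse derivatives
lies in the `K`-span of the leading column `τ(φ)` — exactly when `τ` is the identity. -/
theorem result
    (k K : Type*) [Field k] [IsAlgClosed k] [Field K] [Algebra k K]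
    (hK : FunFld.IsFunctionField k K) {n : ℕ} (φ : Fin (n + 1) → K) (h0 : φ 0 ≠ 0)
    (hbir : IntermediateField.adjoin k (Set.range fun i => φ i / φ 0) = ⊤)
    (τ : K →ₐ[k] K) (s : K) (H : K →ₐ[k] PowerSeries K) (hH : LocRes.IsHasseFamily s H) :
    ¬ FunFld.IsJump K (FunFld.hcol τ H φ) 1 ↔ τ = AlgHom.id k K := by
  exact GrothLib.FunFld.isJump_one_iff hH h0 hbir

end Groth.Agent.S12595
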