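import Groth.Statements.S12599
import Groth.Agent.Lib.LocRes.HasseExp
import Groth.Agent.Lib.FunFld.Conseq

set_option autoImplicit false
open FunFld

namespace Groth.Agent.S12599

/-- Over an algebraically closed constant field, for a place `P` with local parameter `t`, and a
linearly independent tuple `φ = (φ₀, …, φₙ)` of functions integral at `P`, the matrix of values at
`P` of the Hasse derivatives `D_t^(j)(φᵢ)`, `j = 0, 1, …`, has rank `n + 1`: its rows are linearly
independent over the residue field. -/
theorem result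
    (k K : Type*) [Field k] [IsAlgClosed k] [Field K] [Algebra k K]
    (hK : FunFld.IsFunctionField k K) {n : ℕ} (φ : Fin (n + 1) → K) (hφ : LinearIndependent k φ)
    (P : FunFld.Place k K) (hint : ∀ i, P.1 (φ i) ≤ 1) (t : K) (ht : P.1 t = WithZero.exp (-1))
    (Ht : K →ₐ[k] PowerSeries K) (hHt : LocRes.IsHasseFamily t Ht) :
    LinearIndependent (IsLocalRing.ResidueField P.O)
      (fun i : Fin (n + 1) => fun j : ℕ => FunFld.evalP P (LocRes.hasseD Ht j (φ i))) := by
  classical
  have hg := GrothLib.FunFld.isGeometric_of_perfectField hK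
  have hrat : GrothLib.FunFld.IsRational P := by
    have := GrothLib.FunFld.IsFG.finite_residueField hK.1 P
    haveI : Algebra.IsIntegral k (IsLocalRing.ResidueField P.O) := ⟨fun r =>
      @IsIntegral.of_finite k (IsLocalRing.ResidueField P.O) _ _ _ this r⟩
    exact IsAlgClosed.algebraMap_bijective_of_isIntegral
  obtain ⟨ψ, hψ, hψt⟩ := GrothLib.FunFld.exists_expansion ht hrat
  have hH : ∀ i j, P.1 (LocRes.hasseD Ht j (φ i)) ≤ 1 := fun i j =>
    GrothLib.FunFld.val_hasseD_le_one hK.1 hg hψ hψt hHt (hint i) j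
  rw [Fintype.linearIndependent_iff]
  intro a ha
  choose c hc using fun i => hrat.2 (a i)
  set y := ∑ i, c i • φ i with hy
  have hy1 : P.1 y ≤ 1 := Valuation.map_sum_le _ fun i _ => by
    rw [Algebra.smul_def, map_mul]; exact mul_le_one' (P.2.1 _) (hint i)
  have hj : ∀ j, P.1 (LocRes.hasseD Ht j y) < 1 := fun j => by
    let z : P.O := ∑ i, algebraMap k P.O (c i) * ⟨_, hH i j⟩
    have hz : (z : K) = LocRes.hasseD Ht j y := by
      show (P.O.subtype z) = _
      simp only [z, map_sum, map_mul, hy, LocRes.hasseD_apply, map_smul, PowerSeries.coeff_smul]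
      exact Finset.sum_congr rfl fun i _ => by rw [Algebra.smul_def]; rfl
    have hres : GrothLib.FunFld.res P z = 0 := by
      simp only [z, map_sum, map_mul, AlgHom.commutes]
      have := congrFun ha j
      simp only [Finset.sum_apply, Pi.smul_apply, Pi.zero_apply, smul_eq_mul] at this
      rw [← this]
      refine Finset.sum_congr rfl fun i _ => ?_
      rw [hc i]
      congr 1
      rw [FunFld.evalP, dif_pos (hH i j)]
      rfl
    rw [← hz]
    exact (GrothLib.FunFld.res_eq_zero_iff P z).mp hres
  obtain ⟨q, hq⟩ := (LaurentSeries.val_le_one_iff_eq_coe k (ψ y)).mp ((hψ.1 y).trans_le hy1)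
  have hq0 : q = 0 := PowerSeries.ext fun j => by
    have h1 := hj j
    rw [← hψ.1, GrothLib.FunFld.expansion_hasseD hK.1 hg hψ hψt hHt hy1, ← hq,
      GrothLib.FunFld.hasseDeriv_coe] at h1
    have h2 := LaurentSeries.coeff_zero_of_lt_valuation k (D := 1) (n := 0)
      (by
        rw [show (-(1 : ℤ)) = 0 - 1 by norm_num, GrothLib.FunFld.le_exp_sub_one_iff, WithZero.exp_zero]
        exact h1) one_pos
    rw [show (0 : ℤ) = ((0 : ℕ) : ℤ) from rfl, LaurentSeries.coeff_coe_powerSeries,
      GrothLib.FunFld.coeff_shift] at h2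
    simpa using h2
  have hy0 : y = 0 := (map_eq_zero ψ).mp (by rw [← hq, hq0, map_zero])
  intro i
  rw [← hc i, Fintype.linearIndependent_iff.mp hφ c hy0 i, map_zero]

end Groth.Agent.S12599
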