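import Groth.Statements.S12602
import Groth.Agent.Lib.FunFld.Orders

set_option autoImplicit false
open FunFld

namespace Groth.Agent.S12602

/-- Over an algebraically closed constant field, for a birational projective map `φ = (φ₀, …, φₙ)`, `n ≥
1`, with orders `j₁ < ⋯ < jₙ`, and `τ ≠ 1`, the `τ`-orders of `φ` are `(0, j₁, …, j_{m-1}, j_{m+1},
…, jₙ)` for some `m`: the jump indices of `[τ(φ) | D^(0) φ | D^(1) φ | ⋯]` after the leading column
are `0` and the `jₗ` with `l ≠ m`. -/
theorem result
    (k K : Type*) [Field k] [IsAlgClosed k] [Field K] [Algebra k K]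
    (hK : FunFld.IsFunctionField k K) {n : ℕ} (hn : 0 < n) (φ : Fin (n + 1) → K) (hφ : LinearIndependent k φ)
    (h0 : φ 0 ≠ 0) (hbir : IntermediateField.adjoin k (Set.range fun i => φ i / φ 0) = ⊤)
    (τ : K →ₐ[k] K) (hτ : τ ≠ AlgHom.id k K) (s : K) (H : K →ₐ[k] PowerSeries K) (hH : LocRes.IsHasseFamily s H)
    (J : Fin n → ℕ) (hJ : FunFld.IsOrders K (FunFld.hcol (AlgHom.id k K) H φ) J) :
    ∃ m : Fin n, ∀ j : ℕ,
      FunFld.IsJump K (FunFld.hcol τ H φ) (j + 1) ↔ (j = 0 ∨ ∃ l, l ≠ m ∧ J l = j) := by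
  classical
  have hg := GrothLib.FunFld.isGeometric_of_perfectField hK
  let g : ℕ → Fin (n + 1) → K := fun j => FunFld.hcol τ H φ (j + 1)
  let W : ℕ → Submodule K (Fin (n + 1) → K) := fun j => Submodule.span K (g '' Set.Iio j)
  have himg : ∀ (σ : K →ₐ[k] K) (j : ℕ), Submodule.span K (FunFld.hcol σ H φ '' Set.Iio (j + 1)) =
      Submodule.span K {FunFld.hcol σ H φ 0} ⊔ W j := by
    intro σ j
    rw [← Submodule.span_union]
    congr 1
    ext x
    simp only [Set.singleton_union, Set.mem_insert_iff, Set.mem_image, Set.mem_Iio, g]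
    constructor
    · rintro ⟨_ | i, hi, rfl⟩
      · exact Or.inl rfl
      · exact Or.inr ⟨i, by omega, rfl⟩
    · rintro (rfl | ⟨i, hi, rfl⟩)
      · exact ⟨0, by omega, rfl⟩
      · exact ⟨i + 1, by omega, rfl⟩
  have hg0 : g 0 = φ := funext fun i => GrothLib.FunFld.hasseD_zero hH (φ i)
  have hmono : ∀ {a b : ℕ}, a ≤ b → W a ≤ W b := fun h =>
    Submodule.span_mono (Set.image_mono (Set.Iio_subset_Iio h))
  have hsucc : ∀ a, W (a + 1) = Submodule.span K {g a} ⊔ W a := fun a => by
    simp only [W]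
    rw [show g '' Set.Iio (a + 1) = insert (g a) (g '' Set.Iio a) by
      rw [← Set.image_insert_eq]; congr 1; ext; simp, Submodule.span_insert]
  have hJmem : ∀ j, 0 < j → (j ∈ Set.range J ↔ g j ∉ W j) := fun j hj => by
    rw [hJ.2 j]
    show g j ∉ Submodule.span K _ ↔ _
    rw [himg, sup_eq_right.mpr]
    exact (Submodule.span_singleton_le_iff_mem _ _).mpr (Submodule.subset_span ⟨0, hj, hg0⟩)
  have hJ0 : 0 ∉ Set.range J := fun h => by
    refine ((hJ.2 0).mp h) ?_
    rw [himg]
    exact Submodule.mem_sup_left (Submodule.mem_span_singleton.mpr ⟨1, by rw [one_smul]; exact hg0.symm⟩)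
  set a := FunFld.hcol τ H φ 0 with ha
  have hex : ∃ M, a ∈ W (M + 1) := by
    have htop := GrothLib.FunFld.span_hcol_eq_top hH hK hg hφ (AlgHom.id k K)
    have hall : Submodule.span K (Set.range g) = ⊤ := by
      rw [← top_le_iff, ← htop, Submodule.span_le]
      rintro _ ⟨_ | i, rfl⟩
      · exact Submodule.subset_span ⟨0, hg0.trans rfl⟩
      · exact Submodule.subset_span ⟨i, rfl⟩
    have : a ∈ ⨆ M, W (M + 1) := by
      rw [show (⨆ M, W (M + 1)) = ⊤ from top_le_iff.mp (hall ▸ Submodule.span_le.mpr (by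
        rintro _ ⟨i, rfl⟩
        exact le_iSup (fun M => W (M + 1)) i (Submodule.subset_span ⟨i, Nat.lt_succ_self i, rfl⟩)))]
      exact Submodule.mem_top
    exact (Submodule.mem_iSup_of_directed _ (monotone_nat_of_le_succ fun M => hmono (by omega)).directed_le).mp this
  set M := Nat.find hex with hM
  have haM : a ∈ W (M + 1) := Nat.find_spec hex
  have hlt : ∀ j ≤ M, a ∉ W j := by
    intro j hj h
    rcases j with _ | j
    · have h0 : a = 0 := by simpa [W] using h
      exact GrothLib.FunFld.hcol_zero_ne_zero hφ h0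
    · exact Nat.find_min hex (by omega : j < M) h
  have hMpos : 0 < M := by
    rcases Nat.eq_zero_or_pos M with h | h
    · exfalso
      rw [h, hsucc] at haM
      simp only [W, Set.image_empty, Submodule.span_empty, sup_bot_eq,
        show Set.Iio (0 : ℕ) = ∅ from by ext; simp] at haM
      refine hτ ((GrothLib.FunFld.isJump_one_iff hH h0 hbir).mp fun hj => hj ?_)
      obtain ⟨c, hc⟩ := Submodule.mem_span_singleton.mp haM
      rw [show Set.Iio (1 : ℕ) = {0} from by ext; simp, Set.image_singleton, Submodule.mem_span_singleton]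
      refine ⟨c⁻¹, ?_⟩
      have hc0 : c ≠ 0 := fun h => GrothLib.FunFld.hcol_zero_ne_zero hφ (by
        show a = 0
        rw [← hc, h, zero_smul])
      show c⁻¹ • a = g 0
      rw [← hc, inv_smul_smul₀ hc0]
    · exact h
  have hgM : g M ∉ W M := fun h => hlt M le_rfl (by
    rw [hsucc, sup_eq_right.mpr ((Submodule.span_singleton_le_iff_mem _ _).mpr h)] at haM
    exact haM)
  obtain ⟨m, hm⟩ := (hJmem M hMpos).mpr hgM
  refine ⟨m, fun j => ?_⟩
  show g j ∉ Submodule.span K _ ↔ _
  rw [himg, ← ha]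
  rcases Nat.eq_zero_or_pos j with rfl | hj
  · simp only [true_or, iff_true]
    intro h
    obtain ⟨c, hc⟩ : ∃ c : K, c • a = g 0 := by
      rwa [show W 0 = ⊥ by simp [W], sup_bot_eq, Submodule.mem_span_singleton] at h
    refine hτ ((GrothLib.FunFld.isJump_one_iff hH h0 hbir).mp fun hj => hj ?_)
    rw [show Set.Iio (1 : ℕ) = {0} from by ext; simp, Set.image_singleton, Submodule.mem_span_singleton]
    exact ⟨c, hc⟩
  · simp only [hj.ne', false_or]
    constructor
    · intro h
      have hj' := (hJmem j hj).mpr fun h' => h (Submodule.mem_sup_right h')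
      obtain ⟨l, hl⟩ := hj'
      refine ⟨l, fun hlm => h ?_, hl⟩
      have hjM : j = M := by rw [← hl, hlm, hm]
      subst hjM
      rw [hsucc, Submodule.mem_sup] at haM
      obtain ⟨x, hx, w, hw, hxw⟩ := haM
      obtain ⟨c, rfl⟩ := Submodule.mem_span_singleton.mp hx
      have hc0 : c ≠ 0 := fun h' => hlt _ le_rfl (by rw [← hxw, h', zero_smul, zero_add]; exact hw)
      rw [Submodule.mem_sup]
      refine ⟨c⁻¹ • a, Submodule.smul_mem _ _ (Submodule.subset_span rfl), -(c⁻¹ • w),
        neg_mem (Submodule.smul_mem _ _ hw), ?_⟩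
      rw [← hxw, smul_add, inv_smul_smul₀ hc0, add_neg_cancel_right]
    · rintro ⟨l, hlm, hl⟩ h
      have hgj : g j ∉ W j := (hJmem j hj).mp ⟨l, hl⟩
      have hjM : j ≠ M := fun h' => hlm (hJ.1.injective (by rw [hl, hm, h']))
      rcases Nat.lt_or_gt_of_ne hjM with hlt' | hgt
      · rw [Submodule.mem_sup] at h
        obtain ⟨x, hx, w, hw, hxw⟩ := h
        obtain ⟨c, rfl⟩ := Submodule.mem_span_singleton.mp hx
        rcases eq_or_ne c 0 with rfl | hc0
        · exact hgj (by rw [← hxw, zero_smul, zero_add]; exact hw)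
        · refine hlt (j + 1) (by omega) ?_
          have : a = c⁻¹ • g j + -(c⁻¹ • w) := by
            rw [← hxw, smul_add, inv_smul_smul₀ hc0, add_neg_cancel_right]
          rw [this]
          exact add_mem (Submodule.smul_mem _ _ (Submodule.subset_span ⟨j, Nat.lt_succ_self j, rfl⟩))
            (neg_mem (Submodule.smul_mem _ _ (hmono (Nat.le_succ j) hw)))
      · rw [sup_eq_right.mpr ((Submodule.span_singleton_le_iff_mem _ _).mpr (hmono hgt haM))] at h
        exact hgj h

end Groth.Agent.S12602
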