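import Groth.Statements.S12607
import Groth.Agent.Lib.FunFld.OrdersLocal

set_option autoImplicit false
open FunFld

namespace Groth.Agent.S12607

/-- Over an algebraically closed constant field, let `φ = (φ₀, …, φₙ)` be an effective projective map
normalized at the place `P`, `t` a local parameter at `P` and `j'₁ < ⋯ < j'ₙ` the orders of `φ` at
`P`, `j'₀ = 0`. Then the span of `φ` has a basis `φ'₀, …, φ'ₙ` with `φ'ₗ = t^(j'ₗ) · (1 + higher
order terms)` at `P`; in particular `j` is one of the `j'ₗ` exactly when some function in the span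
of `φ` has order `j` at `P`. -/
theorem result
    (k K : Type*) [Field k] [IsAlgClosed k] [Field K] [Algebra k K]
    (hK : FunFld.IsFunctionField k K) (P : FunFld.Place k K) {n : ℕ} (φ : Fin (n + 1) → K) (hφ : LinearIndependent k φ)
    (heff : (1 : K) ∈ Submodule.span k (Set.range φ)) (hnorm : ∀ i, P.1 (φ i) ≤ 1)
    (t : K) (ht : P.1 t = WithZero.exp (-1))
    (Ht : K →ₐ[k] PowerSeries K) (hHt : LocRes.IsHasseFamily t Ht)
    (J' : Fin n → ℕ) (hJ' : FunFld.IsOrders (IsLocalRing.ResidueField P.O) (FunFld.hcolAt P Ht φ) J') :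
    (∃ φ' : Fin (n + 1) → K,
      Submodule.span k (Set.range φ') = Submodule.span k (Set.range φ) ∧
      P.1 (φ' 0) = 1 ∧ FunFld.evalP P (φ' 0) = 1 ∧
      ∀ l : Fin n, P.1 (φ' l.succ) = WithZero.exp (-(J' l : ℤ)) ∧
        FunFld.evalP P (φ' l.succ / t ^ J' l) = 1) ∧
    ∀ j : ℕ, (j = 0 ∨ j ∈ Set.range J') ↔
      ∃ f ∈ Submodule.span k (Set.range φ), P.1 f = WithZero.exp (-(j : ℤ)) := by
  obtain ⟨ψ, hψ, hψt⟩ := GrothLib.FunFld.exists_expansion_closed hK.1 ht
  obtain ⟨-, φ', -, h0, -, -, -, hspan, hv⟩ :=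
    GrothLib.FunFld.exists_adapted_basis hK hφ heff hnorm hψ hψt ht hHt hJ'
  refine ⟨⟨φ', hspan, by rw [h0, map_one], ?_, fun l => ⟨(hv l).1, ?_⟩⟩, fun j => ?_⟩
  · rw [h0, GrothLib.FunFld.evalP_eq_coeff hψ (map_one _).le]
    simp
  · have ht0 : t ≠ 0 := fun h => by rw [h, map_zero] at ht; exact WithZero.exp_ne_zero ht.symm
    have hle : GrothLib.FunFld.val P (φ' l.succ / t ^ J' l) ≤ 1 := by
      rw [map_div₀, map_pow, show GrothLib.FunFld.val P t = _ from ht,
        show GrothLib.FunFld.val P (φ' l.succ) = _ from (hv l).1, ← WithZero.exp_nsmul,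
        div_le_one₀ WithZero.exp_pos, WithZero.exp_le_exp, nsmul_eq_mul, mul_neg, mul_one]
    rw [GrothLib.FunFld.evalP_eq_coeff hψ hle]
    have he : ψ (φ' l.succ) = ψ (φ' l.succ / t ^ J' l) * HahnSeries.single (J' l : ℤ) 1 := by
      conv_lhs => rw [← div_mul_cancel₀ (φ' l.succ) (pow_ne_zero (J' l) ht0), map_mul, map_pow, hψt,
        HahnSeries.single_pow, one_pow, nsmul_eq_mul, mul_one]
    have h1 := (hv l).2
    rw [he] at h1
    erw [HahnSeries.coeff_mul_single, sub_self, mul_one] at h1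
    rw [h1, map_one]
  · constructor
    · rintro (rfl | ⟨l, rfl⟩)
      · exact ⟨1, heff, by simp⟩
      · obtain ⟨-, h⟩ := (GrothLib.FunFld.isJump_hcolAt_iff hK ht hHt hnorm _).1 ((hJ'.2 _).1 ⟨l, rfl⟩)
        exact h
    · intro hf
      rcases Nat.eq_zero_or_pos j with h | h
      · exact Or.inl h
      · exact Or.inr ((hJ'.2 j).2 ((GrothLib.FunFld.isJump_hcolAt_iff hK ht hHt hnorm j).2 ⟨h, hf⟩))

end Groth.Agent.S12607
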