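import Groth.Statements.S12608
import Groth.Agent.Lib.FunFld.WeierstrassDiv

set_option autoImplicit false
open FunFld

namespace Groth.Agent.S12608

/-- Over an algebraically closed constant field, let `φ = (φ₀, …, φₙ)` be an effective projective map
normalized at the place `P`, `t` a local parameter at `P`, `j₁, …, jₙ` the orders of `φ` and `j'₁,
…, j'ₙ` the orders of `φ` at `P`. Then `jₗ ≤ j'ₗ` for all `l`, and the following are equivalent: all
`j'ₗ = jₗ`; the Wronskian `w_t(φ)` does not vanish at `P`; the Weierstrass divisor `W(φ)` has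
coefficient `0` at `P` (the divisor of `dt` in it read through a family of Laurent expansions). -/
theorem result
    (k K : Type*) [Field k] [IsAlgClosed k] [Field K] [Algebra k K]
    (hK : FunFld.IsFunctionField k K) (P : FunFld.Place k K) {n : ℕ} (φ : Fin (n + 1) → K) (hφ : LinearIndependent k φ)
    (heff : (1 : K) ∈ Submodule.span k (Set.range φ)) (hnorm : ∀ i, P.1 (φ i) ≤ 1)
    (t : K) (ht : P.1 t = WithZero.exp (-1))
    (Ht : K →ₐ[k] PowerSeries K) (hHt : LocRes.IsHasseFamily t Ht)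
    (J : Fin n → ℕ) (hJ : FunFld.IsOrders K (FunFld.hcol (AlgHom.id k K) Ht φ) J)
    (J' : Fin n → ℕ) (hJ' : FunFld.IsOrders (IsLocalRing.ResidueField P.O) (FunFld.hcolAt P Ht φ) J')
    (Φ : FunFld.Place k K → (K →ₐ[k] LaurentSeries k))
    (hΦ : ∀ P : FunFld.Place k K, LocRes.IsExpansionAt P.1 (Φ P)) :
    (∀ l, J l ≤ J' l) ∧
    ((∀ l, J' l = J l) ↔ FunFld.evalP P (FunFld.wrMat (AlgHom.id k K) Ht φ J).det ≠ 0) ∧
    ((∀ l, J' l = J l) ↔ FunFld.wDiv (AlgHom.id k K) Ht Φ t φ J P = 0) := by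
  classical
  have hid : FunFld.IsFixedPt (AlgHom.id k K) P := fun z hz => hz
  have hpos : ∀ l, 1 ≤ J' l := fun l =>
    ((GrothLib.FunFld.isJump_hcolAt_iff hK ht hHt hnorm (J' l)).1 ((hJ'.2 _).1 ⟨l, rfl⟩)).1
  obtain ⟨hle', hiff⟩ := GrothLib.FunFld.val_det_wrMat hK hid hφ heff hnorm ht hHt hJ' J'
  have hbin : ∀ J : Fin n → ℕ, StrictMono J → (FunFld.binomMat k J J).det ≠ 0 := fun J hJm => by
    rw [Matrix.det_of_isLowerTriangular]
    · simp [FunFld.binomMat]
    · intro a b hab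
      simp [FunFld.binomMat, Nat.choose_eq_zero_of_lt (hJm (show a < b from hab))]
  have hd : (FunFld.wrMat (AlgHom.id k K) Ht φ J').det ≠ 0 := fun h0 => by
    have h1 := (hiff (Or.inl hpos)).2 (hbin J' hJ'.1)
    rw [h0, map_zero] at h1
    exact WithZero.exp_ne_zero h1.symm
  have hJle : ∀ l, J l ≤ J' l := fun l => GrothLib.FunFld.isOrders_le (R := K) _ hJ
    (GrothLib.FunFld.hcol_zero_ne_zero hφ) hJ'.1 ((GrothLib.FunFld.det_wrMat_ne_zero_iff J').1 hd) l
  obtain ⟨he, hW, hWiff⟩ := GrothLib.FunFld.sum_sub_le_wDiv hK hφ hid heff hnorm ht hHt hJ hJ' hΦ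
  have hkey : (∀ l, J' l = J l) ↔ FunFld.wDiv (AlgHom.id k K) Ht Φ t φ J P = 0 := by
    constructor
    · intro h
      have hJJ : J' = J := funext h
      have := (hWiff (Or.inl rfl)).2 (by rw [hJJ]; exact hbin J hJ.1)
      rw [this]
      simp [h]
    · intro h l
      rw [h] at hW
      have h1 := Finset.single_le_sum (f := fun l => (J' l : ℤ) - J l)
        (fun i _ => by have := hJle i; omega) (Finset.mem_univ l)
      have := hJle l
      omega
  refine ⟨hJle, ?_, hkey⟩
  rw [hkey, he]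
  have hd0 := GrothLib.FunFld.det_wrMat_ne_zero hK hHt hφ hJ
  have hint : GrothLib.FunFld.val P (FunFld.wrMat (AlgHom.id k K) Ht φ J).det ≤ 1 := by
    refine GrothLib.FunFld.val_det_le_one P fun i j => ?_
    refine Fin.cases ?_ (fun l => ?_) j
    · simpa [FunFld.wrMat] using hnorm i
    · simp only [FunFld.wrMat, Matrix.of_apply, Fin.cases_succ]
      exact GrothLib.FunFld.val_hasseD_le_one' hK ht hHt (hnorm i) _
  rw [FunFld.evalP, dif_pos hint]
  show _ ↔ GrothLib.FunFld.res P _ ≠ 0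
  rw [Ne, GrothLib.FunFld.res_eq_zero_iff]
  show _ ↔ ¬ GrothLib.FunFld.val P _ < 1
  have := (GrothLib.FunFld.val_le_one_iff P hd0).1 hint
  rw [GrothLib.FunFld.val_lt_one_iff P hd0]
  omega

end Groth.Agent.S12608
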