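import Groth.Statements.S12609
import Groth.Agent.Lib.FunFld.CanonicalOrders

set_option autoImplicit false
open FunFld

namespace Groth.Agent.S12609

/-- Over an algebraically closed constant field, let `φ` be the canonical map (a basis of `L(C)`, `C`
canonical), normalized at the place `P` after multiplication by `y ≠ 0`, and `t` a local parameter
at `P`. For `j ≥ 1`: the canonical orders at `P` include `j` exactly when `j + 1` is a gap number at
`P`, i.e. `L((j+1)P) = L(jP)`. -/
theorem result
    (k K : Type*) [Field k] [IsAlgClosed k] [Field K] [Algebra k K]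
    (hK : FunFld.IsFunctionField k K) (C : FunFld.Divisor k K) (hC : FunFld.IsCanonical k K C)
    {n : ℕ} (φ : Fin (n + 1) → K) (hφ : LinearIndependent k φ)
    (hspan : Submodule.span k (Set.range φ) = FunFld.L C)
    (P : FunFld.Place k K) (y : K) (hy : y ≠ 0)
    (heff : (1 : K) ∈ Submodule.span k (Set.range (y • φ))) (hnorm : ∀ i, P.1 (y * φ i) ≤ 1)
    (t : K) (ht : P.1 t = WithZero.exp (-1))
    (Ht : K →ₐ[k] PowerSeries K) (hHt : LocRes.IsHasseFamily t Ht) (j : ℕ) (hj : 1 ≤ j) :
    FunFld.IsJump (IsLocalRing.ResidueField P.O) (FunFld.hcolAt P Ht (y • φ)) (j + 1) ↔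
      FunFld.L (Finsupp.single P ((j : ℤ) + 1)) = FunFld.L (Finsupp.single P (j : ℤ)) := by
  rw [GrothLib.FunFld.isJump_canonical_iff hK hC hφ hspan hy heff hnorm ht hHt hj]
  unfold GrothLib.FunFld.IsGap
  rw [show ((j + 1 : ℕ) : ℤ) = (j : ℤ) + 1 by simp, show ((j : ℤ) + 1 - 1) = j by ring]

end Groth.Agent.S12609
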