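import Groth.Statements.S12610
import Groth.Agent.Lib.FunFld.WeierstrassDiv
import Groth.Agent.S12602
import Groth.Agent.S12608

set_option autoImplicit false
open FunFld

namespace Groth.Agent.S12610

/-- Over an algebraically closed constant field, for a birational projective map `φ`, a `k`-endomorphism
`τ ≠ 1` and a place `P` fixed by `τ`, the place `P` is a Weierstrass point of `φ` with respect to
`τ`: the Weierstrass divisor `W(φ, τ) = [w_s(φ, τ)] + [τ(φ)] + n[φ] + j(φ, τ)[ds]` has positive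
coefficient at `P` (the divisor of `ds` read through a family of Laurent expansions). -/
theorem result
    (k K : Type*) [Field k] [IsAlgClosed k] [Field K] [Algebra k K]
    (hK : FunFld.IsFunctionField k K) {n : ℕ} (φ : Fin (n + 1) → K) (hφ : LinearIndependent k φ)
    (h0 : φ 0 ≠ 0) (hbir : IntermediateField.adjoin k (Set.range fun i => φ i / φ 0) = ⊤)
    (τ : K →ₐ[k] K) (hτ : τ ≠ AlgHom.id k K) (P : FunFld.Place k K) (hP : FunFld.IsFixedPt τ P)
    (s : K) (H : K →ₐ[k] PowerSeries K) (hH : LocRes.IsHasseFamily s H)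
    (J : Fin n → ℕ) (hJ : FunFld.IsOrders K (FunFld.hcol τ H φ) J)
    (Φ : FunFld.Place k K → (K →ₐ[k] LaurentSeries k))
    (hΦ : ∀ P : FunFld.Place k K, LocRes.IsExpansionAt P.1 (Φ P)) :
    0 < FunFld.wDiv τ H Φ s φ J P := by
  classical
  have hg := GrothLib.FunFld.isGeometric_of_perfectField hK
  rcases Nat.eq_zero_or_pos n with hn | hn
  · exfalso
    obtain ⟨x, hx, -⟩ := hK.1
    refine hx ?_
    have htop : IntermediateField.adjoin k (Set.range fun i => φ i / φ 0) ≤ ⊥ := by
      rw [IntermediateField.adjoin_le_iff]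
      rintro _ ⟨i, rfl⟩
      obtain rfl : i = 0 := Fin.ext (by omega)
      simp [h0]
    rw [hbir] at htop
    obtain ⟨c, rfl⟩ := IntermediateField.mem_bot.1 (htop (IntermediateField.mem_top (x := x)))
    exact isAlgebraic_algebraMap c
  obtain ⟨t, Ht, ht, hHt⟩ := GrothLib.FunFld.exists_parameter_hasse hK P
  obtain ⟨y, hy, hli, heff, hnorm⟩ := GrothLib.FunFld.exists_normalisation hφ P
  obtain ⟨hJy, he⟩ := GrothLib.FunFld.wDiv_apply_local hK hφ hH hJ hΦ hy ht hHt
  obtain ⟨J', hJ'⟩ := GrothLib.FunFld.exists_isOrders_at hK hli ht hHt heff hnorm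
  obtain ⟨Ji, hJi, -⟩ := GrothLib.FunFld.exists_isOrders_det hHt hK hg hli (AlgHom.id k K)
  have hJle : ∀ l, Ji l ≤ J' l := (Groth.Agent.S12608.result k K hK P (y • φ) hli heff hnorm t ht Ht hHt Ji hJi J' hJ' Φ hΦ).1
  have h0' : (y • φ) 0 ≠ 0 := mul_ne_zero hy h0
  have hbir' : IntermediateField.adjoin k (Set.range fun i => (y • φ) i / (y • φ) 0) = ⊤ := by
    rw [← hbir]
    congr 1
    exact congrArg Set.range (funext fun i => by simp [mul_div_mul_left _ _ hy])
  obtain ⟨m, hm⟩ := Groth.Agent.S12602.result k K hK hn (y • φ) hli h0' hbir' τ hτ t Ht hHt Ji hJi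
  have hJ0 : J ⟨0, hn⟩ = 0 := by
    obtain ⟨l, hl⟩ := (hJy.2 0).2 ((hm 0).2 (Or.inl rfl))
    have := hJy.1.monotone (show (⟨0, hn⟩ : Fin n) ≤ l from Fin.mk_le_mk.2 (Nat.zero_le l.1))
    omega
  have hle : ∀ l, J l ≤ Ji l := by
    intro l
    by_contra hlt
    push Not at hlt
    have hJpos : ∀ a, 1 ≤ Ji a := fun a => by
      by_contra ha
      refine (hJi.2 0).1 ⟨a, by omega⟩ ?_
      exact Submodule.subset_span ⟨0, Nat.zero_lt_one, funext fun i => by
        show (AlgHom.id k K) ((y • φ) i) = LocRes.hasseD Ht 0 ((y • φ) i)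
        rw [GrothLib.FunFld.hasseD_zero hHt, AlgHom.id_apply]⟩
    have hsub : insert 0 (((Finset.Iic l).erase m).image Ji) ⊆ (Finset.Iio l).image J := by
      intro j hj
      have hmemJ : ∃ a, J a = j := by
        refine (hJy.2 j).2 ((hm j).2 ?_)
        rcases Finset.mem_insert.1 hj with h | h
        · exact Or.inl h
        · obtain ⟨a, ha, rfl⟩ := Finset.mem_image.1 h
          exact Or.inr ⟨a, (Finset.mem_erase.1 ha).1, rfl⟩
      obtain ⟨a, rfl⟩ := hmemJ
      refine Finset.mem_image.2 ⟨a, Finset.mem_Iio.2 (hJy.1.lt_iff_lt.1 ?_), rfl⟩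
      rcases Finset.mem_insert.1 hj with h | h
      · omega
      · obtain ⟨b, hb, hb'⟩ := Finset.mem_image.1 h
        have := hJi.1.monotone (Finset.mem_Iic.1 (Finset.mem_erase.1 hb).2)
        omega
    have h1 := (Finset.card_le_card hsub).trans Finset.card_image_le
    have h2 : 0 ∉ ((Finset.Iic l).erase m).image Ji := fun h => by
      obtain ⟨b, -, hb⟩ := Finset.mem_image.1 h
      have := hJpos b; omega
    rw [Finset.card_insert_of_notMem h2, Finset.card_image_of_injective _ hJi.1.injective, Fin.card_Iio] at h1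
    have h3 := Finset.pred_card_le_card_erase (s := Finset.Iic l) (a := m)
    rw [Fin.card_Iic] at h3
    omega
  have hpos := ((GrothLib.FunFld.isJump_hcolAt_iff hK ht hHt hnorm _).1 ((hJ'.2 _).1 ⟨(⟨0, hn⟩ : Fin n), rfl⟩)).1
  have h7 := (GrothLib.FunFld.sum_sub_le_wDiv hK hli hP heff hnorm ht hHt hJy hJ' hΦ).2.1
  rw [he]
  refine lt_of_lt_of_le ?_ h7
  refine lt_of_lt_of_le (show (0 : ℤ) < (J' ⟨0, hn⟩ : ℤ) - J ⟨0, hn⟩ by omega) ?_
  exact Finset.single_le_sum (f := fun l => (J' l : ℤ) - J l)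
    (fun l _ => by have := hle l; have := hJle l; omega) (Finset.mem_univ _)

end Groth.Agent.S12610
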