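import Groth.Statements.S12611
import Groth.Agent.Lib.FunFld.Classical

set_option autoImplicit false
open FunFld

namespace Groth.Agent.S12611

/-- Over an algebraically closed constant field of characteristic `0` or greater than `deg φ`, a
birational projective map `φ = (φ₀, …, φₙ)` is classical: its orders are `(1, 2, …, n)`, and for a
`k`-endomorphism `τ ≠ 1` its `τ`-orders are `(0, 1, …, n-1)`. (The published statement has no
fixed-point hypothesis for `τ ≠ 1` and is false without one: on a smooth plane cubic in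
characteristic `0`, pulling back along multiplication by `-2` gives `τ`-orders `(0, 2)`. This row
assumes `τ` has a strong fixed point — a place whose maximal ideal `τ` maps into its square — which
is what the proof uses, through the equality criterion for Wronskian orders at such a point.) -/
theorem result
    (k K : Type*) [Field k] [IsAlgClosed k] [Field K] [Algebra k K]
    (hK : FunFld.IsFunctionField k K) {n : ℕ} (φ : Fin (n + 1) → K) (hφ : LinearIndependent k φ)
    (h0 : φ 0 ≠ 0) (hbir : IntermediateField.adjoin k (Set.range fun i => φ i / φ 0) = ⊤)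
    (hchar : ringChar k = 0 ∨ (FunFld.mapDiv k φ).deg < ringChar k)
    (τ : K →ₐ[k] K) (s : K) (H : K →ₐ[k] PowerSeries K) (hH : LocRes.IsHasseFamily s H) :
    (τ = AlgHom.id k K → FunFld.IsOrders K (FunFld.hcol τ H φ) (fun l : Fin n => (l : ℕ) + 1)) ∧
    (τ ≠ AlgHom.id k K → (∃ P : FunFld.Place k K, FunFld.IsStrongFixedPt τ P) →
      FunFld.IsOrders K (FunFld.hcol τ H φ) (fun l : Fin n => (l : ℕ))) := by
  classical
  have hg := GrothLib.FunFld.isGeometric_of_perfectField hK
  obtain ⟨J, hJ, -⟩ := GrothLib.FunFld.exists_isOrders_det hH hK hg hφ τ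
  -- compare with a candidate order sequence nonzero at a point
  have main : ∀ (P : FunFld.Place k K) (I : Fin n → ℕ), StrictMono I → FunFld.IsFixedPt τ P →
      ((∀ l, 0 < I l) ∨ FunFld.IsStrongFixedPt τ P) →
      (∀ J' : Fin n → ℕ, StrictMono J' → (∀ l, 1 ≤ J' l) → (ringChar k = 0 ∨ ∀ l, J' l < ringChar k) →
        (FunFld.binomMat k J' I).det ≠ 0) → ∀ l, J l ≤ I l := by
    intro P I hI hfix hcase hbin
    obtain ⟨t, Ht, ht, hHt⟩ := GrothLib.FunFld.exists_parameter_hasse hK P
    obtain ⟨y, hy, hli, heff, hnorm⟩ := GrothLib.FunFld.exists_normalisation hφ P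
    obtain ⟨J', hJ'⟩ := GrothLib.FunFld.exists_isOrders_at hK hli ht hHt heff hnorm
    obtain ⟨hpos, hlt⟩ := GrothLib.FunFld.orders_at_lt_char hK hφ hy heff hnorm ht hHt hJ' hchar
    have hval := ((GrothLib.FunFld.val_det_wrMat hK hfix hli heff hnorm ht hHt hJ' I).2 hcase).2
      (hbin J' hJ'.1 hpos hlt)
    have hne : (FunFld.wrMat τ Ht (y • φ) I).det ≠ 0 := fun h0 => by
      rw [h0, map_zero] at hval; exact WithZero.exp_ne_zero hval.symm
    have hJy : FunFld.IsOrders K (FunFld.hcol τ Ht (y • φ)) J :=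
      (GrothLib.FunFld.isOrders_change hH hHt hK.1 hg J).2 ((GrothLib.FunFld.isOrders_smul hH hy J).2 hJ)
    exact fun l => GrothLib.FunFld.isOrders_le (R := K) _ hJy
      (GrothLib.FunFld.hcol_zero_ne_zero hli) hI ((GrothLib.FunFld.det_wrMat_ne_zero_iff I).1 hne) l
  have hge : ∀ (a : ℕ) (h : a < n), a ≤ J ⟨a, h⟩ := by
    intro a
    induction a with
    | zero => intro _; exact Nat.zero_le _
    | succ a ih =>
      intro h
      have := ih (by omega)
      have : J ⟨a, by omega⟩ < J ⟨a + 1, h⟩ := hJ.1 (Fin.mk_lt_mk.2 (Nat.lt_succ_self _))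
      omega
  constructor
  · intro hid
    obtain ⟨P⟩ := GrothLib.FunFld.IsFG.exists_place hK.1
    have hle := main P (fun l => (l : ℕ) + 1) (fun a b h => Nat.add_lt_add_right h 1)
      (fun z hz => by rw [hid]; exact hz) (Or.inl fun l => Nat.succ_pos _)
      (fun J' hJ' hpos hlt => GrothLib.FunFld.det_binomMat_id_ne_zero hJ' hpos hlt)
    have hJ1 : ∀ l, 1 ≤ J l := fun l => by
      by_contra h0
      refine (hJ.2 0).1 ⟨l, by omega⟩ ?_
      refine Submodule.subset_span ⟨0, Nat.zero_lt_one, funext fun i => ?_⟩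
      show τ (φ i) = LocRes.hasseD H 0 (φ i)
      rw [hid, GrothLib.FunFld.hasseD_zero hH, AlgHom.id_apply]
    have hge1 : ∀ (a : ℕ) (h : a < n), a + 1 ≤ J ⟨a, h⟩ := by
      intro a
      induction a with
      | zero => intro h; exact hJ1 _
      | succ a ih =>
        intro h
        have := ih (by omega)
        have : J ⟨a, by omega⟩ < J ⟨a + 1, h⟩ := hJ.1 (Fin.mk_lt_mk.2 (Nat.lt_succ_self _))
        omega
    have heq : (fun l : Fin n => (l : ℕ) + 1) = J := funext fun l => le_antisymm (hge1 l.1 l.2) (hle l)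
    rw [heq]; exact hJ
  · rintro - ⟨P, hP⟩
    have hfix : FunFld.IsFixedPt τ P := fun z hz =>
      (hP z hz).trans_lt (by rw [← WithZero.exp_zero, WithZero.exp_lt_exp]; omega)
    have hle := main P (fun l => (l : ℕ)) (fun a b h => h) hfix (Or.inr hP)
      (fun J' hJ' _ hlt => GrothLib.FunFld.det_choose_ne_zero J'
        (GrothLib.FunFld.injective_natCast_of_lt hJ'.injective hlt rfl))
    have heq : (fun l : Fin n => (l : ℕ)) = J := funext fun l => le_antisymm (hge l.1 l.2) (hle l)
    rw [heq]; exact hJ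

end Groth.Agent.S12611
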