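import Groth.Statements.S12612
import Groth.Agent.Lib.FunFld.PlaneChange

set_option autoImplicit false
open FunFld

namespace Groth.Agent.S12612

/-- For a plane curve given by a homogeneous `f` of degree `e` with `f(1, x, y) = 0` and a change of
projective coordinates `X = AX'` (`A` invertible over `k`), with new affine coordinates `x' =
u₁/u₀`, `y' = u₂/u₀`, `z = 1/u₀ = X₀/X₀'` where `u = A⁻¹(1, x, y)ᵗ`, and `f'(X') = f(AX')`, the
differentials satisfy `dx/f̂_y = det(A) z^(e-3) dx'/f̂'_{y'}`, where `f̂_y = (∂f/∂X₂)(1, x, y)` and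
`f̂'_{y'} = (∂f'/∂X₂')(1, x', y')` are assumed nonzero. (Stated for any field `K` over `k`
containing such `x`, `y`; the published setting is a plane model of a function field over an
algebraically closed field, and the computation uses only the relation `f(1, x, y) = 0`.) -/
theorem result
    (k K : Type*) [Field k] [Field K] [Algebra k K]
    (f : MvPolynomial (Fin 3) k) (e : ℕ) (hf : f.IsHomogeneous e)
    (x y : K) (hfxy : MvPolynomial.aeval ![(1 : K), x, y] f = 0)
    (A : Matrix (Fin 3) (Fin 3) k) (hA : A.det ≠ 0)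
    (u : Fin 3 → K) (hu : ∀ i, ∑ j, algebraMap k K (A i j) * u j = ![(1 : K), x, y] i)
    (hu0 : u 0 ≠ 0)
    (hfy : MvPolynomial.aeval ![(1 : K), x, y] (MvPolynomial.pderiv 2 f) ≠ 0)
    (hfy' : MvPolynomial.aeval ![(1 : K), u 1 / u 0, u 2 / u 0]
      (MvPolynomial.pderiv 2
        (MvPolynomial.aeval (fun i : Fin 3 => ∑ j, MvPolynomial.C (A i j) * MvPolynomial.X j) f)) ≠ 0) :
    (MvPolynomial.aeval ![(1 : K), x, y] (MvPolynomial.pderiv 2 f))⁻¹ • KaehlerDifferential.D k K x =
      (algebraMap k K A.det * (u 0)⁻¹ ^ ((e : ℤ) - 3) *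
        (MvPolynomial.aeval ![(1 : K), u 1 / u 0, u 2 / u 0]
          (MvPolynomial.pderiv 2
            (MvPolynomial.aeval (fun i : Fin 3 => ∑ j, MvPolynomial.C (A i j) * MvPolynomial.X j) f)))⁻¹) •
        KaehlerDifferential.D k K (u 1 / u 0) := by
  exact GrothLib.FunFld.inv_pderiv_smul_D_change f e hf x y hfxy A u hu hu0 hfy hfy'

end Groth.Agent.S12612
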