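import Groth.Statements.S12614
import Groth.Agent.Lib.FunFld.WeierstrassDiv
import Groth.Agent.S12596

set_option autoImplicit false
open FunFld

namespace Groth.Agent.S12614

/-- Over an algebraically closed constant field, the Weierstrass divisor `W_s(φ, τ) = [w_s(φ, τ)] +
[τ(φ)] + n[φ] + j(φ, τ)[ds]` does not depend on the separating variable `s` and does not change when
`φ` is replaced by an equivalent map `y · Aφ` (`A` invertible over `k`, `y ≠ 0`). Divisors of
differentials are read through a fixed family of Laurent expansions. -/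
theorem result
    (k K : Type*) [Field k] [IsAlgClosed k] [Field K] [Algebra k K]
    (hK : FunFld.IsFunctionField k K) {n : ℕ} (φ : Fin (n + 1) → K) (hφ : LinearIndependent k φ)
    (τ : K →ₐ[k] K) (s : K) (Hs : K →ₐ[k] PowerSeries K) (hHs : LocRes.IsHasseFamily s Hs)
    (t : K) (Ht : K →ₐ[k] PowerSeries K) (hHt : LocRes.IsHasseFamily t Ht)
    (J : Fin n → ℕ) (hJ : FunFld.IsOrders K (FunFld.hcol τ Hs φ) J)
    (A : Matrix (Fin (n + 1)) (Fin (n + 1)) k) (hA : A.det ≠ 0) (y : K) (hy : y ≠ 0)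
    (φ' : Fin (n + 1) → K) (hφ' : ∀ i, φ' i = y * ∑ j, A i j • φ j)
    (Φ : FunFld.Place k K → (K →ₐ[k] LaurentSeries k))
    (hΦ : ∀ P : FunFld.Place k K, LocRes.IsExpansionAt P.1 (Φ P)) :
    FunFld.wDiv τ Ht Φ t φ' J = FunFld.wDiv τ Hs Φ s φ J := by
  classical
  set ψ : Fin (n + 1) → K := fun i => ∑ j, A i j • φ j with hψ
  have hψ' : φ' = y • ψ := funext fun i => hφ' i
  have hψli : LinearIndependent k ψ := by
    rw [Fintype.linearIndependent_iff]
    intro g hg i
    have h1 : Matrix.vecMul g A = 0 := funext fun j => by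
      refine Fintype.linearIndependent_iff.1 hφ (Matrix.vecMul g A) ?_ j
      rw [← hg]
      simp only [hψ, Matrix.vecMul, dotProduct, Finset.smul_sum, smul_smul, Finset.sum_smul]
      rw [Finset.sum_comm]
    by_contra hgi
    exact hA (Matrix.exists_vecMul_eq_zero_iff.1 ⟨g, fun h => hgi (congrFun h i), h1⟩)
  have hJψ : FunFld.IsOrders K (FunFld.hcol τ Hs ψ) J :=
    ((Groth.Agent.S12596.result k K hK φ hφ τ s Hs hHs A hA ψ fun i => rfl).1 J).2 hJ
  have hJφ' : FunFld.IsOrders K (FunFld.hcol τ Ht φ') J := by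
    rw [hψ', GrothLib.FunFld.isOrders_smul hHt hy]
    exact (GrothLib.FunFld.isOrders_change hHs hHt hK.1 (GrothLib.FunFld.isGeometric_of_perfectField hK) J).2 hJψ
  have hspan : Submodule.span k (Set.range ψ) = Submodule.span k (Set.range φ) := by
    haveI := FiniteDimensional.span_of_finite k (Set.finite_range φ)
    refine Submodule.eq_of_le_of_finrank_eq (Submodule.span_le.2 (Set.range_subset_iff.2 fun i =>
      Submodule.sum_mem _ fun j _ => Submodule.smul_mem _ _ (Submodule.subset_span ⟨j, rfl⟩))) ?_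
    rw [finrank_span_eq_card hψli, finrank_span_eq_card hφ]
  refine Finsupp.ext fun P => ?_
  obtain ⟨p, Hp, hp, hHp⟩ := GrothLib.FunFld.exists_parameter_hasse hK P
  obtain ⟨-, h1⟩ := GrothLib.FunFld.wDiv_apply_eq hK (hψ' ▸ GrothLib.FunFld.linearIndependent_smul hψli hy) hHt hJφ' hΦ
    (inv_ne_zero hy) hp hHp
  obtain ⟨-, h2⟩ := GrothLib.FunFld.wDiv_apply_eq hK hφ hHs hJ hΦ one_ne_zero hp hHp
  rw [hψ', inv_smul_smul₀ hy] at h1
  rw [one_smul] at h2
  rw [hψ', h1, h2]
  have hspan' : Submodule.span k (Set.range (τ ∘ ψ)) = Submodule.span k (Set.range (τ ∘ φ)) := by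
    rw [Set.range_comp, Set.range_comp, show (⇑τ) = ⇑τ.toLinearMap from rfl, Submodule.span_image,
      Submodule.span_image, hspan]
  have hne : ∀ i, φ i ≠ 0 := fun i => hφ.ne_zero i
  have hne' : ∀ i, ψ i ≠ 0 := fun i => hψli.ne_zero i
  rw [GrothLib.FunFld.mapDiv_eq_of_span_eq hK.1 hne' hne hspan,
    GrothLib.FunFld.mapDiv_eq_of_span_eq hK.1 (φ := τ ∘ ψ) (ψ := τ ∘ φ) (fun i => (map_ne_zero τ).2 (hne' i))
      (fun i => (map_ne_zero τ).2 (hne i)) hspan',
    GrothLib.FunFld.wrMat_linear_change A ψ (fun i => rfl) J, Matrix.det_mul,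
    show (A.map (algebraMap k K)).det = algebraMap k K A.det from (RingHom.map_det _ A).symm]
  have hJp := (GrothLib.FunFld.isOrders_change hHs hHp hK.1 (GrothLib.FunFld.isGeometric_of_perfectField hK) J).2 hJ
  rw [GrothLib.FunFld.ord_mul P ((map_ne_zero _).2 hA) (GrothLib.FunFld.det_wrMat_ne_zero hK hHp hφ hJp),
    GrothLib.FunFld.ord_const, zero_add]

end Groth.Agent.S12614
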