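import Groth.Statements.S12616
import Groth.Agent.Lib.FunFld.PlaneChange
import Groth.Agent.Lib.FunFld.MapDivOne

set_option autoImplicit false
open FunFld

namespace Groth.Agent.S12616

/-- Over an algebraically closed constant field, the adjoint divisor `Δ(φ) = (e - 3)[φ] - [dx/f̂_y]` of
an effective plane map `φ = (1 : x : y)` of degree `e`, with a homogeneous relation `f` of the same
degree `e` satisfying `f(1, x, y) = 0`, depends only on the equivalence class of `φ`: it is
unchanged under a change of projective coordinates `X = AX'`, with `x' = u₁/u₀`, `y' = u₂/u₀`, `u =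
A⁻¹(1, x, y)ᵗ`, `f'(X') = f(AX')`. Here `dx ≠ 0`, both `f̂_y` and `f̂'_{y'}` are nonzero, and
divisors of differentials are read through a family of Laurent expansions. (The published statement
takes `f` to be the minimal relation of `x` and `y` for a plane model `K = k(x, y)`, where the
degree of the map equals the degree of `f`; this row assumes only that `f` is homogeneous of degree
equal to the degree of the map, which is all the change-of-coordinates computation uses — when the
two degrees differ the two sides differ by a multiple of the divisor of `u₀`.) -/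
theorem result
    (k K : Type*) [Field k] [IsAlgClosed k] [Field K] [Algebra k K]
    (hK : FunFld.IsFunctionField k K) (f : MvPolynomial (Fin 3) k) (e : ℕ) (hf : f.IsHomogeneous e)
    (x y : K) (hfxy : MvPolynomial.aeval ![(1 : K), x, y] f = 0)
    (hdx : KaehlerDifferential.D k K x ≠ 0)
    (he : (FunFld.mapDiv k ![(1 : K), x, y]).deg = e)
    (A : Matrix (Fin 3) (Fin 3) k) (hA : A.det ≠ 0)
    (u : Fin 3 → K) (hu : ∀ i, ∑ j, algebraMap k K (A i j) * u j = ![(1 : K), x, y] i)
    (hu0 : u 0 ≠ 0)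
    (hfy : (MvPolynomial.aeval ![(1 : K), x, y] (MvPolynomial.pderiv 2 f)) ≠ 0)
    (hfy' : (MvPolynomial.aeval ![(1 : K), u 1 / u 0, u 2 / u 0] (MvPolynomial.pderiv 2 (MvPolynomial.aeval (fun i : Fin 3 => ∑ j, MvPolynomial.C (A i j) * MvPolynomial.X j) f))) ≠ 0)
    (Φ : FunFld.Place k K → (K →ₐ[k] LaurentSeries k))
    (hΦ : ∀ P : FunFld.Place k K, LocRes.IsExpansionAt P.1 (Φ P)) :
    ((FunFld.mapDiv k ![(1 : K), x, y]).deg - 3) • FunFld.mapDiv k ![(1 : K), x, y] -
        FunFld.divDiff Φ (MvPolynomial.aeval ![(1 : K), x, y] (MvPolynomial.pderiv 2 f))⁻¹ x =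
      ((FunFld.mapDiv k ![(1 : K), u 1 / u 0, u 2 / u 0]).deg - 3) •
          FunFld.mapDiv k ![(1 : K), u 1 / u 0, u 2 / u 0] -
        FunFld.divDiff Φ (MvPolynomial.aeval ![(1 : K), u 1 / u 0, u 2 / u 0] (MvPolynomial.pderiv 2 (MvPolynomial.aeval (fun i : Fin 3 => ∑ j, MvPolynomial.C (A i j) * MvPolynomial.X j) f)))⁻¹ (u 1 / u 0) := by
  classical
  have hG := GrothLib.FunFld.inv_pderiv_smul_D_change f e hf x y hfxy A u hu hu0 hfy hfy'
  set x' := u 1 / u 0
  set y' := u 2 / u 0
  set fy := MvPolynomial.aeval ![(1 : K), x, y] (MvPolynomial.pderiv 2 f)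
  set fy' := MvPolynomial.aeval ![(1 : K), x', y'] (MvPolynomial.pderiv 2
    (MvPolynomial.aeval (fun i : Fin 3 => ∑ j, MvPolynomial.C (A i j) * MvPolynomial.X j) f))
  have hX : ∀ i, ![(1 : K), x, y] i = u 0 * ∑ j, algebraMap k K (A i j) * ![(1 : K), x', y'] j := fun i => by
    rw [← hu i, Fin.sum_univ_three, Fin.sum_univ_three]
    simp only [x', y', Matrix.cons_val_zero, Matrix.cons_val_one, Matrix.cons_val_two, Matrix.head_cons,
      Matrix.tail_cons]
    field_simp
  have hAinv : A⁻¹ * A = 1 := Matrix.nonsing_inv_mul A (Ne.isUnit hA)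
  have hX' : ∀ i, ![(1 : K), x', y'] i = (u 0)⁻¹ * ∑ j, algebraMap k K (A⁻¹ i j) * ![(1 : K), x, y] j := fun i => by
    have h1 : ∑ j, algebraMap k K (A⁻¹ i j) * ![(1 : K), x, y] j = u i := by
      simp only [← hu, Finset.mul_sum, ← mul_assoc, ← map_mul]
      rw [Finset.sum_comm]
      simp only [← Finset.sum_mul, ← map_sum, ← Matrix.mul_apply, hAinv, Matrix.one_apply]
      rw [Finset.sum_eq_single i (fun b _ hb => by rw [if_neg (Ne.symm hb), map_zero, zero_mul]) (by simp),
        if_pos rfl, map_one, one_mul]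
    rw [h1]
    fin_cases i <;> simp [x', y', hu0, div_eq_inv_mul]
  set M := FunFld.mapDiv k ![(1 : K), x, y]
  set M' := FunFld.mapDiv k ![(1 : K), x', y']
  have hfg := hK.1
  have hM : ∀ P : FunFld.Place k K, M' P = M P + P.ord (u 0) := fun P => by
    have h1 : M P ≤ M' P - P.ord (u 0) := GrothLib.FunFld.mapDiv_le_of_combination (i₀ := (0 : Fin 3))
      (j₀ := (0 : Fin 3)) hfg rfl rfl hu0 (fun i j => A i j) hX P
    have h2 : M' P ≤ M P - P.ord (u 0)⁻¹ := GrothLib.FunFld.mapDiv_le_of_combination (i₀ := (0 : Fin 3))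
      (j₀ := (0 : Fin 3)) hfg rfl rfl (inv_ne_zero hu0) (fun i j => A⁻¹ i j) hX' P
    rw [GrothLib.FunFld.ord_inv] at h2
    omega
  have hMeq : M' = M + FunFld.div k (u 0) := Finsupp.ext fun P => by
    rw [Finsupp.add_apply, GrothLib.FunFld.IsFG.div_apply hfg, hM]
  have hdeg : M'.deg = e := by
    rw [hMeq, GrothLib.FunFld.deg_add, GrothLib.FunFld.IsFG.deg_div hfg, he, add_zero]
  set c := algebraMap k K A.det * (u 0)⁻¹ ^ ((e : ℤ) - 3)
  have hc : c ≠ 0 := mul_ne_zero ((map_ne_zero _).2 hA) (zpow_ne_zero _ (inv_ne_zero hu0))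
  have hcfy : c * fy'⁻¹ ≠ 0 := mul_ne_zero hc (inv_ne_zero hfy')
  have hdx' : KaehlerDifferential.D k K x' ≠ 0 := fun h0 => by
    rw [h0, smul_zero] at hG
    exact hdx ((smul_eq_zero.1 hG).resolve_left (inv_ne_zero hfy))
  rw [GrothLib.FunFld.divDiff_congr (Φ := Φ) hG hcfy, hdeg, he]
  refine Finsupp.ext fun P => ?_
  rw [Finsupp.sub_apply, Finsupp.sub_apply, Finsupp.smul_apply, Finsupp.smul_apply, hM,
    GrothLib.FunFld.divDiff_apply_eq hK hΦ hcfy hdx',
    GrothLib.FunFld.divDiff_apply_eq hK hΦ (inv_ne_zero hfy') hdx',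
    GrothLib.FunFld.ord_mul P hc (inv_ne_zero hfy'),
    GrothLib.FunFld.ord_mul P ((map_ne_zero _).2 hA) (zpow_ne_zero _ (inv_ne_zero hu0))]
  have hconst : P.ord (algebraMap k K A.det) = 0 := by
    have h1 := GrothLib.FunFld.val_const (K := K) P hA
    rw [GrothLib.FunFld.val_eq P ((map_ne_zero _).2 hA), ← WithZero.exp_zero, WithZero.exp_inj] at h1
    omega
  have hzpow : ∀ (z : K) (_ : z ≠ 0) (m : ℤ), P.ord (z ^ m) = m * P.ord z := fun z hz m => by
    rcases m with m | m
    · simp [GrothLib.FunFld.ord_pow]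
    · rw [zpow_negSucc, GrothLib.FunFld.ord_inv, GrothLib.FunFld.ord_pow, Int.negSucc_eq]; push_cast; ring
  rw [hconst, hzpow _ (inv_ne_zero hu0), GrothLib.FunFld.ord_inv]
  simp only [smul_eq_mul]
  ring

end Groth.Agent.S12616
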