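import Groth.Statements.S12617
import Groth.Agent.Lib.LocRes.HasseExp
import Groth.Agent.Lib.FunFld.Conseq
import Groth.Agent.Lib.FunFld.Embedding
-- import your own Groth.Agent.* helpers here

set_option autoImplicit false
open FunFld

namespace Groth.Agent.S12617

/-- Over an algebraically closed constant field, if the effective projective map `φ = (φ₀, …, φₙ)`, `n ≥
1`, normalized at `P`, is nonsingular at `P`, then its first order at `P` is `1`. -/
theorem result
    (k K : Type*) [Field k] [IsAlgClosed k] [Field K] [Algebra k K]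
    (hK : FunFld.IsFunctionField k K) (P : FunFld.Place k K) {n : ℕ} (hn : 0 < n) (φ : Fin (n + 1) → K)
    (hφ : LinearIndependent k φ)
    (heff : (1 : K) ∈ Submodule.span k (Set.range φ)) (hnorm : ∀ i, P.1 (φ i) ≤ 1) (hns : FunFld.IsNonsingularAt φ P)
    (t : K) (ht : P.1 t = WithZero.exp (-1))
    (Ht : K →ₐ[k] PowerSeries K) (hHt : LocRes.IsHasseFamily t Ht)
    (J' : Fin n → ℕ) (hJ' : FunFld.IsOrders (IsLocalRing.ResidueField P.O) (FunFld.hcolAt P Ht φ) J') :
    J' ⟨0, hn⟩ = 1 := by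
  classical
  have hg := GrothLib.FunFld.isGeometric_of_perfectField hK
  have hrat : GrothLib.FunFld.IsRational P := by
    have := GrothLib.FunFld.IsFG.finite_residueField hK.1 P
    haveI : Algebra.IsIntegral k (IsLocalRing.ResidueField P.O) := ⟨fun r =>
      @IsIntegral.of_finite k (IsLocalRing.ResidueField P.O) _ _ _ this r⟩
    exact IsAlgClosed.algebraMap_bijective_of_isIntegral
  obtain ⟨ψ, hψ, hψt⟩ := GrothLib.FunFld.exists_expansion ht hrat
  -- a parameter in the span
  have htlt : P.1 t < 1 := by rw [ht, ← WithZero.exp_zero, WithZero.exp_lt_exp]; omega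
  obtain ⟨s, hs, hsv⟩ := (GrothLib.FunFld.exists_parameter_iff_span hK.1 heff hnorm).1
    ⟨t, hns t htlt.le, ht⟩
  obtain ⟨c, hc⟩ := Submodule.mem_span_range_iff_exists_fun k |>.1 hs
  have hs1 : P.1 s ≤ 1 := by rw [hsv, ← WithZero.exp_zero, WithZero.exp_le_exp]; omega
  have hint : ∀ i j, P.1 (LocRes.hasseD Ht j (φ i)) ≤ 1 := fun i j =>
    GrothLib.FunFld.val_hasseD_le_one hK.1 hg hψ hψt hHt (hnorm i) j
  -- the combination `∑ cᵢ φᵢ` of the columns
  let z : ℕ → P.O := fun j => ∑ i, algebraMap k P.O (c i) * ⟨_, hint i j⟩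
  have hzK : ∀ j, ((z j : P.O) : K) = LocRes.hasseD Ht j s := fun j => by
    show (P.O.subtype (z j)) = _
    simp only [z, map_sum, map_mul, ← hc, LocRes.hasseD_apply, map_smul, PowerSeries.coeff_smul]
    exact Finset.sum_congr rfl fun i _ => by rw [Algebra.smul_def]; rfl
  let L : (Fin (n + 1) → IsLocalRing.ResidueField P.O) →ₗ[IsLocalRing.ResidueField P.O]
      IsLocalRing.ResidueField P.O :=
    Fintype.linearCombination (IsLocalRing.ResidueField P.O)
      (fun i => GrothLib.FunFld.res P (algebraMap k P.O (c i)))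
  have hL : ∀ j, L (FunFld.hcolAt P Ht φ (j + 1)) = GrothLib.FunFld.res P (z j) := fun j => by
    simp only [L, Fintype.linearCombination_apply, z, map_sum, map_mul, smul_eq_mul]
    refine Finset.sum_congr rfl fun i _ => ?_
    rw [mul_comm]
    congr 1
    show FunFld.evalP P (LocRes.hasseD Ht j (φ i)) = _
    rw [FunFld.evalP, dif_pos (hint i j)]
    rfl
  have hD0 : ∀ x : K, LocRes.hasseD Ht 0 x = x := fun x => by
    rw [LocRes.hasseD_apply, PowerSeries.coeff_zero_eq_constantCoeff_apply, hHt.2]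
  have hcol : FunFld.hcolAt P Ht φ 1 = FunFld.hcolAt P Ht φ 0 := funext fun i => by
    show FunFld.evalP P (LocRes.hasseD Ht 0 (φ i)) = FunFld.evalP P (φ i)
    rw [hD0]
  have hL0 : L (FunFld.hcolAt P Ht φ 1) = 0 := by
    rw [hL 0, GrothLib.FunFld.res_eq_zero_iff, hzK, hD0]
    show P.1 s < 1
    rw [hsv, ← WithZero.exp_zero, WithZero.exp_lt_exp]; omega
  have hL1 : L (FunFld.hcolAt P Ht φ 2) ≠ 0 := by
    rw [hL 1, Ne, GrothLib.FunFld.res_eq_zero_iff, hzK]
    intro h1
    change P.1 _ < 1 at h1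
    obtain ⟨q, hq⟩ := (LaurentSeries.val_le_one_iff_eq_coe k (ψ s)).mp ((hψ.1 s).trans_le hs1)
    rw [← hψ.1, GrothLib.FunFld.expansion_hasseD hK.1 hg hψ hψt hHt hs1, ← hq,
      GrothLib.FunFld.hasseDeriv_coe] at h1
    have h2 := LaurentSeries.coeff_zero_of_lt_valuation k (D := 1) (n := 0)
      (by
        rw [show (-(1 : ℤ)) = 0 - 1 by norm_num, GrothLib.FunFld.le_exp_sub_one_iff, WithZero.exp_zero]
        exact h1) one_pos
    rw [show (0 : ℤ) = ((0 : ℕ) : ℤ) from rfl, LaurentSeries.coeff_coe_powerSeries,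
      GrothLib.FunFld.coeff_shift] at h2
    have h3 : Valued.v (ψ s) ≤ WithZero.exp (-(2 : ℤ)) := by
      rw [LaurentSeries.valuation_le_iff_coeff_lt_eq_zero]
      intro m hm
      rcases lt_or_ge m 0 with hm0 | hm0
      · rw [← hq]; exact GrothLib.LocRes.coeff_coe_eq_zero _ hm0
      obtain ⟨m, rfl⟩ := Int.eq_ofNat_of_zero_le hm0
      rw [← hq, LaurentSeries.coeff_coe_powerSeries]
      obtain rfl | rfl : m = 0 ∨ m = 1 := by omega
      · have hψv : Valued.v (ψ s) < 1 := by
          rw [hψ.1, hsv, ← WithZero.exp_zero, WithZero.exp_lt_exp]; omega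
        have := LaurentSeries.coeff_zero_of_lt_valuation k (D := 1) (n := 0)
          (by
            rw [show (-(1 : ℤ)) = 0 - 1 by norm_num, GrothLib.FunFld.le_exp_sub_one_iff, WithZero.exp_zero]
            exact hψv) one_pos
        rwa [← hq, show (0 : ℤ) = ((0 : ℕ) : ℤ) from rfl, LaurentSeries.coeff_coe_powerSeries] at this
      · simpa using h2
    rw [hψ.1, hsv, WithZero.exp_le_exp] at h3
    omega
  have hjump1 : ¬ FunFld.IsJump (IsLocalRing.ResidueField P.O) (FunFld.hcolAt P Ht φ) (0 + 1) := fun h =>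
    h (Submodule.subset_span ⟨0, Nat.zero_lt_one, hcol.symm⟩)
  have hjump2 : FunFld.IsJump (IsLocalRing.ResidueField P.O) (FunFld.hcolAt P Ht φ) (1 + 1) := by
    intro h
    apply hL1
    have hle : Submodule.span (IsLocalRing.ResidueField P.O) (FunFld.hcolAt P Ht φ '' Set.Iio 2) ≤ L.ker := by
      rw [Submodule.span_le]
      rintro _ ⟨m, hm, rfl⟩
      obtain rfl | rfl : m = 0 ∨ m = 1 := by
        have : m < 2 := hm
        omega
      · show L _ = 0
        rw [← hcol]; exact hL0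
      · exact hL0
    exact hle h
  obtain ⟨a, ha⟩ := (hJ'.2 1).2 hjump2
  have h0 : J' ⟨0, hn⟩ ≠ 0 := fun h => hjump1 ((hJ'.2 0).1 ⟨_, h⟩)
  have h1 : J' ⟨0, hn⟩ ≤ J' a := hJ'.1.monotone (Fin.mk_le_mk.2 (Nat.zero_le a.1))
  omega

end Groth.Agent.S12617
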