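import Groth.Statements.S1262
import Groth.Agent.Lib.RG6.FibreOpen
-- import your own Groth.Agent.* helpers here

set_option autoImplicit false
universe u
open FlatMor

namespace Groth.Agent.S1262

/-- Ring form, X = Spec S affine: let S be a finite type R-algebra, N a finite S-module and p a prime of
R. Then the set of points x of the fibre Spec(κ(p) ⊗ S) such that N is flat over R at the prime of S
under x is open in the fibre. -/
theorem result {R S : Type u} [CommRing R] [CommRing S] [Algebra R S] [Algebra.FiniteType R S]
    (N : Type u) [AddCommGroup N] [Module S N] [Module R N] [IsScalarTower R S N] [Module.Finite S N]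
    (p : Ideal R) [p.IsPrime] :
    IsOpen {x : PrimeSpectrum (p.Fiber S) |
      FlatCA.FlatAt R (x.asIdeal.comap (Algebra.TensorProduct.includeRight (R := R) (A := p.ResidueField) (B := S)).toRingHom) N} := by
    refine isOpen_iff_forall_mem_open.2 fun x hx => ?_
    obtain ⟨h, hh, H⟩ := GrothLib.RG6.exists_flat_near_in_fibre N p
      (x.asIdeal.comap (Algebra.TensorProduct.includeRight (R := R) (A := p.ResidueField) (B := S)).toRingHom) hx
    refine ⟨PrimeSpectrum.basicOpen ((Algebra.TensorProduct.includeRight (R := R) (A := p.ResidueField) (B := S)) h),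
      fun y hy => H _ ⟨(GrothLib.WeakAssFib.comap_comap_toFib p y.asIdeal).symm⟩ hy, (PrimeSpectrum.basicOpen _).2, hh⟩

end Groth.Agent.S1262
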