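import Groth.Statements.S12623
import Mathlib
import Groth.Agent.Lib.PDiff19.Basic
-- import your own Groth.Agent.* helpers here

set_option autoImplicit false
universe u v
open CAlg

namespace Groth.Agent.S12623

/-- For a perfect field `K` of characteristic `p > 0` and a commutative `K`-algebra `A`, put `δ_i(x) =
x^(p^i - 1) dx` in `Ω_{A/K}` and let the subsets `Σ^i ⊆ Ω_{A/K}` be given by `Σ^0 = {0}` and
`Σ^(i+1) = {δ_i(x) + σ | x ∈ A, σ ∈ Σ^i}`; then the defect of additivity `δ_i(x + y) - δ_i(x) -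
δ_i(y)` lies in `Σ^i` for all `i` and all `x, y ∈ A`. -/
theorem result (K : Type u) (A : Type v) [Field K] [PerfectField K] (p : ℕ) [Fact p.Prime] [CharP K p]
    [CommRing A] [Algebra K A] (i : ℕ) (x y : A) :
    W4bk4bump814p2.delta K A p i (x + y) - W4bk4bump814p2.delta K A p i x - W4bk4bump814p2.delta K A p i y ∈
      W4bk4bump814p2.sigma K A p i := by
  obtain ⟨S, hS⟩ := GrothLib.PDiff19.delta_add_eq K A p i
  rw [GrothLib.PDiff19.sigma_eq_closure K A p i]
  have h := hS x y
  have h1 : W4bk4bump814p2.delta K A p i (x + y) - W4bk4bump814p2.delta K A p i x - W4bk4bump814p2.delta K A p i y =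
      -∑ j ∈ Finset.range i, W4bk4bump814p2.delta K A p (i - (j + 1)) (MvPolynomial.aeval ![x, y] (S j)) := by
    rw [sub_sub, ← h]; abel
  rw [h1, SetLike.mem_coe]
  refine neg_mem (sum_mem fun j hj => AddSubgroup.subset_closure (Set.mem_biUnion ?_ ⟨_, rfl⟩))
  have := Finset.mem_range.1 hj
  exact Finset.mem_range.2 (by omega)

end Groth.Agent.S12623
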