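import Groth.Statements.S12626
import Mathlib
import Groth.Agent.Lib.PDiff19.Basic
-- import your own Groth.Agent.* helpers here

set_option autoImplicit false
universe u v
open CAlg

namespace Groth.Agent.S12626

/-- For a perfect field `K` of characteristic `p > 0` and a commutative `K`-algebra `A`, put `δ_i(x) =
x^(p^i - 1) dx` in `Ω_{A/K}` and let the subsets `Σ^i ⊆ Ω_{A/K}` be given by `Σ^0 = {0}` and
`Σ^(i+1) = {δ_i(x) + σ | x ∈ A, σ ∈ Σ^i}`; then `Σ^i` is stable under multiplication by `p^i`-th
powers of elements of `A`: for `x ∈ A` and `ω ∈ Σ^i`, `x^(p^i) ω ∈ Σ^i`. This stability is what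
turns the rule `x · [ω] = [x^(p^i) ω]` into an `A`-module structure on the quotient `Ω_{A/K} / Σ^i`
(the row states the stability; that `x ↦ [δ_i(x)]` is then a derivation is a direct computation and
is not restated). -/
theorem result (K : Type u) (A : Type v) [Field K] [PerfectField K] (p : ℕ) [Fact p.Prime] [CharP K p]
    [CommRing A] [Algebra K A] (i : ℕ) (x : A)
    (ω : Ω[A⁄K]) (hω : ω ∈ W4bk4bump814p2.sigma K A p i) :
    (x ^ (p ^ i)) • ω ∈ W4bk4bump814p2.sigma K A p i := by
  rw [GrothLib.PDiff19.sigma_eq_closure K A p i, SetLike.mem_coe] at hω ⊢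
  induction hω using AddSubgroup.closure_induction with
  | mem ω hω =>
    simp only [Set.mem_iUnion, Set.mem_range, Finset.mem_range] at hω
    obtain ⟨j, hj, z, rfl⟩ := hω
    have h1 := GrothLib.PDiff19.delta_pow_mul K A p j (i - j) (by omega) x z
    rw [Nat.add_sub_cancel' hj.le] at h1
    rw [← h1]
    exact AddSubgroup.subset_closure (Set.mem_biUnion (Finset.mem_range.2 hj) ⟨_, rfl⟩)
  | zero => rw [smul_zero]; exact zero_mem _
  | add a b _ _ ha hb => rw [smul_add]; exact add_mem ha hb
  | neg a _ ha => rw [smul_neg]; exact neg_mem ha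

end Groth.Agent.S12626
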