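import Groth.Statements.S12627
-- import your own Groth.Agent.* helpers here
import Groth.Agent.Lib.AbMul.CurveTangent
import Groth.Agent.Lib.Rigidity.AbImage
import Groth.Agent.Lib.Rigidity.SmoothGroup

set_option autoImplicit false
universe u
open CategoryTheory CategoryTheory.Limits MonoidalCategory CartesianMonoidalCategory MonObj GrpObj AlgebraicGeometry
open AbVar

namespace Groth.Agent.S12627

/-- Let `k` be an algebraically closed field and `E₁`, `E₂` elliptic curves over `k`, i.e. group schemes
over `Spec k` whose underlying schemes are proper, smooth, integral and one-dimensional. If `φ, φ' :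
E₁ → E₂` are homomorphisms with `φ` finite, surjective and étale (a separable isogeny) and `φ'` not
étale (the zero homomorphism or an inseparable isogeny), then their sum under the group law of `E₂`
— the composite of `(φ, φ')` with the multiplication of `E₂` — is finite, surjective and étale, i.e.
again a separable isogeny. (The published statement is for arbitrary morphisms `φ, φ'` and takes
`φ'` inseparable; this row takes homomorphisms, the case its proof treats — a morphism of elliptic
curves is a homomorphism followed by a translation, which changes neither the hypotheses nor the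
conclusion — and allows `φ'` to be the zero map, that case being immediate.) -/
theorem result (k : Type u) [Field k] [IsAlgClosed k]
    (E₁ E₂ : Over (Spec (CommRingCat.of k)))
    [GrpObj E₁] [IsProper E₁.hom] [Smooth E₁.hom] [IsIntegral E₁.left] (hE₁ : topologicalKrullDim E₁.left = 1)
    [GrpObj E₂] [IsProper E₂.hom] [Smooth E₂.hom] [IsIntegral E₂.left] (hE₂ : topologicalKrullDim E₂.left = 1)
    (φ φ' : E₁ ⟶ E₂) [IsMonHom φ] [IsMonHom φ'] [IsFinite φ.left] [Surjective φ.left] [Etale φ.left]
    (hφ' : ¬ Etale φ'.left) :
    IsFinite (φ * φ').left ∧ Surjective (φ * φ').left ∧ Etale (φ * φ').left := by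
  haveI := GrothLib.Rigidity.geometricallyReduced_of_smooth E₁.hom
  haveI : GeometricallyIntegral E₁.hom := GrothLib.Rigidity.geometricallyIntegral_of_connected E₁
  haveI := GrothLib.Rigidity.geometricallyReduced_of_smooth E₂.hom
  haveI : GeometricallyIntegral E₂.hom := GrothLib.Rigidity.geometricallyIntegral_of_connected E₂
  haveI : IsCommMonObj E₂ := isCommMonObj_of_isProper_of_geometricallyIntegral E₂
  have hcl : IsClosed ({GrothLib.AbMul.unitPt E₁} : Set E₁.left) := by
    have h := (η[E₁]).left.isClosedMap.isClosed_range
    convert h using 1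
    ext z
    constructor
    · rintro rfl; exact ⟨_, rfl⟩
    · rintro ⟨w, rfl⟩
      exact congrArg (η[E₁]).left (Subsingleton.elim (α := ↥(Spec (CommRingCat.of k))) _ _)
  haveI : IsMonHom (φ * φ') := by
    refine GrothLib.GrpSchField.isMonHom_of_mul _ ?_
    have e : μ[E₁] = fst E₁ E₁ * snd E₁ E₁ := by rw [Hom.mul_def, lift_fst_snd, Category.id_comp]
    have e' : ∀ g : E₁ ⟶ E₂, IsMonHom g → μ[E₁] ≫ g = (fst E₁ E₁ ≫ g) * (snd E₁ E₁ ≫ g) := fun g _ => by
      rw [e, MonObj.mul_comp]
    have e2 : μ[E₁] ≫ (φ * φ') = (fst E₁ E₁ ≫ (φ * φ')) * (snd E₁ E₁ ≫ (φ * φ')) := by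
      rw [MonObj.comp_mul, e' φ inferInstance, e' φ' inferInstance, MonObj.comp_mul, MonObj.comp_mul, _root_.mul_mul_mul_comm]
    rw [e2, Hom.mul_def]
    congr 1

  have fin : ∀ f : E₁ ⟶ E₂, IsMonHom f → FormallyUnramified f.left →
      IsFinite f.left ∧ Surjective f.left ∧ Etale f.left := by
    intro f hf hu
    haveI : IsProper (f.left ≫ E₂.hom) := by rw [Over.w]; infer_instance
    haveI : IsProper f.left := IsProper.of_comp f.left E₂.hom
    haveI : LocallyQuasiFinite f.left := GrothLib.EtBasicB.locallyQuasiFinite_of_unramified f.left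
    haveI : IsFinite f.left := IsFinite.of_isProper_of_locallyQuasiFinite f.left
    haveI hs : Surjective f.left := by
      obtain ⟨m, hm, hm'⟩ := GrothLib.Dim.dim_closure_range_eq f.left E₂.hom
      refine ⟨fun a => ?_⟩
      have h := GrothLib.Dim.eq_univ_of_dim_le isClosed_closure
        ((hE₂.trans (hE₁.symm.trans hm)).trans hm'.symm).le hm'
      rw [f.left.isClosedMap.isClosed_range.closure_eq] at h
      exact h.ge (Set.mem_univ a)
    haveI : IsLocallyNoetherian E₂.left := LocallyOfFiniteType.isLocallyNoetherian E₂.hom
    haveI : Flat f.left := GrothLib.GrpSchField.flat_hom f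
    haveI : LocallyOfFinitePresentation f.left := inferInstance
    exact ⟨inferInstance, hs, Etale.of_formallyUnramified_of_flat f.left⟩
  obtain h | h := GrothLib.AbMul.formallyUnramified_or_kills hE₁ hcl φ'
  · exact absurd (fin φ' inferInstance h).2.2 hφ'
  · exact fin (φ * φ') inferInstance (GrothLib.AbMul.formallyUnramified_mul φ φ' h)

end Groth.Agent.S12627
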