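import Groth.Statements.S12628
import Groth.Agent.Lib.LocRes.ResidueTheorem

set_option autoImplicit false
universe u v w
open FunFld

namespace Groth.Agent.S12628

/-- Let `K/k` be a geometric function field of one variable all of whose places carry a Laurent
expansion over `k` in a local parameter (valuation-compatible, valuation ring onto a
finite-dimensional coefficient field, normalised — so every place is separable), and let `v ∈ K`
have `dv ≠ 0`. Then every Weil differential — a `k`-linear form on the repartition space vanishing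
on some `A(D) + K` — is of the form `a ↦ ∑_P Res_P(a_P · u dv)` for exactly one `u ∈ K`, the local
residue being the trace to `k` of the `X⁻¹`-coefficient read through the expansion; i.e. the residue
pairing maps the Kähler differentials ONTO the Weil differentials. (The published statement is over
an algebraically closed field, where every place is rational; this row is the form for any constant
field under the stated separability of all places.) -/
theorem result (k : Type u) (K : Type v) [Field k] [Field K] [Algebra k K]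
    (hK : FunFld.IsFunctionField k K) (hg : FunFld.IsGeometric k K)
    (F : FunFld.Place k K → Type w) [∀ P, Field (F P)] [∀ P, Algebra k (F P)] [∀ P, FiniteDimensional k (F P)]
    (φ : ∀ P, K →ₐ[k] LaurentSeries (F P)) (hφ : ∀ P, LocRes.IsExpansionAt P.1 (φ P))
    (v : K) (hv : KaehlerDifferential.D k K v ≠ 0)
    (ω : Module.Dual k (FunFld.adele k K)) (hω : FunFld.IsWeil ω) :
    ∃! u : K, ∀ a : FunFld.adele k K,
      (Function.support fun P => LocRes.locRes (φ P) ((a : FunFld.Place k K → K) P * u) v).Finite ∧
        ω a = ∑ᶠ P, LocRes.locRes (φ P) ((a : FunFld.Place k K → K) P * u) v := by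
  classical
  obtain ⟨Ω, hΩ, hΩs, -⟩ := GrothLib.LocRes.exists_weil_mul hφ hK hg 1 v
  have hΩ0 := (GrothLib.LocRes.isDivOf_eq_ordDiff hφ hK hg one_ne_zero hv hΩs).1
  have hs : ∀ (y : K) (P : FunFld.Place k K) (z : K),
      GrothLib.FunFld.mulMap hK.1 Ω y (GrothLib.FunFld.sgl P z) = LocRes.locRes (φ P) (z * y) v :=
    fun y P z => by rw [GrothLib.LocRes.mulMap_sgl, hΩs, mul_one, mul_comm]
  obtain ⟨u, rfl⟩ := GrothLib.FunFld.exists_smul_eq hK hΩ hΩ0 hω
  refine ⟨u, fun a => ?_, fun u' hu' => ?_⟩
  · obtain ⟨C, hC⟩ := hω
    have h := GrothLib.LocRes.apply_eq_finsum hC a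
    simp only [hs] at h
    exact h
  · refine (GrothLib.FunFld.mulMap_injective hK.1 hΩ0 ?_).symm
    obtain ⟨P⟩ := GrothLib.FunFld.IsFG.exists_place hK.1
    obtain ⟨C₁, hC₁⟩ := GrothLib.LocRes.isWeil_mulMap hK.1 hΩ u
    obtain ⟨C₂, hC₂⟩ := GrothLib.LocRes.isWeil_mulMap hK.1 hΩ u'
    rw [← sub_eq_zero]
    refine GrothLib.LocRes.eq_zero_of_sgl hK ⟨C₁ ⊓ C₂, sub_mem
      (GrothLib.FunFld.WD_anti inf_le_left hC₁) (GrothLib.FunFld.WD_anti inf_le_right hC₂)⟩ P fun z => ?_
    rw [LinearMap.sub_apply, sub_eq_zero, (hu' (GrothLib.FunFld.sgl P z)).2,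
      finsum_eq_single _ P fun Q hQ => by
        rw [GrothLib.FunFld.sgl_apply_of_ne hQ, zero_mul]
        simp [LocRes.locRes, LocRes.resExp],
      GrothLib.FunFld.sgl_apply_self, hs]

end Groth.Agent.S12628
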