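import Groth.Statements.S1263
import Groth.Agent.Lib.RGProj13.FreeDescent

set_option autoImplicit false
universe u
open FlatMor

namespace Groth.Agent.S1263

/-- Ring form, X = Spec S and S = Spec R affine: let S be a finite type R-algebra and q a prime of S
over p with S_q flat over R. Then there is an étale R-algebra R' with a prime p' over p having the
same residue field such that, writing A for the local ring of R' at p' and S_A for the base change
(any model): some g ∈ S_A outside every prime over both q and the maximal ideal of A has (S_A)_g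
flat and of finite presentation over A. -/
theorem result {R S : Type u} [CommRing R] [CommRing S] [Algebra R S] [Algebra.FiniteType R S]
    (p : Ideal R) [p.IsPrime] (q : Ideal S) [q.IsPrime] [q.LiesOver p] (hflat : Module.Flat R (Localization.AtPrime q)) :
    ∃ (R' : Type u) (_ : CommRing R') (_ : Algebra R R') (p' : Ideal R') (_ : p'.IsPrime), FlatCA.IsEtaleNhd R R' p p' ∧
      ∀ (SA : Type u) [CommRing SA] [Algebra R SA] [Algebra S SA] [Algebra (Localization.AtPrime p') SA]
        [IsScalarTower R S SA] [IsScalarTower R (Localization.AtPrime p') SA]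
        [Algebra.IsPushout R S (Localization.AtPrime p') SA],
        ∃ g : SA, (∀ (Q : Ideal SA) [Q.IsPrime], Q.LiesOver q → Q.LiesOver (IsLocalRing.maximalIdeal (Localization.AtPrime p')) → g ∉ Q) ∧
          Module.Flat (Localization.AtPrime p') (Localization.Away g) ∧
          Algebra.FinitePresentation (Localization.AtPrime p') (Localization.Away g) := by
  classical
  obtain ⟨n, π, hπ⟩ := Algebra.FiniteType.iff_quotient_mvPolynomial''.1 (inferInstance : Algebra.FiniteType R S)
  letI : Algebra (MvPolynomial (Fin n) R) S := π.toRingHom.toAlgebra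
  haveI : IsScalarTower R (MvPolynomial (Fin n) R) S :=
    IsScalarTower.of_algebraMap_eq fun r => (π.commutes r).symm
  haveI : Module.Finite (MvPolynomial (Fin n) R) S :=
    Module.Finite.of_surjective (Algebra.linearMap (MvPolynomial (Fin n) R) S) hπ
  let qP : Ideal (MvPolynomial (Fin n) R) := q.comap (algebraMap (MvPolynomial (Fin n) R) S)
  haveI : qP.LiesOver p := ⟨by
    rw [(inferInstance : q.LiesOver p).over, Ideal.under_def, Ideal.under_def, Ideal.comap_comap,
      ← IsScalarTower.algebraMap_eq]⟩
  have hsub : Algebra.algebraMapSubmonoid S qP.primeCompl = q.primeCompl := by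
    ext s
    constructor
    · rintro ⟨x, hx, rfl⟩
      exact hx
    · intro hs
      obtain ⟨x, rfl⟩ := hπ s
      exact ⟨x, hs, rfl⟩
  haveI : IsLocalization (Algebra.algebraMapSubmonoid S qP.primeCompl) (Localization.AtPrime q) := by
    rw [hsub]; infer_instance
  have hflatP : FlatCA.FlatAt R qP S := by
    let e := IsLocalizedModule.iso qP.primeCompl
      (IsScalarTower.toAlgHom (MvPolynomial (Fin n) R) S (Localization.AtPrime q)).toLinearMap
    haveI := hflat
    exact Module.Flat.of_linearEquiv (e.restrictScalars R)
  obtain ⟨R', _, _, p', _, hR, H⟩ := GrothLib.RGProj13.exists_away_nhd S p qP hflatP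
  refine ⟨R', inferInstance, inferInstance, p', inferInstance, hR, ?_⟩
  intro SA _ _ _ _ _ _ _
  letI : Algebra (MvPolynomial (Fin n) R) (MvPolynomial (Fin n) (Localization.AtPrime p')) :=
    MvPolynomial.algebraMvPolynomial
  letI : Algebra (MvPolynomial (Fin n) R) SA :=
    ((algebraMap S SA).comp (algebraMap (MvPolynomial (Fin n) R) S)).toAlgebra
  haveI : IsScalarTower (MvPolynomial (Fin n) R) S SA := IsScalarTower.of_algebraMap_eq fun _ => rfl
  haveI : IsScalarTower R (MvPolynomial (Fin n) R) SA := IsScalarTower.of_algebraMap_eq fun r => by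
    rw [IsScalarTower.algebraMap_apply (MvPolynomial (Fin n) R) S SA,
      ← IsScalarTower.algebraMap_apply R (MvPolynomial (Fin n) R) S, ← IsScalarTower.algebraMap_apply R S SA]
  letI : Algebra (MvPolynomial (Fin n) (Localization.AtPrime p')) SA :=
    (MvPolynomial.aeval fun i => algebraMap (MvPolynomial (Fin n) R) SA (MvPolynomial.X i)).toRingHom.toAlgebra
  haveI : IsScalarTower (Localization.AtPrime p') (MvPolynomial (Fin n) (Localization.AtPrime p')) SA :=
    IsScalarTower.of_algebraMap_eq fun a => (MvPolynomial.aeval_C _ a).symm
  haveI : IsScalarTower (MvPolynomial (Fin n) R) (MvPolynomial (Fin n) (Localization.AtPrime p')) SA := by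
    refine IsScalarTower.of_algebraMap_eq' (MvPolynomial.ringHom_ext (fun r => ?_) fun i => ?_)
    · show algebraMap (MvPolynomial (Fin n) R) SA (algebraMap R (MvPolynomial (Fin n) R) r) =
        MvPolynomial.aeval _ (MvPolynomial.map (algebraMap R (Localization.AtPrime p')) (MvPolynomial.C r))
      rw [MvPolynomial.map_C, MvPolynomial.aeval_C, ← IsScalarTower.algebraMap_apply,
        ← IsScalarTower.algebraMap_apply]
    · show _ = MvPolynomial.aeval _ (MvPolynomial.map (algebraMap R (Localization.AtPrime p')) (MvPolynomial.X i))
      rw [MvPolynomial.map_X, MvPolynomial.aeval_X]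
  haveI : IsScalarTower R (MvPolynomial (Fin n) (Localization.AtPrime p')) SA := IsScalarTower.of_algebraMap_eq fun r => by
    rw [IsScalarTower.algebraMap_apply R (Localization.AtPrime p') (MvPolynomial (Fin n) (Localization.AtPrime p')),
      ← IsScalarTower.algebraMap_apply (Localization.AtPrime p') (MvPolynomial (Fin n) (Localization.AtPrime p')) SA,
      ← IsScalarTower.algebraMap_apply]
  haveI hpP : Algebra.IsPushout R (MvPolynomial (Fin n) R) (Localization.AtPrime p')
      (MvPolynomial (Fin n) (Localization.AtPrime p')) := inferInstance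
  have hpS : Algebra.IsPushout (MvPolynomial (Fin n) R) S (MvPolynomial (Fin n) (Localization.AtPrime p')) SA :=
    (Algebra.IsPushout.comp_iff R (MvPolynomial (Fin n) R) (Localization.AtPrime p')
      (MvPolynomial (Fin n) (Localization.AtPrime p')) (T := S) (T' := SA)).1 inferInstance
  have hf := hpS.symm.out
  obtain ⟨g, hg, hfp, hfl⟩ := H (MvPolynomial (Fin n) (Localization.AtPrime p')) SA _ hf
  let gS : SA := algebraMap (MvPolynomial (Fin n) (Localization.AtPrime p')) SA g
  have hsurj : Function.Surjective (algebraMap (MvPolynomial (Fin n) (Localization.AtPrime p')) SA) := fun x => by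
    refine hf.inductionOn x (fun y => ∃ z, algebraMap _ SA z = y) ⟨0, map_zero _⟩ (fun m => ?_) ?_ ?_
    · obtain ⟨m, rfl⟩ := hπ m
      refine ⟨algebraMap (MvPolynomial (Fin n) R) (MvPolynomial (Fin n) (Localization.AtPrime p')) m, ?_⟩
      rw [← IsScalarTower.algebraMap_apply (MvPolynomial (Fin n) R) (MvPolynomial (Fin n) (Localization.AtPrime p')) SA]
      rfl
    · rintro s y ⟨z, rfl⟩
      exact ⟨s * z, by rw [map_mul, Algebra.smul_def]⟩
    · rintro y₁ y₂ ⟨z₁, rfl⟩ ⟨z₂, rfl⟩
      exact ⟨z₁ + z₂, map_add _ _ _⟩
  refine ⟨gS, fun Q _ hQ hm hmem => ?_, ?_⟩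
  · haveI : (Q.comap (algebraMap (MvPolynomial (Fin n) (Localization.AtPrime p')) SA)).IsPrime := inferInstance
    refine hg (Q.comap (algebraMap (MvPolynomial (Fin n) (Localization.AtPrime p')) SA)) ⟨?_⟩ ⟨?_⟩ hmem
    · show q.comap (algebraMap (MvPolynomial (Fin n) R) S) = _
      rw [hQ.over, Ideal.under_def, Ideal.under_def, Ideal.comap_comap, Ideal.comap_comap,
        ← IsScalarTower.algebraMap_eq, ← IsScalarTower.algebraMap_eq]
    · rw [hm.over, Ideal.under_def, Ideal.under_def, Ideal.comap_comap, ← IsScalarTower.algebraMap_eq]
  haveI : IsLocalization (Algebra.algebraMapSubmonoid SA (Submonoid.powers g)) (Localization.Away gS) := by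
    rw [show Algebra.algebraMapSubmonoid SA (Submonoid.powers g) = Submonoid.powers gS from
      Submonoid.map_powers _ g]
    infer_instance
  let e := IsLocalizedModule.iso (Submonoid.powers g)
    (IsScalarTower.toAlgHom (MvPolynomial (Fin n) (Localization.AtPrime p')) SA (Localization.Away gS)).toLinearMap
  refine ⟨Module.Flat.of_linearEquiv (e.restrictScalars (Localization.AtPrime p')).symm, ?_⟩
  letI : Algebra (Localization.Away g) (Localization.Away gS) :=
    (IsLocalization.Away.map (Localization.Away g) (Localization.Away gS)
      (algebraMap (MvPolynomial (Fin n) (Localization.AtPrime p')) SA) g).toAlgebra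
  haveI : IsScalarTower (MvPolynomial (Fin n) (Localization.AtPrime p')) (Localization.Away g)
      (Localization.Away gS) := IsScalarTower.of_algebraMap_eq fun x => by
    rw [RingHom.algebraMap_toAlgebra]
    show _ = IsLocalization.map _ _ _ (algebraMap _ _ x)
    rw [IsLocalization.map_eq, ← IsScalarTower.algebraMap_apply]
  haveI : IsScalarTower (Localization.AtPrime p') (Localization.Away g) (Localization.Away gS) :=
    IsScalarTower.of_algebraMap_eq fun a => by
      rw [IsScalarTower.algebraMap_apply (Localization.AtPrime p')
        (MvPolynomial (Fin n) (Localization.AtPrime p')) (Localization.Away g),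
        ← IsScalarTower.algebraMap_apply (MvPolynomial (Fin n) (Localization.AtPrime p')) (Localization.Away g)
          (Localization.Away gS), ← IsScalarTower.algebraMap_apply]
  let e' := e.extendScalarsOfIsLocalization (Submonoid.powers g) (Localization.Away g)
  haveI := hfp
  haveI : Module.FinitePresentation (Localization.Away g) (Localization.Away gS) :=
    Module.finitePresentation_of_surjective e'.toLinearMap e'.surjective (by simp [Submodule.fg_bot])
  haveI : IsLocalization ((Submonoid.powers g).map (algebraMap (MvPolynomial (Fin n) (Localization.AtPrime p')) SA))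
      (Localization.Away gS) := by
    rw [Submonoid.map_powers]
    infer_instance
  have hφ : Function.Surjective (algebraMap (Localization.Away g) (Localization.Away gS)) :=
    IsLocalization.map_surjective_of_surjective (M := Submonoid.powers g) (S := Localization.Away g)
      (g := algebraMap (MvPolynomial (Fin n) (Localization.AtPrime p')) SA) (Q := Localization.Away gS) hsurj
  haveI : Algebra.FinitePresentation (Localization.AtPrime p') (Localization.Away g) :=
    Algebra.FinitePresentation.trans (Localization.AtPrime p')
      (MvPolynomial (Fin n) (Localization.AtPrime p')) (Localization.Away g)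
  refine Algebra.FinitePresentation.of_surjective
    (f := IsScalarTower.toAlgHom (Localization.AtPrime p') (Localization.Away g) (Localization.Away gS)) hφ ?_
  have hk := Module.FinitePresentation.fg_ker (Algebra.linearMap (Localization.Away g) (Localization.Away gS)) hφ
  exact hk

end Groth.Agent.S1263
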