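import Groth.Statements.S12631
import Groth.Agent.Lib.LocRes.ResidueTheorem

set_option autoImplicit false
universe u v w
open FunFld

namespace Groth.Agent.S12631

/-- Let `K/k` be a geometric function field of one variable of genus one all of whose places carry a
Laurent expansion over `k` in a local parameter (so every place is separable), and `v ∈ K` with `dv
≠ 0`. Then there is a nonzero `u ∈ K` whose differential `u dv` has divisor zero — the order of
`φ_P(u) · (φ_P v)′` is `0` at every place `P` — and such a `u` is unique up to a factor from `k`.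
(The published statement concerns elliptic curves over algebraically closed fields; this row is the
form for any constant field under the stated separability of all places.) -/
theorem result (k : Type u) (K : Type v) [Field k] [Field K] [Algebra k K]
    (hK : FunFld.IsFunctionField k K) (hg : FunFld.IsGeometric k K) (h1 : FunFld.genus k K = 1)
    (F : FunFld.Place k K → Type w) [∀ P, Field (F P)] [∀ P, Algebra k (F P)] [∀ P, FiniteDimensional k (F P)]
    (φ : ∀ P, K →ₐ[k] LaurentSeries (F P)) (hφ : ∀ P, LocRes.IsExpansionAt P.1 (φ P))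
    (v : K) (hv : KaehlerDifferential.D k K v ≠ 0) :
    (∃ u : K, u ≠ 0 ∧ ∀ P, LocRes.vDiff (φ P) u v = 1) ∧
      ∀ u u' : K, u ≠ 0 → (∀ P, LocRes.vDiff (φ P) u v = 1) → (∀ P, LocRes.vDiff (φ P) u' v = 1) →
        ∃ c : k, u' = c • u := by
  classical
  have hW := GrothLib.LocRes.exists_equiv_WD hφ hK hg hv (0 : FunFld.Divisor k K)
  simp only [Finsupp.coe_zero, Pi.zero_apply, neg_zero, WithZero.exp_zero] at hW
  have h2 := (GrothLib.FunFld.finrank_WD' hK (0 : FunFld.Divisor k K)).2
  rw [GrothLib.FunFld.delta_zero hK, sub_zero, ← hW, h1] at h2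
  have hfr : Module.finrank k (Submodule.span k {y : K | ∀ P, LocRes.vDiff (φ P) y v ≤ 1}) = 1 := by
    exact_mod_cast h2
  have hord : ∀ (u : K), u ≠ 0 → (∀ P, LocRes.vDiff (φ P) u v ≤ 1) →
      ∀ P, LocRes.vDiff (φ P) u v = 1 := by
    intro u hu hle P
    obtain ⟨ω, hωW, hs, -⟩ := GrothLib.LocRes.exists_weil_mul hφ hK hg u v
    obtain ⟨h0, hdiv⟩ := GrothLib.LocRes.isDivOf_eq_ordDiff hφ hK hg hu hv hs
    obtain ⟨C, hC⟩ := GrothLib.FunFld.exists_isDivOf' hK hωW h0
    have hne : ∀ Q, LocRes.vDiff (φ Q) u v ≠ 0 := fun Q => (Valuation.ne_zero_iff _).2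
      (mul_ne_zero ((map_ne_zero (φ Q)).2 hu) (GrothLib.LocRes.D_map_ne_zero (hφ Q) hK.1 hg hv))
    have hle0 : (0 : FunFld.Divisor k K) ≤ C := fun Q => by
      rw [hdiv C hC Q, LocRes.ordDiff, Finsupp.coe_zero, Pi.zero_apply, neg_nonneg,
        WithZero.log_le_iff_le_exp (hne Q), WithZero.exp_zero]
      exact hle Q
    have hdeg := (GrothLib.FunFld.ell_canonical hK ⟨ω, h0, hC⟩).2
    rw [h1] at hdeg
    have hC0 := GrothLib.FunFld.IsFG.eq_of_le_of_deg_le hK.1 hle0
      (by rw [GrothLib.FunFld.deg_zero]; omega)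
    have h3 := hdiv C hC P
    rw [← hC0, Finsupp.coe_zero, Pi.zero_apply, LocRes.ordDiff, eq_comm, neg_eq_zero] at h3
    rw [← WithZero.exp_log (hne P), h3, WithZero.exp_zero]
  refine ⟨?_, fun u u' hu hu1 hu1' => ?_⟩
  · by_contra hno
    have hbot : Submodule.span k {y : K | ∀ P, LocRes.vDiff (φ P) y v ≤ 1} = ⊥ := by
      rw [Submodule.span_eq_bot]
      intro y hy
      by_contra hy0
      exact hno ⟨y, hy0, hord y hy0 hy⟩
    rw [hbot, finrank_bot] at hfr
    exact zero_ne_one hfr
  · have hmem : ∀ y : K, (∀ P, LocRes.vDiff (φ P) y v = 1) →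
        y ∈ Submodule.span k {y : K | ∀ P, LocRes.vDiff (φ P) y v ≤ 1} :=
      fun y hy => Submodule.subset_span fun P => (hy P).le
    obtain ⟨c, hc⟩ := (finrank_eq_one_iff_of_nonzero'
      (⟨u, hmem u hu1⟩ : Submodule.span k {y : K | ∀ P, LocRes.vDiff (φ P) y v ≤ 1})
      (fun h => hu (congrArg Subtype.val h))).1 hfr ⟨u', hmem u' hu1'⟩
    exact ⟨c, (congrArg Subtype.val hc).symm⟩

end Groth.Agent.S12631
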