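import Groth.Statements.S15334
import Groth.Agent.Lib.Euler.Scalar

set_option autoImplicit false
universe u
open CategoryTheory CategoryTheory.Limits AlgebraicGeometry
open VBCurve

namespace Groth.Agent.S15334

/-- Let X be a smooth proper integral curve (integral, smooth and proper of dimension one) over an
algebraically closed field k (of any characteristic), and E a finite locally free O_X-module of rank
r ≥ 1 which is slope-semistable and slope-stable (deg G · r ≤ deg E · r' for finite locally free
submodules G of rank r' ≥ 1, strictly when r' < r; degree = χ − rank·χ(O_X)). Then E is simple: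
every endomorphism of E acts on the underlying abelian sheaf as multiplication by some scalar c ∈ k. -/
theorem result (k : Type u) [Field k] [IsAlgClosed k] (X : Scheme.{u}) [X.Over (Spec (CommRingCat.of k))]
    [IsIntegral X] [IsProper (X ↘ Spec (CommRingCat.of k))] [Smooth (X ↘ Spec (CommRingCat.of k))]
    (hdim : topologicalKrullDim X = 1)
    (r : ℕ) (hr : 0 < r) (E : X.Modules) (hE : FlatMod.IsFinLocFreeOfRank r E)
    (hEss : ModFun.IsSlopeSemistable k X E r) (hEst : ModFun.IsSlopeStable k X E r)
    (φ : E ⟶ E) :
    ∃ c : k, (SheafOfModules.toSheaf X.ringCatSheaf).map φ =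
      Coh.smulAb E (Coh.toGlobal (X ↘ Spec (CommRingCat.of k)) c) := by
  have hpid := GrothLib.Euler.isPrincipalIdealRing_stalk_of_smooth (X ↘ Spec (CommRingCat.of k)) hdim.le
  obtain ⟨c, hc⟩ := GrothLib.Euler.exists_eq_smulMod_of_subLt hdim.le hpid hr hE hEst φ
  exact ⟨c, hc ▸ GrothLib.Euler.toSheaf_map_smulMod E _⟩

end Groth.Agent.S15334
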