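import Groth.Statements.S1265
import Groth.Agent.S1227
import Groth.Agent.Lib.NilLift.Basic
import Mathlib.RingTheory.Artinian.Module
import Mathlib.RingTheory.SimpleModule.InjectiveProjective
import Mathlib.RingTheory.IsTensorProduct
import Mathlib.RingTheory.Flat.Basic
-- import your own Groth.Agent.* helpers here

set_option autoImplicit false
universe u
open FlatMor

namespace Groth.Agent.S1265

open TensorProduct

lemma mem_smul_top {A : Type u} [CommRing A] (I : Ideal A) {M : Type u} [AddCommGroup M] [Module A M]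
    {m : M} (hm : (1 : A ⧸ I) ⊗ₜ[A] m = 0) : m ∈ I • (⊤ : Submodule A M) := by
  have := congrArg (TensorProduct.quotTensorEquivQuotSMul M I) hm
  rwa [map_zero, ← map_one (Ideal.Quotient.mk I), TensorProduct.quotTensorEquivQuotSMul_mk_tmul, one_smul,
    Submodule.Quotient.mk_eq_zero] at this

lemma eq_top_of_nilpotent {A : Type u} [CommRing A] {I : Ideal A} (hI : IsNilpotent I) {M : Type u}
    [AddCommGroup M] [Module A M] (N : Submodule A M) (h : ⊤ ≤ N ⊔ I • (⊤ : Submodule A M)) : N = ⊤ := by
  obtain ⟨k, hk⟩ := hI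
  have : ∀ j, ⊤ ≤ N ⊔ I ^ j • (⊤ : Submodule A M) := fun j => by
    induction j with
    | zero => simp
    | succ j ih =>
      calc ⊤ ≤ N ⊔ I ^ j • (⊤ : Submodule A M) := ih
        _ ≤ N ⊔ I ^ j • (N ⊔ I • ⊤) := sup_le_sup_left (Submodule.smul_mono le_rfl h) _
        _ ≤ N ⊔ I ^ (j + 1) • ⊤ := by
          rw [Submodule.smul_sup, pow_succ, ← smul_eq_mul (I ^ j) I, Submodule.smul_assoc]
          exact sup_le le_sup_left (sup_le_sup_right Submodule.smul_le_right _)
  exact top_le_iff.1 (by simpa [hk] using this k)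

lemma injective_of_flat {A : Type u} [CommRing A] {I : Ideal A} (hI : IsNilpotent I) {P N : Type u}
    [AddCommGroup P] [Module A P] [AddCommGroup N] [Module A N] [Module.Flat A N]
    (f : P →ₗ[A] N) (hs : Function.Surjective f) (hker : LinearMap.ker f ≤ I • ⊤) :
    Function.Injective f := by
  have hinj := LinearMap.lTensor_injective_of_exact_of_flat f hs (LinearMap.ker f).subtype
    (Submodule.injective_subtype _) (LinearMap.exact_subtype_ker_map f) (A ⧸ I)
  have hsub : LinearMap.ker f ≤ I • LinearMap.ker f := fun x hx => by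
    have h0 : (1 : A ⧸ I) ⊗ₜ[A] x = 0 := by
      refine Submodule.smul_induction_on (p := fun p => (1 : A ⧸ I) ⊗ₜ[A] p = 0) (hker hx)
        (fun r hr m _ => ?_) fun x y hx hy => by rw [TensorProduct.tmul_add, hx, hy, add_zero]
      rw [← TensorProduct.smul_tmul, Algebra.smul_def, mul_one, Ideal.Quotient.algebraMap_eq,
        Ideal.Quotient.eq_zero_iff_mem.2 hr, TensorProduct.zero_tmul]
    have h1 : (1 : A ⧸ I) ⊗ₜ[A] (⟨x, hx⟩ : LinearMap.ker f) = 0 := hinj (h0.trans (map_zero _).symm)
    have h2 := Submodule.mem_map_of_mem (f := (LinearMap.ker f).subtype) (mem_smul_top I h1)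
    rwa [Submodule.map_smul'', Submodule.map_subtype_top] at h2
  obtain ⟨k, hk⟩ := hI
  have : ∀ j, LinearMap.ker f ≤ I ^ j • LinearMap.ker f := fun j => by
    induction j with
    | zero => simp
    | succ j ih =>
      refine ih.trans ((Submodule.smul_mono le_rfl hsub).trans ?_)
      rw [pow_succ, ← smul_eq_mul (I ^ j) I, Submodule.smul_assoc]
  exact LinearMap.ker_eq_bot.1 (le_bot_iff.1 (by simpa [hk] using this k))

/-- Nilpotent `J` with `A ⧸ J` semisimple: every module has a projective cover. -/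
lemma exists_cover {A : Type u} [CommRing A] {J : Ideal A} (hJ : IsNilpotent J) [IsSemisimpleRing (A ⧸ J)]
    (N : Type u) [AddCommGroup N] [Module A N] :
    ∃ (M : Type u) (_ : AddCommGroup M) (_ : Module A M), Module.Projective A M ∧
      ∃ u : M →ₗ[A] N, Function.Surjective u ∧ LinearMap.ker u ≤ J • ⊤ := by
  haveI : Module.Projective (A ⧸ J) ((A ⧸ J) ⊗[A] N) := Module.projective_of_isSemisimpleRing _ _
  obtain ⟨M, _, _, hM, ⟨e⟩⟩ := GrothLib.NilLift.exists_projective_lift J hJ ((A ⧸ J) ⊗[A] N)
  have hmk : ∀ (X : Type u) [AddCommGroup X] [Module A X],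
      Function.Surjective (TensorProduct.mk A (A ⧸ J) X 1) := fun X _ _ =>
    TensorProduct.mk_surjective A X (A ⧸ J) Ideal.Quotient.mk_surjective
  obtain ⟨u, hu⟩ := Module.projective_lifting_property (TensorProduct.mk A (A ⧸ J) N 1)
    (e.toLinearMap.restrictScalars A ∘ₗ TensorProduct.mk A (A ⧸ J) M 1) (hmk N)
  have hue : ∀ m, (1 : A ⧸ J) ⊗ₜ[A] u m = e ((1 : A ⧸ J) ⊗ₜ m) := fun m => DFunLike.congr_fun hu m
  refine ⟨M, inferInstance, inferInstance, hM, u, ?_, fun x hx => mem_smul_top J (e.injective ?_)⟩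
  · refine LinearMap.range_eq_top.1 (eq_top_of_nilpotent hJ _ fun y _ => ?_)
    obtain ⟨x, hx⟩ := hmk M (e.symm ((1 : A ⧸ J) ⊗ₜ y))
    refine Submodule.mem_sup.2 ⟨u x, ⟨x, rfl⟩, y - u x, mem_smul_top J ?_, add_sub_cancel _ _⟩
    rw [TensorProduct.tmul_sub, hue, sub_eq_zero]
    exact ((congrArg e hx).trans (e.apply_symm_apply _)).symm
  · rw [map_zero, ← hue, LinearMap.mem_ker.1 hx, TensorProduct.tmul_zero]

lemma flat_tensor_iff_bijective {A : Type u} [CommRing A] {J : Ideal A} (hJ : IsNilpotent J)
    {M N : Type u} [AddCommGroup M] [Module A M] [Module.Projective A M] [AddCommGroup N] [Module A N]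
    (u : M →ₗ[A] N) (hu : Function.Surjective u) (hker : LinearMap.ker u ≤ J • ⊤)
    (C : Type u) [CommRing C] [Algebra A C] :
    Module.Flat C (C ⊗[A] N) ↔ Function.Bijective (u.baseChange C) := by
  constructor
  · intro _
    have hs : Function.Surjective (u.baseChange C) := LinearMap.lTensor_surjective C hu
    refine ⟨injective_of_flat (I := J.map (algebraMap A C)) ?_ _ hs fun x hx => ?_, hs⟩
    · obtain ⟨k, hk⟩ := hJ
      exact ⟨k, by rw [← Ideal.map_pow, hk, Ideal.zero_eq_bot, Ideal.map_bot]; rfl⟩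
    · have hex : Function.Exact ((LinearMap.ker u).subtype.lTensor C) (u.lTensor C) :=
        lTensor_exact C (LinearMap.exact_subtype_ker_map u) hu
      obtain ⟨y, rfl⟩ := (hex x).1 hx
      clear hx
      induction y using TensorProduct.induction_on with
      | zero => simp
      | add a b ha hb => rw [map_add]; exact add_mem ha hb
      | tmul c m =>
        rw [LinearMap.lTensor_tmul]
        refine Submodule.smul_induction_on (p := fun p => c ⊗ₜ[A] p ∈ J.map (algebraMap A C) • (⊤ : Submodule C (C ⊗[A] M)))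
          (hker m.2) (fun r hr p _ => ?_) fun p q hp hq => by rw [TensorProduct.tmul_add]; exact add_mem hp hq
        rw [TensorProduct.tmul_smul, algebra_compatible_smul C r]
        exact Submodule.smul_mem_smul (Ideal.mem_map_of_mem _ hr) trivial
  · intro h
    exact Module.Flat.of_linearEquiv (LinearEquiv.ofBijective _ h).symm

/-- Ring form, stated for X = Spec B affine: let A be an Artinian ring, B an A-algebra and N a B-module.
Then there is an ideal I of A such that for every A-algebra A', with B' = B ⊗_A A' and N' the base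
change of N (any models), N' is flat over A' if and only if IA' = 0. -/
theorem result {A B : Type u} [CommRing A] [IsArtinianRing A] [CommRing B] [Algebra A B]
    (N : Type u) [AddCommGroup N] [Module B N] [Module A N] [IsScalarTower A B N] :
    ∃ I : Ideal A, ∀ (A' B' N' : Type u) [CommRing A'] [CommRing B'] [Algebra A A'] [Algebra B B'] [Algebra A' B'] [Algebra A B']
      [IsScalarTower A B B'] [IsScalarTower A A' B'] [Algebra.IsPushout A B A' B']
      [AddCommGroup N'] [Module B' N'] [Module B N'] [IsScalarTower B B' N'] [Module A' N'] [IsScalarTower A' B' N']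
      (f : N →ₗ[B] N'), IsBaseChange B' f →
      (Module.Flat A' N' ↔ I.map (algebraMap A A') = ⊥) := by
  obtain ⟨k, hk⟩ := IsArtinianRing.isNilpotent_jacobson_bot (R := A)
  set J : Ideal A := Ideal.jacobson ⊥
  haveI : IsReduced (A ⧸ J) := (Ideal.isRadical_iff_quotient_reduced _).1 (Ideal.isRadical_jacobson _)
  haveI : IsSemisimpleRing (A ⧸ J) := IsArtinianRing.isSemisimpleRing_of_isReduced _
  obtain ⟨M, _, _, hM, u, hu, hker⟩ := exists_cover (J := J) ⟨k, hk⟩ N
  obtain ⟨I, hI⟩ := Groth.Agent.S1227.result u hu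
  refine ⟨I, fun A' B' N' _ _ _ _ _ _ _ _ _ _ _ _ _ _ _ f hf => ?_⟩
  haveI : Algebra.IsPushout A A' B B' := Algebra.IsPushout.symm inferInstance
  have e : A' ⊗[A] N ≃ₗ[A'] N' :=
    (Algebra.IsPushout.cancelBaseChange A A' B B' N).symm.trans (hf.equiv.restrictScalars A')
  rw [← hI A', ← flat_tensor_iff_bijective ⟨k, hk⟩ u hu hker A']
  exact Module.Flat.equiv_iff e.symm

end Groth.Agent.S1265
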