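import Groth.Statements.S12659
-- import your own Groth.Agent.* helpers here
import Groth.Agent.Lib.PBDeg17.Chern

set_option autoImplicit false
universe u
open CategoryTheory CategoryTheory.Limits AlgebraicGeometry
open Cyc

namespace Groth.Agent.S12659

/-- Chern class caps commute with proper pushforward: for f : X → Y proper, E finite locally free of
rank r on Y and α a k-cycle on X, f_*(c_j(f^*E) ∩ α) = c_j(E) ∩ f_*α in CH_{k-j}(Y). The caps of
f^*E are taken through the base-changed bundle P' = X ×_Y P (a cartesian square) with O_{P'}(1) the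
pullback of O_P(1) and the induced dimension function on P'; f_* is the proper pushforward of
cycles. Setting: (X, δ) with Cyc.IsSetup stands for a scheme locally of finite type over the base
(S, δ) (X locally Noetherian with universally catenary local rings, δ a dimension function); (p : P
→ X, O_P(1), q) is the projective bundle of E given by its universal property (KRR.IsProjBundle), p
is proper and δP is the induced dimension function (Cyc.DeltaCompat); a tuple γ with Cyc.IsChernCap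
represents (c_0(E) ∩ α, …, c_r(E) ∩ α) through the defining relation Σ_i (-1)^i c_1(O_P(1))^i ∩
p^*(γ_{r-i}) ∼_rat 0 on P, and classes are compared up to rational equivalence of representing
cycles. -/
theorem result (X Y : Scheme.{u}) (δX : X → ℤ) (δY : Y → ℤ) (hX : Cyc.IsSetup X δX) (hY : Cyc.IsSetup Y δY) (f : X ⟶ Y) [IsProper f] (hf : Cyc.DeltaCompat f δX δY) (r : ℕ) (E : Y.Modules) (hPE : FlatMod.IsFinLocFreeOfRank r E) (P : Scheme.{u}) (π : P ⟶ Y) (O1 : P.Modules) (q : (Scheme.Modules.pullback π).obj E ⟶ O1) (hP : KRR.IsProjBundle π E O1 q) [IsProper π] (δP : P → ℤ) (hPs : Cyc.IsSetup P δP) (hπ : Cyc.DeltaCompat π δP δY) (P' : Scheme.{u}) (π' : P' ⟶ X) (f' : P' ⟶ P) (hsq : IsPullback f' π' π f) (δP' : P' → ℤ) (hPs' : Cyc.IsSetup P' δP') (hπ' : Cyc.DeltaCompat π' δP' δX) (k : ℤ) (α : AlgebraicCycle X ℤ) (hα : α ∈ Cyc.Zk X δX k) (γ : Fin (r + 1) → AlgebraicCycle X ℤ) (hγ : Cyc.IsChernCap π' δX δP' ((Scheme.Modules.pullback f').obj O1) r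 k α γ) (γ' : Fin (r + 1) → AlgebraicCycle Y ℤ) (hγ' : Cyc.IsChernCap π δY δP O1 r k (AlgebraicCycle.map f δX δY α) γ') (j : Fin (r + 1)) : Cyc.RatEquiv δY (k - ((j : ℕ) : ℤ)) (AlgebraicCycle.map f δX δY (γ j)) (γ' j) := by
  rcases Nat.eq_zero_or_pos r with rfl | hr
  · obtain rfl : j = 0 := Subsingleton.elim (α := Fin 1) _ _
    haveI := hY.1
    rw [hγ.1, hγ'.1]
    exact GrothLib.C1.ratEquiv_of_RZ hY.2.2 (GrothLib.C1.RZ.zero hY.2.2 _) fun x => by simp
  obtain ⟨m, rfl⟩ : ∃ m, r = m + 1 := ⟨r - 1, by omega⟩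
  haveI := hX.1
  haveI := hY.1
  haveI := hPs.1
  haveI := hPs'.1
  haveI : IsProper f' := MorphismProperty.of_isPullback (P := @IsProper) hsq.flip inferInstance
  haveI : IsProper π' := MorphismProperty.of_isPullback (P := @IsProper) hsq inferInstance
  have S := GrothLib.PBDeg.setting_univ hY hPE hP hPs hπ
  haveI := S.charts.flat
  have S' : GrothLib.PBDeg.Setting π' ((Scheme.Modules.pullback f').obj O1) m δX δP' :=
    ⟨S.charts.baseChange S.inv hsq (Iso.refl _), hX.2.2, hPs'.2.2, hπ', GrothLib.C1.isInvertible_pullback f' S.inv⟩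
  haveI := S'.charts.flat
  have hf' : Cyc.DeltaCompat f' δP' δP :=
    GrothLib.C1.deltaCompat_of_comp f' π (π' ≫ f) hsq.w hπ (GrothLib.PBDeg.deltaCompat_comp' π' f hπ' hf)
  obtain ⟨w, hw⟩ := GrothLib.C1.exists_sec S.inv
  refine S.rel_unique (fun j => AlgebraicCycle.map f δX δY (γ j) - γ' j) (fun j x hx => ?_) ?_
    (t := fun _ => w) (fun _ => hw) ?_ j
  · show (AlgebraicCycle.map f δX δY (γ j) - γ' j) x = 0
    rw [Function.locallyFinsuppWithin.coe_sub, Pi.sub_apply, hγ'.2.1 j x hx,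
      GrothLib.CycPush.map_mem_Zk f δX δY (γ j) (hγ.2.1 j) x hx, sub_zero]
  · show Cyc.RatEquivZero δY k (AlgebraicCycle.map f δX δY (γ 0) - γ' 0)
    rw [hγ.1, hγ'.1, sub_self]
    exact GrothLib.C1.RZ.to_ratEquivZero hY.2.2 (GrothLib.C1.RZ.zero hY.2.2 _)
  have ht' : ∀ (n : ℕ) ξ, GrothLib.C1.pullChoice f' S.inv w ξ ≠ 0 := fun _ ξ =>
    GrothLib.C1.pullFib_ne_zero f' S.inv (hw _)
  have h1 := S'.rel_rz hγ ht'
  let c : Fin (m + 1 + 1) → AlgebraicCycle P' ℤ := fun i => GrothLib.C1.toCycle _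
    (GrothLib.PBDeg.lf_c1Pow S'.dimP S'.inv ht' (S'.lf_pull (γ (Fin.rev i))) i)
  let β : AlgebraicCycle P' ℤ := ∑ i : Fin (m + 1 + 1), ((-1 : ℤ) ^ (i : ℕ)) • c i
  have h2 := GrothLib.C1.RZ.of_ratEquivZero hPs.2.2 (GrothLib.C1.ratEquivZero_map f' hPs'.2.2 hPs.2.2 hf'
    (GrothLib.C1.RZ.to_ratEquivZero hPs'.2.2 (α := β) (h1.congr fun y => by
      rw [Function.locallyFinsuppWithin.coe_sum, Finset.sum_apply]
      rfl)))
  refine ((h2.congr ?_).sub hPs.2.2 (S.rel_rz hγ' (t := fun _ => w) fun _ => hw)).congr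
    fun y => S.relFun_sub (fun _ => hw) (fun j => AlgebraicCycle.map f δX δY (γ j)) γ' y
  intro y
  have key : ∀ i : Fin (m + 1 + 1), Cyc.c1PowFun δP O1 (fun _ => w) i
      (Cyc.pullFun π δP δY m ⇑(AlgebraicCycle.map f δX δY (γ (Fin.rev i)))) =
      ⇑(AlgebraicCycle.map f' δP' δP (GrothLib.C1.toCycle _ (GrothLib.PBDeg.lf_c1Pow S'.dimP S'.inv ht'
        (S'.lf_pull (γ (Fin.rev i))) i))) := fun i => by
    rw [GrothLib.C1.BasePush.pullFun_map hsq hPs.2.2 hf hf'
      (fun x hx => S.charts.shift S.inv S.dimP S.compat x hx) (γ (Fin.rev i))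
      (GrothLib.C1.toCycle _ (S'.lf_pull (γ (Fin.rev i)))) rfl]
    exact (GrothLib.PBDeg.map_c1Pow_pull f' S.inv hPs.2.2 hPs'.2.2 hf' (fun _ => hw) _ i).symm
  have hmap : AlgebraicCycle.map f' δP' δP β =
      ∑ i : Fin (m + 1 + 1), ((-1 : ℤ) ^ (i : ℕ)) • AlgebraicCycle.map f' δP' δP (c i) := by
    refine (map_sum (GrothLib.CycPush.mapHom f' δP' δP) _ _).trans (Finset.sum_congr rfl fun i _ => ?_)
    exact map_zsmul (GrothLib.CycPush.mapHom f' δP' δP) _ _
  rw [hmap, Function.locallyFinsuppWithin.coe_sum, Finset.sum_apply]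
  show GrothLib.PBDeg.relFun π O1 δY δP m (fun _ => w) _ y = _
  unfold GrothLib.PBDeg.relFun
  exact Finset.sum_congr rfl fun i _ => by rw [key i]; rfl

end Groth.Agent.S12659
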