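import Groth.Statements.S12662
-- import your own Groth.Agent.* helpers here
import Groth.Agent.Lib.PBDeg17.CapsPull
import Groth.Agent.S9684
import Groth.Agent.Lib.CycP1.Graph

set_option autoImplicit false
universe u
open CategoryTheory CategoryTheory.Limits AlgebraicGeometry
open Cyc

namespace Groth.Agent.S12662

/-- For E, F finite locally free of ranks r, s on X and α ∈ CH_k(X), c_i(E) ∩ c_j(F) ∩ α = c_j(F) ∩
c_i(E) ∩ α in CH_{k-i-j}(X). Both bundles enter through their projective bundles (P, O_P(1)), (Q,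
O_Q(1)); the iterated caps are represented by nested tuples (a tuple for F over the i-th component
of a tuple for E over α, and symmetrically). (The published statement also asserts that c_j(E) is
central in the bivariant ring A^*(X) and commutes with every bivariant class of a morphism X' → X;
only the displayed consequence for two Chern classes is stated here.) Setting: (X, δ) with
Cyc.IsSetup stands for a scheme locally of finite type over the base (S, δ) (X locally Noetherian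
with universally catenary local rings, δ a dimension function); (p : P → X, O_P(1), q) is the
projective bundle of E given by its universal property (KRR.IsProjBundle), p is proper and δP is the
induced dimension function (Cyc.DeltaCompat); a tuple γ with Cyc.IsChernCap represents (c_0(E) ∩ α,
…, c_r(E) ∩ α) through the defining relation Σ_i (-1)^i c_1(O_P(1))^i ∩ p^*(γ_{r-i}) ∼_rat 0 on P,
and classes are compared up to rational equivalence of representing cycles. -/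
theorem result (X : Scheme.{u}) (δ : X → ℤ) (hX : Cyc.IsSetup X δ) (r s : ℕ) (E : X.Modules) (hPE : FlatMod.IsFinLocFreeOfRank r E) (P : Scheme.{u}) (p : P ⟶ X) (O1 : P.Modules) (q : (Scheme.Modules.pullback p).obj E ⟶ O1) (hP : KRR.IsProjBundle p E O1 q) [IsProper p] (δP : P → ℤ) (hPs : Cyc.IsSetup P δP) (hδ : Cyc.DeltaCompat p δP δ) (F : X.Modules) (hQE : FlatMod.IsFinLocFreeOfRank s F) (Q : Scheme.{u}) (p' : Q ⟶ X) (O1' : Q.Modules) (q' : (Scheme.Modules.pullback p').obj F ⟶ O1') (hQ : KRR.IsProjBundle p' F O1' q') [IsProper p'] (δQ : Q → ℤ) (hQs : Cyc.IsSetup Q δQ) (hδ' : Cyc.DeltaCompat p' δQ δ) (k : ℤ) (α : AlgebraicCycle X ℤ) (hα : α ∈ Cyc.Zk X δ k) (i : Fin (r + 1)) (j : Fin (s + 1)) (γ : Fin (r + 1) → AlgebraicCycle X ℤ) (hγ : Cyc.IsChernCap p δ δP O1 r k α γ) (ε : Fin (s + 1) → AlgebraicCycle X ℤ) (hε : Cyc.IsChernCap p' δ δQ O1' s (k - ((i : ℕ) : ℤ)) (γ i) ε) (φ : Fin (s + 1) → AlgebraicCycle X ℤ) (hφ : Cyc.IsChernCap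 p' δ δQ O1' s k α φ) (ψ : Fin (r + 1) → AlgebraicCycle X ℤ) (hψ : Cyc.IsChernCap p δ δP O1 r (k - ((j : ℕ) : ℤ)) (φ j) ψ) : Cyc.RatEquiv δ (k - ((i : ℕ) : ℤ) - ((j : ℕ) : ℤ)) (ε j) (ψ i) := by
  haveI := hX.1
  haveI := hPs.1
  haveI := hQs.1
  have hrefl : Cyc.RatEquiv δ k α α := by
    show Cyc.RatEquivZero δ k (α - α)
    rw [sub_self]
    exact GrothLib.C1.RZ.to_ratEquivZero hX.2.2 (GrothLib.C1.RZ.zero hX.2.2 _)
  rcases Nat.eq_zero_or_pos r with rfl | hr
  · obtain rfl : i = 0 := Subsingleton.elim (α := Fin 1) _ _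
    rw [hψ.1]
    rw [hγ.1, Fin.val_zero, Nat.cast_zero, sub_zero] at hε
    rw [Fin.val_zero, Nat.cast_zero, sub_zero]
    rcases Nat.eq_zero_or_pos s with rfl | hs
    · obtain rfl : j = 0 := Subsingleton.elim (α := Fin 1) _ _
      rw [hε.1, hφ.1, Fin.val_zero, Nat.cast_zero, sub_zero]
      exact hrefl
    · obtain ⟨n, rfl⟩ : ∃ n, s = n + 1 := ⟨s - 1, by omega⟩
      exact (GrothLib.PBDeg.setting_univ hX hQE hQ hQs hδ').chernCap_unique hrefl hε hφ j
  obtain ⟨m, rfl⟩ : ∃ m, r = m + 1 := ⟨r - 1, by omega⟩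
  have S := GrothLib.PBDeg.setting_univ hX hPE hP hPs hδ
  rcases Nat.eq_zero_or_pos s with rfl | hs
  · obtain rfl : j = 0 := Subsingleton.elim (α := Fin 1) _ _
    rw [hφ.1, Fin.val_zero, Nat.cast_zero, sub_zero] at hψ
    rw [hε.1, Fin.val_zero, Nat.cast_zero, sub_zero]
    exact S.chernCap_unique hrefl hγ hψ i
  obtain ⟨n, rfl⟩ : ∃ n, s = n + 1 := ⟨s - 1, by omega⟩
  have S' := GrothLib.PBDeg.setting_univ hX hQE hQ hQs hδ'
  haveI := S.charts.flat
  -- the bundle of `F` pulled back to `P`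
  let QP : Scheme.{u} := Limits.pullback p' p
  let fQ : QP ⟶ Q := Limits.pullback.fst p' p
  let πQ : QP ⟶ P := Limits.pullback.snd p' p
  have hsq : IsPullback fQ πQ p' p := IsPullback.of_hasPullback p' p
  haveI : IsProper πQ := MorphismProperty.of_isPullback (P := @IsProper) hsq inferInstance
  haveI : Flat fQ := MorphismProperty.of_isPullback (P := @Flat) hsq.flip inferInstance
  haveI : IsLocallyNoetherian QP := LocallyOfFiniteType.isLocallyNoetherian πQ
  obtain ⟨δR, hR⟩ := GrothLib.CycP1.exists_deltaCompat πQ δP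
  have hRd : Cyc.IsDimFun QP δR := Groth.Agent.S9684.result πQ _ hPs δR hR
  have S'' : GrothLib.PBDeg.Setting πQ ((Scheme.Modules.pullback fQ).obj O1') n δP δR :=
    ⟨S'.charts.baseChange S'.inv hsq (Iso.refl _), hPs.2.2, hRd, hR, GrothLib.C1.isInvertible_pullback fQ S'.inv⟩
  have hfQ : Cyc.DeltaCompat fQ δR δQ :=
    GrothLib.C1.deltaCompat_of_comp fQ p' (πQ ≫ p) hsq.w hδ' (GrothLib.PBDeg.deltaCompat_comp' πQ p hR hδ)
  have hsp : ∀ x, GrothLib.CycFlat.MaxFib p x → δP x = δ (p x) + (m : ℤ) :=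
    fun x hx => S.charts.shift S.inv S.dimP S.compat x hx
  have hsQ : ∀ x, GrothLib.CycFlat.MaxFib fQ x → δR x = δQ (fQ x) + (m : ℤ) := fun x hx =>
    (S.charts.baseChange S.inv hsq.flip (Iso.refl _)).shift (GrothLib.C1.isInvertible_pullback πQ S.inv) hRd hfQ x hx
  -- caps of the caps
  choose E hE using fun l => S'.exists_chernCap (hγ.2.1 l)
  have hEz : ∀ l : Fin (m + 1 + 1), E l j ∈ Cyc.Zk X δ (k - ((j : ℕ) : ℤ) - ((l : ℕ) : ℤ)) := fun l => by
    have := (hE l).2.1 j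
    rwa [sub_right_comm] at this
  let a : Fin (m + 1 + 1) → AlgebraicCycle P ℤ := fun l => GrothLib.C1.toCycle _ (S.lf_pull (γ l))
  have ha : ∀ l : Fin (m + 1 + 1), a l ∈ Cyc.Zk P δP (k - ((l : ℕ) : ℤ) + m) := fun l y hy => by
    by_contra h
    obtain ⟨h1, h2⟩ := GrothLib.PBDeg.pullFun_ne_zero h
    exact hy (by rw [h2, by_contra fun h' => h1 (hγ.2.1 l _ h')])
  choose A hA using fun l => S''.exists_chernCap (ha l)
  let e : Fin (m + 1 + 1) → AlgebraicCycle P ℤ := fun l => GrothLib.C1.toCycle _ (S.lf_pull (E l j))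
  have hAE : ∀ l : Fin (m + 1 + 1),
      GrothLib.C1.RZ δP (k - ((l : ℕ) : ℤ) + m - ((j : ℕ) : ℤ)) (fun y => e l y - A l j y) := fun l => by
    have := GrothLib.PBDeg.pullFun_chernCap (f := p) (f' := fQ) S' S'' hsq (c := m) hsp hsQ (αX := a l) rfl
      (hE l) (hA l) (β := fun j => GrothLib.C1.toCycle _ (S.lf_pull (E l j))) (fun j => rfl) j
    exact (GrothLib.C1.RZ.of_ratEquivZero hPs.2.2 this).congr fun y => rfl
  obtain ⟨w, hw⟩ := GrothLib.C1.exists_sec S.inv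
  have hcap : ∀ l : Fin (m + 1 + 1), Cyc.IsChernCap πQ δP δR ((Scheme.Modules.pullback fQ).obj O1') (n + 1) (k - 1)
      (((-1 : ℤ) ^ (l : ℕ)) • GrothLib.C1.toCycle _
        (GrothLib.PBDeg.lf_c1Pow S.dimP S.inv (t := fun _ => w) (fun _ => hw) (GrothLib.C1.LF.of_cycle (a (Fin.rev l))) l))
      (fun j => ((-1 : ℤ) ^ (l : ℕ)) • GrothLib.C1.toCycle _
        (GrothLib.PBDeg.lf_c1Pow S.dimP S.inv (t := fun _ => w) (fun _ => hw)
          (GrothLib.C1.LF.of_cycle (A (Fin.rev l) j)) l)) := fun l => by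
    have := S''.isChernCap_c1Pow S.inv (s := fun _ => w) (fun _ => hw) (hA (Fin.rev l)) (l : ℕ)
    rw [show k - (((Fin.rev l : Fin (m + 1 + 1)) : ℕ) : ℤ) + m - ((l : ℕ) : ℤ) = k - 1 by
      rw [Fin.val_rev]; have := l.2; omega] at this
    exact S''.isChernCap_sign this (l : ℕ)
  have hW := S''.isChernCap_sum Finset.univ fun l _ => hcap l
  have hB : Cyc.RatEquiv δP (k - 1) (∑ l : Fin (m + 1 + 1), ((-1 : ℤ) ^ (l : ℕ)) • GrothLib.C1.toCycle _
      (GrothLib.PBDeg.lf_c1Pow S.dimP S.inv (t := fun _ => w) (fun _ => hw) (GrothLib.C1.LF.of_cycle (a (Fin.rev l))) l)) 0 := by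
    refine GrothLib.C1.ratEquiv_of_RZ hPs.2.2 (S.rel_rz hγ (t := fun _ => w) fun _ => hw) fun y => ?_
    rw [Function.locallyFinsuppWithin.coe_sum, Finset.sum_apply]
    show _ - 0 = _
    rw [sub_zero]
    rfl
  have hWj := GrothLib.C1.RZ.of_ratEquivZero hPs.2.2
    (S''.chernCap_unique hB hW (S''.isChernCap_zero (k - 1)) j)
  have hterm := GrothLib.PBDeg.rz_sum Finset.univ hPs.2.2 (k := k - 1 - ((j : ℕ) : ℤ))
    (fun l : Fin (m + 1 + 1) => fun y => (-1 : ℤ) ^ (l : ℕ) *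
      Cyc.c1PowFun δP O1 (fun _ => w) l (⇑(e (Fin.rev l)) - ⇑(A (Fin.rev l) j)) y) fun l _ => by
    have h1 := GrothLib.PBDeg.rz_c1Pow S.dimP S.inv (t := fun _ => w) (fun _ => hw) (hAE (Fin.rev l)) (l : ℕ)
    rw [show k - (((Fin.rev l : Fin (m + 1 + 1)) : ℕ) : ℤ) + m - ((j : ℕ) : ℤ) - ((l : ℕ) : ℤ) =
      k - 1 - ((j : ℕ) : ℤ) by rw [Fin.val_rev]; have := l.2; omega] at h1
    rcases Nat.even_or_odd (l : ℕ) with he | ho
    · exact h1.congr fun y => by rw [he.neg_one_pow, one_mul]; rfl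
    · exact (h1.neg hPs.2.2).congr fun y => by rw [ho.neg_one_pow, neg_one_mul]; rfl
  have hrel : GrothLib.C1.RZ δP (k - ((j : ℕ) : ℤ) - 1)
      (GrothLib.PBDeg.relFun p O1 δ δP m (fun _ => w) fun l => E l j) := by
    rw [show k - ((j : ℕ) : ℤ) - 1 = k - 1 - ((j : ℕ) : ℤ) by ring]
    refine (GrothLib.C1.RZ.add hPs.2.2 hWj hterm).congr fun y => ?_
    simp only [Function.locallyFinsuppWithin.coe_sub, Function.locallyFinsuppWithin.coe_sum, Pi.add_apply,
      Pi.sub_apply, Finset.sum_apply, Function.locallyFinsuppWithin.coe_zero, Pi.zero_apply, sub_zero]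
    rw [← Finset.sum_add_distrib]
    refine Finset.sum_congr rfl fun l _ => ?_
    rw [GrothLib.PBDeg.c1Pow_sub S.dimP S.inv (fun _ => hw) (GrothLib.C1.LF.of_cycle _) (GrothLib.C1.LF.of_cycle _),
      Pi.sub_apply]
    show _ = (-1 : ℤ) ^ (l : ℕ) * Cyc.c1PowFun δP O1 (fun _ => w) l (⇑(A (Fin.rev l) j)) y + _
    show (-1 : ℤ) ^ (l : ℕ) * Cyc.c1PowFun δP O1 (fun _ => w) l (⇑(e (Fin.rev l))) y = _
    ring
  have h0 : Cyc.RatEquivZero δ (k - ((j : ℕ) : ℤ)) (E 0 j - ψ 0) := by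
    have h1 := hE 0
    rw [hγ.1, Fin.val_zero, Nat.cast_zero, sub_zero] at h1
    rw [hψ.1]
    exact S'.chernCap_unique hrefl h1 hφ j
  have hfin := S.rel_unique (fun l => E l j - ψ l) (fun l x hx => by
      rw [Function.locallyFinsuppWithin.coe_sub, Pi.sub_apply, hEz l x hx, hψ.2.1 l x hx, sub_zero])
    h0 (t := fun _ => w) (fun _ => hw)
    ((hrel.sub hPs.2.2 (S.rel_rz hψ (fun _ => hw))).congr fun y => S.relFun_sub (fun _ => hw) _ ψ y) i
  have hεE : Cyc.RatEquiv δ (k - ((i : ℕ) : ℤ) - ((j : ℕ) : ℤ)) (ε j) (E i j) := by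
    refine S'.chernCap_unique ?_ hε (hE i) j
    show Cyc.RatEquivZero δ (k - ((i : ℕ) : ℤ)) (γ i - γ i)
    rw [sub_self]
    exact GrothLib.C1.RZ.to_ratEquivZero hX.2.2 (GrothLib.C1.RZ.zero hX.2.2 _)
  have h2 := GrothLib.C1.RZ.of_ratEquivZero hX.2.2 hfin
  rw [show k - ((j : ℕ) : ℤ) - ((i : ℕ) : ℤ) = k - ((i : ℕ) : ℤ) - ((j : ℕ) : ℤ) by ring] at h2
  refine GrothLib.C1.ratEquiv_of_RZ hX.2.2 ((GrothLib.C1.RZ.of_ratEquivZero hX.2.2 hεE).add hX.2.2 h2) fun x => ?_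
  simp only [Function.locallyFinsuppWithin.coe_sub, Pi.add_apply, Pi.sub_apply]
  ring


end Groth.Agent.S12662
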