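import Groth.Statements.S12663
-- import your own Groth.Agent.* helpers here
import Groth.Agent.Lib.PBDeg17.Apply

set_option autoImplicit false
universe u
open CategoryTheory CategoryTheory.Limits AlgebraicGeometry
open Cyc

namespace Groth.Agent.S12663

/-- If E, F are finite locally free of ranks m + 1, m on X sitting in a short exact sequence 0 → O_X → E
→ F → 0, then c_{m+1}(E) = 0 and c_j(E) = c_j(F) for j = 0, …, m, as cap operations: for every
k-cycle α, c_{m+1}(E) ∩ α ∼_rat 0 and c_j(E) ∩ α ∼_rat c_j(F) ∩ α. Setting: (X, δ) with Cyc.IsSetup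
stands for a scheme locally of finite type over the base (S, δ) (X locally Noetherian with
universally catenary local rings, δ a dimension function); (p : P → X, O_P(1), q) is the projective
bundle of E given by its universal property (KRR.IsProjBundle), p is proper and δP is the induced
dimension function (Cyc.DeltaCompat); a tuple γ with Cyc.IsChernCap represents (c_0(E) ∩ α, …,
c_r(E) ∩ α) through the defining relation Σ_i (-1)^i c_1(O_P(1))^i ∩ p^*(γ_{r-i}) ∼_rat 0 on P, and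
classes are compared up to rational equivalence of representing cycles. -/
theorem result (X : Scheme.{u}) (δ : X → ℤ) (hX : Cyc.IsSetup X δ) (m : ℕ) (E : X.Modules) (hPE : FlatMod.IsFinLocFreeOfRank (m + 1) E) (P : Scheme.{u}) (p : P ⟶ X) (O1 : P.Modules) (q : (Scheme.Modules.pullback p).obj E ⟶ O1) (hP : KRR.IsProjBundle p E O1 q) [IsProper p] (δP : P → ℤ) (hPs : Cyc.IsSetup P δP) (hδ : Cyc.DeltaCompat p δP δ) (F : X.Modules) (hQE : FlatMod.IsFinLocFreeOfRank m F) (Q : Scheme.{u}) (p' : Q ⟶ X) (O1' : Q.Modules) (q' : (Scheme.Modules.pullback p').obj F ⟶ O1') (hQ : KRR.IsProjBundle p' F O1' q') [IsProper p'] (δQ : Q → ℤ) (hQs : Cyc.IsSetup Q δQ) (hδ' : Cyc.DeltaCompat p' δQ δ) (a : Coh.structureModule X ⟶ E) (b : E ⟶ F) (hab : a ≫ b = 0) (hex : (ShortComplex.mk a b hab).ShortExact) (k : ℤ) (α : AlgebraicCycle X ℤ) (hα : α ∈ Cyc.Zk X δ k) (γ : Fin (m + 2) → AlgebraicCycle X ℤ) (hγ : Cyc.IsChernCap p δ δP O1 (m + 1) k α γ) (γ' : Fin (m + 1) → AlgebraicCycle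 X ℤ) (hγ' : Cyc.IsChernCap p' δ δQ O1' m k α γ') : Cyc.RatEquivZero δ (k - ((m : ℤ) + 1)) (γ (Fin.last (m + 1))) ∧ ∀ j : Fin (m + 1), Cyc.RatEquiv δ (k - ((j : ℕ) : ℤ)) (γ (Fin.castSucc j)) (γ' j) := by
  classical
  haveI := hX.1
  obtain ⟨R, _, π, d, δR, T, hF⟩ := GrothLib.PBDeg.exists_towerData hX (fun _ : Unit => m) (fun _ => F) (fun _ => hQE)
  obtain ⟨y, hy⟩ := (hF ()).hasRoots T.setupP.2.2
  have hO : PicF.IsInvertible (Coh.structureModule X) := GrothLib.Euler.isInvertible_structure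
  obtain ⟨z, hz, hcp⟩ := T.roots_ext a b hab hex (GrothLib.FinCov.isFinLocFree_of_rank hQE) (T.roots_invertible hO) hy
  rw [GrothLib.PBDeg.c1R_structure _ _ (GrothLib.OX.pullUnitIso π), GrothLib.PBDeg.cp_one, map_zero, zero_mul,
    add_zero, one_mul] at hcp
  rw [Nat.add_comm 1 m] at hz hcp
  have key : ∀ n : Fin (m + 1 + 1), T.up (γ n) = GrothLib.PBDeg.act _ ((GrothLib.PBDeg.cp m y).coeff n) (T.up α) :=
    fun n => by rw [T.chern hPE hP hPs hδ hz hα hγ n, hcp]
  refine ⟨?_, fun j => T.ratEquiv_of_pull (fun x hx => hγ.2.1 _ x (by simpa using hx)) (hγ'.2.1 j) ?_⟩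
  · have h1 : Cyc.RatEquiv δ (k - ((m : ℤ) + 1)) (γ (Fin.last (m + 1))) 0 := by
      refine T.ratEquiv_of_pull (fun x hx => hγ.2.1 _ x ?_) (fun x _ => rfl) ?_
      · rw [Fin.val_last]; push_cast; exact hx
      show T.up (γ (Fin.last (m + 1))) = T.up 0
      rw [key, T.up_zero, GrothLib.PBDeg.coeff_cp, Fin.val_last,
        Finset.powersetCard_eq_empty.2 (by simp), Finset.sum_empty, map_zero]
      rfl
    rw [Cyc.RatEquiv, sub_zero] at h1
    exact h1
  · show T.up (γ (Fin.castSucc j)) = T.up (γ' j)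
    rw [key, T.chern hQE hQ hQs hδ' hy hα hγ' j, Fin.val_castSucc]


end Groth.Agent.S12663
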