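import Groth.Statements.S12664
-- import your own Groth.Agent.* helpers here
import Groth.Agent.Lib.PBDeg17.Apply

set_option autoImplicit false
universe u
open CategoryTheory CategoryTheory.Limits AlgebraicGeometry
open Cyc

namespace Groth.Agent.S12664

/-- If 0 → L → E → F → 0 is a short exact sequence on X with L invertible and E, F finite locally free
of ranks m + 1, m, then c(E) = c(L) c(F), that is c_i(E) = c_i(F) + c_1(L) c_{i-1}(F) for i = 1, …,
m and c_{m+1}(E) = c_1(L) c_m(F), as cap operations on every k-cycle α, with c_1(L) ∩ - computed on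
coefficient functions from any nonzero rational sections (Cyc.c1CapFun) applied to the
representatives of c_{i-1}(F) ∩ α. Setting: (X, δ) with Cyc.IsSetup stands for a scheme locally of
finite type over the base (S, δ) (X locally Noetherian with universally catenary local rings, δ a
dimension function); (p : P → X, O_P(1), q) is the projective bundle of E given by its universal
property (KRR.IsProjBundle), p is proper and δP is the induced dimension function (Cyc.DeltaCompat);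
a tuple γ with Cyc.IsChernCap represents (c_0(E) ∩ α, …, c_r(E) ∩ α) through the defining relation
Σ_i (-1)^i c_1(O_P(1))^i ∩ p^*(γ_{r-i}) ∼_rat 0 on P, and classes are compared up to rational
equivalence of representing cycles. -/
theorem result (X : Scheme.{u}) (δ : X → ℤ) (hX : Cyc.IsSetup X δ) (m : ℕ) (E : X.Modules) (hPE : FlatMod.IsFinLocFreeOfRank (m + 1) E) (P : Scheme.{u}) (p : P ⟶ X) (O1 : P.Modules) (q : (Scheme.Modules.pullback p).obj E ⟶ O1) (hP : KRR.IsProjBundle p E O1 q) [IsProper p] (δP : P → ℤ) (hPs : Cyc.IsSetup P δP) (hδ : Cyc.DeltaCompat p δP δ) (F : X.Modules) (hQE : FlatMod.IsFinLocFreeOfRank m F) (Q : Scheme.{u}) (p' : Q ⟶ X) (O1' : Q.Modules) (q' : (Scheme.Modules.pullback p').obj F ⟶ O1') (hQ : KRR.IsProjBundle p' F O1' q') [IsProper p'] (δQ : Q → ℤ) (hQs : Cyc.IsSetup Q δQ) (hδ' : Cyc.DeltaCompat p' δQ δ) (L : X.Modules) (hL : PicF.IsInvertible L) (a : L ⟶ E) (b : E ⟶ F) (hab : a ≫ b = 0) (hex : (ShortComplex.mk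 a b hab).ShortExact) (k : ℤ) (α : AlgebraicCycle X ℤ) (hα : α ∈ Cyc.Zk X δ k) (γ : Fin (m + 2) → AlgebraicCycle X ℤ) (hγ : Cyc.IsChernCap p δ δP O1 (m + 1) k α γ) (γ' : Fin (m + 1) → AlgebraicCycle X ℤ) (hγ' : Cyc.IsChernCap p' δ δQ O1' m k α γ') (t : (ξ : X) → Cyc.secFibre L ξ) (ht : ∀ ξ, t ξ ≠ 0) (ζ : Fin (m + 1) → AlgebraicCycle X ℤ) (hζ : ∀ j, ⇑(ζ j) = Cyc.c1CapFun δ L ⇑(γ' j) t) : (∀ j : Fin m, Cyc.RatEquiv δ (k - ((j : ℕ) : ℤ) - 1) (γ (Fin.succ (Fin.castSucc j))) (γ' (Fin.succ j) + ζ (Fin.castSucc j))) ∧ Cyc.RatEquiv δ (k - (m : ℤ) - 1) (γ (Fin.last (m + 1))) (ζ (Fin.last m)) := by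
  classical
  haveI := hX.1
  obtain ⟨R, _, π, d, δR, T, hF⟩ := GrothLib.PBDeg.exists_towerData hX (fun _ : Unit => m) (fun _ => F) (fun _ => hQE)
  obtain ⟨y, hy⟩ := (hF ()).hasRoots T.setupP.2.2
  obtain ⟨z, hz, hcp⟩ := T.roots_ext a b hab hex (GrothLib.FinCov.isFinLocFree_of_rank hQE) (T.roots_invertible hL) hy
  rw [GrothLib.PBDeg.cp_one, add_mul, one_mul, mul_assoc] at hcp
  rw [Nat.add_comm 1 m] at hz hcp
  have keyz : ∀ j, T.up (ζ j) = GrothLib.PBDeg.act _
      (GrothLib.PBDeg.c1R _ (GrothLib.C1.isInvertible_pullback π hL) * (GrothLib.PBDeg.cp m y).coeff j) (T.up α) := by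
    intro j
    rw [T.up_c1Cap hL ht (γ' j) (hζ j), T.chern hQE hQ hQs hδ' hy hα hγ' j, GrothLib.PBDeg.act_mul]
  have key : ∀ n : ℕ, (hn : n + 1 < m + 1 + 1) → T.up (γ ⟨n + 1, hn⟩) =
      GrothLib.PBDeg.act _ ((GrothLib.PBDeg.cp m y).coeff (n + 1)) (T.up α) + GrothLib.PBDeg.act _
      (GrothLib.PBDeg.c1R _ (GrothLib.C1.isInvertible_pullback π hL) * (GrothLib.PBDeg.cp m y).coeff n) (T.up α) := by
    intro n hn
    rw [T.chern hPE hP hPs hδ hz hα hγ ⟨n + 1, hn⟩, hcp, Polynomial.coeff_add, Polynomial.coeff_C_mul,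
      Polynomial.coeff_X_mul, map_add]
    rfl
  have hmem : ∀ j : Fin (m + 1), ζ j ∈ Cyc.Zk X δ (k - ((j : ℕ) : ℤ) - 1) := fun j =>
    GrothLib.C1.c1_mem_Zk (hγ'.2.1 j) (hζ j)
  refine ⟨fun j => ?_, ?_⟩
  · refine T.ratEquiv_of_pull (fun x hx => hγ.2.1 _ x ?_) ((ChowOps.zk X δ _).add_mem (fun x hx => hγ'.2.1 _ x ?_) (hmem (Fin.castSucc j))) ?_
    · rw [Fin.val_succ, Fin.val_castSucc]; push_cast; rw [← sub_sub]; exact hx
    · rw [Fin.val_succ]; push_cast; rw [← sub_sub]; exact hx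
    show T.up (γ (Fin.succ (Fin.castSucc j))) = T.up (γ' (Fin.succ j) + ζ (Fin.castSucc j))
    rw [T.up_add, keyz, T.chern hQE hQ hQs hδ' hy hα hγ' (Fin.succ j), Fin.val_castSucc, Fin.val_succ]
    exact key j (by omega)
  · refine T.ratEquiv_of_pull (fun x hx => hγ.2.1 _ x ?_) (hmem (Fin.last m)) ?_
    · rw [Fin.val_last]; push_cast; rw [← sub_sub]; exact hx
    show T.up (γ (Fin.last (m + 1))) = T.up (ζ (Fin.last m))
    rw [keyz, Fin.val_last, show Fin.last (m + 1) = ⟨m + 1, Nat.lt_succ_self _⟩ from rfl, key m,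
      show (GrothLib.PBDeg.cp m y).coeff (m + 1) = 0 by
        rw [GrothLib.PBDeg.coeff_cp, Finset.powersetCard_eq_empty.2 (by simp), Finset.sum_empty],
      map_zero]
    exact zero_add _


end Groth.Agent.S12664
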