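import Groth.Statements.S12665
-- import your own Groth.Agent.* helpers here
import Groth.Agent.Lib.PBDeg17.Apply

set_option autoImplicit false
universe u
open CategoryTheory CategoryTheory.Limits AlgebraicGeometry
open Cyc

namespace Groth.Agent.S12665

/-- For a short exact sequence 0 → E₁ → E → E₂ → 0 of finite locally free modules of ranks r₁, r₁ + r₂,
r₂ on X, c(E) = c(E₁) c(E₂), that is c_j(E) ∩ α ∼_rat Σ_{a+b=j} c_a(E₁) ∩ (c_b(E₂) ∩ α) for every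
k-cycle α and every j; the inner caps are represented by a tuple for E₂ over α and, for each of its
components, a tuple for E₁ over it. Setting: (X, δ) with Cyc.IsSetup stands for a scheme locally of
finite type over the base (S, δ) (X locally Noetherian with universally catenary local rings, δ a
dimension function); (p : P → X, O_P(1), q) is the projective bundle of E given by its universal
property (KRR.IsProjBundle), p is proper and δP is the induced dimension function (Cyc.DeltaCompat);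
a tuple γ with Cyc.IsChernCap represents (c_0(E) ∩ α, …, c_r(E) ∩ α) through the defining relation
Σ_i (-1)^i c_1(O_P(1))^i ∩ p^*(γ_{r-i}) ∼_rat 0 on P, and classes are compared up to rational
equivalence of representing cycles. -/
theorem result (X : Scheme.{u}) (δ : X → ℤ) (hX : Cyc.IsSetup X δ) (r₁ r₂ : ℕ) (E₁ : X.Modules) (hP₁E : FlatMod.IsFinLocFreeOfRank r₁ E₁) (P₁ : Scheme.{u}) (p₁ : P₁ ⟶ X) (O₁ : P₁.Modules) (q₁ : (Scheme.Modules.pullback p₁).obj E₁ ⟶ O₁) (hP₁ : KRR.IsProjBundle p₁ E₁ O₁ q₁) [IsProper p₁] (δ₁ : P₁ → ℤ) (hP₁s : Cyc.IsSetup P₁ δ₁) (hδ₁ : Cyc.DeltaCompat p₁ δ₁ δ) (E : X.Modules) (hPE : FlatMod.IsFinLocFreeOfRank (r₁ + r₂) E) (P : Scheme.{u}) (p : P ⟶ X) (O1 : P.Modules) (q : (Scheme.Modules.pullback p).obj E ⟶ O1) (hP : KRR.IsProjBundle p E O1 q) [IsProper p] (δP : P → ℤ) (hPs : Cyc.IsSetup P δP) (hδ : Cyc.DeltaCompat p δP δ) (E₂ : X.Modules) (hP₂E : FlatMod.IsFinLocFreeOfRank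 r₂ E₂) (P₂ : Scheme.{u}) (p₂ : P₂ ⟶ X) (O₂ : P₂.Modules) (q₂ : (Scheme.Modules.pullback p₂).obj E₂ ⟶ O₂) (hP₂ : KRR.IsProjBundle p₂ E₂ O₂ q₂) [IsProper p₂] (δ₂ : P₂ → ℤ) (hP₂s : Cyc.IsSetup P₂ δ₂) (hδ₂ : Cyc.DeltaCompat p₂ δ₂ δ) (a : E₁ ⟶ E) (b : E ⟶ E₂) (hab : a ≫ b = 0) (hex : (ShortComplex.mk a b hab).ShortExact) (k : ℤ) (α : AlgebraicCycle X ℤ) (hα : α ∈ Cyc.Zk X δ k) (γ₂ : Fin (r₂ + 1) → AlgebraicCycle X ℤ) (hγ₂ : Cyc.IsChernCap p₂ δ δ₂ O₂ r₂ k α γ₂) (ε : Fin (r₂ + 1) → Fin (r₁ + 1) → AlgebraicCycle X ℤ) (hε : ∀ b : Fin (r₂ + 1), Cyc.IsChernCap p₁ δ δ₁ O₁ r₁ (k - ((b : ℕ) : ℤ)) (γ₂ b) (ε b)) (γ : Fin (r₁ + r₂ + 1) → AlgebraicCycle X ℤ) (hγ : Cyc.IsChernCap p δ δP O1 (r₁ + r₂) k α γ) (j : Fin (r₁ + r₂ + 1)) : Cyc.RatEquiv δ (k - ((j : ℕ) : ℤ)) (γ j) (∑ a : Fin (r₁ + 1), ∑ b : Fin (r₂ + 1), if (a : ℕ) + (b : ℕ) = (j : ℕ) then ε b a else 0) := by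
  classical
  haveI := hX.1
  obtain ⟨R, _, π, d, δR, T, hF⟩ := GrothLib.PBDeg.exists_towerData hX (fun i : Bool => if i then r₁ else r₂)
    (fun i => if i then E₁ else E₂) (fun i => by cases i <;> simpa)
  have hF₁ : GrothLib.PBDeg.Flag r₁ ((Scheme.Modules.pullback π).obj E₁) := hF true
  have hF₂ : GrothLib.PBDeg.Flag r₂ ((Scheme.Modules.pullback π).obj E₂) := hF false
  obtain ⟨x, hx⟩ := hF₁.hasRoots T.setupP.2.2
  obtain ⟨y, hy⟩ := hF₂.hasRoots T.setupP.2.2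
  obtain ⟨z, hz, hcp⟩ := T.roots_ext a b hab hex (GrothLib.FinCov.isFinLocFree_of_rank hP₂E) hx hy
  refine T.ratEquiv_of_pull (hγ.2.1 j) ?_ ?_
  · refine (ChowOps.zk X δ _).sum_mem fun a' _ => (ChowOps.zk X δ _).sum_mem fun b' _ => ?_
    split_ifs with h
    · intro x hx
      exact (hε b').2.1 a' x (fun e => hx (by rw [e, ← h]; push_cast; ring))
    · exact (ChowOps.zk X δ _).zero_mem
  show T.up (γ j) = T.up _
  rw [T.chern hPE hP hPs hδ hz hα hγ j, hcp, Polynomial.coeff_mul, map_sum]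
  erw [AddMonoidHom.finsetSum_apply]
  rw [T.up_sum]
  simp only [T.up_sum]
  have hterm : ∀ (a' : Fin (r₁ + 1)) (b' : Fin (r₂ + 1)), T.up (ε b' a') = GrothLib.PBDeg.act _
      ((GrothLib.PBDeg.cp r₁ x).coeff a' * (GrothLib.PBDeg.cp r₂ y).coeff b') (T.up α) := fun a' b' => by
    rw [T.chern hP₁E hP₁ hP₁s hδ₁ hx (hγ₂.2.1 b') (hε b') a', T.chern hP₂E hP₂ hP₂s hδ₂ hy hα hγ₂ b',
      GrothLib.PBDeg.act_mul]
  simp only [apply_ite T.up, T.up_zero, hterm]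
  rw [← Fintype.sum_prod_type', ← Finset.sum_filter]
  symm
  refine Finset.sum_bij_ne_zero (fun p _ _ => ((p.1 : ℕ), (p.2 : ℕ))) ?_ ?_ ?_ ?_
  · intro p hp _
    rw [Finset.mem_filter] at hp
    exact Finset.HasAntidiagonal.mem_antidiagonal.2 hp.2
  · intro p _ _ p' _ _ e
    exact Prod.ext (Fin.ext (congrArg Prod.fst e)) (Fin.ext (congrArg Prod.snd e))
  · intro p hp hne
    have h0 : ∀ (r : ℕ) (w : ℕ → GrothLib.PBDeg.C1Ring T.setupP.2.2) (n : ℕ), r < n →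
        (GrothLib.PBDeg.cp r w).coeff n = 0 := fun r w n hn => by
      rw [GrothLib.PBDeg.coeff_cp, Finset.powersetCard_eq_empty.2 (by simpa using hn), Finset.sum_empty]
    have e1 : p.1 < r₁ + 1 := by
      by_contra h
      refine hne ?_
      rw [h0 r₁ x p.1 (by omega), zero_mul, map_zero]
      rfl
    have e2 : p.2 < r₂ + 1 := by
      by_contra h
      refine hne ?_
      rw [h0 r₂ y p.2 (by omega), mul_zero, map_zero]
      rfl
    exact ⟨(⟨p.1, e1⟩, ⟨p.2, e2⟩), Finset.mem_filter.2 ⟨Finset.mem_univ _, Finset.HasAntidiagonal.mem_antidiagonal.1 hp⟩, hne, rfl⟩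
  · intro p _ _
    rfl


end Groth.Agent.S12665
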