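import Groth.Statements.S12666
-- import your own Groth.Agent.* helpers here
import Groth.Agent.Lib.PBDeg17.Apply

set_option autoImplicit false
universe u
open CategoryTheory CategoryTheory.Limits AlgebraicGeometry
open Cyc

namespace Groth.Agent.S12666

/-- For E finite locally free of rank r and L invertible on X, c_i(E ⊗ L) = Σ_{j=0}^{i} C(r-i+j, j)
c_{i-j}(E) c_1(L)^j for i ≤ r, as cap operations on every k-cycle α: c_i(E ⊗ L) ∩ α ∼_rat Σ_j
C(r-i+j, j) c_1(L)^j ∩ (c_{i-j}(E) ∩ α), where c_1(L)^j ∩ - is the j-fold iterated cap on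
coefficient functions with any nonzero rational sections (Cyc.c1PowFun) and E ⊗ L is the tensor
product of O_X-modules (CohB1.tensorMod). Setting: (X, δ) with Cyc.IsSetup stands for a scheme
locally of finite type over the base (S, δ) (X locally Noetherian with universally catenary local
rings, δ a dimension function); (p : P → X, O_P(1), q) is the projective bundle of E given by its
universal property (KRR.IsProjBundle), p is proper and δP is the induced dimension function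
(Cyc.DeltaCompat); a tuple γ with Cyc.IsChernCap represents (c_0(E) ∩ α, …, c_r(E) ∩ α) through the
defining relation Σ_i (-1)^i c_1(O_P(1))^i ∩ p^*(γ_{r-i}) ∼_rat 0 on P, and classes are compared up
to rational equivalence of representing cycles. -/
theorem result (X : Scheme.{u}) (δ : X → ℤ) (hX : Cyc.IsSetup X δ) (r : ℕ) (E : X.Modules) (hPE : FlatMod.IsFinLocFreeOfRank r E) (P : Scheme.{u}) (p : P ⟶ X) (O1 : P.Modules) (q : (Scheme.Modules.pullback p).obj E ⟶ O1) (hP : KRR.IsProjBundle p E O1 q) [IsProper p] (δP : P → ℤ) (hPs : Cyc.IsSetup P δP) (hδ : Cyc.DeltaCompat p δP δ) (L : X.Modules) (hL : PicF.IsInvertible L) (hP'E : FlatMod.IsFinLocFreeOfRank r (CohB1.tensorMod E L)) (P' : Scheme.{u}) (p' : P' ⟶ X) (O1' : P'.Modules) (q' : (Scheme.Modules.pullback p').obj (CohB1.tensorMod E L) ⟶ O1') (hP' : KRR.IsProjBundle p' (CohB1.tensorMod E L) O1' q') [IsProper p'] (δP' : P' → ℤ) (hPs' : Cyc.IsSetup P' δP')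 (hδ' : Cyc.DeltaCompat p' δP' δ) (k : ℤ) (α : AlgebraicCycle X ℤ) (hα : α ∈ Cyc.Zk X δ k) (γ : Fin (r + 1) → AlgebraicCycle X ℤ) (hγ : Cyc.IsChernCap p δ δP O1 r k α γ) (γ' : Fin (r + 1) → AlgebraicCycle X ℤ) (hγ' : Cyc.IsChernCap p' δ δP' O1' r k α γ') (t : ℕ → (ξ : X) → Cyc.secFibre L ξ) (ht : ∀ m ξ, t m ξ ≠ 0) (i : Fin (r + 1)) (ζ : Fin (r + 1) → AlgebraicCycle X ℤ) (hζ : ∀ j : Fin (r + 1), (j : ℕ) ≤ (i : ℕ) → ⇑(ζ j) = Cyc.c1PowFun δ L t j ⇑(γ ⟨(i : ℕ) - (j : ℕ), Nat.lt_of_le_of_lt (Nat.sub_le _ _) i.isLt⟩)) : Cyc.RatEquiv δ (k - ((i : ℕ) : ℤ)) (γ' i) (∑ j : Fin (r + 1), if (j : ℕ) ≤ (i : ℕ) then ((Nat.choose (r - i + j) j : ℕ) : ℤ) • ζ j else 0) := by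
  classical
  haveI := hX.1
  obtain ⟨R, _, π, d, δR, T, hF⟩ := GrothLib.PBDeg.exists_towerData hX (fun _ : Unit => r) (fun _ => E) (fun _ => hPE)
  obtain ⟨x, hx⟩ := (hF ()).hasRoots T.setupP.2.2
  have hxL := T.roots_twist hL hx
  have hmem : ∀ j : Fin (r + 1), (j : ℕ) ≤ (i : ℕ) → ζ j ∈ Cyc.Zk X δ (k - ((i : ℕ) : ℤ)) := by
    intro j hj y hy
    rw [hζ j hj]
    by_contra h
    obtain ⟨η, h1, -, h3⟩ := GrothLib.PBDeg.c1Pow_ne_zero δ t _ (j : ℕ) h
    refine h1 (hγ.2.1 _ η fun e => hy ?_)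
    have e' : δ η = k - (((i : ℕ) - (j : ℕ) : ℕ) : ℤ) := e
    omega
  refine T.ratEquiv_of_pull (hγ'.2.1 i) ((ChowOps.zk X δ _).sum_mem fun j _ => ?_) ?_
  · split_ifs with h
    · exact (ChowOps.zk X δ _).zsmul_mem (hmem j h) _
    · exact (ChowOps.zk X δ _).zero_mem
  show T.up (γ' i) = T.up _
  rw [T.chern hP'E hP' hPs' hδ' hxL hα hγ' i, GrothLib.PBDeg.coeff_cp_shift r x _ (Nat.lt_succ_iff.1 i.2), map_sum,
    T.up_sum]
  erw [AddMonoidHom.finsetSum_apply]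
  let f : ℕ → GrothLib.PBDeg.Cls T.setupP.2.2 := fun j => GrothLib.PBDeg.act T.setupP.2.2
    (((r - (i : ℕ) + j).choose j : GrothLib.PBDeg.C1Ring T.setupP.2.2) *
      GrothLib.PBDeg.c1R T.setupP.2.2 (GrothLib.C1.isInvertible_pullback π hL) ^ j *
      (GrothLib.PBDeg.cp r x).coeff ((i : ℕ) - j)) (T.up α)
  refine Eq.trans ?_ (Finset.sum_congr rfl fun (j : Fin (r + 1)) _ =>
    (show (if (j : ℕ) ≤ (i : ℕ) then f j else 0) = _ from ?_))
  · show (∑ j ∈ Finset.range ((i : ℕ) + 1), f j) = _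
    rw [Fin.sum_univ_eq_sum_range (fun j => if j ≤ (i : ℕ) then f j else 0), ← Finset.sum_filter]
    refine Finset.sum_congr (Finset.ext fun n => ?_) fun _ _ => rfl
    simp only [Finset.mem_range, Finset.mem_filter]
    omega
  by_cases hj : (j : ℕ) ≤ (i : ℕ)
  · rw [if_pos hj, if_pos hj, T.up_zsmul, T.up_c1Pow hL ht _ j (hζ j hj), T.chern hPE hP hPs hδ hx hα hγ _,
      ← GrothLib.PBDeg.act_mul, ← GrothLib.PBDeg.act_mul, Int.cast_natCast]
  · rw [if_neg hj, if_neg hj, T.up_zero]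

end Groth.Agent.S12666
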