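import Groth.Statements.S12668
-- import your own Groth.Agent.* helpers here
import Groth.Agent.Lib.PBDeg17.Apply

set_option autoImplicit false
universe u
open CategoryTheory CategoryTheory.Limits AlgebraicGeometry
open Cyc

namespace Groth.Agent.S12668

/-- For E, F finite locally free of ranks r, s on X, c_1(E ⊗ F) = r c_1(F) + s c_1(E), as cap operations
on every k-cycle α; E ⊗ F is the tensor product of O_X-modules (CohB1.tensorMod), of rank rs, and
enters through its own projective bundle. Stated for r, s ≥ 1. Setting: (X, δ) with Cyc.IsSetup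
stands for a scheme locally of finite type over the base (S, δ) (X locally Noetherian with
universally catenary local rings, δ a dimension function); (p : P → X, O_P(1), q) is the projective
bundle of E given by its universal property (KRR.IsProjBundle), p is proper and δP is the induced
dimension function (Cyc.DeltaCompat); a tuple γ with Cyc.IsChernCap represents (c_0(E) ∩ α, …,
c_r(E) ∩ α) through the defining relation Σ_i (-1)^i c_1(O_P(1))^i ∩ p^*(γ_{r-i}) ∼_rat 0 on P, and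
classes are compared up to rational equivalence of representing cycles. -/
theorem result (X : Scheme.{u}) (δ : X → ℤ) (hX : Cyc.IsSetup X δ) (r s : ℕ) (hr : 1 ≤ r) (hs : 1 ≤ s) (E : X.Modules) (hPE : FlatMod.IsFinLocFreeOfRank r E) (P : Scheme.{u}) (p : P ⟶ X) (O1 : P.Modules) (q : (Scheme.Modules.pullback p).obj E ⟶ O1) (hP : KRR.IsProjBundle p E O1 q) [IsProper p] (δP : P → ℤ) (hPs : Cyc.IsSetup P δP) (hδ : Cyc.DeltaCompat p δP δ) (F : X.Modules) (hQE : FlatMod.IsFinLocFreeOfRank s F) (Q : Scheme.{u}) (p' : Q ⟶ X) (O1' : Q.Modules) (q' : (Scheme.Modules.pullback p').obj F ⟶ O1') (hQ : KRR.IsProjBundle p' F O1' q') [IsProper p'] (δQ : Q → ℤ) (hQs : Cyc.IsSetup Q δQ) (hδ' : Cyc.DeltaCompat p' δQ δ) (hTE : FlatMod.IsFinLocFreeOfRank (r * s) (CohB1.tensorMod E F)) (T : Scheme.{u}) (p'' : T ⟶ X) (O1'' : T.Modules) (q'' : (Scheme.Modules.pullback p'').obj (CohB1.tensorMod E F) ⟶ O1'') (hT : KRR.IsProjBundle p'' (CohB1.tensorMod E F) O1''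 q'') [IsProper p''] (δT : T → ℤ) (hTs : Cyc.IsSetup T δT) (hδ'' : Cyc.DeltaCompat p'' δT δ) (k : ℤ) (α : AlgebraicCycle X ℤ) (hα : α ∈ Cyc.Zk X δ k) (ε : Fin (r + 1) → AlgebraicCycle X ℤ) (hε : Cyc.IsChernCap p δ δP O1 r k α ε) (φ : Fin (s + 1) → AlgebraicCycle X ℤ) (hφ : Cyc.IsChernCap p' δ δQ O1' s k α φ) (τ : Fin (r * s + 1) → AlgebraicCycle X ℤ) (hτ : Cyc.IsChernCap p'' δ δT O1'' (r * s) k α τ) : Cyc.RatEquiv δ (k - 1) (τ ⟨1, Nat.lt_succ_of_le (Nat.mul_pos hr hs)⟩) (((r : ℕ) : ℤ) • φ ⟨1, Nat.lt_succ_of_le hs⟩ + ((s : ℕ) : ℤ) • ε ⟨1, Nat.lt_succ_of_le hr⟩) := by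
  classical
  haveI := hX.1
  obtain ⟨R, _, π, d, δR, T₀, hF⟩ := GrothLib.PBDeg.exists_towerData hX (fun i : Bool => if i then r else s)
    (fun i => if i then E else F) (fun i => by cases i <;> simpa)
  have hF₁ : GrothLib.PBDeg.Flag r ((Scheme.Modules.pullback π).obj E) := hF true
  have hF₂ : GrothLib.PBDeg.Flag s ((Scheme.Modules.pullback π).obj F) := hF false
  obtain ⟨x, hx⟩ := hF₁.hasRoots T₀.setupP.2.2
  obtain ⟨y, hy⟩ := hF₂.hasRoots T₀.setupP.2.2
  have hz := T₀.roots_tensor hr hx hy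
  obtain ⟨c1, c2⟩ := GrothLib.PBDeg.coeff_tensor_one_two hr x y s
  refine T₀.ratEquiv_of_pull (fun y hy => hτ.2.1 _ y (by simpa using hy))
    ((ChowOps.zk X δ _).add_mem ((ChowOps.zk X δ _).zsmul_mem (fun y hy => hφ.2.1 _ y (by simpa using hy)) _)
      ((ChowOps.zk X δ _).zsmul_mem (fun y hy => hε.2.1 _ y (by simpa using hy)) _)) ?_
  show T₀.up _ = T₀.up _
  rw [T₀.chern hTE hT hTs hδ'' hz hα hτ, c1, T₀.up_add, T₀.up_zsmul, T₀.up_zsmul, T₀.chern hQE hQ hQs hδ' hy hα hφ,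
    T₀.chern hPE hP hPs hδ hx hα hε, map_add, Int.cast_natCast, Int.cast_natCast, ← GrothLib.PBDeg.act_mul,
    ← GrothLib.PBDeg.act_mul]
  rfl


end Groth.Agent.S12668
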