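import Groth.Statements.S12669
-- import your own Groth.Agent.* helpers here
import Groth.Agent.Lib.PBDeg17.Apply

set_option autoImplicit false
universe u
open CategoryTheory CategoryTheory.Limits AlgebraicGeometry
open Cyc

namespace Groth.Agent.S12669

/-- For E, F finite locally free of ranks r, s on X, c_2(E ⊗ F) = r c_2(F) + s c_2(E) + C(r,2) c_1(F)^2
+ (rs - 1) c_1(F) c_1(E) + C(s,2) c_1(E)^2, as cap operations on every k-cycle α; products of
classes are iterated caps represented by nested tuples (a tuple for F, resp. E, over the first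
component of a tuple for F; a tuple for E over the first component of a tuple for E), c_2 of a
module of rank < 2 is 0, and E ⊗ F (CohB1.tensorMod, rank rs) enters through its own projective
bundle. Stated for r, s ≥ 1. Setting: (X, δ) with Cyc.IsSetup stands for a scheme locally of finite
type over the base (S, δ) (X locally Noetherian with universally catenary local rings, δ a dimension
function); (p : P → X, O_P(1), q) is the projective bundle of E given by its universal property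
(KRR.IsProjBundle), p is proper and δP is the induced dimension function (Cyc.DeltaCompat); a tuple
γ with Cyc.IsChernCap represents (c_0(E) ∩ α, …, c_r(E) ∩ α) through the defining relation Σ_i
(-1)^i c_1(O_P(1))^i ∩ p^*(γ_{r-i}) ∼_rat 0 on P, and classes are compared up to rational
equivalence of representing cycles. -/
theorem result (X : Scheme.{u}) (δ : X → ℤ) (hX : Cyc.IsSetup X δ) (r s : ℕ) (hr : 1 ≤ r) (hs : 1 ≤ s) (E : X.Modules) (hPE : FlatMod.IsFinLocFreeOfRank r E) (P : Scheme.{u}) (p : P ⟶ X) (O1 : P.Modules) (q : (Scheme.Modules.pullback p).obj E ⟶ O1) (hP : KRR.IsProjBundle p E O1 q) [IsProper p] (δP : P → ℤ) (hPs : Cyc.IsSetup P δP) (hδ : Cyc.DeltaCompat p δP δ) (F : X.Modules) (hQE : FlatMod.IsFinLocFreeOfRank s F) (Q : Scheme.{u}) (p' : Q ⟶ X) (O1' : Q.Modules) (q' : (Scheme.Modules.pullback p').obj F ⟶ O1') (hQ : KRR.IsProjBundle p' F O1' q') [IsProper p'] (δQ : Q → ℤ) (hQs : Cyc.IsSetup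 Q δQ) (hδ' : Cyc.DeltaCompat p' δQ δ) (hTE : FlatMod.IsFinLocFreeOfRank (r * s) (CohB1.tensorMod E F)) (T : Scheme.{u}) (p'' : T ⟶ X) (O1'' : T.Modules) (q'' : (Scheme.Modules.pullback p'').obj (CohB1.tensorMod E F) ⟶ O1'') (hT : KRR.IsProjBundle p'' (CohB1.tensorMod E F) O1'' q'') [IsProper p''] (δT : T → ℤ) (hTs : Cyc.IsSetup T δT) (hδ'' : Cyc.DeltaCompat p'' δT δ) (k : ℤ) (α : AlgebraicCycle X ℤ) (hα : α ∈ Cyc.Zk X δ k) (ε : Fin (r + 1) → AlgebraicCycle X ℤ) (hε : Cyc.IsChernCap p δ δP O1 r k α ε) (φ : Fin (s + 1) → AlgebraicCycle X ℤ) (hφ : Cyc.IsChernCap p' δ δQ O1' s k α φ) (τ : Fin (r * s + 1) → AlgebraicCycle X ℤ) (hτ : Cyc.IsChernCap p'' δ δT O1'' (r * s) k α τ) (φφ : Fin (s + 1) → AlgebraicCycle X ℤ) (hφφ : Cyc.IsChernCap p' δ δQ O1' s (k - 1) (φ ⟨1, Nat.lt_succ_of_le hs⟩) φφ) (εφ : Fin (r + 1) → AlgebraicCycle X ℤ) (hεφ : Cyc.IsChernCap p δ δP O1 r (k - 1) (φ ⟨1, Nat.lt_succ_of_le hs⟩) εφ)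 (εε : Fin (r + 1) → AlgebraicCycle X ℤ) (hεε : Cyc.IsChernCap p δ δP O1 r (k - 1) (ε ⟨1, Nat.lt_succ_of_le hr⟩) εε) : Cyc.RatEquiv δ (k - 2) (if h2 : 2 ≤ r * s then τ ⟨2, Nat.lt_succ_of_le h2⟩ else 0) (((r : ℕ) : ℤ) • (if h2 : 2 ≤ s then φ ⟨2, Nat.lt_succ_of_le h2⟩ else 0) + ((s : ℕ) : ℤ) • (if h2 : 2 ≤ r then ε ⟨2, Nat.lt_succ_of_le h2⟩ else 0) + ((Nat.choose r 2 : ℕ) : ℤ) • φφ ⟨1, Nat.lt_succ_of_le hs⟩ + (((r * s : ℕ) : ℤ) - 1) • εφ ⟨1, Nat.lt_succ_of_le hr⟩ + ((Nat.choose s 2 : ℕ) : ℤ) • εε ⟨1, Nat.lt_succ_of_le hr⟩) := by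
  classical
  haveI := hX.1
  obtain ⟨R, _, π, d, δR, T₀, hF⟩ := GrothLib.PBDeg.exists_towerData hX (fun i : Bool => if i then r else s)
    (fun i => if i then E else F) (fun i => by cases i <;> simpa)
  have hF₁ : GrothLib.PBDeg.Flag r ((Scheme.Modules.pullback π).obj E) := hF true
  have hF₂ : GrothLib.PBDeg.Flag s ((Scheme.Modules.pullback π).obj F) := hF false
  obtain ⟨x, hx⟩ := hF₁.hasRoots T₀.setupP.2.2
  obtain ⟨y, hy⟩ := hF₂.hasRoots T₀.setupP.2.2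
  have hz := T₀.roots_tensor hr hx hy
  obtain ⟨c1, c2⟩ := GrothLib.PBDeg.coeff_tensor_one_two hr x y s
  have hbig : ∀ (n : ℕ) (w : ℕ → GrothLib.PBDeg.C1Ring T₀.setupP.2.2), ¬ 2 ≤ n →
      (GrothLib.PBDeg.cp n w).coeff 2 = 0 := fun n w hn => by
    rw [GrothLib.PBDeg.coeff_cp, Finset.powersetCard_eq_empty.2 (by simp; omega), Finset.sum_empty]
  have hm1 : φ ⟨1, Nat.lt_succ_of_le hs⟩ ∈ Cyc.Zk X δ (k - 1) := fun y hy => hφ.2.1 _ y (by simpa using hy)
  have hm2 : ε ⟨1, Nat.lt_succ_of_le hr⟩ ∈ Cyc.Zk X δ (k - 1) := fun y hy => hε.2.1 _ y (by simpa using hy)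
  refine T₀.ratEquiv_of_pull ?_ ((ChowOps.zk X δ _).add_mem ((ChowOps.zk X δ _).add_mem ((ChowOps.zk X δ _).add_mem
    ((ChowOps.zk X δ _).add_mem ((ChowOps.zk X δ _).zsmul_mem ?_ _) ((ChowOps.zk X δ _).zsmul_mem ?_ _))
    ((ChowOps.zk X δ _).zsmul_mem ?_ _)) ((ChowOps.zk X δ _).zsmul_mem ?_ _))
    ((ChowOps.zk X δ _).zsmul_mem ?_ _)) ?_
  · split_ifs
    · exact fun y hy => hτ.2.1 _ y (by simpa using hy)
    · exact fun _ _ => rfl
  · split_ifs
    · exact fun y hy => hφ.2.1 _ y (by simpa using hy)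
    · exact (ChowOps.zk X δ _).zero_mem
  · split_ifs
    · exact fun y hy => hε.2.1 _ y (by simpa using hy)
    · exact (ChowOps.zk X δ _).zero_mem
  · exact fun y hy => hφφ.2.1 _ y (by intro e; apply hy; rw [e]; push_cast; ring)
  · exact fun y hy => hεφ.2.1 _ y (by intro e; apply hy; rw [e]; push_cast; ring)
  · exact fun y hy => hεε.2.1 _ y (by intro e; apply hy; rw [e]; push_cast; ring)
  have hτ2 : T₀.up (if h2 : 2 ≤ r * s then τ ⟨2, Nat.lt_succ_of_le h2⟩ else 0) = GrothLib.PBDeg.act _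
      ((GrothLib.PBDeg.cp (r * s) fun n => x (n % r) + y (n / r)).coeff 2) (T₀.up α) := by
    split_ifs with h
    · exact T₀.chern hTE hT hTs hδ'' hz hα hτ _
    · rw [T₀.up_zero, hbig _ _ h, map_zero]; rfl
  have hφ2 : T₀.up (if h2 : 2 ≤ s then φ ⟨2, Nat.lt_succ_of_le h2⟩ else 0) = GrothLib.PBDeg.act _
      ((GrothLib.PBDeg.cp s y).coeff 2) (T₀.up α) := by
    split_ifs with h
    · exact T₀.chern hQE hQ hQs hδ' hy hα hφ _
    · rw [T₀.up_zero, hbig _ _ h, map_zero]; rfl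
  have hε2 : T₀.up (if h2 : 2 ≤ r then ε ⟨2, Nat.lt_succ_of_le h2⟩ else 0) = GrothLib.PBDeg.act _
      ((GrothLib.PBDeg.cp r x).coeff 2) (T₀.up α) := by
    split_ifs with h
    · exact T₀.chern hPE hP hPs hδ hx hα hε _
    · rw [T₀.up_zero, hbig _ _ h, map_zero]; rfl
  show T₀.up _ = T₀.up _
  rw [hτ2, c2, T₀.up_add, T₀.up_add, T₀.up_add, T₀.up_add, T₀.up_zsmul, T₀.up_zsmul, T₀.up_zsmul, T₀.up_zsmul,
    T₀.up_zsmul, hφ2, hε2, T₀.chern hQE hQ hQs hδ' hy hm1 hφφ, T₀.chern hPE hP hPs hδ hx hm1 hεφ,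
    T₀.chern hPE hP hPs hδ hx hm2 hεε, T₀.chern hQE hQ hQs hδ' hy hα hφ, T₀.chern hPE hP hPs hδ hx hα hε]
  simp only [map_add, Int.cast_natCast, Int.cast_sub, Int.cast_one, pow_two]
  rfl


end Groth.Agent.S12669
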