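import Groth.Statements.S1267
import Groth.Agent.Lib.FlatAbove.Killed
import Groth.Agent.Lib.Flatness.Criterion

set_option autoImplicit false
universe u
open FlatMor

namespace Groth.Agent.S1267

set_option maxHeartbeats 1000000
set_option linter.style.haveILetI false

open TensorProduct in
/-- The flatness of the quotient by the saturated square. -/
theorem main {A : Type u} [CommRing A] (I : Ideal A) (U : Set (PrimeSpectrum A)) (hU : IsOpen U) (hUc : IsCompact U)
    (M : Type u) [AddCommGroup M] [Module A M] (hI : Module.Flat (A ⧸ I) (M ⧸ (I • ⊤ : Submodule A M)))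
    (hflat : ∀ p ∈ U, Module.Flat A (LocalizedModule p.asIdeal.primeCompl M))
    (I₂ : Ideal A) (hI₂ : ∀ x : A, x ∈ I₂ ↔ x ∈ I ∧ ∀ p ∈ U, ∃ s : A, s ∉ p.asIdeal ∧ s * x ∈ I ^ 2) :
    Module.Flat (A ⧸ I₂) (M ⧸ (I₂ • ⊤ : Submodule A M)) := by
  classical
  have hle : I₂ ≤ I := fun x hx => ((hI₂ x).1 hx).1
  have hsq : I ^ 2 ≤ I₂ := fun x hx => (hI₂ x).2 ⟨Ideal.pow_le_self two_ne_zero hx, fun p _ =>
    ⟨1, p.2.one_notMem, by rwa [one_mul]⟩⟩
  let R := A ⧸ I₂
  let J : Ideal R := I.map (Ideal.Quotient.mk I₂)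
  have hJ2 : IsNilpotent J := ⟨2, by
    rw [← Ideal.map_pow, Ideal.zero_eq_bot, Ideal.map_eq_bot_iff_le_ker, Ideal.mk_ker]; exact hsq⟩
  haveI hIT : Module.Flat (A ⧸ I) ((A ⧸ I) ⊗[A] M) := by
    have := hI
    let e := TensorProduct.quotTensorEquivQuotSMul M I
    refine Module.Flat.of_linearEquiv (R := A ⧸ I) (M := M ⧸ (I • ⊤ : Submodule A M))
      (LinearEquiv.extendScalarsOfSurjective Ideal.Quotient.mk_surjective e)
  suffices hR : Module.Flat R (R ⊗[A] M) by
    have := hR
    exact Module.Flat.of_linearEquiv (LinearEquiv.extendScalarsOfSurjective Ideal.Quotient.mk_surjective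
      (TensorProduct.quotTensorEquivQuotSMul M I₂)).symm
  refine GrothLib.Flatness.flat_of_isNilpotent J hJ2 ?_ ?_
  · -- the map from the square-zero ideal stays injective
    -- a finite cover by basic opens
    obtain ⟨c, hc⟩ := hUc.elim_finite_subcover (fun f : {f : A // (PrimeSpectrum.basicOpen f : Set (PrimeSpectrum A)) ⊆ U} =>
      (PrimeSpectrum.basicOpen f.1 : Set (PrimeSpectrum A))) (fun f => (PrimeSpectrum.basicOpen f.1).2) (fun p hp => by
        obtain ⟨V, ⟨_, ⟨f, rfl⟩, rfl⟩, hpf, hfU⟩ := PrimeSpectrum.isBasis_basic_opens.exists_subset_of_mem_open hp hU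
        exact Set.mem_iUnion.2 ⟨⟨_, hfU⟩, hpf⟩)
    let L : c → Type u := fun j => Localization.Away (Ideal.Quotient.mk (I ^ 2) j.1.1)
    let ψ : ∀ j : c, R →ₐ[A] L j := fun j => Ideal.Quotient.liftₐ I₂ (Algebra.ofId A (L j)) fun x hx => by
      show algebraMap A (L j) x = 0
      have hmem : j.1.1 ∈ Ideal.radical (Submodule.comap (LinearMap.mulRight A x) (I ^ 2)) := by
        rw [Ideal.radical_eq_sInf]
        refine Ideal.mem_sInf.2 ?_
        rintro p ⟨hp, hpp⟩
        by_contra hfp
        obtain ⟨s, hs, hsx⟩ := ((hI₂ x).1 hx).2 ⟨p, hpp⟩ (j.1.2 hfp)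
        exact hs (hp hsx)
      obtain ⟨n, hn⟩ := hmem
      rw [IsScalarTower.algebraMap_apply A (A ⧸ I ^ 2) (L j), IsLocalization.map_eq_zero_iff
        (Submonoid.powers (Ideal.Quotient.mk (I ^ 2) j.1.1))]
      refine ⟨⟨_, n, rfl⟩, ?_⟩
      show Ideal.Quotient.mk (I ^ 2) j.1.1 ^ n * Ideal.Quotient.mk (I ^ 2) x = 0
      rw [← map_pow, ← map_mul, Ideal.Quotient.eq_zero_iff_mem]
      exact hn
    let JA : Submodule A R := J.restrictScalars A
    let Jj : ∀ j : c, Submodule A (L j) := fun j => (I.map (algebraMap A (L j))).restrictScalars A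
    have hψJ : ∀ j : c, ∀ x ∈ JA, (ψ j).toLinearMap x ∈ Jj j := fun j x hx => by
      obtain ⟨y, hy, rfl⟩ := (Ideal.mem_map_iff_of_surjective _ Ideal.Quotient.mk_surjective).1 hx
      exact Ideal.mem_map_of_mem _ hy
    let φ : JA →ₗ[A] (Π j : c, Jj j) := LinearMap.pi fun j => (ψ j).toLinearMap.restrict (hψJ j)
    have hφ : Function.Injective φ := (injective_iff_map_eq_zero _).2 fun x hx => by
      obtain ⟨y, hy, hyx⟩ := (Ideal.mem_map_iff_of_surjective _ Ideal.Quotient.mk_surjective).1 x.2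
      refine Subtype.ext (hyx.symm.trans (Ideal.Quotient.eq_zero_iff_mem.2 ((hI₂ y).2 ⟨hy, fun p hp => ?_⟩)))
      obtain ⟨f, hf⟩ := Set.mem_iUnion.1 (hc hp)
      obtain ⟨hfc, hpf⟩ := Set.mem_iUnion.1 hf
      have h0 : (ψ ⟨f, hfc⟩) (Ideal.Quotient.mk I₂ y) = 0 := by
        rw [hyx]
        exact congrArg Subtype.val (congrFun hx ⟨f, hfc⟩)
      rw [show (ψ ⟨f, hfc⟩) (Ideal.Quotient.mk I₂ y) = algebraMap A _ y from rfl,
        IsScalarTower.algebraMap_apply A (A ⧸ I ^ 2) (L ⟨f, hfc⟩),
        IsLocalization.map_eq_zero_iff (Submonoid.powers (Ideal.Quotient.mk (I ^ 2) f.1))] at h0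
      obtain ⟨⟨_, n, rfl⟩, hn⟩ := h0
      refine ⟨f.1 ^ n, fun h => hpf (p.2.mem_of_pow_mem n h), ?_⟩
      rw [← Ideal.Quotient.eq_zero_iff_mem, map_mul, map_pow]
      exact hn
    have htJ : Module.IsTorsionBySet A JA (I : Set A) := fun x a => Subtype.ext (by
      show (a : A) • (x : R) = 0
      have hmem : (Ideal.Quotient.mk I₂ a) * (x : R) ∈ J ^ 2 := pow_two J ▸ Ideal.mul_mem_mul (Ideal.mem_map_of_mem _ a.2) x.2
      rw [← Ideal.map_pow, (Ideal.map_eq_bot_iff_le_ker _).2 (hsq.trans Ideal.mk_ker.ge), Ideal.mem_bot] at hmem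
      rw [Algebra.smul_def]; exact hmem)
    have htj : ∀ j : c, Module.IsTorsionBySet A (Jj j) (I : Set A) := fun j x a => Subtype.ext (by
      show (a : A) • (x : L j) = 0
      have hmem : algebraMap A (L j) a * (x : L j) ∈ (I ^ 2).map (algebraMap A (L j)) := by
        rw [Ideal.map_pow, pow_two (I.map (algebraMap A (L j)))]
        exact Ideal.mul_mem_mul (Ideal.mem_map_of_mem _ a.2) x.2
      rw [IsScalarTower.algebraMap_eq A (A ⧸ I ^ 2) (L j), ← Ideal.map_map, Ideal.Quotient.algebraMap_eq, Ideal.map_quotient_self,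
        Ideal.map_bot, Ideal.mem_bot] at hmem
      rw [Algebra.smul_def, IsScalarTower.algebraMap_apply A (A ⧸ I ^ 2) (L j)]
      exact hmem)
    have hMφ : Function.Injective (φ.lTensor M) := GrothLib.Flatness.lTensor_injective_of_flat_quotient I hIT htJ
      (fun x a => funext fun j => @htj j (x j) a) φ hφ
    -- localisations see injections
    have hloc : ∀ j : c, Function.Injective ((Jj j).subtype.lTensor M) := fun j => by
      refine (injective_iff_map_eq_zero _).2 fun z hz => ?_
      have hmem : j.1.1 ∈ Ideal.radical (LinearMap.ker (LinearMap.toSpanSingleton A (M ⊗[A] Jj j) z)) := by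
        rw [Ideal.radical_eq_sInf]
        refine Ideal.mem_sInf.2 ?_
        rintro p ⟨hp, hpp⟩
        by_contra hfp
        obtain ⟨s, hs, hsz⟩ := (GrothLib.FlatAbove.flatAt_iff_killed p).1 (hflat ⟨p, hpp⟩ (j.1.2 hfp)) _ _
          (Jj j).subtype (Submodule.injective_subtype _) z hz
        exact hs (hp hsz)
      obtain ⟨n, hn⟩ := hmem
      have hu : IsUnit (algebraMap A (L j) (j.1.1 ^ n)) := by
        rw [map_pow, IsScalarTower.algebraMap_apply A (A ⧸ I ^ 2) (L j)]
        exact (IsLocalization.Away.algebraMap_isUnit _).pow n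
      let w : Jj j →ₗ[A] Jj j := ((LinearMap.lsmul (L j) (L j) ↑hu.unit⁻¹).restrictScalars A).restrict
        fun x hx => Ideal.mul_mem_left _ _ hx
      have hw : w.comp (LinearMap.lsmul A (Jj j) (j.1.1 ^ n)) = LinearMap.id := LinearMap.ext fun x => Subtype.ext (by
        show ((hu.unit⁻¹ : (L j)ˣ) : L j) * ((j.1.1 ^ n) • (x : L j)) = (x : L j)
        rw [Algebra.smul_def, ← mul_assoc, IsUnit.val_inv_mul, one_mul])
      have h1 : (LinearMap.lsmul A (Jj j) (j.1.1 ^ n)).lTensor M z = 0 := by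
        have hh : ∀ w : M ⊗[A] Jj j, (LinearMap.lsmul A (Jj j) (j.1.1 ^ n)).lTensor M w = (j.1.1 ^ n) • w := fun w => by
          induction w using TensorProduct.induction_on with
          | zero => simp only [map_zero, smul_zero]
          | tmul a b => rw [LinearMap.lTensor_tmul, LinearMap.lsmul_apply, TensorProduct.tmul_smul]
          | add a b ha hb => simp only [map_add, smul_add, ha, hb]
        rw [hh]; exact hn
      rw [← LinearMap.lTensor_id_apply M (Jj j) z, ← hw, LinearMap.lTensor_comp_apply, h1, map_zero]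
    have hA : Function.Injective (JA.subtype.lTensor M) := (injective_iff_map_eq_zero _).2 fun z hz => by
      refine (injective_iff_map_eq_zero _).1 hMφ z ((TensorProduct.piRight A A M fun j : c => Jj j).injective ?_)
      rw [map_zero]
      funext j
      have hp : ∀ w : M ⊗[A] (Π j : c, Jj j), TensorProduct.piRight A A M (fun j : c => Jj j) w j =
          (LinearMap.proj j : (Π j : c, Jj j) →ₗ[A] Jj j).lTensor M w := fun w => by
        induction w using TensorProduct.induction_on with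
        | zero => simp only [map_zero, Pi.zero_apply]
        | tmul a b => simp
        | add a b ha hb => simp only [map_add, Pi.add_apply, ha, hb]
      rw [hp, ← LinearMap.lTensor_comp_apply]
      refine hloc j ?_
      rw [← LinearMap.lTensor_comp_apply, Pi.zero_apply, map_zero,
        show (Jj j).subtype ∘ₗ (LinearMap.proj j) ∘ₗ φ = (ψ j).toLinearMap ∘ₗ JA.subtype from rfl,
        LinearMap.lTensor_comp_apply, hz, map_zero]
    -- back to the quotient ring
    let e1 : (R ⊗[A] M) ⊗[R] J ≃+ M ⊗[A] JA :=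
      ((TensorProduct.comm R _ _).toAddEquiv.trans (AlgebraTensorModule.cancelBaseChange A R R J M).toAddEquiv).trans
        (TensorProduct.comm A J M).toAddEquiv
    let e2 : (R ⊗[A] M) ⊗[R] R ≃+ M ⊗[A] R :=
      ((TensorProduct.comm R _ _).toAddEquiv.trans (AlgebraTensorModule.cancelBaseChange A R R R M).toAddEquiv).trans
        (TensorProduct.comm A R M).toAddEquiv
    have hnat : ∀ z, e2 (J.subtype.lTensor (R ⊗[A] M) z) = JA.subtype.lTensor M (e1 z) := fun z => by
      induction z using TensorProduct.induction_on with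
      | zero => simp only [map_zero]
      | tmul x y =>
        induction x using TensorProduct.induction_on with
        | zero => simp only [zero_tmul, map_zero]
        | tmul r m => rfl
        | add a b ha hb => simp only [add_tmul, map_add, ha, hb]
      | add a b ha hb => simp only [map_add, ha, hb]
    intro a b hab
    exact e1.injective (hA (by rw [← hnat, ← hnat, hab]))
  · -- flatness modulo the ideal
    letI : Algebra (A ⧸ I) (R ⧸ J) := (Ideal.Quotient.lift I (algebraMap A (R ⧸ J)) fun x hx =>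
      Ideal.Quotient.eq_zero_iff_mem.2 (Ideal.mem_map_of_mem _ hx)).toAlgebra
    haveI : IsScalarTower A (A ⧸ I) (R ⧸ J) := IsScalarTower.of_algebraMap_eq fun _ => rfl
    haveI : Module.Flat (R ⧸ J) ((R ⧸ J) ⊗[A ⧸ I] ((A ⧸ I) ⊗[A] M)) := Module.Flat.baseChange (A ⧸ I) (R ⧸ J) _
    exact Module.Flat.of_linearEquiv
      ((AlgebraTensorModule.cancelBaseChange A R (R ⧸ J) (R ⧸ J) M) ≪≫ₗ
        (AlgebraTensorModule.cancelBaseChange A (A ⧸ I) (R ⧸ J) (R ⧸ J) M).symm)


/-- Let A be a local ring, I an ideal, U a quasi-compact open subset of Spec A and M an A-module such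
that M/IM is flat over A/I and M_p is flat over A for all p in U. Let I₂ be the kernel of I → Γ(U,
I/I²), that is the set of x ∈ I such that for every p ∈ U some s outside p has s·x ∈ I². Then M/I₂M
is flat over A/I₂. -/
theorem result {A : Type u} [CommRing A] [IsLocalRing A] (I : Ideal A)
    (U : Set (PrimeSpectrum A)) (hU : IsOpen U) (hUc : IsCompact U)
    (M : Type u) [AddCommGroup M] [Module A M]
    [Module.Flat (A ⧸ I) (M ⧸ (I • ⊤ : Submodule A M))]
    (hflat : ∀ p ∈ U, Module.Flat A (LocalizedModule p.asIdeal.primeCompl M))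
    (I₂ : Ideal A) (hI₂ : ∀ x : A, x ∈ I₂ ↔ x ∈ I ∧ ∀ p ∈ U, ∃ s : A, s ∉ p.asIdeal ∧ s * x ∈ I ^ 2) :
    Module.Flat (A ⧸ I₂) (M ⧸ (I₂ • ⊤ : Submodule A M)) := by
  exact main I U hU hUc M inferInstance hflat I₂ hI₂


end Groth.Agent.S1267
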