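import Groth.Statements.S12675
-- import your own Groth.Agent.* helpers here
import Groth.Agent.Lib.PBDeg17.Chern
import Groth.Agent.Lib.Algz56.Sheaves

set_option autoImplicit false
universe u
open CategoryTheory CategoryTheory.Limits AlgebraicGeometry
open Cyc

namespace Groth.Agent.S12675

/-- Suppose X is integral of δ-dimension n and L is an O_X-module that is invertible; then L's first
Chern class on X, taken in the sense of the projective-bundle characterisation (rank r = 1), agrees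
with the Weil divisor class c_1(L) ∩ [X] of L (the divisor of a nonzero rational section,
Cyc.c1CapFun on the cycle [X]_n). The projective bundle of L is given abstractly by its universal
property, so the identification P(L) = X, O(1) = L is part of what is asserted. Setting: (X, δ) with
Cyc.IsSetup stands for a scheme locally of finite type over the base (S, δ) (X locally Noetherian
with universally catenary local rings, δ a dimension function); (p : P → X, O_P(1), q) is the
projective bundle of E given by its universal property (KRR.IsProjBundle), p is proper and δP is the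
induced dimension function (Cyc.DeltaCompat); a tuple γ with Cyc.IsChernCap represents (c_0(E) ∩ α,
…, c_r(E) ∩ α) through the defining relation Σ_i (-1)^i c_1(O_P(1))^i ∩ p^*(γ_{r-i}) ∼_rat 0 on P,
and classes are compared up to rational equivalence of representing cycles. -/
theorem result (X : Scheme.{u}) (δ : X → ℤ) (hX : Cyc.IsSetup X δ) [IsIntegral X] (n : ℤ) (hn : δ (genericPoint X) = n) (L : X.Modules) (hL : PicF.IsInvertible L) (hPE : FlatMod.IsFinLocFreeOfRank 1 L) (P : Scheme.{u}) (p : P ⟶ X) (O1 : P.Modules) (q : (Scheme.Modules.pullback p).obj L ⟶ O1) (hP : KRR.IsProjBundle p L O1 q) [IsProper p] (δP : P → ℤ) (hPs : Cyc.IsSetup P δP) (hδ : Cyc.DeltaCompat p δP δ) (α : AlgebraicCycle X ℤ) (hα : ⇑α = Cyc.subschemeFun δ n (𝟙 X)) (γ : Fin 2 → AlgebraicCycle X ℤ) (hγ : Cyc.IsChernCap p δ δP O1 1 n α γ) (s : (ξ : X) → Cyc.secFibre L ξ) (hs : ∀ ξ, s ξ ≠ 0) (β : AlgebraicCycle X ℤ) (hβ : ⇑β = Cyc.c1CapFun δ L ⇑α s) : Cyc.RatEquiv δ (n - 1) (γ 1) β := by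
  haveI := hX.1
  haveI := hPs.1
  have S := GrothLib.PBDeg.setting_univ (m := 0) hX hPE hP hPs hδ
  haveI := S.charts.flat
  haveI := hP.epi
  haveI hq : IsIso q := GrothLib.Algz56.isIso_of_epi_invertible
    (GrothLib.C1.isInvertible_pullback p hL) S.inv q
  have hLp := GrothLib.C1.isInvertible_pullback p hL
  let t : ℕ → (ξ : P) → Cyc.secFibre O1 ξ := fun _ ξ =>
    GrothLib.C1.isoFib (asIso q) ξ (GrothLib.C1.pullChoice p hL s ξ)
  have ht : ∀ n ξ, t n ξ ≠ 0 := fun _ ξ =>
    GrothLib.C1.isoFib_ne_zero (asIso q) hLp (GrothLib.C1.pullFib_ne_zero p hL (hs _))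
  have h1 := S.rel_rz hγ ht
  let a : AlgebraicCycle P ℤ := GrothLib.C1.toCycle _ (S.lf_pull α)
  let b : AlgebraicCycle P ℤ := GrothLib.C1.toCycle _ (GrothLib.PBDeg.lf_c1Pow S.dimP S.inv ht (S.lf_pull α) 1)
  let c : AlgebraicCycle P ℤ := GrothLib.C1.toCycle _ (S.lf_pull (γ 1))
  have hαk : α ∈ Cyc.Zk X δ n := by
    have := hγ.2.1 0
    rw [hγ.1] at this
    simpa using this
  have h2 : Cyc.RatEquivZero δP (n - 1) (c - b) := GrothLib.C1.RZ.to_ratEquivZero hPs.2.2 (h1.congr fun y => by
    rw [Function.locallyFinsuppWithin.coe_sub, Pi.sub_apply]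
    unfold GrothLib.PBDeg.relFun
    rw [Fin.sum_univ_two, Fin.rev_zero, show Fin.rev (1 : Fin (0 + 1 + 1)) = 0 from rfl, hγ.1]
    show c y - b y = (-1 : ℤ) ^ (0 : ℕ) * c y + (-1 : ℤ) ^ (1 : ℕ) * b y
    ring)
  have h3 := GrothLib.C1.RZ.of_ratEquivZero hX.2.2 (GrothLib.C1.ratEquivZero_map p hPs.2.2 hX.2.2 hδ h2)
  rw [GrothLib.CycPush.map_sub] at h3
  have hc : AlgebraicCycle.map p δP δ c = γ 1 := S.map_eq_self (hγ.2.1 1) ht c rfl
  have ha : AlgebraicCycle.map p δP δ a = α := S.map_eq_self hαk ht a rfl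
  have hb : ⇑(AlgebraicCycle.map p δP δ b) = ⇑β := by
    rw [GrothLib.C1.map_c1Cap_pull p hL hPs.2.2 hX.2.2 hδ a hs b (funext fun x => ?_), ha, hβ]
    show Cyc.c1CapFun δP O1 (Cyc.pullFun p δP δ ((0 : ℕ) : ℤ) ⇑α) (t 0) x = _
    exact congrFun (GrothLib.C1.c1Cap_iso (asIso q) hPs.2.2 hLp S.inv _ (GrothLib.C1.pullChoice p hL s)) x
  exact GrothLib.C1.ratEquiv_of_RZ hX.2.2 h3 fun x => by
    rw [Function.locallyFinsuppWithin.coe_sub, Pi.sub_apply, hc, hb]

end Groth.Agent.S12675
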