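import Groth.Statements.S12687
import Groth.Agent.Lib.RelProjFP10.Main
import Groth.Agent.Lib.FPExt9.Main

set_option linter.all false
set_option backward.isDefEq.respectTransparency false

set_option autoImplicit false
universe u
open CategoryTheory CategoryTheory.Limits AlgebraicGeometry TopologicalSpace Opposite
open scoped HomogeneousIdeal
noncomputable section
open Divisors

namespace Groth.Agent.S12687

theorem isFP_of_pullbacks {X : Scheme.{u}} (L : X.Modules) [L.IsQuasicoherent] {ι : Type u} {Z : ι → Scheme.{u}}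
    (j : ∀ i, Z i ⟶ X) [∀ i, IsOpenImmersion (j i)] (hcov : ∀ x : X, ∃ i, x ∈ (j i).opensRange)
    (h : ∀ i, CohB1.IsFP ((Scheme.Modules.pullback (j i)).obj L)) : CohB1.IsFP L := by
  refine GrothLib.FlatFP.isFP_of_sections L (fun iV : Σ i, (Z i).affineOpens => j iV.1 ''ᵁ iV.2.1) ?_
    (fun iV => iV.2.2.image_of_isOpenImmersion _) fun iV => ?_
  · refine eq_top_iff.mpr fun x _ => ?_
    obtain ⟨i, z, hz⟩ := hcov x
    obtain ⟨V, hV, hzV, -⟩ := exists_isAffineOpen_mem_and_subset (Opens.mem_top z)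
    exact Opens.mem_iSup.mpr ⟨⟨i, ⟨V, hV⟩⟩, z, hzV, hz⟩
  · obtain ⟨i, V⟩ := iV
    have hR : CohB1.IsFP (L.restrict (j i)) :=
      (SheafOfModules.isFinitePresentation (Z i).ringCatSheaf).prop_of_iso
        ((Scheme.Modules.restrictFunctorIsoPullback (j i)).app L).symm (h i)
    haveI : Module.FinitePresentation Γ(Z i, V) Γ(L.restrict (j i), V) :=
      GrothLib.FlatFP.finitePresentation_sections (L.restrict (j i)) hR V.2
    letI : Algebra Γ(Z i, V) Γ(X, j i ''ᵁ V) := ((j i).appIso V).inv.hom.toAlgebra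
    letI : Module Γ(Z i, V) Γ(L, j i ''ᵁ V) := inferInstanceAs (Module Γ(Z i, V) Γ(L.restrict (j i), V))
    haveI : Module.FinitePresentation Γ(Z i, V) Γ(L, j i ''ᵁ V) :=
      ‹Module.FinitePresentation _ Γ(L.restrict (j i), V)›
    haveI : IsScalarTower Γ(Z i, V) Γ(X, j i ''ᵁ V) Γ(L, j i ''ᵁ V) :=
      IsScalarTower.of_algebraMap_smul fun c x => (GrothLib.InvExt.restrict_smul (j i) L c x).symm
    exact GrothLib.FlatFP.finitePresentation_of_surjective_algebraMap
      (C := Γ(Z i, V)) (((j i).appIso V).symm.commRingCatIsoToRingEquiv.surjective)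

/-- Let S be a scheme, 𝒜 a quasi-coherent graded O_S-algebra which is a finitely presented O_S-algebra
(over every affine open U, 𝒜(U) is a finitely presented algebra over Γ(U, O_S)), and p : P = Proj(𝒜)
→ S its relative homogeneous spectrum, given with its charts. Then p is of finite presentation
(locally of finite presentation, quasi-compact and quasi-separated), and for every integer d the
twisting module O_P(d) (given with its chart identifications) is an O_P-module of finite
presentation. -/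
theorem result {S P : Scheme.{u}} (𝒜 : RelProj.QCGrAlg S)
    (hfp : ∀ (U : S.Opens), IsAffineOpen U → RingHom.FinitePresentation (𝒜.str.app (op U)).hom)
    (p : P ⟶ S) (chart : ∀ (U : S.Opens) (hU : IsAffineOpen U), (((p ⁻¹ᵁ U : P.Opens) : Scheme.{u}) ≅ Proj (𝒜.deg U hU))) (hP : RelProj.IsRelProj 𝒜 p chart) :
    (LocallyOfFinitePresentation p ∧ QuasiCompact p ∧ QuasiSeparated p) ∧
      ∀ (d : ℤ) (Od : P.Modules)
        (lam : ∀ (U : S.Opens) (hU : IsAffineOpen U),
          Od ⟶ (Scheme.Modules.pushforward (RelProj.emb p chart U hU)).obj (GrTwist.twist (𝒜.deg U hU) d)),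
        RelProj.IsRelTwist 𝒜 p chart d Od lam → CohB1.IsFP Od := by
  have hcharts : ∀ (U : S.Opens) (hU : IsAffineOpen U),
      LocallyOfFinitePresentation (Proj.toSpecZero (𝒜.deg U hU) ≫ Spec.map (𝒜.strZero U hU)) ∧
        QuasiCompact (Proj.toSpecZero (𝒜.deg U hU) ≫ Spec.map (𝒜.strZero U hU)) := by
    intro U hU
    letI : Algebra Γ(S, U) (𝒜.presheaf.obj (op U)) := (𝒜.str.app (op U)).hom.toAlgebra
    haveI : Algebra.FinitePresentation Γ(S, U) (𝒜.presheaf.obj (op U)) := hfp U hU
    exact GrothLib.RelProjFP10.lfp_qc_proj (𝒜.deg U hU) (𝒜.strZero U hU).hom (fun r => rfl)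
  refine ⟨⟨?_, ?_, ?_⟩, fun d Od lam hL => ?_⟩
  · exact GrothLib.RelProjK.property_of_charts @LocallyOfFinitePresentation hP fun U hU => (hcharts U hU).1
  · exact GrothLib.RelProjK.property_of_charts @QuasiCompact hP fun U hU => (hcharts U hU).2
  · haveI := GrothLib.RelProjK.isSeparated_of_isRelProj hP
    infer_instance
  · haveI : Od.IsQuasicoherent := GrothLib.RelProjK.isQCoh_of_isRelTwist hL
    refine isFP_of_pullbacks Od (fun U : S.affineOpens => GrothLib.RelProjK.embZ p chart U.1 U.2) ?_ ?_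
    · intro x
      obtain ⟨U, hU, hxU, -⟩ := exists_isAffineOpen_mem_and_subset (Opens.mem_top (p x))
      exact ⟨⟨U, hU⟩, (GrothLib.RelProjK.opensRange_embZ p chart U hU).ge hxU⟩
    · intro W
      letI : Algebra Γ(S, W.1) (𝒜.presheaf.obj (op W.1)) := (𝒜.str.app (op W.1)).hom.toAlgebra
      haveI : Algebra.FinitePresentation Γ(S, W.1) (𝒜.presheaf.obj (op W.1)) := hfp W.1 W.2
      exact (GrothLib.RelProjK.nonempty_pullback_embZ_iso W.1 W.2 hL).elim fun e =>
        (SheafOfModules.isFinitePresentation (Proj (GrothLib.RelProjK.zg (𝒜.deg W.1 W.2))).ringCatSheaf).prop_of_iso e.symm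
          (GrothLib.RelProjFP10.isFP_twist (𝒜.deg W.1 W.2) (R₁ := Γ(S, W.1)) (fun r => 𝒜.str_mem W.1 W.2 r) d)

end Groth.Agent.S12687
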