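import Groth.Statements.S12688
import Groth.Agent.Lib.RLpsi8.FTDescent
import Groth.Agent.Lib.RLpsi8.VeryAmple
import Groth.Agent.Lib.VA.Local

set_option autoImplicit false
set_option backward.isDefEq.respectTransparency false
universe u
open CategoryTheory CategoryTheory.Limits AlgebraicGeometry TopologicalSpace Opposite
open scoped HomogeneousIdeal
noncomputable section
open EGA2

namespace Groth.Agent.S12688

/-- Let Y be a scheme which is either quasi-compact and separated or has Noetherian underlying space, q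
: X → Y a morphism of finite type, L an invertible O_X-module with graded symmetric algebra 𝒮L =
⊕_{n≥0} L^{⊗n} (whose relative Proj PL, given with its charts, is identified with X by its structure
morphism). If L is very ample relative to q, then there are a quasi-coherent O_Y-module E of finite
type with an injective map ι : E → q_*L, its graded symmetric algebra 𝒯 = Sym(E) (structure map jE),
and the graded q-morphism u : 𝒯 → q_*𝒮L extending ι (adjoint to Sym(φ) for φ : q^*E → L the
restriction of the canonical map q^*q_*L → L), such that φ is surjective — every point of X has an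
affine neighbourhood V over which the image of a single section of E generates L — and, for the
projective bundle P(E) = Proj(𝒯) → Y (with its charts) and the induced r = r_{L,φ} : G(φ) → P(E), r
is everywhere defined (G(φ) is all of PL) and an immersion. (The published statement reads 'coherent
of finite type' for E; over an affine base whose ring is not coherent, with q the identity and L
trivial, the only possible E is O_Y itself, which is not coherent, while the published proof,
through the finite-type criterion for immersions, yields E quasi-coherent of finite type, which is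
what this row asserts.) -/
theorem result {X Y PL : Scheme.{u}}
    (hYs : (CompactSpace Y ∧ Y.IsSeparated) ∨ NoetherianSpace Y) (q : X ⟶ Y) [QuasiCompact q] [LocallyOfFiniteType q]
    (L : X.Modules) (hL : PicF.IsInvertible L) (hLq : Coh.IsQCoh L)
    (𝒮L : RelProj.QCGrAlg X) (jL : L ⟶ 𝒮L.toModule) (hjL : RelProj.IsGrSymAlg L 𝒮L jL)
    (pL : PL ⟶ X) (chartL : ∀ (U : X.Opens) (hU : IsAffineOpen U), (((pL ⁻¹ᵁ U : PL.Opens) : Scheme.{u}) ≅ Proj (𝒮L.deg U hU)))
    (hPL : RelProj.IsRelProj 𝒮L pL chartL)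
    (h : RelProj.IsRelVeryAmple q L) :
    ∃ (E : Y.Modules) (_ : Coh.IsQCoh E) (_ : CohB1.IsFT E) (ι : E ⟶ (Scheme.Modules.pushforward q).obj L)
      (_ : ∀ U : Y.Opens, Function.Injective (ι.app U))
      (𝒯 : RelProj.QCGrAlg Y) (jE : E ⟶ 𝒯.toModule) (_ : RelProj.IsGrSymAlg E 𝒯 jE)
      (u : RelProj.QGrHom q 𝒯 𝒮L)
      (_ : ∀ (U : Y.Opens) (x : Γ(E, U)), (u.app U).hom ((jE.app U) x) = (jL.app (q ⁻¹ᵁ U)) ((ι.app U) x)),
      (∀ x : X, ∃ (U : Y.Opens) (hU : IsAffineOpen U) (e : Γ(E, U)) (V : X.Opens) (hV : IsAffineOpen V)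
          (hVU : V ≤ q ⁻¹ᵁ U), x ∈ V ∧
            ((𝒮L.deg V hV 1 : AddSubgroup (𝒮L.presheaf.obj (op V))) : Set (𝒮L.presheaf.obj (op V))) ⊆
              (Ideal.span {(u.appLE U V hVU).hom ((jE.app U) e)} : Set (𝒮L.presheaf.obj (op V)))) ∧
      ∀ (P : Scheme.{u}) (p : P ⟶ Y)
          (chart : ∀ (U : Y.Opens) (hU : IsAffineOpen U), (((p ⁻¹ᵁ U : P.Opens) : Scheme.{u}) ≅ Proj (𝒯.deg U hU)))
          (_ : RelProj.IsRelProj 𝒯 p chart)
          (r : ((RelProj.domQ u pL chartL : PL.Opens) : Scheme.{u}) ⟶ P)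
          (_ : RelProj.IsProjQMapOn u p chart pL chartL (RelProj.domQ u pL chartL) r),
        RelProj.domQ u pL chartL = ⊤ ∧ IsImmersion r := by
  obtain ⟨hc, hqs⟩ : CompactSpace Y ∧ QuasiSeparatedSpace Y := by
    rcases hYs with ⟨h1, h2⟩ | h'
    · haveI := h2
      exact ⟨h1, inferInstance⟩
    · haveI := h'
      exact ⟨inferInstance, inferInstance⟩
  haveI := GrothLib.VA.isSeparated_of_isRelVeryAmple h
  haveI : L.IsQuasicoherent := hLq
  have hFq : Coh.IsQCoh ((Scheme.Modules.pushforward q).obj L) := GrothLib.QCoh.isQuasicoherent_pushforward q L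
  obtain ⟨𝒜, jF, h𝒜⟩ := GrothLib.SymAlgX.exists_isGrSymAlg hFq
  obtain ⟨u, hu⟩ := GrothLib.RLpsi8.exists_qGrHom q 𝒮L jL (𝟙 _) hjL hFq h𝒜
  have hP := GrothLib.RelProjK.isRelProj_proj 𝒜
  obtain ⟨r, hr', -⟩ := GrothLib.RelCone8.existsUnique_isQ (p' := pL) (chart' := chartL) u hPL hP
  have hr := (GrothLib.RelCone8.isQ_iff u r).mp hr'
  obtain ⟨htop, himm⟩ := GrothLib.RLpsi8.isImmersion_of_isRelVeryAmple hL hLq hjL u hu (fun U x => h𝒜.2 U.1 U.2 x) hP hPL hr h
  obtain ⟨E0, φ, -, hp⟩ := GrothLib.VA.isRelVeryAmple_iff.mp h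
  obtain ⟨E, hEq, hFT, ι, hι, 𝒯, jE, hjE, u', hu', hcov, himm'⟩ :=
    GrothLib.RLpsi8.exists_sub_isImmersion hL hLq hjL hFq h𝒜 u hPL hP hr (fun x => by
      obtain ⟨U, e, hxe, -⟩ := hp x
      have hxs : x ∈ GrothLib.RLpsi8.XS u U 1 (show 𝒜.presheaf.obj (op U.1) from jF.app U.1 (φ.app U.1 e)) := by
        rw [GrothLib.RLpsi8.XS_jE hL hLq hjL u hu (fun U x => h𝒜.2 U.1 U.2 x) U (φ.app U.1 e)]
        exact hxe
      obtain ⟨⟨⟨V, hV⟩, hVU, hsub⟩, hxV⟩ := Opens.mem_iSup.mp hxs
      exact ⟨U.1, U.2, φ.app U.1 e, V, hV, hVU, hxV, hsub⟩) himm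
  exact ⟨E, hEq, hFT, ι, hι, 𝒯, jE, hjE, u', fun U x => (hu' U x).trans (hu U _), hcov, himm'⟩

end Groth.Agent.S12688
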