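import Groth.Statements.S12690
import Groth.Agent.Lib.RelProjSub10.FT

set_option linter.all false
set_option backward.isDefEq.respectTransparency false

set_option autoImplicit false
universe u
open CategoryTheory CategoryTheory.Limits AlgebraicGeometry TopologicalSpace Opposite
open scoped HomogeneousIdeal
noncomputable section
open Divisors

namespace Groth.Agent.S12690

/-- Assume S is a quasi-separated, quasi-compact scheme and 𝒜 is a quasi-coherent graded O_S-algebra
each of whose graded pieces 𝒜_n is a finite type O_S-module (concretely, for every affine open W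
there is a finite set of elements of 𝒜_n(W) spanning it over Γ(W, O_S)). Write p : P = Proj(𝒜) → S
for its relative homogeneous spectrum (supplied together with its charts) and suppose p is
quasi-compact. Consider a closed immersion i : Z → P of finite presentation, and a quasi-compact
open U ⊆ S not meeting p(i(Z)). Then one can find an integer d > 0; a quasi-coherent finite type
O_S-module F together with ι : F → 𝒜 whose image lies in degree d over each affine open; a
quasi-coherent graded O_S-algebra ℬ and a graded homomorphism φ : 𝒜 → ℬ which, on every affine open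
W, is surjective with kernel equal to the ideal spanned by the image of F(W) — i.e. ℬ = 𝒜/F𝒜; a
relative Proj PB = Proj(ℬ) → S equipped with charts; the morphism h = Proj(φ) : PB → P, defined
everywhere; and an isomorphism e : PB ≅ Z whose composite with i is h. Furthermore, for each affine
open W contained in U, the image of F(W) exhausts 𝒜_d(W) (so 𝒜_d/F has support avoiding U). -/
theorem result {S P Z : Scheme.{u}}
    [CompactSpace S] [QuasiSeparatedSpace S] (𝒜 : RelProj.QCGrAlg S)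
    (hft : ∀ (W : S.Opens) (hW : IsAffineOpen W) (n : ℕ), ∃ s : Finset (𝒜.presheaf.obj (op W)),
      (↑s : Set (𝒜.presheaf.obj (op W))) ⊆ (𝒜.deg W hW n : AddSubgroup (𝒜.presheaf.obj (op W))) ∧
        ∀ x ∈ 𝒜.deg W hW n, ∃ c : (𝒜.presheaf.obj (op W)) → Γ(S, W),
          x = ∑ g ∈ s, (𝒜.str.app (op W)).hom (c g) * g)
    (p : P ⟶ S) (chart : ∀ (U : S.Opens) (hU : IsAffineOpen U), (((p ⁻¹ᵁ U : P.Opens) : Scheme.{u}) ≅ Proj (𝒜.deg U hU))) (hP : RelProj.IsRelProj 𝒜 p chart) [QuasiCompact p]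
    (i : Z ⟶ P) [IsClosedImmersion i] [LocallyOfFinitePresentation i]
    (U : S.Opens) (hUc : IsCompact (U : Set S)) (hUZ : Disjoint (U : Set S) (Set.range (i ≫ p).base)) :
    ∃ (d : ℕ) (_ : 0 < d) (F : S.Modules) (_ : Coh.IsQCoh F) (_ : CohB1.IsFT F) (ι : F ⟶ 𝒜.toModule)
      (_ : ∀ (W : S.Opens) (hW : IsAffineOpen W) (x : Γ(F, W)), (ι.app W) x ∈ 𝒜.deg W hW d)
      (ℬ : RelProj.QCGrAlg S) (φ : 𝒜.toQCAlg ⟶ ℬ.toQCAlg) (hφ : RelProj.IsGradedHom φ) (PB : Scheme.{u})
      (pB : PB ⟶ S) (chartB : ∀ (U : S.Opens) (hU : IsAffineOpen U), (((pB ⁻¹ᵁ U : PB.Opens) : Scheme.{u}) ≅ Proj (ℬ.deg U hU)))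
      (h : PB ⟶ P) (e : PB ≅ Z),
      (∀ (W : S.Opens), IsAffineOpen W → Function.Surjective (φ.hom.app (op W)).hom ∧
          RingHom.ker (φ.hom.app (op W)).hom = (Ideal.span (Set.range (ι.app W)) : Ideal (𝒜.presheaf.obj (op W)))) ∧
        RelProj.IsRelProj ℬ pB chartB ∧ RelProj.IsProjQMap (RelProj.QGrHom.ofHom φ hφ) p chart pB chartB h ∧
        e.hom ≫ i = h ∧
        ∀ (W : S.Opens) (hW : IsAffineOpen W), W ≤ U →
          ((𝒜.deg W hW d : AddSubgroup (𝒜.presheaf.obj (op W))) : Set (𝒜.presheaf.obj (op W))) ⊆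
            Set.range (fun x : Γ(F, W) => ((ι.app W) x : 𝒜.presheaf.obj (op W))) := by
  classical
  obtain ⟨A₀, hA₀⟩ := hUc.elim_finite_subcover (fun V : {V : S.affineOpens // V.1 ≤ U} => (V.1.1 : Set S))
    (fun V => V.1.1.2) fun x hx => by
      obtain ⟨V, hV, hxV, hVU⟩ := exists_isAffineOpen_mem_and_subset (x := x) (U := U) hx
      exact Set.mem_iUnion.2 ⟨⟨⟨V, hV⟩, hVU⟩, hxV⟩
  have heqs : ∀ (W : S.Opens) (hW : IsAffineOpen W), W ≤ U →
      GrothLib.RelProjSub10.eqsAt 𝒜 p chart i W hW = ⊤ := fun W hW hWU =>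
    GrothLib.RelProjSub10.eqsAt_eq_top 𝒜 p chart i hW (hUZ.mono_left hWU)
  choose s hs hspan using hft
  have hK := GrothLib.RelProjSub10.isCompat_eqs 𝒜 p chart i hP
  obtain ⟨d, hd, Q, hQ, hG, ℬ, φ, hφ, PB, pB, chartB, h, e, h1, h2, h3, h4⟩ :=
    GrothLib.RelProjSub10.exists_ft 𝒜 p chart i hP (J' := A₀) (fun k => k.1.1.1) (fun k => k.1.1.2)
      (fun d k => ↑(s k.1.1.1 k.1.1.2 d)) (fun _ _ => Finset.finite_toSet _)
      (fun d k a ha => ⟨hs _ _ d ha, by rw [heqs _ _ k.1.2]; trivial⟩)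
  haveI := GrothLib.RelProjSub10.isQuasicoherent_degData hK d
  let D := GrothLib.RelProjSub10.degData hK d
  have hdeg : ∀ (W : S.Opens) (hW : IsAffineOpen W) (x : Γ(D.obj, W)), (D.ι.app W) x ∈ 𝒜.deg W hW d :=
    fun W hW x => ((GrothLib.RelProjSub10.mem_degData_iff hK d hW _).1 (D.ι_app_mem x)).1
  refine ⟨d, hd, Q.obj, hQ.isQuasicoherent, hQ.isFiniteType, Q.ι ≫ _,
    fun W hW x => hdeg W hW (Q.ι.app W x), ℬ, φ, hφ, PB, pB, chartB, h, e, h1, h2, h3, h4, fun W hW hWU a ha => ?_⟩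
  have haD : (show Γ(𝒜.toModule, W) from a) ∈ D.sec W :=
    (GrothLib.RelProjSub10.mem_degData_iff hK d hW _).2 ⟨ha, by rw [heqs W hW hWU]; trivial⟩
  suffices hy : D.lift (U := W) a haD ∈ Q.sec W from ⟨Q.lift _ hy, rfl⟩
  refine Q.locality _ fun x hx => ?_
  obtain ⟨k, hk, hxk⟩ := Set.mem_iUnion₂.1 (hA₀ (hWU hx))
  obtain ⟨g, g', hgg, hxg⟩ := exists_basicOpen_le_affine_inter hW k.1.2 x ⟨hx, hxk⟩
  refine ⟨S.basicOpen g, homOfLE (S.basicOpen_le g), hxg, ?_⟩
  show GrothLib.QCoh.rr (S.basicOpen_le g) (D.lift (U := W) a haD) ∈ Q.sec (S.basicOpen g)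
  have key : ∀ (O : S.Opens), O = S.basicOpen g' → ∀ y : Γ(D.obj, O), y ∈ Q.sec O := by
    rintro O rfl y
    obtain ⟨n, z, hz⟩ := (GrothLib.QCoh.smulLift_and_smulSep_of_isAffineOpen k.1.2 D.obj g').1 y
    have hzQ : z ∈ Q.sec k.1.1 := by
      obtain ⟨c, hc⟩ := hspan k.1.1 k.1.2 d _ (hdeg k.1.1 k.1.2 z)
      have hmem : ∀ b ∈ s k.1.1 k.1.2 d, (show Γ(𝒜.toModule, k.1.1) from b) ∈ D.sec k.1.1 := fun b hb =>
        (GrothLib.RelProjSub10.mem_degData_iff hK d k.1.2 _).2 ⟨hs _ _ d hb, by rw [heqs _ _ k.2]; trivial⟩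
      have hz' : z = ∑ b ∈ (s k.1.1 k.1.2 d).attach, c b.1 • D.lift (U := k.1.1) b.1 (hmem b.1 b.2) := by
        refine D.ι_app_injective _ ?_
        rw [map_sum]
        refine hc.trans ?_
        rw [← Finset.sum_attach]
        exact Finset.sum_congr rfl fun b _ => by rw [Scheme.Modules.Hom.app_smul, D.ι_app_lift]; rfl
      rw [hz']
      exact Submodule.sum_mem _ fun b _ => Submodule.smul_mem _ _ (hG ⟨k, hk⟩ _ b.2)
    have hu : IsUnit ((S.presheaf.map (homOfLE (S.basicOpen_le g')).op).hom g' ^ n) :=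
      (RingedSpace.isUnit_res_basicOpen S.toRingedSpace g').pow _
    refine (Submodule.smul_mem_iff_of_isUnit _ hu).1 ?_
    have h5 := Q.map_mem (homOfLE (S.basicOpen_le g')) hzQ
    rw [hz] at h5
    exact h5
  exact key _ hgg _

end Groth.Agent.S12690
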