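import Groth.Statements.S12692
import Groth.Agent.Lib.RLpsi8.Sigma
import Groth.Agent.Lib.RelProjK.ProjProps

set_option autoImplicit false
universe u
open CategoryTheory CategoryTheory.Limits AlgebraicGeometry TopologicalSpace Opposite
open scoped HomogeneousIdeal
noncomputable section
open Coh

namespace Groth.Agent.S12692

/-- Let X be a quasi-compact scheme, L an invertible O_X-module with graded symmetric algebra 𝒮L =
⊕_{d≥0} L^{⊗d} (whose relative Proj PL, given with its charts, is identified with X by its structure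
morphism), f : X → Y a quasi-compact morphism to an AFFINE scheme Y, 𝒜 a quasi-coherent graded
O_Y-algebra given with a graded f-morphism u : 𝒜 → f_*𝒮L which is bijective on global sections — so
that Γ(Y, 𝒜) is the graded ring S = ⊕_d Γ(X, L^{⊗d}) and P = Proj(𝒜) (given with its charts) is
Proj(S) — and r : G(u) → P the canonical morphism on its open of definition G(u) ⊆ PL. If G(u) is
all of PL (that is, every point of X lies in an open X_s for some homogeneous s ∈ S_+), then r is
quasi-compact and has dense image. (The published statement forms the homogeneous spectrum of the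
graded ring S itself, with no base scheme; any affine Y under X gives the same graded ring, the same
homogeneous spectrum and the same morphism.) -/
theorem result {X Y P PL : Scheme.{u}} [CompactSpace X]
    (f : X ⟶ Y) [QuasiCompact f] (hY : IsAffineOpen (⊤ : Y.Opens))
    (L : X.Modules) (hL : PicF.IsInvertible L) (hLq : Coh.IsQCoh L)
    (𝒮L : RelProj.QCGrAlg X) (jL : L ⟶ 𝒮L.toModule) (hjL : RelProj.IsGrSymAlg L 𝒮L jL)
    (pL : PL ⟶ X) (chartL : ∀ (U : X.Opens) (hU : IsAffineOpen U), (((pL ⁻¹ᵁ U : PL.Opens) : Scheme.{u}) ≅ Proj (𝒮L.deg U hU)))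
    (hPL : RelProj.IsRelProj 𝒮L pL chartL)
    (𝒜 : RelProj.QCGrAlg Y) (u : RelProj.QGrHom f 𝒜 𝒮L)
    (p : P ⟶ Y) (chart : ∀ (U : Y.Opens) (hU : IsAffineOpen U), (((p ⁻¹ᵁ U : P.Opens) : Scheme.{u}) ≅ Proj (𝒜.deg U hU)))
    (hP : RelProj.IsRelProj 𝒜 p chart)
    (r : ((RelProj.domQ u pL chartL : PL.Opens) : Scheme.{u}) ⟶ P)
    (hr : RelProj.IsProjQMapOn u p chart pL chartL (RelProj.domQ u pL chartL) r)
    (hu : Function.Bijective (u.app ⊤).hom)
    (htop : RelProj.domQ u pL chartL = ⊤) :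
    QuasiCompact r ∧ IsDominant r := by
  haveI := GrothLib.RelProjK.isSeparated_of_isRelProj hP
  haveI := GrothLib.RLpsi8.isIso_relProj hLq hjL hPL hL
  haveI hιiso : IsIso (RelProj.domQ u pL chartL).ι := by rw [htop, ← Scheme.topIso_hom]; infer_instance
  refine ⟨?_, (GrothLib.RLpsi8.isDominant_iff hL hLq hjL u hP hPL hr (fun _ : PUnit.{u+1} => (⟨⊤, hY⟩ : Y.AffineZariskiSite))
    (fun y => ⟨⟨⟩, trivial⟩)).mpr ?_⟩
  · haveI : CompactSpace ((RelProj.domQ u pL chartL : PL.Opens) : Scheme.{u}) :=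
      (Scheme.Hom.homeomorph (CategoryTheory.inv ((RelProj.domQ u pL chartL).ι ≫ pL))).compactSpace
    haveI : IsAffine ((⊤ : Y.Opens) : Scheme.{u}) := hY
    haveI : IsAffine Y := .of_isIso Y.topIso.inv
    haveI : QuasiCompact (r ≫ p) := quasiCompact_of_compactSpace _
    exact QuasiCompact.of_comp r p
  · rintro ⟨⟩ n _ s hs hb
    let U : Y.AffineZariskiSite := ⟨⊤, hY⟩
    obtain ⟨M, hM⟩ := GrothLib.RLpsi8.exists_pow_mul_eq_zero hL hLq hjL u (U := U) hs le_rfl (f.isCompact_preimage hY.isCompact) 0 1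
      (fun t h => by rw [map_one]; exact SetLike.one_mem_graded _)
      (GrothLib.RLpsi8.ares_eq_of_cover (fun _ : PEmpty.{u+1} => (⊥ : X.Opens)) (fun i => i.elim)
        (fun x (hx : x ∈ f ⁻¹ᵁ U.1 ⊓ GrothLib.RLpsi8.XS u U n s) => absurd (hb.le hx.2) id) fun i => i.elim)
    refine ⟨M, ?_⟩
    have e : (u.appLE (⊤ : Y.Opens) (f ⁻¹ᵁ ⊤) le_rfl).hom = (u.app ⊤).hom := by
      have e' : u.appLE (⊤ : Y.Opens) (f ⁻¹ᵁ ⊤) le_rfl = u.app ⊤ := by
        rw [u.toQHom.appLE_eq, show (homOfLE (le_refl (f ⁻¹ᵁ (⊤ : Y.Opens)))).op = 𝟙 _ from rfl,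
          CategoryTheory.Functor.map_id, Category.comp_id]
      exact congrArg (fun k => k.hom) e'
    refine hu.1 ?_
    rw [map_pow, map_zero]
    have h := hM M le_rfl
    change ((u.appLE (⊤ : Y.Opens) (f ⁻¹ᵁ ⊤) le_rfl).hom s) ^ M * 1 = 0 at h
    rw [e, mul_one] at h
    exact h

end Groth.Agent.S12692
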