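import Groth.Agent.Lib.ArtFun.Basic
import Groth.Statements.S12708
-- import your own Groth.Agent.* helpers here

set_option autoImplicit false
universe u v
open CategoryTheory
open ArtFun

namespace Groth.Agent.S12708

/-- For Λ Noetherian with a finite map to a field k, A a local Λ-algebra whose residue field is k
(through a surjective Λ-algebra map A → k) and M an A-module, the length of M over Λ equals the
degree of k over the image of Λ times the length of M over A. The degree is written as the length of
k as a Λ-module, which is the same number; lengths are in ℕ∞. -/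
theorem result {Λ : Type u} {k : Type u} [CommRing Λ] [Field k] [Algebra Λ k]
    [IsNoetherianRing Λ] [Module.Finite Λ k]
    (A : Type u) [CommRing A] [Algebra Λ A] [IsLocalRing A] [Algebra A k] [IsScalarTower Λ A k]
    (hres : Function.Surjective (algebraMap A k))
    (M : Type v) [AddCommGroup M] [Module A M] [Module Λ M] [IsScalarTower Λ A M] :
    Module.length Λ k * Module.length A M = Module.length Λ M := by
  let m := IsLocalRing.maximalIdeal A
  have hk : ∀ a : A, algebraMap A k a = 0 ↔ a ∈ m := by
    intro a
    have hmax : (RingHom.ker (algebraMap A k)).IsMaximal := RingHom.ker_isMaximal_of_surjective _ hres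
    rw [show m = RingHom.ker (algebraMap A k) from (IsLocalRing.eq_maximalIdeal hmax).symm,
      RingHom.mem_ker]
  have hker : (Algebra.linearMap A k).ker = m := Ideal.ext fun a => hk a
  have hsimp : ∀ (N : Type v) [AddCommGroup N] [Module A N] [Module Λ N] [IsScalarTower Λ A N],
      IsSimpleModule A N → Module.length Λ N = Module.length Λ k := by
    intro N _ _ _ _ hN
    obtain ⟨I, hI, ⟨e⟩⟩ := isSimpleModule_iff_quot_maximal.mp hN
    rw [IsLocalRing.eq_maximalIdeal hI, show IsLocalRing.maximalIdeal A = m from rfl] at e
    let e' : (A ⧸ m) ≃ₗ[A] k := (Submodule.quotEquivOfEq _ _ hker.symm).trans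
      ((Algebra.linearMap A k).quotKerEquivOfSurjective hres)
    exact ((e.trans e').restrictScalars Λ).length_eq
  have h1 : 1 ≤ Module.length Λ k := Order.one_le_iff_pos.2 Module.length_pos
  by_cases h : IsFiniteLength A M
  · obtain ⟨s, hs_bot, hs_top⟩ := isFiniteLength_iff_exists_compositionSeries.mp h
    rw [← Module.length_compositionSeries s hs_bot hs_top]
    suffices ∀ i, Module.length Λ (s i) = Module.length Λ k * (i : ℕ) by
      rw [← Fin.val_last s.length, ← this, ← RelSeries.last, hs_top]
      exact ((Submodule.topEquiv : (⊤ : Submodule A M) ≃ₗ[A] M).restrictScalars Λ).length_eq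
    intro i
    induction i using Fin.induction with
    | zero =>
      rw [← RelSeries.head, hs_bot]
      simp
    | succ i hi =>
      have hle : s i.castSucc ≤ s i.succ := (s.step i).le
      let f : s i.castSucc →ₗ[A] s i.succ := Submodule.inclusion hle
      have key : IsSimpleModule A (s i.succ ⧸ f.range) := by
        rw [Submodule.range_inclusion, ← covBy_iff_quot_is_simple hle]
        exact s.step i
      rw [Module.length_eq_add_of_exact (f.restrictScalars Λ) (f.range.mkQ.restrictScalars Λ)
        (Submodule.inclusion_injective hle) (Submodule.mkQ_surjective _)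
        (LinearMap.exact_map_mkQ_range f), hi, hsimp _ key, Fin.val_succ, Fin.val_castSucc,
        Nat.cast_succ, mul_add, mul_one]
  · have hΛ : ¬ IsFiniteLength Λ M := by
      contrapose! h
      rw [isFiniteLength_iff_isNoetherian_isArtinian] at h ⊢
      exact h.imp (isNoetherian_of_tower Λ) (isArtinian_of_tower Λ)
    rw [← Module.length_ne_top_iff, not_ne_iff] at h hΛ
    rw [h, hΛ, ENat.mul_top (by intro h0; rw [h0] at h1; simp at h1)]

end Groth.Agent.S12708
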