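import Groth.Statements.S1272
import Groth.Agent.Lib.FlatBlow1.Chart
import Groth.Agent.Lib.BlowUp.Exists
-- import your own Groth.Agent.* helpers here

set_option autoImplicit false
universe u
open FlatMor

namespace Groth.Agent.S1272

open AlgebraicGeometry CategoryTheory Limits in
/-- Let S be a quasi-compact quasi-separated scheme, U ⊆ S a quasi-compact open, f : X → S locally of
finite presentation with X quasi-compact, and F a quasi-coherent O_X-module of finite type whose
restriction to f⁻¹U is of finite presentation and flat over S at every point over U. Then there are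
a finite type quasi-coherent ideal sheaf on S with support disjoint from U and a blow-up b : S' → S
of S in it (a U-admissible blow-up) such that, for the base change X' = X ×_S S' with projections
p₁, p₂ and any strict transform G of F along p₁ (the quotient of p₁^*F by the sections locally
killed by a power of the pulled-back exceptional ideal), G is an O_{X'}-module of finite
presentation and flat over S'. -/
theorem result {X S : Scheme.{u}} [CompactSpace S] [QuasiSeparatedSpace S] [CompactSpace X]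
    (f : X ⟶ S) [LocallyOfFinitePresentation f] (U : S.Opens) (hU : IsCompact (U : Set S))
    (F : X.Modules) (hqc : Coh.IsQCoh F) (hft : CohB1.IsFT F)
    (hfpU : CohB1.IsFP ((Scheme.Modules.pullback (f ⁻¹ᵁ U).ι).obj F))
    (hflU : ∀ x : X, f.base x ∈ U → FlatMod.IsFlatOverAt f F x) :
    ∃ (𝓘 : S.IdealSheafData) (S' : Scheme.{u}) (b : S' ⟶ S), BlowUp.IsBlowUp b 𝓘 ∧ BlowUp.IsAdmissibleFor U 𝓘 ∧
      ∀ (X' : Scheme.{u}) (p₁ : X' ⟶ X) (p₂ : X' ⟶ S'), IsPullback p₁ p₂ f b →
      ∀ (G : X'.Modules) (π : (Scheme.Modules.pullback p₁).obj F ⟶ G),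
        BlowUp.IsStrictTransform p₁ (𝓘.comap f) F G π → CohB1.IsFP G ∧ FlatMod.IsFlatOver p₂ G := by
  classical
  haveI : F.IsQuasicoherent := hqc
  have hloc : ∀ x : X, ∃ (W : S.affineOpens) (V : X.affineOpens), x ∈ V.1 ∧ V.1 ≤ f ⁻¹ᵁ W.1 := fun x => by
    obtain ⟨W, hW, hxW, -⟩ := exists_isAffineOpen_mem_and_subset (show f.base x ∈ (⊤ : S.Opens) from trivial)
    obtain ⟨V, hV, hxV, hVW⟩ := exists_isAffineOpen_mem_and_subset (show x ∈ f ⁻¹ᵁ W from hxW)
    exact ⟨⟨W, hW⟩, ⟨V, hV⟩, hxV, hVW⟩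
  choose W V hxV hVW using hloc
  obtain ⟨t, ht⟩ := isCompact_univ.elim_finite_subcover (fun x : X => ((V x).1 : Set X)) (fun x => (V x).1.2)
    fun x _ => Set.mem_iUnion.2 ⟨x, hxV x⟩
  choose J hJ hJchart using fun k : t =>
    GrothLib.FlatBlow1.exists_ideal_flat_chart f U hU F hft hfpU hflU (W k.1) (V k.1) (hVW k.1)
  let P : S.IdealSheafData := ∏ k, J k
  have hP : BlowUp.IsAdmissibleFor U P := by
    refine Finset.prod_induction J (BlowUp.IsAdmissibleFor U) (fun A B hA hB => ⟨fun V => ?_, ?_⟩) ?_ fun k _ => hJ k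
    · rw [Scheme.IdealSheafData.ideal_mul, Pi.mul_apply]
      exact (hA.1 V).mul (hB.1 V)
    · rw [Scheme.IdealSheafData.support_mul, TopologicalSpace.Closeds.coe_sup]
      exact Set.disjoint_union_left.2 ⟨hA.2, hB.2⟩
    · refine ⟨fun V => ⟨{1}, by simp⟩, ?_⟩
      simp
  obtain ⟨S', b, hb⟩ := GrothLib.BlowUp.exists_isBlowUp S P
  refine ⟨P, S', b, hb, hP, fun X' p₁ p₂ sq G π hG => ?_⟩
  have key : ∀ x' : X', ∃ O : X'.affineOpens, x' ∈ O.1 ∧ Module.FinitePresentation Γ(X', O.1) Γ(G, O.1) ∧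
      FlatMod.IsFlatOverAt p₂ G x' := fun x' => by
    obtain ⟨x, hxt, hx⟩ := Set.mem_iUnion₂.1 (ht (Set.mem_univ (p₁ x')))
    let k : t := ⟨x, hxt⟩
    have hsplit : P.ideal (W k.1) = (J k).ideal (W k.1) * (∏ i ∈ Finset.univ.erase k, J i).ideal (W k.1) := by
      rw [← Pi.mul_apply, ← Scheme.IdealSheafData.ideal_mul, Finset.mul_prod_erase _ _ (Finset.mem_univ k)]
    exact hJchart k P _ hsplit b p₁ p₂ sq hb.1 G π hG x' hx
  choose O hxO hfp hfl using key
  refine ⟨?_, hfl⟩
  have hE : GrothLib.StrictTr.PrincipalCover ((P.comap f).comap p₁) := by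
    rw [← Scheme.IdealSheafData.comap_comp, sq.w, Scheme.IdealSheafData.comap_comp]
    exact GrothLib.StrictTr.principalCover_comap (GrothLib.StrictTr.principalCover_of_isEffCartier hb.1) p₂
  haveI := GrothLib.StrictTr.isQuasicoherent' hE hG
  refine GrothLib.FlatFP.isFP_of_sections G (fun x' => (O x').1) ?_ (fun x' => (O x').2) hfp
  rw [TopologicalSpace.IsOpenCover, eq_top_iff]
  intro x' _
  exact TopologicalSpace.Opens.mem_iSup.2 ⟨x', hxO x'⟩

end Groth.Agent.S1272
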