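import Groth.Agent.Lib.ArtFun.SmoothFun
import Groth.Statements.S12721
-- import your own Groth.Agent.* helpers here

set_option autoImplicit false
universe u v
open CategoryTheory
open ArtFun

namespace Groth.Agent.S12721

/-- (1) ⇔ (2): for R a complete local Noetherian Λ-algebra with residue field k, the functor h_R on
Artinian local Λ-algebras with residue field k is smooth (surjective along every surjection) if and
only if Λ → R is formally smooth for the m_R-adic topology. -/
theorem result {Λ : Type u} {k : Type u} [CommRing Λ] [Field k] [Algebra Λ k]
    [IsNoetherianRing Λ] [Module.Finite Λ k]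
    (R : ArtFun.CRing Λ k) :
    ArtFun.IsSmoothFunctor (ArtFun.hR R.carrier R.res) ↔
      CAlgX.IsAdicFormallySmooth Λ R.carrier (IsLocalRing.maximalIdeal R.carrier) := by
  exact ⟨GrothLib.ArtFun.adicFormallySmooth_of_isSmoothFunctor R, GrothLib.ArtFun.isSmoothFunctor_of_adicFormallySmooth R⟩

end Groth.Agent.S12721
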