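import Groth.Agent.Lib.ArtFun.Criteria
import Groth.Statements.S12731
-- import your own Groth.Agent.* helpers here

set_option autoImplicit false
universe u v
open CategoryTheory
open ArtFun

namespace Groth.Agent.S12731

/-- For functors, if a functor F on Artinian local Λ-algebras with residue field k with F(k) a point has
a versal family over a complete local Noetherian ring with residue field k which is bijective on
tangent spaces (a hull), then F satisfies (S1) and (S2) and has finite-dimensional tangent space. -/
theorem result {Λ : Type u} {k : Type u} [CommRing Λ] [Field k] [Algebra Λ k]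
    [IsNoetherianRing Λ] [Module.Finite Λ k]
    (F : ArtFun.Art Λ k ⥤ Type v) [ArtFun.TangentStr F] (h0 : ArtFun.H0 F) (h : ArtFun.HasHull F) :
    ArtFun.S1 F ∧ ArtFun.Heps F ∧ ArtFun.Hfin F := by
  exact GrothLib.ArtFun.s1_heps_hfin_of_hasHull h0 h

end Groth.Agent.S12731
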