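import Groth.Agent.Lib.ArtFun.Prorep
import Groth.Statements.S12735
-- import your own Groth.Agent.* helpers here

set_option autoImplicit false
universe u v
open CategoryTheory
open ArtFun

namespace Groth.Agent.S12735

/-- Let U be a prorepresentable functor on Artinian local Λ-algebras with residue field k and φ : U → U
an endomorphism of functors which is bijective on the tangent space U(k[ε]). Then φ is an
isomorphism: every component is bijective. -/
theorem result {Λ : Type u} {k : Type u} [CommRing Λ] [Field k] [Algebra Λ k]
    [IsNoetherianRing Λ] [Module.Finite Λ k]
    {U : ArtFun.Art Λ k ⥤ Type v} (hU : ArtFun.IsProrepresentable U)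
    (φ : U ⟶ U) (hd : Function.Bijective (ArtFun.TangentSpace.map φ)) (A : ArtFun.Art Λ k) :
    Function.Bijective (φ.app A) := by
  exact GrothLib.ArtFun.bijective_endo hU φ hd A

end Groth.Agent.S12735
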