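import Groth.Agent.Lib.ArtFun.Constructions
import Groth.Statements.S12740
-- import your own Groth.Agent.* helpers here

set_option autoImplicit false
universe u v
open CategoryTheory
open ArtFun ArtFun.CRing

namespace Groth.Agent.S12740

/-- The category of complete local Noetherian Λ-algebras with residue field k (Λ Noetherian, Λ → k
finite; morphisms the Λ-algebra maps compatible with the augmentations) admits pushouts: for R → S₁
and R → S₂ there is an object P with morphisms from S₁ and S₂ agreeing on R, through which every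
compatible pair S₁ → T ← S₂ agreeing on R factors by a unique morphism P → T. -/
theorem result {Λ : Type u} {k : Type u} [CommRing Λ] [Field k] [Algebra Λ k]
    [IsNoetherianRing Λ] [Module.Finite Λ k]
    (R S₁ S₂ : ArtFun.CRing Λ k)
    (f₁ : R.carrier →ₐ[Λ] S₁.carrier) (hf₁ : S₁.res.comp f₁ = R.res)
    (f₂ : R.carrier →ₐ[Λ] S₂.carrier) (hf₂ : S₂.res.comp f₂ = R.res) :
    ∃ (P : ArtFun.CRing Λ k) (i₁ : S₁.carrier →ₐ[Λ] P.carrier) (i₂ : S₂.carrier →ₐ[Λ] P.carrier),
      P.res.comp i₁ = S₁.res ∧ P.res.comp i₂ = S₂.res ∧ i₁.comp f₁ = i₂.comp f₂ ∧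
      ∀ (T : ArtFun.CRing Λ k) (g₁ : S₁.carrier →ₐ[Λ] T.carrier) (g₂ : S₂.carrier →ₐ[Λ] T.carrier),
        T.res.comp g₁ = S₁.res → T.res.comp g₂ = S₂.res → g₁.comp f₁ = g₂.comp f₂ →
          ∃! h : P.carrier →ₐ[Λ] T.carrier, T.res.comp h = P.res ∧ h.comp i₁ = g₁ ∧ h.comp i₂ = g₂ := by
  exact GrothLib.ArtFun.exists_pushout R S₁ S₂ f₁ hf₁ f₂ hf₂

end Groth.Agent.S12740
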