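import Groth.Agent.Lib.ArtFun.Torsor
import Groth.Statements.S12742
-- import your own Groth.Agent.* helpers here

set_option autoImplicit false
universe u v
open CategoryTheory
open ArtFun

namespace Groth.Agent.S12742

/-- For functors, a morphism f : F → G of deformation functors on Artinian local Λ-algebras with residue
field k (values at k a point, condition (RS) for both) is smooth if and only if (1) it is surjective
on tangent spaces and (2) for every small extension A' → A and every x ∈ F(A) whose image in G(A)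
lifts to G(A'), x lifts to F(A'). -/
theorem result {Λ : Type u} {k : Type u} [CommRing Λ] [Field k] [Algebra Λ k]
    [IsNoetherianRing Λ] [Module.Finite Λ k]
    {F G : ArtFun.Art Λ k ⥤ Type v}
    (hF0 : ArtFun.H0 F) (hF : (∀ ⦃B A A' A'' : ArtFun.Art Λ k⦄ (p' : B ⟶ A') (p'' : B ⟶ A'') (f' : A' ⟶ A) (f'' : A'' ⟶ A)
        (h : ArtFun.Art.IsFibreProd p' p'' f' f''), Function.Surjective f'' → Function.Bijective (ArtFun.cmp F h)))
    (hG0 : ArtFun.H0 G) (hG : (∀ ⦃B A A' A'' : ArtFun.Art Λ k⦄ (p' : B ⟶ A') (p'' : B ⟶ A'') (f' : A' ⟶ A) (f'' : A'' ⟶ A)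
        (h : ArtFun.Art.IsFibreProd p' p'' f' f''), Function.Surjective f'' → Function.Bijective (ArtFun.cmp G h)))
    (f : F ⟶ G) :
    ArtFun.IsSmooth f ↔
      (Function.Surjective (ArtFun.TangentSpace.map f) ∧
        ∀ ⦃A' A : ArtFun.Art Λ k⦄ (μ : A' ⟶ A), ArtFun.Art.IsSmallExt μ → ∀ x : F.obj A,
          (∃ y' : G.obj A', G.map μ y' = f.app A x) → ∃ x' : F.obj A', F.map μ x' = x) := by
  have hFe : Heps F := fun _ _ p' p'' h => hF p' p'' _ _ h (GrothLib.ArtFun.toBase_surjective _)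
  have hGe : Heps G := fun _ _ p' p'' h => hG p' p'' _ _ h (GrothLib.ArtFun.toBase_surjective _)
  have hGb : Hbar G := fun _ _ _ _ p' p'' f' f'' h hs => (hG p' p'' f' f'' h hs.1).2
  constructor
  · intro hf
    refine ⟨GrothLib.ArtFun.surjective_app_of_isSmooth f hf
      (GrothLib.ArtFun.surjective_app_base_of_h0 f hF0 hG0) _, fun A' A μ hμ x ⟨y, hy⟩ => ?_⟩
    obtain ⟨z, hz, -⟩ := (GrothLib.ArtFun.isSmooth_iff f).1 hf μ hμ.1 x y hy.symm
    exact ⟨z, hz⟩
  · rintro ⟨ht, hl⟩
    exact GrothLib.ArtFun.isSmooth_of_tangent_surjective hF0 hFe hGb hGe f ht hl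

end Groth.Agent.S12742
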