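import Groth.Agent.Lib.ArtFun.Torsor
import Groth.Statements.S12743
-- import your own Groth.Agent.* helpers here

set_option autoImplicit false
universe u v
open CategoryTheory
open ArtFun

namespace Groth.Agent.S12743

/-- For functors, let φ : F → G and ψ : G → H be morphisms of functors on Artinian local Λ-algebras with
residue field k, with F and G deformation functors (values at k a point, condition (RS)). If φ is
surjective on tangent spaces and the composite F → H is smooth, then φ is smooth. -/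
theorem result {Λ : Type u} {k : Type u} [CommRing Λ] [Field k] [Algebra Λ k]
    [IsNoetherianRing Λ] [Module.Finite Λ k]
    {F G H : ArtFun.Art Λ k ⥤ Type v}
    (hF0 : ArtFun.H0 F) (hF : (∀ ⦃B A A' A'' : ArtFun.Art Λ k⦄ (p' : B ⟶ A') (p'' : B ⟶ A'') (f' : A' ⟶ A) (f'' : A'' ⟶ A)
        (h : ArtFun.Art.IsFibreProd p' p'' f' f''), Function.Surjective f'' → Function.Bijective (ArtFun.cmp F h)))
    (hG0 : ArtFun.H0 G) (hG : (∀ ⦃B A A' A'' : ArtFun.Art Λ k⦄ (p' : B ⟶ A') (p'' : B ⟶ A'') (f' : A' ⟶ A) (f'' : A'' ⟶ A)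
        (h : ArtFun.Art.IsFibreProd p' p'' f' f''), Function.Surjective f'' → Function.Bijective (ArtFun.cmp G h)))
    (φ : F ⟶ G) (ψ : G ⟶ H) (hd : Function.Surjective (ArtFun.TangentSpace.map φ))
    (hs : ArtFun.IsSmooth (φ ≫ ψ)) : ArtFun.IsSmooth φ := by
  refine GrothLib.ArtFun.isSmooth_of_tangent_surjective hF0
    (fun _ _ p' p'' h => hF p' p'' _ _ h (GrothLib.ArtFun.toBase_surjective _))
    (fun _ _ _ _ p' p'' f' f'' h hs => (hG p' p'' f' f'' h hs.1).2)
    (fun _ _ p' p'' h => hG p' p'' _ _ h (GrothLib.ArtFun.toBase_surjective _)) φ hd ?_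
  intro B A μ hμ x ⟨y, hy⟩
  obtain ⟨z, hz, -⟩ := (GrothLib.ArtFun.isSmooth_iff (φ ≫ ψ)).1 hs μ hμ.1 x (ψ.app B y)
    (by rw [← GrothLib.ArtFun.naturality', hy]; rfl)
  exact ⟨z, hz⟩

end Groth.Agent.S12743
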