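import Groth.Agent.Lib.ArtFun.Formal
import Groth.Statements.S12744
-- import your own Groth.Agent.* helpers here

set_option autoImplicit false
universe u v
open CategoryTheory
open ArtFun

namespace Groth.Agent.S12744

/-- For functors, if η : F → G is a smooth morphism of functors on Artinian local Λ-algebras with
residue field k and F(k) → G(k) is surjective, then for every complete local Noetherian R with
residue field k the induced map on formal elements over R (compatible systems of elements over the
truncations R/m^(n+1)) is surjective. -/
theorem result {Λ : Type u} {k : Type u} [CommRing Λ] [Field k] [Algebra Λ k]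
    [IsNoetherianRing Λ] [Module.Finite Λ k]
    {F G : ArtFun.Art Λ k ⥤ Type v} (η : F ⟶ G) (hη : ArtFun.IsSmooth η)
    (h0 : Function.Surjective (η.app (ArtFun.Art.base Λ k))) (R : ArtFun.CRing Λ k) :
    Function.Surjective (fun u : ArtFun.FormalElt F R => u.map η) := by
  exact GrothLib.ArtFun.formalElt_map_surjective η hη h0 R

end Groth.Agent.S12744
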