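import Groth.Agent.Lib.ArtFun.Limits
import Groth.Statements.S12746
-- import your own Groth.Agent.* helpers here

set_option autoImplicit false
universe u v
open CategoryTheory
open ArtFun

namespace Groth.Agent.S12746

/-- For functors, if F, G, H are functors on Artinian local Λ-algebras with residue field k satisfying
(RS) and f : H → F, g : G → F are morphisms, then the fibre product functor H ×_F G satisfies (RS). -/
theorem result {Λ : Type u} {k : Type u} [CommRing Λ] [Field k] [Algebra Λ k]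
    [IsNoetherianRing Λ] [Module.Finite Λ k]
    {F G H : ArtFun.Art Λ k ⥤ Type v} (f : H ⟶ F) (g : G ⟶ F)
    (hF : (∀ ⦃B A A' A'' : ArtFun.Art Λ k⦄ (p' : B ⟶ A') (p'' : B ⟶ A'') (f' : A' ⟶ A) (f'' : A'' ⟶ A)
        (h : ArtFun.Art.IsFibreProd p' p'' f' f''), Function.Surjective f'' → Function.Bijective (ArtFun.cmp F h))) (hG : (∀ ⦃B A A' A'' : ArtFun.Art Λ k⦄ (p' : B ⟶ A') (p'' : B ⟶ A'') (f' : A' ⟶ A) (f'' : A'' ⟶ A)
        (h : ArtFun.Art.IsFibreProd p' p'' f' f''), Function.Surjective f'' → Function.Bijective (ArtFun.cmp G h))) (hH : (∀ ⦃B A A' A'' : ArtFun.Art Λ k⦄ (p' : B ⟶ A') (p'' : B ⟶ A'') (f' : A' ⟶ A) (f'' : A'' ⟶ A)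
        (h : ArtFun.Art.IsFibreProd p' p'' f' f''), Function.Surjective f'' → Function.Bijective (ArtFun.cmp H h))) :
    (∀ ⦃B A A' A'' : ArtFun.Art Λ k⦄ (p' : B ⟶ A') (p'' : B ⟶ A'') (f' : A' ⟶ A) (f'' : A'' ⟶ A)
        (h : ArtFun.Art.IsFibreProd p' p'' f' f''), Function.Surjective f'' → Function.Bijective (ArtFun.cmp (CategoryTheory.Limits.pullback f g) h)) := by
  intro B A A' A'' p' p'' f' f'' h hf
  constructor
  · intro x y e
    have e₁ := congrArg (fun t => t.1.1) e
    have e₂ := congrArg (fun t => t.1.2) e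
    refine GrothLib.ArtFun.pullback_ext f g
      (GrothLib.ArtFun.eq_of_cmp_injective (hH p' p'' f' f'' h hf).1 ?_ ?_)
      (GrothLib.ArtFun.eq_of_cmp_injective (hG p' p'' f' f'' h hf).1 ?_ ?_)
    all_goals rw [← GrothLib.ArtFun.naturality', ← GrothLib.ArtFun.naturality']
    · exact congrArg _ e₁
    · exact congrArg _ e₂
    · exact congrArg _ e₁
    · exact congrArg _ e₂
  · rw [GrothLib.ArtFun.cmp_surjective_iff]
    intro x y hxy
    obtain ⟨a, ha₁, ha₂⟩ := GrothLib.ArtFun.exists_of_cmp_surjective (hH p' p'' f' f'' h hf).2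
      ((Limits.pullback.fst f g).app A' x) ((Limits.pullback.fst f g).app A'' y)
      (by rw [← GrothLib.ArtFun.naturality', hxy, GrothLib.ArtFun.naturality'])
    obtain ⟨b, hb₁, hb₂⟩ := GrothLib.ArtFun.exists_of_cmp_surjective (hG p' p'' f' f'' h hf).2
      ((Limits.pullback.snd f g).app A' x) ((Limits.pullback.snd f g).app A'' y)
      (by rw [← GrothLib.ArtFun.naturality', hxy, GrothLib.ArtFun.naturality'])
    obtain ⟨z, hz₁, hz₂⟩ := GrothLib.ArtFun.pullback_exists f g a b
      (GrothLib.ArtFun.eq_of_cmp_injective (hF p' p'' f' f'' h hf).1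
        (by rw [← GrothLib.ArtFun.naturality', ← GrothLib.ArtFun.naturality', ha₁, hb₁,
          GrothLib.ArtFun.pullback_condition_apply])
        (by rw [← GrothLib.ArtFun.naturality', ← GrothLib.ArtFun.naturality', ha₂, hb₂,
          GrothLib.ArtFun.pullback_condition_apply]))
    exact ⟨z,
      GrothLib.ArtFun.pullback_ext f g (by rw [GrothLib.ArtFun.naturality', hz₁, ha₁])
        (by rw [GrothLib.ArtFun.naturality', hz₂, hb₁]),
      GrothLib.ArtFun.pullback_ext f g (by rw [GrothLib.ArtFun.naturality', hz₁, ha₂])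
        (by rw [GrothLib.ArtFun.naturality', hz₂, hb₂])⟩

end Groth.Agent.S12746
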