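import Groth.Agent.Lib.ArtFun.Limits
import Groth.Agent.Lib.ArtFun.Torsor
import Groth.Statements.S12747
-- import your own Groth.Agent.* helpers here

set_option autoImplicit false
universe u v
open CategoryTheory
open ArtFun

namespace Groth.Agent.S12747

/-- For functors, let H₁ → G, H₂ → G and q : G → F be morphisms of functors on Artinian local Λ-algebras
with residue field k where F and G are deformation functors (value at k a point, condition (RS)) and
q is injective on tangent spaces. Then the induced morphism H₁ ×_G H₂ → H₁ ×_F H₂ is smooth. (The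
published statement also assumes that infinitesimal automorphisms of G map onto those of F; for
functors that condition is empty.) -/
theorem result {Λ : Type u} {k : Type u} [CommRing Λ] [Field k] [Algebra Λ k]
    [IsNoetherianRing Λ] [Module.Finite Λ k]
    {F G H₁ H₂ : ArtFun.Art Λ k ⥤ Type v} (p₁ : H₁ ⟶ G) (p₂ : H₂ ⟶ G) (q : G ⟶ F)
    (hF0 : ArtFun.H0 F) (hF : (∀ ⦃B A A' A'' : ArtFun.Art Λ k⦄ (p' : B ⟶ A') (p'' : B ⟶ A'') (f' : A' ⟶ A) (f'' : A'' ⟶ A)
        (h : ArtFun.Art.IsFibreProd p' p'' f' f''), Function.Surjective f'' → Function.Bijective (ArtFun.cmp F h)))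
    (hG0 : ArtFun.H0 G) (hG : (∀ ⦃B A A' A'' : ArtFun.Art Λ k⦄ (p' : B ⟶ A') (p'' : B ⟶ A'') (f' : A' ⟶ A) (f'' : A'' ⟶ A)
        (h : ArtFun.Art.IsFibreProd p' p'' f' f''), Function.Surjective f'' → Function.Bijective (ArtFun.cmp G h)))
    (hq : Function.Injective (ArtFun.TangentSpace.map q)) :
    ArtFun.IsSmooth (CategoryTheory.Limits.pullback.map p₁ p₂ (p₁ ≫ q) (p₂ ≫ q) (𝟙 H₁) (𝟙 H₂) q
      (CategoryTheory.Category.id_comp _).symm (CategoryTheory.Category.id_comp _).symm) := by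
  have hGb : Hbar G := fun _ _ _ _ p' p'' f' f'' h hs => (hG p' p'' f' f'' h hs.1).2
  have hGe : Heps G := fun _ _ p' p'' h => hG p' p'' _ _ h (GrothLib.ArtFun.toBase_surjective _)
  have hFs : HSq F := fun _ _ _ a b c h hs => hF a b c c h hs.1
  rw [GrothLib.ArtFun.isSmooth_iff]
  intro B A μ hμ x y hxy
  have hq' := GrothLib.ArtFun.injective_app_of_tangent_injective hG0 hGb hGe hF0 hFs q hq
  obtain ⟨z, hz₁, hz₂⟩ := GrothLib.ArtFun.pullback_exists p₁ p₂
    ((Limits.pullback.fst (p₁ ≫ q) (p₂ ≫ q)).app B y)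
    ((Limits.pullback.snd (p₁ ≫ q) (p₂ ≫ q)).app B y)
    (hq' B (GrothLib.ArtFun.pullback_condition_apply (p₁ ≫ q) (p₂ ≫ q) y))
  let m := Limits.pullback.map p₁ p₂ (p₁ ≫ q) (p₂ ≫ q) (𝟙 H₁) (𝟙 H₂) q
    (CategoryTheory.Category.id_comp _).symm (CategoryTheory.Category.id_comp _).symm
  have hm₁ : ∀ C w, (Limits.pullback.fst (p₁ ≫ q) (p₂ ≫ q)).app C (m.app C w) =
      (Limits.pullback.fst p₁ p₂).app C w := fun C w =>
    congrArg (fun η : Limits.pullback p₁ p₂ ⟶ H₁ => η.app C w)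
      ((Limits.pullback.lift_fst _ _ _).trans (Category.comp_id _) :
        m ≫ Limits.pullback.fst (p₁ ≫ q) (p₂ ≫ q) = Limits.pullback.fst p₁ p₂)
  have hm₂ : ∀ C w, (Limits.pullback.snd (p₁ ≫ q) (p₂ ≫ q)).app C (m.app C w) =
      (Limits.pullback.snd p₁ p₂).app C w := fun C w =>
    congrArg (fun η : Limits.pullback p₁ p₂ ⟶ H₂ => η.app C w)
      ((Limits.pullback.lift_snd _ _ _).trans (Category.comp_id _) :
        m ≫ Limits.pullback.snd (p₁ ≫ q) (p₂ ≫ q) = Limits.pullback.snd p₁ p₂)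
  refine ⟨z, GrothLib.ArtFun.pullback_ext p₁ p₂ ?_ ?_, GrothLib.ArtFun.pullback_ext _ _ ?_ ?_⟩
  · rw [GrothLib.ArtFun.naturality', hz₁, ← GrothLib.ArtFun.naturality', ← hxy, hm₁]
  · rw [GrothLib.ArtFun.naturality', hz₂, ← GrothLib.ArtFun.naturality', ← hxy, hm₂]
  · rw [hm₁, hz₁]
  · rw [hm₂, hz₂]

end Groth.Agent.S12747
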