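import Groth.Agent.Lib.ArtFun.Split
import Groth.Statements.S12748
-- import your own Groth.Agent.* helpers here

set_option autoImplicit false
universe u v
open CategoryTheory
open ArtFun ArtFun.CRing

namespace Groth.Agent.S12748

/-- Let R' → R be a morphism of complete local Noetherian Λ-algebras with residue field k with an
R'-algebra retraction ρ : R → R', so that R = R' ⊕ I for the ideal I = ker ρ; let x₁, …, x_r ∈ I map
to a basis of I/m_R I and let φ : R'[[X₁, …, X_r]] → R be an R'-algebra map sending X_i to x_i. If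
for all large n the induced map R'[[X]]/m^n → R/m_R^n has a left inverse — a Λ-algebra map g_n : R →
R'[[X]]/m^n with g_n ∘ φ equal to the quotient map — then φ is an isomorphism. -/
theorem result {Λ : Type u} {k : Type u} [CommRing Λ] [Field k] [Algebra Λ k]
    [IsNoetherianRing Λ] [Module.Finite Λ k]
    (R' R : ArtFun.CRing Λ k) [Algebra R'.carrier R.carrier] [IsScalarTower Λ R'.carrier R.carrier]
    (hc : R.res.comp (IsScalarTower.toAlgHom Λ R'.carrier R.carrier) = R'.res)
    (ρ : R.carrier →ₐ[R'.carrier] R'.carrier)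
    (r : ℕ) (x : Fin r → R.carrier) (hxI : ∀ i, ρ (x i) = 0)
    (hspan : Ideal.span (Set.range x) ⊔ IsLocalRing.maximalIdeal R.carrier * RingHom.ker ρ = RingHom.ker ρ)
    (hli : ∀ c : Fin r → R.carrier, (∑ i, c i * x i) ∈ IsLocalRing.maximalIdeal R.carrier * RingHom.ker ρ →
      ∀ i, c i ∈ IsLocalRing.maximalIdeal R.carrier)
    (φ : MvPowerSeries (Fin r) R'.carrier →ₐ[R'.carrier] R.carrier) (hφ : ∀ i, φ (MvPowerSeries.X i) = x i)
    (hinv : ∃ N : ℕ, ∀ n, N ≤ n →
      ∃ g : R.carrier →ₐ[Λ] (MvPowerSeries (Fin r) R'.carrier ⧸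
          IsLocalRing.maximalIdeal (MvPowerSeries (Fin r) R'.carrier) ^ n),
        ∀ s, g (φ s) = Ideal.Quotient.mk _ s) :
    Function.Bijective φ := by
  obtain ⟨N, hN⟩ := hinv
  exact GrothLib.ArtFun.bijective_of_retraction R' R hc ρ x hxI hspan φ hφ
    ⟨N, fun n hn => ⟨_, (hN n hn).choose_spec⟩⟩

end Groth.Agent.S12748
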