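import Groth.Agent.Lib.ArtFun.Minimal
import Groth.Statements.S12749
-- import your own Groth.Agent.* helpers here

set_option autoImplicit false
universe u v
open CategoryTheory
open ArtFun

namespace Groth.Agent.S12749

/-- For functors, suppose k admits no nonzero Λ-derivation into itself (that is, k is separable over the
image of Λ in k). Let F be a functor on Artinian local Λ-algebras with residue field k with F(k) a
point which satisfies (S2), and let ξ be a minimal versal family of F over a complete local
Noetherian R with residue field k: ξ is versal, and every morphism of such coefficient rings R' → R
along which some formal element of F over R' pushes forward to the formal element of ξ is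
surjective. Then ξ is a hull of F: it is moreover bijective on tangent spaces. (The published
statement, for arbitrary k, concludes that the tangent map of the minimal versal family is bijective
on orbits under the Λ-derivations of k; when k has no nonzero Λ-derivation into itself the orbits
are points and this is plain bijectivity, which is the case stated here.) -/
theorem result {Λ : Type u} {k : Type u} [CommRing Λ] [Field k] [Algebra Λ k]
    [IsNoetherianRing Λ] [Module.Finite Λ k]
    (hk : Subsingleton (Derivation Λ k k))
    {F : ArtFun.Art Λ k ⥤ Type v} (h0 : ArtFun.H0 F) (h2 : ArtFun.Heps F)
    {R : ArtFun.CRing Λ k} (ξ : ArtFun.Family R.carrier R.res F) (hξ : ξ.IsMinimalVersal) :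
    ArtFun.IsMiniversal ξ := by
  haveI := GrothLib.ArtFun.isSeparable_of_subsingleton_derivation hk
  exact GrothLib.ArtFun.isMiniversal_of_isMinimalVersal GrothLib.ArtFun.simpleRoots_of_isSeparable h0 h2 ξ hξ

end Groth.Agent.S12749
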