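import Groth.Agent.Lib.ArtFun.Essential
import Groth.Statements.S12752
-- import your own Groth.Agent.* helpers here

set_option autoImplicit false
universe u v
open CategoryTheory
open scoped TensorProduct
open ArtFun ArtFun.Art

namespace Groth.Agent.S12752

/-- (a) ⇔ (c): a morphism f : B → A in the category of Artinian local Λ-algebras with residue field k is
an essential surjection (surjective, and any morphism g into B with g followed by f surjective is
surjective) if and only if the map Ω_{B/Λ} ⊗_B k → Ω_{A/Λ} ⊗_A k is an isomorphism of k-vector
spaces. These spaces are finite-dimensional, so the isomorphism condition is written as: the map is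
surjective (that is, Ω_{A/B} ⊗_A k = 0) and the two spaces have equal dimension. -/
theorem result {Λ : Type u} {k : Type u} [CommRing Λ] [Field k] [Algebra Λ k]
    [IsNoetherianRing Λ] [Module.Finite Λ k]
    {A B : ArtFun.Art Λ k} (f : B ⟶ A) :
    letI : Algebra B A := f.toAlgHom.toRingHom.toAlgebra
    letI : Algebra A k := A.res.toRingHom.toAlgebra
    letI : Algebra B k := B.res.toRingHom.toAlgebra
    (Function.Surjective f ∧ ∀ (C : ArtFun.Art Λ k) (g : C ⟶ B), Function.Surjective (g ≫ f) → Function.Surjective g) ↔
      (Subsingleton (k ⊗[A] Ω[A⁄B]) ∧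
        Module.finrank k (k ⊗[B] Ω[B⁄Λ]) = Module.finrank k (k ⊗[A] Ω[A⁄Λ])) := by
  exact GrothLib.ArtFun.essential_iff_kaehler f

end Groth.Agent.S12752
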