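import Groth.Agent.Lib.ArtFun.Essential
import Groth.Statements.S12753
-- import your own Groth.Agent.* helpers here

set_option autoImplicit false
universe u v
open CategoryTheory
open ArtFun ArtFun.Art

namespace Groth.Agent.S12753

/-- Suppose k is separable over the image of Λ → k. A morphism f : B → A in the category of Artinian
local Λ-algebras with residue field k is an essential surjection (surjective, and any morphism g
into B with g followed by f surjective is surjective) if and only if the map of cotangent spaces
relative to Λ, m_B/(m_Λ B + m_B²) → m_A/(m_Λ A + m_A²), is an isomorphism; surjectivity and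
injectivity are written out in terms of ideals, m_Λ being the kernel of Λ → k. -/
theorem result {Λ : Type u} {k : Type u} [CommRing Λ] [Field k] [Algebra Λ k]
    [IsNoetherianRing Λ] [Module.Finite Λ k]
    [Algebra.IsSeparable (↥(algebraMap Λ k).range) k]
    {A B : ArtFun.Art Λ k} (f : B ⟶ A) :
    (Function.Surjective f ∧ ∀ (C : ArtFun.Art Λ k) (g : C ⟶ B), Function.Surjective (g ≫ f) → Function.Surjective g) ↔
      (Ideal.map (algebraMap Λ A) (RingHom.ker (algebraMap Λ k)) ⊔ Ideal.map f.toAlgHom (IsLocalRing.maximalIdeal B) ⊔ IsLocalRing.maximalIdeal A ^ 2 =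
          IsLocalRing.maximalIdeal A ∧
        ∀ b ∈ IsLocalRing.maximalIdeal B, f b ∈ Ideal.map (algebraMap Λ A) (RingHom.ker (algebraMap Λ k)) ⊔ IsLocalRing.maximalIdeal A ^ 2 →
          b ∈ Ideal.map (algebraMap Λ B) (RingHom.ker (algebraMap Λ k)) ⊔ IsLocalRing.maximalIdeal B ^ 2) := by
  exact GrothLib.ArtFun.essential_iff_cotangent f

end Groth.Agent.S12753
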