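import Groth.Statements.S12754
-- import your own Groth.Agent.* helpers here

set_option autoImplicit false
universe u
open CategoryTheory
open ArtFun

namespace Groth.Agent.S12754

/-- A K-linear functor L from finite-dimensional K-vector spaces to K-vector spaces (K a field) is
isomorphic to the functor V ↦ L(K) ⊗_K V. (Existence of an isomorphism of functors, which is how the
published statement reads; the natural choice sends x ⊗ v to L(f_v)(x) with f_v : K → V, 1 ↦ v.) -/
theorem result (K : Type u) [Field K]
    (L : FGModuleCat.{u} K ⥤ ModuleCat.{u} K) [L.Additive] [Functor.Linear K L] :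
    Nonempty (L ≅ (ModuleCat.isFG.{u} K).ι ⋙ MonoidalCategory.tensorLeft (L.obj (FGModuleCat.of K K))) := by
  classical
  let M := L.obj (FGModuleCat.of K K)
  let col : ∀ (V : FGModuleCat.{u} K) (v : V), FGModuleCat.of K K ⟶ V :=
    fun V v => FGModuleCat.ofHom (LinearMap.toSpanSingleton K V v)
  have hadd : ∀ (V : FGModuleCat.{u} K) (v w : V), col V (v + w) = col V v + col V w := fun V v w =>
    FGModuleCat.hom_ext (LinearMap.ext fun c => smul_add c v w)
  have hsmul : ∀ (V : FGModuleCat.{u} K) (a : K) (v : V), col V (a • v) = a • col V v := fun V a v =>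
    FGModuleCat.hom_ext (LinearMap.ext fun c => smul_comm c a v)
  let ev : ∀ V : FGModuleCat.{u} K, TensorProduct K M V →ₗ[K] L.obj V := fun V =>
    TensorProduct.lift (LinearMap.flip
      { toFun := fun v => (L.map (col V v)).hom
        map_add' := fun v w => by rw [hadd, L.map_add]; rfl
        map_smul' := fun a v => by rw [hsmul, L.map_smul]; rfl })
  have hev : ∀ V x v, ev V (x ⊗ₜ[K] v) = (L.map (col V v)).hom x := fun V x v => rfl
  have hcomp : ∀ {U V W : FGModuleCat.{u} K} (f : U ⟶ V) (g : V ⟶ W) (x : L.obj U),
      (L.map g).hom ((L.map f).hom x) = (L.map (f ≫ g)).hom x := fun f g x => by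
    rw [L.map_comp]; rfl
  have hbij : ∀ V, Function.Bijective (ev V) := fun V => by
    obtain ⟨n, b⟩ : ∃ n, Nonempty (Module.Basis (Fin n) K V) :=
      ⟨_, ⟨Module.finBasis K V⟩⟩
    obtain ⟨b⟩ := b
    let co : Fin n → (V ⟶ FGModuleCat.of K K) := fun i => FGModuleCat.ofHom (b.coord i)
    have hid : 𝟙 V = ∑ i, co i ≫ col V (b i) := by
      refine FGModuleCat.hom_ext (LinearMap.ext fun v => ?_)
      let h : (V ⟶ V) →+ (V →ₗ[K] V) :=
        { toFun := fun f => f.hom.hom, map_zero' := rfl, map_add' := fun _ _ => rfl }
      change (h (𝟙 V)) v = (h (∑ i, co i ≫ col V (b i))) v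
      rw [map_sum, LinearMap.sum_apply]
      exact (b.sum_repr v).symm
    let inv : L.obj V →ₗ[K] TensorProduct K M V :=
      ∑ i, ((TensorProduct.mk K M V).flip (b i)).comp (L.map (co i)).hom
    have hev' : ∀ y, ev V (inv y) = y := fun y => by
      have h1 : (L.map (𝟙 V)).hom y = y := by rw [L.map_id]; rfl
      conv_rhs => rw [← h1, hid]
      simp only [inv, LinearMap.sum_apply, map_sum, Functor.map_sum, ModuleCat.hom_sum]
      exact Finset.sum_congr rfl fun i _ => hcomp (co i) (col V (b i)) y
    refine ⟨Function.LeftInverse.injective (g := inv) fun t => ?_, fun y => ⟨inv y, hev' y⟩⟩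
    induction t using TensorProduct.induction_on with
    | zero => rw [map_zero, map_zero]
    | add x y hx hy => rw [map_add, map_add, hx, hy]
    | tmul x v =>
      have hc : ∀ i, col V v ≫ co i = b.repr v i • 𝟙 (FGModuleCat.of K K) := fun i =>
        FGModuleCat.hom_ext (LinearMap.ext fun c => by
          change b.coord i (c • v) = b.repr v i • c
          rw [map_smul, Module.Basis.coord_apply, smul_eq_mul, smul_eq_mul, mul_comm])
      simp only [inv, LinearMap.sum_apply, hev, LinearMap.comp_apply, LinearMap.flip_apply,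
        TensorProduct.mk_apply, hcomp, hc, L.map_smul, L.map_id]
      conv_rhs => rw [← b.sum_repr v, TensorProduct.tmul_sum]
      exact Finset.sum_congr rfl fun i _ => by
        change (b.repr v i • x) ⊗ₜ[K] b i = _
        rw [TensorProduct.smul_tmul]
  refine ⟨(NatIso.ofComponents (fun V => (LinearEquiv.ofBijective (ev V) (hbij V)).toModuleIso)
    fun {V W} g => ModuleCat.hom_ext (TensorProduct.ext' fun x v => ?_)).symm⟩
  change (L.map (col W (g.hom.hom v))).hom x = (L.map g).hom ((L.map (col V v)).hom x)
  rw [hcomp]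
  congr 2
  exact congrArg L.map (FGModuleCat.hom_ext (LinearMap.ext fun c => (map_smul g.hom.hom c v).symm))

end Groth.Agent.S12754
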