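import Groth.Statements.S1276
import Groth.Agent.Lib.FibPd.Depth
-- import your own Groth.Agent.* helpers here

set_option autoImplicit false
universe u
open FlatMor

namespace Groth.Agent.S1276

/-- Let B be a finite type A-algebra, N a finite B-module and p a prime of A. Then there is a finitely
generated ideal J of B annihilating N (so N is a module on the finitely presented closed subscheme
V(J) of Spec B) such that a point of the fibre Spec(κ(p) ⊗ B) lies in V(J) if and only if it lies in
the support of the fibre module of N. -/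
theorem result {A B : Type u} [CommRing A] [CommRing B] [Algebra A B] [Algebra.FiniteType A B]
    (N : Type u) [AddCommGroup N] [Module B N] [Module A N] [IsScalarTower A B N] [Module.Finite B N] (p : Ideal A) [p.IsPrime] :
    ∃ J : Ideal B, J.FG ∧ J ≤ Module.annihilator B N ∧
      ∀ x : PrimeSpectrum (p.Fiber B), FlatCA.fiberIdeal p J ≤ x.asIdeal ↔ x ∈ Module.support (p.Fiber B) (FlatCA.fiberMod p B N) := by
  classical
  letI : Algebra B (p.Fiber B) := Algebra.TensorProduct.rightAlgebra
  let ι : B →+* p.Fiber B := algebraMap B (p.Fiber B)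
  haveI : Algebra.FiniteType p.ResidueField (p.Fiber B) := inferInstance
  haveI : IsNoetherianRing (p.Fiber B) := Algebra.FiniteType.isNoetherianRing p.ResidueField (p.Fiber B)
  obtain ⟨_, ⟨J, ⟨hJ, hJle⟩, rfl⟩, hmax⟩ := set_has_maximal_iff_noetherian.2 ‹IsNoetherianRing (p.Fiber B)›
    ((fun J : Ideal B => J.map ι) '' {J | J.FG ∧ J ≤ Module.annihilator B N}) ⟨_, ⟨⊥, ⟨Submodule.fg_bot, bot_le⟩, rfl⟩⟩
  have hge : (Module.annihilator B N).map ι ≤ J.map ι := by
    refine Ideal.map_le_iff_le_comap.2 fun a ha => ?_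
    by_contra hnot
    refine hmax ((J ⊔ Ideal.span {a}).map ι) ⟨_, ⟨Submodule.FG.sup hJ (Submodule.fg_span_singleton a),
      sup_le hJle ((Ideal.span_singleton_le_iff_mem _).2 ha)⟩, rfl⟩ (lt_of_le_not_ge (Ideal.map_mono le_sup_left) fun h => ?_)
    exact hnot (h (Ideal.mem_map_of_mem ι (Ideal.mem_sup_right (Ideal.mem_span_singleton_self a))))
  refine ⟨J, hJ, hJle, fun x => ?_⟩
  have h1 : x ∈ Module.support (p.Fiber B) (FlatCA.fiberMod p B N) ↔
      PrimeSpectrum.comap ι x ∈ Module.support B N := GrothLib.FibPd.mem_support_baseChange_iff N x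
  rw [h1, Module.support_eq_zeroLocus, PrimeSpectrum.mem_zeroLocus, PrimeSpectrum.comap_asIdeal]
  show J.map ι ≤ x.asIdeal ↔ _
  refine ⟨fun h a ha => h (hge (Ideal.mem_map_of_mem ι ha)), fun h => ?_⟩
  exact Ideal.map_le_iff_le_comap.2 fun a ha => h (hJle ha)

end Groth.Agent.S1276
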