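import Groth.Statements.S1277
import Groth.Agent.Lib.FlatAbove.Basic

set_option autoImplicit false
universe u
open FlatMor

namespace Groth.Agent.S1277

set_option linter.style.haveILetI false


open IsLocalRing in
/-- Let A be a local ring, A → B a local homomorphism of local rings, B → C a flat local homomorphism of
local rings, M a B-module and N = M ⊗_B C. For every local homomorphism of local rings A → A', with
base changes B' = B ⊗_A A', M', C' = C ⊗_A A', N' (any models): M' is flat over A' at every prime of
B' containing 𝔪_{A'}B' + 𝔪_B B' if and only if N' is flat over A' at every prime of C' containing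
𝔪_{A'}C' + 𝔪_C C'. -/
theorem result {A B C : Type u} [CommRing A] [IsLocalRing A] [CommRing B] [IsLocalRing B] [CommRing C] [IsLocalRing C]
    [Algebra A B] [IsLocalHom (algebraMap A B)] [Algebra B C] [IsLocalHom (algebraMap B C)] [Algebra A C] [IsScalarTower A B C] [Module.Flat B C]
    (M : Type u) [AddCommGroup M] [Module B M] (N : Type u) [AddCommGroup N] [Module C N] [Module B N] [IsScalarTower B C N]
    (g : M →ₗ[B] N) (hg : IsBaseChange C g)
    (A' : Type u) [CommRing A'] [IsLocalRing A'] [Algebra A A'] [IsLocalHom (algebraMap A A')]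
    (B' M' : Type u) [CommRing B'] [Algebra B B'] [Algebra A' B'] [Algebra A B'] [IsScalarTower A B B'] [IsScalarTower A A' B']
        [Algebra.IsPushout A B A' B']
        [AddCommGroup M'] [Module B' M'] [Module B M'] [IsScalarTower B B' M'] [Module A' M'] [IsScalarTower A' B' M']
        (fB : M →ₗ[B] M') (hfB : IsBaseChange B' fB)
    (C' N' : Type u) [CommRing C'] [Algebra C C'] [Algebra A' C'] [Algebra A C'] [IsScalarTower A C C'] [IsScalarTower A A' C']
        [Algebra.IsPushout A C A' C']
        [AddCommGroup N'] [Module C' N'] [Module C N'] [IsScalarTower C C' N'] [Module A' N'] [IsScalarTower A' C' N']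
        (fC : N →ₗ[C] N') (hfC : IsBaseChange C' fC) :
    FlatCA.FlatAboveClosedPoints B A' B' M' ↔ FlatCA.FlatAboveClosedPoints C A' C' N' := by
  letI : Algebra B C' := ((algebraMap C C').comp (algebraMap B C)).toAlgebra
  haveI : IsScalarTower B C C' := IsScalarTower.of_algebraMap_eq fun _ => rfl
  haveI : IsScalarTower A B C' := IsScalarTower.of_algebraMap_eq fun a => by
    rw [IsScalarTower.algebraMap_apply A C C', IsScalarTower.algebraMap_apply A B C]; rfl
  haveI : Algebra.IsPushout A A' B B' := Algebra.IsPushout.symm ‹_›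
  let ψ : B' →ₐ[A] C' := Algebra.pushoutDesc B' (IsScalarTower.toAlgHom A A' C') (IsScalarTower.toAlgHom A B C') fun _ _ => mul_comm _ _
  letI : Algebra B' C' := ψ.toRingHom.toAlgebra
  haveI : IsScalarTower B B' C' := IsScalarTower.of_algebraMap_eq fun b =>
    (Algebra.pushoutDesc_right B' (IsScalarTower.toAlgHom A A' C') (IsScalarTower.toAlgHom A B C') (fun _ _ => mul_comm _ _) b).symm
  haveI : IsScalarTower A' B' C' := IsScalarTower.of_algebraMap_eq fun b =>
    (Algebra.pushoutDesc_left B' (IsScalarTower.toAlgHom A A' C') (IsScalarTower.toAlgHom A B C') (fun _ _ => mul_comm _ _) b).symm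
  haveI : IsScalarTower A B' C' := IsScalarTower.of_algebraMap_eq fun a => (ψ.commutes a).symm
  haveI : Algebra.IsPushout A B A' B' := Algebra.IsPushout.symm ‹_›
  haveI hBC : Algebra.IsPushout B C B' C' :=
    (Algebra.IsPushout.comp_iff (R := A) (S := B) (R' := A') (S' := B') (T := C) (T' := C')).1 inferInstance
  haveI hBC' : Algebra.IsPushout B B' C C' := hBC.symm
  haveI : Module.Flat B' C' := Module.Flat.isBaseChange B B' C C' hBC'.out
  letI : Module B' N' := Module.compHom N' (algebraMap B' C')
  haveI : IsScalarTower B' C' N' := IsScalarTower.of_algebraMap_smul fun _ _ => rfl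
  letI : Module B N' := Module.compHom N' (algebraMap B C')
  haveI : IsScalarTower B C' N' := IsScalarTower.of_algebraMap_smul fun _ _ => rfl
  haveI : IsScalarTower B C N' := IsScalarTower.of_algebraMap_smul fun b x => by
    rw [← algebraMap_smul C' (algebraMap B C b) x]; rfl
  haveI : IsScalarTower B B' N' := IsScalarTower.of_algebraMap_smul fun b x => by
    show algebraMap B' C' (algebraMap B B' b) • x = algebraMap B C' b • x
    rw [← IsScalarTower.algebraMap_apply]
  have hc : IsBaseChange C' ((fC.restrictScalars B).comp g) := hg.comp hfC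
  let j : M' →ₗ[B'] N' := hfB.lift ((fC.restrictScalars B).comp g)
  have hj : IsBaseChange C' j := IsBaseChange.of_comp hfB (h := j) (by rw [hfB.lift_comp]; exact hc)
  constructor
  · intro h q' _ hq'
    refine (GrothLib.FlatAbove.flatAt_iff j hj q').1 (h _ ?_)
    rw [sup_le_iff] at hq' ⊢
    refine ⟨Ideal.map_le_iff_le_comap.2 fun x hx => ?_, Ideal.map_le_iff_le_comap.2 fun x hx => ?_⟩
    · show algebraMap B' C' (algebraMap A' B' x) ∈ q'
      rw [← IsScalarTower.algebraMap_apply]
      exact hq'.1 (Ideal.mem_map_of_mem _ hx)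
    · show algebraMap B' C' (algebraMap B B' x) ∈ q'
      rw [← IsScalarTower.algebraMap_apply, IsScalarTower.algebraMap_apply B C C']
      exact hq'.2 (Ideal.mem_map_of_mem _ (IsLocalRing.map_maximalIdeal_le (algebraMap B C) (Ideal.mem_map_of_mem _ hx)))
  · intro h q _ hq
    rw [sup_le_iff] at hq
    obtain ⟨q', hq'p, hq'C, rfl⟩ := GrothLib.FlatAbove.exists_prime_over (B := B) (C := C) (C' := C') q hq.2
    refine (GrothLib.FlatAbove.flatAt_iff j hj q').2 (h q' (sup_le (Ideal.map_le_iff_le_comap.2 fun x hx => ?_) hq'C))
    show algebraMap A' C' x ∈ q'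
    rw [IsScalarTower.algebraMap_apply A' B' C']
    exact hq.1 (Ideal.mem_map_of_mem _ hx)


end Groth.Agent.S1277
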