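import Groth.Statements.S12771
import Groth.Agent.Lib.AlgSt.Stacky


set_option autoImplicit false
set_option backward.isDefEq.respectTransparency false
set_option backward.isDefEq.respectTransparency.types false
open CategoryTheory AlgebraicGeometry
universe u
open AlgSt

namespace Groth.Agent.S12771

/-- If `𝒳` and `𝒴` are categories over `(Sch/S)` which are equivalent over `(Sch/S)`, then `𝒳` is a
Deligne-Mumford stack over `S` if and only if `𝒴` is. -/
theorem result {S : Scheme.{u}} {𝒳 𝒴 : AlgSt.Cat S}
    (e : 𝒳 ⥤ᵇ 𝒴) (he : FibCat.IsEquivOver e) :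
    AlgSt.IsDM Scheme.fppfPrecoverage 𝒳 ↔ AlgSt.IsDM Scheme.fppfPrecoverage 𝒴 := by
  exact GrothLib.AlgSt.isDM_iff_of_isEquivOver e he

end Groth.Agent.S12771
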