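import Groth.Statements.S1278
import Groth.Agent.Lib.FlatAbove.Killed

set_option autoImplicit false
universe u
open FlatMor

namespace Groth.Agent.S1278

set_option linter.style.haveILetI false


open IsLocalRing in
/-- Let A be a local ring and B → C a finite local homomorphism of local A-algebras (A → B local), and N
a C-module, viewed also as a B-module. For every local homomorphism of local rings A → A', with base
changes B', C' of B, C and base changes M' (of N over B') and N' (of N over C'): M' is flat over A'
at every prime of B' containing 𝔪_{A'}B' + 𝔪_B B' if and only if N' is flat over A' at every prime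
of C' containing 𝔪_{A'}C' + 𝔪_C C'. -/
theorem result {A B C : Type u} [CommRing A] [IsLocalRing A] [CommRing B] [IsLocalRing B] [CommRing C] [IsLocalRing C]
    [Algebra A B] [IsLocalHom (algebraMap A B)] [Algebra B C] [IsLocalHom (algebraMap B C)] [Algebra A C] [IsScalarTower A B C] [Module.Finite B C]
    (N : Type u) [AddCommGroup N] [Module C N] [Module B N] [IsScalarTower B C N]
    (A' : Type u) [CommRing A'] [IsLocalRing A'] [Algebra A A'] [IsLocalHom (algebraMap A A')]
    (B' M' : Type u) [CommRing B'] [Algebra B B'] [Algebra A' B'] [Algebra A B'] [IsScalarTower A B B'] [IsScalarTower A A' B']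
        [Algebra.IsPushout A B A' B']
        [AddCommGroup M'] [Module B' M'] [Module B M'] [IsScalarTower B B' M'] [Module A' M'] [IsScalarTower A' B' M']
        (fB : N →ₗ[B] M') (hfB : IsBaseChange B' fB)
    (C' N' : Type u) [CommRing C'] [Algebra C C'] [Algebra A' C'] [Algebra A C'] [IsScalarTower A C C'] [IsScalarTower A A' C']
        [Algebra.IsPushout A C A' C']
        [AddCommGroup N'] [Module C' N'] [Module C N'] [IsScalarTower C C' N'] [Module A' N'] [IsScalarTower A' C' N']
        (fC : N →ₗ[C] N') (hfC : IsBaseChange C' fC) :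
    FlatCA.FlatAboveClosedPoints B A' B' M' ↔ FlatCA.FlatAboveClosedPoints C A' C' N' := by
  letI : Algebra B C' := ((algebraMap C C').comp (algebraMap B C)).toAlgebra
  haveI : IsScalarTower B C C' := IsScalarTower.of_algebraMap_eq fun _ => rfl
  haveI : IsScalarTower A B C' := IsScalarTower.of_algebraMap_eq fun a => by
    rw [IsScalarTower.algebraMap_apply A C C', IsScalarTower.algebraMap_apply A B C]; rfl
  haveI : Algebra.IsPushout A A' B B' := Algebra.IsPushout.symm ‹_›
  let ψ : B' →ₐ[A] C' := Algebra.pushoutDesc B' (IsScalarTower.toAlgHom A A' C') (IsScalarTower.toAlgHom A B C') fun _ _ => mul_comm _ _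
  letI : Algebra B' C' := ψ.toRingHom.toAlgebra
  haveI : IsScalarTower B B' C' := IsScalarTower.of_algebraMap_eq fun b =>
    (Algebra.pushoutDesc_right B' (IsScalarTower.toAlgHom A A' C') (IsScalarTower.toAlgHom A B C') (fun _ _ => mul_comm _ _) b).symm
  haveI : IsScalarTower A' B' C' := IsScalarTower.of_algebraMap_eq fun b =>
    (Algebra.pushoutDesc_left B' (IsScalarTower.toAlgHom A A' C') (IsScalarTower.toAlgHom A B C') (fun _ _ => mul_comm _ _) b).symm
  haveI : IsScalarTower A B' C' := IsScalarTower.of_algebraMap_eq fun a => (ψ.commutes a).symm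
  haveI : Algebra.IsPushout A B A' B' := Algebra.IsPushout.symm ‹_›
  haveI hBC : Algebra.IsPushout B C B' C' :=
    (Algebra.IsPushout.comp_iff (R := A) (S := B) (R' := A') (S' := B') (T := C) (T' := C')).1 inferInstance
  haveI hBC' : Algebra.IsPushout B B' C C' := hBC.symm
  haveI : Module.Finite B' C' :=
    Module.Finite.equiv (hBC'.out.equiv)
  haveI : Algebra.IsIntegral B C := Algebra.IsIntegral.of_finite B C
  letI : Module B' N' := Module.compHom N' (algebraMap B' C')
  haveI : IsScalarTower B' C' N' := IsScalarTower.of_algebraMap_smul fun _ _ => rfl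
  let e : N' ≃ₗ[B'] M' :=
    (hfC.equiv.symm.restrictScalars B') ≪≫ₗ Algebra.IsPushout.cancelBaseChange B B' C C' N ≪≫ₗ hfB.equiv
  haveI : IsScalarTower A' B' N' := IsScalarTower.of_algebraMap_smul fun a x => by
    show algebraMap B' C' (algebraMap A' B' a) • x = a • x
    rw [← IsScalarTower.algebraMap_apply, algebraMap_smul]
  constructor
  · intro h q' _ hq'
    rw [sup_le_iff] at hq'
    have hf := GrothLib.FlatAbove.flatAt_congr e.symm (q'.comap (algebraMap B' C')) (h _ (sup_le
      (Ideal.map_le_iff_le_comap.2 fun x hx => by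
        show algebraMap B' C' (algebraMap A' B' x) ∈ q'
        rw [← IsScalarTower.algebraMap_apply]
        exact hq'.1 (Ideal.mem_map_of_mem _ hx))
      (Ideal.map_le_iff_le_comap.2 fun x hx => by
        show algebraMap B' C' (algebraMap B B' x) ∈ q'
        rw [← IsScalarTower.algebraMap_apply, IsScalarTower.algebraMap_apply B C C']
        exact hq'.2 (Ideal.mem_map_of_mem _ (IsLocalRing.map_maximalIdeal_le (algebraMap B C) (Ideal.mem_map_of_mem _ hx))))))
    rw [GrothLib.FlatAbove.flatAt_iff_killed] at hf ⊢
    intro X Y _ _ _ _ f hfi z hz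
    obtain ⟨s, hs, hsz⟩ := hf X Y f hfi z hz
    exact ⟨algebraMap B' C' s, hs, (algebraMap_smul C' s z).trans hsz⟩
  · intro h q _ hq
    rw [sup_le_iff] at hq
    refine GrothLib.FlatAbove.flatAt_congr e q ((GrothLib.FlatAbove.flatAt_iff_killed q).2 ?_)
    intro X Y _ _ _ _ f hfi z hz
    by_contra hcon
    let J : Ideal C' := LinearMap.ker (LinearMap.toSpanSingleton C' (TensorProduct A' N' X) z)
    have hJ : J.comap (algebraMap B' C') ≤ q := fun s hs => by
      by_contra hsq
      exact hcon ⟨s, hsq, (algebraMap_smul C' s z).symm.trans hs⟩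
    obtain ⟨Q, hJQ, hQp, hQq⟩ := Ideal.exists_ideal_over_prime_of_isIntegral q J hJ
    have hA : (IsLocalRing.maximalIdeal A').map (algebraMap A' C') ≤ Q := Ideal.map_le_iff_le_comap.2 fun x hx => by
      show algebraMap A' C' x ∈ Q
      rw [IsScalarTower.algebraMap_apply A' B' C']
      exact hQq.ge (hq.1 (Ideal.mem_map_of_mem _ hx))
    have hC : (IsLocalRing.maximalIdeal C).map (algebraMap C C') ≤ Q := by
      rw [Ideal.map_le_iff_le_comap]
      have h1 : (Q.comap (algebraMap C C')).comap (algebraMap B C) = IsLocalRing.maximalIdeal B := by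
        refine le_antisymm (IsLocalRing.le_maximalIdeal (Ideal.IsPrime.ne_top (Ideal.IsPrime.comap _))) fun x hx => ?_
        show algebraMap C C' (algebraMap B C x) ∈ Q
        rw [← IsScalarTower.algebraMap_apply, IsScalarTower.algebraMap_apply B B' C']
        exact hQq.ge (hq.2 (Ideal.mem_map_of_mem _ hx))
      haveI : ((Q.comap (algebraMap C C')).comap (algebraMap B C)).IsMaximal := h1 ▸ IsLocalRing.maximalIdeal.isMaximal B
      exact (IsLocalRing.eq_maximalIdeal (Ideal.isMaximal_of_isIntegral_of_isMaximal_comap (R := B) (Q.comap (algebraMap C C')) inferInstance)).ge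
    obtain ⟨c, hc, hcz⟩ := (GrothLib.FlatAbove.flatAt_iff_killed Q).1 (h Q (sup_le hA hC)) X Y f hfi z hz
    exact hc (hJQ hcz)


end Groth.Agent.S1278
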