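import Groth.Statements.S12780
import Groth.Agent.Lib.AlgSt.FibreProduct


set_option autoImplicit false
set_option backward.isDefEq.respectTransparency false
set_option backward.isDefEq.respectTransparency.types false
open CategoryTheory AlgebraicGeometry
universe u
open AlgSt

namespace Groth.Agent.S12780

/-- Let `𝒳`, `𝒴`, `𝒵` be fibred in groupoids over `(Sch/S)` and `P` a property of morphisms of algebraic
spaces which is stable under base change, fppf local on the base and stable under composition. If `f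
: 𝒳 ⟶ 𝒴` and `g : 𝒴 ⟶ 𝒵` are representable by algebraic spaces and have `P`, then so does `g ∘ f`.
(Stability under base change is asked for every pullback square of fppf sheaves whose four corners
are algebraic spaces, and stability under composition for composable morphisms between algebraic
spaces.) -/
theorem result {S : Scheme.{u}} {𝒳 𝒴 𝒵 : AlgSt.Cat S}
    (h𝒳 : FibCat.IsFibGrpd 𝒳.p) (h𝒴 : FibCat.IsFibGrpd 𝒴.p) (h𝒵 : FibCat.IsFibGrpd 𝒵.p)
    (P : MorphismProperty (AlgSp.Sp S))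
    (hPb : ∀ ⦃X₁ Y₁ X₂ Y₂ : AlgSp.Sp S⦄, AlgSp.IsAlgSpace X₁ → AlgSp.IsAlgSpace Y₁ → AlgSp.IsAlgSpace X₂ →
      AlgSp.IsAlgSpace Y₂ → ∀ (a : X₁ ⟶ Y₁) (b : Y₂ ⟶ Y₁) (a' : X₂ ⟶ Y₂) (b' : X₂ ⟶ X₁),
      IsPullback b' a' a b → P a → P a')
    (hPc : ∀ ⦃X Y Z : AlgSp.Sp S⦄, AlgSp.IsAlgSpace X → AlgSp.IsAlgSpace Y → AlgSp.IsAlgSpace Z →
      ∀ (a : X ⟶ Y) (b : Y ⟶ Z), P a → P b → P (a ≫ b))
    (hP : AlgSp.IsLocalOnBase AlgSp.IsFppfCover P)
    (f : 𝒳 ⥤ᵇ 𝒴) (g : 𝒴 ⥤ᵇ 𝒵) (hf : AlgSt.RepByAlgSpWith P f) (hg : AlgSt.RepByAlgSpWith P g) :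
    AlgSt.RepByAlgSpWith P (BasedFunctor.comp f g) := by
  exact GrothLib.AlgSt.repByAlgSpWith_comp h𝒳 h𝒴 (GrothLib.AlgSt.isoInvariant_of_stableSp hPb) hPc hP f g hf hg

end Groth.Agent.S12780
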