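import Groth.Statements.S12788
import Groth.Agent.Lib.AlgSt.FibreProduct


set_option autoImplicit false
set_option backward.isDefEq.respectTransparency false
set_option backward.isDefEq.respectTransparency.types false
open CategoryTheory AlgebraicGeometry
universe u
open AlgSt

namespace Groth.Agent.S12788

/-- (3) ⇔ (7): for `𝒳` fibred in groupoids over `(Sch/S)`, every 1-morphism `(Sch/U) ⟶ 𝒳` from a scheme
is representable by algebraic spaces if and only if every 1-morphism `𝒰 ⟶ 𝒳` from a category fibred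
in groupoids representable by an algebraic space is representable by algebraic spaces. (The
categories `𝒰` range over categories over `(Sch/S)` with objects and morphisms in the universes of
the slice categories `(Sch/U)`.) -/
theorem result {S : Scheme.{u}} {𝒳 : AlgSt.Cat S} (h𝒳 : FibCat.IsFibGrpd 𝒳.p) :
    (∀ (U : Over S) (x : FibCat.overCat U ⥤ᵇ 𝒳), AlgSt.RepByAlgSp1 x) ↔
      ∀ (𝒰 : AlgSt.Cat S), FibCat.IsFibGrpd 𝒰.p → AlgSt.RepByAlgSp 𝒰 → ∀ (x : 𝒰 ⥤ᵇ 𝒳), AlgSt.RepByAlgSp1 x := by
  constructor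
  · intro h 𝒰 h𝒰 hr x U y
    exact GrothLib.AlgSt.repByAlgSp_of_isEquivOver _ (GrothLib.FibCat.Fp.isEquivOver_symm x y)
      (GrothLib.AlgSt.repByAlgSp_fp_of_repByAlgSp1
        ((GrothLib.AlgSt.isFibSetoid_of_repByAlgSp (GrothLib.AlgSt.repByAlgSp_overCat U)).1) h𝒳 y x (h U y) hr)
  · intro h U x
    exact h _ (GrothLib.AlgSt.isFibSetoid_of_repByAlgSp (GrothLib.AlgSt.repByAlgSp_overCat U)).1
      (GrothLib.AlgSt.repByAlgSp_overCat U) x

end Groth.Agent.S12788
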