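import Groth.Statements.S1279
import Groth.Agent.Lib.FgSupport6.Separate
-- import your own Groth.Agent.* helpers here

set_option autoImplicit false
universe u
open FlatMor

namespace Groth.Agent.S1279

open AlgebraicGeometry CategoryTheory Limits Topology in
/-- Let X be a quasi-compact and quasi-separated scheme, U ⊆ X a quasi-compact open, and T₁, T₂ ⊆ U
disjoint subsets which are closed and constructible in U. Then there is a U-admissible blow-up b :
X' → X such that the closures in X' of the preimages of T₁ and T₂ are disjoint. (Part (1), about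
strict transforms of closed subschemes, is not stated.) -/
theorem result {X : Scheme.{u}} [CompactSpace X] [QuasiSeparatedSpace X]
    (U : X.Opens) (hU : IsCompact (U : Set X)) (T₁ T₂ : Set U)
    (h₁ : IsClosed T₁) (h₂ : IsClosed T₂) (c₁ : IsConstructible T₁) (c₂ : IsConstructible T₂) (hd : Disjoint T₁ T₂) :
    ∃ (𝓘 : X.IdealSheafData) (X' : Scheme.{u}) (b : X' ⟶ X), BlowUp.IsBlowUp b 𝓘 ∧ BlowUp.IsAdmissibleFor U 𝓘 ∧
      Disjoint (closure (b.base ⁻¹' (Subtype.val '' T₁))) (closure (b.base ⁻¹' (Subtype.val '' T₂))) := by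
  obtain ⟨V₁, hV₁, e₁⟩ := GrothLib.FgSupport6.exists_open_diff U hU T₁ h₁ c₁
  obtain ⟨V₂, hV₂, e₂⟩ := GrothLib.FgSupport6.exists_open_diff U hU T₂ h₂ c₂
  obtain ⟨I₁, hI₁, s₁⟩ := GrothLib.FgSupport6.exists_fg_support_eq V₁ hV₁
  obtain ⟨I₂, hI₂, s₂⟩ := GrothLib.FgSupport6.exists_fg_support_eq V₂ hV₂
  obtain ⟨X', b, hb⟩ := GrothLib.BlowUp.exists_isBlowUp X (I₁ ⊔ I₂)
  have hdis : Disjoint ((I₁ ⊔ I₂).support : Set X) (U : Set X) := by
    rw [Scheme.IdealSheafData.support_sup, Set.disjoint_left]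
    rintro x ⟨hx₁, hx₂⟩ hxU
    have g₁ : x ∈ Subtype.val '' T₁ := e₁ ▸ ⟨s₁ ▸ hx₁, hxU⟩
    have g₂ : x ∈ Subtype.val '' T₂ := e₂ ▸ ⟨s₂ ▸ hx₂, hxU⟩
    obtain ⟨y, hy, rfl⟩ := g₁
    obtain ⟨z, hz, hzy⟩ := g₂
    exact Set.disjoint_left.mp hd hy (Subtype.ext hzy ▸ hz)
  refine ⟨I₁ ⊔ I₂, X', b, hb, ⟨fun W => ?_, hdis⟩, ?_⟩
  · rw [Scheme.IdealSheafData.ideal_sup, Pi.sup_apply]
    exact Submodule.FG.sup (hI₁ W) (hI₂ W)
  · refine GrothLib.FgSupport6.disjoint_closure b I₁ I₂ hb.1 _ _ ?_ ?_ ?_ ?_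
    · rw [s₁, ← e₁]; exact Set.inter_subset_left
    · rw [s₂, ← e₂]; exact Set.inter_subset_left
    · rw [← e₁]; exact hdis.symm.mono_left Set.inter_subset_right
    · rw [← e₂]; exact hdis.symm.mono_left Set.inter_subset_right

end Groth.Agent.S1279
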