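import Groth.Statements.S12790
import Groth.Agent.Lib.FibCat.Comparison


set_option autoImplicit false
set_option backward.isDefEq.respectTransparency false
set_option backward.isDefEq.respectTransparency.types false
open CategoryTheory CategoryTheory.Limits
universe v u
open FibCat

namespace Groth.Agent.S12790

open CategoryTheory.Functor GrothLib.FibCat

theorem lift_comp {C : Type u} [Category.{v} C] {R : C} {a b c : (FibCat.selfOver C).obj} {φ : a ⟶ b} {ψ : b ⟶ c}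
    (h1 : (FibCat.selfOver C).p.IsHomLift (𝟙 R) φ) (h2 : (FibCat.selfOver C).p.IsHomLift (𝟙 R) ψ) :
    (FibCat.selfOver C).p.IsHomLift (𝟙 R) (φ ≫ ψ) := inferInstance

theorem selfIso {C : Type u} [Category.{v} C] {X Y : BasedCategory.{v, max u v} C} (f : X ⥤ᵇ Y) :
    Nonempty (BasedFunctor.comp f (FibCat.toSelf Y) ≅ FibCat.toSelf X) :=
  ⟨natIsoOfComponents (fun a => eqToIso (f.w_obj a))
    (fun a => IsHomLift.eqToHom_domain_lift_id (p := (FibCat.selfOver C).p) (f.w_obj a) (f.w_obj a))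
    (fun {a b} φ => by
      change Y.p.map (f.map φ) ≫ eqToHom (f.w_obj b) = eqToHom (f.w_obj a) ≫ X.p.map φ
      rw [p_map_map]; simp)⟩

/-- For representable 1-morphisms `f₁ : 𝒳₁ ⟶ 𝒴₁`, `f₂ : 𝒳₂ ⟶ 𝒴₂` of categories over `C`, the product `f₁
× f₂ : 𝒳₁ × 𝒳₂ ⟶ 𝒴₁ × 𝒴₂` (products over `C`; the functor induced on 2-fibre products, for any
choice of the 2-isomorphism `e` filling the square) is a representable 1-morphism. (The published
statement is for categories fibred in groupoids over schemes over a base; this row is stated for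
categories over any base category.) -/
theorem result {C : Type u} [Category.{v} C] {𝒳₁ 𝒳₂ 𝒴₁ 𝒴₂ : BasedCategory.{v, max u v} C}
    (f₁ : 𝒳₁ ⥤ᵇ 𝒴₁) (f₂ : 𝒳₂ ⥤ᵇ 𝒴₂) (hf₁ : FibCat.IsRepresentable1 f₁) (hf₂ : FibCat.IsRepresentable1 f₂)
    (e : BasedFunctor.comp (BasedFunctor.comp (FibCat.fpFst (FibCat.toSelf 𝒳₁) (FibCat.toSelf 𝒳₂)) f₁) (FibCat.toSelf 𝒴₁) ≅ BasedFunctor.comp (BasedFunctor.comp (FibCat.fpSnd (FibCat.toSelf 𝒳₁) (FibCat.toSelf 𝒳₂)) f₂) (FibCat.toSelf 𝒴₂)) :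
    FibCat.IsRepresentable1 (FibCat.fpLift (BasedFunctor.comp (FibCat.fpFst (FibCat.toSelf 𝒳₁) (FibCat.toSelf 𝒳₂)) f₁) (BasedFunctor.comp (FibCat.fpSnd (FibCat.toSelf 𝒳₁) (FibCat.toSelf 𝒳₂)) f₂) e) := by
    obtain ⟨i₁⟩ := selfIso f₁
    obtain ⟨i₂⟩ := selfIso f₂
    let t₁ := FibCat.toSelf 𝒴₁
    let t₂ := FibCat.toSelf 𝒴₂
    let C₀ := Fp.congr i₁.symm i₂.symm
    have hC₀ : FibCat.IsEquivOver C₀ := Fp.isEquivOver_congr i₁.symm i₂.symm
    let A := Cmp.mapLeft f₁ t₁ (BasedFunctor.comp f₂ t₂)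
    let B := BasedFunctor.comp (BasedFunctor.comp (Fp.symm t₁ (BasedFunctor.comp f₂ t₂)) (Cmp.mapLeft f₂ t₂ t₁)) (Fp.symm t₂ t₁)
    have hs : ∀ {X Y : BasedCategory.{v, max u v} C} (s : X ⥤ᵇ Y), FibCat.IsEquivOver s → FibCat.IsRepresentable1 s :=
      fun s h U G => GrothLib.FibCat.isRepresentable_of_equiv (Fp.isEquivOver_fpFst_of_isEquivOver G h) (isRepresentable_overCat U)
    have hB : FibCat.IsRepresentable1 B := isRepresentable1_comp (isRepresentable1_comp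
      (hs _ (Fp.isEquivOver_symm _ _)) (Cmp.isRepresentable1_mapLeft f₂ t₂ t₁ hf₂)) (hs _ (Fp.isEquivOver_symm _ _))
    have hA : FibCat.IsRepresentable1 A := Cmp.isRepresentable1_mapLeft f₁ t₁ (BasedFunctor.comp f₂ t₂) hf₁
    refine isRepresentable1_of_iso ?_ (isRepresentable1_comp (isRepresentable1_comp (hs C₀ hC₀) hA) hB)
    exact natIsoOfComponents
      (fun a => Fp.isoMk (Iso.refl (f₁.obj a.obj.fst)) (Iso.refl (f₂.obj a.obj.snd))
        (selfOver_hom_ext _ _ (R := 𝒴₁.p.obj (f₁.obj a.obj.fst))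
          (by exact lift_comp (@BasedFunctor.preserves_isHomLift _ _ _ _ t₁ _ _ _ _ (𝟙 (𝒴₁.p.obj (f₁.obj a.obj.fst))) (𝟙 (f₁.obj a.obj.fst)) (IsHomLift.id rfl)) (Fp.iso_lift ((FibCat.fpLift _ _ e).obj a)))
          (by exact lift_comp (Fp.iso_lift ((BasedFunctor.comp (BasedFunctor.comp C₀ A) B).obj a)) (@BasedFunctor.preserves_isHomLift _ _ _ _ t₂ _ _ _ _ (𝟙 (𝒴₁.p.obj (f₁.obj a.obj.fst))) (𝟙 (f₂.obj a.obj.snd)) (IsHomLift.id ((f₂.w_obj _).trans ((Fp.snd_proj a).trans (f₁.w_obj _).symm)))))))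
      (fun a => (Fp.isHomLift_iff _ _).2 (IsHomLift.id (f₁.w_obj _)))
      (fun {a b} φ => Fp.hom_ext ((Category.comp_id _).trans (Category.id_comp _).symm)
        ((Category.comp_id _).trans (Category.id_comp _).symm))

end Groth.Agent.S12790
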