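import Groth.Statements.S6405
import Groth.Agent.Lib.FibCat.Inertia


set_option autoImplicit false
set_option backward.isDefEq.respectTransparency false
set_option backward.isDefEq.respectTransparency.types false
open CategoryTheory
universe v u
open FibCat

namespace Groth.Agent.S6405

/-- (2) ⇒ (1): if `𝒳` is fibred in groupoids over `C` and the canonical functor `I_𝒳 ⟶ 𝒳` from its
inertia is an equivalence over `C`, then `𝒳` is fibred in setoids. (The published statement is an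
equivalence; this row states only that the inertia condition implies that `𝒳` is fibred in setoids.) -/
theorem result {C : Type u} [Category.{v} C] {𝒳 : BasedCategory.{v, max u v} C} (h𝒳 : FibCat.IsFibGrpd 𝒳.p)
    (h : FibCat.IsEquivOver (FibCat.inertiaToBase (FibCat.toSelf 𝒳))) : FibCat.IsFibSetoid 𝒳.p := by
  have := GrothLib.FibCat.IsEquivOver.full h
  refine ⟨h𝒳, fun U A B => ⟨fun φ ψ => Subtype.ext ?_⟩⟩
  have := φ.2
  have := ψ.2
  have := GrothLib.FibCat.IsFibGrpd.isIso_of_isHomLift_id h𝒳 (R := U) φ.1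
  have := GrothLib.FibCat.IsFibGrpd.isIso_of_isHomLift_id h𝒳 (R := U) ψ.1
  let α : A.1 ≅ A.1 := asIso φ.1 ≪≫ (asIso ψ.1).symm
  have hα : (FibCat.toSelf 𝒳).map α.hom = 𝟙 _ := by
    change 𝒳.p.map (φ.1 ≫ inv ψ.1) = 𝟙 _
    simp [GrothLib.FibCat.map_eq_eqToHom 𝒳.p (R := U) φ.1, GrothLib.FibCat.map_eq_eqToHom 𝒳.p (R := U) ψ.1]
  let x : (FibCat.inertia (FibCat.toSelf 𝒳)).obj := ⟨A.1, α, hα⟩
  let y : (FibCat.inertia (FibCat.toSelf 𝒳)).obj := ⟨A.1, Iso.refl _, (FibCat.toSelf 𝒳).map_id _⟩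
  obtain ⟨χ, hχ⟩ := (FibCat.inertiaToBase (FibCat.toSelf 𝒳)).toFunctor.map_surjective (X := x) (Y := y) (𝟙 A.1)
  have hc := χ.comm
  change χ.hom = 𝟙 A.1 at hχ
  rw [hχ] at hc
  have h1 : φ.1 ≫ inv ψ.1 = 𝟙 A.1 := by simpa [x, y, α] using hc
  exact (cancel_mono (inv ψ.1)).1 (h1.trans (IsIso.hom_inv_id ψ.1).symm)

end Groth.Agent.S6405
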