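import Groth.Statements.S12791
import Groth.Agent.Lib.AlgSt.RepKernel
import Groth.Agent.S6405


set_option autoImplicit false
set_option backward.isDefEq.respectTransparency false
set_option backward.isDefEq.respectTransparency.types false
open CategoryTheory AlgebraicGeometry
universe u
open AlgSt

namespace Groth.Agent.S12791

/-- (2) ⇔ (3): for an algebraic stack `𝒳` over `S`, the canonical 1-morphism `I_𝒳 ⟶ 𝒳` from the inertia
is an equivalence over `(Sch/S)` if and only if `𝒳` is representable by an algebraic space. -/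
theorem result {S : Scheme.{u}} {𝒳 : AlgSt.Cat S}
    (h𝒳 : AlgSt.IsAlgStack Scheme.fppfPrecoverage 𝒳) :
    FibCat.IsEquivOver (FibCat.inertiaToBase (FibCat.toSelf 𝒳)) ↔ AlgSt.RepByAlgSp 𝒳 := by
  rw [GrothLib.AlgSt.repByAlgSp_iff_isFibSetoid h𝒳]
  refine ⟨Groth.Agent.S6405.result h𝒳.isStack.1, fun h =>
    (GrothLib.FibCat.isEquivOver_inertiaToBase_iff h𝒳.isStack.1 _).2 fun a φ hp _ => ?_⟩
  exact GrothLib.FibCat.IsFibSetoid.hom_ext h (by rw [hp]; exact (𝒳.p.map_id a).symm)

end Groth.Agent.S12791
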