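import Groth.Statements.S12794
import Groth.Agent.Lib.Stk.Glue


set_option autoImplicit false
set_option backward.isDefEq.respectTransparency false
set_option backward.isDefEq.respectTransparency.types false
open CategoryTheory
universe w v u
open Stk

namespace Groth.Agent.S12794

open GrothLib.FibCat CategoryTheory.Functor

/-- Let `𝒳`, `𝒴` be stacks in groupoids over `C` for the topology `J` and `F : 𝒳 ⟶ 𝒴` a functor over `C`
whose underlying functor is fully faithful. Then `F` is an equivalence over `C` if and only if every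
object `y` of `𝒴` is locally in the essential image: there is a covering sieve `R` of the object
under `y` such that for every arrow `f` of `R` some object `x` of `𝒳` has a morphism `F x ⟶ y` lying
over `f` (equivalently, the pullback of `y` along `f` is isomorphic in its fibre to an object in the
image of `F`). (The published statement is for stacks over the site, not necessarily in groupoids,
and 1-morphisms of stacks; this row treats stacks in groupoids.) -/
theorem result {C : Type u} [Category.{v} C] (J : GrothendieckTopology C) {𝒳 𝒴 : BasedCategory.{v, max u v} C}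
    (h𝒳 : Stk.IsStack J 𝒳) (h𝒴 : Stk.IsStack J 𝒴) (F : 𝒳 ⥤ᵇ 𝒴) [F.toFunctor.Full] [F.toFunctor.Faithful] :
    FibCat.IsEquivOver F ↔
      ∀ y : 𝒴.obj, ∃ R ∈ J (𝒴.p.obj y), ∀ ⦃V : C⦄ (f : V ⟶ 𝒴.p.obj y), R f →
        ∃ (x : 𝒳.obj) (φ : F.obj x ⟶ y), 𝒴.p.IsHomLift f φ := by
  constructor
  · intro h y
    refine ⟨⊤, J.top_mem _, fun V f _ => ?_⟩
    obtain ⟨y', κ, hκ⟩ := h𝒴.1.exists_lift (x := y) f
    obtain ⟨x, e, he⟩ := IsEquivOver.essSurj h y'
    have hy' : 𝒴.p.obj y' = V := IsHomLift.domain_eq 𝒴.p f κ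
    have : 𝒴.p.IsHomLift (𝟙 V) e.hom := hy' ▸ he
    exact ⟨x, e.hom ≫ κ, IsHomLift.comp_lift_id_left' 𝒴.p V e.hom f κ⟩
  · intro H
    refine (isEquivOver_iff F).2 ⟨inferInstance, inferInstance, fun η => ?_⟩
    obtain ⟨R, hR, hloc⟩ := H η
    obtain ⟨G, eG, heG⟩ := Yon.exists_functor h𝒴.1 η (rfl : 𝒴.p.obj η = _)
    have hz : ∀ z : (_root_.Stk.sieveCat R).obj, ∃ (x : 𝒳.obj) (e : F.obj x ≅ G.obj z.obj),
        𝒴.p.IsHomLift (𝟙 z.obj.left) e.hom := fun z => by
      obtain ⟨x, φ, hφ⟩ := hloc z.obj.hom z.property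
      have := Yon.toId_lift z.obj
      have : 𝒴.p.IsHomLift z.obj.hom (G.map (Yon.toId z.obj)) := inferInstance
      have : 𝒴.p.IsHomLift z.obj.hom (G.map (Yon.toId z.obj) ≫ eG.hom) :=
        IsHomLift.comp_lift_id_right' 𝒴.p _ _ (𝒴.p.obj η) _
      obtain ⟨θ, hθ, -⟩ := IsFibGrpd.exists_iso_of_lifts h𝒴.1 z.obj.hom (G.map (Yon.toId z.obj) ≫ eG.hom) φ
      exact ⟨x, θ, hθ⟩
    obtain ⟨c, ⟨k⟩⟩ := GrothLib.Stk.exists_lift_of_ff F (BasedFunctor.comp (_root_.Stk.sieveIncl R) G) hz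
    have : (_root_.Stk.resSieve R 𝒳).IsEquivalence := h𝒳.2 R hR
    have : (_root_.Stk.resSieve R 𝒴).IsEquivalence := h𝒴.2 R hR
    let a := (_root_.Stk.resSieve R 𝒳).objPreimage c
    let i : BasedFunctor.comp (_root_.Stk.sieveIncl R) a ≅ c := (_root_.Stk.resSieve R 𝒳).objObjPreimageIso c
    let j : BasedFunctor.comp a F ≅ G := (_root_.Stk.resSieve R 𝒴).preimageIso
      (GrothLib.FibCat.whiskerRightIso i F ≪≫ k)
    have h1 : 𝒴.p.IsHomLift (𝟙 (𝒴.p.obj η)) (GrothLib.FibCat.isoApp j (Yon.idObj (𝒴.p.obj η))).hom :=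
      isHomLift_isoApp j rfl
    exact ⟨_, GrothLib.FibCat.isoApp j (Yon.idObj (𝒴.p.obj η)) ≪≫ eG, IsHomLift.comp_lift_id_right' 𝒴.p _ _ (𝒴.p.obj η) eG.hom⟩

end Groth.Agent.S12794
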