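import Groth.Statements.S12795
import Groth.Agent.Lib.Stk.Glue


set_option autoImplicit false
set_option backward.isDefEq.respectTransparency false
set_option backward.isDefEq.respectTransparency.types false
open CategoryTheory
universe w v u
open Stk

namespace Groth.Agent.S12795

open GrothLib.FibCat CategoryTheory.Functor

universe v' u'

/-- The inclusion of a full subcategory, over the base. -/
abbrev incl {D : Type u'} [Category.{v'} D] {𝒳 : BasedCategory.{v, max u v} D} (Q : ObjectProperty 𝒳.obj) :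
    BasedCategory.ofFunctor (Q.ι ⋙ 𝒳.p) ⥤ᵇ 𝒳 := { toFunctor := Q.ι, w := rfl }

/-- Let `𝒳` be a stack in groupoids over `C` for the topology `J` and `Q` a property of objects of `𝒳`
such that (1) for every morphism `y ⟶ x` of `𝒳` whose target satisfies `Q`, `y` is isomorphic, by an
isomorphism lying over an identity, to an object satisfying `Q`, and (3) for every covering sieve
`R` on `U` and every object `x` over `U`: if every source of a morphism to `x` lying over an arrow
of `R` is isomorphic over an identity to an object satisfying `Q`, then so is `x`. Then the full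
subcategory of `𝒳` on `Q`, with the restricted structure functor, is a stack in groupoids for `J`.
(The published statement has a further condition (2), fullness of the subcategory, which is built
into the full subcategory here; and its word isomorphic is read as isomorphic by an isomorphism
lying over an identity; the published statement is for stacks that are not necessarily in groupoids,
this row treats stacks in groupoids.) -/
theorem result {C : Type u} [Category.{v} C] (J : GrothendieckTopology C) {𝒳 : BasedCategory.{v, max u v} C}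
    (h𝒳 : Stk.IsStack J 𝒳) (Q : ObjectProperty 𝒳.obj)
    (h1 : ∀ ⦃y x : 𝒳.obj⦄ (φ : y ⟶ x), Q x → ∃ (y' : 𝒳.obj) (e : y ≅ y'), Q y' ∧ 𝒳.p.IsHomLift (𝟙 (𝒳.p.obj y)) e.hom)
    (h3 : ∀ ⦃U : C⦄ (R : Sieve U), R ∈ J U → ∀ (x : 𝒳.obj), 𝒳.p.obj x = U →
      (∀ ⦃V : C⦄ (f : V ⟶ U), R f → ∀ (y : 𝒳.obj) (φ : y ⟶ x), 𝒳.p.IsHomLift f φ →
        ∃ (y' : 𝒳.obj) (e : y ≅ y'), Q y' ∧ 𝒳.p.IsHomLift (𝟙 V) e.hom) →
      ∃ (x' : 𝒳.obj) (e : x ≅ x'), Q x' ∧ 𝒳.p.IsHomLift (𝟙 U) e.hom) :
    Stk.IsStack J (BasedCategory.ofFunctor (Q.ι ⋙ 𝒳.p)) := by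
  have : (incl Q).toFunctor.Full := inferInstanceAs Q.ι.Full
  have : (incl Q).toFunctor.Faithful := inferInstanceAs Q.ι.Faithful
  refine ⟨⟨fun {x} {V} f => ?_, fun {y x} φ => ?_⟩, fun U R hR => GrothLib.Stk.isStackFor_of_ff (incl Q) (h𝒳.2 R hR) ?_⟩
  · obtain ⟨y, φ, hφ⟩ := h𝒳.1.exists_lift (x := x.obj) f
    obtain ⟨y', e, hy', he⟩ := h1 φ x.property
    have hy : 𝒳.p.obj y = V := IsHomLift.domain_eq 𝒳.p f φ
    have : 𝒳.p.IsHomLift (𝟙 V) e.hom := hy ▸ he
    have := isHomLift_id_inv 𝒳.p (R := V) e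
    exact ⟨⟨y', hy'⟩, ObjectProperty.homMk (e.inv ≫ φ),
      ((incl Q).isHomLift_iff f _).1 (IsHomLift.comp_lift_id_left' 𝒳.p V e.inv f φ)⟩
  · have := h𝒳.1.isStronglyCartesian ((incl Q).map φ)
    exact isStronglyCartesian_of_map (F := incl Q) (𝒳.p.map ((incl Q).map φ)) φ
  intro G hz
  have hid : 𝒳.p.obj (G.obj (Yon.idObj U)) = U := G.w_obj (Yon.idObj U)
  obtain ⟨x', e0, hx', he0⟩ := h3 R hR (G.obj (Yon.idObj U)) hid fun V f hf y φ hφ => by
    obtain ⟨x, e, he⟩ := hz (GrothLib.Stk.arrowObj f hf)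
    have : (FibCat.overCat U).p.IsHomLift f (Yon.toId (Over.mk f : (FibCat.overCat U).obj)) :=
      Yon.toId_lift (Over.mk f : (FibCat.overCat U).obj)
    have : 𝒳.p.IsHomLift f (G.map (Yon.toId (Over.mk f : (FibCat.overCat U).obj))) := inferInstance
    obtain ⟨θ, hθ, -⟩ := IsFibGrpd.exists_iso_of_lifts h𝒳.1 f
      (G.map (Yon.toId (Over.mk f : (FibCat.overCat U).obj))) φ
    have : 𝒳.p.IsHomLift (𝟙 V) e.hom := he
    have := isHomLift_id_inv 𝒳.p (R := V) e
    exact ⟨x.obj, θ ≪≫ e.symm, x.property, IsHomLift.comp_lift_id_right' 𝒳.p _ _ V e.inv⟩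
  intro a
  obtain ⟨y', e, hy', he⟩ := h1 (G.map (Yon.toId a) ≫ e0.hom) hx'
  have ha : 𝒳.p.obj (G.obj a) = a.left := G.w_obj a
  have : 𝒳.p.IsHomLift (𝟙 a.left) e.hom := ha ▸ he
  exact ⟨⟨y', hy'⟩, e.symm, isHomLift_id_inv 𝒳.p (R := a.left) e⟩

end Groth.Agent.S12795
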