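import Groth.Statements.S12797
import Groth.Agent.Lib.Stk.OverCat


set_option autoImplicit false
set_option backward.isDefEq.respectTransparency false
set_option backward.isDefEq.respectTransparency.types false
open CategoryTheory
universe w v u
open Stk

namespace Groth.Agent.S12797

/-- For an object `U` of `C`, the slice category `C/U` with its forgetful functor to `C` is a stack in
groupoids for the topology `J` if and only if the representable presheaf `h_U` is a sheaf for `J`. -/
theorem result {C : Type u} [Category.{v} C] (J : GrothendieckTopology C) (U : C) :
    Stk.IsStack J (FibCat.overCat U) ↔ Presieve.IsSheaf J (yoneda.obj U) := by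
  exact GrothLib.Stk.isStack_overCat_iff J U

end Groth.Agent.S12797
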