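import Groth.Statements.S12798
import Groth.Agent.Lib.Stk.Glue
import Groth.Agent.Lib.FibCat.Fp


set_option autoImplicit false
set_option backward.isDefEq.respectTransparency false
set_option backward.isDefEq.respectTransparency.types false
open CategoryTheory
universe w v u
open Stk

namespace Groth.Agent.S12798

open GrothLib.FibCat CategoryTheory.Functor

/-- Let `𝒮₁`, `𝒮₂`, `𝒯₁` be stacks in groupoids over `C` for the topology `J`, and `F : 𝒮₂ ⟶ 𝒮₁`, `G :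
𝒯₁ ⟶ 𝒮₁` functors over `C` such that every object of `𝒮₁` is locally in the essential image of `F`.
If the first projection `𝒮₂ ×_{𝒮₁} 𝒯₁ ⟶ 𝒮₂` of the 2-fibre product over `C` is faithful, then `G` is
faithful. (The published statement is for any 2-cartesian square of stacks in groupoids; this row is
the case of the explicit 2-fibre product, to which the general case reduces because faithfulness is
invariant under equivalence.) -/
theorem result {C : Type u} [Category.{v} C] (J : GrothendieckTopology C) {𝒮₁ 𝒮₂ 𝒯₁ : BasedCategory.{v, max u v} C}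
    (h₁ : Stk.IsStack J 𝒮₁) (h₂ : Stk.IsStack J 𝒮₂) (h₃ : Stk.IsStack J 𝒯₁) (F : 𝒮₂ ⥤ᵇ 𝒮₁) (G : 𝒯₁ ⥤ᵇ 𝒮₁)
    (hF : ∀ y : 𝒮₁.obj, ∃ R ∈ J (𝒮₁.p.obj y), ∀ ⦃V : C⦄ (f : V ⟶ 𝒮₁.p.obj y), R f →
      ∃ (x : 𝒮₂.obj) (φ : F.obj x ⟶ y), 𝒮₁.p.IsHomLift f φ)
    (hG' : (FibCat.fpFst F G).toFunctor.Faithful) : G.toFunctor.Faithful := by
  refine ⟨fun {a b} {φ ψ} e => ?_⟩
  have e' : G.map φ = G.map ψ := e
  have hp : 𝒯₁.p.map φ = 𝒯₁.p.map ψ := by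
    have h1 := IsHomLift.fac 𝒮₁.p (𝒯₁.p.map φ) (G.map φ)
    have h2 := IsHomLift.fac 𝒮₁.p (𝒯₁.p.map ψ) (G.map ψ)
    rw [h1, h2]
    simp only [e']
  refine GrothLib.Stk.hom_ext_of_local h₁.1 h₃ F G hF φ ψ hp fun x a' b' θ φ' ψ' κ β hθ hφ' hψ' eφ eψ => ?_
  have hG : G.map φ' = G.map ψ' :=
    IsFibGrpd.hom_ext' h₁.1 (G.map β)
      (by rw [IsHomLift.fac' 𝒮₁.p (𝟙 (𝒮₂.p.obj x)) (G.map φ'), IsHomLift.fac' 𝒮₁.p (𝟙 (𝒮₂.p.obj x)) (G.map ψ')]) (by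
      rw [← G.map_comp, ← G.map_comp, eφ, eψ, G.map_comp, G.map_comp, e'])
  have := IsFibGrpd.isIso_of_isHomLift_id h₁.1 (R := 𝒮₂.p.obj x) (G.map φ')
  let o : (FibCat.fp F G).obj := Fp.mk (F := F) (G := G) x a' θ hθ
  let o' : (FibCat.fp F G).obj := Fp.mk (F := F) (G := G) x b' (θ ≪≫ asIso (G.map φ'))
    (IsHomLift.comp_lift_id_right' 𝒮₁.p _ θ.hom (𝒮₂.p.obj x) (G.map φ'))
  let m₁ : o ⟶ o' := Fp.homMk (𝟙 x) φ' (by
    change F.map (𝟙 x) ≫ θ.hom ≫ G.map φ' = θ.hom ≫ G.map φ'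
    rw [F.map_id]; exact Category.id_comp _)
  let m₂ : o ⟶ o' := Fp.homMk (𝟙 x) ψ' (by
    change F.map (𝟙 x) ≫ θ.hom ≫ G.map φ' = θ.hom ≫ G.map ψ'
    rw [F.map_id, hG]; exact Category.id_comp _)
  exact congrArg (fun t => t.hom.snd) (hG'.map_injective (a₁ := m₁) (a₂ := m₂) rfl)

end Groth.Agent.S12798
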