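import Groth.Statements.S12799
import Groth.Agent.Lib.Stk.Glue
import Groth.Agent.Lib.FibCat.Fp


set_option autoImplicit false
set_option backward.isDefEq.respectTransparency false
set_option backward.isDefEq.respectTransparency.types false
open CategoryTheory
universe w v u
open Stk

namespace Groth.Agent.S12799

open GrothLib.FibCat CategoryTheory.Functor

/-- Let `𝒮₁`, `𝒮₂`, `𝒯₁` be stacks in groupoids over `C` for the topology `J`, `F : 𝒮₂ ⟶ 𝒮₁` a functor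
over `C` whose underlying functor is fully faithful and such that every object of `𝒮₁` is locally in
the essential image of `F`, and `G : 𝒯₁ ⟶ 𝒮₁` a functor over `C`. If the 2-fibre product `𝒮₂ ×_{𝒮₁}
𝒯₁` over `C` is fibred in setoids, then `𝒯₁` is fibred in setoids, hence a stack in setoids. (The
published statement is for any 2-cartesian square of stacks in groupoids; this row is the case of
the explicit 2-fibre product, to which the general case reduces because being fibred in setoids is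
invariant under equivalence over `C`.) -/
theorem result {C : Type u} [Category.{v} C] (J : GrothendieckTopology C) {𝒮₁ 𝒮₂ 𝒯₁ : BasedCategory.{v, max u v} C}
    (h₁ : Stk.IsStack J 𝒮₁) (h₂ : Stk.IsStack J 𝒮₂) (h₃ : Stk.IsStack J 𝒯₁) (F : 𝒮₂ ⥤ᵇ 𝒮₁) [F.toFunctor.Full] [F.toFunctor.Faithful]
    (hF : ∀ y : 𝒮₁.obj, ∃ R ∈ J (𝒮₁.p.obj y), ∀ ⦃V : C⦄ (f : V ⟶ 𝒮₁.p.obj y), R f →
      ∃ (x : 𝒮₂.obj) (φ : F.obj x ⟶ y), 𝒮₁.p.IsHomLift f φ)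
    (G : 𝒯₁ ⥤ᵇ 𝒮₁) (h : FibCat.IsFibSetoid (FibCat.fp F G).p) : FibCat.IsFibSetoid 𝒯₁.p := by
  refine ⟨h₃.1, fun U => fun a b => ⟨fun u v => ?_⟩⟩
  have := u.2; have := v.2
  have hp : 𝒯₁.p.map u.1 = 𝒯₁.p.map v.1 := by
    rw [IsHomLift.fac' 𝒯₁.p (𝟙 U) u.1, IsHomLift.fac' 𝒯₁.p (𝟙 U) v.1]
  refine Subtype.ext (GrothLib.Stk.hom_ext_of_local h₁.1 h₃ F G hF u.1 v.1 hp fun x a' b' θ φ' ψ' κ β hθ hφ' hψ' _ _ => ?_)
  have := IsFibGrpd.isIso_of_isHomLift_id h₁.1 (R := 𝒮₂.p.obj x) (G.map φ')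
  let θ' : F.obj x ≅ G.obj b' := θ ≪≫ asIso (G.map φ')
  have hθ' : 𝒮₁.p.IsHomLift (𝟙 (𝒮₂.p.obj x)) θ'.hom :=
    IsHomLift.comp_lift_id_right' 𝒮₁.p _ θ.hom (𝒮₂.p.obj x) (G.map φ')
  have := isHomLift_id_inv 𝒮₁.p (R := 𝒮₂.p.obj x) θ'
  let n : x ⟶ x := F.toFunctor.preimage ((θ.hom ≫ G.map ψ') ≫ θ'.inv)
  have hn : 𝒮₂.p.IsHomLift (𝟙 (𝒮₂.p.obj x)) n := by
    rw [← F.isHomLift_iff, F.toFunctor.map_preimage]
    have : 𝒮₁.p.IsHomLift (𝟙 (𝒮₂.p.obj x)) (θ.hom ≫ G.map ψ') :=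
      IsHomLift.comp_lift_id_right' 𝒮₁.p _ θ.hom (𝒮₂.p.obj x) (G.map ψ')
    exact IsHomLift.comp_lift_id_right' 𝒮₁.p _ _ (𝒮₂.p.obj x) θ'.inv
  let o : (FibCat.fp F G).obj := Fp.mk (F := F) (G := G) x a' θ hθ
  let o' : (FibCat.fp F G).obj := Fp.mk (F := F) (G := G) x b' θ' hθ'
  let m₁ : o ⟶ o' := Fp.homMk (𝟙 x) φ' (by
    change F.map (𝟙 x) ≫ θ.hom ≫ G.map φ' = θ.hom ≫ G.map φ'
    rw [F.map_id]; exact Category.id_comp _)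
  let m₂ : o ⟶ o' := Fp.homMk n ψ' (by
    change F.map n ≫ θ'.hom = θ.hom ≫ G.map ψ'
    rw [F.toFunctor.map_preimage]; simp)
  have hm₁ : (FibCat.fp F G).p.IsHomLift (𝟙 (𝒮₂.p.obj x)) m₁ :=
    (Fp.isHomLift_iff m₁ _).2 (IsHomLift.id (rfl : 𝒮₂.p.obj x = _))
  have hm₂ : (FibCat.fp F G).p.IsHomLift (𝟙 (𝒮₂.p.obj x)) m₂ := (Fp.isHomLift_iff m₂ _).2 hn
  let A : (FibCat.fp F G).p.Fiber (𝒮₂.p.obj x) := Functor.Fiber.mk (a := o) rfl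
  let B : (FibCat.fp F G).p.Fiber (𝒮₂.p.obj x) := Functor.Fiber.mk (a := o') rfl
  let n₁ : A ⟶ B := ⟨m₁, hm₁⟩
  let n₂ : A ⟶ B := ⟨m₂, hm₂⟩
  exact congrArg (fun t => t.1.hom.snd) ((h.2 (𝒮₂.p.obj x) A B).elim n₁ n₂)

end Groth.Agent.S12799
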