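import Groth.Statements.S12803
import Groth.Agent.Lib.Stk.Topology


set_option autoImplicit false
set_option backward.isDefEq.respectTransparency false
set_option backward.isDefEq.respectTransparency.types false
open CategoryTheory
universe v₂ u₂ v u
open Stk

namespace Groth.Agent.S12803

/-- Let `p : 𝒳 ⥤ C` make `𝒳` fibred in groupoids over `C`, let `J` be a topology on `C` and `x` an
object of `𝒳`. The functor `𝒳/x ⥤ C/p(x)` induced by `p` is an equivalence of categories, and it
identifies the localisation at `x` of the topology on `𝒳` inherited from `J` with the localisation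
of `J` at `p x`: a sieve on an object of `𝒳/x` covers if and only if its image covers. -/
theorem result {C : Type u} [Category.{v} C] {𝒳 : Type u₂} [Category.{v₂} 𝒳] (p : 𝒳 ⥤ C)
    (hp : FibCat.IsFibGrpd p) (J : GrothendieckTopology C) (x : 𝒳) :
    (Over.post p : Over x ⥤ Over (p.obj x)).IsEquivalence ∧
      ∀ (a : Over x) (S : Sieve a), S ∈ (p.restrictedTopology J).over x a ↔
        S.functorPushforward (Over.post p) ∈ (J.over (p.obj x)) ((Over.post p).obj a) := by
  exact ⟨GrothLib.Stk.Topology.isEquivalence_overPost hp x, GrothLib.Stk.Topology.mem_over_iff hp J x⟩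

end Groth.Agent.S12803
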