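import Groth.Statements.S12806
import Groth.Agent.Lib.FibCat.Tower
import Groth.Agent.Lib.FibCat.Diag
import Groth.Agent.Lib.FibCat.OverCat


set_option autoImplicit false
set_option backward.isDefEq.respectTransparency false
set_option backward.isDefEq.respectTransparency.types false
open CategoryTheory
universe v u
open FibCat

namespace Groth.Agent.S12806

open CategoryTheory.Functor GrothLib.FibCat

/-- Let `𝒮` be fibred in groupoids over `C`, `U` an object of `C` and `x, y : C/U ⟶ 𝒮` two functors over
`C` (objects over `U` in 2-Yoneda form), with `e` the 2-isomorphism identifying their composites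
with the structure functor. Then the 2-fibre product over `C` of `(x, y) : C/U ⟶ 𝒮 ×_C 𝒮` with the
diagonal `𝒮 ⟶ 𝒮 ×_C 𝒮` is fibred in setoids over `C/U` through its first projection. (The published
statement is for a fibred category with `x`, `y` the functors given by chosen pullbacks; this row is
the case of a category fibred in groupoids, where every functor over `C` out of `C/U` is of that
kind.) -/
theorem result {C : Type u} [Category.{v} C] {𝒮 : BasedCategory.{v, max u v} C} (h𝒮 : FibCat.IsFibGrpd 𝒮.p)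
    (U : C) (x y : FibCat.overCat U ⥤ᵇ 𝒮)
    (e : BasedFunctor.comp x (FibCat.toSelf 𝒮) ≅ BasedFunctor.comp y (FibCat.toSelf 𝒮)) :
    FibCat.IsFibSetoid (FibCat.fpFst (FibCat.fpLift x y e) (FibCat.diag (FibCat.toSelf 𝒮))).toFunctor := by
    let t := FibCat.toSelf 𝒮
    let w := FibCat.fpLift x y e
    have gP := Fp.isFibGrpd (F := t) (G := t) h𝒮 h𝒮 isFibGrpd_selfOver
    have gA := Fp.isFibGrpd (F := w) (G := FibCat.diag t) (isFibGrpd_overCat U) h𝒮 gP
    refine ⟨(Tower.isFibGrpd_iff_comp (F := (FibCat.fpFst w (FibCat.diag t)).toFunctor) (G := Over.forget U)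
      (isFibSet_overForget U)).2 gA, fun c a b => ⟨fun φ ψ => Fiber.hom_ext (Fp.hom_ext ?_ ?_)⟩⟩
    · have h1 := φ.2
      have h2 := ψ.2
      exact (GrothLib.FibCat.map_eq_eqToHom (FibCat.fpFst w (FibCat.diag t)).toFunctor (R := c) φ.1).trans
        (GrothLib.FibCat.map_eq_eqToHom (FibCat.fpFst w (FibCat.diag t)).toFunctor (R := c) ψ.1).symm
    · have h1 := φ.2
      have h2 := ψ.2
      have e1 : φ.1.hom.fst = ψ.1.hom.fst :=
        (GrothLib.FibCat.map_eq_eqToHom (FibCat.fpFst w (FibCat.diag t)).toFunctor (R := c) φ.1).trans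
          (GrothLib.FibCat.map_eq_eqToHom (FibCat.fpFst w (FibCat.diag t)).toFunctor (R := c) ψ.1).symm
      let ia := Fp.isoFst a.1.obj.iso
      have w1 : x.map φ.1.hom.fst ≫ b.1.obj.iso.hom.hom.fst = ia.hom ≫ φ.1.hom.snd :=
        congrArg (fun s => s.hom.fst) (Fp.w φ.1)
      have w2 : x.map ψ.1.hom.fst ≫ b.1.obj.iso.hom.hom.fst = ia.hom ≫ ψ.1.hom.snd :=
        congrArg (fun s => s.hom.fst) (Fp.w ψ.1)
      rw [e1] at w1
      exact (cancel_epi ia.hom).1 (w1.symm.trans w2)

end Groth.Agent.S12806
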