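import Groth.Statements.S12807


set_option autoImplicit false
set_option backward.isDefEq.respectTransparency false
set_option backward.isDefEq.respectTransparency.types false
open CategoryTheory CategoryTheory.Limits
universe v₃ u₃ v₂ u₂ v u
open FibCat

namespace Groth.Agent.S12807

open CategoryTheory.Functor CategoryTheory.Limits

/-- Let `u : C ⥤ D` be a functor and `𝒮` a category over `D` whose structure functor is a fibred
category. Then the 2-fibre product `C ×_D 𝒮` of `u` and the structure functor (triples `(U, y, u U ≅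
p y)`), with its first projection, is a fibred category over `C`. (The published statement uses the
strict fibre product, pairs with `u U = p y`; for `𝒮` fibred over `D` it is equivalent over `C` to
the 2-fibre product used here.) -/
theorem result {C : Type u} [Category.{v} C] {D : Type u₂} [Category.{v₂} D] (u : C ⥤ D)
    (𝒮 : BasedCategory.{v₃, u₃} D) [𝒮.p.IsFibered] :
    (CategoricalPullback.π₁ u 𝒮.p).IsFibered := by
    refine IsFibered.of_exists_isStronglyCartesian fun x U f => ?_
    let f₀ : U ⟶ x.fst := f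
    let g := u.map f₀ ≫ x.iso.hom
    let l := IsPreFibered.pullbackMap (p := 𝒮.p) (rfl : 𝒮.p.obj x.snd = _) g
    have hl := IsFibered.isStronglyCartesian_of_isCartesian 𝒮.p g l
    have hd := IsHomLift.domain_eq 𝒮.p g l
    let a : CategoricalPullback u 𝒮.p := ⟨U, _, eqToIso hd.symm⟩
    let φ : a ⟶ x := ⟨f₀, l, by
      change u.map f₀ ≫ x.iso.hom = eqToHom hd.symm ≫ 𝒮.p.map l
      rw [IsHomLift.fac' 𝒮.p g l]
      simp [g]⟩
    refine ⟨a, φ, ?_⟩
    have : (CategoricalPullback.π₁ u 𝒮.p).IsHomLift f φ := IsHomLift.map (CategoricalPullback.π₁ u 𝒮.p) φ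
    refine { universal_property' := fun {z} g₁ ψ hψ => ?_ }
    have he : g₁ ≫ f₀ = ψ.fst := IsHomLift.eq_of_isHomLift (CategoricalPullback.π₁ u 𝒮.p) (g₁ ≫ f) ψ
    let b : 𝒮.p.obj z.snd ⟶ u.obj U := z.iso.inv ≫ u.map g₁
    have hb : 𝒮.p.map ψ.snd = b ≫ g := by
      have hw := ψ.w
      rw [← he, u.map_comp, Category.assoc] at hw
      simp only [b, g, Category.assoc]
      exact (Iso.eq_inv_comp _).2 hw.symm
    let χ := IsStronglyCartesian.map 𝒮.p g l (g := b) hb ψ.snd
    have hχ : 𝒮.p.IsHomLift b χ := IsStronglyCartesian.map_isHomLift 𝒮.p g l hb ψ.snd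
    let Χ : z ⟶ a := ⟨g₁, χ, by
      change u.map g₁ ≫ eqToHom hd.symm = z.iso.hom ≫ 𝒮.p.map χ
      rw [IsHomLift.fac' 𝒮.p b χ]
      simp [b]⟩
    refine ⟨Χ, ⟨IsHomLift.map (CategoricalPullback.π₁ u 𝒮.p) Χ,
      CategoricalPullback.hom_ext he (IsStronglyCartesian.fac 𝒮.p g l hb ψ.snd)⟩, fun m hm => ?_⟩
    have := hm.1
    have hm₁ : g₁ = m.fst := IsHomLift.eq_of_isHomLift (CategoricalPullback.π₁ u 𝒮.p) g₁ m
    refine CategoricalPullback.hom_ext hm₁.symm ?_
    have : 𝒮.p.IsHomLift b m.snd := by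
      refine IsHomLift.of_fac' 𝒮.p b m.snd rfl hd ?_
      have hw : u.map m.fst ≫ eqToHom hd.symm = z.iso.hom ≫ 𝒮.p.map m.snd := m.w
      rw [← hm₁] at hw
      simp only [b, eqToHom_refl, Category.id_comp, Category.assoc]
      exact (Iso.eq_inv_comp _).2 hw.symm
    exact IsStronglyCartesian.map_uniq 𝒮.p g l hb ψ.snd m.snd (congrArg CategoricalPullback.Hom.snd hm.2)

end Groth.Agent.S12807
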