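import Groth.Statements.S12809
import Groth.Agent.Lib.Stk.Glue


set_option autoImplicit false
set_option backward.isDefEq.respectTransparency false
set_option backward.isDefEq.respectTransparency.types false
open CategoryTheory
universe v u
open Stk

namespace Groth.Agent.S12809

open GrothLib.FibCat CategoryTheory.Functor

section

variable {C : Type u} [Category.{v} C] {U : C} (R : Sieve U)

/-- The sieve on `𝟙 U` in `C/U` given by a sieve on `U`. -/
abbrev sieveAtId : Sieve (Yon.idObj U : Over U) := (Sieve.overEquiv (Yon.idObj U : Over U)).symm R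

/-- Arrows of `sieveAtId R`, as arrows of `R`. -/
def toSieve : (Stk.sieveCat (sieveAtId R)).obj ⥤ (Stk.sieveCat R).obj :=
  ObjectProperty.lift _ (ObjectProperty.ι _ ⋙ Over.forget _) fun z => by
    have h : R z.obj.hom.left := z.property
    have e : z.obj.hom.left = z.obj.left.hom := (Category.comp_id _).symm.trans (Over.w z.obj.hom)
    change R.arrows z.obj.left.hom
    rw [← e]; exact h

/-- An object of `C/U` as an object over `𝟙 U`. -/
def atId (U : C) : (FibCat.overCat U).obj ⥤ Over (Yon.idObj U : Over U) where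
  obj w := Over.mk (Yon.toId w)
  map φ := Over.homMk φ (Yon.map_comp_toId φ)

theorem comp_lift {A : Type*} [Category A] {D : Type*} [Category D] (p : A ⥤ D) (g : D ⥤ C) {a b : A}
    {r s : D} (f : r ⟶ s) (φ : a ⟶ b) [p.IsHomLift f φ] : (p ⋙ g).IsHomLift (g.map f) φ := by
  subst_hom_lift p f φ
  exact IsHomLift.map (p ⋙ g) φ

variable {𝒮 𝒯 : BasedCategory.{v, max u v} C} {y : FibCat.overCat U ⥤ᵇ 𝒯} {F : 𝒮 ⥤ᵇ 𝒯}

/-- The fibre product over `C/U`. -/
abbrev overFst (y : FibCat.overCat U ⥤ᵇ 𝒯) (F : 𝒮 ⥤ᵇ 𝒯) :=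
  BasedCategory.ofFunctor ((FibCat.fpFst y F).toFunctor : (FibCat.fp y F).obj ⥤ Over U)

/-- The functor over `C` given by one over `C/U`. -/
abbrev downOver (a : FibCat.overCat (Yon.idObj U : Over U) ⥤ᵇ (overFst y F)) : FibCat.overCat U ⥤ᵇ FibCat.fp y F where
  toFunctor := atId U ⋙ a.toFunctor
  w := congrArg (fun G : Over (Yon.idObj U : Over U) ⥤ Over U => atId U ⋙ G ⋙ Over.forget U) a.w

theorem exists_lift_section (h : Stk.IsStackFor (sieveAtId R) (overFst y F)) (c : Stk.sieveCat R ⥤ᵇ 𝒮)
    (i : BasedFunctor.comp (Stk.sieveIncl R) y ≅ BasedFunctor.comp c F) :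
    ∃ a : FibCat.overCat U ⥤ᵇ 𝒮, Nonempty (BasedFunctor.comp (Stk.sieveIncl R) a ≅ c) := by
  let c₀ := FibCat.fpLift (F := y) (G := F) (Stk.sieveIncl R) c i
  let c' : Stk.sieveCat (sieveAtId R) ⥤ᵇ (overFst y F) := { toFunctor := toSieve R ⋙ c₀.toFunctor, w := rfl }
  have : (Stk.resSieve (sieveAtId R) (overFst y F)).IsEquivalence := h
  let a := (Stk.resSieve (sieveAtId R) (overFst y F)).objPreimage c'
  let k : BasedFunctor.comp (Stk.sieveIncl (sieveAtId R)) a ≅ c' :=
    (Stk.resSieve (sieveAtId R) (overFst y F)).objObjPreimageIso c'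
  let z : (Stk.sieveCat R).obj → (Stk.sieveCat (sieveAtId R)).obj := fun w => ⟨(atId U).obj w.obj, w.property⟩
  refine ⟨BasedFunctor.comp (downOver a) (FibCat.fpSnd y F),
    ⟨natIsoOfComponents (fun w => Fp.isoSnd (GrothLib.FibCat.isoApp k (z w))) (fun w => ?_) (fun {w w'} φ => ?_)⟩⟩
  · have h1 : (FibCat.fpFst y F).toFunctor.IsHomLift (𝟙 w.obj) (k.hom.toNatTrans.app (z w)) :=
      k.hom.isHomLift' (z w)
    have h2 : (FibCat.fp y F).p.IsHomLift (𝟙 w.obj.left) (k.hom.toNatTrans.app (z w)) :=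
      comp_lift (FibCat.fpFst y F).toFunctor (Over.forget U) (𝟙 w.obj) (k.hom.toNatTrans.app (z w))
    exact Fp.isHomLift_snd _ _ h2
  · exact congrArg (fun t => t.hom.snd)
      (k.hom.toNatTrans.naturality (X := z w) (Y := z w') (ObjectProperty.homMk ((atId U).map φ.hom)))

theorem exists_lift_map {x x' : FibCat.overCat U ⥤ᵇ 𝒮}
    (h : ∀ y : FibCat.overCat U ⥤ᵇ 𝒯, Stk.IsStackFor (sieveAtId R)
      (BasedCategory.ofFunctor ((FibCat.fpFst y F).toFunctor : (FibCat.fp y F).obj ⥤ Over U)))
    (hT : FibCat.IsFibGrpd 𝒯.p) (γ : BasedFunctor.comp x F ⟶ BasedFunctor.comp x' F)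
    (β : BasedFunctor.comp (Stk.sieveIncl R) x ⟶ BasedFunctor.comp (Stk.sieveIncl R) x')
    (e : ∀ t, γ.toNatTrans.app t.obj = F.map (β.toNatTrans.app t)) :
    ∃ δ : x ⟶ x', (Stk.resSieve R 𝒮).map δ = β := by
  let y := BasedFunctor.comp x F
  let Z := BasedCategory.ofFunctor ((FibCat.fpFst y F).toFunctor : (FibCat.fp y F).obj ⥤ Over U)
  let s := FibCat.fpLift (F := y) (G := F) (BasedFunctor.id _) x (Iso.refl _)
  let s' := FibCat.fpLift (F := y) (G := F) (BasedFunctor.id _) x' (GrothLib.Stk.isoOfHom hT γ)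
  let S : FibCat.overCat (Yon.idObj U : Over U) ⥤ᵇ Z := { toFunctor := Over.forget _ ⋙ s.toFunctor, w := rfl }
  let S' : FibCat.overCat (Yon.idObj U : Over U) ⥤ᵇ Z := { toFunctor := Over.forget _ ⋙ s'.toFunctor, w := rfl }
  let w₀ : (Stk.resSieve (sieveAtId R) Z).obj S ⟶ (Stk.resSieve (sieveAtId R) Z).obj S' :=
    { toNatTrans :=
        { app := fun t => Fp.homMk (a := s.obj t.obj.left) (b := s'.obj t.obj.left) (𝟙 t.obj.left)
            (β.toNatTrans.app ((toSieve R).obj t)) (by
              change F.map (x.map (𝟙 t.obj.left)) ≫ γ.toNatTrans.app t.obj.left =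
                𝟙 _ ≫ F.map (β.toNatTrans.app ((toSieve R).obj t))
              rw [← e, x.map_id, F.map_id]; rfl)
          naturality := fun t t' φ => Fp.hom_ext
            ((Category.comp_id _).trans (Category.id_comp _).symm)
            (β.toNatTrans.naturality ((toSieve R).map φ)) }
      isHomLift' := fun t => IsHomLift.of_fac (FibCat.fpFst y F).toFunctor (𝟙 t.obj.left) _ rfl rfl (by simp; rfl) }
  have : (Stk.resSieve (sieveAtId R) Z).IsEquivalence := h y
  obtain ⟨δ, hδ⟩ := (Stk.resSieve (sieveAtId R) Z).map_surjective w₀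
  refine ⟨{ toNatTrans :=
              { app := fun w => (δ.toNatTrans.app ((atId U).obj w)).hom.snd
                naturality := fun w w' φ =>
                  congrArg (fun t => t.hom.snd) (δ.toNatTrans.naturality ((atId U).map φ)) }
            isHomLift' := fun w => ?_ }, GrothLib.FibCat.natTrans_ext fun t => congrArg (fun s => s.hom.snd)
              (GrothLib.Stk.natTrans_congr_app hδ (⟨(atId U).obj t.obj, t.property⟩ : (Stk.sieveCat (sieveAtId R)).obj))⟩
  have h1 : (FibCat.fpFst y F).toFunctor.IsHomLift (𝟙 w) (δ.toNatTrans.app ((atId U).obj w)) :=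
    δ.isHomLift' ((atId U).obj w)
  have h2 : (FibCat.fp y F).p.IsHomLift (𝟙 w.left) (δ.toNatTrans.app ((atId U).obj w)) :=
    comp_lift (FibCat.fpFst y F).toFunctor (Over.forget U) (𝟙 w) (δ.toNatTrans.app ((atId U).obj w))
  exact Fp.isHomLift_snd (δ.toNatTrans.app ((atId U).obj w)) (𝟙 w.left) h2

end

/-- Let `F : 𝒮 ⟶ 𝒯` be a functor over `C` between categories fibred in groupoids, with `𝒯` a stack in
groupoids for the topology `J` and the underlying functor of `F` faithful. Assume that for every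
object `U` and every `y : C/U ⟶ 𝒯` over `C`, the 2-fibre product `(C/U) ×_𝒯 𝒮`, viewed as a category
over `C/U` through its first projection, is a stack for the topology on `C/U` induced by `J`. Then
`𝒮` is a stack in groupoids for `J`. (The published statement asks `F` to be faithful on fibre
categories, which for categories fibred in groupoids is faithfulness of `F`, and phrases the last
hypothesis as the sheaf property, on `C/U`, of the presheaf of isomorphism classes of pairs `(x, F x
≅ y|_V)`; that presheaf is the presheaf of isomorphism classes of this 2-fibre product, which is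
fibred in setoids over `C/U`.) -/
theorem result {C : Type u} [Category.{v} C] (J : GrothendieckTopology C) {𝒮 𝒯 : BasedCategory.{v, max u v} C}
    (h𝒮 : FibCat.IsFibGrpd 𝒮.p) (h𝒯 : Stk.IsStack J 𝒯) (F : 𝒮 ⥤ᵇ 𝒯) [F.toFunctor.Faithful]
    (h3 : ∀ (U : C) (y : FibCat.overCat U ⥤ᵇ 𝒯),
      Stk.IsStack (J.over U) (BasedCategory.ofFunctor ((FibCat.fpFst y F).toFunctor : (FibCat.fp y F).obj ⥤ Over U))) :
    Stk.IsStack J 𝒮 := by
  refine ⟨h𝒮, fun U R hR => ?_⟩
  have hY : (Stk.resSieve R 𝒯).IsEquivalence := h𝒯.2 R hR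
  have hmem : sieveAtId R ∈ (J.over U) (Yon.idObj U : Over U) := by
    rw [GrothendieckTopology.mem_over_iff]; simp only [sieveAtId, OrderIso.apply_symm_apply]; exact hR
  refine { faithful := ⟨fun {x x' α α'} e => GrothLib.FibCat.natTrans_ext fun z => F.toFunctor.map_injective ?_⟩,
           full := ⟨fun {x x'} β => ?_⟩, essSurj := ⟨fun c => ?_⟩ }
  · exact GrothLib.Stk.natTrans_congr_app ((Stk.resSieve R 𝒯).map_injective
      (a₁ := BasedCategory.whiskerRight α F) (a₂ := BasedCategory.whiskerRight α' F)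
      (GrothLib.FibCat.natTrans_ext fun w => congrArg F.map (GrothLib.Stk.natTrans_congr_app e w))) z
  · obtain ⟨γ, hγ⟩ := (Stk.resSieve R 𝒯).map_surjective
      (X := BasedFunctor.comp x F) (Y := BasedFunctor.comp x' F) (BasedCategory.whiskerRight β F)
    exact exists_lift_map R (fun y => (h3 U y).2 _ hmem) h𝒯.1 γ β
      fun t => GrothLib.Stk.natTrans_congr_app hγ t
  · let y := (Stk.resSieve R 𝒯).objPreimage (BasedFunctor.comp c F)
    exact exists_lift_section R ((h3 U y).2 _ hmem) c ((Stk.resSieve R 𝒯).objObjPreimageIso _)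

end Groth.Agent.S12809
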