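import Groth.Statements.S12812
import Groth.Agent.Lib.Stk.Upp


set_option autoImplicit false
set_option backward.isDefEq.respectTransparency false
set_option backward.isDefEq.respectTransparency.types false
open CategoryTheory CategoryTheory.Limits
universe v₃ u₃ v₂ u₂ v u
open Stk

namespace Groth.Agent.S12812

/-- Let `u : C ⥤ D` be a functor, where `C` has all nonempty finite limits and `u` preserves them, and
let `𝒮` be a fibred category over `C`. In the category `u_pp 𝒮` over `D` — objects `(x, V, φ : V ⟶ u
(p x))`, morphisms the pairs `(x ⟶ x', V ⟶ V')` compatible with the structure morphisms — the class
`R` of morphisms whose component in `𝒮` is strongly cartesian and whose component in `D` is an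
isomorphism is a right multiplicative system: it contains identities, is stable under composition,
and satisfies the two right Ore conditions. (The published statement takes the class with
`D`-component an identity; the class used here consists of those morphisms composed with
isomorphisms of `u_pp 𝒮` and has the same localisation.) -/
theorem result {C : Type u} [Category.{v} C] {D : Type u₂} [Category.{v₂} D] (u : C ⥤ D)
    (𝒮 : BasedCategory.{v₃, u₃} C) [𝒮.p.IsFibered]
    (hC : ∀ (I : Type) [SmallCategory I] [FinCategory I], Nonempty I → HasLimitsOfShape I C)
    (hu : ∀ (I : Type) [SmallCategory I] [FinCategory I], Nonempty I → PreservesLimitsOfShape I u) :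
    (Stk.uppR u 𝒮).HasRightCalculusOfFractions := by
  exact GrothLib.Stk.Upp.finite_limits_hyps u 𝒮 hC hu

end Groth.Agent.S12812
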