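import Groth.Statements.S12813
import Groth.Agent.Lib.Stk.Upp


set_option autoImplicit false
set_option backward.isDefEq.respectTransparency false
set_option backward.isDefEq.respectTransparency.types false
open CategoryTheory CategoryTheory.Limits
universe v₃ u₃ v₂ u₂ v u
open Stk

namespace Groth.Agent.S12813

/-- Let `u : C ⥤ D` be a functor, where `C` has all nonempty finite limits and `u` preserves them, and
let `𝒮` be a fibred category over `C`. Then the localisation `u_p 𝒮 = R⁻¹ (u_pp 𝒮)` of the category
`u_pp 𝒮` at the class `R` of morphisms with strongly cartesian `𝒮`-component and invertible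
`D`-component, with the functor to `D` induced by `(x, V, φ) ↦ V`, is a fibred category over `D`.
(The published statement takes `R` with `D`-component an identity, which has the same localisation.) -/
theorem result {C : Type u} [Category.{v} C] {D : Type u₂} [Category.{v₂} D] (u : C ⥤ D)
    (𝒮 : BasedCategory.{v₃, u₃} C) [𝒮.p.IsFibered]
    (hC : ∀ (I : Type) [SmallCategory I] [FinCategory I], Nonempty I → HasLimitsOfShape I C)
    (hu : ∀ (I : Type) [SmallCategory I] [FinCategory I], Nonempty I → PreservesLimitsOfShape I u) :
    (Stk.up u 𝒮).p.IsFibered := by
  have := GrothLib.Stk.Upp.finite_limits_hyps u 𝒮 hC hu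
  exact GrothLib.Stk.Upp.isFibered_up u 𝒮

end Groth.Agent.S12813
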