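import Groth.Statements.S12814
import Groth.Agent.Lib.Stk.Upp


set_option autoImplicit false
set_option backward.isDefEq.respectTransparency false
set_option backward.isDefEq.respectTransparency.types false
open CategoryTheory CategoryTheory.Limits
universe v₃ u₃ v₂ u₂ v u
open Stk

namespace Groth.Agent.S12814

/-- Let `u : C ⥤ D` be a functor, where `C` has all nonempty finite limits and `u` preserves them, and
let `𝒮` be fibred in groupoids over `C`. Then the localisation `u_p 𝒮 = R⁻¹ (u_pp 𝒮)`, with the
functor to `D` induced by `(x, V, φ) ↦ V`, is fibred in groupoids over `D`. (The published statement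
takes `R` with `D`-component an identity, which has the same localisation.) -/
theorem result {C : Type u} [Category.{v} C] {D : Type u₂} [Category.{v₂} D] (u : C ⥤ D)
    (𝒮 : BasedCategory.{v₃, u₃} C) (h𝒮 : FibCat.IsFibGrpd 𝒮.p)
    (hC : ∀ (I : Type) [SmallCategory I] [FinCategory I], Nonempty I → HasLimitsOfShape I C)
    (hu : ∀ (I : Type) [SmallCategory I] [FinCategory I], Nonempty I → PreservesLimitsOfShape I u) :
    FibCat.IsFibGrpd (Stk.up u 𝒮).p := by
  have : 𝒮.p.IsFibered := GrothLib.FibCat.IsFibGrpd.isFibered h𝒮
  have := GrothLib.Stk.Upp.finite_limits_hyps u 𝒮 hC hu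
  exact GrothLib.Stk.Upp.isFibGrpd_up u 𝒮 h𝒮

end Groth.Agent.S12814
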