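import Groth.Statements.S12816
import Groth.Agent.Lib.FibCat.Yoneda


set_option autoImplicit false
set_option backward.isDefEq.respectTransparency false
set_option backward.isDefEq.respectTransparency.types false
open CategoryTheory
universe v u
open Stk

namespace Groth.Agent.S12816

/-- Let `𝒳`, `𝒴` be fibred in groupoids over `C` and `F : 𝒳 ⟶ 𝒴` a functor over `C`. Then the underlying
functor of `F` is fully faithful if and only if, for every object `U` of `C`, postcomposition with
`F` is a fully faithful functor from the category of functors `C/U ⟶ 𝒳` over `C` to that of functors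
`C/U ⟶ 𝒴` over `C`; under the 2-Yoneda lemma the latter says that `F` induces bijections between
morphisms of pullbacks `x|_V ⟶ y|_V` and `F(x)|_V ⟶ F(y)|_V` for all objects `x, y` over `U` and all
`V ⟶ U`, that is, isomorphisms of the presheaves of morphisms. (The published statement is for
stacks over a site, not necessarily in groupoids; the stack property plays no role and is not
assumed here, and this row treats categories fibred in groupoids.) -/
theorem result {C : Type u} [Category.{v} C] {𝒳 𝒴 : BasedCategory.{v, max u v} C}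
    (h𝒳 : FibCat.IsFibGrpd 𝒳.p) (h𝒴 : FibCat.IsFibGrpd 𝒴.p) (F : 𝒳 ⟶ 𝒴) :
    (F.toFunctor.Full ∧ F.toFunctor.Faithful) ↔
      ∀ U : C, (Bicategory.postcomp (FibCat.overCat U) F).Full ∧ (Bicategory.postcomp (FibCat.overCat U) F).Faithful := by
  open GrothLib.FibCat in
  have key : ∀ U : C, ((Bicategory.postcomp (FibCat.overCat U) F).Full ∧ (Bicategory.postcomp (FibCat.overCat U) F).Faithful) ↔
      ((FibCat.fiberFunctor F U).Full ∧ (FibCat.fiberFunctor F U).Faithful) := by
    intro U
    have := Yon.evalAtId_isEquivalence (U := U) h𝒳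
    have := Yon.evalAtId_isEquivalence (U := U) h𝒴
    have sq : Bicategory.postcomp (FibCat.overCat U) F ⋙ FibCat.evalAtId 𝒴 U = FibCat.evalAtId 𝒳 U ⋙ FibCat.fiberFunctor F U :=
      rfl
    constructor
    · rintro ⟨_, _⟩
      have : (FibCat.evalAtId 𝒳 U ⋙ FibCat.fiberFunctor F U).Full := sq ▸ inferInstance
      have : (FibCat.evalAtId 𝒳 U ⋙ FibCat.fiberFunctor F U).Faithful := sq ▸ inferInstance
      have i : (FibCat.evalAtId 𝒳 U).asEquivalence.inverse ⋙ (FibCat.evalAtId 𝒳 U ⋙ FibCat.fiberFunctor F U) ≅ FibCat.fiberFunctor F U :=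
        (Functor.associator _ _ _).symm ≪≫ Functor.isoWhiskerRight (FibCat.evalAtId 𝒳 U).asEquivalence.counitIso _ ≪≫ Functor.leftUnitor _
      exact ⟨Functor.Full.of_iso i, Functor.Faithful.of_iso i⟩
    · rintro ⟨_, _⟩
      have : (Bicategory.postcomp (FibCat.overCat U) F ⋙ FibCat.evalAtId 𝒴 U).Full := by rw [sq]; infer_instance
      have : (Bicategory.postcomp (FibCat.overCat U) F ⋙ FibCat.evalAtId 𝒴 U).Faithful := by rw [sq]; infer_instance
      exact ⟨Functor.Full.of_comp_faithful _ (FibCat.evalAtId 𝒴 U), Functor.Faithful.of_comp _ (FibCat.evalAtId 𝒴 U)⟩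
  have := IsFibGrpd.isFibered h𝒳
  have hG := IsFibGrpd.preservesStronglyCartesian h𝒴 F
  exact ⟨fun ⟨h1, h2⟩ U => (key U).2 ⟨full_fiberFunctor F U, faithful_fiberFunctor F U⟩,
    fun h => ⟨full_of_fiberFunctor F hG fun U => ((key U).1 (h U)).1, faithful_of_fiberFunctor F hG fun U => ((key U).1 (h U)).2⟩⟩

end Groth.Agent.S12816
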