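import Groth.Statements.S12830
import Groth.Agent.Lib.AlgSt.UnivProps


set_option autoImplicit false
set_option backward.isDefEq.respectTransparency false
set_option backward.isDefEq.respectTransparency.types false
universe u
open CategoryTheory AlgebraicGeometry
open AlgSt

namespace Groth.Agent.S12830

/-- For a morphism `f : 𝒳 ⟶ 𝒴` of algebraic stacks over `S` that is representable by algebraic spaces,
every base change of `f` to a scheme is a universal homeomorphism as a morphism of algebraic spaces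
exactly when, for each morphism of algebraic stacks `𝒵 ⟶ 𝒴`, the induced map on points `|𝒵 ×_𝒴 𝒳| →
|𝒵|` is a homeomorphism. -/
theorem result {S : Scheme.{u}} {𝒳 𝒴 : AlgSt.Cat S}
    (h𝒳 : AlgSt.IsAlgStack Scheme.fppfPrecoverage 𝒳) (h𝒴 : AlgSt.IsAlgStack Scheme.fppfPrecoverage 𝒴) (f : 𝒳 ⥤ᵇ 𝒴) (hf : AlgSt.RepByAlgSp1 f) :
    AlgSt.RepByAlgSpWith AlgSp.IsUnivHomeoMor f ↔ AlgSt.IsUnivHomeo Scheme.fppfPrecoverage f := by
  exact ⟨fun h => GrothLib.AlgSt.forall_of_repByAlgSpWith @IsHomeomorph GrothLib.AlgSt.mapPropInv_isHomeomorph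
      GrothLib.AlgSt.mapPropDesc_isHomeomorph h𝒳 h𝒴 h,
    fun h => GrothLib.AlgSt.repByAlgSpWith_of_forall @IsHomeomorph GrothLib.AlgSt.mapPropInv_isHomeomorph h𝒳 h𝒴 hf h⟩

end Groth.Agent.S12830
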