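import Groth.Statements.S12832
import Groth.Agent.Lib.AlgSt.DiagPoints


set_option autoImplicit false
set_option backward.isDefEq.respectTransparency false
set_option backward.isDefEq.respectTransparency.types false
universe u
open CategoryTheory AlgebraicGeometry
open AlgSt

namespace Groth.Agent.S12832

/-- (2) ⇔ (3): for a morphism `f : 𝒳 ⟶ 𝒴` of algebraic stacks over `S`, the diagonal `𝒳 ⟶ 𝒳 ×_𝒴 𝒳` is
surjective on points if and only if for every algebraically closed field `k`, all `x₁, x₂ : Spec k ⟶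
𝒳` and every 2-arrow `β : f ∘ x₁ ⟶ f ∘ x₂` there is a 2-arrow `α : x₁ ⟶ x₂` with `β = f ⋆ α`; the
2-arrows are written through objects `a₁, a₂` of `𝒳` over `Spec k` and morphisms lying over the
identity of `Spec k`. -/
theorem result {S : Scheme.{u}} {𝒳 𝒴 : AlgSt.Cat S}
    (h𝒳 : AlgSt.IsAlgStack Scheme.fppfPrecoverage 𝒳) (h𝒴 : AlgSt.IsAlgStack Scheme.fppfPrecoverage 𝒴) (f : 𝒳 ⥤ᵇ 𝒴) :
    AlgSt.IsSurjective (FibCat.diag f) ↔
      ∀ (k : Type u) [Field k] [IsAlgClosed k] (s : Spec (CommRingCat.of k) ⟶ S) (a₁ a₂ : 𝒳.obj)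
        (_ : 𝒳.p.obj a₁ = Over.mk s) (_ : 𝒳.p.obj a₂ = Over.mk s) (β : f.obj a₁ ⟶ f.obj a₂),
        𝒴.p.IsHomLift (𝟙 (Over.mk s)) β →
          ∃ α : a₁ ⟶ a₂, 𝒳.p.IsHomLift (𝟙 (Over.mk s)) α ∧ f.map α = β := by
  refine ⟨fun h k _ _ s a₁ a₂ h₁ h₂ β hβ => ?_,
    GrothLib.AlgSt.isSurjective_diag_of_forall_lift h𝒳.isStack.1 h𝒴.isStack.1 f⟩
  have := GrothLib.FibCat.IsFibGrpd.isIso_of_isHomLift_id h𝒴.isStack.1 (R := Over.mk s) β
  let o : (FibCat.fp f f).obj := GrothLib.FibCat.Fp.mk a₁ a₂ (asIso β)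
    (@GrothLib.FibCat.isHomLift_id_of_eq _ _ _ _ _ (Over.mk s) _ _ _ β hβ (Or.inl (f.w_obj a₁)))
  exact GrothLib.AlgSt.exists_lift_hom_of_mem_range h𝒳 h𝒴 f (o := o) h₁ (h _)

end Groth.Agent.S12832
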