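import Groth.Statements.S1284
import Groth.Agent.Lib.FlatBlow1.AlgChart
import Groth.Agent.Lib.BlowUp.Exists
import Groth.Agent.Lib.FgSupport6.Exists
import Groth.Agent.Lib.FibreDimAt6.ZeroDim
import Groth.Agent.Lib.QuasiDom6.Main
-- import your own Groth.Agent.* helpers here

set_option autoImplicit false
universe u
open FlatMor

namespace Groth.Agent.S1284

open AlgebraicGeometry CategoryTheory Limits in
/-- A ring property at affine charts of a closed subscheme. -/
theorem appLE_subschemeι_comp {X Y : Scheme.{u}} (g : X ⟶ Y) (I : X.IdealSheafData) (D : Y.affineOpens)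
    (O : X.affineOpens) (e : O.1 ≤ g ⁻¹ᵁ D.1) (e' : I.subschemeι ⁻¹ᵁ O.1 ≤ (I.subschemeι ≫ g) ⁻¹ᵁ D.1) :
    (I.subschemeι ≫ g).appLE D.1 (I.subschemeι ⁻¹ᵁ O.1) e' =
      g.appLE D.1 O.1 e ≫ CommRingCat.ofHom (Ideal.Quotient.mk (I.ideal O)) ≫ (I.subschemeObjIso O).inv := by
  rw [← I.subschemeι_app O, Scheme.Hom.app_eq_appLE, Scheme.Hom.appLE_comp_appLE]

open AlgebraicGeometry CategoryTheory Limits in
/-- Over the preimage of `U`, a base change of a morphism finite over `U` is finite. -/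
theorem finite_restrict_of_pullback {X S X' S' : Scheme.{u}} {φ : X ⟶ S} {b : S' ⟶ S} {p₁ : X' ⟶ X}
    {p₂ : X' ⟶ S'} (sq : IsPullback p₁ p₂ φ b) (U : S.Opens) [IsFinite (φ ∣_ U)] : IsFinite (p₂ ∣_ (b ⁻¹ᵁ U)) := by
  have s := (isPullback_morphismRestrict p₂ (b ⁻¹ᵁ U)).flip.paste_horiz sq
  rw [← morphismRestrict_ι b U] at s
  exact MorphismProperty.of_isPullback (IsPullback.of_right' s (isPullback_morphismRestrict φ U).flip) inferInstance

set_option maxHeartbeats 1600000 in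
open AlgebraicGeometry CategoryTheory Limits in
/-- Let φ : X → S be proper with S quasi-compact and quasi-separated, and U ⊆ S a quasi-compact open
over which φ is finite locally free. Then there is a U-admissible blow-up b : S' → S such that the
strict transform X'' of X (the closed subscheme of X ×_S S' cut out by the functions locally killed
by a power of the pulled-back exceptional ideal) is finite locally free over S'. -/
theorem result {X S : Scheme.{u}} [CompactSpace S] [QuasiSeparatedSpace S]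
    (φ : X ⟶ S) [IsProper φ] (U : S.Opens) (hU : IsCompact (U : Set S)) (hfl : Mor2.IsFinLocFree (φ ∣_ U)) :
    ∃ (𝓘 : S.IdealSheafData) (S' : Scheme.{u}) (b : S' ⟶ S), BlowUp.IsBlowUp b 𝓘 ∧ BlowUp.IsAdmissibleFor U 𝓘 ∧
      ∀ (X' : Scheme.{u}) (p₁ : X' ⟶ X) (p₂ : X' ⟶ S'), IsPullback p₁ p₂ φ b →
      ∀ (𝒥 : X'.IdealSheafData),
        (∀ (W : X'.affineOpens) (a : Γ(X', W.1)), a ∈ 𝒥.ideal W ↔
          BlowUp.KilledByPowerNear ((𝓘.comap φ).comap p₁) (Coh.structureModule X') W a) →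
        Mor2.IsFinLocFree (𝒥.subschemeι ≫ p₂) := by
  classical
  haveI : IsFinite (φ ∣_ U) := hfl.1
  haveI : Flat (φ ∣_ U) := hfl.2.1
  haveI : LocallyOfFinitePresentation (φ ∣_ U) := hfl.2.2
  obtain ⟨Z, hZfg, hZ⟩ := GrothLib.FgSupport6.exists_fg_support_eq U hU
  haveI : CompactSpace X := QuasiCompact.compactSpace_of_compactSpace φ
  have hloc : ∀ x : X, ∃ (W : S.affineOpens) (V : X.affineOpens), x ∈ V.1 ∧ V.1 ≤ φ ⁻¹ᵁ W.1 := fun x => by
    obtain ⟨W, hW, hxW, -⟩ := exists_isAffineOpen_mem_and_subset (show φ.base x ∈ (⊤ : S.Opens) from trivial)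
    obtain ⟨V, hV, hxV, hVW⟩ := exists_isAffineOpen_mem_and_subset (show x ∈ φ ⁻¹ᵁ W from hxW)
    exact ⟨⟨W, hW⟩, ⟨V, hV⟩, hxV, hVW⟩
  choose W V hxV hVW using hloc
  obtain ⟨t, ht⟩ := isCompact_univ.elim_finite_subcover (fun x : X => ((V x).1 : Set X)) (fun x => (V x).1.2)
    fun x _ => Set.mem_iUnion.2 ⟨x, hxV x⟩
  choose J hJ hJchart using fun k : t =>
    GrothLib.FlatBlow1.exists_ideal_alg_chart φ U hU (W k.1) (V k.1) (hVW k.1)
  let P : S.IdealSheafData := Z * ∏ k, J k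
  have hJs : BlowUp.IsAdmissibleFor U (∏ k, J k) := by
    refine Finset.prod_induction J (BlowUp.IsAdmissibleFor U) (fun A B hA hB => ⟨fun V => ?_, ?_⟩) ?_ fun k _ => hJ k
    · rw [Scheme.IdealSheafData.ideal_mul, Pi.mul_apply]
      exact (hA.1 V).mul (hB.1 V)
    · rw [Scheme.IdealSheafData.support_mul, TopologicalSpace.Closeds.coe_sup]
      exact Set.disjoint_union_left.2 ⟨hA.2, hB.2⟩
    · refine ⟨fun V => ⟨{1}, by simp⟩, ?_⟩
      simp
  have hPsupp : (P.support : Set S) = (U : Set S)ᶜ := by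
    rw [Scheme.IdealSheafData.support_mul, TopologicalSpace.Closeds.coe_sup, hZ, Set.union_eq_left]
    exact hJs.2.subset_compl_right
  have hP : BlowUp.IsAdmissibleFor U P := ⟨fun V => by
    rw [Scheme.IdealSheafData.ideal_mul, Pi.mul_apply]
    exact Submodule.FG.mul (hZfg V) (hJs.1 V), by rw [hPsupp]; exact disjoint_compl_left⟩
  obtain ⟨S', b, hb⟩ := GrothLib.BlowUp.exists_isBlowUp S P
  refine ⟨P, S', b, hb, hP, fun X' p₁ p₂ sq 𝒥 h𝒥 => ?_⟩
  have key : ∀ z : 𝒥.subscheme, ∃ (D : S'.affineOpens) (O : 𝒥.subscheme.affineOpens) (_ : z ∈ O.1)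
      (e : O.1 ≤ (𝒥.subschemeι ≫ p₂) ⁻¹ᵁ D.1), ((𝒥.subschemeι ≫ p₂).appLE D.1 O.1 e).hom.Flat ∧
        ((𝒥.subschemeι ≫ p₂).appLE D.1 O.1 e).hom.FinitePresentation := fun z => by
    let x' := 𝒥.subschemeι z
    obtain ⟨x, hxt, hx⟩ := Set.mem_iUnion₂.1 (ht (Set.mem_univ (p₁ x')))
    let k : t := ⟨x, hxt⟩
    have hsplit : P.ideal (W k.1) = (J k).ideal (W k.1) * (Z * ∏ i ∈ Finset.univ.erase k, J i).ideal (W k.1) := by
      rw [← Pi.mul_apply, ← Scheme.IdealSheafData.ideal_mul, mul_left_comm,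
        Finset.mul_prod_erase _ _ (Finset.mem_univ k)]
    obtain ⟨D, O, e, hxO, hfl, hfp⟩ := hJchart k P _ hsplit b p₁ p₂ sq hb.1 𝒥 h𝒥 x' hx
    refine ⟨D, ⟨_, O.2.preimage 𝒥.subschemeι⟩, hxO, fun y hy => e hy, ?_⟩
    have heq := appLE_subschemeι_comp p₂ 𝒥 D O e (fun y hy => e hy)
    rw [heq, CommRingCat.hom_comp, CommRingCat.hom_comp]
    exact ⟨RingHom.Flat.respectsIso.1 _ (𝒥.subschemeObjIso O).symm.commRingCatIsoToRingEquiv hfl,
      RingHom.finitePresentation_respectsIso.1 _ (𝒥.subschemeObjIso O).symm.commRingCatIsoToRingEquiv hfp⟩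
  haveI : Flat (𝒥.subschemeι ≫ p₂) := by
    refine (HasRingHomProperty.iff_exists_appLE ?_).2 fun z => ?_
    · exact RingHom.Flat.stableUnderComposition.stableUnderCompositionWithLocalizationAway
        RingHom.Flat.holdsForLocalizationAway |>.1
    · obtain ⟨D, O, hz, e, hflat, -⟩ := key z
      exact ⟨D, O, hz, e, hflat⟩
  haveI : LocallyOfFinitePresentation (𝒥.subschemeι ≫ p₂) := by
    refine (HasRingHomProperty.iff_exists_appLE ?_).2 fun z => ?_
    · exact RingHom.finitePresentation_stableUnderComposition.stableUnderCompositionWithLocalizationAway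
        RingHom.finitePresentation_holdsForLocalizationAway |>.1
    · obtain ⟨D, O, hz, e, -, hfp⟩ := key z
      exact ⟨D, O, hz, e, hfp⟩
  haveI : IsProper p₂ := MorphismProperty.of_isPullback sq inferInstance
  haveI := finite_restrict_of_pullback sq U
  haveI : IsFinite (𝒥.subschemeι ∣_ (p₂ ⁻¹ᵁ (b ⁻¹ᵁ U))) :=
    MorphismProperty.of_isPullback (isPullback_morphismRestrict 𝒥.subschemeι _).flip inferInstance
  haveI : IsFinite ((𝒥.subschemeι ≫ p₂) ∣_ (b ⁻¹ᵁ U)) := by
    rw [morphismRestrict_comp]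
    exact MorphismProperty.comp_mem _ _ _ inferInstance inferInstance
  have hd : Dense ((b ⁻¹ᵁ U : S'.Opens) : Set S') := by
    have h := GrothLib.QuasiDom6.dense_compl_support hb.1
    rw [Scheme.IdealSheafData.support_comap, TopologicalSpace.Closeds.coe_preimage, hPsupp,
      Set.preimage_compl, compl_compl] at h
    exact h
  exact ⟨GrothLib.FibreDimAt6.finite_of_flat_proper _ _ hd, inferInstance, inferInstance⟩

end Groth.Agent.S1284
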