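import Groth.Statements.S12841
import Groth.Agent.Lib.AlgSt.RepKernel
import Groth.Agent.Lib.AlgSt.SpaceChart


set_option autoImplicit false
set_option backward.isDefEq.respectTransparency false
set_option backward.isDefEq.respectTransparency.types false
open CategoryTheory AlgebraicGeometry
universe u
open AlgSt

namespace Groth.Agent.S12841

open GrothLib.AlgSt GrothLib.FibCat in
theorem fwd {S : Scheme.{u}} {𝒳 𝒴 : AlgSt.Cat S}
    (h𝒳 : AlgSt.IsAlgStack Scheme.fppfPrecoverage 𝒳) (h𝒴 : AlgSt.IsAlgStack Scheme.fppfPrecoverage 𝒴)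
    (f : 𝒳 ⥤ᵇ 𝒴) (W : AlgSp.Space S) (w : AlgSt.ofSp W.obj ⥤ᵇ 𝒴) (h : AlgSt.IsMono f) :
    ∃ (V : AlgSp.Space S) (a : V ⟶ W) (e : AlgSt.ofSp V.obj ⥤ᵇ FibCat.fp w f),
        FibCat.IsEquivOver e ∧
          Nonempty (BasedFunctor.comp e (FibCat.fpFst w f) ≅ AlgSt.ofSpMap a.hom) ∧ Mono a.hom := by
  have hWs : AlgSt.IsAlgStack Scheme.fppfPrecoverage (AlgSt.ofSp W.obj) :=
    (isDM_of_repByAlgSp (repByAlgSp_ofSp W.property)).1
  have hfp := isAlgStack_fp h𝒴.isStack h𝒴.diag hWs h𝒳 w f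
  obtain ⟨V, e, he⟩ := repByAlgSp_of_isFibSetoid hfp (GrothLib.AlgSt.isFibSetoid_fp h𝒳.isStack.1 h𝒴.isStack.1 f w
    (repByAlgSp1_of_repByAlgSpWith h) (repByAlgSp_ofSp W.property))
  refine ⟨V, ObjectProperty.homMk (spHom (BasedFunctor.comp e (FibCat.fpFst w f))), e, he, ⟨isoOfSpHom _⟩, ?_⟩
  have h1 := (full_faithful_of_isMono hfp.isStack.1 hWs.isStack.1 _ (repByAlgSpWith_fpFst w h)).1
  have := IsEquivOver.full he
  have : (BasedFunctor.comp e (FibCat.fpFst w f)).toFunctor.Full :=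
    inferInstanceAs (e.toFunctor ⋙ (FibCat.fpFst w f).toFunctor).Full
  have : (AlgSt.ofSpMap (spHom (BasedFunctor.comp e (FibCat.fpFst w f)))).toFunctor.Full :=
    Functor.Full.of_iso (show (BasedFunctor.comp e (FibCat.fpFst w f)).toFunctor ≅
      (AlgSt.ofSpMap (spHom (BasedFunctor.comp e (FibCat.fpFst w f)))).toFunctor from
      (BasedNatTrans.forgetful (AlgSt.ofSp V.obj) (AlgSt.ofSp W.obj)).mapIso
        (isoOfSpHom (BasedFunctor.comp e (FibCat.fpFst w f))))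
  exact mono_of_full_faithful_ofSpMap (spHom (BasedFunctor.comp e (FibCat.fpFst w f)))

/-- (1) ⇔ (4): let `f : 𝒳 ⟶ 𝒴` be a 1-morphism of algebraic stacks over `S`, `W` an algebraic space over
`S` and `w : W ⟶ 𝒴` surjective, flat and locally of finite presentation. Then `f` is a monomorphism
if and only if `W ×_𝒴 𝒳` is an algebraic space `V` and the projection `V ⟶ W` is a monomorphism of
algebraic spaces. The projection is named through an equivalence `e` over `(Sch/S)` from the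
category of `V` to the 2-fibre product whose composite with the first projection is 2-isomorphic to
the functor of a morphism `a : V ⟶ W`; being a monomorphism does not depend on these choices. -/
theorem result {S : Scheme.{u}} {𝒳 𝒴 : AlgSt.Cat S}
    (h𝒳 : AlgSt.IsAlgStack Scheme.fppfPrecoverage 𝒳) (h𝒴 : AlgSt.IsAlgStack Scheme.fppfPrecoverage 𝒴)
    (f : 𝒳 ⥤ᵇ 𝒴) (W : AlgSp.Space S) (w : AlgSt.ofSp W.obj ⥤ᵇ 𝒴)
    (hw₁ : AlgSt.RepByAlgSpWith (AlgSp.LocP @Flat) w)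
    (hw₂ : AlgSt.RepByAlgSpWith (AlgSp.LocP @LocallyOfFinitePresentation) w)
    (hw₃ : AlgSt.RepByAlgSpWith AlgSp.IsSurjectiveMor w) :
    AlgSt.IsMono f ↔
      ∃ (V : AlgSp.Space S) (a : V ⟶ W) (e : AlgSt.ofSp V.obj ⥤ᵇ FibCat.fp w f),
        FibCat.IsEquivOver e ∧
          Nonempty (BasedFunctor.comp e (FibCat.fpFst w f) ≅ AlgSt.ofSpMap a.hom) ∧ Mono a.hom := by
  refine ⟨fwd h𝒳 h𝒴 f W w, fun ⟨V, a, e, he, ⟨i⟩, hm⟩ => ?_⟩
  have hz := GrothLib.AlgSt.liftsFppf_of_repByAlgSpWith w hw₁ hw₂ hw₃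
  have hf := GrothLib.AlgSt.repByAlgSp1_of_repByAlgSp_fp h𝒳 h𝒴 f hz ⟨V, e, he⟩
  refine GrothLib.AlgSt.isMono_of_fpFst hf hz ?_
  have := GrothLib.AlgSt.full_ofSpMap_of_mono a.hom
  have h1 : (BasedFunctor.comp e (FibCat.fpFst w f)).toFunctor.Full :=
    Functor.Full.of_iso (show (AlgSt.ofSpMap a.hom).toFunctor ≅ (BasedFunctor.comp e (FibCat.fpFst w f)).toFunctor from
      (BasedNatTrans.forgetful _ _).mapIso i.symm)
  obtain ⟨e', he', -, ⟨ε⟩⟩ := GrothLib.FibCat.IsEquivOver.symm he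
  have := GrothLib.FibCat.IsEquivOver.full he'
  have : (BasedFunctor.comp e' (BasedFunctor.comp e (FibCat.fpFst w f))).toFunctor.Full :=
    inferInstanceAs (e'.toFunctor ⋙ (BasedFunctor.comp e (FibCat.fpFst w f)).toFunctor).Full
  have : (FibCat.fpFst w f).toFunctor.Full :=
    Functor.Full.of_iso (show (BasedFunctor.comp e' (BasedFunctor.comp e (FibCat.fpFst w f))).toFunctor ≅
      (FibCat.fpFst w f).toFunctor from
      (BasedNatTrans.forgetful _ _).mapIso (GrothLib.FibCat.whiskerRightIso ε (FibCat.fpFst w f)))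
  exact GrothLib.AlgSt.isMono_of_repByAlgSp1_full _ (GrothLib.AlgSt.repByAlgSp1_fpFst w hf)

end Groth.Agent.S12841
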