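import Groth.Statements.S12844
import Groth.Agent.Lib.AlgSt.DescRep


set_option autoImplicit false
set_option backward.isDefEq.respectTransparency false
set_option backward.isDefEq.respectTransparency.types false
open CategoryTheory AlgebraicGeometry
universe u
open AlgSt

namespace Groth.Agent.S12844

/-- Let `P` be a property of morphisms of algebraic spaces over `S` which is stable under base change
and fppf local on the base, `f : 𝒳 ⟶ 𝒴` a 1-morphism of algebraic stacks over `S` representable by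
algebraic spaces, `W` an algebraic space and `w : W ⟶ 𝒴` surjective, flat and locally of finite
presentation. Then `f` has `P` if and only if the projection `V = W ×_𝒴 𝒳 ⟶ W` has `P`; here `V ⟶ W`
is named by an algebraic space `V`, a morphism `a : V ⟶ W` and an equivalence over `(Sch/S)` from
the category of `V` to the 2-fibre product whose composite with the first projection is 2-isomorphic
to the functor of `a`. (Stability under base change is asked for every pullback square of fppf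
sheaves whose four corners are algebraic spaces.) -/
theorem result {S : Scheme.{u}} {𝒳 𝒴 : AlgSt.Cat S}
    (h𝒳 : AlgSt.IsAlgStack Scheme.fppfPrecoverage 𝒳) (h𝒴 : AlgSt.IsAlgStack Scheme.fppfPrecoverage 𝒴)
    (P : MorphismProperty (AlgSp.Sp S))
    (hPb : ∀ ⦃X₁ Y₁ X₂ Y₂ : AlgSp.Sp S⦄, AlgSp.IsAlgSpace X₁ → AlgSp.IsAlgSpace Y₁ → AlgSp.IsAlgSpace X₂ →
      AlgSp.IsAlgSpace Y₂ → ∀ (a : X₁ ⟶ Y₁) (b : Y₂ ⟶ Y₁) (a' : X₂ ⟶ Y₂) (b' : X₂ ⟶ X₁),
      IsPullback b' a' a b → P a → P a')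
    (hP : AlgSp.IsLocalOnBase AlgSp.IsFppfCover P)
    (f : 𝒳 ⥤ᵇ 𝒴) (hf : AlgSt.RepByAlgSp1 f) (W : AlgSp.Space S) (w : AlgSt.ofSp W.obj ⥤ᵇ 𝒴)
    (hw₁ : AlgSt.RepByAlgSpWith (AlgSp.LocP @Flat) w)
    (hw₂ : AlgSt.RepByAlgSpWith (AlgSp.LocP @LocallyOfFinitePresentation) w)
    (hw₃ : AlgSt.RepByAlgSpWith AlgSp.IsSurjectiveMor w) :
    AlgSt.RepByAlgSpWith P f ↔
      ∃ (V : AlgSp.Space S) (a : V ⟶ W) (e : AlgSt.ofSp V.obj ⥤ᵇ FibCat.fp w f),
        FibCat.IsEquivOver e ∧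
          Nonempty (BasedFunctor.comp e (FibCat.fpFst w f) ≅ AlgSt.ofSpMap a.hom) ∧ P a.hom := by
  have hI := GrothLib.AlgSt.isoInvariant_of_stableSp hPb
  constructor
  · intro h
    obtain ⟨V, e, he⟩ := GrothLib.AlgSt.repByAlgSp_fp_of_repByAlgSp1 h𝒳.isStack.1 h𝒴.isStack.1 f w hf
      (GrothLib.AlgSt.repByAlgSp_ofSp W.property)
    let Φ := BasedFunctor.comp e (FibCat.fpFst w f)
    exact ⟨V, ObjectProperty.homMk (GrothLib.AlgSt.spHom Φ), e, he, ⟨GrothLib.AlgSt.isoOfSpHom Φ⟩,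
      GrothLib.AlgSt.mem_of_repByAlgSpWith (GrothLib.AlgSt.detectedBySchemes_of_isLocalOnBase hP) hI h w W
        (BasedFunctor.id _) (GrothLib.FibCat.IsEquivOver.refl _) V e he _ (GrothLib.AlgSt.isoOfSpHom Φ)⟩
  · rintro ⟨V, a, e, he, ⟨i⟩, ha⟩
    refine GrothLib.AlgSt.repByAlgSpWith_of_fpFst hI (GrothLib.AlgSt.descendsToSchemes_of_isLocalOnBase hP) hf
      (GrothLib.AlgSt.liftsFppf_of_repByAlgSpWith w hw₁ hw₂ hw₃) ?_
    refine (GrothLib.AlgSt.repByAlgSpWith_iff_of_square (f := FibCat.fpFst w f) (f' := AlgSt.ofSpMap a.hom) e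
      (BasedFunctor.id (AlgSt.ofSp W.obj)) he (GrothLib.FibCat.IsEquivOver.refl _) i.symm).2 ?_
    exact GrothLib.AlgSt.repByAlgSpWith_ofSpMap V.property W.property a.hom fun U c =>
      hPb V.property W.property
        (GrothLib.AlgSp.isAlgSpace_pullback' W.property (AlgSp.IsAlgSpace.yon_obj U) V.property c a.hom)
        (AlgSp.IsAlgSpace.yon_obj U) a.hom c _ _ (IsPullback.of_hasPullback c a.hom).flip ha

end Groth.Agent.S12844
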