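import Groth.Statements.S12845
import Groth.Agent.Lib.AlgSt.FibreProduct


set_option autoImplicit false
set_option backward.isDefEq.respectTransparency false
set_option backward.isDefEq.respectTransparency.types false
open CategoryTheory AlgebraicGeometry
universe u
open AlgSt

namespace Groth.Agent.S12845

/-- Let `P` be a property of morphisms of algebraic spaces over `S` which is stable under base change
and fppf local on the base, and `f : 𝒳 ⟶ 𝒴` a 1-morphism of algebraic stacks over `S` representable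
by algebraic spaces. Then `f` has `P` (a condition on its base changes to schemes) if and only if
for every algebraic space `Z` and every `z : Z ⟶ 𝒴` the projection `Z ×_𝒴 𝒳 ⟶ Z` has `P`, the
projection being named by an algebraic space `V`, a morphism `a : V ⟶ Z` and an equivalence over
`(Sch/S)` from the category of `V` to the 2-fibre product whose composite with the first projection
is 2-isomorphic to the functor of `a`. (Stability under base change is asked for every pullback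
square of fppf sheaves whose four corners are algebraic spaces.) -/
theorem result {S : Scheme.{u}} {𝒳 𝒴 : AlgSt.Cat S}
    (h𝒳 : AlgSt.IsAlgStack Scheme.fppfPrecoverage 𝒳) (h𝒴 : AlgSt.IsAlgStack Scheme.fppfPrecoverage 𝒴)
    (P : MorphismProperty (AlgSp.Sp S))
    (hPb : ∀ ⦃X₁ Y₁ X₂ Y₂ : AlgSp.Sp S⦄, AlgSp.IsAlgSpace X₁ → AlgSp.IsAlgSpace Y₁ → AlgSp.IsAlgSpace X₂ →
      AlgSp.IsAlgSpace Y₂ → ∀ (a : X₁ ⟶ Y₁) (b : Y₂ ⟶ Y₁) (a' : X₂ ⟶ Y₂) (b' : X₂ ⟶ X₁),
      IsPullback b' a' a b → P a → P a')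
    (hP : AlgSp.IsLocalOnBase AlgSp.IsFppfCover P)
    (f : 𝒳 ⥤ᵇ 𝒴) (hf : AlgSt.RepByAlgSp1 f) :
    AlgSt.RepByAlgSpWith P f ↔
      ∀ (Z : AlgSp.Space S) (z : AlgSt.ofSp Z.obj ⥤ᵇ 𝒴),
        ∃ (V : AlgSp.Space S) (a : V ⟶ Z) (e : AlgSt.ofSp V.obj ⥤ᵇ FibCat.fp z f),
          FibCat.IsEquivOver e ∧
            Nonempty (BasedFunctor.comp e (FibCat.fpFst z f) ≅ AlgSt.ofSpMap a.hom) ∧ P a.hom := by
  constructor
  · intro h Z z
    obtain ⟨V, e, he⟩ := GrothLib.AlgSt.repByAlgSp_fp_of_repByAlgSp1 h𝒳.isStack.1 h𝒴.isStack.1 f z hf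
      (GrothLib.AlgSt.repByAlgSp_ofSp Z.property)
    let Φ := BasedFunctor.comp e (FibCat.fpFst z f)
    let i := GrothLib.AlgSt.isoOfSpHom Φ
    exact ⟨V, ObjectProperty.homMk (GrothLib.AlgSt.spHom Φ), e, he, ⟨i⟩,
      GrothLib.AlgSt.mem_of_repByAlgSpWith (GrothLib.AlgSt.detectedBySchemes_of_isLocalOnBase hP)
        (GrothLib.AlgSt.isoInvariant_of_stableSp hPb) h z Z (BasedFunctor.id _)
        (GrothLib.FibCat.IsEquivOver.refl _) V e he _ i⟩
  · intro h U y
    obtain ⟨V, a, e, he, ⟨i⟩, ha⟩ := h ⟨_, AlgSp.IsAlgSpace.yon_obj U⟩ (BasedFunctor.comp (AlgSt.toOverCat U) y)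
    have := GrothLib.FibCat.IsEquivOver.full (GrothLib.FibCat.IsEquivOver.refl 𝒴)
    have := GrothLib.FibCat.IsEquivOver.faithful (GrothLib.FibCat.IsEquivOver.refl 𝒴)
    refine GrothLib.AlgSt.HasRep.of_equiv (π := BasedFunctor.comp (FibCat.fpFst (BasedFunctor.comp (AlgSt.toOverCat U) y) f) (AlgSt.toOverCat U))
      (GrothLib.FibCat.Fp.map (F' := y) (G' := f) (AlgSt.toOverCat U) (BasedFunctor.id _) (BasedFunctor.id _) (Iso.refl _) (Iso.refl _))
      (GrothLib.FibCat.Fp.isEquivOver_map _ _ _ _ _ (GrothLib.AlgSt.isEquivOver_toOverCat U) (GrothLib.FibCat.IsEquivOver.refl _))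
      (Iso.refl _) ⟨V, e, he, ?_⟩
    have h1 := (GrothLib.AlgSt.spMapOfOver_congr (GrothLib.FibCat.whiskerRightIso i (AlgSt.toOverCat U))).trans
      (GrothLib.AlgSt.spMapOfOver_toOverCat a.hom)
    exact h1.symm ▸ ha

end Groth.Agent.S12845
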