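import Groth.Statements.S12848
import Groth.Agent.Lib.AlgSt.Points
import Groth.Agent.Lib.AlgSt.Mono


set_option autoImplicit false
set_option backward.isDefEq.respectTransparency false
set_option backward.isDefEq.respectTransparency.types false
open CategoryTheory AlgebraicGeometry
universe u
open AlgSt

namespace Groth.Agent.S12848

/-- A monomorphism `f : 𝒳 ⟶ 𝒴` of algebraic stacks over `S` induces an injective map `|𝒳| → |𝒴|` on
points. -/
theorem result {S : Scheme.{u}} {𝒳 𝒴 : AlgSt.Cat S}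
    (h𝒳 : AlgSt.IsAlgStack Scheme.fppfPrecoverage 𝒳) (h𝒴 : AlgSt.IsAlgStack Scheme.fppfPrecoverage 𝒴) (f : 𝒳 ⥤ᵇ 𝒴) (hf : AlgSt.IsMono f) :
    Function.Injective (AlgSt.Points.map f) := by
  have := (GrothLib.AlgSt.full_faithful_of_isMono h𝒳.isStack.1 h𝒴.isStack.1 f hf).1
  exact GrothLib.AlgSt.points_map_injective_of_full h𝒳.isStack.1 h𝒴.isStack.1 f

end Groth.Agent.S12848
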