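import Groth.Statements.S12849
import Groth.Agent.Lib.AlgSt.OfCompCover


set_option autoImplicit false
set_option backward.isDefEq.respectTransparency false
set_option backward.isDefEq.respectTransparency.types false
open CategoryTheory AlgebraicGeometry
universe u
open AlgSt

namespace Groth.Agent.S12849

/-- Let `P` be a property of morphisms of algebraic spaces over `S` which is stable under base change,
fppf local on the base and local on the source in the smooth topology; let `x : 𝒳 ⟶ 𝒴` and `y : 𝒴 ⟶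
𝒵` be 1-morphisms of algebraic stacks over `S` representable by algebraic spaces with `x` surjective
and smooth. If `y ∘ x` has `P` then `y` has `P`. (Stability under base change is asked for every
pullback square of fppf sheaves whose four corners are algebraic spaces.) -/
theorem result {S : Scheme.{u}} {𝒳 𝒴 𝒵 : AlgSt.Cat S}
    (h𝒳 : AlgSt.IsAlgStack Scheme.fppfPrecoverage 𝒳) (h𝒴 : AlgSt.IsAlgStack Scheme.fppfPrecoverage 𝒴) (h𝒵 : AlgSt.IsAlgStack Scheme.fppfPrecoverage 𝒵)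
    (P : MorphismProperty (AlgSp.Sp S))
    (hPb : ∀ ⦃X₁ Y₁ X₂ Y₂ : AlgSp.Sp S⦄, AlgSp.IsAlgSpace X₁ → AlgSp.IsAlgSpace Y₁ → AlgSp.IsAlgSpace X₂ →
      AlgSp.IsAlgSpace Y₂ → ∀ (a : X₁ ⟶ Y₁) (b : Y₂ ⟶ Y₁) (a' : X₂ ⟶ Y₂) (b' : X₂ ⟶ X₁),
      IsPullback b' a' a b → P a → P a')
    (hP : AlgSp.IsLocalOnBase AlgSp.IsFppfCover P) (hP' : AlgSp.IsLocalOnSource AlgSp.IsSmCover P)
    (x : 𝒳 ⥤ᵇ 𝒴) (y : 𝒴 ⥤ᵇ 𝒵) (hy : AlgSt.RepByAlgSp1 y)
    (hx₁ : AlgSt.RepByAlgSpWith (AlgSp.LocP @Smooth) x) (hx₂ : AlgSt.RepByAlgSpWith AlgSp.IsSurjectiveMor x)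
    (h : AlgSt.RepByAlgSpWith P (BasedFunctor.comp x y)) : AlgSt.RepByAlgSpWith P y := by
  refine GrothLib.AlgSt.repByAlgSpWith_of_comp_cover (R := AlgSp.LocP @Smooth ⊓ AlgSp.IsSurjectiveMor)
    (GrothLib.AlgSt.isoInvariant_of_stableSp hPb)
    (GrothLib.AlgSt.isoInvariant_inf GrothLib.AlgSt.isoInvariant_locP GrothLib.AlgSt.isoInvariant_surjective)
    (GrothLib.AlgSt.detectedBySchemes_inf
      (GrothLib.AlgSt.detectedBySchemes_locP fun _ _ t (he : Etale t) => (inferInstance : Smooth t))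
      GrothLib.AlgSt.detectedBySchemes_surjective) ?_ h𝒳.isStack.1 h𝒴.isStack.1 x y hy
    (GrothLib.AlgSt.repByAlgSpWith_inf GrothLib.AlgSt.isoInvariant_locP hx₁ hx₂) h
  intro W X Y hW hX hY g f hg hgf
  exact (hP' (fun _ : PUnit.{u+1} => W) (fun _ => g) hX (fun _ => hW)
    ⟨fun _ => hg.1, fun p => ⟨PUnit.unit, hg.2 p⟩⟩ f hY).2 fun _ => hgf

end Groth.Agent.S12849
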