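import Groth.Statements.S1285
import Groth.Agent.Lib.RG6.Dev.FibDim
import Groth.Agent.Lib.RG6.Impure.Finite
-- import your own Groth.Agent.* helpers here

set_option autoImplicit false
universe u
open FlatMor

namespace Groth.Agent.S1285

/-- Let (C, D, G) be a one-step dévissage of N/S/R over the prime p (see FlatCA.IsOneStepDevissage), and
suppose pD is prime (the generic point of the fibre of Spec D). Then there are r > 0 and a D-linear
map α from D^r to G which becomes bijective after base change to the residue field of pD; moreover
for every such α the support of the fibre module over p of the cokernel of α has dimension strictly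
less than that of the fibre module of N. -/
theorem result {R S : Type u} [CommRing R] [CommRing S] [Algebra R S] [Algebra.FiniteType R S]
    (N : Type u) [AddCommGroup N] [Module S N] [Module R N] [IsScalarTower R S N] [Module.Finite S N] (p : Ideal R) [p.IsPrime]
    (C D G : Type u) [CommRing C] [CommRing D] [Algebra S C] [Algebra R C] [IsScalarTower R S C]
    [Algebra R D] [Algebra D C] [IsScalarTower R D C] [AddCommGroup G] [Module C G] [Module S G] [IsScalarTower S C G]
    [Module D G] [IsScalarTower D C G] [Module R G] [IsScalarTower R D G]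
    (n : ℕ) (h : FlatCA.IsOneStepDevissage R S N p C D G n) [(p.map (algebraMap R D)).IsPrime] :
    (∃ (r : ℕ) (α : (Fin r → D) →ₗ[D] G), 0 < r ∧ Function.Bijective (α.baseChange (p.map (algebraMap R D)).ResidueField)) ∧
    ∀ (r : ℕ) (α : (Fin r → D) →ₗ[D] G), Function.Bijective (α.baseChange (p.map (algebraMap R D)).ResidueField) →
      Module.supportDim (p.Fiber D) (FlatCA.fiberMod p D (G ⧸ LinearMap.range α)) < (n : WithBot ℕ∞) := by
  classical
  obtain ⟨⟨e⟩, hs, hfp, hDC, hCG, hsm, -, hdim⟩ := h
  haveI := hDC
  haveI := hCG
  haveI : Module.Finite D G := Module.Finite.trans C G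
  haveI : Algebra.FiniteType R D := by
    haveI : AlgebraicGeometry.Smooth (AlgebraicGeometry.Spec.map (CommRingCat.ofHom (algebraMap R D))) :=
      AlgebraicGeometry.SmoothOfRelativeDimension.smooth n _
    exact RingHom.finiteType_algebraMap.1
      ((AlgebraicGeometry.HasRingHomProperty.Spec_iff (P := @AlgebraicGeometry.LocallyOfFiniteType) (φ := CommRingCat.ofHom (algebraMap R D))).1 inferInstance)
  let P := p.map (algebraMap R D)
  -- the dimension of the fibre of the support is bounded through the finite map
  have hdimD : (n : WithBot ℕ∞) ≤ ringKrullDim (TensorProduct R p.ResidueField (D ⧸ Module.annihilator D G)) := by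
    rw [← hdim, GrothLib.DevBC13.supportDim_fiberMod_eq]
    let I := Module.annihilator S N
    let J := Module.annihilator D G
    let K := Module.annihilator C G
    have hI : ∀ s, s ∈ I ↔ algebraMap S C s ∈ K := fun s => by
      simp only [I, K, Module.mem_annihilator, algebraMap_smul]
      refine ⟨fun h g => ?_, fun h m => e.injective (by rw [map_smul, h, map_zero])⟩
      obtain ⟨m, rfl⟩ := e.surjective g
      rw [← map_smul, h, map_zero]
    let φ₀ : (S ⧸ I) →ₐ[R] C ⧸ K := Ideal.Quotient.liftₐ I
      ((Ideal.Quotient.mkₐ R K).comp (IsScalarTower.toAlgHom R S C)) fun s hs' =>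
        Ideal.Quotient.eq_zero_iff_mem.2 ((hI s).1 hs')
    have hφ₀ : Function.Bijective φ₀ := by
      refine ⟨fun a b h => ?_, fun c => ?_⟩
      · obtain ⟨a, rfl⟩ := Ideal.Quotient.mk_surjective a
        obtain ⟨b, rfl⟩ := Ideal.Quotient.mk_surjective b
        refine Ideal.Quotient.eq.2 ((hI _).2 ?_)
        rw [map_sub]
        exact Ideal.Quotient.eq.1 h
      · obtain ⟨c, rfl⟩ := Ideal.Quotient.mk_surjective c
        obtain ⟨s, rfl⟩ := hs c
        exact ⟨Ideal.Quotient.mk I s, rfl⟩
    let ψ : (D ⧸ J) →ₐ[R] C ⧸ K := Ideal.Quotient.liftₐ J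
      ((Ideal.Quotient.mkₐ R K).comp (IsScalarTower.toAlgHom R D C)) fun d hd => by
        refine Ideal.Quotient.eq_zero_iff_mem.2 (Module.mem_annihilator.2 fun g => ?_)
        show algebraMap D C d • g = 0
        rw [algebraMap_smul, Module.mem_annihilator.1 hd]
    have hψ : ψ.toRingHom.Finite := by
      refine RingHom.Finite.of_comp_finite (f := Ideal.Quotient.mk J) ?_
      show (ψ.toRingHom.comp (Ideal.Quotient.mk J)).Finite
      exact ((RingHom.Finite.of_surjective (Ideal.Quotient.mk K) Ideal.Quotient.mk_surjective).comp
        (RingHom.finite_algebraMap.2 hDC) :)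
    let Φ := Algebra.TensorProduct.map (AlgHom.id p.ResidueField p.ResidueField) ψ
    have hΦ : Φ.toRingHom.Finite :=
      RingHom.Finite.tensorProductMap (f := AlgHom.id R p.ResidueField) (g := ψ) (RingHom.Finite.id _) hψ
    rw [ringKrullDim_eq_of_ringEquiv (Algebra.TensorProduct.congr (AlgEquiv.refl : p.ResidueField ≃ₐ[R] p.ResidueField)
      (AlgEquiv.ofBijective φ₀ hφ₀)).toRingEquiv]
    algebraize [Φ.toRingHom]
    haveI : Algebra.IsIntegral (TensorProduct R p.ResidueField (D ⧸ J)) (TensorProduct R p.ResidueField (C ⧸ K)) :=
      Algebra.IsIntegral.of_finite _ _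
    exact GrothLib.Dim.ringKrullDim_le_of_isIntegral _ _
  haveI : Nontrivial (p.Fiber D) := by
    by_contra hne
    haveI := not_nontrivial_iff_subsingleton.1 hne
    let f : p.Fiber D →+* TensorProduct R p.ResidueField (D ⧸ Module.annihilator D G) :=
      (Algebra.TensorProduct.map (AlgHom.id R p.ResidueField) (Ideal.Quotient.mkₐ R _)).toRingHom
    haveI := f.codomain_trivial
    rw [ringKrullDim_eq_bot_of_subsingleton] at hdimD
    simp at hdimD
  haveI := GrothLib.RG6.Dev.isDomain_fiber (D := D) p
  have hsupp : Module.annihilator D G ≤ P := by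
    by_contra hnle
    exact not_lt.2 hdimD (GrothLib.RG6.Dev.ringKrullDim_fiber_quotient_lt p n hsm hnle)
  have hnt : Nontrivial (TensorProduct D P.ResidueField G) :=
    (Module.mem_support_iff_nontrivial_residueField_tensorProduct (R := D) (M := G) (⟨P, inferInstance⟩ : PrimeSpectrum D)).1
      (Module.mem_support_iff_of_finite.2 hsupp)
  refine ⟨?_, fun r α hα => ?_⟩
  · have hspan : Submodule.span P.ResidueField (Set.range fun g : G => (1 : P.ResidueField) ⊗ₜ[D] g) = ⊤ :=
      eq_top_iff.2 fun z _ => by
        induction z using TensorProduct.induction_on with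
        | zero => exact zero_mem _
        | add x y hx hy => exact add_mem (hx trivial) (hy trivial)
        | tmul c g =>
          rw [← mul_one c, ← smul_eq_mul, ← TensorProduct.smul_tmul']
          exact Submodule.smul_mem _ _ (Submodule.subset_span ⟨g, rfl⟩)
    obtain ⟨b, hb, hbspan, hbli⟩ := exists_linearIndependent P.ResidueField
      (Set.range fun g : G => (1 : P.ResidueField) ⊗ₜ[D] g)
    rw [hspan] at hbspan
    let B := Module.Basis.mk hbli (by rw [Subtype.range_coe]; exact hbspan.ge)
    haveI : Fintype b := FiniteDimensional.fintypeBasisIndex B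
    let B' := B.reindex (Fintype.equivFin b)
    have hlift : ∀ i, ∃ g : G, B' i = (1 : P.ResidueField) ⊗ₜ[D] g := fun i => by
      obtain ⟨g, hg⟩ := hb ((Fintype.equivFin b).symm i).2
      exact ⟨g, by rw [Module.Basis.reindex_apply, Module.Basis.mk_apply]; exact hg.symm⟩
    choose g hg using hlift
    let α := Fintype.linearCombination D g
    refine ⟨Fintype.card b, α, ?_, ?_⟩
    · by_contra h0
      haveI : IsEmpty (Fin (Fintype.card b)) := ⟨fun i => h0 i.pos⟩
      exact (not_subsingleton_iff_nontrivial.2 hnt) (B'.repr.toEquiv.subsingleton)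
    · let e₂ := TensorProduct.piScalarRight D P.ResidueField P.ResidueField (Fin (Fintype.card b))
      have hcomp : ∀ z, α.baseChange P.ResidueField z = B'.equivFun.symm (e₂ z) := by
        intro z
        induction z using TensorProduct.induction_on with
        | zero => simp
        | add x y hx hy => simp only [map_add, hx, hy]
        | tmul c v =>
          rw [LinearMap.baseChange_tmul, Module.Basis.equivFun_symm_apply, Fintype.linearCombination_apply,
            TensorProduct.tmul_sum]
          refine Finset.sum_congr rfl fun i _ => ?_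
          rw [TensorProduct.piScalarRight_apply, TensorProduct.piScalarRightHom_tmul, hg,
            TensorProduct.smul_tmul', TensorProduct.tmul_smul, TensorProduct.smul_tmul', smul_eq_mul, mul_one]
      rw [show (α.baseChange P.ResidueField : _ → _) = B'.equivFun.symm ∘ e₂ from funext hcomp]
      exact B'.equivFun.symm.bijective.comp e₂.bijective
  · let Q := G ⧸ LinearMap.range α
    have hJ : ¬ Module.annihilator D Q ≤ P := by
      intro hle
      haveI : Nontrivial (TensorProduct D P.ResidueField Q) :=
        (Module.mem_support_iff_nontrivial_residueField_tensorProduct (R := D) (M := Q) (⟨P, inferInstance⟩ : PrimeSpectrum D)).1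
          (Module.mem_support_iff_of_finite.2 hle)
      obtain ⟨z, hz⟩ := exists_ne (0 : TensorProduct D P.ResidueField Q)
      obtain ⟨y, rfl⟩ := LinearMap.lTensor_surjective P.ResidueField (LinearMap.range α).mkQ_surjective z
      obtain ⟨x, rfl⟩ := hα.2 y
      refine hz ?_
      rw [LinearMap.baseChange_eq_ltensor, ← LinearMap.lTensor_comp_apply,
        show (LinearMap.range α).mkQ.comp α = 0 from LinearMap.ext fun v =>
          (Submodule.Quotient.mk_eq_zero _).2 ⟨v, rfl⟩, LinearMap.lTensor_zero, LinearMap.zero_apply]
    refine lt_of_eq_of_lt (GrothLib.DevBC13.supportDim_fiberMod_eq p Q) ?_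
    exact GrothLib.RG6.Dev.ringKrullDim_fiber_quotient_lt p n hsm hJ

end Groth.Agent.S1285
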