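import Groth.Statements.S12855
import Groth.Agent.Lib.AlgSt.SmoothLocally


set_option autoImplicit false
set_option backward.isDefEq.respectTransparency false
set_option backward.isDefEq.respectTransparency.types false
open CategoryTheory AlgebraicGeometry
universe u
open AlgSt

namespace Groth.Agent.S12855

/-- Suppose `P`, a property of schemes, is local for the smooth topology (for every jointly surjective
family of smooth morphisms `V_i ⟶ U`, `U` has `P` if and only if every `V_i` has `P`) and `X` an
algebraic space over `S`. Then every scheme admitting a smooth morphism to (the algebraic stack of)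
`X` has `P` if and only if `X` has `P`, i.e. some surjective etale scheme chart of `X` has `P`. -/
theorem result {S : Scheme.{u}} (X : AlgSp.Space S) (P : Scheme.{u} → Prop)
    (hP : ∀ (U : Scheme.{u}) (R : Presieve U), R ∈ Scheme.precoverage @Smooth U →
      (P U ↔ ∀ ⦃V : Scheme.{u}⦄ (g : V ⟶ U), R g → P V)) :
    AlgSt.SmoothLocally P (AlgSt.ofSp X.obj) ↔ AlgSp.EtaleLocally P X.obj := by
  exact GrothLib.AlgSt.smoothLocally_ofSp hP X

end Groth.Agent.S12855
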