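import Groth.Statements.S12856
import Groth.Agent.Lib.AlgSt.Topology


set_option autoImplicit false
set_option backward.isDefEq.respectTransparency false
set_option backward.isDefEq.respectTransparency.types false
open CategoryTheory AlgebraicGeometry
universe u
open AlgSt

namespace Groth.Agent.S12856

/-- (2) ⇔ (4): an algebraic stack `𝒳` over `S` admits a surjective smooth morphism from an affine scheme
if and only if it admits a surjective smooth morphism from a quasi-compact algebraic space. -/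
theorem result {S : Scheme.{u}} {𝒳 : AlgSt.Cat S}
    (h𝒳 : AlgSt.IsAlgStack Scheme.fppfPrecoverage 𝒳) :
    AlgSt.IsQuasiCompact 𝒳 ↔
      ∃ (U : AlgSp.Space S) (x : AlgSt.ofSp U.obj ⥤ᵇ 𝒳), AlgSp.IsQuasiCompactSp U.obj ∧
        AlgSt.RepByAlgSpWith (AlgSp.LocP @Smooth) x ∧ AlgSt.RepByAlgSpWith AlgSp.IsSurjectiveMor x := by
  constructor
  · rintro ⟨U, x, hU, hs, hj⟩
    have := GrothLib.FibCat.IsEquivOver.full (GrothLib.FibCat.IsEquivOver.refl 𝒳)
    have := GrothLib.FibCat.IsEquivOver.faithful (GrothLib.FibCat.IsEquivOver.refl 𝒳)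
    have := hU
    exact ⟨⟨_, AlgSp.IsAlgSpace.yon_obj U⟩, BasedFunctor.comp (AlgSt.toOverCat U) x,
      ⟨U, 𝟙 _, AlgSp.repWith_id _ U, AlgSp.repWith_id _ U, inferInstance⟩,
      GrothLib.AlgSt.repByAlgSpWith_of_square (f := x) (AlgSt.toOverCat U) (BasedFunctor.id 𝒳)
        (ha := GrothLib.AlgSt.isEquivOver_toOverCat U) (e := Iso.refl _) (h := hs),
      GrothLib.AlgSt.repByAlgSpWith_of_square (f := x) (AlgSt.toOverCat U) (BasedFunctor.id 𝒳)
        (ha := GrothLib.AlgSt.isEquivOver_toOverCat U) (e := Iso.refl _) (h := hj)⟩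
  · rintro ⟨U, x, ⟨V, p, pe, ps, hV⟩, hs, hj⟩
    have h1 := GrothLib.AlgSt.repByAlgSpWith_comp_chart
      (fun _ _ _ _ _ b a hb _ ha => GrothLib.AlgSt.locP_etale_comp b a hb ha) hs (BasedFunctor.id _)
      (GrothLib.FibCat.IsEquivOver.refl _) pe ps
    have h2 := GrothLib.AlgSt.repByAlgSpWith_comp_chart
      (fun _ _ _ _ _ b a _ hb ha => GrothLib.AlgSt.isSurjectiveMor_etale_comp b a hb ha) hj (BasedFunctor.id _)
      (GrothLib.FibCat.IsEquivOver.refl _) pe ps
    have hq := GrothLib.AlgSt.isOpenQuotientMap_ofChart h𝒳.isStack.1 h1 h2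
    exact GrothLib.AlgSt.isQuasiCompact_of_compactSpace h𝒳 (Function.Surjective.compactSpace hq.continuous hq.surjective)

end Groth.Agent.S12856
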