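import Groth.Statements.S1286
import Groth.Agent.Lib.BlowFree1.Chart
import Groth.Agent.Lib.BCCrit.GlobalCrit
import Groth.Agent.Lib.BlowUp.Exists

set_option autoImplicit false
universe u
open FlatMor

namespace Groth.Agent.S1286

open AlgebraicGeometry CategoryTheory Limits in
/-- Let S be quasi-compact and quasi-separated, U ⊆ S a quasi-compact open, f : X → S affine, of finite
presentation, flat, with geometrically integral fibres, and F a quasi-coherent O_X-module of finite
type whose restriction over U is of finite presentation and which is flat over S at every generic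
point of a fibre over a point of U. Then there are a U-admissible blow-up b : S' → S and an open V
of X' = X ×_S S' such that any strict transform of F restricts to a finite locally free O_V-module
and V → S' is surjective. -/
theorem result {X S : Scheme.{u}} [CompactSpace S] [QuasiSeparatedSpace S]
    (f : X ⟶ S) [IsAffineHom f] [LocallyOfFinitePresentation f] [Flat f] [GeometricallyIntegral f]
    (U : S.Opens) (hU : IsCompact (U : Set S))
    (F : X.Modules) (hqc : Coh.IsQCoh F) (hft : CohB1.IsFT F)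
    (hfpU : CohB1.IsFP ((Scheme.Modules.pullback (f ⁻¹ᵁ U).ι).obj F))
    (hflU : ∀ x : X, f.base x ∈ U → closure ({f.asFiber x} : Set (f.fiber (f.base x))) = Set.univ → FlatMod.IsFlatOverAt f F x) :
    ∃ (𝓘 : S.IdealSheafData) (S' : Scheme.{u}) (b : S' ⟶ S), BlowUp.IsBlowUp b 𝓘 ∧ BlowUp.IsAdmissibleFor U 𝓘 ∧
      ∀ (X' : Scheme.{u}) (p₁ : X' ⟶ X) (p₂ : X' ⟶ S'), IsPullback p₁ p₂ f b →
      ∀ (G : X'.Modules) (π : (Scheme.Modules.pullback p₁).obj F ⟶ G), BlowUp.IsStrictTransform p₁ (𝓘.comap f) F G π →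
        ∃ V : X'.Opens, FlatMod.IsFinLocFree ((Scheme.Modules.pullback V.ι).obj G) ∧ Function.Surjective (V.ι ≫ p₂).base := by
  classical
  haveI : F.IsQuasicoherent := hqc
  obtain ⟨n, W, -, hW⟩ := GrothLib.Nagata6.exists_finite_affines (⊤ : S.Opens) isCompact_univ
  choose J hJ hJchart using fun k => GrothLib.BlowFree1.exists_ideal_chart f U hU F hft hfpU hflU (W k)
  let P : S.IdealSheafData := ∏ k, J k
  have hP : BlowUp.IsAdmissibleFor U P := by
    refine Finset.prod_induction J (BlowUp.IsAdmissibleFor U) (fun A B hA hB => ⟨fun V => ?_, ?_⟩) ?_ fun k _ => hJ k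
    · rw [Scheme.IdealSheafData.ideal_mul, Pi.mul_apply]
      exact (hA.1 V).mul (hB.1 V)
    · rw [Scheme.IdealSheafData.support_mul, TopologicalSpace.Closeds.coe_sup]
      exact Set.disjoint_union_left.2 ⟨hA.2, hB.2⟩
    · refine ⟨fun V => ⟨{1}, by simp⟩, ?_⟩
      simp
  obtain ⟨S', b, hb⟩ := GrothLib.BlowUp.exists_isBlowUp S P
  refine ⟨P, S', b, hb, hP, fun X' p₁ p₂ sq G π hG => ?_⟩
  let V : X'.Opens := sSup {D | ∃ n : ℕ, Nonempty (G.restrict D.ι ≅ FlatMod.freeMod D.toScheme n)}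
  refine ⟨V, ?_, fun s' => ?_⟩
  · intro x
    obtain ⟨D₀, m₀, hx₀, ⟨e₀⟩⟩ := GrothLib.BCCrit.isFinLocFree_of_free_near G V (fun y hy => by
      obtain ⟨D, ⟨m, hm⟩, hyD⟩ := TopologicalSpace.Opens.mem_sSup.1 hy
      exact ⟨D, m, hyD, hm⟩) x
    exact ⟨D₀, m₀, hx₀, ⟨(Scheme.Modules.restrictFunctor D₀.ι).mapIso
      ((Scheme.Modules.restrictFunctorIsoPullback V.ι).app G).symm ≪≫ e₀⟩⟩
  · obtain ⟨k, hk⟩ := hW (b s') trivial
    have hsplit : P.ideal (W k) = (J k).ideal (W k) * (∏ i ∈ Finset.univ.erase k, J i).ideal (W k) := by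
      rw [← Pi.mul_apply, ← Scheme.IdealSheafData.ideal_mul, Finset.mul_prod_erase _ _ (Finset.mem_univ k)]
    obtain ⟨x', D, m, hx, hxD, hD⟩ := hJchart k P _ hsplit b p₁ p₂ sq hb.1 G π hG s' hk
    exact ⟨⟨x', TopologicalSpace.Opens.mem_sSup.2 ⟨D, ⟨m, hD⟩, hxD⟩⟩, hx⟩

end Groth.Agent.S1286
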