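import Groth.Statements.S12860
import Groth.Agent.Lib.AlgSt.SpaceChart


set_option autoImplicit false
set_option backward.isDefEq.respectTransparency false
set_option backward.isDefEq.respectTransparency.types false
open CategoryTheory AlgebraicGeometry
universe u
open AlgSt

namespace Groth.Agent.S12860

/-- Let `𝒳` be an algebraic stack over `S`, `U` an algebraic space with a surjective smooth `u : U ⟶ 𝒳`,
and `j : V ⟶ U` an open immersion of algebraic spaces. Then there are an algebraic stack `𝒴`, an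
open immersion `i : 𝒴 ⟶ 𝒳` and a surjective smooth `g : V ⟶ 𝒴` such that `i ∘ g` is 2-isomorphic to
`u ∘ j` (the compatibility is part of the published proof, which constructs `𝒴` as the image of
`V`). -/
theorem result {S : Scheme.{u}} {𝒳 : AlgSt.Cat S}
    (h𝒳 : AlgSt.IsAlgStack Scheme.fppfPrecoverage 𝒳) (U : AlgSp.Space S) (u : AlgSt.ofSp U.obj ⥤ᵇ 𝒳)
    (hu₁ : AlgSt.RepByAlgSpWith (AlgSp.LocP @Smooth) u) (hu₂ : AlgSt.RepByAlgSpWith AlgSp.IsSurjectiveMor u)
    (V : AlgSp.Space S) (j : V ⟶ U) (hj : AlgSp.RepWith @IsOpenImmersion j.hom) :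
    ∃ (𝒴 : AlgSt.Cat S) (i : 𝒴 ⥤ᵇ 𝒳) (g : AlgSt.ofSp V.obj ⥤ᵇ 𝒴),
      AlgSt.IsAlgStack Scheme.fppfPrecoverage 𝒴 ∧ AlgSt.IsOpenImm i ∧
        AlgSt.RepByAlgSpWith (AlgSp.LocP @Smooth) g ∧ AlgSt.RepByAlgSpWith AlgSp.IsSurjectiveMor g ∧
          Nonempty (BasedFunctor.comp g i ≅ BasedFunctor.comp (AlgSt.ofSpMap j.hom) u) := by
  exact GrothLib.AlgSt.exists_openImm_image h𝒳 U u hu₁ V j hj

end Groth.Agent.S12860
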