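import Groth.Statements.S12861
import Groth.Agent.Lib.AlgSt.OpenSub


set_option autoImplicit false
set_option backward.isDefEq.respectTransparency false
set_option backward.isDefEq.respectTransparency.types false
open CategoryTheory AlgebraicGeometry
universe u w
open AlgSt

namespace Groth.Agent.S12861

/-- Let `𝒳` be an algebraic stack over `S` and `𝒳_i ⊂ 𝒳` a family of open substacks. Then there is an
open substack `𝒳' ⊂ 𝒳`, the union of the `𝒳_i`, containing every `𝒳_i` and covered by them: its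
points in `|𝒳|` are the union of the points of the `𝒳_i`. -/
theorem result {S : Scheme.{u}} {𝒳 : AlgSt.Cat S}
    (h𝒳 : AlgSt.IsAlgStack Scheme.fppfPrecoverage 𝒳) {ι : Type w} (Q : ι → 𝒳.obj → Prop)
    (hQ : ∀ i, AlgSt.IsOpenSubstack 𝒳 (Q i) Scheme.fppfPrecoverage) :
    ∃ Q' : 𝒳.obj → Prop, AlgSt.IsOpenSubstack 𝒳 Q' Scheme.fppfPrecoverage ∧ (∀ i y, Q i y → Q' y) ∧
      Set.range (AlgSt.Points.map (AlgSt.subIncl 𝒳 Q')) = ⋃ i, Set.range (AlgSt.Points.map (AlgSt.subIncl 𝒳 (Q i))) := by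
  have hW : IsOpen (⋃ i, Set.range (AlgSt.Points.map (AlgSt.subIncl 𝒳 (Q i)))) :=
    isOpen_iUnion fun i => GrothLib.AlgSt.isOpen_range_of_isOpenSubstack h𝒳 (hQ i)
  refine ⟨_, GrothLib.AlgSt.isOpenSubstack_openPred h𝒳 hW, fun i => ?_,
    GrothLib.AlgSt.range_points_map_subIncl_openPred h𝒳.isStack.1⟩
  refine (GrothLib.AlgSt.openSubstack_le_iff h𝒳 (hQ i) (GrothLib.AlgSt.isOpenSubstack_openPred h𝒳 hW)).2 ?_
  rw [GrothLib.AlgSt.range_points_map_subIncl_openPred h𝒳.isStack.1]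
  exact Set.subset_iUnion (fun i => Set.range (AlgSt.Points.map (AlgSt.subIncl 𝒳 (Q i)))) i

end Groth.Agent.S12861
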