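import Groth.Statements.S12862
import Groth.Agent.Lib.AlgSt.OpenSubQC


set_option autoImplicit false
set_option backward.isDefEq.respectTransparency false
set_option backward.isDefEq.respectTransparency.types false
open CategoryTheory AlgebraicGeometry
universe u w
open AlgSt

namespace Groth.Agent.S12862

/-- Let `𝒳` be an algebraic stack over `S`, `𝒳' ⊂ 𝒳` a quasi-compact open substack and `𝒳_i ⊂ 𝒳` a
family of open substacks with `𝒳' ⊂ ⋃ 𝒳_i`. Then `𝒳' ⊂ ⋃_{i ∈ I'} 𝒳_i` for a finite set `I'` of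
indices. Containments between open substacks are read on their points in `|𝒳|`, which is the same as
containment of the substacks. -/
theorem result {S : Scheme.{u}} {𝒳 : AlgSt.Cat S}
    (h𝒳 : AlgSt.IsAlgStack Scheme.fppfPrecoverage 𝒳) (Q' : 𝒳.obj → Prop) (hQ' : AlgSt.IsOpenSubstack 𝒳 Q' Scheme.fppfPrecoverage)
    (hqc : AlgSt.IsQuasiCompact (AlgSt.fullSub 𝒳 Q'))
    {ι : Type w} (Q : ι → 𝒳.obj → Prop) (hQ : ∀ i, AlgSt.IsOpenSubstack 𝒳 (Q i) Scheme.fppfPrecoverage)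
    (hcov : Set.range (AlgSt.Points.map (AlgSt.subIncl 𝒳 Q')) ⊆ ⋃ i, Set.range (AlgSt.Points.map (AlgSt.subIncl 𝒳 (Q i)))) :
    ∃ I' : Finset ι, Set.range (AlgSt.Points.map (AlgSt.subIncl 𝒳 Q')) ⊆ ⋃ i ∈ I', Set.range (AlgSt.Points.map (AlgSt.subIncl 𝒳 (Q i))) := by
  exact GrothLib.AlgSt.exists_finset_subcover h𝒳 hQ' hqc Q hQ hcov

end Groth.Agent.S12862
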