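import Groth.Statements.S12865
import Groth.Agent.Lib.AlgSt.ClosedSub


set_option autoImplicit false
set_option backward.isDefEq.respectTransparency false
set_option backward.isDefEq.respectTransparency.types false
open CategoryTheory AlgebraicGeometry
universe u
open AlgSt

namespace Groth.Agent.S12865

/-- Let `𝒳` be a reduced algebraic stack over `S` and `𝒳' ⊂ 𝒳` a closed substack (a predicate on objects
closed under isomorphisms whose full subcategory is an algebraic stack with closed-immersion
inclusion) with `|𝒳'| = |𝒳|`. Then `𝒳' = 𝒳`: every object of `𝒳` lies in `𝒳'`. -/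
theorem result {S : Scheme.{u}} {𝒳 : AlgSt.Cat S}
    (h𝒳 : AlgSt.IsAlgStack Scheme.fppfPrecoverage 𝒳) (hred : AlgSt.SmoothLocally (fun X => IsReduced X) 𝒳)
    (Q : 𝒳.obj → Prop) (hQ : AlgSt.IsClosedSubstack 𝒳 Q Scheme.fppfPrecoverage)
    (hpts : Set.range (AlgSt.Points.map (AlgSt.subIncl 𝒳 Q)) = Set.univ) (y : 𝒳.obj) : Q y := by
  exact GrothLib.AlgSt.forall_substack_of_reduced h𝒳 h𝒳 hred hQ (BasedFunctor.id 𝒳)
    (by rw [hpts]; exact Set.subset_univ _) y

end Groth.Agent.S12865
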