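import Groth.Statements.S1287
import Groth.Agent.Lib.BlowFree1.Content
import Groth.Agent.Lib.BlowFree1.Fitt
import Groth.Agent.Lib.RG6.Dev.Fibre
import Groth.Agent.Lib.RGProj13.Flat
-- import your own Groth.Agent.* helpers here

set_option autoImplicit false
universe u
open FlatMor

namespace Groth.Agent.S1287

open GrothLib GrothLib.BlowFree1 AlgebraicGeometry CategoryTheory TensorProduct

theorem isPrime_map_baseChange {R R' S S' : Type u} [CommRing R] [CommRing R'] [CommRing S] [CommRing S']
    [Algebra R R'] [Algebra R S] [Algebra R S'] [Algebra R' S'] [Algebra S S'] [IsScalarTower R R' S']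
    [IsScalarTower R S S'] [Algebra.IsPushout R R' S S'] [Module.Flat R S] (hgi : FlatCA.GeomIntegralFibres R S)
    (p' : Ideal R') [p'.IsPrime] : (p'.map (algebraMap R' S')).IsPrime := by
  haveI : Module.Flat R' S' :=
    Module.Flat.isBaseChange R R' S S' (f := (IsScalarTower.toAlgHom R S S').toLinearMap) Algebra.IsPushout.out
  haveI : Algebra.IsPushout R S R' S' := Algebra.IsPushout.symm inferInstance
  have sq := isPullback_SpecMap_of_isPushout _ _ _ _ (CommRingCat.isPushout_of_isPushout R S R' S')
  have h' : FlatCA.GeomIntegralFibres R' S' := MorphismProperty.of_isPullback (P := @GeometricallyIntegral) sq hgi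
  haveI := RG6.Dev.isDomain_fiber p' h'
  exact RG6.Dev.isPrime_map p'

theorem mul_eq_zero_of_flat {R' S' : Type u} [CommRing R'] [CommRing S'] [Algebra R' S'] [Module.Flat R' S'] {a : R'}
    (ha : a ∈ nonZeroDivisors R') {z : S'} (hz : algebraMap R' S' a * z = 0) : z = 0 := by
  have hinj : Function.Injective (LinearMap.mulLeft R' a) := fun x y h => by
    refine sub_eq_zero.1 (mem_nonZeroDivisors_iff_left.1 ha _ ?_)
    rw [mul_sub]; exact sub_eq_zero.2 h
  have h1 := Module.Flat.lTensor_preserves_injective_linearMap (M := S') (LinearMap.mulLeft R' a) hinj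
  have h2 : z ⊗ₜ[R'] (1 : R') = 0 := h1 (by
    rw [LinearMap.lTensor_tmul, map_zero, LinearMap.mulLeft_apply, mul_one]
    apply (TensorProduct.rid R' S').injective
    rw [TensorProduct.rid_tmul, map_zero, Algebra.smul_def, hz])
  have h3 := congrArg (TensorProduct.rid R' S') h2
  rwa [TensorProduct.rid_tmul, map_zero, one_smul] at h3

open TensorProduct in
/-- Let R be a ring, f ∈ R, r ≥ 0, S a finitely presented flat R-algebra all of whose fibre rings are
geometrically integral, and M a finite S-module such that M_f is finitely presented over S_f and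
such that for every prime p of R not containing f, with q = pS, the localization M_q is free of rank
r over S_q. Then there is a finitely generated ideal I of R with V(I) = V(f) such that for every a ∈
I, writing R' = R[I/a] for the affine blow-up algebra, S' = S ⊗_R R' and M' for the base change of M
to S' modulo its a-power torsion (any models of the base change): for every prime p' of R' there is
g ∈ S' outside p'S' with M'_g free of rank r over S'_g. -/
theorem result {R S : Type u} [CommRing R] [CommRing S] [Algebra R S] [Algebra.FinitePresentation R S] [Module.Flat R S]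
    (hgi : FlatCA.GeomIntegralFibres R S) (f : R) (r : ℕ)
    (M : Type u) [AddCommGroup M] [Module S M] [Module R M] [IsScalarTower R S M] [Module.Finite S M]
    (hfp : Module.FinitePresentation (Localization.Away (algebraMap R S f)) (LocalizedModule (Submonoid.powers (algebraMap R S f)) M))
    (hfree : ∀ (p : Ideal R) [p.IsPrime] [(p.map (algebraMap R S)).IsPrime], f ∉ p →
      Module.Free (Localization.AtPrime (p.map (algebraMap R S))) (LocalizedModule (p.map (algebraMap R S)).primeCompl M) ∧
      Module.rank (Localization.AtPrime (p.map (algebraMap R S))) (LocalizedModule (p.map (algebraMap R S)).primeCompl M) = r) :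
    ∃ I : Ideal R, I.FG ∧ I.radical = (Ideal.span {f}).radical ∧ ∀ a ∈ I,
      ∀ (S' M' : Type u) [CommRing S'] [Algebra S S'] [Algebra (BlowUp.affineAlgebra R I a) S'] [Algebra R S']
        [IsScalarTower R S S'] [IsScalarTower R (BlowUp.affineAlgebra R I a) S']
        [Algebra.IsPushout R S (BlowUp.affineAlgebra R I a) S']
        [AddCommGroup M'] [Module S' M'] [Module S M'] [IsScalarTower S S' M']
        (φ : M →ₗ[S] M'), IsBaseChange S' φ →
        ∀ (p' : Ideal (BlowUp.affineAlgebra R I a)) [p'.IsPrime],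
          ∃ g : S', g ∉ p'.map (algebraMap (BlowUp.affineAlgebra R I a) S') ∧
            Module.Free (Localization.Away g)
              (LocalizedModule (Submonoid.powers g) (M' ⧸ FlatCA.powTorsion S' (algebraMap R S' a) M')) ∧
            Module.rank (Localization.Away g)
              (LocalizedModule (Submonoid.powers g) (M' ⧸ FlatCA.powTorsion S' (algebraMap R S' a) M')) = r := by
  classical
  haveI : Module.Projective R S := RGProj13.projective_of_flat hgi
  let fS := algebraMap R S f
  obtain ⟨M₀, _, _, _, π, hπ, hker⟩ := exists_finitePresentation_cover fS hfp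
  have hfS : ∀ (p : Ideal R) [p.IsPrime] [(p.map (algebraMap R S)).IsPrime], f ∉ p →
      fS ∉ p.map (algebraMap R S) := by
    intro p _ hq hfp hmem
    refine hq.ne_top ((Ideal.eq_top_iff_one _).2 (mem_map_iff_coeff_le.2 ?_))
    rintro _ ⟨φ', rfl⟩
    have h1 := coeff_le_of_mem_map hmem (apply_mem_coeff _ φ')
    rw [show fS = f • (1 : S) from Algebra.algebraMap_eq_smul_one f, map_smul, smul_eq_mul] at h1
    exact (Ideal.IsPrime.mem_or_mem inferInstance h1).resolve_left hfp
  have hprime : ∀ (p : Ideal R) [p.IsPrime], (p.map (algebraMap R S)).IsPrime := fun p _ => by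
    haveI := RG6.Dev.isDomain_fiber p hgi
    exact RG6.Dev.isPrime_map p
  -- the Fitting ideals at the generic points of the fibres over `D(f)`
  have hfitt : ∀ (p : Ideal R) [p.IsPrime] [(p.map (algebraMap R S)).IsPrime], f ∉ p → ∀ j,
      (Fitt.ideal S M j).map (algebraMap S (Localization.AtPrime (p.map (algebraMap R S)))) =
        if r ≤ j then ⊤ else ⊥ := by
    intro p _ _ hfp j
    obtain ⟨h1, h2⟩ := hfree p hfp
    haveI := h1
    haveI : Module.Finite (Localization.AtPrime (p.map (algebraMap R S)))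
        (LocalizedModule (p.map (algebraMap R S)).primeCompl M) :=
      Module.Finite.of_isLocalizedModule (p.map (algebraMap R S)).primeCompl
        (LocalizedModule.mkLinearMap (p.map (algebraMap R S)).primeCompl M)
    rw [← GrothLib.Fitting.ideal_localized, GrothLib.Fitting.ideal_of_basis
      ((Module.finBasis _ _).reindex (finCongr (Module.finrank_eq_of_rank_eq h2)))]
  have hlow : ∀ j, j < r → ∀ d ∈ Fitt.ideal S M₀ j, ∃ N : ℕ, f ^ N • d = 0 := by
    intro j hj d hd
    have hd' := GrothLib.Fitting.ideal_le_of_surjective π hπ j hd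
    have hrad : f ∈ ((⊥ : Submodule R S).colon {d}).radical := by
      rw [Ideal.radical_eq_sInf, Ideal.mem_sInf]
      rintro p ⟨hle, hp⟩
      by_contra hfp
      haveI := hprime p
      have h1 := Ideal.mem_map_of_mem (algebraMap S (Localization.AtPrime (p.map (algebraMap R S)))) hd'
      rw [hfitt p hfp j, if_neg (by omega), Ideal.mem_bot,
        IsLocalization.map_eq_zero_iff (p.map (algebraMap R S)).primeCompl] at h1
      obtain ⟨⟨u, hu⟩, hud⟩ := h1
      obtain ⟨t, ht, htd⟩ := exists_notMem_smul_eq_zero p d u hu hud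
      exact ht (hle (Submodule.mem_colon_singleton.2 (by rw [Submodule.mem_bot]; exact htd)))
    obtain ⟨N, hN⟩ := hrad
    exact ⟨N, by simpa [Submodule.mem_colon_singleton] using hN⟩
  have htop : ∀ (p : Ideal R) [p.IsPrime] [(p.map (algebraMap R S)).IsPrime], f ∉ p →
      ¬ Fitt.ideal S M₀ r ≤ p.map (algebraMap R S) := by
    intro p _ hq hfp hle
    have hnot : ¬ Fitt.ideal S M r ≤ p.map (algebraMap R S) := fun hMle => by
      have hmap := hfitt p hfp r
      rw [if_pos le_rfl, GrothLib.Fitting.map_eq_top_iff (p.map (algebraMap R S)).primeCompl] at hmap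
      obtain ⟨y, hy1, hy2⟩ := Set.not_disjoint_iff.1 hmap
      exact hy1 (hMle hy2)
    obtain ⟨g, hgp, y, hy⟩ := GrothLib.Fitting.exists_smul_mem_span r _ ((GrothLib.Fitting.not_le_iff_finrank_fiber_le r _).1 hnot)
    choose y₀ hy₀ using fun i => hπ (y i)
    generalize hqdef : p.map (algebraMap R S) = qq at *
    refine absurd hle ((GrothLib.Fitting.not_le_iff_exists_span_atPrime r qq).2 ⟨fun i => LocalizedModule.mkLinearMap qq.primeCompl M₀ (y₀ i), ?_⟩)
    refine Submodule.eq_top_iff'.2 fun w => ?_
    induction w using LocalizedModule.induction_on with | _ m s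
    have hm : π (g • m) ∈ Submodule.span S (Set.range y) := by rw [map_smul]; exact hy _
    rw [show Set.range y = π '' Set.range y₀ by rw [← Set.range_comp]; exact congrArg Set.range (funext fun i => (hy₀ i).symm),
      ← Submodule.map_span] at hm
    obtain ⟨v, hv, hqv⟩ := hm
    obtain ⟨N, hN⟩ := hker (g • m - v) (by rw [map_sub, hqv, sub_self])
    have hfq : fS ∉ qq := by
      have := hfS p
      simp only [hqdef] at this
      exact this hfp
    have hsg : fS ^ N * g ∈ qq.primeCompl := mul_mem (pow_mem hfq N) hgp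
    have hmem : LocalizedModule.mkLinearMap qq.primeCompl M₀ ((fS ^ N * g) • m) ∈
        Submodule.span (Localization.AtPrime qq) (Set.range fun i => LocalizedModule.mkLinearMap qq.primeCompl M₀ (y₀ i)) := by
      refine Submodule.span_le_restrictScalars S (Localization.AtPrime qq) _ ?_
      rw [show (Set.range fun i => LocalizedModule.mkLinearMap qq.primeCompl M₀ (y₀ i)) =
        LocalizedModule.mkLinearMap qq.primeCompl M₀ '' Set.range y₀ from Set.range_comp _ y₀, ← Submodule.map_span]
      refine Submodule.mem_map_of_mem ?_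
      rw [mul_smul, ← sub_add_cancel (g • m) v, smul_add, hN, zero_add]
      exact Submodule.smul_mem _ _ hv
    have heq : LocalizedModule.mk m s =
        (Localization.mk 1 (s * ⟨_, hsg⟩ : qq.primeCompl)) • LocalizedModule.mkLinearMap qq.primeCompl M₀ ((fS ^ N * g) • m) := by
      rw [LocalizedModule.mkLinearMap_apply, LocalizedModule.mk_smul_mk, one_smul, mul_one, LocalizedModule.mk_eq]
      exact ⟨1, by simp [Submonoid.smul_def, mul_smul]⟩
    exact heq ▸ Submodule.smul_mem _ _ hmem
  obtain ⟨G, hG⟩ := GrothLib.Fitting.ideal_fg (R := S) (M := M₀) r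
  let c : Ideal R := ⨆ h : G, coeff (h : S)
  have hHc : Fitt.ideal S M₀ r ≤ c.map (algebraMap R S) := by
    rw [← hG, Submodule.span_le]
    intro h hh
    exact Ideal.map_mono (le_iSup (fun h : G => coeff (R := R) (h : S)) ⟨h, hh⟩) (mem_map_coeff h)
  have hfc : f ∈ c.radical := by
    rw [Ideal.radical_eq_sInf, Ideal.mem_sInf]
    rintro p ⟨hle, hp⟩
    by_contra hfp
    haveI := hprime p
    exact htop p hfp (hHc.trans (Ideal.map_mono hle))
  refine ⟨Ideal.span {f} * c, (Submodule.fg_span (Set.finite_singleton f)).mul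
    (Submodule.fg_iSup _ fun h => coeff_fg (h : S)), ?_, ?_⟩
  · rw [Ideal.radical_mul, inf_eq_left]
    exact Ideal.radical_le_radical_iff.2 ((Ideal.span_singleton_le_iff_mem _).2 hfc)
  intro a ha S' M' _ _ _ _ _ _ _ _ _ _ _ φ hφ p' _
  let R' := ↥(BlowUp.affineAlgebra R (Ideal.span {f} * c) a)
  let e : R' ≃ₐ[R] R' := AlgEquiv.refl
  have ha₁ := GrothLib.Fitting.blowUp_algebraMap_mem_nonZeroDivisors e
  have hmap := GrothLib.Fitting.blowUp_map_eq_span ha e
  rw [Ideal.map_mul, Ideal.map_span, Set.image_singleton] at hmap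
  obtain ⟨γ, hγc, hγ⟩ := Ideal.mem_span_singleton_mul.1 (hmap.symm ▸ Ideal.subset_span rfl :
    algebraMap R R' a ∈ Ideal.span {algebraMap R R' f} * c.map (algebraMap R R'))
  have hf₁ : ∀ x : R', algebraMap R R' f * x = 0 → x = 0 := fun x hx =>
    mem_nonZeroDivisors_iff_left.1 ha₁ x (by rw [← hγ, mul_right_comm, hx, zero_mul])
  have hγ₁ : ∀ x : R', γ * x = 0 → x = 0 := fun x hx =>
    mem_nonZeroDivisors_iff_left.1 ha₁ x (by rw [← hγ, mul_assoc, hx, mul_zero])
  have hc' : c.map (algebraMap R R') = Ideal.span {γ} := by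
    refine le_antisymm (fun x hx => ?_) ((Ideal.span_singleton_le_iff_mem _).2 hγc)
    have h1 : algebraMap R R' f * x ∈ Ideal.span {algebraMap R R' a} :=
      hmap ▸ Ideal.mul_mem_mul (Ideal.subset_span rfl) hx
    obtain ⟨y, hy⟩ := Ideal.mem_span_singleton'.1 h1
    refine Ideal.mem_span_singleton'.2 ⟨y, sub_eq_zero.1 (hf₁ _ ?_)⟩
    rw [mul_sub, ← hy, ← hγ]; ring
  haveI : Algebra.IsPushout R R' S S' := Algebra.IsPushout.symm inferInstance
  haveI : Module.Flat R' S' :=
    Module.Flat.isBaseChange R R' S S' (f := (IsScalarTower.toAlgHom R S S').toLinearMap) Algebra.IsPushout.out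
  haveI hq' : (p'.map (algebraMap R' S')).IsPrime := isPrime_map_baseChange (S := S) hgi p'
  have ha₂ : algebraMap R S' a ∈ nonZeroDivisors S' := mem_nonZeroDivisors_iff_left.2 fun z hz => by
    rw [IsScalarTower.algebraMap_apply R R' S'] at hz
    exact mul_eq_zero_of_flat ha₁ hz
  have htower : ∀ x, algebraMap S S' (algebraMap R S x) = algebraMap R' S' (algebraMap R R' x) := fun x => by
    rw [← IsScalarTower.algebraMap_apply R S S', ← IsScalarTower.algebraMap_apply R R' S']
  set a₂ := algebraMap R S' a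
  set γ₂ := algebraMap R' S' γ
  have haγ : a₂ = algebraMap R' S' (algebraMap R R' f) * γ₂ := by
    rw [← map_mul, hγ, ← IsScalarTower.algebraMap_apply R R' S']
  let N₀ := (S' ⊗[S] M₀) ⧸ FlatCA.powTorsion S' a₂ (S' ⊗[S] M₀)
  have hN₀low : ∀ j, j < r → Fitt.ideal S' N₀ j = ⊥ := by
    intro j hj
    refine GrothLib.Fitting.ideal_transform_eq_bot j _ ha₂ ?_
    rw [GrothLib.Fitting.ideal_baseChange, eq_bot_iff, Ideal.map_le_iff_le_comap]
    intro d hd
    obtain ⟨N, hN⟩ := hlow j hj d hd
    rw [Ideal.mem_comap, Ideal.mem_bot]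
    refine (mem_nonZeroDivisors_iff_left.1 (pow_mem ha₂ N)) _ ?_
    rw [Algebra.smul_def] at hN
    rw [haγ, ← htower, mul_pow, mul_right_comm, ← map_pow, ← map_mul, ← map_pow, hN, map_zero, zero_mul]
  have hN₀top : ¬ Fitt.ideal S' N₀ r ≤ p'.map (algebraMap R' S') := by
    intro hle
    have hdvd : ∀ d ∈ Fitt.ideal S' (S' ⊗[S] M₀) r, γ₂ ∣ d := fun d hd => by
      rw [GrothLib.Fitting.ideal_baseChange] at hd
      have h1 := Ideal.map_mono (f := algebraMap S S') hHc hd
      rw [Ideal.map_map, ← IsScalarTower.algebraMap_eq, IsScalarTower.algebraMap_eq R R' S', ← Ideal.map_map,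
        hc', Ideal.map_span, Set.image_singleton] at h1
      exact Ideal.mem_span_singleton.1 h1
    have hcle : c.map (algebraMap R R') ≤ Ideal.span {γ} * p' := by
      rw [Ideal.map_iSup, iSup_le_iff]
      rintro ⟨h, hh⟩
      refine map_coeff_le_of_mem_map (S' := S') h ?_
      have hmem : algebraMap S S' h ∈ Fitt.ideal S' (S' ⊗[S] M₀) r := by
        rw [GrothLib.Fitting.ideal_baseChange]
        exact Ideal.mem_map_of_mem _ (hG ▸ Ideal.subset_span hh)
      obtain ⟨x, hx, hxd⟩ := quot_mem_radical r (FlatCA.powTorsion S' a₂ (S' ⊗[S] M₀)).mkQ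
        (Submodule.mkQ_surjective _) γ₂ (fun m hm => (Submodule.Quotient.mk_eq_zero _).2
          ((GrothLib.Fitting.mem_powTorsion_iff a₂ m).2 ⟨1, by rw [pow_one, haγ, mul_smul, hm, smul_zero]⟩))
        hdvd hmem
      rw [← hxd, Ideal.map_mul, Ideal.map_span, Set.image_singleton]
      exact Ideal.mul_mem_mul (Ideal.subset_span rfl) (hq'.radical_le_iff.2 hle hx)
    obtain ⟨y, hy, hyγ⟩ := Ideal.mem_span_singleton_mul.1 (hcle hγc)
    have h1 : y - 1 = 0 := hγ₁ _ (by rw [mul_sub, hyγ, mul_one, sub_self])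
    exact Ideal.IsPrime.ne_top ‹p'.IsPrime› ((Ideal.eq_top_iff_one _).2 (sub_eq_zero.1 h1 ▸ hy))
  let q₁ : S' ⊗[S] M₀ →ₗ[S'] M' := hφ.equiv.toLinearMap ∘ₗ π.baseChange S'
  have hq₁ : Function.Surjective q₁ := hφ.equiv.surjective.comp (LinearMap.lTensor_surjective S' hπ)
  have hker₁ : ∀ y, q₁ y = 0 → y ∈ FlatCA.powTorsion S' a₂ (S' ⊗[S] M₀) := by
    intro y hy
    have hy' : π.baseChange S' y = 0 := hφ.equiv.map_eq_zero_iff.1 hy
    obtain ⟨u, rfl⟩ := ((lTensor_exact S' (LinearMap.exact_subtype_ker_map π) hπ) y).1 hy'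
    clear hy hy'
    induction u using TensorProduct.induction_on with
    | zero => rw [map_zero]; exact zero_mem _
    | add v w hv hw => rw [map_add]; exact add_mem hv hw
    | tmul t w =>
      obtain ⟨N, hN⟩ := hker w.1 w.2
      refine (GrothLib.Fitting.mem_powTorsion_iff _ _).2 ⟨N, ?_⟩
      have h0 : algebraMap S S' fS ^ N • (t ⊗ₜ[S] (w : M₀)) = 0 := by
        rw [← map_pow, algebraMap_smul, ← TensorProduct.tmul_smul, hN, TensorProduct.tmul_zero]
      rw [haγ, ← htower, mul_pow, mul_comm, mul_smul, LinearMap.lTensor_tmul, Submodule.subtype_apply, h0, smul_zero]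
  let T := FlatCA.powTorsion S' a₂ M'
  have hkereq : LinearMap.ker (T.mkQ ∘ₗ q₁) = FlatCA.powTorsion S' a₂ (S' ⊗[S] M₀) := by
    ext y
    rw [LinearMap.mem_ker, LinearMap.comp_apply, Submodule.mkQ_apply, Submodule.Quotient.mk_eq_zero]
    constructor
    · intro h
      obtain ⟨i, hi⟩ := (GrothLib.Fitting.mem_powTorsion_iff _ _).1 h
      obtain ⟨j, hj⟩ := (GrothLib.Fitting.mem_powTorsion_iff _ _).1 (hker₁ _ (by rw [map_smul]; exact hi))
      exact (GrothLib.Fitting.mem_powTorsion_iff _ _).2 ⟨j + i, by rw [pow_add, mul_smul]; exact hj⟩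
    · intro h
      obtain ⟨i, hi⟩ := (GrothLib.Fitting.mem_powTorsion_iff _ _).1 h
      exact (GrothLib.Fitting.mem_powTorsion_iff _ _).2 ⟨i, by rw [← map_smul, hi, map_zero]⟩
  let E := (Submodule.quotEquivOfEq _ _ hkereq.symm).trans
    (LinearMap.quotKerEquivOfSurjective (T.mkQ ∘ₗ q₁) (T.mkQ_surjective.comp hq₁))
  haveI : Module.Finite S' M' := Module.Finite.of_surjective q₁ hq₁
  exact free_near_of_not_le r (fun j hj => by rw [← GrothLib.Fitting.ideal_congr E]; exact hN₀low j hj) _
    (by rw [← GrothLib.Fitting.ideal_congr E]; exact hN₀top)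

end Groth.Agent.S1287
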