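import Groth.Statements.S12874
import Groth.Agent.Lib.AlgSt.ImmDescent


set_option autoImplicit false
set_option backward.isDefEq.respectTransparency false
set_option backward.isDefEq.respectTransparency.types false
open CategoryTheory AlgebraicGeometry
universe u
open AlgSt

namespace Groth.Agent.S12874

/-- Consider algebraic stacks `𝒳`, `𝒴` over `S` with a 1-morphism `f : 𝒳 ⟶ 𝒴`, and suppose `W` is an
algebraic space equipped with a map `w : W ⟶ 𝒴` that is flat, surjective and locally of finite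
presentation. In this situation `f` is an open immersion exactly when the 2-fibre product `V = W ×_𝒴
𝒳` is an algebraic space whose projection `V ⟶ W` is an open immersion of algebraic spaces; here the
projection is encoded by `V`, a morphism `a : V ⟶ W`, and an equivalence over `(Sch/S)` from the
category of `V` to the 2-fibre product such that composing it with the first projection gives a
functor 2-isomorphic to the functor of `a`. -/
theorem result {S : Scheme.{u}} {𝒳 𝒴 : AlgSt.Cat S}
    (h𝒳 : AlgSt.IsAlgStack Scheme.fppfPrecoverage 𝒳) (h𝒴 : AlgSt.IsAlgStack Scheme.fppfPrecoverage 𝒴)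
    (f : 𝒳 ⥤ᵇ 𝒴) (W : AlgSp.Space S) (w : AlgSt.ofSp W.obj ⥤ᵇ 𝒴)
    (hw₁ : AlgSt.RepByAlgSpWith (AlgSp.LocP @Flat) w)
    (hw₂ : AlgSt.RepByAlgSpWith (AlgSp.LocP @LocallyOfFinitePresentation) w)
    (hw₃ : AlgSt.RepByAlgSpWith AlgSp.IsSurjectiveMor w) :
    AlgSt.IsOpenImm f ↔
      ∃ (V : AlgSp.Space S) (a : V ⟶ W) (e : AlgSt.ofSp V.obj ⥤ᵇ FibCat.fp w f),
        FibCat.IsEquivOver e ∧
          Nonempty (BasedFunctor.comp e (FibCat.fpFst w f) ≅ AlgSt.ofSpMap a.hom) ∧
            AlgSp.RepWith @IsOpenImmersion a.hom := by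
  obtain ⟨h₁, h₂⟩ := GrothLib.AlgSp.le_isImmersion_of_cases (P := @IsOpenImmersion) (Or.inr (Or.inl rfl))
  exact GrothLib.AlgSt.repByAlgSpWith_imm_iff h₁ h₂ h𝒳 h𝒴 f W w hw₁ hw₂ hw₃

end Groth.Agent.S12874
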