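import Groth.Statements.S12879
import Groth.Agent.Lib.ExtZTilde20.Main

set_option autoImplicit false
set_option maxHeartbeats 400000
set_option linter.style.haveILetI false
set_option backward.isDefEq.respectTransparency false
universe u
open CategoryTheory CategoryTheory.Limits TopologicalSpace AlgebraicGeometry
open Coherent

namespace Groth.Agent.S12879

/-- Let X be a locally Noetherian scheme, Z a closed subset with open complement U, F a coherent
O_X-module and G a quasi-coherent O_X-module. Then for every i the local Ext sheaf with supports
ℰxt^i_Z(F, G), the i-th right derived functor of N ↦ Γ_Z(ℋom(F, N)) on O_X-modules evaluated at G,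
is quasi-coherent. (The published statement allows Z locally closed; this row takes Z closed. The
internal Hom functor of F and injective resolutions of O_X-modules are the stated instance
hypotheses, both true.) -/
theorem result (X : Scheme.{u}) [IsLocallyNoetherian X] (U : X.Opens)
    (F G : X.Modules) (hF : Coh.IsCoh F) (hG : Coh.IsQCoh G)
    [ModSite.HasSheafHom (O := X.sheaf) F] [HasInjectiveResolutions (ModSite.Mod X.sheaf)] (i : ℕ) :
    Coh.IsQCoh ((ModSite.extZSh (O := X.sheaf) U F i).obj G) := by
  exact GrothLib.ExtZTilde20.isQCoh_extZSh U hF hG i

end Groth.Agent.S12879
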