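import Groth.Statements.S12881
import Groth.Agent.Lib.ExtZTilde20.Pointwise

set_option autoImplicit false
set_option maxHeartbeats 400000
set_option linter.style.haveILetI false
set_option backward.isDefEq.respectTransparency false
universe u
open CategoryTheory CategoryTheory.Limits TopologicalSpace AlgebraicGeometry
open Coherent

namespace Groth.Agent.S12881

/-- Let X be a locally Noetherian scheme, Y a closed subset with open complement U, F and G coherent
O_X-modules, S the support of F and S' the closure of S ∩ U. If for every point x of Y ∩ S' the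
depth of the stalk G_x over O_{X,x} is at least n, then ℰxt^i_Y(F, G) is coherent for every i < n.
(Internal Hom of F and injective resolutions of O_X-modules are the stated instance hypotheses, both
true.) -/
theorem result (X : Scheme.{u}) [IsLocallyNoetherian X] (U : X.Opens)
    (F G : X.Modules) (hF : Coh.IsCoh F) (hG : Coh.IsCoh G) (n : ℕ)
    (hdepth : ∀ x ∈ closure (CohB1.support F ∩ (U : Set X)), x ∉ (U : Set X) →
      (n : ℕ∞) ≤ LocCoh.depth (X.presheaf.stalk x) (G.presheaf.stalk x))
    [ModSite.HasSheafHom (O := X.sheaf) F] [HasInjectiveResolutions (ModSite.Mod X.sheaf)]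
    (i : ℕ) (hi : i < n) :
    Coh.IsCoh ((ModSite.extZSh (O := X.sheaf) U F i).obj G) := by
  refine GrothLib.ExtZTilde20.isCoh_extZSh_of_subsingleton U hF hG i fun W hW l => ?_
  haveI : IsNoetherianRing Γ(X, W) := IsLocallyNoetherian.component_noetherian ⟨W, hW⟩
  haveI := hF.1
  haveI : Module.Finite Γ(X, W) (GrothLib.ExtTilde20.secMod (U := W) F) :=
    GrothLib.QCoh.moduleFinite_of_isFiniteType F hF.2 hW
  haveI : Module.Finite Γ(X, W) (GrothLib.ExtZTilde20.freePart (GrothLib.ExtZTilde20.idealOf U hW)
      (GrothLib.ExtTilde20.secMod (U := W) F)) :=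
    Module.Finite.of_surjective (Submodule.mkQ _) (Submodule.mkQ_surjective _)
  haveI : Module.Finite Γ(X, W) (GrothLib.ExtZTilde20.quotPow (GrothLib.ExtZTilde20.idealOf U hW)
      (GrothLib.ExtZTilde20.freePart (GrothLib.ExtZTilde20.idealOf U hW) (GrothLib.ExtTilde20.secMod (U := W) F)) l) :=
    Module.Finite.of_surjective (Submodule.mkQ _) (Submodule.mkQ_surjective _)
  haveI := hG.1
  haveI : Module.Finite Γ(X, W) Γ(G, W) := GrothLib.QCoh.moduleFinite_of_isFiniteType G hG.2 hW
  refine GrothLib.ExtZTilde20.subsingleton_ext_of_forall_depth _ Γ(G, W) hi fun p hp => ?_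
  obtain ⟨h1, h2⟩ := GrothLib.ExtZTilde20.mem_support_quotPow_freePart U hW hF hp
  exact (hdepth _ h1 h2).trans_eq (GrothLib.ExtZTilde20.depth_secMod hW G hG p).symm

end Groth.Agent.S12881
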