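import Groth.Statements.S12884
import Groth.Agent.Lib.ExtZTilde20.Pointwise
import Groth.Agent.Lib.HomSh.Coherent

set_option autoImplicit false
set_option maxHeartbeats 400000
set_option linter.style.haveILetI false
set_option backward.isDefEq.respectTransparency false
universe u
open CategoryTheory CategoryTheory.Limits TopologicalSpace AlgebraicGeometry
open Coherent

namespace Groth.Agent.S12884

/-- Let X be a locally Noetherian scheme whose local rings are all regular, Y a closed subset with open
complement U, F a coherent O_X-module, P the set of points of Y lying in the closure of (Supp F) ∩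
U, and n a natural number which is not the dimension of O_{X,x} for any x in P. Then ℰxt^n_Y(F, O_X)
is coherent. (Internal Hom of F and injective resolutions of O_X-modules are the stated instance
hypotheses, both true.) -/
theorem result (X : Scheme.{u}) [IsLocallyNoetherian X]
    (hreg : ∀ x : X, IsRegularLocalRing (X.presheaf.stalk x)) (U : X.Opens)
    (F : X.Modules) (hF : Coh.IsCoh F) (n : ℕ)
    (hn : ∀ x ∈ closure (CohB1.support F ∩ (U : Set X)), x ∉ (U : Set X) →
      ringKrullDim (X.presheaf.stalk x) ≠ (n : WithBot ℕ∞))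
    [ModSite.HasSheafHom (O := X.sheaf) F] [HasInjectiveResolutions (ModSite.Mod X.sheaf)] :
    Coh.IsCoh ((ModSite.extZSh (O := X.sheaf) U F n).obj (Coh.structureModule X)) := by
  refine GrothLib.ExtZTilde20.isCoh_extZSh_of_subsingleton U hF (GrothLib.HomSh.isCoh_structureModule X) n fun W hW l => ?_
  haveI : IsNoetherianRing Γ(X, W) := IsLocallyNoetherian.component_noetherian ⟨W, hW⟩
  haveI := hF.1
  haveI : Module.Finite Γ(X, W) (GrothLib.ExtTilde20.secMod (U := W) F) :=
    GrothLib.QCoh.moduleFinite_of_isFiniteType F hF.2 hW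
  haveI : Module.Finite Γ(X, W) (GrothLib.ExtZTilde20.freePart (GrothLib.ExtZTilde20.idealOf U hW)
      (GrothLib.ExtTilde20.secMod (U := W) F)) :=
    Module.Finite.of_surjective (Submodule.mkQ _) (Submodule.mkQ_surjective _)
  haveI : Module.Finite Γ(X, W) (GrothLib.ExtZTilde20.quotPow (GrothLib.ExtZTilde20.idealOf U hW)
      (GrothLib.ExtZTilde20.freePart (GrothLib.ExtZTilde20.idealOf U hW) (GrothLib.ExtTilde20.secMod (U := W) F)) l) :=
    Module.Finite.of_surjective (Submodule.mkQ _) (Submodule.mkQ_surjective _)
  haveI := GrothLib.ExtZTilde20.isRegularRing_sections hW hreg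
  haveI := GrothLib.ExtZTilde20.subsingleton_ext_self_of_height_ne
    (GrothLib.ExtZTilde20.quotPow (GrothLib.ExtZTilde20.idealOf U hW)
      (GrothLib.ExtZTilde20.freePart (GrothLib.ExtZTilde20.idealOf U hW) (GrothLib.ExtTilde20.secMod (U := W) F)) l)
    n fun p hp h => by
      obtain ⟨h1, h2⟩ := GrothLib.ExtZTilde20.mem_support_quotPow_freePart U hW hF hp
      refine hn _ h1 h2 ?_
      rw [← GrothLib.ExtZTilde20.height_eq_ringKrullDim_stalk hW p, h]
      rfl
  exact this

end Groth.Agent.S12884
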