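import Groth.Statements.S12886
import Groth.Agent.Lib.DepthExt20.Basic

set_option autoImplicit false
set_option maxHeartbeats 400000
set_option linter.style.haveILetI false
universe u
open CategoryTheory CategoryTheory.Limits TopologicalSpace AlgebraicGeometry
open Coherent

namespace Groth.Agent.S12886

/-- Let X be a locally Noetherian scheme, Y a closed subset with open complement U, F a coherent
O_X-module and n a natural number. If some coherent O_X-module G has support equal to Y and ℰxt^i(G,
F) = 0 for all i < n, then the depth of F_x over O_{X,x} is at least n for every point x of Y. (The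
converse holds with G = O_Y. Internal Hom of every O_X-module and injective resolutions of
O_X-modules are the stated instance hypotheses, both true.) -/
theorem result (X : Scheme.{u}) [IsLocallyNoetherian X]
    (U : X.Opens) (F : X.Modules) (hF : Coh.IsCoh F) (n : ℕ)
    [∀ M : X.Modules, ModSite.HasSheafHom (O := X.sheaf) M] [HasInjectiveResolutions (ModSite.Mod X.sheaf)]
    (h : ∃ G : X.Modules, Coh.IsCoh G ∧ CohB1.support G = (U : Set X)ᶜ ∧
      ∀ i : ℕ, i < n → IsZero ((ModSite.extSh (O := X.sheaf) G i).obj F))
    (x : X) (hx : x ∉ (U : Set X)) :
    (n : ℕ∞) ≤ LocCoh.depth (X.presheaf.stalk x) (F.presheaf.stalk x) := by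
  obtain ⟨G, hG, hsupp, hz⟩ := h
  exact GrothLib.DepthExt20.le_depth_of_isZero_extSh hG hF hz (hsupp ▸ hx)

end Groth.Agent.S12886
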