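import Groth.Statements.S12890
import Groth.Agent.Lib.ModSupp25.Subterminal
-- import your own Groth.Agent.* helpers here

set_option autoImplicit false
universe u
open CategoryTheory CategoryTheory.Limits
open ModSite

namespace Groth.Agent.S12890
open GrothLib GrothLib.ModSupp25


/-- On a small ringed site (C, J, O) with O commutative, let U be a subterminal object (every object has
at most one morphism to U), Z its closed complement and j_{U*} the direct image of modules along the
localisation C/U → C. Then ℋ^1_Z is isomorphic to the cokernel of the unit M → j_{U*}(M|_U) (so that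
0 → ℋ^0_Z(M) → M → j_{U*}(M|_U) → ℋ^1_Z(M) → 0 is exact), and for every q ≥ 1 the functor ℋ^{q+1}_Z
is isomorphic to M ↦ R^q j_{U*}(M|_U). (Existence of isomorphisms of functors only. The direct image
j_{U*} with its additivity and injective resolutions of modules on C and on C/U are the stated
instance hypotheses, all true.) -/
theorem result {C : Type u} [SmallCategory C] {J : GrothendieckTopology C}
    (O : Sheaf J CommRingCat.{u}) (U : C)
    (hU : ∀ V : C, Subsingleton (V ⟶ U)) [ModSite.HasPushOver O U] [(ModSite.pushOver O U).Additive]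
    [HasInjectiveResolutions (ModSite.Mod O)] [HasInjectiveResolutions (ModSite.Mod (O.over U))] :
    Nonempty (ModSite.HZsh O U 1 ≅ cokernel (ModSite.restrPushOverAdj O U).unit) ∧
      ∀ q : ℕ, 1 ≤ q →
        Nonempty (ModSite.HZsh O U (q + 1) ≅ ModSite.restr O U ⋙ (ModSite.pushOver O U).rightDerived q) := by
  have := preservesFiniteLimits_restr O U
  have := preservesFiniteColimits_restr O U
  have : PreservesLimitsOfSize.{0, 0} (ModSite.pushOver O U) :=
    (ModSite.restrPushOverAdj O U).rightAdjoint_preservesLimits
  let ι := ModSite.sectOnι O U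
  let π := (ModSite.restrPushOverAdj O U).unit
  have hse := fun I (hI : Injective I) => @shortExact_sect_injective _ _ _ O U _ hU I hI
  have hz : ∀ (F : ModSite.Mod O) (n : ℕ), IsZero (((𝟭 (ModSite.Mod O)).rightDerived (n + 1)).obj F) :=
    fun F n => LocZ.isZero_rightDerived_exact (𝟭 (ModSite.Mod O)) F n
  refine ⟨⟨(FunSES25.cokernelIso ι π (sectOnι_comp_unit O U) hse (fun F => hz F 0)).symm⟩, fun q hq => ?_⟩
  obtain ⟨m, rfl⟩ : ∃ m, q = m + 1 := ⟨q - 1, by omega⟩
  have : ∀ F, IsIso ((FunSES25.δ ι π (sectOnι_comp_unit O U) hse (m + 1)).app F) :=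
    fun F => FunSES25.isIso_δ_app ι π (sectOnι_comp_unit O U) hse F (m + 1) (hz F m) (hz F (m + 1))
  have : IsIso (FunSES25.δ ι π (sectOnι_comp_unit O U) hse (m + 1)) := NatIso.isIso_of_isIso_app _
  exact ⟨(asIso (FunSES25.δ ι π (sectOnι_comp_unit O U) hse (m + 1))).symm ≪≫
    (LocZ.rightDerivedPreExactIso (ModSite.restr O U)
      (fun I hI => haveI := hI; injective_restr O U I) (ModSite.pushOver O U) (m + 1)).symm⟩

end Groth.Agent.S12890
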