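-- Proof of statement S12892.
import Groth.Statements.S12892
import Groth.Agent.Lib.PreExact25.Basic
import Groth.Agent.Lib.ModSupp25.Flasque
import Groth.Agent.Lib.ModSupp25.Localise

set_option autoImplicit false
set_option linter.all false
set_option maxHeartbeats 800000
universe u
open CategoryTheory CategoryTheory.Limits Opposite GrothLib GrothLib.SheafCoh GrothLib.ModSupp25
open ModSite

namespace Groth.Agent.S12892

section

variable {C : Type u} [SmallCategory C] {J : GrothendieckTopology C} {O O' : Sheaf J CommRingCat.{u}} (φ : O ⟶ O')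

/-- Restriction of scalars. -/
noncomputable abbrev rs : ModSite.Mod O' ⥤ ModSite.Mod O :=
  SheafOfModules.restrictScalars ((sheafCompose J (forget₂ CommRingCat.{u} RingCat.{u})).map φ)

noncomputable def rsToSheaf : rs φ ⋙ tS O ≅ tS O' := Iso.refl _

theorem additive_rs : (rs φ).Additive := ⟨fun {M N f g} => by
  apply (tS O).map_injective
  rw [Functor.map_add]⟩

theorem preservesFiniteLimits_rs : PreservesFiniteLimits (rs φ) := by
  have hl : ∀ (R : Sheaf J CommRingCat.{u}), PreservesLimitsOfSize.{0, 0} (tS R) := fun R =>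
    (SiteDer.tensShAdj (ModSite.ringSh R)).rightAdjoint_preservesLimits
  have := hl O'
  have := hl O
  refine ⟨fun K _ _ => ?_⟩
  have : PreservesLimitsOfShape K (rs φ ⋙ tS O) := preservesLimitsOfShape_of_natIso (rsToSheaf φ).symm
  have : ReflectsLimitsOfShape K (tS O) := reflectsLimitsOfShape_of_reflectsIsomorphisms
  exact preservesLimitsOfShape_of_reflects_of_preserves (rs φ) (tS O)

theorem preservesFiniteColimits_rs : PreservesFiniteColimits (rs φ) := by
  have hl : ∀ (R : Sheaf J CommRingCat.{u}), PreservesFiniteColimits (tS R) := fun R =>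
    have := preservesHomology_toSheaf (ModSite.ringSh R)
    (tS R).preservesFiniteColimits_of_preservesHomology
  have := hl O'
  have := hl O
  refine ⟨fun K _ _ => ?_⟩
  have : PreservesColimitsOfShape K (rs φ ⋙ tS O) := preservesColimitsOfShape_of_natIso (rsToSheaf φ).symm
  have : ReflectsColimitsOfShape K (tS O) := reflectsColimitsOfShape_of_reflectsIsomorphisms
  exact preservesColimitsOfShape_of_reflects_of_preserves (rs φ) (tS O)

variable (U : C) [ModSite.HasPushOver O U] [ModSite.HasPushOver O' U]

theorem isNullOn_rs {M : ModSite.Mod O'} (h : ModSite.IsNullOn O' U M) : ModSite.IsNullOn O U ((rs φ).obj M) :=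
  (isNullOn_iff O U _).2 fun V g x => (isNullOn_iff O' U M).1 h g x

/-- Sections with supports of a restriction of scalars. -/
noncomputable def sectMap (M : ModSite.Mod O') :
    (rs φ).obj ((ModSite.sectOn O' U).obj M) ⟶ (ModSite.sectOn O U).obj ((rs φ).obj M) :=
  sectLift O U ((rs φ).map ((ModSite.sectOnι O' U).app M))
    ((isNullOn_rs φ U (isNullOn_sectOn O' U M)).eq_of_src _ _)

theorem sectMap_ι (M : ModSite.Mod O') :
    sectMap φ U M ≫ (ModSite.sectOnι O U).app ((rs φ).obj M) = (rs φ).map ((ModSite.sectOnι O' U).app M) :=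
  sectLift_ι _ _ _ _

theorem isIso_sectMap (M : ModSite.Mod O') : IsIso (sectMap φ U M) := by
  let ι := (ModSite.sectOnι O' U).app M
  let ι' := (ModSite.sectOnι O U).app ((rs φ).obj M)
  have h : ∀ V x, app O ι' V (app O (sectMap φ U M) V x) = app O' ι V x := fun V x => by
    rw [← app_comp, sectMap_ι]
    rfl
  have hb : ∀ V, Function.Bijective (app O (sectMap φ U M) V) := fun V => by
    refine ⟨fun a b hab => app_injective O' ι V (((h V a).symm.trans (congrArg _ hab)).trans (h V b)), fun y => ?_⟩
    obtain ⟨x, hx⟩ := exists_sect_of_vanish O' U M (V := V) (app O ι' V y) (fun V' g φ' => by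
      refine (res_app O ι' g y).trans ?_
      rw [(isNullOn_iff O U _).1 (isNullOn_sectOn O U ((rs φ).obj M)) φ' (res O _ g y)]
      exact map_zero _)
    exact ⟨x, app_injective O ι' V ((h V x).trans hx)⟩
  have : IsIso ((tS O).map (sectMap φ U M)) := by
    have : IsIso ((sheafToPresheaf J AddCommGrpCat.{u}).map ((tS O).map (sectMap φ U M))) := by
      refine @NatIso.isIso_of_isIso_app _ _ _ _ _ _ _ fun P => ?_
      rw [ConcreteCategory.isIso_iff_bijective]
      exact hb P.unop
    exact isIso_of_reflects_iso _ (sheafToPresheaf J AddCommGrpCat.{u})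
  exact isIso_of_reflects_iso _ (tS O)

/-- `Γ_Z` commutes with restriction of scalars. -/
noncomputable def sectIso : ModSite.sectOn O' U ⋙ rs φ ≅ rs φ ⋙ ModSite.sectOn O U :=
  NatIso.ofComponents (fun M => haveI := isIso_sectMap φ U M; asIso (sectMap φ U M))
    (fun {M N} f => by
      apply (cancel_mono ((ModSite.sectOnι O U).app ((rs φ).obj N))).1
      simp only [Functor.comp_map, asIso_hom, Category.assoc, sectMap_ι]
      erw [(ModSite.sectOnι O U).naturality ((rs φ).map f)]
      rw [← Category.assoc, sectMap_ι]
      simp only [Functor.id_map, ← Functor.map_comp]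
      exact congrArg (rs φ).map ((ModSite.sectOnι O' U).naturality f))

end

/-- Local cohomology sheaves commute with restriction of scalars. -/
theorem result {C : Type u} [SmallCategory C] {J : GrothendieckTopology C}
    {O O' : Sheaf J CommRingCat.{u}} (φ : O ⟶ O') (U : C)
    [ModSite.HasPushOver O U] [ModSite.HasPushOver O' U]
    [HasInjectiveResolutions (ModSite.Mod O)] [HasInjectiveResolutions (ModSite.Mod O')] (q : ℕ) :
    Nonempty (ModSite.HZsh O' U q ⋙
        SheafOfModules.restrictScalars ((sheafCompose J (forget₂ CommRingCat.{u} RingCat.{u})).map φ) ≅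
      SheafOfModules.restrictScalars ((sheafCompose J (forget₂ CommRingCat.{u} RingCat.{u})).map φ) ⋙
        ModSite.HZsh O U q) := by
  haveI := additive_rs φ
  haveI := preservesFiniteLimits_rs φ
  haveI := preservesFiniteColimits_rs φ
  haveI : (rs φ).PreservesHomology := Functor.preservesHomologyOfExact _
  haveI := preservesFiniteLimits_sectOn O U
  haveI : EnoughInjectives (ModSite.Mod O) := inferInstance
  haveI : EnoughInjectives (ModSite.Mod O') := inferInstance
  have hA : ∀ I : ModSite.Mod O', Injective I →
      GrothSS.IsAcyclicObj (ModSite.sectOn O U) ((rs φ).obj I) := fun I hI k =>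
    have := hI
    isZero_HZsh_of_totallyAcyclic O U ((rs φ).obj I) (isTotallyAcyclic_of_injective_module (ModSite.ringSh O') I) k
  exact ⟨rightDerivedPostIso (ModSite.sectOn O' U) (rs φ) q ≪≫ SheafCoh.rightDerivedCongr (sectIso φ U) q ≪≫
    PreExact25.preExactIso (rs φ) (ModSite.sectOn O U) hA q⟩

end Groth.Agent.S12892
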