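import Groth.Statements.S12895
import Groth.Agent.Lib.ModSupp25.SS
-- import your own Groth.Agent.* helpers here

set_option autoImplicit false
universe u
open CategoryTheory CategoryTheory.Limits
open ModSite

namespace Groth.Agent.S12895
open Opposite GrothLib.ModSupp25 GrothLib.GrothSS GrothLib.SheafCoh


/-- The local-to-global Ext sequence: on a small ringed site (C, J, O) with O commutative, for O-modules
M and N there is an E₂ spectral sequence of abelian groups with E₂^{p,q} ≅ H^p(C, ℰxt^q_O(M, N)) for
p, q ≥ 0 (and 0 otherwise), bounded, abutting with finite filtrations to Ext^n_O(M, N) (n ≥ 0; 0 for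
n < 0); here ℰxt^q_O(M, -) are the right derived functors of the internal Hom ℋom_O(M, -), H^p(C, -)
is the cohomology of the site with values in the underlying abelian sheaf, and Ext^n_O is computed
in the category of O-modules. (Existence only: the E₂ identifications and the abutment are some
isomorphisms. The internal Hom of M, injective resolutions of O-modules and smallness of the Ext
groups of O-modules are the stated instance hypotheses, all true.) -/
theorem result {C : Type u} [SmallCategory C] {J : GrothendieckTopology C}
    (O : Sheaf J CommRingCat.{u}) (M N : ModSite.Mod O)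
    [ModSite.HasSheafHom M] [HasInjectiveResolutions (ModSite.Mod O)] [HasExt.{u} (ModSite.Mod O)] :
    ∃ (E : E₂CohomologicalSpectralSequence AddCommGrpCat.{u})
      (a : SpSeq.Abutment E (fun n : ℤ =>
        if 0 ≤ n then AddCommGrpCat.of (Abelian.Ext.{u} M N n.toNat) else AddCommGrpCat.of PUnit.{u + 1})),
      (∀ n : ℤ, a.IsFinite n) ∧ SpSeq.IsBounded E ∧
      ∀ p q : ℤ, Nonempty ((E.page 2 le_rfl).X (p, q) ≅
        (if 0 ≤ p ∧ 0 ≤ q then AddCommGrpCat.of (ModSite.HC O ((ModSite.extSh M q.toNat).obj N) p.toNat)
          else AddCommGrpCat.of PUnit.{u + 1})) := 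
  exists_grothendieck (preadditiveCoyoneda.obj (op (ModSite.unit O))) (ModSite.sheafHom M)
    (fun I hI p hp => haveI := hI; isZero_R_homUnit_sheafHom M I p hp) N
    (fun p q => AddCommGrpCat.of (ModSite.HC O ((ModSite.extSh M q).obj N) p))
    (fun n => AddCommGrpCat.of (Abelian.Ext M N n)) (AddCommGrpCat.of PUnit.{u + 1}) (AddCommGrpCat.isZero_of_subsingleton _)
    (fun n => ⟨((rightDerivedExtFunctorIso M _ (unitHomIso O M) n).app N).symm⟩)
    (fun p q => ⟨(nonempty_R_homUnit _ p).some.symm⟩)

end Groth.Agent.S12895
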