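import Groth.Statements.S12899
import Groth.Agent.Lib.DCxRing.AwayQuot

set_option autoImplicit false
universe u
open CategoryTheory CategoryTheory.Limits
attribute [local instance] HasDerivedCategory.standard
open DRing

namespace Groth.Agent.S12899

/-- Let R be a commutative ring, f ∈ R and M an object of D(R) such that (1) H^i(M) = 0 for i &gt; 0,
(2) in D(R_f), M ⊗^L_R R_f is isomorphic to a flat R_f-module concentrated in degree 0, and (3) in
D(R/fR), M ⊗^L_R R/fR is isomorphic to a flat R/fR-module concentrated in degree 0. Then, in D(R), M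
itself is isomorphic to a flat R-module concentrated in degree 0. (The derived base change functors
along R → R_f and R → R/fR are the stated instance hypotheses, both true.) -/
theorem result {R : Type u} [CommRing R] (f : R) (M : Dual.D R)
    [DRing.HasLBaseChange (algebraMap R (Localization.Away f))]
    [DRing.HasLBaseChange (Ideal.Quotient.mk (Ideal.span ({f} : Set R)))]
    (h1 : ∀ i : ℤ, 0 < i → Subsingleton (Dual.HD R M i))
    (h2 : ∃ (N : Type u) (_ : AddCommGroup N) (_ : Module (Localization.Away f) N),
      Module.Flat (Localization.Away f) N ∧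
        Nonempty ((DRing.LBaseChange (algebraMap R (Localization.Away f))).obj M ≅ Dual.inD (Localization.Away f) N))
    (h3 : ∃ (N : Type u) (_ : AddCommGroup N) (_ : Module (R ⧸ Ideal.span ({f} : Set R)) N),
      Module.Flat (R ⧸ Ideal.span ({f} : Set R)) N ∧
        Nonempty ((DRing.LBaseChange (Ideal.Quotient.mk (Ideal.span ({f} : Set R)))).obj M ≅
          Dual.inD (R ⧸ Ideal.span ({f} : Set R)) N)) :
    ∃ (N : Type u) (_ : AddCommGroup N) (_ : Module R N), Module.Flat R N ∧ Nonempty (M ≅ Dual.inD R N) := by
  obtain ⟨N₂, _, _, hN₂, ⟨e₂⟩⟩ := h2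
  obtain ⟨N₃, _, _, hN₃, ⟨e₃⟩⟩ := h3
  exact GrothLib.DR.exists_flat_inD_iso_of_away_quotient f M h1
    (GrothLib.DR.hasTorAmplitudeIn_of_iso e₂.symm (GrothLib.DR.hasTorAmplitudeIn_of_flat N₂))
    (GrothLib.DR.hasTorAmplitudeIn_of_iso e₃.symm (GrothLib.DR.hasTorAmplitudeIn_of_flat N₃))

end Groth.Agent.S12899
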