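import Groth.Statements.S12901
import Groth.Agent.Lib.Lift7.SysIso

set_option autoImplicit false
universe u
open CategoryTheory AlgebraicGeometry
open FSch

namespace Groth.Agent.S12901

/-- Let A be a complete Noetherian local ring with maximal ideal m, and 𝔛 a formal scheme proper and
flat over A, presented as an adic system X_0 → X_1 → ⋯ over the thickenings Spec(A/m^{n+1}) (the
structure morphism is adic with proper level 0, and every level X_n → Spec(A/m^{n+1}) is flat). If
X_0 is projective (it carries an ample invertible sheaf) and H^2(X_0, O_{X_0}) = 0, then 𝔛 is the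
m-adic completion of a projective A-scheme: there are a proper A-scheme X carrying an ample
invertible sheaf and an isomorphism of systems, over the base, between 𝔛 and the completion of X
along the pulled-back ideal. -/
theorem result (A : Type u) [CommRing A] [IsLocalRing A]
    [IsNoetherianRing A] [IsAdicComplete (IsLocalRing.maximalIdeal A) A]
    (𝔛 : FSch.Sys.{u}) (f : 𝔛 ⟶ FSch.completionAlong (Spec (CommRingCat.of A)) (FSch.idealSpec A (IsLocalRing.maximalIdeal A)))
    (hf : FSch.IsProperHom f) (hflat : ∀ n : ℕ, Flat ((f : FSch.Hom _ _).app n))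
    (hproj : ∃ L₀ : (𝔛.X 0).Modules, CohB1.IsAmple L₀)
    (hH2 : Subsingleton (Coh.HH (𝔛.X 0) (Coh.structureModule (𝔛.X 0)) 2)) :
    ∃ (X : Scheme.{u}) (g : X ⟶ (Spec (CommRingCat.of A))) (L : X.Modules), IsProper g ∧ CohB1.IsAmple L ∧
      ∃ (h : FSch.PowCompat g ((FSch.idealSpec A (IsLocalRing.maximalIdeal A)).comap g) (FSch.idealSpec A (IsLocalRing.maximalIdeal A)))
        (e : 𝔛 ≅ FSch.completionAlong X ((FSch.idealSpec A (IsLocalRing.maximalIdeal A)).comap g)),
        e.hom ≫ FSch.completionMap g ((FSch.idealSpec A (IsLocalRing.maximalIdeal A)).comap g) (FSch.idealSpec A (IsLocalRing.maximalIdeal A)) h = f := by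
  obtain ⟨L₀, hL₀⟩ := hproj
  exact GrothLib.Lift7.exists_algebraization_of_h2 𝔛 f hf hflat hL₀ hH2

end Groth.Agent.S12901
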