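import Groth.Statements.S12903
import Groth.Agent.Lib.LocQCoh25.LC
import Groth.Agent.Lib.QCoh.Qcqs

set_option autoImplicit false
set_option maxHeartbeats 400000
set_option linter.style.haveILetI false
set_option backward.isDefEq.respectTransparency.types false
universe u
open CategoryTheory CategoryTheory.Limits AlgebraicGeometry Opposite
open Coherent

namespace Groth.Agent.S12903

/-- Let X be a scheme, j : U → X a quasi-compact open immersion with closed complement Z, F a
quasi-coherent O_X-module, V an affine open of X and I a finitely generated ideal of Γ(V, O_X)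
cutting out Z ∩ V (a point of V lies outside U if and only if it lies in no basic open X_f with f ∈
I). Then a section s of F over V belongs to the subsheaf Γ_Z(F) of sections supported in Z (the
kernel of F → j_*(F|_U)) if and only if I^n s = 0 for some n. -/
theorem result {U X : Scheme.{u}} (j : U ⟶ X) [IsOpenImmersion j] [QuasiCompact j]
    (F : X.Modules) (hF : Coh.IsQCoh F) (V : X.Opens) (hV : IsAffineOpen V)
    (I : Ideal (X.ringCatSheaf.obj.obj (op V))) (hI : I.FG)
    (hZ : ∀ x : X, x ∈ V → (x ∉ Set.range j.base ↔ ∀ f ∈ I, x ∉ X.basicOpen (f : Γ(X, V))))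
    (s : F.val.obj (op V)) :
    s ∈ Set.range ((((CxOX.gammaZι j).app F).val.app (op V)).hom) ↔ ∃ n : ℕ, ∀ a ∈ I ^ n, a • s = 0 := by
  have : F.IsQuasicoherent := hF
  let W : X.Opens := j ''ᵁ (j ⁻¹ᵁ V)
  let s' : Γ(F, V) := s
  have hW : W ≤ V := Scheme.Hom.image_preimage_le j V
  have hmem : s ∈ Set.range ((((CxOX.gammaZι j).app F).val.app (op V)).hom) ↔
      F.presheaf.map (homOfLE hW).op s' = 0 := by
    constructor
    · rintro ⟨t, rfl⟩
      exact GrothLib.LocQCoh25.gammaι_vanish j F V t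
    · intro h
      obtain ⟨t, ht⟩ := GrothLib.LocQCoh25.exists_gammaι j F V s' h
      exact ⟨t, ht⟩
  rw [hmem]
  have hle : ∀ f ∈ I, X.basicOpen (f : Γ(X, V)) ≤ W := by
    intro f hf x hx
    have hxV : x ∈ V := X.basicOpen_le (f : Γ(X, V)) hx
    by_cases hr : x ∈ Set.range j.base
    · obtain ⟨y, rfl⟩ := hr
      exact ⟨y, hxV, rfl⟩
    · exact absurd hx ((hZ x hxV).1 hr f hf)
  have hcov : W ≤ ⨆ f : I, X.basicOpen ((f : X.ringCatSheaf.obj.obj (op V)) : Γ(X, V)) := by
    rintro _ ⟨y, hy, rfl⟩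
    by_contra hn
    exact (hZ _ hy).2 (fun f hf hx => hn (TopologicalSpace.Opens.mem_iSup.2 ⟨⟨f, hf⟩, hx⟩)) ⟨y, rfl⟩
  constructor
  · intro h
    let I' : Ideal Γ(X, V) := I
    let J : Ideal Γ(X, V) := LinearMap.ker (LinearMap.toSpanSingleton Γ(X, V) Γ(F, V) s')
    have hI' : I'.FG := hI
    have hrad : I' ≤ J.radical := fun f hf => by
      obtain ⟨n, hn⟩ := GrothLib.QCoh.smulSep_of_isCompact F hV.isCompact f s' (by
        have hm := GrothLib.Cohom.map_map_apply F (homOfLE hW) (homOfLE (hle f hf)) s'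
        rw [h, map_zero] at hm
        exact hm.symm)
      exact ⟨n, LinearMap.mem_ker.2 hn⟩
    obtain ⟨n, hn⟩ := Ideal.exists_pow_le_of_le_radical_of_fg (J := J) hrad hI'
    exact ⟨n, fun a ha => LinearMap.mem_ker.1 (hn (show (a : Γ(X, V)) ∈ I' ^ n from ha))⟩
  · rintro ⟨n, hn⟩
    refine GrothLib.QCoh.eq_zero_of_finite_cover F
      (fun f : I => X.basicOpen ((f : X.ringCatSheaf.obj.obj (op V)) : Γ(X, V)))
      (fun f => hle f f.2) hcov _ fun f => ?_
    rw [GrothLib.Cohom.map_map_apply]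
    have hu : IsUnit (X.presheaf.map (homOfLE (X.basicOpen_le (f.1 : Γ(X, V)))).op (f.1 : Γ(X, V))) :=
      X.toRingedSpace.isUnit_res_basicOpen _
    refine (hu.pow n).smul_eq_zero.1 ?_
    rw [← map_pow]
    refine (Scheme.Modules.map_smul F _ _ s').symm.trans ?_
    let f' : Γ(X, V) := f.1
    have h0 : f' ^ n • s' = 0 := hn _ (Ideal.pow_mem_pow f.2 n)
    exact (congrArg (F.presheaf.map (homOfLE (X.basicOpen_le (f.1 : Γ(X, V)))).op) h0).trans (map_zero _)

end Groth.Agent.S12903
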