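import Groth.Statements.S12907
import Mathlib
import Groth.Agent.Lib.BEExact.ShortResolution

set_option autoImplicit false
universe u
open CAlgX

namespace Groth.Agent.S12907

/-- Let R be a Noetherian ring and I a nonzero ideal admitting a free resolution 0 → R^m → R^n → I → 0:
an injective matrix Ψ with n rows and m columns, and a linear map π : R^n → R with image I whose
kernel is the image of Ψ. Then n = m + 1; there is a non-zero-divisor a with I = a · I_m(Ψ), where
I_m(Ψ) is the ideal generated by the m × m minors of Ψ; and the I_m(Ψ)-depth of R is at least 2.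
(The published statement also asserts that this depth is exactly 2; only the lower bound is stated
here. The hypothesis that I is nonzero is implicit in the published statement.) -/
theorem result {R : Type u} [CommRing R] [IsNoetherianRing R] (m n : ℕ)
    (Ψ : Matrix (Fin n) (Fin m) R) (π : (Fin n → R) →ₗ[R] R)
    (hΨ : LinearMap.ker Ψ.mulVecLin = ⊥) (hex : LinearMap.ker π = LinearMap.range Ψ.mulVecLin)
    (hI : LinearMap.range π ≠ ⊥) :
    n = m + 1 ∧
      (∃ a : R, a ∈ nonZeroDivisors R ∧ LinearMap.range π = Ideal.span {a} * CAlgX.minorIdeal Ψ m) ∧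
      2 ≤ LocCoh.idealDepth (CAlgX.minorIdeal Ψ m) R := by
  have : Nontrivial R := by
    by_contra h
    rw [not_nontrivial_iff_subsingleton] at h
    exact hI (Subsingleton.elim _ _)
  have hex1 : GrothLib.BEExact.IsExact 1 (GrothLib.BEExact.pairSize n m) (GrothLib.BEExact.pairMat Ψ) :=
    ⟨hΨ, fun i hi => absurd hi (by omega)⟩
  obtain ⟨hσ, -⟩ := GrothLib.BEExact.rank_rowMatrix 1 le_rfl (GrothLib.BEExact.pairSize n m)
    (GrothLib.BEExact.pairMat Ψ) π hI hex hex1
  obtain rfl : n = m + 1 := by
    simp [GrothLib.BEExact.σ, GrothLib.BEExact.consSize, GrothLib.BEExact.pairSize, Finset.sum_range_succ] at hσ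
    omega
  have hdepth : 2 ≤ LocCoh.idealDepth (CAlgX.minorIdeal Ψ m) R := by
    have h := GrothLib.BEExact.le_idealDepth_minorIdeal 2 _ _
      (GrothLib.BEExact.isExact_consRow 1 le_rfl (GrothLib.BEExact.pairSize (m + 1) m)
        (GrothLib.BEExact.pairMat Ψ) π hex hex1) 1 (by omega) m
      (by simp [GrothLib.BEExact.σ, GrothLib.BEExact.consSize, GrothLib.BEExact.pairSize])
    exact h
  refine ⟨rfl, ?_, hdepth⟩
  obtain ⟨-, hker⟩ := GrothLib.BEExact.exact_minors Ψ hdepth (one_mem (nonZeroDivisors R))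
  let π₁ := Fintype.linearCombination R fun i => (1 : R) * GrothLib.HB26.minors Ψ i
  have hkk : LinearMap.ker π₁ = LinearMap.ker π := hker.trans hex.symm
  have hrange : ∀ z ∈ CAlgX.minorIdeal Ψ m, ∃ v, π₁ v = z := fun z hz => by
    have h := GrothLib.BEExact.range_linearCombination_minors Ψ (1 : R)
    rw [Ideal.span_singleton_one, Ideal.top_mul] at h
    exact h.ge hz
  by_cases htop : CAlgX.minorIdeal Ψ m = ⊤
  · obtain ⟨w, hw⟩ := hrange 1 (htop ▸ trivial)
    have key : ∀ v, π v = π₁ v * π w := fun v => by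
      have h : v - π₁ v • w ∈ LinearMap.ker π := hkk.le (by
        rw [LinearMap.mem_ker, map_sub, map_smul, hw, smul_eq_mul, mul_one, sub_self])
      rwa [LinearMap.mem_ker, map_sub, map_smul, smul_eq_mul, sub_eq_zero] at h
    refine ⟨π w, mem_nonZeroDivisors_iff_right.2 fun b hb => ?_, ?_⟩
    · have h : b • w ∈ LinearMap.ker π₁ := hkk.ge (by rw [LinearMap.mem_ker, map_smul, smul_eq_mul, hb])
      rwa [LinearMap.mem_ker, map_smul, smul_eq_mul, hw, mul_one] at h
    · rw [htop, Ideal.mul_top]
      refine le_antisymm ?_ ((Ideal.span_singleton_le_iff_mem _).2 ⟨w, rfl⟩)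
      rintro _ ⟨v, rfl⟩
      exact Ideal.mem_span_singleton'.2 ⟨π₁ v, (key v).symm⟩
  · have hIM : CAlgX.minorIdeal Ψ m • (⊤ : Submodule R R) ≠ ⊤ := by
      rwa [Ideal.smul_eq_mul, Ideal.mul_top]
    obtain ⟨rs, hlen, hmem, hreg⟩ := (GrothLib.Depth.le_idealDepth_iff_exists _ hIM 2).1 hdepth
    obtain ⟨x, y, rfl⟩ := List.length_eq_two.1 hlen
    rw [RingTheory.Sequence.isWeaklyRegular_cons_iff, RingTheory.Sequence.isWeaklyRegular_singleton_iff] at hreg
    obtain ⟨hx, hy⟩ := hreg
    obtain ⟨wx, hwx⟩ := hrange x (hmem x (by simp))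
    obtain ⟨wy, hwy⟩ := hrange y (hmem y (by simp))
    have key : ∀ v w, π₁ w * π v = π₁ v * π w := fun v w => by
      have h : π₁ w • v - π₁ v • w ∈ LinearMap.ker π := hkk.le (by
        rw [LinearMap.mem_ker, map_sub, map_smul, map_smul, smul_eq_mul, smul_eq_mul, mul_comm, sub_self])
      rwa [LinearMap.mem_ker, map_sub, map_smul, map_smul, smul_eq_mul, smul_eq_mul, sub_eq_zero] at h
    obtain ⟨a, ha⟩ : ∃ a, π wx = x * a := by
      have h1 : y • (Submodule.Quotient.mk (π wx) : QuotSMulTop x R) = y • 0 := by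
        rw [smul_zero, ← Submodule.Quotient.mk_smul, Submodule.Quotient.mk_eq_zero, smul_eq_mul,
          ← hwy, key, hwx, ← smul_eq_mul]
        exact Submodule.smul_mem_pointwise_smul _ x (⊤ : Submodule R R) trivial
      obtain ⟨a, -, ha⟩ := (Submodule.Quotient.mk_eq_zero _).1 (hy h1)
      exact ⟨a, ha.symm⟩
    have hπ : ∀ v, π v = a * π₁ v := fun v => by
      refine hx ?_
      show x * π v = x * (a * π₁ v)
      rw [← hwx, key, ha, hwx]
      ring
    refine ⟨a, mem_nonZeroDivisors_iff_right.2 fun b hb => ?_, ?_⟩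
    · have h : b • wx ∈ LinearMap.ker π₁ := hkk.ge (by
        rw [LinearMap.mem_ker, map_smul, smul_eq_mul, hπ, ← mul_assoc, hb, zero_mul])
      rw [LinearMap.mem_ker, map_smul, smul_eq_mul, hwx] at h
      exact hx (show x * b = x * 0 by rw [mul_comm, h, mul_zero])
    · rw [← GrothLib.BEExact.range_linearCombination_minors]
      congr 1
      refine LinearMap.ext fun v => (hπ v).trans ?_
      simp only [π₁, Fintype.linearCombination_apply, one_mul, smul_eq_mul, Finset.mul_sum]
      exact Finset.sum_congr rfl fun i _ => by ring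

end Groth.Agent.S12907
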