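import Groth.Statements.S12908
import Mathlib
import Groth.Agent.Lib.BEExact.ShortResolution

set_option autoImplicit false
universe u
open CAlgX

namespace Groth.Agent.S12908

/-- Let R be a Noetherian ring, t a natural number, Ψ a (t+1) × t matrix over R such that the
I_t(Ψ)-depth of R is at least 2, where I_t(Ψ) is the ideal generated by the t × t minors of Ψ, and a
a non-zero-divisor of R. Put Δ_i = a · (-1)^i det Ψ_i, where Ψ_i is Ψ with row i deleted. Then 0 →
R^t → R^{t+1} → R, with first map Ψ and second map v ↦ Σ_i Δ_i v_i, is exact: Ψ is injective and the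
kernel of the second map equals the image of Ψ; moreover the image of the second map is the ideal a
· I_t(Ψ). (The published statement adds that this ideal has depth 2 exactly when a is a unit; that
clause is not stated here.) -/
theorem result {R : Type u} [CommRing R] [IsNoetherianRing R] (t : ℕ)
    (Ψ : Matrix (Fin (t + 1)) (Fin t) R) (hdepth : 2 ≤ LocCoh.idealDepth (CAlgX.minorIdeal Ψ t) R)
    (a : R) (ha : a ∈ nonZeroDivisors R) :
    LinearMap.ker Ψ.mulVecLin = ⊥ ∧
      LinearMap.ker (Fintype.linearCombination R
          (fun i : Fin (t + 1) => a * ((-1 : R) ^ (i : ℕ) * (Ψ.submatrix i.succAbove id).det))) =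
        LinearMap.range Ψ.mulVecLin ∧
      LinearMap.range (Fintype.linearCombination R
          (fun i : Fin (t + 1) => a * ((-1 : R) ^ (i : ℕ) * (Ψ.submatrix i.succAbove id).det))) =
        Ideal.span {a} * CAlgX.minorIdeal Ψ t := by
  obtain ⟨h1, h2⟩ := GrothLib.BEExact.exact_minors Ψ hdepth ha
  exact ⟨h1, h2, GrothLib.BEExact.range_linearCombination_minors Ψ a⟩

end Groth.Agent.S12908
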