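import Groth.Statements.S1291
import Mathlib
import Groth.Agent.S6890
import Groth.Agent.S12084
import Groth.Agent.Lib.Fitting.Support

set_option autoImplicit false
universe u
open FlatMor

namespace Groth.Agent.S1291


open TensorProduct
set_option maxHeartbeats 1000000

theorem fittingZero_eq {R : Type u} [CommRing R] (M : Type u) [AddCommGroup M] [Module R M] :
    FlatCA.fittingZero R M = Fitt.ideal R M 0 := by
  unfold FlatCA.fittingZero Fitt.ideal
  congr 1
  ext d
  simp only [Set.mem_setOf_eq, Nat.sub_zero]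
  constructor
  · rintro ⟨n, x, a, h1, h2, h3⟩
    exact ⟨n, x, a, h1, fun i _ => h2 i, h3⟩
  · rintro ⟨n, x, a, h1, h2, h3⟩
    exact ⟨n, x, a, h1, fun i => h2 i i.2, h3⟩

theorem fitt_congr {R : Type u} [CommRing R] {M N : Type u} [AddCommGroup M] [Module R M] [AddCommGroup N]
    [Module R N] [Module.Finite R M] (e : M ≃ₗ[R] N) : Fitt.ideal R M 0 = Fitt.ideal R N 0 := GrothLib.Fitting.ideal_congr e 0

theorem fitt_prod {R : Type u} [CommRing R] (M N : Type u) [AddCommGroup M] [Module R M] [AddCommGroup N]
    [Module R N] [Module.Finite R M] [Module.Finite R N] :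
    Fitt.ideal R (M × N) 0 = Fitt.ideal R M 0 * Fitt.ideal R N 0 := by
  rw [Groth.Agent.S12084.result R M N 0]; simp


/-- Let A → C be finite locally free of rank d (C a finite projective A-module of constant rank d), h ∈
C such that C_h is étale over A, and J an ideal of C. Let I be the zeroth Fitting ideal of C/J
regarded as a finite A-module. Then the extension of I to C_h equals J·J' for some ideal J' of C_h
(J extended to C_h); and if J is finitely generated then so are I and J'. -/
theorem result {A C : Type u} [CommRing A] [CommRing C] [Algebra A C] [Module.Finite A C] [Module.Projective A C]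
    (d : ℕ) (hd : ∀ p : PrimeSpectrum A, Module.rankAtStalk (R := A) C p = d)
    (h : C) [Algebra.Etale A (Localization.Away h)] (J : Ideal C) :
    ∃ J' : Ideal (Localization.Away h),
      (FlatCA.fittingZero A (C ⧸ J)).map (algebraMap A (Localization.Away h)) = J.map (algebraMap C (Localization.Away h)) * J' ∧
      (J.FG → (FlatCA.fittingZero A (C ⧸ J)).FG ∧ J'.FG) := by
  classical
  let L := Localization.Away h
  let R := L ⊗[A] C
  let μ : R →ₐ[L] L := Algebra.TensorProduct.lift (Algebra.ofId L L) (IsScalarTower.toAlgHom A C L) fun _ _ => Commute.all _ _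
  have hμl : ∀ (l : L) (c : C), μ (l ⊗ₜ c) = l * algebraMap C L c := fun l c => rfl
  have hμ : Function.Surjective μ := fun l => ⟨l ⊗ₜ 1, by rw [hμl, map_one, mul_one]⟩
  -- the multiplication is cut out by an idempotent
  have hidem : IsIdempotentElem (RingHom.ker μ.toRingHom) := by
    let sw : (C ⊗[A] L) ≃+* R := (Algebra.TensorProduct.comm A C L).toRingEquiv
    let μ' : C ⊗[A] L →+* L := μ.toRingHom.comp sw.toRingHom
    letI : Algebra (C ⊗[A] L) L := μ'.toAlgebra
    haveI : IsScalarTower C (C ⊗[A] L) L := by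
      refine ⟨fun c r l => ?_⟩
      have h1 : ∀ (c : C) (x : L), c • x = algebraMap C L c * x := fun c x => by rw [← Algebra.smul_def]
      have h2 : c • r = (c ⊗ₜ[A] (1 : L)) * r := Algebra.smul_def c r
      show μ' (c • r) * l = c • (μ' r * l)
      rw [h1, h2, map_mul, mul_assoc]
      exact congrArg (· * (μ' r * l)) ((hμl 1 c).trans (one_mul _))
    haveI : Algebra.FormallyEtale C L := .of_isLocalization (Submonoid.powers h)
    haveI : Algebra.FormallyEtale (C ⊗[A] L) L := Algebra.FormallyEtale.of_restrictScalars (R := C)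
    have h' : IsIdempotentElem (RingHom.ker μ') :=
      (Algebra.FormallyEtale.iff_of_surjective (R := C ⊗[A] L) (S := L) (hμ.comp sw.surjective)).1 inferInstance
    have hk : RingHom.ker μ.toRingHom = (RingHom.ker μ').map sw.toRingHom := by
      show _ = (RingHom.ker (μ.toRingHom.comp sw.toRingHom)).map sw.toRingHom
      rw [← RingHom.comap_ker, Ideal.map_comap_of_surjective sw.toRingHom sw.surjective]
    rw [hk, IsIdempotentElem, ← Ideal.map_mul, h']
  have hkerfg : (RingHom.ker μ.toRingHom).FG := by
    haveI : Algebra.FinitePresentation A L := inferInstance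
    haveI : Algebra.FinitePresentation L R := by
      haveI : Module.FinitePresentation A C := Module.finitePresentation_of_projective A C
      haveI : Algebra.FinitePresentation A C := Algebra.FinitePresentation.of_finitePresentation ..
      infer_instance
    haveI : Algebra.FinitePresentation L L := inferInstance
    exact Algebra.FinitePresentation.ker_fG_of_surjective μ hμ
  obtain ⟨e, he, hke⟩ := (Ideal.isIdempotentElem_iff_of_fg _ hkerfg).1 hidem
  let JR : Ideal R := J.map (Algebra.TensorProduct.includeRight : C →ₐ[A] R)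
  let I₁ : Ideal R := JR ⊔ RingHom.ker μ.toRingHom
  let I₂ : Ideal R := JR ⊔ Ideal.span {1 - e}
  have hcop : IsCoprime I₁ I₂ := by
    rw [Ideal.isCoprime_iff_exists]
    refine ⟨e, Ideal.mem_sup_right ?_, 1 - e, Ideal.mem_sup_right (Ideal.mem_span_singleton_self _), by ring⟩
    rw [hke]; exact Submodule.mem_span_singleton_self e
  have hinf : I₁ ⊓ I₂ = JR := by
    refine le_antisymm (fun z hz => ?_) (le_inf le_sup_left le_sup_left)
    obtain ⟨a₁, ha₁, b₁, hb₁, h1⟩ := Submodule.mem_sup.1 hz.1
    obtain ⟨a₂, ha₂, b₂, hb₂, h2⟩ := Submodule.mem_sup.1 hz.2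
    rw [hke] at hb₁
    obtain ⟨r₁, rfl⟩ := Ideal.mem_span_singleton'.1 hb₁
    obtain ⟨r₂, rfl⟩ := Ideal.mem_span_singleton'.1 hb₂
    have he' : e * e = e := he
    have : z = a₁ * (1 - e) + a₂ * e := by linear_combination (1 - e) * (-h1) + e * (-h2) + (-(r₁ + r₂)) * he'
    rw [this]
    exact add_mem (JR.mul_mem_right _ ha₁) (JR.mul_mem_right _ ha₂)
  let e₀ : (L ⊗[A] (C ⧸ J)) ≃ₗ[L] R ⧸ JR := (Algebra.TensorProduct.tensorQuotientEquiv L C L J).toLinearEquiv
  let crt : (R ⧸ JR) ≃ₐ[L] (R ⧸ I₁) × (R ⧸ I₂) :=
    (Ideal.quotientEquivAlgOfEq L hinf.symm).trans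
      (AlgEquiv.ofRingEquiv (f := Ideal.quotientInfEquivQuotientProd I₁ I₂ hcop) fun l => rfl)
  have hfin : Module.Finite L R := inferInstance
  haveI : Module.Finite L (R ⧸ I₁) := .of_surjective (Ideal.Quotient.mkₐ L I₁).toLinearMap Ideal.Quotient.mk_surjective
  haveI : Module.Finite L (R ⧸ I₂) := .of_surjective (Ideal.Quotient.mkₐ L I₂).toLinearMap Ideal.Quotient.mk_surjective
  have hmap : I₁.map μ.toRingHom = J.map (algebraMap C L) := by
    rw [Ideal.map_sup]
    show Ideal.map μ.toRingHom (Ideal.map (Algebra.TensorProduct.includeRight : C →ₐ[A] R).toRingHom J) ⊔ _ = _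
    rw [Ideal.map_map]
    have : μ.toRingHom.comp (Algebra.TensorProduct.includeRight : C →ₐ[A] R).toRingHom = algebraMap C L :=
      RingHom.ext fun c => (hμl 1 c).trans (one_mul _)
    erw [this]
    rw [(Ideal.map_eq_bot_iff_le_ker _).2 le_rfl, sup_bot_eq]
  have hF1 : Fitt.ideal L (R ⧸ I₁) 0 = J.map (algebraMap C L) := by
    let f : R →ₐ[L] L ⧸ J.map (algebraMap C L) := (Ideal.Quotient.mkₐ L _).comp μ
    have hf : Function.Surjective f := Ideal.Quotient.mk_surjective.comp hμ
    have hk : RingHom.ker f = I₁ := by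
      ext z
      show Ideal.Quotient.mk _ (μ z) = 0 ↔ _
      rw [Ideal.Quotient.eq_zero_iff_mem, ← hmap]
      show z ∈ (I₁.map μ.toRingHom).comap μ.toRingHom ↔ _
      rw [Ideal.comap_map_of_surjective μ.toRingHom hμ, ← RingHom.ker_eq_comap_bot, sup_eq_left.2 le_sup_right]
    rw [fitt_congr ((Ideal.quotientEquivAlgOfEq L hk.symm).trans (Ideal.quotientKerAlgEquivOfSurjective hf)).toLinearEquiv]
    exact GrothLib.Fitting.ideal_quotient_zero _
  refine ⟨Fitt.ideal L (R ⧸ I₂) 0, ?_, fun hJ => ?_⟩
  · rw [fittingZero_eq, ← Groth.Agent.S6890.result (C ⧸ J) 0, fitt_congr (e₀.trans crt.toLinearEquiv), fitt_prod, hF1]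
  have hJA : (J.restrictScalars A).FG := Submodule.FG.restrictScalars hJ
  haveI : Module.FinitePresentation A C := Module.finitePresentation_of_projective A C
  haveI : Module.FinitePresentation A (C ⧸ J) :=
    Module.finitePresentation_of_surjective ((Ideal.Quotient.mkₐ A J).toLinearMap) Ideal.Quotient.mk_surjective
      (by rw [show LinearMap.ker (Ideal.Quotient.mkₐ A J).toLinearMap = J.restrictScalars A from
            Submodule.ext fun z => Ideal.Quotient.eq_zero_iff_mem]; exact hJA)
  refine ⟨by rw [fittingZero_eq]; exact GrothLib.Fitting.ideal_fg 0, ?_⟩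
  haveI : Module.FinitePresentation L R := inferInstance
  have hI₂ : (I₂.restrictScalars L).FG :=
    Submodule.FG.restrictScalars (Submodule.FG.sup (Ideal.FG.map hJ _) (Submodule.fg_span_singleton _))
  haveI : Module.FinitePresentation L (R ⧸ I₂) :=
    Module.finitePresentation_of_surjective ((Ideal.Quotient.mkₐ L I₂).toLinearMap) Ideal.Quotient.mk_surjective
      (by rw [show LinearMap.ker (Ideal.Quotient.mkₐ L I₂).toLinearMap = I₂.restrictScalars L from
            Submodule.ext fun z => Ideal.Quotient.eq_zero_iff_mem]; exact hI₂)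
  exact GrothLib.Fitting.ideal_fg 0


end Groth.Agent.S1291
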