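import Groth.Statements.S12912
import Groth.Agent.Lib.CurveMult.SpaceCurve
import Groth.Agent.Lib.CurveMult.Basic

set_option autoImplicit false
universe u
open CategoryTheory CategoryTheory.Limits AlgebraicGeometry
open Curves

namespace Groth.Agent.S12912

/-- Let k be an algebraically closed field and X a curve over k (integral, proper over k, of dimension
one) with a closed immersion i : X → P^r_k over k whose image lies in no hyperplane: every nonzero
global section of O(1) on P^r_k pulls back to a nonzero global section of i^* O(1). Then deg i^*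
O(1) ≥ r. -/
theorem result (k : Type u) [Field k] [IsAlgClosed k] (r : ℕ)
    (X : Scheme.{u}) [X.Over (Spec (CommRingCat.of k))] [IsIntegral X] [IsProper (X ↘ (Spec (CommRingCat.of k)))]
    (hdim : topologicalKrullDim X = 1)
    (i : X ⟶ CohB1.ProjSpace r k) [IsClosedImmersion i]
    (hi : i ≫ CohB1.ProjSpace.toSpec r k = (X ↘ (Spec (CommRingCat.of k))))
    (hplane : ∀ s : LinSer.Sect (CohB1.ProjSpace r k) (Twist.twistProjSpace r k 1), s ≠ 0 →
      OmegaSh.pullSect i (Twist.twistProjSpace r k 1) ⊤ s ≠ 0) :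
    (r : ℤ) ≤ Curv2.deg k X ((Scheme.Modules.pullback i).obj (Twist.twistProjSpace r k 1)) 1 := by
  haveI := GrothLib.Euler.isNoetherian_of_proper (X := X) k
  have hinv := GrothLib.RelProjK.isInvertible_pullback i (GrothLib.CMReg.isInvertible_twist (n := r) (k := k) 1)
  have h1 := GrothLib.CurveMult.SpaceCurve.succ_le_finrank k i hi hplane
  obtain ⟨c, ⟨e⟩⟩ := GrothLib.Ample.exists_cocycle hinv
  rw [(GrothLib.Euler.hhEquiv (A := k) e 0).finrank_eq] at h1
  rw [GrothLib.Euler.deg_of_iso k e]
  haveI := GrothLib.Euler.finiteDimensional_HH k (GrothLib.Euler.isCoh_of_isInvertible (c.isInvertible_twist 1)) 0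
  haveI := GrothLib.Euler.finiteDimensional_HH k (GrothLib.Euler.isCoh_of_isInvertible (c.isInvertible_twist 0)) 0
  obtain ⟨z, hz⟩ := Module.finrank_pos_iff_exists_ne_zero.1 (show 0 < Module.finrank k (Coh.HH X (c.twist 1) 0) by omega)
  let a : c.sect 1 ⊤ := GrothLib.ProjCoh.H0top (c.twist 1) z
  have ha : a ≠ 0 := fun h => hz ((GrothLib.ProjCoh.H0top (c.twist 1)).map_eq_zero_iff.1 h)
  have hS := GrothLib.CurveMult.seq_shortExact c ha 0
  have hQ := (GrothLib.CurveMult.seq_data c k hdim.le ha 0).1
  haveI := GrothLib.Euler.finiteDimensional_HH k hQ 0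
  have h2 := GrothLib.Euler.finrank_eq_add_of_exact (GrothLib.Cohom.exact₂ (A := k) hS 0)
  have hr1 := LinearMap.finrank_range_le (GrothLib.Cohom.hhMap k (GrothLib.CurveMult.seq c a 0).f 0)
  have hr2 := Submodule.finrank_le (LinearMap.range (GrothLib.Cohom.hhMap k (GrothLib.CurveMult.seq c a 0).g 0))
  obtain ⟨e0⟩ := c.nonempty_twist_zero
  have h0 : Module.finrank k (Coh.HH X (c.twist 0) 0) = 1 := by
    rw [← (GrothLib.Euler.hhEquiv (A := k) e0 0).finrank_eq]
    exact GrothLib.CurveRR.finrank_H0_structure_eq_one k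
  have h3 := GrothLib.CurveMult.finrank_coker c k hdim.le ha 0
  change Module.finrank k (Coh.HH X (c.twist 1) 0) = _ at h2
  change _ ≤ Module.finrank k (Coh.HH X (c.twist 0) 0) at hr1
  change _ ≤ Module.finrank k (Coh.HH X (cokernel (GrothLib.CurveMult.T c a 0)) 0) at hr2
  omega

end Groth.Agent.S12912
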