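import Groth.Statements.S12914
import Mathlib.RingTheory.MvPolynomial.Homogeneous
import Mathlib.RingTheory.MvPolynomial.Ideal
import Mathlib.Algebra.MvPolynomial.Division
import Mathlib.FieldTheory.RatFunc.AsPolynomial
import Mathlib.LinearAlgebra.Basis.VectorSpace

set_option autoImplicit false
universe u
open CAlgX

namespace Groth.Agent.S12914

open MvPolynomial

section Staircase

variable {K : Type*} [Field K]

/-- The exponent of `x₀ ^ a * x₁ ^ b`. -/
noncomputable def mon (a b : ℕ) : Fin 3 →₀ ℕ := Finsupp.single 0 a + Finsupp.single 1 b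

@[simp] lemma mon_zero (a b : ℕ) : mon a b 0 = a := by simp [mon]
@[simp] lemma mon_one (a b : ℕ) : mon a b 1 = b := by simp [mon]
@[simp] lemma mon_two (a b : ℕ) : mon a b 2 = 0 := by simp [mon]

lemma degree_fin3 (e : Fin 3 →₀ ℕ) : e.degree = e 0 + e 1 + e 2 := by
  simp [Finsupp.degree_eq_sum, Fin.sum_univ_three]

lemma eq_mon (e : Fin 3 →₀ ℕ) (h : e 2 = 0) : e = mon (e 0) (e 1) := by
  ext i; fin_cases i <;> simp [h]

lemma le_mon_iff (e : Fin 3 →₀ ℕ) (a b : ℕ) : e ≤ mon a b ↔ e 0 ≤ a ∧ e 1 ≤ b ∧ e 2 = 0 := by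
  constructor
  · intro h
    exact ⟨by simpa using h 0, by simpa using h 1, by simpa using h 2⟩
  · rintro ⟨h0, h1, h2⟩ i
    fin_cases i <;> simp [h0, h1, h2]

/-- `f` is a form of degree `j` vanishing on `Q`. -/
def Van (Q : Finset (Fin 3 → K)) (j : ℕ) (f : MvPolynomial (Fin 3) K) : Prop :=
  f.IsHomogeneous j ∧ ∀ p ∈ Q, eval p f = 0

/-- `x₀ ^ a * x₁ ^ b` is the leading monomial of the restriction of `f` to `x₂ = 0`. -/
def Lead (j a : ℕ) (f : MvPolynomial (Fin 3) K) : Prop :=
  a ≤ j ∧ coeff (mon a (j - a)) f ≠ 0 ∧ ∀ a', a < a' → a' ≤ j → coeff (mon a' (j - a')) f = 0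

lemma div_X2 {Q : Finset (Fin 3 → K)} (hQ : ∀ p ∈ Q, p 2 ≠ 0) {j : ℕ} {f : MvPolynomial (Fin 3) K}
    (hf : Van Q j f) (h : ∀ a, a ≤ j → coeff (mon a (j - a)) f = 0) :
    f = 0 ∨ ∃ q, 1 ≤ j ∧ f = X 2 * q ∧ Van Q (j - 1) q := by
  rcases eq_or_ne f 0 with h0 | h0
  · exact Or.inl h0
  right
  have hdvd : X 2 ∣ f := by
    rw [X_dvd_iff_modMonomial_eq_zero]
    ext e
    by_cases he : Finsupp.single (2 : Fin 3) 1 ≤ e
    · rw [coeff_modMonomial_of_le _ he, coeff_zero]
    rw [coeff_modMonomial_of_not_le _ he, coeff_zero]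
    by_contra hne
    have hd : e.degree = j := by
      by_contra hd
      exact hne (hf.1.coeff_eq_zero hd)
    rw [degree_fin3] at hd
    have h2 : e 2 = 0 := by
      by_contra h2
      refine he ?_
      rw [Finsupp.single_le_iff]
      omega
    apply hne
    rw [eq_mon e h2, show e 1 = j - e 0 by omega]
    exact h _ (by omega)
  obtain ⟨q, rfl⟩ := hdvd
  have hj : 1 ≤ j := by
    obtain ⟨e, he⟩ := exists_coeff_ne_zero h0
    have hd : e.degree = j := by
      by_contra hd
      exact he (hf.1.coeff_eq_zero hd)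
    rw [coeff_X_mul'] at he
    split at he
    · rename_i hs
      rw [Finsupp.mem_support_iff] at hs
      rw [degree_fin3] at hd
      omega
    · exact absurd rfl he
  refine ⟨q, hj, rfl, ?_, fun p hp ↦ ?_⟩
  · intro e he
    have : coeff (Finsupp.single 2 1 + e) (X 2 * q) ≠ 0 := by rwa [coeff_X_mul]
    have := hf.1 this
    simp only [Finsupp.weight_apply, Pi.one_apply, smul_eq_mul, mul_one] at this ⊢
    rw [Finsupp.sum_add_index' (by simp) (by simp)] at this
    simp at this
    omega
  · have := hf.2 p hp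
    rw [map_mul, eval_X] at this
    exact (mul_eq_zero.mp this).resolve_left (hQ p hp)

lemma exists_min_lead {Q : Finset (Fin 3 → K)} (hQ : ∀ p ∈ Q, p 2 ≠ 0) :
    ∀ (d : ℕ) (f : MvPolynomial (Fin 3) K), Van Q d f → f ≠ 0 →
      ∃ e a g, e ≤ d ∧ Van Q e g ∧ Lead e a g := by
  classical
  intro d
  induction d using Nat.strong_induction_on with
  | _ d ih =>
    intro f hf h0
    by_cases h : ∀ a, a ≤ d → coeff (mon a (d - a)) f = 0
    · rcases div_X2 hQ hf h with h' | ⟨q, hd, rfl, hq⟩
      · exact absurd h' h0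
      · obtain ⟨e, a, g, he, hg⟩ := ih (d - 1) (by omega) q hq (by rintro rfl; simp at h0)
        exact ⟨e, a, g, by omega, hg⟩
    · push Not at h
      obtain ⟨a₀, ha₀, hne⟩ := h
      let a := Nat.findGreatest (fun a ↦ coeff (mon a (d - a)) f ≠ 0) d
      refine ⟨d, a, f, le_rfl, hf, Nat.findGreatest_le d,
        Nat.findGreatest_spec (P := fun a ↦ coeff (mon a (d - a)) f ≠ 0) ha₀ hne, fun a' h1 h2 ↦ ?_⟩
      by_contra hc
      exact absurd (Nat.le_findGreatest (P := fun a ↦ coeff (mon a (d - a)) f ≠ 0) h2 hc) (by omega)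

lemma lead_shift {Q : Finset (Fin 3 → K)} {i j a u v : ℕ} {h : MvPolynomial (Fin 3) K}
    (hv : Van Q i h) (hl : Lead i a h) (hj : i + (u + v) = j) :
    Van Q j (monomial (mon u v) 1 * h) ∧ Lead j (a + u) (monomial (mon u v) 1 * h) := by
  obtain ⟨ha, hne, hhi⟩ := hl
  refine ⟨⟨?_, fun p hp ↦ by rw [map_mul, hv.2 p hp, mul_zero]⟩, by omega, ?_, fun a' h1 h2 ↦ ?_⟩
  · have := (isHomogeneous_monomial (1 : K) (n := u + v) (d := mon u v)
      (by simp [degree_fin3])).mul hv.1
    rwa [show u + v + i = j by omega] at this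
  · rw [coeff_monomial_mul', if_pos ((le_mon_iff _ _ _).mpr
      ⟨by simp, by simp only [mon_one]; omega, by simp⟩), one_mul]
    have : mon (a + u) (j - (a + u)) - mon u v = mon a (i - a) := by
      ext k; fin_cases k <;> simp <;> omega
    rwa [this]
  · rw [coeff_monomial_mul']
    split
    · rename_i hle
      rw [le_mon_iff] at hle
      simp only [mon_zero, mon_one] at hle
      have : mon a' (j - a') - mon u v = mon (a' - u) (i - (a' - u)) := by
        ext k; fin_cases k <;> simp <;> omega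
      rw [this, hhi _ (by omega) (by omega), mul_zero]
    · rfl

/-- The staircase argument: `d + 1` forms generate all forms vanishing on `Q`, if no point of `Q`
lies on the line `x₂ = 0` and some nonzero form of degree `d` vanishes on `Q`. -/
lemma exists_generators {Q : Finset (Fin 3 → K)} (hQ : ∀ p ∈ Q, p 2 ≠ 0) {d : ℕ}
    (hf : ∃ f, Van Q d f ∧ f ≠ 0) :
    ∃ h : Fin (d + 1) → MvPolynomial (Fin 3) K, (∀ m, ∃ i, Van Q i (h m)) ∧
      ∀ j g, Van Q j g → g ∈ Ideal.span (Set.range h) := by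
  classical
  obtain ⟨f, hfv, hf0⟩ := hf
  obtain ⟨e, A, F, hed, hFv, hFl⟩ := exists_min_lead hQ d f hfv hf0
  -- minimal forms with given `x₀`-exponent, resp. `x₁`-exponent
  let P0 : ℕ → ℕ → Prop := fun a i ↦ ∃ g, Van Q i g ∧ Lead i a g
  let P1 : ℕ → ℕ → Prop := fun b i ↦ ∃ g, Van Q i g ∧ b ≤ i ∧ Lead i (i - b) g
  have hzero : ∃ i, Van Q i (0 : MvPolynomial (Fin 3) K) := ⟨0, isHomogeneous_zero _ _ 0, by simp⟩
  have c0 : ∀ a, ∃ g : MvPolynomial (Fin 3) K, (∃ i, Van Q i g) ∧ ((∃ i, P0 a i) → ∃ i, Van Q i g ∧ Lead i a g ∧ ∀ i', P0 a i' → i ≤ i') := fun a ↦ by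
    by_cases h : ∃ i, P0 a i
    · obtain ⟨g, hg⟩ := Nat.find_spec h
      exact ⟨g, ⟨_, hg.1⟩, fun _ ↦ ⟨Nat.find h, hg.1, hg.2, fun i' hi' ↦ Nat.find_min' h hi'⟩⟩
    · exact ⟨0, hzero, fun h' ↦ absurd h' h⟩
  have c1 : ∀ b, ∃ g : MvPolynomial (Fin 3) K, (∃ i, Van Q i g) ∧ ((∃ i, P1 b i) → ∃ i, Van Q i g ∧ b ≤ i ∧ Lead i (i - b) g ∧ ∀ i', P1 b i' → i ≤ i') := fun b ↦ by
    by_cases h : ∃ i, P1 b i
    · obtain ⟨g, hg⟩ := Nat.find_spec h
      exact ⟨g, ⟨_, hg.1⟩, fun _ ↦ ⟨Nat.find h, hg.1, hg.2.1, hg.2.2, fun i' hi' ↦ Nat.find_min' h hi'⟩⟩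
    · exact ⟨0, hzero, fun h' ↦ absurd h' h⟩
  choose g0 hv0 hg0 using c0
  choose g1 hv1 hg1 using c1
  let h : Fin (d + 1) → MvPolynomial (Fin 3) K :=
    fun m ↦ if (m : ℕ) < A then g0 m else g1 ((m : ℕ) - A)
  refine ⟨h, fun m ↦ by by_cases hm : (m : ℕ) < A <;> simp [h, hm, hv0, hv1], ?_⟩
  intro j
  induction j using Nat.strong_induction_on with
  | _ j ihj =>
    suffices H : ∀ n g, Van Q j g → (∀ a, n ≤ a → a ≤ j → coeff (mon a (j - a)) g = 0) →
        g ∈ Ideal.span (Set.range h) from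
      fun g hg ↦ H (j + 1) g hg (fun a h1 h2 ↦ by omega)
    intro n
    induction n with
    | zero =>
      intro g hg hz
      rcases div_X2 hQ hg (fun a ha ↦ hz a (Nat.zero_le a) ha) with rfl | ⟨q, hj, rfl, hq⟩
      · exact zero_mem _
      · exact Ideal.mul_mem_left _ _ (ihj (j - 1) (by omega) q hq)
    | succ n ihn =>
      intro g hg hz
      by_cases hn : n ≤ j ∧ coeff (mon n (j - n)) g ≠ 0
      swap
      · refine ihn g hg fun a h1 h2 ↦ ?_
        rcases h1.eq_or_lt with rfl | h1
        · by_contra hc; exact hn ⟨h2, hc⟩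
        · exact hz a h1 h2
      have hl : Lead j n g := ⟨hn.1, hn.2, fun a h1 h2 ↦ hz a h1 h2⟩
      -- a multiple of a generator with the same leading monomial
      obtain ⟨r, hr, hrv, hrl⟩ : ∃ r, r ∈ Ideal.span (Set.range h) ∧ Van Q j r ∧ Lead j n r := by
        have hA : A ≤ e := hFl.1
        by_cases hnA : n < A
        · obtain ⟨i, hi, hil, hmin⟩ := hg0 n ⟨j, g, hg, hl⟩
          have hij : i ≤ j := hmin j ⟨g, hg, hl⟩
          refine ⟨monomial (mon 0 (j - i)) 1 * g0 n, Ideal.mul_mem_left _ _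
            (Ideal.subset_span ⟨⟨n, by omega⟩, by simp [h, hnA]⟩), ?_⟩
          have := lead_shift (u := 0) (v := j - i) hi hil (j := j) (by omega)
          simpa using this
        · -- `x₁`-exponent of the generator to use
          obtain ⟨b, i₀, hbA, hb1, hi₀, hbn, hP⟩ : ∃ b i₀, b + A ≤ e ∧ b ≤ j - n ∧
              i₀ ≤ j ∧ i₀ ≤ n + b ∧ P1 b i₀ := by
            by_cases hb : j - n ≤ e - A
            · exact ⟨j - n, j, by omega, le_rfl, le_rfl, by omega, g, hg, by omega,
                by rwa [show j - (j - n) = n by omega]⟩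
            · exact ⟨e - A, e, by omega, by omega, by omega, by omega, F, hFv, by omega,
                by rwa [show e - (e - A) = A by omega]⟩
          obtain ⟨i, hi, hbi, hil, hmin⟩ := hg1 b ⟨i₀, hP⟩
          have hii : i ≤ i₀ := hmin i₀ hP
          refine ⟨monomial (mon (n - (i - b)) (j - n - b)) 1 * g1 b, Ideal.mul_mem_left _ _
            (Ideal.subset_span ⟨⟨A + b, by omega⟩, by simp [h]⟩), ?_⟩
          have := lead_shift (u := n - (i - b)) (v := j - n - b) hi hil (j := j) (by omega)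
          rwa [show i - b + (n - (i - b)) = n by omega] at this
      obtain ⟨c, hc⟩ : ∃ c, coeff (mon n (j - n)) g - c * coeff (mon n (j - n)) r = 0 :=
        ⟨coeff (mon n (j - n)) g / coeff (mon n (j - n)) r, by
          rw [div_mul_cancel₀ _ hrl.2.1, sub_self]⟩
      have hsub := ihn (g - C c * r)
        ⟨hg.1.sub (hrv.1.C_mul c), fun p hp ↦ by simp [hg.2 p hp, hrv.2 p hp]⟩
        (fun a h1 h2 ↦ by
          rcases h1.eq_or_lt with rfl | h1
          · simpa [coeff_C_mul] using hc
          · simp [coeff_C_mul, hz a h1 h2, hrl.2.2 a h1 h2])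
      have := add_mem hsub (Ideal.mul_mem_left _ (C c) hr)
      simpa using this

end Staircase

section Descent

variable {k : Type*} [Field k]

/-- `f ↦ f (T • p)`. -/
noncomputable def ev (p : Fin 3 → k) : MvPolynomial (Fin 3) k →ₐ[k] Polynomial k :=
  aeval fun i ↦ Polynomial.C (p i) * Polynomial.X

lemma ev_monomial (p : Fin 3 → k) (e : Fin 3 →₀ ℕ) (a : k) :
    ev p (monomial e a) = Polynomial.monomial e.degree (eval p (monomial e a)) := by
  rw [ev, aeval_monomial, eval_monomial, ← Polynomial.C_mul_X_pow_eq_monomial,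
    Polynomial.algebraMap_eq]
  rw [Finsupp.prod_fintype _ _ (by simp), Finsupp.prod_fintype _ _ (by simp)]
  simp only [mul_pow, Finset.prod_mul_distrib,
    Finset.prod_pow_eq_pow_sum, ← map_pow, ← map_prod, Finsupp.degree_eq_sum, map_mul, mul_assoc]

lemma coeff_ev (p : Fin 3 → k) (f : MvPolynomial (Fin 3) k) (j : ℕ) :
    (ev p f).coeff j = eval p (homogeneousComponent j f) := by
  induction f using MvPolynomial.induction_on' with
  | add f g hf hg => simp [hf, hg]
  | monomial e a =>
    rw [ev_monomial, Polynomial.coeff_monomial]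
    split
    · rename_i h; subst h
      rw [homogeneousComponent_eq_self]
      exact isHomogeneous_monomial a rfl
    · rename_i h
      rw [homogeneousComponent_of_mem (show monomial e a ∈ homogeneousSubmodule (Fin 3) k e.degree from
        (mem_homogeneousSubmodule _ _).mpr (isHomogeneous_monomial a rfl)), if_neg (fun h' ↦ h h'.symm),
        map_zero]

/-- The homogeneous vanishing ideal. -/
noncomputable def IV (Q : Finset (Fin 3 → k)) : Ideal (MvPolynomial (Fin 3) k) :=
  ⨅ p ∈ Q, RingHom.ker (ev p)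

lemma mem_IV {Q : Finset (Fin 3 → k)} {f : MvPolynomial (Fin 3) k} :
    f ∈ IV Q ↔ ∀ p ∈ Q, ∀ j, eval p (homogeneousComponent j f) = 0 := by
  simp only [IV, Submodule.mem_iInf, RingHom.mem_ker, Polynomial.ext_iff, coeff_ev,
    Polynomial.coeff_zero]

lemma van_comp {Q : Finset (Fin 3 → k)} {f : MvPolynomial (Fin 3) k} (hf : f ∈ IV Q) (j : ℕ) :
    Van Q j (homogeneousComponent j f) :=
  ⟨homogeneousComponent_isHomogeneous _ _, fun p hp ↦ mem_IV.mp hf p hp j⟩

lemma mem_IV_of_van {Q : Finset (Fin 3 → k)} {f : MvPolynomial (Fin 3) k} {j : ℕ} (hf : Van Q j f) :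
    f ∈ IV Q := mem_IV.mpr fun p hp i ↦ by
  rw [homogeneousComponent_of_mem ((mem_homogeneousSubmodule _ _).mpr hf.1)]
  split <;> simp [hf.2 p hp]

variable {K : Type*} [Field K] [Algebra k K]

/-- Applying a functional to all coefficients. -/
noncomputable def mapFun (φ : K →ₗ[k] k) : MvPolynomial (Fin 3) K →ₗ[k] MvPolynomial (Fin 3) k where
  toFun f := ∑ e ∈ f.support, monomial e (φ (coeff e f))
  map_add' f g := by
    classical
    ext e
    simp only [coeff_sum, coeff_monomial, coeff_add, Finset.sum_ite_eq', mem_support_iff]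
    by_cases h1 : coeff e f = 0 <;> by_cases h2 : coeff e g = 0 <;>
      by_cases h3 : coeff e f + coeff e g = 0 <;> simp_all [← map_add]
  map_smul' a f := by
    classical
    ext e
    simp only [coeff_sum, coeff_monomial, coeff_smul, Finset.sum_ite_eq', mem_support_iff, map_smul,
      RingHom.id_apply, smul_eq_mul]
    by_cases h1 : coeff e f = 0 <;> by_cases h2 : a • coeff e f = 0 <;> simp_all

lemma coeff_mapFun (φ : K →ₗ[k] k) (f : MvPolynomial (Fin 3) K) (e : Fin 3 →₀ ℕ) :
    coeff e (mapFun φ f) = φ (coeff e f) := by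
  classical
  simp only [mapFun, LinearMap.coe_mk, AddHom.coe_mk, coeff_sum, coeff_monomial, Finset.sum_ite_eq',
    mem_support_iff]
  by_cases h : coeff e f = 0 <;> simp [h]

lemma mapFun_monomial (φ : K →ₗ[k] k) (e : Fin 3 →₀ ℕ) (a : K) :
    mapFun φ (monomial e a) = monomial e (φ a) := by
  classical
  ext e'
  simp [coeff_mapFun, coeff_monomial, apply_ite φ]

lemma mapFun_X_mul (φ : K →ₗ[k] k) (t : Fin 3) (f : MvPolynomial (Fin 3) K) :
    mapFun φ (X t * f) = X t * mapFun φ f := by
  classical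
  ext e
  simp [coeff_mapFun, coeff_X_mul', apply_ite φ]

lemma mapFun_C_mul_map (φ : K →ₗ[k] k) (c : K) (g : MvPolynomial (Fin 3) k) :
    mapFun φ (C c * map (algebraMap k K) g) = C (φ c) * g := by
  ext e
  rw [coeff_mapFun, coeff_C_mul, coeff_C_mul, coeff_map, mul_comm, ← Algebra.smul_def, map_smul,
    smul_eq_mul, mul_comm]

lemma mapFun_mem_IV (φ : K →ₗ[k] k) [DecidableEq (Fin 3 → K)] {Q : Finset (Fin 3 → k)}
    {f : MvPolynomial (Fin 3) K} (hf : f ∈ IV (Q.image fun p i ↦ algebraMap k K (p i))) :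
    mapFun φ f ∈ IV Q := by
  refine mem_IV.mpr fun p hp j ↦ ?_
  have h0 := mem_IV.mp hf _ (Finset.mem_image_of_mem _ hp) j
  have key : ∀ g : MvPolynomial (Fin 3) K,
      φ ((ev (fun i ↦ algebraMap k K (p i)) g).coeff j) = (ev p (mapFun φ g)).coeff j := by
    intro g
    induction g using MvPolynomial.induction_on' with
    | add g g' hg hg' => simp [hg, hg']
    | monomial e a =>
      rw [mapFun_monomial, ev_monomial, ev_monomial, Polynomial.coeff_monomial,
        Polynomial.coeff_monomial, apply_ite φ, map_zero, eval_monomial, eval_monomial]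
      congr 1
      have : (e.prod fun i n ↦ algebraMap k K (p i) ^ n) = algebraMap k K (e.prod fun i n ↦ p i ^ n) := by
        simp [map_finsuppProd]
      rw [this, mul_comm, ← Algebra.smul_def, map_smul, smul_eq_mul, mul_comm]
  have := key f
  rwa [coeff_ev, coeff_ev, h0, map_zero, eq_comm] at this

end Descent

section Change

variable {K : Type*} [Field K]

lemma exists_generators' [Infinite K] {Q : Finset (Fin 3 → K)} (hQ : ∀ p ∈ Q, p ≠ 0) {d : ℕ}
    (hf : ∃ f, Van Q d f ∧ f ≠ 0) :
    ∃ h : Fin (d + 1) → MvPolynomial (Fin 3) K, IV Q = Ideal.span (Set.range h) := by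
  classical
  obtain ⟨c, hc⟩ : ∃ c : K, ∀ p ∈ Q, p 2 + c * p 1 + c ^ 2 * p 0 ≠ 0 := by
    let P : (Fin 3 → K) → Polynomial K := fun p ↦
      Polynomial.C (p 2) + Polynomial.C (p 1) * Polynomial.X + Polynomial.C (p 0) * Polynomial.X ^ 2
    have hP : ∀ p ∈ Q, P p ≠ 0 := by
      intro p hp h0
      refine hQ p hp (funext fun i ↦ ?_)
      have h := fun n ↦ congrArg (fun q : Polynomial K ↦ q.coeff n) h0
      fin_cases i
      · simpa [P, Polynomial.coeff_C] using h 2
      · simpa [P, Polynomial.coeff_C] using h 1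
      · simpa [P, Polynomial.coeff_C] using h 0
    obtain ⟨c, hc⟩ := Infinite.exists_notMem_finset (Q.biUnion fun p ↦ (P p).roots.toFinset)
    refine ⟨c, fun p hp h0 ↦ hc (Finset.mem_biUnion.mpr ⟨p, hp, ?_⟩)⟩
    rw [Multiset.mem_toFinset, Polynomial.mem_roots (hP p hp), Polynomial.IsRoot]
    simp only [P, Polynomial.eval_add, Polynomial.eval_mul, Polynomial.eval_C, Polynomial.eval_X,
      Polynomial.eval_pow]
    linear_combination h0
  let θ : Fin 3 → MvPolynomial (Fin 3) K := ![X 0, X 1, X 2 + (C c * X 1 + C (c ^ 2) * X 0)]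
  let θ' : Fin 3 → MvPolynomial (Fin 3) K := ![X 0, X 1, X 2 - (C c * X 1 + C (c ^ 2) * X 0)]
  let T : (Fin 3 → K) → (Fin 3 → K) := fun p i ↦ eval p (θ i)
  have hlin : ∀ i, (θ i).IsHomogeneous 1 ∧ (θ' i).IsHomogeneous 1 := by
    intro i
    fin_cases i <;>
      simp only [θ, θ', Fin.isValue, Fin.zero_eta, Fin.mk_one, Fin.reduceFinMk, Matrix.cons_val_zero,
        Matrix.cons_val_one, Matrix.cons_val]
    · exact ⟨isHomogeneous_X _ _, isHomogeneous_X _ _⟩
    · exact ⟨isHomogeneous_X _ _, isHomogeneous_X _ _⟩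
    · exact ⟨(isHomogeneous_X _ _).add ((isHomogeneous_C_mul_X _ _).add (isHomogeneous_C_mul_X _ _)),
        (isHomogeneous_X _ _).sub ((isHomogeneous_C_mul_X _ _).add (isHomogeneous_C_mul_X _ _))⟩
  have hinv : ∀ g, aeval θ (aeval θ' g) = g := by
    suffices (aeval θ).comp (aeval θ') = AlgHom.id K (MvPolynomial (Fin 3) K) from AlgHom.congr_fun this
    ext1 i
    fin_cases i <;> simp [θ, θ']
  have hinv' : ∀ g, aeval θ' (aeval θ g) = g := by
    suffices (aeval θ').comp (aeval θ) = AlgHom.id K (MvPolynomial (Fin 3) K) from AlgHom.congr_fun this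
    ext1 i
    fin_cases i <;> simp [θ, θ']
  have heval : ∀ p g, eval p (aeval θ g) = eval (T p) g := by
    intro p g
    induction g using MvPolynomial.induction_on with
    | C a => simp
    | add g g' hg hg' => rw [map_add, map_add, map_add, hg, hg']
    | mul_X g i hg => rw [map_mul, aeval_X, map_mul, map_mul, hg, eval_X]
  have hvan : ∀ j g, Van (Q.image T) j g → Van Q j (aeval θ g) := by
    intro j g hg
    refine ⟨by simpa using hg.1.aeval θ (fun i ↦ (hlin i).1), fun p hp ↦ ?_⟩
    rw [heval]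
    exact hg.2 _ (Finset.mem_image_of_mem T hp)
  have hvan' : ∀ j g, Van Q j g → Van (Q.image T) j (aeval θ' g) := by
    intro j g hg
    refine ⟨by simpa using hg.1.aeval θ' (fun i ↦ (hlin i).2), fun p hp ↦ ?_⟩
    obtain ⟨q, hq, rfl⟩ := Finset.mem_image.mp hp
    rw [← heval, hinv]
    exact hg.2 q hq
  have hQ' : ∀ p ∈ Q.image T, p 2 ≠ 0 := by
    intro p hp
    obtain ⟨q, hq, rfl⟩ := Finset.mem_image.mp hp
    have := hc q hq
    simpa [T, θ, add_assoc] using this
  obtain ⟨f, hfv, hf0⟩ := hf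
  obtain ⟨h, hh, hspan⟩ := exists_generators hQ'
    ⟨aeval θ' f, hvan' d f hfv, fun h0 ↦ hf0 (by rw [← hinv f, h0, map_zero])⟩
  refine ⟨fun m ↦ aeval θ (h m), le_antisymm (fun g hg ↦ ?_) (Ideal.span_le.mpr ?_)⟩
  · rw [← sum_homogeneousComponent g]
    refine Ideal.sum_mem _ fun j _ ↦ ?_
    have := Ideal.mem_map_of_mem (aeval θ) (hspan j _ (hvan' j _ (van_comp hg j)))
    rwa [Ideal.map_span, hinv, ← Set.range_comp] at this
  · rintro _ ⟨m, rfl⟩
    obtain ⟨i, hi⟩ := hh m
    exact mem_IV_of_van (hvan i _ hi)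

end Change

open Submodule in
lemma main {k : Type*} [Field k] (Z : Finset (Fin 3 → k)) (hZ : ∀ p ∈ Z, p ≠ 0) (d : ℕ)
    (hf : ∃ f, Van Z d f ∧ f ≠ 0) : (IV Z).spanFinrank ≤ d + 1 := by
  classical
  let K := RatFunc k
  have : Infinite K := Infinite.of_injective _ (RatFunc.algebraMap_injective k)
  let ι := algebraMap k K
  let Q : Finset (Fin 3 → K) := Z.image fun p i ↦ ι (p i)
  have hQ : ∀ p ∈ Q, p ≠ 0 := by
    intro p hp h0
    obtain ⟨q, hq, rfl⟩ := Finset.mem_image.mp hp
    exact hZ q hq (funext fun i ↦ by simpa using congr_fun h0 i)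
  have hQf : ∀ j g, Van Z j g → Van Q j (map ι g) := by
    refine fun j g hg ↦ ⟨hg.1.map ι, fun p hp ↦ ?_⟩
    obtain ⟨q, hq, rfl⟩ := Finset.mem_image.mp hp
    rw [eval_map, ← Function.comp_def ι q, ← eval₂_comp]
    exact (congrArg ι (hg.2 q hq)).trans (map_zero _)
  obtain ⟨f, hfv, hf0⟩ := hf
  obtain ⟨h, hh⟩ := exists_generators' hQ (d := d)
    ⟨map ι f, hQf d f hfv, fun h0 ↦ hf0 (map_injective ι ι.injective (by simpa using h0))⟩
  let m : Ideal (MvPolynomial (Fin 3) k) := Ideal.span (Set.range X)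
  let mK : Ideal (MvPolynomial (Fin 3) K) := Ideal.span (Set.range X)
  let N : Submodule k (MvPolynomial (Fin 3) k) := (m * IV Z).restrictScalars k
  let NK : Submodule K (MvPolynomial (Fin 3) K) := (mK * IV Q).restrictScalars K
  let V : Submodule K (MvPolynomial (Fin 3) K ⧸ NK) := span K (Set.range fun i ↦ NK.mkQ (h i))
  have : Module.Finite K V := Module.Finite.span_of_finite K (Set.finite_range _)
  have hV : ∀ g ∈ IV Q, NK.mkQ g ∈ V := by
    intro g hg
    rw [hh, Ideal.mem_span_range_iff_exists_fun] at hg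
    obtain ⟨q, rfl⟩ := hg
    rw [map_sum]
    refine sum_mem fun i _ ↦ ?_
    have hmem : q i * h i - C (constantCoeff (q i)) * h i ∈ NK := by
      rw [← sub_mul]
      refine Ideal.mul_mem_mul ?_ (hh ▸ Ideal.subset_span ⟨i, rfl⟩)
      simp only [mK]
      rw [← Set.image_univ, mem_ideal_span_X_image]
      intro e he
      by_contra! hc
      have h0 : e = 0 := Finsupp.ext fun i ↦ hc i trivial
      subst h0
      simp [constantCoeff_eq] at he
    have : NK.mkQ (q i * h i) = constantCoeff (q i) • NK.mkQ (h i) := by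
      rw [← map_smul, smul_eq_C_mul, mkQ_apply, mkQ_apply, Submodule.Quotient.eq]
      exact hmem
    rw [this]
    exact smul_mem _ _ (subset_span ⟨i, rfl⟩)
  have hΦ : ∀ (φ : K →ₗ[k] k) (x : MvPolynomial (Fin 3) K), x ∈ mK * IV Q → mapFun φ x ∈ m * IV Z := by
    intro φ x hx
    induction hx using Submodule.mul_induction_on' with
    | mem_mul_mem a ha b hb =>
      obtain ⟨q, rfl⟩ := Ideal.mem_span_range_iff_exists_fun.mp ha
      rw [Finset.sum_mul, map_sum]
      refine sum_mem fun t _ ↦ ?_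
      rw [show q t * X t * b = X t * (q t * b) by ring, mapFun_X_mul]
      exact Ideal.mul_mem_mul (Ideal.subset_span ⟨t, rfl⟩) (mapFun_mem_IV φ (Ideal.mul_mem_left _ _ hb))
    | add a _ b _ ha hb => rw [map_add]; exact add_mem ha hb
  let S : Set (MvPolynomial (Fin 3) k) := {g | ∃ j, Van Z j g}
  obtain ⟨B, hBS, hBspan, hBli⟩ := exists_linearIndependent k (N.mkQ '' S)
  choose G hGS hG using fun b : B ↦ hBS b.2
  have hbound : ∀ s : Finset B, s.card ≤ d + 1 := by
    intro s
    have hli : LinearIndependent K (fun b : s ↦ (⟨NK.mkQ (map ι (G b)),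
        hV _ (mem_IV_of_van (hQf _ _ (hGS b.1).choose_spec))⟩ : V)) := by
      rw [Fintype.linearIndependent_iff]
      intro c hc b
      have h0 : NK.mkQ (∑ b : s, C (c b) * map ι (G b)) = 0 := by
        have := congrArg Subtype.val hc
        rw [AddSubmonoidClass.coe_finsetSum, ZeroMemClass.coe_zero] at this
        rw [map_sum, ← this]
        exact Finset.sum_congr rfl fun b _ ↦ by rw [← smul_eq_C_mul, map_smul]; rfl
      rw [mkQ_apply, Submodule.Quotient.mk_eq_zero] at h0
      refine (Module.forall_dual_apply_eq_zero_iff k (c b)).mp fun φ ↦ ?_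
      have h1 := hΦ φ _ h0
      simp only [map_sum, ι, mapFun_C_mul_map] at h1
      have h2 : ∑ b : s, φ (c b) • (b : B).1 = 0 := by
        have : N.mkQ (∑ b : s, C (φ (c b)) * G b) = 0 :=
          (Submodule.Quotient.mk_eq_zero N).mpr h1
        rw [map_sum] at this
        rw [← this]
        exact Finset.sum_congr rfl fun b _ ↦ by rw [← smul_eq_C_mul, map_smul, hG]
      exact Fintype.linearIndependent_iff.mp (hBli.comp ((↑) : s → B) Subtype.val_injective) _ h2 b
    have := hli.fintype_card_le_finrank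
    rw [Fintype.card_coe] at this
    exact this.trans ((finrank_range_le_card _).trans (by simp))
  have hfin : (Set.univ : Set B).Finite := by
    by_contra hinf
    obtain ⟨s, -, hs⟩ := Set.Infinite.exists_subset_card_eq hinf (d + 2)
    have := hbound s
    omega
  have : Finite B := Set.finite_univ_iff.mp hfin
  have : Fintype B := Fintype.ofFinite B
  have hgen : IV Z = Ideal.span (Set.range G) := by
    refine le_antisymm ?_ (Ideal.span_le.mpr ?_)
    swap
    · rintro _ ⟨b, rfl⟩
      exact mem_IV_of_van (hGS b).choose_spec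
    suffices H : ∀ j g, Van Z j g → g ∈ Ideal.span (Set.range G) by
      intro g hg
      rw [← sum_homogeneousComponent g]
      exact Ideal.sum_mem _ fun j _ ↦ H j _ (van_comp hg j)
    intro j
    induction j using Nat.strong_induction_on with
    | _ j ih =>
      intro g hg
      have hmem : N.mkQ g ∈ span k (Set.range fun b ↦ N.mkQ (G b)) := by
        have : (Set.range fun b ↦ N.mkQ (G b)) = B := by
          ext x
          exact ⟨fun ⟨b, hb⟩ ↦ by rw [← hb]; simpa only [hG b] using b.2, fun hx ↦ ⟨⟨x, hx⟩, hG _⟩⟩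
        rw [this, hBspan]
        exact subset_span ⟨g, ⟨j, hg⟩, rfl⟩
      rw [mem_span_range_iff_exists_fun] at hmem
      obtain ⟨c, hc⟩ := hmem
      have hr : g - ∑ b, c b • G b ∈ m * IV Z := by
        refine (Submodule.Quotient.mk_eq_zero N).mp ?_
        rw [← mkQ_apply, map_sub, map_sum, ← hc]
        simp
      have key : ∀ x ∈ m * IV Z, homogeneousComponent j x ∈ Ideal.span (Set.range G) := by
        intro x hx
        induction hx using Submodule.mul_induction_on' with
        | mem_mul_mem a ha b hb =>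
          obtain ⟨q, rfl⟩ := Ideal.mem_span_range_iff_exists_fun.mp ha
          rw [Finset.sum_mul, map_sum]
          refine Ideal.sum_mem _ fun t _ ↦ ?_
          rw [show q t * X t * b = X t * (q t * b) by ring]
          have hqb := Ideal.mul_mem_left (IV Z) (q t) hb
          generalize q t * b = y at hqb ⊢
          rw [← sum_homogeneousComponent y, Finset.mul_sum, map_sum]
          refine Ideal.sum_mem _ fun i _ ↦ ?_
          rw [homogeneousComponent_of_mem ((mem_homogeneousSubmodule _ _).mpr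
            ((isHomogeneous_X k t).mul (homogeneousComponent_isHomogeneous i y)))]
          split
          · exact Ideal.mul_mem_left _ _ (ih i (by omega) _ (van_comp hqb i))
          · exact zero_mem _
        | add a _ b _ ha hb => rw [map_add]; exact add_mem ha hb
      have := key _ hr
      rw [map_sub, homogeneousComponent_eq_self hg.1, map_sum] at this
      have hs : ∑ b, homogeneousComponent j (c b • G b) ∈ Ideal.span (Set.range G) := by
        refine Ideal.sum_mem _ fun b _ ↦ ?_
        rw [map_smul, smul_eq_C_mul, homogeneousComponent_of_mem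
          ((mem_homogeneousSubmodule _ _).mpr (hGS b).choose_spec.1)]
        split
        · exact Ideal.mul_mem_left _ _ (Ideal.subset_span ⟨b, rfl⟩)
        · simp
      simpa using add_mem this hs
  rw [hgen]
  refine ((Submodule.spanFinrank_span_le_ncard_of_finite (Set.finite_range G)).trans ?_)
  calc (Set.range G).ncard ≤ Nat.card B := by
        rw [← Set.image_univ]
        exact (Set.ncard_image_le Set.finite_univ).trans_eq (Set.ncard_univ B)
    _ = Finset.univ.card (α := B) := Nat.card_eq_fintype_card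
    _ ≤ d + 1 := hbound _


/-- Let k be a field, Z a finite set of nonzero vectors in k^3, regarded as points of the projective
plane, and I the homogeneous vanishing ideal of Z in k[x_0, x_1, x_2]: a polynomial belongs to I
exactly when every one of its homogeneous components vanishes at every vector of Z. If Z lies on a
curve of degree d, that is I contains a nonzero homogeneous form of degree d, then I is generated by
at most d + 1 elements. -/
theorem result (k : Type u) [Field k]
    (Z : Finset (Fin 3 → k)) (hZ : ∀ p ∈ Z, p ≠ 0) (I : Ideal (MvPolynomial (Fin 3) k))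
    (hI : ∀ f : MvPolynomial (Fin 3) k, f ∈ I ↔
      ∀ p ∈ Z, ∀ j : ℕ, MvPolynomial.eval p (MvPolynomial.homogeneousComponent j f) = 0)
    (d : ℕ) (hf : ∃ f ∈ I, MvPolynomial.IsHomogeneous f d ∧ f ≠ 0) :
    Submodule.spanFinrank I ≤ d + 1 := by
  obtain ⟨f, hfI, hfh, hf0⟩ := hf
  have hI' : I = IV Z := Ideal.ext fun g ↦ (hI g).trans mem_IV.symm
  subst hI'
  refine main Z hZ d ⟨f, ⟨hfh, fun p hp ↦ ?_⟩, hf0⟩
  have := mem_IV.mp hfI p hp d
  rwa [MvPolynomial.homogeneousComponent_eq_self hfh] at this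

end Groth.Agent.S12914
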