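import Groth.Statements.S12915
import Groth.Agent.Lib.ProjCohom.Corollaries

set_option autoImplicit false
universe u
open CAlgX

namespace Groth.Agent.S12915

/-- Let k be a field, S = k[x_0, …, x_r], and f a nonzero homogeneous polynomial of degree m. For every
t ≥ m the image in S/(f) of the homogeneous polynomials of degree t is a k-vector space of dimension
C(t + r, r) - C(t + r - m, r). (The published clause states that the hypersurface f = 0 in P^r has
degree m; its proof computes exactly this Hilbert function, whose polynomial has leading term m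
t^(r-1)/(r-1)!, and that computation is what is stated here.) -/
theorem result (k : Type u) [Field k] (r m : ℕ)
    (f : MvPolynomial (Fin (r + 1)) k) (hf : f.IsHomogeneous m) (hf0 : f ≠ 0) (t : ℕ) (ht : m ≤ t) :
    Module.finrank k
        (Submodule.map ((Ideal.Quotient.mkₐ k (Ideal.span {f})).toLinearMap)
          (MvPolynomial.homogeneousSubmodule (Fin (r + 1)) k t)) =
      Nat.choose (t + r) r - Nat.choose (t + r - m) r := by
  classical
  open MvPolynomial in
  obtain ⟨S, hS⟩ : ∃ S, S = homogeneousSubmodule (Fin (r + 1)) k t := ⟨_, rfl⟩
  rw [← hS]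
  let π : MvPolynomial (Fin (r + 1)) k →ₗ[k] (MvPolynomial (Fin (r + 1)) k ⧸ Ideal.span {f}) :=
    (Ideal.Quotient.mkₐ k (Ideal.span {f})).toLinearMap
  haveI : FiniteDimensional k (MvPolynomial.homogeneousSubmodule (Fin (r + 1)) k t) :=
    FiniteDimensional.of_finrank_pos (by rw [GrothLib.ProjCohom.finrank_forms]; exact Nat.choose_pos (by omega))
  haveI : FiniteDimensional k S := hS ▸ inferInstance
  have hrn := LinearMap.finrank_range_add_finrank_ker (π.domRestrict S)
  have hmul : ∀ q : MvPolynomial (Fin (r + 1)) k, q ∈ MvPolynomial.homogeneousSubmodule (Fin (r + 1)) k (t - m) →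
      f * q ∈ S := fun q hq => by
    rw [hS, MvPolynomial.mem_homogeneousSubmodule]
    have := hf.mul ((MvPolynomial.mem_homogeneousSubmodule (t - m) q).1 hq)
    rwa [show m + (t - m) = t by omega] at this
  let μ : MvPolynomial.homogeneousSubmodule (Fin (r + 1)) k (t - m) →ₗ[k] (π.domRestrict S).ker :=
    LinearMap.codRestrict _ (LinearMap.codRestrict S ((LinearMap.mulLeft k f).comp (Submodule.subtype _)) fun q => hmul q q.2)
      fun q => by
        show π (f * q) = 0
        exact Ideal.Quotient.eq_zero_iff_mem.2 (Ideal.mul_mem_right _ _ (Ideal.mem_span_singleton_self f))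
  have hμ : Function.Bijective μ := by
    constructor
    · intro a b h
      exact Subtype.ext (mul_left_cancel₀ hf0 (congrArg (fun z : (π.domRestrict S).ker => ((z : S) : MvPolynomial (Fin (r + 1)) k)) h))
    · rintro ⟨⟨g, hg⟩, hk⟩
      obtain ⟨q, hq⟩ := Ideal.mem_span_singleton'.1 (Ideal.Quotient.eq_zero_iff_mem.1 (show π g = 0 from hk))
      refine ⟨⟨MvPolynomial.homogeneousComponent (t - m) q, MvPolynomial.homogeneousComponent_mem _ _⟩, ?_⟩
      refine Subtype.ext (Subtype.ext ?_)
      show f * MvPolynomial.homogeneousComponent (t - m) q = g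
      have hg' : MvPolynomial.IsHomogeneous g t := (MvPolynomial.mem_homogeneousSubmodule t g).1 (hS ▸ hg)
      conv_rhs => rw [← MvPolynomial.homogeneousComponent_eq_self hg', ← hq, ← MvPolynomial.sum_homogeneousComponent q,
        Finset.sum_mul, map_sum]
      have hj : ∀ j, MvPolynomial.homogeneousComponent t (MvPolynomial.homogeneousComponent j q * f) =
          if j = t - m then MvPolynomial.homogeneousComponent j q * f else 0 := fun j => by
        have h := ((MvPolynomial.homogeneousComponent_isHomogeneous j q).mul hf)
        rw [MvPolynomial.homogeneousComponent_of_mem ((MvPolynomial.mem_homogeneousSubmodule _ _).2 h)]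
        by_cases hj : j = t - m
        · rw [if_pos (by omega), if_pos hj]
        · rw [if_neg (by omega), if_neg hj]
      simp only [hj]
      rw [Finset.sum_ite_eq' (s := Finset.range (q.totalDegree + 1)) (a := t - m)]
      split_ifs with h
      · exact mul_comm _ _
      · rw [MvPolynomial.homogeneousComponent_eq_zero _ _ (by simp at h; omega), mul_zero]
  have hker : Module.finrank k (π.domRestrict S).ker = (r + (t - m)).choose (t - m) :=
    (LinearEquiv.ofBijective μ hμ).finrank_eq.symm.trans (GrothLib.ProjCohom.finrank_forms r (t - m))
  have hdom : Module.finrank k S = (r + t).choose t := hS ▸ GrothLib.ProjCohom.finrank_forms r t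
  have hrange : LinearMap.range (π.domRestrict S) = S.map π := LinearMap.range_domRestrict _ _
  rw [hrange, hker, hdom] at hrn
  have e1 : (r + t).choose t = (t + r).choose r := by rw [add_comm r t, Nat.choose_symm_add]
  have e2 : (r + (t - m)).choose (t - m) = (t + r - m).choose r := by
    rw [add_comm r, Nat.choose_symm_add, show t - m + r = t + r - m by omega]
  show Module.finrank k (S.map π) = _
  omega


end Groth.Agent.S12915
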