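import Groth.Statements.S12916
import Mathlib

set_option autoImplicit false
universe u
open CAlgX

namespace Groth.Agent.S12916

theorem isFiniteLength_of_ass_maximal {R : Type u} [CommRing R] [IsNoetherianRing R] {N : Type u}
    [AddCommGroup N] [Module R N] [Module.Finite R N] (h : ∀ P ∈ associatedPrimes R N, P.IsMaximal) :
    IsFiniteLength R N := by
  set I := Module.annihilator R N
  have hprime : ∀ P : Ideal R, P.IsPrime → I ≤ P → P.IsMaximal := fun P hP hle => by
    obtain ⟨r, hr, hrP⟩ := Ideal.exists_minimalPrimes_le hle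
    have hmax := h r (Module.associatedPrimes.minimalPrimes_annihilator_subset_associatedPrimes R N hr)
    rwa [← hmax.eq_of_le hP.ne_top hrP]
  have : Ring.KrullDimLE 0 (R ⧸ I) := Ring.krullDimLE_zero_iff.mpr fun (P : Ideal (R ⧸ I)) (hP : P.IsPrime) => by
    have := hprime (P.comap (Ideal.Quotient.mk I)) (Ideal.IsPrime.comap (Ideal.Quotient.mk I) (hK := hP))
      (fun x hx => by rw [Ideal.mem_comap, Ideal.Quotient.eq_zero_iff_mem.mpr hx]; exact zero_mem P)
    have h2 := (Ideal.map_eq_top_or_isMaximal_of_surjective (Ideal.Quotient.mk I) Ideal.Quotient.mk_surjective this).resolve_left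
    rw [Ideal.map_comap_of_surjective _ Ideal.Quotient.mk_surjective] at h2
    exact h2 hP.ne_top
  have : IsArtinianRing (R ⧸ I) := isArtinianRing_iff_isNoetherianRing_krullDimLE_zero.mpr ⟨inferInstance, this⟩
  let _ : Module (R ⧸ I) N := Module.IsTorsionBySet.module (fun x r => Module.mem_annihilator.mp r.2 x)
  have : IsScalarTower R (R ⧸ I) N := Module.IsTorsionBySet.isScalarTower _
  have : Module.Finite (R ⧸ I) N := Module.Finite.of_restrictScalars_finite R _ N
  have hart : IsArtinian (R ⧸ I) N := inferInstance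
  exact isFiniteLength_iff_isNoetherian_isArtinian.mpr ⟨inferInstance,
    isArtinian_of_surjective_algebraMap (R := R ⧸ I) (S := R) Ideal.Quotient.mk_surjective⟩

/-- Let k be an infinite field, S = k[x_0, …, x_r], M a finitely generated S-module and d a natural
number. Then some nonzero homogeneous polynomial f of degree d is quasi-regular on M: the submodule
(0 :_M f) of elements of M annihilated by f has finite length. (The published statement assumes M
graded; this row assumes only that M is finitely generated.) -/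
theorem result (k : Type u) [Field k] [Infinite k] (r d : ℕ)
    (M : Type u) [AddCommGroup M] [Module (MvPolynomial (Fin (r + 1)) k) M] [Module.Finite (MvPolynomial (Fin (r + 1)) k) M] :
    ∃ f : MvPolynomial (Fin (r + 1)) k, f.IsHomogeneous d ∧ f ≠ 0 ∧
      IsFiniteLength (MvPolynomial (Fin (r + 1)) k) ↥(Submodule.torsionBy (MvPolynomial (Fin (r + 1)) k) M f) := by
  classical
  let R := MvPolynomial (Fin (r + 1)) k
  let T := MvPolynomial.homogeneousSubmodule (Fin (r + 1)) k d
  have hfin : (associatedPrimes R M).Finite := associatedPrimes.finite R M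
  let sub : Set (Submodule k T) := (fun P : Ideal R => (P.restrictScalars k).comap T.subtype) ''
    {P | P ∈ associatedPrimes R M ∧ ¬ P.IsMaximal} ∪ {⊥}
  have hsubfin : sub.Finite := ((hfin.subset fun P hP => hP.1).image _).union (Set.finite_singleton _)
  have hX : (MvPolynomial.X 0 : R) ^ d ∈ T := MvPolynomial.isHomogeneous_X_pow 0 d
  have htop : (⊤ : Submodule k T) ∉ sub := by
    rintro (⟨P, ⟨hP, hmax⟩, htop⟩ | hbot)
    · have := hP.isPrime
      have hmem : ∀ x ∈ T, x ∈ P := fun x hx => by
        have h : (⟨x, hx⟩ : T) ∈ (⊤ : Submodule k T) := Submodule.mem_top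
        rw [← htop] at h
        exact h
      apply hmax
      have hPX : ∀ i, (MvPolynomial.X i : R) ∈ P := fun i =>
        this.mem_of_pow_mem d (hmem _ (MvPolynomial.isHomogeneous_X_pow i d))
      have hker : RingHom.ker (MvPolynomial.constantCoeff : R →+* k) ≤ P := by
        intro x hx
        refine (Ideal.span_le.mpr (fun _ ⟨i, _, hi⟩ => hi ▸ hPX i) : Ideal.span (MvPolynomial.X '' Set.univ) ≤ P) ?_
        refine MvPolynomial.mem_ideal_span_X_image.mpr fun m hm => ?_
        by_contra hno
        push Not at hno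
        have hm0 : m = 0 := Finsupp.ext fun i => hno i trivial
        rw [MvPolynomial.mem_support_iff, hm0, ← MvPolynomial.constantCoeff_eq] at hm
        exact hm hx
      have hm : (RingHom.ker (MvPolynomial.constantCoeff : R →+* k)).IsMaximal :=
        RingHom.ker_isMaximal_of_surjective _ fun c => ⟨MvPolynomial.C c, MvPolynomial.constantCoeff_C _ c⟩
      exact (hm.eq_of_le this.ne_top hker) ▸ hm
    · have h0 : (⟨_, hX⟩ : T) ∈ (⊥ : Submodule k T) :=
        (Set.mem_singleton_iff.mp hbot) ▸ Submodule.mem_top
      exact pow_ne_zero d (MvPolynomial.X_ne_zero 0) (congrArg Subtype.val ((Submodule.mem_bot k).mp h0))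
  have hcov := Subspace.biUnion_ne_univ_of_top_notMem (s := hsubfin.toFinset) (by simpa using htop)
  obtain ⟨f, hf⟩ := (Set.ne_univ_iff_exists_notMem _).mp hcov
  simp only [Set.Finite.mem_toFinset, Set.mem_iUnion, not_exists, SetLike.mem_coe] at hf
  have hf0 : (f : R) ≠ 0 := fun h => hf ⊥ (Or.inr rfl) ((Submodule.mem_bot k).mpr (Subtype.ext h))
  refine ⟨f, f.2, hf0, ?_⟩
  refine isFiniteLength_of_ass_maximal fun P hP => ?_
  by_contra hmax
  have hPM : P ∈ associatedPrimes R M :=
    associatedPrimes.subset_of_injective (Submodule.injective_subtype _) hP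
  refine hf _ (Or.inl ⟨P, ⟨hPM, hmax⟩, rfl⟩) ?_
  show (f : R) ∈ P
  obtain ⟨hPp, x, hx⟩ := hP
  rw [hx]
  refine Ideal.le_radical ?_
  rw [Submodule.mem_colon_singleton]
  simp [Submodule.smul_torsionBy]

end Groth.Agent.S12916
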