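import Groth.Statements.S12917
import Mathlib
import Groth.Agent.Lib.GrSyz.PointsDepth

set_option autoImplicit false
universe u
open CAlgX

namespace Groth.Agent.S12917

open MvPolynomial GrothLib.GrSyz

variable {k : Type u} [Field k]

theorem homogeneousComponent_X_mul (i : Fin 3) (j : ℕ) (f : MvPolynomial (Fin 3) k) :
    homogeneousComponent (j + 1) (X i * f) = X i * homogeneousComponent j f := by
  classical
  refine MvPolynomial.ext _ _ fun d => ?_
  rw [coeff_homogeneousComponent, coeff_X_mul', coeff_X_mul', coeff_homogeneousComponent]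
  by_cases hd : i ∈ d.support
  · rw [if_pos hd, if_pos hd]
    have h : d.degree = (d - Finsupp.single i 1).degree + 1 := by
      have hle : Finsupp.single i 1 ≤ d := by
        rw [Finsupp.single_le_iff]
        exact Nat.one_le_iff_ne_zero.2 (Finsupp.mem_support_iff.1 hd)
      conv_lhs => rw [← tsub_add_cancel_of_le hle]
      simp [map_add]
    simp [h]
  · rw [if_neg hd, if_neg hd]
    simp

theorem pr_eq (g : ℤ) (f : MvPolynomial (Fin 3) k) :
    pr g f = if 0 ≤ g then homogeneousComponent g.toNat f else 0 := by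
  have hmem : ∀ j : ℕ, homogeneousComponent j f ∈ GrSyz.stdGr k (Fin 3) (j : ℤ) := fun j d hd => by
    rw [weight_one, Finsupp.degree_apply, ← (homogeneousComponent_isHomogeneous j f).degree_eq_sum_deg_support (mem_support_iff.2 hd)]
  conv_lhs => rw [← sum_homogeneousComponent f, map_sum]
  split_ifs with hg
  · obtain ⟨j₀, rfl⟩ := Int.eq_ofNat_of_zero_le hg
    rw [Finset.sum_eq_single j₀]
    · rw [pr_of_mem (hmem j₀)]; simp
    · exact fun j _ hj => pr_of_mem_ne (hmem j) (by exact_mod_cast hj)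
    · intro hj
      rw [homogeneousComponent_eq_zero _ _ (by simpa using hj), map_zero]
  · exact Finset.sum_eq_zero fun j _ => pr_of_mem_ne (hmem j) (by omega)


/-- Let k be a field, Z a finite set of nonzero vectors in k^3, regarded as points of the projective
plane, and I the homogeneous vanishing ideal of Z in S = k[x_0, x_1, x_2]: a polynomial belongs to I
exactly when each of its homogeneous components vanishes at every vector of Z. Then I has a free
resolution of length one: for some t there are a (t+1) × t matrix Ψ over S, injective as a map S^t →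
S^{t+1}, and an S-linear map π : S^{t+1} → S with ker π = im Ψ and im π = I. (The published
statement speaks of the minimal free resolution of I having length 1; stated here as the existence
of such a resolution.) -/
theorem result (k : Type u) [Field k]
    (Z : Finset (Fin 3 → k)) (hZ : ∀ p ∈ Z, p ≠ 0) (I : Ideal (MvPolynomial (Fin 3) k))
    (hI : ∀ f : MvPolynomial (Fin 3) k, f ∈ I ↔
      ∀ p ∈ Z, ∀ j : ℕ, MvPolynomial.eval p (MvPolynomial.homogeneousComponent j f) = 0) :
    ∃ (t : ℕ) (Ψ : Matrix (Fin (t + 1)) (Fin t) (MvPolynomial (Fin 3) k)) (π : (Fin (t + 1) → MvPolynomial (Fin 3) k) →ₗ[MvPolynomial (Fin 3) k] MvPolynomial (Fin 3) k),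
      LinearMap.ker Ψ.mulVecLin = ⊥ ∧ LinearMap.ker π = LinearMap.range Ψ.mulVecLin ∧ LinearMap.range π = I := by
  classical
  have hI' : ∀ f ∈ I, ∀ j, MvPolynomial.homogeneousComponent j f ∈ I := fun f hf j => (hI _).2 fun p hp i => by
    rw [MvPolynomial.homogeneousComponent_of_mem (MvPolynomial.homogeneousComponent_mem j f)]
    split_ifs
    · exact (hI f).1 hf p hp j
    · simp
  have hIne : I ≠ ⊥ := by
    choose i hi using fun p (hp : p ∈ Z) => Function.ne_iff.1 (hZ p hp)
    let L : {p // p ∈ Z} → MvPolynomial (Fin 3) k := fun p =>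
      MvPolynomial.C (p.1 (i p.1 p.2)) * MvPolynomial.X (i p.1 p.2 + 1) -
        MvPolynomial.C (p.1 (i p.1 p.2 + 1)) * MvPolynomial.X (i p.1 p.2)
    intro hbot
    have hhom : (∏ p ∈ Z.attach, L p).IsHomogeneous (∑ _p ∈ Z.attach, 1) :=
      MvPolynomial.IsHomogeneous.prod _ L (fun _ => 1) fun p _ =>
        ((MvPolynomial.isHomogeneous_C_mul_X _ _).sub (MvPolynomial.isHomogeneous_C_mul_X _ _))
    have hmem : (∏ p ∈ Z.attach, L p) ∈ I := (hI _).2 fun p hp j => by
      rw [MvPolynomial.homogeneousComponent_of_mem ((MvPolynomial.mem_homogeneousSubmodule _ _).2 hhom)]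
      split_ifs
      · rw [map_prod]
        exact Finset.prod_eq_zero (Finset.mem_attach _ ⟨p, hp⟩) (by simp [L]; ring)
      · simp
    rw [hbot, Submodule.mem_bot, Finset.prod_eq_zero_iff] at hmem
    obtain ⟨p, -, hp⟩ := hmem
    have h := congrArg (MvPolynomial.eval (fun a => if a = i p.1 p.2 + 1 then (1 : k) else 0)) hp
    have hne : ∀ a : Fin 3, a ≠ a + 1 := by decide
    simp [L, hne] at h
    exact hi p.1 p.2 h
  obtain ⟨ℓ, hℓ, hℓ0, hreg⟩ : ∃ ℓ : MvPolynomial (Fin 3) k, MvPolynomial.constantCoeff ℓ = 0 ∧ ℓ ≠ 0 ∧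
      ∀ f, ℓ * f ∈ I → f ∈ I := by
    by_contra hne
    push Not at hne
    let M := MvPolynomial (Fin 3) k ⧸ I
    have hsub : ((RingHom.ker (MvPolynomial.constantCoeff : MvPolynomial (Fin 3) k →+* k) : Ideal _) : Set _) ⊆
        {0} ∪ ⋃ q ∈ associatedPrimes (MvPolynomial (Fin 3) k) M, (q : Set (MvPolynomial (Fin 3) k)) := by
      intro x hx
      by_cases hx0 : x = 0
      · exact Or.inl hx0
      right
      obtain ⟨f, hf, hf'⟩ := hne x (RingHom.mem_ker.1 hx) hx0
      rw [biUnion_associatedPrimes_eq_zero_divisors]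
      refine ⟨Ideal.Quotient.mk I f, fun h => hf' (Ideal.Quotient.eq_zero_iff_mem.1 h), ?_⟩
      show Submodule.Quotient.mk (x • f) = 0
      exact (Submodule.Quotient.mk_eq_zero _).2 hf
    obtain ⟨f, hf, hf'⟩ := hne _ (MvPolynomial.constantCoeff_X (R := k) (0 : Fin 3)) (MvPolynomial.X_ne_zero _)
    haveI : Nontrivial M := Ideal.Quotient.nontrivial_iff.2 fun h => hf' (h ▸ trivial)
    obtain ⟨q₀, hq₀⟩ := associatedPrimes.nonempty (MvPolynomial (Fin 3) k) M
    have hfin := associatedPrimes.finite (MvPolynomial (Fin 3) k) M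
    have hsub' : ((RingHom.ker (MvPolynomial.constantCoeff : MvPolynomial (Fin 3) k →+* k) : Ideal _) : Set _) ⊆
        ⋃ q ∈ (↑hfin.toFinset : Set (Ideal (MvPolynomial (Fin 3) k))), (q : Set (MvPolynomial (Fin 3) k)) := by
      rw [hfin.coe_toFinset]
      intro x hx
      rcases hsub hx with rfl | h
      · exact Set.mem_iUnion₂.2 ⟨q₀, hq₀, q₀.zero_mem⟩
      · exact h
    obtain ⟨q, hq, hle⟩ := (Ideal.subset_union_prime q₀ q₀
      (fun q hq _ _ => (hfin.mem_toFinset.1 hq).isPrime)).1 hsub'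
    obtain ⟨hqp, y, hy⟩ := isAssociatedPrime_iff.1 (hfin.mem_toFinset.1 hq)
    obtain ⟨g, rfl⟩ := Ideal.Quotient.mk_surjective y
    have hX : ∀ i, MvPolynomial.X i * g ∈ I := fun i => by
      have := hle (RingHom.mem_ker.2 (MvPolynomial.constantCoeff_X (R := k) i))
      rw [hy, Submodule.mem_colon_singleton, Submodule.mem_bot] at this
      exact (Submodule.Quotient.mk_eq_zero I).1 this
    have hg : g ∈ I := (hI g).2 fun p hp j => by
      obtain ⟨i, hi⟩ := Function.ne_iff.1 (hZ p hp)
      have h := (hI _).1 (hX i) p hp (j + 1)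
      rw [homogeneousComponent_X_mul, map_mul, MvPolynomial.eval_X] at h
      exact (mul_eq_zero.1 h).resolve_left hi
    refine hqp.ne_top (hy.trans ((Ideal.eq_top_iff_one _).2 ?_))
    rw [Submodule.mem_colon_singleton, Ideal.Quotient.eq_zero_iff_mem.2 hg]
    simp
  let K₀ : Submodule (MvPolynomial (Fin 3) k) (Fin 1 → MvPolynomial (Fin 3) k) :=
    Submodule.comap (LinearMap.proj 0) I
  obtain ⟨m₁, deg₁, D₀, hD₀, hr₀, hmin₀⟩ := exists_kernel_gens (deg := fun _ : Fin 1 => (0 : ℤ)) K₀
    fun v hv g => by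
      show fc (fun _ : Fin 1 => (0 : ℤ)) g v 0 ∈ I
      rw [fc_apply, pr_eq]
      split_ifs
      · exact hI' _ hv _
      · exact I.zero_mem
  let st : ℕ → Stage k 3 := fun i => Nat.rec ⟨1, m₁, fun _ => 0, deg₁, D₀, hD₀⟩ (fun _ s => next s) i
  have hker : ∀ i v, (st i).D.mulVec v = 0 → ∀ b, MvPolynomial.constantCoeff (v b) = 0 := by
    intro i
    cases i with
    | zero => exact hmin₀
    | succ i => exact (exists_next (st i)).choose_spec.2.2
  have hex : ∀ i, LinearMap.ker (st i).D.mulVecLin = LinearMap.range (st (i + 1)).D.mulVecLin := fun i =>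
    (exists_next (st i)).choose_spec.2.1.symm
  have h3 : (st 3).m = 0 := rk_three_eq_zero (fun i => (st i).m) (fun i => (st i).D) (fun i a b => by
      have h := hker i ((st (i + 1)).D.mulVec (Pi.single b 1)) (LinearMap.mem_ker.1 ((hex i).ge ⟨_, rfl⟩)) a
      refine (congrArg MvPolynomial.constantCoeff ?_).trans h
      show _ = ∑ c, (st (i + 1)).D a c * (Pi.single b 1 : _ → MvPolynomial (Fin 3) k) c
      symm
      refine (Fintype.sum_eq_single b fun c hc => ?_).trans ?_
      · erw [Pi.single_eq_of_ne hc, mul_zero]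
      · erw [Pi.single_eq_same, mul_one])
    hex ℓ hℓ hℓ0 fun w hw => by
      show w ∈ LinearMap.range D₀.mulVecLin
      rw [hr₀]
      exact hreg _ ((show ℓ • w ∈ K₀ from hr₀ ▸ hw : ℓ • w ∈ K₀))
  obtain ⟨m₂, Ψ, hinj, hex0⟩ : ∃ (m₂ : ℕ) (Ψ : Matrix (Fin m₁) (Fin m₂) (MvPolynomial (Fin 3) k)),
      LinearMap.ker Ψ.mulVecLin = ⊥ ∧ LinearMap.ker D₀.mulVecLin = LinearMap.range Ψ.mulVecLin := by
    refine ⟨_, (st 1).D, eq_bot_iff.2 fun z hz => ?_, hex 0⟩
    obtain ⟨w, rfl⟩ := (hex 1).le hz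
    have : IsEmpty (Fin (st 2).m') := by
      rw [show (st 2).m' = (st 3).m from rfl, h3]; infer_instance
    refine (Submodule.mem_bot (MvPolynomial (Fin 3) k)).2 ?_
    rw [Subsingleton.elim w 0]
    exact map_zero _
  let π : (Fin m₁ → MvPolynomial (Fin 3) k) →ₗ[MvPolynomial (Fin 3) k] MvPolynomial (Fin 3) k :=
    (LinearMap.proj (0 : Fin 1)).comp D₀.mulVecLin
  have hkπ : LinearMap.ker π = LinearMap.range Ψ.mulVecLin := by
    rw [← hex0]
    ext v
    exact ⟨fun h => funext fun a => by rw [Subsingleton.elim a 0]; exact h, fun h => congrFun h 0⟩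
  have hrπ : LinearMap.range π = I := by
    rw [LinearMap.range_comp, hr₀, Submodule.map_comap_eq_of_surjective]
    exact fun x => ⟨fun _ => x, rfl⟩
  obtain ⟨hσ, -⟩ := GrothLib.BEExact.rank_rowMatrix 1 le_rfl (GrothLib.BEExact.pairSize m₁ m₂)
    (GrothLib.BEExact.pairMat Ψ) π (hrπ.symm ▸ hIne) hkπ ⟨hinj, fun i hi => absurd hi (by omega)⟩
  obtain rfl : m₁ = m₂ + 1 := by
    simp [GrothLib.BEExact.σ, GrothLib.BEExact.consSize, GrothLib.BEExact.pairSize, Finset.sum_range_succ] at hσ
    omega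
  exact ⟨_, Ψ, π, hinj, hkπ, hrπ⟩

end Groth.Agent.S12917
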