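import Groth.Statements.S12918
import Groth.Agent.Lib.Comod.TotalInt

set_option autoImplicit false
universe u v w
open HopfRep

namespace Groth.Agent.S12918

/-- Let `k` be a commutative ring, `A` a commutative Hopf algebra over `k`, flat as a `k`-module and `B`
a commutative `k`-algebra with a coaction `ρ : B → B ⊗ A` that is an algebra map (an action of the
affine group scheme `Spec A` on `Spec B`). Then the action admits a total integral — a comodule map
`α : A → B`, for the regular coaction on `A`, with `α 1 = 1` — if and only if `ρ` has a left inverse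
`B ⊗ A → B` which is a comodule map for the coaction `id ⊗ Δ` on `B ⊗ A`. -/
theorem result
    (k : Type u) [CommRing k] (A : Type v) [CommRing A] [HopfAlgebra k A] [Module.Flat k A]
    (B : Type w) [CommRing B] [Algebra k B] [HopfRep.Comod k A B] [GLin.IsCoactAlg k A B] :
    (∃ α : A →ₗ[k] B, Hoch.IsComodHom A α ∧ α 1 = 1) ↔
      ∃ lam : Hoch.Ind k A B →ₗ[k] B, Hoch.IsComodHom A lam ∧ lam ∘ₗ Hoch.toInd k A B = LinearMap.id := by
  have : TameAct.IsHopfMod k A B B := ⟨fun b m => by
    rw [smul_eq_mul, GLin.IsCoactAlg.coact_mul]
    induction HopfRep.Comod.coact (k := k) (A := A) b using TensorProduct.induction_on with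
    | zero => simp
    | tmul p q =>
      induction HopfRep.Comod.coact (k := k) (A := A) m using TensorProduct.induction_on with
      | zero => simp
      | tmul r s => simp
      | add r s hr hs => simp only [mul_add, map_add, hr, hs]
    | add p q hp hq => simp only [add_mul, map_add, LinearMap.add_apply, hp, hq]⟩
  constructor
  · rintro ⟨α, hα, h1⟩
    exact ⟨GrothLib.Comodule.avg α, GrothLib.Comodule.isComodHom_avg α hα,
      LinearMap.ext fun m => GrothLib.Comodule.avg_toInd α h1 m⟩
  · rintro ⟨lam, hlam, hinv⟩
    refine ⟨lam ∘ₗ (Hoch.Ind.equiv k A B).toLinearMap ∘ₗ TensorProduct.mk k B A 1, ?_, ?_⟩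
    · refine GrothLib.Comodule.IsComodHom.comp hlam (LinearMap.ext fun c => ?_)
      change Hoch.Ind.coactAux k A B ((1 : B) ⊗ₜ c) =
        (TensorProduct.mk k B A 1).rTensor A (Coalgebra.comul (R := k) c)
      rw [Hoch.Ind.coactAux_tmul]
      induction Coalgebra.comul (R := k) c using TensorProduct.induction_on with
      | zero => simp
      | tmul a b => simp
      | add a b ha hb => simp only [TensorProduct.tmul_add, map_add, ha, hb]
    · have h := LinearMap.congr_fun hinv (1 : B)
      change lam (Hoch.Ind.equiv k A B (HopfRep.Comod.coact (k := k) (A := A) (1 : B))) = 1 at h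
      rw [GLin.IsCoactAlg.coact_one] at h
      exact h

end Groth.Agent.S12918
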