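import Groth.Statements.S1292
import Groth.Agent.S6944
import Groth.Agent.Lib.DCxRing.RestrictTor
import Groth.Agent.Lib.IndEt.Flat
import Groth.Agent.Lib.Hensel.Henselization
import Groth.Agent.Lib.AbsFlat.Basic

set_option autoImplicit false
universe u
open CategoryTheory
attribute [local instance] HasDerivedCategory.standard
open FlatMor

namespace Groth.Agent.S1292


open CategoryTheory CategoryTheory.Limits HomologicalComplex
attribute [local instance] HasDerivedCategory.standard
set_option maxHeartbeats 400000

/-- Flatness descends along a weakly étale map. -/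
theorem flat_of_flat_restrict {A B : Type u} [CommRing A] [CommRing B] [Algebra A B] [Algebra.WeaklyEtale A B]
    (M : ModuleCat.{u} B) (h : Module.Flat A ((ModuleCat.restrictScalars (algebraMap A B)).obj M)) :
    Module.Flat B M := by
  letI : Module A M := Module.compHom M (algebraMap A B)
  haveI : IsScalarTower A B M := IsScalarTower.of_algebraMap_smul fun _ _ => rfl
  haveI : Module.Flat A M := h
  exact Groth.Agent.AbsFlat.flat_of_flat_lmul (Algebra.WeaklyEtale.flat_lmul' A B) M

theorem flat_restrict {A B : Type u} [CommRing A] [CommRing B] [Algebra A B] [Module.Flat A B]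
    (M : ModuleCat.{u} B) [Module.Flat B M] :
    Module.Flat A ((ModuleCat.restrictScalars (algebraMap A B)).obj M) := by
  letI : Module A M := Module.compHom M (algebraMap A B)
  haveI : IsScalarTower A B M := IsScalarTower.of_algebraMap_smul fun _ _ => rfl
  exact Module.Flat.trans A B M

theorem amp_restrict {A B : Type u} [CommRing A] [CommRing B] [Algebra A B] [Module.Flat A B]
    {K : Dual.D B} {a b : ℤ} (h : DRing.HasTorAmplitudeIn B a b K) :
    DRing.HasTorAmplitudeIn A a b ((DRing.restrictD (algebraMap A B)).obj K) := by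
  obtain ⟨E, hv, hf, ⟨e⟩⟩ := h
  exact GrothLib.DR.hasTorAmplitudeIn_of_iso ((GrothLib.DR.restrictToDIso (algebraMap A B) E).symm ≪≫
      (DRing.restrictD (algebraMap A B)).mapIso e)
    ⟨(DRing.restrictCx (algebraMap A B)).obj E, fun i hi => (ModuleCat.restrictScalars _).map_isZero (hv i hi),
      fun i => by haveI := hf i; exact flat_restrict (E.X i), ⟨Iso.refl _⟩⟩

theorem flat_of_iso {A : Type u} [CommRing A] {M N : ModuleCat.{u} A} (e : M ≅ N) (h : Module.Flat A M) :
    Module.Flat A N := Module.Flat.of_linearEquiv e.symm.toLinearEquiv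

theorem exactAt_of_restrict {A B : Type u} [CommRing A] [CommRing B] (φ : A →+* B) (P : DRing.Cx B) (i : ℤ)
    (h : ((DRing.restrictCx φ).obj P).ExactAt i) : P.ExactAt i := by
  rw [exactAt_iff_isZero_homology]
  have hz : IsZero ((ModuleCat.restrictScalars φ).obj (P.homology i)) :=
    ((exactAt_iff_isZero_homology _ _).1 h).of_iso ((P.sc i).mapHomologyIso (ModuleCat.restrictScalars φ)).symm
  haveI := ModuleCat.subsingleton_of_isZero hz
  haveI : Subsingleton (P.homology i) := ⟨fun p q => (inferInstance :
    Subsingleton ((ModuleCat.restrictScalars φ).obj (P.homology i))).elim p q⟩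
  exact ModuleCat.isZero_of_subsingleton _

/-- An exact functor on cokernels of differentials. -/
noncomputable def opcyclesMapIso {C D : Type*} [Category C] [Category D] [Abelian C] [Abelian D] (F : C ⥤ D)
    [F.Additive] [F.PreservesHomology] (P : CochainComplex C ℤ) (n : ℤ) :
    ((F.mapHomologicalComplex (ComplexShape.up ℤ)).obj P).opcycles n ≅ F.obj (P.opcycles n) :=
  (P.sc n).mapOpcyclesIso F

theorem flat_opcycles {A : Type u} [CommRing A] (P : DRing.Cx A) {c : ℤ} (hc : DRing.VanishesAbove P c)
    (hP : DRing.TermwiseFlat P) {a b : ℤ} (h : DRing.HasTorAmplitudeIn A a b (DRing.toD P)) :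
    Module.Flat A (P.opcycles a) := by
  let S := P.sc' (a - 1) a (a + 1)
  haveI : Module.Flat A (ModuleCat.of A (S.X₂ ⧸ LinearMap.range S.f.hom)) :=
    Groth.Agent.S6944.result A P c hc hP a b h
  exact Module.Flat.of_linearEquiv
    (ShortComplex.opcyclesMapIso (P.isoSc' (a - 1) a (a + 1) (by simp) (by simp)) ≪≫
      S.moduleCatOpcyclesIso).toLinearEquiv

theorem amp_of_restrict {A B : Type u} [CommRing A] [CommRing B] [Algebra A B] [Module.Flat A B]
    (hflat : ∀ M : ModuleCat.{u} B, Module.Flat A ((ModuleCat.restrictScalars (algebraMap A B)).obj M) → Module.Flat B M)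
    {K : Dual.D B} {a b : ℤ} (h : DRing.HasTorAmplitudeIn A a b ((DRing.restrictD (algebraMap A B)).obj K)) :
    DRing.HasTorAmplitudeIn B a b K := by
  let φ := algebraMap A B
  have hex : ∀ (P : DRing.Cx B), (DRing.toD P ≅ K) → ∀ i, (i < a ∨ b < i) → P.ExactAt i := fun P e i hi =>
    exactAt_of_restrict φ P i ((GrothLib.DR.exactAt_iff _ i).2 (GrothLib.DR.subsingleton_HD_of_amplitude
      (GrothLib.DR.hasTorAmplitudeIn_of_iso ((DRing.restrictD φ).mapIso e.symm ≪≫ GrothLib.DR.restrictToDIso φ P) h)
      i hi))
  obtain ⟨e₀⟩ : Nonempty (DRing.toD (DerivedCategory.Q.objPreimage K) ≅ K) :=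
    ⟨DerivedCategory.Q.objObjPreimageIso K⟩
  obtain ⟨P, hP, hPp, ⟨e⟩⟩ := GrothLib.DR.exists_projective_rep K b fun i hi =>
    GrothLib.DR.subsingleton_HD_of_iso e₀ i ((GrothLib.DR.exactAt_iff _ i).1 (hex _ e₀ i (Or.inr hi)))
  have hPf : DRing.TermwiseFlat P := fun i => by haveI := hPp i; infer_instance
  haveI := GrothLib.DR.isStrictlyLE_of hP
  haveI : P.IsGE a := (P.isGE_iff a).2 fun i hi => hex P e i (Or.inl hi)
  haveI : QuasiIso (P.πTruncGE a) := inferInstance
  refine ⟨P.truncGE a, fun n hn => ?_, fun n => ?_,
    ⟨(asIso (DerivedCategory.Q.map (P.πTruncGE a))).symm ≪≫ e⟩⟩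
  · rcases lt_or_ge n a with hna | hna
    · exact CochainComplex.isZero_of_isStrictlyGE _ a n hna
    · rcases hna.lt_or_eq with hna | rfl
      · exact (P.isZero_of_isStrictlyLE b n (by omega)).of_iso (P.truncGEXIso a n hna)
      · have hz : IsZero (P.X a) := P.isZero_of_isStrictlyLE b a (by omega)
        haveI : Epi (P.pOpcycles a) := inferInstance
        exact (IsZero.of_epi (P.pOpcycles a) hz).of_iso (P.truncGEXIsoOpcycles a)
  · rcases lt_trichotomy n a with hn | rfl | hn
    · haveI := ModuleCat.subsingleton_of_isZero (CochainComplex.isZero_of_isStrictlyGE (P.truncGE a) a n hn)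
      infer_instance
    · refine flat_of_iso (P.truncGEXIsoOpcycles n).symm (hflat _ ?_)
      refine flat_of_iso (opcyclesMapIso (ModuleCat.restrictScalars φ) P n) ?_
      exact flat_opcycles ((DRing.restrictCx φ).obj P) (c := b)
        (fun i hi => (ModuleCat.restrictScalars φ).map_isZero (hP i hi))
        (fun i => by haveI := hPf i; exact flat_restrict (P.X i))
        (GrothLib.DR.hasTorAmplitudeIn_of_iso ((DRing.restrictD φ).mapIso e.symm ≪≫ GrothLib.DR.restrictToDIso φ P) h)
    · exact flat_of_iso (P.truncGEXIso a n hn).symm (hPf n)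


open IsLocalRing in
/-- Let A be a ring, p a prime ideal of A, Ah a henselization and Ash a strict henselization of the
local ring A_p, with Ash an Ah-algebra compatibly with the structure maps from A_p, and a, b
integers. Tor amplitude is meant in the flat-representative form: an object of the derived category
of a ring has tor amplitude in [a, b] when it is isomorphic to a complex of flat modules vanishing
outside degrees [a, b]. For K in D(Ash) the following are equivalent: K with scalars restricted to
A_p has tor amplitude in [a, b]; K with scalars restricted to Ah has tor amplitude in [a, b]; K has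
tor amplitude in [a, b] over Ash. Moreover, for L in D(Ah): L with scalars restricted to A_p has tor
amplitude in [a, b] if and only if L has tor amplitude in [a, b] over Ah. (The published statement
is for a general scheme S; this is the case S = Spec A.) -/
theorem result {A : Type u} [CommRing A] (p : Ideal A) [p.IsPrime]
    (Ah Ash : Type u) [CommRing Ah] [IsLocalRing Ah] [CommRing Ash] [IsLocalRing Ash]
    [Algebra (Localization.AtPrime p) Ah] [IsLocalHom (algebraMap (Localization.AtPrime p) Ah)] [Hensel.IsHenselization (Localization.AtPrime p) Ah]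
    [Algebra (Localization.AtPrime p) Ash] [IsLocalHom (algebraMap (Localization.AtPrime p) Ash)] [Hensel.IsStrictHenselization (Localization.AtPrime p) Ash]
    [Algebra Ah Ash] [IsScalarTower (Localization.AtPrime p) Ah Ash]
    (a b : ℤ) (K : Dual.D Ash) (L : Dual.D Ah) :
    [DRing.HasTorAmplitudeIn (Localization.AtPrime p) a b ((DRing.restrictD (algebraMap (Localization.AtPrime p) Ash)).obj K),
     DRing.HasTorAmplitudeIn Ah a b ((DRing.restrictD (algebraMap Ah Ash)).obj K),
     DRing.HasTorAmplitudeIn Ash a b K].TFAE ∧
    (DRing.HasTorAmplitudeIn (Localization.AtPrime p) a b ((DRing.restrictD (algebraMap (Localization.AtPrime p) Ah)).obj L) ↔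
      DRing.HasTorAmplitudeIn Ah a b L) := by
  haveI h1 : Algebra.WeaklyEtale (Localization.AtPrime p) Ah :=
    GrothLib.IndEt.weaklyEtale GrothLib.Hensel.IsHenselization.isIndEtale
  haveI h2 : Algebra.WeaklyEtale (Localization.AtPrime p) Ash :=
    GrothLib.IndEt.weaklyEtale GrothLib.Hensel.IsStrictHenselization.isIndEtale
  haveI : Module.Flat (Localization.AtPrime p) Ah := Algebra.WeaklyEtale.flat
  haveI : Module.Flat (Localization.AtPrime p) Ash := Algebra.WeaklyEtale.flat
  haveI : Module.Flat Ah Ash := Groth.Agent.AbsFlat.flat_of_flat_lmul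
    (Algebra.WeaklyEtale.flat_lmul' (Localization.AtPrime p) Ah) Ash
  have h13 : DRing.HasTorAmplitudeIn (Localization.AtPrime p) a b
      ((DRing.restrictD (algebraMap (Localization.AtPrime p) Ash)).obj K) →
      DRing.HasTorAmplitudeIn Ash a b K := amp_of_restrict flat_of_flat_restrict
  refine ⟨?_, ⟨amp_of_restrict flat_of_flat_restrict, amp_restrict⟩⟩
  have hAh : ∀ M : ModuleCat.{u} Ash, Module.Flat Ah ((ModuleCat.restrictScalars (algebraMap Ah Ash)).obj M) →
      Module.Flat Ash M := fun M hM => by
    refine flat_of_flat_restrict (A := Localization.AtPrime p) M ?_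
    letI : Module Ah M := Module.compHom M (algebraMap Ah Ash)
    letI : Module (Localization.AtPrime p) M := Module.compHom M (algebraMap (Localization.AtPrime p) Ash)
    haveI : IsScalarTower (Localization.AtPrime p) Ah M := IsScalarTower.of_algebraMap_smul fun r x => by
      show algebraMap Ah Ash (algebraMap (Localization.AtPrime p) Ah r) • x = _
      rw [← IsScalarTower.algebraMap_apply]; rfl
    haveI : Module.Flat Ah M := hM
    exact Module.Flat.trans (Localization.AtPrime p) Ah M
  tfae_have 1 → 3 := h13
  tfae_have 3 → 2 := amp_restrict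
  tfae_have 3 → 1 := amp_restrict
  tfae_have 2 → 3 := amp_of_restrict hAh
  tfae_finish


end Groth.Agent.S1292
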