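import Groth.Statements.S12920
import Groth.Agent.Lib.Comod.TotalInt

set_option autoImplicit false
universe u v w w' w''
open HopfRep

namespace Groth.Agent.S12920

/-- Let `k` be a commutative ring, `A` a commutative Hopf algebra over `k`, flat as a `k`-module and `B`
a commutative `k`-algebra with a coaction of `A` that is an algebra map and that admits a total
integral (a comodule map `α : A → B` with `α 1 = 1`). Then taking invariants is exact on `(B,
A)`-modules: for `B`-modules `M`, `N` with compatible `A`-coactions and a surjective `B`-linear
comodule map `f : M → N`, every invariant of `N` is the image of an invariant of `M`. (Left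
exactness of invariants holds for any coaction; this is the right exactness.) -/
theorem result
    (k : Type u) [CommRing k] (A : Type v) [CommRing A] [HopfAlgebra k A] [Module.Flat k A]
    (B : Type w) [CommRing B] [Algebra k B] [HopfRep.Comod k A B] [GLin.IsCoactAlg k A B]
    (htame : ∃ α : A →ₗ[k] B, Hoch.IsComodHom A α ∧ α 1 = 1)
    (M : Type w') [AddCommGroup M] [Module k M] [Module B M] [IsScalarTower k B M]
    [HopfRep.Comod k A M] [TameAct.IsHopfMod k A B M]
    (N : Type w'') [AddCommGroup N] [Module k N] [Module B N] [IsScalarTower k B N]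
    [HopfRep.Comod k A N] [TameAct.IsHopfMod k A B N]
    (f : M →ₗ[B] N) (hf : Hoch.IsComodHom A (f.restrictScalars k)) (hsurj : Function.Surjective f) :
    ∀ n ∈ HopfRep.fixedPts k A N, ∃ m ∈ HopfRep.fixedPts k A M, f m = n := by
  obtain ⟨α, hα, h1⟩ := htame
  intro n hn
  obtain ⟨m, rfl⟩ := hsurj n
  refine ⟨TameAct.reynolds k A B M α m, ?_, ?_⟩
  · rw [GrothLib.Comodule.reynolds_eq_avg]
    change HopfRep.Comod.coact (k := k) (A := A) _ = _ ⊗ₜ[k] (1 : A)
    rw [GrothLib.Comodule.IsComodHom.apply (GrothLib.Comodule.isComodHom_avg α hα),
      Hoch.Ind.coact_equiv_tmul, Bialgebra.comul_one, Algebra.TensorProduct.one_def]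
    simp only [TensorProduct.assoc_symm_tmul]
    rfl
  · have h2 : f (TameAct.reynolds k A B M α m) = TameAct.reynolds k A B N α (f m) := by
      have h3 := GrothLib.Comodule.IsComodHom.apply hf m
      rw [LinearMap.restrictScalars_apply] at h3
      simp only [GrothLib.Comodule.reynolds_eq_avg, GrothLib.Comodule.avg_tmul]
      rw [h3]
      induction HopfRep.Comod.coact (k := k) (A := A) m using TensorProduct.induction_on with
      | zero => simp
      | tmul p q => simp [GrothLib.Comodule.tweak_tmul]
      | add p q hp hq => simp only [map_add, hp, hq]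
    rw [h2, TameAct.reynolds_apply_of_coact_eq k A B N α (f m) (f m) 1 hn, HopfAlgebra.antipode_one,
      h1, one_smul]

end Groth.Agent.S12920
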