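import Groth.Statements.S12924
import Groth.Agent.Lib.Comod.Invariants
import Groth.Agent.Lib.Comod.Quotient

set_option autoImplicit false
universe u
open CategoryTheory AlgebraicGeometry
open HopfRep

namespace Groth.Agent.S12924

/-- Let `k` be a commutative ring, `A` a commutative Hopf algebra over `k`, flat as a `k`-module, `B` a
commutative `k`-algebra with a coaction `ρ : B → B ⊗ A` that is an algebra map and admits a total
integral (a comodule map `α : A → B` with `α 1 = 1`), and `C = B^A`. Then `Spec B → Spec C` is a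
categorical quotient of the action in the category of schemes: for every scheme `Z` and every
morphism `ψ : Spec B → Z` which is invariant, i.e. has the same composite with `Spec (B ⊗ A) → Spec
B` induced by `ρ` and by `b ↦ b ⊗ 1`, there is exactly one morphism `Spec C → Z` through which `ψ`
factors. (The published statement assumes only that taking invariants is exact on `(B, A)`-modules;
a total integral, assumed here, gives that exactness.) -/
theorem result
    (k : Type u) [CommRing k] (A : Type u) [CommRing A] [HopfAlgebra k A] [Module.Flat k A]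
    (B : Type u) [CommRing B] [Algebra k B] [HopfRep.Comod k A B] [GLin.IsCoactAlg k A B]
    (htame : ∃ α : A →ₗ[k] B, Hoch.IsComodHom A α ∧ α 1 = 1)
    (Z : Scheme.{u}) (ψ : Spec (CommRingCat.of B) ⟶ Z)
    (hψ : Spec.map (CommRingCat.ofHom (GLin.coactAlgHom k A B).toRingHom) ≫ ψ =
      Spec.map (CommRingCat.ofHom
        (Algebra.TensorProduct.includeLeftRingHom : B →+* TensorProduct k B A)) ≫ ψ) :
    ∃! χ : Spec (CommRingCat.of (GLin.invariants k A B)) ⟶ Z,
      Spec.map (CommRingCat.ofHom (algebraMap (GLin.invariants k A B) B)) ≫ χ = ψ := by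
  obtain ⟨α, hα, h1⟩ := htame
  refine GrothLib.AffQuot.existsUnique_desc (algebraMap (GLin.invariants k A B) B)
    (GLin.coactAlgHom k A B).toRingHom
    (Algebra.TensorProduct.includeLeftRingHom : B →+* TensorProduct k B A)
    Subtype.val_injective (GrothLib.Comodule.comap_invariants_surjective α hα h1)
    (RingHom.ext fun c => c.2) (fun b hb => ⟨⟨b, hb⟩, rfl⟩) ψ hψ fun p => ?_
  let cl : Z.affineOpens → Ideal B := fun U =>
    PrimeSpectrum.vanishingIdeal ((ψ ⁻¹' (U.1 : Set Z))ᶜ : Set (PrimeSpectrum B))
  let cr : Z.affineOpens → Ideal B := fun U => GrothLib.Comodule.core (k := k) (A := A) (cl U)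
  have hcl : ∀ U : Z.affineOpens, PrimeSpectrum.zeroLocus ((cl U : Ideal B) : Set B) =
      ((ψ ⁻¹' (U.1 : Set Z))ᶜ : Set (PrimeSpectrum B)) := fun U => by
    rw [PrimeSpectrum.zeroLocus_vanishingIdeal_eq_closure]
    exact ((U.1.isOpen.preimage ψ.continuous).isClosed_compl).closure_eq
  have hcr : ∀ U : Z.affineOpens, PrimeSpectrum.zeroLocus ((cr U : Ideal B) : Set B) =
      ((ψ ⁻¹' (U.1 : Set Z))ᶜ : Set (PrimeSpectrum B)) := fun U => by
    refine (GrothLib.Comodule.zeroLocus_core (k := k) (A := A) (cl U) ?_).trans (hcl U)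
    rw [hcl U]
    ext P
    have h := congrArg (fun g : Spec (CommRingCat.of (TensorProduct k B A)) ⟶ Z => g P) hψ
    exact not_congr (iff_of_eq (congrArg (fun z => z ∈ (U.1 : Set Z)) h))
  have htop : ⨆ U, cr U = ⊤ := by
    by_contra hne
    obtain ⟨m, hm, hle⟩ := Ideal.exists_le_maximal _ hne
    let q : PrimeSpectrum B := ⟨m, hm.isPrime⟩
    obtain ⟨_, ⟨U, hU, rfl⟩, hqU, -⟩ :=
      Z.isBasis_affineOpens.exists_subset_of_mem_open (Set.mem_univ (ψ q)) isOpen_univ
    have : q ∈ PrimeSpectrum.zeroLocus ((cr ⟨U, hU⟩ : Ideal B) : Set B) :=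
      SetLike.coe_subset_coe.2 ((le_iSup cr ⟨U, hU⟩).trans hle)
    rw [hcr] at this
    exact this hqU
  have hex : ∃ U : Z.affineOpens, ∃ f : GLin.invariants k A B, f ∉ p.asIdeal ∧ (f : B) ∈ cr U := by
    by_contra h
    push Not at h
    refine p.2.ne_top ((Ideal.eq_top_iff_one _).2 ?_)
    have key : ∀ x ∈ ⨆ U, cr U,
        (⟨TameAct.reynolds k A B B α x, GrothLib.Comodule.reynolds_mem α hα x⟩ :
          GLin.invariants k A B) ∈ p.asIdeal := by
      intro x hx
      induction hx using Submodule.iSup_induction' with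
      | mem U y hy =>
        by_contra h'
        exact h U ⟨_, GrothLib.Comodule.reynolds_mem α hα y⟩ h'
          (GrothLib.Comodule.reynolds_mem_of_isSubcomod α (GrothLib.Comodule.isSubcomod_core _) hy)
      | zero =>
        convert p.asIdeal.zero_mem using 1
        exact Subtype.ext (map_zero _)
      | add y z _ _ hy hz =>
        convert p.asIdeal.add_mem hy hz using 1
        exact Subtype.ext (map_add _ _ _)
    have h2 := key 1 (htop ▸ trivial)
    convert h2 using 1
    exact Subtype.ext (GrothLib.Comodule.reynolds_of_mem α h1 (one_mem _)).symm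
  obtain ⟨U, f, hf, hfU⟩ := hex
  refine ⟨U.1, U.2, f, hf, fun q hq => ?_⟩
  by_contra h
  have : q ∈ PrimeSpectrum.zeroLocus ((cr U : Ideal B) : Set B) := by
    rw [hcr U]; exact h
  exact hq (this hfU)

end Groth.Agent.S12924
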