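import Groth.Statements.S12925
import Groth.Agent.Lib.Comod.TotalInt
import Mathlib.RingTheory.Bialgebra.MonoidAlgebra

set_option autoImplicit false
universe u w
open HopfRep

namespace Groth.Agent.S12925

/-- Let `k` be a commutative ring, `M` a commutative group and `B` a commutative `k`-algebra with a
coaction of the group algebra `k[M]` that is an algebra map (an action of the diagonalizable group
scheme `D(M) = Spec k[M]` on `Spec B`). Then the action is tame: there is a comodule map `α : k[M] →
B`, for the regular coaction on `k[M]`, with `α 1 = 1`. -/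
theorem result
    (k : Type u) [CommRing k] (M : Type u) [CommGroup M]
    (B : Type w) [CommRing B] [Algebra k B] [HopfRep.Comod k (MonoidAlgebra k M) B]
    [GLin.IsCoactAlg k (MonoidAlgebra k M) B] :
    ∃ α : MonoidAlgebra k M →ₗ[k] B, Hoch.IsComodHom (MonoidAlgebra k M) α ∧ α 1 = 1 := by
  classical
  let α₀ : MonoidAlgebra k M →ₗ[k] k := (MonoidAlgebra.basis M k).coord 1
  have hs : ∀ g : M, α₀ (MonoidAlgebra.single g 1) = if g = 1 then 1 else 0 := fun g => by
    rw [show MonoidAlgebra.single g (1 : k) = MonoidAlgebra.basis M k g by simp]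
    simp [α₀, Finsupp.single_apply, eq_comm, -MonoidAlgebra.basis_apply]
  have hinv : ∀ a, α₀.rTensor (MonoidAlgebra k M) (Coalgebra.comul (R := k) a) =
      α₀ a ⊗ₜ[k] (1 : MonoidAlgebra k M) := fun a => by
    refine LinearMap.congr_fun ((MonoidAlgebra.basis M k).ext (f₁ := α₀.rTensor _ ∘ₗ Coalgebra.comul)
      (f₂ := (TensorProduct.mk k k (MonoidAlgebra k M)).flip 1 ∘ₗ α₀) fun g => ?_) a
    simp only [MonoidAlgebra.basis_apply, LinearMap.comp_apply, LinearMap.flip_apply, TensorProduct.mk_apply]
    simp [hs]
    split_ifs with h <;> simp [h, MonoidAlgebra.one_def]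
  refine ⟨Algebra.linearMap k B ∘ₗ α₀, LinearMap.ext fun a => ?_, ?_⟩
  · change HopfRep.Comod.coact (k := k) (A := MonoidAlgebra k M) (algebraMap k B (α₀ a)) =
      (Algebra.linearMap k B ∘ₗ α₀).rTensor _ (Coalgebra.comul (R := k) a)
    rw [LinearMap.rTensor_comp, LinearMap.comp_apply, hinv, Algebra.algebraMap_eq_smul_one, map_smul,
      GLin.IsCoactAlg.coact_one, Algebra.TensorProduct.one_def, LinearMap.rTensor_tmul,
      TensorProduct.smul_tmul', Algebra.linearMap_apply, Algebra.algebraMap_eq_smul_one]
  · rw [MonoidAlgebra.one_def, LinearMap.comp_apply, hs]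
    simp

end Groth.Agent.S12925
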