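import Groth.Statements.S12926
import Groth.Agent.Lib.Comod.TotalInt

set_option autoImplicit false
universe u v
open HopfRep

namespace Groth.Agent.S12926

/-- Let `k` be a commutative ring and `A` a commutative bialgebra over `k`, flat as a `k`-module. If the
submodule `k · 1` of the regular comodule `A` has a complement `H` which is a subcomodule — the case
used when `A` is cosemisimple, i.e. every subcomodule of every comodule is a direct summand as a
comodule — then the trivial action of `Spec A` on `Spec k` is tame: there is a comodule map `α : A →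
k`, for the regular coaction on `A` and the trivial coaction `r ↦ r ⊗ 1` on `k`, with `α 1 = 1`. -/
theorem result
    (k : Type u) [CommRing k] (A : Type v) [CommRing A] [Bialgebra k A] [Module.Flat k A]
    (H : Submodule k A) (hH : HopfRep.IsSubcomod (k := k) (A := A) H)
    (hc : IsCompl (Submodule.span k {(1 : A)}) H) :
    ∃ α : A →ₗ[k] k, @Hoch.IsComodHom k _ A _ _ _ A _ _ _ k _ _ (HopfRep.Comod.trivial k A k) α ∧ α 1 = 1 := by
  refine ⟨Coalgebra.counit ∘ₗ (Submodule.span k {(1 : A)}).subtype ∘ₗ
    (Submodule.span k {(1 : A)}).projectionOnto H hc, LinearMap.ext fun a => ?_, ?_⟩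
  · set p := Coalgebra.counit (R := k) ∘ₗ (Submodule.span k {(1 : A)}).subtype ∘ₗ
      (Submodule.span k {(1 : A)}).projectionOnto H hc with hp
    change p a ⊗ₜ[k] (1 : A) = p.rTensor A (Coalgebra.comul (R := k) a)
    have ha : a ∈ Submodule.span k {(1 : A)} ⊔ H := hc.sup_eq_top ▸ trivial
    obtain ⟨x, hx, h, hh, rfl⟩ := Submodule.mem_sup.1 ha
    obtain ⟨r, rfl⟩ := Submodule.mem_span_singleton.1 hx
    have p0 : ∀ y ∈ H, p y = 0 := fun y hy => by
      simp [hp, Submodule.projectionOnto_apply_right hc ⟨y, hy⟩]
    obtain ⟨z, hz⟩ := hH h hh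
    have hpz : p.rTensor A (Coalgebra.comul (R := k) h) = 0 := by
      change p.rTensor A (HopfRep.Comod.coact (k := k) (A := A) h) = 0
      rw [← hz, ← LinearMap.comp_apply, ← LinearMap.rTensor_comp,
        show p ∘ₗ H.subtype = 0 from LinearMap.ext fun y => p0 y y.2]
      simp
    have p1 : p 1 = 1 := by
      simp [hp, Submodule.projectionOnto_apply_left hc ⟨1, Submodule.mem_span_singleton_self 1⟩]
    rw [map_add, map_add, map_add, map_smul, map_smul, map_smul, hpz, p0 h hh, p1, Bialgebra.comul_one,
      Algebra.TensorProduct.one_def, LinearMap.rTensor_tmul, p1]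
    simp [TensorProduct.smul_tmul']
  · simp [Submodule.projectionOnto_apply_left hc ⟨1, Submodule.mem_span_singleton_self 1⟩]

end Groth.Agent.S12926
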