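import Groth.Statements.S12929
import Groth.Agent.Lib.Comod.TotalInt

set_option autoImplicit false
universe u v w w'
open HopfRep

namespace Groth.Agent.S12929

open scoped TensorProduct

/-- Let `k` be a commutative ring, `A` a commutative Hopf algebra over `k`, `M` a right `A`-comodule and
`N` a `k`-module; give `N ⊗ A` the coaction `id ⊗ Δ`. Then for every `k`-linear map `h : M → N` the
composite `(h ⊗ id_A) ∘ ρ_M : M → N ⊗ A` is a comodule map, and every comodule map `f : M → N ⊗ A`
is of this form for exactly one `h` (which is `(id_N ⊗ ε) ∘ f`): comodule maps `M → N ⊗ A`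
correspond bijectively to linear maps `M → N`. -/
theorem result
    (k : Type u) [CommRing k] (A : Type v) [CommRing A] [HopfAlgebra k A]
    (M : Type w) [AddCommGroup M] [Module k M] [HopfRep.Comod k A M]
    (N : Type w') [AddCommGroup N] [Module k N] :
    (∀ h : M →ₗ[k] N, Hoch.IsComodHom A
        ((Hoch.Ind.equiv k A N).toLinearMap ∘ₗ h.rTensor A ∘ₗ HopfRep.Comod.coact (k := k) (A := A))) ∧
      ∀ f : M →ₗ[k] Hoch.Ind k A N, Hoch.IsComodHom A f →
        ∃! h : M →ₗ[k] N,
          f = (Hoch.Ind.equiv k A N).toLinearMap ∘ₗ h.rTensor A ∘ₗ HopfRep.Comod.coact (k := k) (A := A) := by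
  constructor
  · intro h
    refine LinearMap.ext fun m => ?_
    simp only [LinearMap.comp_apply, LinearEquiv.coe_coe]
    have h2 := LinearMap.congr_fun (HopfRep.Comod.coassoc (k := k) (A := A) (V := M)) m
    simp only [LinearMap.comp_apply, LinearEquiv.coe_coe] at h2
    have h3 : ∀ x : M ⊗[k] A, (((Hoch.Ind.equiv k A N).toLinearMap ∘ₗ h.rTensor A ∘ₗ
        HopfRep.Comod.coact (k := k) (A := A))).rTensor A x =
        (TensorProduct.assoc k N A A).symm (TensorProduct.map h LinearMap.id
          (TensorProduct.assoc k M A A ((HopfRep.Comod.coact (k := k) (A := A)).rTensor A x))) := fun x => by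
      induction x using TensorProduct.induction_on with
      | zero =>
        simp only [map_zero]
        rfl
      | tmul p q =>
        rw [LinearMap.rTensor_tmul, LinearMap.rTensor_tmul]
        change (h.rTensor A (HopfRep.Comod.coact (k := k) (A := A) p)) ⊗ₜ[k] q = _
        induction HopfRep.Comod.coact (k := k) (A := A) p using TensorProduct.induction_on with
        | zero => simp
        | tmul a c => simp
        | add a c ha hc => simp only [TensorProduct.add_tmul, map_add, ha, hc]
      | add a c ha hc =>
        rw [map_add, map_add, ha, hc, map_add, map_add, map_add]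
        rfl
    rw [h3, h2]
    generalize HopfRep.Comod.coact (k := k) (A := A) m = y
    change Hoch.Ind.coactAux k A N (h.rTensor A y) = _
    induction y using TensorProduct.induction_on with
    | zero => simp
    | tmul p q => simp
    | add a c ha hc => simp only [map_add, ha, hc]
  · intro f hf
    let ε : N ⊗[k] A →ₗ[k] N := (TensorProduct.rid k N).toLinearMap ∘ₗ (Coalgebra.counit (R := k)).lTensor N
    refine ⟨ε ∘ₗ (Hoch.Ind.equiv k A N).symm.toLinearMap ∘ₗ f, LinearMap.ext fun m => ?_, fun h' hh => ?_⟩
    · have h2 := congrArg ((ε ∘ₗ (Hoch.Ind.equiv k A N).symm.toLinearMap).rTensor A)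
        (GrothLib.Comodule.IsComodHom.apply hf m)
      rw [← LinearMap.comp_apply _ (f.rTensor A), ← LinearMap.rTensor_comp] at h2
      simp only [LinearMap.comp_apply, LinearEquiv.coe_coe]
      rw [show ε ∘ₗ (Hoch.Ind.equiv k A N).symm.toLinearMap ∘ₗ f =
        (ε ∘ₗ (Hoch.Ind.equiv k A N).symm.toLinearMap) ∘ₗ f from rfl, ← h2]
      have h3 : ∀ y : N ⊗[k] A, ε.rTensor A (Hoch.Ind.coactAux k A N y) = y := fun y => by
        induction y using TensorProduct.induction_on with
        | zero => simp
        | tmul p c =>
          have hc := Coalgebra.rTensor_counit_comul (R := k) c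
          rw [Hoch.Ind.coactAux_tmul]
          have h4 : ∀ w : A ⊗[k] A, ε.rTensor A ((TensorProduct.assoc k N A A).symm (p ⊗ₜ w)) =
              p ⊗ₜ[k] TensorProduct.lid k A ((Coalgebra.counit (R := k)).rTensor A w) := fun w => by
            induction w using TensorProduct.induction_on with
            | zero => simp
            | tmul a b => simp [ε, TensorProduct.smul_tmul]
            | add a b ha hb => simp only [TensorProduct.tmul_add, map_add, ha, hb]
          rw [h4, hc, TensorProduct.lid_tmul, one_smul]
        | add a c ha hc => simp only [map_add, ha, hc]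
      exact (h3 (f m)).symm
    · subst hh
      refine LinearMap.ext fun m => ?_
      simp only [LinearMap.comp_apply, LinearEquiv.coe_coe, LinearEquiv.symm_apply_apply, ε]
      rw [← LinearMap.comp_apply ((Coalgebra.counit (R := k)).lTensor N),
        LinearMap.lTensor_comp_rTensor, ← LinearMap.rTensor_comp_lTensor, LinearMap.comp_apply]
      have hc := LinearMap.congr_fun (HopfRep.Comod.counit_comp (k := k) (A := A) (V := M)) m
      simp only [LinearMap.comp_apply] at hc
      rw [hc]
      simp

end Groth.Agent.S12929
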