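import Groth.Statements.S1293
import Mathlib

set_option autoImplicit false
universe u
open FlatMor

namespace Groth.Agent.S1293

set_option maxHeartbeats 1000000
set_option linter.style.haveILetI false

open TensorProduct in
/-- A map from a free module to a flat module which is injective modulo every maximal ideal is universally injective. -/
theorem univInj_free {A : Type u} [CommRing A] {σ : Type u} {M : Type u} [AddCommGroup M] [Module A M] [Module.Flat A M]
    (φ : (σ →₀ A) →ₗ[A] M) (h : ∀ (m : Ideal A) [m.IsMaximal], Function.Injective (φ.lTensor (A ⧸ m)))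
    (Q : Type u) [AddCommGroup Q] [Module A Q] : Function.Injective (φ.lTensor Q) := by
  classical
  let b : Module.Basis σ A (σ →₀ A) := Finsupp.basisSingleOne
  refine (injective_iff_map_eq_zero _).2 fun x hx => ?_
  obtain ⟨q, rfl⟩ := (TensorProduct.equivFinsuppOfBasisRight b).symm.surjective x
  simp only [TensorProduct.equivFinsuppOfBasisRight_symm_apply, Finsupp.sum, map_sum, LinearMap.lTensor_tmul] at hx ⊢
  let v : q.support → Q := fun i => q i
  let n : q.support → M := fun i => φ (b i)
  have hvn : ∑ i, v i ⊗ₜ[A] n i = (0 : Q ⊗[A] M) := by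
    rw [← hx, ← Finset.sum_coe_sort q.support]
  obtain ⟨l, a, y, hay, ham⟩ := TensorProduct.vanishesTrivially_of_sum_tmul_eq_zero_of_rTensor_injective A
    (Module.Flat.rTensor_preserves_injective_linearMap _ (Submodule.injective_subtype _)) hvn
  have hv0 : ∀ i, v i = 0 := fun i => by
    by_contra hne
    obtain ⟨m, hm, hJm⟩ := Ideal.exists_le_maximal (LinearMap.ker (LinearMap.toSpanSingleton A Q (v i)) : Ideal A)
      (fun h => hne (by
        have h1 : (1 : A) ∈ LinearMap.ker (LinearMap.toSpanSingleton A Q (v i)) := h ▸ Submodule.mem_top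
        simpa using h1))
    let k := A ⧸ m
    letI : Field k := Ideal.Quotient.field m
    let T : Matrix q.support (Fin l) A := fun i j => a i j
    have hrows : LinearIndependent k (T.map (algebraMap A k)).row := by
      have h1 : LinearIndependent k fun i : q.support => φ.baseChange k (b.baseChange k i) :=
        ((b.baseChange k).linearIndependent.map' _ (LinearMap.ker_eq_bot.2 (h m))).comp _ Subtype.val_injective
      let T' : (Fin l → k) →ₗ[k] k ⊗[A] M := Fintype.linearCombination k fun j => (1 : k) ⊗ₜ y j
      refine LinearIndependent.of_comp T' ?_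
      have he : (T' ∘ (T.map (algebraMap A k)).row) = fun i : q.support => φ.baseChange k (b.baseChange k i) :=
        funext fun i => by
          show T' _ = _
          rw [Module.Basis.baseChange_apply, LinearMap.baseChange_tmul]
          show T' _ = (1 : k) ⊗ₜ n i
          rw [hay i, tmul_sum]
          simp only [T', Fintype.linearCombination_apply, Matrix.row, Matrix.map_apply, tmul_smul, algebraMap_smul, T]
      rw [he]
      exact h1
    obtain ⟨Bk, hBk⟩ : ∃ Bk : Matrix (Fin l) q.support k, T.map (algebraMap A k) * Bk = 1 := by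
      obtain ⟨g', hg'⟩ := (Matrix.toLinearMapRight' (T.map (algebraMap A k))).exists_leftInverse_of_injective
        (LinearMap.ker_eq_bot.2 (Matrix.vecMul_injective_iff.2 hrows))
      refine ⟨LinearMap.toMatrixRight' g', Matrix.toLinearMapRight'.injective ?_⟩
      rw [Matrix.toLinearMapRight'_mul, Matrix.toLinearMapRight'_one]
      exact (congrArg (· ∘ₗ _) (Matrix.toLinearMapRight'.apply_symm_apply g')).trans hg'
    choose s hs using (Ideal.Quotient.mk_surjective (I := m))
    let B : Matrix (Fin l) q.support A := Bk.map s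
    have hTB : (T * B).map (algebraMap A k) = 1 := by
      rw [Matrix.map_mul, show B.map (algebraMap A k) = Bk from Matrix.ext fun i j => hs _, hBk]
    have hdet : (T * B).det ∉ m := fun hmem => by
      have h1 : algebraMap A k (T * B).det = 0 := Ideal.Quotient.eq_zero_iff_mem.2 hmem
      rw [RingHom.map_det, RingHom.mapMatrix_apply, hTB, Matrix.det_one] at h1
      exact one_ne_zero h1
    refine hdet (hJm ?_)
    show (T * B).det • v i = 0
    have h2 : ∑ j, (B * (T * B).adjugate) j i • (∑ i', T i' j • v i') = 0 :=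
      Finset.sum_eq_zero fun j _ => by rw [ham j, smul_zero]
    simp only [Finset.smul_sum, smul_smul] at h2
    rw [Finset.sum_comm] at h2
    simp only [← Finset.sum_smul] at h2
    have h3 : ∀ i', ∑ j, (B * (T * B).adjugate) j i * T i' j = ((T * B).det • (1 : Matrix q.support q.support A)) i' i := fun i' => by
      rw [← Matrix.mul_adjugate, Matrix.mul_assoc, Matrix.mul_apply]
      exact Finset.sum_congr rfl fun j _ => mul_comm _ _
    simp only [h3, Matrix.smul_apply, Matrix.one_apply, smul_eq_mul, mul_ite, mul_one, mul_zero, ite_smul, zero_smul,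
      Finset.sum_ite_eq', Finset.mem_univ, if_true] at h2
    exact h2
  exact Finset.sum_eq_zero fun i hi => by rw [show q i = 0 from hv0 ⟨i, hi⟩, TensorProduct.zero_tmul]

open TensorProduct in
/-- The same for a projective module. -/
theorem univInj_projective {A : Type u} [CommRing A] {P M : Type u} [AddCommGroup P] [Module A P] [Module.Projective A P]
    [AddCommGroup M] [Module A M] [Module.Flat A M]
    (φ : P →ₗ[A] M) (h : ∀ (m : Ideal A) [m.IsMaximal], Function.Injective (φ.lTensor (A ⧸ m)))
    (Q : Type u) [AddCommGroup Q] [Module A Q] : Function.Injective (φ.lTensor Q) := by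
  obtain ⟨s, hs⟩ := (Module.projective_def' (R := A) (P := P)).1 inferInstance
  let π : (P →₀ A) →ₗ[A] P := Finsupp.linearCombination A id
  let d : (P →₀ A) →ₗ[A] (P →₀ A) := LinearMap.id - s ∘ₗ π
  let Φ : (P →₀ A) →ₗ[A] M × (P →₀ A) := (φ ∘ₗ π).prod d
  haveI : Module.Flat A (M × (P →₀ A)) := by
    rw [Module.Flat.iff_lTensor_preserves_injective_linearMap]
    intro X Y _ _ _ _ f hf
    have hn : ∀ w, TensorProduct.prodLeft A A M (P →₀ A) Y (f.lTensor (M × (P →₀ A)) w) =
        Prod.map (f.lTensor M) (f.lTensor (P →₀ A)) (TensorProduct.prodLeft A A M (P →₀ A) X w) := fun w => by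
      induction w using TensorProduct.induction_on with
      | zero => simp only [map_zero]; exact Prod.ext (map_zero _).symm (map_zero _).symm
      | tmul a b => rfl
      | add a b ha hb => simp only [map_add, ha, hb]; exact Prod.ext (map_add _ _ _).symm (map_add _ _ _).symm
    intro a b hab
    refine (TensorProduct.prodLeft A A M (P →₀ A) X).injective (((Module.Flat.lTensor_preserves_injective_linearMap f hf).prodMap
      (Module.Flat.lTensor_preserves_injective_linearMap f hf)) ?_)
    rw [← hn, ← hn, hab]
  have hΦ : ∀ (m : Ideal A) [m.IsMaximal], Function.Injective (Φ.lTensor (A ⧸ m)) := fun m _ => by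
    refine (injective_iff_map_eq_zero _).2 fun z hz => ?_
    have h1 : (φ ∘ₗ π).lTensor (A ⧸ m) z = 0 := by
      rw [← LinearMap.fst_prod (φ ∘ₗ π) d, LinearMap.lTensor_comp_apply]
      exact (congrArg _ hz).trans (map_zero _)
    have h2 : d.lTensor (A ⧸ m) z = 0 := by
      rw [← LinearMap.snd_prod (φ ∘ₗ π) d, LinearMap.lTensor_comp_apply]
      exact (congrArg _ hz).trans (map_zero _)
    rw [LinearMap.lTensor_comp_apply] at h1
    have h3 : π.lTensor (A ⧸ m) z = 0 := h m (h1.trans (map_zero _).symm)
    rw [LinearMap.lTensor_sub, LinearMap.sub_apply, LinearMap.lTensor_id_apply, LinearMap.lTensor_comp_apply, h3, map_zero,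
      sub_zero] at h2
    exact h2
  refine (injective_iff_map_eq_zero _).2 fun z hz => ?_
  have hcomp : Φ ∘ₗ s = (LinearMap.inl A M (P →₀ A)) ∘ₗ φ := LinearMap.ext fun x => by
    have hx : π (s x) = x := LinearMap.congr_fun hs x
    show (φ (π (s x)), s x - s (π (s x))) = (φ x, 0)
    rw [hx, sub_self]
  have h4 : s.lTensor Q z = 0 := univInj_free Φ hΦ Q (by
    rw [map_zero, ← LinearMap.lTensor_comp_apply, hcomp, LinearMap.lTensor_comp_apply, hz, map_zero])
  rw [← LinearMap.lTensor_id_apply Q P z, ← hs, LinearMap.lTensor_comp_apply, h4, map_zero]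

open TensorProduct in
/-- Consequences of a pure spreadout. -/
theorem main {A L C : Type u} [CommRing A] [CommRing L] [CommRing C] [Algebra A L] [Algebra A C] [Algebra C L]
    [IsScalarTower A C L] {N N' : Type u} [AddCommGroup N] [Module L N] [Module C N] [Module A N]
    [IsScalarTower A L N] [IsScalarTower C L N] [IsScalarTower A C N]
    [AddCommGroup N'] [Module C N'] [Module A N'] [IsScalarTower A C N'] [Module.Projective A N']
    (hL : ∀ l : L, ∃ c d : C, IsUnit (algebraMap C L d) ∧ algebraMap C L d * l = algebraMap C L c)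
    (g : N' →ₗ[C] N) (hg : IsBaseChange L g) (hgU : FlatCA.UnivInj A (g.restrictScalars A)) :
    (∀ x : N, ∃ I : Ideal A, x ∈ I • (⊤ : Submodule A N) ∧ ∀ J : Ideal A, x ∈ J • (⊤ : Submodule A N) → I ≤ J) ∧
    ∀ (M : Type u) [AddCommGroup M] [Module A M] [Module.Flat A M] (u : N →ₗ[A] M),
      (∀ (m : Ideal A) [m.IsMaximal], Function.Injective (u.lTensor (A ⧸ m))) → FlatCA.UnivInj A u := by
  classical
  have hfrac : ∀ x : N, ∃ (d : C) (y : N'), IsUnit (algebraMap C L d) ∧ algebraMap C L d • x = g y := fun x => by
    induction x using hg.inductionOn with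
    | zero => exact ⟨1, 0, by rw [map_one]; exact isUnit_one, by rw [smul_zero, map_zero]⟩
    | tmul y => exact ⟨1, y, by rw [map_one]; exact isUnit_one, by rw [map_one, one_smul]⟩
    | smul l n hn =>
      obtain ⟨d, y, hd, hy⟩ := hn
      obtain ⟨c, e, he, hce⟩ := hL l
      refine ⟨e * d, c • y, by rw [map_mul]; exact he.mul hd, ?_⟩
      rw [map_mul, mul_smul, smul_comm _ l n, hy, smul_smul, hce, algebraMap_smul, map_smul]
    | add a b ha hb =>
      obtain ⟨d, y, hd, hy⟩ := ha
      obtain ⟨e, z, he, hz⟩ := hb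
      refine ⟨d * e, e • y + d • z, by rw [map_mul]; exact hd.mul he, ?_⟩
      rw [map_add, map_smul, map_smul, ← hy, ← hz, ← algebraMap_smul L e, ← algebraMap_smul L d (algebraMap C L e • b),
        smul_add, map_mul, smul_smul, smul_smul, mul_comm (algebraMap C L e)]
  -- division by units
  let μ : L → (N →ₗ[A] N) := fun l => (LinearMap.lsmul L N l).restrictScalars A
  constructor
  · intro x
    obtain ⟨d, y, hd, hy⟩ := hfrac x
    obtain ⟨s, hs⟩ := (Module.projective_def' (R := A) (P := N')).1 inferInstance
    have hx : x = μ ↑hd.unit⁻¹ (g y) := by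
      show x = (↑hd.unit⁻¹ : L) • g y
      rw [← hy, smul_smul, IsUnit.val_inv_mul, one_smul]
    refine ⟨Ideal.span (Set.range (s y)), ?_, fun J hJ => ?_⟩
    · have h1 : y ∈ Ideal.span (Set.range (s y)) • (⊤ : Submodule A N') := by
        have h0 : Finsupp.linearCombination A id (s y) ∈ Ideal.span (Set.range (s y)) • (⊤ : Submodule A N') := by
          rw [Finsupp.linearCombination_apply]
          exact Submodule.sum_mem _ fun i _ => Submodule.smul_mem_smul (Ideal.subset_span ⟨i, rfl⟩) Submodule.mem_top
        have e : Finsupp.linearCombination A id (s y) = y := LinearMap.congr_fun hs y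
        exact (congrArg (· ∈ Ideal.span (Set.range (s y)) • (⊤ : Submodule A N')) e).mp h0
      rw [hx]
      have h2 : (μ ↑hd.unit⁻¹ ∘ₗ g.restrictScalars A) y ∈ (Ideal.span (Set.range (s y)) • (⊤ : Submodule A N')).map
          (μ ↑hd.unit⁻¹ ∘ₗ g.restrictScalars A) := Submodule.mem_map_of_mem h1
      rw [Submodule.map_smul''] at h2
      exact Submodule.smul_mono le_rfl le_top h2
    · have h1 : g y ∈ J • (⊤ : Submodule A N) := by
        have h2 : μ (algebraMap C L d) x ∈ (J • (⊤ : Submodule A N)).map (μ (algebraMap C L d)) := Submodule.mem_map_of_mem hJ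
        rw [Submodule.map_smul''] at h2
        rw [← hy]
        exact Submodule.smul_mono le_rfl le_top h2
      have h3 : y ∈ J • (⊤ : Submodule A N') := by
        have h4 : ((1 : A ⧸ J) ⊗ₜ[A] g y) = 0 := by
          apply (TensorProduct.quotTensorEquivQuotSMul N J).injective
          rw [map_zero, show (1 : A ⧸ J) = Ideal.Quotient.mk J 1 from rfl, TensorProduct.quotTensorEquivQuotSMul_mk_tmul, one_smul]
          exact (Submodule.Quotient.mk_eq_zero _).2 h1
        have h5 : ((1 : A ⧸ J) ⊗ₜ[A] y) = 0 := hgU (A ⧸ J) (by rw [map_zero]; exact h4)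
        have h6 := congrArg (TensorProduct.quotTensorEquivQuotSMul N' J) h5
        rw [map_zero, show (1 : A ⧸ J) = Ideal.Quotient.mk J 1 from rfl, TensorProduct.quotTensorEquivQuotSMul_mk_tmul, one_smul] at h6
        exact (Submodule.Quotient.mk_eq_zero _).1 h6
      rw [Ideal.span_le]
      rintro _ ⟨i, rfl⟩
      have h7 : (Finsupp.lapply i ∘ₗ s) y ∈ (J • (⊤ : Submodule A N')).map (Finsupp.lapply i ∘ₗ s) := Submodule.mem_map_of_mem h3
      rw [Submodule.map_smul''] at h7
      exact (Submodule.smul_le.2 fun a ha b _ => by rw [smul_eq_mul]; exact Ideal.mul_mem_right _ _ ha) h7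
  · intro M _ _ _ u hu Q _ _
    refine (injective_iff_map_eq_zero _).2 fun z hz => ?_
    have hz' : ∃ (d : C) (z' : Q ⊗[A] N'), IsUnit (algebraMap C L d) ∧
        (μ (algebraMap C L d)).lTensor Q z = (g.restrictScalars A).lTensor Q z' := by
      clear hz
      induction z using TensorProduct.induction_on with
      | zero => exact ⟨1, 0, by rw [map_one]; exact isUnit_one, by rw [map_zero, map_zero]⟩
      | tmul q x =>
        obtain ⟨d, y, hd, hy⟩ := hfrac x
        exact ⟨d, q ⊗ₜ y, hd, by rw [LinearMap.lTensor_tmul, LinearMap.lTensor_tmul]; exact congrArg (q ⊗ₜ[A] ·) hy⟩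
      | add a b ha hb =>
        obtain ⟨d, y, hd, hy⟩ := ha
        obtain ⟨e, z, he, hz⟩ := hb
        refine ⟨d * e, ((LinearMap.lsmul C N' e).restrictScalars A).lTensor Q y +
          ((LinearMap.lsmul C N' d).restrictScalars A).lTensor Q z, by rw [map_mul]; exact hd.mul he, ?_⟩
        have hc : ∀ c : C, g.restrictScalars A ∘ₗ (LinearMap.lsmul C N' c).restrictScalars A =
            μ (algebraMap C L c) ∘ₗ g.restrictScalars A := fun c => LinearMap.ext fun w => by
          show g (c • w) = algebraMap C L c • g w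
          rw [map_smul, algebraMap_smul]
        have hm : ∀ l l' : L, μ l ∘ₗ μ l' = μ (l * l') := fun l l' => LinearMap.ext fun w => smul_smul l l' w
        rw [map_add, map_add, ← LinearMap.lTensor_comp_apply, ← LinearMap.lTensor_comp_apply, hc, hc,
          LinearMap.lTensor_comp_apply, LinearMap.lTensor_comp_apply, ← hy, ← hz, ← LinearMap.lTensor_comp_apply,
          ← LinearMap.lTensor_comp_apply, hm, hm, map_mul, mul_comm (algebraMap C L e)]
    obtain ⟨d, z', hd, hdz⟩ := hz'
    have hmu : ∀ (R : Type u) [AddCommGroup R] [Module A R] (l : Lˣ), Function.Injective ((μ (l : L)).lTensor R) := fun R _ _ l =>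
      Function.LeftInverse.injective (g := (μ ((l⁻¹ : Lˣ) : L)).lTensor R) fun w => by
        rw [← LinearMap.lTensor_comp_apply, show μ ((l⁻¹ : Lˣ) : L) ∘ₗ μ (l : L) = LinearMap.id from LinearMap.ext fun w =>
          (smul_smul _ _ w).trans (by rw [Units.inv_mul, one_smul]; rfl), LinearMap.lTensor_id_apply]
    have hz2 : z = (μ ↑hd.unit⁻¹).lTensor Q ((g.restrictScalars A).lTensor Q z') := by
      rw [← hdz, ← LinearMap.lTensor_comp_apply, show μ ↑hd.unit⁻¹ ∘ₗ μ (algebraMap C L d) = LinearMap.id from LinearMap.ext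
        fun w => (smul_smul _ _ w).trans (by rw [IsUnit.val_inv_mul, one_smul]; rfl), LinearMap.lTensor_id_apply]
    let θ : N' →ₗ[A] M := u ∘ₗ μ ↑hd.unit⁻¹ ∘ₗ g.restrictScalars A
    have hθ : Function.Injective (θ.lTensor Q) := univInj_projective θ (fun m _ => by
      rw [show θ.lTensor (A ⧸ m) = u.lTensor (A ⧸ m) ∘ₗ (μ ↑hd.unit⁻¹).lTensor (A ⧸ m) ∘ₗ (g.restrictScalars A).lTensor (A ⧸ m) by
        rw [← LinearMap.lTensor_comp, ← LinearMap.lTensor_comp]]
      exact (hu m).comp ((hmu (A ⧸ m) hd.unit⁻¹).comp (hgU (A ⧸ m)))) Q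
    have h0 : z' = 0 := hθ (by
      rw [map_zero, LinearMap.lTensor_comp_apply, LinearMap.lTensor_comp_apply, ← hz2, hz])
    rw [hz2, h0, map_zero, map_zero]


open TensorProduct in
/-- Let B be a finitely presented A-algebra, T ⊆ B a multiplicative subset and N a finitely presented
T⁻¹B-module which admits a pure spreadout (FlatCA.HasPureSpreadout). Then (1) every x ∈ N has a
content ideal, i.e. a smallest ideal I of A with x ∈ IN; and (2) every A-linear map u from N to a
flat A-module M such that u ⊗ A/𝔪 is injective for every maximal ideal 𝔪 of A is universally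
injective over A. -/
theorem result {A B : Type u} [CommRing A] [CommRing B] [Algebra A B] [Algebra.FinitePresentation A B]
    (T : Submonoid B) (N : Type u) [AddCommGroup N] [Module (Localization T) N] [Module A N] [IsScalarTower A (Localization T) N]
    [Module.FinitePresentation (Localization T) N] (h : FlatCA.HasPureSpreadout A B T N) :
    (∀ x : N, ∃ I : Ideal A, x ∈ I • (⊤ : Submodule A N) ∧ ∀ J : Ideal A, x ∈ J • (⊤ : Submodule A N) → I ≤ J) ∧
    ∀ (M : Type u) [AddCommGroup M] [Module A M] [Module.Flat A M] (u : N →ₗ[A] M),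
      (∀ (m : Ideal A) [m.IsMaximal], Function.Injective (u.lTensor (A ⧸ m))) → FlatCA.UnivInj A u := by
  obtain ⟨C, _, _, _, _, _, _, _, _, _, _, N', _, _, _, _, g, -, -, hg, hP, hgU⟩ := h
  haveI := hP
  refine main (C := C) (L := Localization T) (fun l => ?_) g hg hgU
  obtain ⟨⟨b, t⟩, ht⟩ := IsLocalization.surj T l
  refine ⟨algebraMap B C b, algebraMap B C t, ?_, ?_⟩
  · rw [← IsScalarTower.algebraMap_apply]; exact IsLocalization.map_units _ t
  · rw [← IsScalarTower.algebraMap_apply, ← IsScalarTower.algebraMap_apply, mul_comm]; exact ht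


end Groth.Agent.S1293
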