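import Groth.Statements.S12931
import Mathlib.Algebra.Algebra.Pi
import Mathlib.Algebra.BigOperators.Pi

set_option autoImplicit false
universe u v w
open HopfRep

namespace Groth.Agent.S12931

/-- Let `R` be a commutative ring, `Γ` a finite set and `T` a commutative `R`-algebra which is
connected: nonzero, with no idempotents other than `0` and `1`. Then `γ ↦ (evaluation at γ : (Γ → R)
→ R → T)` is a bijection from `Γ` onto the `R`-algebra maps `(Γ → R) → T`: every such map sends
exactly one of the indicator functions to `1` and the others to `0`. (Only the bijection of sets is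
stated; when `Γ` is a group, the compatibility with the group structures on both sides is not.) -/
theorem result
    (R : Type u) [CommRing R] (Γ : Type v) [Finite Γ]
    (T : Type w) [CommRing T] [Algebra R T] [Nontrivial T]
    (hT : ∀ e : T, IsIdempotentElem e → e = 0 ∨ e = 1) :
    Function.Bijective (fun γ : Γ => (Algebra.ofId R T).comp (Pi.evalAlgHom R (fun _ : Γ => R) γ)) := by
  classical
  haveI : Fintype Γ := Fintype.ofFinite Γ
  refine ⟨fun a b hab => ?_, fun f => ?_⟩
  · by_contra hne
    have h := DFunLike.congr_fun hab (Pi.single a 1)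
    simp [Pi.single_eq_of_ne (fun h : b = a => hne h.symm)] at h
  · have hi : ∀ γ, f (Pi.single γ 1) = 0 ∨ f (Pi.single γ 1) = 1 := fun γ => hT _ ((show
      IsIdempotentElem (Pi.single γ (1 : R) : Γ → R) from by
        rw [IsIdempotentElem, ← Pi.single_mul, mul_one]).map f)
    have hsum : ∑ γ, f (Pi.single γ 1) = 1 := by
      rw [← map_sum, Finset.univ_sum_single (fun _ : Γ => (1 : R))]
      exact map_one f
    obtain ⟨γ, hγ⟩ : ∃ γ, f (Pi.single γ 1) = 1 := by
      by_contra! hno
      exact one_ne_zero (hsum.symm.trans (Finset.sum_eq_zero fun γ _ => (hi γ).resolve_right (hno γ)))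
    refine ⟨γ, AlgHom.ext fun x => ?_⟩
    have hx : f x = f (x * Pi.single γ 1) := by rw [map_mul, hγ, mul_one]
    have hmul : x * Pi.single γ 1 = x γ • (Pi.single γ (1 : R) : Γ → R) := by
      ext i
      by_cases h : i = γ
      · subst h; simp
      · simp [Pi.single_eq_of_ne h]
    rw [hx, hmul, map_smul, hγ, Algebra.smul_def, mul_one]
    rfl

end Groth.Agent.S12931
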