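import Groth.Statements.S12932
import Mathlib

set_option autoImplicit false
universe u v
open scoped BigOperators
open InvTh

namespace Groth.Agent.S12932

section aux
open scoped Pointwise

theorem sum_stabilizer_ne_zero {B : Type*} [CommRing B] {Γ : Type*} [Group Γ] [Fintype Γ]
    [MulSemiringAction Γ B] (P : Ideal B) [P.IsPrime] [DecidablePred fun γ : Γ => ∀ y : B, y ∈ P ↔ γ • y ∈ P]
    (hP : ((Nat.card (P.inertia Γ) : ℕ) : B ⧸ P) ≠ 0) :
    ∃ b : B, ∑ γ ∈ Finset.univ.filter (fun γ : Γ => ∀ y : B, y ∈ P ↔ γ • y ∈ P), Ideal.Quotient.mk P (γ • b) ≠ 0 := by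
  classical
  set D := Finset.univ.filter (fun γ : Γ => ∀ y : B, y ∈ P ↔ γ • y ∈ P)
  let χ : Γ → (B →* B ⧸ P) := fun γ =>
    ((Ideal.Quotient.mk P).comp (MulSemiringAction.toRingHom Γ B γ)).toMonoidHom
  by_contra hcon
  push Not at hcon
  have hzero : ∑ f ∈ D.image χ, ((D.filter fun γ => χ γ = f).card : B ⧸ P) • (f : B → B ⧸ P) = 0 := by
    funext b
    rw [Finset.sum_apply, Pi.zero_apply, ← hcon b,
      ← Finset.sum_fiberwise_of_maps_to (t := D.image χ) (g := χ) (fun γ hγ => Finset.mem_image_of_mem _ hγ)]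
    refine Finset.sum_congr rfl fun f hf => ?_
    rw [Pi.smul_apply, smul_eq_mul]
    rw [Finset.sum_congr rfl (g := fun _ => f b) fun γ hγ => by rw [← (Finset.mem_filter.1 hγ).2]; rfl,
      Finset.sum_const, nsmul_eq_mul]
  have h1 : χ 1 ∈ D.image χ := Finset.mem_image_of_mem _ (Finset.mem_filter.2 ⟨Finset.mem_univ _, fun y => by rw [one_smul]⟩)
  have hcoef := linearIndependent_iff'.1 (linearIndependent_monoidHom B (B ⧸ P)) _ _ hzero _ h1
  apply hP
  rw [← hcoef, Nat.card_eq_fintype_card, ← Fintype.card_coe]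
  congr 1
  refine Fintype.card_congr (Equiv.subtypeEquivRight fun γ => ?_)
  simp only [Finset.mem_filter, D]
  constructor
  · intro hγ
    refine ⟨⟨Finset.mem_univ _, fun y => ?_⟩, MonoidHom.ext fun b => ?_⟩
    · have := hγ y
      constructor
      · intro hy; simpa using P.add_mem this hy
      · intro hy; simpa using P.sub_mem hy this
    · show Ideal.Quotient.mk P (γ • b) = Ideal.Quotient.mk P ((1 : Γ) • b)
      rw [one_smul, Ideal.Quotient.eq]
      exact hγ b
  · rintro ⟨-, hγ⟩ b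
    have := DFunLike.congr_fun hγ b
    change Ideal.Quotient.mk P (γ • b) = Ideal.Quotient.mk P ((1 : Γ) • b) at this
    rwa [one_smul, Ideal.Quotient.eq] at this

end aux

/-- Let `B` be a commutative ring with an action of a finite group `Γ` by ring automorphisms, and call a
prime ideal `P` of `B` tame when the order of its inertia group `{γ | γ • x - x ∈ P for all x}` is
not divisible by the characteristic of `B/P` (its ramification group is trivial). Then every prime
of `B` is tame if and only if the trace `b ↦ Σ_γ γ • b`, which takes values in the invariant ring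
`B^Γ` and is `B^Γ`-linear, is onto `B^Γ` — equivalently, some element of `B` has trace `1`. -/
theorem result
    (B : Type u) [CommRing B] (Γ : Type v) [Group Γ] [Fintype Γ] [MulSemiringAction Γ B] :
    (∃ b : B, ∑ γ : Γ, γ • b = 1) ↔
      ∀ P : Ideal B, P.IsPrime → ((Nat.card (P.inertia Γ) : ℕ) : B ⧸ P) ≠ 0 := by
  classical
  constructor
  · rintro ⟨b, hb⟩ P hP h0
    have hconst : ∀ i : P.inertia Γ, ∀ γ : Γ,
        Ideal.Quotient.mk P (((i : Γ) * γ) • b) = Ideal.Quotient.mk P (γ • b) := fun i γ => by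
      rw [mul_smul, Ideal.Quotient.eq]
      exact i.2 (γ • b)
    have hsum : Ideal.Quotient.mk P (∑ γ : Γ, γ • b) = 0 := by
      let R : Setoid Γ := QuotientGroup.rightRel (P.inertia Γ)
      rw [map_sum, ← Finset.sum_fiberwise_of_maps_to (t := (Finset.univ : Finset Γ).image (Quotient.mk R))
        (g := Quotient.mk R) (fun γ hγ => Finset.mem_image_of_mem _ hγ)]
      refine Finset.sum_eq_zero fun q hq => ?_
      obtain ⟨γ₀, -, rfl⟩ := Finset.mem_image.1 hq
      rw [Finset.sum_bij' (t := (Finset.univ : Finset (P.inertia Γ)))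
        (g := fun _ => Ideal.Quotient.mk P (γ₀ • b))
        (fun γ hγ => (⟨γ * γ₀⁻¹, QuotientGroup.rightRel_apply.1 (Quotient.exact (Finset.mem_filter.1 hγ).2.symm)⟩ : P.inertia Γ))
        (fun i _ => (i : Γ) * γ₀) (fun γ _ => Finset.mem_univ _)
        (fun i _ => Finset.mem_filter.2 ⟨Finset.mem_univ _, Quotient.sound (QuotientGroup.rightRel_apply.2 (by
          rw [mul_inv_rev, ← mul_assoc, mul_inv_cancel, one_mul]
          exact (P.inertia Γ).inv_mem i.2))⟩)
        (fun γ _ => by simp) (fun i _ => by apply Subtype.ext; simp)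
        (fun γ hγ => by
          have h := hconst ⟨γ * γ₀⁻¹, QuotientGroup.rightRel_apply.1 (Quotient.exact (Finset.mem_filter.1 hγ).2.symm)⟩ γ₀
          simpa using h), Finset.sum_const, Finset.card_univ, nsmul_eq_mul, ← Nat.card_eq_fintype_card, h0, zero_mul]
    rw [hb, map_one] at hsum
    exact one_ne_zero hsum
  · intro htame
    let A := FixedPoints.subring B Γ
    have hinv : Algebra.IsInvariant A B Γ := ⟨fun x hx => ⟨⟨x, hx⟩, rfl⟩⟩
    have hcomm : SMulCommClass Γ A B := ⟨fun g a x => by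
      show g • ((a : B) * x) = (a : B) * g • x
      rw [smul_mul', a.2 g]⟩
    have htr : ∀ b : B, ∀ g : Γ, g • (∑ γ : Γ, γ • b) = ∑ γ : Γ, γ • b := fun b g => by
      rw [Finset.smul_sum]
      simp_rw [smul_smul]
      exact Fintype.sum_equiv (Equiv.mulLeft g) _ _ fun γ => rfl
    let T : Ideal A :=
      { carrier := {a | ∃ b, ∑ γ : Γ, γ • b = (a : B)}
        zero_mem' := ⟨0, by simp⟩
        add_mem' := by
          rintro a a' ⟨b, hb⟩ ⟨b', hb'⟩
          exact ⟨b + b', by simp only [smul_add, Finset.sum_add_distrib, hb, hb']; rfl⟩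
        smul_mem' := by
          rintro c a ⟨b, hb⟩
          refine ⟨(c : B) * b, ?_⟩
          show _ = (c : B) * (a : B)
          rw [← hb, Finset.mul_sum]
          exact Finset.sum_congr rfl fun γ _ => by rw [smul_mul', c.2 γ] }
    suffices hT : T = ⊤ by
      obtain ⟨b, hb⟩ : (1 : A) ∈ T := hT ▸ Submodule.mem_top
      exact ⟨b, hb⟩
    by_contra hT
    obtain ⟨m, hm, hTm⟩ := Ideal.exists_le_maximal T hT
    have hint : Algebra.IsIntegral A B := Algebra.IsInvariant.isIntegral A B Γ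
    obtain ⟨P, hPm, hP⟩ := Ideal.exists_ideal_over_maximal_of_isIntegral (S := B) m (by
      intro a ha
      have : a = 0 := Subtype.ext ha
      rw [this]; exact m.zero_mem)
    obtain ⟨b₀, hb₀⟩ := sum_stabilizer_ne_zero P (htame P hPm.isPrime)
    let D := Finset.univ.filter (fun γ : Γ => ∀ y : B, y ∈ P ↔ γ • y ∈ P)
    have hy : ∀ γ ∈ Finset.univ.filter (fun γ : Γ => ¬ ∀ y : B, y ∈ P ↔ γ • y ∈ P), ∃ y : B, y - 1 ∈ P ∧ γ • y ∈ P := by
      intro γ hγ
      let Q : Ideal B := P.comap (MulSemiringAction.toRingHom Γ B γ)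
      have hQ : ∀ y, y ∈ Q ↔ γ • y ∈ P := fun y => Iff.rfl
      have hQm : Q.IsMaximal := Ideal.comap_isMaximal_of_surjective _ (fun b => ⟨γ⁻¹ • b, smul_inv_smul γ b⟩)
      have hne : P ≠ Q := fun he => (Finset.mem_filter.1 hγ).2 fun y => by rw [← hQ, ← he]
      have : (1 : B) ∈ P ⊔ Q := by
        rw [show P ⊔ Q = ⊤ from Ideal.IsMaximal.coprime_of_ne hPm hQm hne]
        trivial
      obtain ⟨a, ha, b, hb, hab⟩ := Submodule.mem_sup.1 this
      exact ⟨b, by rw [← hab, sub_add_cancel_right]; exact neg_mem ha, (hQ b).1 hb⟩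
    choose! y hy1 hy2 using hy
    let e : B := ∏ γ ∈ Finset.univ.filter (fun γ : Γ => ¬ ∀ y : B, y ∈ P ↔ γ • y ∈ P), y γ
    have he : Ideal.Quotient.mk P e = 1 := by
      rw [map_prod]
      refine Finset.prod_eq_one fun γ hγ => ?_
      rw [← map_one (Ideal.Quotient.mk P), Ideal.Quotient.eq]
      exact hy1 γ hγ
    have hmem : Ideal.Quotient.mk P (∑ γ : Γ, γ • (b₀ * e)) = 0 := by
      rw [Ideal.Quotient.eq_zero_iff_mem]
      have hTb : (⟨_, htr (b₀ * e)⟩ : A) ∈ m := hTm ⟨b₀ * e, rfl⟩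
      rw [← hP] at hTb
      exact hTb
    apply hb₀
    rw [map_sum, ← Finset.sum_filter_add_sum_filter_not Finset.univ (fun γ : Γ => ∀ y : B, y ∈ P ↔ γ • y ∈ P)] at hmem
    rw [Finset.sum_eq_zero (s := Finset.univ.filter fun γ : Γ => ¬ ∀ y : B, y ∈ P ↔ γ • y ∈ P) (fun γ hγ => by
      rw [Ideal.Quotient.eq_zero_iff_mem, smul_mul']
      refine P.mul_mem_left _ ?_
      show γ • ∏ g ∈ _, y g ∈ P
      rw [Finset.smul_prod', Ideal.IsPrime.prod_mem_iff]
      exact ⟨γ, hγ, hy2 γ hγ⟩), add_zero] at hmem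
    rw [← hmem]
    refine Finset.sum_congr rfl fun γ hγ => ?_
    rw [smul_mul', map_mul, show Ideal.Quotient.mk P (γ • e) = 1 by
      rw [← map_one (Ideal.Quotient.mk P), Ideal.Quotient.eq]
      have h := ((Finset.mem_filter.1 hγ).2 (e - 1)).1 (by rw [← Ideal.Quotient.eq, he, map_one])
      rwa [smul_sub, smul_one] at h, mul_one]

end Groth.Agent.S12932
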