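import Groth.Statements.S12934
import Groth.Agent.Lib.InertiaGrp.Tame
-- import your own Groth.Agent.* helpers here

set_option autoImplicit false
universe u v
open InvTh

namespace Groth.Agent.S12934

/-- Let `B` be a local commutative ring with maximal ideal `m` and residue field `k`, and `Γ` a finite
group acting faithfully on `B` by ring automorphisms, such that every element of `Γ` acts trivially
modulo `m` (the whole group is inertia) and maps each principal ideal of `B` into itself (every
ideal is stable). Let `S ⊆ Γ` be the set of `γ` with `γ b ∈ b + b m` for all `b`. Then: if `k` has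
characteristic `0`, `S = {1}`; if `k` has characteristic `p > 0`, `S` is (the underlying set of) a
Sylow `p`-subgroup; every commutator of `Γ` lies in `S`, so `Γ/S` is abelian; and whenever the class
of `γ` in `Γ/S` has order `n` (`γ^n ∈ S`, no smaller positive power in `S`), `k` contains a
primitive `n`-th root of unity. (The published statement also bounds the number of generators of
`Γ/S` by the number of generators of the monoid of principal ideals; that clause is not included.) -/
theorem result
    (B : Type u) [CommRing B] [IsLocalRing B]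
    (Γ : Type v) [Group Γ] [Finite Γ] [MulSemiringAction Γ B] [FaithfulSMul Γ B]
    (hin : ∀ (γ : Γ) (b : B), γ • b - b ∈ IsLocalRing.maximalIdeal B)
    (hst : ∀ (γ : Γ) (b : B), ∃ u : B, γ • b = b * u)
    (S : Set Γ)
    (hS : ∀ γ : Γ, γ ∈ S ↔ ∀ b : B, ∃ x ∈ IsLocalRing.maximalIdeal B, γ • b = b + b * x) :
    (ringChar (IsLocalRing.ResidueField B) = 0 → S = {1}) ∧
      (∀ (p : ℕ) [Fact p.Prime], ringChar (IsLocalRing.ResidueField B) = p →
        ∃ Q : Sylow p Γ, (Q : Set Γ) = S) ∧
      (∀ γ δ : Γ, γ * δ * γ⁻¹ * δ⁻¹ ∈ S) ∧
      (∀ (γ : Γ) (n : ℕ), 0 < n → γ ^ n ∈ S → (∀ i : ℕ, 0 < i → i < n → γ ^ i ∉ S) →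
        ∃ ζ : IsLocalRing.ResidueField B, IsPrimitiveRoot ζ n) := by
  exact GrothLib.InertiaGrp.structure_thm B Γ hin hst S hS

end Groth.Agent.S12934
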