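import Groth.Statements.S12936
import Mathlib

set_option autoImplicit false
universe u v
open InvTh

namespace Groth.Agent.S12936

/-- Let `B` be a commutative ring with an action of a finite group `Γ` by ring automorphisms and `P` a
maximal ideal of `B`, with decomposition group `D_P = {γ | γP = P}` and decomposition ring `D =
B^{D_P}`. Then `D = B^Γ + (P ∩ D)`: every element of `B` fixed by `D_P` is congruent modulo `P` to a
`Γ`-invariant element. Hence the residue field of `D` at `P ∩ D` is that of `B^Γ` at `P ∩ B^Γ`; for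
an arbitrary prime `P` the same equality of residue fields follows by localising at `P ∩ B^Γ`. (The
published statement prints this residue field as `k(P)`; the proof establishes the equality with the
residue field of `B^Γ` stated here.) -/
theorem result
    (B : Type u) [CommRing B] (Γ : Type v) [Group Γ] [Finite Γ] [MulSemiringAction Γ B]
    (P : Ideal B) [P.IsMaximal] (x : B)
    (hx : ∀ γ : Γ, (∀ y : B, y ∈ P ↔ γ • y ∈ P) → γ • x = x) :
    ∃ c : B, (∀ γ : Γ, γ • c = c) ∧ x - c ∈ P := by
  classical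
  cases nonempty_fintype Γ
  let T : Finset Γ := Finset.univ.filter fun γ => ¬ ∀ y : B, y ∈ P ↔ γ • y ∈ P
  have hPγ : ∀ γ ∈ T, ∃ y : B, y - 1 ∈ P ∧ γ • y ∈ P := by
    intro γ hγ
    let Q : Ideal B := P.comap (MulSemiringAction.toRingHom Γ B γ)
    have hQ : ∀ y, y ∈ Q ↔ γ • y ∈ P := fun y => Iff.rfl
    have hQm : Q.IsMaximal := Ideal.comap_isMaximal_of_surjective _ (fun b => ⟨γ⁻¹ • b, smul_inv_smul γ b⟩)
    have hne : P ≠ Q := fun he => (Finset.mem_filter.1 hγ).2 fun y => by rw [← hQ, ← he]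
    have : (1 : B) ∈ P ⊔ Q := by
      rw [show P ⊔ Q = ⊤ from Ideal.IsMaximal.coprime_of_ne ‹_› hQm hne]
      trivial
    obtain ⟨a, ha, b, hb, hab⟩ := Submodule.mem_sup.1 this
    exact ⟨b, by rw [← hab, sub_add_cancel_right]; exact neg_mem ha, (hQ b).1 hb⟩
  choose! y hy1 hy2 using hPγ
  let e : B := ∏ γ ∈ T, y γ
  let D : Subgroup Γ :=
    { carrier := {γ | ∀ y : B, y ∈ P ↔ γ • y ∈ P}
      one_mem' := fun y => by rw [one_smul]
      mul_mem' := fun {a b} ha hb y => by rw [mul_smul, ← ha, ← hb]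
      inv_mem' := fun {a} ha y => by conv_rhs => rw [ha (a⁻¹ • y), smul_inv_smul] }
  let E : B := ∏ δ : D, (δ : Γ) • e
  have he1 : e - 1 ∈ P := by
    rw [← Ideal.Quotient.eq, map_prod, map_one]
    refine Finset.prod_eq_one fun γ hγ => ?_
    rw [← map_one (Ideal.Quotient.mk P), Ideal.Quotient.eq]
    exact hy1 γ hγ
  have hE1 : E - 1 ∈ P := by
    rw [← Ideal.Quotient.eq, map_prod, map_one]
    refine Finset.prod_eq_one fun δ _ => ?_
    rw [← map_one (Ideal.Quotient.mk P), Ideal.Quotient.eq]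
    have h := (δ.2 (e - 1)).1 he1
    rwa [smul_sub, smul_one] at h
  have hE2 : ∀ γ ∈ T, γ • E ∈ P := by
    intro γ hγ
    have : γ • e ∈ P := by
      show γ • ∏ g ∈ T, y g ∈ P
      rw [Finset.smul_prod', Ideal.IsPrime.prod_mem_iff]
      exact ⟨γ, hγ, hy2 γ hγ⟩
    show γ • ∏ δ : D, (δ : Γ) • e ∈ P
    rw [Finset.smul_prod', Ideal.IsPrime.prod_mem_iff]
    exact ⟨1, Finset.mem_univ _, by rw [OneMemClass.coe_one, one_smul]; exact this⟩
  have hinv : ∀ δ ∈ D, δ • (x * E) = x * E := by
    intro δ hδ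
    rw [smul_mul', hx δ hδ]
    congr 1
    show δ • ∏ d : D, (d : Γ) • e = _
    rw [Finset.smul_prod']
    simp_rw [smul_smul]
    exact Fintype.prod_equiv (Equiv.mulLeft (⟨δ, hδ⟩ : D)) _ _ fun d => rfl
  let f : Γ ⧸ D → B := Quotient.lift (fun γ => γ • (x * E)) fun a b hab => by
    have h' : a⁻¹ * b ∈ D := QuotientGroup.leftRel_apply.1 hab
    show a • (x * E) = b • (x * E)
    conv_lhs => rw [← hinv _ h']
    rw [smul_smul, mul_inv_cancel_left]
  refine ⟨∑ q : Γ ⧸ D, f q, fun γ => ?_, ?_⟩
  · rw [Finset.smul_sum]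
    refine Fintype.sum_equiv (MulAction.toPerm γ) _ _ fun q => ?_
    induction q using QuotientGroup.induction_on with
    | _ a =>
      show γ • a • (x * E) = (γ * a) • (x * E)
      rw [mul_smul]
  · rw [← Ideal.Quotient.eq, map_sum, Finset.sum_eq_single ((1 : Γ) : Γ ⧸ D)]
    · show _ = Ideal.Quotient.mk P ((1 : Γ) • (x * E))
      rw [one_smul, map_mul, show Ideal.Quotient.mk P E = 1 by rw [← map_one (Ideal.Quotient.mk P), Ideal.Quotient.eq]; exact hE1, mul_one]
    · intro q _ hq
      induction q using QuotientGroup.induction_on with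
      | _ a =>
        rw [Ideal.Quotient.eq_zero_iff_mem]
        show a • (x * E) ∈ P
        have haT : a ∈ T := Finset.mem_filter.2 ⟨Finset.mem_univ _, fun h => hq (by
          rw [QuotientGroup.eq]
          simpa using D.inv_mem (show a ∈ D from h))⟩
        rw [smul_mul']
        exact P.mul_mem_left _ (hE2 a haT)
    · simp

end Groth.Agent.S12936
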