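import Groth.Statements.S12937
import Mathlib.Algebra.Ring.Action.Invariant
import Mathlib.Algebra.Ring.Subring.Basic
import Mathlib.FieldTheory.Minpoly.Field
import Mathlib.FieldTheory.Separable
import Mathlib.LinearAlgebra.LinearIndependent.Lemmas
import Mathlib.GroupTheory.Coset.Card
import Mathlib.RingTheory.Ideal.Maps
import Mathlib.Algebra.Polynomial.GroupRingAction
import Mathlib.Tactic.Ring
import Mathlib.Tactic.LinearCombination
-- import your own Groth.Agent.* helpers here

set_option autoImplicit false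
universe u v
open InvTh

namespace Groth.Agent.S12937

/-- Let `B` be a commutative ring with an action of a finite group `Γ` by ring automorphisms, `P` a
maximal ideal of `B`, `T = {γ | γ x - x ∈ P for all x}` its inertia group, `B^T` the inertia ring
and `B^Γ` the ring of invariants, so that `k(P ∩ B^Γ) ⊆ k(P ∩ B^T) ⊆ k(P) = B/P`. Then `k(P ∩ B^T)`
is the largest separable extension of `k(P ∩ B^Γ)` inside `k(P)`: an element `x` of `B` is congruent
modulo `P` to a `T`-invariant element if and only if `x mod P` is a root of some polynomial with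
`Γ`-invariant coefficients whose reduction modulo `P` is separable. (The published statement is for
every prime ideal `P`, as an equality of residue fields; this row takes `P` maximal, the case to
which the published proof reduces by localising at `P ∩ B^Γ`.) -/
theorem result
    (B : Type u) [CommRing B] (Γ : Type v) [Group Γ] [Finite Γ] [MulSemiringAction Γ B]
    (P : Ideal B) [P.IsMaximal] (x : B) :
    (∃ y : B, (∀ γ : Γ, γ ∈ P.inertia Γ → γ • y = y) ∧ x - y ∈ P) ↔
      ∃ g : Polynomial B, (∀ (i : ℕ) (γ : Γ), γ • g.coeff i = g.coeff i) ∧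
        (g.map (Ideal.Quotient.mk P)).Separable ∧ Polynomial.aeval x g ∈ P := by
  classical
  letI : Fintype Γ := Fintype.ofFinite Γ
  letI : Field (B ⧸ P) := Ideal.Quotient.field P
  set π := Ideal.Quotient.mk P with hπ
  set T : Subgroup Γ := P.inertia Γ with hT
  have hTmem : ∀ γ, γ ∈ T ↔ ∀ b : B, γ • b - b ∈ P := fun γ => Iff.rfl
  have hTπ : ∀ γ ∈ T, ∀ b : B, π (γ • b) = π b := fun γ hγ b =>
    Ideal.Quotient.eq.2 ((hTmem γ).1 hγ b)
  let R : Subring B :=
    { carrier := {b | ∀ γ ∈ T, γ • b = b}
      zero_mem' := fun γ _ => smul_zero γ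
      one_mem' := fun γ _ => smul_one γ
      add_mem' := fun ha hb γ hγ => by rw [smul_add, ha γ hγ, hb γ hγ]
      mul_mem' := fun ha hb γ hγ => by rw [smul_mul', ha γ hγ, hb γ hγ]
      neg_mem' := fun ha γ hγ => by rw [smul_neg, ha γ hγ] }
  let nT : B → B := fun b => ∏ t : T, (t : Γ) • b
  have hnT : ∀ b, nT b ∈ R := by
    intro b γ hγ
    simp only [nT, Finset.smul_prod', smul_smul]
    exact Fintype.prod_equiv (Equiv.mulLeft (⟨γ, hγ⟩ : T)) _ _ (fun t => rfl)
  have hnTπ : ∀ b, π (nT b) = π b ^ Fintype.card T := by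
    intro b
    simp [nT, map_prod, hTπ _ (Subtype.prop _)]
  constructor
  · -- inertia invariant implies separable
    rintro ⟨y, hy, hxy⟩
    let D : Finset Γ := Finset.univ.filter fun γ => ∀ b ∈ P, γ • b ∈ P
    have hD : ∀ γ, γ ∈ D ↔ ∀ b ∈ P, γ • b ∈ P := fun γ => by simp [D]
    have hD' : ∀ γ ∈ D, P.comap (MulSemiringAction.toRingHom Γ B γ) = P := by
      intro γ hγ
      refine (Ideal.IsMaximal.eq_of_le ‹P.IsMaximal› ?_ ?_).symm
      · exact Ideal.comap_ne_top _ (Ideal.IsMaximal.ne_top ‹_›)
      · exact fun b hb => (hD γ).1 hγ b hb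
    have hDiff : ∀ γ ∈ D, ∀ b, γ • b ∈ P → b ∈ P := fun γ hγ b hb => by
      rw [← hD' γ hγ]; exact hb
    have hDmul : ∀ γ ∈ D, ∀ δ ∈ D, γ * δ ∈ D := fun γ hγ δ hδ => (hD _).2 fun b hb => by
      rw [mul_smul]; exact (hD γ).1 hγ _ ((hD δ).1 hδ b hb)
    have hTD : ∀ γ ∈ T, γ ∈ D := fun γ hγ => (hD γ).2 fun b hb => by
      have h := add_mem ((hTmem γ).1 hγ b) hb
      simpa using h
    have hnormal : ∀ γ ∈ D, ∀ r ∈ R, γ • r ∈ R := by
      intro γ hγ r hr t ht
      have hc : γ⁻¹ * t * γ ∈ T := (hTmem _).2 fun b => hDiff γ hγ _ (by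
        simpa [smul_sub, smul_smul, mul_assoc] using (hTmem t).1 ht (γ • b))
      have := hr _ hc
      rw [mul_assoc, mul_smul, mul_smul, inv_smul_eq_iff] at this
      exact this
    let χ : Γ → (R →* (B ⧸ P)) := fun γ =>
      (π.comp ((MulSemiringAction.toRingHom Γ B γ).comp R.subtype)).toMonoidHom
    have hχ : ∀ γ (r : R), χ γ r = π (γ • (r : B)) := fun γ r => rfl
    -- characters separate cosets of T in D
    have hsep : ∀ σ ∈ D, ∀ τ ∈ D, χ σ = χ τ → σ⁻¹ * τ ∈ T := by
      intro σ hσ τ hτ h
      refine (hTmem _).2 fun b => hDiff σ hσ _ ?_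
      have hστ : ∀ b : B, π (σ • b) = π (τ • b) := by
        intro b
        let M : Polynomial B := ∏ t : T, (Polynomial.X - Polynomial.C ((t : Γ) • b))
        have hM : ∀ i, M.coeff i ∈ R := by
          intro i γ hγ
          have hγM : γ • M = M := by
            simp only [M, Finset.smul_prod', smul_sub, Polynomial.smul_X, Polynomial.smul_C,
              smul_smul]
            exact Fintype.prod_equiv (Equiv.mulLeft (⟨γ, hγ⟩ : T)) _ _ (fun t => rfl)
          conv_rhs => rw [← hγM]
          rw [Polynomial.coeff_smul]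
        have key : ∀ ρ ∈ D, M.map (π.comp (MulSemiringAction.toRingHom Γ B ρ)) =
            (Polynomial.X - Polynomial.C (π (ρ • b))) ^ Fintype.card T := by
          intro ρ hρ
          simp only [M, Polynomial.map_prod, Polynomial.map_sub, Polynomial.map_X, Polynomial.map_C,
            RingHom.comp_apply, MulSemiringAction.toRingHom_apply]
          rw [← Finset.card_univ, ← Finset.prod_const]
          refine Finset.prod_congr rfl fun t _ => ?_
          congr 2
          refine Ideal.Quotient.eq.2 ?_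
          rw [← smul_sub]
          exact (hD ρ).1 hρ _ ((hTmem _).1 t.2 b)
        have heq : M.map (π.comp (MulSemiringAction.toRingHom Γ B σ)) =
            M.map (π.comp (MulSemiringAction.toRingHom Γ B τ)) := by
          ext i
          simp only [Polynomial.coeff_map, RingHom.comp_apply, MulSemiringAction.toRingHom_apply]
          exact DFunLike.congr_fun h ⟨M.coeff i, hM i⟩
        rw [key σ hσ, key τ hτ] at heq
        have h2 := congrArg (Polynomial.eval (π (σ • b))) heq
        simp only [Polynomial.eval_pow, Polynomial.eval_sub, Polynomial.eval_X, Polynomial.eval_C,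
          sub_self, zero_pow Fintype.card_ne_zero] at h2
        exact sub_eq_zero.1 (eq_zero_of_pow_eq_zero h2.symm)
      rw [smul_sub, smul_smul, mul_inv_cancel_left]
      exact Ideal.Quotient.eq.1 (hστ b).symm
    let Φ : Finset (R →* (B ⧸ P)) := D.image χ
    have h1D : (1 : Γ) ∈ D := hTD 1 T.one_mem
    obtain ⟨a, ha⟩ : ∃ a : R, (∑ φ ∈ Φ, φ a) ≠ 0 := by
      by_contra hne
      push Not at hne
      have := linearIndependent_iff'.1 (linearIndependent_monoidHom R (B ⧸ P)) Φ (fun _ => 1)
        (funext fun r => by simpa using hne r) (χ 1) (Finset.mem_image_of_mem _ h1D)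
      exact one_ne_zero this
    -- a T-invariant idempotent mod P
    have he : ∀ γ : Γ, γ ∉ D → ∃ e, γ • e ∈ P ∧ π e = 1 := by
      intro γ hγ
      have hne : P ⊔ P.comap (MulSemiringAction.toRingHom Γ B γ) = ⊤ := by
        refine (Ideal.IsMaximal.out (I := P)).2 _ (left_lt_sup.2 fun hle => ?_)
        haveI : (P.comap (MulSemiringAction.toRingHom Γ B γ)).IsMaximal :=
          Ideal.comap_isMaximal_of_surjective _ (fun b => ⟨γ⁻¹ • b, smul_inv_smul γ b⟩)
        have := Ideal.IsMaximal.eq_of_le this (Ideal.IsMaximal.ne_top ‹P.IsMaximal›) hle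
        exact hγ ((hD γ).2 fun b hb => by rw [← this] at hb; exact hb)
      obtain ⟨p, hp, e, he, hpe⟩ := Submodule.mem_sup.1 (hne ▸ Submodule.mem_top : (1 : B) ∈ P ⊔ _)
      refine ⟨e, he, ?_⟩
      rw [← map_one π, ← hpe, map_add, Ideal.Quotient.eq_zero_iff_mem.2 hp, zero_add]
    choose e he0 he1 using he
    let e₀ : B := ∏ γ : {γ // γ ∉ D}, e γ.1 γ.2
    let u : B := nT e₀
    have hu : u ∈ R := hnT _
    have hu1 : π u = 1 := by rw [hnTπ]; simp [e₀, map_prod, he1]
    have hu0 : ∀ γ, γ ∉ D → π (γ • u) = 0 := by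
      intro γ hγ
      rw [Finset.smul_prod', map_prod]
      refine Finset.prod_eq_zero (Finset.mem_univ (1 : T)) ?_
      rw [OneMemClass.coe_one, one_smul, Finset.smul_prod', map_prod]
      exact Finset.prod_eq_zero (Finset.mem_univ (⟨γ, hγ⟩ : {γ // γ ∉ D}))
        (Ideal.Quotient.eq_zero_iff_mem.2 (he0 γ hγ))
    have huD : ∀ γ ∈ D, π (γ • u) = 1 := by
      intro γ hγ
      have h : u - 1 ∈ P := Ideal.Quotient.eq.1 (by rw [hu1, map_one])
      have := (hD γ).1 hγ _ h
      rw [smul_sub, smul_one] at this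
      rw [← map_one π]; exact Ideal.Quotient.eq.2 this
    -- sums over Φ lift to invariants
    have lift : ∀ c : R, ∃ w : B, (∀ γ : Γ, γ • w = w) ∧ π w = ∑ φ ∈ Φ, φ c := by
      intro c
      have hcR : (c : B) * u ∈ R := R.mul_mem c.2 hu
      let F : Γ ⧸ T → B := Quotient.lift (fun γ : Γ => γ • ((c : B) * u)) (fun γ δ h => by
        have h' : γ⁻¹ * δ ∈ T := QuotientGroup.leftRel_apply.1 h
        have := congrArg (γ • ·) (hcR _ h')
        simpa [smul_smul] using this.symm)
      refine ⟨∑ q, F q, fun γ => ?_, ?_⟩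
      · rw [Finset.smul_sum]
        refine Fintype.sum_equiv (MulAction.toPerm γ) _ _ (fun q => ?_)
        induction q using QuotientGroup.induction_on with
        | H δ => simp [F, smul_smul]
      · rw [map_sum, ← Finset.sum_filter_of_ne (p := fun q : Γ ⧸ T => q ∈ D.image QuotientGroup.mk)]
        · refine Finset.sum_bij' (fun q _ => χ q.out) (fun φ hφ =>
            (QuotientGroup.mk (Finset.mem_image.1 hφ).choose : Γ ⧸ T)) ?_ ?_ ?_ ?_ ?_
          all_goals intro q hq
          · obtain ⟨δ, hδ, hδq⟩ := Finset.mem_image.1 (Finset.mem_filter.1 hq).2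
            refine Finset.mem_image_of_mem _ ?_
            have : δ⁻¹ * q.out ∈ T := QuotientGroup.eq.1 (by rw [hδq, QuotientGroup.out_eq'])
            simpa using hDmul δ hδ _ (hTD _ this)
          · simp only [Finset.mem_filter, Finset.mem_univ, true_and]
            exact Finset.mem_image_of_mem _ (Finset.mem_image.1 hq).choose_spec.1
          · obtain ⟨δ, hδ, hδq⟩ := Finset.mem_image.1 (Finset.mem_filter.1 hq).2
            have hqD : q.out ∈ D := by
              have : δ⁻¹ * q.out ∈ T := QuotientGroup.eq.1 (by rw [hδq, QuotientGroup.out_eq'])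
              simpa using hDmul δ hδ _ (hTD _ this)
            have hm : χ q.out ∈ D.image χ := Finset.mem_image_of_mem _ hqD
            obtain ⟨h1, h2⟩ := (Finset.mem_image.1 hm).choose_spec
            conv_rhs => rw [← QuotientGroup.out_eq' q]
            exact QuotientGroup.eq.2 (hsep _ h1 _ hqD h2)
          · obtain ⟨h1, h2⟩ := (Finset.mem_image.1 hq).choose_spec
            set δ := (Finset.mem_image.1 hq).choose
            have hT' : δ⁻¹ * (δ : Γ ⧸ T).out ∈ T := QuotientGroup.eq.1 (QuotientGroup.out_eq' _).symm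
            conv_rhs => rw [← h2]
            ext r
            rw [hχ, hχ]
            conv_lhs => rw [← mul_inv_cancel_left δ (δ : Γ ⧸ T).out, mul_smul, r.2 _ hT']
          · obtain ⟨δ, hδ, hδq⟩ := Finset.mem_image.1 (Finset.mem_filter.1 hq).2
            have hqD : q.out ∈ D := by
              have : δ⁻¹ * q.out ∈ T := QuotientGroup.eq.1 (by rw [hδq, QuotientGroup.out_eq'])
              simpa using hDmul δ hδ _ (hTD _ this)
            conv_lhs => rw [← QuotientGroup.out_eq' q]
            show π (q.out • ((c : B) * u)) = χ q.out c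
            rw [smul_mul', map_mul, huD _ hqD, mul_one, hχ]
        · intro q _ hq
          induction q using QuotientGroup.induction_on with
          | H δ =>
            refine Finset.mem_image_of_mem _ ?_
            by_contra hδ
            refine hq ?_
            show π (δ • ((c : B) * u)) = 0
            rw [smul_mul', map_mul, hu0 δ hδ, mul_zero]
    -- the conjugates of y
    let S : Finset (B ⧸ P) := D.image fun σ => π (σ • y)
    have hS : ∀ s ∈ S, ∃ r : R, π r = s ∧ ∀ σ ∈ D, π (σ • (r : B)) ∈ S := by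
      intro s hs
      obtain ⟨τ, hτ, rfl⟩ := Finset.mem_image.1 hs
      refine ⟨⟨τ • y, hnormal τ hτ y hy⟩, rfl, fun σ hσ => ?_⟩
      refine Finset.mem_image.2 ⟨σ * τ, hDmul σ hσ τ hτ, ?_⟩
      rw [mul_smul]
    choose r hr hrS using hS
    let H : Polynomial R := ∏ s : S, (Polynomial.X - Polynomial.C (r s.1 s.2))
    let h : Polynomial (B ⧸ P) := ∏ s ∈ S, (Polynomial.X - Polynomial.C s)
    have hfix : ∀ σ ∈ D, H.map (π.comp ((MulSemiringAction.toRingHom Γ B σ).comp R.subtype)) = h := by
      intro σ hσ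
      simp only [H, h, Polynomial.map_prod, Polynomial.map_sub, Polynomial.map_X, Polynomial.map_C,
        RingHom.comp_apply, MulSemiringAction.toRingHom_apply, Subring.coe_subtype]
      let g : S → S := fun s => ⟨_, hrS s.1 s.2 σ hσ⟩
      have hg : Function.Bijective g := by
        refine Finite.injective_iff_bijective.1 fun s t hst => ?_
        have h1 : π (σ • (r s.1 s.2 : B)) = π (σ • (r t.1 t.2 : B)) := congrArg Subtype.val hst
        rw [Ideal.Quotient.eq, ← smul_sub] at h1
        apply Subtype.ext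
        rw [← hr s.1 s.2, ← hr t.1 t.2]
        exact Ideal.Quotient.eq.2 (hDiff σ hσ _ h1)
      rw [← Finset.prod_coe_sort S (fun s => Polynomial.X - Polynomial.C s)]
      exact Fintype.prod_bijective g hg _ _ (fun s => rfl)
    choose w hw0 hw1 using fun i => lift (H.coeff i * a)
    have hwπ : ∀ i, π (w i) = (∑ φ ∈ Φ, φ a) * h.coeff i := by
      intro i
      rw [hw1, Finset.sum_mul]
      refine Finset.sum_congr rfl fun φ hφ => ?_
      obtain ⟨σ, hσ, rfl⟩ := Finset.mem_image.1 hφ
      rw [map_mul, mul_comm, ← hfix σ hσ, Polynomial.coeff_map]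
      rfl
    let g : Polynomial B := ∑ i ∈ Finset.range (h.natDegree + 1), Polynomial.monomial i (w i)
    have hgmap : g.map π = Polynomial.C (∑ φ ∈ Φ, φ a) * h := by
      conv_rhs => rw [h.as_sum_range, Finset.mul_sum]
      rw [Polynomial.map_sum]
      refine Finset.sum_congr rfl fun i _ => ?_
      rw [Polynomial.map_monomial, hwπ, Polynomial.C_mul_monomial]
    refine ⟨g, fun i γ => ?_, ?_, ?_⟩
    · simp only [g, Polynomial.finsetSum_coeff, Polynomial.coeff_monomial, Finset.smul_sum]
      refine Finset.sum_congr rfl fun j _ => ?_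
      split_ifs <;> simp [hw0]
    · rw [hgmap]
      refine Polynomial.Separable.unit_mul ?_ ?_
      · exact Polynomial.isUnit_C.2 (isUnit_iff_ne_zero.2 ha)
      exact Polynomial.separable_prod_X_sub_C_iff'.2 (fun s _ t _ hst => hst)
    · rw [Polynomial.coe_aeval_eq_eval, ← Ideal.Quotient.eq_zero_iff_mem, ← hπ,
        ← Polynomial.eval_map_apply, hgmap, Polynomial.eval_mul, Polynomial.eval_prod,
        Finset.prod_eq_zero (i := π x) (Finset.mem_image.2 ⟨1, h1D, by
          rw [one_smul]; exact (Ideal.Quotient.eq.2 hxy).symm⟩) (by simp), mul_zero]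
  · -- separable implies inertia invariant
    rintro ⟨g, hg0, hgs, hgx⟩
    let ρ : R →+* B ⧸ P := π.comp R.subtype
    let F : Subfield (B ⧸ P) :=
      { ρ.range with
        inv_mem' := by
          rintro z ⟨r, rfl⟩
          by_cases hr : ρ r = 0
          · exact ⟨0, by rw [hr, inv_zero, map_zero]⟩
          obtain ⟨v, hv⟩ := Ideal.Quotient.mk_surjective (ρ r)⁻¹
          refine ⟨r ^ (Fintype.card T - 1) * ⟨nT v, hnT v⟩, ?_⟩
          rw [map_mul, map_pow]
          show ρ r ^ (Fintype.card T - 1) * π (nT v) = _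
          rw [hnTπ, ← hπ] at *
          obtain ⟨m, hm⟩ : ∃ m, Fintype.card T = m + 1 :=
            ⟨_, (Nat.succ_pred_eq_of_pos Fintype.card_pos).symm⟩
          rw [hv, hm, Nat.add_sub_cancel, pow_succ, ← mul_assoc, ← mul_pow, mul_inv_cancel₀ hr,
            one_pow, one_mul] }
    have hmemF : ∀ b ∈ R, π b ∈ F := fun b hb => ⟨⟨b, hb⟩, rfl⟩
    have hl : ∀ (q : Polynomial B), (∀ i, q.coeff i ∈ R) →
        ∃ q' : Polynomial F, q'.map (algebraMap F (B ⧸ P)) = q.map π := by
      intro q hq
      exact (Polynomial.mem_lifts _).1 ((Polynomial.lifts_iff_coeff_lifts _).2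
        fun i => ⟨⟨_, hmemF _ (hq i)⟩, by rw [Polynomial.coeff_map]; rfl⟩)
    obtain ⟨g', hg'⟩ := hl g fun i γ _ => hg0 i γ
    let M : Polynomial B := ∏ t : T, (Polynomial.X - Polynomial.C ((t : Γ) • x))
    obtain ⟨M', hM'⟩ := hl M (by
      intro i γ hγ
      have hγM : γ • M = M := by
        simp only [M, Finset.smul_prod', smul_sub, Polynomial.smul_X, Polynomial.smul_C,
          smul_smul]
        exact Fintype.prod_equiv (Equiv.mulLeft (⟨γ, hγ⟩ : T)) _ _ (fun t => rfl)
      conv_rhs => rw [← hγM]
      rw [Polynomial.coeff_smul])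
    have hMpow : M.map π = (Polynomial.X - Polynomial.C (π x)) ^ Fintype.card T := by
      simp [M, Polynomial.map_prod, hTπ _ (Subtype.prop _)]
    have hroot : ∀ (q : Polynomial B) (q' : Polynomial F), q'.map (algebraMap F (B ⧸ P)) = q.map π →
        π (q.eval x) = 0 → Polynomial.aeval (π x) q' = 0 := by
      intro q q' hq h0
      rw [Polynomial.aeval_def, ← Polynomial.eval_map, hq, Polynomial.eval_map_apply, h0]
    have hgr := hroot g g' hg' (Ideal.Quotient.eq_zero_iff_mem.2 (by
      rwa [Polynomial.coe_aeval_eq_eval] at hgx))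
    have hMr := hroot M M' hM' (by
      rw [← Polynomial.eval_map_apply, hMpow]; simp [zero_pow Fintype.card_ne_zero])
    have hMne : M' ≠ 0 := fun h0 => by
      rw [h0, Polynomial.map_zero, hMpow] at hM'
      exact pow_ne_zero _ (Polynomial.X_sub_C_ne_zero _) hM'.symm
    have hint : IsIntegral F (π x) := isAlgebraic_iff_isIntegral.1 ⟨M', hMne, hMr⟩
    set m := minpoly F (π x) with hm
    have hms : (m.map (algebraMap F (B ⧸ P))).Separable := by
      refine hgs.of_dvd ?_
      rw [← hg']
      exact Polynomial.map_dvd _ (minpoly.dvd _ _ hgr)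
    have hmd : m.map (algebraMap F (B ⧸ P)) ∣ (Polynomial.X - Polynomial.C (π x)) ^ Fintype.card T := by
      rw [← hMpow, ← hM']
      exact Polynomial.map_dvd _ (minpoly.dvd _ _ hMr)
    obtain ⟨j, -, hj⟩ := (dvd_prime_pow (Polynomial.prime_X_sub_C (π x)) _).1 hmd
    have hdeg : m.natDegree = 1 := by
      have hjs : ((Polynomial.X - Polynomial.C (π x)) ^ j).Separable := hms.of_dvd hj.symm.dvd
      have hd : (m.map (algebraMap F (B ⧸ P))).natDegree = j := by
        rw [Polynomial.natDegree_eq_of_degree_eq (Polynomial.degree_eq_degree_of_associated hj)]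
        simp
      rw [Polynomial.natDegree_map] at hd
      have hpos : 0 < j := hd ▸ minpoly.natDegree_pos hint
      rcases Polynomial.Separable.of_pow (Polynomial.not_isUnit_X_sub_C (π x)) hpos.ne' hjs with ⟨-, hj1⟩
      omega
    obtain ⟨z, hz⟩ := minpoly.natDegree_eq_one_iff.1 hdeg
    obtain ⟨r, hr⟩ : π x ∈ F := hz ▸ z.2
    exact ⟨r, r.2, Ideal.Quotient.eq.1 hr.symm⟩

end Groth.Agent.S12937
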