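import Groth.Statements.S1294
import Groth.Agent.Lib.PureSpread.Main

set_option autoImplicit false
universe u
open FlatMor

namespace Groth.Agent.S1294

set_option maxHeartbeats 1000000
set_option linter.style.haveILetI false


open IsLocalRing in
/-- Let B be a finitely presented A-algebra, T ⊆ B a multiplicative subset and N a finitely presented
T⁻¹B-module. Then for every prime p of A there is a finitely generated ideal I of A_p contained in
its maximal ideal such that, writing A₁ = A_p/I, B₁ = B ⊗_A A₁, T₁ for the image of T in B₁ and N₁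
for the base change of N (a T₁⁻¹B₁-module; any models), the base-changed data admits a pure
spreadout over A₁. -/
theorem result {A B : Type u} [CommRing A] [CommRing B] [Algebra A B] [Algebra.FinitePresentation A B]
    (T : Submonoid B) (N : Type u) [AddCommGroup N] [Module (Localization T) N] [Module B N] [Module A N]
    [IsScalarTower B (Localization T) N] [IsScalarTower A (Localization T) N] [IsScalarTower A B N]
    [Module.FinitePresentation (Localization T) N] (p : Ideal A) [p.IsPrime] :
    ∃ I : Ideal (Localization.AtPrime p), I.FG ∧ I ≤ maximalIdeal (Localization.AtPrime p) ∧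
      ∀ (B₁ N₁ : Type u) [CommRing B₁] [Algebra B B₁] [Algebra (Localization.AtPrime p ⧸ I) B₁] [Algebra A B₁]
        [IsScalarTower A B B₁] [IsScalarTower A (Localization.AtPrime p ⧸ I) B₁]
        [Algebra.IsPushout A B (Localization.AtPrime p ⧸ I) B₁]
        [AddCommGroup N₁] [Module (Localization (T.map (algebraMap B B₁))) N₁] [Module (Localization.AtPrime p ⧸ I) N₁]
        [IsScalarTower (Localization.AtPrime p ⧸ I) (Localization (T.map (algebraMap B B₁))) N₁]
        [Module B N₁] [IsScalarTower B (Localization (T.map (algebraMap B B₁))) N₁]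
        [Module A N₁] [IsScalarTower A (Localization.AtPrime p ⧸ I) N₁] [IsScalarTower A B N₁]
        (h : N →ₗ[B] N₁), IsBaseChange (Localization.AtPrime p ⧸ I) (h.restrictScalars A) →
        FlatCA.HasPureSpreadout (Localization.AtPrime p ⧸ I) B₁ (T.map (algebraMap B B₁)) N₁ := by
  classical
  obtain ⟨n, π, hπ, hker⟩ := ‹Algebra.FinitePresentation A B›.out
  let P := MvPolynomial (Fin n) A
  let L := Localization T
  letI : Algebra P B := π.toRingHom.toAlgebra
  haveI : IsScalarTower A P B := IsScalarTower.of_algebraMap_eq fun a => (π.commutes a).symm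
  obtain ⟨r, K, e, hK⟩ := Module.FinitePresentation.exists_fin L N
  obtain ⟨G, hG⟩ := hK
  let f : (Fin r → B) →ₗ[B] (Fin r → L) := LinearMap.pi fun i => Algebra.linearMap B L ∘ₗ LinearMap.proj i
  haveI : IsLocalizedModule T f := inferInstance
  choose num hnum using fun k : Fin r → L => IsLocalizedModule.surj T f k
  let M' : Submodule B (Fin r → B) := Submodule.span B ((G.image fun k => (num k).1 : Finset (Fin r → B)) : Set (Fin r → B))
  have hM' : M'.localized' L T f = K := by
    rw [Submodule.localized'_span, ← hG]
    refine le_antisymm (Submodule.span_le.2 ?_) (Submodule.span_le.2 fun k hk => ?_)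
    · rintro _ ⟨x, hx, rfl⟩
      obtain ⟨k, hk, rfl⟩ := Finset.mem_image.1 hx
      rw [SetLike.mem_coe, ← hnum k]
      exact Submodule.smul_of_tower_mem _ _ (Submodule.subset_span hk)
    · have hu : IsUnit (algebraMap B L (num k).2) := IsLocalization.map_units L (num k).2
      rw [SetLike.mem_coe, ← Submodule.smul_mem_iff_of_isUnit _ hu, algebraMap_smul]
      exact Submodule.subset_span ⟨(num k).1, Finset.mem_image_of_mem _ hk, (hnum k).symm⟩
  let N₁ := (Fin r → B) ⧸ M'
  let eB : ((Fin r → L) ⧸ M'.localized' L T f) ≃ₗ[B] N :=
    ((Submodule.quotEquivOfEq _ _ hM').trans e.symm).restrictScalars B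
  let ιB : N₁ →ₗ[B] N := eB.toLinearMap ∘ₗ M'.toLocalizedQuotient' L T f
  haveI : IsLocalizedModule T ιB := IsLocalizedModule.of_linearEquiv T _ eB
  haveI : Module.FinitePresentation B N₁ := Module.finitePresentation_of_surjective M'.mkQ M'.mkQ_surjective
    (by rw [Submodule.ker_mkQ]; exact ⟨_, rfl⟩)
  haveI : Module.FinitePresentation P B := Module.finitePresentation_of_surjective (Algebra.linearMap P B) hπ hker
  haveI : Module.FinitePresentation P N₁ := Module.FinitePresentation.trans P N₁ B
  exact GrothLib.PureSpread.exists_pureSpreadout π hπ T (fun f x => (algebraMap_smul B f x).symm) ιB p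


end Groth.Agent.S1294
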