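import Groth.Statements.S12943
import Groth.Agent.Lib.AlgSt.DiagRep
import Groth.Agent.S9922
import Mathlib.AlgebraicGeometry.ZariskisMainTheorem


set_option autoImplicit false
set_option backward.isDefEq.respectTransparency false
set_option backward.isDefEq.respectTransparency.types false
universe u
open CategoryTheory AlgebraicGeometry
open AlgSt

namespace Groth.Agent.S12943

/-- For a morphism f of algebraic stacks that is representable by algebraic spaces, the following are
equivalent: f is separated (every base change to a scheme is a separated morphism of algebraic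
spaces); the diagonal of f is a closed immersion; the diagonal of f is proper; the diagonal of f is
universally closed. -/
theorem result
    (S : Scheme.{u}) (𝒳 : AlgSt.Cat S) (𝒴 : AlgSt.Cat S)
    (h𝒳 : AlgSt.IsAlgStack Scheme.fppfPrecoverage 𝒳)
    (h𝒴 : AlgSt.IsAlgStack Scheme.fppfPrecoverage 𝒴)
    (f : 𝒳 ⥤ᵇ 𝒴)
    (hf : AlgSt.RepByAlgSp1 f) :
    [AlgSt.RepByAlgSpWith AlgSp.IsSeparatedMor f, AlgSt.IsClosedImm (FibCat.diag f),
      AlgSt.IsSeparatedMor f, AlgSt.RepByAlgSpWith AlgSp.IsUnivClosedMor (FibCat.diag f)].TFAE := by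
  tfae_have 1 → 2 := fun h => GrothLib.AlgSt.repByAlgSpWith_repWith_diag_of @IsClosedImmersion _ (fun _ _ _ hR => hR) h
  tfae_have 2 → 3 := fun h => GrothLib.AlgSt.repByAlgSpWith_mono (fun X Y a hX hY hc =>
    ⟨(GrothLib.AlgSp.isSeparatedMor_iff_repWith hc.1).2
        (GrothLib.AlgSp.repWith_mono hc fun _ _ t (_ : IsClosedImmersion t) => inferInstance),
      ⟨GrothLib.AlgSp.EtLocal.locP_of_repWith GrothLib.AlgSp.EtLocal.lft hY
          (GrothLib.AlgSp.repWith_mono hc fun _ _ t (_ : IsClosedImmersion t) => inferInstance),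
        GrothLib.AlgSp.isQuasiCompactMor_of_repWith
          (GrothLib.AlgSp.repWith_mono hc fun _ _ t (_ : IsClosedImmersion t) => inferInstance)⟩,
      (Groth.Agent.S9922.result (X := ⟨X, hX⟩) (Y := ⟨Y, hY⟩) (ObjectProperty.homMk a) hc.1).1
        (GrothLib.AlgSp.repWith_mono hc fun _ _ t (_ : IsClosedImmersion t) => inferInstance)⟩) h
  tfae_have 3 → 4 := GrothLib.AlgSt.repByAlgSpWith_mono fun _ _ _ _ _ h => h.2.2
  tfae_have 4 → 1 := by
    intro h
    refine GrothLib.AlgSt.repByAlgSpWith_of_repWith_diag @IsClosedImmersion _ (fun _ _ _ h => h) hf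
      (GrothLib.AlgSt.repByAlgSpWith_diag_mono hf h fun X Y a hX hY h0 hu => ?_)
    have hu' := (Groth.Agent.S9922.result (X := ⟨X, hX⟩) (Y := ⟨Y, hY⟩) (ObjectProperty.homMk a) h0.1).2 hu
    refine GrothLib.AlgSp.repWith_mono (GrothLib.AlgSp.repWith_inf_iff.2 ⟨h0, hu'⟩) fun _ _ t ht => ?_
    obtain ⟨⟨⟨h1, h2⟩, h3, -⟩, h4⟩ := ht
    have : LocallyOfFiniteType t := h1
    have : IsSeparated t := h3
    have : UniversallyClosed t := h4
    exact (IsClosedImmersion.iff_isProper_and_mono t).2 ⟨{ }, h2⟩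
  tfae_finish

end Groth.Agent.S12943
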