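import Groth.Statements.S12944
import Groth.Agent.Lib.AlgSt.DiagRep


set_option autoImplicit false
set_option backward.isDefEq.respectTransparency false
set_option backward.isDefEq.respectTransparency.types false
universe u
open CategoryTheory AlgebraicGeometry
open AlgSt

namespace Groth.Agent.S12944

/-- For a morphism f of algebraic stacks that is representable by algebraic spaces, these three
conditions coincide: f is quasi-separated (every base change to a scheme is a quasi-separated
morphism of algebraic spaces); the diagonal of f is quasi-compact; the diagonal of f is of finite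
type. -/
theorem result
    (S : Scheme.{u}) (𝒳 : AlgSt.Cat S) (𝒴 : AlgSt.Cat S)
    (h𝒳 : AlgSt.IsAlgStack Scheme.fppfPrecoverage 𝒳)
    (h𝒴 : AlgSt.IsAlgStack Scheme.fppfPrecoverage 𝒴)
    (f : 𝒳 ⥤ᵇ 𝒴)
    (hf : AlgSt.RepByAlgSp1 f) :
    [AlgSt.RepByAlgSpWith AlgSp.IsQuasiSeparatedMor f,
      AlgSt.RepByAlgSpWith AlgSp.IsQuasiCompactMor (FibCat.diag f),
      AlgSt.RepByAlgSpWith AlgSp.IsFiniteTypeMor (FibCat.diag f)].TFAE := by
  have hqc : AlgSt.RepByAlgSpWith AlgSp.IsQuasiCompactMor (FibCat.diag f) →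
      AlgSt.RepByAlgSpWith (AlgSp.RepWith @QuasiCompact) (FibCat.diag f) := fun h =>
    GrothLib.AlgSt.repByAlgSpWith_diag_mono hf h fun _ _ a _ _ h0 hq =>
      GrothLib.AlgSp.repWith_quasiCompact_of_isQuasiCompactMor h0.1 hq
  tfae_have 1 → 3 := by
    intro h
    refine GrothLib.AlgSt.repByAlgSpWith_diag_mono hf
      (GrothLib.AlgSt.repByAlgSpWith_repWith_diag_of @QuasiCompact _ (fun _ _ _ hR => hR) h) fun _ _ a _ hY h0 hq => ?_
    exact ⟨GrothLib.AlgSp.EtLocal.locP_of_repWith GrothLib.AlgSp.EtLocal.lft hY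
      (GrothLib.AlgSp.repWith_mono h0 fun _ _ t ht => ht.1.1), GrothLib.AlgSp.isQuasiCompactMor_of_repWith hq⟩
  tfae_have 3 → 2 := GrothLib.AlgSt.repByAlgSpWith_mono fun _ _ _ _ _ h => h.2
  tfae_have 2 → 1 := fun h =>
    GrothLib.AlgSt.repByAlgSpWith_of_repWith_diag @QuasiCompact _ (fun _ _ _ h => h) hf (hqc h)
  tfae_finish

end Groth.Agent.S12944
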