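import Groth.Statements.S12945
import Groth.Agent.Lib.AlgSt.DiagRep


set_option autoImplicit false
set_option backward.isDefEq.respectTransparency false
set_option backward.isDefEq.respectTransparency.types false
universe u
open CategoryTheory AlgebraicGeometry
open AlgSt

namespace Groth.Agent.S12945

/-- For a morphism f of algebraic stacks that is representable by algebraic spaces, f is quasi-separated
in the sense of stacks (diagonal quasi-compact and quasi-separated) if and only if every base change
of f to a scheme is a quasi-separated morphism of algebraic spaces. (For such f the diagonal is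
separated, so the two notions of quasi-separated agree.) -/
theorem result
    (S : Scheme.{u}) (𝒳 : AlgSt.Cat S) (𝒴 : AlgSt.Cat S)
    (h𝒳 : AlgSt.IsAlgStack Scheme.fppfPrecoverage 𝒳)
    (h𝒴 : AlgSt.IsAlgStack Scheme.fppfPrecoverage 𝒴)
    (f : 𝒳 ⥤ᵇ 𝒴)
    (hf : AlgSt.RepByAlgSp1 f) :
    AlgSt.IsQuasiSeparatedMor f ↔ AlgSt.RepByAlgSpWith AlgSp.IsQuasiSeparatedMor f := by
  constructor
  · exact fun h => GrothLib.AlgSt.repByAlgSpWith_of_repWith_diag @QuasiCompact _ (fun _ _ _ h => h) hf
      (GrothLib.AlgSt.repByAlgSpWith_diag_mono hf h fun _ _ a _ _ h0 hq =>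
        GrothLib.AlgSp.repWith_quasiCompact_of_isQuasiCompactMor h0.1 hq.1)
  · intro h
    refine GrothLib.AlgSt.repByAlgSpWith_diag_mono hf
      (GrothLib.AlgSt.repByAlgSpWith_repWith_diag_of @QuasiCompact _ (fun _ _ _ hR => hR) h) fun _ _ a _ _ h0 hq => ?_
    exact ⟨GrothLib.AlgSp.isQuasiCompactMor_of_repWith hq, (GrothLib.AlgSp.isQuasiSeparatedMor_iff_repWith h0.1).2
      (GrothLib.AlgSp.repWith_mono h0 fun _ _ t ht => by
        have : IsSeparated t := ht.2.1
        exact (inferInstance : QuasiSeparated t))⟩

end Groth.Agent.S12945
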