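import Groth.Statements.S12946
import Groth.Agent.Lib.AlgSt.DiagRep


set_option autoImplicit false
set_option backward.isDefEq.respectTransparency false
set_option backward.isDefEq.respectTransparency.types false
universe u
open CategoryTheory AlgebraicGeometry
open AlgSt

namespace Groth.Agent.S12946

/-- A DM morphism of algebraic stacks is quasi-DM (an unramified morphism of algebraic spaces being
locally quasi-finite). -/
theorem result
    (S : Scheme.{u}) (𝒳 : AlgSt.Cat S) (𝒴 : AlgSt.Cat S)
    (h𝒳 : AlgSt.IsAlgStack Scheme.fppfPrecoverage 𝒳)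
    (h𝒴 : AlgSt.IsAlgStack Scheme.fppfPrecoverage 𝒴)
    (f : 𝒳 ⥤ᵇ 𝒴) :
    AlgSt.IsDMMor f → AlgSt.IsQuasiDMMor f := by
  exact fun h => GrothLib.AlgSt.repByAlgSpWith_mono (fun _ _ a _ _ h =>
    GrothLib.AlgSp.locP_mono (fun _ _ t ht => ⟨by
      have : LocallyOfFiniteType t := ht.1
      have : FormallyUnramified t := ht.2
      exact GrothLib.AlgSp.locallyQuasiFinite_of_unramified t, ht.1⟩) h) h

end Groth.Agent.S12946
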