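import Groth.Statements.S12947
import Groth.Agent.Lib.AlgSt.DiagRep


set_option autoImplicit false
set_option backward.isDefEq.respectTransparency false
set_option backward.isDefEq.respectTransparency.types false
universe u
open CategoryTheory AlgebraicGeometry
open AlgSt

namespace Groth.Agent.S12947

/-- A morphism of algebraic stacks that is representable by algebraic spaces is DM (its diagonal, a
monomorphism locally of finite type, is unramified). -/
theorem result
    (S : Scheme.{u}) (𝒳 : AlgSt.Cat S) (𝒴 : AlgSt.Cat S)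
    (h𝒳 : AlgSt.IsAlgStack Scheme.fppfPrecoverage 𝒳)
    (h𝒴 : AlgSt.IsAlgStack Scheme.fppfPrecoverage 𝒴)
    (f : 𝒳 ⥤ᵇ 𝒴)
    (hf : AlgSt.RepByAlgSp1 f) :
    AlgSt.IsDMMor f := by
  exact GrothLib.AlgSt.repByAlgSpWith_mono (fun _ _ a _ hY h =>
    GrothLib.AlgSp.EtLocal.locP_of_repWith (GrothLib.AlgSp.EtLocal.lft.inf GrothLib.AlgSp.EtLocal.formallyUnramified) hY
      (GrothLib.AlgSp.repWith_mono h fun _ _ t ht => ⟨ht.1.1, by
        have : Mono t := ht.1.2
        exact (inferInstance : FormallyUnramified t)⟩))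
    (GrothLib.AlgSt.repByAlgSpWith_repWith_diag hf)

end Groth.Agent.S12947
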