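import Groth.Statements.S12948
import Groth.Agent.Lib.AlgSt.DiagMor


set_option autoImplicit false
set_option backward.isDefEq.respectTransparency false
set_option backward.isDefEq.respectTransparency.types false
universe u
open CategoryTheory AlgebraicGeometry
open AlgSt

namespace Groth.Agent.S12948

/-- The base change of a DM morphism of algebraic stacks along any morphism of algebraic stacks is DM
(DM: the diagonal is representable by algebraic spaces and unramified (locally of finite type and
formally unramified)). The base change is the first projection of the 2-fibre product. -/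
theorem result
    (S : Scheme.{u}) (𝒳 : AlgSt.Cat S) (𝒴 : AlgSt.Cat S) (𝒴' : AlgSt.Cat S)
    (h𝒳 : AlgSt.IsAlgStack Scheme.fppfPrecoverage 𝒳)
    (h𝒴 : AlgSt.IsAlgStack Scheme.fppfPrecoverage 𝒴)
    (h𝒴' : AlgSt.IsAlgStack Scheme.fppfPrecoverage 𝒴')
    (f : 𝒳 ⥤ᵇ 𝒴) (g : 𝒴' ⥤ᵇ 𝒴) :
    AlgSt.IsDMMor f → AlgSt.IsDMMor (FibCat.fpFst g f) := by
  exact GrothLib.AlgSt.repByAlgSpWith_diag_fpFst f g

end Groth.Agent.S12948
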