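import Groth.Statements.S12949
import Groth.Agent.Lib.AlgSt.DiagMor
import Groth.Agent.Lib.AlgSt.LocP


set_option autoImplicit false
set_option backward.isDefEq.respectTransparency false
set_option backward.isDefEq.respectTransparency.types false
universe u
open CategoryTheory AlgebraicGeometry
open AlgSt

namespace Groth.Agent.S12949

/-- The composition of two DM morphisms of algebraic stacks is DM (DM: the diagonal is representable by
algebraic spaces and unramified (locally of finite type and formally unramified)). -/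
theorem result
    (S : Scheme.{u}) (𝒳 : AlgSt.Cat S) (𝒴 : AlgSt.Cat S) (𝒵 : AlgSt.Cat S)
    (h𝒳 : AlgSt.IsAlgStack Scheme.fppfPrecoverage 𝒳)
    (h𝒴 : AlgSt.IsAlgStack Scheme.fppfPrecoverage 𝒴)
    (h𝒵 : AlgSt.IsAlgStack Scheme.fppfPrecoverage 𝒵)
    (f : 𝒳 ⥤ᵇ 𝒴) (g : 𝒴 ⥤ᵇ 𝒵) :
    AlgSt.IsDMMor f → AlgSt.IsDMMor g → AlgSt.IsDMMor (BasedFunctor.comp f g) := by
  exact fun hf hg => GrothLib.AlgSt.CompStable.repByAlgSpWith_diag_comp
    ⟨GrothLib.AlgSt.isoInvariant_locP,
      fun _ _ _ _ hY hZ a b ha hb => GrothLib.AlgSt.locP_comp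
        (GrothLib.AlgSp.etaleSourceDescends_lft.inf GrothLib.AlgSp.etaleSourceDescends_formallyUnramified) hY hZ ha hb,
      GrothLib.AlgSt.detectedBySchemes_locP fun _ _ t _ => ⟨inferInstance, inferInstance⟩⟩ h𝒳 h𝒴 f g hf hg

end Groth.Agent.S12949
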