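import Groth.Statements.S1295
import Groth.Agent.Lib.PureDesc13.Main
import Groth.Agent.Lib.Approx6.ModuleRing
-- import your own Groth.Agent.* helpers here

set_option autoImplicit false
universe u
open FlatMor

namespace Groth.Agent.S1295

attribute [local instance] Algebra.TensorProduct.rightAlgebra


/-- Ring form, X = Spec B and the S_i = Spec A_i affine: let A be the colimit of a directed system of
rings (A_i), p a prime of A with contractions p_i, B a finitely presented A-algebra and N a finitely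
presented B-module which is pure along the fibre over p and flat over A at every prime of B over p.
Then for some index i there are a finitely presented A_i-algebra B_i with B ≅ B_i ⊗_{A_i} A and a
finitely presented B_i-module N_i with N ≅ N_i ⊗_{B_i} B, such that N_i is pure along the fibre over
p_i and flat over A_i at every prime of B_i over p_i. -/
theorem result {ι : Type u} [Preorder ι] (G : ι → Type u) [∀ i, CommRing (G i)]
    (g : ∀ i j, i ≤ j → G i →+* G j) {A : Type u} [CommRing A] [∀ i, Algebra (G i) A] (hcolim : FlatCA.IsDirectedColimitRing G g A)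
    {B : Type u} [CommRing B] [Algebra A B] [Algebra.FinitePresentation A B]
    (N : Type u) [AddCommGroup N] [Module B N] [Module A N] [IsScalarTower A B N] [Module.FinitePresentation B N]
    (p : Ideal A) [p.IsPrime] (hpure : FlatCA.IsPureAlong A B N p)
    (hflat : ∀ (q : Ideal B) [q.IsPrime], q.LiesOver p → FlatCA.FlatAt A q N) :
    ∃ (i : ι) (Bi Ni : Type u) (_ : CommRing Bi) (_ : Algebra (G i) Bi) (_ : Algebra Bi B) (_ : Algebra (G i) B)
      (_ : IsScalarTower (G i) A B) (_ : IsScalarTower (G i) Bi B)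
      (_ : AddCommGroup Ni) (_ : Module Bi Ni) (_ : Module (G i) Ni) (_ : IsScalarTower (G i) Bi Ni)
      (_ : Module Bi N) (_ : IsScalarTower Bi B N) (f : Ni →ₗ[Bi] N),
      Algebra.FinitePresentation (G i) Bi ∧ Algebra.IsPushout (G i) Bi A B ∧ Module.FinitePresentation Bi Ni ∧ IsBaseChange B f ∧
      FlatCA.IsPureAlong (G i) Bi Ni (p.comap (algebraMap (G i) A)) ∧
      ∀ (q : Ideal Bi) [q.IsPrime], q.LiesOver (p.comap (algebraMap (G i) A)) → FlatCA.FlatAt (G i) q Ni := by
  classical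
  have hcolim' := hcolim
  obtain ⟨hdirι, hne, hrefl, htrans, hcomm, hsurj, hzero⟩ := hcolim'
  -- a model over a finitely generated ring, lifted to a stage
  obtain ⟨A₀, _, _, B₀, _, _, e, M₀, _, _, hA₀, _, _, ⟨eL⟩⟩ := GrothLib.Approx6.exists_module_model A B N
  haveI := hA₀
  obtain ⟨i₀, φ₀, hφ₀⟩ := GrothLib.PureDesc13.exists_lift_finiteType hcolim A₀ (algebraMap A₀ A)
  letI : Algebra B₀ B :=
    (e.toRingEquiv.toRingHom.comp Algebra.TensorProduct.includeRight.toRingHom).toAlgebra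
  letI : Algebra A₀ B := ((algebraMap A B).comp (algebraMap A₀ A)).toAlgebra
  haveI : IsScalarTower A₀ A B := IsScalarTower.of_algebraMap_eq fun _ => rfl
  haveI : IsScalarTower A₀ B₀ B := IsScalarTower.of_algebraMap_eq fun x => by
    show algebraMap A B (algebraMap A₀ A x) = e (Algebra.TensorProduct.includeRight (algebraMap A₀ B₀ x))
    rw [AlgHom.commutes, IsScalarTower.algebraMap_apply A₀ A (TensorProduct A₀ A B₀), AlgEquiv.commutes]
  haveI hpoB : Algebra.IsPushout A₀ A B₀ B := Algebra.IsPushout.of_equiv e rfl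
  letI : Module A₀ M₀ := Module.compHom M₀ (algebraMap A₀ B₀)
  haveI : IsScalarTower A₀ B₀ M₀ := IsScalarTower.of_algebraMap_smul fun _ _ => rfl
  letI : Module B₀ N := Module.compHom N (algebraMap B₀ B)
  haveI : IsScalarTower B₀ B N := IsScalarTower.of_algebraMap_smul fun _ _ => rfl
  let f₀ : M₀ →ₗ[B₀] N := (eL.toLinearMap.restrictScalars B₀).comp (TensorProduct.mk B₀ B M₀ 1)
  have hf₀ : IsBaseChange B f₀ := IsBaseChange.of_equiv eL fun _ => rfl
  -- flatness along the fibre at a stage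
  let J₀ := {i // i₀ ≤ i}
  letI : ∀ j : J₀, Algebra A₀ (G j.1) := fun j => ((g i₀ j.1 j.2).comp φ₀).toAlgebra
  haveI : ∀ j : J₀, IsScalarTower A₀ (G j.1) A := fun j => IsScalarTower.of_algebraMap_eq fun x => by
    show algebraMap A₀ A x = algebraMap (G j.1) A (g i₀ j.1 j.2 (φ₀ x))
    rw [← hφ₀]
    exact (RingHom.congr_fun (hcomm i₀ j.1 j.2) (φ₀ x)).symm
  obtain ⟨hdir₀, hlift₀, heq₀⟩ := GrothLib.PureDesc13.stage_props (R := A₀) (fun j : J₀ => G j.1)
    (fun j j' h => g j.1 j'.1 h)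
    (fun j j' h x => RingHom.congr_fun (htrans i₀ j.1 j'.1 j.2 h) (φ₀ x))
    (GrothLib.PureDesc13.colim_above hcolim i₀)
  obtain ⟨i₁, hi₁⟩ := GrothLib.PureDesc13.exists_stage_flat_fibre (R := A₀) (A := A) (fun j : J₀ => G j.1)
    hdir₀ hlift₀ heq₀ M₀ hf₀ p hflat
  obtain ⟨B₁, N₁, _, _, _, _, _, _, _, _, _, _, _, _, f₁, hpo₁, hf₁⟩ :=
    GrothLib.RG6.Impure.exists_data A₀ B₀ M₀ (G i₁.1)
  haveI : Algebra.IsPushout A₀ (G i₁.1) B₀ B₁ := hpo₁.symm
  haveI : Algebra.FinitePresentation (G i₁.1) B₁ :=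
    (inferInstance : Algebra.FinitePresentation (G i₁.1) (TensorProduct A₀ (G i₁.1) B₀)).equiv
      (Algebra.IsPushout.equiv A₀ (G i₁.1) B₀ B₁)
  haveI : Module.FinitePresentation B₁ N₁ := Module.FinitePresentation.of_equiv hf₁.equiv
  obtain ⟨_, _, _, _, _, hsq₁, _, _, φ₁, hφ₁, -⟩ :=
    GrothLib.RG6.Impure.exists_map (A₁ := G i₁.1) (A₂ := A) hpo₁ hf₁ hpoB.symm hf₀
  haveI := hsq₁
  -- purity along the fibre at a later stage
  let J₁ := {i // i₁.1 ≤ i}
  letI : ∀ j : J₁, Algebra (G i₁.1) (G j.1) := fun j => (g i₁.1 j.1 j.2).toAlgebra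
  haveI : ∀ j : J₁, IsScalarTower (G i₁.1) (G j.1) A := fun j => IsScalarTower.of_algebraMap_eq fun x =>
    (RingHom.congr_fun (hcomm i₁.1 j.1 j.2) x).symm
  obtain ⟨hdir₁, hlift₁, heq₁⟩ := GrothLib.PureDesc13.stage_props (R := G i₁.1) (fun j : J₁ => G j.1)
    (fun j j' h => g j.1 j'.1 h)
    (fun j j' h x => RingHom.congr_fun (htrans i₁.1 j.1 j'.1 j.2 h) x)
    (GrothLib.PureDesc13.colim_above hcolim i₁.1)
  obtain ⟨k, hk⟩ := GrothLib.PureDesc13.exists_stage_pure (R := G i₁.1) (A := A) (fun j : J₁ => G j.1)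
    hdir₁ hlift₁ heq₁ N₁ hφ₁ p (fun q _ hq => hi₁ B₁ N₁ f₁ hf₁ q hq) hflat hpure
  obtain ⟨Bk, Nk, _, _, _, _, _, _, _, _, _, _, _, _, fk, hpok, hfk⟩ :=
    GrothLib.RG6.Impure.exists_data (G i₁.1) B₁ N₁ (G k.1)
  haveI : Algebra.IsPushout (G i₁.1) (G k.1) B₁ Bk := hpok.symm
  haveI : Algebra.FinitePresentation (G k.1) Bk :=
    (inferInstance : Algebra.FinitePresentation (G k.1) (TensorProduct (G i₁.1) (G k.1) B₁)).equiv
      (Algebra.IsPushout.equiv (G i₁.1) (G k.1) B₁ Bk)
  haveI : Module.FinitePresentation Bk Nk := Module.FinitePresentation.of_equiv hfk.equiv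
  obtain ⟨hpk, hflatk⟩ := hk Bk Nk fk hfk
  obtain ⟨_, _, _, _, _, hsq, _, _, φ, hφ, -⟩ :=
    GrothLib.RG6.Impure.exists_map (A₁ := G k.1) (A₂ := A) hpok hfk hsq₁.symm hφ₁
  haveI := hsq
  exact ⟨k.1, Bk, Nk, inferInstance, inferInstance, inferInstance, inferInstance, inferInstance, inferInstance,
    inferInstance, inferInstance, inferInstance, inferInstance, inferInstance, inferInstance, φ,
    inferInstance, hsq.symm, inferInstance, hφ, hpk, hflatk⟩


end Groth.Agent.S1295
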