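import Groth.Statements.S12956
import Groth.Agent.Lib.AlgSt.DiagSpaces
import Groth.Agent.Lib.AlgSt.LocP
import Groth.Agent.Lib.AlgSp.Diag
import Groth.Agent.Lib.AlgSp.LocP


set_option autoImplicit false
set_option backward.isDefEq.respectTransparency false
set_option backward.isDefEq.respectTransparency.types false
universe u
open CategoryTheory AlgebraicGeometry
open AlgSt

namespace Groth.Agent.S12956

/-- If the composite of f : 𝒳 → 𝒴 and g : 𝒴 → 𝒵 (morphisms of algebraic stacks) is DM, then f is DM. -/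
theorem result
    (S : Scheme.{u}) (𝒳 : AlgSt.Cat S) (𝒴 : AlgSt.Cat S) (𝒵 : AlgSt.Cat S)
    (h𝒳 : AlgSt.IsAlgStack Scheme.fppfPrecoverage 𝒳)
    (h𝒴 : AlgSt.IsAlgStack Scheme.fppfPrecoverage 𝒴)
    (h𝒵 : AlgSt.IsAlgStack Scheme.fppfPrecoverage 𝒵)
    (f : 𝒳 ⥤ᵇ 𝒴) (g : 𝒴 ⥤ᵇ 𝒵) :
    AlgSt.IsDMMor (BasedFunctor.comp f g) → AlgSt.IsDMMor f := by
  intro h
  refine GrothLib.AlgSt.CompStable.repByAlgSpWith_diag_of_comp
    ⟨GrothLib.AlgSt.isoInvariant_locP,
      fun _ _ _ _ hY hZ a b ha hb => GrothLib.AlgSt.locP_comp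
        (GrothLib.AlgSp.etaleSourceDescends_lft.inf GrothLib.AlgSp.etaleSourceDescends_formallyUnramified) hY hZ ha hb,
      GrothLib.AlgSt.detectedBySchemes_locP fun _ _ t _ => ⟨inferInstance, inferInstance⟩⟩ h𝒳 h𝒴 h𝒵 f g h ?_
  refine GrothLib.AlgSt.repByAlgSpWith_diag_of_spaces (fun X Y Y' X' hX hY hY' hX' f g f' g' sq hf =>
    GrothLib.AlgSp.EtLocal.locP_of_isPullback (GrothLib.AlgSp.EtLocal.lft.inf GrothLib.AlgSp.EtLocal.formallyUnramified)
      hX hY hY' sq hf) (fun X Y a => ?_) _ (GrothLib.AlgSt.repByAlgSp1_diag h𝒴 h𝒵 g)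
  refine GrothLib.AlgSp.EtLocal.locP_of_repWith (GrothLib.AlgSp.EtLocal.lft.inf GrothLib.AlgSp.EtLocal.formallyUnramified)
    (GrothLib.AlgSp.isAlgSpace_pullback' Y.property X.property X.property _ _) ?_
  exact GrothLib.AlgSp.repWith_inf_iff.2 ⟨GrothLib.AlgSp.repWith_diagonal a.hom (GrothLib.AlgSp.repWith_diag_lft X.property),
    GrothLib.AlgSp.repWith_mono (GrothLib.AlgSp.repWith_diagonal a.hom (GrothLib.AlgSp.repWith_diag_mono X.property))
      fun _ _ t (_ : Mono t) => inferInstance⟩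

end Groth.Agent.S12956
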