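import Groth.Statements.S1296
import Groth.Agent.Lib.RG6.Impure.Stage
-- import your own Groth.Agent.* helpers here

set_option autoImplicit false
universe u
open FlatMor

namespace Groth.Agent.S1296

/-- Ring form, X = Spec B affine, T = Spec A' with A' the colimit of a directed system of A-algebras
A'_i: let B be a finite type A-algebra, N a finite B-module, p a prime of A, and suppose given an
impurity of N above p with base change ring A' and points t' ⊆ t. Then for some index i there is an
impurity of N above p whose base change ring is A'_i (up to an A-isomorphism) and whose point t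
corresponds to the contraction of t to A'_i. -/
theorem result {A B : Type u} [CommRing A] [CommRing B] [Algebra A B] [Algebra.FiniteType A B]
    (N : Type u) [AddCommGroup N] [Module B N] [Module.Finite B N] (p : Ideal A) [p.IsPrime]
    {ι : Type u} [Preorder ι] (G : ι → Type u) [∀ i, CommRing (G i)] [∀ i, Algebra A (G i)]
    (g : ∀ i j, i ≤ j → G i →ₐ[A] G j)
    (A' : Type u) [CommRing A'] [Algebra A A'] [∀ i, Algebra (G i) A'] [∀ i, IsScalarTower A (G i) A']
    (hcolim : FlatCA.IsDirectedColimitRing G (fun i j h => (g i j h).toRingHom) A')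
    (B' N' : Type u) [CommRing B'] [Algebra B B'] [Algebra A' B'] [Algebra A B'] [IsScalarTower A B B'] [IsScalarTower A A' B']
    [AddCommGroup N'] [Module B' N'] [Module B N'] [IsScalarTower B B' N'] [Module A' N'] [IsScalarTower A' B' N']
    (f : N →ₗ[B] N') (t' t : Ideal A') [t'.IsPrime] [t.IsPrime] (P : Ideal B') [P.IsPrime]
    (himp : FlatCA.IsImpurity A B N p A' B' N' f t' t P) :
    ∃ i : ι, FlatCA.HasImpurity A B N p (fun A'' _ _ t'' => ∃ e : A'' ≃ₐ[A] G i, t''.map e = t.comap (algebraMap (G i) A')) := by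
  classical
  obtain ⟨s, F, hs, h⟩ := GrothLib.RG6.Impure.exists_stage himp
  obtain ⟨hdir, hne, -, -, hcomp, hsurj, -⟩ := hcolim
  haveI := hdir
  haveI := hne
  choose idx x hx using hsurj
  obtain ⟨j, hj⟩ := Finset.exists_le ((insert s F).image idx)
  have hrange : ∀ a ∈ insert s F, a ∈ Set.range (algebraMap (G j) A') := fun a ha => by
    refine ⟨g (idx a) j (hj _ (Finset.mem_image_of_mem idx ha)) (x a), ?_⟩
    refine Eq.trans ?_ (hx a)
    exact RingHom.congr_fun (hcomp (idx a) j _) (x a)
  obtain ⟨s₁, hs₁⟩ := hrange s (Finset.mem_insert_self _ _)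
  haveI := himp.2.2.2.1
  refine ⟨j, h (G j) (fun a ha => hrange a (Finset.mem_insert_of_mem ha)) s₁ hs₁ (t.comap (algebraMap (G j) A'))
    inferInstance ⟨?_⟩ le_rfl (fun hmem => hs (hs₁ ▸ hmem)) _ ⟨AlgEquiv.refl, Ideal.map_id _⟩⟩
  rw [t.over_def p]
  show Ideal.comap _ t = Ideal.comap _ (Ideal.comap _ t)
  rw [Ideal.comap_comap, ← IsScalarTower.algebraMap_eq A (G j) A']

end Groth.Agent.S1296
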