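import Groth.Statements.S12966
import Groth.Agent.Lib.AlgSt.Graph


set_option autoImplicit false
set_option backward.isDefEq.respectTransparency false
set_option backward.isDefEq.respectTransparency.types false
universe u
open CategoryTheory AlgebraicGeometry
open AlgSt

namespace Groth.Agent.S12966

/-- A section s : 𝒯 → 𝒳 of a quasi-DM morphism f : 𝒳 → 𝒯 of algebraic stacks (f ∘ s is 2-isomorphic to
the identity) is representable by algebraic spaces and locally quasi-finite (and locally of finite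
type). -/
theorem result
    (S : Scheme.{u}) (𝒳 : AlgSt.Cat S) (𝒯 : AlgSt.Cat S)
    (h𝒳 : AlgSt.IsAlgStack Scheme.fppfPrecoverage 𝒳)
    (h𝒯 : AlgSt.IsAlgStack Scheme.fppfPrecoverage 𝒯)
    (f : 𝒳 ⥤ᵇ 𝒯) (s : 𝒯 ⥤ᵇ 𝒳) (e : BasedFunctor.comp s f ≅ BasedFunctor.id 𝒯) :
    AlgSt.IsQuasiDMMor f → AlgSt.RepByAlgSpWith (AlgSp.LocP (@LocallyQuasiFinite ⊓ @LocallyOfFiniteType)) s := by
  exact fun h => GrothLib.AlgSt.compStable_locP_lqf.repByAlgSpWith_section
    (GrothLib.AlgSt.locP_id fun _ _ t (_ : Etale t) =>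
      ⟨GrothLib.AlgSp.locallyQuasiFinite_of_unramified t, inferInstance⟩) h𝒳 h𝒯 f s e h

end Groth.Agent.S12966
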