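import Groth.Statements.S12967
import Groth.Agent.Lib.AlgSt.Graph


set_option autoImplicit false
set_option backward.isDefEq.respectTransparency false
set_option backward.isDefEq.respectTransparency.types false
universe u
open CategoryTheory AlgebraicGeometry
open AlgSt

namespace Groth.Agent.S12967

/-- A section s : 𝒯 → 𝒳 of a separated morphism f : 𝒳 → 𝒯 of algebraic stacks (f ∘ s is 2-isomorphic to
the identity) is representable by algebraic spaces and proper. -/
theorem result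
    (S : Scheme.{u}) (𝒳 : AlgSt.Cat S) (𝒯 : AlgSt.Cat S)
    (h𝒳 : AlgSt.IsAlgStack Scheme.fppfPrecoverage 𝒳)
    (h𝒯 : AlgSt.IsAlgStack Scheme.fppfPrecoverage 𝒯)
    (f : 𝒳 ⥤ᵇ 𝒯) (s : 𝒯 ⥤ᵇ 𝒳) (e : BasedFunctor.comp s f ≅ BasedFunctor.id 𝒯) :
    AlgSt.IsSeparatedMor f → AlgSt.RepByAlgSpWith AlgSp.IsProperMor s := by
  exact fun h => GrothLib.AlgSt.compStable_isProperMor.repByAlgSpWith_section GrothLib.AlgSt.isProperMor_id h𝒳 h𝒯 f s e h

end Groth.Agent.S12967
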