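import Groth.Statements.S12969
import Groth.Agent.Lib.AlgSt.DescPoints
import Groth.Agent.Lib.AlgSt.DiagRep


set_option autoImplicit false
set_option backward.isDefEq.respectTransparency false
set_option backward.isDefEq.respectTransparency.types false
universe u
open CategoryTheory AlgebraicGeometry
open AlgSt

namespace Groth.Agent.S12969

open GrothLib.AlgSt

/-- Let 𝒳 be an algebraic stack and W → 𝒳 a surjective, flat, locally finitely presented morphism from
an algebraic space which is moreover unramified. Then 𝒳 is DM over the base scheme: its diagonal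
over the base is unramified. (The published statement concludes DM over the integers; this row
concludes it over the base scheme, which is equivalent for algebraic stacks.) -/
theorem result
    (S : Scheme.{u}) (𝒳 : AlgSt.Cat S)
    (h𝒳 : AlgSt.IsAlgStack Scheme.fppfPrecoverage 𝒳)
    (W : AlgSp.Space S) (w : AlgSt.ofSp W.obj ⥤ᵇ 𝒳)
    (hw₁ : AlgSt.RepByAlgSpWith (AlgSp.LocP @Flat) w)
    (hw₂ : AlgSt.RepByAlgSpWith (AlgSp.LocP @LocallyOfFinitePresentation) w)
    (hw₃ : AlgSt.RepByAlgSpWith AlgSp.IsSurjectiveMor w)
    (hw₄ : AlgSt.RepByAlgSpWith (AlgSp.LocP (@LocallyOfFiniteType ⊓ @FormallyUnramified)) w) :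
    AlgSt.IsDMOver 𝒳 := by
    exact repByAlgSpWith_diag_toSelf_of_space_cover compStable_locP_unramified
      (descendsToSchemes_locP (GrothLib.AlgSp.EtLocal.lft.inf GrothLib.AlgSp.EtLocal.formallyUnramified)
        (GrothLib.AlgSp.fppfDescends_lft.inf GrothLib.AlgSp.fppfDescends_formallyUnramified))
      (fun hr => repByAlgSpWith_mono (fun _ _ a _ hY h => GrothLib.AlgSp.EtLocal.locP_of_repWith
        (GrothLib.AlgSp.EtLocal.lft.inf GrothLib.AlgSp.EtLocal.formallyUnramified) hY
        (GrothLib.AlgSp.repWith_mono h fun _ _ t ht => by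
          have : Mono t := ht.1.2
          exact ⟨ht.1.1, inferInstance⟩)) (repByAlgSpWith_repWith_diag hr))
      h𝒳 W w hw₁ hw₂ hw₃ hw₄

end Groth.Agent.S12969
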