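import Groth.Statements.S12971
import Groth.Agent.Lib.AlgSt.Graph
import Groth.Agent.S12947


set_option autoImplicit false
set_option backward.isDefEq.respectTransparency false
set_option backward.isDefEq.respectTransparency.types false
universe u
open CategoryTheory AlgebraicGeometry
open AlgSt

namespace Groth.Agent.S12971

/-- A monomorphism of algebraic stacks (representable by algebraic spaces and a monomorphism) is
separated and DM. -/
theorem result
    (S : Scheme.{u}) (𝒳 : AlgSt.Cat S) (𝒴 : AlgSt.Cat S)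
    (h𝒳 : AlgSt.IsAlgStack Scheme.fppfPrecoverage 𝒳)
    (h𝒴 : AlgSt.IsAlgStack Scheme.fppfPrecoverage 𝒴)
    (f : 𝒳 ⥤ᵇ 𝒴) :
    AlgSt.IsMono f → AlgSt.IsSeparatedMor f ∧ AlgSt.IsDMMor f := by
  intro hf
  have hf1 := GrothLib.AlgSt.repByAlgSp1_of_repByAlgSpWith hf
  refine ⟨?_, Groth.Agent.S12947.result S 𝒳 𝒴 h𝒳 h𝒴 f hf1⟩
  refine GrothLib.AlgSt.repByAlgSpWith_mono (fun X Y a hX hY hc => GrothLib.AlgSt.isProperMor_of_isClosedImmersion hX hY hc)
    (GrothLib.AlgSt.repByAlgSpWith_repWith_diag_of @IsClosedImmersion _ (fun X Y a ha => ?_) hf)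
  have : Mono a.hom := ha
  exact GrothLib.AlgSp.repWith_iso (CategoryTheory.Limits.pullback.diagonal a.hom)

end Groth.Agent.S12971
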