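import Groth.Statements.S12973
import Groth.Agent.Lib.AlgSt.InertiaDiag
import Groth.Agent.S12944


set_option autoImplicit false
set_option backward.isDefEq.respectTransparency false
set_option backward.isDefEq.respectTransparency.types false
universe u
open CategoryTheory AlgebraicGeometry
open AlgSt

namespace Groth.Agent.S12973

/-- For a morphism f : 𝒳 → 𝒴 of algebraic stacks the following are equivalent: the relative inertia
𝓘_{𝒳/𝒴} → 𝒳 is quasi-separated; the diagonal of f is quasi-separated; the neutral section 𝒳 →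
𝓘_{𝒳/𝒴} is quasi-compact. All three morphisms are representable by algebraic spaces and the
properties are the ones of such morphisms. -/
theorem result
    (S : Scheme.{u}) (𝒳 : AlgSt.Cat S) (𝒴 : AlgSt.Cat S)
    (h𝒳 : AlgSt.IsAlgStack Scheme.fppfPrecoverage 𝒳)
    (h𝒴 : AlgSt.IsAlgStack Scheme.fppfPrecoverage 𝒴)
    (f : 𝒳 ⥤ᵇ 𝒴) :
    [AlgSt.RepByAlgSpWith AlgSp.IsQuasiSeparatedMor (FibCat.inertiaToBase f),
      AlgSt.RepByAlgSpWith AlgSp.IsQuasiSeparatedMor (FibCat.diag f),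
      AlgSt.RepByAlgSpWith AlgSp.IsQuasiCompactMor (FibCat.inertiaNeutral f)].TFAE := by
  have hff := GrothLib.AlgSt.isAlgStack_fp h𝒴.isStack h𝒴.diag h𝒳 h𝒳 f f
  have hd := GrothLib.AlgSt.repByAlgSp1_diag h𝒳 h𝒴 f
  have h34 := (Groth.Agent.S12944.result S 𝒳 (FibCat.fp f f) h𝒳 hff (FibCat.diag f) hd).out 0 1
  tfae_have 2 → 1 := fun h => (GrothLib.AlgSt.repByAlgSpWith_inertiaToBase_iff f).2
    (GrothLib.AlgSt.repByAlgSpWith_fpFst (FibCat.diag f) h)
  tfae_have 1 → 3 := fun h => GrothLib.AlgSt.repByAlgSpWith_mono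
    (fun _ _ _ _ _ h => GrothLib.AlgSp.isQuasiCompactMor_of_repWith h)
    (GrothLib.AlgSt.repByAlgSpWith_repWith_neutral @QuasiCompact h𝒳 h𝒴 f (fun _ _ _ hR => hR) h)
  tfae_have 3 → 2 := fun h => h34.2 ((GrothLib.AlgSt.repByAlgSpWith_inertiaNeutral_iff f).1 h)
  tfae_finish

end Groth.Agent.S12973
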