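import Groth.Statements.S12975
import Groth.Agent.Lib.AlgSt.SelfBase


set_option autoImplicit false
set_option backward.isDefEq.respectTransparency false
set_option backward.isDefEq.respectTransparency.types false
universe u
open CategoryTheory AlgebraicGeometry
open AlgSt

namespace Groth.Agent.S12975

/-- For a morphism f : 𝒳 → 𝒴 of algebraic stacks, the relative inertia 𝓘_{𝒳/𝒴} → 𝒳 is locally
quasi-finite if and only if f is quasi-DM. -/
theorem result
    (S : Scheme.{u}) (𝒳 : AlgSt.Cat S) (𝒴 : AlgSt.Cat S)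
    (h𝒳 : AlgSt.IsAlgStack Scheme.fppfPrecoverage 𝒳)
    (h𝒴 : AlgSt.IsAlgStack Scheme.fppfPrecoverage 𝒴)
    (f : 𝒳 ⥤ᵇ 𝒴) :
    AlgSt.RepByAlgSpWith (AlgSp.LocP (@LocallyQuasiFinite ⊓ @LocallyOfFiniteType)) (FibCat.inertiaToBase f) ↔
      AlgSt.IsQuasiDMMor f := by
  refine ⟨fun h => ?_, fun h => (GrothLib.AlgSt.repByAlgSpWith_inertiaToBase_iff f).2 (GrothLib.AlgSt.repByAlgSpWith_fpFst _ h)⟩
  have hE := GrothLib.AlgSp.EtLocal.lqf.inf GrothLib.AlgSp.EtLocal.lft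
  exact GrothLib.AlgSt.repByAlgSpWith_diag_of_inertia GrothLib.AlgSt.compStable_locP_lqf
    (fun _ _ b hF hl hb => GrothLib.AlgSt.locP_of_pullback_fst hE (fun _ _ g hg hq => by
      have := hg
      exact ⟨GrothLib.AlgSt.locallyQuasiFinite_of_pullback_fst g hq.1, hg⟩) hF b hl hb) h𝒳 h𝒴 f h

end Groth.Agent.S12975
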