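import Groth.Statements.S12978
import Groth.Agent.Lib.AlgSt.RepKernel


set_option autoImplicit false
set_option backward.isDefEq.respectTransparency false
set_option backward.isDefEq.respectTransparency.types false
universe u
open CategoryTheory AlgebraicGeometry
open AlgSt

namespace Groth.Agent.S12978

/-- A morphism f of algebraic stacks whose diagonal is a monomorphism (representable by algebraic spaces
and a monomorphism) is representable by algebraic spaces. Together with the forward direction (a
morphism representable by algebraic spaces has monomorphic diagonal) this characterises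
representability by the first diagonal. -/
theorem result
    (S : Scheme.{u}) (𝒳 : AlgSt.Cat S) (𝒴 : AlgSt.Cat S)
    (h𝒳 : AlgSt.IsAlgStack Scheme.fppfPrecoverage 𝒳)
    (h𝒴 : AlgSt.IsAlgStack Scheme.fppfPrecoverage 𝒴)
    (f : 𝒳 ⥤ᵇ 𝒴) :
    AlgSt.IsMono (FibCat.diag f) → AlgSt.RepByAlgSp1 f := by
  intro h
  have hff := GrothLib.AlgSt.isAlgStack_fp h𝒴.isStack h𝒴.diag h𝒳 h𝒳 f f
  have := (GrothLib.AlgSt.full_faithful_of_isMono h𝒳.isStack.1 hff.isStack.1 _ h).1
  exact (GrothLib.AlgSt.repByAlgSp1_iff_trivKernel h𝒳 h𝒴 f).2 (GrothLib.FibCat.trivKernel_of_full_diag f)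

end Groth.Agent.S12978
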