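import Groth.Statements.S12979
import Groth.Agent.Lib.AlgSt.DiagRep
import Groth.Agent.Lib.AlgSt.DiagLFT
import Groth.Agent.Lib.AlgSt.SepComp
import Groth.Agent.Lib.AlgSp.UnramMono
import Groth.Agent.Lib.AlgSp.UnivClosed


set_option autoImplicit false
set_option backward.isDefEq.respectTransparency false
set_option backward.isDefEq.respectTransparency.types false
universe u
open CategoryTheory AlgebraicGeometry
open AlgSt

namespace Groth.Agent.S12979

/-- If the first and second diagonals of a morphism f of algebraic stacks are both universally closed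
(as morphisms representable by algebraic spaces), then f is separated. (The published statement is
an equivalence; this row states the implication from the two diagonals to separatedness.) -/
theorem result
    (S : Scheme.{u}) (𝒳 : AlgSt.Cat S) (𝒴 : AlgSt.Cat S)
    (h𝒳 : AlgSt.IsAlgStack Scheme.fppfPrecoverage 𝒳)
    (h𝒴 : AlgSt.IsAlgStack Scheme.fppfPrecoverage 𝒴)
    (f : 𝒳 ⥤ᵇ 𝒴) :
    AlgSt.RepByAlgSpWith AlgSp.IsUnivClosedMor (FibCat.diag f) →
      AlgSt.RepByAlgSpWith AlgSp.IsUnivClosedMor (FibCat.diag (FibCat.diag f)) → AlgSt.IsSeparatedMor f := by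
  intro h1 h2
  have hd : AlgSt.RepByAlgSp1 (FibCat.diag f) := GrothLib.AlgSt.repByAlgSp1_of_repByAlgSpWith h1
  have hcl : AlgSt.RepByAlgSpWith (AlgSp.RepWith @IsClosedImmersion) (FibCat.diag (FibCat.diag f)) :=
    GrothLib.AlgSt.repByAlgSpWith_diag_mono hd h2 fun X Y a hX hY ha huc => by
      have : Mono a := GrothLib.AlgSp.mono_of_repWith_mono (GrothLib.AlgSp.repWith_mono ha fun _ _ _ h => h.1.2)
      exact GrothLib.AlgSp.repWith_isClosedImmersion_of hX hY huc
        (GrothLib.AlgSp.EtLocal.locP_of_repWith GrothLib.AlgSp.EtLocal.lft hY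
          (GrothLib.AlgSp.repWith_mono ha fun _ _ _ h => h.1.1))
  have hsep : AlgSt.RepByAlgSpWith AlgSp.IsSeparatedMor (FibCat.diag f) :=
    GrothLib.AlgSt.repByAlgSpWith_of_repWith_diag @IsClosedImmersion _ (fun _ _ _ h => h) hd hcl
  refine GrothLib.AlgSt.repByAlgSpWith_mono (fun X Y a hX hY h => ?_)
    (GrothLib.AlgSt.repByAlgSpWith_inf GrothLib.AlgSt.isoInvariant_locP
      (GrothLib.AlgSt.repByAlgSpWith_lft_diag h𝒳 h𝒴 f)
      (GrothLib.AlgSt.repByAlgSpWith_inf
        (GrothLib.AlgSt.isoInvariant_repWith_diagonal @IsClosedImmersion) hsep h1))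
  exact ⟨h.2.1, ⟨h.1, GrothLib.AlgSp.isQuasiCompactMor_of_isUnivClosedMor hX hY h.2.2⟩, h.2.2⟩

end Groth.Agent.S12979
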