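import Groth.Statements.S1298
import Groth.Agent.Lib.FibreDim6.AvoidScheme
-- import your own Groth.Agent.* helpers here

set_option autoImplicit false
universe u
open FlatMor

namespace Groth.Agent.S1298

open AlgebraicGeometry CategoryTheory Limits in
/-- Let f be of finite type with irreducible target and let Z be a closed subset of the source whose
trace on the generic fibre is nowhere dense there. Then over some nonempty open of the target every
fibre of Z is nowhere dense in the corresponding fibre of f. -/
theorem result {X Y : Scheme.{u}} (f : X ⟶ Y) [IrreducibleSpace ↑Y] [LocallyOfFiniteType f] [QuasiCompact f]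
    (Z : Set ↑X) (hZ : IsClosed Z) (h : IsNowhereDense ((f.fiberι (genericPoint ↑Y)) ⁻¹' Z)) :
    ∃ V : Y.Opens, (V : Set ↑Y).Nonempty ∧ ∀ y ∈ V, IsNowhereDense ((f.fiberι y) ⁻¹' Z) := by
  exact GrothLib.FibreDim6.exists_nowhereDense f Z hZ h

end Groth.Agent.S1298
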