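import Groth.Statements.S12984
import Groth.Agent.Lib.AlgSt.QCMor


set_option autoImplicit false
set_option backward.isDefEq.respectTransparency false
set_option backward.isDefEq.respectTransparency.types false
universe u
open CategoryTheory AlgebraicGeometry
open AlgSt

namespace Groth.Agent.S12984

/-- A closed immersion of algebraic stacks is quasi-compact. -/
theorem result
    (S : Scheme.{u}) (𝒳 : AlgSt.Cat S) (𝒴 : AlgSt.Cat S)
    (h𝒳 : AlgSt.IsAlgStack Scheme.fppfPrecoverage 𝒳)
    (h𝒴 : AlgSt.IsAlgStack Scheme.fppfPrecoverage 𝒴)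
    (f : 𝒳 ⥤ᵇ 𝒴) :
    AlgSt.IsClosedImm f → AlgSt.IsQuasiCompactMor Scheme.fppfPrecoverage f := by
  exact fun h => GrothLib.AlgSt.isQuasiCompactMor_of_repByAlgSpWith h𝒳 h𝒴 f
    (GrothLib.AlgSt.repByAlgSpWith_mono (fun _ _ _ _ _ hc => GrothLib.AlgSp.isQuasiCompactMor_of_repWith
      (GrothLib.AlgSp.repWith_mono hc fun _ _ t (_ : IsClosedImmersion t) => inferInstance)) h)

end Groth.Agent.S12984
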