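import Groth.Statements.S12988
import Groth.Agent.Lib.AlgSt.QC
import Groth.Agent.Lib.AlgSt.SepComp
import Groth.Agent.Lib.AlgSt.DiagRep
import Groth.Agent.Lib.AlgSt.FibreProduct
import Groth.Agent.Lib.AlgSt.QCMor
import Groth.Agent.Lib.AlgSp.UnivClosed


set_option autoImplicit false
set_option backward.isDefEq.respectTransparency false
set_option backward.isDefEq.respectTransparency.types false
universe u
open CategoryTheory AlgebraicGeometry
open AlgSt

namespace Groth.Agent.S12988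

/-- Over a quasi-separated base scheme, a 2-fibre product of algebraic stacks that are quasi-compact and
quasi-separated over the base scheme is quasi-compact and quasi-separated over the base scheme. (The
published statement is about stacks quasi-compact and quasi-separated over the integers and puts no
condition on the base scheme; this row assumes the base scheme quasi-separated and uses
quasi-separatedness over it. Without quasi-separatedness of the base the quasi-compactness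
conclusion fails: for the base glued from two copies of infinite-dimensional affine space along the
complement of the origin, the two copies are quasi-compact and quasi-separated over the base while
their fibre product over the base is that complement, which is not quasi-compact.) -/
theorem result
    (S : Scheme.{u}) [QuasiSeparatedSpace S] (𝒳 : AlgSt.Cat S) (𝒴 : AlgSt.Cat S) (𝒵 : AlgSt.Cat S)
    (h𝒳 : AlgSt.IsAlgStack Scheme.fppfPrecoverage 𝒳)
    (h𝒴 : AlgSt.IsAlgStack Scheme.fppfPrecoverage 𝒴)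
    (h𝒵 : AlgSt.IsAlgStack Scheme.fppfPrecoverage 𝒵)
    (a : 𝒳 ⥤ᵇ 𝒴) (b : 𝒵 ⥤ᵇ 𝒴) :
    AlgSt.IsQuasiCompact 𝒳 → AlgSt.IsQuasiSeparatedOver 𝒳 →
      AlgSt.IsQuasiCompact 𝒴 → AlgSt.IsQuasiSeparatedOver 𝒴 →
      AlgSt.IsQuasiCompact 𝒵 → AlgSt.IsQuasiSeparatedOver 𝒵 →
      AlgSt.IsQuasiCompact (FibCat.fp a b) ∧ AlgSt.IsQuasiSeparatedOver (FibCat.fp a b) := by
  intro hqX hsX hqY hsY hqZ hsZ
  have hsY' : AlgSt.RepByAlgSpWith AlgSp.IsQuasiCompactMor (FibCat.diag (FibCat.toSelf 𝒴)) :=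
    GrothLib.AlgSt.repByAlgSpWith_mono (fun _ _ _ _ _ h => h.1) hsY
  have ha := GrothLib.AlgSt.isQuasiCompactMor_of_isQuasiCompact h𝒳 h𝒴 hsY' a hqX
  have hW := GrothLib.AlgSt.isAlgStack_fp h𝒴.isStack h𝒴.diag h𝒳 h𝒵 a b
  refine ⟨GrothLib.AlgSt.isQuasiCompact_of_isEquivOver _ (GrothLib.FibCat.Fp.isEquivOver_symm b a) (ha 𝒵 h𝒵 hqZ b), ?_⟩
  have hbase : ∀ {𝒜 ℬ : AlgSt.Cat S} (m : 𝒜 ⥤ᵇ ℬ), BasedFunctor.comp m (FibCat.toSelf ℬ) = FibCat.toSelf 𝒜 := by
    intro 𝒜 ℬ m
    have e : (BasedFunctor.comp m (FibCat.toSelf ℬ)).toFunctor = (FibCat.toSelf 𝒜).toFunctor := m.w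
    generalize FibCat.toSelf 𝒜 = G at e ⊢
    generalize BasedFunctor.comp m (FibCat.toSelf ℬ) = F at e ⊢
    cases F; cases G; cases e; rfl
  have hD : AlgSt.RepByAlgSp1 (FibCat.diag (FibCat.toSelf 𝒴)) := GrothLib.AlgSt.repByAlgSp1_of_repByAlgSpWith hsY
  have hDD : AlgSt.RepByAlgSpWith (AlgSp.IsQuasiCompactMor ⊓ AlgSp.IsQuasiSeparatedMor)
      (FibCat.diag (FibCat.diag (FibCat.toSelf 𝒴))) := by
    refine GrothLib.AlgSt.repByAlgSpWith_diag_mono hD (GrothLib.AlgSt.repByAlgSpWith_repWith_diag_of @QuasiCompact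
      AlgSp.IsQuasiSeparatedMor (fun X Y c hc => hc) (GrothLib.AlgSt.repByAlgSpWith_mono (fun _ _ _ _ _ h => h.2) hsY))
      fun X Y c _ _ h1 h2 => ⟨GrothLib.AlgSp.isQuasiCompactMor_of_repWith h2, ?_⟩
    exact GrothLib.AlgSp.isQuasiSeparatedMor_of_isSeparatedMor ((GrothLib.AlgSp.isSeparatedMor_iff_repWith h2.1).2
      (GrothLib.AlgSp.repWith_mono h1 fun _ _ _ ht => ht.2.1))
  have hb : AlgSt.RepByAlgSpWith (AlgSp.IsQuasiCompactMor ⊓ AlgSp.IsQuasiSeparatedMor) (FibCat.diag b) :=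
    GrothLib.AlgSt.compStable_qcqs.repByAlgSpWith_diag_of_comp h𝒵 h𝒴 (GrothLib.AlgSt.isDM_of_repByAlgSp (GrothLib.AlgSt.repByAlgSp_selfOver (S := S))).1 b
      (FibCat.toSelf 𝒴) (by rw [hbase b]; exact hsZ) hDD
  have h := GrothLib.AlgSt.compStable_qcqs.repByAlgSpWith_diag_comp hW h𝒳 (FibCat.fpFst a b) (FibCat.toSelf 𝒳)
    (GrothLib.AlgSt.repByAlgSpWith_diag_fpFst b a hb) hsX
  show AlgSt.IsQuasiSeparatedMor (FibCat.toSelf (FibCat.fp a b))
  rw [← hbase (FibCat.fpFst a b)]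
  exact h

end Groth.Agent.S12988
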