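import Groth.Statements.S12996
import Groth.Agent.Lib.AlgSt.LocQRep
import Groth.Agent.Lib.AlgSp.SmoothLocalLocP


set_option autoImplicit false
set_option backward.isDefEq.respectTransparency false
set_option backward.isDefEq.respectTransparency.types false
universe u
open CategoryTheory AlgebraicGeometry
open AlgSt

namespace Groth.Agent.S12996

/-- An immersion of algebraic stacks is locally of finite type. -/
theorem result
    (S : Scheme.{u}) (𝒳 : AlgSt.Cat S) (𝒴 : AlgSt.Cat S)
    (h𝒳 : AlgSt.IsAlgStack Scheme.fppfPrecoverage 𝒳)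
    (h𝒴 : AlgSt.IsAlgStack Scheme.fppfPrecoverage 𝒴)
    (f : 𝒳 ⥤ᵇ 𝒴) :
    AlgSt.IsImm f → AlgSt.LocQ (AlgSp.LocP @LocallyOfFiniteType) f := by
  intro h
  refine GrothLib.AlgSt.locQ_of_repByAlgSpWith GrothLib.AlgSp.isSmoothLocalST_lft h𝒴
    (GrothLib.AlgSt.repByAlgSpWith_mono (fun X Y a _ hY ha => ?_) h)
  exact GrothLib.AlgSp.EtLocal.locP_of_repWith GrothLib.AlgSp.EtLocal.lft hY
    (GrothLib.AlgSp.repWith_mono ha fun _ _ t ht => by
      have : IsImmersion t := ht
      exact (inferInstance : LocallyOfFiniteType t))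

end Groth.Agent.S12996
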