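import Groth.Statements.S1300
import Groth.Agent.Lib.RelAss13.SchDom
-- import your own Groth.Agent.* helpers here

set_option autoImplicit false
universe u
open FlatMor

namespace Groth.Agent.S1300

open AlgebraicGeometry CategoryTheory Limits in
/-- Let f be of finite type with irreducible target and let U be an open of the source whose trace on
the generic fibre is scheme theoretically dense in it (the inclusion has trivial kernel ideal
sheaf). Then over some nonempty open of the target the trace of U on every fibre is scheme
theoretically dense in that fibre. -/
theorem result {X Y : Scheme.{u}} (f : X ⟶ Y) [IrreducibleSpace ↑Y] [LocallyOfFiniteType f] [QuasiCompact f]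
    (U : X.Opens) (h : IsSchemeTheoreticallyDominant (f.fiberι (genericPoint ↑Y) ⁻¹ᵁ U).ι) :
    ∃ V : Y.Opens, (V : Set ↑Y).Nonempty ∧ ∀ y ∈ V, IsSchemeTheoreticallyDominant (f.fiberι y ⁻¹ᵁ U).ι := by
  exact GrothLib.RelAss13.exists_open_schDom f U h


end Groth.Agent.S1300
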