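import Groth.Statements.S13000
import Groth.Agent.Lib.AlgSt.LocQChart
import Groth.Agent.Lib.AlgSp.FppfDescent


set_option autoImplicit false
set_option backward.isDefEq.respectTransparency false
set_option backward.isDefEq.respectTransparency.types false
universe u
open CategoryTheory AlgebraicGeometry
open AlgSt

namespace Groth.Agent.S13000

/-- Let f : 𝒳 → 𝒴 be a morphism of algebraic stacks and W → 𝒴 a surjective, flat, locally finitely
presented morphism whose source is an algebraic space. Whenever the projection to W from W ×_𝒴 𝒳 is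
locally of finite type, so is f. -/
theorem result
    (S : Scheme.{u}) (𝒳 : AlgSt.Cat S) (𝒴 : AlgSt.Cat S)
    (h𝒳 : AlgSt.IsAlgStack Scheme.fppfPrecoverage 𝒳)
    (h𝒴 : AlgSt.IsAlgStack Scheme.fppfPrecoverage 𝒴)
    (f : 𝒳 ⥤ᵇ 𝒴)
    (W : AlgSp.Space S) (w : AlgSt.ofSp W.obj ⥤ᵇ 𝒴)
    (hw₁ : AlgSt.RepByAlgSpWith (AlgSp.LocP @Flat) w)
    (hw₂ : AlgSt.RepByAlgSpWith (AlgSp.LocP @LocallyOfFinitePresentation) w)
    (hw₃ : AlgSt.RepByAlgSpWith AlgSp.IsSurjectiveMor w) :
    AlgSt.LocQ (AlgSp.LocP @LocallyOfFiniteType) (FibCat.fpFst w f) → AlgSt.LocQ (AlgSp.LocP @LocallyOfFiniteType) f := by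
  have hW : AlgSt.IsAlgStack Scheme.fppfPrecoverage (AlgSt.ofSp W.obj) :=
    (GrothLib.AlgSt.isDM_of_repByAlgSp (GrothLib.AlgSt.repByAlgSp_ofSp W.property)).1
  intro h
  obtain ⟨U, V, R, a, c, hcs, hm, hf⟩ := GrothLib.AlgSt.exists_descent_square h𝒳 h𝒴 hW f w
  have : Surjective c.left := hcs ((GrothLib.AlgSt.isSurjective_iff_repByAlgSpWith hW.isStack.1 h𝒴.isStack.1 w
    (GrothLib.AlgSt.repByAlgSp1_of_repByAlgSpWith hw₁)).2 hw₃)
  have : Flat c.left := GrothLib.AlgSt.left_of_locP_yon ((hm GrothLib.AlgSp.isSmoothLocalST_flat).1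
    (GrothLib.AlgSt.locQ_of_repByAlgSpWith GrothLib.AlgSp.isSmoothLocalST_flat h𝒴 hw₁))
  have : LocallyOfFinitePresentation c.left := GrothLib.AlgSt.left_of_locP_yon
    ((hm GrothLib.AlgSp.isSmoothLocalST_lfp).1
      (GrothLib.AlgSt.locQ_of_repByAlgSpWith GrothLib.AlgSp.isSmoothLocalST_lfp h𝒴 hw₂))
  refine hf (GrothLib.AlgSt.locP_yon_of_left GrothLib.AlgSp.EtLocal.lft ?_)
  exact GrothLib.AlgSp.fppfDescends_lft a.left c.left (CategoryTheory.Limits.pullback.snd c a).left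
    (CategoryTheory.Limits.pullback.fst c a).left
    (GrothLib.AlgSp.isPullback_left (IsPullback.of_hasPullback c a)).flip inferInstance inferInstance inferInstance
    (GrothLib.AlgSt.left_of_locP_yon ((hm GrothLib.AlgSp.isSmoothLocalST_lft).2 h))

end Groth.Agent.S13000
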