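import Groth.Statements.S13006
import Groth.Agent.Lib.AlgSt.DiagLFP


set_option autoImplicit false
set_option backward.isDefEq.respectTransparency false
set_option backward.isDefEq.respectTransparency.types false
universe u
open CategoryTheory AlgebraicGeometry
open AlgSt

namespace Groth.Agent.S13006

/-- If a morphism f of algebraic stacks is locally of finite type then its diagonal is locally of finite
presentation. (The second assertion adds the quasi-compactness clauses on both sides.) -/
theorem result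
    (S : Scheme.{u}) (𝒳 : AlgSt.Cat S) (𝒴 : AlgSt.Cat S)
    (h𝒳 : AlgSt.IsAlgStack Scheme.fppfPrecoverage 𝒳)
    (h𝒴 : AlgSt.IsAlgStack Scheme.fppfPrecoverage 𝒴)
    (f : 𝒳 ⥤ᵇ 𝒴) :
    AlgSt.LocQ (AlgSp.LocP @LocallyOfFiniteType) f → AlgSt.LocQ (AlgSp.LocP @LocallyOfFinitePresentation) (FibCat.diag f) := by
  intro hf
  exact GrothLib.AlgSt.locQ_of_repByAlgSpWith GrothLib.AlgSp.isSmoothLocalST_lfp
    (GrothLib.AlgSt.isAlgStack_fp h𝒴.isStack h𝒴.diag h𝒳 h𝒳 f f)
    (GrothLib.AlgSt.repByAlgSpWith_lfp_diag h𝒳 h𝒴 f hf)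

end Groth.Agent.S13006
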