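import Groth.Statements.S13008
import Groth.Agent.Lib.AlgSt.LocQChart


set_option autoImplicit false
set_option backward.isDefEq.respectTransparency false
set_option backward.isDefEq.respectTransparency.types false
universe u
open CategoryTheory AlgebraicGeometry
open AlgSt

namespace Groth.Agent.S13008

/-- A morphism of algebraic stacks which is flat and locally of finite presentation is open on the
spaces of points. -/
theorem result
    (S : Scheme.{u}) (𝒳 : AlgSt.Cat S) (𝒴 : AlgSt.Cat S)
    (h𝒳 : AlgSt.IsAlgStack Scheme.fppfPrecoverage 𝒳)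
    (h𝒴 : AlgSt.IsAlgStack Scheme.fppfPrecoverage 𝒴)
    (f : 𝒳 ⥤ᵇ 𝒴) :
    AlgSt.LocQ (AlgSp.LocP @Flat) f → AlgSt.LocQ (AlgSp.LocP @LocallyOfFinitePresentation) f → AlgSt.IsOpenMor f := by
  exact GrothLib.AlgSt.isOpenMor_of_flat_lfp h𝒳 h𝒴 f

end Groth.Agent.S13008
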