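import Groth.Statements.S13018
import Groth.Agent.S13017
import Groth.Agent.S12971
import Groth.Agent.S12955
import Groth.Agent.Lib.AlgSp.UnivClosed


set_option autoImplicit false
set_option backward.isDefEq.respectTransparency false
set_option backward.isDefEq.respectTransparency.types false
universe u
open CategoryTheory AlgebraicGeometry
open AlgSt

namespace Groth.Agent.S13018

theorem based_ext {S : Scheme.{u}} {𝒳 : AlgSt.Cat S} {G H : 𝒳 ⥤ᵇ FibCat.selfOver (Over S)} (h : G.toFunctor = H.toFunctor) : G = H := by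
  obtain ⟨G, hG⟩ := G; obtain ⟨H, hH⟩ := H
  obtain rfl : G = H := h
  rfl

theorem isQuasiSeparatedMor_of_isImm {S : Scheme.{u}} {𝒳 𝒴 : AlgSt.Cat S}
    (h𝒳 : AlgSt.IsAlgStack Scheme.fppfPrecoverage 𝒳) (h𝒴 : AlgSt.IsAlgStack Scheme.fppfPrecoverage 𝒴)
    (j : 𝒳 ⥤ᵇ 𝒴) (hj : AlgSt.IsImm j) : AlgSt.IsQuasiSeparatedMor j :=
  GrothLib.AlgSt.repByAlgSpWith_mono
    (fun _ _ _ _ _ h => ⟨h.2.1.2, GrothLib.AlgSp.isQuasiSeparatedMor_of_isSeparatedMor h.1⟩)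
    (Groth.Agent.S12971.result S 𝒳 𝒴 h𝒳 h𝒴 j (GrothLib.AlgSt.isMono_of_isImm hj)).1

/-- If j : 𝒳 → 𝒴 is an immersion of algebraic stacks and 𝒴 is Noetherian (quasi-compact, quasi-separated
and locally Noetherian) then so is 𝒳. (The published statement uses quasi-separatedness over the
integers; this row uses quasi-separatedness over the base scheme in hypothesis and conclusion.) -/
theorem result
    (S : Scheme.{u}) (𝒳 : AlgSt.Cat S) (𝒴 : AlgSt.Cat S)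
    (h𝒳 : AlgSt.IsAlgStack Scheme.fppfPrecoverage 𝒳)
    (h𝒴 : AlgSt.IsAlgStack Scheme.fppfPrecoverage 𝒴)
    (j : 𝒳 ⥤ᵇ 𝒴) (hj : AlgSt.IsImm j) :
    AlgSt.IsQuasiCompact 𝒴 → AlgSt.IsQuasiSeparatedOver 𝒴 → AlgSt.SmoothLocally (fun T ↦ IsLocallyNoetherian T) 𝒴 →
      AlgSt.IsQuasiCompact 𝒳 ∧ AlgSt.IsQuasiSeparatedOver 𝒳 ∧ AlgSt.SmoothLocally (fun T ↦ IsLocallyNoetherian T) 𝒳 := by
  intro hq hs hN
  obtain ⟨h1, h2⟩ := Groth.Agent.S13017.result S 𝒳 𝒴 h𝒳 h𝒴 j hj hN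
  refine ⟨?_, ?_, h1⟩
  · exact GrothLib.AlgSt.isQuasiCompact_of_isEquivOver _
      (GrothLib.FibCat.Fp.isEquivOver_fpSnd_of_isEquivOver (F := BasedFunctor.id 𝒴) j (GrothLib.FibCat.IsEquivOver.refl 𝒴))
      (h2 𝒴 h𝒴 hq (BasedFunctor.id 𝒴))
  · have heq : BasedFunctor.comp j (FibCat.toSelf 𝒴) = FibCat.toSelf 𝒳 := based_ext j.w
    have h := GrothLib.AlgSt.compStable_qcqs.repByAlgSpWith_diag_comp h𝒳 h𝒴 j (FibCat.toSelf 𝒴)
      (isQuasiSeparatedMor_of_isImm h𝒳 h𝒴 j hj) hs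
    show AlgSt.IsQuasiSeparatedMor (FibCat.toSelf 𝒳)
    rw [← heq]
    exact h

end Groth.Agent.S13018
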