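import Groth.Statements.S13020
import Groth.Agent.Lib.AlgSt.NoethStack


set_option autoImplicit false
set_option backward.isDefEq.respectTransparency false
set_option backward.isDefEq.respectTransparency.types false
universe u
open CategoryTheory AlgebraicGeometry
open AlgSt

namespace Groth.Agent.S13020

/-- If 𝒳 is a quasi-compact locally Noetherian algebraic stack then its space of points is a Noetherian
topological space. -/
theorem result
    (S : Scheme.{u}) (𝒳 : AlgSt.Cat S)
    (h𝒳 : AlgSt.IsAlgStack Scheme.fppfPrecoverage 𝒳) :
    AlgSt.IsQuasiCompact 𝒳 → AlgSt.SmoothLocally (fun T ↦ IsLocallyNoetherian T) 𝒳 → TopologicalSpace.NoetherianSpace (AlgSt.Points 𝒳) := by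
  exact GrothLib.AlgSt.noetherianSpace_points h𝒳

end Groth.Agent.S13020
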