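import Groth.Statements.S13022
import Groth.Agent.Lib.AlgSt.DescLocQ


set_option autoImplicit false
set_option backward.isDefEq.respectTransparency false
set_option backward.isDefEq.respectTransparency.types false
universe u
open CategoryTheory AlgebraicGeometry
open AlgSt

namespace Groth.Agent.S13022

open GrothLib.AlgSt GrothLib.FibCat Limits in
theorem chart_lifts {S : Scheme.{u}} {𝒳 𝒵 : AlgSt.Cat S} (h𝒳 : AlgSt.IsAlgStack Scheme.fppfPrecoverage 𝒳)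
    (h𝒵 : AlgSt.IsAlgStack Scheme.fppfPrecoverage 𝒵) (z : 𝒵 ⥤ᵇ 𝒳) (h₁ : AlgSt.LocQ (AlgSp.LocP @Flat) z)
    (h₂ : AlgSt.LocQ (AlgSp.LocP @LocallyOfFinitePresentation) z) {U : Over S} (y : FibCat.overCat U ⥤ᵇ 𝒳)
    (hy : AlgSt.RepByAlgSpWith (AlgSp.LocP @Smooth) y) :
    ∃ (W : Over S) (x : FibCat.overCat W ⥤ᵇ 𝒵) (h : W ⟶ U), Flat h.left ∧ LocallyOfFinitePresentation h.left ∧
      (∀ v, AlgSt.Points.ofChart y v ∈ Set.range (AlgSt.Points.map z) → v ∈ Set.range h.left) ∧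
      Nonempty (BasedFunctor.comp (GrothLib.FibCat.overMap h) y ≅ BasedFunctor.comp x z) := by
  obtain ⟨W, l, h, hl, ⟨β⟩, -, -, -⟩ := exists_atlas_over h𝒵 h𝒳 z y
  refine ⟨W, BasedFunctor.comp l (FibCat.fpFst z y), h,
    left_of_locP_yon (mem_of_locQ GrothLib.AlgSp.isSmoothLocalST_flat h₁ h𝒵 h𝒳 y hy l hl.1 h β),
    left_of_locP_yon (mem_of_locQ GrothLib.AlgSp.isSmoothLocalST_lfp h₂ h𝒵 h𝒳 y hy l hl.1 h β), fun v hv => ?_,
    ⟨whiskerRightIso β.symm y ≪≫ (whiskerLeftIso l (FibCat.fpIso z y)).symm⟩⟩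
  have hU := (isDM_of_repByAlgSp (repByAlgSp_overCat U)).1
  obtain ⟨p, hp⟩ := hv
  obtain ⟨w, -, hw⟩ := exists_points_fp hU.isStack.1 h𝒵.isStack.1 h𝒳.isStack.1 y z p
    (AlgSt.Points.ofChart (BasedFunctor.id _) v) (hp.trans (ofChart_eq_map y v))
  have hA := isAlgStack_fp h𝒳.isStack h𝒳.diag h𝒵 hU z y
  obtain ⟨u, rfl⟩ := surjective_ofChart hA.isStack.1 hl.2 w
  refine ⟨u, ?_⟩
  rw [← pointOf_ofChart_id v, ← hw, ← ofChart_comp, ofChart_congr β]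
  have e : AlgSt.Points.ofChart (AlgSt.overMap h) u =
      AlgSt.Points.ofChart (BasedFunctor.id (FibCat.overCat U)) (h.left u) :=
    ofChart_overMap h (BasedFunctor.id _) u
  exact ((congrArg pointOf e).trans (pointOf_ofChart_id _)).symm

open GrothLib.AlgSt GrothLib.FibCat Limits in
theorem lifted_iso {S : Scheme.{u}} {𝒳 𝒵 : AlgSt.Cat S} {z : 𝒵 ⥤ᵇ 𝒳} {U U₀ V₁ W : Over S}
    {x : FibCat.overCat U ⥤ᵇ 𝒳} {y₀ : FibCat.overCat U₀ ⥤ᵇ 𝒳} {c₁ : V₁ ⟶ U} {l₁ : V₁ ⟶ U₀} {h : W ⟶ U₀}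
    {w : FibCat.overCat W ⥤ᵇ 𝒵}
    (j : BasedFunctor.comp (GrothLib.FibCat.overMap c₁) x ≅ BasedFunctor.comp (GrothLib.FibCat.overMap l₁) y₀)
    (i : BasedFunctor.comp (GrothLib.FibCat.overMap h) y₀ ≅ BasedFunctor.comp w z) :
    ∃ x' : FibCat.overCat (Limits.pullback l₁ h) ⥤ᵇ 𝒵,
      Nonempty (BasedFunctor.comp x' z ≅ BasedFunctor.comp (AlgSt.overMap (Limits.pullback.fst l₁ h ≫ c₁)) x) :=
  ⟨BasedFunctor.comp (GrothLib.FibCat.overMap (Limits.pullback.snd l₁ h)) w,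
    ⟨((whiskerRightIso (overMapCompIso _ c₁) x).symm ≪≫
      whiskerLeftIso (GrothLib.FibCat.overMap (Limits.pullback.fst l₁ h)) j ≪≫
      whiskerRightIso (overMapCompIso _ l₁ ≪≫ eqToIso (congrArg GrothLib.FibCat.overMap Limits.pullback.condition) ≪≫
        (overMapCompIso _ h).symm) y₀ ≪≫
      whiskerLeftIso (GrothLib.FibCat.overMap (Limits.pullback.snd l₁ h)) i).symm⟩⟩

/-- Let f_j : 𝒳_j → 𝒳 be a family of flat, locally finitely presented morphisms of algebraic stacks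
which is jointly surjective on points. Then, given any scheme U and any object x of 𝒳 lying over U,
one can find an fppf covering {U_i → U}, indices j(i) and objects x_i of 𝒳_{j(i)} over U_i with
f_{j(i)}(x_i) ≅ x|_{U_i}. -/
theorem result
    (S : Scheme.{u}) (𝒳 : AlgSt.Cat S)
    (h𝒳 : AlgSt.IsAlgStack Scheme.fppfPrecoverage 𝒳)
    (J : Type u) (𝒳' : J → AlgSt.Cat S) (h𝒳' : ∀ j, AlgSt.IsAlgStack Scheme.fppfPrecoverage (𝒳' j))
    (f : ∀ j, 𝒳' j ⥤ᵇ 𝒳)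
    (hf₁ : ∀ j, AlgSt.LocQ (AlgSp.LocP @Flat) (f j)) (hf₂ : ∀ j, AlgSt.LocQ (AlgSp.LocP @LocallyOfFinitePresentation) (f j))
    (hf₃ : ∀ p : AlgSt.Points 𝒳, ∃ j, p ∈ Set.range (AlgSt.Points.map (f j)))
    (U : Over S) (x : FibCat.overCat U ⥤ᵇ 𝒳) :
    ∃ (ι : Type u) (V : ι → Over S) (g : ∀ i, V i ⟶ U) (c : ι → J),
      (Presieve.ofArrows (fun i ↦ (V i).left) fun i ↦ (g i).left) ∈ Scheme.fppfPrecoverage U.left ∧
      ∀ i, ∃ x' : FibCat.overCat (V i) ⥤ᵇ 𝒳' (c i),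
        Nonempty (BasedFunctor.comp x' (f (c i)) ≅ BasedFunctor.comp (AlgSt.overMap (g i)) x) := by
  obtain ⟨U₀, y₀, hy₀, hy₀s⟩ := h𝒳.atlas
  obtain ⟨V₁, c₁, l₁, hc₁, hc₁s, ⟨jiso⟩⟩ := GrothLib.AlgSt.exists_lift_chart x y₀ hy₀ hy₀s
  choose W w h hh1 hh2 hhs hi using fun j => chart_lifts h𝒳 (h𝒳' j) (f j) (hf₁ j) (hf₂ j) y₀ hy₀
  refine ⟨J, fun j => Limits.pullback l₁ (h j), fun j => Limits.pullback.fst l₁ (h j) ≫ c₁, id, ?_, fun j => ?_⟩
  · rw [Scheme.fppfPrecoverage, Scheme.ofArrows_mem_precoverage_iff]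
    refine ⟨fun v => ?_, fun j => ?_⟩
    · obtain ⟨v₁, rfl⟩ := hc₁s.surj v
      obtain ⟨j, hj⟩ := hf₃ (AlgSt.Points.ofChart y₀ (l₁.left v₁))
      obtain ⟨w', hw'⟩ := hhs j _ hj
      have sq := GrothLib.AlgSp.isPullback_left (IsPullback.of_hasPullback l₁ (h j))
      obtain ⟨q, hq, -⟩ := Scheme.Pullback.exists_preimage_pullback v₁ w' hw'.symm
      refine ⟨j, sq.isoPullback.inv q, ?_⟩
      change (Limits.pullback.fst l₁ (h j) ≫ c₁).left (sq.isoPullback.inv q) = c₁.left v₁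
      rw [Over.comp_left, Scheme.Hom.comp_apply]
      exact congrArg c₁.left ((Scheme.Hom.comp_apply _ _ _).symm.trans
        ((congrArg (fun t => t q) sq.isoPullback_inv_fst).trans hq))
    · have sq := GrothLib.AlgSp.isPullback_left (IsPullback.of_hasPullback l₁ (h j))
      have := hc₁
      have h1 : Flat (Limits.pullback.fst l₁ (h j)).left := MorphismProperty.of_isPullback sq.flip (hh1 j)
      have h2 : LocallyOfFinitePresentation (Limits.pullback.fst l₁ (h j)).left := MorphismProperty.of_isPullback sq.flip (hh2 j)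
      exact ⟨inferInstanceAs (Flat ((Limits.pullback.fst l₁ (h j)).left ≫ c₁.left)),
        inferInstanceAs (LocallyOfFinitePresentation ((Limits.pullback.fst l₁ (h j)).left ≫ c₁.left))⟩
  · obtain ⟨i⟩ := hi j
    exact lifted_iso jiso i

end Groth.Agent.S13022
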