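import Groth.Statements.S13035
import Groth.Agent.Lib.AlgSt.LocQChart
import Groth.Agent.Lib.AlgSt.Gerbe.AutScheme
import Groth.Agent.Lib.AlgSp.Valuative


set_option autoImplicit false
set_option backward.isDefEq.respectTransparency false
set_option backward.isDefEq.respectTransparency.types false
universe u
open CategoryTheory AlgebraicGeometry
open AlgSt

namespace Groth.Agent.S13035

open CategoryTheory.Limits GrothLib.AlgSt GrothLib.FibCat in
theorem ringHom_props {A B L : Type u} [CommRing A] [IsDomain A] [IsLocalRing A] [CommRing B] [IsDomain B]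
    [IsLocalRing B] [Field L] [Algebra B L] [FaithfulSMul B L] (φ : A →+* B)
    (hc : Spec.map (CommRingCat.ofHom φ) (IsLocalRing.closedPoint B) = IsLocalRing.closedPoint A)
    (hη : Spec.map (CommRingCat.ofHom ((algebraMap B L).comp φ)) (IsLocalRing.closedPoint L) =
      (⟨⊥, Ideal.isPrime_bot⟩ : PrimeSpectrum A)) :
    Function.Injective φ ∧ IsLocalHom φ := by
  constructor
  · have h : RingHom.ker ((algebraMap B L).comp φ) = ⊥ := by
      have e : PrimeSpectrum.asIdeal (Spec.map (CommRingCat.ofHom ((algebraMap B L).comp φ))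
        (IsLocalRing.closedPoint L)) = (⊥ : Ideal A) := congrArg PrimeSpectrum.asIdeal hη
      refine le_antisymm (fun x hx => ?_) bot_le
      rw [← e]
      change ((algebraMap B L).comp φ) x ∈ IsLocalRing.maximalIdeal L
      rw [RingHom.mem_ker] at hx
      rw [hx]
      exact Submodule.zero_mem _
    exact Function.Injective.of_comp (f := algebraMap B L) ((RingHom.injective_iff_ker_eq_bot _).2 h)
  · exact ((IsLocalRing.local_hom_TFAE φ).out 4 0).1 (congrArg PrimeSpectrum.asIdeal hc)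

/-- Let f : 𝒳 → 𝒴 be a flat morphism of algebraic stacks and Spec A → 𝒴 a morphism with A a valuation
ring whose closed point maps into the image of |𝒳| → |𝒴|. Then there are an extension of valuation
rings A → A' (an injective local homomorphism of valuation rings) and a morphism Spec A' → 𝒳 making
the square with Spec A' → Spec A → 𝒴 2-commute. -/
theorem result
    (S : Scheme.{u}) (𝒳 : AlgSt.Cat S) (𝒴 : AlgSt.Cat S)
    (h𝒳 : AlgSt.IsAlgStack Scheme.fppfPrecoverage 𝒳)
    (h𝒴 : AlgSt.IsAlgStack Scheme.fppfPrecoverage 𝒴)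
    (f : 𝒳 ⥤ᵇ 𝒴)
    (hf : AlgSt.LocQ (AlgSp.LocP @Flat) f)
    (A : Type u) [CommRing A] [IsDomain A] [ValuationRing A] (sA : Spec (CommRingCat.of A) ⟶ S)
    (a : FibCat.overCat (Over.mk sA) ⥤ᵇ 𝒴)
    (ha : AlgSt.Points.ofChart a (IsLocalRing.closedPoint A) ∈ Set.range (AlgSt.Points.map f)) :
    ∃ (A' : Type u) (_ : CommRing A') (_ : IsDomain A') (_ : ValuationRing A') (φ : A →+* A'),
      Function.Injective φ ∧ IsLocalHom φ ∧
      ∃ x : FibCat.overCat (Over.mk (Spec.map (CommRingCat.ofHom φ) ≫ sA)) ⥤ᵇ 𝒳,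
        Nonempty (BasedFunctor.comp x f ≅
          BasedFunctor.comp (AlgSt.overMap (Over.homMk (Spec.map (CommRingCat.ofHom φ)) rfl :
            Over.mk (Spec.map (CommRingCat.ofHom φ) ≫ sA) ⟶ Over.mk sA)) a) := by
    obtain ⟨V, y, hy, hys⟩ := h𝒴.atlas
    obtain ⟨U, l, h, hl, ⟨βh⟩, hxp, hxsp, -⟩ := GrothLib.AlgSt.exists_atlas_over h𝒳 h𝒴 f y
    let T : Over S := Over.mk sA
    have hT := (GrothLib.AlgSt.isDM_of_repByAlgSp (GrothLib.AlgSt.repByAlgSp_overCat T)).1
    obtain ⟨R, lR, c, hlR, ⟨βc⟩, hrp, -, -⟩ := GrothLib.AlgSt.exists_atlas_over hT h𝒴 a y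
    haveI hhf : Flat h.left := GrothLib.AlgSt.left_of_locP_yon
      (GrothLib.AlgSt.mem_of_locQ GrothLib.AlgSp.isSmoothLocalST_flat hf h𝒳 h𝒴 y hy l hl.1 h βh)
    let r := BasedFunctor.comp lR (FibCat.fpFst a y)
    let x := BasedFunctor.comp l (FibCat.fpFst f y)
    let d₀ := GrothLib.FibCat.sliceHom r
    haveI : Smooth d₀.left := GrothLib.AlgSt.Section.left_of_repByAlgSpWith_overMap d₀
      (GrothLib.AlgSt.repByAlgSpWith_of_iso (GrothLib.FibCat.isoOverMap r) (hrp hy))
    let αh : BasedFunctor.comp x f ≅ BasedFunctor.comp (AlgSt.overMap h) y :=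
      GrothLib.FibCat.whiskerLeftIso l (FibCat.fpIso f y) ≪≫ GrothLib.FibCat.whiskerRightIso βh y
    let αc : BasedFunctor.comp (AlgSt.overMap c) y ≅ BasedFunctor.comp (AlgSt.overMap d₀) a :=
      GrothLib.FibCat.whiskerRightIso βc.symm y ≪≫ (GrothLib.FibCat.whiskerLeftIso lR (FibCat.fpIso a y)).symm ≪≫
        GrothLib.FibCat.whiskerRightIso (GrothLib.FibCat.isoOverMap r) a
    let t : ↥T.left := IsLocalRing.closedPoint A
    obtain ⟨p₀, hp₀⟩ := ha
    obtain ⟨u, rfl⟩ := GrothLib.AlgSt.surjective_ofChart h𝒳.isStack.1 (hxsp hys) p₀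
    have hu : AlgSt.Points.ofChart y (h.left u) = AlgSt.Points.ofChart a t := by
      rw [← GrothLib.AlgSt.ofChart_overMap h y u, ← GrothLib.AlgSt.ofChart_congr αh u]
      exact hp₀
    obtain ⟨w, hw₁, hw₂⟩ := GrothLib.AlgSt.exists_points_fp
      (GrothLib.FibCat.isFibGrpd_overCat V) (GrothLib.FibCat.isFibGrpd_overCat T) h𝒴.isStack.1 y a
      (AlgSt.Points.ofChart (BasedFunctor.id _) t) (AlgSt.Points.ofChart (BasedFunctor.id _) (h.left u)) hu.symm
    obtain ⟨ρ, rfl⟩ := GrothLib.AlgSt.surjective_ofChart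
      (GrothLib.FibCat.Fp.isFibGrpd (GrothLib.FibCat.isFibGrpd_overCat T) (GrothLib.FibCat.isFibGrpd_overCat V)
        h𝒴.isStack.1) hlR.2 w
    have key : ∀ {R' W : Over S} (k : FibCat.overCat R' ⥤ᵇ FibCat.overCat W) (g : R' ⟶ W), (k ≅ AlgSt.overMap g) →
        ∀ (ρ' : ↥R'.left) (v : ↥W.left),
          AlgSt.Points.ofChart k ρ' = AlgSt.Points.ofChart (BasedFunctor.id _) v → g.left ρ' = v := by
      intro R' W k g i ρ' v hk
      rw [GrothLib.AlgSt.ofChart_congr i] at hk
      have e : AlgSt.Points.ofChart (AlgSt.overMap g) ρ' = AlgSt.Points.ofChart (BasedFunctor.id _) (g.left ρ') :=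
        GrothLib.AlgSt.ofChart_overMap g (BasedFunctor.id _) ρ'
      rw [← GrothLib.AlgSt.pointOf_ofChart_id v, ← hk, e, GrothLib.AlgSt.pointOf_ofChart_id]
    have hcρ : c.left ρ = h.left u := key _ c βc ρ _ hw₂
    have hdρ : d₀.left ρ = t := key _ d₀ (GrothLib.FibCat.isoOverMap r) ρ _ hw₁
    let P := CategoryTheory.Limits.pullback c h
    let p₁ : P ⟶ R := CategoryTheory.Limits.pullback.fst c h
    let p₂ : P ⟶ U := CategoryTheory.Limits.pullback.snd c h
    have sqP := GrothLib.AlgSp.isPullback_left (IsPullback.of_hasPullback c h)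
    obtain ⟨z, hz₁, -⟩ := Scheme.exists_preimage_of_isPullback sqP ρ u hcρ
    haveI : Flat p₁.left := MorphismProperty.of_isPullback sqP.flip hhf
    let d := p₁ ≫ d₀
    haveI : Flat d.left := inferInstanceAs (Flat (p₁.left ≫ d₀.left))
    have hdz : d.left z = t := by
      change d₀.left (p₁.left z) = t
      rw [hz₁, hdρ]
    let η : ↥T.left := (⟨⊥, Ideal.isPrime_bot⟩ : PrimeSpectrum A)
    have hηt : η ⤳ t := IsLocalRing.specializes_closedPoint (R := A) (⟨⊥, Ideal.isPrime_bot⟩ : PrimeSpectrum A)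
    obtain ⟨z', hz', hdz'⟩ := Flat.generalizingMap d.left (hdz.symm ▸ hηt)
    obtain ⟨B, σ, hσ, hσL⟩ := GrothLib.AlgSp.exists_valuation_point (L := ↥(P.left.residueField z'))
      (P.left.fromSpecResidueField z') z
      ((specializes_of_eq (Scheme.fromSpecResidueField_apply z' _)).trans hz')
    obtain ⟨φ, hφ⟩ : ∃ φ : A →+* B, Spec.map (CommRingCat.ofHom φ) = σ ≫ d.left :=
      ⟨(Spec.preimage (σ ≫ d.left)).hom, Spec.map_preimage _⟩
    have hprops := ringHom_props (L := ↥(P.left.residueField z')) φ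
      (by rw [hφ, Scheme.Hom.comp_apply, hσ]; exact hdz)
      (by
        rw [CommRingCat.ofHom_comp, Spec.map_comp, hφ, ← Category.assoc, hσL]
        exact (congrArg d.left (Scheme.fromSpecResidueField_apply _ _)).trans hdz')
    let T' : Over S := Over.mk (Spec.map (CommRingCat.ofHom φ) ≫ sA)
    let m : T' ⟶ P := Over.homMk σ (by
      change σ ≫ P.hom = Spec.map _ ≫ sA
      rw [hφ, Category.assoc]
      exact congrArg (σ ≫ ·) (Over.w d).symm)
    let j : T' ⟶ T := Over.homMk (Spec.map (CommRingCat.ofHom φ)) rfl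
    have e₁ : (m ≫ p₂) ≫ h = (m ≫ p₁) ≫ c := by
      rw [Category.assoc, Category.assoc, CategoryTheory.Limits.pullback.condition]
    have e₂ : (m ≫ p₁) ≫ d₀ = j := Over.OverMorphism.ext (by
      change (σ ≫ p₁.left) ≫ d₀.left = Spec.map _
      rw [hφ, Category.assoc]
      rfl)
    refine ⟨B, inferInstance, inferInstance, inferInstance, φ, hprops.1, hprops.2,
      BasedFunctor.comp (AlgSt.overMap (m ≫ p₂)) x, ⟨?_⟩⟩
    exact GrothLib.FibCat.whiskerLeftIso (AlgSt.overMap (m ≫ p₂)) αh ≪≫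
      GrothLib.FibCat.whiskerRightIso (GrothLib.AlgSt.overMapCompIso (m ≫ p₂) h ≪≫
        eqToIso (congrArg AlgSt.overMap e₁) ≪≫ (GrothLib.AlgSt.overMapCompIso (m ≫ p₁) c).symm) y ≪≫
      GrothLib.FibCat.whiskerLeftIso (AlgSt.overMap (m ≫ p₁)) αc ≪≫
      GrothLib.FibCat.whiskerRightIso (GrothLib.AlgSt.overMapCompIso (m ≫ p₁) d₀ ≪≫
        eqToIso (congrArg AlgSt.overMap e₂)) a

end Groth.Agent.S13035
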