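import Groth.Statements.S13036
import Groth.Agent.Lib.AlgSt.LocQChart
import Groth.Agent.Lib.AlgSt.Gerbe.Section
import Groth.Agent.Lib.AlgSp.Valuative
import Groth.Agent.Lib.GrpdQuot.InvariantOpen
import Groth.Agent.Lib.AlgSt.EtaleAtlas


set_option autoImplicit false
set_option backward.isDefEq.respectTransparency false
set_option backward.isDefEq.respectTransparency.types false
universe u
open CategoryTheory AlgebraicGeometry
open AlgSt

namespace Groth.Agent.S13036

/-- Let f : 𝒳 → 𝒴 be a quasi-compact morphism of algebraic stacks and y a point of |𝒴| in the closure of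
the image of |f|. Then there are a valuation ring A with fraction field K and a 2-commutative square
Spec K → 𝒳, Spec A → 𝒴 (over Spec K → Spec A and f) such that the closed point of Spec A maps to y. -/
theorem result
    (S : Scheme.{u}) (𝒳 : AlgSt.Cat S) (𝒴 : AlgSt.Cat S)
    (h𝒳 : AlgSt.IsAlgStack Scheme.fppfPrecoverage 𝒳)
    (h𝒴 : AlgSt.IsAlgStack Scheme.fppfPrecoverage 𝒴)
    (f : 𝒳 ⥤ᵇ 𝒴)
    (hf : AlgSt.IsQuasiCompactMor Scheme.fppfPrecoverage f)
    (y : AlgSt.Points 𝒴) (hy : y ∈ closure (Set.range (AlgSt.Points.map f))) :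
    ∃ (A : Type u) (_ : CommRing A) (_ : IsDomain A) (_ : ValuationRing A) (sA : Spec (CommRingCat.of A) ⟶ S)
      (a : FibCat.overCat (Over.mk sA) ⥤ᵇ 𝒴)
      (x : FibCat.overCat (Over.mk (Spec.map (CommRingCat.ofHom (algebraMap A (FractionRing A))) ≫ sA)) ⥤ᵇ 𝒳),
      Nonempty (BasedFunctor.comp x f ≅
        BasedFunctor.comp (AlgSt.overMap (Over.homMk (Spec.map (CommRingCat.ofHom (algebraMap A (FractionRing A)))) rfl :
          Over.mk (Spec.map (CommRingCat.ofHom (algebraMap A (FractionRing A))) ≫ sA) ⟶ Over.mk sA)) a) ∧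
      AlgSt.Points.ofChart a (IsLocalRing.closedPoint A) = y := by
    obtain ⟨V', y', hy', hys'⟩ := h𝒴.atlas
    obtain ⟨v', rfl⟩ := GrothLib.AlgSt.surjective_ofChart h𝒴.isStack.1 hys' y
    let 𝒰 := V'.left.affineCover
    obtain ⟨i, v, hv⟩ := 𝒰.exists_eq v'
    let V : Over S := Over.mk (𝒰.f i ≫ V'.hom)
    let j : V ⟶ V' := Over.homMk (𝒰.f i) rfl
    let yV := BasedFunctor.comp (AlgSt.overMap j) y'
    have hj : Smooth j.left := inferInstanceAs (Smooth (𝒰.f i))
    have hyV : AlgSt.RepByAlgSpWith (AlgSp.LocP @Smooth) yV :=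
      GrothLib.AlgSt.repByAlgSpWith_smooth_comp (GrothLib.FibCat.isFibGrpd_overCat _)
        (GrothLib.FibCat.isFibGrpd_overCat _) _ _
        (GrothLib.AlgSt.Section.repByAlgSpWith_overMap_locP GrothLib.AlgSp.EtLocal.smooth j hj) hy'
    have hvv : AlgSt.Points.ofChart yV v = AlgSt.Points.ofChart y' v' := by
      rw [GrothLib.AlgSt.ofChart_overMap]
      exact congrArg _ hv
    haveI : IsAffine V.left := inferInstanceAs (IsAffine (𝒰.X i))
    have hVstack := (GrothLib.AlgSt.isDM_of_repByAlgSp (GrothLib.AlgSt.repByAlgSp_overCat V)).1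
    have hVqc : AlgSt.IsQuasiCompact (FibCat.overCat V) :=
      ⟨V, AlgSt.overMap (𝟙 V), inferInstance, GrothLib.AlgSt.repByAlgSpWith_mono (fun _ _ _ _ _ hb => hb.2) (GrothLib.AlgSt.repByAlgSpWith_smoothSurj_overMap (𝟙 V)),
        GrothLib.AlgSt.repByAlgSpWith_mono (fun _ _ _ _ _ hb => hb.1) (GrothLib.AlgSt.repByAlgSpWith_smoothSurj_overMap (𝟙 V))⟩
    obtain ⟨U, l, hUa, hl, hls⟩ := hf _ hVstack hVqc yV
    haveI := hUa
    let k := BasedFunctor.comp l (FibCat.fpFst yV f)
    let h := GrothLib.FibCat.sliceHom k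
    let α : BasedFunctor.comp (BasedFunctor.comp l (FibCat.fpSnd yV f)) f ≅ BasedFunctor.comp (AlgSt.overMap h) yV :=
      (GrothLib.FibCat.whiskerLeftIso l (FibCat.fpIso yV f)).symm ≪≫
        GrothLib.FibCat.whiskerRightIso (GrothLib.FibCat.isoOverMap k) yV
    haveI : IsAffineHom h.left := isAffineHom_of_isAffine h.left
    have hcl : v ∈ closure (h.left '' Set.univ) := by
      rw [mem_closure_iff]
      intro W hW hvW
      obtain ⟨_, ⟨w, hw, rfl⟩, p, hp⟩ := (mem_closure_iff.1 hy) _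
        (GrothLib.AlgSt.isOpenMap_ofChart h𝒴.isStack.1 hyV W hW) ⟨v, hvW, hvv⟩
      obtain ⟨q, hq₁, -⟩ := GrothLib.AlgSt.exists_points_fp h𝒳.isStack.1 (GrothLib.FibCat.isFibGrpd_overCat V)
        h𝒴.isStack.1 f yV (AlgSt.Points.ofChart (BasedFunctor.id _) w) p hp.symm
      obtain ⟨u, rfl⟩ := GrothLib.AlgSt.surjective_ofChart
        (GrothLib.FibCat.Fp.isFibGrpd (GrothLib.FibCat.isFibGrpd_overCat V) h𝒳.isStack.1 h𝒴.isStack.1) hls q
      have hk : AlgSt.Points.ofChart k u = AlgSt.Points.ofChart (BasedFunctor.id _) w := hq₁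
      rw [GrothLib.AlgSt.ofChart_congr (GrothLib.FibCat.isoOverMap k : k ≅ AlgSt.overMap h)] at hk
      have e : AlgSt.Points.ofChart (AlgSt.overMap h) u = AlgSt.Points.ofChart (BasedFunctor.id _) (h.left u) :=
        GrothLib.AlgSt.ofChart_overMap h (BasedFunctor.id _) u
      have hhu : h.left u = w := by
        rw [← GrothLib.AlgSt.pointOf_ofChart_id w, ← e.symm.trans hk, GrothLib.AlgSt.pointOf_ofChart_id]
      exact ⟨w, hw, u, Set.mem_univ u, hhu⟩
    obtain ⟨u, -, hu⟩ := GrothLib.GrpdQuot.exists_specializes_of_mem_closure h.left Set.univ isClosed_univ v hcl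
    obtain ⟨B, σ, hσ, hσL⟩ := GrothLib.AlgSp.exists_valuation_point (L := ↥(U.left.residueField u))
      (U.left.fromSpecResidueField u ≫ h.left) v
      ((specializes_of_eq (congrArg h.left (Scheme.fromSpecResidueField_apply u _))).trans hu)
    let e : FractionRing B ≃ₐ[B] ↥(U.left.residueField u) := FractionRing.algEquiv B _
    let ψ : Spec (CommRingCat.of (FractionRing B)) ⟶ Spec (U.left.residueField u) :=
      Spec.map (CommRingCat.ofHom e.symm.toRingEquiv.toRingHom)
    let sA : Spec (CommRingCat.of B) ⟶ S := σ ≫ V.hom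
    let m : Over.mk sA ⟶ V := Over.homMk σ rfl
    let TK : Over S := Over.mk (Spec.map (CommRingCat.ofHom (algebraMap B (FractionRing B))) ≫ sA)
    let jK : TK ⟶ Over.mk sA := Over.homMk (Spec.map (CommRingCat.ofHom (algebraMap B (FractionRing B)))) rfl
    have hψ : ψ ≫ U.left.fromSpecResidueField u ≫ h.left =
        Spec.map (CommRingCat.ofHom (algebraMap B (FractionRing B))) ≫ σ := by
      rw [← hσL]
      change Spec.map _ ≫ _ = _
      rw [← Spec.map_comp_assoc, ← CommRingCat.ofHom_comp]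
      congr 3
      exact RingHom.ext fun b => e.symm.commutes b
    let q : TK ⟶ U := Over.homMk (ψ ≫ U.left.fromSpecResidueField u) (by
      change _ = _ ≫ σ ≫ V.hom
      rw [← Category.assoc (Spec.map _), ← hψ]
      simp only [Category.assoc, Over.w])
    have e₁ : q ≫ h = jK ≫ m := Over.OverMorphism.ext (by
      change (ψ ≫ U.left.fromSpecResidueField u) ≫ h.left = _ ≫ σ
      rw [Category.assoc]
      exact hψ)
    refine ⟨B, inferInstance, inferInstance, inferInstance, sA, BasedFunctor.comp (AlgSt.overMap m) yV,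
      BasedFunctor.comp (AlgSt.overMap q) (BasedFunctor.comp l (FibCat.fpSnd yV f)), ⟨?_⟩, ?_⟩
    · exact GrothLib.FibCat.whiskerLeftIso (AlgSt.overMap q) α ≪≫
        GrothLib.FibCat.whiskerRightIso (GrothLib.AlgSt.overMapCompIso q h ≪≫
          eqToIso (congrArg AlgSt.overMap e₁) ≪≫ (GrothLib.AlgSt.overMapCompIso jK m).symm) yV
    · rw [GrothLib.AlgSt.ofChart_overMap]
      exact (congrArg _ hσ).trans hvv

end Groth.Agent.S13036
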