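import Groth.Statements.S13040
import Groth.Agent.Lib.AlgSt.RepKernel


set_option autoImplicit false
set_option backward.isDefEq.respectTransparency false
set_option backward.isDefEq.respectTransparency.types false
universe u
open CategoryTheory AlgebraicGeometry
open AlgSt

namespace Groth.Agent.S13040

/-- A morphism f : 𝒳 → 𝒴 between algebraic stacks is representable by algebraic spaces exactly when the
relative inertia 𝓘_{𝒳/𝒴} is trivial over 𝒳, that is its structure functor to 𝒳 is an equivalence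
over the base. -/
theorem result
    (S : Scheme.{u}) (𝒳 : AlgSt.Cat S) (𝒴 : AlgSt.Cat S)
    (h𝒳 : AlgSt.IsAlgStack Scheme.fppfPrecoverage 𝒳)
    (h𝒴 : AlgSt.IsAlgStack Scheme.fppfPrecoverage 𝒴)
    (f : 𝒳 ⥤ᵇ 𝒴) :
    AlgSt.RepByAlgSp1 f ↔ FibCat.IsEquivOver (FibCat.inertiaToBase f) := by
  exact (GrothLib.AlgSt.repByAlgSp1_iff_trivKernel h𝒳 h𝒴 f).trans
    (GrothLib.FibCat.isEquivOver_inertiaToBase_iff h𝒳.isStack.1 f).symm

end Groth.Agent.S13040
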