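import Mathlib
import Groth.Statements.S13041
-- import your own Groth.Agent.* helpers here

set_option autoImplicit false
universe u
open MaxMod

namespace Groth.Agent.S13041

/-- Let R be a domain with fraction field K, let A → B be a homomorphism of commutative R-algebras that
are flat over R, with B module-finite over A, such that the induced map K ⊗_R A → K ⊗_R B is
bijective. If the A-linear map Hom_A(B, A) → A evaluating at 1 is surjective, then A → B is
bijective. (The published statement concerns a finite morphism of flat schemes over a discrete
valuation ring, with locally free relative dualizing sheaves, that is an isomorphism over a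
schematically dense open and whose trace map on dualizing sheaves is surjective; this row is the
statement about rings to which the printed proof reduces it and which that proof establishes, and
the argument uses only that R is a domain.) -/
theorem result
    (R K A B : Type u) [CommRing R] [IsDomain R] [Field K] [Algebra R K] [IsFractionRing R K]
    [CommRing A] [CommRing B] [Algebra R A] [Algebra R B] [Algebra A B] [IsScalarTower R A B]
    [Module.Flat R A] [Module.Flat R B] [Module.Finite A B]
    (hK : Function.Bijective
      (Algebra.TensorProduct.map (AlgHom.id R K) (IsScalarTower.toAlgHom R A B)))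
    (htr : Function.Surjective (fun u : B →ₗ[A] A => u 1)) :
    Function.Bijective (algebraMap A B) := by
  obtain ⟨u, hu⟩ := htr 1
  have hu' : ∀ a : A, u (algebraMap A B a) = a := fun a => by
    rw [Algebra.algebraMap_eq_smul_one, map_smul, show u 1 = 1 from hu, smul_eq_mul, mul_one]
  refine ⟨fun a a' h => by rw [← hu' a, h, hu' a'], fun b => ⟨u b, ?_⟩⟩
  obtain ⟨z, hz⟩ := hK.2 ((1 : K) ⊗ₜ[R] b)
  obtain ⟨⟨a, s⟩, has⟩ := IsLocalizedModule.surj (nonZeroDivisors R) (TensorProduct.mk R K A 1) z
  have hinj : Function.Injective (TensorProduct.mk R K B 1) := by
    have h1 := Module.Flat.rTensor_preserves_injective_linearMap (M := B) (Algebra.linearMap R K)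
      (IsFractionRing.injective R K)
    intro x y hxy
    refine (TensorProduct.lid R B).symm.injective (h1 ?_)
    simpa using hxy
  have hsb : algebraMap A B a = (s : R) • b := hinj (by
    have h2 := congrArg (Algebra.TensorProduct.map (AlgHom.id R K) (IsScalarTower.toAlgHom R A B)) has
    rw [Submonoid.smul_def, map_smul, hz] at h2
    simpa using h2.symm)
  have hz' : (s : R) • (algebraMap A B (u b) - b) = 0 := by
    have h3 := congrArg u hsb
    rw [hu', LinearMap.map_smul_of_tower] at h3
    rw [smul_sub, ← hsb, h3, Algebra.smul_def (s : R) (u b), map_mul, ← IsScalarTower.algebraMap_apply,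
      ← Algebra.smul_def, sub_self]
  refine sub_eq_zero.1 (hinj ?_)
  have h4 := congrArg (TensorProduct.mk R K B 1) hz'
  rw [map_smul, map_zero] at h4
  rw [map_zero]
  have hs : algebraMap R K (s : R) ≠ 0 := fun h => nonZeroDivisors.coe_ne_zero s (IsFractionRing.injective R K (by rw [h, map_zero]))
  exact (smul_eq_zero.1 ((algebraMap_smul K (s : R) _).trans h4)).resolve_left hs

end Groth.Agent.S13041
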