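import Mathlib
import Groth.Statements.S13042
-- import your own Groth.Agent.* helpers here

set_option autoImplicit false
universe u
open MaxMod

namespace Groth.Agent.S13042

open MvPolynomial in
/-- Let p be a prime, R a local ring of characteristic p, λ an element of the maximal ideal of R and f ∈
R. Then there is an isomorphism of R-algebras R[W₁, W₂]/(W₁^p − f, W₂^p − f) ≅ R[x, W]/(x^p, W^p −
f) with W₁ ↦ x + W + λ·x·W and W₂ ↦ W; that is, Spec R[W]/(W^p − f) with the action w ↦ x + w + λxw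
is a torsor under the group scheme Spec R[x]/(x^p) with law x₁ ∘ x₂ = x₁ + x₂ + λx₁x₂. (The
published statement is over a complete discrete valuation ring of characteristic p with λ a nonzero
nonunit, and also asserts that for f in the fraction field with negative valuation v(f) > −p·v(λ)
the torsor W^p = f extends to a torsor over R, using the coordinate 1/W; that second case fails: for
p = 2, λ = π a uniformizer and f = 1/π, every model is Spec R[π^a t] with t² = π, and none of these
is a torsor since the coaction sends t to t − π(1 + t)x. Only the case f ∈ R is stated, and the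
argument there uses only that R is local of characteristic p.) -/
theorem result
    (p : ℕ) [Fact p.Prime] (R : Type u) [CommRing R] [IsLocalRing R] [CharP R p]
    (lam f : R) (hlam : lam ∈ IsLocalRing.maximalIdeal R) :
    ∃ e : (MvPolynomial (Fin 2) R ⧸ Ideal.span {(X 0 ^ p - C f : MvPolynomial (Fin 2) R), X 1 ^ p - C f}) ≃ₐ[R]
        (MvPolynomial (Fin 2) R ⧸ Ideal.span {(X 0 ^ p : MvPolynomial (Fin 2) R), X 1 ^ p - C f}),
      e (Ideal.Quotient.mk _ (X 0)) = Ideal.Quotient.mk _ (X 0 + X 1 + C lam * X 0 * X 1) ∧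
      e (Ideal.Quotient.mk _ (X 1)) = Ideal.Quotient.mk _ (X 1) := by
  set I := Ideal.span {(X 0 ^ p - C f : MvPolynomial (Fin 2) R), X 1 ^ p - C f} with hI
  set J := Ideal.span {(X 0 ^ p : MvPolynomial (Fin 2) R), X 1 ^ p - C f} with hJ
  have hp : p ≠ 0 := (Fact.out : p.Prime).ne_zero
  obtain ⟨c, hc⟩ : ∃ c, (1 + lam ^ p * f) * c = 1 := IsUnit.exists_right_inv (by
    by_contra h
    have h1 : lam ^ p * f ∈ IsLocalRing.maximalIdeal R :=
      Ideal.mul_mem_right _ _ (Ideal.pow_mem_of_mem _ hlam p (Nat.pos_of_ne_zero hp))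
    exact (IsLocalRing.maximalIdeal.isMaximal R).ne_top ((Ideal.eq_top_iff_one _).2 (by simpa using sub_mem h h1)))
  haveI : ExpChar R p := .prime Fact.out
  have fro : ∀ a b : MvPolynomial (Fin 2) R, (a + b) ^ p = a ^ p + b ^ p := fun a b => add_pow_expChar a b p
  set F : MvPolynomial (Fin 2) R := X 0 + X 1 + C lam * X 0 * X 1 with hF
  set G : MvPolynomial (Fin 2) R := (X 0 - X 1) * ((1 + C lam * X 1) ^ (p - 1) * C c) with hG
  have ev : ∀ (u : Fin 2 → MvPolynomial (Fin 2) R) (L : Ideal (MvPolynomial (Fin 2) R)) (v : MvPolynomial (Fin 2) R),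
      (aeval fun i => Ideal.Quotient.mk L (u i)) v = Ideal.Quotient.mk L (aeval u v) := fun u L v =>
    (MvPolynomial.comp_aeval_apply u (Ideal.Quotient.mkₐ R L) v).symm
  have hone : (1 + C lam * X 1 : MvPolynomial (Fin 2) R) ^ (p - 1) * C c * (1 + C lam * X 1) =
      1 + C (lam ^ p * c) * (X 1 ^ p - C f) := by
    have h2 : (1 + C lam * X 1 : MvPolynomial (Fin 2) R) ^ (p - 1) * (1 + C lam * X 1) =
        1 + C (lam ^ p) * X 1 ^ p := by
      rw [← pow_succ, Nat.sub_add_cancel (Nat.one_le_iff_ne_zero.2 hp), fro, one_pow, mul_pow, map_pow]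
    have h3 := congrArg (C : R → MvPolynomial (Fin 2) R) hc
    simp only [map_mul, map_add, map_one] at h3
    rw [map_mul]
    linear_combination C c * h2 + h3
  let φ : (MvPolynomial (Fin 2) R ⧸ I) →ₐ[R] (MvPolynomial (Fin 2) R ⧸ J) :=
    Ideal.Quotient.liftₐ I (aeval fun i => Ideal.Quotient.mk J (![F, X 1] i)) fun a ha => by
      revert a
      refine Ideal.span_le (I := RingHom.ker _).2 ?_
      rintro v (rfl | rfl) <;> rw [SetLike.mem_coe, RingHom.mem_ker, ev, Ideal.Quotient.eq_zero_iff_mem, hJ,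
        Ideal.mem_span_pair]
      · refine ⟨1 + C (lam ^ p) * X 1 ^ p, 1, ?_⟩
        simp [hF, fro, mul_pow]
        ring
      · exact ⟨0, 1, by simp⟩
  let ψ : (MvPolynomial (Fin 2) R ⧸ J) →ₐ[R] (MvPolynomial (Fin 2) R ⧸ I) :=
    Ideal.Quotient.liftₐ J (aeval fun i => Ideal.Quotient.mk I (![G, X 1] i)) fun a ha => by
      revert a
      refine Ideal.span_le (I := RingHom.ker _).2 ?_
      rintro v (rfl | rfl) <;> rw [SetLike.mem_coe, RingHom.mem_ker, ev, Ideal.Quotient.eq_zero_iff_mem, hI,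
        Ideal.mem_span_pair]
      · refine ⟨((1 + C lam * X 1) ^ (p - 1) * C c) ^ p, -((1 + C lam * X 1) ^ (p - 1) * C c) ^ p, ?_⟩
        simp [hG, mul_pow, sub_pow_expChar]
        ring
      · exact ⟨0, 1, by simp⟩
  have hφ : ∀ v, φ (Ideal.Quotient.mk I v) = Ideal.Quotient.mk J (aeval ![F, X 1] v) := fun v => ev _ J v
  have hψ : ∀ v, ψ (Ideal.Quotient.mk J v) = Ideal.Quotient.mk I (aeval ![G, X 1] v) := fun v => ev _ I v
  refine ⟨AlgEquiv.ofAlgHom φ ψ ?_ ?_, ?_, ?_⟩
  · refine Ideal.Quotient.algHom_ext _ (MvPolynomial.algHom_ext fun i => ?_)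
    show φ (ψ (Ideal.Quotient.mk J (X i))) = Ideal.Quotient.mk J (X i)
    rw [hψ, hφ, Ideal.Quotient.eq, hJ, Ideal.mem_span_pair]
    fin_cases i
    · refine ⟨0, X 0 * C (lam ^ p * c), ?_⟩
      simp [hG, hF] at hone ⊢
      linear_combination -(X 0 : MvPolynomial (Fin 2) R) * hone
    · exact ⟨0, 0, by simp⟩
  · refine Ideal.Quotient.algHom_ext _ (MvPolynomial.algHom_ext fun i => ?_)
    show ψ (φ (Ideal.Quotient.mk I (X i))) = Ideal.Quotient.mk I (X i)
    rw [hφ, hψ, Ideal.Quotient.eq, hI, Ideal.mem_span_pair]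
    fin_cases i
    · refine ⟨0, (X 0 - X 1) * C (lam ^ p * c), ?_⟩
      simp [hG, hF] at hone ⊢
      linear_combination -((X 0 : MvPolynomial (Fin 2) R) - X 1) * hone
    · exact ⟨0, 0, by simp⟩
  · show φ (Ideal.Quotient.mk I (X 0)) = _
    rw [hφ]; simp [hF]
  · show φ (Ideal.Quotient.mk I (X 1)) = _
    rw [hφ]; simp

end Groth.Agent.S13042
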