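import Groth.Statements.S13044
-- import your own Groth.Agent.* helpers here
import Mathlib.AlgebraicGeometry.Morphisms.SchemeTheoreticallyDominant
import Mathlib.AlgebraicGeometry.Morphisms.ClosedImmersion

set_option autoImplicit false
universe u
open MaxMod

set_option backward.isDefEq.respectTransparency false
set_option linter.style.haveILetI false

noncomputable section

open CategoryTheory CategoryTheory.Limits AlgebraicGeometry

/-- A morphism from a scheme flat over a discrete valuation ring factors through a closed subscheme if it does so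
over the generic point. -/
theorem exists_factor_of_generic {R K : Type u} [CommRing R] [IsDomain R] [Field K] [Algebra R K]
    [IsFractionRing R K] {W P G : Scheme.{u}} (γ : G ⟶ P) [IsClosedImmersion γ] (φ : W ⟶ P)
    (w : W ⟶ Spec (CommRingCat.of R)) [Flat w]
    (h : ∃ c, c ≫ γ = pullback.fst w (Spec.map (CommRingCat.ofHom (algebraMap R K))) ≫ φ) :
    ∃ c, c ≫ γ = φ := by
  let j := Spec.map (CommRingCat.ofHom (algebraMap R K))
  have : IsDominant j := ⟨(PrimeSpectrum.denseRange_comap_iff_ker_le_nilRadical (algebraMap R K)).mpr (by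
    rw [(RingHom.injective_iff_ker_eq_bot _).mp (IsFractionRing.injective R K)]
    exact bot_le)⟩
  have : IsSchemeTheoreticallyDominant j := .of_isDominant j
  obtain ⟨c, hc⟩ := h
  let z := pullback.fst φ γ
  let l := pullback.lift (pullback.fst w j) c hc.symm
  have hle : z.ker ≤ (𝟙 W : W ⟶ W).ker := by
    have h1 : (l ≫ z).ker = ⊥ := by
      rw [pullback.lift_fst]
      exact Scheme.Hom.ker_eq_bot _
    have h2 : z.ker ≤ (l ≫ z).ker := Scheme.Hom.le_ker_comp l z
    rw [h1] at h2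
    exact h2.trans bot_le
  refine ⟨IsClosedImmersion.lift z (𝟙 W) hle ≫ pullback.snd φ γ, ?_⟩
  rw [Category.assoc, ← pullback.condition]
  change IsClosedImmersion.lift z (𝟙 W) hle ≫ z ≫ φ = φ
  rw [← Category.assoc, IsClosedImmersion.lift_fac, Category.id_comp]
namespace Groth.Agent.S13044

open CategoryTheory Limits AlgebraicGeometry in
/-- Let R be a discrete valuation ring with fraction field K, let Y be a flat separated R-scheme and let
Γ → Y ×_R Y be a closed subscheme, with projections p₁, p₂ : Γ → Y, such that Γ is flat over R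
(equivalently, Γ is the schematic closure of its generic fibre) and p₁, p₂ are flat. If for every
scheme T over Spec K the relation on the T-valued points of Y defined by the T-valued points of Γ is
an equivalence relation, then for every scheme T over Spec R that relation is an equivalence
relation: Γ is a flat equivalence relation on Y. -/
theorem result
    (R K : Type u) [CommRing R] [IsDomain R] [IsDiscreteValuationRing R]
    [Field K] [Algebra R K] [IsFractionRing R K]
    (Y Γ : Scheme.{u}) (f : Y ⟶ Spec (CommRingCat.of R)) [IsSeparated f] [Flat f]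
    (p₁ p₂ : Γ ⟶ Y) (h : p₁ ≫ f = p₂ ≫ f)
    (hΓ : IsClosedImmersion (pullback.lift p₁ p₂ h))
    [Flat (p₁ ≫ f)] [Flat p₁] [Flat p₂]
    (hK : ∀ (T : Scheme.{u}) (t : T ⟶ Spec (CommRingCat.of R)),
      (∃ s : T ⟶ Spec (CommRingCat.of K), t = s ≫ Spec.map (CommRingCat.ofHom (algebraMap R K))) →
      _root_.Equivalence fun a b : {a : T ⟶ Y // a ≫ f = t} =>
        ∃ c : T ⟶ Γ, c ≫ p₁ = a.1 ∧ c ≫ p₂ = b.1) :
    ∀ (T : Scheme.{u}) (t : T ⟶ Spec (CommRingCat.of R)),
      _root_.Equivalence fun a b : {a : T ⟶ Y // a ≫ f = t} =>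
        ∃ c : T ⟶ Γ, c ≫ p₁ = a.1 ∧ c ≫ p₂ = b.1 := by
  let γ := pullback.lift p₁ p₂ h
  let j := Spec.map (CommRingCat.ofHom (algebraMap R K))
  have hγ : IsClosedImmersion γ := hΓ
  have key : ∀ (W : Scheme.{u}) (w : W ⟶ Spec (CommRingCat.of R)) (_ : Flat w) (a b : W ⟶ Y) (ha : a ≫ f = w) (hb : b ≫ f = w),
      (∀ (T : Scheme.{u}) (t : T ⟶ W), (∃ s : T ⟶ Spec (CommRingCat.of K), t ≫ w = s ≫ j) →
        ∃ c : T ⟶ Γ, c ≫ p₁ = t ≫ a ∧ c ≫ p₂ = t ≫ b) →
      ∃ c : W ⟶ Γ, c ≫ p₁ = a ∧ c ≫ p₂ = b := by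
    intro W w hw a b ha hb hgen
    obtain ⟨c, h1, h2⟩ := hgen _ (pullback.fst w j) ⟨pullback.snd w j, pullback.condition⟩
    obtain ⟨d, hd⟩ := exists_factor_of_generic (K := K) γ (pullback.lift a b (ha.trans hb.symm)) w ⟨c, by
      apply pullback.hom_ext
      · simpa [γ] using h1
      · simpa [γ] using h2⟩
    refine ⟨d, ?_, ?_⟩
    · have := congrArg (· ≫ pullback.fst f f) hd; simpa [γ] using this
    · have := congrArg (· ≫ pullback.snd f f) hd; simpa [γ] using this
  obtain ⟨e, he1, he2⟩ := key Y f inferInstance (𝟙 _) (𝟙 _) (Category.id_comp _) (Category.id_comp _) (fun T t hs => by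
    obtain ⟨c, hc⟩ := (hK T (t ≫ f) hs).refl ⟨t, rfl⟩
    exact ⟨c, by simpa using hc.1, by simpa using hc.2⟩)
  obtain ⟨σ, hσ1, hσ2⟩ := key Γ (p₁ ≫ f) inferInstance p₂ p₁ h.symm rfl (fun T t hs => by
    exact (hK T (t ≫ p₁ ≫ f) hs).symm (x := ⟨t ≫ p₁, Category.assoc _ _ _⟩)
      (y := ⟨t ≫ p₂, by rw [Category.assoc, ← h]⟩) ⟨t, rfl, rfl⟩)
  obtain ⟨μ, hμ1, hμ2⟩ := key (pullback p₂ p₁) (pullback.fst p₂ p₁ ≫ p₁ ≫ f) inferInstance
    (pullback.fst p₂ p₁ ≫ p₁) (pullback.snd p₂ p₁ ≫ p₂) (Category.assoc _ _ _)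
    (by rw [Category.assoc, ← h, ← pullback.condition_assoc, h]) (fun T t hs => by
      exact (hK T (t ≫ pullback.fst p₂ p₁ ≫ p₁ ≫ f) hs).trans
        (x := ⟨t ≫ pullback.fst p₂ p₁ ≫ p₁, by simp⟩)
        (y := ⟨t ≫ pullback.fst p₂ p₁ ≫ p₂, by simp [h]⟩)
        (z := ⟨t ≫ pullback.snd p₂ p₁ ≫ p₂, by
          rw [Category.assoc, Category.assoc, ← h, ← pullback.condition_assoc, h]⟩)
        ⟨t ≫ pullback.fst p₂ p₁, Category.assoc _ _ _, Category.assoc _ _ _⟩
        ⟨t ≫ pullback.snd p₂ p₁, by rw [Category.assoc, ← pullback.condition], Category.assoc _ _ _⟩)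
  intro T t
  refine ⟨fun a => ⟨a.1 ≫ e, by simp [he1], by simp [he2]⟩, ?_, ?_⟩
  · rintro a b ⟨c, h1, h2⟩
    exact ⟨c ≫ σ, by rw [Category.assoc, hσ1, h2], by rw [Category.assoc, hσ2, h1]⟩
  · rintro a b d ⟨c, h1, h2⟩ ⟨c', h1', h2'⟩
    refine ⟨pullback.lift c c' (h2.trans h1'.symm) ≫ μ, ?_, ?_⟩
    · rw [Category.assoc, hμ1, pullback.lift_fst_assoc, h1]
    · rw [Category.assoc, hμ2, pullback.lift_snd_assoc, h2']

end Groth.Agent.S13044
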