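import Groth.Statements.S13046
import Groth.Agent.Lib.TensorCoord.Basic
-- import your own Groth.Agent.* helpers here

set_option autoImplicit false
universe u
open FrobAlg

namespace Groth.Agent.S13046

open TensorProduct in
/-- Let p be a prime, R a commutative ring of characteristic p and A a commutative R-algebra of
characteristic p, with Frobenius twists A^{p^i/R} = R ⊗_{F^i,R} A, relative Frobenius maps F_i :
A^{p^{i+1}/R} → A^{p^i/R} and preperfection A^{p^∞/R} = lim_i A^{p^i/R} ⊆ Π_i A^{p^i/R}. For every
finitely generated projective R-module M, a sequence y ∈ Π_i (M ⊗_R A^{p^i/R}) lies in the image of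
the natural map M ⊗_R A^{p^∞/R} → Π_i (M ⊗_R A^{p^i/R}), m ⊗ x ↦ (m ⊗ x_i)_i, if and only if (M ⊗
F_i)(y_{i+1}) = y_i for all i: the image is exactly the module of compatible sequences. Together
with the injectivity of that map, which holds for every projective M, this says that the base change
map M ⊗_R lim_i A^{p^i/R} → lim_i (M ⊗_R A^{p^i/R}) is an isomorphism. (The published statement is
phrased for a finite locally free R-algebra R′ in place of M and identifies the target with the
preperfection of A ⊗_R R′ over R′; the printed argument is the module statement given here, and that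
identification is not part of this row; the injectivity half is stated separately for all projective
M.) -/
theorem result
    (p : ℕ) [Fact p.Prime] (R : Type u) [CommRing R] [CharP R p]
    (A : Type u) [CommRing A] [Algebra R A] [CharP A p]
    (M : Type u) [AddCommGroup M] [Module R M] [Module.Finite R M] [Module.Projective R M]
    (y : Π i : ℕ, M ⊗[R] W4c1imperftorsors.Twist p R A i) :
    y ∈ LinearMap.range
        (LinearMap.pi fun i : ℕ =>
        LinearMap.lTensor M
          (((Pi.evalAlgHom R (fun k => W4c1imperftorsors.Twist p R A k) i).comp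
            (W4c1imperftorsors.prePerf p R A).val).toLinearMap) :
        M ⊗[R] ↥(W4c1imperftorsors.prePerf p R A) →ₗ[R] (Π i : ℕ, M ⊗[R] W4c1imperftorsors.Twist p R A i)) ↔
      ∀ i : ℕ, LinearMap.lTensor M (W4c1imperftorsors.relFrob p R A i).toLinearMap (y (i + 1)) = y i := by
  constructor
  · rintro ⟨x, rfl⟩ i
    simp only [LinearMap.pi_apply, ← LinearMap.comp_apply, ← LinearMap.lTensor_comp]
    refine LinearMap.congr_fun (congrArg _ (LinearMap.ext fun z => ?_)) x
    have hz := z.2
    simp only [W4c1imperftorsors.prePerf, Algebra.mem_iInf, AlgHom.mem_equalizer] at hz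
    exact hz i
  · intro h
    obtain ⟨n, v, φ, hv⟩ := GrothLib.TensorCoord.exists_coord (R := R) (M := M)
    have hmem : ∀ j, (fun i => GrothLib.TensorCoord.coord (φ j) _ (y i)) ∈ W4c1imperftorsors.prePerf p R A := by
      intro j
      simp only [W4c1imperftorsors.prePerf, Algebra.mem_iInf, AlgHom.mem_equalizer]
      intro i
      have e := GrothLib.TensorCoord.coord_lTensor (φ j) (W4c1imperftorsors.relFrob p R A i).toLinearMap (y (i + 1))
      rw [h i] at e
      exact e.symm
    refine ⟨∑ j, v j ⊗ₜ[R] (⟨_, hmem j⟩ : ↥(W4c1imperftorsors.prePerf p R A)), funext fun i => ?_⟩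
    rw [LinearMap.pi_apply, map_sum]
    exact hv _ (y i)

end Groth.Agent.S13046
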