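import Groth.Statements.S13047
import Mathlib
-- import your own Groth.Agent.* helpers here

set_option autoImplicit false
universe u
open FrobAlg

namespace Groth.Agent.S13047

open Polynomial in
/-- Let p be an odd prime, R a commutative ring of characteristic p and u, v ∈ R with uv = 0, such that
for every N ≥ 1 an element of R lying in (v^n) + (u^N) for all n lies in (u^N) (v-adic separatedness
of R/(u^N)). Let B = R[α]/(uα, α² − v²), an R-algebra of characteristic p, with Frobenius twists
B^{p^i/R} = R ⊗_{F^i,R} B and preperfection B^{p^∞/R} = lim_i B^{p^i/R} along the relative Frobenius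
maps. Then the structure map R → B^{p^∞/R} is bijective: the preperfection of B is R. (The published
statement is for R = F_p[[u, v]]/(uv), where B arises as the preperfection of R[x, y, 1/(x − y)]/(xy
− u), so that the second preperfection of that algebra is R although the first is not perfect; the
printed computation uses only the hypotheses listed here, which that R satisfies.) -/
theorem result
    (p : ℕ) [Fact p.Prime] (hp : p ≠ 2) (R : Type u) [CommRing R] [CharP R p]
    (u v : R) (huv : u * v = 0)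
    (hsep : ∀ N : ℕ, 1 ≤ N → ∀ g : R,
      (∀ n : ℕ, g ∈ Ideal.span {v ^ n} ⊔ Ideal.span {u ^ N}) → g ∈ Ideal.span {u ^ N})
    [CharP (R[X] ⧸ Ideal.span {(C u * X : R[X]), X ^ 2 - C (v ^ 2)}) p] :
    Function.Bijective
      (algebraMap R ↥(W4c1imperftorsors.prePerf p R
        (R[X] ⧸ Ideal.span {(C u * X : R[X]), X ^ 2 - C (v ^ 2)}))) := by
  open W4c1imperftorsors TensorProduct Polynomial in
  classical
  have hodd : Odd p := (Fact.out : p.Prime).odd_of_ne_two hp
  obtain ⟨e, he⟩ := hodd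
  set I₀ : Ideal R[X] := Ideal.span {(C u * X : R[X]), X ^ 2 - C (v ^ 2)} with hI₀
  let α : R[X] ⧸ I₀ := Ideal.Quotient.mk I₀ X
  have hαu : algebraMap R (R[X] ⧸ I₀) u * α = 0 :=
    Ideal.Quotient.eq_zero_iff_mem.2 (Ideal.subset_span (Set.mem_insert _ _))
  have hα2 : α ^ 2 = algebraMap R (R[X] ⧸ I₀) (v ^ 2) :=
    Ideal.Quotient.eq.2 (Ideal.subset_span (Set.mem_insert_of_mem _ rfl))
  have hαp : α ^ p = algebraMap R (R[X] ⧸ I₀) (v ^ (2 * e)) * α := by
    rw [he, pow_succ, pow_mul, hα2, ← map_pow, ← pow_mul]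
  -- the twists
  let β : ∀ i, Twist p R (R[X] ⧸ I₀) i := fun i => (1 : R) ⊗ₜ (aEquiv p R (R[X] ⧸ I₀) i).symm α
  have hscal : ∀ (i : ℕ) (c : R) (b : R[X] ⧸ I₀),
      ((1 : R) ⊗ₜ (aEquiv p R (R[X] ⧸ I₀) i).symm (algebraMap R _ c * b) : Twist p R (R[X] ⧸ I₀) i) =
        c ^ p ^ i • ((1 : R) ⊗ₜ (aEquiv p R (R[X] ⧸ I₀) i).symm b) := by
    intro i c b
    rw [map_mul, TensorProduct.smul_tmul', smul_eq_mul, mul_one]
    have h1 : (aEquiv p R (R[X] ⧸ I₀) i).symm (algebraMap R _ c) =
        algebraMap (Src p R i) (ASrc p R (R[X] ⧸ I₀) i) ((srcEquiv p R i).symm c) := by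
      rw [algebraMap_aSrc, RingEquiv.apply_symm_apply]
    rw [h1, ← Algebra.smul_def, ← TensorProduct.smul_tmul, Algebra.smul_def, mul_one, algebraMap_src,
      RingEquiv.apply_symm_apply]
  have hβu : ∀ i, u ^ p ^ i • β i = 0 := fun i => by
    rw [← hscal, hαu, map_zero, TensorProduct.tmul_zero]
  have hβF : ∀ i, relFrob p R (R[X] ⧸ I₀) i (β (i + 1)) = (v ^ (2 * e)) ^ p ^ i • β i := by
    intro i
    rw [← hscal, ← hαp]
    change relFrobAux p R (R[X] ⧸ I₀) i (β (i + 1)) = _
    rw [relFrobAux, Algebra.TensorProduct.lift_tmul, map_one, one_mul]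
    rfl
  have hone : ∀ i, ((1 : R) ⊗ₜ (aEquiv p R (R[X] ⧸ I₀) i).symm (1 : R[X] ⧸ I₀) :
      Twist p R (R[X] ⧸ I₀) i) = 1 := fun i => by rw [map_one]; rfl
  have hnf : ∀ (i : ℕ) (t : Twist p R (R[X] ⧸ I₀) i), ∃ r s : R, t = algebraMap R _ r + s • β i := by
    intro i t
    induction t using TensorProduct.induction_on with
    | zero => exact ⟨0, 0, by simp⟩
    | add x y hx hy =>
      obtain ⟨r, s, rfl⟩ := hx
      obtain ⟨r', s', rfl⟩ := hy
      exact ⟨r + r', s + s', by rw [map_add, add_smul]; abel⟩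
    | tmul r b =>
      obtain ⟨b, rfl⟩ := (aEquiv p R (R[X] ⧸ I₀) i).symm.surjective b
      obtain ⟨f, rfl⟩ := Ideal.Quotient.mk_surjective b
      rcases subsingleton_or_nontrivial R with _ | _
      · exact ⟨0, 0, by rw [Subsingleton.elim r 0]; simp⟩
      have hmon : (X ^ 2 - C (v ^ 2) : R[X]).Monic := monic_X_pow_sub_C _ two_ne_zero
      have hdeg : (f %ₘ (X ^ 2 - C (v ^ 2))).natDegree ≤ 1 := by
        have := natDegree_modByMonic_lt f hmon (by
          intro h; have h' := congrArg natDegree h; rw [natDegree_X_pow_sub_C, natDegree_one] at h'; omega)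
        rw [natDegree_X_pow_sub_C] at this
        omega
      obtain ⟨d, c, hdc⟩ := exists_eq_X_add_C_of_natDegree_le_one hdeg
      have hf : Ideal.Quotient.mk I₀ f = algebraMap R _ c * 1 + algebraMap R _ d * α := by
        conv_lhs => rw [← modByMonic_add_div f (X ^ 2 - C (v ^ 2)), hdc]
        rw [map_add, map_mul, Ideal.Quotient.eq_zero_iff_mem.2 (show (X ^ 2 - C (v ^ 2) : R[X]) ∈ I₀ from Ideal.subset_span (Set.mem_insert_of_mem _ rfl)),
          zero_mul, add_zero, mul_one, map_add, map_mul, add_comm]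
        rfl
      refine ⟨r * c ^ p ^ i, r * d ^ p ^ i, ?_⟩
      rw [mul_smul, ← hscal, Algebra.algebraMap_eq_smul_one, mul_smul, ← hone, ← hscal, ← smul_add,
        ← TensorProduct.tmul_add, ← map_add, ← hf, TensorProduct.smul_tmul', smul_eq_mul, mul_one]
  have hΦ : ∀ (i : ℕ) (S : Type u) [CommRing S] [Algebra R S] (a : S),
      algebraMap R S (u ^ p ^ i) * a = 0 → a ^ 2 = algebraMap R S ((v ^ 2) ^ p ^ i) →
        ∃ Φ : Twist p R (R[X] ⧸ I₀) i →+* S, ∀ r s : R,
          Φ (algebraMap R _ r + s • β i) = algebraMap R S r + algebraMap R S s * a := by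
    intro i S _ _ a h1 h2
    letI : Algebra (Src p R i) S := ((algebraMap R S).comp (algebraMap (Src p R i) R)).toAlgebra
    haveI : IsScalarTower (Src p R i) R S := IsScalarTower.of_algebraMap_eq fun _ => rfl
    let g₀ : R[X] →+* S := eval₂RingHom ((algebraMap R S).comp (iterateFrobenius R p i)) a
    let g₁ : R[X] ⧸ I₀ →+* S := Ideal.Quotient.lift I₀ g₀ (by
      intro z hz
      refine RingHom.mem_ker.1 (Ideal.span_le.2 ?_ hz)
      rintro z (rfl | rfl) <;> rw [SetLike.mem_coe, RingHom.mem_ker] <;>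
        simp only [g₀, coe_eval₂RingHom, eval₂_mul, eval₂_sub, eval₂_pow, eval₂_C, eval₂_X,
          RingHom.comp_apply, iterateFrobenius_def]
      · exact h1
      · rw [h2, sub_self])
    let g : ASrc p R (R[X] ⧸ I₀) i →ₐ[Src p R i] S :=
      { toRingHom := g₁.comp (aEquiv p R (R[X] ⧸ I₀) i : ASrc p R (R[X] ⧸ I₀) i →+* R[X] ⧸ I₀)
        commutes' := fun s => by
          change g₁ (algebraMap R (R[X] ⧸ I₀) (srcEquiv p R i s)) =
            algebraMap R S (algebraMap (Src p R i) R s)
          change g₀ (C (srcEquiv p R i s)) = _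
          simp [g₀, iterateFrobenius_def, algebraMap_src] }
    let Φ := Algebra.TensorProduct.lift (IsScalarTower.toAlgHom (Src p R i) R S) g (fun _ _ => Commute.all _ _)
    refine ⟨Φ.toRingHom, fun r s => ?_⟩
    change Φ _ = _
    rw [map_add, TensorProduct.smul_tmul', Algebra.TensorProduct.algebraMap_apply]
    rw [Algebra.TensorProduct.lift_tmul, Algebra.TensorProduct.lift_tmul, map_one, mul_one]
    simp [g, g₁, g₀, α]
  have htwo : ∀ a : R, a + a = 0 → a = 0 := by
    intro a ha
    have h2 : ((2 : ℕ) : R) * a = 0 := by rw [Nat.cast_two, two_mul, ha]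
    have hu : IsUnit ((2 : ℕ) : R) :=
      (CharP.isUnit_natCast_iff (Fact.out : p.Prime)).2 fun h =>
        hp ((Nat.prime_dvd_prime_iff_eq Fact.out Nat.prime_two).1 h)
    exact hu.mul_right_eq_zero.1 h2
  have hcoef : ∀ (i : ℕ) (r s r' : R), algebraMap R (Twist p R (R[X] ⧸ I₀) i) r + s • β i = algebraMap R _ r' →
      r = r' ∧ s ∈ Ideal.span {u ^ p ^ i} := by
    intro i r s r' h
    have hv : ∀ a : R, a = v ^ p ^ i ∨ a = -(v ^ p ^ i) → r + s * a = r' := by
      intro a ha
      obtain ⟨Φ, hΦ⟩ := hΦ i R a (by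
        rcases ha with rfl | rfl <;> simp [← mul_pow, huv, zero_pow, (Fact.out : p.Prime).ne_zero]) (by
        rcases ha with rfl | rfl <;> simp [← pow_mul, mul_comm])
      have h1 := congrArg Φ h
      rw [hΦ] at h1
      have h2 := hΦ r' 0
      rw [zero_smul, add_zero] at h2
      simp only [Algebra.algebraMap_self, RingHom.id_apply, zero_mul, add_zero] at h1 h2
      exact h1.trans h2
    have hr : r = r' := by
      have h1 := hv _ (Or.inl rfl)
      have h2 := hv _ (Or.inr rfl)
      exact sub_eq_zero.1 (htwo _ (by linear_combination h1 + h2))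
    refine ⟨hr, ?_⟩
    let Rb := R ⧸ Ideal.span {u ^ p ^ i}
    let fb : Rb[X] := X ^ 2 - C (Ideal.Quotient.mk _ ((v ^ 2) ^ p ^ i))
    obtain ⟨Φ, hΦ⟩ := hΦ i (AdjoinRoot fb) (AdjoinRoot.root fb) (by
      rw [IsScalarTower.algebraMap_apply R Rb (AdjoinRoot fb), Ideal.Quotient.algebraMap_eq,
        Ideal.Quotient.eq_zero_iff_mem.2 (Ideal.mem_span_singleton_self _), map_zero, zero_mul]) (by
      rw [IsScalarTower.algebraMap_apply R Rb (AdjoinRoot fb), Ideal.Quotient.algebraMap_eq]
      have := AdjoinRoot.eval₂_root fb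
      rw [eval₂_sub, eval₂_X_pow, eval₂_C, sub_eq_zero] at this
      exact this)
    have h1 := congrArg Φ h
    rw [hΦ, hr] at h1
    have h2 := hΦ r' 0
    rw [zero_smul, add_zero, map_zero, zero_mul, add_zero] at h2
    rw [h2, add_eq_left, IsScalarTower.algebraMap_apply R Rb (AdjoinRoot fb),
      Ideal.Quotient.algebraMap_eq] at h1
    rw [← Ideal.Quotient.eq_zero_iff_mem]
    change AdjoinRoot.mk fb (C (Ideal.Quotient.mk _ s) * X) = 0 at h1
    rw [AdjoinRoot.mk_eq_zero] at h1
    rcases subsingleton_or_nontrivial Rb with _ | _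
    · exact Subsingleton.elim _ _
    have hm : fb.Monic := monic_X_pow_sub_C _ two_ne_zero
    have h3 := (modByMonic_eq_zero_iff_dvd hm).2 h1
    rw [(modByMonic_eq_self_iff hm).2 ((degree_C_mul_X_le _).trans_lt (by
      rw [degree_X_pow_sub_C two_pos]; exact_mod_cast one_lt_two))] at h3
    simpa using congrArg (fun g : Rb[X] => g.coeff 1) h3
  constructor
  · intro a b hab
    have h := congrArg (fun z => (z.1 : ∀ j, Twist p R (R[X] ⧸ I₀) j) 0) hab
    exact (hcoef 0 a 0 b (by simpa using h)).1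
  · rintro ⟨x, hx⟩
    simp only [prePerf, Algebra.mem_iInf, AlgHom.mem_equalizer] at hx
    choose r s hrs using fun i => hnf i (x i)
    have hstep : ∀ i, algebraMap R (Twist p R (R[X] ⧸ I₀) i) (r (i + 1)) +
        (s (i + 1) * (v ^ (2 * e)) ^ p ^ i) • β i = algebraMap R _ (r i) + s i • β i := by
      intro i
      have h := hx i
      rw [AlgHom.comp_apply] at h
      change relFrob p R (R[X] ⧸ I₀) i (x (i + 1)) = x i at h
      rw [hrs, hrs i, map_add, AlgHom.commutes, map_smul, hβF, smul_smul] at h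
      exact h
    have hstep' : ∀ i, r (i + 1) = r i ∧
        s (i + 1) * (v ^ (2 * e)) ^ p ^ i - s i ∈ Ideal.span {u ^ p ^ i} := by
      intro i
      refine hcoef i _ _ _ ?_
      rw [sub_smul]
      linear_combination (norm := abel) hstep i
    have hr : ∀ i, r i = r 0 := fun i => by
      induction i with
      | zero => rfl
      | succ i ih => rw [(hstep' i).1, ih]
    have he1 : 1 ≤ e := by
      have := (Fact.out : p.Prime).two_le
      omega
    have hvn : ∀ n i, ∃ c, s i - c * v ^ n ∈ Ideal.span {u ^ p ^ i} := by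
      intro n
      induction n with
      | zero => exact fun i => ⟨s i, by simp⟩
      | succ n ih =>
        intro i
        obtain ⟨c, hc⟩ := ih (i + 1)
        obtain ⟨m, hm⟩ : ∃ m, 2 * e * p ^ i = m + 1 :=
          ⟨2 * e * p ^ i - 1, by
            have : 0 < 2 * e * p ^ i := Nat.mul_pos (by omega) (pow_pos (Fact.out : p.Prime).pos i)
            omega⟩
        refine ⟨c * v ^ m, ?_⟩
        have hle : Ideal.span {u ^ p ^ (i + 1)} ≤ Ideal.span {u ^ p ^ i} := by
          rw [Ideal.span_singleton_le_span_singleton]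
          exact pow_dvd_pow _ (Nat.pow_le_pow_right (Fact.out : p.Prime).pos (Nat.le_succ i))
        have := Ideal.add_mem _ (Ideal.mul_mem_right ((v ^ (2 * e)) ^ p ^ i) _ (hle hc))
          (Submodule.neg_mem _ (hstep' i).2)
        convert this using 1
        rw [← pow_mul, hm]
        ring
    refine ⟨r 0, Subtype.ext (funext fun i => ?_)⟩
    change algebraMap R (Twist p R (R[X] ⧸ I₀) i) (r 0) = x i
    rw [hrs i, hr i]
    have hsi : s i ∈ Ideal.span {u ^ p ^ i} := hsep _ (Nat.one_le_pow _ _ (Fact.out : p.Prime).pos) _ fun n => by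
      obtain ⟨c, hc⟩ := hvn n i
      refine Submodule.mem_sup.2 ⟨c * v ^ n, Ideal.mul_mem_left _ _ (Ideal.mem_span_singleton_self _),
        s i - c * v ^ n, hc, by ring⟩
    obtain ⟨w, hw⟩ := Ideal.mem_span_singleton'.1 hsi
    rw [← hw, mul_smul, hβu, smul_zero, add_zero]

end Groth.Agent.S13047
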