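import Groth.Statements.S13048
import Mathlib.RingTheory.Localization.Submodule
import Mathlib.Algebra.CharP.Algebra
import Mathlib.Algebra.CharP.Lemmas
import Mathlib.RingTheory.Jacobson.Ring
import Mathlib.RingTheory.Filtration
import Mathlib.RingTheory.Localization.AtPrime.Basic
import Mathlib.RingTheory.Finiteness.Basic
import Mathlib.Tactic.LinearCombination
-- import your own Groth.Agent.* helpers here

set_option autoImplicit false
universe u
open FrobAlg

namespace Groth.Agent.S13048

/-- Let k be an algebraically closed field of characteristic p > 0 and let A be a reduced finitely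
generated commutative k-algebra with connected spectrum (A ≠ 0 and 0, 1 are its only idempotents).
If x ∈ A is a p^n-th power in A for every n ≥ 0, then x lies in the image of k; that is, ⋂_n A^{p^n}
= k. (The published statement is: for an artinian local ring R of characteristic p and a flat
R-algebra A of finite type, the maps A^ét → O(π₀(A)) → A^{p^∞/R} from the largest étale subalgebra
to the preperfection are isomorphisms. This row is the case R = k algebraically closed and A reduced
with connected spectrum, where A^ét = k and the preperfection is ⋂_n A^{p^n}; the printed proof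
reduces to this case and its last step proves it.) -/
theorem result
    (p : ℕ) [Fact p.Prime] (k : Type u) [Field k] [IsAlgClosed k] [CharP k p]
    (A : Type u) [CommRing A] [Algebra k A] [Algebra.FiniteType k A] [IsReduced A] [Nontrivial A]
    (hconn : ∀ e : A, IsIdempotentElem e → e = 0 ∨ e = 1)
    (x : A) (hx : ∀ n : ℕ, ∃ a : A, a ^ p ^ n = x) :
    x ∈ (algebraMap k A).range := by
  haveI : IsNoetherianRing A := Algebra.FiniteType.isNoetherianRing k A
  -- key: at each maximal ideal, x is locally constant
  have key : ∀ m : Ideal A, m.IsMaximal → ∃ c : k, (x - algebraMap k A c) ∈ m ∧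
      ∃ s ∉ m, s * (x - algebraMap k A c) = 0 := by
    intro m hm
    haveI := hm
    letI := Ideal.Quotient.field m
    haveI : Module.Finite k (A ⧸ m) := finite_of_finite_type_of_isJacobsonRing k (A ⧸ m)
    have hbij : Function.Bijective (algebraMap k (A ⧸ m)) :=
      IsAlgClosed.algebraMap_bijective_of_isIntegral
    obtain ⟨c, hc⟩ := hbij.2 (Ideal.Quotient.mk m x)
    refine ⟨c, ?_, ?_⟩
    · rw [← Ideal.Quotient.eq_zero_iff_mem, map_sub, ← hc]
      exact sub_self _
    haveI : CharP A p := charP_of_injective_algebraMap (algebraMap k A).injective p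
    have hmem : ∀ n : ℕ, x - algebraMap k A c ∈ m ^ n := by
      intro n
      obtain ⟨a, ha⟩ := hx n
      obtain ⟨b, hb⟩ := hbij.2 (Ideal.Quotient.mk m a)
      have hbc : b ^ p ^ n = c := by
        apply hbij.1
        rw [map_pow, hb, hc, ← map_pow, ha]
      have h1 : a - algebraMap k A b ∈ m := by
        rw [← Ideal.Quotient.eq_zero_iff_mem, map_sub, ← hb]
        exact sub_self _
      have h2 := Ideal.pow_mem_pow h1 (p ^ n)
      rw [sub_pow_char_pow, ha, ← map_pow, hbc] at h2
      exact Ideal.pow_le_pow_right (n.lt_pow_self (Fact.out : p.Prime).one_lt).le h2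
    have hz : algebraMap A (Localization.AtPrime m) (x - algebraMap k A c) = 0 := by
      have h : algebraMap A (Localization.AtPrime m) (x - algebraMap k A c) ∈
          ⨅ n : ℕ, IsLocalRing.maximalIdeal (Localization.AtPrime m) ^ n := by
        rw [Submodule.mem_iInf]
        intro n
        rw [← Localization.AtPrime.map_eq_maximalIdeal, ← Ideal.map_pow]
        exact Ideal.mem_map_of_mem _ (hmem n)
      rwa [Ideal.iInf_pow_eq_bot_of_isLocalRing _ (IsLocalRing.maximalIdeal.isMaximal _).ne_top,
        Ideal.mem_bot] at h
    obtain ⟨⟨s, hs⟩, hs0⟩ := (IsLocalization.map_eq_zero_iff m.primeCompl _ _).1 hz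
    exact ⟨s, hs, hs0⟩
  obtain ⟨m₀, hm₀⟩ := Ideal.exists_maximal A
  obtain ⟨c, hc, hc'⟩ := key m₀ hm₀
  set z := x - algebraMap k A c with hzdef
  let J : Ideal A := (Ideal.span {z}).annihilator
  have hJ : ∀ s, s ∈ J ↔ s * z = 0 := fun s => by
    simp [J, Submodule.mem_annihilator_span_singleton]
  have htop : J ⊔ Ideal.span {z} = ⊤ := by
    by_contra hne
    obtain ⟨m, hm, hle⟩ := Ideal.exists_le_maximal _ hne
    obtain ⟨d, hd, s, hs, hs0⟩ := key m hm
    by_cases hdc : d = c
    · exact hs (hle (Ideal.mem_sup_left ((hJ s).2 (by rw [hzdef, ← hdc]; exact hs0))))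
    · have hz : z ∈ m := hle (Ideal.mem_sup_right (Ideal.mem_span_singleton_self z))
      have h3 : algebraMap k A (d - c) ∈ m := by
        have := sub_mem hz hd
        rw [hzdef] at this
        simpa [map_sub] using this
      exact hm.ne_top (Ideal.eq_top_of_isUnit_mem _ h3
        ((IsUnit.mk0 _ (sub_ne_zero.2 hdc)).map (algebraMap k A)))
  obtain ⟨j, hj, w, hw, hjw⟩ := Submodule.mem_sup.1 (htop ▸ Submodule.mem_top : (1 : A) ∈ J ⊔ _)
  obtain ⟨r, rfl⟩ := Ideal.mem_span_singleton'.1 hw
  have hjz := (hJ j).1 hj
  have hid : IsIdempotentElem j := by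
    unfold IsIdempotentElem
    linear_combination j * hjw - r * hjz
  rcases hconn j hid with h | h
  · subst h
    exact absurd (Ideal.eq_top_of_isUnit_mem _ (Ideal.mul_mem_left _ r hc)
      (by rw [show r * z = 1 by simpa using hjw]; exact isUnit_one)) hm₀.ne_top
  · subst h
    exact ⟨c, (sub_eq_zero.1 (by simpa using hjz)).symm⟩

end Groth.Agent.S13048
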