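import Groth.Statements.S1305
import Groth.Agent.Lib.Thickening.Morphisms
-- import your own Groth.Agent.* helpers here

set_option autoImplicit false
universe u
open FlatMor

namespace Groth.Agent.S1305

open CategoryTheory CategoryTheory.Limits AlgebraicGeometry

open AlgebraicGeometry CategoryTheory Limits in
/-- For a morphism of thickenings, that is a commutative square whose horizontal maps are thickenings
(closed immersions that are surjective on points), the morphism between the thin schemes is integral
if and only if the morphism between the thick ones is. -/
theorem result {X X' S S' : Scheme.{u}} (iX : X ⟶ X') (iS : S ⟶ S') (f : X ⟶ S) (f' : X' ⟶ S')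
    (hX : MoreMor.IsThickening iX) (hS : MoreMor.IsThickening iS) (w : iX ≫ f' = f ≫ iS) :
    IsIntegralHom f ↔ IsIntegralHom f' := by
  have := hX.1
  have := hX.2
  have := hS.1
  have := hS.2
  rw [← GrothLib.Thickening.isIntegralHom_comp_iff iX f', w]
  constructor
  · intro _
    exact MorphismProperty.comp_mem (W := @IsIntegralHom) _ _ ‹_› inferInstance
  · exact GrothLib.Thickening.of_comp_mono @IsIntegralHom f iS

end Groth.Agent.S1305
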