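import Groth.Statements.S13052
import Groth.Agent.Lib.Zeta.Counting

set_option autoImplicit false
universe u
open CategoryTheory AlgebraicGeometry
open Zeta

namespace Groth.Agent.S13052

/-- If X is a scheme of finite type over a finite field k, Y ↪ X a closed subscheme and U = X ∖ Y its
open complement, then Z(X, t) = Z(Y, t) · Z(U, t). Here Y is any scheme with a closed immersion into
X whose image is the complement of U (its scheme structure plays no role), and Y, U are k-schemes
through X. -/
theorem result {k : Type u} [Field k] [Finite k]
    {X Y : Scheme.{u}} (f : X ⟶ Spec (CommRingCat.of k)) [LocallyOfFiniteType f] [QuasiCompact f]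
    (U : X.Opens) (i : Y ⟶ X) [IsClosedImmersion i] (hY : Set.range i.base = (U : Set X)ᶜ) :
    Zeta.zetaFun f = Zeta.zetaFun (i ≫ f) * Zeta.zetaFun (U.ι ≫ f) := by
  have inst1 : ∀ b : Bool, IsPreimmersion (match b with
      | true => U.ι
      | false => i : (bif b then (U : Scheme.{u}) else Y) ⟶ X) := fun b => by
    cases b <;> dsimp <;> infer_instance
  have inst2 : ∀ b : Bool, LocallyOfFiniteType (match b with
      | true => U.ι
      | false => i : (bif b then (U : Scheme.{u}) else Y) ⟶ X) := fun b => by
    cases b <;> dsimp <;> infer_instance
  have h := GrothLib.Zeta.zetaFun_eq_prod f (fun b : Bool => bif b then (U : Scheme.{u}) else Y)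
    (fun b => match b with
      | true => U.ι
      | false => i)
  rw [mul_comm]
  refine (h fun x _ => ?_).trans (by simp)
  by_cases hx : x ∈ U
  · refine ⟨true, ?_, fun b hb => ?_⟩
    · show x ∈ Set.range U.ι
      rw [Scheme.Opens.range_ι]
      exact hx
    · cases b
      · have hx' : x ∈ Set.range i.base := hb
        rw [hY] at hx'
        exact absurd hx hx'
      · rfl
  · refine ⟨false, ?_, fun b hb => ?_⟩
    · show x ∈ Set.range i.base
      rw [hY]
      exact hx
    · cases b
      · rfl
      · have hx' : x ∈ Set.range U.ι := hb
        rw [Scheme.Opens.range_ι] at hx'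
        exact absurd hx' hx

end Groth.Agent.S13052
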