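import Groth.Statements.S13053
import Groth.Agent.Lib.Zeta.Spaces
import Groth.Agent.Lib.Chow.Prod

set_option autoImplicit false
universe u
open CategoryTheory AlgebraicGeometry
open Zeta

namespace Groth.Agent.S13053

/-- For a finite field k with q elements, Z(P^n_k, t) = 1 / ((1 − t)(1 − qt) ⋯ (1 − q^n t)); stated as
Z(P^n_k, t) · ∏_{i = 0}^{n} (1 − q^i t) = 1 in ℚ⟦t⟧. -/
theorem result (k : Type u) [Field k] [Finite k] (n : ℕ) :
    Zeta.zetaFun (CohB1.ProjSpace.toSpec n k) *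
        ∏ i ∈ Finset.range (n + 1), (1 - PowerSeries.C ((Nat.card k : ℚ) ^ i) * PowerSeries.X) = 1 := by
  have := GrothLib.Chow.isProper_toSpec n k
  have h0 := GrothLib.Zeta.IsExpOf.prod (Finset.range (n + 1))
    (F := fun i : ℕ => (1 - PowerSeries.C ((Nat.card k : ℚ) ^ i) * PowerSeries.X))
    fun i _ => GrothLib.Zeta.isExpOf_one_sub_X ((Nat.card k : ℚ) ^ i)
  refine ((GrothLib.Zeta.isExpOf_zetaFun _).mul h0).ext GrothLib.Zeta.isExpOf_one
    (by simp [GrothLib.Zeta.nPts_zero]) rfl fun m hm => ?_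
  have h : Zeta.nPts (CohB1.ProjSpace.toSpec n k) m =
      ∑ j ∈ Finset.range (n + 1), (Nat.card k ^ m) ^ j :=
    GrothLib.Zeta.nPts_eq_of_pointCount _ (fun m => ∑ j ∈ Finset.range (n + 1), (Nat.card k ^ m) ^ j)
      (fun k₁ _ _ _ => by
        rw [GrothLib.Zeta.pointCount_projSpace, ← Module.natCard_eq_pow_finrank]) m hm
  have hm0 : m ≠ 0 := by omega
  simp only [Pi.add_apply, if_neg hm0, h, Pi.zero_apply, Finset.sum_neg_distrib]
  push_cast
  simp_rw [← pow_mul, mul_comm m]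
  simp

end Groth.Agent.S13053
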