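import Groth.Statements.S13055
import Groth.Agent.Lib.Zeta.Counting

set_option autoImplicit false
universe u
open CategoryTheory AlgebraicGeometry
open Zeta

namespace Groth.Agent.S13055

/-- Let X be a scheme of finite type over a finite field k with q elements and P = a_d y^d + ⋯ + a_0 ∈
ℤ[y] with N_m = P(q^m) for every m ≥ 1 (X is of polynomial count). Then Z(X, t) = ∏_{i = 0}^{d} (1 −
q^i t)^{−a_i}; stated cleared of denominators, with the factors of positive exponent moved to the
left. -/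
theorem result {k : Type u} [Field k] [Finite k] {X : Scheme.{u}}
    (f : X ⟶ Spec (CommRingCat.of k)) [LocallyOfFiniteType f] [QuasiCompact f] (P : Polynomial ℤ)
    (hP : ∀ m : ℕ, 1 ≤ m → (Zeta.nPts f m : ℤ) = P.eval ((Nat.card k : ℤ) ^ m)) :
    Zeta.zetaFun f * ∏ i ∈ Finset.range (P.natDegree + 1),
        (1 - PowerSeries.C ((Nat.card k : ℚ) ^ i) * PowerSeries.X) ^ (P.coeff i).toNat =
      ∏ i ∈ Finset.range (P.natDegree + 1),
        (1 - PowerSeries.C ((Nat.card k : ℚ) ^ i) * PowerSeries.X) ^ (-P.coeff i).toNat := by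
  classical
  have hb : ∀ a : ℕ → ℕ, GrothLib.Zeta.IsExpOf
      (fun m => ∑ i ∈ Finset.range (P.natDegree + 1),
        (a i : ℚ) * if m = 0 then 0 else -((Nat.card k : ℚ) ^ i) ^ m)
      (∏ i ∈ Finset.range (P.natDegree + 1),
        (1 - PowerSeries.C ((Nat.card k : ℚ) ^ i) * PowerSeries.X) ^ a i) := fun a =>
    GrothLib.Zeta.IsExpOf.prod _ fun i _ =>
      (GrothLib.Zeta.isExpOf_one_sub_X ((Nat.card k : ℚ) ^ i)).pow (a i)
  refine ((GrothLib.Zeta.isExpOf_zetaFun f).mul (hb fun i => (P.coeff i).toNat)).ext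
    (hb fun i => (-P.coeff i).toNat) ?_ ?_ fun m hm => ?_
  · simp [GrothLib.Zeta.nPts_zero]
  · simp
  · have hm0 : m ≠ 0 := by omega
    simp only [Pi.add_apply, if_neg hm0]
    have h := congrArg (fun z : ℤ => (z : ℚ)) (hP m hm)
    simp only [Int.cast_natCast] at h
    rw [h, Polynomial.eval_eq_sum_range, Int.cast_sum, ← Finset.sum_add_distrib]
    refine Finset.sum_congr rfl fun i _ => ?_
    have h2 : ((P.coeff i).toNat : ℚ) - ((-P.coeff i).toNat : ℚ) = (P.coeff i : ℚ) := by
      exact_mod_cast (Int.toNat_sub_toNat_neg (P.coeff i))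
    push_cast
    rw [← h2, ← pow_mul, ← pow_mul, mul_comm m i]
    ring

end Groth.Agent.S13055
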