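import Groth.Statements.S13057
import Mathlib

set_option autoImplicit false
universe u
open Zeta

namespace Groth.Agent.S13057

/-- A power series f = ∑_{m ≥ 0} a_m t^m over a field L lies in L(t), i.e. f · Q = P for some
polynomials P, Q with Q ≠ 0, if and only if there are natural numbers M, N such that the vectors
(a_i, a_{i+1}, …, a_{i+N}) ∈ L^{N+1}, i ≥ M, span a proper subspace. -/
theorem result {L : Type u} [Field L]
    (f : PowerSeries L) :
    (∃ P Q : Polynomial L, Q ≠ 0 ∧ f * (Q : PowerSeries L) = (P : PowerSeries L)) ↔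
      ∃ M N : ℕ, Submodule.span L
          {v : Fin (N + 1) → L | ∃ i : ℕ, M ≤ i ∧ v = fun j : Fin (N + 1) => PowerSeries.coeff (i + (j : ℕ)) f} ≠ ⊤ := by
  classical
  constructor
  · rintro ⟨P, Q, hQ, hPQ⟩
    refine ⟨P.natDegree + 1, Q.natDegree, ?_⟩
    let φ : (Fin (Q.natDegree + 1) → L) →ₗ[L] L :=
      ∑ j : Fin (Q.natDegree + 1), Q.coeff (Q.natDegree - j) • LinearMap.proj j
    refine fun htop => hQ (Polynomial.leadingCoeff_eq_zero.1 ?_)
    have hφ : φ = 0 := by
      refine LinearMap.ext_on htop ?_
      rintro v ⟨i, hi, rfl⟩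
      have h := congrArg (PowerSeries.coeff (i + Q.natDegree)) hPQ
      rw [Polynomial.coeff_coe, Polynomial.coeff_eq_zero_of_natDegree_lt (by omega), PowerSeries.coeff_mul,
        Finset.Nat.sum_antidiagonal_eq_sum_range_succ (fun a b => PowerSeries.coeff a f * PowerSeries.coeff b (Q : PowerSeries L)),
        Nat.succ_eq_add_one, add_assoc, Finset.sum_range_add, Finset.sum_eq_zero, zero_add] at h
      · simp only [φ, LinearMap.sum_apply, LinearMap.smul_apply, LinearMap.proj_apply, smul_eq_mul,
          LinearMap.zero_apply]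
        rw [← h, ← Fin.sum_univ_eq_sum_range (fun x => PowerSeries.coeff (i + x) f *
          PowerSeries.coeff (i + Q.natDegree - (i + x)) (Q : PowerSeries L)) (Q.natDegree + 1)]
        refine Finset.sum_congr rfl fun j _ => ?_
        rw [Polynomial.coeff_coe, show i + Q.natDegree - (i + (j : ℕ)) = Q.natDegree - j by omega]
        ring
      · intro x hx
        rw [Polynomial.coeff_coe, Polynomial.coeff_eq_zero_of_natDegree_lt (by
          have := Finset.mem_range.1 hx; omega), mul_zero]
    have := LinearMap.congr_fun hφ (Pi.single 0 1)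
    simpa [φ, Pi.single_apply, Finset.sum_ite_eq'] using this
  · rintro ⟨M, N, hne⟩
    obtain ⟨φ, hφ0, hφ⟩ := Submodule.exists_le_ker_of_lt_top _ (lt_top_iff_ne_top.2 hne)
    let cc : Fin (N + 1) → L := fun j => φ (Pi.single j 1)
    let Q : Polynomial L := ∑ j : Fin (N + 1), Polynomial.monomial (N - j) (cc j)
    have hQc : ∀ j : Fin (N + 1), Q.coeff (N - j) = cc j := by
      intro j
      simp only [Q, Polynomial.finset_sum_coeff, Polynomial.coeff_monomial]
      rw [Finset.sum_eq_single j (fun b _ hb => if_neg (fun h => hb (Fin.ext (by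
        have := b.2; have := j.2; omega)))) (by simp), if_pos rfl]
    have hQd : ∀ n, N < n → Q.coeff n = 0 := by
      intro n hn
      simp only [Q, Polynomial.finset_sum_coeff, Polynomial.coeff_monomial]
      exact Finset.sum_eq_zero fun b _ => if_neg (by omega)
    have hexp : ∀ v, φ v = ∑ j, v j * cc j := by
      intro v
      conv_lhs => rw [← Finset.univ_sum_single v, map_sum]
      refine Finset.sum_congr rfl fun j _ => ?_
      rw [show Pi.single j (v j) = v j • (Pi.single j 1 : Fin (N + 1) → L) by
        rw [← Pi.single_smul]; simp, map_smul, smul_eq_mul]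
    refine ⟨PowerSeries.trunc (M + N) (f * (Q : PowerSeries L)), Q, fun hQ0 => hφ0 ?_, ?_⟩
    · refine LinearMap.ext fun v => ?_
      rw [hexp, LinearMap.zero_apply]
      exact Finset.sum_eq_zero fun j _ => by rw [← hQc j, hQ0, Polynomial.coeff_zero, mul_zero]
    · ext n
      rw [Polynomial.coeff_coe, PowerSeries.coeff_trunc]
      split_ifs with hn
      · rfl
      obtain ⟨i, rfl⟩ : ∃ i, n = i + N := ⟨n - N, by omega⟩
      rw [PowerSeries.coeff_mul,
        Finset.Nat.sum_antidiagonal_eq_sum_range_succ (fun a b => PowerSeries.coeff a f * PowerSeries.coeff b (Q : PowerSeries L)),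
        Nat.succ_eq_add_one, add_assoc, Finset.sum_range_add, Finset.sum_eq_zero, zero_add]
      · have h0 : φ (fun j : Fin (N + 1) => PowerSeries.coeff (i + (j : ℕ)) f) = 0 :=
          hφ (Submodule.subset_span ⟨i, by omega, rfl⟩)
        rw [← h0, hexp, ← Fin.sum_univ_eq_sum_range (fun x => PowerSeries.coeff (i + x) f *
          PowerSeries.coeff (i + N - (i + x)) (Q : PowerSeries L)) (N + 1)]
        refine Finset.sum_congr rfl fun j _ => ?_
        rw [Polynomial.coeff_coe, show i + N - (i + (j : ℕ)) = N - j by omega, hQc]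
      · intro x hx
        rw [Polynomial.coeff_coe, hQd _ (by have := Finset.mem_range.1 hx; omega), mul_zero]

end Groth.Agent.S13057
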