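import Groth.Statements.S13058
import Mathlib
import Groth.Agent.S13057

set_option autoImplicit false
universe u v
open Zeta

namespace Groth.Agent.S13058

/-- If L'/L is a field extension, a power series f ∈ L⟦t⟧ belongs to L(t) exactly when it belongs to
L'(t); here membership in L(t) means f · Q = P for polynomials P, Q over the field in question with
Q ≠ 0. -/
theorem result {L : Type u} {L' : Type v} [Field L] [Field L']
    [Algebra L L'] (f : PowerSeries L) :
    (∃ P Q : Polynomial L', Q ≠ 0 ∧
        PowerSeries.map (algebraMap L L') f * (Q : PowerSeries L') = (P : PowerSeries L')) ↔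
      ∃ P Q : Polynomial L, Q ≠ 0 ∧ f * (Q : PowerSeries L) = (P : PowerSeries L) := by
  constructor
  · intro h
    obtain ⟨M, N, hne⟩ := (Groth.Agent.S13057.result _).1 h
    refine (Groth.Agent.S13057.result f).2 ⟨M, N, fun htop => hne (Submodule.eq_top_iff'.2 fun v => ?_)⟩
    classical
    have hmap : ∀ w : Fin (N + 1) → L, (fun j => algebraMap L L' (w j)) ∈ Submodule.span L'
        {v : Fin (N + 1) → L' | ∃ i : ℕ, M ≤ i ∧ v = fun j : Fin (N + 1) =>
          PowerSeries.coeff (i + (j : ℕ)) (PowerSeries.map (algebraMap L L') f)} := by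
      intro w
      have hw : w ∈ Submodule.span L {v : Fin (N + 1) → L | ∃ i : ℕ, M ≤ i ∧ v = fun j : Fin (N + 1) =>
          PowerSeries.coeff (i + (j : ℕ)) f} := htop ▸ Submodule.mem_top
      induction hw using Submodule.span_induction with
      | mem x hx =>
        obtain ⟨i, hi, rfl⟩ := hx
        exact Submodule.subset_span ⟨i, hi, funext fun j => (PowerSeries.coeff_map _ _ _).symm⟩
      | zero => simp only [Pi.zero_apply, map_zero]; exact Submodule.zero_mem _
      | add x y _ _ hx hy =>
        simp only [Pi.add_apply, map_add]
        exact Submodule.add_mem _ hx hy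
      | smul a x _ hx =>
        simp only [Pi.smul_apply, smul_eq_mul, map_mul]
        exact Submodule.smul_mem _ (algebraMap L L' a) hx
    rw [← Finset.univ_sum_single v]
    refine Submodule.sum_mem _ fun j _ => ?_
    have : (Pi.single j (v j) : Fin (N + 1) → L') = v j • fun l => algebraMap L L' ((Pi.single j 1 : Fin (N + 1) → L) l) := by
      funext l
      by_cases h : l = j
      · subst h; simp
      · simp [Pi.single_eq_of_ne h]
    rw [this]
    exact Submodule.smul_mem _ _ (hmap _)
  · rintro ⟨P, Q, hQ, h⟩
    refine ⟨P.map (algebraMap L L'), Q.map (algebraMap L L'),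
      (Polynomial.map_ne_zero_iff (algebraMap L L').injective).2 hQ, ?_⟩
    rw [Polynomial.polynomial_map_coe, Polynomial.polynomial_map_coe, ← map_mul, h]

end Groth.Agent.S13058
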