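import Groth.Statements.S13059
import Mathlib.Tactic.LinearCombination
import Mathlib.LinearAlgebra.Matrix.Charpoly.Coeff
import Mathlib.LinearAlgebra.Charpoly.ToMatrix
import Mathlib.LinearAlgebra.Matrix.Dual

set_option autoImplicit false
universe u
open Zeta

namespace Groth.Agent.S13059

/-- Let B : V × W → K be a perfect pairing of finite-dimensional vector spaces over a field K, c ∈ K
nonzero, and f, g endomorphisms of V, W with B(f v, g w) = c · B(v, w) for all v, w. Then det(Id − t
g) = (−1)^r c^r t^r det(f)^{−1} det(Id − c^{−1} t^{−1} f) with r the common dimension; stated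
cleared of denominators as det(f) · det(Id − t g) = (−1)^r c^r · det(t Id − c^{−1} f) in K[t],
det(Id − t g) being the reverse of the characteristic polynomial of g. -/
theorem result (K : Type u) [Field K] (V W : Type u)
    [AddCommGroup V] [Module K V] [FiniteDimensional K V] [AddCommGroup W] [Module K W]
    [FiniteDimensional K W] (B : V →ₗ[K] W →ₗ[K] K) [B.IsPerfPair] (f : V →ₗ[K] V) (g : W →ₗ[K] W)
    (c : K) (hc : c ≠ 0) (hfg : ∀ (v : V) (w : W), B (f v) (g w) = c * B v w) :
    LinearMap.det f • (LinearMap.charpoly g).reverse =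
      ((-1) ^ Module.finrank K W * c ^ Module.finrank K W) • (c⁻¹ • f).charpoly := by
  classical
  set e := B.toPerfPair with he
  have key : g.dualMap ∘ₗ e.conj f = c • LinearMap.id := by
    refine LinearMap.ext fun φ => LinearMap.ext fun w => ?_
    have h := hfg (e.symm φ) w
    rw [B.apply_symm_toPerfPair_self φ] at h
    simpa [LinearEquiv.conj_apply, he, LinearMap.dualMap_apply] using h
  set b := Module.finBasis K W
  set F := LinearMap.toMatrix b.dualBasis b.dualBasis (e.conj f) with hF
  set G := LinearMap.toMatrix b b g with hG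
  have hGF : G.transpose * F = c • 1 := by
    rw [hG, ← LinearMap.toMatrix_transpose, hF, ← LinearMap.toMatrix_comp]
    show LinearMap.toMatrix b.dualBasis b.dualBasis (g.dualMap ∘ₗ e.conj f) = c • 1
    rw [key, map_smul, LinearMap.toMatrix_id]
  have hFG' : F * G.transpose = c • 1 := by
    have h1 : (c⁻¹ • G.transpose) * F = 1 := by
      rw [Matrix.smul_mul, hGF, smul_smul, inv_mul_cancel₀ hc, one_smul]
    have h2 := mul_eq_one_comm.1 h1
    rw [Matrix.mul_smul] at h2
    rw [← one_smul K (F * G.transpose), ← mul_inv_cancel₀ hc, ← smul_smul, h2]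
  have hdet : LinearMap.det f = F.det := by
    rw [hF, LinearMap.det_toMatrix, LinearEquiv.conj_apply, LinearMap.comp_assoc, LinearMap.det_conj]
  have hrev : g.charpoly.reverse = G.transpose.charpolyRev := by
    rw [hG, ← LinearMap.charpoly_toMatrix g b, ← Matrix.reverse_charpoly, Matrix.charpoly_transpose]
  have hcp : (c⁻¹ • f).charpoly = (c⁻¹ • F).charpoly := by
    rw [hF, ← map_smul, LinearMap.charpoly_toMatrix, ← map_smul, LinearEquiv.charpoly_conj]
  rw [hdet, hrev, hcp, Matrix.charpoly, Polynomial.smul_eq_C_mul, Polynomial.smul_eq_C_mul]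
  simp only [Matrix.charpolyRev]
  rw [RingHom.map_det, RingHom.mapMatrix_apply, ← Matrix.det_mul]
  have hprod : F.map Polynomial.C *
      (1 - (Polynomial.X : Polynomial K) • G.transpose.map Polynomial.C) =
      (-Polynomial.C c) • Matrix.charmatrix (c⁻¹ • F) := by
    rw [mul_sub, mul_one, Matrix.mul_smul, ← Matrix.map_mul, hFG']
    refine Matrix.ext fun i j => ?_
    by_cases hij : i = j
    · subst hij
      have : (Polynomial.C c) * Polynomial.C (c⁻¹ * F i i) = Polynomial.C (F i i) := by
        rw [← Polynomial.C_mul, ← mul_assoc, mul_inv_cancel₀ hc, one_mul]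
      simp [Matrix.charmatrix_apply, mul_sub, -map_mul]
      linear_combination this.symm
    · have : (Polynomial.C c) * Polynomial.C (c⁻¹ * F i j) = Polynomial.C (F i j) := by
        rw [← Polynomial.C_mul, ← mul_assoc, mul_inv_cancel₀ hc, one_mul]
      simp [Matrix.charmatrix_apply, hij, -map_mul, this]
  rw [hprod, Matrix.det_smul, Fintype.card_fin, ← neg_one_mul (Polynomial.C c), mul_pow, map_mul,
    map_pow, map_pow, map_neg, map_one]

end Groth.Agent.S13059
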