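import Groth.Statements.S13060
import Mathlib

set_option autoImplicit false
universe u v w x
open TensorProduct
open Zeta

namespace Groth.Agent.S13060

/-- Let k be a field, V and W vector spaces over k and G a group acting on V by k-linear automorphisms;
for the induced action on V ⊗_k W (trivial on W) one has (V ⊗_k W)^G = V^G ⊗_k W, i.e. the
invariants of V ⊗ W are the image of V^G ⊗ W → V ⊗ W. -/
theorem result {k : Type u} [Field k] {G : Type v} [Group G]
    {V : Type w} {W : Type x} [AddCommGroup V] [Module k V] [AddCommGroup W] [Module k W]
    (ρ : Representation k G V) :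
    (ρ.tprod (Representation.trivial k G W)).invariants =
      LinearMap.range (TensorProduct.map ρ.invariants.subtype (LinearMap.id : W →ₗ[k] W)) := by
  classical
  let b := Module.Free.chooseBasis k W
  refine le_antisymm (fun t ht => ?_) ?_
  · obtain ⟨c, rfl⟩ : ∃ c, (TensorProduct.equivFinsuppOfBasisRight b).symm c = t :=
      ⟨_, LinearEquiv.symm_apply_apply _ t⟩
    have hc : ∀ (g : G) i, ρ g (c i) = c i := by
      intro g i
      have h := congrArg (fun z => (TensorProduct.equivFinsuppOfBasisRight b) z i) (ht g)
      simp only [LinearEquiv.apply_symm_apply] at h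
      have hnat : ∀ z : TensorProduct k V W, TensorProduct.equivFinsuppOfBasisRight b
          ((ρ.tprod (Representation.trivial k G W)) g z) i =
          ρ g (TensorProduct.equivFinsuppOfBasisRight b z i) := by
        intro z
        induction z using TensorProduct.induction_on with
        | zero => simp
        | tmul v w => simp [TensorProduct.equivFinsuppOfBasisRight_apply_tmul_apply, map_smul]
        | add x y hx hy => simp only [map_add, Finsupp.add_apply, hx, hy]
      rw [hnat, LinearEquiv.apply_symm_apply] at h
      exact h
    rw [TensorProduct.equivFinsuppOfBasisRight_symm_apply, Finsupp.sum]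
    refine Submodule.sum_mem _ fun i _ => ?_
    exact ⟨(⟨c i, fun g => hc g i⟩ : ρ.invariants) ⊗ₜ b i, rfl⟩
  · rintro _ ⟨s, rfl⟩ g
    induction s using TensorProduct.induction_on with
    | zero => simp
    | tmul v w =>
      simp only [TensorProduct.map_tmul, Submodule.subtype_apply, LinearMap.id_coe, id_eq]
      show (TensorProduct.map (ρ g) ((Representation.trivial k G W) g)) ((v : V) ⊗ₜ w) = _
      rw [TensorProduct.map_tmul, v.2 g]
      simp
    | add x y hx hy => simp only [map_add, hx, hy]

end Groth.Agent.S13060
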