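import Groth.Statements.S13061
import Mathlib

set_option autoImplicit false
universe u v w
open Zeta

namespace Groth.Agent.S13061

/-- Let A be a commutative algebra over a field k, G a finite group acting on A by k-algebra
automorphisms and I ⊆ A an ideal preserved by G. If p^n is the largest power of p = char(k) dividing
|G| (with p^n = 1 when char(k) = 0), then for every G-invariant b ∈ A/I the power b^{p^n} lies in
the image of A^G → (A/I)^G. (The published statement takes A finitely generated over k, which the
proof does not use.) -/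
theorem result {k : Type u} [Field k]
    {A : Type v} [CommRing A] [Algebra k A] {G : Type w} [Group G] [Finite G]
    [MulSemiringAction G A] [SMulCommClass G k A] (I : Ideal A)
    (hI : ∀ (g : G) (a : A), a ∈ I → g • a ∈ I) (u : A) (hu : ∀ g : G, g • u - u ∈ I) :
    ∃ a : A, (∀ g : G, g • a = a) ∧
      Ideal.Quotient.mk I a =
        Ideal.Quotient.mk I u ^ (ringChar k ^ (Nat.card G).factorization (ringChar k)) := by
  classical
  set p := ringChar k with hp
  set e := (Nat.card G).factorization p with he
  obtain ⟨P, hP⟩ : ∃ P : Subgroup G, Nat.card P = p ^ e := by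
    rcases CharP.char_is_prime_or_zero k p with h | h
    · haveI : Fact p.Prime := ⟨h⟩
      exact Sylow.exists_subgroup_card_pow_prime p (Nat.ordProj_dvd _ _)
    · exact ⟨⊥, by rw [Subgroup.card_bot, he, h, Nat.factorization_zero_right, pow_zero]⟩
  have : Fintype G := Fintype.ofFinite G
  have : Fintype P := Fintype.ofFinite P
  have : Fintype (G ⧸ P) := Fintype.ofFinite _
  have hm : ((Nat.card (G ⧸ P) : ℕ) : k) ≠ 0 := by
    rw [Ne, ringChar.spec, ← hp]
    intro hdvd
    have hmul := Subgroup.card_eq_card_quotient_mul_card_subgroup P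
    rw [hP] at hmul
    rcases CharP.char_is_prime_or_zero k p with h | h
    · have : p ^ (e + 1) ∣ Nat.card G := by
        rw [hmul, pow_succ', mul_comm (Nat.card _)]
        exact mul_comm p (p ^ e) ▸ Nat.mul_dvd_mul_left _ hdvd
      exact Nat.pow_succ_factorization_not_dvd Nat.card_pos.ne' h this
    · rw [h, zero_dvd_iff] at hdvd
      exact Nat.card_pos.ne' hdvd
  set w : A := ∏ h : P, (h : G) • u with hw
  set mk := Ideal.Quotient.mk I
  have hmk : ∀ g : G, mk (g • u) = mk u := fun g => Ideal.Quotient.eq.2 (hu g)
  have hwmk : mk w = mk u ^ p ^ e := by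
    rw [hw, map_prod, Finset.prod_congr rfl fun (h : P) _ => hmk h, Finset.prod_const, Finset.card_univ,
      ← Nat.card_eq_fintype_card, hP]
  have hgw : ∀ g : G, mk (g • w) = mk u ^ p ^ e := fun g => by
    rw [← hwmk, Ideal.Quotient.eq]
    have hsub : w - u ^ p ^ e ∈ I := Ideal.Quotient.eq.1 (by rw [map_pow]; exact hwmk)
    have h1 := hI g _ hsub
    have h2 : g • u ^ p ^ e - u ^ p ^ e ∈ I := Ideal.Quotient.eq.1 (by rw [smul_pow', map_pow, map_pow, hmk])
    rw [smul_sub] at h1
    have := sub_mem (add_mem h1 h2) hsub
    convert this using 1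
    ring
  have hinv : ∀ h : P, (h : G) • w = w := fun h => by
    rw [hw, Finset.smul_prod']
    simp only [← mul_smul, ← Subgroup.coe_mul]
    exact Equiv.prod_comp (Equiv.mulLeft h) fun h' : P => (h' : G) • u
  let φ : G ⧸ P → A := fun q => Quotient.liftOn' q (fun g => g • w) fun a b hab => by
    rw [QuotientGroup.leftRel_apply] at hab
    have := hinv ⟨_, hab⟩
    show a • w = b • w
    conv_lhs => rw [← this, ← mul_smul, mul_inv_cancel_left]
  refine ⟨((Nat.card (G ⧸ P) : ℕ) : k)⁻¹ • ∑ q, φ q, fun g => ?_, ?_⟩
  · rw [smul_comm, Finset.smul_sum]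
    congr 1
    rw [← Equiv.sum_comp (MulAction.toPerm g) φ]
    refine Finset.sum_congr rfl fun q _ => ?_
    induction q using QuotientGroup.induction_on with
    | H a => exact (mul_smul g a w).symm
  · rw [Algebra.smul_def, map_mul, map_sum, Finset.sum_congr rfl (g := fun _ => mk u ^ p ^ e) fun q _ => by
      induction q using QuotientGroup.induction_on with
      | H a => exact hgw a]
    rw [Finset.sum_const, Finset.card_univ, nsmul_eq_mul, ← Nat.card_eq_fintype_card, ← mul_assoc,
      ← map_natCast mk, ← map_mul, ← map_natCast (algebraMap k A), ← map_mul, inv_mul_cancel₀ hm, map_one,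
      map_one, one_mul]

end Groth.Agent.S13061
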