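import Groth.Statements.S13063
import Groth.Agent.Lib.LangWeil28.Scheme

set_option autoImplicit false
universe u
open CategoryTheory AlgebraicGeometry Limits
open Zeta

namespace Groth.Agent.S13063

/-- Let X be a scheme of finite type over a finite field k with q elements, of dimension r. For each
irreducible component Z of X of dimension r let m_Z be the number of irreducible components of its
preimage in X ×_k k̄, k̄ an algebraic closure of k, and put a_e = ∑_{Z : m_Z ∣ e} m_Z. Then there
are constants α, α' > 0 such that for every e ≥ 1: if a_e > 0 then |N_e − a_e q^{er}| ≤ α q^{e(r −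
1/2)}, and if a_e = 0 then N_e ≤ α' q^{e(r − 1)}, where N_e = ∑_{d ∣ e} d · #{closed points of
residue degree d} is the number of points of X in the degree-e extension of k. (Stated for schemes
of finite type; reducedness plays no role.) -/
theorem result {k : Type u} [Field k] [Finite k] {X : Scheme.{u}}
    (f : X ⟶ Spec (CommRingCat.of k)) [LocallyOfFiniteType f] [QuasiCompact f] (r : ℕ)
    (hr : topologicalKrullDim X = r) :
    ∃ α α' : ℝ, 0 < α ∧ 0 < α' ∧ ∀ e : ℕ, 1 ≤ e →
      (0 < (∑ᶠ (Z : Set X) (_ : Z ∈ irreducibleComponents X ∧ topologicalKrullDim Z = r ∧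
            Nat.card (irreducibleComponents ((pullback.fst f (Spec.map (CommRingCat.ofHom
              (algebraMap k (AlgebraicClosure k))))).base ⁻¹' Z)) ∣ e),
          Nat.card (irreducibleComponents ((pullback.fst f (Spec.map (CommRingCat.ofHom
              (algebraMap k (AlgebraicClosure k))))).base ⁻¹' Z))) →
        |(Zeta.nPts f e : ℝ) -
            (∑ᶠ (Z : Set X) (_ : Z ∈ irreducibleComponents X ∧ topologicalKrullDim Z = r ∧
              Nat.card (irreducibleComponents ((pullback.fst f (Spec.map (CommRingCat.ofHom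
                (algebraMap k (AlgebraicClosure k))))).base ⁻¹' Z)) ∣ e),
            Nat.card (irreducibleComponents ((pullback.fst f (Spec.map (CommRingCat.ofHom
                (algebraMap k (AlgebraicClosure k))))).base ⁻¹' Z)) : ℕ) *
              (Nat.card k : ℝ) ^ (e * r)| ≤
          α * (Nat.card k : ℝ) ^ ((e : ℝ) * ((r : ℝ) - 1 / 2))) ∧
      ((∑ᶠ (Z : Set X) (_ : Z ∈ irreducibleComponents X ∧ topologicalKrullDim Z = r ∧
            Nat.card (irreducibleComponents ((pullback.fst f (Spec.map (CommRingCat.ofHom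
              (algebraMap k (AlgebraicClosure k))))).base ⁻¹' Z)) ∣ e),
          Nat.card (irreducibleComponents ((pullback.fst f (Spec.map (CommRingCat.ofHom
              (algebraMap k (AlgebraicClosure k))))).base ⁻¹' Z))) = 0 →
        (Zeta.nPts f e : ℝ) ≤ α' * (Nat.card k : ℝ) ^ ((e : ℝ) * ((r : ℝ) - 1))) := by
  obtain ⟨-, -, C, hC0, hC⟩ := GrothLib.LangWeil28.exists_est_scheme f r hr
  refine ⟨C + 1, C + 1, by linarith, by linarith, fun e he => ?_⟩
  obtain ⟨h1, h2⟩ := hC e he
  have hq : (1 : ℝ) < (Nat.card k : ℝ) := Nat.one_lt_cast.2 (Finite.one_lt_card (α := k))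
  have hq0 : (0 : ℝ) < (Nat.card k : ℝ) := by linarith
  have hlead : (∑ᶠ (Z : Set X) (_ : Z ∈ irreducibleComponents X ∧ topologicalKrullDim Z = r ∧
        GrothLib.LangWeil28.compCount f Z ∣ e), GrothLib.LangWeil28.compCount f Z) =
      GrothLib.LangWeil28.leading f r e := by
    refine finsum_cond_eq_sum_of_cond_iff _ fun {Z} _ => ?_
    simp [GrothLib.LangWeil28.mem_topComps, and_assoc]
  have e1 : (Nat.card k : ℝ) ^ (e * r) / Real.sqrt ((Nat.card k : ℝ) ^ e) =
      (Nat.card k : ℝ) ^ ((e : ℝ) * ((r : ℝ) - 1 / 2)) := by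
    rw [Real.sqrt_eq_rpow, ← Real.rpow_natCast, ← Real.rpow_natCast (Nat.card k : ℝ) e, ← Real.rpow_mul hq0.le,
      ← Real.rpow_sub hq0]
    congr 1
    push_cast
    ring
  have e2 : (Nat.card k : ℝ) ^ (e * r) / (Nat.card k : ℝ) ^ e =
      (Nat.card k : ℝ) ^ ((e : ℝ) * ((r : ℝ) - 1)) := by
    rw [← Real.rpow_natCast, ← Real.rpow_natCast (Nat.card k : ℝ) e, ← Real.rpow_sub hq0]
    congr 1
    push_cast
    ring
  constructor
  · intro _
    rw [hlead]
    refine h1.trans ?_
    rw [e1]
    exact mul_le_mul_of_nonneg_right (by linarith) (Real.rpow_nonneg hq0.le _)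
  · intro h0
    rw [hlead] at h0
    refine (h2 h0).trans ?_
    rw [e2]
    exact mul_le_mul_of_nonneg_right (by linarith) (Real.rpow_nonneg hq0.le _)

end Groth.Agent.S13063
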