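import Groth.Statements.S13065
import Mathlib

set_option autoImplicit false
universe u
open Zeta

namespace Groth.Agent.S13065

/-- Let k be a finite field with q elements and characteristic p, n ≥ 2, and f ∈ k[x_0, …, x_n]
homogeneous of degree n + 1, defining the hypersurface Z ⊂ P^n_k. Then #Z(F_q) ≢ 1 (mod p) if and
only if the coefficient of (x_0 ⋯ x_n)^{q−1} in f^{q−1} is nonzero. Stated through the affine count:
#Z(F_q) ≡ 1 (mod p) exactly when p divides the number of zeros of f in k^{n+1} (as (q − 1) #Z(F_q) +
1 is that number). -/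
theorem result {k : Type u} [Field k] [Finite k] (p : ℕ)
    [CharP k p] (n : ℕ) (hn : 2 ≤ n) (f : MvPolynomial (Fin (n + 1)) k)
    (hf : f.IsHomogeneous (n + 1)) :
    p ∣ Nat.card {a : Fin (n + 1) → k // MvPolynomial.eval a f = 0} ↔
      MvPolynomial.coeff (Finsupp.equivFunOnFinite.symm fun _ : Fin (n + 1) => Nat.card k - 1)
        (f ^ (Nat.card k - 1)) = 0 := by
  classical
  have : Fintype k := Fintype.ofFinite k
  rw [Nat.card_eq_fintype_card, Nat.card_eq_fintype_card, ← CharP.cast_eq_zero_iff k p,
    Fintype.card_subtype]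
  set q := Fintype.card k
  have hq : 1 < q := Fintype.one_lt_card
  set M : Fin (n + 1) →₀ ℕ := Finsupp.equivFunOnFinite.symm fun _ : Fin (n + 1) => q - 1 with hM
  have hMi : ∀ i, M i = q - 1 := fun i => rfl
  have h1 : ((Finset.univ.filter fun a : Fin (n + 1) → k => MvPolynomial.eval a f = 0).card : k) =
      -∑ a : Fin (n + 1) → k, MvPolynomial.eval a (f ^ (q - 1)) := by
    rw [← Finset.sum_boole, ← Finset.sum_neg_distrib, ← sub_eq_zero, ← Finset.sum_sub_distrib]
    calc _ = ∑ _a : Fin (n + 1) → k, (1 : k) := Finset.sum_congr rfl fun a _ => by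
          rw [map_pow]
          split_ifs with h
          · rw [h, zero_pow (by omega)]; ring
          · rw [FiniteField.pow_card_sub_one_eq_one _ h]; ring
      _ = 0 := by simp [q, FiniteField.cast_card_eq_zero]
  have hsum : ∑ a : k, a ^ (q - 1) = -1 := by
    rw [← Finset.add_sum_erase _ _ (Finset.mem_univ (0 : k)), zero_pow (by omega), zero_add,
      Finset.sum_congr rfl fun a ha => FiniteField.pow_card_sub_one_eq_one a (Finset.ne_of_mem_erase ha)]
    simp [Finset.card_erase_of_mem, Nat.cast_sub hq.le, q, FiniteField.cast_card_eq_zero]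
  have h2 : ∑ a : Fin (n + 1) → k, MvPolynomial.eval a (f ^ (q - 1)) =
      MvPolynomial.coeff M (f ^ (q - 1)) * (-1) ^ (n + 1) := by
    simp only [MvPolynomial.eval_eq']
    rw [Finset.sum_comm, Finset.sum_eq_single M]
    · rw [← Finset.mul_sum, ← Fintype.prod_sum fun i (a : k) => a ^ M i]
      simp only [hMi, hsum, Finset.prod_const, Finset.card_univ, Fintype.card_fin]
    · intro d hd hne
      rw [← Finset.mul_sum, ← Fintype.prod_sum fun i (a : k) => a ^ d i]
      obtain ⟨i, hi⟩ : ∃ i, d i < q - 1 := by
        by_contra h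
        push Not at h
        have hdeg : ∑ i, d i = (n + 1) * (q - 1) := by
          rw [← Finsupp.degree_eq_sum]
          have h1 := hf.pow (q - 1) (MvPolynomial.mem_support_iff.1 hd)
          rw [Finsupp.degree_eq_weight_one]
          exact h1
        refine hne (Finsupp.ext fun j => le_antisymm ?_ (by rw [hMi]; exact h j))
        rw [hMi]
        by_contra hj
        push Not at hj
        have : ∑ _j : Fin (n + 1), (q - 1) < ∑ j, d j :=
          Finset.sum_lt_sum (fun j _ => h j) ⟨j, Finset.mem_univ j, hj⟩
        simp only [Finset.sum_const, Finset.card_univ, Fintype.card_fin, smul_eq_mul, hdeg, lt_irrefl] at this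
      rw [Finset.prod_eq_zero (Finset.mem_univ i) (FiniteField.sum_pow_lt_card_sub_one k _ hi), mul_zero]
    · intro hd
      simp [MvPolynomial.notMem_support_iff.1 hd]
  rw [h1, h2]
  simp

end Groth.Agent.S13065
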