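import Groth.Statements.S13066
import Mathlib

set_option autoImplicit false
universe u
open Zeta

namespace Groth.Agent.S13066

/-- Let k be a finite field with q elements and characteristic p, n ≥ 2, and f ∈ k[x_0, …, x_n]
homogeneous of degree n + 1. Then the coefficient of (x_0 ⋯ x_n)^{q−1} in f^{q−1} is nonzero if and
only if the coefficient of (x_0 ⋯ x_n)^{p−1} in f^{p−1} is nonzero. -/
theorem result {k : Type u} [Field k] [Finite k]
    (p : ℕ) [CharP k p] (n : ℕ) (hn : 2 ≤ n) (f : MvPolynomial (Fin (n + 1)) k)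
    (hf : f.IsHomogeneous (n + 1)) :
    MvPolynomial.coeff (Finsupp.equivFunOnFinite.symm fun _ : Fin (n + 1) => Nat.card k - 1)
        (f ^ (Nat.card k - 1)) ≠ 0 ↔
      MvPolynomial.coeff (Finsupp.equivFunOnFinite.symm fun _ : Fin (n + 1) => p - 1)
        (f ^ (p - 1)) ≠ 0 := by
  classical
  have : Fintype k := Fintype.ofFinite k
  haveI hpp : Fact p.Prime := ⟨CharP.char_is_prime k p⟩
  haveI : ExpChar k p := ExpChar.prime hpp.out
  have hp1 : 1 ≤ p := hpp.out.one_le
  let M : ℕ → (Fin (n + 1) →₀ ℕ) := fun e => Finsupp.equivFunOnFinite.symm fun _ : Fin (n + 1) => e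
  have hM : ∀ e i, M e i = e := fun e i => rfl
  have key : ∀ r : ℕ, 1 ≤ r → (MvPolynomial.coeff (M (p ^ r - 1)) (f ^ (p ^ r - 1)) ≠ 0 ↔
      MvPolynomial.coeff (M (p - 1)) (f ^ (p - 1)) ≠ 0) := by
    intro r hr
    induction r, hr using Nat.le_induction with
    | base => rw [pow_one]
    | succ r hr ih =>
      have hpr : 1 ≤ p ^ r := Nat.one_le_pow _ _ hp1
      have hexp : p ^ (r + 1) - 1 = (p - 1) + (p ^ r - 1) * p := by
        rw [pow_succ, Nat.sub_mul, one_mul]
        have : p ≤ p ^ r * p := Nat.le_mul_of_pos_left _ hpr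
        omega
      have hfac : f ^ (p ^ (r + 1) - 1) = f ^ (p - 1) *
          MvPolynomial.expand p (MvPolynomial.map (frobenius k p) (f ^ (p ^ r - 1))) := by
        rw [hexp, pow_add, pow_mul, ← MvPolynomial.map_expand, MvPolynomial.map_frobenius_expand]
      have hsplit : M (p ^ (r + 1) - 1) = M (p - 1) + p • M (p ^ r - 1) := by
        ext i
        simp only [Finsupp.add_apply, Finsupp.smul_apply, smul_eq_mul, hM, hexp, mul_comm]
      have hhom : (f ^ (p - 1)).IsHomogeneous ((n + 1) * (p - 1)) := hf.pow _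
      rw [hfac, MvPolynomial.coeff_mul,
        Finset.sum_eq_single_of_mem (M (p - 1), p • M (p ^ r - 1))
          (Finset.HasAntidiagonal.mem_antidiagonal.2 hsplit.symm) ?_,
        MvPolynomial.coeff_expand_smul _ hpp.out.ne_zero, MvPolynomial.coeff_map, mul_ne_zero_iff,
        frobenius_def, pow_ne_zero_iff hpp.out.ne_zero, ih, and_self]
      rintro ⟨u, v⟩ huv hne
      rw [Finset.HasAntidiagonal.mem_antidiagonal] at huv
      by_contra hc
      obtain ⟨hcu, hcv⟩ := mul_ne_zero_iff.1 hc
      have hdiv : ∀ i, p ∣ v i := fun i => by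
        by_contra h
        exact hcv (MvPolynomial.coeff_expand_of_not_dvd _ (i := i) h)
      have hdeg : ∑ i, u i = (n + 1) * (p - 1) := by
        rw [← Finsupp.degree_eq_sum]
        have h1 := hhom hcu
        rw [Finsupp.degree_eq_weight_one]
        exact h1
      have hge : ∀ i, p - 1 ≤ u i := fun i => by
        obtain ⟨c, hc⟩ := hdiv i
        have h1 := DFunLike.congr_fun huv i
        rw [Finsupp.add_apply, hM, hexp, hc] at h1
        by_contra h
        push Not at h
        have h2 : (u i + p * c) % p = u i := by rw [Nat.add_mul_mod_self_left, Nat.mod_eq_of_lt (by omega)]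
        rw [h1, Nat.add_mul_mod_self_right, Nat.mod_eq_of_lt (by omega)] at h2
        omega
      have hu : u = M (p - 1) := by
        ext i
        rw [hM]
        refine le_antisymm ?_ (hge i)
        by_contra h
        push Not at h
        have : ∑ _j : Fin (n + 1), (p - 1) < ∑ j, u j :=
          Finset.sum_lt_sum (fun j _ => hge j) ⟨i, Finset.mem_univ i, h⟩
        simp only [Finset.sum_const, Finset.card_univ, Fintype.card_fin, smul_eq_mul, hdeg, lt_irrefl] at this
      refine hne (Prod.ext hu ?_)
      rw [hu, hsplit] at huv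
      exact add_left_cancel huv
  obtain ⟨r, -, hcard⟩ := FiniteField.card k p
  rw [Nat.card_eq_fintype_card, hcard]
  exact key r r.pos

end Groth.Agent.S13066
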