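import Groth.Statements.S13068
import Groth.Agent.Lib.CurveRR.PicClass
import Groth.Agent.Lib.Zeta.Counting
import Groth.Agent.Lib.Zeta.Series

set_option autoImplicit false
universe u
open CategoryTheory AlgebraicGeometry
open Zeta

namespace Groth.Agent.S13068

/-- Let X be a smooth, geometrically connected, projective curve of genus g over F_q (here: smooth
proper geometrically irreducible, of dimension one). Then Z(X, t) = f(t) / ((1 − t)(1 − qt)) with f
∈ ℤ[t] of degree ≤ 2g, f(0) = 1 and f(1) = h, where h is the number of isomorphism classes of line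
bundles of degree zero on X (the number of k-points of the Jacobian). -/
theorem result (k : Type u) [Field k] [Finite k]
    (X : Scheme.{u}) [X.Over (Spec (CommRingCat.of k))]
    (hX : Curve.IsSmoothProperCurve k X (X ↘ Spec (CommRingCat.of k)))
    [GeometricallyIrreducible (X ↘ Spec (CommRingCat.of k))] :
    ∃ P : Polynomial ℤ, P.natDegree ≤ 2 * Curv2.genus k X ∧ P.coeff 0 = 1 ∧
      P.eval 1 = Nat.card {c : PicF.Cl X // ∃ L : X.Modules, PicF.cl L = c ∧ PicF.IsInvertible L ∧
          Curv2.deg k X L 1 = 0} ∧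
      Zeta.zetaFun (X ↘ Spec (CommRingCat.of k)) *
          ((1 - PowerSeries.X) * (1 - PowerSeries.C (Nat.card k : ℚ) * PowerSeries.X)) =
        ((P.map (Int.castRingHom ℚ) : Polynomial ℚ) : PowerSeries ℚ) := by
  classical
  obtain ⟨hP, hS, hI, hd⟩ := hX
  haveI : IsProper (X ↘ Spec (CommRingCat.of k)) := hP
  haveI := hI
  haveI := GrothLib.CurveRR.regCurve_of_smooth (X := X) (X ↘ Spec (CommRingCat.of k)) hd
  have h0 := GrothLib.CurveRR.finrank_H0_eq_one_of_geometricallyIrreducible (k := k) (X := X)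
  have hK := GrothLib.CurveRR.isFunctionField k (X := X) h0
  haveI := GrothLib.FunFld.finite_cl0 hK
  letI := Fintype.ofFinite (GrothLib.FunFld.Cl0 k X.functionField)
  obtain ⟨e₀⟩ := GrothLib.CurveRR.nonempty_equiv_cl0 k (X := X) h0 0
  set K := (X.functionField : Type u)
  refine ⟨GrothLib.FunFld.numerPoly k K, ?_, ?_, ?_, ?_⟩
  · rw [GrothLib.CurveRR.genus_eq k h0, GrothLib.FunFld.natDegree_numerPoly hK]
  · rw [GrothLib.FunFld.coeff_numerPoly hK]
    apply Int.cast_injective (α := ℚ)
    rw [GrothLib.FunFld.coeff_numerZ, GrothLib.FunFld.effDivCount_zero hK]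
    simp
  · rw [GrothLib.FunFld.numerPoly_eval_one hK, ← Nat.card_congr e₀]
    rfl
  set φ := Int.castRingHom ℚ
  set F : PowerSeries ℚ := PowerSeries.map φ (FunFld.zetaZ k K) with hFdef
  have hF : GrothLib.Zeta.IsExpOf (fun m => if m = 0 then (0 : ℚ) else (GrothLib.FunFld.RH.pointSum k K m : ℚ)) F := by
    refine ⟨?_, ?_⟩
    · rw [← PowerSeries.coeff_zero_eq_constantCoeff_apply, hFdef, PowerSeries.coeff_map, FunFld.zetaZ,
        PowerSeries.coeff_mk, GrothLib.FunFld.effDivCount_zero hK]
      simp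
    · ext n
      conv_rhs => rw [PowerSeries.coeff_mul]
      rcases n with _ | n
      · simp
      rw [PowerSeries.coeff_succ_X_mul, PowerSeries.coeff_derivative,
        Finset.Nat.sum_antidiagonal_eq_sum_range_succ_mk]
      have hrec : (((n + 1) * FunFld.effDivCount k K (n + 1) : ℕ) : ℚ) =
          ((∑ j ∈ Finset.Icc 1 (n + 1), GrothLib.FunFld.RH.pointSum k K j * FunFld.effDivCount k K (n + 1 - j) : ℕ) : ℚ) := by
        rw [GrothLib.FunFld.RH.mul_effDivCount hK.1]
      have hsub : Finset.Icc 1 (n + 1) = (Finset.range (n + 1).succ).erase 0 := by ext; simp; omega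
      rw [← Finset.sum_range_reflect, ← Finset.sum_erase _ (a := 0) (by simp), ← hsub]
      push_cast at hrec
      simp only [F, φ, PowerSeries.coeff_map, FunFld.zetaZ, PowerSeries.coeff_mk, eq_intCast, Int.cast_natCast]
      rw [mul_comm, hrec]
      refine Finset.sum_congr rfl fun j hj => ?_
      rw [Finset.mem_Icc] at hj
      rw [show n + 1 + 1 - 1 - j = n + 1 - j by omega, show n + 1 - (n + 1 - j) = j by omega,
        if_neg (show j ≠ 0 by omega), mul_comm]
  have heq : Zeta.zetaFun (X ↘ Spec (CommRingCat.of k)) = F := by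
    refine (GrothLib.Zeta.isExpOf_zetaFun _).ext hF (by simp [Zeta.nPts]) (by simp) fun m hm => ?_
    obtain ⟨k', _, _, _, hk'⟩ := GrothLib.Zeta.exists_extension k m hm
    rw [if_neg (by omega), ← hk', ← GrothLib.Zeta.pointCount_eq_nPts, GrothLib.CurveRR.pointCount_eq_pointSum]
  rw [heq, hFdef, Polynomial.polynomial_map_coe, GrothLib.FunFld.coe_numerPoly hK, FunFld.numerZ]
  simp [φ]
  ring

end Groth.Agent.S13068
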