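import Groth.Statements.S13071
import Groth.Agent.Lib.Zeta.GaloisFibre

set_option autoImplicit false
universe u
open CategoryTheory AlgebraicGeometry Limits
open Zeta

namespace Groth.Agent.S13071

/-- For a variety X over a perfect field k with algebraic closure k̄, the fibres of the projection π :
X_{k̄} → X are exactly the orbits of G(k̄/k) acting on X_{k̄} (σ acting as id × Spec σ). Stated for
any scheme of finite type over k; each τ_σ is pinned by τ_σ ≫ pr_1 = pr_1 and τ_σ ≫ pr_2 = pr_2 ≫
Spec σ. -/
theorem result {k : Type u} [Field k] [PerfectField k]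
    {X : Scheme.{u}} (f : X ⟶ Spec (CommRingCat.of k)) [LocallyOfFiniteType f] [QuasiCompact f]
    (τ : (AlgebraicClosure k ≃ₐ[k] AlgebraicClosure k) →
      (pullback f (Spec.map (CommRingCat.ofHom (algebraMap k (AlgebraicClosure k)))) ⟶
        pullback f (Spec.map (CommRingCat.ofHom (algebraMap k (AlgebraicClosure k))))))
    (hτ1 : ∀ σ, τ σ ≫ pullback.fst f _ = pullback.fst f _)
    (hτ2 : ∀ σ, τ σ ≫ pullback.snd f (Spec.map (CommRingCat.ofHom (algebraMap k (AlgebraicClosure k)))) =
        pullback.snd f _ ≫ Spec.map (CommRingCat.ofHom (σ : AlgebraicClosure k →+* AlgebraicClosure k)))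
    (x y : ↑(pullback f (Spec.map (CommRingCat.ofHom (algebraMap k (AlgebraicClosure k)))))) :
    (pullback.fst f (Spec.map (CommRingCat.ofHom (algebraMap k (AlgebraicClosure k))))).base x =
        (pullback.fst f (Spec.map (CommRingCat.ofHom (algebraMap k (AlgebraicClosure k))))).base y ↔
      ∃ σ, (τ σ).base x = y := by
  refine ⟨fun h => GrothLib.Zeta.exists_algEquiv_of_proj_eq (IsPullback.of_hasPullback f _) τ hτ1 hτ2 h,
    fun ⟨σ, h⟩ => ?_⟩
  rw [← h, ← Scheme.Hom.comp_apply, hτ1]

end Groth.Agent.S13071
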