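import Groth.Statements.S13075
import Mathlib

set_option autoImplicit false
open Zeta

namespace Groth.Agent.S13075

/-- For the formal power series exp(t) = ∑_{m ≥ 0} t^m / m! and log(1 + t) = ∑_{m ≥ 1} (−1)^{m+1} t^m /
m over ℚ, log(exp(u)) = u and exp(log(1 + u)) = 1 + u for every u ∈ tℚ⟦t⟧; stated for u = t (the
general case is obtained by substitution): substituting exp(t) − 1 into log(1 + ·) gives t, and
substituting log(1 + t) into exp gives 1 + t. -/
theorem result :
    PowerSeries.subst (PowerSeries.exp ℚ - 1)
        (PowerSeries.mk fun m : ℕ => if m = 0 then (0 : ℚ) else (-1) ^ (m + 1) / (m : ℚ)) =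
      PowerSeries.X ∧
    PowerSeries.subst (PowerSeries.mk fun m : ℕ => if m = 0 then (0 : ℚ) else (-1) ^ (m + 1) / (m : ℚ))
        (PowerSeries.exp ℚ) = 1 + PowerSeries.X := by
  set L := PowerSeries.mk fun m : ℕ => if m = 0 then (0 : ℚ) else (-1) ^ (m + 1) / (m : ℚ) with hL
  have hL0 : PowerSeries.constantCoeff L = 0 := by simp [hL]
  have hLs : PowerSeries.HasSubst L := PowerSeries.HasSubst.of_constantCoeff_zero' hL0
  have hE0 : PowerSeries.constantCoeff (PowerSeries.exp ℚ - 1) = 0 := by
    simp [PowerSeries.constantCoeff_exp]
  have hEs : PowerSeries.HasSubst (PowerSeries.exp ℚ - 1) :=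
    PowerSeries.HasSubst.of_constantCoeff_zero' hE0
  have hd : PowerSeries.derivative ℚ L * (1 + PowerSeries.X) = 1 := by
    ext n
    rw [mul_add, mul_one, map_add]
    cases n with
    | zero => simp [hL, PowerSeries.coeff_derivative]
    | succ n =>
      rw [PowerSeries.coeff_succ_mul_X, PowerSeries.coeff_derivative, PowerSeries.coeff_derivative,
        PowerSeries.coeff_one, if_neg (Nat.succ_ne_zero n)]
      simp only [hL, PowerSeries.coeff_mk, Nat.succ_ne_zero, if_false]
      push_cast
      field_simp
      ring
  constructor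
  · refine PowerSeries.derivative.ext ?_ ?_
    · rw [PowerSeries.derivative_subst hEs, PowerSeries.derivative_X, map_sub,
        PowerSeries.derivative_exp]
      have h1 := congrArg (PowerSeries.subst (PowerSeries.exp ℚ - 1)) hd
      rw [← PowerSeries.coe_substAlgHom hEs, map_mul, map_add, map_one,
        PowerSeries.coe_substAlgHom hEs, PowerSeries.subst_X hEs, add_sub_cancel] at h1
      simpa using h1
    · simp only [PowerSeries.constantCoeff_X]
      exact PowerSeries.constantCoeff_subst_eq_zero hE0 _ hL0
  · set Y := PowerSeries.subst L (PowerSeries.exp ℚ) with hY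
    have hYd : PowerSeries.derivative ℚ Y * (1 + PowerSeries.X) = Y := by
      rw [hY, PowerSeries.derivative_subst hLs, PowerSeries.derivative_exp, mul_assoc, hd, mul_one]
    have hY0 : PowerSeries.coeff 0 Y = 1 := by
      have hs : Y - 1 = PowerSeries.subst L (PowerSeries.exp ℚ - 1) := by
        rw [← PowerSeries.coe_substAlgHom hLs, map_sub, map_one, PowerSeries.coe_substAlgHom hLs]
      have := PowerSeries.constantCoeff_subst_eq_zero hL0 _ hE0
      rw [← hs, map_sub, map_one, sub_eq_zero] at this
      rw [PowerSeries.coeff_zero_eq_constantCoeff_apply]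
      exact this
    have hrec : ∀ n : ℕ, PowerSeries.coeff (n + 1) Y * (n + 1) + PowerSeries.coeff n Y * n =
        PowerSeries.coeff n Y := by
      intro n
      conv_rhs => rw [← hYd, mul_add, mul_one, map_add, PowerSeries.coeff_derivative]
      cases n with
      | zero => simp
      | succ n => rw [PowerSeries.coeff_succ_mul_X, PowerSeries.coeff_derivative]; push_cast; ring
    have h2 : ∀ n : ℕ, PowerSeries.coeff (n + 2) Y = 0 := by
      intro n
      have h := hrec (n + 1)
      induction n with
      | zero => norm_num at h ⊢; linarith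
      | succ n ih =>
        rw [ih (hrec (n + 1))] at h
        have h' : PowerSeries.coeff (n + 1 + 2) Y * (((n + 1 + 1 : ℕ) : ℚ) + 1) = 0 := by simpa using h
        exact (mul_eq_zero.1 h').resolve_right (by positivity)
    ext n
    rcases n with _ | _ | n
    · rw [hY0]; simp
    · have := hrec 0
      simp only [Nat.cast_zero, zero_add, mul_one, mul_zero, add_zero] at this
      rw [this, hY0]; simp
    · rw [h2 n]; simp [PowerSeries.coeff_one, PowerSeries.coeff_X]

end Groth.Agent.S13075
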