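import Groth.Statements.S13076
import Groth.Agent.Lib.CurveProd28.Basic

set_option autoImplicit false
universe u
open CategoryTheory AlgebraicGeometry Limits
open Zeta

namespace Groth.Agent.S13076

/-- Take smooth proper curves C₁ and C₂ over an algebraically closed field k, S = C₁ × C₂, ℓ₁ = C₁ × pt
and ℓ₂ = pt × C₂. Then (D²) ≤ 2 (D · ℓ₁)(D · ℓ₂) for every divisor D on S. Stated for an invertible
module L with an inverse M: (L · L) is the intersection number of M, M with O_S (alternating sum of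
Euler characteristics, cohomology up to degree 2), and (L · ℓ₁), (L · ℓ₂) are the degrees of the
restrictions of L along the sections i₁ : C₁ → S, i₂ : C₂ → S through k-rational points y of C₂ and
x of C₁, pinned by their composites with the two projections. -/
theorem result (k : Type u) [Field k]
    [IsAlgClosed k] (C₁ C₂ : Scheme.{u}) [C₁.Over (Spec (CommRingCat.of k))]
    [C₂.Over (Spec (CommRingCat.of k))]
    (h₁ : Curve.IsSmoothProperCurve k C₁ (C₁ ↘ Spec (CommRingCat.of k)))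
    (h₂ : Curve.IsSmoothProperCurve k C₂ (C₂ ↘ Spec (CommRingCat.of k)))
    (x : Spec (CommRingCat.of k) ⟶ C₁) (hx : x ≫ (C₁ ↘ Spec (CommRingCat.of k)) = 𝟙 _)
    (y : Spec (CommRingCat.of k) ⟶ C₂) (hy : y ≫ (C₂ ↘ Spec (CommRingCat.of k)) = 𝟙 _)
    (i₁ : C₁ ⟶ pullback (C₁ ↘ Spec (CommRingCat.of k)) (C₂ ↘ Spec (CommRingCat.of k)))
    (hi₁ : i₁ ≫ pullback.fst _ _ = 𝟙 C₁ ∧ i₁ ≫ pullback.snd _ _ = (C₁ ↘ Spec (CommRingCat.of k)) ≫ y)
    (i₂ : C₂ ⟶ pullback (C₁ ↘ Spec (CommRingCat.of k)) (C₂ ↘ Spec (CommRingCat.of k)))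
    (hi₂ : i₂ ≫ pullback.snd _ _ = 𝟙 C₂ ∧ i₂ ≫ pullback.fst _ _ = (C₂ ↘ Spec (CommRingCat.of k)) ≫ x)
    (L M : (pullback (C₁ ↘ Spec (CommRingCat.of k)) (C₂ ↘ Spec (CommRingCat.of k))).Modules)
    (hL : PicF.IsInvertible L)
    (hM : Nonempty (CohB1.tensorMod L M ≅ Coh.structureModule _)) :
    letI : (pullback (C₁ ↘ Spec (CommRingCat.of k)) (C₂ ↘ Spec (CommRingCat.of k))).Over
        (Spec (CommRingCat.of k)) := ⟨pullback.fst _ _ ≫ (C₁ ↘ Spec (CommRingCat.of k))⟩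
    FGA.intNum k (pullback (C₁ ↘ Spec (CommRingCat.of k)) (C₂ ↘ Spec (CommRingCat.of k))) 2 ![M, M]
        (Coh.structureModule _) ≤
      2 * Curv2.deg k C₁ ((Scheme.Modules.pullback i₁).obj L) 1 *
        Curv2.deg k C₂ ((Scheme.Modules.pullback i₂).obj L) 1 := by
  letI : (pullback (C₁ ↘ Spec (CommRingCat.of k)) (C₂ ↘ Spec (CommRingCat.of k))).Over
    (Spec (CommRingCat.of k)) := ⟨pullback.fst _ _ ≫ (C₁ ↘ Spec (CommRingCat.of k))⟩
  obtain ⟨g₁, g₂, hd1, hd2, hint, hsq, -, hinv, hneg⟩ := GrothLib.CurveProd28.main k _ _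
    (IsPullback.of_hasPullback (C₁ ↘ Spec (CommRingCat.of k)) (C₂ ↘ Spec (CommRingCat.of k))) rfl h₁ h₂
    x hx i₂ hi₂.1 hi₂.2 y hy i₁ hi₁.1 hi₁.2
  obtain ⟨hMi, hc⟩ := hinv hL hM
  rw [hint M M hMi hMi, hd1 L hL, hd2 L hL, hc, hneg]
  exact hsq _

end Groth.Agent.S13076
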