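import Groth.Statements.S13082
import Groth.Agent.Lib.SGA1Quot21.Points

set_option autoImplicit false
universe u
open CategoryTheory AlgebraicGeometry Limits
open Zeta

namespace Groth.Agent.S13082

/-- Let X be a scheme of finite type over k with an action of a finite group G by algebraic
automorphisms over k admitting a quotient π : X → X/G, and W a locally closed subscheme of X on
which G induces an action. Then the canonical morphism W/G → π(W) is radicial and surjective: the
induced morphism φ : W/G → X/G is universally injective with set-theoretic image π(W). The action on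
W is pinned along the immersion j : W → X, φ by p_W ≫ φ = j ≫ π for a quotient p_W : W → W/G. -/
theorem result {k : Type u} [Field k] {G : Type u}
    [Group G] [Finite G] {X XG W WG : Scheme.{u}} (fX : X ⟶ Spec (CommRingCat.of k))
    [LocallyOfFiniteType fX] [QuasiCompact fX] (ρ : G →* Aut X) (hρ : ∀ g, (ρ g).hom ≫ fX = fX)
    (p : X ⟶ XG) (hP : SGA1.IsQuot ρ p) (j : W ⟶ X) [IsImmersion j] (ρW : G →* Aut W)
    (hρW : ∀ g, (ρW g).hom ≫ j = j ≫ (ρ g).hom) (pW : W ⟶ WG) (hPW : SGA1.IsQuot ρW pW)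
    (φ : WG ⟶ XG) (hφ : pW ≫ φ = j ≫ p) :
    UniversallyInjective φ ∧ Set.range φ.base = p.base '' Set.range j.base := by
  have hs : Function.Surjective pW := GrothLib.SGA1Quot21.surjective hPW
  refine ⟨(UniversallyInjective.iff_diagonal φ).2 ⟨fun z => ?_⟩, ?_⟩
  · obtain ⟨z', hz'⟩ : z ∈ Set.range (pullback.map (pW ≫ φ) (pW ≫ φ) φ φ pW pW (𝟙 _) (by simp) (by simp)) := by
      rw [Scheme.Pullback.range_map]
      exact ⟨hs _, hs _⟩
    let ζ := (pullback (pW ≫ φ) (pW ≫ φ)).fromSpecResidueField z'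
    set ξ₁ := ζ ≫ pullback.fst (pW ≫ φ) (pW ≫ φ) with hξ₁
    set ξ₂ := ζ ≫ pullback.snd (pW ≫ φ) (pW ≫ φ) with hξ₂
    obtain ⟨g, hg⟩ := GrothLib.SGA1Quot21.exists_comp_eq hP (ξ₁ ≫ j) (ξ₂ ≫ j) (by
      simp only [hξ₁, hξ₂, Category.assoc, ← hφ]
      exact congrArg (ζ ≫ ·) (pullback.condition (f := pW ≫ φ) (g := pW ≫ φ)))
    have hg' : ξ₁ ≫ (ρW g).hom = ξ₂ := by
      rw [← cancel_mono j, Category.assoc, hρW, ← Category.assoc]
      exact hg
    have heq : ξ₁ ≫ pW = ξ₂ ≫ pW := by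
      rw [← hg']
      simp only [Category.assoc, hPW.inv]
    have hpt : ζ ≫ pullback.map (pW ≫ φ) (pW ≫ φ) φ φ pW pW (𝟙 _) (by simp) (by simp) =
        (ξ₁ ≫ pW) ≫ pullback.diagonal φ := by
      apply pullback.hom_ext
      · rw [Category.assoc, Category.assoc (ξ₁ ≫ pW), pullback.diagonal_fst, Category.comp_id (ξ₁ ≫ pW)]
        erw [pullback.lift_fst]
        exact (Category.assoc ζ _ pW).symm
      · rw [Category.assoc, Category.assoc (ξ₁ ≫ pW), pullback.diagonal_snd, Category.comp_id (ξ₁ ≫ pW), heq]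
        erw [pullback.lift_snd]
        exact (Category.assoc ζ _ pW).symm
    refine ⟨(ξ₁ ≫ pW) default, ?_⟩
    rw [← Scheme.Hom.comp_apply, ← hpt, Scheme.Hom.comp_apply, Scheme.fromSpecResidueField_apply]
    exact hz'
  · ext y
    constructor
    · rintro ⟨x, rfl⟩
      obtain ⟨w, rfl⟩ := hs x
      exact ⟨j w, ⟨w, rfl⟩, by
        show (j ≫ p) w = (pW ≫ φ) w
        rw [hφ]⟩
    · rintro ⟨_, ⟨w, rfl⟩, rfl⟩
      exact ⟨pW w, by
        show (pW ≫ φ) w = (j ≫ p) w
        rw [hφ]⟩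

end Groth.Agent.S13082
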