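import Groth.Statements.S13083
import Groth.Agent.Lib.Zeta.GaloisFibre

set_option autoImplicit false
universe u
open CategoryTheory AlgebraicGeometry Limits
open Zeta

namespace Groth.Agent.S13083

/-- Let X be a variety over a perfect field k, k̄ an algebraic closure and π : X_{k̄} → X the
projection. Sending a closed point x to the sum of the points of π⁻¹(x) induces a bijection between
effective 0-cycles of degree n on X and effective 0-cycles of degree n on X_{k̄} fixed by G(k̄/k).
Stated for schemes of finite type over k, with 0-cycles as finitely supported ℕ-valued functions on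
closed points, the degree on X weighted by the residue degrees [κ(x) : k], the map being c ↦ c ∘ π,
and the Galois automorphisms τ_σ = id × Spec σ pinned by their projections. -/
theorem result {k : Type u} [Field k]
    [PerfectField k] {X : Scheme.{u}} (f : X ⟶ Spec (CommRingCat.of k)) [LocallyOfFiniteType f]
    [QuasiCompact f]
    (τ : (AlgebraicClosure k ≃ₐ[k] AlgebraicClosure k) →
      (pullback f (Spec.map (CommRingCat.ofHom (algebraMap k (AlgebraicClosure k)))) ⟶
        pullback f (Spec.map (CommRingCat.ofHom (algebraMap k (AlgebraicClosure k))))))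
    (hτ1 : ∀ σ, τ σ ≫ pullback.fst f _ = pullback.fst f _)
    (hτ2 : ∀ σ, τ σ ≫ pullback.snd f (Spec.map (CommRingCat.ofHom (algebraMap k (AlgebraicClosure k)))) =
        pullback.snd f _ ≫ Spec.map (CommRingCat.ofHom (σ : AlgebraicClosure k →+* AlgebraicClosure k)))
    (n : ℕ) :
    Set.BijOn
      (fun c : X → ℕ => c ∘ (pullback.fst f (Spec.map (CommRingCat.ofHom
        (algebraMap k (AlgebraicClosure k))))).base)
      {c : X → ℕ | (Function.support c).Finite ∧ (∀ x, c x ≠ 0 → IsClosed ({x} : Set X)) ∧
        ∑ᶠ x, c x * EGA4loc.residueDegree f x = n}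
      {d : ↑(pullback f (Spec.map (CommRingCat.ofHom (algebraMap k (AlgebraicClosure k))))) → ℕ |
        (Function.support d).Finite ∧ (∀ y, d y ≠ 0 → IsClosed ({y} : Set _)) ∧
        ∑ᶠ y, d y = n ∧ ∀ σ y, d ((τ σ).base y) = d y} := by
  classical
  set g := pullback.snd f (Spec.map (CommRingCat.ofHom (algebraMap k (AlgebraicClosure k))))
  set π := pullback.fst f (Spec.map (CommRingCat.ofHom (algebraMap k (AlgebraicClosure k))))
  have hπ : IsPullback π g f (Spec.map (CommRingCat.ofHom (algebraMap k (AlgebraicClosure k)))) :=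
    IsPullback.of_hasPullback f _
  have hcard : ∀ x, IsClosed ({x} : Set X) →
      Nat.card {w // π w = x} = EGA4loc.residueDegree f x := by
    intro x hx
    letI := (GrothLib.AffDom.toRes f x).toAlgebra
    have : Module.Finite k (X.residueField x) := (GrothLib.Zeta.isClosed_iff_finite f x).mp hx
    haveI : Algebra.IsAlgebraic k (X.residueField x) := Algebra.IsAlgebraic.of_finite k _
    rw [GrothLib.Zeta.natCard_fibre hπ x hx, GrothLib.Zeta.residueDegree_eq_finrank f x,
      Nat.card_eq_fintype_card, AlgHom.card]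
  have hfibfin : ∀ x, IsClosed ({x} : Set X) → {w | π w = x}.Finite := fun x hx =>
    Set.finite_coe_iff.mp (Nat.finite_of_card_ne_zero (by
      show Nat.card {w // π w = x} ≠ 0
      rw [hcard x hx]
      exact ((GrothLib.Zeta.residueDegree_pos_iff f x).mpr hx).ne'))
  have hsum : ∀ c : X → ℕ, (Function.support c).Finite → (∀ x, c x ≠ 0 → IsClosed ({x} : Set X)) →
      (Function.support (c ∘ π)).Finite ∧
        ∑ᶠ y, (c ∘ π) y = ∑ᶠ x, c x * EGA4loc.residueDegree f x := by
    intro c hc hcl
    have hfin : (Function.support (c ∘ π)).Finite :=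
      (hc.biUnion fun x hx => hfibfin x (hcl x hx)).subset fun y hy =>
        Set.mem_biUnion (x := π y) hy rfl
    refine ⟨hfin, ?_⟩
    rw [finsum_eq_sum _ hfin, finsum_eq_sum_of_support_subset _ (s := hc.toFinset)
      (fun x hx => by simpa using left_ne_zero_of_mul hx),
      ← Finset.sum_fiberwise_of_maps_to (g := π) (t := hc.toFinset)
        (fun y hy => by simpa using hy)]
    refine Finset.sum_congr rfl fun x hx => ?_
    rw [Set.Finite.mem_toFinset] at hx
    rw [Finset.sum_congr rfl (fun y hy => show (c ∘ π) y = c x by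
      rw [Function.comp_apply, (Finset.mem_filter.mp hy).2]), Finset.sum_const, smul_eq_mul, mul_comm]
    congr 1
    rw [← hcard x (hcl x hx), ← Nat.card_eq_finsetCard]
    refine Nat.card_congr (Equiv.subtypeEquivRight fun y => ?_)
    simp only [Finset.mem_filter, Set.Finite.mem_toFinset, Function.mem_support, Function.comp_apply,
      and_iff_right_iff_imp]
    exact fun h => h ▸ hx
  refine ⟨?_, ?_, ?_⟩
  · rintro c ⟨hc, hcl, hn⟩
    obtain ⟨h1, h2⟩ := hsum c hc hcl
    refine ⟨h1, fun y hy => GrothLib.Zeta.isClosed_of_isClosed_image hπ y (hcl _ hy), h2.trans hn,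
      fun σ y => ?_⟩
    show c (π (τ σ y)) = c (π y)
    rw [← Scheme.Hom.comp_apply, hτ1]
  · intro c _ c' _ h
    funext x
    obtain ⟨y, rfl⟩ := GrothLib.Zeta.surjective_proj hπ x
    exact congrFun h y
  · rintro d ⟨hd, hdcl, hn, hinv⟩
    choose y hy using GrothLib.Zeta.surjective_proj hπ
    have e : (fun x => d (y x)) ∘ π = d := by
      funext w
      obtain ⟨σ, hσ⟩ := GrothLib.Zeta.exists_algEquiv_of_proj_eq hπ τ hτ1 hτ2 (hy (π w))
      show d (y (π w)) = d w
      exact (hinv σ (y (π w))).symm.trans (congrArg d hσ)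
    have hc : (Function.support fun x => d (y x)).Finite :=
      (hd.image π).subset fun x hx => ⟨y x, hx, hy x⟩
    have hcl : ∀ x, d (y x) ≠ 0 → IsClosed ({x} : Set X) := fun x hx => by
      have := GrothLib.Zeta.isClosedMap_proj hπ _ (hdcl _ hx)
      rwa [Set.image_singleton, hy] at this
    refine ⟨fun x => d (y x), ⟨hc, hcl, ?_⟩, e⟩
    rw [← (hsum _ hc hcl).2, e, hn]

end Groth.Agent.S13083
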