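import Groth.Statements.S13084
import Groth.Agent.Lib.Zeta.Arith

set_option autoImplicit false
universe u
open CategoryTheory AlgebraicGeometry
open Zeta

namespace Groth.Agent.S13084

/-- If Y is a scheme of finite type over F_p (here: over any finite field) of dimension r, then the
Dirichlet series L_Y(s) = Σ_{n ≥ 1} a_n n^{−s}, where a_n is the number of effective 0-cycles on Y
of norm n, is convergent for Re(s) > r and has no zeros in this half-plane. The dimension is only
assumed ≤ r. -/
theorem result {k : Type u} [Field k] [Finite k]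
    {Y : Scheme.{u}} (f : Y ⟶ Spec (CommRingCat.of k)) [LocallyOfFiniteType f] [QuasiCompact f] (r : ℕ)
    (hr : topologicalKrullDim Y ≤ r) :
    LSeries.abscissaOfAbsConv (Zeta.arithCoeff Y) ≤ (r : ℝ) ∧
      ∀ s : ℂ, (r : ℝ) < s.re → LSeries (Zeta.arithCoeff Y) s ≠ 0 := by
  refine ⟨LSeries.abscissaOfAbsConv_le_of_forall_lt_LSeriesSummable fun y hy => ?_,
    fun s hs => (GrothLib.Zeta.summable_and_ne_zero f r hr s hs).2⟩
  exact (GrothLib.Zeta.summable_and_ne_zero f r hr (y : ℂ) (by simpa using hy)).1

end Groth.Agent.S13084
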