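import Groth.Statements.S13087
import Mathlib.RingTheory.Regular.RegularSequence
import Mathlib.RingTheory.Polynomial.Basic
import Mathlib.RingTheory.MvPolynomial.Ideal
import Mathlib.Algebra.Polynomial.Eval.Defs
import Mathlib.Tactic.LinearCombination
import Mathlib.Tactic.FinCases
-- import your own Groth.Agent.* helpers here

set_option autoImplicit false
universe u
open Lie3Mod

namespace Groth.Agent.S13087

noncomputable section

open Polynomial (C X)

/-- `x` is a nonzerodivisor modulo `I`. -/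
def Nzd {B : Type*} [CommRing B] (I : Ideal B) (x : B) : Prop := ∀ a, x * a ∈ I → a ∈ I

section Gen

variable {B : Type*} [CommRing B]

theorem Nzd.step {I : Ideal B} {l : B} (h : Nzd I l) (v : B) :
    Nzd (I.map Polynomial.C) (C l * X + C v) := fun f hf => by
  rw [Ideal.mem_map_C_iff] at hf ⊢
  have key : ∀ k n, f.natDegree < n + k → f.coeff n ∈ I := fun k => by
    induction k with
    | zero => intro n hn; rw [Polynomial.coeff_eq_zero_of_natDegree_lt (by omega)]; exact I.zero_mem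
    | succ k ih =>
      intro n hn
      have h1 := hf (n + 1)
      rw [add_mul, mul_assoc, Polynomial.coeff_add, Polynomial.coeff_C_mul, Polynomial.coeff_X_mul,
        Polynomial.coeff_C_mul] at h1
      exact h _ ((Ideal.add_mem_iff_left I (I.mul_mem_left _ (ih (n + 1) (by omega)))).1 h1)
  exact fun n => key (f.natDegree + 1) n (by omega)

theorem Nzd.map_C {I : Ideal B} {l : B} (h : Nzd I l) : Nzd (I.map Polynomial.C) (C l) := fun f hf => by
  rw [Ideal.mem_map_C_iff] at hf ⊢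
  exact fun n => h _ (by simpa only [Polynomial.coeff_C_mul] using hf n)

theorem Nzd.neg {I : Ideal B} {l : B} (h : Nzd I l) : Nzd I (-l) := fun a ha => h a (by
  rw [neg_mul] at ha; exact I.neg_mem_iff.1 ha)

theorem Nzd.swap {I : Ideal B} {x q : B} (hx : Nzd I x) (hq : Nzd (I ⊔ Ideal.span {x}) q) :
    Nzd (I ⊔ Ideal.span {q}) x := fun a ha => by
  obtain ⟨i, hi, _, hb, e⟩ := Submodule.mem_sup.1 ha
  obtain ⟨b, rfl⟩ := Ideal.mem_span_singleton'.1 hb
  have h1 : b ∈ I ⊔ Ideal.span {x} := hq b (by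
    rw [show q * b = -i + a * x by linear_combination e]
    exact Submodule.add_mem_sup (I.neg_mem hi) (Ideal.mem_span_singleton'.2 ⟨a, rfl⟩))
  obtain ⟨i', hi', _, hb', e'⟩ := Submodule.mem_sup.1 h1
  obtain ⟨b', rfl⟩ := Ideal.mem_span_singleton'.1 hb'
  have h2 : a - q * b' ∈ I := hx _ (by
    rw [show x * (a - q * b') = i + q * i' by linear_combination -e - q * e']
    exact I.add_mem hi (I.mul_mem_left q hi'))
  rw [show a = (a - q * b') + b' * q by ring]
  exact Submodule.add_mem_sup h2 (Ideal.mem_span_singleton'.2 ⟨b', rfl⟩)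

theorem map_C_sup_span (I : Ideal B) (x : B) :
    (I ⊔ Ideal.span {x}).map Polynomial.C = I.map Polynomial.C ⊔ Ideal.span {C x} := by
  rw [Ideal.map_sup, Ideal.map_span, Set.image_singleton]

/-- A triangular regular sequence in three new variables. -/
theorem triangular {S : Type*} [CommRing S] {l1 l2 l3 : S} (v1 : S) (v2 : Polynomial S) (v3 : Polynomial (Polynomial S))
    (h1 : Nzd ⊥ l1) (h2 : Nzd ⊥ l2) (h3 : Nzd ⊥ l3) (h21 : Nzd (⊥ ⊔ Ideal.span {l1}) l2)
    (h23 : Nzd (⊥ ⊔ Ideal.span {l3}) l2) (h13 : Nzd (⊥ ⊔ Ideal.span {l3}) l1)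
    (h213 : Nzd (⊥ ⊔ Ideal.span {l3} ⊔ Ideal.span {l1}) l2) :
    let q1 : Polynomial S := C (-l2) * X + C v1
    let q2 : Polynomial (Polynomial S) := C (-C l1) * X + C v2
    let q3 : Polynomial (Polynomial (Polynomial S)) := C (C (C l3)) * X + C v3
    Nzd ⊥ (C (C q1)) ∧ Nzd (⊥ ⊔ Ideal.span {C (C q1)}) (C q2) ∧
      Nzd (⊥ ⊔ Ideal.span {C (C q1)} ⊔ Ideal.span {C q2}) q3 := by
  intro q1 q2 q3
  have a0 : Nzd ⊥ q1 := by simpa only [Ideal.map_bot] using h2.neg.step v1
  have a1 : Nzd (⊥ ⊔ Ideal.span {q1}) (C l1) := by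
    refine Nzd.swap (by simpa only [Ideal.map_bot] using h1.map_C) ?_
    simpa only [map_C_sup_span, Ideal.map_bot] using h21.neg.step v1
  have a3 : Nzd (⊥ ⊔ Ideal.span {q1}) (C l3) := by
    refine Nzd.swap (by simpa only [Ideal.map_bot] using h3.map_C) ?_
    simpa only [map_C_sup_span, Ideal.map_bot] using h23.neg.step v1
  have a31 : Nzd (⊥ ⊔ Ideal.span {C l3} ⊔ Ideal.span {q1}) (C l1) := by
    refine Nzd.swap (by simpa only [map_C_sup_span, Ideal.map_bot] using h13.map_C) ?_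
    simpa only [map_C_sup_span, Ideal.map_bot] using h213.neg.step v1
  have b0 : Nzd (⊥ ⊔ Ideal.span {C q1}) q2 := by
    simpa only [map_C_sup_span, Ideal.map_bot] using a1.neg.step v2
  have b3 : Nzd (⊥ ⊔ Ideal.span {C q1} ⊔ Ideal.span {q2}) (C (C l3)) := by
    refine Nzd.swap (by simpa only [map_C_sup_span, Ideal.map_bot] using a3.map_C) ?_
    have := a31.neg.step v2
    rw [sup_right_comm] at this
    simpa only [map_C_sup_span, Ideal.map_bot] using this
  refine ⟨?_, ?_, ?_⟩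
  · have := a0.map_C.map_C
    simpa only [Ideal.map_bot] using this
  · simpa only [map_C_sup_span, Ideal.map_bot] using b0.map_C
  · simpa only [map_C_sup_span, Ideal.map_bot] using b3.step v3

/-- Constants form the same regular sequence in three new variables. -/
theorem linear {S : Type*} [CommRing S] {l1 l2 l3 : S} (h1 : Nzd ⊥ l1) (h2 : Nzd (⊥ ⊔ Ideal.span {l1}) l2)
    (h3 : Nzd (⊥ ⊔ Ideal.span {l1} ⊔ Ideal.span {l2}) l3) :
    Nzd ⊥ (C (C (C l1))) ∧ Nzd (⊥ ⊔ Ideal.span {C (C (C l1))}) (C (C (C l2))) ∧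
      Nzd (⊥ ⊔ Ideal.span {C (C (C l1))} ⊔ Ideal.span {C (C (C l2))}) (C (C (C l3))) := by
  refine ⟨?_, ?_, ?_⟩
  · simpa only [Ideal.map_bot] using h1.map_C.map_C.map_C
  · simpa only [map_C_sup_span, Ideal.map_bot] using h2.map_C.map_C.map_C
  · simpa only [map_C_sup_span, Ideal.map_bot] using h3.map_C.map_C.map_C

/-- The images of the relevant elements under a coordinate change. -/
theorem images {A : Type*} [CommRing A] {S : Type*} [CommRing S] (φ : Lie3Mod.D A →+* Polynomial (Polynomial (Polynomial S)))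
    {x0 x1 x2 a b d : S} (ha : φ Lie3Mod.va = C (C (C a))) (hb : φ Lie3Mod.vb = C (C (C b)))
    (hc : φ Lie3Mod.vc = X) (hd : φ Lie3Mod.vd = C (C (C d))) (he : φ Lie3Mod.ve = C X)
    (hf : φ Lie3Mod.vf = C (C (C (x1 - b)))) (hg : φ Lie3Mod.vg = C (C X))
    (hh : φ Lie3Mod.vh = C (C (C (x2 - d)))) (hi : φ Lie3Mod.vi = C (C (C (a - x0)))) :
    (φ (Lie3Mod.L1 A) = C (C (C x0)) ∧ φ (Lie3Mod.L2 A) = C (C (C x1)) ∧ φ (Lie3Mod.L3 A) = C (C (C x2))) ∧
    φ (Lie3Mod.Q1 A) = C (C (C (-x1) * X + C (a * (x2 - d) + d * (a - x0)))) ∧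
    φ (Lie3Mod.Q2 A) = C (C (-C x0) * X + C (C (b * d - (x1 - b) * (x2 - d)))) ∧
    φ (Lie3Mod.Q3 A) = C (C (C x2)) * X + C (C (C (-(a * (x1 - b) + b * (a - x0))))) := by
  simp only [Lie3Mod.L1, Lie3Mod.L2, Lie3Mod.L3, Lie3Mod.Q1, Lie3Mod.Q2, Lie3Mod.Q3, map_add, map_sub, map_mul,
    map_neg, ha, hb, hc, hd, he, hf, hg, hh, hi]
  refine ⟨⟨?_, ?_, ?_⟩, ?_, ?_, ?_⟩ <;> ring

end Gen

variable (A : Type u) [CommRing A]

theorem nzd_X {n : ℕ} (s : Set (Fin n)) (j : Fin n) (hj : j ∉ s) :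
    Nzd (Ideal.span ((MvPolynomial.X : Fin n → MvPolynomial (Fin n) A) '' s)) (MvPolynomial.X j) := fun a ha => by
  classical
  rw [MvPolynomial.mem_ideal_span_X_image] at ha ⊢
  intro m hm
  have h1 : m + Finsupp.single j 1 ∈ (MvPolynomial.X j * a).support := by
    rw [MvPolynomial.mem_support_iff, add_comm, MvPolynomial.coeff_X_mul]
    exact MvPolynomial.mem_support_iff.1 hm
  obtain ⟨i, his, hi⟩ := ha _ h1
  have : j ≠ i := fun e => hj (e ▸ his)
  exact ⟨i, his, by simpa [Finsupp.single_eq_of_ne (Ne.symm this), Finsupp.single_eq_of_ne this] using hi⟩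

theorem isRegular_three {T : Type*} [CommRing T] (E : Lie3Mod.D A ≃+* T) (x y z : Lie3Mod.D A) [Nontrivial A]
    (h1 : Nzd ⊥ (E x)) (h2 : Nzd (⊥ ⊔ Ideal.span {E x}) (E y))
    (h3 : Nzd (⊥ ⊔ Ideal.span {E x} ⊔ Ideal.span {E y}) (E z))
    (hc : MvPolynomial.constantCoeff x = 0 ∧ MvPolynomial.constantCoeff y = 0 ∧ MvPolynomial.constantCoeff z = 0) :
    RingTheory.Sequence.IsRegular (Lie3Mod.D A) [x, y, z] := by
  have tr : ∀ (I : Ideal (Lie3Mod.D A)) (w : Lie3Mod.D A), Nzd (I.map (E : Lie3Mod.D A →+* T)) (E w) →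
      IsSMulRegular (Lie3Mod.D A ⧸ (I • ⊤ : Submodule (Lie3Mod.D A) (Lie3Mod.D A))) w := fun I w h => by
    rw [isSMulRegular_quotient_iff_mem_of_smul_mem]
    intro a ha
    rw [Ideal.smul_eq_mul, Ideal.mul_top] at ha ⊢
    have h' := h (E a) (by rw [← map_mul]; exact Ideal.mem_map_of_mem _ ha)
    obtain ⟨b, hb, hba⟩ := (Ideal.mem_map_iff_of_surjective _ (E).surjective).1 h'
    exact (E).injective hba ▸ hb
  refine ⟨⟨fun i hi => ?_⟩, fun htop => ?_⟩
  · simp only [List.length_cons, List.length_nil] at hi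
    rcases i with _ | _ | _ | i
    · refine tr _ x ?_
      simpa [Ideal.map_bot] using h1
    · refine tr _ y ?_
      simpa [Ideal.ofList_cons, Ideal.map_span] using h2
    · refine tr _ z ?_
      simpa [Ideal.ofList_cons, Ideal.map_sup, Ideal.map_span, sup_assoc] using h3
    · omega
  · rw [Ideal.smul_eq_mul, Ideal.mul_top] at htop
    have hle : Ideal.ofList [x, y, z] ≤ RingHom.ker MvPolynomial.constantCoeff := by
      rw [Ideal.ofList, Ideal.span_le]
      intro w hw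
      simp only [List.mem_cons, List.not_mem_nil, or_false, Set.mem_setOf_eq] at hw
      rcases hw with rfl | rfl | rfl
      exacts [hc.1, hc.2.1, hc.2.2]
    have := hle (htop ▸ Submodule.mem_top : (1 : Lie3Mod.D A) ∈ Ideal.ofList [x, y, z])
    simp at this


/-- The coordinate change, over a copy `S` of the polynomial ring in six variables. -/
theorem main [Nontrivial A] {S : Type*} [CommRing S] (e : MvPolynomial (Fin 6) A ≃+* S)
    (x : Fin 6 → S) (hx : ∀ i, e (MvPolynomial.X i) = x i)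
    (e0 : ∀ j, Nzd ⊥ (x j)) (e1 : ∀ i j, i ≠ j → Nzd (⊥ ⊔ Ideal.span {x i}) (x j))
    (e2 : ∀ i i' j, i ≠ j → i' ≠ j → Nzd (⊥ ⊔ Ideal.span {x i} ⊔ Ideal.span {x i'}) (x j)) :
    RingTheory.Sequence.IsRegular (Lie3Mod.D A) [Lie3Mod.L1 A, Lie3Mod.L2 A, Lie3Mod.L3 A] ∧
      RingTheory.Sequence.IsRegular (Lie3Mod.D A) [Lie3Mod.Q1 A, Lie3Mod.Q2 A, Lie3Mod.Q3 A] := by
  let v : Fin 9 → Polynomial (Polynomial (Polynomial S)) :=
    ![C (C (C (x 3))), C (C (C (x 4))), X, C (C (C (x 5))), C X, C (C (C (x 1 - x 4))), C (C X),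
      C (C (C (x 2 - x 5))), C (C (C (x 3 - x 0)))]
  let c : A →+* S := (e : MvPolynomial (Fin 6) A →+* S).comp MvPolynomial.C
  let fwd : Lie3Mod.D A →+* Polynomial (Polynomial (Polynomial S)) :=
    MvPolynomial.eval₂Hom ((C.comp C).comp (C.comp c)) v
  let w : MvPolynomial (Fin 6) A →+* Lie3Mod.D A := MvPolynomial.eval₂Hom MvPolynomial.C
    ![Lie3Mod.L1 A, Lie3Mod.L2 A, Lie3Mod.L3 A, Lie3Mod.va, Lie3Mod.vb, Lie3Mod.vd]
  let back : S →+* Lie3Mod.D A := w.comp (e.symm : S →+* MvPolynomial (Fin 6) A)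
  let bwd : Polynomial (Polynomial (Polynomial S)) →+* Lie3Mod.D A :=
    Polynomial.eval₂RingHom (Polynomial.eval₂RingHom (Polynomial.eval₂RingHom back Lie3Mod.vg) Lie3Mod.ve) Lie3Mod.vc
  have hto : ∀ i, fwd (MvPolynomial.X i) = v i := fun i => MvPolynomial.eval₂Hom_X' _ _ i
  have hC : ∀ y : S, bwd (C (C (C y))) = back y := fun y => by simp [bwd]
  have hb : ∀ i, back (x i) = ![Lie3Mod.L1 A, Lie3Mod.L2 A, Lie3Mod.L3 A, Lie3Mod.va, Lie3Mod.vb, Lie3Mod.vd] i :=
    fun i => by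
      rw [← hx]
      simp only [back, RingHom.comp_apply, RingEquiv.coe_toRingHom, RingEquiv.symm_apply_apply]
      exact MvPolynomial.eval₂Hom_X' _ _ i
  obtain ⟨⟨l1, l2, l3⟩, q1, q2, q3⟩ :=
    images fwd (hto 0) (hto 1) (hto 2) (hto 3) (hto 4) (hto 5) (hto 6) (hto 7) (hto 8)
  have h1 : fwd.comp bwd = RingHom.id _ := by
    refine Polynomial.ringHom_ext' (Polynomial.ringHom_ext' (Polynomial.ringHom_ext'
      ((RingHom.cancel_right (f := (e : MvPolynomial (Fin 6) A →+* S)) e.surjective).1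
        (MvPolynomial.ringHom_ext (fun r => ?_) fun i => ?_)) ?_) ?_) ?_
    · simp [bwd, back, w, fwd, c]
    · simp only [RingHom.comp_apply, RingEquiv.coe_toRingHom, hx, hC, hb, RingHom.id_apply]
      fin_cases i
      exacts [l1, l2, l3, hto 0, hto 1, hto 3]
    · simp only [RingHom.comp_apply, bwd, Polynomial.coe_eval₂RingHom, Polynomial.eval₂_C, Polynomial.eval₂_X,
        RingHom.id_apply]
      exact hto 6
    · simp only [RingHom.comp_apply, bwd, Polynomial.coe_eval₂RingHom, Polynomial.eval₂_C, Polynomial.eval₂_X,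
        RingHom.id_apply]
      exact hto 4
    · simp only [RingHom.comp_apply, bwd, Polynomial.coe_eval₂RingHom, Polynomial.eval₂_X, RingHom.id_apply]
      exact hto 2
  have h2 : bwd.comp fwd = RingHom.id _ := by
    refine MvPolynomial.ringHom_ext (fun r => by simp [bwd, back, w, fwd, c]) fun i => ?_
    rw [RingHom.comp_apply, RingHom.id_apply, hto]
    fin_cases i
    · exact (hC _).trans (hb 3)
    · exact (hC _).trans (hb 4)
    · exact Polynomial.eval₂_X _ _
    · exact (hC _).trans (hb 5)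
    · simp [bwd, v]
    · refine (hC _).trans ?_
      rw [map_sub, hb, hb]
      simp [Lie3Mod.L2]
    · simp [bwd, v]
    · refine (hC _).trans ?_
      rw [map_sub, hb, hb]
      simp [Lie3Mod.L3]
    · refine (hC _).trans ?_
      rw [map_sub, hb, hb]
      simp [Lie3Mod.L1]
  let E := RingEquiv.ofRingHom fwd bwd h1 h2
  obtain ⟨k1, k2, k3⟩ := triangular (l1 := x 0) (l2 := x 1) (l3 := x 2)
    (x 3 * (x 2 - x 5) + x 5 * (x 3 - x 0)) (C (x 4 * x 5 - (x 1 - x 4) * (x 2 - x 5)))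
    (C (C (-(x 3 * (x 1 - x 4) + x 4 * (x 3 - x 0)))))
    (e0 0) (e0 1) (e0 2) (e1 0 1 (by decide)) (e1 2 1 (by decide)) (e1 2 0 (by decide))
    (e2 2 0 1 (by decide) (by decide))
  obtain ⟨m1, m2, m3⟩ := linear (e0 0) (e1 0 1 (by decide)) (e2 0 1 2 (by decide) (by decide))
  have L1' : E (Lie3Mod.L1 A) = C (C (C (x 0))) := l1
  have L2' : E (Lie3Mod.L2 A) = C (C (C (x 1))) := l2
  have L3' : E (Lie3Mod.L3 A) = C (C (C (x 2))) := l3
  constructor
  · refine isRegular_three A (T := Polynomial (Polynomial (Polynomial S))) E (Lie3Mod.L1 A) (Lie3Mod.L2 A) (Lie3Mod.L3 A) ?_ ?_ ?_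
      (by simp [Lie3Mod.L1, Lie3Mod.L2, Lie3Mod.L3])
    · rw [L1']; exact m1
    · rw [L1', L2']; exact m2
    · rw [L1', L2', L3']; exact m3
  · have Q1' : E (Lie3Mod.Q1 A) = _ := q1
    have Q2' : E (Lie3Mod.Q2 A) = _ := q2
    have Q3' : E (Lie3Mod.Q3 A) = _ := q3
    refine isRegular_three A (T := Polynomial (Polynomial (Polynomial S))) E (Lie3Mod.Q1 A) (Lie3Mod.Q2 A) (Lie3Mod.Q3 A) ?_ ?_ ?_
      (by simp [Lie3Mod.Q1, Lie3Mod.Q2, Lie3Mod.Q3])
    · rw [Q1']; exact k1
    · rw [Q1', Q2']; exact k2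
    · rw [Q1', Q2', Q3']; exact k3

end

/-- Let A be a nontrivial commutative ring and D = A[a,b,c,d,e,f,g,h,i] the polynomial ring in nine
variables. Then the linear forms a − i, b + f, d + h form a regular sequence on D, and so do the
three Jacobi polynomials Q1 = ah + di − fg − bg, Q2 = ie + bd − fh − ae, Q3 = hc + dc − af − bi
(each term is a non-zero-divisor on the quotient bwd D by the preceding terms, and the quotient by
all three is non-zero). (The published statement is made with a regular base ring in force; the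
printed argument does not use that hypothesis, and the statement is given here over every nontrivial
commutative base ring.) -/
theorem result (A : Type u) [CommRing A] [Nontrivial A] :
    RingTheory.Sequence.IsRegular (Lie3Mod.D A) [Lie3Mod.L1 A, Lie3Mod.L2 A, Lie3Mod.L3 A] ∧
      RingTheory.Sequence.IsRegular (Lie3Mod.D A) [Lie3Mod.Q1 A, Lie3Mod.Q2 A, Lie3Mod.Q3 A] := by
  let ι := MvPolynomial.X (R := A) (σ := Fin 6)
  have e0 : ∀ j, Nzd ⊥ (ι j) := fun j => by
    simpa using nzd_X A (∅ : Set (Fin 6)) j (by simp)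
  have e1 : ∀ i j, i ≠ j → Nzd (⊥ ⊔ Ideal.span {ι i}) (ι j) := fun i j h => by
    simpa using nzd_X A ({i} : Set (Fin 6)) j (by simp [h.symm])
  have e2 : ∀ i i' j, i ≠ j → i' ≠ j → Nzd (⊥ ⊔ Ideal.span {ι i} ⊔ Ideal.span {ι i'}) (ι j) := fun i i' j h h' => by
    have := nzd_X A ({i, i'} : Set (Fin 6)) j (by simp [h.symm, h'.symm])
    rw [Set.image_insert_eq, Set.image_singleton, Ideal.span_insert] at this
    simpa using this
  exact main A (RingEquiv.refl _) ι (fun _ => rfl) e0 e1 e2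

end Groth.Agent.S13087
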