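import Groth.Statements.S13096
import Mathlib.RingTheory.FinitePresentation
import Mathlib.RingTheory.Adjoin.FG
import Mathlib.RingTheory.Polynomial.Basic

set_option autoImplicit false
universe u v
open CAlg

namespace Groth.Agent.S13096

theorem injective_of_surjective_endo {A : Type*} [CommRing A] [IsNoetherianRing A] (β : A →+* A)
    (hβ : Function.Surjective β) : Function.Injective β := by
  let K : ℕ →o Ideal A :=
    ⟨fun k => RingHom.ker (β ^ k), monotone_nat_of_le_succ fun k x hx => by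
      rw [RingHom.mem_ker] at hx ⊢
      rw [pow_succ', RingHom.coe_mul, Function.comp_apply, hx, map_zero]⟩
  obtain ⟨N, hN⟩ := monotone_stabilizes_iff_noetherian.2 ‹IsNoetherianRing A› K
  rw [injective_iff_map_eq_zero]
  intro x hx
  have hs : Function.Surjective (β ^ N : A →+* A) := by
    rw [RingHom.coe_pow]; exact hβ.iterate N
  obtain ⟨y, rfl⟩ := hs x
  have h1 : y ∈ K (N + 1) := by
    change y ∈ RingHom.ker (β ^ (N + 1))
    rw [RingHom.mem_ker, pow_succ', RingHom.coe_mul, Function.comp_apply, hx]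
  rw [← hN (N + 1) N.le_succ] at h1
  exact h1


/-- Let R be a commutative ring and R' a commutative R-algebra of finite presentation. Then every
surjective R-algebra endomorphism α : R' → R' is bijective (an automorphism). -/
theorem result (R : Type u) [CommRing R]
    (R' : Type v) [CommRing R'] [Algebra R R'] [Algebra.FinitePresentation R R']
    (α : R' →ₐ[R] R') (hα : Function.Surjective α) : Function.Bijective α := by
  classical
  refine ⟨?_, hα⟩
  obtain ⟨n, π, hπ, hker⟩ := (inferInstance : Algebra.FinitePresentation R R').out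
  obtain ⟨k, g, hg⟩ := Submodule.fg_iff_exists_fin_generating_family.1 hker
  have mem_ker : ∀ x, x ∈ Submodule.span (MvPolynomial (Fin n) R) (Set.range g) ↔ π x = 0 :=
    fun x => by rw [hg]; exact RingHom.mem_ker
  have combo : ∀ x, π x = 0 → ∃ c : Fin k → MvPolynomial (Fin n) R, ∑ j, c j * g j = x :=
    fun x hx => Submodule.mem_span_range_iff_exists_fun _ |>.1 ((mem_ker x).2 hx)
  rw [injective_iff_map_eq_zero]
  intro y hy
  obtain ⟨z, rfl⟩ := hπ y
  choose p hp using fun i => hπ (α (π (MvPolynomial.X i)))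
  let φ : MvPolynomial (Fin n) R →ₐ[R] MvPolynomial (Fin n) R := MvPolynomial.aeval p
  have hπφ : ∀ x, π (φ x) = α (π x) := by
    intro x
    have : π.comp φ = α.comp π := MvPolynomial.algHom_ext fun i => by simp [φ, hp]
    exact AlgHom.congr_fun this x
  choose q hq using fun i => hα (π (MvPolynomial.X i))
  choose q' hq' using fun i => hπ (q i)
  choose c hc using fun j => combo (φ (g j))
    (by rw [hπφ, (mem_ker _).1 (Submodule.subset_span ⟨j, rfl⟩), map_zero])
  choose d hd using fun i => combo (φ (q' i) - MvPolynomial.X i)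
    (by rw [map_sub, hπφ, hq', hq, sub_self])
  obtain ⟨e, he⟩ := combo (φ z) (by rw [hπφ, hy])
  -- the noetherian subring
  let T : Finset R := z.coeffs ∪ Finset.univ.biUnion (fun j => (g j).coeffs) ∪
    Finset.univ.biUnion (fun i => (p i).coeffs) ∪ Finset.univ.biUnion (fun i => (q' i).coeffs) ∪
    Finset.univ.biUnion (fun j => Finset.univ.biUnion fun l => (c j l).coeffs) ∪
    Finset.univ.biUnion (fun i => Finset.univ.biUnion fun l => (d i l).coeffs) ∪
    Finset.univ.biUnion (fun l => (e l).coeffs)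
  let R₀ : Subalgebra ℤ R := Algebra.adjoin ℤ (T : Set R)
  haveI : IsNoetherianRing R₀ := isNoetherianRing_of_fg ⟨T, rfl⟩
  let ι : R₀ →+* R := R₀.val.toRingHom
  have hι : Function.Injective ι := Subtype.val_injective
  let m : MvPolynomial (Fin n) R₀ →+* MvPolynomial (Fin n) R := MvPolynomial.map ι
  have hm : Function.Injective m := MvPolynomial.map_injective ι hι
  have lift : ∀ x : MvPolynomial (Fin n) R, x.coeffs ⊆ T → ∃ x₀, m x₀ = x := by
    intro x hx
    have : x ∈ (MvPolynomial.map ι : MvPolynomial (Fin n) R₀ →+* _).range := by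
      change x ∈ Set.range (MvPolynomial.map ι)
      rw [MvPolynomial.mem_range_map_iff_coeffs_subset]
      intro a ha
      exact ⟨⟨a, Algebra.subset_adjoin (hx ha)⟩, rfl⟩
    exact this
  obtain ⟨z₀, hz₀⟩ := lift z (fun a ha => by simp [T, ha])
  obtain ⟨g₀, hg₀⟩ : ∃ g₀ : Fin k → MvPolynomial (Fin n) R₀, ∀ j, m (g₀ j) = g j :=
    Classical.skolem.1 fun j => lift (g j) (fun a ha => Finset.mem_union_left _ (Finset.mem_union_left _ (Finset.mem_union_left _ (Finset.mem_union_left _ (Finset.mem_union_left _ ((Finset.mem_union_right _ (Finset.mem_biUnion.2 ⟨j, Finset.mem_univ _, ha⟩))))))))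
  obtain ⟨p₀, hp₀⟩ : ∃ p₀ : Fin n → MvPolynomial (Fin n) R₀, ∀ j, m (p₀ j) = p j :=
    Classical.skolem.1 fun j => lift (p j) (fun a ha => Finset.mem_union_left _ (Finset.mem_union_left _ (Finset.mem_union_left _ (Finset.mem_union_left _ ((Finset.mem_union_right _ (Finset.mem_biUnion.2 ⟨j, Finset.mem_univ _, ha⟩)))))))
  obtain ⟨q₀, hq₀⟩ : ∃ q₀ : Fin n → MvPolynomial (Fin n) R₀, ∀ j, m (q₀ j) = q' j :=
    Classical.skolem.1 fun j => lift (q' j) (fun a ha => Finset.mem_union_left _ (Finset.mem_union_left _ (Finset.mem_union_left _ ((Finset.mem_union_right _ (Finset.mem_biUnion.2 ⟨j, Finset.mem_univ _, ha⟩))))))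
  choose c₀ hc₀ using fun j l => lift (c j l) (fun a ha => Finset.mem_union_left _ (Finset.mem_union_left _ ((Finset.mem_union_right _ (Finset.mem_biUnion.2 ⟨j, Finset.mem_univ _, Finset.mem_biUnion.2 ⟨l, Finset.mem_univ _, ha⟩⟩)))))
  choose d₀ hd₀ using fun j l => lift (d j l) (fun a ha => Finset.mem_union_left _ ((Finset.mem_union_right _ (Finset.mem_biUnion.2 ⟨j, Finset.mem_univ _, Finset.mem_biUnion.2 ⟨l, Finset.mem_univ _, ha⟩⟩))))
  choose e₀ he₀ using fun l => lift (e l) (fun a ha => (Finset.mem_union_right _ (Finset.mem_biUnion.2 ⟨l, Finset.mem_univ _, ha⟩)))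
  let φ₀ : MvPolynomial (Fin n) R₀ →ₐ[R₀] MvPolynomial (Fin n) R₀ := MvPolynomial.aeval p₀
  have hmφ : ∀ x, m (φ₀ x) = φ (m x) := by
    intro x
    have : m.comp φ₀.toRingHom = φ.toRingHom.comp m := by
      apply MvPolynomial.ringHom_ext
      · intro r
        simp [m, φ₀, φ]
      · intro i
        have := hp₀ i
        simp [m, φ₀, φ] at this ⊢
        exact this
    exact RingHom.congr_fun this x
  let I₀ : Ideal (MvPolynomial (Fin n) R₀) := Ideal.span (Set.range g₀)
  have hφI : I₀ ≤ I₀.comap φ₀.toRingHom := by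
    rw [Ideal.span_le]
    rintro _ ⟨j, rfl⟩
    have h1 : φ₀ (g₀ j) = ∑ l, c₀ j l * g₀ l := hm (by
      rw [hmφ, hg₀, map_sum, ← hc j]
      simp only [map_mul, hc₀, hg₀])
    change φ₀ (g₀ j) ∈ I₀
    rw [h1]
    exact Submodule.sum_mem _ fun l _ => Ideal.mul_mem_left _ _ (Ideal.subset_span ⟨l, rfl⟩)
  let β : MvPolynomial (Fin n) R₀ ⧸ I₀ →+* MvPolynomial (Fin n) R₀ ⧸ I₀ :=
    Ideal.quotientMap I₀ φ₀.toRingHom hφI
  haveI : IsNoetherianRing (MvPolynomial (Fin n) R₀ ⧸ I₀) :=
    isNoetherianRing_of_surjective _ _ (Ideal.Quotient.mk I₀) Ideal.Quotient.mk_surjective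
  have hβ : Function.Surjective β := by
    intro x
    obtain ⟨x, rfl⟩ := Ideal.Quotient.mk_surjective x
    induction x using MvPolynomial.induction_on with
    | C r => exact ⟨Ideal.Quotient.mk I₀ (MvPolynomial.C r), by simp [β, φ₀]⟩
    | add a b ha hb =>
      obtain ⟨u, hu⟩ := ha
      obtain ⟨v, hv⟩ := hb
      exact ⟨u + v, by rw [map_add, hu, hv, map_add]⟩
    | mul_X a i ha =>
      obtain ⟨u, hu⟩ := ha
      refine ⟨u * Ideal.Quotient.mk I₀ (q₀ i), ?_⟩
      rw [map_mul, hu, map_mul]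
      congr 1
      rw [Ideal.quotientMap_mk, Ideal.Quotient.eq]
      have h1 : φ₀ (q₀ i) - MvPolynomial.X i = ∑ l, d₀ i l * g₀ l := hm (by
        rw [map_sub, hmφ, hq₀, map_sum]
        simp only [map_mul, hd₀, hg₀, hd i]
        simp [m])
      change φ₀ (q₀ i) - MvPolynomial.X i ∈ I₀
      rw [h1]
      exact Submodule.sum_mem _ fun l _ => Ideal.mul_mem_left _ _ (Ideal.subset_span ⟨l, rfl⟩)
  have h2 : φ₀ z₀ ∈ I₀ := by
    have h1 : φ₀ z₀ = ∑ l, e₀ l * g₀ l := hm (by
      rw [hmφ, hz₀, map_sum, ← he]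
      simp only [map_mul, he₀, hg₀])
    rw [h1]
    exact Submodule.sum_mem _ fun l _ => Ideal.mul_mem_left _ _ (Ideal.subset_span ⟨l, rfl⟩)
  have h3 : Ideal.Quotient.mk I₀ z₀ = 0 := by
    apply injective_of_surjective_endo β hβ
    rw [map_zero, Ideal.quotientMap_mk]
    exact Ideal.Quotient.eq_zero_iff_mem.2 h2
  have h4 := Ideal.mem_map_of_mem m (Ideal.Quotient.eq_zero_iff_mem.1 h3)
  rw [hz₀, Ideal.map_span, ← Set.range_comp, show m ∘ g₀ = g from funext hg₀] at h4
  exact (mem_ker z).1 h4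

end Groth.Agent.S13096
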