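import Groth.Statements.S13097
import Groth.Agent.Lib.SecHomeo6.Basic
-- import your own Groth.Agent.* helpers here

set_option autoImplicit false
universe u
open FlatMor

namespace Groth.Agent.S13097

open CategoryTheory AlgebraicGeometry in
/-- Let f : X → S be a quasi-compact, separated morphism of schemes with a section e : S → X (e followed
by f is the identity of S), and U ⊆ S an open subscheme such that f⁻¹(U) is schematically dense in X
(for every open V of X, restriction of functions from V to V ∩ f⁻¹(U) is injective) and such that
the restriction f⁻¹(U) → U of f is a homeomorphism of underlying spaces. Then f is universally a
homeomorphism (every base change of f is a homeomorphism), and f is finite as soon as it is locally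
of finite type. (The published statement also lists surjectivity of f, which a section forces, and
offers as an alternative to the section the hypothesis that f be flat, still with f⁻¹(U) → U only a
homeomorphism; that flat alternative fails: the spectrum of a separable quadratic field extension
over the spectrum of the ground field, with U the whole base, is flat, surjective, quasi-compact,
separated and a homeomorphism over U, yet not universally injective. Only the case of a section,
whose published proof is complete, is stated here.) -/
theorem result {X S : Scheme.{u}} (f : X ⟶ S)
    [QuasiCompact f] [IsSeparated f] (U : S.Opens)
    (hdense : CInt.IsSchematicallyDense (f ⁻¹ᵁ U)) (hU : IsHomeomorph (f ∣_ U).base)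
    (e : S ⟶ X) (he : e ≫ f = 𝟙 S) :
    FlatMor.IsUnivHomeo f ∧ (LocallyOfFiniteType f → IsFinite f) := by
    exact GrothLib.SecHomeo6.isUnivHomeo_and_finite f U hdense hU e he

end Groth.Agent.S13097
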