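import Groth.Statements.S13098
import Mathlib.Tactic.LinearCombination
import Mathlib.Tactic.Module
import Mathlib.Tactic.FinCases
import Mathlib.Tactic.Abel
import Mathlib.LinearAlgebra.Basis.Basic

set_option autoImplicit false
universe u v
open Lie3Mod

namespace Groth.Agent.S13098

/-- Let R be a commutative ring, M an R-module with a basis x = bs 0, y = bs 1, z = bs 2 indexed by Fin
3, and B an R-bilinear alternating map on M (B m m = 0) with B x y = a x + b y + c z, B x z = d x +
e y + f z and B y z = g x + h y + i z. Then B satisfies the Jacobi identity for all triples if and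
only if the three Jacobi polynomials vanish: ah + di − fg − bg = 0, ie + bd − fh − ae = 0 and hc +
dc − af − bi = 0. (This is the statement that Lie brackets on a based free module of rank 3 are the
points of the closed subscheme of affine 9-space defined by these three equations.) -/
theorem result (R : Type u) [CommRing R] (M : Type v) [AddCommGroup M] [Module R M]
    (bs : Module.Basis (Fin 3) R M) (B : M →ₗ[R] M →ₗ[R] M) (halt : ∀ m : M, B m m = 0)
    (a b c d e f g h i : R)
    (hxy : B (bs 0) (bs 1) = a • bs 0 + b • bs 1 + c • bs 2)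
    (hxz : B (bs 0) (bs 2) = d • bs 0 + e • bs 1 + f • bs 2)
    (hyz : B (bs 1) (bs 2) = g • bs 0 + h • bs 1 + i • bs 2) :
    (∀ u v w : M, B u (B v w) + B v (B w u) + B w (B u v) = 0) ↔
      (a * h + d * i - f * g - b * g = 0 ∧ i * e + b * d - f * h - a * e = 0 ∧
        h * c + d * c - a * f - b * i = 0) := by
  have anti : ∀ u v, B v u = -B u v := fun u v => by
    have h := halt (u + v)
    simp only [map_add, LinearMap.add_apply, halt, zero_add, add_zero] at h
    exact eq_neg_of_add_eq_zero_left h
  have key : B (bs 0) (B (bs 1) (bs 2)) + B (bs 1) (B (bs 2) (bs 0)) + B (bs 2) (B (bs 0) (bs 1)) =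
      (a * h + d * i - f * g - b * g) • bs 0 + (i * e + b * d - f * h - a * e) • bs 1 +
        (h * c + d * c - a * f - b * i) • bs 2 := by
    rw [anti (bs 0) (bs 2), hxy, hxz, hyz]
    simp only [map_add, map_neg, map_smul, halt, anti (bs 0) (bs 1), anti (bs 0) (bs 2),
      anti (bs 1) (bs 2), hxy, hxz, hyz]
    module
  constructor
  · intro hJ
    have h0 := hJ (bs 0) (bs 1) (bs 2)
    rw [key] at h0
    have h' := bs.linearIndependent
    rw [Fintype.linearIndependent_iff] at h'
    have hall := h' ![_, _, _] (by rw [Fin.sum_univ_three]; simpa using h0)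
    exact ⟨by simpa using hall 0, by simpa using hall 1, by simpa using hall 2⟩
  · rintro ⟨q1, q2, q3⟩ u v w
    have h0 : B (bs 0) (B (bs 1) (bs 2)) + B (bs 1) (B (bs 2) (bs 0)) + B (bs 2) (B (bs 0) (bs 1)) = 0 := by
      rw [key, q1, q2, q3]; simp
    have h1 : ∀ j k l : Fin 3, B (bs j) (B (bs k) (bs l)) + B (bs k) (B (bs l) (bs j)) + B (bs l) (B (bs j) (bs k)) = 0 := by
      have a10 := anti (bs 0) (bs 1)
      have a20 := anti (bs 0) (bs 2)
      have a21 := anti (bs 1) (bs 2)
      rw [a20, map_neg] at h0
      intro j k l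
      fin_cases j <;> fin_cases k <;> fin_cases l <;>
        simp only [Fin.zero_eta, Fin.mk_one, Fin.reduceFinMk, halt, a10, a20, a21, map_neg, map_zero,
          LinearMap.zero_apply, add_zero, zero_add, neg_zero] <;>
        first
          | abel1
          | (refine Eq.trans ?_ h0; abel1)
          | (rw [← neg_eq_zero]; refine Eq.trans ?_ h0; abel1)
    let T : M →ₗ[R] M →ₗ[R] M →ₗ[R] M := LinearMap.mk₂ R
      (fun u v => (B u).comp (B v) + (B v).comp (B.flip u) + B.flip (B u v))
      (fun _ _ _ => by ext; simp; abel) (fun _ _ _ => by ext; simp)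
      (fun _ _ _ => by ext; simp; abel) (fun _ _ _ => by ext; simp)
    have hT : T = 0 := bs.ext fun j => bs.ext fun k => bs.ext fun l => h1 j k l
    exact congrArg (fun T : M →ₗ[R] M →ₗ[R] M →ₗ[R] M => T u v w) hT

end Groth.Agent.S13098
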