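import Groth.Statements.S13099
import Mathlib.Data.ZMod.Basic
import Mathlib.Algebra.Field.ZMod
import Mathlib.RingTheory.MvPolynomial.Basic
import Mathlib.Algebra.CharP.Lemmas
import Mathlib.Data.Nat.Choose.Lucas
import Mathlib.Algebra.Polynomial.Taylor
import Mathlib.RingTheory.Polynomial.Basic
import Mathlib.RingTheory.OrzechProperty
import Mathlib.RingTheory.FiniteType
import Mathlib.RingTheory.AdjoinRoot
import Mathlib.Tactic.LinearCombination
-- import your own Groth.Agent.* helpers here

set_option autoImplicit false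
universe u
open GrpSch

namespace Groth.Agent.S13099

section
open Polynomial

theorem isUnit_natCast_of_not_dvd (p : ℕ) [Fact p.Prime] (A : Type u) [CommRing A] [CharP A p] (n : ℕ) (h : ¬ p ∣ n) :
    IsUnit (n : A) := by
  have h0 : (n : ZMod p) ≠ 0 := fun e => h ((ZMod.natCast_eq_zero_iff n p).1 e)
  simpa using h0.isUnit.map (ZMod.castHom (dvd_refl p) A)

theorem coeff_eq_zero_of_add (p : ℕ) [Fact p.Prime] (A : Type u) [CommRing A] [CharP A p] (q : A[X])
    (hd : q.natDegree < p ^ 2) (h : ∀ m i, 0 < m → 0 < i → m + i < p ^ 2 → ((m + i).choose i : A) * q.coeff (m + i) = 0)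
    (n : ℕ) (h0 : n ≠ 0) (h1 : n ≠ 1) (hp : n ≠ p) : q.coeff n = 0 := by
  have hp2 := (Fact.out : p.Prime).two_le
  by_cases hn : n < p ^ 2
  swap
  · exact coeff_eq_zero_of_natDegree_lt (by omega)
  by_cases hdvd : p ∣ n
  · obtain ⟨b, rfl⟩ := hdvd
    have hb : b < p := by rw [pow_two] at hn; exact Nat.lt_of_mul_lt_mul_left hn
    have hb2 : 2 ≤ b := by
      rcases b with _ | _ | b <;> first | omega | simp at h0 hp
    have e : p * (b - 1) + p = p * b := by
      rw [← Nat.mul_succ]; congr 1; omega
    have h2 := h (p * (b - 1)) p (by apply Nat.mul_pos <;> omega) (by omega) (by omega)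
    rw [e] at h2
    have hu : ¬ p ∣ (p * b).choose p := by
      intro hc
      have hl := Choose.choose_modEq_choose_mod_mul_choose_div_nat (p := p) (n := p * b) (k := p)
      rw [Nat.mul_mod_right, Nat.mod_self, Nat.choose_self, Nat.mul_div_cancel_left _ (by omega : 0 < p),
        Nat.div_self (by omega : 0 < p), Nat.choose_one_right, _root_.one_mul] at hl
      have := (Nat.modEq_zero_iff_dvd.mpr hc).symm.trans hl
      have := Nat.le_of_dvd (by omega) (Nat.modEq_zero_iff_dvd.mp this.symm)
      omega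
    exact (isUnit_natCast_of_not_dvd p A _ hu).mul_right_eq_zero.mp h2
  · have h2 := h (n - 1) 1 (by omega) one_pos (by omega)
    rw [Nat.sub_add_cancel (by omega : 1 ≤ n), Nat.choose_one_right] at h2
    exact (isUnit_natCast_of_not_dvd p A _ hdvd).mul_right_eq_zero.mp h2

theorem add_coeffs (A : Type u) [CommRing A] (N : ℕ) (q : A[X])
    (hmem : Polynomial.aeval (MvPolynomial.X 0 + MvPolynomial.X 1 : MvPolynomial (Fin 2) A) q -
            Polynomial.aeval (MvPolynomial.X 0 : MvPolynomial (Fin 2) A) q -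
            Polynomial.aeval (MvPolynomial.X 1 : MvPolynomial (Fin 2) A) q ∈
          Ideal.span ({MvPolynomial.X 0 ^ N, MvPolynomial.X 1 ^ N} : Set (MvPolynomial (Fin 2) A)))
    (m i : ℕ) (hm : m < N) (hi : i < N) :
    ((m + i).choose i : A) * q.coeff (m + i) - (if i = 0 then q.coeff m else 0) - (if m = 0 then q.coeff i else 0) = 0 := by
  obtain ⟨a, b, hab⟩ := Ideal.mem_span_pair.1 hmem
  let Θ : MvPolynomial (Fin 2) A →ₐ[A] A[X][X] := MvPolynomial.aeval ![C X, X]
  have hY : Θ (MvPolynomial.X 0) = C X := by simp [Θ]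
  have hZ : Θ (MvPolynomial.X 1) = X := by simp [Θ]
  have h1 : ∀ y : A[X][X], Polynomial.aeval y q = (q.map (C : A →+* A[X])).comp y := by
    intro y
    rw [comp_eq_aeval, ← aeval_map_algebraMap A[X] y q]
    rfl
  have hd := congrArg (fun d => ((Θ d).coeff i).coeff m) hab
  simp only [map_sub, map_add, map_mul, map_pow, ← aeval_algHom_apply, hY, hZ, coeff_sub] at hd
  have hz : ((Θ a * C X ^ N + Θ b * X ^ N).coeff i).coeff m = 0 := by
    rw [coeff_add, ← C_pow, coeff_mul_C, coeff_mul_X_pow', if_neg (not_le.2 hi), add_zero, coeff_mul_X_pow', if_neg (not_le.2 hm)]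
  rw [hz, h1, h1, h1, add_comm (C X) X] at hd
  rw [show (q.map (C : A →+* A[X])).comp (X + C X) = taylor X (q.map C) from (taylor_apply _ _).symm,
    taylor_coeff, comp_X, comp_C, coeff_C, coeff_map] at hd
  have e1 : (hasseDeriv i (q.map (C : A →+* A[X]))).eval X = hasseDeriv i q := by
    rw [show hasseDeriv i (q.map (C : A →+* A[X])) = (hasseDeriv i q).map C from ?_, eval_map, eval₂_C_X]
    ext1 j
    simp [hasseDeriv_coeff]
  rw [e1, hasseDeriv_coeff] at hd
  have e2 : (eval X (q.map (C : A →+* A[X]))) = q := by rw [eval_map, eval₂_C_X]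
  rw [e2, coeff_C] at hd
  rw [hd]
  split_ifs <;> simp_all

theorem part1 (p : ℕ) [Fact p.Prime] (A : Type u) [CommRing A] [CharP A p] (q : A[X]) (hdeg : q.natDegree < p ^ 2) :
    (Polynomial.aeval (MvPolynomial.X 0 + MvPolynomial.X 1 : MvPolynomial (Fin 2) A) q -
            Polynomial.aeval (MvPolynomial.X 0 : MvPolynomial (Fin 2) A) q -
            Polynomial.aeval (MvPolynomial.X 1 : MvPolynomial (Fin 2) A) q ∈
          Ideal.span ({MvPolynomial.X 0 ^ p ^ 2, MvPolynomial.X 1 ^ p ^ 2} : Set (MvPolynomial (Fin 2) A)) ↔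
        ∃ a₁ ap : A, q = Polynomial.C a₁ * X + Polynomial.C ap * X ^ p) := by
  have hp2 := (Fact.out : p.Prime).two_le
  constructor
  · intro hmem
    have key := add_coeffs A (p ^ 2) q hmem
    have h0 : q.coeff 0 = 0 := by simpa using key 0 0 (by positivity) (by positivity)
    have hz := coeff_eq_zero_of_add p A q hdeg fun m i hm hi hlt => by
      simpa [hm.ne', hi.ne'] using key m i (by omega) (by omega)
    refine ⟨q.coeff 1, q.coeff p, ?_⟩
    ext n
    simp only [coeff_add, coeff_C_mul, coeff_X, coeff_X_pow]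
    rcases eq_or_ne n 0 with rfl | hn0
    · simp [h0, show 0 ≠ p by omega]
    rcases eq_or_ne n 1 with rfl | hn1
    · simp [show 1 ≠ p by omega]
    rcases eq_or_ne n p with rfl | hnp
    · simp [show 1 ≠ n by omega]
    simp [hz n hn0 hn1 hnp, hnp, hn1.symm]
  · rintro ⟨a₁, ap, rfl⟩
    convert Ideal.zero_mem _
    simp only [map_add, map_mul, map_pow, aeval_C, aeval_X]
    rw [add_pow_char]
    ring

theorem part2 (p : ℕ) [Fact p.Prime] (A : Type u) [CommRing A] [CharP A p] (a₁ ap : A)
    (I : Ideal A[X]) (hI : I = Ideal.span ({X ^ p ^ 2} : Set A[X]))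
    (φ : (A[X] ⧸ I) →ₐ[A] (A[X] ⧸ I))
    (hφ : φ (Ideal.Quotient.mk I X) =
          Ideal.Quotient.mk I (Polynomial.C a₁ * X + Polynomial.C ap * X ^ p)) :
    Function.Bijective φ ↔ IsUnit a₁ := by
  have hp2 := (Fact.out : p.Prime).two_le
  have hφg : ∀ g : A[X], φ (Ideal.Quotient.mk I g) = Ideal.Quotient.mk I (g.comp (C a₁ * X + C ap * X ^ p)) := by
    intro g
    show (φ.comp (Ideal.Quotient.mkₐ A I)) g = ((Ideal.Quotient.mkₐ A I).comp (aeval (C a₁ * X + C ap * X ^ p))) g
    congr 1
    exact algHom_ext (by simpa using hφ)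
  constructor
  · intro hb
    obtain ⟨r, hr⟩ := hb.2 (Ideal.Quotient.mk I X)
    obtain ⟨g, rfl⟩ := Ideal.Quotient.mk_surjective r
    rw [hφg, Ideal.Quotient.eq, hI, Ideal.mem_span_singleton, X_pow_dvd_iff] at hr
    have h1 := hr 1 (by nlinarith)
    rw [coeff_sub, coeff_X_one, sub_eq_zero] at h1
    have e : (g.comp (C a₁ * X + C ap * X ^ p)).coeff 1 = a₁ * g.derivative.coeff 0 := by
      have := congrArg (eval 0) (derivative_comp g (C a₁ * X + C ap * X ^ p))
      rw [← coeff_zero_eq_eval_zero, coeff_derivative] at this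
      simp only [Nat.cast_zero, zero_add, _root_.mul_one] at this
      rw [this]
      rw [eval_mul, eval_comp, coeff_zero_eq_eval_zero]
      simp only [derivative_add, derivative_mul, derivative_C, derivative_X, derivative_X_pow, eval_add, eval_mul,
        eval_C, eval_X, eval_pow, eval_zero, eval_one, zero_pow (show p - 1 ≠ 0 by omega), zero_pow (show p ≠ 0 by omega)]
      ring
    rw [e] at h1
    exact IsUnit.of_mul_eq_one _ h1
  · intro hu
    obtain ⟨v, hv⟩ := hu.exists_left_inv
    haveI : Module.Finite A (A[X] ⧸ I) := by subst hI; exact Monic.finite_quotient (monic_X_pow (p ^ 2))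
    haveI : CharP A[X] p := inferInstance
    have hxp : Ideal.Quotient.mk I (X ^ p) ∈ φ.range := by
      refine ⟨Ideal.Quotient.mk I (C (v ^ p) * X ^ p), ?_⟩
      show φ _ = _
      rw [hφg, Ideal.Quotient.eq, hI, Ideal.mem_span_singleton]
      refine ⟨C (v ^ p) * C (ap ^ p), ?_⟩
      rw [mul_comp, C_comp, X_pow_comp, add_pow_char, mul_pow, mul_pow, ← C_pow, ← C_pow, ← pow_mul, ← sq]
      have e : C (v ^ p) * C (a₁ ^ p) = (1 : A[X]) := by rw [← C_mul, ← mul_pow, hv, one_pow, C_1]
      linear_combination (X ^ p) * e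
    have hx : Ideal.Quotient.mk I X ∈ φ.range := by
      have h1 : Ideal.Quotient.mk I (C a₁ * X + C ap * X ^ p) ∈ φ.range := ⟨_, hφ⟩
      have h2 := φ.range.mul_mem (φ.range.algebraMap_mem v) (φ.range.sub_mem h1 (φ.range.mul_mem (φ.range.algebraMap_mem ap) hxp))
      convert h2 using 1
      rw [show algebraMap A (A[X] ⧸ I) v = Ideal.Quotient.mk I (C v) from rfl, show algebraMap A (A[X] ⧸ I) ap = Ideal.Quotient.mk I (C ap) from rfl,
        ← map_mul, ← map_sub, ← map_mul]
      congr 1
      have e : C v * C a₁ = (1 : A[X]) := by rw [← C_mul, hv, C_1]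
      linear_combination -X * e
    have hs : Function.Surjective φ := by
      intro y
      obtain ⟨g, rfl⟩ := Ideal.Quotient.mk_surjective y
      have : Ideal.Quotient.mk I g = aeval (Ideal.Quotient.mk I X) g := by
        rw [← Ideal.Quotient.mkₐ_eq_mk A, aeval_algHom_apply, aeval_X_left_apply]
      rw [this]
      have hmem : aeval (Ideal.Quotient.mk I X) g ∈ φ.range := by
        have := Algebra.adjoin_le (S := φ.range) (Set.singleton_subset_iff.2 hx)
        exact this (aeval_mem_adjoin_singleton A _)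
      exact hmem
    exact ⟨OrzechProperty.injective_of_surjective_endomorphism φ.toLinearMap hs, hs⟩

end


open Polynomial in
/-- Let p be a prime and A a commutative ring of characteristic p, and consider the infinitesimal group
scheme Spec A[X]/(X^{p²}) with the additive group law. In coordinates: (1) a polynomial q ∈ A[X] of
degree less than p² satisfies q(Y + Z) − q(Y) − q(Z) ∈ (Y^{p²}, Z^{p²}) in A[Y, Z] (that is, X ↦ q
respects the comultiplication) if and only if q = a₁ X + a_p X^p for some a₁, a_p ∈ A; (2) an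
A-algebra endomorphism of A[X]/(X^{p²}) that sends the class of X to the class of a₁ X + a_p X^p is
bijective if and only if a₁ is a unit of A. (The printed statement is that the automorphism group
scheme of this group scheme is the semidirect product of the additive group by the multiplicative
group, v acting on u by v^{p−1}u; this row records the two computations it consists of, in
coordinates.) -/
theorem result (p : ℕ) [Fact p.Prime] (A : Type u) [CommRing A] [CharP A p] :
    (∀ q : A[X], q.natDegree < p ^ 2 →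
      (Polynomial.aeval (MvPolynomial.X 0 + MvPolynomial.X 1 : MvPolynomial (Fin 2) A) q -
            Polynomial.aeval (MvPolynomial.X 0 : MvPolynomial (Fin 2) A) q -
            Polynomial.aeval (MvPolynomial.X 1 : MvPolynomial (Fin 2) A) q ∈
          Ideal.span ({MvPolynomial.X 0 ^ p ^ 2, MvPolynomial.X 1 ^ p ^ 2} : Set (MvPolynomial (Fin 2) A)) ↔
        ∃ a₁ ap : A, q = Polynomial.C a₁ * X + Polynomial.C ap * X ^ p)) ∧
    (∀ (a₁ ap : A) (φ : (A[X] ⧸ Ideal.span ({X ^ p ^ 2} : Set A[X])) →ₐ[A] (A[X] ⧸ Ideal.span ({X ^ p ^ 2} : Set A[X]))),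
      φ (Ideal.Quotient.mk (Ideal.span ({X ^ p ^ 2} : Set A[X])) X) =
          Ideal.Quotient.mk (Ideal.span ({X ^ p ^ 2} : Set A[X])) (Polynomial.C a₁ * X + Polynomial.C ap * X ^ p) →
        (Function.Bijective φ ↔ IsUnit a₁)) := by
  exact ⟨fun q hq => part1 p A q hq, fun a₁ ap φ hφ => part2 p A a₁ ap _ rfl φ hφ⟩


end Groth.Agent.S13099
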