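import Groth.Statements.S13100
import Mathlib.RingTheory.AdicCompletion.Completeness
import Mathlib.RingTheory.Henselian
-- import your own Groth.Agent.* helpers here

set_option autoImplicit false
universe u
open GrpSch

namespace Groth.Agent.S13100

/-- Let k be an algebraically closed field of characteristic different from 2 and K = k((t)) the field
of Laurent series over k. Then a non-zero Laurent series f is a square in K if and only if its order
in t is even; consequently the group Kˣ/Kˣ² of non-zero elements modulo squares has exactly two
elements, represented by 1 and t. -/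
theorem result (k : Type u) [Field k] [IsAlgClosed k] (h2 : (2 : k) ≠ 0)
    (f : LaurentSeries k) (hf : f ≠ 0) : IsSquare f ↔ Even f.order := by
  constructor
  · rintro ⟨g, rfl⟩
    have hg : g ≠ 0 := left_ne_zero_of_mul hf
    rw [HahnSeries.order_mul hg hg]
    exact ⟨_, rfl⟩
  · rintro ⟨m, hm⟩
    obtain ⟨p, hp⟩ : ∃ p : PowerSeries k, HahnSeries.single f.order 1 * (HahnSeries.ofPowerSeries ℤ k p) = f :=
      ⟨f.powerSeriesPart, LaurentSeries.single_order_mul_powerSeriesPart f⟩
    have hp0 : PowerSeries.constantCoeff p ≠ 0 := by
      have : (LaurentSeries.powerSeriesPart f) = p := by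
        apply HahnSeries.ofPowerSeries_injective (Γ := ℤ) (R := k)
        apply mul_left_cancel₀ (a := (HahnSeries.single f.order 1 : LaurentSeries k)) (HahnSeries.single_ne_zero one_ne_zero)
        rw [hp, LaurentSeries.single_order_mul_powerSeriesPart]
      rw [← this, ← PowerSeries.coeff_zero_eq_constantCoeff_apply, LaurentSeries.powerSeriesPart_coeff]
      simpa using HahnSeries.coeff_order_eq_zero.ne.mpr hf
    obtain ⟨c, hc⟩ := IsAlgClosed.exists_eq_mul_self (PowerSeries.constantCoeff p)
    have hpoly : ∃ q : PowerSeries k, p = q * q := by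
      obtain ⟨a, ha, -⟩ := HenselianRing.is_henselian (I := Ideal.span {(PowerSeries.X : PowerSeries k)})
        (Polynomial.X ^ 2 - Polynomial.C p) (Polynomial.monic_X_pow_sub_C p two_ne_zero) (PowerSeries.C c)
        (by
          rw [Ideal.mem_span_singleton, PowerSeries.X_dvd_iff]
          simp [hc, pow_two])
        (by
          have hc0 : c ≠ 0 := fun h => hp0 (by rw [hc, h, mul_zero])
          refine IsUnit.map _ ?_
          rw [PowerSeries.isUnit_iff_constantCoeff, isUnit_iff_ne_zero]
          simpa [Polynomial.derivative_X_pow, map_ofNat, one_add_one_eq_two] using mul_ne_zero h2 hc0)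
      refine ⟨a, ?_⟩
      rw [Polynomial.IsRoot, Polynomial.eval_sub, Polynomial.eval_pow, Polynomial.eval_X, Polynomial.eval_C,
        sub_eq_zero, pow_two] at ha
      exact ha.symm
    obtain ⟨q, rfl⟩ := hpoly
    refine ⟨HahnSeries.single m 1 * HahnSeries.ofPowerSeries ℤ k q, ?_⟩
    rw [← hp, hm, map_mul, mul_mul_mul_comm, HahnSeries.single_mul_single, one_mul]


end Groth.Agent.S13100
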