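import Groth.Statements.S13101
import Groth.Agent.Lib.Lie13.Basic
import Mathlib.RingTheory.Nilpotent.Basic
import Mathlib.Tactic.LinearCombination
-- import your own Groth.Agent.* helpers here

set_option autoImplicit false
universe u v
open GrpSch

namespace Groth.Agent.S13101

/-- Let A be a commutative ring in which 2 is a unit, and L a Lie algebra over A, free as a module with
basis x = bs 0, y = bs 1, z = bs 2 and brackets [x,y] = y, [x,z] = y + z, [y,z] = 0. Then for every
Lie algebra automorphism φ of L over A there are b, c, h ∈ A and a unit i of A with φ(x) = x + b y +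
c z, φ(y) = i y and φ(z) = h y + i z. Only the form of an automorphism is stated, not that every map
of this form is one. (The published statement identifies the automorphism group scheme with a
semidirect product of two additive groups by the product of the multiplicative and additive group,
for algebras over a field of Laurent series of characteristic not 2, and deduces the vanishing of
its first cohomology; this row records the determination of the automorphisms, over any base ring
with 2 invertible; the cohomological consequence is not restated.) -/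
theorem result (A : Type u) [CommRing A] (h2 : IsUnit (2 : A))
    (L : Type v) [LieRing L] [LieAlgebra A L] (bs : Module.Basis (Fin 3) A L)
    (hxy : ⁅bs 0, bs 1⁆ = bs 1) (hxz : ⁅bs 0, bs 2⁆ = bs 1 + bs 2) (hyz : ⁅bs 1, bs 2⁆ = 0)
    (φ : L ≃ₗ⁅A⁆ L) :
    ∃ b c h i : A, IsUnit i ∧ φ (bs 0) = bs 0 + b • bs 1 + c • bs 2 ∧ φ (bs 1) = i • bs 1 ∧
      φ (bs 2) = h • bs 1 + i • bs 2 := by
  have hb := GrothLib.Lie13.repr_bracket bs (1 : A) 0 1 1 (by rw [hxy]; simp) (by rw [hxz]; simp) hyz
  have kx := hb (φ (bs 0)) (φ (bs 1))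
  rw [← LieEquiv.map_lie, hxy] at kx
  have kz := hb (φ (bs 0)) (φ (bs 2))
  rw [← LieEquiv.map_lie, hxz] at kz
  obtain ⟨e0, e1, e2⟩ := kx
  obtain ⟨z0, z1, z2⟩ := kz
  have hw := fun u => GrothLib.Lie13.eq_sum bs u
  simp only [map_add, map_smul, Finsupp.add_apply, Finsupp.smul_apply, smul_eq_mul] at e0 e1 e2 z0 z1 z2
  have kyz := hb (φ (bs 1)) (φ (bs 2))
  rw [← LieEquiv.map_lie, hyz] at kyz
  obtain ⟨-, y1, y2⟩ := kyz
  simp only [map_zero, Finsupp.zero_apply] at y1 y2
  have g : bs.repr (φ (bs 2)) 0 = 0 := by rw [e0, zero_add] at z0; exact z0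
  have hu := GrothLib.Lie13.isUnit_block bs bs φ.toLinearEquiv e0 g
  simp only [LieEquiv.coe_toLinearEquiv] at hu
  generalize ha : bs.repr (φ (bs 0)) 0 = a at *
  generalize hq : bs.repr (φ (bs 0)) 1 = q at *
  generalize hr : bs.repr (φ (bs 0)) 2 = r at *
  generalize he : bs.repr (φ (bs 1)) 1 = e at *
  generalize hf : bs.repr (φ (bs 1)) 2 = f at *
  generalize hh : bs.repr (φ (bs 2)) 1 = h at *
  generalize hi : bs.repr (φ (bs 2)) 2 = i at *
  rw [e0] at e1 e2
  rw [g] at z1 z2
  simp only [mul_zero, zero_mul, add_zero, zero_add, sub_zero, mul_one] at e1 e2 z1 z2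
  have hdet : IsUnit (e * i - f * h) := isUnit_of_mul_isUnit_right hu
  have hf2 : f * f = 0 := by linear_combination f * z2 - i * e2
  have hei : IsUnit (e * i) := by
    have hn : IsNilpotent (f * h) := Commute.isNilpotent_mul_right (Commute.all f h) ⟨2, by rw [pow_two, hf2]⟩
    simpa using IsNilpotent.isUnit_add_left_of_commute hn hdet (Commute.all _ _)
  have he' : IsUnit e := isUnit_of_mul_isUnit_left hei
  have hi' : IsUnit i := isUnit_of_mul_isUnit_right hei
  have hu2 : (a - 1) * (a - 1) = 0 := by
    refine hi'.mul_left_eq_zero.mp ?_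
    linear_combination (a - 1) * (-z2) + (-1 : A) * e2
  have hui : (a - 1) * (e + i) = 0 := by linear_combination -e1 - z2 + e2
  have hsum : IsUnit (e + i) := by
    have h2i : IsUnit (2 * i) := h2.mul hi'
    have hn : IsNilpotent ((a - 1) * (h + i)) :=
      Commute.isNilpotent_mul_right (Commute.all (a - 1) (h + i)) ⟨2, by rw [pow_two, hu2]⟩
    have := IsNilpotent.isUnit_add_left_of_commute hn h2i (Commute.all _ _)
    convert this using 1
    linear_combination z1
  have ha1 : a = 1 := sub_eq_zero.mp (hsum.mul_left_eq_zero.mp hui)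
  subst ha1
  have hf0 : f = 0 := by linear_combination z2
  have hie : e = i := by linear_combination z1
  refine ⟨q, r, h, i, hi', ?_, ?_, ?_⟩
  · rw [hw (φ (bs 0)), ha, hq, hr, one_smul]
  · rw [hw (φ (bs 1)), e0, he, hf, hf0, hie]; simp
  · rw [hw (φ (bs 2)), g, hh, hi]; simp

end Groth.Agent.S13101
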