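import Groth.Statements.S13102
import Groth.Agent.Lib.Lie13.Basic
import Mathlib.Tactic.LinearCombination
-- import your own Groth.Agent.* helpers here

set_option autoImplicit false
universe u v w
open GrpSch

namespace Groth.Agent.S13102

/-- Let K be a field, α ∈ K, A a commutative K-algebra and L a Lie algebra over A which is free as an
A-module with basis x = bs 0, y = bs 1, z = bs 2 and brackets [x,y] = y, [x,z] = α z, [y,z] = 0. If
α² ≠ 1 then every Lie algebra automorphism φ of L over A satisfies φ(x) = x + b y + c z, φ(y) = e y,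
φ(z) = i z for some b, c ∈ A and units e, i of A. If α = 1 then every such φ satisfies φ(x) = x + b
y + c z, φ(y) = e y + f z, φ(z) = h y + i z with e i − f h a unit of A. (The printed statement
identifies the automorphism group schemes with the corresponding semidirect products, treats also α
= −1 in characteristic not 2, and computes first cohomology over a field of Laurent series; those
clauses are not restated here.) -/
theorem result (K : Type u) [Field K] (α : K) (A : Type v) [CommRing A] [Algebra K A]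
    (L : Type w) [LieRing L] [LieAlgebra A L] (bs : Module.Basis (Fin 3) A L)
    (hxy : ⁅bs 0, bs 1⁆ = bs 1) (hxz : ⁅bs 0, bs 2⁆ = algebraMap K A α • bs 2) (hyz : ⁅bs 1, bs 2⁆ = 0)
    (φ : L ≃ₗ⁅A⁆ L) :
    (α ^ 2 ≠ 1 → ∃ b c e i : A, IsUnit e ∧ IsUnit i ∧ φ (bs 0) = bs 0 + b • bs 1 + c • bs 2 ∧
        φ (bs 1) = e • bs 1 ∧ φ (bs 2) = i • bs 2) ∧
    (α = 1 → ∃ b c e f h i : A, IsUnit (e * i - f * h) ∧ φ (bs 0) = bs 0 + b • bs 1 + c • bs 2 ∧
        φ (bs 1) = e • bs 1 + f • bs 2 ∧ φ (bs 2) = h • bs 1 + i • bs 2) := by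
  have hb := GrothLib.Lie13.repr_bracket bs (1 : A) 0 0 (algebraMap K A α) (by rw [hxy]; simp) (by rw [hxz]; simp) hyz
  have kx := hb (φ (bs 0)) (φ (bs 1))
  rw [← LieEquiv.map_lie, hxy] at kx
  have kz := hb (φ (bs 0)) (φ (bs 2))
  rw [← LieEquiv.map_lie, hxz] at kz
  obtain ⟨e0, e1, e2⟩ := kx
  obtain ⟨z0, z1, z2⟩ := kz
  have hw := fun u => GrothLib.Lie13.eq_sum bs u
  simp only [map_add, map_smul, Finsupp.add_apply, Finsupp.smul_apply, smul_eq_mul] at e0 e1 e2 z0 z1 z2
  have kyz := hb (φ (bs 1)) (φ (bs 2))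
  rw [← LieEquiv.map_lie, hyz] at kyz
  obtain ⟨-, y1, y2⟩ := kyz
  simp only [map_zero, Finsupp.zero_apply] at y1 y2
  generalize hσ : algebraMap K A α = σ at *
  generalize ha : bs.repr (φ (bs 0)) 0 = a at *
  generalize hq : bs.repr (φ (bs 0)) 1 = q at *
  generalize hr : bs.repr (φ (bs 0)) 2 = r at *
  generalize he : bs.repr (φ (bs 1)) 1 = e at *
  generalize hf : bs.repr (φ (bs 1)) 2 = f at *
  generalize hh : bs.repr (φ (bs 2)) 1 = h at *
  generalize hi : bs.repr (φ (bs 2)) 2 = i at *
  generalize hg : bs.repr (φ (bs 2)) 0 = g at *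
  rw [e0] at e1 e2 y1 y2
  simp only [mul_zero, zero_mul, add_zero, zero_add, sub_zero, zero_sub, mul_one, neg_mul] at e1 e2 z0 z1 z2 y1 y2
  have hsg : σ * g = 0 := z0
  have hge : g * e = 0 := by linear_combination y1
  have hg0 : g = 0 := by
    have hd := congrArg Matrix.det ((LinearMap.toMatrix_comp bs bs bs φ.symm.toLinearEquiv.toLinearMap
      φ.toLinearEquiv.toLinearMap).symm.trans
      (by rw [show φ.symm.toLinearEquiv.toLinearMap ∘ₗ φ.toLinearEquiv.toLinearMap = LinearMap.id from
        LinearMap.ext fun v => φ.symm_apply_apply v, LinearMap.toMatrix_id]))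
    rw [Matrix.det_mul, Matrix.det_one, Matrix.det_fin_three (LinearMap.toMatrix bs bs φ.toLinearEquiv.toLinearMap)] at hd
    simp only [LinearMap.toMatrix_apply, LinearEquiv.coe_coe, LieEquiv.coe_toLinearEquiv, ha, hq, hr, he, hf, hg, hh, hi, e0] at hd
    have hgf : g * f = 0 := by linear_combination g * e2 + (a * f) * hsg
    linear_combination (-g) * hd + (LinearMap.toMatrix bs bs φ.symm.toLinearEquiv.toLinearMap).det *
      ((a * i - g * r) * hge + (g * q - a * h) * hgf)
  have hu := GrothLib.Lie13.isUnit_block bs bs φ.toLinearEquiv e0 (hg.trans hg0)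
  simp only [LieEquiv.coe_toLinearEquiv, ha, he, hf, hh, hi] at hu
  have hdet : IsUnit (e * i - f * h) := isUnit_of_mul_isUnit_right hu
  subst hg0
  simp only [mul_zero, zero_mul, sub_zero] at z1 z2
  constructor
  · intro hα
    have hσ2 : IsUnit (σ * σ - 1) := by
      rw [← hσ, ← map_mul, ← map_one (algebraMap K A), ← map_sub]
      exact (IsUnit.mk0 _ (sub_ne_zero.mpr (by rwa [← pow_two]))).map _
    have hσ1 : IsUnit (σ - 1) := by
      refine isUnit_of_mul_isUnit_left (y := σ + 1) ?_
      convert hσ2 using 1; ring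
    have hfh : f * h = 0 := hσ2.mul_right_eq_zero.mp (by linear_combination -h * e2 + (σ * f) * z1)
    have hei : IsUnit (e * i) := by rwa [hfh, sub_zero] at hdet
    have he' := isUnit_of_mul_isUnit_left hei
    have hi' := isUnit_of_mul_isUnit_right hei
    have ha1 : a = 1 := sub_eq_zero.mp (he'.mul_left_eq_zero.mp (by linear_combination -e1))
    subst ha1
    have hf0 : f = 0 := hσ1.mul_right_eq_zero.mp (by linear_combination -e2)
    have hh0 : h = 0 := hσ1.mul_right_eq_zero.mp (by linear_combination z1)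
    refine ⟨q, r, e, i, he', hi', ?_, ?_, ?_⟩
    · rw [hw (φ (bs 0)), ha, hq, hr, one_smul]
    · rw [hw (φ (bs 1)), e0, he, hf, hf0]; simp
    · rw [hw (φ (bs 2)), hg, hh, hi, hh0]; simp
  · intro hα
    have : σ = 1 := by rw [← hσ, hα, map_one]
    subst this
    have ha1 : a = 1 := sub_eq_zero.mp (hdet.mul_left_eq_zero.mp (by
      linear_combination (-i) * e1 + h * e2))
    subst ha1
    refine ⟨q, r, e, f, h, i, hdet, ?_, ?_, ?_⟩
    · rw [hw (φ (bs 0)), ha, hq, hr, one_smul]
    · rw [hw (φ (bs 1)), e0, he, hf]; simp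
    · rw [hw (φ (bs 2)), hg, hh, hi]; simp

end Groth.Agent.S13102
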