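import Groth.Statements.S13104
import Groth.Agent.Lib.GITQuot.Cat
import Mathlib.AlgebraicGeometry.Morphisms.SchemeTheoreticallyDominant
import Mathlib.AlgebraicGeometry.Morphisms.ClosedImmersion
-- import your own Groth.Agent.* helpers here

set_option autoImplicit false
universe u
open GrpSch

namespace Groth.Agent.S13104

open CategoryTheory AlgebraicGeometry in
/-- Let B be a commutative ring, B[ε] the ring of dual numbers (ε² = 0) and B[α, β]/(α², β²) the double
dual numbers, realised as dual numbers over the dual numbers with α the inner and β the outer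
generator, and let ψ : B[ε] → B[α, β]/(α², β²) be the B-algebra homomorphism with ψ(ε) = αβ. Then
for every scheme G the map u ↦ Spec(ψ) ≫ u from morphisms Spec B[ε] → G to morphisms Spec
B[α,β]/(α²,β²) → G is injective. (The printed statement is its consequence for a group scheme G: the
map Lie(G)(B) → G(B[α,β]/(α²,β²)), x ↦ exp(αβ x), is injective; the injectivity on all B[ε]-points
stated here is what the printed argument establishes.) -/
theorem result (B : Type u) [CommRing B]
    (ψ : DualNumber B →+* DualNumber (DualNumber B))
    (hψB : ∀ b : B, ψ (algebraMap B (DualNumber B) b) = algebraMap B (DualNumber (DualNumber B)) b)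
    (hψ : ψ DualNumber.eps = algebraMap (DualNumber B) (DualNumber (DualNumber B)) DualNumber.eps * DualNumber.eps)
    (G : Scheme.{u}) :
    Function.Injective (fun u : Spec (CommRingCat.of (DualNumber B)) ⟶ G =>
      Spec.map (CommRingCat.ofHom (R := DualNumber B) (S := DualNumber (DualNumber B)) ψ) ≫ u) := by
  have hval : ∀ x : DualNumber B, ψ x = TrivSqZeroExt.inl (TrivSqZeroExt.inl x.fst) +
      TrivSqZeroExt.inr (TrivSqZeroExt.inr x.snd) := by
    intro x
    have hx : x = algebraMap B (DualNumber B) x.fst + algebraMap B (DualNumber B) x.snd * DualNumber.eps := by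
      apply TrivSqZeroExt.ext <;> simp [TrivSqZeroExt.algebraMap_eq_inl]
    conv_lhs => rw [hx, map_add, map_mul, hψB, hψB, hψ]
    apply TrivSqZeroExt.ext <;> apply TrivSqZeroExt.ext <;>
      simp [TrivSqZeroExt.algebraMap_eq_inl, TrivSqZeroExt.algebraMap_eq_inl']
  have hinj : Function.Injective ψ := by
    intro x y hxy
    rw [hval, hval] at hxy
    apply TrivSqZeroExt.ext
    · simpa using congrArg (fun z : DualNumber (DualNumber B) => (TrivSqZeroExt.fst z).fst) hxy
    · simpa using congrArg (fun z : DualNumber (DualNumber B) => (TrivSqZeroExt.snd z).snd) hxy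
  let φ := Spec.map (CommRingCat.ofHom (R := DualNumber B) (S := DualNumber (DualNumber B)) ψ)
  have hdom : IsSchemeTheoreticallyDominant φ :=
    ⟨Scheme.IdealSheafData.ext_of_isAffine (by
      simp [φ, Scheme.Hom.ker_apply, ← RingHom.injective_iff_ker_eq_bot, Scheme.ΓSpecIso_naturality,
        RingHom.coe_comp]
      intro a b hab
      have hn := Scheme.ΓSpecIso_naturality (CommRingCat.ofHom (R := DualNumber B) (S := DualNumber (DualNumber B)) ψ)
      have h2 := (ConcreteCategory.congr_hom hn a).symm.trans
        ((congrArg (Scheme.ΓSpecIso (CommRingCat.of (DualNumber (DualNumber B)))).hom hab).trans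
          (ConcreteCategory.congr_hom hn b))
      exact (ConcreteCategory.bijective_of_isIso (Scheme.ΓSpecIso (CommRingCat.of (DualNumber B))).hom).injective
        (hinj h2))⟩
  have hsurj : Function.Surjective φ.base := by
    intro q
    let q' : PrimeSpectrum B := PrimeSpectrum.comap (algebraMap B (DualNumber B)) q
    let f2 : DualNumber (DualNumber B) →+* B :=
      (TrivSqZeroExt.fstHom B B B).toRingHom.comp (TrivSqZeroExt.fstHom B (DualNumber B) (DualNumber B)).toRingHom
    refine ⟨PrimeSpectrum.comap f2 q', PrimeSpectrum.ext (Ideal.ext fun x => ?_)⟩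
    show algebraMap B (DualNumber B) (TrivSqZeroExt.fst (TrivSqZeroExt.fst (ψ x))) ∈ q.asIdeal ↔ x ∈ q.asIdeal
    have he : (DualNumber.eps : DualNumber B) ∈ q.asIdeal :=
      (q.isPrime.mem_or_mem (by rw [DualNumber.eps_mul_eps]; exact zero_mem _)).elim id id
    have hd : x - algebraMap B (DualNumber B) (TrivSqZeroExt.fst (TrivSqZeroExt.fst (ψ x))) =
        algebraMap B (DualNumber B) x.snd * DualNumber.eps := by
      rw [hval]
      apply TrivSqZeroExt.ext <;> simp [TrivSqZeroExt.algebraMap_eq_inl]
    have hm := Ideal.mul_mem_left q.asIdeal (algebraMap B (DualNumber B) x.snd) he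
    rw [← hd] at hm
    exact ⟨fun h => by simpa using add_mem hm h, fun h => by simpa using sub_mem h hm⟩
  intro u v h
  exact GrothLib.GITQuot.cancel_of_surjective φ hsurj φ.app_injective h

end Groth.Agent.S13104
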