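import Groth.Statements.S13105
import Groth.Agent.Lib.Lie3.Transfer
import Groth.Agent.Lib.LCI6.Field
import Groth.Agent.Lib.RegLoc.Basic
import Groth.Agent.Lib.SkLift5.Basic

set_option autoImplicit false
universe u
open Lie3Mod

namespace Groth.Agent.S13105

set_option linter.style.haveILetI false
set_option maxHeartbeats 1000000

open Lie3Mod MvPolynomial in
theorem key (k : Type u) [Field k] (t : k) :
    (Ideal.span ({X 0, X 1 - 1, X 2, X 3, X 4, X 5 - C t, X 6, X 7, X 8} : Set (D k))).IsMaximal ∧
    idJ k ≤ Ideal.span ({X 0, X 1 - 1, X 2, X 3, X 4, X 5 - C t, X 6, X 7, X 8} : Set (D k)) := by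
  set m : Ideal (D k) := Ideal.span ({X 0, X 1 - 1, X 2, X 3, X 4, X 5 - C t, X 6, X 7, X 8} : Set (D k))
  let a : Fin 9 → k := ![0, 1, 0, 0, 0, t, 0, 0, 0]
  let ev : D k →+* k := (aeval a : D k →ₐ[k] k).toRingHom
  have hm : m = RingHom.ker ev := by
    refine le_antisymm (Ideal.span_le.2 ?_) fun p hp => ?_
    · intro x hx
      simp only [Set.mem_insert_iff, Set.mem_singleton_iff] at hx
      rcases hx with rfl | rfl | rfl | rfl | rfl | rfl | rfl | rfl | rfl <;>
        simp [ev, a, RingHom.mem_ker]
    · have h : ∀ q : D k, q - C (ev q) ∈ m := by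
        intro q
        induction q using MvPolynomial.induction_on with
        | C r => simp [ev]
        | add p q hp hq =>
          rw [map_add, map_add, add_sub_add_comm]
          exact add_mem hp hq
        | mul_X p i hp =>
          have hi : X i - C (ev (X i)) ∈ m := by
            fin_cases i <;> refine Ideal.subset_span ?_ <;> simp [ev, a]
          have := add_mem (m.mul_mem_right (X i) hp) (m.mul_mem_left (C (ev p)) hi)
          convert this using 1
          simp only [map_mul]
          ring
      simpa [RingHom.mem_ker.1 hp] using h p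
  refine ⟨hm ▸ RingHom.ker_isMaximal_of_surjective ev (fun r => ⟨C r, by simp [ev]⟩), ?_⟩
  rw [hm, idJ, Ideal.span_le]
  intro x hx
  simp only [Set.mem_insert_iff, Set.mem_singleton_iff] at hx
  rcases hx with rfl | rfl | rfl | rfl <;>
    simp [ev, a, RingHom.mem_ker, Q1, Q2, Q3, detM]

theorem regular_aux {A : Type u} [CommRing A] [IsNoetherianRing A] {I m : Ideal A} [m.IsPrime]
    (hI : I ≤ m) [(m.map (Ideal.Quotient.mk I)).IsPrime]
    (S T : Finset (Localization.AtPrime m)) (c e : ℕ) (hS : S.card ≤ c) (hT : T.card ≤ e)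
    (hgen : I.map (algebraMap A (Localization.AtPrime m)) = Ideal.span (S : Set (Localization.AtPrime m)))
    (hTm : Ideal.span (T : Set (Localization.AtPrime m)) ≤ IsLocalRing.maximalIdeal (Localization.AtPrime m))
    (hmax : IsLocalRing.maximalIdeal (Localization.AtPrime m) ≤
      I.map (algebraMap A (Localization.AtPrime m)) ⊔ Ideal.span (T : Set (Localization.AtPrime m)))
    (hh : m.height = ((c + e : ℕ) : ℕ∞)) :
    IsRegularLocalRing (Localization.AtPrime (m.map (Ideal.Quotient.mk I))) ∧
      ringKrullDim (Localization.AtPrime (m.map (Ideal.Quotient.mk I))) = (e : WithBot ℕ∞) := by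
  obtain ⟨eqv⟩ := GrothLib.SkLift5.nonempty_locQuot_ringEquiv hI
  haveI : IsNoetherianRing (Localization.AtPrime m) := IsLocalization.isNoetherianRing m.primeCompl _ inferInstance
  let R := Localization.AtPrime m
  set IR : Ideal (Localization.AtPrime m) := I.map (algebraMap A (Localization.AtPrime m)) with hIR
  have hle : IR ≤ IsLocalRing.maximalIdeal R := by
    rw [← Localization.AtPrime.map_eq_maximalIdeal]
    exact Ideal.map_mono hI
  haveI := GrothLib.RegLoc.isLocalRing_quotient hle
  have h1 : (IsLocalRing.maximalIdeal (R ⧸ IR)).spanFinrank ≤ e := by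
    classical
    have : IsLocalRing.maximalIdeal (R ⧸ IR) =
        Ideal.span (((T.image (Ideal.Quotient.mk IR)) : Finset (R ⧸ IR)) : Set (R ⧸ IR)) := by
      refine le_antisymm ?_ ?_
      · rw [← GrothLib.RegLoc.map_maximalIdeal_quotient]
        refine (Ideal.map_mono hmax).trans ?_
        rw [Ideal.map_sup, Ideal.map_quotient_self, bot_sup_eq, Ideal.map_span, Finset.coe_image]
      · rw [Finset.coe_image, ← Ideal.map_span, ← GrothLib.RegLoc.map_maximalIdeal_quotient]
        exact Ideal.map_mono (by
          exact hTm)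
    rw [this]
    refine (Submodule.spanFinrank_span_le_ncard_of_finite (R := R ⧸ IR) (Finset.finite_toSet _)).trans ?_
    rw [Set.ncard_coe_finset]
    exact Finset.card_image_le.trans hT
  have h2 : ((c + e : ℕ) : WithBot ℕ∞) ≤ ringKrullDim (R ⧸ IR) + (c : WithBot ℕ∞) := by
    calc ((c + e : ℕ) : WithBot ℕ∞) = ringKrullDim R := by
          rw [IsLocalization.AtPrime.ringKrullDim_eq_height m R, hh]; rfl
      _ ≤ ringKrullDim (R ⧸ IR) + (IR.spanFinrank : WithBot ℕ∞) :=
          ringKrullDim_le_ringKrullDim_quotient_add_spanFinrank IR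
            (hle.trans (le_of_eq (IsLocalRing.ringJacobson_eq_maximalIdeal _).symm))
      _ ≤ ringKrullDim (R ⧸ IR) + (c : WithBot ℕ∞) := by
          gcongr
          rw [hgen]
          refine (Submodule.spanFinrank_span_le_ncard_of_finite (R := R) (Finset.finite_toSet _)).trans ?_
          rw [Set.ncard_coe_finset]
          exact hS
  obtain ⟨n, hn, hn'⟩ := GrothLib.RegLoc.exists_dim_eq (R := R ⧸ IR)
  rw [hn] at h2
  norm_cast at h2
  have hne : n = e := by omega
  subst hne
  have hreg : IsRegularLocalRing (R ⧸ IR) :=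
    IsRegularLocalRing.of_spanFinrank_maximalIdeal_le _ (by rw [hn]; exact_mod_cast h1)
  exact ⟨IsRegularLocalRing.of_ringEquiv eqv.symm, by rw [ringKrullDim_eq_of_ringEquiv eqv, hn]⟩

open Lie3Mod MvPolynomial in
theorem main (k : Type u) [Field k] (t : k)
    (m : Ideal (D k)) (hm : m = Ideal.span ({X 0, X 1 - 1, X 2, X 3, X 4, X 5 - C t, X 6, X 7, X 8} : Set (D k)))
    [m.IsPrime] [(m.map (Ideal.Quotient.mk (idJ k))).IsPrime] :
    IsRegularLocalRing (Localization.AtPrime (m.map (Ideal.Quotient.mk (idJ k)))) ∧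
      ringKrullDim (Localization.AtPrime (m.map (Ideal.Quotient.mk (idJ k)))) = (6 : ℕ) := by
  classical
  obtain ⟨hmax, hJm⟩ := key k t
  rw [← hm] at hmax hJm
  haveI := hmax
  set R := Localization.AtPrime m
  set φ : D k →+* R := algebraMap (D k) R
  have hu : ∀ x : D k, x ∉ m → IsUnit (φ x) := fun x hx =>
    IsLocalization.map_units R (⟨x, hx⟩ : m.primeCompl)
  have hX : ∀ i : Fin 9, ∀ r : k, (X i - C r : D k) ∈ m → ∀ c : k, c - r ≠ 0 → (C c - X i : D k) ∉ m := by
    intro i r hi c hc hc'
    have := add_mem hi hc'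
    rw [show (X i - C r : D k) + (C c - X i) = C (c - r) by rw [map_sub]; ring] at this
    exact ‹m.IsPrime›.ne_top (m.eq_top_of_isUnit_mem this ((isUnit_iff_ne_zero.2 hc).map C))
  obtain ⟨S, hS, hgen⟩ : ∃ S : Finset R, S.card ≤ 3 ∧
      (idJ k).map φ = Ideal.span (S : Set R) := by
    by_cases ht : t + 1 = 0
    · refine ⟨{φ (Q2 k), φ (Q3 k), φ (detM k)}, Finset.card_le_three, ?_⟩
      simp only [idJ, Ideal.map_span, Set.image_insert_eq, Set.image_singleton, Finset.coe_insert,
        Finset.coe_singleton]
      refine le_antisymm (Ideal.span_le.2 ?_) (Ideal.span_mono (Set.subset_insert _ _))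
      rintro x (rfl | hx)
      · have hunit : IsUnit (φ (ve * vc - vb * vf)) := by
          refine hu _ fun hmem => ?_
          have h4 : (ve : D k) ∈ m := hm ▸ Ideal.subset_span (by simp)
          have h5 : (vb - 1 : D k) ∈ m := hm ▸ Ideal.subset_span (by simp)
          have h6 : (vf - C t : D k) ∈ m := hm ▸ Ideal.subset_span (by simp)
          have : (1 : D k) ∈ m := by
            have h := add_mem hmem (add_mem (m.mul_mem_left vb h6)
              (sub_mem (m.mul_mem_left (C t) h5) (m.mul_mem_right vc h4)))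
            have ht' : (C t : D k) = -1 := by
              rw [← sub_eq_zero, sub_neg_eq_add, ← map_one C, ← map_add, ht, map_zero]
            convert h using 1
            rw [ht']; ring
          exact ‹m.IsPrime›.ne_top ((Ideal.eq_top_iff_one _).2 this)
        have hid : (ve * vc - vb * vf) * Q1 k = L2 k * detM k
            - (vh * vc + vi * vf) * Q2 k + (vh * vb + vi * ve) * Q3 k := by
          simp only [Q1, Q2, Q3, L2, detM]; ring
        refine (Ideal.unit_mul_mem_iff_mem _ hunit).1 ?_
        rw [← map_mul, hid]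
        simp only [map_add, map_sub, map_mul]
        exact add_mem (sub_mem (Ideal.mul_mem_left _ _ (Ideal.subset_span (by simp)))
          (Ideal.mul_mem_left _ _ (Ideal.subset_span (by simp))))
          (Ideal.mul_mem_left _ _ (Ideal.subset_span (by simp)))
      · exact Ideal.subset_span hx
    · refine ⟨{φ (Q1 k), φ (Q2 k), φ (Q3 k)}, Finset.card_le_three, ?_⟩
      simp only [Finset.coe_insert, Finset.coe_singleton]
      refine le_antisymm ?_ ?_
      · rw [idJ, Ideal.map_span, Ideal.span_le, Set.image_subset_iff]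
        rintro x (rfl | rfl | rfl | rfl)
        · exact Ideal.subset_span (by simp)
        · exact Ideal.subset_span (by simp)
        · exact Ideal.subset_span (by simp)
        · have hunit : IsUnit (φ (L2 k)) := by
            refine hu _ fun hmem => ?_
            have h5 : (vb - 1 : D k) ∈ m := hm ▸ Ideal.subset_span (by simp)
            have h6 : (vf - C t : D k) ∈ m := hm ▸ Ideal.subset_span (by simp)
            have h := sub_mem (sub_mem hmem h5) h6
            rw [show L2 k - (vb - 1) - (vf - C t) = C (t + 1) by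
              rw [map_add, map_one, L2]; ring] at h
            exact ‹m.IsPrime›.ne_top (m.eq_top_of_isUnit_mem h ((isUnit_iff_ne_zero.2 ht).map C))
          have hI : L2 k * detM k ∈ idI k := by
            obtain ⟨-, -, -, h4, -, h2, -⟩ := GrothLib.Lie3.θ_gen k
            rw [GrothLib.Lie3.mem_idI, map_mul, ← h2, ← h4, AlgEquiv.symm_apply_apply,
              AlgEquiv.symm_apply_apply]
            exact GrothLib.Lie3.mul_dt_mem_I (GrothLib.Lie3.X1_mem k)
          refine (Ideal.unit_mul_mem_iff_mem _ hunit).1 ?_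
          rw [← map_mul]
          have := Ideal.mem_map_of_mem φ hI
          rwa [idI, Ideal.map_span, Set.image_insert_eq, Set.image_insert_eq, Set.image_singleton] at this
      · rw [Ideal.span_le]
        rintro x (rfl | rfl | rfl) <;> exact Ideal.mem_map_of_mem φ (Ideal.subset_span (by simp))
  let T : Finset R := {φ (X 0), φ (X 1 - 1), φ (X 2), φ (X 4), φ (X 5 - C t), φ (X 7)}
  have hT : T.card ≤ 6 := Finset.card_le_six
  have hTm : Ideal.span (T : Set R) ≤ IsLocalRing.maximalIdeal R := by
    rw [← Localization.AtPrime.map_eq_maximalIdeal, Ideal.span_le]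
    intro x hx
    simp only [T, Finset.coe_insert, Finset.coe_singleton, Set.mem_insert_iff, Set.mem_singleton_iff] at hx
    rcases hx with rfl | rfl | rfl | rfl | rfl | rfl <;>
      exact Ideal.mem_map_of_mem _ (hm ▸ Ideal.subset_span (by simp))
  refine regular_aux hJm S T 3 6 hS hT hgen hTm ?_ ?_
  · rw [← Localization.AtPrime.map_eq_maximalIdeal]
    set N := (idJ k).map φ ⊔ Ideal.span (T : Set R)
    let ψ : D k →+* R ⧸ N := (Ideal.Quotient.mk N).comp φ
    have hk : ∀ x, φ x ∈ (T : Set R) → ψ x = 0 := fun x hx =>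
      Ideal.Quotient.eq_zero_iff_mem.2 (Ideal.mem_sup_right (Ideal.subset_span hx))
    have hj : ∀ x ∈ idJ k, ψ x = 0 := fun x hx =>
      Ideal.Quotient.eq_zero_iff_mem.2 (Ideal.mem_sup_left (Ideal.mem_map_of_mem φ hx))
    have e0 := hk (X 0) (by simp [T])
    have e1 := hk (X 1 - 1) (by simp [T])
    have e2 := hk (X 2) (by simp [T])
    have e4 := hk (X 4) (by simp [T])
    have e5 := hk (X 5 - C t) (by simp [T])
    have e7 := hk (X 7) (by simp [T])
    rw [map_sub, map_one, sub_eq_zero] at e1
    rw [map_sub, sub_eq_zero] at e5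
    have f1 := hj (Q1 k) (Ideal.subset_span (by simp))
    have f2 := hj (Q2 k) (Ideal.subset_span (by simp))
    have f3 := hj (Q3 k) (Ideal.subset_span (by simp))
    have f4 := hj (detM k) (Ideal.subset_span (by simp))
    simp only [Q1, Q2, Q3, detM, va, vb, vc, vd, ve, vf, vg, vh, vi, map_add, map_sub, map_neg,
      map_mul, map_pow, e0, e1, e2, e4, e5, e7] at f1 f2 f3 f4
    have g3 : ψ (X 3) = 0 := by linear_combination f2
    have g8 : ψ (X 8) = 0 := by linear_combination (-1) * f3
    rw [g3, g8] at f1
    rw [g8] at f4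
    have g6 : ψ (X 6) = 0 := by linear_combination (-1) * f1 - f4
    rw [Ideal.map_le_iff_le_comap]
    refine hm.le.trans (Ideal.span_le.2 ?_)
    intro x hx
    show φ x ∈ N
    refine Ideal.Quotient.eq_zero_iff_mem.1 (?_ : ψ x = 0)
    simp only [Set.mem_insert_iff, Set.mem_singleton_iff] at hx
    rcases hx with rfl | rfl | rfl | rfl | rfl | rfl | rfl | rfl | rfl <;>
      simp [e0, e1, e2, e4, e5, e7, g3, g6, g8]
  · exact GrothLib.LCI6.height_eq_of_isMaximal m

open MvPolynomial in
/-- Let k be a field, t ∈ k, D = k[a,b,c,d,e,f,g,h,i] and J = (Q1, Q2, Q3, det M) with Q1 = ah + di − fg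
− bg, Q2 = ie + bd − fh − ae, Q3 = hc + dc − af − bi, det M = −ch² + gbf + ei² − gec + hbi − ihf.
The maximal ideal (a, b − 1, c, d, e, f − t, g, h, i) of D contains J (it is the point given by the
Lie algebra with [x,y] = y, [x,z] = t z, [y,z] = 0), and the localization of D/J at the
corresponding prime is a regular local ring of Krull dimension 6: the scheme Spec(D/J) has a smooth
k-rational point. -/
theorem result (k : Type u) [Field k] (t : k)
    (P : Ideal (Lie3Mod.D k ⧸ Lie3Mod.idJ k)) [P.IsPrime]
    (hP : P = Ideal.map (Ideal.Quotient.mk (Lie3Mod.idJ k))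
      (Ideal.span ({X 0, X 1 - 1, X 2, X 3, X 4, X 5 - C t, X 6, X 7, X 8} : Set (Lie3Mod.D k)))) :
    IsRegularLocalRing (Localization.AtPrime P) ∧ ringKrullDim (Localization.AtPrime P) = 6 := by
    have hm := key k t
    set m : Ideal (Lie3Mod.D k) := Ideal.span ({X 0, X 1 - 1, X 2, X 3, X 4, X 5 - C t, X 6, X 7, X 8} : Set (Lie3Mod.D k))
    haveI := hm.1
    haveI := hm.1.isPrime
    haveI : (m.map (Ideal.Quotient.mk (Lie3Mod.idJ k))).IsPrime := Ideal.isPrime_map_quotientMk_of_isPrime hm.2
    subst hP
    exact_mod_cast main k t m rfl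

end Groth.Agent.S13105
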