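import Groth.Statements.S13107
import Groth.Agent.Lib.Lie13.Basic
import Mathlib.Tactic.LinearCombination
-- import your own Groth.Agent.* helpers here

set_option autoImplicit false
universe u v w
open GrpSch

namespace Groth.Agent.S13107

/-- Let k be a field, K = k((t)) the field of Laurent series over k, F a Lie algebra over K with a basis
x' = bF 0, y' = bF 1, z' = bF 2 and brackets [x',y'] = z', [x',z'] = t y', [y',z'] = 0, and L a Lie
algebra over K with a basis x = bL 0, y = bL 1, z = bL 2 and brackets [x,y] = y, [x,z] = −z, [y,z] =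
0. Then there is no K-linear isomorphism of Lie algebras between L and F: F is a non-trivial form of
L over K. (The published result is the classification of three-dimensional Lie algebras over k((t))
for k algebraically closed of characteristic not 2, with F its only non-split entry; this row states
the non-isomorphism of F and L over k((t)) for every field k.) -/
theorem result (k : Type u) [Field k]
    (F : Type v) [LieRing F] [LieAlgebra (LaurentSeries k) F] (bF : Module.Basis (Fin 3) (LaurentSeries k) F)
    (hF01 : ⁅bF 0, bF 1⁆ = bF 2) (hF02 : ⁅bF 0, bF 2⁆ = (HahnSeries.single 1 (1 : k) : LaurentSeries k) • bF 1)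
    (hF12 : ⁅bF 1, bF 2⁆ = 0)
    (L : Type w) [LieRing L] [LieAlgebra (LaurentSeries k) L] (bL : Module.Basis (Fin 3) (LaurentSeries k) L)
    (hL01 : ⁅bL 0, bL 1⁆ = bL 1) (hL02 : ⁅bL 0, bL 2⁆ = -bL 2) (hL12 : ⁅bL 1, bL 2⁆ = 0) :
    IsEmpty (L ≃ₗ⁅LaurentSeries k⁆ F) := by
  refine ⟨fun φ => ?_⟩
  set t := (HahnSeries.single 1 (1 : k) : LaurentSeries k) with ht
  have hb := GrothLib.Lie13.repr_bracket bF 0 1 t 0 (by rw [hF01]; simp) (by rw [hF02]; simp) hF12
  have kx := hb (φ (bL 0)) (φ (bL 1))
  rw [← LieEquiv.map_lie, hL01] at kx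
  have kz := hb (φ (bL 0)) (φ (bL 2))
  rw [← LieEquiv.map_lie, hL02] at kz
  obtain ⟨e0, e1, e2⟩ := kx
  obtain ⟨z0, -, -⟩ := kz
  have z0' : bF.repr (φ (bL 2)) 0 = 0 := by
    rw [map_neg, map_neg, Finsupp.neg_apply, neg_eq_zero] at z0; exact z0
  have hu := GrothLib.Lie13.isUnit_block bL bF φ.toLinearEquiv e0 z0'
  simp only [LieEquiv.coe_toLinearEquiv] at hu
  generalize bF.repr (φ (bL 0)) 0 = a at *
  generalize bF.repr (φ (bL 1)) 1 = e at *
  generalize bF.repr (φ (bL 1)) 2 = f at *
  rw [e0] at e1 e2
  simp only [mul_zero, zero_mul, add_zero, zero_add, sub_zero, mul_one] at e1 e2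
  have hef : e ≠ 0 ∨ f ≠ 0 := by
    by_contra hc
    simp only [not_or, not_not] at hc
    rw [hc.1, hc.2] at hu
    simpa using hu
  have hat : a * a * t = 1 := by
    rcases hef with he | hf
    · refine mul_right_cancel₀ he ?_
      rw [_root_.one_mul]; linear_combination -e1 - a * t * e2
    · refine mul_right_cancel₀ hf ?_
      rw [_root_.one_mul]; linear_combination -e2 - a * e1
  have ha : a ≠ 0 := by rintro rfl; simp at hat
  have htne : t ≠ 0 := by rw [ht]; exact HahnSeries.single_ne_zero one_ne_zero
  have := congrArg HahnSeries.order hat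
  rw [HahnSeries.order_mul (mul_ne_zero ha ha) htne, HahnSeries.order_mul ha ha, HahnSeries.order_one,
    ht, HahnSeries.order_single one_ne_zero] at this
  omega

end Groth.Agent.S13107
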