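import Groth.Statements.S13108
import Groth.Agent.Lib.Lie13.Basic
import Mathlib.Tactic.LinearCombination
-- import your own Groth.Agent.* helpers here

set_option autoImplicit false
universe u v w
open GrpSch

namespace Groth.Agent.S13108

/-- Let k be a field and t, t' ∈ k both non-zero; let L be a Lie algebra over k with a basis x = b 0, y
= b 1, z = b 2 and brackets [x,y] = y, [x,z] = t z, [y,z] = 0, and L' a Lie algebra over k with a
basis x' = b' 0, y' = b' 1, z' = b' 2 and brackets [x',y'] = y', [x',z'] = t' z', [y',z'] = 0. Then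
L and L' are isomorphic Lie algebras over k if and only if t' = t or t' = t⁻¹. -/
theorem result (k : Type u) [Field k] (t t' : k) (ht : t ≠ 0) (ht' : t' ≠ 0)
    (L : Type v) [LieRing L] [LieAlgebra k L] (b : Module.Basis (Fin 3) k L)
    (h01 : ⁅b 0, b 1⁆ = b 1) (h02 : ⁅b 0, b 2⁆ = t • b 2) (h12 : ⁅b 1, b 2⁆ = 0)
    (L' : Type w) [LieRing L'] [LieAlgebra k L'] (b' : Module.Basis (Fin 3) k L')
    (h01' : ⁅b' 0, b' 1⁆ = b' 1) (h02' : ⁅b' 0, b' 2⁆ = t' • b' 2) (h12' : ⁅b' 1, b' 2⁆ = 0) :
    Nonempty (L ≃ₗ⁅k⁆ L') ↔ (t' = t ∨ t' = t⁻¹) := by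
  have hb := GrothLib.Lie13.repr_bracket b' 1 0 0 t' (by rw [h01']; simp) (by rw [h02']; simp) h12'
  constructor
  · rintro ⟨φ⟩
    have kx := hb (φ (b 0)) (φ (b 1))
    rw [← LieEquiv.map_lie, h01] at kx
    have kz := hb (φ (b 0)) (φ (b 2))
    rw [← LieEquiv.map_lie, h02] at kz
    obtain ⟨e0, e1, e2⟩ := kx
    obtain ⟨z0, z1, z2⟩ := kz
    simp only [map_smul, Finsupp.smul_apply, smul_eq_mul, mul_eq_zero, ht, false_or] at z0 z1 z2
    have hu := GrothLib.Lie13.isUnit_block b b' φ.toLinearEquiv e0 z0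
    simp only [LieEquiv.coe_toLinearEquiv] at hu
    rw [e0] at e1 e2
    rw [z0] at z1 z2
    simp only [mul_zero, zero_mul, add_zero, zero_add, sub_zero, mul_one] at e1 e2 z1 z2
    generalize b'.repr (φ (b 0)) 0 = a at *
    generalize b'.repr (φ (b 1)) 1 = e at *
    generalize b'.repr (φ (b 1)) 2 = f at *
    generalize b'.repr (φ (b 2)) 1 = h at *
    generalize b'.repr (φ (b 2)) 2 = i at *
    by_cases hei : e * i = 0
    · have hfh : f ≠ 0 ∧ h ≠ 0 := by
        constructor <;> · rintro rfl; simp [hei] at hu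
      right
      have h1 : a * t' = 1 := mul_right_cancel₀ hfh.1 (by rw [_root_.one_mul]; linear_combination -e2)
      have h2 : a = t := mul_right_cancel₀ hfh.2 (by linear_combination -z1)
      rw [h2] at h1
      exact eq_inv_of_mul_eq_one_right h1
    · obtain ⟨he, hi⟩ := mul_ne_zero_iff.mp hei
      left
      have h1 : a = 1 := mul_right_cancel₀ he (by rw [_root_.one_mul]; linear_combination -e1)
      exact mul_right_cancel₀ hi (by rw [h1] at z2; linear_combination -z2)
  · intro h
    have mk : ∀ {c : Module.Basis (Fin 3) k L'}, ⁅c 0, c 1⁆ = c 1 → ⁅c 0, c 2⁆ = t • c 2 →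
        ⁅c 1, c 2⁆ = 0 → Nonempty (L ≃ₗ⁅k⁆ L') := by
      intro c c01 c02 c12
      let e := b.equiv c (Equiv.refl _)
      have he : ∀ i, e (b i) = c i := fun i => b.equiv_apply i c (Equiv.refl _)
      have hlie : ∀ u v, e ⁅u, v⁆ = ⁅e u, e v⁆ := by
        intro u v
        have hr : ∀ w, c.repr (e w) = b.repr w := fun w => by
          rw [show e w = c.repr.symm (b.repr w) by simp [e, Module.Basis.equiv]]
          exact c.repr.apply_symm_apply _
        apply c.repr.injective
        rw [hr]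
        obtain ⟨l0, l1, l2⟩ := GrothLib.Lie13.repr_bracket b 1 0 0 t (by rw [h01]; simp) (by rw [h02]; simp) h12 u v
        obtain ⟨r0, r1, r2⟩ := GrothLib.Lie13.repr_bracket c 1 0 0 t (by rw [c01]; simp) (by rw [c02]; simp) c12 (e u) (e v)
        simp only [hr] at r0 r1 r2
        ext j
        fin_cases j
        · exact l0.trans r0.symm
        · exact l1.trans r1.symm
        · exact l2.trans r2.symm
      exact ⟨{ e with map_lie' := fun {u v} => hlie u v }⟩
    rcases h with h | h
    · exact mk (c := b') h01' (h ▸ h02') h12'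
    · let σ : Equiv.Perm (Fin 3) := Equiv.swap 1 2
      let w : Fin 3 → kˣ := ![Units.mk0 t ht, 1, 1]
      have hc : ∀ j, ((b'.unitsSMul w).reindex σ) j = w (σ j) • b' (σ j) := fun j => by
        simp [σ, Module.Basis.unitsSMul_apply]
      have c0 : ((b'.unitsSMul w).reindex σ) 0 = t • b' 0 := by
        simp [σ, w, Module.Basis.unitsSMul_apply, Equiv.swap_apply_of_ne_of_ne, Units.smul_def]
      have c1 : ((b'.unitsSMul w).reindex σ) 1 = b' 2 := by
        simp [σ, w, Module.Basis.unitsSMul_apply]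
      have c2 : ((b'.unitsSMul w).reindex σ) 2 = b' 1 := by
        simp [σ, w, Module.Basis.unitsSMul_apply]
      refine mk (c := (b'.unitsSMul w).reindex σ) ?_ ?_ ?_
      · rw [c0, c1, smul_lie, h02', smul_smul, h, mul_inv_cancel₀ ht, one_smul]
      · rw [c0, c2, smul_lie, h01']
      · rw [c1, c2, ← lie_skew, h12', neg_zero]

end Groth.Agent.S13108
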