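import Groth.Statements.S13112
import Groth.Agent.Lib.SN25.Scheme
-- import your own Groth.Agent.* helpers here

set_option autoImplicit false
universe u
open HTop

namespace Groth.Agent.S13112

open CategoryTheory AlgebraicGeometry in
/-- Let k be a field, T a seminormal scheme of finite type over k, and f : X → Y a proper universally
injective k-morphism of schemes locally of finite type over k. If a morphism of schemes g : T → Y
lifts through f at every point of T, i.e. for every t the composite Spec κ(t) → T → Y factors
through f, then g itself factors through f. -/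
theorem result
    {k : Type u} [Field k] {T X Y : Scheme.{u}}
    (sT : T ⟶ Spec (CommRingCat.of k)) (sX : X ⟶ Spec (CommRingCat.of k)) (sY : Y ⟶ Spec (CommRingCat.of k))
    [LocallyOfFiniteType sT] [QuasiCompact sT] [LocallyOfFiniteType sX] [LocallyOfFiniteType sY]
    (hT : HTop.IsSeminormal T)
    (f : X ⟶ Y) (hf : f ≫ sY = sX) [IsProper f] [UniversallyInjective f]
    (g : T ⟶ Y)
    (hlift : ∀ t : T, ∃ l : Spec (T.residueField t) ⟶ X, l ≫ f = T.fromSpecResidueField t ≫ g) :
    ∃ h : T ⟶ X, h ≫ f = g := by
  open CategoryTheory.Limits in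
  let π := pullback.fst g f
  have h1 : UniversallyClosed π := inferInstance
  have h2 : UniversallyInjective π := MorphismProperty.pullback_fst (P := @UniversallyInjective) g f ‹_›
  have key : ∀ t : T, ∃ p : (pullback g f : Scheme.{u}), π p = t ∧ Function.Surjective (π.residueFieldMap p) := by
    intro t
    obtain ⟨l, hl⟩ := hlift t
    let s := pullback.lift (f := g) (g := f) (T.fromSpecResidueField t) l hl.symm
    have hs : s ≫ π = T.fromSpecResidueField t := pullback.lift_fst _ _ _
    let pt : Spec (T.residueField t) := default
    refine ⟨s pt, ?_, ?_⟩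
    · rw [← Scheme.Hom.comp_apply, hs, Scheme.fromSpecResidueField_apply]
    · have h3 : Function.Bijective ((s ≫ π).residueFieldMap pt) := by
        rw [hs]
        refine ⟨RingHom.injective _, fun b => ?_⟩
        obtain ⟨c, rfl⟩ := Scheme.residue_surjective _ _ b
        obtain ⟨a, rfl⟩ := (T.fromSpecResidueField t).stalkMap_surjective pt c
        exact ⟨T.residue _ a, ConcreteCategory.congr_hom (Scheme.residue_residueFieldMap (T.fromSpecResidueField t) pt) a⟩
      rw [Scheme.residueFieldMap_comp] at h3
      intro b
      obtain ⟨a, ha⟩ := h3.2 (s.residueFieldMap pt b)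
      exact ⟨a, RingHom.injective (s.residueFieldMap pt).hom ha⟩
  have h3 : Surjective π := ⟨fun t => ⟨_, (key t).choose_spec.1⟩⟩
  have hr : HTop.ResidueFieldsIso π := fun p => by
    obtain ⟨q, hq, hsurj⟩ := key (π p)
    obtain rfl := π.injective hq
    rw [ConcreteCategory.isIso_iff_bijective]
    exact ⟨RingHom.injective _, hsurj⟩
  obtain ⟨b, hb, -⟩ := GrothLib.SN25.existsUnique_lift hT π ((GrothLib.Frob.isUnivHomeo_iff π).2 ⟨h1, h2, h3⟩) hr (𝟙 T)
  exact ⟨b ≫ pullback.snd g f, by rw [Category.assoc, ← pullback.condition]; exact
    (Category.assoc _ _ _).symm.trans ((congrArg (· ≫ g) hb).trans (Category.id_comp g))⟩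

end Groth.Agent.S13112
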