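import Groth.Statements.S13114
-- import your own Groth.Agent.* helpers here
import Mathlib.LinearAlgebra.Charpoly.ToMatrix
import Mathlib.FieldTheory.IsAlgClosed.Basic
import Mathlib.RingTheory.Artinian.Module
import Mathlib.RingTheory.Jacobson.Ideal
import Mathlib.RingTheory.Artinian.Ring
import Mathlib.LinearAlgebra.Eigenspace.Zero
import Mathlib.LinearAlgebra.Matrix.Charpoly.Basic

set_option autoImplicit false
universe u
open HilbChow

namespace Groth.Agent.S13114

/-- Let k be an algebraically closed field, A a commutative local k-algebra of finite dimension n over k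
and u a unit of A. Then the determinant of multiplication by u on the k-vector space A, mapped to
the residue field of A, equals the n-th power of the residue class of u. -/
theorem result
    (k A : Type u) [Field k] [IsAlgClosed k] [CommRing A] [Algebra k A] [IsLocalRing A]
    [Module.Finite k A] (u : Aˣ) :
    algebraMap k (IsLocalRing.ResidueField A) (Algebra.norm k (u : A)) =
      IsLocalRing.residue A (u : A) ^ Module.finrank k A := by
  classical
  have : IsArtinianRing A := isArtinian_of_tower k inferInstance
  have : Module.Finite k (IsLocalRing.ResidueField A) :=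
    Module.Finite.of_surjective (IsScalarTower.toAlgHom k A (IsLocalRing.ResidueField A)).toLinearMap IsLocalRing.residue_surjective
  have : Algebra.IsIntegral k (IsLocalRing.ResidueField A) := Algebra.IsIntegral.of_finite k _
  obtain ⟨c, hc⟩ := (IsAlgClosed.algebraMap_bijective_of_isIntegral (k := k) (K := IsLocalRing.ResidueField A)).2
    (IsLocalRing.residue A (u : A))
  have hnil : IsNilpotent ((u : A) - algebraMap k A c) := by
    refine (IsArtinianRing.isNilpotent_nilradical (R := A)).elim fun n hn => ⟨n, ?_⟩
    have hm : (u : A) - algebraMap k A c ∈ nilradical A := by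
      rw [nilradical_eq_sInf]
      refine Submodule.mem_sInf.mpr fun (P : Ideal A) (hP : P.IsPrime) => ?_
      have := IsArtinianRing.isMaximal_of_isPrime P
      rw [IsLocalRing.eq_maximalIdeal this, ← IsLocalRing.residue_eq_zero_iff, map_sub, ← hc, sub_eq_zero]
      exact IsScalarTower.algebraMap_apply k A (IsLocalRing.ResidueField A) c
    simpa [hn] using Ideal.pow_mem_pow hm n
  let b := Module.finBasis k A
  set z : A := algebraMap k A c - (u : A) with hz
  have hz' : IsNilpotent (Algebra.lmul k A z) := (show IsNilpotent z by rw [hz, ← neg_sub]; exact hnil.neg).map _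
  have hchar := IsNilpotent.charpoly_eq_X_pow_finrank hz'
  rw [← LinearMap.charpoly_toMatrix _ b] at hchar
  have hev := Matrix.eval_charpoly (LinearMap.toMatrix b b (Algebra.lmul k A z)) c
  rw [hchar, Polynomial.eval_pow, Polynomial.eval_X] at hev
  have hu : Algebra.leftMulMatrix b (u : A) = Matrix.scalar _ c - LinearMap.toMatrix b b (Algebra.lmul k A z) := by
    have : (u : A) = algebraMap k A c - z := by rw [hz, sub_sub_cancel]
    rw [this, map_sub, AlgHom.commutes]
    rfl
  rw [Algebra.norm_eq_matrix_det b, hu, ← hev, map_pow, hc]

end Groth.Agent.S13114
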