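import Groth.Statements.S13115
-- import your own Groth.Agent.* helpers here
import Groth.Agent.Lib.PolLaw.Free
import Mathlib.Algebra.MvPolynomial.Funext
import Mathlib.LinearAlgebra.Dual.Lemmas

set_option autoImplicit false
universe u
open scoped TensorProduct
open HilbChow

namespace Groth.Agent.S13115

/-- Let k be an infinite field, V a k-vector space and m a natural number. Then every symmetric tensor
in the m-fold tensor power of V — one fixed by every permutation of the factors — is a k-linear
combination of pure powers v ⊗ ⋯ ⊗ v with v in V. (The published statement concerns the ring of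
functions of an affine scheme over an infinite field, where it gives the uniqueness of the algebra
map defining the Hilbert-to-Chow morphism for zero-cycles; this row states it for any vector space.) -/
theorem result
    (k V : Type u) [Field k] [Infinite k] [AddCommGroup V] [Module k V] (m : ℕ)
    (x : ⨂[k] _ : Fin m, V)
    (hx : ∀ σ : Equiv.Perm (Fin m), PiTensorProduct.reindex k (fun _ : Fin m => V) σ x = x) :
    x ∈ Submodule.span k (Set.range fun v : V => PiTensorProduct.tprod k (fun _ : Fin m => v)) := by
  classical
  have hxo : x ∈ GrothLib.PolLaw.orbitSpan k V m := by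
    rw [← GrothLib.PolLaw.symTensor_eq_orbitSpan (Module.Basis.ofVectorSpace k V)]
    exact GrothLib.PolLaw.mem_symTensor.mpr hx
  refine (Submodule.span_le.mpr ?_) hxo
  rintro _ ⟨n, v, μ, rfl⟩
  by_contra hne
  obtain ⟨ψ, hψ, hψp⟩ := Submodule.exists_dual_map_eq_bot_of_notMem hne inferInstance
  apply hψ
  let P : MvPolynomial (Fin n) k := ∑ p : Fin m → Fin n,
    MvPolynomial.monomial (GrothLib.PolLaw.pat p) (ψ (PiTensorProduct.tprod k fun l => v (p l)))
  have hP : P = 0 := MvPolynomial.funext fun c => by
    have h0 : ψ (PiTensorProduct.tprod k fun _ : Fin m => ∑ i, c i • v i) = 0 := by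
      have : ψ (PiTensorProduct.tprod k fun _ : Fin m => ∑ i, c i • v i) ∈
          Submodule.map ψ (Submodule.span k (Set.range fun w : V => PiTensorProduct.tprod k fun _ : Fin m => w)) :=
        Submodule.mem_map_of_mem (Submodule.subset_span ⟨_, rfl⟩)
      rwa [hψp, Submodule.mem_bot] at this
    rw [map_zero, ← h0, MultilinearMap.map_sum, map_sum, map_sum]
    refine Finset.sum_congr rfl fun p _ => ?_
    rw [MultilinearMap.map_smul_univ, map_smul, MvPolynomial.eval_monomial, smul_eq_mul, mul_comm]
    congr 1
    rw [Finsupp.prod_fintype _ _ (fun _ => pow_zero _), GrothLib.PolLaw.prod_pow_pat]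
  have hc := congrArg (MvPolynomial.coeff μ) hP
  rw [MvPolynomial.coeff_sum, MvPolynomial.coeff_zero] at hc
  simp only [MvPolynomial.coeff_monomial] at hc
  rw [← Finset.sum_filter] at hc
  rw [GrothLib.PolLaw.orbit, map_sum]
  convert hc using 3
  rfl

end Groth.Agent.S13115
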