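import Groth.Statements.S13116
-- import your own Groth.Agent.* helpers here
import Groth.Agent.Lib.SemiTriv10.Main
import Groth.Agent.Lib.Ample.CocPullback

set_option autoImplicit false
universe u
open HilbChow

open GrothLib
namespace Groth.Agent.S13116

open CategoryTheory CategoryTheory.Limits AlgebraicGeometry in
/-- Let k be a field, X an integral scheme smooth over k that is a closed subscheme of a projective
space over k, R a discrete valuation ring containing k, Z a subscheme of X ×_k Spec R which is
finite over Spec R, and L an invertible module on X. Then the pullback of L to Z along Z → X ×_k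
Spec R → X is isomorphic to the structure sheaf of Z (an isomorphism exists; none is singled out). -/
theorem result
    {k : Type u} [Field k] {X : Scheme.{u}} (sX : X ⟶ Spec (CommRingCat.of k))
    [IsIntegral X] [Smooth sX] (hproj : RelProj.IsHProjective sX)
    (R : Type u) [CommRing R] [IsDomain R] [IsDiscreteValuationRing R] [Algebra k R]
    {Z : Scheme.{u}}
    (i : Z ⟶ pullback sX (Spec.map (CommRingCat.ofHom (algebraMap k R)))) [IsImmersion i]
    [IsFinite (i ≫ pullback.snd sX (Spec.map (CommRingCat.ofHom (algebraMap k R))))]
    (L : X.Modules) (hL : PicF.IsInvertible L) :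
    Nonempty ((Scheme.Modules.pullback
        (i ≫ pullback.fst sX (Spec.map (CommRingCat.ofHom (algebraMap k R))))).obj L ≅
      Coh.structureModule Z) := by
  classical
  let π := i ≫ pullback.snd sX (Spec.map (CommRingCat.ofHom (algebraMap k R)))
  haveI : IsAffine Z := isAffine_of_isAffineHom π
  haveI : Finite (PrimeSpectrum R) :=
    Finite.of_injective (fun q : PrimeSpectrum R => decide (q.asIdeal = ⊥)) fun a b h => by
      refine PrimeSpectrum.ext ?_
      by_cases ha : a.asIdeal = ⊥
      · exact ha.trans (of_decide_eq_true (h.symm.trans (decide_eq_true ha))).symm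
      · replace h : ¬ b.asIdeal = ⊥ := of_decide_eq_false (h.symm.trans (decide_eq_false ha))
        rw [IsLocalRing.eq_maximalIdeal (Ideal.IsPrime.isMaximal a.isPrime ha), IsLocalRing.eq_maximalIdeal (Ideal.IsPrime.isMaximal b.isPrime h)]
  haveI : Finite (Spec (CommRingCat.of R)) := inferInstanceAs (Finite (PrimeSpectrum R))
  haveI : Finite Z := by
    rw [← Set.finite_univ_iff, ← Set.preimage_univ (f := π)]
    exact Set.Finite.preimage' (Set.toFinite _) fun y _ => π.finite_preimage_singleton y
  have hL' := Ample.isInvertible_pullback (i ≫ pullback.fst sX (Spec.map (CommRingCat.ofHom (algebraMap k R)))) hL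
  obtain ⟨t, ht⟩ := AmpSpread10.exists_section_genAt_finite hL' (isAffineOpen_top Z) (Set.toFinite Set.univ) le_rfl
  have hall : VA.genOpen _ t = ⊤ := eq_top_iff.2 fun z _ => VA.mem_genOpen.2 (ht z trivial)
  refine GrothLib.SemiTriv10.nonempty_iso_of_isGen_top t ?_
  have := VA.isGen_of_le_genOpen (t := t) (W := ⊤) hall.ge
  rwa [InvExt.mres_self] at this

end Groth.Agent.S13116
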