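import Groth.Statements.S13117
-- import your own Groth.Agent.* helpers here
import Groth.Agent.Lib.Tame.DetDevissage
import Groth.Agent.Lib.CycPush.Algebra
import Mathlib.FieldTheory.IsAlgClosed.Basic
import Mathlib.RingTheory.Artinian.Ring


set_option autoImplicit false
universe u
open HilbChow


namespace Groth.Agent.S13117

/-- Let k be an algebraically closed field, A a finite-dimensional commutative k-algebra (the coordinate
ring of a zero-dimensional subscheme Z of length dim_k A) and f ∈ A. Then the determinant of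
multiplication by f on A is the product over the points x of Z — the k-algebra homomorphisms A → k —
of the value f(x) raised to the length of the local ring of Z at x, that length being the
k-dimension of the localisation of A at the corresponding maximal ideal. This is the formula by
which the Hilbert-to-Chow morphism for zero-cycles sends Z to its fundamental cycle Σ ℓ(O_{Z,x})[x]. -/
theorem result
    (k A : Type u) [Field k] [IsAlgClosed k] [CommRing A] [Algebra k A] [Module.Finite k A] (f : A) :
    Algebra.norm k f =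
      ∏ᶠ φ : A →ₐ[k] k, φ f ^ Module.finrank k (Localization.AtPrime (Ideal.comap φ ⊥)) := by
  classical
  haveI : IsArtinianRing A := IsArtinianRing.of_finite k A
  haveI hfinP : Finite (PrimeSpectrum A) := inferInstance
  haveI := Fintype.ofFinite (PrimeSpectrum A)
  have hker : ∀ φ : A →ₐ[k] k, (Ideal.comap φ (⊥ : Ideal k)).IsPrime := fun φ => inferInstance
  let κ : (A →ₐ[k] k) → PrimeSpectrum A := fun φ => ⟨Ideal.comap φ ⊥, hker φ⟩
  have hval : ∀ (φ : A →ₐ[k] k) (a : A), a - algebraMap k A (φ a) ∈ Ideal.comap φ (⊥ : Ideal k) := fun φ a => by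
    refine Ideal.mem_comap.2 ((Submodule.mem_bot k).2 ?_)
    rw [map_sub, AlgHom.commutes, Algebra.algebraMap_self, RingHom.id_apply, sub_self]
  have hκ : Function.Bijective κ := by
    refine ⟨fun φ ψ h => AlgHom.ext fun a => ?_, fun q => ?_⟩
    · have h' : Ideal.comap φ (⊥ : Ideal k) = Ideal.comap ψ ⊥ := congrArg PrimeSpectrum.asIdeal h
      have := h' ▸ hval φ a
      rw [Ideal.mem_comap] at this
      replace this := (Submodule.mem_bot k).1 this
      rw [map_sub, AlgHom.commutes, sub_eq_zero] at this
      rw [Algebra.algebraMap_self, RingHom.id_apply] at this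
      exact this.symm
    · haveI : q.asIdeal.IsMaximal := IsArtinianRing.isMaximal_of_isPrime q.asIdeal
      letI : Field (A ⧸ q.asIdeal) := Ideal.Quotient.field _
      let e : k ≃ₐ[k] A ⧸ q.asIdeal := AlgEquiv.ofBijective (Algebra.ofId k _)
        (IsAlgClosed.algebraMap_bijective_of_isIntegral (K := A ⧸ q.asIdeal))
      refine ⟨(e.symm : A ⧸ q.asIdeal →ₐ[k] k).comp (Ideal.Quotient.mkₐ k q.asIdeal), PrimeSpectrum.ext (Ideal.ext fun a => ?_)⟩
      refine (Submodule.mem_bot k).trans ?_
      show e.symm (Ideal.Quotient.mk q.asIdeal a) = 0 ↔ a ∈ q.asIdeal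
      rw [map_eq_zero_iff _ e.symm.injective, Ideal.Quotient.eq_zero_iff_mem]
  haveI : Fintype (A →ₐ[k] k) := Fintype.ofBijective (Equiv.ofBijective κ hκ).symm (Equiv.bijective _)
  have hdet := GrothLib.Tame.det_kmul_eq_prod k f A Finset.univ
    (fun q _ => IsArtinianRing.isMaximal_of_isPrime q.asIdeal) (fun q _ => Finset.mem_univ q)
  rw [Algebra.norm_apply, show Algebra.lmul k A f = GrothLib.Tame.kmul k f A from LinearMap.ext fun x => rfl, hdet,
    finprod_eq_prod_of_fintype, ← (Equiv.ofBijective κ hκ).prod_comp]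
  refine Finset.prod_congr rfl fun φ _ => ?_
  haveI hmax : (Ideal.comap φ (⊥ : Ideal k)).IsMaximal := IsArtinianRing.isMaximal_of_isPrime _
  have hone : Module.finrank k (A ⧸ Ideal.comap φ (⊥ : Ideal k)) = 1 :=
    finrank_eq_one 1 (fun h => hmax.ne_top ((Ideal.eq_top_iff_one _).2 (Ideal.Quotient.eq_zero_iff_mem.1 h))) fun x => by
      obtain ⟨a, rfl⟩ := Ideal.Quotient.mk_surjective x
      refine ⟨φ a, ?_⟩
      rw [Algebra.smul_def, mul_one, IsScalarTower.algebraMap_apply k A (A ⧸ Ideal.comap φ (⊥ : Ideal k))]
      exact (Ideal.Quotient.eq.2 (hval φ a)).symm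
  show Algebra.norm k (Ideal.Quotient.mk (Ideal.comap φ (⊥ : Ideal k)) f) ^ _ = _
  rw [show Ideal.Quotient.mk (Ideal.comap φ (⊥ : Ideal k)) f = algebraMap k _ (φ f) from Ideal.Quotient.eq.2 (hval φ f),
    Algebra.norm_algebraMap, hone, pow_one]
  congr 1
  -- the local length is the dimension
  let q : Ideal A := Ideal.comap φ ⊥
  let S := Localization.AtPrime q
  show (GrothLib.LengthDet.locLen ⟨q, hker φ⟩ A).toNat = Module.finrank k S
  haveI : IsArtinianRing S := inferInstance
  haveI : Module.Finite k S := by
    refine Module.Finite.of_surjective (Algebra.ofId A S |>.restrictScalars k).toLinearMap ?_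
    exact IsArtinianRing.localization_surjective q.primeCompl S
  let T : Finset (PrimeSpectrum S) := {IsLocalRing.closedPoint S}
  have hm : ∀ r ∈ T, r.asIdeal.IsMaximal := fun r hr => IsArtinianRing.isMaximal_of_isPrime r.asIdeal
  have hs : ∀ r ∈ Module.support S S, r ∈ T := fun r _ => Finset.mem_singleton.2 (PrimeSpectrum.ext
    (IsLocalRing.eq_maximalIdeal (IsArtinianRing.isMaximal_of_isPrime r.asIdeal)))
  have h1 := GrothLib.CycPush.length_eq_sum_mul (A := k) S T hm hs
  have h2 := GrothLib.LengthDet.length_eq_sum (A := S) (M := S) T hm hs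
  rw [Finset.sum_singleton] at h1 h2
  have hres : Module.length k (S ⧸ (IsLocalRing.closedPoint S).asIdeal) = 1 := by
    haveI : (IsLocalRing.closedPoint S).asIdeal.IsMaximal := IsArtinianRing.isMaximal_of_isPrime _
    rw [Module.length_eq_finrank]
    refine Nat.cast_eq_one.2 (finrank_eq_one 1 (fun h => (inferInstance : (IsLocalRing.closedPoint S).asIdeal.IsMaximal).ne_top
      ((Ideal.eq_top_iff_one _).2 (Ideal.Quotient.eq_zero_iff_mem.1 h))) fun x => ?_)
    obtain ⟨x, rfl⟩ := Ideal.Quotient.mk_surjective x
    obtain ⟨a, rfl⟩ := IsArtinianRing.localization_surjective q.primeCompl S x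
    refine ⟨φ a, ?_⟩
    rw [Algebra.smul_def, mul_one, IsScalarTower.algebraMap_apply k A (S ⧸ _), IsScalarTower.algebraMap_apply A S (S ⧸ _)]
    refine (Ideal.Quotient.eq.2 ?_).symm
    rw [← map_sub]
    exact (IsLocalization.AtPrime.to_map_mem_maximal_iff S q _).2 (hval φ a)
  rw [hres, mul_one] at h1
  have h3 : GrothLib.LengthDet.locLen (⟨q, hker φ⟩ : PrimeSpectrum A) A = Module.length S S :=
    ((IsLocalizedModule.iso q.primeCompl (Algebra.linearMap A S)).extendScalarsOfIsLocalization q.primeCompl S).length_eq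
  rw [h3, h2, ← h1, Module.length_eq_finrank, ENat.toNat_natCast]

end Groth.Agent.S13117
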