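import Groth.Statements.S13118
import Groth.Agent.Lib.NormLine16.Semi

set_option autoImplicit false
universe u
open scoped TensorProduct
open HilbChow

namespace Groth.Agent.S13118

open GrothLib.NormLine16 in
theorem line_quasi {A B : Type u} [CommRing A] [CommRing B] [Algebra A B] {n : ℕ} {G : B →ₗ[A] (Fin n → A)}
    {z : Fin n → B} {cB : A} (hq : IsQuasi G z cB) {L : Type*} [AddCommGroup L] [Module B L] [Module A L]
    [IsScalarTower A B L] {φ : L →ₗ[B] B} {x₀ : L} {c : A} (hp : IsPre φ x₀ (algebraMap A B c)) :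
    IsQuasi (G.comp (φ.restrictScalars A)) (fun j => z j • x₀) (cB * c) := by
  refine ⟨fun r s => ?_, fun w => ?_⟩
  · rw [LinearMap.comp_apply, LinearMap.restrictScalars_apply, map_smul, hp.1, smul_eq_mul,
      mul_comm, ← Algebra.smul_def, map_smul, Pi.smul_apply, hq.1, smul_eq_mul]
    split_ifs <;> ring
  · calc ∑ j, (G.comp (φ.restrictScalars A)) w j • z j • x₀ = (∑ j, G (φ w) j • z j) • x₀ := by
          rw [Finset.sum_smul]; exact Finset.sum_congr rfl fun j _ => (smul_assoc _ _ _).symm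
      _ = (cB * c) • w := by
          rw [hq.2, smul_assoc, ← hp.2 w, algebraMap_smul, smul_smul]

open GrothLib.NormLine16 in
theorem exists_line {A B : Type u} [CommRing A] [CommRing B] [Algebra A B] [Module.Finite A B] (M : Type u)
    [AddCommGroup M] [Module B M] [Module A M] [IsScalarTower A B M] [Module.Finite B M] [Module.Projective B M]
    (hM : ∀ q : PrimeSpectrum B, Module.rankAtStalk M q = 1) (m : Ideal A) [m.IsMaximal] :
    ∃ (x : M) (φ : M →ₗ[B] B) (c : A), c ∉ m ∧ IsPre φ x (algebraMap A B c) := by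
  obtain ⟨x, g, c, hc, hq⟩ := exists_quasi M 1 hM m
  refine ⟨x 0, (LinearMap.proj 0).comp g, c, hc, ?_, fun w => ?_⟩
  · simpa using hq.1 0 0
  · have := hq.2 w
    simp only [Fin.sum_univ_one] at this
    simpa using this.symm



/-- Let A → B be a ring homomorphism making B a finite locally free A-module of constant rank n, and let
M₁, M₂ be locally free B-modules of rank 1. Then, as A-modules, ∧ⁿ_A B ⊗_A ∧ⁿ_A(M₁ ⊗_B M₂) ≅ ∧ⁿ_A M₁
⊗_A ∧ⁿ_A M₂. (The published statement gives a specific, canonical isomorphism and covers any finite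
family M₁, …, M_r, with the (r−1)-st tensor power of ∧ⁿ_A B; this row asserts only that an
isomorphism exists, for two modules, the case from which the general one follows by induction.)
Locally free of rank r is expressed as finitely generated projective with all localisations at
primes of rank r. -/
theorem result
    (A B : Type u) [CommRing A] [CommRing B] [Algebra A B] [Module.Finite A B] [Module.Projective A B]
    (n : ℕ) (hn : ∀ q : PrimeSpectrum A, Module.finrank (Localization.AtPrime q.asIdeal) (LocalizedModule q.asIdeal.primeCompl B) = n)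
    (M₁ M₂ : Type u) [AddCommGroup M₁] [Module B M₁] [Module A M₁] [IsScalarTower A B M₁]
    [AddCommGroup M₂] [Module B M₂] [Module A M₂] [IsScalarTower A B M₂]
    [Module.Finite B M₁] [Module.Projective B M₁] [Module.Finite B M₂] [Module.Projective B M₂]
    (h₁ : ∀ q : PrimeSpectrum B, Module.finrank (Localization.AtPrime q.asIdeal) (LocalizedModule q.asIdeal.primeCompl M₁) = 1)
    (h₂ : ∀ q : PrimeSpectrum B, Module.finrank (Localization.AtPrime q.asIdeal) (LocalizedModule q.asIdeal.primeCompl M₂) = 1) :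
    Nonempty ((⋀[A]^n B) ⊗[A] (⋀[A]^n (M₁ ⊗[B] M₂)) ≃ₗ[A] (⋀[A]^n M₁) ⊗[A] (⋀[A]^n M₂)) := by
  open GrothLib.NormLine16 in
  refine ⟨(nonempty_linearEquiv_of_matched
    (fun y : M₁ × M₂ × (Fin n → B) × (Fin n → B) =>
      exteriorPower.ιMulti A n y.2.2.1 ⊗ₜ[A] exteriorPower.ιMulti A n (fun j => y.2.2.2 j • (y.1 ⊗ₜ[B] y.2.1)))
    (fun y : M₁ × M₂ × (Fin n → B) × (Fin n → B) =>
      exteriorPower.ιMulti A n (fun j => y.2.2.1 j • y.1) ⊗ₜ[A] exteriorPower.ιMulti A n (fun j => y.2.2.2 j • y.2.1))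
    fun m hm => ?_).some⟩
  haveI := hm
  obtain ⟨z, G, cB, hcB, hq⟩ := exists_quasi (A := A) (B := A) B n hn m
  rw [Algebra.algebraMap_self, RingHom.id_apply] at hq
  obtain ⟨x₁, φ₁, c₁, hc₁, hp₁⟩ := exists_line M₁ h₁ m
  obtain ⟨x₂, φ₂, c₂, hc₂, hp₂⟩ := exists_line M₂ h₂ m
  have hp₁₂ : IsPre (preTensor φ₁ φ₂) (x₁ ⊗ₜ[B] x₂) (algebraMap A B (c₁ * c₂)) := by
    rw [map_mul]; exact hp₁.tensor hp₂
  have hmul : ∀ {a b : A}, a ∉ m → b ∉ m → a * b ∉ m := fun ha hb h => (hm.isPrime.mem_or_mem h).elim ha hb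
  have hpow : ∀ {a : A} (i : ℕ), a ∉ m → a ^ i ∉ m := fun i ha h => ha (hm.isPrime.mem_of_pow_mem i h)
  refine ⟨(x₁, x₂, z, z), _, _, _, _, hmul (hpow n hcB) (hpow n (hmul hcB (hmul hc₁ hc₂))),
    hmul (hpow n (hmul hcB hc₁)) (hpow n (hmul hcB hc₂)),
    ((hq.isPre (Equiv.refl _)).tensor ((line_quasi hq hp₁₂).isPre (Equiv.refl _))),
    (((line_quasi hq hp₁).isPre (Equiv.refl _)).tensor ((line_quasi hq hp₂).isPre (Equiv.refl _))), fun y => ?_⟩
  obtain ⟨y₁, y₂, b₁, b₂⟩ := y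
  refine ⟨cB ^ n * cB ^ n, hmul (hpow n hcB) (hpow n hcB), ?_⟩
  simp only [preTensor_tmul, wedgeDet_ιMulti, Equiv.refl_symm, Equiv.refl_apply, LinearMap.comp_apply,
    LinearMap.restrictScalars_apply, map_smul, smul_eq_mul]
  show cB ^ n * cB ^ n * ((Vmat G b₁).det * (Vmat G fun j => b₂ j * (φ₁ y₁ * φ₂ y₂)).det) =
    cB ^ n * cB ^ n * ((Vmat G fun j => b₁ j * φ₁ y₁).det * (Vmat G fun j => b₂ j * φ₂ y₂).det)
  have e1 := det_Vmat_mul hq b₁ (φ₁ y₁)
  have e2 := det_Vmat_mul hq b₂ (φ₂ y₂)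
  have e3 := det_Vmat_mul hq b₂ (φ₁ y₁ * φ₂ y₂)
  have e4 := det_Xmat_mul hq (φ₁ y₁) (φ₂ y₂)
  linear_combination (cB ^ n * (Vmat G b₁).det) * e3 + ((Vmat G b₁).det * (Vmat G b₂).det) * e4
    - (cB ^ n * (Vmat G fun j => b₂ j * φ₂ y₂).det) * e1 - ((Vmat G b₁).det * (Xmat G z (φ₁ y₁)).det) * e2


end Groth.Agent.S13118
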