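import Groth.Statements.S13119
import Groth.Agent.Lib.NormLine16.Semi
import Mathlib

set_option autoImplicit false
universe u
open scoped TensorProduct
open HilbChow

namespace Groth.Agent.S13119

open GrothLib.NormLine16 in
theorem mat_quasi {A B : Type u} [CommRing A] [CommRing B] [Algebra A B] {n k : ℕ} {G : B →ₗ[A] (Fin n → A)}
    {z : Fin n → B} {cB : A} (hq : IsQuasi G z cB) {L : Type*} [AddCommGroup L] [Module B L] [Module A L]
    [IsScalarTower A B L] {g : L →ₗ[B] (Fin k → B)} {x : Fin k → L} {c : A} (hg : IsQuasi g x (algebraMap A B c)) :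
    IsQuasi (LinearMap.pi fun r : Fin k × Fin n =>
      (LinearMap.proj r.2).comp (G.comp (((LinearMap.proj r.1).comp g).restrictScalars A)))
      (fun r => z r.2 • x r.1) (cB * c) := by
  refine ⟨fun r s => ?_, fun w => ?_⟩
  · simp only [LinearMap.pi_apply, LinearMap.comp_apply, LinearMap.proj_apply, LinearMap.restrictScalars_apply,
      map_smul, Pi.smul_apply, hg.1, smul_eq_mul]
    rcases r with ⟨i, j⟩; rcases s with ⟨l, t⟩
    by_cases h : i = l
    · subst h
      rw [if_pos rfl, mul_comm, ← Algebra.smul_def, map_smul, Pi.smul_apply, hq.1, smul_eq_mul]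
      by_cases h' : j = t <;> simp [h', mul_comm]
    · simp [h, Prod.ext_iff]
  · rw [Fintype.sum_prod_type]
    simp only [LinearMap.pi_apply, LinearMap.comp_apply, LinearMap.proj_apply, LinearMap.restrictScalars_apply]
    calc ∑ i, ∑ j, G (g w i) j • z j • x i = ∑ i, (∑ j, G (g w i) j • z j) • x i := by
          refine Finset.sum_congr rfl fun i _ => ?_
          rw [Finset.sum_smul]; exact Finset.sum_congr rfl fun j _ => (smul_assoc _ _ _).symm
      _ = ∑ i, cB • g w i • x i := Finset.sum_congr rfl fun i _ => by rw [hq.2, smul_assoc]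
      _ = (cB * c) • w := by rw [← Finset.smul_sum, hg.2, algebraMap_smul, smul_smul]

open GrothLib.NormLine16 in
theorem line_quasi {A B : Type u} [CommRing A] [CommRing B] [Algebra A B] {n : ℕ} {G : B →ₗ[A] (Fin n → A)}
    {z : Fin n → B} {cB : A} (hq : IsQuasi G z cB) {L : Type*} [AddCommGroup L] [Module B L] [Module A L]
    [IsScalarTower A B L] {φ : L →ₗ[B] B} {x₀ : L} {c : A} (hp : IsPre φ x₀ (algebraMap A B c)) :
    IsQuasi (G.comp (φ.restrictScalars A)) (fun j => z j • x₀) (cB * c) := by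
  refine ⟨fun r s => ?_, fun w => ?_⟩
  · rw [LinearMap.comp_apply, LinearMap.restrictScalars_apply, map_smul, hp.1, smul_eq_mul,
      mul_comm, ← Algebra.smul_def, map_smul, Pi.smul_apply, hq.1, smul_eq_mul]
    split_ifs <;> ring
  · calc ∑ j, (G.comp (φ.restrictScalars A)) w j • z j • x₀ = (∑ j, G (φ w) j • z j) • x₀ := by
          rw [Finset.sum_smul]; exact Finset.sum_congr rfl fun j _ => (smul_assoc _ _ _).symm
      _ = (cB * c) • w := by
          rw [hq.2, smul_assoc, ← hp.2 w, algebraMap_smul, smul_smul]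

open GrothLib.NormLine16 in
theorem block_identity {A B : Type u} [CommRing A] [CommRing B] [Algebra A B] {n l : ℕ} {G : B →ₗ[A] (Fin n → A)}
    {z : Fin n → B} {cB : A} (hq : IsQuasi G z cB) (H : Matrix (Fin (l + 1)) (Fin (l + 1)) B)
    (b : Fin (l + 1) → Fin n → B) :
    ∃ t : ℕ, cB ^ t * (cB ^ n * (cB ^ (n * (l + 1)) *
        (Matrix.of fun r s : Fin (l + 1) × Fin n => G (b r.1 r.2 * H r.1 s.1) s.2).det)) =
      cB ^ t * (cB ^ n * (cB ^ (n * (l + 1)) *
        ((∏ i : Fin l, (Vmat G (b i.castSucc)).det) * (Vmat G fun j => b (Fin.last l) j * H.det).det))) := by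
  obtain ⟨t, ht⟩ := exists_det_comp_Xmat hq H
  have h1 : Matrix.comp (Fin (l + 1)) (Fin (l + 1)) (Fin n) (Fin n) A (Matrix.diagonal fun i => Vmat G (b i)) *
      Matrix.comp _ _ _ _ A (H.map (Xmat G z)) =
        cB • Matrix.of fun r s : Fin (l + 1) × Fin n => G (b r.1 r.2 * H r.1 s.1) s.2 := by
    ext ⟨i, j⟩ ⟨a, s⟩
    have h2 := congrFun (congrFun (Vmat_mul hq (b i) (H i a)) j) s
    rw [Matrix.mul_apply, Fintype.sum_prod_type]
    simp only [Matrix.comp_apply, Matrix.map_apply, Matrix.diagonal_apply, Matrix.smul_apply, Matrix.of_apply]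
    rw [Finset.sum_eq_single i]
    · simpa [Matrix.mul_apply, Matrix.smul_apply, Vmat] using h2
    · intro a' _ ha; simp [Ne.symm ha]
    · simp
  have h2 := congrArg Matrix.det h1
  rw [Matrix.det_mul, Matrix.det_smul, Matrix.comp_diagonal, Matrix.det_reindex_self, Matrix.det_blockDiagonal,
    Fintype.card_prod, Fintype.card_fin, Fintype.card_fin, Fin.prod_univ_castSucc, mul_comm (l + 1) n] at h2
  refine ⟨t, ?_⟩
  have h3 := det_Vmat_mul hq (b (Fin.last l)) H.det
  linear_combination (-(cB ^ t * cB ^ n)) * h2 +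
    ((∏ i : Fin l, (Vmat G (b i.castSucc)).det) * (Vmat G (b (Fin.last l))).det) * ht -
    (cB ^ t * cB ^ (n * (l + 1)) * ∏ i : Fin l, (Vmat G (b i.castSucc)).det) * h3



/-- Let A → B be a ring homomorphism making B a finite locally free A-module of constant rank n, and
take a B-module M that is locally free of rank k, with k at least 1. Then, as A-modules, ∧^{nk}_A M
≅ (∧ⁿ_A B)^{⊗(k−1)} ⊗_A ∧ⁿ_A(∧^k_B M). (The published statement gives a specific, canonical
isomorphism, allows k = 0 with the exponent k − 1 read in the Picard group, and has a companion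
formula for duals; this row asserts only that an isomorphism exists, for k ≥ 1, since with a
natural-number exponent k = 0 would change the meaning, and omits the dual formula.) Locally free of
rank r is expressed as finitely generated projective with all localisations at primes of rank r. -/
theorem result
    (A B : Type u) [CommRing A] [CommRing B] [Algebra A B] [Module.Finite A B] [Module.Projective A B]
    (n : ℕ) (hn : ∀ q : PrimeSpectrum A, Module.finrank (Localization.AtPrime q.asIdeal) (LocalizedModule q.asIdeal.primeCompl B) = n)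
    (M : Type u) [AddCommGroup M] [Module B M] [Module A M] [IsScalarTower A B M]
    [Module.Finite B M] [Module.Projective B M] (k : ℕ) (hk : 1 ≤ k)
    (hM : ∀ q : PrimeSpectrum B, Module.finrank (Localization.AtPrime q.asIdeal) (LocalizedModule q.asIdeal.primeCompl M) = k) :
    Nonempty ((⋀[A]^(n * k) M) ≃ₗ[A]
      (TensorPower A (k - 1) (⋀[A]^n B)) ⊗[A] (⋀[A]^n (⋀[B]^k M))) := by
  open GrothLib.NormLine16 in
  obtain ⟨l, rfl⟩ : ∃ l, k = l + 1 := ⟨k - 1, by omega⟩
  show Nonempty ((⋀[A]^(n * (l + 1)) M) ≃ₗ[A] (TensorPower A l (⋀[A]^n B)) ⊗[A] (⋀[A]^n (⋀[B]^(l + 1) M)))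
  let e : Fin (n * (l + 1)) ≃ Fin (l + 1) × Fin n := finProdFinEquiv.symm.trans (Equiv.prodComm _ _)
  refine nonempty_linearEquiv_of_matched
    (fun y : (Fin (l + 1) → M) × (Fin (l + 1) → Fin n → B) =>
      exteriorPower.ιMulti A (n * (l + 1)) fun r => y.2 (e r).1 (e r).2 • y.1 (e r).1)
    (fun y : (Fin (l + 1) → M) × (Fin (l + 1) → Fin n → B) =>
      (PiTensorProduct.tprod A fun i : Fin l => exteriorPower.ιMulti A n (y.2 i.castSucc)) ⊗ₜ[A]
        exteriorPower.ιMulti A n (fun j => y.2 (Fin.last l) j • exteriorPower.ιMulti B (l + 1) y.1))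
    fun m hm => ?_
  haveI := hm
  obtain ⟨z, G, cB, hcB, hq⟩ := exists_quasi (A := A) (B := A) B n hn m
  rw [Algebra.algebraMap_self, RingHom.id_apply] at hq
  obtain ⟨x, g, c, hc, hg⟩ := exists_quasi (A := A) M (l + 1) hM m
  have hmul : ∀ {a b : A}, a ∉ m → b ∉ m → a * b ∉ m := fun ha hb h => (hm.isPrime.mem_or_mem h).elim ha hb
  have hpow : ∀ {a : A} (i : ℕ), a ∉ m → a ^ i ∉ m := fun i ha h => ha (hm.isPrime.mem_of_pow_mem i h)
  have hω : IsPre (wedgeDet (Equiv.refl _) g) (exteriorPower.ιMulti B (l + 1) x) (algebraMap A B (c ^ (l + 1))) := by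
    rw [map_pow]; exact hg.isPre (Equiv.refl _)
  refine ⟨(x, fun _ => z), _, _, _, _, hpow (n * (l + 1)) (hmul hcB hc),
    hmul (hpow l (hpow n hcB)) (hpow n (hmul hcB (hpow (l + 1) hc))),
    (mat_quasi hq hg).isPre e,
    ((hq.isPre (Equiv.refl _)).power l).tensor ((line_quasi hq hω).isPre (Equiv.refl _)), fun y => ?_⟩
  obtain ⟨y, b⟩ := y
  obtain ⟨t, ht⟩ := block_identity hq (Matrix.of fun i l' => g (y i) l') b
  refine ⟨cB ^ t * cB ^ n * cB ^ (n * (l + 1)),
    hmul (hmul (hpow t hcB) (hpow n hcB)) (hpow _ hcB), ?_⟩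
  simp only [preTensor_tmul, prePower_tprod, wedgeDet_ιMulti, Equiv.refl_symm, Equiv.refl_apply, LinearMap.comp_apply,
    LinearMap.restrictScalars_apply, LinearMap.pi_apply, LinearMap.proj_apply, map_smul, smul_eq_mul, Pi.smul_apply,
    e.apply_symm_apply]
  simp only [mul_assoc]
  exact ht


end Groth.Agent.S13119
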