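import Groth.Statements.S13120
import Groth.Agent.Lib.CharTwoPlane.Basic

set_option autoImplicit false
universe u
open KumFam

namespace Groth.Agent.S13120

open GrothLib.CharTwoPlane

open MvPolynomial in
/-- Let R be a commutative ring of characteristic 2 and l0, l2, l4, s0, s2, s4, τ ∈ R with τ a unit.
Inside R[u, v] (u = X 0, v = X 1) let A = R[u², u³, v², v³] be the coordinate ring of the product of
two cuspidal curves, and let D be the R-derivation of R[u, v] with D(u) = v²(l0 u⁴ + τ u³ + l2 u² +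
l4) and D(v) = u²(s0 v⁴ + τ v³ + s2 v² + s4); D is u²v² times the rational vector field (l0 u² + τ u
+ l2 + l4 u⁻²) ∂_u + (s0 v² + τ v + s2 + s4 v⁻²) ∂_v, which maps A into itself, and u²v² is a
non-zero-divisor, so the kernel of that vector field on A is the set of a ∈ A with D(a) = 0. Then
for a ∈ A: D(a) = 0 if and only if a ∈ R[u², v², g], where g = (s0 v⁴ + s2 v² + s4) u³ + (l0 u⁴ + l2
u² + l4) v³ + τ u³ v³. (The published statement identifies this kernel with the ring of invariants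
of the corresponding action of the group scheme of square roots of unity; this row states the kernel
computation that is actually carried out.) -/
theorem result (R : Type u) [CommRing R] [CharP R 2]
    (l0 l2 l4 s0 s2 s4 τ : R) (hτ : IsUnit τ) (a : MvPolynomial (Fin 2) R)
    (ha : a ∈ Algebra.adjoin R
      ({X 0 ^ 2, X 0 ^ 3, X 1 ^ 2, X 1 ^ 3} : Set (MvPolynomial (Fin 2) R))) :
    MvPolynomial.mkDerivation R
        (![X 1 ^ 2 * (C l0 * X 0 ^ 4 + C τ * X 0 ^ 3 + C l2 * X 0 ^ 2 + C l4),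
          X 0 ^ 2 * (C s0 * X 1 ^ 4 + C τ * X 1 ^ 3 + C s2 * X 1 ^ 2 + C s4)] :
          Fin 2 → MvPolynomial (Fin 2) R) a = 0 ↔
      a ∈ Algebra.adjoin R
        ({X 0 ^ 2, X 1 ^ 2,
          (C s0 * X 1 ^ 4 + C s2 * X 1 ^ 2 + C s4) * X 0 ^ 3 +
            (C l0 * X 0 ^ 4 + C l2 * X 0 ^ 2 + C l4) * X 1 ^ 3 +
            C τ * X 0 ^ 3 * X 1 ^ 3} : Set (MvPolynomial (Fin 2) R)) := by
  set g : MvPolynomial (Fin 2) R := (C s0 * X 1 ^ 4 + C s2 * X 1 ^ 2 + C s4) * X 0 ^ 3 +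
            (C l0 * X 0 ^ 4 + C l2 * X 0 ^ 2 + C l4) * X 1 ^ 3 +
            C τ * X 0 ^ 3 * X 1 ^ 3 with hg
  set S : MvPolynomial (Fin 2) R := C s0 * X 1 ^ 2 + C s2 * X 1 + C s4 with hS
  set L : MvPolynomial (Fin 2) R := C l0 * X 0 ^ 2 + C l2 * X 0 + C l4 with hL
  have hgS : g = ε S * X 0 ^ 3 + ε L * X 1 ^ 3 + ε (C τ) * (X 0 ^ 3 * X 1 ^ 3) := by
    simp only [hg, hS, hL, ε, map_add, map_mul, map_pow, expand_X, expand_C]
    ring
  set D := MvPolynomial.mkDerivation R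
        (![X 1 ^ 2 * (C l0 * X 0 ^ 4 + C τ * X 0 ^ 3 + C l2 * X 0 ^ 2 + C l4),
          X 0 ^ 2 * (C s0 * X 1 ^ 4 + C τ * X 1 ^ 3 + C s2 * X 1 ^ 2 + C s4)] :
          Fin 2 → MvPolynomial (Fin 2) R) with hD
  have h2 : (2 : MvPolynomial (Fin 2) R) = 0 := two_eq_zero
  have h3 : ∀ i, D (X i ^ 3) = X i ^ 2 * D (X i) := fun i => by
    rw [Derivation.leibniz_pow]
    simp only [smul_eq_mul, nsmul_eq_mul, Nat.cast_ofNat]
    rw [three_eq_one, one_mul]
  have h0 : D (X 0) = X 1 ^ 2 * (ε L + ε (C τ) * X 0 ^ 3) := by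
    rw [hD, mkDerivation_X]
    simp [hL, ε, expand_X, expand_C]
    ring
  have h1 : D (X 1) = X 0 ^ 2 * (ε S + ε (C τ) * X 1 ^ 3) := by
    rw [hD, mkDerivation_X]
    simp [hS, ε, expand_X, expand_C]
    ring
  have hDdec : ∀ a b c d, D (ε a + ε b * X 0 ^ 3 + ε c * X 1 ^ 3 + ε d * (X 0 ^ 3 * X 1 ^ 3)) =
      dec ((X 0 * X 1) * (b * L + c * S)) ((X 0 * X 1) * X 0 * (b * C τ + d * S))
        ((X 0 * X 1) * X 1 * (c * C τ + d * L)) 0 := by
    intro a b c d
    simp only [map_add, Derivation.leibniz, D_ε, smul_eq_mul, h3, h0, h1, dec]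
    simp only [ε, map_add, map_mul, map_pow, expand_X, expand_C, map_zero]
    linear_combination X 0 ^ 5 * X 1 ^ 5 * (ε d) * C τ * h2
  have hset : ({X 0 ^ 2, X 1 ^ 2, g} : Set (MvPolynomial (Fin 2) R)) = Set.range ![X 0 ^ 2, X 1 ^ 2, g] := by
    ext x
    simp [Set.mem_range, Fin.exists_fin_succ, eq_comm]
    tauto
  rw [hset, Algebra.adjoin_range_eq_range_aeval]
  constructor
  · intro hz
    obtain ⟨a₀, b, c, d, rfl⟩ := exists_dec_of_mem_adjoin ha
    rw [hDdec] at hz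
    obtain ⟨-, hb, hc, -⟩ := dec_eq_zero hz
    obtain ⟨t, ht⟩ := hτ.map (C (σ := Fin 2) : R →+* MvPolynomial (Fin 2) R)
    have hb' : b * C τ + d * S = 0 :=
      X_mul_cancel 0 (X_mul_cancel 1 (X_mul_cancel 0 (by linear_combination hb)))
    have hc' : c * C τ + d * L = 0 :=
      X_mul_cancel 0 (X_mul_cancel 1 (X_mul_cancel 1 (by linear_combination hc)))
    have ht' : C τ * (↑t⁻¹ : MvPolynomial (Fin 2) R) = 1 := by rw [← ht, Units.mul_inv]
    have eb : b = (↑t⁻¹ : MvPolynomial (Fin 2) R) * d * S := by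
      linear_combination ↑t⁻¹ * hb' - b * ht' - ↑t⁻¹ * d * S * h2
    have ec : c = (↑t⁻¹ : MvPolynomial (Fin 2) R) * d * L := by
      linear_combination ↑t⁻¹ * hc' - c * ht' - ↑t⁻¹ * d * L * h2
    convert mem_range_aeval g a₀ ((↑t⁻¹ : MvPolynomial (Fin 2) R) * d) using 1
    rw [hgS, eb, ec]
    have hτd : ε d = ε ((↑t⁻¹ : MvPolynomial (Fin 2) R) * d) * ε (C τ) := by
      rw [← map_mul]; congr 1; linear_combination -d * ht'
    rw [hτd]
    simp only [map_mul]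
    ring
  · refine D_eq_zero_of_mem_range D g ?_
    rw [hgS, ← zero_add (ε S * X 0 ^ 3), ← (map_zero ε : ε (0 : MvPolynomial (Fin 2) R) = 0), hDdec]
    simp only [dec, map_zero, map_mul, map_add]
    linear_combination ((ε (X 0) * ε (X 1)) * (ε S * ε L) + (ε (X 0) * ε (X 1)) * ε (X 0) * (ε (C τ) * ε S) * X 0 +
      (ε (X 0) * ε (X 1)) * ε (X 1) * (ε (C τ) * ε L) * X 1) * h2

end Groth.Agent.S13120
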