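import Groth.Statements.S13121
import Groth.Agent.Lib.CharTwoPlane.Basic

set_option autoImplicit false
universe u
open KumFam

namespace Groth.Agent.S13121

open GrothLib.CharTwoPlane

open MvPolynomial in
/-- Let R be a commutative ring of characteristic 2 and l0, l2, l4, s0, s2, s4, τ ∈ R with τ a unit. In
R[u, v] (u = X 0, v = X 1) put g = (s0 v⁴ + s2 v² + s4) u³ + (l0 u⁴ + l2 u² + l4) v³ + τ u³ v³. Then
the kernel of the R-algebra homomorphism R[a, b, c] → R[u, v] (a = X 0, b = X 1, c = X 2) with a ↦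
u², b ↦ v², c ↦ g is the ideal generated by c² + s0² a³ b⁴ + s2² a³ b² + s4² a³ + l0² a⁴ b³ + l2² a²
b³ + l4² b³ + τ² a³ b³; its image is the subalgebra R[u², v², g], which is therefore presented by
this one equation. -/
theorem result (R : Type u) [CommRing R] [CharP R 2]
    (l0 l2 l4 s0 s2 s4 τ : R) (hτ : IsUnit τ) :
    RingHom.ker (MvPolynomial.aeval (R := R) (S₁ := MvPolynomial (Fin 2) R)
        ![X 0 ^ 2, X 1 ^ 2,
          (C s0 * X 1 ^ 4 + C s2 * X 1 ^ 2 + C s4) * X 0 ^ 3 +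
            (C l0 * X 0 ^ 4 + C l2 * X 0 ^ 2 + C l4) * X 1 ^ 3 +
            C τ * X 0 ^ 3 * X 1 ^ 3]) =
      Ideal.span {(X 2 ^ 2 + C (s0 ^ 2) * X 0 ^ 3 * X 1 ^ 4 + C (s2 ^ 2) * X 0 ^ 3 * X 1 ^ 2 +
        C (s4 ^ 2) * X 0 ^ 3 + C (l0 ^ 2) * X 0 ^ 4 * X 1 ^ 3 + C (l2 ^ 2) * X 0 ^ 2 * X 1 ^ 3 +
        C (l4 ^ 2) * X 1 ^ 3 + C (τ ^ 2) * X 0 ^ 3 * X 1 ^ 3 : MvPolynomial (Fin 3) R)} := by
  set g : MvPolynomial (Fin 2) R := (C s0 * X 1 ^ 4 + C s2 * X 1 ^ 2 + C s4) * X 0 ^ 3 +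
            (C l0 * X 0 ^ 4 + C l2 * X 0 ^ 2 + C l4) * X 1 ^ 3 +
            C τ * X 0 ^ 3 * X 1 ^ 3 with hg
  set S : MvPolynomial (Fin 2) R := C s0 * X 1 ^ 2 + C s2 * X 1 + C s4 with hS
  set L : MvPolynomial (Fin 2) R := C l0 * X 0 ^ 2 + C l2 * X 0 + C l4 with hL
  have hgS : g = ε S * X 0 ^ 3 + ε L * X 1 ^ 3 + ε (C τ) * (X 0 ^ 3 * X 1 ^ 3) := by
    simp only [hg, hS, hL, ε, map_add, map_mul, map_pow, expand_X, expand_C]
    ring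
  have hfree : ∀ a b, ε a + ε b * g = 0 → b = 0 := fun a b h => by
    have h' : dec a (b * S * X 0) (b * L * X 1) (b * C τ * (X 0 * X 1)) = 0 := by
      rw [← h, hgS]
      simp only [dec, ε, map_mul, expand_X]
      ring
    obtain ⟨-, -, -, h3⟩ := dec_eq_zero h'
    have h4 : X 0 * (X 1 * (b * C τ)) = X 0 * (X 1 * (0 : MvPolynomial (Fin 2) R)) := by
      linear_combination h3
    exact (hτ.map C).mul_left_eq_zero.1 (X_mul_cancel 1 (X_mul_cancel 0 h4))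
  rw [ker_aeval_eq_span g (S ^ 2 * X 0 ^ 3 + L ^ 2 * X 1 ^ 3 + C (τ ^ 2) * (X 0 ^ 3 * X 1 ^ 3)) ?_ hfree]
  · congr 2
    simp only [j, hS, hL, map_add, map_mul, map_pow, rename_X, rename_C, Fin.castSucc_zero]
    rw [show Fin.castSucc (1 : Fin 2) = (1 : Fin 3) from rfl]
    linear_combination ((C s0 * X 1 ^ 2) * (C s2 * X 1) + (C s0 * X 1 ^ 2) * C s4 +
      (C s2 * X 1) * C s4) * X 0 ^ 3 * (two_eq_zero : (2 : MvPolynomial (Fin 3) R) = 0) +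
      ((C l0 * X 0 ^ 2) * (C l2 * X 0) + (C l0 * X 0 ^ 2) * C l4 +
      (C l2 * X 0) * C l4) * X 1 ^ 3 * (two_eq_zero : (2 : MvPolynomial (Fin 3) R) = 0)
  · rw [hgS]
    simp only [ε, map_add, map_mul, map_pow, expand_X, expand_C]
    linear_combination (ε S * X 0 ^ 3 * (ε L * X 1 ^ 3) + ε S * X 0 ^ 3 * (C τ * (X 0 ^ 3 * X 1 ^ 3)) +
      ε L * X 1 ^ 3 * (C τ * (X 0 ^ 3 * X 1 ^ 3))) * (two_eq_zero : (2 : MvPolynomial (Fin 2) R) = 0)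

end Groth.Agent.S13121
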