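import Groth.Statements.S13122
import Groth.Agent.Lib.CharTwoPlane.Basic

set_option autoImplicit false
universe u
open KumFam

namespace Groth.Agent.S13122

open GrothLib.CharTwoPlane

open MvPolynomial in
/-- Let R be a commutative ring of characteristic 2 and l0, l2, l4, s0, s2, s4, τ ∈ R with τ a unit. On
R[x, y] (x = X 0, y = X 1; the coordinates u⁻¹, v⁻¹ of the smooth chart of the product of two
cuspidal curves) let D be the R-derivation with D(x) = l4 x⁴ + l2 x² + τ x + l0 and D(y) = s4 y⁴ +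
s2 y² + τ y + s0, and put h = (s4 y⁴ + s2 y² + s0) x + (l4 x⁴ + l2 x² + l0) y + τ x y. Then: (1) for
p ∈ R[x, y], D(p) = 0 if and only if p lies in the image of the R-algebra homomorphism R[a, b, c] →
R[x, y] (a = X 0, b = X 1, c = X 2) with a ↦ x², b ↦ y², c ↦ h; (2) the kernel of that homomorphism
is the ideal generated by c² + τ² a b + (s4² b⁴ + s2² b² + s0²) a + (l4² a⁴ + l2² a² + l0²) b. (The
published statement asserts that the ring of invariants of the action of the group scheme of square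
roots of unity given by this vector field is R[a, b, c] modulo this equation, by the same
computation as on the other chart; this row pins the generator h and states the kernel computation.) -/
theorem result (R : Type u) [CommRing R]
    [CharP R 2] (l0 l2 l4 s0 s2 s4 τ : R) (hτ : IsUnit τ) :
    (∀ p : MvPolynomial (Fin 2) R,
      MvPolynomial.mkDerivation R
          (![C l4 * X 0 ^ 4 + C l2 * X 0 ^ 2 + C τ * X 0 + C l0,
            C s4 * X 1 ^ 4 + C s2 * X 1 ^ 2 + C τ * X 1 + C s0] :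
            Fin 2 → MvPolynomial (Fin 2) R) p = 0 ↔
        p ∈ (MvPolynomial.aeval (R := R) (S₁ := MvPolynomial (Fin 2) R)
          ![X 0 ^ 2, X 1 ^ 2,
            (C s4 * X 1 ^ 4 + C s2 * X 1 ^ 2 + C s0) * X 0 +
              (C l4 * X 0 ^ 4 + C l2 * X 0 ^ 2 + C l0) * X 1 + C τ * X 0 * X 1]).range) ∧
    RingHom.ker (MvPolynomial.aeval (R := R) (S₁ := MvPolynomial (Fin 2) R)
        ![X 0 ^ 2, X 1 ^ 2,
          (C s4 * X 1 ^ 4 + C s2 * X 1 ^ 2 + C s0) * X 0 +
            (C l4 * X 0 ^ 4 + C l2 * X 0 ^ 2 + C l0) * X 1 + C τ * X 0 * X 1]) =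
      Ideal.span {(X 2 ^ 2 + C (τ ^ 2) * X 0 * X 1 +
        (C (s4 ^ 2) * X 1 ^ 4 + C (s2 ^ 2) * X 1 ^ 2 + C (s0 ^ 2)) * X 0 +
        (C (l4 ^ 2) * X 0 ^ 4 + C (l2 ^ 2) * X 0 ^ 2 + C (l0 ^ 2)) * X 1 : MvPolynomial (Fin 3) R)} := by
  set g : MvPolynomial (Fin 2) R := (C s4 * X 1 ^ 4 + C s2 * X 1 ^ 2 + C s0) * X 0 +
              (C l4 * X 0 ^ 4 + C l2 * X 0 ^ 2 + C l0) * X 1 + C τ * X 0 * X 1 with hg
  set S : MvPolynomial (Fin 2) R := C s4 * X 1 ^ 2 + C s2 * X 1 + C s0 with hS
  set L : MvPolynomial (Fin 2) R := C l4 * X 0 ^ 2 + C l2 * X 0 + C l0 with hL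
  have h2 : (2 : MvPolynomial (Fin 2) R) = 0 := two_eq_zero
  have hgS : g = dec 0 S L (C τ) := by
    simp only [hg, hS, hL, dec, ε, map_add, map_mul, map_pow, expand_X, expand_C, map_zero]
    ring
  obtain ⟨t, ht⟩ := hτ.map (C (σ := Fin 2) : R →+* MvPolynomial (Fin 2) R)
  have ht' : C τ * (↑t⁻¹ : MvPolynomial (Fin 2) R) = 1 := by rw [← ht, Units.mul_inv]
  refine ⟨fun p => ?_, ?_⟩
  · set D := MvPolynomial.mkDerivation R
          (![C l4 * X 0 ^ 4 + C l2 * X 0 ^ 2 + C τ * X 0 + C l0,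
            C s4 * X 1 ^ 4 + C s2 * X 1 ^ 2 + C τ * X 1 + C s0] :
            Fin 2 → MvPolynomial (Fin 2) R) with hD
    have h0 : D (X 0) = ε L + ε (C τ) * X 0 := by
      rw [hD, mkDerivation_X]
      simp [hL, ε, expand_X, expand_C]
      ring
    have h1 : D (X 1) = ε S + ε (C τ) * X 1 := by
      rw [hD, mkDerivation_X]
      simp [hS, ε, expand_X, expand_C]
      ring
    have hDdec : ∀ a b c d, D (dec a b c d) =
        dec (b * L + c * S) (b * C τ + d * S) (c * C τ + d * L) 0 := by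
      intro a b c d
      simp only [dec, map_add, Derivation.leibniz, D_ε, smul_eq_mul, h0, h1, map_mul, map_zero]
      linear_combination ε d * ε (C τ) * (X 0 * X 1) * h2
    constructor
    · intro hz
      obtain ⟨a₀, b, c, d, rfl⟩ := exists_dec p
      rw [hDdec] at hz
      obtain ⟨-, hb, hc, -⟩ := dec_eq_zero hz
      have eb : b = (↑t⁻¹ : MvPolynomial (Fin 2) R) * d * S := by
        linear_combination ↑t⁻¹ * hb - b * ht' - ↑t⁻¹ * d * S * h2
      have ec : c = (↑t⁻¹ : MvPolynomial (Fin 2) R) * d * L := by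
        linear_combination ↑t⁻¹ * hc - c * ht' - ↑t⁻¹ * d * L * h2
      have ed : d = ((↑t⁻¹ : MvPolynomial (Fin 2) R) * d) * C τ := by
        linear_combination -d * ht'
      convert mem_range_aeval g a₀ ((↑t⁻¹ : MvPolynomial (Fin 2) R) * d) using 1
      rw [hgS, eb, ec]
      conv_lhs => arg 4; rw [ed]
      simp only [dec, map_mul, map_zero]
      ring
    · refine D_eq_zero_of_mem_range D g ?_
      rw [hgS, hDdec]
      simp only [dec, map_zero, map_mul, map_add]
      linear_combination (ε S * ε L + ε (C τ) * ε S * X 0 + ε (C τ) * ε L * X 1) * h2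
  · have hfree : ∀ a b, ε a + ε b * g = 0 → b = 0 := fun a b h => by
      have h' : dec a (b * S) (b * L) (b * C τ) = 0 := by
        rw [← h, hgS]
        simp only [dec, map_mul, map_zero]
        ring
      exact (hτ.map C).mul_left_eq_zero.1 (dec_eq_zero h').2.2.2
    rw [ker_aeval_eq_span g (C (τ ^ 2) * (X 0 * X 1) + S ^ 2 * X 0 + L ^ 2 * X 1) ?_ hfree]
    · congr 2
      simp only [j, hS, hL, map_add, map_mul, map_pow, rename_X, rename_C, Fin.castSucc_zero]
      rw [show Fin.castSucc (1 : Fin 2) = (1 : Fin 3) from rfl]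
      linear_combination ((C s4 * X 1 ^ 2) * (C s2 * X 1) + (C s4 * X 1 ^ 2) * C s0 +
        (C s2 * X 1) * C s0) * X 0 * (two_eq_zero : (2 : MvPolynomial (Fin 3) R) = 0) +
        ((C l4 * X 0 ^ 2) * (C l2 * X 0) + (C l4 * X 0 ^ 2) * C l0 +
        (C l2 * X 0) * C l0) * X 1 * (two_eq_zero : (2 : MvPolynomial (Fin 3) R) = 0)
    · rw [hgS]
      simp only [dec, ε, map_add, map_mul, map_pow, expand_X, expand_C, map_zero]
      linear_combination (ε S * X 0 * (ε L * X 1) + ε S * X 0 * (C τ * (X 0 * X 1)) +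
        ε L * X 1 * (C τ * (X 0 * X 1))) * h2

end Groth.Agent.S13122
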