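import Groth.Statements.S13123
import Mathlib.Algebra.CharP.Two
import Mathlib.Tactic.LinearCombination


set_option autoImplicit false
universe u
open KumFam

namespace Groth.Agent.S13123

open Polynomial in
/-- Let R be a commutative ring of characteristic 2 and p q r m ρ s t ∈ R with m³ + p m + q = 0, (m² +
p)²(ρ² + ρ) = r, m²(s² + s) = (m² + p) ρ and m²(t² + t) = (m² + p)(ρ + 1). Then X⁴ + p X² + q X + r
= (X − m s)(X − m (s + 1))(X − m t)(X − m (t + 1)) in R[X]. (The published statement assumes q is a
unit, which makes m and m² + p units, writes ρ, s, t as roots of Artin–Schreier equations X² + X + γ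
with γ the corresponding quotients, and gives m through cube roots of Lagrange resolvents; here the
defining equations of ρ, s, t are written with denominators cleared and m is any root of the
resolvent cubic, so no unit hypothesis is needed.) -/
theorem result (R : Type u) [CommRing R] [CharP R 2]
    (p q r m ρ s t : R) (hm : m ^ 3 + p * m + q = 0) (hρ : (m ^ 2 + p) ^ 2 * (ρ ^ 2 + ρ) = r)
    (hs : m ^ 2 * (s ^ 2 + s) = (m ^ 2 + p) * ρ) (ht : m ^ 2 * (t ^ 2 + t) = (m ^ 2 + p) * (ρ + 1)) :
    (X ^ 4 + C p * X ^ 2 + C q * X + C r : R[X]) =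
      (X - C (m * s)) * (X - C (m * (s + 1))) * (X - C (m * t)) * (X - C (m * (t + 1))) := by
  have h2 : (2 : R) = 0 := CharTwo.two_eq_zero
  have key : ∀ a b c d : R, (X - C a) * (X - C b) * (X - C c) * (X - C d) =
      X ^ 4 + C (-(a + b + c + d)) * X ^ 3 + C (a * b + a * c + a * d + b * c + b * d + c * d) * X ^ 2 +
        C (-(a * b * c + a * b * d + a * c * d + b * c * d)) * X + C (a * b * c * d) := by
    intro a b c d
    simp only [map_neg, map_add, map_mul]
    ring
  rw [key]
  set u := m ^ 2 + p with hu
  have e3 : -(m * s + m * (s + 1) + m * t + m * (t + 1)) = 0 := by linear_combination (-(m * (s + t + 1))) * h2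
  have e2 : m * s * (m * (s + 1)) + m * s * (m * t) + m * s * (m * (t + 1)) + m * (s + 1) * (m * t) +
      m * (s + 1) * (m * (t + 1)) + m * t * (m * (t + 1)) = p := by
    linear_combination hs + ht + (m ^ 2 + m ^ 2 * (2 * s * t + s + t) + u * ρ) * h2
  have e1 : -(m * s * (m * (s + 1)) * (m * t) + m * s * (m * (s + 1)) * (m * (t + 1)) +
      m * s * (m * t) * (m * (t + 1)) + m * (s + 1) * (m * t) * (m * (t + 1))) = q := by
    linear_combination (-1 : R) * hm + (-(2 * t + 1) * m) * hs + (-(2 * s + 1) * m) * ht +
      (-m * u * (ρ * (t + s + 1) + s)) * h2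
  have e0 : m * s * (m * (s + 1)) * (m * t) * (m * (t + 1)) = r := by
    linear_combination (m ^ 2 * (t ^ 2 + t)) * hs + (u * ρ) * ht + hρ
  rw [e3, e2, e1, e0, map_zero, zero_mul, add_zero]

end Groth.Agent.S13123
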