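import Groth.Statements.S13124
import Mathlib.RingTheory.IntegralClosure.IntegrallyClosed
import Mathlib.RingTheory.Flat.Basic

set_option autoImplicit false
universe u v w
open KumFam

namespace Groth.Agent.S13124

open scoped TensorProduct

/-- Fractions of a subring integral over it come from the normal overring. -/
theorem exists_mul_eq {C R : Type*} [CommRing C] [CommRing R] [IsDomain C] [IsDomain R] [IsIntegrallyClosed R]
    (φ : C →+* R) (hφ : Function.Injective φ) (K : Type*) [Field K] [Algebra C K] [IsFractionRing C K]
    (a b : C) (hb : b ≠ 0) (hx : IsIntegral C (algebraMap C K a / algebraMap C K b)) :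
    ∃ r : R, r * φ b = φ a := by
  have hinj : Function.Injective ((algebraMap R (FractionRing R)).comp φ) :=
    (IsFractionRing.injective R (FractionRing R)).comp hφ
  let F := IsFractionRing.lift (K := K) hinj
  have hF : ∀ z, F (algebraMap C K z) = algebraMap R (FractionRing R) (φ z) := IsFractionRing.lift_algebraMap hinj
  obtain ⟨f, hmon, hf⟩ := hx
  have hF' : F.comp (algebraMap C K) = (algebraMap R (FractionRing R)).comp φ := RingHom.ext hF
  have h2 : IsIntegral R (F (algebraMap C K a / algebraMap C K b)) := by
    refine ⟨f.map φ, hmon.map _, ?_⟩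
    rw [Polynomial.eval₂_map, ← hF', ← Polynomial.hom_eval₂, hf, map_zero]
  obtain ⟨r, hr⟩ := (isIntegrallyClosed_iff (FractionRing R)).mp inferInstance h2
  rw [map_div₀, hF, hF, eq_div_iff ((map_ne_zero_iff _ (IsFractionRing.injective R (FractionRing R))).mpr
    ((map_ne_zero_iff φ hφ).mpr hb)), ← map_mul] at hr
  exact ⟨r, IsFractionRing.injective R (FractionRing R) hr⟩

/-- Let k be a commutative ring, A a commutative k-bialgebra that is flat over k, and R a commutative
k-algebra which is an integrally closed domain, with a coaction R → R ⊗ A that is an algebra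
homomorphism. Then the ring of invariants (the elements f with coaction f ⊗ 1) is an integrally
closed domain. (The published statement is for a finite group scheme acting on a normal scheme whose
quotient is, locally, the spectrum of the ring of invariants; this row is the affine integral case
and allows any commutative bialgebra flat over k, flatness being automatic over a field.) -/
theorem result (k : Type u) [CommRing k]
    (A : Type v) [CommRing A] [Bialgebra k A] [Module.Flat k A]
    (R : Type w) [CommRing R] [Algebra k R] [IsDomain R] [IsIntegrallyClosed R]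
    [HopfRep.Comod k A R] [GLin.IsCoactAlg k A R] :
    IsIntegrallyClosed (GLin.invariants k A R) := by
  classical
  rw [isIntegrallyClosed_iff (FractionRing (GLin.invariants k A R))]
  intro x hx
  obtain ⟨a, b, hb, rfl⟩ := IsFractionRing.div_surjective (A := GLin.invariants k A R) x
  have hb0 : (b : R) ≠ 0 := fun h0 => nonZeroDivisors.ne_zero hb (Subtype.ext h0)
  obtain ⟨r, hr'⟩ := exists_mul_eq (GLin.invariants k A R).val.toRingHom Subtype.val_injective _ a b
    (nonZeroDivisors.ne_zero hb) hx
  change r * (b : R) = (a : R) at hr'
  have hinv : HopfRep.Comod.coact (k := k) (A := A) r = r ⊗ₜ[k] (1 : A) := by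
    have hmul : Function.Injective fun z : R ⊗[k] A => z * ((b : R) ⊗ₜ[k] (1 : A)) := by
      have h1 := Module.Flat.rTensor_preserves_injective_linearMap (M := A) (LinearMap.mulRight k (b : R))
        fun y z h => mul_right_cancel₀ hb0 h
      intro y z h
      refine h1 ?_
      have e : ∀ w : R ⊗[k] A, LinearMap.rTensor A (LinearMap.mulRight k (b : R)) w = w * ((b : R) ⊗ₜ[k] (1 : A)) := by
        intro w
        induction w using TensorProduct.induction_on with
        | zero => simp
        | tmul x y => simp
        | add x y hx hy => rw [map_add, hx, hy, add_mul]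
      rw [e, e]
      exact h
    refine hmul ?_
    have hbc : HopfRep.Comod.coact (k := k) (A := A) (b : R) = (b : R) ⊗ₜ[k] (1 : A) := b.2
    have hac : HopfRep.Comod.coact (k := k) (A := A) (a : R) = (a : R) ⊗ₜ[k] (1 : A) := a.2
    show HopfRep.Comod.coact (k := k) (A := A) r * _ = (r ⊗ₜ[k] (1 : A)) * _
    rw [← hbc, ← GLin.IsCoactAlg.coact_mul, hr', hac, hbc, Algebra.TensorProduct.tmul_mul_tmul, hr', one_mul]
  refine ⟨⟨r, hinv⟩, ?_⟩
  rw [eq_div_iff (fun h0 => nonZeroDivisors.ne_zero hb (IsFractionRing.injective _ _ (h0.trans (map_zero _).symm))),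
    ← map_mul]
  exact congrArg _ (Subtype.ext hr')

end Groth.Agent.S13124
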