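import Groth.Statements.S13125
-- import your own Groth.Agent.* helpers here

set_option autoImplicit false
universe u v
open KumFam

namespace Groth.Agent.S13125

open DirectSum

lemma decompose_map_apply {ι : Type u} [DecidableEq ι] {A B : Type v} [AddCommGroup A] [AddCommGroup B]
    (𝒜 : ι → AddSubgroup A) [DirectSum.Decomposition 𝒜] (ℬ : ι → AddSubgroup B) [DirectSum.Decomposition ℬ]
    (f : A →+ B) (hf : ∀ i, ∀ a ∈ 𝒜 i, f a ∈ ℬ i) (x : A) (i : ι) :
    (decompose ℬ (f x) i : B) = f (decompose 𝒜 x i : A) := by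
  induction x using DirectSum.Decomposition.inductionOn 𝒜 with
  | zero => simp
  | @homogeneous j m =>
    by_cases h : j = i
    · subst h
      rw [decompose_of_mem_same ℬ (hf j _ m.2), decompose_of_mem_same 𝒜 m.2]
    · rw [decompose_of_mem_ne ℬ (hf j _ m.2) h, decompose_of_mem_ne 𝒜 m.2 h, map_zero]
  | add a b ha hb => simp [decompose_add, map_add, ha, hb]

/-- Let A be a commutative ring graded by an additive monoid ι (an abelian group in the published
statement) through additive subgroups 𝒜 i, and I an ideal of A. Then I is a homogeneous ideal if and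
only if A/I carries a structure of ι-graded ring ℬ for which the quotient map sends 𝒜 i into ℬ i for
all i. -/
theorem result (ι : Type u) [DecidableEq ι] [AddMonoid ι]
    (A : Type v) [CommRing A] (𝒜 : ι → AddSubgroup A) [GradedRing 𝒜] (I : Ideal A) :
    I.IsHomogeneous 𝒜 ↔
      ∃ ℬ : ι → AddSubgroup (A ⧸ I), Nonempty (GradedRing ℬ) ∧
        ∀ i : ι, (𝒜 i).map (Ideal.Quotient.mk I : A →+ A ⧸ I) ≤ ℬ i := by
  classical
  constructor
  · intro hI
    let ℬ : ι → AddSubgroup (A ⧸ I) := fun i => (𝒜 i).map (Ideal.Quotient.mk I : A →+ A ⧸ I)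
    haveI : SetLike.GradedMonoid ℬ :=
      { one_mem := ⟨1, SetLike.one_mem_graded 𝒜, by simp⟩
        mul_mem := by
          rintro i j _ _ ⟨a, ha, rfl⟩ ⟨b, hb, rfl⟩
          exact ⟨a * b, SetLike.mul_mem_graded ha hb, by simp⟩ }
    have hint : DirectSum.IsInternal ℬ := by
      refine ⟨?_, ?_⟩
      · rw [injective_iff_map_eq_zero]
        intro f hf
        have hl : ∀ i, ∃ a : A, a ∈ 𝒜 i ∧ Ideal.Quotient.mk I a = (f i : A ⧸ I) := by
          intro i
          obtain ⟨a, ha, hfa⟩ := (f i).2
          exact ⟨a, ha, hfa⟩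
        choose a ha hfa using hl
        rw [DirectSum.coeAddMonoidHom_eq_dfinsuppSum, DFinsupp.sum] at hf
        have hsum : (∑ i ∈ DFinsupp.support f, a i) ∈ I := by
          rw [← Ideal.Quotient.eq_zero_iff_mem, map_sum]
          simpa [hfa] using hf
        ext i
        by_cases hi : i ∈ DFinsupp.support f
        · have h1 := (Ideal.IsHomogeneous.mem_iff 𝒜 hI).1 hsum i
          rw [decompose_sum, DFinsupp.finsetSum_apply, AddSubmonoidClass.coe_finsetSum,
            Finset.sum_eq_single_of_mem i hi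
              (fun j _ hj => decompose_of_mem_ne 𝒜 (ha j) hj),
            decompose_of_mem_same 𝒜 (ha i)] at h1
          simpa [← hfa, Ideal.Quotient.eq_zero_iff_mem] using h1
        · simp only [DFinsupp.mem_support_iff, not_not] at hi
          simp [hi]
      · intro y
        obtain ⟨x, rfl⟩ := Ideal.Quotient.mk_surjective y
        induction x using DirectSum.Decomposition.inductionOn 𝒜 with
        | zero => exact ⟨0, by simp⟩
        | @homogeneous j m =>
          exact ⟨DirectSum.of (fun i => ℬ i) j ⟨Ideal.Quotient.mk I (m : A), ⟨m, m.2, rfl⟩⟩, by simp⟩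
        | add a b ha hb =>
          obtain ⟨u, hu⟩ := ha
          obtain ⟨v, hv⟩ := hb
          exact ⟨u + v, by simp [hu, hv]⟩
    letI := hint.chooseDecomposition
    exact ⟨ℬ, ⟨{ }⟩, fun i => le_rfl⟩
  · rintro ⟨ℬ, ⟨g⟩, hle⟩ i x hx
    rw [← Ideal.Quotient.eq_zero_iff_mem]
    have := decompose_map_apply 𝒜 ℬ (Ideal.Quotient.mk I : A →+ A ⧸ I)
      (fun j a ha => hle j ⟨a, ha, rfl⟩) x i
    simp only [AddMonoidHom.coe_coe] at this
    rw [← this, Ideal.Quotient.eq_zero_iff_mem.2 hx]
    simp

end Groth.Agent.S13125
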