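import Groth.Statements.S13126
import Mathlib.Algebra.Polynomial.RingDivision
import Mathlib.RingTheory.Ideal.Span
import Mathlib.Algebra.Polynomial.BigOperators

set_option autoImplicit false
universe u
open KumFam

namespace Groth.Agent.S13126

open Polynomial in
/-- Let R be a commutative ring, n a natural number which is a unit in R, and ζ ∈ R with ζ^n = 1 and 1 −
ζ^i a unit for 0 < i < n (a primitive n-th root of unity in the fibrewise sense: the powers ζ^0, …,
ζ^(n−1) are roots of X^n − 1 with pairwise unit differences; over an integral domain in which n is a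
unit this is the same as ζ having multiplicative order n). Then the R-algebra homomorphism R[X] →
(Fin n → R) sending a polynomial to its values at ζ^0, …, ζ^(n−1) is surjective and its kernel is
the ideal generated by X^n − 1; hence R[X]/(X^n − 1) ≅ R^n as R-algebras, i.e. the scheme of n-th
roots of unity over Spec R is the disjoint union of n copies of Spec R. (The published statement
asks that R contain a primitive n-th root of unity without defining the term; its Chinese-remainder
argument uses that the ideals (X − ζ^i), i < n, are pairwise comaximal, which is the unit-difference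
condition taken as the hypothesis here, whereas under the reading 'ζ has multiplicative order n'
alone the surjectivity fails over a product of two fields. The published statement also asserts that
the isomorphism respects the group-scheme structures of the n-th roots of unity and of the constant
group ℤ/n; this row does not state that.) -/
theorem result (R : Type u) [CommRing R]
    (n : ℕ) (hn : IsUnit (n : R)) (ζ : R) (hζ : ζ ^ n = 1)
    (hprim : ∀ i : ℕ, 0 < i → i < n → IsUnit (1 - ζ ^ i)) :
    Function.Surjective (AlgHom.pi (fun i : Fin n => Polynomial.aeval (R := R) (ζ ^ (i : ℕ)))) ∧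
      RingHom.ker (AlgHom.pi (fun i : Fin n => Polynomial.aeval (R := R) (ζ ^ (i : ℕ)))) =
        Ideal.span {(X ^ n - 1 : R[X])} := by
  classical
  set P := AlgHom.pi (fun i : Fin n => Polynomial.aeval (R := R) (ζ ^ (i : ℕ))) with hP
  have hP' : ∀ (f : R[X]) i, P f i = f.eval (ζ ^ ((i : Fin n) : ℕ)) := fun f i => by
    simp [hP, Polynomial.coe_aeval_eq_eval]
  have hζu : IsUnit ζ ∨ n = 0 := by
    rcases Nat.eq_zero_or_pos n with h | h
    · exact Or.inr h
    · exact Or.inl (IsUnit.of_pow_eq_one hζ h.ne')
  have hdiff : ∀ i j : Fin n, i ≠ j → IsUnit (ζ ^ (i : ℕ) - ζ ^ (j : ℕ)) := by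
    have aux : ∀ a b : ℕ, a < b → b < n → IsUnit (ζ ^ a - ζ ^ b) := by
      intro a b hab hb
      rw [show ζ ^ a - ζ ^ b = ζ ^ a * (1 - ζ ^ (b - a)) by rw [mul_sub, mul_one, ← pow_add, Nat.add_sub_cancel' hab.le]]
      exact ((hζu.resolve_right (by omega)).pow a).mul (hprim _ (by omega) (by omega))
    intro i j hij
    rcases Nat.lt_or_gt_of_ne (fun h => hij (Fin.ext h)) with h | h
    · exact aux _ _ h j.2
    · rw [← IsUnit.neg_iff, neg_sub]
      exact aux _ _ h i.2
  have hvan : ∀ (s : Finset (Fin n)) (f : R[X]), (∀ i ∈ s, f.eval (ζ ^ (i : ℕ)) = 0) →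
      (∏ i ∈ s, (X - C (ζ ^ (i : ℕ)))) ∣ f := by
    intro s
    induction s using Finset.induction_on with
    | empty => intro f _; simp
    | insert a s ha ih =>
      intro f hf
      obtain ⟨g, hg⟩ := Polynomial.dvd_iff_isRoot.mpr (hf a (Finset.mem_insert_self a s))
      rw [Finset.prod_insert ha, hg]
      refine mul_dvd_mul_left _ (ih g fun i hi => ?_)
      have := hf i (Finset.mem_insert_of_mem hi)
      rw [hg, eval_mul, eval_sub, eval_X, eval_C] at this
      exact ((hdiff i a fun e => ha (e ▸ hi)).mul_right_eq_zero).mp this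
  refine ⟨fun v => ⟨∑ i : Fin n, C (v i) * ∏ j ∈ Finset.univ.erase i,
      (X - C (ζ ^ (j : ℕ))) * C (Ring.inverse (ζ ^ (i : ℕ) - ζ ^ (j : ℕ))), ?_⟩, ?_⟩
  · funext l
    rw [hP', eval_finsetSum, Finset.sum_eq_single l]
    · rw [eval_mul, eval_C, eval_prod, Finset.prod_eq_one, mul_one]
      intro j hj
      simp only [eval_mul, eval_sub, eval_X, eval_C]
      exact Ring.mul_inverse_cancel _ (hdiff l j (Finset.ne_of_mem_erase hj).symm)
    · intro i _ hi
      rw [eval_mul, eval_prod, Finset.prod_eq_zero (Finset.mem_erase.mpr ⟨hi.symm, Finset.mem_univ l⟩), mul_zero]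
      simp
    · intro h; exact absurd (Finset.mem_univ l) h
  · cases subsingleton_or_nontrivial R with
    | inl _ => exact Subsingleton.elim _ _
    | inr _ =>
      have hn0 : 0 < n := Nat.pos_of_ne_zero fun h => by simp [h] at hn
      have hzero : ∀ i : Fin n, (X ^ n - 1 : R[X]).eval (ζ ^ (i : ℕ)) = 0 := fun i => by
        rw [eval_sub, eval_pow, eval_X, eval_one, ← pow_mul, mul_comm, pow_mul, hζ, one_pow, sub_self]
      have heq : (∏ i : Fin n, (X - C (ζ ^ (i : ℕ)))) = X ^ n - 1 := by
        obtain ⟨c, hc⟩ := hvan Finset.univ _ fun i _ => hzero i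
        have hm1 : (∏ i : Fin n, (X - C (ζ ^ (i : ℕ)))).Monic := monic_prod_of_monic _ _ fun i _ => monic_X_sub_C _
        have hm2 : (X ^ n - 1 : R[X]).Monic := by simpa using monic_X_pow_sub_C (1 : R) hn0.ne'
        have hcm : c.Monic := hm1.of_mul_monic_left (hc ▸ hm2)
        have hd1 : (∏ i : Fin n, (X - C (ζ ^ (i : ℕ)))).natDegree = n := by
          rw [Polynomial.natDegree_prod_of_monic _ _ (fun i _ => monic_X_sub_C _)]
          simp [natDegree_X_sub_C, -map_pow]
        have hd2 := congrArg natDegree hc
        rw [hm1.natDegree_mul hcm, hd1, show (X ^ n - 1 : R[X]).natDegree = n by simpa using natDegree_X_pow_sub_C (n := n) (r := (1 : R))] at hd2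
        rw [hc, eq_one_of_monic_natDegree_zero hcm (by omega), mul_one]
      refine le_antisymm (fun f hf => ?_) ((Ideal.span_singleton_le_iff_mem _).mpr ?_)
      · rw [Ideal.mem_span_singleton, ← heq]
        exact hvan _ _ fun i _ => (hP' f i).symm.trans (congrFun hf i)
      · exact funext fun i => (hP' _ i).trans (hzero i)

end Groth.Agent.S13126
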