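import Groth.Statements.S13127
import Groth.Agent.Lib.Morse.CubeRoot

set_option autoImplicit false
universe u
open KumFam

namespace Groth.Agent.S13127

open MvPowerSeries in
/-- Let R be a commutative ring of characteristic 2 and l0, l2, l4, s0, s2, s4, τ, lam, sig ∈ R with l4,
s4, lam, sig units, and let κ₁, κ₂ ∈ R satisfy s4² κ₁³ = sig² and l4² κ₂³ = lam² (cube roots of
sig²/s4² and lam²/l4²). In the power series ring R[[a, b, c]] (a = X 0, b = X 1, c = X 2) put F = c²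
+ s0² a³ b⁴ + s2² a³ b² + s4² a³ + l0² a⁴ b³ + l2² a² b³ + l4² b³ + τ² a³ b³ and F₀ = c² + sig² a³ +
lam² b³. Then some R-algebra automorphism of R[[a, b, c]] maps F to F₀; consequently R[[a, b,
c]]/(F) ≅ R[[a, b, c]]/(F₀). (In the published statement lam, sig are the representatives in the
ground field of the residues of l4, s4 at a rational point, so that F₀ is the equation of the
special fibre made constant; this row takes them to be arbitrary units.) -/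
theorem result (R : Type u) [CommRing R] [CharP R 2]
    (l0 l2 l4 s0 s2 s4 τ lam sig κ₁ κ₂ : R) (hl4 : IsUnit l4) (hs4 : IsUnit s4) (hlam : IsUnit lam)
    (hsig : IsUnit sig) (h₁ : s4 ^ 2 * κ₁ ^ 3 = sig ^ 2) (h₂ : l4 ^ 2 * κ₂ ^ 3 = lam ^ 2) :
    ∃ φ : MvPowerSeries (Fin 3) R ≃ₐ[R] MvPowerSeries (Fin 3) R,
      φ ((X 2 ^ 2 + C (s0 ^ 2) * X 0 ^ 3 * X 1 ^ 4 + C (s2 ^ 2) * X 0 ^ 3 * X 1 ^ 2 +
          C (s4 ^ 2) * X 0 ^ 3 + C (l0 ^ 2) * X 0 ^ 4 * X 1 ^ 3 + C (l2 ^ 2) * X 0 ^ 2 * X 1 ^ 3 +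
          C (l4 ^ 2) * X 1 ^ 3 + C (τ ^ 2) * X 0 ^ 3 * X 1 ^ 3 : MvPowerSeries (Fin 3) R)) =
        (X 2 ^ 2 + C (sig ^ 2) * X 0 ^ 3 + C (lam ^ 2) * X 1 ^ 3 : MvPowerSeries (Fin 3) R) := by
  have ord : ∀ (i : Fin 3) (f : MvPowerSeries (Fin 3) R), constantCoeff f = 0 →
      GrothLib.Morse.OrdGE 2 (X i * f) := fun i f hf => by
    refine (GrothLib.Morse.ordGE_X i).mul (a := 1) (b := 1) ?_
    intro e he
    obtain rfl : e = 0 := (Finsupp.degree_eq_zero_iff e).1 (by omega)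
    rwa [coeff_zero_eq_constantCoeff_apply]
  obtain ⟨k₁, hk₁⟩ : IsUnit κ₁ := by
    refine (isUnit_pow_iff (by norm_num : 3 ≠ 0)).1 (isUnit_of_mul_isUnit_right (x := s4 ^ 2) ?_)
    rw [h₁]; exact hsig.pow 2
  obtain ⟨k₂, hk₂⟩ : IsUnit κ₂ := by
    refine (isUnit_pow_iff (by norm_num : 3 ≠ 0)).1 (isUnit_of_mul_isUnit_right (x := l4 ^ 2) ?_)
    rw [h₂]; exact hlam.pow 2
  obtain ⟨i₁, hi₁⟩ := (hs4.pow 2).exists_left_inv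
  obtain ⟨i₂, hi₂⟩ := (hl4.pow 2).exists_left_inv
  let u : MvPowerSeries (Fin 3) R := C (s2 ^ 2) * X 1 ^ 2 + C (s0 ^ 2) * X 1 ^ 4 +
    C (τ ^ 2) * X 1 ^ 3 + C (l0 ^ 2) * X 0 * X 1 ^ 3
  let v : MvPowerSeries (Fin 3) R := C (l2 ^ 2) * X 0 ^ 2
  obtain ⟨q₁, hq₁, hq₁0⟩ := GrothLib.Morse.exists_cubeRoot (C i₁ * u) (by simp [u])
  obtain ⟨q₂, hq₂, hq₂0⟩ := GrothLib.Morse.exists_cubeRoot (C i₂ * v) (by simp [v])
  let a : Fin 3 → R := ![(k₁⁻¹ : Rˣ), (k₂⁻¹ : Rˣ), 1]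
  let g : Fin 3 → MvPowerSeries (Fin 3) R :=
    ![X 0 * (C ((k₁⁻¹ : Rˣ) : R) * q₁ - C ((k₁⁻¹ : Rˣ) : R)),
      X 1 * (C ((k₂⁻¹ : Rˣ) : R) * q₂ - C ((k₂⁻¹ : Rˣ) : R)), 0]
  obtain ⟨ψ, hψ⟩ := GrothLib.Morse.exists_affine_shift_equiv (a := a)
    (fun i => by fin_cases i <;> simp [a]) (g := g)
    (fun i => by
      fin_cases i
      · exact ord _ _ (by simp [hq₁0])
      · exact ord _ _ (by simp [hq₂0])
      · exact GrothLib.Morse.ordGE_of_zero _)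
  refine ⟨ψ.symm, ?_⟩
  rw [AlgEquiv.symm_apply_eq]
  have e0 : ψ (X 0) = X 0 * (C ((k₁⁻¹ : Rˣ) : R) * q₁) := by rw [hψ]; simp [a, g]; ring
  have e1 : ψ (X 1) = X 1 * (C ((k₂⁻¹ : Rˣ) : R) * q₂) := by rw [hψ]; simp [a, g]; ring
  have e2 : ψ (X 2) = X 2 := by rw [hψ]; simp [a, g]
  have hC : ∀ r : R, ψ (C r) = C r := fun r => ψ.commutes r
  have c₁ : sig ^ 2 * ((k₁⁻¹ : Rˣ) : R) ^ 3 = s4 ^ 2 := by
    rw [← h₁, ← hk₁, mul_assoc, ← mul_pow, Units.mul_inv, one_pow, mul_one]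
  have c₂ : lam ^ 2 * ((k₂⁻¹ : Rˣ) : R) ^ 3 = l4 ^ 2 := by
    rw [← h₂, ← hk₂, mul_assoc, ← mul_pow, Units.mul_inv, one_pow, mul_one]
  simp only [map_add, map_mul, map_pow ψ, e0, e1, e2, hC]
  simp only [mul_pow, hq₁, hq₂, ← map_pow]
  have m₁ : (C (sig ^ 2) : MvPowerSeries (Fin 3) R) * C (((k₁⁻¹ : Rˣ) : R) ^ 3) = C (s4 ^ 2) := by
    rw [← map_mul, c₁]
  have m₂ : (C (lam ^ 2) : MvPowerSeries (Fin 3) R) * C (((k₂⁻¹ : Rˣ) : R) ^ 3) = C (l4 ^ 2) := by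
    rw [← map_mul, c₂]
  have n₁ : (C (s4 ^ 2) : MvPowerSeries (Fin 3) R) * C i₁ = 1 := by
    rw [← map_mul, mul_comm, hi₁, map_one]
  have n₂ : (C (l4 ^ 2) : MvPowerSeries (Fin 3) R) * C i₂ = 1 := by
    rw [← map_mul, mul_comm, hi₂, map_one]
  linear_combination (-(X 0 ^ 3 * (1 + C i₁ * u))) * m₁ + (-(X 1 ^ 3 * (1 + C i₂ * v))) * m₂ +
    (-(X 0 ^ 3 * u)) * n₁ + (-(X 1 ^ 3 * v)) * n₂

end Groth.Agent.S13127
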