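import Groth.Statements.S13128
import Groth.Agent.Lib.Morse.CubeRoot

set_option autoImplicit false
universe u
open KumFam

namespace Groth.Agent.S13128

open MvPowerSeries in
/-- Let R be a commutative ring of characteristic 2, l0, l2, l4, s0, s2, s4, τ ∈ R with τ a unit, and α,
β ∈ R with l4² α⁴ + l2² α² + τ² α + l0² = 0 and s4² β⁴ + s2² β² + τ² β + s0² = 0. In characteristic
2 these relations give τ² α = (l4 α² + l2 α + l0)² and τ² β = (s4 β² + s2 β + s0)², so α = α′² and β
= β′² with α′ = (l4 α² + l2 α + l0)/τ and β′ = (s4 β² + s2 β + s0)/τ. In R[[a, b, c]] (a = X 0, b =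
X 1, c = X 2) put h = c² + τ² a b + (s4² b⁴ + s2² b²) a + (l4² a⁴ + l2² a²) b + l4² β a⁴ + l2² β a²
+ s4² α b⁴ + s2² α b²; this is the chart equation c² + τ² a b + (s4² b⁴ + s2² b² + s0²) a + (l4² a⁴
+ l2² a² + l0²) b after the substitution a ↦ a + α, b ↦ b + β, c ↦ c + τ α′ β′, which moves the
point (α, β, τ α′ β′) of that surface, where all partial derivatives vanish, to the origin. Then
some R-algebra automorphism of R[[a, b, c]] maps h to c² + a b; consequently R[[a, b, c]]/(h) ≅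
R[[a, b, c]]/(c² + a b), the completed local ring of an ordinary double point, constant over R. (The
published statement translates only a and b, so that its h carries the additional constant term τ² α
β; with that term h is a unit of R[[a, b, c]] whenever τ α β is a unit, for instance c² + a b + 1
over the field with two elements with l0 = s0 = τ = α = β = 1 and l2 = l4 = s2 = s4 = 0, and no ring
automorphism carries a unit to c² + a b. The published proof begins by shifting c by a polynomial in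
a, b whose constant term is τ α′ β′, a substitution of the polynomial ring which removes the term τ²
α β, and the rest of its argument takes place in R[[a, b, c]]; this row states the result for the
fully translated equation, which is what that argument proves.) -/
theorem result (R : Type u) [CommRing R] [CharP R 2]
    (l0 l2 l4 s0 s2 s4 τ α β : R) (hτ : IsUnit τ)
    (hα : l4 ^ 2 * α ^ 4 + l2 ^ 2 * α ^ 2 + τ ^ 2 * α + l0 ^ 2 = 0)
    (hβ : s4 ^ 2 * β ^ 4 + s2 ^ 2 * β ^ 2 + τ ^ 2 * β + s0 ^ 2 = 0) :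
    ∃ φ : MvPowerSeries (Fin 3) R ≃ₐ[R] MvPowerSeries (Fin 3) R,
      φ ((X 2 ^ 2 + C (τ ^ 2) * X 0 * X 1 + (C (s4 ^ 2) * X 1 ^ 4 + C (s2 ^ 2) * X 1 ^ 2) * X 0 +
          (C (l4 ^ 2) * X 0 ^ 4 + C (l2 ^ 2) * X 0 ^ 2) * X 1 + C (l4 ^ 2 * β) * X 0 ^ 4 +
          C (l2 ^ 2 * β) * X 0 ^ 2 + C (s4 ^ 2 * α) * X 1 ^ 4 + C (s2 ^ 2 * α) * X 1 ^ 2 :
          MvPowerSeries (Fin 3) R)) =
        (X 2 ^ 2 + X 0 * X 1 : MvPowerSeries (Fin 3) R) := by
  obtain ⟨t, ht⟩ := hτ.exists_left_inv
  let α' : R := (l4 * α ^ 2 + l2 * α + l0) * t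
  let β' : R := (s4 * β ^ 2 + s2 * β + s0) * t
  have h2 : (2 : R) = 0 := CharTwo.two_eq_zero
  have hα2 : α' ^ 2 = α := by
    simp only [α']
    linear_combination (t ^ 2) * hα + (-α * (t * τ + 1)) * ht +
      (t ^ 2 * (l4 * l2 * α ^ 3 + l4 * l0 * α ^ 2 + l2 * l0 * α) - α) * h2
  have hβ2 : β' ^ 2 = β := by
    simp only [β']
    linear_combination (t ^ 2) * hβ + (-β * (t * τ + 1)) * ht +
      (t ^ 2 * (s4 * s2 * β ^ 3 + s4 * s0 * β ^ 2 + s2 * s0 * β) - β) * h2
  let W : MvPowerSeries (Fin 3) R := X 1 * (C (s4 ^ 2) * X 1 ^ 2 + C (s2 ^ 2)) +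
    X 0 * (C (l4 ^ 2) * X 0 ^ 2 + C (l2 ^ 2))
  let P : MvPowerSeries (Fin 3) R := C β' * (C l4 * X 0 ^ 2 + C l2 * X 0) +
    C α' * (C s4 * X 1 ^ 2 + C s2 * X 1)
  let a : Fin 3 → R := ![τ ^ 2, 1, 1]
  have hW : GrothLib.Morse.OrdGE 1 W := ((GrothLib.Morse.ordGE_X 1).mul_right _).add
    ((GrothLib.Morse.ordGE_X 0).mul_right _)
  obtain ⟨φ, hφ⟩ := GrothLib.Morse.exists_affine_shift_equiv (a := a)
    (fun i => by fin_cases i <;> simp [a, hτ.pow 2]) (g := ![X 0 * W, 0, 0])
    (fun i => by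
      fin_cases i
      · exact (GrothLib.Morse.ordGE_X 0).mul (a := 1) (b := 1) hW
      · exact GrothLib.Morse.ordGE_of_zero _
      · exact GrothLib.Morse.ordGE_of_zero _)
  let v : Fin 3 → MvPowerSeries (Fin 3) R := ![X 0, X 1, X 2 + P]
  have hv : HasSubst v := hasSubst_of_constantCoeff_zero fun i => by
    fin_cases i <;> simp [v, P]
  have heC : ∀ r : R, substAlgHom (R := R) hv (C r) = C r := (substAlgHom (R := R) hv).commutes
  have he0 : substAlgHom (R := R) hv (X 0) = X 0 := substAlgHom_X hv 0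
  have he1 : substAlgHom (R := R) hv (X 1) = X 1 := substAlgHom_X hv 1
  have hP : substAlgHom (R := R) hv P = P := by
    simp only [P, map_add, map_mul, map_pow, he0, he1, heC]
  have h2' : (2 : MvPowerSeries (Fin 3) R) = 0 := by
    rw [← map_ofNat (C : R →+* MvPowerSeries (Fin 3) R) 2, h2, map_zero]
  have hvv : ∀ f, substAlgHom (R := R) hv (substAlgHom (R := R) hv f) = f := fun f => by
    rw [substAlgHom_apply hv, substAlgHom_apply hv, subst_comp_subst_apply hv hv]
    have e : (fun s => subst v (v s)) = MvPowerSeries.X := funext fun i => by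
      rw [← substAlgHom_apply hv]
      fin_cases i
      · exact he0
      · exact he1
      · change substAlgHom (R := R) hv (X 2 + P) = X 2
        rw [map_add, substAlgHom_X, hP]
        change X 2 + P + P = X 2
        linear_combination P * h2'
    rw [e, subst_self, id_eq]
  let σ : MvPowerSeries (Fin 3) R ≃ₐ[R] MvPowerSeries (Fin 3) R :=
    AlgEquiv.ofAlgHom (substAlgHom hv) (substAlgHom hv) (AlgHom.ext hvv) (AlgHom.ext hvv)
  refine ⟨(φ.trans σ).symm, ?_⟩
  rw [AlgEquiv.symm_apply_eq]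
  have hσ : ∀ i, σ (X i) = v i := fun i => substAlgHom_X hv i
  have hσC : ∀ r : R, σ (C r) = C r := fun r => σ.commutes r
  simp only [AlgEquiv.trans_apply, map_add, map_mul, map_pow φ, hφ]
  simp [a, W, P, v, hσ, hσC, map_pow σ, map_add, map_mul]
  have mα : (C α' : MvPowerSeries (Fin 3) R) ^ 2 = C α := by rw [← map_pow, hα2]
  have mβ : (C β' : MvPowerSeries (Fin 3) R) ^ 2 = C β := by rw [← map_pow, hβ2]
  linear_combination (-((C l4 * X 0 ^ 2 + C l2 * X 0) ^ 2)) * mβ +
    (-((C s4 * X 1 ^ 2 + C s2 * X 1) ^ 2)) * mα +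
    (-((C β' * (C l4 * X 0 ^ 2 + C l2 * X 0)) * (C α' * (C s4 * X 1 ^ 2 + C s2 * X 1))) -
      X 2 * (C β' * (C l4 * X 0 ^ 2 + C l2 * X 0) + C α' * (C s4 * X 1 ^ 2 + C s2 * X 1)) -
      C β * C l4 * C l2 * X 0 ^ 3 - C α * C s4 * C s2 * X 1 ^ 3) * h2' 

end Groth.Agent.S13128
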