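import Groth.Statements.S13129
import Groth.Agent.Lib.BiratEuler12.Rone
import Groth.Agent.Lib.RatSing29.SeqH1
import Groth.Agent.Lib.RedSmooth.Basic
import Groth.Agent.Lib.CycNorm12.Sheaf
-- import your own Groth.Agent.* helpers here

set_option autoImplicit false
universe u
open CategoryTheory CategoryTheory.Limits AlgebraicGeometry
open KumFam

namespace Groth.Agent.S13129

/-- Let k be an algebraically closed field, Y a proper normal surface over k (irreducible of dimension 2
with integrally closed local domains), X a proper smooth surface over k, and π : X → Y a k-morphism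
which restricts to an isomorphism over Y minus a closed point y and whose fibre over y is
one-dimensional (a resolution of the singularity (Y, y)). Then R¹π_* O_X = 0 (first higher direct
image of the underlying abelian sheaf) if and only if χ(X, O_X) = χ(Y, O_Y). -/
theorem result (k : Type u) [Field k] [IsAlgClosed k]
    (X Y : Scheme.{u}) [X.Over (Spec (CommRingCat.of k))] [Y.Over (Spec (CommRingCat.of k))]
    [IsProper (X ↘ Spec (CommRingCat.of k))] [IsProper (Y ↘ Spec (CommRingCat.of k))]
    [IrreducibleSpace X] [IrreducibleSpace Y] (hdX : topologicalKrullDim X = 2)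
    (hdY : topologicalKrullDim Y = 2) [Smooth (X ↘ Spec (CommRingCat.of k))]
    (hYn : Pi1.IsNormalScheme Y) (π : X ⟶ Y) [π.IsOver (Spec (CommRingCat.of k))]
    (y : Y) (hy : IsClosed ({y} : Set Y))
    (hiso : IsIso (π ∣_ (⟨({y} : Set Y)ᶜ, hy.isOpen_compl⟩ : Y.Opens)))
    (hfib : topologicalKrullDim ((fun x : X => π.base x) ⁻¹' ({y} : Set Y)) = 1) :
    IsZero ((Coh.RpushAb π 1).obj (Coh.toAb (Coh.structureModule X))) ↔
      Curv2.euler k X (Coh.structureModule X) = Curv2.euler k Y (Coh.structureModule Y) := by
  haveI : AlgebraicGeometry.IsReduced Y := GrothLib.CycNorm12.isReduced_of_normal hYn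
  haveI : AlgebraicGeometry.IsReduced X := GrothLib.RedSmooth.isReduced_of_smooth (X ↘ Spec (CommRingCat.of k))
  haveI : IsIntegral X := isIntegral_of_irreducibleSpace_of_isReduced X
  haveI : IsIntegral Y := isIntegral_of_irreducibleSpace_of_isReduced Y
  haveI := GrothLib.Euler.isNoetherian_of_proper (X := Y) k
  have hπ : π ≫ Y ↘ Spec (CommRingCat.of k) = X ↘ Spec (CommRingCat.of k) :=
    comp_over π (Spec (CommRingCat.of k))
  haveI : IsProper (π ≫ Y ↘ Spec (CommRingCat.of k)) := by rw [hπ]; infer_instance
  haveI : IsProper π := IsProper.of_comp π (Y ↘ Spec (CommRingCat.of k))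
  let U : Y.Opens := ⟨({y} : Set Y)ᶜ, hy.isOpen_compl⟩
  haveI : IsIso (π ∣_ U) := hiso
  have hfin : ((U : Set Y)ᶜ).Finite := by
    show (({y} : Set Y)ᶜᶜ).Finite
    rw [compl_compl]; exact Set.finite_singleton y
  have hne : (U : Set Y).Nonempty := by
    by_contra h
    rw [Set.not_nonempty_iff_eq_empty] at h
    haveI : Subsingleton Y := ⟨fun a b => by
      have hh : ∀ c : Y, c = y := fun c => by
        by_contra hc
        exact (Set.eq_empty_iff_forall_notMem.1 h c) hc
      rw [hh a, hh b]⟩
    haveI : Subsingleton (TopologicalSpace.IrreducibleCloseds Y) := ⟨fun A B => by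
      have hA : (A : Set Y) = Set.univ := Subsingleton.eq_univ_of_nonempty A.isIrreducible.nonempty
      have hB : (B : Set Y) = Set.univ := Subsingleton.eq_univ_of_nonempty B.isIrreducible.nonempty
      exact SetLike.coe_injective (hA.trans hB.symm)⟩
    have h0 : topologicalKrullDim Y ≤ 0 := Order.krullDim_nonpos_of_subsingleton
    rw [hdY] at h0
    norm_num at h0
  have hO : IsIso (ClSub.unitToPush π) := GrothLib.ZClosure.isIso_of_basis _ fun w O hw =>
    ⟨O, hw, le_rfl, by
      haveI := GrothLib.RatSing29.isIso_app_of_birational π (fun z => (hYn z).2) U hne hiso O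
      exact ConcreteCategory.bijective_of_isIso (π.app O)⟩
  exact GrothLib.BiratEuler12.rone_zero_iff k π hπ U hfin hdX hne hO


end Groth.Agent.S13129
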