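import Groth.Statements.S1313
import Groth.Agent.Lib.Thickening.Morphisms
import Groth.Agent.Lib.BlowUp.IdealComap
import Mathlib.RingTheory.Nakayama
-- import your own Groth.Agent.* helpers here

set_option autoImplicit false
universe u
open FlatMor

namespace Groth.Agent.S1313

open CategoryTheory CategoryTheory.Limits AlgebraicGeometry

open AlgebraicGeometry CategoryTheory Limits in
/-- Let Y ⟶ Y' be a thickening, let X be the base change to Y of a scheme X' over Y', and assume both X
⟶ Y and X' ⟶ Y' are locally of finite type. Then X ⟶ Y is a closed immersion if and only if X' ⟶ Y'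
is. -/
theorem result {X X' Y Y' : Scheme.{u}} (iX : X ⟶ X') (iY : Y ⟶ Y') (f : X ⟶ Y) (f' : X' ⟶ Y')
    (hY : MoreMor.IsThickening iY) (hc : IsPullback iX f f' iY) [LocallyOfFiniteType f] [LocallyOfFiniteType f'] :
    IsClosedImmersion f ↔ IsClosedImmersion f' := by
  have := hY.1
  have := hY.2
  refine ⟨fun _ => ?_, fun _ => MorphismProperty.of_isPullback (P := @IsClosedImmersion) hc ‹_›⟩
  have : IsClosedImmersion iX := MorphismProperty.of_isPullback hc.flip ‹_›
  have : Surjective iX := MorphismProperty.of_isPullback (P := @Surjective) hc.flip ‹_›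
  have hcl : IsClosedImmersion (iX ≫ f') := by rw [hc.w]; infer_instance
  have : IsIntegralHom f' :=
    (GrothLib.Thickening.isIntegralHom_comp_iff iX f').mp inferInstance
  have : IsFinite f' := (IsFinite.iff_isIntegralHom_and_locallyOfFiniteType f').mpr ⟨‹_›, ‹_›⟩
  refine isClosedImmersion_iff_isAffineHom.mpr ⟨inferInstance, fun U hU => ?_⟩
  let V : X'.affineOpens := ⟨f' ⁻¹ᵁ U, hU.preimage f'⟩
  let := (f'.app U).hom.toAlgebra
  have : Module.Finite Γ(Y', U) Γ(X', f' ⁻¹ᵁ U) := IsFinite.finite_app f' U hU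
  suffices h : LinearMap.range (Algebra.linearMap Γ(Y', U) Γ(X', f' ⁻¹ᵁ U)) = ⊤ from
    LinearMap.range_eq_top.mp h
  refine top_le_iff.mp (Submodule.le_of_le_smul_of_le_jacobson_bot (I := iY.ker.ideal ⟨U, hU⟩)
    Module.Finite.fg_top ?_ fun b _ => ?_)
  · refine (GrothLib.Thickening.le_nilradical_of_thickening iY _).trans fun a ha => ?_
    exact Ideal.radical_le_jacobson (I := ⊥) ha
  · obtain ⟨a, ha⟩ := (iX ≫ f').app_surjective U hU (iX.app _ b)
    refine Submodule.mem_sup.mpr ⟨f'.app U a, ⟨a, rfl⟩, b - f'.app U a, ?_, add_sub_cancel _ _⟩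
    rw [Ideal.smul_top_eq_map]
    have : b - f'.app U a ∈ iX.ker.ideal V := by
      rw [Scheme.Hom.ker_apply, RingHom.mem_ker, map_sub, ← ha]
      exact sub_self _
    rw [GrothLib.FSchSys.ker_eq_comap_of_isPullback hc,
      GrothLib.BlowUp.ideal_comap_eq_map _ f' ⟨U, hU⟩ V le_rfl, ← Scheme.Hom.app_eq_appLE] at this
    exact this

end Groth.Agent.S1313
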