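import Groth.Statements.S13130
import Mathlib.RingTheory.IntegralClosure.IsIntegralClosure.Basic
import Mathlib.Algebra.MonoidAlgebra.Basic
import Mathlib.GroupTheory.Torsion

set_option autoImplicit false
universe u v
open KumFam

namespace Groth.Agent.S13130

/-- Let R be a nontrivial commutative ring and M a commutative group, with group algebra R[M], the
coordinate ring of the diagonalizable group scheme D(M) over Spec R. Then D(M) is integral over Spec
R, i.e. R[M] is an integral R-algebra, if and only if M is a torsion group. (The published statement
is over an arbitrary base scheme; the question is local and this row is the affine form, with R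
nontrivial so that the elements of M are R-linearly independent.) -/
theorem result (R : Type u) [CommRing R] [Nontrivial R]
    (M : Type v) [CommGroup M] :
    Algebra.IsIntegral R (MonoidAlgebra R M) ↔ IsMulTorsion M := by
  classical
  constructor
  · intro h m
    by_contra hm
    obtain ⟨f, hmon, hf⟩ := h.isIntegral (MonoidAlgebra.single m (1 : R))
    have hinj : Function.Injective fun i : ℕ => m ^ i := injective_pow_iff_not_isOfFinOrder.mpr hm
    rw [← Polynomial.aeval_def, Polynomial.aeval_eq_sum_range] at hf
    simp only [MonoidAlgebra.single_pow, one_pow, MonoidAlgebra.smul_single', mul_one] at hf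
    have := congrArg (fun z => z.coeff (m ^ f.natDegree)) hf
    simp only [MonoidAlgebra.coeff_sum, Finset.sum_apply', MonoidAlgebra.coeff_single, MonoidAlgebra.coeff_zero,
      Finsupp.zero_apply] at this
    rw [Finset.sum_eq_single f.natDegree (fun i _ hi => Finsupp.single_eq_of_ne fun h => hi (hinj h).symm)
      (fun h => absurd (Finset.self_mem_range_succ _) h), Finsupp.single_eq_same, hmon.coeff_natDegree] at this
    exact one_ne_zero this
  · intro h
    refine ⟨fun z => ?_⟩
    induction z using MonoidAlgebra.induction_linear with
    | zero => exact isIntegral_zero
    | add a b ha hb => exact ha.add hb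
    | single m r =>
      have hs : IsIntegral R (MonoidAlgebra.single m (1 : R)) := by
        obtain ⟨n, hn, hmn⟩ := (h m).exists_pow_eq_one
        refine IsIntegral.of_pow hn ?_
        rw [MonoidAlgebra.single_pow, one_pow, hmn, ← MonoidAlgebra.one_def]
        exact isIntegral_one
      have := hs.smul r
      rwa [MonoidAlgebra.smul_single', mul_one] at this

end Groth.Agent.S13130
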