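import Groth.Statements.S13131
import Mathlib.Topology.LocallyConstant.Basic
import Mathlib.AlgebraicGeometry.Limits

set_option autoImplicit false
universe u
open CategoryTheory CategoryTheory.Limits AlgebraicGeometry
open KumFam

namespace Groth.Agent.S13131

/-- Let S be a scheme, M a set and p : T → S a scheme over S. The S-morphisms T → ∐_{m ∈ M} S (the
constant S-scheme on M, with its structure map the codiagonal) are in bijection with the locally
constant maps T → M, a morphism f corresponding to the function sending t to the index of the copy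
of S containing f(t). (In the published statement M is a group and ∐_M S the constant group scheme;
the group structures play no role in this description of T-points.) -/
theorem result (S : Scheme.{u}) (M : Type u)
    (T : Scheme.{u}) (p : T ⟶ S) :
    ∃ e : {f : T ⟶ ∐ (fun _ : M => S) // f ≫ Sigma.desc (fun _ : M => 𝟙 S) = p} ≃
        LocallyConstant T M,
      ∀ (f : {f : T ⟶ ∐ (fun _ : M => S) // f ≫ Sigma.desc (fun _ : M => 𝟙 S) = p}) (t : T),
        e f t = ((sigmaMk (fun _ : M => S)).symm (f.1.base t)).1 := by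
  classical
  let D := fun _ : M => S
  let idx : (f : T ⟶ ∐ D) → T → M := fun f t => ((sigmaMk D).symm (f.base t)).1
  have hmem : ∀ (f : T ⟶ ∐ D) (t : T) (m : M), idx f t = m ↔ f.base t ∈ (Sigma.ι D m).opensRange := by
    intro f t m
    constructor
    · rintro rfl
      refine ⟨((sigmaMk D).symm (f.base t)).2, ?_⟩
      have h := sigmaMk_mk D ((sigmaMk D).symm (f.base t)).1 ((sigmaMk D).symm (f.base t)).2
      rw [Sigma.eta, Homeomorph.apply_symm_apply] at h
      exact h.symm
    · rintro ⟨y, hy⟩
      have h := sigmaMk_mk D m y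
      change ((sigmaMk D).symm (f.base t)).1 = m
      rw [← hy, ← h, Homeomorph.symm_apply_apply]
  have hlc : ∀ f : T ⟶ ∐ D, IsLocallyConstant (idx f) := fun f => by
    refine IsLocallyConstant.iff_isOpen_fiber.2 fun m => ?_
    have : idx f ⁻¹' {m} = f.base ⁻¹' (Sigma.ι D m).opensRange := by
      ext t; exact hmem f t m
    rw [this]
    exact (Sigma.ι D m).opensRange.isOpen.preimage f.base.hom.continuous
  let U : LocallyConstant T M → M → T.Opens := fun g m => ⟨g ⁻¹' {m}, g.isLocallyConstant.isOpen_fiber m⟩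
  have hcolim : ∀ g, Nonempty (IsColimit (Cofan.mk T fun m => (U g m).ι)) := fun g => by
    refine nonempty_isColimit_cofanMk_of _ (top_le_iff.1 fun t _ => ?_) fun i j hij => ?_
    · simp only [Scheme.Opens.opensRange_ι, TopologicalSpace.Opens.mem_iSup]
      exact ⟨g t, rfl⟩
    · simp only [Function.onFun, Scheme.Opens.opensRange_ι]
      rw [disjoint_iff, eq_bot_iff]
      rintro t ⟨h1, h2⟩
      exact (hij (h1.symm.trans h2)).elim
  let F : {f : T ⟶ ∐ D // f ≫ Sigma.desc (fun _ : M => 𝟙 S) = p} → LocallyConstant T M :=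
    fun f => ⟨idx f.1, hlc f.1⟩
  have hF : Function.Bijective F := by
    constructor
    · rintro ⟨f, hf⟩ ⟨f', hf'⟩ h
      have key : ∀ (f : T ⟶ ∐ D), f ≫ Sigma.desc (fun _ : M => 𝟙 S) = p → ∀ (g : LocallyConstant T M),
          (∀ t, idx f t = g t) → ∀ m, (U g m).ι ≫ f = ((U g m).ι ≫ p) ≫ Sigma.ι D m := by
        intro f hf g hg m
        have hr : Set.range ((U g m).ι ≫ f) ⊆ Set.range (Sigma.ι D m) := by
          rintro _ ⟨x, rfl⟩
          exact (hmem f _ m).1 ((hg _).trans x.2)
        have h1 := IsOpenImmersion.lift_fac (Sigma.ι D m) _ hr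
        have h2 : IsOpenImmersion.lift (Sigma.ι D m) _ hr = (U g m).ι ≫ p := by
          rw [← hf]
          conv_rhs => rw [← Category.assoc, ← h1, Category.assoc]
          simp [D]
        rw [← h2, h1]
      refine Subtype.ext (Cofan.IsColimit.hom_ext (hcolim (F ⟨f, hf⟩)).some _ _ fun m => ?_)
      refine (key f hf (F ⟨f, hf⟩) (fun _ => rfl) m).trans (key f' hf' (F ⟨f, hf⟩) (fun t => ?_) m).symm
      exact (LocallyConstant.congr_fun h t).symm
    · intro g
      let f : T ⟶ ∐ D := Cofan.IsColimit.desc (hcolim g).some fun m => ((U g m).ι ≫ p) ≫ Sigma.ι D m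
      have hfm : ∀ m, (U g m).ι ≫ f = ((U g m).ι ≫ p) ≫ Sigma.ι D m := fun m =>
        Cofan.IsColimit.fac (hcolim g).some _ m
      refine ⟨⟨f, Cofan.IsColimit.hom_ext (hcolim g).some _ _ fun m => ?_⟩, LocallyConstant.ext fun t => ?_⟩
      · change (U g m).ι ≫ f ≫ _ = (U g m).ι ≫ p
        rw [← Category.assoc, hfm, Category.assoc]
        simp [D]
      · refine (hmem f t (g t)).2 ⟨((U g (g t)).ι ≫ p).base ⟨t, rfl⟩, ?_⟩
        have := congrArg (fun φ : ((U g (g t)) : Scheme) ⟶ ∐ D => φ.base ⟨t, rfl⟩) (hfm (g t))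
        exact this.symm
  exact ⟨Equiv.ofBijective F hF, fun _ _ => rfl⟩


end Groth.Agent.S13131
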