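import Groth.Statements.S13132
import Mathlib
import Groth.Agent.Lib.ArtinReg.Basic

set_option autoImplicit false
universe u v
open CAlg

namespace Groth.Agent.S13132

/-- Let A' be an Artinian local ring, I a proper ideal of A' and S' a flat A'-algebra. An element f' of
S' is a non-zero-divisor exactly when its image in S'/IS' is one; and when f' is a non-zero-divisor,
the quotient S'/(f') is flat over A'. (The published statement is for local Artinian algebras with a
fixed residue field over a ring of Witt vectors and a surjection between two of them; the argument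
uses only that A' is Artinian local and I is a proper ideal, which is the form taken here.) -/
theorem result
    {A' : Type u} [CommRing A'] [IsArtinianRing A'] [IsLocalRing A'] (I : Ideal A') (hI : I ≠ ⊤)
    {S' : Type v} [CommRing S'] [Algebra A' S'] [Module.Flat A' S'] (f' : S') :
    (f' ∈ nonZeroDivisors S' ↔
      Ideal.Quotient.mk (I.map (algebraMap A' S')) f' ∈ nonZeroDivisors (S' ⧸ I.map (algebraMap A' S'))) ∧
    (f' ∈ nonZeroDivisors S' → Module.Flat A' (S' ⧸ Ideal.span {f'})) := by
  let J := I.map (algebraMap A' S')
  have e' : I.map (algebraMap A' S') • (⊤ : Submodule S' S') = J := by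
    rw [smul_eq_mul, Ideal.mul_top]
  have h1 : f' ∈ nonZeroDivisors S' ↔ RingTheory.Sequence.IsWeaklyRegular S' [f'] := by
    rw [RingTheory.Sequence.isWeaklyRegular_singleton_iff, mem_nonZeroDivisors_iff_right,
      isSMulRegular_iff_right_eq_zero_of_smul]
    exact forall_congr' fun x => by rw [smul_eq_mul, mul_comm]
  have h2 : Ideal.Quotient.mk J f' ∈ nonZeroDivisors (S' ⧸ J) ↔
      RingTheory.Sequence.IsWeaklyRegular (S' ⧸ J) [f'] := by
    rw [RingTheory.Sequence.isWeaklyRegular_singleton_iff, mem_nonZeroDivisors_iff_right,
      isSMulRegular_iff_right_eq_zero_of_smul]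
    exact forall_congr' fun x => by rw [Algebra.smul_def, Ideal.Quotient.algebraMap_eq, mul_comm]
  refine ⟨?_, fun hf => ?_⟩
  · rw [h1, h2, GrothLib.ArtinReg.isWeaklyRegular_iff I hI [f'] S']
    exact (Submodule.quotEquivOfEq _ _ e').isWeaklyRegular_congr _
  · haveI := GrothLib.ArtinReg.flat_quotient (A := A') [f'] S' (h1.1 hf)
    refine Module.Flat.of_linearEquiv (M := S' ⧸ Ideal.ofList [f'] • (⊤ : Submodule S' S'))
      ((Submodule.quotEquivOfEq _ _ ?_).restrictScalars A')
    rw [smul_eq_mul, Ideal.mul_top, Ideal.ofList_singleton]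

end Groth.Agent.S13132
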