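import Groth.Statements.S13133
import Groth.Agent.Lib.ArtinReg.Basic
-- import your own Groth.Agent.* helpers here

set_option autoImplicit false
universe u v
open CAlg

namespace Groth.Agent.S13133

/-- Let A' be an Artinian local ring, I a proper ideal of A', S' a flat A'-algebra and f'_1, …, f'_n
elements of S' with n ≥ 1. A family f'_1, …, f'_n in S' is a regular sequence exactly when its
reduction modulo I·S' is a regular sequence of S'/IS'. (Regular sequences are defined in the
published text over Noetherian rings; this row does not assume S' Noetherian, which the argument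
does not use. The published statement is for a surjection of local Artinian algebras with a fixed
residue field over a ring of Witt vectors; only the Artinian local base and the proper ideal are
used, which is the form taken here.) -/
theorem result
    {A' : Type u} [CommRing A'] [IsArtinianRing A'] [IsLocalRing A'] (I : Ideal A') (hI : I ≠ ⊤)
    {S' : Type v} [CommRing S'] [Algebra A' S'] [Module.Flat A' S'] {n : ℕ} (hn : 1 ≤ n)
    (f' : Fin n → S') :
    RingTheory.Sequence.IsRegular S' (List.ofFn f') ↔
      RingTheory.Sequence.IsRegular (S' ⧸ I.map (algebraMap A' S'))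
        (List.ofFn fun i => Ideal.Quotient.mk (I.map (algebraMap A' S')) (f' i)) := by
  let J := I.map (algebraMap A' S')
  have hw : RingTheory.Sequence.IsWeaklyRegular S' (List.ofFn f') ↔
      RingTheory.Sequence.IsWeaklyRegular (S' ⧸ J) (List.ofFn fun i => Ideal.Quotient.mk J (f' i)) := by
    have e : (List.ofFn fun i => Ideal.Quotient.mk J (f' i)) =
        (List.ofFn f').map (algebraMap S' (S' ⧸ J)) := by
      rw [List.map_ofFn]; rfl
    rw [e, RingTheory.Sequence.isWeaklyRegular_map_algebraMap_iff,
      GrothLib.ArtinReg.isWeaklyRegular_iff I hI (List.ofFn f') S']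
    have e' : I.map (algebraMap A' S') • (⊤ : Submodule S' S') = J := by
      rw [smul_eq_mul, Ideal.mul_top]
    exact (Submodule.quotEquivOfEq _ _ e').isWeaklyRegular_congr _
  rw [RingTheory.Sequence.isRegular_iff, RingTheory.Sequence.isRegular_iff, hw]
  refine and_congr_right fun _ => ?_
  obtain ⟨k, hk⟩ : IsNilpotent (IsLocalRing.maximalIdeal A') := by
    rw [← IsLocalRing.jacobson_eq_maximalIdeal (⊥ : Ideal A') bot_ne_top]
    exact IsArtinianRing.isNilpotent_jacobson_bot
  have hJ : J ^ k = ⊥ := by
    rw [← Ideal.map_pow, eq_bot_iff, ← Ideal.map_bot (f := algebraMap A' S'), ← Ideal.zero_eq_bot, ← hk]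
    exact Ideal.map_mono (Ideal.pow_right_mono (IsLocalRing.le_maximalIdeal hI) k)
  have e3 : Ideal.ofList (List.ofFn fun i => Ideal.Quotient.mk (I.map (algebraMap A' S')) (f' i)) =
      (Ideal.ofList (List.ofFn f')).map (Ideal.Quotient.mk J) := by
    rw [Ideal.map_ofList, List.map_ofFn]; rfl
  simp only [smul_eq_mul, Ideal.mul_top, ne_eq, e3]
  rw [not_iff_not]
  refine ⟨fun h => by rw [← h, Ideal.map_top], fun h => ?_⟩
  have h2 : Ideal.ofList (List.ofFn f') ⊔ J = ⊤ := by
    have := congrArg (Ideal.comap (Ideal.Quotient.mk J)) h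
    rw [Ideal.comap_top, Ideal.comap_map_of_surjective _ Ideal.Quotient.mk_surjective,
      ← RingHom.ker_eq_comap_bot, Ideal.mk_ker] at this
    exact this.symm
  rw [eq_comm, Ideal.eq_top_iff_one]
  obtain ⟨a, ha, b, hb, hab⟩ := Submodule.mem_sup.1 ((Ideal.eq_top_iff_one _).1 h2)
  have hb' : b ^ k = 0 := by
    rw [← Ideal.mem_bot, ← hJ]; exact Ideal.pow_mem_pow hb k
  have hu : IsUnit a := by
    have : a = 1 - b := by rw [← hab]; ring
    exact this ▸ (IsNilpotent.mk b k hb').isUnit_one_sub
  rw [← Ideal.eq_top_iff_one]
  exact Ideal.eq_top_of_isUnit_mem _ ha hu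

end Groth.Agent.S13133
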