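import Groth.Statements.S13134
import Mathlib

set_option autoImplicit false
universe u v
open CAlg

namespace Groth.Agent.S13134

/-- Let A' be an Artinian local ring, I a proper ideal, A = A'/I and f_1, …, f_m ∈ A[x_1, …, x_n]. Every
flat A'-algebra B' equipped with a surjection π onto A[x]/(f_1, …, f_m) with kernel I·B', compatible
with A' → A, is a quotient of A'[x_1, …, x_n] by the ideal generated by some lifts f'_1, …, f'_m of
the f_i, compatibly with π and with reduction of polynomials modulo I. (The published statement is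
for a surjection of local Artinian algebras with a fixed residue field over a ring of Witt vectors;
only the Artinian local base and the proper ideal are used, which is the form taken here.) -/
theorem result
    {A' : Type u} [CommRing A'] [IsArtinianRing A'] [IsLocalRing A'] (I : Ideal A') (hI : I ≠ ⊤)
    {n m : ℕ} (f : Fin m → MvPolynomial (Fin n) (A' ⧸ I))
    {B' : Type v} [CommRing B'] [Algebra A' B'] [Module.Flat A' B']
    (π : B' →+* MvPolynomial (Fin n) (A' ⧸ I) ⧸ Ideal.span (Set.range f))
    (hπ : Function.Surjective π) (hker : RingHom.ker π = I.map (algebraMap A' B'))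
    (hcomp : π.comp (algebraMap A' B') =
      ((Ideal.Quotient.mk (Ideal.span (Set.range f))).comp MvPolynomial.C).comp (Ideal.Quotient.mk I)) :
    ∃ (f' : Fin m → MvPolynomial (Fin n) A') (ψ : MvPolynomial (Fin n) A' →ₐ[A'] B'),
      (∀ i, MvPolynomial.map (Ideal.Quotient.mk I) (f' i) = f i) ∧
      Function.Surjective ψ ∧ RingHom.ker ψ.toRingHom = Ideal.span (Set.range f') ∧
      ∀ q, π (ψ q) = Ideal.Quotient.mk (Ideal.span (Set.range f)) (MvPolynomial.map (Ideal.Quotient.mk I) q) := by
  classical
  let φ := MvPolynomial.map (σ := Fin n) (Ideal.Quotient.mk I)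
  have hφ : Function.Surjective φ := MvPolynomial.map_surjective _ Ideal.Quotient.mk_surjective
  have hφker : RingHom.ker φ = I.map (algebraMap A' (MvPolynomial (Fin n) A')) := by
    rw [MvPolynomial.ker_map, Ideal.mk_ker]; rfl
  obtain ⟨c, hc⟩ : ∃ c : ℕ, I ^ c = ⊥ := by
    obtain ⟨c, hc⟩ := IsArtinianRing.isNilpotent_jacobson_bot (R := A')
    rw [IsLocalRing.jacobson_eq_maximalIdeal ⊥ bot_ne_top] at hc
    exact ⟨c, eq_bot_iff.mpr ((Ideal.pow_right_mono (IsLocalRing.le_maximalIdeal hI) c).trans hc.le)⟩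
  choose xl hxl using fun j : Fin n => hπ (Ideal.Quotient.mk (Ideal.span (Set.range f)) (MvPolynomial.X j))
  let ψ : MvPolynomial (Fin n) A' →ₐ[A'] B' := MvPolynomial.aeval xl
  have hπψ : ∀ q, π (ψ q) = Ideal.Quotient.mk (Ideal.span (Set.range f)) (φ q) := by
    intro q
    induction q using MvPolynomial.induction_on with
    | C a =>
      rw [← MvPolynomial.algebraMap_eq, AlgHom.commutes, MvPolynomial.algebraMap_eq, MvPolynomial.map_C]
      exact DFunLike.congr_fun hcomp a
    | add p q hp hq => simp only [map_add, hp, hq]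
    | mul_X p i hp =>
      rw [map_mul, map_mul, hp, map_mul φ, map_mul, MvPolynomial.map_X, MvPolynomial.aeval_X, hxl]
  -- surjectivity of ψ
  have hone : ∀ b : B', ∃ q, b - ψ q ∈ I.map (algebraMap A' B') := fun b => by
    obtain ⟨p, hp⟩ := Ideal.Quotient.mk_surjective (π b)
    obtain ⟨q, rfl⟩ := hφ p
    exact ⟨q, by rw [← hker, RingHom.mem_ker, map_sub, hπψ, hp, sub_self]⟩
  have hψs : Function.Surjective ψ := by
    have key : ∀ j : ℕ, ∀ b : B', ∃ q, b - ψ q ∈ (I ^ j).map (algebraMap A' B') := by
      intro j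
      induction j with
      | zero => intro b; exact ⟨0, by rw [pow_zero, Ideal.one_eq_top, Ideal.map_top]; trivial⟩
      | succ j ih =>
        intro b
        obtain ⟨q, hq⟩ := ih b
        suffices ∀ y ∈ (I ^ j).map (algebraMap A' B'),
            ∃ q', y - ψ q' ∈ (I ^ (j + 1)).map (algebraMap A' B') by
          obtain ⟨q', hq'⟩ := this _ hq
          exact ⟨q + q', by rwa [map_add, ← sub_sub]⟩
        intro y hy
        induction hy using Submodule.span_induction with
        | zero => exact ⟨0, by simp⟩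
        | add y z _ _ hy hz =>
          obtain ⟨p, hp⟩ := hy
          obtain ⟨r, hr⟩ := hz
          exact ⟨p + r, by rw [map_add, add_sub_add_comm]; exact add_mem hp hr⟩
        | smul r y _ hy =>
          obtain ⟨p, hp⟩ := hy
          obtain ⟨q0, hq0⟩ := hone r
          refine ⟨q0 * p, ?_⟩
          rw [smul_eq_mul, map_mul,
            show r * y - ψ q0 * ψ p = (r - ψ q0) * y + ψ q0 * (y - ψ p) by ring]
          refine add_mem ?_ (Ideal.mul_mem_left _ _ hp)
          rw [pow_succ', Ideal.map_mul]
          exact Ideal.mul_mem_mul hq0 (by assumption)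
        | mem y hy =>
          obtain ⟨a, ha, rfl⟩ := hy
          exact ⟨algebraMap A' _ a, by rw [AlgHom.commutes, sub_self]; exact zero_mem _⟩
    intro b
    obtain ⟨q, hq⟩ := key c b
    rw [hc, Ideal.map_bot, Ideal.mem_bot, sub_eq_zero] at hq
    exact ⟨q, hq.symm⟩
  -- lifts of the equations
  have hlift : ∀ i, ∃ g, φ g = f i ∧ ψ g = 0 := fun i => by
    obtain ⟨g, hg⟩ := hφ (f i)
    have h1 : ψ g ∈ (RingHom.ker φ).map ψ.toRingHom := by
      rw [hφker, Ideal.map_map, show ψ.toRingHom.comp (algebraMap A' _) = algebraMap A' B' from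
        ψ.comp_algebraMap, ← hker, RingHom.mem_ker, hπψ, hg, Ideal.Quotient.eq_zero_iff_mem]
      exact Ideal.subset_span ⟨i, rfl⟩
    obtain ⟨w, hw, hwe⟩ := (Ideal.mem_map_iff_of_surjective _ hψs).mp h1
    exact ⟨g - w, by rw [map_sub, RingHom.mem_ker.mp hw, hg, sub_zero],
      by rw [map_sub]; exact sub_eq_zero.mpr hwe.symm⟩
  choose f' hf'1 hf'2 using hlift
  refine ⟨f', ψ, hf'1, hψs, ?_, hπψ⟩
  set K := RingHom.ker ψ.toRingHom with hK
  set F := Ideal.span (Set.range f') with hF
  have hFK : F ≤ K := Ideal.span_le.mpr (by rintro _ ⟨i, rfl⟩; exact hf'2 i)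
  set IS := I.map (algebraMap A' (MvPolynomial (Fin n) A')) with hIS
  have hstep1 : ∀ q ∈ K, ∃ a ∈ F, q - a ∈ IS := fun q hq => by
    have h1 : φ q ∈ Ideal.span (Set.range f) := by
      rw [← Ideal.Quotient.eq_zero_iff_mem, ← hπψ, show ψ q = 0 from hq, map_zero]
    have h2 : Ideal.span (Set.range f) = F.map φ := by
      rw [hF, Ideal.map_span, ← Set.range_comp, show φ ∘ f' = f from funext hf'1]
    rw [h2] at h1
    obtain ⟨a, ha, hae⟩ := (Ideal.mem_map_iff_of_surjective _ hφ).mp h1
    exact ⟨a, ha, by rw [← hφker, RingHom.mem_ker, map_sub, hae, sub_self]⟩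
  have hflat : ∀ b ∈ IS, b ∈ K → b ∈ IS * K := by
    intro b hb hbK
    have hb' : b ∈ (Submodule.restrictScalars A' IS) := hb
    rw [hIS, ← Ideal.smul_top_eq_map] at hb'
    rw [← Submodule.span_univ, ← Set.range_id, Submodule.mem_ideal_smul_span_iff_exists_sum] at hb'
    obtain ⟨a, ha, hab⟩ := hb'
    have hab' : ∑ l : a.support, a l.1 • l.1 = b := by
      rw [← hab, Finsupp.sum]
      exact Finset.sum_coe_sort a.support fun x => a x • x
    have hrel : ∑ l : a.support, a l.1 • ψ l.1 = 0 := by
      simp only [← map_smul, ← map_sum, hab']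
      exact hbK
    obtain ⟨k, α, y, hxy, hα⟩ := Module.Flat.isTrivialRelation_of_sum_smul_eq_zero (R := A') (M := B') hrel
    choose z hz using fun t => hψs (y t)
    have hb2 : b = ∑ l : a.support, a l.1 • (l.1 - ∑ t, α l t • z t) := by
      simp only [smul_sub, Finset.sum_sub_distrib, hab', Finset.smul_sum, smul_smul]
      rw [Finset.sum_comm]
      simp only [← Finset.sum_smul, hα, zero_smul, Finset.sum_const_zero, sub_zero]
    rw [hb2]
    refine Submodule.sum_mem _ fun l _ => ?_
    rw [Algebra.smul_def]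
    refine Ideal.mul_mem_mul (Ideal.mem_map_of_mem _ (ha _)) ?_
    show ψ (l.1 - ∑ t, α l t • z t) = 0
    simp only [map_sub, map_sum, map_smul, hz, ← hxy, sub_self]
  refine le_antisymm ?_ hFK
  have hiter : ∀ j : ℕ, K ≤ F ⊔ IS ^ j * K := by
    intro j
    induction j with
    | zero => rw [pow_zero, one_mul]; exact le_sup_right
    | succ j ih =>
      refine ih.trans (sup_le le_sup_left ?_)
      refine (Ideal.mul_mono_right ?_ : IS ^ j * K ≤ IS ^ j * (F ⊔ IS * K)).trans ?_
      · intro q hq
        obtain ⟨a, ha, hqa⟩ := hstep1 q hq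
        rw [← sub_add_cancel q a, add_comm]
        exact Submodule.add_mem_sup ha (hflat _ hqa (sub_mem hq (hFK ha)))
      · rw [Ideal.mul_sup, pow_succ, mul_assoc]
        exact sup_le_sup Ideal.mul_le_right le_rfl
  refine (hiter c).trans (sup_le le_rfl ?_)
  rw [hIS, ← Ideal.map_pow, hc, Ideal.map_bot, Ideal.bot_mul]
  exact bot_le

end Groth.Agent.S13134
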