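import Groth.Statements.S13135
import Groth.Agent.Lib.ArtinReg.Basic
-- import your own Groth.Agent.* helpers here

set_option autoImplicit false
universe u
open CAlg

namespace Groth.Agent.S13135

/-- Let A' be an Artinian local ring, I a proper ideal, A = A'/I and f_1, …, f_m a regular sequence in
A[x_1, …, x_n]. For every choice of lifts f'_1, …, f'_m in A'[x_1, …, x_n] the quotient A'[x]/(f'_1,
…, f'_m) is flat over A' (so it is a flat lifting of A[x]/(f_1, …, f_m)). (The published statement
is for a surjection of local Artinian algebras with a fixed residue field over a ring of Witt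
vectors; only the Artinian local base and the proper ideal are used, which is the form taken here.) -/
theorem result
    {A' : Type u} [CommRing A'] [IsArtinianRing A'] [IsLocalRing A'] (I : Ideal A') (hI : I ≠ ⊤)
    {n m : ℕ} (f : Fin m → MvPolynomial (Fin n) (A' ⧸ I))
    (hreg : RingTheory.Sequence.IsRegular (MvPolynomial (Fin n) (A' ⧸ I)) (List.ofFn f))
    (f' : Fin m → MvPolynomial (Fin n) A') (hf' : ∀ i, MvPolynomial.map (Ideal.Quotient.mk I) (f' i) = f i) :
    Module.Flat A' (MvPolynomial (Fin n) A' ⧸ Ideal.span (Set.range f')) := by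
  let S := MvPolynomial (Fin n) A'
  let J := I.map (algebraMap A' S)
  let φ := MvPolynomial.map (σ := Fin n) (Ideal.Quotient.mk I)
  have hφ : Function.Surjective φ := MvPolynomial.map_surjective _ Ideal.Quotient.mk_surjective
  have hker : RingHom.ker φ = J := by
    rw [MvPolynomial.ker_map, Ideal.mk_ker]; rfl
  let e : S ⧸ J ≃+* MvPolynomial (Fin n) (A' ⧸ I) :=
    (Ideal.quotEquivOfEq hker.symm).trans (RingHom.quotientKerEquivOfSurjective hφ)
  have hw : RingTheory.Sequence.IsWeaklyRegular S (List.ofFn f') := by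
    rw [GrothLib.ArtinReg.isWeaklyRegular_iff I hI (List.ofFn f') S]
    have e' : I.map (algebraMap A' S) • (⊤ : Submodule S S) = J := by
      rw [smul_eq_mul, Ideal.mul_top]
    rw [(Submodule.quotEquivOfEq _ _ e').isWeaklyRegular_congr (List.ofFn f')]
    refine (AddEquiv.isWeaklyRegular_congr (R := S) (S := MvPolynomial (Fin n) (A' ⧸ I))
      (M := S ⧸ J) (M₂ := MvPolynomial (Fin n) (A' ⧸ I)) (as := List.ofFn f') (bs := List.ofFn f)
      (e := e.toAddEquiv) ?_).2 hreg.toIsWeaklyRegular
    rw [List.forall₂_iff_get]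
    refine ⟨by simp, fun i h1 h2 x => ?_⟩
    obtain ⟨y, rfl⟩ := Ideal.Quotient.mk_surjective x
    simp only [List.get_eq_getElem, List.getElem_ofFn]
    show φ (f' ⟨i, _⟩ * y) = f ⟨i, _⟩ • φ y
    rw [map_mul, ← hf', smul_eq_mul]
  have := GrothLib.ArtinReg.flat_quotient (A := A') (List.ofFn f') S hw
  have e2 : Ideal.ofList (List.ofFn f') • (⊤ : Submodule S S) = Ideal.span (Set.range f') := by
    rw [smul_eq_mul, Ideal.mul_top, Ideal.ofList]
    congr 1
    ext z
    simp [List.mem_ofFn]
  exact Module.Flat.of_linearEquiv ((Submodule.quotEquivOfEq _ _ e2.symm).restrictScalars A')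

end Groth.Agent.S13135
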