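import Groth.Statements.S13137
import Groth.Agent.Lib.W2Lift.Build

set_option autoImplicit false
universe u v
open FrobAlg

namespace Groth.Agent.S13137

/-- For a perfect field k of characteristic p, a flat W₂(k)-algebra B and an ideal J of B, the quotient
B/J is flat over W₂(k) if and only if (p) ∩ J = pJ in B. (With B a flat lifting of A = B/pB this
says: B/J is a flat lifting of A modulo the image of J exactly when (p) ∩ J = pJ.) -/
theorem result
    (p : ℕ) [Fact p.Prime] (k : Type u) [Field k] [CharP k p] [PerfectRing k p]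
    (B : Type v) [CommRing B] [Algebra (FrobAlg.W2 p k) B] [Module.Flat (FrobAlg.W2 p k) B]
    (J : Ideal B) :
    Module.Flat (FrobAlg.W2 p k) (B ⧸ J) ↔
      Ideal.span {(p : B)} ⊓ J = Ideal.span {(p : B)} * J := by
  rw [GrothLib.W2Lift.flat_iff]
  have hB := (GrothLib.W2Lift.flat_iff (k := k) (p := p) B).1 inferInstance
  have hsmul : ∀ (x : B), (p : FrobAlg.W2 p k) • x = (p : B) * x := fun x => by
    rw [Algebra.smul_def, map_natCast]
  have hsmulq : ∀ (x : B), (p : FrobAlg.W2 p k) • Ideal.Quotient.mk J x = Ideal.Quotient.mk J ((p : B) * x) :=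
    fun x => by rw [← hsmul]; rfl
  constructor
  · intro h
    refine le_antisymm ?_ Ideal.mul_le_inf
    rintro x ⟨hx, hxJ⟩
    obtain ⟨b, rfl⟩ := Ideal.mem_span_singleton.1 hx
    obtain ⟨m', hm'⟩ := h (Ideal.Quotient.mk J b)
      (by rw [hsmulq, Ideal.Quotient.eq_zero_iff_mem]; exact hxJ)
    obtain ⟨c, rfl⟩ := Ideal.Quotient.mk_surjective m'
    rw [hsmulq, Ideal.Quotient.eq] at hm'
    have h1 : (p : B) * b = (p : B) * (b - (p : B) * c) := by
      have h2 : (p : B) * (p : B) = 0 := GrothLib.W2Lift.p_mul_p_of_hom (algebraMap (FrobAlg.W2 p k) B)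
      linear_combination c * h2
    rw [h1]
    exact Ideal.mul_mem_mul (Ideal.mem_span_singleton_self _) hm'
  · intro h m hm
    obtain ⟨b, rfl⟩ := Ideal.Quotient.mk_surjective m
    rw [hsmulq, Ideal.Quotient.eq_zero_iff_mem] at hm
    have h1 : (p : B) * b ∈ Ideal.span {(p : B)} * J :=
      h ▸ ⟨Ideal.mem_span_singleton'.2 ⟨b, mul_comm _ _⟩, hm⟩
    obtain ⟨j, hj, hjb⟩ := Ideal.mem_span_singleton_mul.1 h1
    obtain ⟨c, hc⟩ := hB (b - j) (by rw [hsmul, mul_sub, hjb, sub_self])
    refine ⟨Ideal.Quotient.mk J c, ?_⟩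
    rw [hsmul] at hc
    rw [hsmulq, Ideal.Quotient.eq]
    have : b - (p : B) * c = j := by linear_combination hc
    rw [this]; exact hj

end Groth.Agent.S13137
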