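import Groth.Statements.S13138
import Groth.Agent.Lib.W2Lift.PolyCrit
-- import your own Groth.Agent.* helpers here

set_option autoImplicit false
universe u
open scoped BigOperators
open FrobAlg

namespace Groth.Agent.S13138

/-- Let k be a perfect field of characteristic p, R' = W₂(k)[x_1, …, x_n], f'_1, …, f'_m ∈ R' with
reductions f_1, …, f_m ∈ R = k[x_1, …, x_n], J' = (f'_1, …, f'_m), J = (f_1, …, f_m), and assume B'
= R'/J' is flat over W₂(k), so that it is a flat lifting of B = R/J. The Frobenius of B lifts to B'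
— there is a ring endomorphism of B' semilinear for the Witt-vector Frobenius σ₂ of W₂(k) and
reducing to the p-th power map of B — if and only if there are h_1, …, h_n ∈ R' with F'(f'_i) −
f'_i^p − p·Σ_j (∂f'_i/∂x_j)^p h_j ∈ pJ' for every i, where F' is the standard Frobenius lift of R'
(σ₂ on coefficients, x_j ↦ x_j^p). Since multiplication by p identifies R with pR', this is the
congruence P(f'_i) ≡ Σ_j (∂f_i/∂x_j)^p h_j modulo J for the Frobenius residues P(f'_i) = (F'(f'_i) −
f'_i^p)/p. -/
theorem result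
    (p : ℕ) [Fact p.Prime] (k : Type u) [Field k] [CharP k p] [PerfectRing k p]
    {n m : ℕ} (f' : Fin m → MvPolynomial (Fin n) (FrobAlg.W2 p k))
    (hflat : ((Ideal.Quotient.mk (Ideal.span (Set.range f'))).comp
      (MvPolynomial.C : FrobAlg.W2 p k →+* MvPolynomial (Fin n) (FrobAlg.W2 p k))).Flat) :
    (∃ Φ : (MvPolynomial (Fin n) (FrobAlg.W2 p k) ⧸ Ideal.span (Set.range f')) →+*
        (MvPolynomial (Fin n) (FrobAlg.W2 p k) ⧸ Ideal.span (Set.range f')),
      Φ.comp ((Ideal.Quotient.mk (Ideal.span (Set.range f'))).comp MvPolynomial.C) =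
        ((Ideal.Quotient.mk (Ideal.span (Set.range f'))).comp MvPolynomial.C).comp (FrobAlg.sigma p k) ∧
      ∀ b, Ideal.quotientMap ((Ideal.span (Set.range f')).map (MvPolynomial.map (FrobAlg.res p k)))
          (MvPolynomial.map (FrobAlg.res p k)) Ideal.le_comap_map (Φ b) =
        (Ideal.quotientMap ((Ideal.span (Set.range f')).map (MvPolynomial.map (FrobAlg.res p k)))
          (MvPolynomial.map (FrobAlg.res p k)) Ideal.le_comap_map b) ^ p) ↔
    ∃ h : Fin n → MvPolynomial (Fin n) (FrobAlg.W2 p k), ∀ i,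
      FrobAlg.polyFrob p k (Fin n) (f' i) - f' i ^ p
        - (p : MvPolynomial (Fin n) (FrobAlg.W2 p k)) * ∑ j, MvPolynomial.pderiv j (f' i) ^ p * h j
        ∈ Ideal.span {(p : MvPolynomial (Fin n) (FrobAlg.W2 p k))} * Ideal.span (Set.range f') := by
  exact GrothLib.W2Lift.frobLift_criterion f' hflat

end Groth.Agent.S13138
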