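import Groth.Statements.S13139
import Groth.Agent.Lib.W2Lift.CICrit
-- import your own Groth.Agent.* helpers here

set_option autoImplicit false
universe u
open scoped BigOperators
open FrobAlg

namespace Groth.Agent.S13139

/-- Let k be a perfect field of characteristic p and f_1, …, f_m a regular sequence in R = k[x_1, …,
x_n]. The complete intersection A = R/(f_1, …, f_m) lifts to W₂(k) compatibly with Frobenius if and
only if for some lifts f'_1, …, f'_m ∈ R' = W₂(k)[x_1, …, x_n] of the f_i and some h_1, …, h_n ∈ R'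
one has F'(f'_i) − f'_i^p − p·Σ_j (∂f'_i/∂x_j)^p h_j ∈ p·(f'_1, …, f'_m) for every i, F' being the
standard Frobenius lift of R'. In terms of Frobenius residues P(f') = (F'(f') − f'^p)/p ∈ R, which
change by g^p when f' changes by pg, this is the congruence P_{f_i} + g_i^p ≡ Σ_j (∂f_i/∂x_j)^p h_j
modulo (f_1, …, f_m) for some g_i, h_j. -/
theorem result
    (p : ℕ) [Fact p.Prime] (k : Type u) [Field k] [CharP k p] [PerfectRing k p]
    {n m : ℕ} (f : Fin m → MvPolynomial (Fin n) k)
    (hreg : RingTheory.Sequence.IsRegular (MvPolynomial (Fin n) k) (List.ofFn f)) :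
    FrobAlg.IsFLiftable p k (MvPolynomial (Fin n) k ⧸ Ideal.span (Set.range f)) ↔
    ∃ (f' : Fin m → MvPolynomial (Fin n) (FrobAlg.W2 p k)) (h : Fin n → MvPolynomial (Fin n) (FrobAlg.W2 p k)),
      (∀ i, MvPolynomial.map (FrobAlg.res p k) (f' i) = f i) ∧
      ∀ i, FrobAlg.polyFrob p k (Fin n) (f' i) - f' i ^ p
        - (p : MvPolynomial (Fin n) (FrobAlg.W2 p k)) * ∑ j, MvPolynomial.pderiv j (f' i) ^ p * h j
        ∈ Ideal.span {(p : MvPolynomial (Fin n) (FrobAlg.W2 p k))} * Ideal.span (Set.range f') := by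
  exact GrothLib.W2Lift.isFLiftable_ci_iff f hreg

end Groth.Agent.S13139
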