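import Groth.Statements.S13141
import Mathlib

set_option autoImplicit false
universe u v w w'
open scoped TensorProduct
open GrpAlg

namespace Groth.Agent.S13141

/-- Let G be a finite group, R a commutative ring with |G| invertible in R, M a projective R-module with
an R-linear G-action and S an R-algebra. The natural map M^G ⊗_R S → M ⊗_R S is injective and its
image is the submodule of G-invariants of M ⊗_R S (G acting on the first factor); that is, M^G ⊗_R S
→ (M ⊗_R S)^G is bijective. -/
theorem result
    (R : Type u) [CommRing R] (G : Type v) [Group G] [Finite G] (hG : IsUnit ((Nat.card G : ℕ) : R))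
    (M : Type w) [AddCommGroup M] [Module R M] [Module.Projective R M] (ρ : Representation R G M)
    (S : Type w') [CommRing S] [Algebra R S] :
    Function.Injective (TensorProduct.map ρ.invariants.subtype (LinearMap.id : S →ₗ[R] S)) ∧
    LinearMap.range (TensorProduct.map ρ.invariants.subtype (LinearMap.id : S →ₗ[R] S)) =
      ⨅ g : G, LinearMap.eqLocus (LinearMap.rTensor S (ρ g)) LinearMap.id := by
  classical
  haveI := Fintype.ofFinite G
  haveI : Invertible ((Fintype.card G : ℕ) : R) := (Fintype.card_eq_nat_card (α := G) ▸ hG).invertible
  let e : M →ₗ[R] ρ.invariants := ρ.averageMap.codRestrict ρ.invariants ρ.averageMap_invariant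
  have he : e.comp ρ.invariants.subtype = LinearMap.id := LinearMap.ext fun x => Subtype.ext (ρ.averageMap_id x x.2)
  refine ⟨fun a b hab => ?_, le_antisymm ?_ ?_⟩
  · have h := congrArg (TensorProduct.map e (LinearMap.id : S →ₗ[R] S)) hab
    rwa [← LinearMap.comp_apply, ← LinearMap.comp_apply, ← TensorProduct.map_comp, he, LinearMap.id_comp,
      TensorProduct.map_id, LinearMap.id_apply, LinearMap.id_apply] at h
  · rintro _ ⟨z, rfl⟩
    rw [Submodule.mem_iInf]
    intro g
    rw [LinearMap.mem_eqLocus]
    induction z using TensorProduct.induction_on with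
    | zero => simp
    | tmul x s =>
      rw [TensorProduct.map_tmul, LinearMap.rTensor_tmul, LinearMap.id_apply]
      exact congrArg (fun y : M => y ⊗ₜ[R] s) (x.2 g)
    | add a b ha hb => simp only [map_add, ha, hb]
  · intro z hz
    rw [Submodule.mem_iInf] at hz
    refine ⟨TensorProduct.map e LinearMap.id z, ?_⟩
    rw [← LinearMap.comp_apply, ← TensorProduct.map_comp, LinearMap.id_comp,
      show ρ.invariants.subtype.comp e = ρ.averageMap from LinearMap.ext fun x => rfl]
    have havg : ρ.averageMap = (⅟((Fintype.card G : ℕ) : R)) • ∑ g : G, ρ g := by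
      refine LinearMap.ext fun x => ?_
      simp [Representation.averageMap, GroupAlgebra.average, map_sum, Finset.smul_sum]
    show ρ.averageMap.rTensor S z = z
    rw [havg, LinearMap.rTensor_smul, LinearMap.smul_apply,
      show (∑ g : G, ρ g).rTensor S = ∑ g : G, (ρ g).rTensor S from map_sum (LinearMap.rTensorHom S) _ _,
      LinearMap.sum_apply, Finset.sum_congr rfl fun g _ => LinearMap.mem_eqLocus.1 (hz g)]
    simp only [LinearMap.id_apply, Finset.sum_const, Finset.card_univ]
    rw [← Nat.cast_smul_eq_nsmul R, smul_smul, invOf_mul_self, one_smul]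

end Groth.Agent.S13141
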