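import Groth.Statements.S13144
import Groth.Agent.Lib.W2Lift.Basic

set_option autoImplicit false
universe u
open FrobAlg
open GrothLib.W2Lift (p_mul_p_of_hom exists_eq_mul_p res_sigma)

namespace Groth.Agent.S13144

/-- Let k be a perfect field of characteristic p, A → B a homomorphism of Noetherian k-algebras with an
A-linear retraction B → A, and A' → B' a homomorphism over W₂(k) between flat liftings of A and B
which reduces to A → B. If the Frobenius of B lifts to B' (a σ₂-semilinear ring endomorphism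
reducing to the p-th power map), then the Frobenius of A lifts to A'. (The published statement is
for an affine morphism whose map on structure sheaves splits linearly; the affine case with an
A-linear splitting is taken here.) -/
theorem result
    (p : ℕ) [Fact p.Prime] (k : Type u) [Field k] [CharP k p] [PerfectRing k p]
    (A B : Type u) [CommRing A] [CommRing B] [Algebra k A] [Algebra k B]
    [IsNoetherianRing A] [IsNoetherianRing B] [Algebra A B] [IsScalarTower k A B]
    (r : B →ₗ[A] A) (hr : ∀ a : A, r (algebraMap A B a) = a)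
    (A' B' : Type u) [CommRing A'] [CommRing B']
    (ιA : FrobAlg.W2 p k →+* A') (πA : A' →+* A) (hA : FrobAlg.IsLift p k A A' ιA πA)
    (ιB : FrobAlg.W2 p k →+* B') (πB : B' →+* B) (hB : FrobAlg.IsLift p k B B' ιB πB)
    (φ' : A' →+* B') (hφι : φ'.comp ιA = ιB) (hφπ : πB.comp φ' = (algebraMap A B).comp πA)
    (ΦB : B' →+* B') (hΦB : FrobAlg.IsFrobLift p k B B' ιB πB ΦB) :
    ∃ ΦA : A' →+* A', FrobAlg.IsFrobLift p k A A' ιA πA ΦA := by
  classical
  obtain ⟨s, hs⟩ := hA.surj.hasRightInverse
  have hsub : ∀ x : A', ∃ c : B', ΦB (φ' x) - φ' (x ^ p) = (p : B') * c := by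
    intro x
    rw [← GrothLib.W2Lift.IsLift.map_eq_zero_iff hB, map_sub, hΦB.red, map_pow, map_pow, sub_self]
  choose c hc using hsub
  let F : A' → A' := fun x => x ^ p + (p : A') * s (r (πB (c x)))
  have hF : ∀ (x : A') (c' : B') (d : A'), ΦB (φ' x) - φ' (x ^ p) = (p : B') * c' →
      πA d = r (πB c') → F x = x ^ p + (p : A') * d := by
    intro x c' d h1 h2
    have h3 : πB (c x) = πB c' := (GrothLib.W2Lift.IsLift.p_mul_inj hB _ _).1 ((hc x).symm.trans h1)
    show x ^ p + _ = _
    congr 1
    rw [GrothLib.W2Lift.IsLift.p_mul_inj hA, hs, h2, h3]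
  have hφ : ∀ a : A', πB (φ' a) = algebraMap A B (πA a) := fun a => RingHom.congr_fun hφπ a
  have hp2 : (p : A') * (p : A') = 0 := p_mul_p_of_hom ιA
  have hp2B : (p : B') * (p : B') = 0 := p_mul_p_of_hom ιB
  have hone : F 1 = 1 := by
    rw [hF 1 0 0 (by simp) (by simp), one_pow, mul_zero, add_zero]
  have hzero : F 0 = 0 := by
    rw [hF 0 0 0 (by simp [zero_pow (Fact.out : p.Prime).ne_zero]) (by simp),
      zero_pow (Fact.out : p.Prime).ne_zero, mul_zero, add_zero]
  have hadd : ∀ x y, F (x + y) = F x + F y := by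
    intro x y
    obtain ⟨w, hw⟩ := exists_add_pow_prime_eq (Fact.out : p.Prime) x y
    rw [hF (x + y) (c x + c y - φ' (x * y * w)) (s (r (πB (c x))) + s (r (πB (c y))) - x * y * w) ?_ ?_, hw]
    · show _ = (x ^ p + _) + (y ^ p + _)
      ring
    · rw [map_add φ' x y, map_add ΦB, hw]
      simp only [map_add, map_mul, map_natCast]
      linear_combination hc x + hc y
    · rw [map_sub, map_add, hs, hs, map_sub πB, map_add πB, hφ, map_sub r, map_add r, hr]
  have hmul : ∀ x y, F (x * y) = F x * F y := by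
    intro x y
    rw [hF (x * y) (φ' (x ^ p) * c y + φ' (y ^ p) * c x) (x ^ p * s (r (πB (c y))) + y ^ p * s (r (πB (c x)))) ?_ ?_]
    · show _ = (x ^ p + _) * (y ^ p + _)
      linear_combination (-(s (r (πB (c x))) * s (r (πB (c y))))) * hp2
    · have h1 : ΦB (φ' x) = φ' (x ^ p) + (p : B') * c x := eq_add_of_sub_eq' (hc x)
      have h2 : ΦB (φ' y) = φ' (y ^ p) + (p : B') * c y := eq_add_of_sub_eq' (hc y)
      rw [map_mul φ', map_mul ΦB, h1, h2, mul_pow, map_mul φ']
      linear_combination (c x * c y) * hp2B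
    · rw [map_add πB, map_mul πB, map_mul πB, hφ, hφ, map_add r, ← Algebra.smul_def,
        ← Algebra.smul_def, map_smul, map_smul, smul_eq_mul, smul_eq_mul, map_add, map_mul, map_mul, hs, hs]
  let Φ : A' →+* A' :=
    { toFun := F, map_one' := hone, map_mul' := hmul, map_zero' := hzero, map_add' := hadd }
  refine ⟨Φ, ⟨hA, ?_, ?_⟩⟩
  · ext w
    show F (ιA w) = ιA (sigma p k w)
    obtain ⟨z, hz⟩ := exists_eq_mul_p (x := sigma p k w - w ^ p)
      (by rw [map_sub, map_pow, res_sigma, sub_self])
    have hz' : ιA (sigma p k w) - ιA w ^ p = (p : A') * ιA z := by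
      have := congrArg ιA hz
      rwa [map_sub, map_pow, map_mul, map_natCast, mul_comm] at this
    rw [hF (ιA w) (φ' (ιA z)) (ιA z) ?_ ?_, ← hz', add_sub_cancel]
    · have h1 : ΦB (ιB w) = ιB (sigma p k w) := RingHom.congr_fun hΦB.semi w
      rw [← hφι] at h1
      simp only [RingHom.comp_apply] at h1
      rw [h1, ← map_sub, hz', map_mul, map_natCast]
    · rw [hφ, hr]
  · intro a
    show πA (a ^ p + _) = _
    rw [map_add, map_mul, GrothLib.W2Lift.IsLift.map_p hA, zero_mul, add_zero, map_pow]

end Groth.Agent.S13144
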