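import Groth.Statements.S13145
import Groth.Agent.Lib.W2Lift.Build

set_option autoImplicit false
universe u
open FrobAlg

namespace Groth.Agent.S13145

/-- For liftings over W₂(k) — let k be a perfect field of characteristic p, A a k-algebra essentially of
finite type and A → B étale and faithfully flat. If B lifts flatly to W₂(k) then so does A. (The
published statement allows an étale surjective cover of Spec A by a scheme; an affine cover is taken
here, to which the published argument reduces.) -/
theorem result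
    (p : ℕ) [Fact p.Prime] (k : Type u) [Field k] [CharP k p] [PerfectRing k p]
    (A B : Type u) [CommRing A] [CommRing B] [Algebra k A] [Algebra.EssFiniteType k A]
    [Algebra A B] [Algebra.Etale A B] [Module.FaithfullyFlat A B] [Algebra k B] [IsScalarTower k A B]
    (hB : FrobAlg.IsW2Liftable p k B) : FrobAlg.IsW2Liftable p k A := by
  classical
  obtain ⟨B', hB', ιB, πB, hB⟩ := hB
  obtain ⟨t, ht⟩ := hB.surj.hasRightInverse
  have hW := GrothLib.W2Lift.isNoetherianRing_W2 (p := p) (k := k)
  obtain ⟨σ, hσ⟩ := (Algebra.essFiniteType_iff k A).1 ‹_›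
  let q₀ : MvPolynomial σ (FrobAlg.W2 p k) →+* A :=
    MvPolynomial.eval₂Hom ((algebraMap k A).comp (FrobAlg.res p k)) Subtype.val
  let θ₀ : MvPolynomial σ (FrobAlg.W2 p k) →+* B' :=
    MvPolynomial.eval₂Hom ιB fun a => t (algebraMap A B a.1)
  have hθ₀ : ∀ x, πB (θ₀ x) = algebraMap A B (q₀ x) := by
    have h : πB.comp θ₀ = (algebraMap A B).comp q₀ := by
      refine MvPolynomial.ringHom_ext (fun w => ?_) fun a => ?_
      · have := RingHom.congr_fun hB.comm w
        simp only [RingHom.comp_apply] at this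
        simp only [RingHom.comp_apply, θ₀, q₀, MvPolynomial.eval₂Hom_C]
        rw [this, ← IsScalarTower.algebraMap_apply k A B]
      · simp [θ₀, q₀, ht _]
    exact fun x => RingHom.congr_fun h x
  have hadj : ∀ a ∈ Algebra.adjoin k (σ : Set A), ∃ x, q₀ x = a := by
    intro a ha
    induction ha using Algebra.adjoin_induction with
    | mem x hx => exact ⟨MvPolynomial.X ⟨x, hx⟩, by simp [q₀]⟩
    | algebraMap c =>
      obtain ⟨w, rfl⟩ := GrothLib.W2Lift.res_surjective (p := p) c
      exact ⟨MvPolynomial.C w, by simp [q₀]⟩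
    | add x y _ _ hx hy =>
      obtain ⟨u, rfl⟩ := hx; obtain ⟨v, rfl⟩ := hy
      exact ⟨u + v, map_add _ _ _⟩
    | mul x y _ _ hx hy =>
      obtain ⟨u, rfl⟩ := hx; obtain ⟨v, rfl⟩ := hy
      exact ⟨u * v, map_mul _ _ _⟩
  let S : Submonoid (MvPolynomial σ (FrobAlg.W2 p k)) := (IsUnit.submonoid A).comap q₀
  have hqS : ∀ y : S, IsUnit (q₀ y) := fun y => y.2
  have hθS : ∀ y : S, IsUnit (θ₀ y) := fun y => by
    have h1 : IsUnit (πB (θ₀ y)) := by rw [hθ₀]; exact (hqS y).map _
    obtain ⟨z, hz⟩ := hB.surj ↑h1.unit⁻¹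
    have h2 : πB (θ₀ y * z - 1) = 0 := by
      rw [map_sub, map_mul, hz, IsUnit.mul_val_inv, map_one, sub_self]
    obtain ⟨d, hd⟩ := (GrothLib.W2Lift.IsLift.map_eq_zero_iff hB _).1 h2
    have h3 : IsNilpotent (θ₀ y * z - 1) :=
      ⟨2, by rw [hd, mul_pow, sq (p : B'), GrothLib.W2Lift.p_mul_p_of_hom ιB, zero_mul]⟩
    have h4 : IsUnit (θ₀ y * z) := by simpa using h3.isUnit_add_one
    exact isUnit_of_mul_isUnit_left h4
  have : IsNoetherianRing (Localization S) :=
    IsLocalization.isNoetherianRing S (Localization S) inferInstance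
  let q : Localization S →+* A := IsLocalization.lift hqS
  let θ : Localization S →+* B' := IsLocalization.lift hθS
  refine GrothLib.W2Lift.liftable_of_faithfullyFlat hB q (fun a => ?_)
    ((algebraMap (MvPolynomial σ (FrobAlg.W2 p k)) (Localization S)).comp MvPolynomial.C) ?_ θ (fun x => ?_)
  · obtain ⟨d, hd, hdu, had⟩ := hσ a
    obtain ⟨x, hx⟩ := hadj _ had
    obtain ⟨y, hy⟩ := hadj d hd
    have hyS : y ∈ S := show IsUnit (q₀ y) by rwa [hy]
    refine ⟨IsLocalization.mk' (Localization S) x (⟨y, hyS⟩ : S), ?_⟩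
    show IsLocalization.lift hqS _ = a
    rw [IsLocalization.lift_mk'_spec, hx, hy, mul_comm]
  · ext w
    simp [q, q₀, IsLocalization.lift_eq]
  · have h : πB.comp θ = (algebraMap A B).comp q := by
      refine IsLocalization.ringHom_ext S (RingHom.ext fun y => ?_)
      simp [θ, q, IsLocalization.lift_eq, hθ₀]
    exact RingHom.congr_fun h x

end Groth.Agent.S13145
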