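import Groth.Statements.S13147
import Groth.Agent.Lib.W2Lift.Formulas

set_option autoImplicit false
universe u
open FrobAlg GrothLib.W2Lift

namespace Groth.Agent.S13147

/-- Let k be a perfect field of characteristic p and (A, φ) a k-algebra with a Frobenius splitting (φ
additive, φ(a^p b) = a φ(b), φ(1) = 1). The quotient of W₂(A) by the ideal generated by the Witt
vectors (0, a) with φ(a) = 0 — the ring of twisted Witt vectors of (A, φ) — is a flat lifting of A
over W₂(k): flat over W₂(k), with reduction map onto A induced by (a₀, a₁) ↦ a₀ whose kernel is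
generated by the maximal ideal of W₂(k). (The published statement also asserts that a morphism of
algebras with Frobenius splittings compatible with the splittings induces a ring map between these
quotients; that part is not stated here.) -/
theorem result
    (p : ℕ) [Fact p.Prime] (k : Type u) [Field k] [CharP k p] [PerfectRing k p]
    (A : Type u) [CommRing A] [Algebra k A] (φ : A →+ A)
    (hφ : ∀ a b : A, φ (a ^ p * b) = a * φ b) (hφ1 : φ 1 = 1) :
    FrobAlg.IsLift p k A (FrobAlg.W2 p A ⧸ FrobAlg.splitIdeal p A φ)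
      ((Ideal.Quotient.mk (FrobAlg.splitIdeal p A φ)).comp (WittGrp.truncMap p 2 (algebraMap k A)))
      (FrobAlg.splitRes p A φ) := by
  classical
  have hk : (p : k) = 0 := CharP.cast_eq_zero k p
  have hA : (p : A) = 0 := by rw [← map_natCast (algebraMap k A), hk, map_zero]
  have hφp : ∀ a : A, φ (a ^ p) = a := fun a => by
    have := hφ a 1
    rwa [mul_one, hφ1, mul_one] at this
  have hmem : ∀ x : FrobAlg.W2 p A, x ∈ FrobAlg.splitIdeal p A φ ↔ x.coeff 0 = 0 ∧ φ (x.coeff 1) = 0 := by
    intro x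
    refine ⟨fun hx => ?_, fun h => Ideal.subset_span ⟨by rw [FrobAlg.res_apply]; exact h.1, h.2⟩⟩
    induction hx using Submodule.span_induction with
    | mem y hy => exact ⟨by rw [← FrobAlg.res_apply]; exact hy.1, hy.2⟩
    | zero => simp [TruncatedWittVector.coeff_zero]
    | add y z _ _ hy hz =>
      rw [w2_add_zero, w2_add_one, hy.1, hz.1, aeval_carry_zero_left, sub_zero, map_add, hy.2, hz.2, add_zero]
      exact ⟨rfl, rfl⟩
    | smul a y _ hy =>
      rw [smul_eq_mul, w2_mul_zero, w2_mul_one hA, hy.1, mul_zero, zero_pow (Fact.out : p.Prime).ne_zero, zero_mul,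
        add_zero, hφ, hy.2, mul_zero]
      exact ⟨rfl, rfl⟩
  have hdiv : ∀ x : FrobAlg.W2 p A, x.coeff 0 = 0 →
      ∃ y, x - (p : FrobAlg.W2 p A) * y ∈ FrobAlg.splitIdeal p A φ := by
    intro x hx
    let y : FrobAlg.W2 p A := TruncatedWittVector.mk p ![φ (x.coeff 1), 0]
    let e : FrobAlg.W2 p A := TruncatedWittVector.mk p ![0, x.coeff 1 - φ (x.coeff 1) ^ p]
    have hy : y.coeff 0 = φ (x.coeff 1) := TruncatedWittVector.coeff_mk _ _
    have he0 : e.coeff 0 = 0 := TruncatedWittVector.coeff_mk _ _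
    have he1 : e.coeff 1 = x.coeff 1 - φ (x.coeff 1) ^ p := TruncatedWittVector.coeff_mk _ _
    have hxe : x = (p : FrobAlg.W2 p A) * y + e := by
      refine w2_ext ?_ ?_
      · rw [w2_add_zero, (w2_p_mul hA y).1, he0, add_zero, hx]
      · rw [w2_add_one, (w2_p_mul hA y).2, (w2_p_mul hA y).1, he0, he1, hy, aeval_carry_zero_right]
        ring
    refine ⟨y, ?_⟩
    rw [hxe, add_sub_cancel_left, hmem, he0, he1, map_sub, hφp, sub_self]
    exact ⟨rfl, rfl⟩
  refine ⟨?_, ?_, ?_, ?_⟩
  · rw [flat_ringHom_iff]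
    intro b hb
    obtain ⟨x, rfl⟩ := Ideal.Quotient.mk_surjective b
    rw [← map_natCast (Ideal.Quotient.mk (FrobAlg.splitIdeal p A φ)), ← map_mul, Ideal.Quotient.eq_zero_iff_mem, hmem,
      (w2_p_mul hA x).2, hφp] at hb
    obtain ⟨y, hy⟩ := hdiv x hb.2
    refine ⟨Ideal.Quotient.mk _ y, ?_⟩
    rw [← map_natCast (Ideal.Quotient.mk (FrobAlg.splitIdeal p A φ)), ← map_mul, Ideal.Quotient.eq]
    exact hy
  · intro a
    obtain ⟨x, hx⟩ := res_surjective (p := p) a
    exact ⟨Ideal.Quotient.mk _ x, hx⟩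
  · rw [map_ker_res]
    ext b
    obtain ⟨x, rfl⟩ := Ideal.Quotient.mk_surjective b
    rw [RingHom.mem_ker, Ideal.mem_span_singleton]
    constructor
    · intro h
      have h' : x.coeff 0 = 0 := by rw [← FrobAlg.res_apply]; exact h
      obtain ⟨y, hy⟩ := hdiv x h'
      refine ⟨Ideal.Quotient.mk _ y, ?_⟩
      rw [← map_natCast (Ideal.Quotient.mk (FrobAlg.splitIdeal p A φ)), ← map_mul, Ideal.Quotient.eq]
      exact hy
    · rintro ⟨c, hc⟩
      rw [hc, map_mul, map_natCast, hA, zero_mul]
  · ext w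
    show FrobAlg.res p A (WittGrp.truncMap p 2 (algebraMap k A) w) = _
    rw [FrobAlg.res_apply, WittGrp.coeff_truncMap, RingHom.comp_apply, FrobAlg.res_apply]

end Groth.Agent.S13147
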