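import Groth.Statements.S13149
import Mathlib.LinearAlgebra.Matrix.NonsingularInverse
import Mathlib.LinearAlgebra.Matrix.Determinant.Basic
import Mathlib.Algebra.Field.ZMod
import Mathlib.RingTheory.LocalRing.Basic
import Mathlib.RingTheory.LocalRing.MaximalIdeal.Basic
import Mathlib.Tactic.FinCases
import Mathlib.Tactic.LinearCombination
import Mathlib.Tactic.Ring
import Mathlib.Algebra.BigOperators.Fin
-- import your own Groth.Agent.* helpers here

set_option autoImplicit false
universe u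
open CAlg

namespace Groth.Agent.S13149

theorem normalized (p : ℕ) [Fact p.Prime] (A : Type u) [CommRing A] [IsLocalRing A]
    (σ : (Fin 3 → ZMod p) → (Fin 3 → A))
    (hpt : ∀ v : Fin 3 → ZMod p, v ≠ 0 → ∃ i, IsUnit (σ v i))
    (hcol : ∀ u v w : Fin 3 → ZMod p, u ≠ 0 → v ≠ 0 → w ≠ 0 →
      Matrix.det (Matrix.of ![u, v, w]) = 0 →
      ∃ n : Fin 3 → A, (∃ i, IsUnit (n i)) ∧
        dotProduct (σ u) n = 0 ∧ dotProduct (σ v) n = 0 ∧ dotProduct (σ w) n = 0)
    (he : ∀ i : Fin 3, ∃ c : A, IsUnit c ∧ σ (Pi.single i 1) = Pi.single i c)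
    (hone : ∃ c : A, IsUnit c ∧ σ (fun _ => 1) = fun _ => c) :
    (p : A) = 0 := by
  have h1 : (1 : ZMod p) ≠ 0 := one_ne_zero
  have ne0 : ∀ {v : Fin 3 → ZMod p} (i : Fin 3), v i ≠ 0 → v ≠ 0 := fun i h hv => h (by rw [hv]; rfl)
  have hE : ∀ i : Fin 3, (Pi.single i 1 : Fin 3 → ZMod p) ≠ 0 := fun i => ne0 i (by simp)
  obtain ⟨c0, hc0, he0⟩ := he 0
  obtain ⟨c1, hc1, he1⟩ := he 1
  obtain ⟨c2, hc2, he2⟩ := he 2
  obtain ⟨c, hc, hc'⟩ := hone
  have hO : (fun _ => 1 : Fin 3 → ZMod p) ≠ 0 := ne0 0 h1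
  -- z = 0 and y = 0
  have hz : ∀ a b : ZMod p, (![a, b, 0] : Fin 3 → ZMod p) ≠ 0 → σ ![a, b, 0] 2 = 0 := by
    intro a b hv
    obtain ⟨n, ⟨i, hi⟩, h0, h1', hv'⟩ := hcol _ _ _ (hE 0) (hE 1) hv (by simp [Matrix.det_fin_three])
    simp [dotProduct, Fin.sum_univ_three, he0, he1, hc0.mul_right_eq_zero, hc1.mul_right_eq_zero] at h0 h1' hv'
    fin_cases i <;> simp [h0, h1'] at hi
    simp [h0, h1'] at hv'
    exact hi.mul_left_eq_zero.1 hv'
  have hy : ∀ a b : ZMod p, (![a, 0, b] : Fin 3 → ZMod p) ≠ 0 → σ ![a, 0, b] 1 = 0 := by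
    intro a b hv
    obtain ⟨n, ⟨i, hi⟩, h0, h1', hv'⟩ := hcol _ _ _ (hE 0) (hE 2) hv (by simp [Matrix.det_fin_three])
    simp [dotProduct, Fin.sum_univ_three, he0, he2, hc0.mul_right_eq_zero, hc2.mul_right_eq_zero] at h0 h1' hv'
    fin_cases i <;> simp [h0, h1'] at hi
    simp [h0, h1'] at hv'
    exact hi.mul_left_eq_zero.1 hv'
  have hx : ∀ a b : ZMod p, (![0, a, b] : Fin 3 → ZMod p) ≠ 0 → σ ![0, a, b] 0 = 0 := by
    intro a b hv
    obtain ⟨n, ⟨i, hi⟩, h0, h1', hv'⟩ := hcol _ _ _ (hE 1) (hE 2) hv (by simp [Matrix.det_fin_three])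
    simp [dotProduct, Fin.sum_univ_three, he1, he2, hc1.mul_right_eq_zero, hc2.mul_right_eq_zero] at h0 h1' hv'
    fin_cases i <;> simp [h0, h1'] at hi
    simp [h0, h1'] at hv'
    exact hi.mul_left_eq_zero.1 hv'
  -- (1,1,0) and (0,1,1)
  have hD : ∃ d, IsUnit d ∧ σ ![1, 1, 0] = ![d, d, 0] := by
    have hv : (![1, 1, 0] : Fin 3 → ZMod p) ≠ 0 := ne0 0 (by simp)
    obtain ⟨n, ⟨i, hi⟩, h0, h1', hv'⟩ := hcol _ _ _ (hE 2) hO hv (by simp [Matrix.det_fin_three])
    simp [dotProduct, Fin.sum_univ_three, he2, hc', hc2.mul_right_eq_zero, hz 1 1 hv] at h0 h1' hv'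
    simp [h0, ← mul_add, hc.mul_right_eq_zero] at h1'
    have hn1 : n 1 = -n 0 := by linear_combination h1'
    have hn0 : IsUnit (n 0) := by
      fin_cases i <;> simp [h0, hn1] at hi <;> exact hi
    have heq : σ ![1, 1, 0] 0 = σ ![1, 1, 0] 1 := by
      refine sub_eq_zero.1 (hn0.mul_left_eq_zero.1 ?_)
      rw [hn1] at hv'
      linear_combination hv'
    refine ⟨σ ![1, 1, 0] 0, ?_, ?_⟩
    · obtain ⟨j, hj⟩ := hpt _ hv
      fin_cases j <;> simp [heq, hz 1 1 hv] at hj ⊢ <;> exact hj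
    · funext j; fin_cases j <;> simp [heq, hz 1 1 hv]
  have hQ0 : ∃ d, IsUnit d ∧ σ ![0, 1, 1] = ![0, d, d] := by
    have hv : (![0, 1, 1] : Fin 3 → ZMod p) ≠ 0 := ne0 1 (by simp)
    obtain ⟨n, ⟨i, hi⟩, h0, h1', hv'⟩ := hcol _ _ _ (hE 0) hO hv (by simp [Matrix.det_fin_three])
    simp [dotProduct, Fin.sum_univ_three, he0, hc', hc0.mul_right_eq_zero, hx 1 1 hv] at h0 h1' hv'
    simp [h0, ← mul_add, hc.mul_right_eq_zero] at h1'
    have hn1 : n 2 = -n 1 := by linear_combination h1'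
    have hn0 : IsUnit (n 1) := by
      fin_cases i <;> simp [h0, hn1] at hi <;> exact hi
    have heq : σ ![0, 1, 1] 1 = σ ![0, 1, 1] 2 := by
      refine sub_eq_zero.1 (hn0.mul_left_eq_zero.1 ?_)
      rw [hn1] at hv'
      linear_combination hv'
    refine ⟨σ ![0, 1, 1] 1, ?_, ?_⟩
    · obtain ⟨j, hj⟩ := hpt _ hv
      fin_cases j <;> simp [heq, hx 1 1 hv] at hj ⊢ <;> exact hj
    · funext j; fin_cases j <;> simp [heq, hx 1 1 hv]
  obtain ⟨d, hd, hD⟩ := hD
  obtain ⟨q, hq, hQ0⟩ := hQ0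
  have key : ∀ k : ℕ, ∃ u, IsUnit u ∧ σ ![(k : ZMod p), 0, 1] = ![(k : A) * u, 0, u] := by
    intro k
    induction k with
    | zero =>
      refine ⟨c2, hc2, ?_⟩
      have : (![((0 : ℕ) : ZMod p), 0, 1] : Fin 3 → ZMod p) = Pi.single 2 1 := by
        funext j; fin_cases j <;> simp
      rw [this, he2]
      funext j; fin_cases j <;> simp
    | succ k ih =>
      obtain ⟨u, hu, hP⟩ := ih
      have hPv : (![(k : ZMod p), 0, 1] : Fin 3 → ZMod p) ≠ 0 := ne0 2 (by simp)
      -- Q (k+1)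
      have hv : (![((k + 1 : ℕ) : ZMod p), 1, 1] : Fin 3 → ZMod p) ≠ 0 := ne0 1 (by simp)
      obtain ⟨n, ⟨i, hi⟩, h0, h1', hv'⟩ := hcol _ _ _ hPv (ne0 0 (by simp) : (![1, 1, 0] : Fin 3 → ZMod p) ≠ 0) hv
        (by simp [Matrix.det_fin_three])
      obtain ⟨m, ⟨j, hj⟩, g0, g1, gv⟩ := hcol _ _ _ (hE 0) (ne0 1 (by simp) : (![0, 1, 1] : Fin 3 → ZMod p) ≠ 0) hv
        (by simp [Matrix.det_fin_three])
      simp [dotProduct, Fin.sum_univ_three, hP, hD, hQ0, he0, hc0.mul_right_eq_zero] at h0 h1' g0 g1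
      simp [dotProduct, Fin.sum_univ_three] at hv' gv
      have hn1 : n 1 = -n 0 := by
        have : d * (n 0 + n 1) = 0 := by linear_combination h1'
        linear_combination hd.mul_right_eq_zero.1 this
      have hn2 : n 2 = -(k : A) * n 0 := by
        have : u * ((k : A) * n 0 + n 2) = 0 := by linear_combination h0
        linear_combination hu.mul_right_eq_zero.1 this
      have hn0 : IsUnit (n 0) := by
        fin_cases i <;> simp [hn1, hn2] at hi
        all_goals first | exact hi | exact hi.2 | exact isUnit_of_mul_isUnit_right hi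
      have hm2 : m 2 = -m 1 := by
        have : q * (m 1 + m 2) = 0 := by linear_combination g1
        linear_combination hq.mul_right_eq_zero.1 this
      have hm1 : IsUnit (m 1) := by
        fin_cases j <;> simp [g0, hm2] at hj <;> exact hj
      have e1 : σ ![((k + 1 : ℕ) : ZMod p), 1, 1] 1 = σ ![((k + 1 : ℕ) : ZMod p), 1, 1] 2 := by
        refine sub_eq_zero.1 (hm1.mul_left_eq_zero.1 ?_)
        rw [g0, hm2] at gv
        push_cast
        linear_combination gv
      have e0 : σ ![((k + 1 : ℕ) : ZMod p), 1, 1] 0 = ((k + 1 : ℕ) : A) * σ ![((k + 1 : ℕ) : ZMod p), 1, 1] 2 := by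
        refine sub_eq_zero.1 (hn0.mul_left_eq_zero.1 ?_)
        rw [hn1, hn2] at hv'
        push_cast at e1 ⊢
        linear_combination hv' + n 0 * e1
      set Q := σ ![((k + 1 : ℕ) : ZMod p), 1, 1] with hQdef
      have hQu : IsUnit (Q 2) := by
        obtain ⟨l, hl⟩ := hpt _ hv
        rw [← hQdef] at hl
        fin_cases l
        · simp only [Fin.zero_eta, e0] at hl; exact isUnit_of_mul_isUnit_right hl
        · simp only [Fin.mk_one, e1] at hl; exact hl
        · exact hl
      -- P (k+1)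
      have hv2 : (![((k + 1 : ℕ) : ZMod p), 0, 1] : Fin 3 → ZMod p) ≠ 0 := ne0 2 (by simp)
      obtain ⟨r, ⟨l, hl⟩, f0, f1, fv⟩ := hcol _ _ _ (hE 1) hv hv2 (by simp [Matrix.det_fin_three])
      simp only [dotProduct, Fin.sum_univ_three, he1, ← hQdef, e0, e1, hy _ _ hv2] at f0 f1 fv
      simp [hc1.mul_right_eq_zero] at f0
      have hr2 : r 2 = -(((k + 1 : ℕ) : A) * r 0) := by
        have : Q 2 * (((k + 1 : ℕ) : A) * r 0 + r 2) = 0 := by
          rw [f0] at f1; linear_combination f1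
        linear_combination hQu.mul_right_eq_zero.1 this
      have hr0 : IsUnit (r 0) := by
        fin_cases l
        · exact hl
        · simp [f0] at hl
        · simp only [Fin.reduceFinMk, hr2, IsUnit.neg_iff] at hl; exact isUnit_of_mul_isUnit_right hl
      set P' := σ ![((k + 1 : ℕ) : ZMod p), 0, 1] with hP'
      have e : P' 0 = ((k + 1 : ℕ) : A) * P' 2 := by
        refine sub_eq_zero.1 (hr0.mul_left_eq_zero.1 ?_)
        rw [hr2] at fv
        linear_combination fv
      refine ⟨P' 2, ?_, ?_⟩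
      · obtain ⟨j, hj⟩ := hpt _ hv2
        rw [← hP'] at hj
        fin_cases j
        · simp only [Fin.zero_eta, e] at hj; exact isUnit_of_mul_isUnit_right hj
        · simp only [Fin.mk_one, hP', hy _ _ hv2, not_isUnit_zero] at hj
        · exact hj
      · funext j
        fin_cases j
        · exact e
        · exact hy _ _ hv2
        · rfl
  obtain ⟨u, hu, hP⟩ := key p
  obtain ⟨v, hv, hP0⟩ := key 0
  have h00 : ((p : ℕ) : ZMod p) = ((0 : ℕ) : ZMod p) := by simp
  rw [h00, hP0] at hP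
  have h2 : v = u := by simpa using congrFun hP 2
  have h0 : (0 : A) = (p : A) * u := by simpa using congrFun hP 0
  exact hu.mul_left_eq_zero.1 h0.symm

/-- Let A be a local ring and ρ a map from the points of the projective plane over F_p to the points of
the projective plane over A (vectors with a unit coordinate, up to units) taking collinear triples
to collinear triples (three points are collinear when a vector with a unit coordinate is orthogonal
to all three). If ρ sends the standard frame (1:0:0), (0:1:0), (0:0:1), (1:1:1) to four points in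
general position, then p = 0 in A. (The published statement asks only that ρ preserve collinearity;
a constant map does so over any ring, and the published argument begins by moving the images of the
standard frame to the standard frame, which needs them in general position — that condition is made
a hypothesis here.) -/
theorem result
    (p : ℕ) [Fact p.Prime] (A : Type u) [CommRing A] [IsLocalRing A]
    (ρ : (Fin 3 → ZMod p) → (Fin 3 → A))
    (hpt : ∀ v : Fin 3 → ZMod p, v ≠ 0 → ∃ i, IsUnit (ρ v i))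
    (hcol : ∀ u v w : Fin 3 → ZMod p, u ≠ 0 → v ≠ 0 → w ≠ 0 →
      Matrix.det (Matrix.of ![u, v, w]) = 0 →
      ∃ n : Fin 3 → A, (∃ i, IsUnit (n i)) ∧
        dotProduct (ρ u) n = 0 ∧ dotProduct (ρ v) n = 0 ∧ dotProduct (ρ w) n = 0)
    (hgen : IsUnit (Matrix.det (Matrix.of ![ρ (Pi.single 0 1), ρ (Pi.single 1 1), ρ (Pi.single 2 1)])) ∧
      IsUnit (Matrix.det (Matrix.of ![ρ (Pi.single 0 1), ρ (Pi.single 1 1), ρ (fun _ => 1)])) ∧
      IsUnit (Matrix.det (Matrix.of ![ρ (Pi.single 0 1), ρ (Pi.single 2 1), ρ (fun _ => 1)])) ∧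
      IsUnit (Matrix.det (Matrix.of ![ρ (Pi.single 1 1), ρ (Pi.single 2 1), ρ (fun _ => 1)]))) :
    (p : A) = 0 := by
  classical
  obtain ⟨g012, g01o, g02o, g12o⟩ := hgen
  set e : Fin 3 → Fin 3 → A := fun i => ρ (Pi.single i 1) with he
  set o := ρ (fun _ => 1) with ho
  let M₀ : Matrix (Fin 3) (Fin 3) A := Matrix.of fun r i => e i r
  have hM₀ : M₀.det = (Matrix.of ![ρ (Pi.single 0 1), ρ (Pi.single 1 1), ρ (Pi.single 2 1)]).det := by
    rw [← Matrix.det_transpose]; congr 1; ext i j; fin_cases i <;> rfl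
  have hM₀u : IsUnit M₀.det := hM₀ ▸ g012
  let l := M₀⁻¹.mulVec o
  have hol : M₀.mulVec l = o := by
    rw [Matrix.mulVec_mulVec, Matrix.mul_nonsing_inv _ hM₀u, Matrix.one_mulVec]
  have hoj : ∀ j, o j = e 0 j * l 0 + e 1 j * l 1 + e 2 j * l 2 := fun j => by
    rw [← hol]; simp [Matrix.mulVec, dotProduct, Fin.sum_univ_three, M₀]
  have hl : ∀ i, IsUnit (l i) := by
    simp only [Matrix.det_fin_three] at g012 g01o g02o g12o
    simp only [Matrix.of_apply, Matrix.cons_val_zero, Matrix.cons_val_one, Matrix.cons_val_two,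
      Matrix.head_cons, Matrix.tail_cons, Matrix.cons_val, ← ho, hoj] at g012 g01o g02o g12o
    intro i
    fin_cases i
    · refine isUnit_of_mul_isUnit_left (y := M₀.det) ?_
      simp only [M₀, Matrix.det_fin_three, Matrix.of_apply, he] at *
      convert g12o using 1; simp; ring
    · refine isUnit_of_mul_isUnit_left (y := M₀.det) ?_
      simp only [M₀, Matrix.det_fin_three, Matrix.of_apply, he] at *
      convert g02o.neg using 1; simp; ring
    · refine isUnit_of_mul_isUnit_left (y := M₀.det) ?_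
      simp only [M₀, Matrix.det_fin_three, Matrix.of_apply, he] at *
      convert g01o using 1; simp; ring
  let N : Matrix (Fin 3) (Fin 3) A := M₀ * Matrix.diagonal l
  have hN : IsUnit N.det := by
    rw [Matrix.det_mul, Matrix.det_diagonal, Fin.prod_univ_three]
    exact hM₀u.mul (((hl 0).mul (hl 1)).mul (hl 2))
  have hNi : ∀ x, N.mulVec (N⁻¹.mulVec x) = x := fun x => by
    rw [Matrix.mulVec_mulVec, Matrix.mul_nonsing_inv _ hN, Matrix.one_mulVec]
  have hiN : ∀ x, N⁻¹.mulVec (N.mulVec x) = x := fun x => by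
    rw [Matrix.mulVec_mulVec, Matrix.nonsing_inv_mul _ hN, Matrix.one_mulVec]
  have hunit : ∀ (B : Matrix (Fin 3) (Fin 3) A) (x : Fin 3 → A), (∃ i, IsUnit ((B.mulVec x) i)) →
      ∃ i, IsUnit (x i) := by
    rintro B x ⟨i, hi⟩
    by_contra hno
    push Not at hno
    suffices h : (B.mulVec x) i ∈ IsLocalRing.maximalIdeal A from
      (IsLocalRing.mem_maximalIdeal _).1 h hi
    rw [show (B.mulVec x) i = ∑ j, B i j * x j from rfl]
    exact Submodule.sum_mem _ fun j _ => Ideal.mul_mem_left _ _ ((IsLocalRing.mem_maximalIdeal _).2 (hno j))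
  refine normalized p A (fun v => N⁻¹.mulVec (ρ v)) (fun v hv => ?_) ?_ ?_ ?_
  · exact hunit N _ (by rw [hNi]; exact hpt v hv)
  · intro u v w hu hv hw hdet
    obtain ⟨n, hn, h0, h1, h2⟩ := hcol u v w hu hv hw hdet
    refine ⟨Matrix.vecMul n N, ?_, ?_, ?_, ?_⟩
    · refine hunit (N⁻¹).transpose _ ?_
      rw [Matrix.mulVec_transpose, Matrix.vecMul_vecMul, Matrix.mul_nonsing_inv _ hN, Matrix.vecMul_one]
      exact hn
    all_goals
      rw [dotProduct_comm, ← Matrix.dotProduct_mulVec, hNi, dotProduct_comm]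
      assumption
  · intro i
    refine ⟨Ring.inverse (l i), (hl i).ringInverse, ?_⟩
    have h : N.mulVec (Pi.single i (Ring.inverse (l i))) = ρ (Pi.single i 1) := by
      rw [Matrix.mulVec_single]
      funext r
      simp only [N, Matrix.mul_diagonal, Matrix.col_apply, Pi.smul_apply, MulOpposite.smul_eq_mul_unop,
        MulOpposite.unop_op]
      rw [mul_assoc, Ring.mul_inverse_cancel _ (hl i), mul_one]
      rfl
    show N⁻¹.mulVec (ρ (Pi.single i 1)) = _
    rw [← h, hiN]
  · refine ⟨1, isUnit_one, ?_⟩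
    show N⁻¹.mulVec o = _
    have h : N.mulVec (fun _ => 1) = o := by
      rw [← hol]
      funext r
      simp [N, Matrix.mulVec, dotProduct, Matrix.mul_diagonal]
    rw [← h, hiN]

end Groth.Agent.S13149
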