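import Groth.Statements.S13150
import Groth.Agent.Lib.W2Lift.Formulas

set_option autoImplicit false
universe u
open FrobAlg GrothLib.W2Lift

namespace Groth.Agent.S13150

/-- Let k be a perfect field of characteristic p and (B, ι, π) a flat lifting over W₂(k) of a Noetherian
k-algebra A. The Frobenius of A lifts to B (a σ₂-semilinear ring endomorphism of B reducing to the
p-th power map) if and only if there is a ring homomorphism θ : B → W₂(A) over A (the zeroth Witt
component of θ(b) is π(b)) with θ ∘ ι equal to the map W₂(k) → W₂(A) induced by k → A. (The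
published statement is for a flat W₂(k)-extension of the structure sheaf of a scheme and says: the
push-out of that extension along the Frobenius O_X → F_*O_X is isomorphic, as an extension by F_*O_X
over W₂(k), to W₂(O_X); by the universal property of the push-out this is the existence of a
morphism of extensions to W₂(O_X), which in the affine case taken here is the map θ.) -/
theorem result
    (p : ℕ) [Fact p.Prime] (k : Type u) [Field k] [CharP k p] [PerfectRing k p]
    (A B : Type u) [CommRing A] [Algebra k A] [IsNoetherianRing A] [CommRing B]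
    (ι : FrobAlg.W2 p k →+* B) (π : B →+* A) (hB : FrobAlg.IsLift p k A B ι π) :
    (∃ Φ : B →+* B, FrobAlg.IsFrobLift p k A B ι π Φ) ↔
      ∃ θ : B →+* FrobAlg.W2 p A,
        (FrobAlg.res p A).comp θ = π ∧ θ.comp ι = WittGrp.truncMap p 2 (algebraMap k A) := by
  classical
  have hk : (p : k) = 0 := CharP.cast_eq_zero k p
  have hA : (p : A) = 0 := by rw [← map_natCast (algebraMap k A), hk, map_zero]
  have hA' : π (p : B) = 0 := by rw [map_natCast, hA]
  obtain ⟨s, hs⟩ := hB.surj.hasRightInverse
  have hp2 : (p : B) * (p : B) = 0 := p_mul_p_of_hom ι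
  constructor
  · rintro ⟨Φ, hΦ⟩
    have hd : ∀ b, ∃ d, Φ b - b ^ p = (p : B) * d := fun b => by
      rw [← IsLift.map_eq_zero_iff hB, map_sub, hΦ.red, map_pow, sub_self]
    choose d hd using hd
    have key : ∀ b d', Φ b - b ^ p = (p : B) * d' → π (d b) = π d' := fun b d' h =>
      (IsLift.p_mul_inj hB _ _).1 ((hd b).symm.trans h)
    let F : B → FrobAlg.W2 p A := fun b => TruncatedWittVector.mk p ![π b, π (d b)]
    have F0 : ∀ b, (F b).coeff 0 = π b := fun b => TruncatedWittVector.coeff_mk _ _
    have F1 : ∀ b, (F b).coeff 1 = π (d b) := fun b => TruncatedWittVector.coeff_mk _ _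
    let θ : B →+* FrobAlg.W2 p A :=
      { toFun := F
        map_one' := w2_ext (by rw [F0, map_one, w2_one_zero])
          (by rw [F1, key 1 0 (by simp), map_zero, w2_one_one])
        map_mul' := fun b c => w2_ext (by rw [F0, w2_mul_zero, F0, F0, map_mul])
          (by
            rw [F1, w2_mul_one hA, F0, F0, F1, F1, key (b * c) (b ^ p * d c + c ^ p * d b) ?_]
            · simp only [map_add, map_mul, map_pow]
            · rw [map_mul, eq_add_of_sub_eq' (hd b), eq_add_of_sub_eq' (hd c), mul_pow]
              linear_combination (d b * d c) * hp2)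
        map_zero' := w2_ext (by rw [F0, map_zero, TruncatedWittVector.coeff_zero])
          (by rw [F1, key 0 0 (by simp [zero_pow (Fact.out : p.Prime).ne_zero]), map_zero,
            TruncatedWittVector.coeff_zero])
        map_add' := fun b c => w2_ext (by rw [F0, w2_add_zero, F0, F0, map_add])
          (by
            rw [F1, w2_add_one, F0, F0, F1, F1,
              key (b + c) (d b + d c - MvPolynomial.aeval ![b, c] (carry p)) ?_]
            · rw [map_sub, map_add, map_aeval_carry]
            · rw [map_add, eq_add_of_sub_eq' (hd b), eq_add_of_sub_eq' (hd c), add_pow_carry]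
              ring) }
    refine ⟨θ, RingHom.ext fun b => by rw [RingHom.comp_apply, FrobAlg.res_apply]; exact F0 b, ?_⟩
    ext1 w
    obtain ⟨z, hz, hz1⟩ := exists_sigma_sub_pow (p := p) w
    have hΦw : Φ (ι w) = ι (FrobAlg.sigma p k w) := RingHom.congr_fun hΦ.semi w
    have hc : ∀ w', π (ι w') = algebraMap k A (FrobAlg.res p k w') := fun w' =>
      RingHom.congr_fun hB.comm w'
    show F (ι w) = WittGrp.truncMap p 2 (algebraMap k A) w
    refine w2_ext ?_ ?_
    · rw [F0, hc, WittGrp.coeff_truncMap, FrobAlg.res_apply]
    · rw [F1, WittGrp.coeff_truncMap,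
        key (ι w) (ι z) (by rw [hΦw, hz, map_add, map_pow, map_mul, map_natCast]; ring), hc, hz1]
  · rintro ⟨θ, hθ1, hθ2⟩
    have T0 : ∀ b, (θ b).coeff 0 = π b := fun b => by
      rw [← FrobAlg.res_apply]; exact RingHom.congr_fun hθ1 b
    let G : B → B := fun b => b ^ p + (p : B) * s ((θ b).coeff 1)
    have hG : ∀ b e, π e = (θ b).coeff 1 → G b = b ^ p + (p : B) * e := fun b e he => by
      show b ^ p + _ = _
      rw [(IsLift.p_mul_inj hB (s ((θ b).coeff 1)) e).2 (by rw [hs, he])]
    let Φ : B →+* B :=
      { toFun := G
        map_one' := by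
          rw [hG 1 0 (by rw [map_zero, map_one, w2_one_one]), one_pow, mul_zero, add_zero]
        map_mul' := fun b c => by
          rw [hG (b * c) (b ^ p * s ((θ c).coeff 1) + c ^ p * s ((θ b).coeff 1))
            (by rw [map_mul θ, w2_mul_one hA, T0, T0, map_add, map_mul, map_mul, map_pow, map_pow, hs, hs])]
          show _ = (b ^ p + _) * (c ^ p + _)
          linear_combination (-(s ((θ b).coeff 1) * s ((θ c).coeff 1))) * hp2
        map_zero' := by
          rw [hG 0 0 (by rw [map_zero, map_zero, TruncatedWittVector.coeff_zero]),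
            zero_pow (Fact.out : p.Prime).ne_zero, mul_zero, add_zero]
        map_add' := fun b c => by
          rw [hG (b + c) (s ((θ b).coeff 1) + s ((θ c).coeff 1) - MvPolynomial.aeval ![b, c] (carry p))
            (by rw [map_add θ, w2_add_one, T0, T0, map_sub, map_add, hs, hs, map_aeval_carry])]
          show _ = (b ^ p + _) + (c ^ p + _)
          rw [add_pow_carry]
          ring }
    refine ⟨Φ, ⟨hB, ?_, fun b => ?_⟩⟩
    · ext1 w
      obtain ⟨z, hz, hz1⟩ := exists_sigma_sub_pow (p := p) w
      show G (ι w) = ι (FrobAlg.sigma p k w)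
      rw [hG (ι w) (ι z) ?_, hz, map_add, map_pow, map_mul, map_natCast]
      rw [show θ (ι w) = WittGrp.truncMap p 2 (algebraMap k A) w from RingHom.congr_fun hθ2 w,
        WittGrp.coeff_truncMap, show π (ι z) = algebraMap k A (FrobAlg.res p k z) from RingHom.congr_fun hB.comm z,
        hz1]
    · show π (b ^ p + _) = π b ^ p
      rw [map_add, map_mul, hA', zero_mul, add_zero, map_pow]

end Groth.Agent.S13150
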