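import Groth.Statements.S13151
import Mathlib.RingTheory.IntegralClosure.IntegrallyClosed
import Mathlib.RingTheory.Localization.FractionRing
import Mathlib.RingTheory.Ideal.Quotient.Operations
-- import your own Groth.Agent.* helpers here

set_option autoImplicit false
universe u
open CAlg

namespace Groth.Agent.S13151

/-- Let A → B be an injective ring homomorphism of integral domains which is integral, with A integrally
closed, and let π be an element of A. Then the contraction to A of the ideal πB is πA, i.e. an
element of A which is a multiple of π in B is already a multiple of π in A; in particular if B/πB is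
an integral domain then A/πA is an integral domain. (The published statement is for an integral
dominant morphism of integral schemes flat over a discrete valuation ring, with normal target and π
a uniformizer; flatness and the valuation ring play no role, so π is an arbitrary element here.) -/
theorem result {A B : Type u} [CommRing A] [CommRing B]
    [IsDomain A] [IsDomain B] [IsIntegrallyClosed A] [Algebra A B] [Algebra.IsIntegral A B]
    (hinj : Function.Injective (algebraMap A B)) (π : A) :
    (Ideal.span {algebraMap A B π}).comap (algebraMap A B) = Ideal.span {π} ∧
      (IsDomain (B ⧸ Ideal.span {algebraMap A B π}) → IsDomain (A ⧸ Ideal.span {π})) := by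
  have h1 : (Ideal.span {algebraMap A B π}).comap (algebraMap A B) = Ideal.span {π} := by
    refine le_antisymm ?_ ?_
    · intro a ha
      rw [Ideal.mem_comap, Ideal.mem_span_singleton'] at ha
      obtain ⟨b, hb⟩ := ha
      rcases eq_or_ne π 0 with rfl | hπ
      · rw [map_zero, mul_zero] at hb
        rw [(injective_iff_map_eq_zero _).1 hinj a hb.symm]
        exact zero_mem _
      let φ : FractionRing A →+* FractionRing B :=
        IsFractionRing.lift (g := (algebraMap B (FractionRing B)).comp (algebraMap A B))
          ((IsFractionRing.injective B _).comp hinj)
      have hφ : ∀ x, φ (algebraMap A (FractionRing A) x) = algebraMap B (FractionRing B) (algebraMap A B x) :=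
        fun x => IsFractionRing.lift_algebraMap _ x
      let z : FractionRing A := algebraMap A _ a / algebraMap A _ π
      have hπ0 : algebraMap A (FractionRing A) π ≠ 0 := fun h =>
        hπ (IsFractionRing.injective A (FractionRing A) (by rw [h, map_zero]))
      have hz : φ z = algebraMap B (FractionRing B) b := by
        rw [map_div₀, hφ, hφ, ← hb, map_mul, mul_div_cancel_right₀]
        exact fun h => hπ (hinj (IsFractionRing.injective B (FractionRing B) (by rw [h, map_zero, map_zero])))
      obtain ⟨P, hP, hP0⟩ := Algebra.IsIntegral.isIntegral (R := A) b
      have hint : IsIntegral A z := by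
        refine ⟨P, hP, φ.injective ?_⟩
        rw [Polynomial.hom_eval₂, hz, map_zero,
          show φ.comp (algebraMap A (FractionRing A)) = (algebraMap B (FractionRing B)).comp (algebraMap A B) from
            RingHom.ext hφ, ← Polynomial.hom_eval₂, hP0, map_zero]
      obtain ⟨c, hc⟩ := IsIntegrallyClosed.isIntegral_iff.1 hint
      refine Ideal.mem_span_singleton'.2 ⟨c, IsFractionRing.injective A (FractionRing A) ?_⟩
      rw [map_mul, hc, div_mul_cancel₀ _ hπ0]
    · rw [Ideal.span_le, Set.singleton_subset_iff]
      exact Ideal.subset_span rfl
  refine ⟨h1, fun h => ?_⟩
  rw [Ideal.Quotient.isDomain_iff_prime] at h ⊢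
  rw [← h1]
  exact Ideal.comap_isPrime _ _

end Groth.Agent.S13151
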