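import Groth.Statements.S13153
import Groth.Agent.Lib.SepField.Smooth
import Mathlib.RingTheory.Kaehler.Polynomial
import Mathlib.RingTheory.Flat.FaithfullyFlat.Algebra
-- import your own Groth.Agent.* helpers here

set_option autoImplicit false
universe u
open CAlg

namespace Groth.Agent.S13153

/-- Let R be a discrete valuation ring whose fraction field K has characteristic zero, A an integral
domain which is a faithfully flat R-algebra, with fraction field L, such that K is algebraically
closed in L (every element of L algebraic over K is in the image of K). If f ∈ A has vanishing
differential, df = 0 in Ω_{A/R}, then f is the image of an element of R. (The published statement is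
the sheaf form: for a faithfully flat morphism X → Spec R with geometrically integral generic fibre,
the kernel of d : O_X → Ω¹_{X/R} is the inverse image of O_{Spec R}; for integral X, geometric
integrality of the generic fibre in characteristic zero amounts to K being algebraically closed in
the function field, which is the form used here, and this row is the case of global sections over an
affine X = Spec A.) -/
theorem result (R : Type u) [CommRing R] [IsDomain R]
    [IsDiscreteValuationRing R] [CharZero R] (K : Type u) [Field K] [Algebra R K] [IsFractionRing R K]
    (A : Type u) [CommRing A] [IsDomain A] [Algebra R A] [Module.FaithfullyFlat R A]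
    (L : Type u) [Field L] [Algebra A L] [IsFractionRing A L] [Algebra R L] [Algebra K L]
    [IsScalarTower R A L] [IsScalarTower R K L]
    (hac : ∀ x : L, IsAlgebraic K x → x ∈ (algebraMap K L).range)
    (f : A) (hf : KaehlerDifferential.D R A f = 0) : f ∈ (algebraMap R A).range := by
  have : CharZero K := charZero_of_injective_ringHom (IsFractionRing.injective R K)
  let g := algebraMap A L f
  have hDg : KaehlerDifferential.D K L g = 0 := by
    have h := congrArg (KaehlerDifferential.map R K A L) hf
    rwa [KaehlerDifferential.map_D, map_zero] at h
  have halg : IsAlgebraic K g := by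
    by_contra htr
    let P := MvPolynomial Unit K
    let φ : P →ₐ[K] L := MvPolynomial.aeval fun _ => g
    have hφ : Function.Injective φ := (algebraicIndependent_unique_type_iff (x := fun _ : Unit => g)).2 htr
    let _ : Algebra P L := φ.toRingHom.toAlgebra
    have : IsScalarTower K P L := IsScalarTower.of_algebraMap_eq fun x => (φ.commutes x).symm
    let Q := FractionRing P
    let _ : Algebra Q L := (IsFractionRing.lift (A := P) (g := φ.toRingHom) hφ).toAlgebra
    have : IsScalarTower P Q L :=
      IsScalarTower.of_algebraMap_eq fun x => (IsFractionRing.lift_algebraMap hφ x).symm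
    have : CharZero Q := charZero_of_injective_ringHom (algebraMap K Q).injective
    have : Algebra.FormallySmooth Q L := GrothLib.SepField.formallySmooth_of_charZero
    have : Algebra.FormallyEtale P Q := .of_isLocalization (nonZeroDivisors P)
    have : Algebra.FormallySmooth P L := .comp P Q L
    have hinj := GrothLib.SepField.injective_mapBaseChange_of_formallySmooth K P L
    let b := Algebra.TensorProduct.basis L (KaehlerDifferential.mvPolynomialBasis K Unit)
    refine b.ne_zero () (hinj ?_)
    rw [LinearMap.map_zero, Algebra.TensorProduct.basis_apply, KaehlerDifferential.mvPolynomialBasis_apply,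
      KaehlerDifferential.mapBaseChange_tmul, one_smul, KaehlerDifferential.map_D]
    rw [show algebraMap P L (MvPolynomial.X ()) = g from MvPolynomial.aeval_X _ _]
    exact hDg
  obtain ⟨c, hc⟩ := hac g halg
  obtain ⟨a, b, hb, rfl⟩ := IsFractionRing.div_surjective (A := R) c
  have hbL : algebraMap K L (algebraMap R K b) ≠ 0 := by
    rw [ne_eq, map_eq_zero, IsFractionRing.to_map_eq_zero_iff]
    exact nonZeroDivisors.ne_zero hb
  have hfb : f * algebraMap R A b = algebraMap R A a := by
    apply IsFractionRing.injective A L
    rw [map_mul, ← IsScalarTower.algebraMap_apply, ← IsScalarTower.algebraMap_apply,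
      IsScalarTower.algebraMap_apply R K L, IsScalarTower.algebraMap_apply R K L]
    rw [map_div₀, div_eq_iff hbL] at hc
    exact hc.symm
  have ha : a ∈ Ideal.span {b} := by
    rw [← Ideal.comap_map_eq_self_of_faithfullyFlat (B := A) (Ideal.span {b}), Ideal.mem_comap, ← hfb,
      Ideal.map_span, Set.image_singleton]
    exact Ideal.mul_mem_left _ _ (Ideal.mem_span_singleton_self _)
  obtain ⟨r, rfl⟩ := Ideal.mem_span_singleton'.1 ha
  refine ⟨r, mul_right_cancel₀ ?_ (hfb.trans (map_mul _ _ _)).symm⟩
  intro h0
  exact nonZeroDivisors.ne_zero hb (FaithfulSMul.algebraMap_injective R A (h0.trans (map_zero _).symm))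

end Groth.Agent.S13153
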