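import Groth.Statements.S13154
import Mathlib

set_option autoImplicit false
universe u
open scoped TensorProduct
open CAlg

namespace Groth.Agent.S13154

/-- Let R be a discrete valuation ring with fraction field K, A a faithfully flat R-algebra (an affine
faithfully flat base change S' → S = Spec R) and B₁, B₂ flat R-algebras (two affine S-schemes X₁ =
Spec B₁, X₂ = Spec B₂, flat over S). Suppose given a K-algebra homomorphism φ_K : K ⊗ B₂ → K ⊗ B₁ (a
morphism of the generic fibres X₁,K → X₂,K) and an A-algebra homomorphism φ_A : A ⊗ B₂ → A ⊗ B₁ (a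
morphism X₁ ×_S S' → X₂ ×_S S' over S') which coincide after base change to K ⊗ A, in the sense that
for every b ∈ B₂ the images of φ_K(1 ⊗ b) and φ_A(1 ⊗ b) in (K ⊗ A) ⊗ B₁ agree. Then there is
exactly one R-algebra homomorphism φ : B₂ → B₁ (a morphism X₁ → X₂) whose base changes to K and to A
are φ_K and φ_A. (The published statement assumes only X₂ flat over S; flatness of X₁ is also
needed: with B₂ = R[t], B₁ = R[e]/(e², πe) for a uniformizer π and A = R[x], the maps t ↦ 0 over K
and t ↦ e x over A agree over K ⊗ A = K[x] but come from no map over R.) -/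
theorem result (R : Type u) [CommRing R] [IsDomain R]
    [IsDiscreteValuationRing R] (K : Type u) [Field K] [Algebra R K] [IsFractionRing R K]
    (A : Type u) [CommRing A] [Algebra R A] [Module.FaithfullyFlat R A]
    (B₁ B₂ : Type u) [CommRing B₁] [CommRing B₂] [Algebra R B₁] [Algebra R B₂]
    [Module.Flat R B₁] [Module.Flat R B₂]
    (φK : K ⊗[R] B₂ →ₐ[K] K ⊗[R] B₁) (φA : A ⊗[R] B₂ →ₐ[A] A ⊗[R] B₁)
    (hcomp : ∀ b : B₂,
      Algebra.TensorProduct.map (Algebra.TensorProduct.includeLeft : K →ₐ[R] K ⊗[R] A) (AlgHom.id R B₁)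
          (φK (1 ⊗ₜ b)) =
        Algebra.TensorProduct.map (Algebra.TensorProduct.includeRight : A →ₐ[R] K ⊗[R] A) (AlgHom.id R B₁)
          (φA (1 ⊗ₜ b))) :
    ∃! φ : B₂ →ₐ[R] B₁, (∀ b : B₂, φK (1 ⊗ₜ b) = 1 ⊗ₜ φ b) ∧ (∀ b : B₂, φA (1 ⊗ₜ b) = 1 ⊗ₜ φ b) := by
  classical
  let mK := Algebra.TensorProduct.map (Algebra.TensorProduct.includeLeft : K →ₐ[R] K ⊗[R] A) (AlgHom.id R B₁)
  let mA := Algebra.TensorProduct.map (Algebra.TensorProduct.includeRight : A →ₐ[R] K ⊗[R] A) (AlgHom.id R B₁)
  have hKinj : Function.Injective (algebraMap R K) := IsFractionRing.injective R K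
  have hmA : Function.Injective mA := by
    have h1 : Function.Injective (Algebra.TensorProduct.includeRight : A →ₐ[R] K ⊗[R] A) :=
      Algebra.TensorProduct.includeRight_injective hKinj
    have h2 := Module.Flat.rTensor_preserves_injective_linearMap (M := B₁)
      (Algebra.TensorProduct.includeRight : A →ₐ[R] K ⊗[R] A).toLinearMap h1
    exact h2
  have hBinj : Function.Injective (Algebra.TensorProduct.includeRight : B₁ →ₐ[R] K ⊗[R] B₁) :=
    Algebra.TensorProduct.includeRight_injective hKinj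
  have hone : ∀ z : B₁, mK ((1 : K) ⊗ₜ z) = mA ((1 : A) ⊗ₜ z) := fun z => by simp [mK, mA]
  have hsurj : ∀ x : K ⊗[R] B₁, ∃ (s : R) (y : B₁), s ≠ 0 ∧ s • x = (1 : K) ⊗ₜ y := by
    intro x
    induction x using TensorProduct.induction_on with
    | zero => exact ⟨1, 0, one_ne_zero, by simp⟩
    | tmul k z =>
      obtain ⟨⟨a, s⟩, h⟩ := IsLocalization.surj (nonZeroDivisors R) k
      refine ⟨s, a • z, nonZeroDivisors.ne_zero s.2, ?_⟩
      rw [TensorProduct.smul_tmul', Algebra.smul_def, mul_comm, h,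
        Algebra.algebraMap_eq_smul_one, TensorProduct.smul_tmul]
    | add x x' hx hx' =>
      obtain ⟨s, y, hs, e⟩ := hx
      obtain ⟨s', y', hs', e'⟩ := hx'
      exact ⟨s * s', s' • y + s • y', mul_ne_zero hs hs', by
        rw [smul_add, mul_comm s s', mul_smul, e, TensorProduct.tmul_add, TensorProduct.tmul_smul,
          TensorProduct.tmul_smul, mul_comm s' s, mul_smul, e']⟩
  have key : ∀ b : B₂, ∃ z : B₁, φK (1 ⊗ₜ b) = 1 ⊗ₜ z ∧ φA (1 ⊗ₜ b) = 1 ⊗ₜ z := by
    intro b
    obtain ⟨s, y, hs, e⟩ := hsurj (φK (1 ⊗ₜ b))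
    have hw : s • φA (1 ⊗ₜ b) = (1 : A) ⊗ₜ y := hmA (by
      rw [map_smul mA, ← hone, ← e, map_smul mK]
      exact congrArg (s • ·) (hcomp b).symm)
    obtain ⟨z, rfl⟩ : ∃ z, s • z = y := by
      let N : Submodule R B₁ := LinearMap.range (s • LinearMap.id : B₁ →ₗ[R] B₁)
      have h0 : (1 : A) ⊗ₜ[R] N.mkQ y = 0 := by
        have h1 := congrArg (LinearMap.lTensor A N.mkQ) hw
        rw [map_smul, LinearMap.lTensor_tmul] at h1
        rw [← h1]
        have hkill : ∀ q : A ⊗[R] (B₁ ⧸ N), s • q = 0 := fun q => by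
          induction q using TensorProduct.induction_on with
          | zero => exact smul_zero _
          | tmul a q =>
            obtain ⟨u, rfl⟩ := N.mkQ_surjective q
            rw [← TensorProduct.tmul_smul, ← map_smul,
              show N.mkQ (s • u) = 0 from (Submodule.Quotient.mk_eq_zero N).2 ⟨u, rfl⟩,
              TensorProduct.tmul_zero]
          | add q q' hq hq' => rw [smul_add, hq, hq', add_zero]
        exact hkill _
      exact (Submodule.Quotient.mk_eq_zero N).1
        (Module.FaithfullyFlat.tensorProduct_mk_injective (A := R) (B := A) (B₁ ⧸ N)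
          (h0.trans (TensorProduct.tmul_zero _ _).symm))
    have hx : φK (1 ⊗ₜ b) = 1 ⊗ₜ z := by
      rw [TensorProduct.tmul_smul, ← algebraMap_smul K s, ← algebraMap_smul K s] at e
      exact smul_right_injective _ ((map_ne_zero_iff _ hKinj).2 hs) e
    exact ⟨z, hx, hmA (by rw [← hone, ← hx]; exact (hcomp b).symm)⟩
  choose f hfK hfA using key
  have hf : ∀ b z, φK (1 ⊗ₜ b) = (1 : K) ⊗ₜ z → f b = z := fun b z h => hBinj ((hfK b).symm.trans h)
  let φ : B₂ →ₐ[R] B₁ :=
    { toFun := f
      map_one' := hf 1 1 (by rw [← Algebra.TensorProduct.one_def, map_one, Algebra.TensorProduct.one_def])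
      map_mul' := fun x y => hf _ _ (by
        rw [← mul_one (1 : K), ← Algebra.TensorProduct.tmul_mul_tmul, map_mul, hfK, hfK,
          Algebra.TensorProduct.tmul_mul_tmul])
      map_zero' := hf 0 0 (by rw [TensorProduct.tmul_zero, TensorProduct.tmul_zero, map_zero])
      map_add' := fun x y => hf _ _ (by rw [TensorProduct.tmul_add, map_add, hfK, hfK, ← TensorProduct.tmul_add])
      commutes' := fun r => hf _ _ (by
        rw [Algebra.algebraMap_eq_smul_one r, TensorProduct.tmul_smul, ← Algebra.TensorProduct.one_def,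
          ← algebraMap_smul K r, map_smul, map_one, algebraMap_smul, Algebra.TensorProduct.one_def,
          ← TensorProduct.tmul_smul, ← Algebra.algebraMap_eq_smul_one]) }
  refine ⟨φ, ⟨hfK, hfA⟩, fun ψ hψ => AlgHom.ext fun b => (hf b _ (hψ.1 b)).symm⟩

end Groth.Agent.S13154
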