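import Groth.Statements.S13155
import Mathlib
-- import your own Groth.Agent.* helpers here

set_option autoImplicit false
universe u
open CAlg

namespace Groth.Agent.S13155

/-- Let R be a discrete valuation ring of characteristic zero with uniformizer π, and A a Noetherian
integrally closed domain which is an R-algebra with injective structure map and in which πA is a
prime ideal (X = Spec A is normal, flat over R, with integral special fibre). Let m ≥ 1 and let f ∈
A be invertible in A[1/π] (so Z^m = f defines a μ_m-torsor over the generic fibre), such that S =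
A[1/π][Z]/(Z^m − f) is an integral domain and, writing B for the integral closure of A in S (the
normalization of X in that cover), πB is a prime ideal of B (the normalization has integral special
fibre). Then f is, up to a unit of A, an m-th power of a power of π: f = π^{mq}·u with q ≥ 0 and u ∈
A^×, so that the cover extends to the μ_m-torsor Z^m = u over all of X. (The published statement is
the existence and uniqueness of the extending μ_m-torsor over a normal faithfully flat R-scheme with
integral fibres, R containing a primitive m-th root of unity; this row is the affine computation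
that carries the proof.) -/
theorem result (R : Type u) [CommRing R]
    [IsDomain R] [IsDiscreteValuationRing R] [CharZero R] (ϖ : R) (hϖ : Irreducible ϖ)
    (A : Type u) [CommRing A] [IsDomain A] [IsNoetherianRing A] [IsIntegrallyClosed A] [Algebra R A]
    (hinj : Function.Injective (algebraMap R A)) (hprime : (Ideal.span {algebraMap R A ϖ}).IsPrime)
    (m : ℕ) (hm : 0 < m) (f : A) (hf : IsUnit (algebraMap A (Localization.Away (algebraMap R A ϖ)) f))
    [IsDomain (AdjoinRoot (Polynomial.X ^ m - Polynomial.C (algebraMap A (Localization.Away (algebraMap R A ϖ)) f)))]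
    (hsp : (Ideal.span {algebraMap A (integralClosure A
        (AdjoinRoot (Polynomial.X ^ m - Polynomial.C (algebraMap A (Localization.Away (algebraMap R A ϖ)) f))))
          (algebraMap R A ϖ)}).IsPrime) :
    ∃ (q : ℕ) (u : Aˣ), f = algebraMap R A ϖ ^ (m * q) * (u : A) := by
  classical
  set π := algebraMap R A ϖ with hπdef
  let L := Localization.Away π
  have hπ0 : π ≠ 0 := fun h => hϖ.ne_zero (hinj (h.trans (map_zero _).symm))
  have hπP : Prime π := (Ideal.span_singleton_prime hπ0).1 hprime
  haveI : IsDomain L := IsLocalization.isDomain_localization (powers_le_nonZeroDivisors_of_noZeroDivisors hπ0)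
  have hAL : Function.Injective (algebraMap A L) :=
    IsLocalization.injective L (powers_le_nonZeroDivisors_of_noZeroDivisors hπ0)
  -- `f = π^a u`
  obtain ⟨a, u, hu, hfa⟩ : ∃ (a : ℕ) (u : A), IsUnit u ∧ f = π ^ a * u := by
    obtain ⟨g, hg⟩ := hf.exists_right_inv
    obtain ⟨⟨c, _, k, rfl⟩, hc⟩ := IsLocalization.surj (Submonoid.powers π) g
    have h1 : f * c = π ^ k := hAL (by
      rw [map_mul, show algebraMap A L c = g * algebraMap A L (π ^ k) from hc.symm, ← mul_assoc, hg, one_mul])
    obtain ⟨a, -, ha⟩ := (dvd_prime_pow hπP k).1 (Dvd.intro c h1)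
    obtain ⟨w, hw⟩ := ha.symm
    exact ⟨a, w, w.isUnit, hw.symm⟩
  suffices hm : m ∣ a by
    obtain ⟨q, rfl⟩ := hm
    exact ⟨q, hu.unit, hfa⟩
  by_contra hne
  set P : Polynomial L := Polynomial.X ^ m - Polynomial.C (algebraMap A L f) with hP
  let S := AdjoinRoot P
  let Z : S := AdjoinRoot.root P
  have hZ : Z ^ m = algebraMap A S f := by
    have := AdjoinRoot.eval₂_root P
    rw [hP, Polynomial.eval₂_sub, Polynomial.eval₂_pow, Polynomial.eval₂_X, Polynomial.eval₂_C, sub_eq_zero] at this
    rw [this]; rfl
  have hπS : IsUnit (algebraMap A S π) := by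
    rw [IsScalarTower.algebraMap_apply A L S]
    exact (IsLocalization.map_units L (⟨π, 1, pow_one π⟩ : Submonoid.powers π)).map _
  obtain ⟨v, hv⟩ := hπS.exists_right_inv
  let w : S := Z * v ^ (a / m)
  have hr : 0 < a % m := Nat.pos_of_ne_zero fun h => hne (Nat.dvd_of_mod_eq_zero h)
  have hw : w ^ m = algebraMap A S (π ^ (a % m) * u) := by
    rw [mul_pow, hZ, ← pow_mul, hfa]
    have : π ^ a = π ^ (a % m) * π ^ (a / m * m) := by
      rw [← pow_add, Nat.mul_comm, Nat.mod_add_div]
    rw [this, map_mul, map_mul, map_mul, map_pow, map_pow]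
    calc _ = algebraMap A S π ^ (a % m) * algebraMap A S u * (algebraMap A S π * v) ^ (a / m * m) := by ring
      _ = _ := by rw [hv, one_pow, mul_one]
  have hwi : IsIntegral A w := IsIntegral.of_pow hm (hw ▸ isIntegral_algebraMap)
  let W : integralClosure A S := ⟨w, hwi⟩
  let πB : integralClosure A S := algebraMap A (integralClosure A S) π
  have hW : W ^ m = πB ^ (a % m) * algebraMap A (integralClosure A S) u := Subtype.ext (by
    rw [SubmonoidClass.coe_pow]
    refine hw.trans ?_
    rw [map_mul, map_pow]
    rfl)
  have hmem : W ∈ Ideal.span {πB} := by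
    refine hsp.mem_of_pow_mem m ?_
    rw [hW]
    exact Ideal.mul_mem_right _ _ (Ideal.pow_mem_of_mem _ (Ideal.mem_span_singleton_self _) _ hr)
  obtain ⟨V, hV⟩ := Ideal.mem_span_singleton.1 hmem
  have hπB0 : πB ≠ 0 := fun h => hπS.ne_zero (congrArg Subtype.val h)
  refine hsp.ne_top (Ideal.span_singleton_eq_top.2 (isUnit_of_dvd_unit ?_ (hu.map (algebraMap A (integralClosure A S)))))
  have hlt : a % m < m := Nat.mod_lt a hm
  refine (dvd_pow_self πB (n := m - a % m) (by omega)).trans ⟨V ^ m, ?_⟩
  refine mul_left_cancel₀ (pow_ne_zero (a % m) hπB0) ?_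
  rw [← hW, hV, mul_pow, ← mul_assoc, ← pow_add, Nat.add_sub_cancel' hlt.le]

end Groth.Agent.S13155
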