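import Groth.Statements.S13156
import Mathlib

set_option autoImplicit false
universe u
open scoped Polynomial
open CAlg

namespace Groth.Agent.S13156

open Polynomial

variable {A : Type u} [CommRing A]

lemma dual_aeval (F : A[X]) (u v : A[X]) :
    Polynomial.aeval (TrivSqZeroExt.inl u + TrivSqZeroExt.inr v : DualNumber A[X]) F =
      TrivSqZeroExt.inl (F.comp u) + TrivSqZeroExt.inr ((derivative F).comp u * v) := by
  induction F using Polynomial.induction_on' with
  | add p q hp hq => rw [map_add, hp, hq, derivative_add, add_comp, add_comp, add_mul, TrivSqZeroExt.inl_add, TrivSqZeroExt.inr_add]; abel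
  | monomial n a =>
    ext
    · simp [aeval_monomial, TrivSqZeroExt.algebraMap_eq_inl', derivative_monomial]
    · rw [aeval_monomial, TrivSqZeroExt.algebraMap_eq_inl', derivative_monomial, monomial_comp]
      simp [Polynomial.algebraMap_eq, -coeff_C_mul]
      ring_nf

lemma unit_of_lt (p : ℕ) (hu : IsUnit ((Nat.factorial (p - 1) : ℕ) : A)) {j : ℕ} (h1 : 1 ≤ j) (h2 : j < p) :
    IsUnit ((j : ℕ) : A) :=
  isUnit_of_dvd_unit (Nat.cast_dvd_cast (Nat.dvd_factorial h1 (by omega))) hu

/-- Uniqueness for the differential equation `(1 + μT) y' = a y` in degree `< p`. -/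
lemma ode_unique {S : Type*} [CommRing S] (p : ℕ)
    (hu : IsUnit ((Nat.factorial (p - 1) : ℕ) : S)) (μ a : S) (G : S[X]) (hG : G.natDegree < p)
    (h0 : G.coeff 0 = 0) (h : derivative G * (1 + Polynomial.C μ * Polynomial.X) = Polynomial.C a * G) :
    G = 0 := by
  ext j
  induction j with
  | zero => simpa using h0
  | succ j ih =>
    rcases Nat.lt_or_ge (j + 1) p with hj | hj
    · have h1 := congrArg (Polynomial.coeff · j) h
      simp only [mul_add, mul_one, coeff_add, coeff_derivative, coeff_C_mul] at h1
      have h2 : (derivative G * (Polynomial.C μ * Polynomial.X)).coeff j = 0 := by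
        rcases j with _ | i
        · simp
        · rw [← mul_assoc, coeff_mul_X, coeff_mul_C, coeff_derivative, ih]
          simp
      rw [h2, ih, coeff_zero, mul_zero, add_zero] at h1
      replace h1 : G.coeff (j + 1) * ((j + 1 : ℕ) : S) = 0 := by simpa [mul_add] using h1
      simpa using (unit_of_lt p hu (Nat.le_add_left 1 j) hj).mul_left_eq_zero.1 h1
    · rw [coeff_zero]
      exact coeff_eq_zero_of_natDegree_lt (hG.trans_le hj)

lemma ode_imp (A : Type u) [CommRing A] (p : ℕ) (hu : IsUnit ((Nat.factorial (p - 1) : ℕ) : A))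
    (μ : A) (F : A[X]) (hF : F.natDegree < p)
    (h : F * Polynomial.C (F.coeff 1) = derivative F * (1 + Polynomial.C μ * Polynomial.X)) :
    Polynomial.aeval (MvPolynomial.X 0 : MvPolynomial (Fin 2) A) F *
          Polynomial.aeval (MvPolynomial.X 1 : MvPolynomial (Fin 2) A) F - MvPolynomial.C (F.coeff 0 ^ 2) =
        Polynomial.aeval (MvPolynomial.X 0 + MvPolynomial.X 1 +
            MvPolynomial.C μ * MvPolynomial.X 0 * MvPolynomial.X 1 : MvPolynomial (Fin 2) A) F -
          MvPolynomial.C (F.coeff 0) := by
  have ha0 : F.coeff 0 * F.coeff 1 = F.coeff 1 := by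
    simpa [mul_coeff_zero, coeff_derivative] using congrArg (Polynomial.coeff · 0) h
  have hconst : Polynomial.C (F.coeff 0 - 1) * (F - Polynomial.C (F.coeff 0)) = 0 := by
    refine ode_unique p hu μ (F.coeff 1) _ ?_ (by simp) ?_
    · exact (natDegree_C_mul_le _ _).trans_lt ((natDegree_sub_C).trans_lt hF)
    · have : Polynomial.C (F.coeff 0 - 1) * Polynomial.C (F.coeff 1) = 0 := by
        rw [← map_mul, sub_mul, one_mul, ha0, sub_self, map_zero]
      simp only [derivative_mul, derivative_C, derivative_sub, zero_mul, zero_add, sub_zero, mul_assoc, ← h]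
      linear_combination (Polynomial.C (F.coeff 0)) * this
  -- polynomials in T over A[S]
  let e : MvPolynomial (Fin 2) A →ₐ[A] A[X][X] :=
    MvPolynomial.aeval fun i => if i = 0 then Polynomial.C Polynomial.X else Polynomial.X
  have hinj : Function.Injective e := by
    let d : A[X][X] →+* MvPolynomial (Fin 2) A :=
      Polynomial.eval₂RingHom (Polynomial.aeval (MvPolynomial.X 0 : MvPolynomial (Fin 2) A)).toRingHom
        (MvPolynomial.X 1)
    have : d.comp e.toRingHom = RingHom.id _ := by
      ext i
      · simp [d, e]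
      · fin_cases i <;> simp [d, e]
    exact Function.LeftInverse.injective fun z => DFunLike.congr_fun this z
  apply hinj
  let u : A[X][X] := Polynomial.C Polynomial.X +
    (1 + Polynomial.C (Polynomial.C μ * Polynomial.X)) * Polynomial.X
  have hu1 : e (MvPolynomial.X 0 + MvPolynomial.X 1 + MvPolynomial.C μ * MvPolynomial.X 0 * MvPolynomial.X 1) = u := by
    simp [e, u, Polynomial.algebraMap_apply]; ring
  have hT : e (MvPolynomial.X 1) = Polynomial.X := by simp [e]
  have hS : e (MvPolynomial.X 0) = Polynomial.C Polynomial.X := by simp [e]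
  have heC : ∀ c, e (MvPolynomial.C c) = algebraMap A A[X][X] c := fun c => e.commutes c
  simp only [map_sub, map_mul e, ← Polynomial.aeval_algHom_apply, hu1, hT, hS, heC]
  set F' : A[X][X] := F.map Polynomial.C with hF'
  have eT : Polynomial.aeval (Polynomial.X : A[X][X]) F = F' := by
    rw [hF', Polynomial.aeval_def, ← Polynomial.eval₂_C_X (p := F.map Polynomial.C), Polynomial.eval₂_map]; rfl
  have eu : Polynomial.aeval u F = F'.comp u := by
    rw [hF', Polynomial.aeval_def, Polynomial.comp, Polynomial.eval₂_map]; rfl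
  have eS : Polynomial.aeval (Polynomial.C Polynomial.X : A[X][X]) F = Polynomial.C F := by
    rw [show (Polynomial.C Polynomial.X : A[X][X]) = algebraMap A[X] A[X][X] Polynomial.X from rfl,
      Polynomial.aeval_algebraMap_apply, Polynomial.aeval_X_left_apply]; rfl
  rw [eT, eu, eS]
  have halg : ∀ c : A, algebraMap A A[X][X] c = Polynomial.C (Polynomial.C c) := fun c => rfl
  rw [halg, halg]
  have hF'e : F' * Polynomial.C (Polynomial.C (F.coeff 1)) =
      derivative F' * (1 + Polynomial.C (Polynomial.C μ) * Polynomial.X) := by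
    have := congrArg (Polynomial.map (Polynomial.C : A →+* A[X])) h
    simpa [Polynomial.derivative_map, hF'] using this
  have hue : (F'.comp u) * Polynomial.C (Polynomial.C (F.coeff 1)) =
      (derivative F').comp u * (1 + Polynomial.C (Polynomial.C μ) * u) := by
    have := congrArg (·.comp u) hF'e
    simpa using this
  have hdu : derivative u = 1 + Polynomial.C (Polynomial.C μ * Polynomial.X) := by simp [u]
  have h2 : Polynomial.C (Polynomial.C (F.coeff 0)) * Polynomial.C (Polynomial.C (F.coeff 1)) =
      Polynomial.C (Polynomial.C (F.coeff 1)) := by rw [← map_mul, ← map_mul, ha0]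
  suffices Polynomial.C F * F' - Polynomial.C (Polynomial.C (F.coeff 0 ^ 2)) -
      (F'.comp u - Polynomial.C (Polynomial.C (F.coeff 0))) = 0 from sub_eq_zero.1 this
  refine ode_unique p ?_ (Polynomial.C μ) (Polynomial.C (F.coeff 1)) _ ?_ ?_ ?_
  · rw [← map_natCast (Polynomial.C : A →+* A[X])]; exact hu.map _
  · have d1 : u.natDegree ≤ 1 := by
      refine (natDegree_add_le _ _).trans (max_le (by simp) ?_)
      refine natDegree_mul_le.trans ?_
      have : (1 + Polynomial.C (Polynomial.C μ * Polynomial.X) : A[X][X]).natDegree = 0 := by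
        rw [← map_one (Polynomial.C : A[X] →+* A[X][X]), ← map_add, natDegree_C]
      have := natDegree_X_le (R := A[X])
      omega
    have d2 : (F'.comp u).natDegree ≤ F.natDegree := by
      refine natDegree_comp_le.trans ((Nat.mul_le_mul (natDegree_map_le) d1).trans (by simp))
    have d3 : (Polynomial.C F * F').natDegree ≤ F.natDegree :=
      (natDegree_C_mul_le _ _).trans natDegree_map_le
    refine lt_of_le_of_lt ((natDegree_sub_le _ _).trans (max_le ?_ ?_)) hF
    · rw [natDegree_sub_C]; exact d3
    · rw [natDegree_sub_C]; exact d2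
  · have hu0 : u.eval 0 = Polynomial.X := by simp [u]
    have : (F'.comp u).coeff 0 = F := by
      rw [coeff_zero_eq_eval_zero, eval_comp, hu0, hF', eval_map, eval₂_C_X]
    simp only [coeff_sub, coeff_C_zero, coeff_C_mul, this]
    simp only [hF', coeff_map]
    have := hconst
    simp only [map_sub, map_pow, map_one] at this ⊢
    linear_combination this
  · simp only [derivative_sub, derivative_mul, derivative_C, derivative_comp, zero_mul, zero_add, sub_zero, hdu]
    have hf := hF'e
    simp only [map_mul, map_pow, u] at hue ⊢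
    linear_combination -(Polynomial.C F) * hf + hue + (Polynomial.C (Polynomial.C (F.coeff 0)) - 0) * h2 + 0 * h2


/-- Let p be a prime number, A a commutative ring in which (p−1)! is invertible, μ an element of A, and
F ∈ A[X] a polynomial of degree at most p − 1 with coefficients a_0, a_1, …. Then the identity
F(S)·F(T) − a_0² = F(S + T + μST) − a_0 holds in the polynomial ring A[S, T] if and only if a_1·F(S)
= F′(S)·(1 + μS) holds in A[S], F′ the formal derivative. (The published statement is over the
quotient of a discrete valuation ring of residue characteristic p by a nonzero element of its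
maximal ideal; only the invertibility of 1, …, p − 1 is used, so an arbitrary such ring A is allowed
here.) -/
theorem result (A : Type u) [CommRing A] (p : ℕ) [Fact p.Prime]
    (hu : IsUnit ((Nat.factorial (p - 1) : ℕ) : A)) (μ : A) (F : A[X]) (hF : F.natDegree < p) :
    (Polynomial.aeval (MvPolynomial.X 0 : MvPolynomial (Fin 2) A) F *
          Polynomial.aeval (MvPolynomial.X 1 : MvPolynomial (Fin 2) A) F - MvPolynomial.C (F.coeff 0 ^ 2) =
        Polynomial.aeval (MvPolynomial.X 0 + MvPolynomial.X 1 +
            MvPolynomial.C μ * MvPolynomial.X 0 * MvPolynomial.X 1 : MvPolynomial (Fin 2) A) F -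
          MvPolynomial.C (F.coeff 0)) ↔
      F * Polynomial.C (F.coeff 1) = Polynomial.derivative F * (1 + Polynomial.C μ * Polynomial.X) := by
  constructor
  · intro h
    let x : DualNumber (Polynomial A) := TrivSqZeroExt.inl Polynomial.X
    let ev : MvPolynomial (Fin 2) A →ₐ[A] DualNumber (Polynomial A) :=
      MvPolynomial.aeval fun i => if i = 0 then x else DualNumber.eps
    have eC : ∀ c : A, ev (MvPolynomial.C c) = TrivSqZeroExt.inl (Polynomial.C c) := fun c => by
      rw [← MvPolynomial.algebraMap_eq, AlgHom.commutes]; rfl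
    have e0 : ev (MvPolynomial.X 0) = TrivSqZeroExt.inl Polynomial.X + TrivSqZeroExt.inr 0 := by
      simp only [ev, x, MvPolynomial.aeval_X, if_true, TrivSqZeroExt.inr_zero, add_zero]
    have e1 : ev (MvPolynomial.X 1) = TrivSqZeroExt.inl 0 + TrivSqZeroExt.inr 1 := by
      simp only [ev, MvPolynomial.aeval_X, if_neg (one_ne_zero : (1 : Fin 2) ≠ 0), DualNumber.eps, TrivSqZeroExt.inl_zero, zero_add]
    have e2 : ev (MvPolynomial.X 0 + MvPolynomial.X 1 + MvPolynomial.C μ * MvPolynomial.X 0 * MvPolynomial.X 1) =
        TrivSqZeroExt.inl Polynomial.X + TrivSqZeroExt.inr (1 + Polynomial.C μ * Polynomial.X) := by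
      rw [map_add, map_add, map_mul, map_mul, e0, e1, eC]
      ext1
      · simp only [TrivSqZeroExt.fst_add, TrivSqZeroExt.fst_mul, TrivSqZeroExt.fst_inl, TrivSqZeroExt.fst_inr]
        ring
      · simp only [TrivSqZeroExt.snd_add, TrivSqZeroExt.snd_mul, TrivSqZeroExt.snd_inl, TrivSqZeroExt.snd_inr,
          TrivSqZeroExt.fst_add, TrivSqZeroExt.fst_mul, TrivSqZeroExt.fst_inl, TrivSqZeroExt.fst_inr,
          smul_eq_mul, op_smul_eq_smul]
        ring
    have h1 := congrArg (fun z => TrivSqZeroExt.snd (ev z)) h
    simp only [map_sub, map_mul ev, ← Polynomial.aeval_algHom_apply, e0, e1, e2, eC, dual_aeval] at h1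
    simp only [TrivSqZeroExt.snd_add, TrivSqZeroExt.snd_sub, TrivSqZeroExt.snd_mul, TrivSqZeroExt.snd_inl,
      TrivSqZeroExt.snd_inr, TrivSqZeroExt.fst_add, TrivSqZeroExt.fst_inl, TrivSqZeroExt.fst_inr,
      smul_eq_mul, op_smul_eq_smul, Polynomial.comp_X, Polynomial.comp_zero, mul_zero, mul_one, add_zero,
      zero_add, sub_zero] at h1
    rw [← h1, ← Polynomial.coeff_zero_eq_eval_zero, Polynomial.coeff_derivative]
    simp
  · intro h
    exact ode_imp A p hu μ F hF h

end Groth.Agent.S13156
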