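import Groth.Statements.S13157
import Mathlib
-- import your own Groth.Agent.* helpers here

set_option autoImplicit false
universe u
open scoped Polynomial
open CAlg

namespace Groth.Agent.S13157

/-- (i) ⇔ (ii): let p be a prime number, A a commutative ring in which (p−1)! is invertible, μ ∈ A, and
F ∈ A[X] a polynomial of degree at most p − 1 with constant term a_0 = 1 and coefficients a_1, a_2,
…. Then the relations a_{r−1}·a_1 = (r − 1)μ·a_{r−1} + r·a_r for 1 ≤ r ≤ p (with a_p = 0), written
here as the single identity a_1·F = F′·(1 + μX), hold if and only if r!·a_r = ∏_{k=0}^{r−1} (a_1 −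
kμ) for every 1 ≤ r ≤ p − 1 and ∏_{k=0}^{p−1} (a_1 − kμ) = 0. (The published statement lists the
relations only for 1 ≤ r ≤ p − 1, while its proof uses and derives the relation for r = p as well,
which is needed for the vanishing of the last product; it is included here. The published setting is
the quotient of a discrete valuation ring of residue characteristic p by a nonzero non-unit; only
the invertibility of 1, …, p − 1 is used.) -/
theorem result (A : Type u) [CommRing A] (p : ℕ) [Fact p.Prime]
    (hu : IsUnit ((Nat.factorial (p - 1) : ℕ) : A)) (μ : A) (F : A[X]) (hF : F.natDegree < p)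
    (h0 : F.coeff 0 = 1) :
    F * Polynomial.C (F.coeff 1) = Polynomial.derivative F * (1 + Polynomial.C μ * Polynomial.X) ↔
      ((∀ r : ℕ, 1 ≤ r → r < p →
          (r.factorial : A) * F.coeff r = ∏ k ∈ Finset.range r, (F.coeff 1 - (k : A) * μ)) ∧
        ∏ k ∈ Finset.range p, (F.coeff 1 - (k : A) * μ) = 0) := by
  classical
  have hcoeff : ∀ r : ℕ, (F * Polynomial.C (F.coeff 1) - Polynomial.derivative F * (1 + Polynomial.C μ * Polynomial.X)).coeff r =
      F.coeff r * (F.coeff 1 - (r : A) * μ) - (r + 1 : A) * F.coeff (r + 1) := by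
    intro r
    rw [Polynomial.coeff_sub, Polynomial.coeff_mul_C, mul_add, mul_one, ← mul_assoc, Polynomial.coeff_add,
      Polynomial.coeff_derivative]
    cases r with
    | zero => simp
    | succ r => rw [Polynomial.coeff_mul_X, Polynomial.coeff_mul_C, Polynomial.coeff_derivative]; push_cast; ring
  have hzero : ∀ r, p ≤ r → F.coeff r = 0 := fun r hr ↦ Polynomial.coeff_eq_zero_of_natDegree_lt (by omega)
  have hp1 : 1 ≤ p := (Fact.out : p.Prime).one_le
  rw [← sub_eq_zero, Polynomial.ext_iff]
  simp only [hcoeff, Polynomial.coeff_zero, sub_eq_zero]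
  constructor
  · intro h
    have hmain : ∀ r : ℕ, (r.factorial : A) * F.coeff r = ∏ k ∈ Finset.range r, (F.coeff 1 - (k : A) * μ) := by
      intro r
      induction r with
      | zero => simp [h0]
      | succ r ih => rw [Finset.prod_range_succ, ← ih, Nat.factorial_succ, mul_assoc, h r]; push_cast; ring
    refine ⟨fun r _ _ ↦ hmain r, ?_⟩
    rw [← hmain p, hzero p le_rfl, mul_zero]
  · rintro ⟨h1, h2⟩ r
    have hmain : ∀ r : ℕ, r < p → (r.factorial : A) * F.coeff r = ∏ k ∈ Finset.range r, (F.coeff 1 - (k : A) * μ) := by
      intro r hr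
      rcases Nat.eq_zero_or_pos r with rfl | hr0
      · simp [h0]
      · exact h1 r hr0 hr
    rcases lt_or_ge r p with hr | hr
    · have hur : IsUnit (r.factorial : A) :=
        isUnit_of_dvd_unit (by exact_mod_cast (Nat.cast_dvd_cast (α := A) (Nat.factorial_dvd_factorial (by omega : r ≤ p - 1)))) hu
      apply hur.mul_left_cancel
      rw [← mul_assoc, hmain r hr, ← Finset.prod_range_succ (fun k : ℕ ↦ F.coeff 1 - (k : A) * μ) r]
      rcases Nat.lt_or_ge (r + 1) p with hr1 | hr1
      · rw [← hmain (r + 1) hr1, Nat.factorial_succ]; push_cast; ring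
      · rw [hzero (r + 1) hr1, show r + 1 = p by omega, h2]; simp
    · rw [hzero r hr, hzero (r + 1) (by omega)]; simp

end Groth.Agent.S13157
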