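import Groth.Statements.S13158
import Mathlib
-- import your own Groth.Agent.* helpers here

set_option autoImplicit false
universe u
open CAlg

namespace Groth.Agent.S13158

/-- Let R be a discrete valuation ring of characteristic zero whose maximal ideal contains the prime
number p, let n ≥ 1, and let λ be a nonzero element of R such that λ^(p^(n−1)(p−1)) divides p (the
condition v(p) ≥ p^(n−1)(p−1)·v(λ) under which the polynomial ((1 + λT)^(p^n) − 1)/λ^(p^n) has
coefficients in R). Let A be an integrally closed integral domain which is a faithfully flat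
R-algebra. Then for every unit x of A, λ^(p^n) divides x^(p^n) − 1 in A if and only if λ divides x −
1 in A. -/
theorem result (R : Type u) [CommRing R]
    [IsDomain R] [IsDiscreteValuationRing R] [CharZero R] (p n : ℕ) [Fact p.Prime] (hn : 1 ≤ n)
    (hp : (p : R) ∈ IsLocalRing.maximalIdeal R) (lam : R) (hlam : lam ≠ 0)
    (hstar : lam ^ (p ^ (n - 1) * (p - 1)) ∣ (p : R))
    (A : Type u) [CommRing A] [IsDomain A] [IsIntegrallyClosed A] [Algebra R A] [Module.FaithfullyFlat R A]
    (x : Aˣ) :
    (algebraMap R A lam ^ p ^ n ∣ (x : A) ^ p ^ n - 1) ↔ (algebraMap R A lam ∣ (x : A) - 1) := by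
  classical
  have hp' : p.Prime := Fact.out
  have hinj : Function.Injective (algebraMap R A) := FaithfulSMul.algebraMap_injective R A
  set L := algebraMap R A lam with hL
  have hL0 : L ≠ 0 := fun h => hlam (hinj (h.trans (map_zero _).symm))
  set N := p ^ n with hN
  have hNpos : 0 < N := pow_pos hp'.pos n
  have hstarA : L ^ (p ^ (n - 1) * (p - 1)) ∣ (p : A) := by
    have := map_dvd (algebraMap R A) hstar
    rwa [map_pow, map_natCast] at this
  have hdiv : ∀ k, 1 ≤ k → k ≤ N → L ^ (N - k) ∣ (N.choose k : A) := by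
    intro k hk1 hkN
    set j := k.factorization p with hj
    have hjk : p ^ j ≤ k := Nat.le_of_dvd hk1 (Nat.ordProj_dvd k p)
    have hjn : j ≤ n := by
      have h1 : p ^ j ≤ p ^ n := hjk.trans hkN
      exact (Nat.pow_le_pow_iff_right hp'.one_lt).mp h1
    have hch : p ^ (n - j) ∣ N.choose k := by
      have := Nat.ordProj_dvd (N.choose k) p
      rwa [hN, Nat.factorization_choose_prime_pow hp' hkN (by omega)] at this
    have hexp : N - k ≤ p ^ (n - 1) * (p - 1) * (n - j) := by
      have key : ∀ d i, i + d = n → p ^ n ≤ p ^ i + p ^ (n - 1) * (p - 1) * d := by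
        intro d
        induction d with
        | zero => intro i hi; rw [add_zero] at hi; subst hi; simp
        | succ d ih =>
          intro i hi
          have h1 := ih (i + 1) (by omega)
          have h2 : p ^ i ≤ p ^ (n - 1) := Nat.pow_le_pow_right hp'.pos (by omega)
          have h3 : p ^ (i + 1) = p ^ i + p ^ i * (p - 1) := by
            obtain ⟨q, hq⟩ := Nat.exists_eq_add_of_le hp'.one_le
            rw [pow_succ]
            subst hq
            rw [Nat.add_sub_cancel_left]
            ring
          have h4 : p ^ i * (p - 1) ≤ p ^ (n - 1) * (p - 1) := Nat.mul_le_mul_right _ h2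
          rw [Nat.mul_succ]
          omega
      have := key (n - j) j (by omega)
      omega
    calc L ^ (N - k) ∣ L ^ (p ^ (n - 1) * (p - 1) * (n - j)) := pow_dvd_pow _ hexp
      _ ∣ (p : A) ^ (n - j) := by rw [pow_mul]; exact pow_dvd_pow_of_dvd hstarA _
      _ ∣ (N.choose k : A) := by
        have := map_dvd (Nat.castRingHom A) hch
        simpa using this
  have hb : ∀ k, ∃ b : A, k ≤ N → 1 ≤ k → (N.choose k : A) * L ^ k = L ^ N * b := by
    intro k
    by_cases hk : 1 ≤ k ∧ k ≤ N
    · obtain ⟨c, hc⟩ := hdiv k hk.1 hk.2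
      refine ⟨c, fun _ _ => ?_⟩
      rw [hc, mul_right_comm, ← pow_add, Nat.sub_add_cancel hk.2]
    · exact ⟨0, fun h1 h2 => absurd ⟨h2, h1⟩ hk⟩
  choose b hb using hb
  constructor
  · rintro ⟨c, hc⟩
    let K := FractionRing A
    let ι : A →+* K := algebraMap A K
    have hι : Function.Injective ι := IsFractionRing.injective A K
    have hL' : ι L ≠ 0 := fun h => hL0 (hι (h.trans (map_zero _).symm))
    set z : K := (ι (x : A) - 1) / ι L with hz
    have hx : ι (x : A) = ι L * z + 1 := by rw [hz, mul_div_cancel₀ _ hL']; ring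
    let P : Polynomial A := Polynomial.X ^ N +
      ((∑ k ∈ Finset.Ico 1 N, Polynomial.C (b k) * Polynomial.X ^ k) - Polynomial.C c)
    have hPm : P.Monic := by
      refine Polynomial.monic_X_pow_add ?_
      refine lt_of_le_of_lt (Polynomial.degree_sub_le _ _) (max_lt ?_ ?_)
      · refine lt_of_le_of_lt (Polynomial.degree_sum_le _ _) ?_
        rw [Finset.sup_lt_iff (WithBot.bot_lt_coe _)]
        intro k hk
        refine lt_of_le_of_lt (Polynomial.degree_C_mul_X_pow_le _ _) ?_
        exact WithBot.coe_lt_coe.mpr (Finset.mem_Ico.mp hk).2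
      · exact lt_of_le_of_lt Polynomial.degree_C_le (WithBot.coe_lt_coe.mpr hNpos)
    have hPz : Polynomial.eval₂ ι z P = 0 := by
      have h1 : ι ((x : A) ^ N - 1) = ι L ^ N * ι c := by rw [hc, map_mul, map_pow]
      rw [map_sub, map_pow, map_one, hx, add_pow, Finset.range_eq_Ico,
        Finset.sum_Ico_succ_top (Nat.zero_le N), Finset.sum_eq_sum_Ico_succ_bot hNpos] at h1
      simp only [Polynomial.eval₂_add, Polynomial.eval₂_sub, Polynomial.eval₂_finsetSum,
        Polynomial.eval₂_mul, Polynomial.eval₂_pow, Polynomial.eval₂_X, Polynomial.eval₂_C, P]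
      have h2 : ∑ k ∈ Finset.Ico 1 N, (ι L * z) ^ k * 1 ^ (N - k) * (N.choose k : K) =
          ι L ^ N * ∑ k ∈ Finset.Ico 1 N, ι (b k) * z ^ k := by
        rw [Finset.mul_sum]
        refine Finset.sum_congr rfl fun k hk => ?_
        obtain ⟨hk1, hk2⟩ := Finset.mem_Ico.mp hk
        have h3 := congrArg ι (hb k hk2.le hk1)
        rw [map_mul, map_mul, map_pow, map_pow, map_natCast] at h3
        rw [one_pow, mul_pow, mul_one]
        linear_combination (z ^ k) * h3
      simp only [pow_zero, one_mul, Nat.sub_zero, one_pow, Nat.choose_zero_right, Nat.cast_one,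
        mul_one, Nat.sub_self, Nat.choose_self, zero_add] at h1
      rw [show (∑ k ∈ Finset.Ico 1 N, (ι L * z) ^ k * (N.choose k : K)) =
        ∑ k ∈ Finset.Ico 1 N, (ι L * z) ^ k * 1 ^ (N - k) * (N.choose k : K) by
          simp only [one_pow, mul_one], h2, mul_pow] at h1
      have h5 : ι L ^ N * (z ^ N + ((∑ k ∈ Finset.Ico 1 N, ι (b k) * z ^ k) - ι c)) = 0 := by
        linear_combination h1
      exact (mul_eq_zero.mp h5).resolve_left (pow_ne_zero _ hL')
    obtain ⟨w, hw⟩ := IsIntegrallyClosed.isIntegral_iff.mp (⟨P, hPm, hPz⟩ : IsIntegral A z)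
    refine ⟨w, hι ?_⟩
    rw [map_sub, map_one, map_mul, hx, show ι w = z from hw]
    ring
  · rintro ⟨w, hw⟩
    rw [sub_eq_iff_eq_add] at hw
    rw [hw, add_pow, Finset.range_eq_Ico, Finset.sum_eq_sum_Ico_succ_bot (Nat.succ_pos N)]
    simp only [pow_zero, one_pow, Nat.choose_zero_right, Nat.cast_one, mul_one, add_sub_cancel_left]
    refine Finset.dvd_sum fun k hk => ?_
    obtain ⟨hk1, hk2⟩ := Finset.mem_Ico.mp hk
    refine ⟨b k * w ^ k, ?_⟩
    rw [mul_pow, ← mul_assoc (L ^ N), ← hb k (by omega) hk1]
    ring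

end Groth.Agent.S13158
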