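import Groth.Statements.S13159
import Mathlib
-- import your own Groth.Agent.* helpers here

set_option autoImplicit false
universe u
open CAlg

namespace Groth.Agent.S13159

/-- Let R be a discrete valuation ring with fraction field K, C an R-algebra which is finitely generated
as an R-module (the coordinate ring of a finite R-scheme G), and A an integral domain which is an
R-algebra with injective structure map and fraction field L, K → L being compatible, such that every
element of L algebraic over K lies in the image of K (the condition satisfied by the rings of
nonempty opens of an R-scheme with geometrically integral fibres). Then every R-algebra homomorphism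
C → A factors uniquely through the structure map R → A: the points of G with values in A are the
R-points of G. (The published statement is that for Y → Spec R with geometrically integral fibres
and G finite flat, the map H¹(Y, G) → H⁰(Y_Zar, R¹f_*G) from the Leray spectral sequence of Y_fl →
Y_Zar is bijective; this row is the step asserting that G restricted to the Zariski site of Y is the
constant sheaf G(R), for an affine open with function ring A.) -/
theorem result (R : Type u) [CommRing R]
    [IsDomain R] [IsDiscreteValuationRing R] (K : Type u) [Field K] [Algebra R K] [IsFractionRing R K]
    (C : Type u) [CommRing C] [Algebra R C] [Module.Finite R C]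
    (A : Type u) [CommRing A] [IsDomain A] [Algebra R A] (hinj : Function.Injective (algebraMap R A))
    (L : Type u) [Field L] [Algebra A L] [IsFractionRing A L] [Algebra R L] [Algebra K L]
    [IsScalarTower R A L] [IsScalarTower R K L]
    (hac : ∀ x : L, IsAlgebraic K x → x ∈ (algebraMap K L).range)
    (φ : C →ₐ[R] A) : ∃! ψ : C →ₐ[R] R, φ = (Algebra.ofId R A).comp ψ := by
  have key : ∀ c : C, ∃ r : R, algebraMap R A r = φ c := by
    intro c
    have hint : IsIntegral R c := IsIntegral.of_finite R c
    let ι : C →ₐ[R] L := (IsScalarTower.toAlgHom R A L).comp φ
    have h2 : IsIntegral R (algebraMap A L (φ c)) := hint.map ι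
    obtain ⟨k, hk⟩ := hac _ (h2.tower_top (A := K)).isAlgebraic
    rw [← hk] at h2
    have h3 : IsIntegral R k :=
      (isIntegral_algHom_iff (IsScalarTower.toAlgHom R K L) (algebraMap K L).injective).1 h2
    obtain ⟨r, hr⟩ := IsIntegrallyClosed.isIntegral_iff.1 h3
    refine ⟨r, IsFractionRing.injective A L ?_⟩
    rw [← IsScalarTower.algebraMap_apply, IsScalarTower.algebraMap_apply R K L, hr, hk]
  choose f hf using key
  let ψ : C →ₐ[R] R :=
    { toFun := f
      map_one' := hinj (by simp [hf])
      map_mul' := fun a b => hinj (by simp [hf])
      map_zero' := hinj (by simp [hf])
      map_add' := fun a b => hinj (by simp [hf])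
      commutes' := fun r => hinj (by simp [hf]) }
  refine ⟨ψ, AlgHom.ext fun c => (hf c).symm, fun χ hχ => AlgHom.ext fun c => hinj ?_⟩
  exact (AlgHom.congr_fun hχ c).symm.trans (hf c).symm

end Groth.Agent.S13159
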