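import Groth.Statements.S13160
import Mathlib
-- import your own Groth.Agent.* helpers here

set_option autoImplicit false
universe u
open CAlg

namespace Groth.Agent.S13160

/-- Let R be a discrete valuation ring, p a prime number and λ an element of R dividing p (so that R/λR
is an 𝔽_p-algebra), and let a and b be p-typical Witt vectors with coefficients in R/λR which are
killed by the Frobenius endomorphism. Then the Witt sum a + b has components a_n + b_n for every n.
(The published statement allows an arbitrary λ ∈ R and is stated for Witt vectors with finitely many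
nonzero components; this row assumes that λ divides p, so that p = 0 in R/λR, and allows all Witt
vectors.) -/
theorem result (R : Type u) [CommRing R] [IsDomain R]
    [IsDiscreteValuationRing R] (p : ℕ) [Fact p.Prime] (lam : R) (hlam : lam ∣ (p : R))
    (a b : WittVector p (R ⧸ Ideal.span {lam})) (ha : WittVector.frobenius a = 0)
    (hb : WittVector.frobenius b = 0) (n : ℕ) : (a + b).coeff n = a.coeff n + b.coeff n := by
  classical
  by_cases hl : IsUnit lam
  · haveI : Subsingleton (R ⧸ Ideal.span {lam}) := Ideal.Quotient.subsingleton_iff.2 (Ideal.span_singleton_eq_top.2 hl)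
    exact Subsingleton.elim _ _
  haveI : Nontrivial (R ⧸ Ideal.span {lam}) := Ideal.Quotient.nontrivial_iff.2 (mt Ideal.span_singleton_eq_top.1 hl)
  haveI : CharP (R ⧸ Ideal.span {lam}) p := by
    rw [CharP.charP_iff_prime_eq_zero (Fact.out : p.Prime)]
    rw [← map_natCast (Ideal.Quotient.mk (Ideal.span {lam})), Ideal.Quotient.eq_zero_iff_mem]
    exact Ideal.mem_span_singleton.2 hlam
  have hpa : ∀ i, a.coeff i ^ p = 0 := fun i => by rw [← WittVector.coeff_frobenius_charP, ha]; simp
  have hpb : ∀ i, b.coeff i ^ p = 0 := fun i => by rw [← WittVector.coeff_frobenius_charP, hb]; simp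
  -- the universal coefficient is isobaric of weight `p ^ n`
  let v : ℕ → (Fin 2 × ℕ) → ℕ := fun _ q => p ^ q.2
  let xs : Fin 2 → WittVector p (MvPolynomial (Fin 2 × ℕ) ℤ) := fun j =>
    WittVector.mk p fun i => if i < n then MvPolynomial.X (j, i) else 0
  let E : MvPolynomial (Fin 2 × ℕ) ℤ := (xs 0 + xs 1).coeff n
  have hw : ∀ d ∈ E.support, Finsupp.linearCombination ℕ (v n) d = p ^ n := by
    let ι : MvPolynomial (Fin 2 × ℕ) ℤ →+* MvPolynomial (Fin 2 × ℕ) ℚ := MvPolynomial.map (Int.castRingHom ℚ)
    let U := Polynomial (MvPolynomial (Fin 2 × ℕ) ℚ)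
    let φ : MvPolynomial (Fin 2 × ℕ) ℚ →+* U := MvPolynomial.eval₂Hom (Polynomial.C.comp MvPolynomial.C)
      (fun q => Polynomial.C (MvPolynomial.X q) * Polynomial.X ^ v n q)
    have hmono : ∀ (d : Fin 2 × ℕ →₀ ℕ) (r : ℚ), φ (MvPolynomial.monomial d r) =
        Polynomial.C (MvPolynomial.monomial d r) * Polynomial.X ^ Finsupp.linearCombination ℕ (v n) d := by
      intro d r
      simp only [φ, MvPolynomial.eval₂Hom_monomial, RingHom.comp_apply, Finsupp.prod, mul_pow, ← pow_mul,
        Finset.prod_mul_distrib, Finset.prod_pow_eq_pow_sum]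
      rw [MvPolynomial.monomial_eq, map_mul, Finsupp.prod, map_prod, mul_assoc]
      simp only [map_pow]
      congr 3
      rw [Finsupp.linearCombination_apply, Finsupp.sum]
      exact Finset.sum_congr rfl fun q _ => by rw [smul_eq_mul, mul_comm]
    have hco : ∀ (f : MvPolynomial (Fin 2 × ℕ) ℚ) d k, MvPolynomial.coeff d ((φ f).coeff k) =
        if Finsupp.linearCombination ℕ (v n) d = k then MvPolynomial.coeff d f else 0 := by
      intro f d k
      induction f using MvPolynomial.induction_on' with
      | monomial e r =>
        rw [hmono, Polynomial.coeff_C_mul_X_pow]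
        by_cases hde : e = d
        · subst hde
          by_cases hk : Finsupp.linearCombination ℕ (v n) e = k
          · rw [if_pos hk.symm, if_pos hk]
          · rw [if_neg (Ne.symm hk), if_neg hk, MvPolynomial.coeff_zero]
        · split_ifs <;> simp [MvPolynomial.coeff_monomial, hde]
      | add f g hf hg =>
        rw [map_add, Polynomial.coeff_add, MvPolynomial.coeff_add, hf, hg, MvPolynomial.coeff_add]
        split_ifs <;> simp
    haveI : Invertible (p : U) := by
      haveI : Invertible (p : ℚ) := invertibleOfNonzero (Nat.cast_ne_zero.2 (Fact.out : p.Prime).ne_zero)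
      exact (Invertible.map ((Polynomial.C.comp MvPolynomial.C) : ℚ →+* U) (p : ℚ)).copy _ (map_natCast _ p).symm
    let τ : U := Polynomial.X
    have hteich : ∀ z : WittVector p U, WittVector.teichmuller p τ * z =
        WittVector.mk p fun i => τ ^ p ^ i * z.coeff i := fun z => by
      refine (WittVector.ghostMap.bijective_of_invertible p U).1 (funext fun k => ?_)
      rw [WittVector.ghostMap_apply, WittVector.ghostMap_apply, map_mul, WittVector.ghostComponent_teichmuller,
        WittVector.ghostComponent_apply, WittVector.ghostComponent_apply, wittPolynomial_eq_sum_C_mul_X_pow,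
        map_sum, map_sum, Finset.mul_sum]
      refine Finset.sum_congr rfl fun i hi => ?_
      simp only [map_mul, map_pow, MvPolynomial.aeval_C, MvPolynomial.aeval_X, WittVector.coeff_mk]
      rw [mul_pow, ← pow_mul, ← pow_add, Nat.add_sub_cancel' (Nat.lt_succ_iff.1 (Finset.mem_range.1 hi))]
      ring
    have hkey : φ (ι E) = Polynomial.C (ι E) * Polynomial.X ^ p ^ n := by
      have h1 : ∀ j, WittVector.map (φ.comp ι) (xs j) =
          WittVector.teichmuller p τ * WittVector.map ((Polynomial.C : MvPolynomial (Fin 2 × ℕ) ℚ →+* U).comp ι) (xs j) := fun j => by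
        rw [hteich]
        refine WittVector.ext fun i => ?_
        rw [WittVector.map_coeff, WittVector.coeff_mk, WittVector.coeff_mk, WittVector.map_coeff, WittVector.coeff_mk]
        split_ifs with h
        · simp only [RingHom.comp_apply, ι, φ, MvPolynomial.map_X, MvPolynomial.eval₂Hom_X', v, τ]
          ring
        · simp
      have h2 := congrArg (fun z : WittVector p U => z.coeff n)
        ((map_add (WittVector.map (φ.comp ι)) (xs 0) (xs 1)).trans (by rw [h1, h1, ← mul_add, ← map_add, hteich]))
      simp only [WittVector.map_coeff, WittVector.coeff_mk, RingHom.comp_apply] at h2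
      rw [h2, mul_comm]
    intro d hd
    by_contra hne
    have h := hco (ι E) d (p ^ n)
    rw [hkey, Polynomial.coeff_C_mul_X_pow, if_pos rfl, if_neg hne] at h
    rw [MvPolynomial.coeff_map, eq_intCast, Int.cast_eq_zero] at h
    exact MvPolynomial.mem_support_iff.1 hd h
  -- hence the lower coefficients do not contribute
  let x : Fin 2 → ℕ → R ⧸ Ideal.span {lam} := ![a.coeff, b.coeff]
  have hx : ∀ q : Fin 2 × ℕ, x q.1 q.2 ^ p = 0 := by
    rintro ⟨j, i⟩; fin_cases j
    exacts [hpa i, hpb i]
  let θ : MvPolynomial (Fin 2 × ℕ) ℤ →+* R ⧸ Ideal.span {lam} :=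
    MvPolynomial.eval₂Hom (Int.castRingHom _) fun q => if q.2 < n then x q.1 q.2 else 0
  have hθ : ∀ j, WittVector.map θ (xs j) = WittVector.mk p fun i => if i < n then x j i else 0 := fun j =>
    WittVector.ext fun i => by
      rw [WittVector.map_coeff, WittVector.coeff_mk, WittVector.coeff_mk]
      split_ifs with h
      · simp [θ, h]
      · rw [map_zero]
  have hsel : ∀ (P : ℕ → Prop) (z : WittVector p (R ⧸ Ideal.span {lam})) (i : ℕ),
      (WittVector.select P z).coeff i = if P i then z.coeff i else 0 := fun P z i => by
    simp [WittVector.select]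
  have hinit : ∀ z : WittVector p (R ⧸ Ideal.span {lam}),
      WittVector.init n z = WittVector.mk p fun i => if i < n then z.coeff i else 0 := fun z =>
    WittVector.ext fun i => by rw [WittVector.coeff_mk, WittVector.init, hsel]; split_ifs <;> rfl
  have hE0 : (WittVector.init n a + WittVector.init n b).coeff n = 0 := by
    have h1 : WittVector.init n a + WittVector.init n b = WittVector.map θ (xs 0 + xs 1) := by
      rw [map_add, hθ, hθ, hinit, hinit]; rfl
    rw [h1, WittVector.map_coeff]
    show θ E = 0
    simp only [θ, MvPolynomial.coe_eval₂Hom]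
    rw [MvPolynomial.eval₂_eq]
    refine Finset.sum_eq_zero fun d hd => ?_
    refine mul_eq_zero_of_right _ ?_
    by_cases hz : ∃ q ∈ d.support, ¬ q.2 < n
    · obtain ⟨q, hq, hqn⟩ := hz
      exact Finset.prod_eq_zero hq (by rw [if_neg hqn, zero_pow (Finsupp.mem_support_iff.1 hq)])
    push Not at hz
    have hdeg : p ≤ ∑ q ∈ d.support, d q := by
      by_contra hlt
      have hwt := hw d hd
      rw [Finsupp.linearCombination_apply, Finsupp.sum] at hwt
      rcases n with - | m
      · have hsupp : d.support = ∅ := Finset.eq_empty_of_forall_notMem fun q hq => absurd (hz q hq) (Nat.not_lt_zero _)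
        rw [hsupp, Finset.sum_empty, pow_zero] at hwt
        exact zero_ne_one hwt
      · have hle : ∑ q ∈ d.support, d q • v (m + 1) q ≤ ∑ q ∈ d.support, d q * p ^ m :=
          Finset.sum_le_sum fun q hq => Nat.mul_le_mul_left _
            (Nat.pow_le_pow_right (Fact.out : p.Prime).pos (Nat.lt_succ_iff.1 (hz q hq)))
        rw [hwt, ← Finset.sum_mul, pow_succ'] at hle
        exact absurd hle (not_le.2 (Nat.mul_lt_mul_of_pos_right (not_le.1 hlt) (pow_pos (Fact.out : p.Prime).pos m)))
    have hlift : ∀ q : Fin 2 × ℕ, ∃ r : R, Ideal.Quotient.mk _ r = x q.1 q.2 ∧ lam ∣ r ^ p := fun q => by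
      obtain ⟨r, hr⟩ := Ideal.Quotient.mk_surjective (x q.1 q.2)
      refine ⟨r, hr, Ideal.mem_span_singleton.1 (Ideal.Quotient.eq_zero_iff_mem.1 ?_)⟩
      rw [map_pow, hr, hx q]
    choose r hr hdvd using hlift
    rw [Finset.prod_congr rfl fun q hq => show (if q.2 < n then x q.1 q.2 else 0) ^ d q =
      Ideal.Quotient.mk (Ideal.span {lam}) (r q ^ d q) by rw [if_pos (hz q hq), map_pow, hr], ← map_prod,
      Ideal.Quotient.eq_zero_iff_mem, Ideal.mem_span_singleton, ← UniqueFactorizationMonoid.pow_dvd_pow_iff_dvd (Fact.out : p.Prime).ne_zero,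
      ← Finset.prod_pow]
    refine (pow_dvd_pow lam hdeg).trans ?_
    rw [← Finset.prod_pow_eq_pow_sum]
    exact Finset.prod_dvd_prod_of_dvd _ _ fun q _ => by rw [pow_right_comm]; exact pow_dvd_pow_of_dvd (hdvd q) _
  have hlow : ∀ (z : WittVector p (R ⧸ Ideal.span {lam})) i, i < n → (WittVector.tail n z).coeff i = 0 := fun z i hi => by
    rw [WittVector.tail, hsel, if_neg (not_le.2 hi)]
  have hV : ∀ z : WittVector p (R ⧸ Ideal.span {lam}),
      WittVector.tail n z = WittVector.verschiebung^[n] ((WittVector.tail n z).shift n) := fun z =>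
    WittVector.eq_iterate_verschiebung (hlow z)
  have hVadd : ∀ (s t : WittVector p (R ⧸ Ideal.span {lam})),
      WittVector.verschiebung^[n] s + WittVector.verschiebung^[n] t = WittVector.verschiebung^[n] (s + t) :=
    fun s t => (iterate_map_add (WittVector.verschiebung (p := p) (R := R ⧸ Ideal.span {lam})) n s t).symm
  have hsum : a + b = (WittVector.init n a + WittVector.init n b) +
      WittVector.verschiebung^[n] ((WittVector.tail n a).shift n + (WittVector.tail n b).shift n) := by
    rw [← hVadd, ← hV, ← hV, add_add_add_comm, WittVector.init_add_tail, WittVector.init_add_tail]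
  set I := WittVector.init n a + WittVector.init n b with hI
  have hI2 : a + b = WittVector.init n I + WittVector.verschiebung^[n] ((WittVector.tail n I).shift n +
      ((WittVector.tail n a).shift n + (WittVector.tail n b).shift n)) := by
    rw [hsum, ← hVadd (WittVector.tail n I |>.shift n), ← hV, ← add_assoc, WittVector.init_add_tail]
  have hz0 : ∀ i, n ≤ i → (WittVector.init n I).coeff i = 0 := fun i hi => by
    rw [WittVector.init, hsel, if_neg (not_lt.2 hi)]
  rw [hI2, WittVector.coeff_add_of_disjoint]
  · rw [hz0 n le_rfl, zero_add]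
    have hcn : ∀ z : WittVector p (R ⧸ Ideal.span {lam}), (WittVector.verschiebung^[n] z).coeff n = z.coeff 0 := fun z => by
      have := WittVector.iterate_verschiebung_coeff z n 0
      rwa [zero_add] at this
    rw [hcn, WittVector.add_coeff_zero, WittVector.add_coeff_zero,
      WittVector.shift_coeff, WittVector.shift_coeff, WittVector.shift_coeff]
    simp only [add_zero, zero_add]
    rw [WittVector.tail, hsel, hsel, hsel, if_pos le_rfl, if_pos le_rfl, if_pos le_rfl, hE0, zero_add]
  · intro i
    rcases lt_or_ge i n with hi | hi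
    · exact Or.inr (WittVector.iterate_verschiebung_coeff_eq_zero _ hi)
    · exact Or.inl (hz0 i hi)

end Groth.Agent.S13160
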