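import Groth.Statements.S13161
import Mathlib
-- import your own Groth.Agent.* helpers here

set_option autoImplicit false
universe u
open scoped TensorProduct
open CAlg

namespace Groth.Agent.S13161

/-- Let R be a discrete valuation ring with fraction field K, A an R-algebra which is semireflexive as
an R-module (the map to its double dual is injective: every nonzero a ∈ A has an R-linear form f : A
→ R with f(a) ≠ 0), and B an A-algebra which is finitely generated as an A-module and flat over R.
Suppose B ⊗ K is semireflexive as a module over A ⊗ K, which for such B amounts to: every nonzero b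
∈ B has an A-linear map g : B → A ⊗_R K with g(b) ≠ 0. Then B is semireflexive as an R-module: every
nonzero b ∈ B has an R-linear form h : B → R with h(b) ≠ 0. (The published statement phrases the
hypothesis on B_K as an A_K-module; for B flat over R and finite over A this is the elementwise
condition used here.) -/
theorem result (R : Type u) [CommRing R] [IsDomain R]
    [IsDiscreteValuationRing R] (K : Type u) [Field K] [Algebra R K] [IsFractionRing R K]
    (A B : Type u) [CommRing A] [CommRing B] [Algebra R A] [Algebra R B] [Algebra A B] [IsScalarTower R A B]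
    [Module.Finite A B] [Module.Flat R B]
    (hA : ∀ a : A, a ≠ 0 → ∃ f : A →ₗ[R] R, f a ≠ 0)
    (hBK : ∀ b : B, b ≠ 0 → ∃ g : B →ₗ[A] A ⊗[R] K, g b ≠ 0) :
    ∀ b : B, b ≠ 0 → ∃ h : B →ₗ[R] R, h b ≠ 0 := by
  classical
  intro b hb
  obtain ⟨g, hg⟩ := hBK b hb
  let ι : A →ₗ[A] A ⊗[R] K := (TensorProduct.AlgebraTensorModule.mk R A A K).flip 1
  have hnd : ∀ a : R, a ≠ 0 → algebraMap R K a ≠ 0 := fun a ha h =>
    ha (IsFractionRing.injective R K (h.trans (map_zero _).symm))
  have hloc : ∀ z : A ⊗[R] K, ∃ s : R, s ≠ 0 ∧ s • z ∈ LinearMap.range ι := fun z => by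
    induction z using TensorProduct.induction_on with
    | zero => exact ⟨1, one_ne_zero, by simp⟩
    | tmul a k =>
      obtain ⟨r, s, hs, rfl⟩ := IsFractionRing.div_surjective (A := R) k
      refine ⟨s, nonZeroDivisors.ne_zero hs, r • a, ?_⟩
      show (r • a) ⊗ₜ[R] (1 : K) = s • (a ⊗ₜ[R] _)
      rw [← TensorProduct.tmul_smul, TensorProduct.smul_tmul, Algebra.smul_def, Algebra.smul_def, mul_one,
        mul_div_cancel₀ _ (hnd s (nonZeroDivisors.ne_zero hs))]
    | add a b ha hb =>
      obtain ⟨s, hs, x, hx⟩ := ha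
      obtain ⟨t, ht, y, hy⟩ := hb
      refine ⟨s * t, mul_ne_zero hs ht, t • x + s • y, ?_⟩
      rw [map_add, LinearMap.map_smul_of_tower, LinearMap.map_smul_of_tower, hx, hy, smul_add, smul_smul, smul_smul,
        mul_comm t s]
  obtain ⟨T, hT⟩ := Module.Finite.fg_top (R := A) (M := B)
  choose s hs hmem using fun t : B => hloc (g t)
  let d := ∏ t ∈ T, s t
  have hd : d ≠ 0 := Finset.prod_ne_zero_iff.2 fun t _ => hs t
  have hall : ∀ z : B, d • g z ∈ LinearMap.range ι := fun z => by
    have hz : z ∈ Submodule.span A (T : Set B) := hT ▸ trivial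
    induction hz using Submodule.span_induction with
    | mem t ht =>
      obtain ⟨e, he⟩ := Finset.dvd_prod_of_mem s (Finset.mem_coe.1 ht)
      rw [show d = e * s t from he.trans (mul_comm _ _), mul_smul]
      obtain ⟨x, hx⟩ := hmem t
      exact ⟨e • x, by rw [LinearMap.map_smul_of_tower, hx]⟩
    | zero => rw [map_zero, smul_zero]; exact zero_mem _
    | add u v _ _ hu hv => rw [map_add, smul_add]; exact add_mem hu hv
    | smul a u _ hu => rw [map_smul, smul_comm]; exact Submodule.smul_mem _ a hu
  have hinjA : Function.Injective ι := fun x y h => by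
    by_contra hne
    obtain ⟨f, hf⟩ := hA (x - y) (sub_ne_zero.2 hne)
    have hz : (x - y) ⊗ₜ[R] (1 : K) = 0 := by rw [TensorProduct.sub_tmul]; exact sub_eq_zero.2 h
    have := congrArg (fun z => TensorProduct.lid R K ((f.rTensor K) z)) hz
    simp only [LinearMap.rTensor_tmul, TensorProduct.lid_tmul, map_zero, Algebra.smul_def, mul_one] at this
    exact hnd _ hf this
  choose φ hφ using hall
  let φ' : B →ₗ[R] A :=
    { toFun := φ
      map_add' := fun u v => hinjA (by rw [hφ, map_add, map_add, hφ, hφ, smul_add])
      map_smul' := fun r u => hinjA (by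
        rw [hφ, RingHom.id_apply, LinearMap.map_smul_of_tower, LinearMap.map_smul_of_tower, hφ, smul_comm]) }
  have hb0 : φ b ≠ 0 := fun h => by
    have h1 := hφ b
    rw [h, map_zero] at h1
    refine hg ?_
    have h2 : (1 ⊗ₜ[R] ((algebraMap R K d)⁻¹) : A ⊗[R] K) * (d • g b) = 0 := by rw [← h1, mul_zero]
    rw [mul_smul_comm, ← smul_mul_assoc, ← TensorProduct.tmul_smul, Algebra.smul_def,
      mul_inv_cancel₀ (hnd d hd), ← Algebra.TensorProduct.one_def, one_mul] at h2
    exact h2
  obtain ⟨f, hf⟩ := hA _ hb0
  exact ⟨f ∘ₗ φ', hf⟩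

end Groth.Agent.S13161
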