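import Groth.Statements.S13162
-- import your own Groth.Agent.* helpers here
import Mathlib.GroupTheory.Sylow
import Mathlib.RingTheory.Ideal.Quotient.Basic

set_option autoImplicit false
universe u v
open ZeroCyc

namespace Groth.Agent.S13162

/-- Let a finite group G act on a commutative ring A by ring automorphisms and let p be a prime such
that every integer prime to p is a unit in A. If I is an ideal of A and f ∈ A has G-invariant class
modulo I, then f^(p^k) is congruent modulo I to a G-invariant element of A, where p^k is the exact
power of p dividing the order of G. (The published statement assumes I stable under G, so that G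
acts on A/I and the claim reads: the p^k-th power of an invariant of A/I lies in the image of the
invariants of A; the form here asks only that the class of f be invariant.) -/
theorem result {A : Type u} [CommRing A] {G : Type v} [Group G] [Fintype G]
    [MulSemiringAction G A] (p : ℕ) [Fact p.Prime]
    (hA : ∀ m : ℕ, ¬ p ∣ m → IsUnit (m : A))
    (I : Ideal A) (f : A) (hf : ∀ g : G, g • f - f ∈ I) :
    ∃ a : A, (∀ g : G, g • a = a) ∧ a - f ^ (p ^ (Fintype.card G).factorization p) ∈ I := by
  classical
  let P : Sylow p G := default
  let H : Subgroup G := P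
  have hf' : ∀ g : G, Ideal.Quotient.mk I (g • f) = Ideal.Quotient.mk I f := fun g =>
    Ideal.Quotient.eq.2 (hf g)
  let b : A := ∏ h : H, (h : G) • f
  have hcard : Fintype.card H = p ^ (Fintype.card G).factorization p := by
    rw [← Nat.card_eq_fintype_card, ← Nat.card_eq_fintype_card]
    exact P.card_eq_multiplicity
  have hb : ∀ h : H, (h : G) • b = b := fun h => by
    rw [Finset.smul_prod']
    refine Fintype.prod_equiv (Equiv.mulLeft h) _ _ fun h' => ?_
    rw [← mul_smul]
    rfl
  have hbg : ∀ g : G, Ideal.Quotient.mk I (g • b) = Ideal.Quotient.mk I f ^ Fintype.card H := by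
    intro g
    rw [Finset.smul_prod', map_prod, Finset.prod_congr rfl (g := fun _ => Ideal.Quotient.mk I f)
      fun h _ => by rw [← mul_smul, hf'], Finset.prod_const, Finset.card_univ]
  let F : G ⧸ H → A := Quotient.lift (fun g : G => g • b) fun x y hxy => by
    have hm : x⁻¹ * y ∈ H := QuotientGroup.leftRel_apply.1 hxy
    calc x • b = x • ((x⁻¹ * y) • b) := by rw [hb ⟨_, hm⟩]
      _ = y • b := by rw [← mul_smul, mul_inv_cancel_left]
  obtain ⟨u, hu⟩ := hA (Fintype.card (G ⧸ H)) (by
    have h := P.not_dvd_index
    rwa [Subgroup.index, Nat.card_eq_fintype_card] at h)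
  refine ⟨(u⁻¹ : Aˣ) * ∑ q, F q, fun g => ?_, ?_⟩
  · have hinv : g • ((u⁻¹ : Aˣ) : A) = ((u⁻¹ : Aˣ) : A) := by
      refine u.isUnit.mul_left_cancel ?_
      have hgu : g • (u : A) = u := by
        rw [hu]
        exact map_natCast (MulSemiringAction.toRingHom G A g) _
      calc (u : A) * g • ((u⁻¹ : Aˣ) : A) = g • ((u : A) * ((u⁻¹ : Aˣ) : A)) := by
            rw [smul_mul', hgu]
        _ = (u : A) * ((u⁻¹ : Aˣ) : A) := by rw [Units.mul_inv, smul_one]
    rw [smul_mul', hinv, Finset.smul_sum]
    congr 1
    refine Fintype.sum_equiv (MulAction.toPerm g) _ _ fun q => ?_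
    induction q using Quotient.inductionOn with
    | h x => exact (mul_smul g x b).symm
  · rw [← Ideal.Quotient.eq, map_mul, map_sum, map_pow, Finset.sum_congr rfl
      (g := fun _ => Ideal.Quotient.mk I f ^ Fintype.card H) fun q _ => ?_, Finset.sum_const,
      Finset.card_univ, nsmul_eq_mul, ← mul_assoc, ← map_natCast (Ideal.Quotient.mk I), ← map_mul,
      ← hu, Units.inv_mul, map_one, one_mul, hcard]
    induction q using Quotient.inductionOn with
    | h x => exact hbg x

end Groth.Agent.S13162
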