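import Groth.Statements.S13163
-- import your own Groth.Agent.* helpers here
import Mathlib.SetTheory.Cardinal.Finite

set_option autoImplicit false
universe u
open ZeroCyc

namespace Groth.Agent.S13163

open Polynomial in
/-- Let P_d(T) = ∏_{0 ≤ i < j ≤ d} (T^i − T^j) − 1 ∈ ℤ[T]. Every residue field of ℤ[T]/(P_d), i.e. every
field receiving a ring homomorphism from it, has at least d + 1 elements. -/
theorem result (d : ℕ) (k : Type u) [Field k]
    (φ : (ℤ[X] ⧸ Ideal.span {(∏ j ∈ Finset.range (d + 1), ∏ i ∈ Finset.range j,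
        ((X : ℤ[X]) ^ i - X ^ j)) - 1}) →+* k) :
    ((d + 1 : ℕ) : Cardinal) ≤ Cardinal.mk k := by
  let π : ℤ[X] →+* k := φ.comp (Ideal.Quotient.mk _)
  have h1 : ∏ j ∈ Finset.range (d + 1), ∏ i ∈ Finset.range j, (π Polynomial.X ^ i - π Polynomial.X ^ j) = 1 := by
    have h0 : π ((∏ j ∈ Finset.range (d + 1), ∏ i ∈ Finset.range j,
        ((Polynomial.X : ℤ[X]) ^ i - Polynomial.X ^ j)) - 1) = 0 := by
      show φ (Ideal.Quotient.mk _ _) = 0
      rw [Ideal.Quotient.eq_zero_iff_mem.mpr (Ideal.mem_span_singleton_self _), map_zero]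
    simpa [sub_eq_zero] using h0
  have hne : ∀ i j : ℕ, i < j → j ≤ d → π Polynomial.X ^ i ≠ π Polynomial.X ^ j := fun i j hij hj h => by
    have hne0 : ∏ j ∈ Finset.range (d + 1), ∏ i ∈ Finset.range j, (π Polynomial.X ^ i - π Polynomial.X ^ j) ≠ 0 := by
      rw [h1]; exact one_ne_zero
    exact Finset.prod_ne_zero_iff.mp (Finset.prod_ne_zero_iff.mp hne0 j (Finset.mem_range.mpr (by omega))) i
      (Finset.mem_range.mpr hij) (sub_eq_zero.mpr h)
  have hinj : Function.Injective (fun i : Fin (d + 1) => π Polynomial.X ^ (i : ℕ)) := fun i j h => by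
    by_contra hc
    rcases lt_or_gt_of_ne (fun e => hc (Fin.ext e) : (i : ℕ) ≠ j) with hlt | hlt
    · exact hne _ _ hlt (by omega) h
    · exact hne _ _ hlt (by omega) h.symm
  have := Cardinal.lift_mk_le'.mpr ⟨⟨_, hinj⟩⟩
  simpa using this

end Groth.Agent.S13163
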