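import Groth.Statements.S13166
-- import your own Groth.Agent.* helpers here
import Groth.Agent.Lib.AvoidSubmodules
import Mathlib.Data.Fintype.Powerset
import Mathlib.Data.Finset.Powerset

set_option autoImplicit false
universe u
open ZeroCyc

namespace Groth.Agent.S13166

/-- Let k be a field, B a k-algebra generated as an algebra by a k-subspace V, k'/k a field extension
and x_1, …, x_d pairwise distinct k'-points of B ⊗_k k' (equivalently, distinct k-algebra
homomorphisms B → k'). If k has at least d(d − 1)/2 elements, then there is b ∈ V whose values at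
x_1, …, x_d are pairwise distinct. -/
theorem result {k : Type u} [Field k] {B : Type u} [CommRing B] [Algebra k B] (V : Submodule k B)
    (hV : Algebra.adjoin k (V : Set B) = ⊤) {k' : Type u} [Field k'] [Algebra k k']
    {d : ℕ} (x : Fin d → (B →ₐ[k] k')) (hx : Function.Injective x)
    (hk : ((d.choose 2 : ℕ) : Cardinal) ≤ Cardinal.mk k) :
    ∃ b ∈ V, Function.Injective fun i => x i b := by
  classical
  obtain ⟨f⟩ : Nonempty (Fin (d.choose 2) ↪ k) := Cardinal.lift_mk_le'.mp (by simpa using hk)
  let ι := {q : Fin d × Fin d // q.1 < q.2}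
  let W : ι → Submodule k V := fun q => LinearMap.ker (((x q.1.1).toLinearMap - (x q.1.2).toLinearMap).comp V.subtype)
  have hcard : (Finset.univ : Finset ι).card ≤ d.choose 2 := by
    rw [Finset.card_univ]
    have h2 : Fintype.card ι ≤ Fintype.card {s : Finset (Fin d) // s.card = 2} := by
      refine Fintype.card_le_of_injective (fun q => ⟨{q.1.1, q.1.2}, Finset.card_pair q.2.ne⟩) ?_
      rintro ⟨⟨a, b⟩, hab⟩ ⟨⟨c, e⟩, hce⟩ h
      simp only [Subtype.mk.injEq] at h
      have ha : a ∈ ({c, e} : Finset (Fin d)) := h ▸ Finset.mem_insert_self _ _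
      have hb : b ∈ ({c, e} : Finset (Fin d)) := h ▸ Finset.mem_insert_of_mem (Finset.mem_singleton_self _)
      simp only [Finset.mem_insert, Finset.mem_singleton] at ha hb
      rcases ha with rfl | rfl <;> rcases hb with rfl | rfl
      · exact absurd hab (lt_irrefl _)
      · rfl
      · exact absurd hab (not_lt_of_gt hce)
      · exact absurd hab (lt_irrefl _)
    rwa [Fintype.card_finset_len, Fintype.card_fin] at h2
  obtain ⟨m, hm⟩ := GrothLib.AvoidSubmodules.exists_forall_notMem (⊥ : Ideal k) W (fun q r m h => by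
      rw [LinearMap.mem_ker, map_smul, smul_eq_zero] at h
      exact h.imp (fun h => (Submodule.mem_bot _).mpr h) LinearMap.mem_ker.mpr) (fun a => f a)
    (fun a b hab h => hab (f.injective (sub_eq_zero.mp ((Submodule.mem_bot _).mp h)))) Finset.univ hcard (fun q _ => by
      by_contra hall
      push Not at hall
      refine q.2.ne (hx (AlgHom.ext_of_adjoin_eq_top hV fun v hv => ?_))
      exact sub_eq_zero.mp (hall ⟨v, hv⟩))
  refine ⟨m, m.2, fun i j hij => ?_⟩
  by_contra hne
  rcases lt_or_gt_of_ne hne with h | h
  · exact hm ⟨(i, j), h⟩ (Finset.mem_univ _) (sub_eq_zero.mpr hij)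
  · exact hm ⟨(j, i), h⟩ (Finset.mem_univ _) (sub_eq_zero.mpr hij.symm)

end Groth.Agent.S13166
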