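import Groth.Statements.S13167
-- import your own Groth.Agent.* helpers here
import Groth.Agent.Lib.AvoidSubmodules

set_option autoImplicit false
universe u
open AlgebraicGeometry
open ZeroCyc

namespace Groth.Agent.S13167

/-- Let B be a graded R-algebra generated by its degree-one part B_1, with B_1 a finitely generated
R-module, and let x_1, …, x_d be points of X = Proj B lying over one and the same prime p of R. If
the residue field of p has at least d elements, then some f ∈ B_1 ⊆ Γ(X, O_X(1)) has all the x_i in
D_+(f). (Without the hypothesis on the residue field such an f exists in some B_n with n ≥ 1; that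
first assertion is a known property of ample sheaves and is not restated here.) -/
theorem result {R A : Type u} [CommRing R] [CommRing A] [Algebra R A] (𝒜 : ℕ → Submodule R A) [GradedAlgebra 𝒜]
    (hgen : Algebra.adjoin R (𝒜 1 : Set A) = ⊤) (hfg : (𝒜 1).FG)
    (p : Ideal R) [p.IsPrime] {d : ℕ} (x : Fin d → Proj 𝒜)
    (hx : ∀ i, ((x i).asHomogeneousIdeal.toIdeal).comap (algebraMap R A) = p)
    (hcard : (d : Cardinal) ≤ Cardinal.mk p.ResidueField) :
    ∃ g ∈ 𝒜 1, ∀ i, x i ∈ Proj.basicOpen 𝒜 g := by
  classical
  obtain ⟨t, ht⟩ := GrothLib.AvoidSubmodules.exists_reps p hcard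
  let W : Fin d → Submodule R (𝒜 1) := fun i =>
    Submodule.comap (𝒜 1).subtype (((x i).asHomogeneousIdeal.toIdeal).restrictScalars R)
  obtain ⟨m, hm⟩ := GrothLib.AvoidSubmodules.exists_forall_notMem p W (fun i r m h => by
    have h' : algebraMap R A r * (m : A) ∈ (x i).asHomogeneousIdeal.toIdeal := by
      rw [← Algebra.smul_def]; exact h
    rcases (x i).isPrime.mem_or_mem h' with h1 | h1
    · left; rw [← hx i]; exact h1
    · right; exact h1) t ht Finset.univ (by simp) (fun i _ => by
    by_contra hall
    push Not at hall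
    refine (x i).not_irrelevant_le fun z hz => ?_
    have hz' : GradedRing.proj 𝒜 0 z = 0 := (HomogeneousIdeal.mem_irrelevant_iff 𝒜 z).mp hz
    have key : ∀ y ∈ Algebra.adjoin R (𝒜 1 : Set A), ∃ r : R, y - algebraMap R A r ∈ (x i).asHomogeneousIdeal.toIdeal := by
      intro y hy
      induction hy using Algebra.adjoin_induction with
      | mem y hy => exact ⟨0, by rw [map_zero, sub_zero]; exact hall ⟨y, hy⟩⟩
      | algebraMap r => exact ⟨r, by rw [sub_self]; exact Ideal.zero_mem _⟩
      | add y y' _ _ h h' =>
        obtain ⟨r, hr⟩ := h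
        obtain ⟨r', hr'⟩ := h'
        exact ⟨r + r', by rw [map_add, add_sub_add_comm]; exact Ideal.add_mem _ hr hr'⟩
      | mul y y' _ _ h h' =>
        obtain ⟨r, hr⟩ := h
        obtain ⟨r', hr'⟩ := h'
        refine ⟨r * r', ?_⟩
        have := Ideal.add_mem _ (Ideal.mul_mem_right y' _ hr) (Ideal.mul_mem_left _ (algebraMap R A r) hr')
        convert this using 1
        rw [map_mul]; ring
    obtain ⟨r, hr⟩ := key z (hgen ▸ Algebra.mem_top)
    have hc : algebraMap R A r ∈ (x i).asHomogeneousIdeal.toIdeal := by
      have h0 := (x i).asHomogeneousIdeal.isHomogeneous 0 hr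
      have hproj : GradedRing.proj 𝒜 0 (z - algebraMap R A r) = - algebraMap R A r := by
        rw [map_sub, hz', GradedRing.proj_apply, DirectSum.decompose_of_mem_same 𝒜 (SetLike.algebraMap_mem_graded 𝒜 r), zero_sub]
      rw [← GradedRing.proj_apply, hproj] at h0
      exact neg_mem_iff.mp h0
    have := Ideal.add_mem _ hr hc
    rwa [sub_add_cancel] at this)
  exact ⟨m, m.2, fun i => hm i (Finset.mem_univ i)⟩

end Groth.Agent.S13167
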