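import Groth.Statements.S13168
-- import your own Groth.Agent.* helpers here
import Groth.Agent.Lib.GradedMono

set_option autoImplicit false
universe u
open AlgebraicGeometry
open ZeroCyc

namespace Groth.Agent.S13168

/-- Let B be a graded R-algebra generated by homogeneous elements f_1, …, f_s of positive degrees d_1,
…, d_s, let l be the least common multiple of the d_i and X = Proj B. For n = a l with a ≥ 1, X is
the union of the opens D_+(g), g ∈ B_n. -/
theorem result {R A : Type u} [CommRing R] [CommRing A] [Algebra R A] (𝒜 : ℕ → Submodule R A) [GradedAlgebra 𝒜]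
    {s : ℕ} (f : Fin s → A) (deg : Fin s → ℕ) (hdeg : ∀ i, 0 < deg i) (hf : ∀ i, f i ∈ 𝒜 (deg i))
    (hgen : Algebra.adjoin R (Set.range f) = ⊤) (a : ℕ) (ha : 0 < a) :
    (⨆ g : 𝒜 (a * Finset.univ.lcm deg), Proj.basicOpen 𝒜 (g : A)) = ⊤ := by
  classical
  rw [eq_top_iff]
  rintro x -
  by_contra hx
  set l := Finset.univ.lcm deg with hl
  have hmem : ∀ g : 𝒜 (a * l), (g : A) ∈ x.asHomogeneousIdeal := fun g => by
    by_contra hg
    exact hx (TopologicalSpace.Opens.mem_iSup.mpr ⟨g, hg⟩)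
  have hfi : ∀ i, f i ∈ x.asHomogeneousIdeal.toIdeal := fun i => by
    have hd : deg i ∣ a * l := Dvd.dvd.mul_left (Finset.dvd_lcm (Finset.mem_univ i)) a
    have h1 := SetLike.pow_mem_graded (a * l / deg i) (hf i)
    rw [smul_eq_mul, Nat.div_mul_cancel hd] at h1
    exact x.isPrime.mem_of_pow_mem _ (hmem ⟨_, h1⟩)
  refine x.not_irrelevant_le fun z hz => ?_
  have hz' : GradedRing.proj 𝒜 0 z = 0 := (HomogeneousIdeal.mem_irrelevant_iff 𝒜 z).mp hz
  have hsum : z = ∑ n ∈ (DirectSum.decompose 𝒜 z).support, ((DirectSum.decompose 𝒜 z n : 𝒜 n) : A) :=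
    (DirectSum.sum_support_decompose 𝒜 z).symm
  show z ∈ x.asHomogeneousIdeal.toIdeal
  rw [hsum]
  refine Ideal.sum_mem _ fun n hn => ?_
  rcases Nat.eq_zero_or_pos n with rfl | hnpos
  · rw [GradedRing.proj_apply] at hz'
    rw [hz']
    exact Ideal.zero_mem _
  · obtain ⟨y, hy⟩ : ∃ y, y = ((DirectSum.decompose 𝒜 z n : 𝒜 n) : A) := ⟨_, rfl⟩
    rw [← hy]
    have hm : y ∈ 𝒜 n := hy ▸ (DirectSum.decompose 𝒜 z n).2
    rw [GrothLib.GradedMono.eq_span_monomials 𝒜 f deg hf hgen n] at hm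
    have hle : Submodule.span R {y : A | ∃ k : Fin s → ℕ, ∑ i, k i * deg i = n ∧ ∏ i, f i ^ k i = y} ≤
        x.asHomogeneousIdeal.toIdeal.restrictScalars R := by
      rw [Submodule.span_le]
      rintro _ ⟨k, hk, rfl⟩
      obtain ⟨i, -, hi⟩ := Finset.exists_ne_zero_of_sum_ne_zero (hk.symm ▸ hnpos.ne' : ∑ i, k i * deg i ≠ 0)
      show _ ∈ x.asHomogeneousIdeal.toIdeal
      rw [← Finset.prod_erase_mul _ _ (Finset.mem_univ i)]
      exact Ideal.mul_mem_left _ _ (Ideal.pow_mem_of_mem _ (hfi i) _ (Nat.pos_of_ne_zero (left_ne_zero_of_mul hi)))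
    exact hle hm

end Groth.Agent.S13168
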