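import Groth.Statements.S13169
import Groth.Agent.Lib.GrTilde.Amp
import Groth.Agent.Lib.WeakAss.Basic

set_option autoImplicit false
universe u
open AlgebraicGeometry
open ZeroCyc

namespace Groth.Agent.S13169

/-- Let B be a graded R-algebra generated by homogeneous elements f_1, …, f_s of positive degrees d_1,
…, d_s, let l be the least common multiple of the d_i and X = Proj B. For n = a l with a ≥ 1, the
twisting sheaf O_X(n) is ample and is generated by its global sections b/1, b ∈ B_n. -/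
theorem result {R A : Type u} [CommRing R] [CommRing A] [Algebra R A] (𝒜 : ℕ → Submodule R A) [GradedAlgebra 𝒜]
    {s : ℕ} (f : Fin s → A) (deg : Fin s → ℕ) (hdeg : ∀ i, 0 < deg i) (hf : ∀ i, f i ∈ 𝒜 (deg i))
    (hgen : Algebra.adjoin R (Set.range f) = ⊤) (a : ℕ) (ha : 0 < a) :
    CohB1.IsAmple (Twist.twist 𝒜 ((a * Finset.univ.lcm deg : ℕ) : ℤ)) ∧
      ProjUP.GeneratedBy (Twist.twist 𝒜 ((a * Finset.univ.lcm deg : ℕ) : ℤ))
        (fun b : 𝒜 (a * Finset.univ.lcm deg) =>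
          (Twist.globalOf 𝒜 b : ProjUP.Γm (Twist.twist 𝒜 ((a * Finset.univ.lcm deg : ℕ) : ℤ)))) := by
  have hN : ∀ x : Proj 𝒜, ∃ b ∈ 𝒜 (a * Finset.univ.lcm deg), b ∉ x.asHomogeneousIdeal := fun x => by
    obtain ⟨_, ⟨i, rfl⟩, hi⟩ := GrothLib.GrTilde.exists_notMem_of_span
      (GrothLib.GrTilde.irrelevant_le_span_range f deg hdeg hf hgen) x
    obtain ⟨q, hq⟩ : deg i ∣ a * Finset.univ.lcm deg := Dvd.dvd.mul_left (Finset.dvd_lcm (Finset.mem_univ i)) a
    exact ⟨f i ^ q, by simpa [hq, mul_comm] using SetLike.pow_mem_graded q (hf i),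
      fun hm => hi (x.isPrime.mem_of_pow_mem q hm)⟩
  haveI : CompactSpace (Proj 𝒜) := GrothLib.GrTilde.compactSpace_of_finite f deg hdeg hf fun x => by
    obtain ⟨_, ⟨i, rfl⟩, hi⟩ := GrothLib.GrTilde.exists_notMem_of_span
      (GrothLib.GrTilde.irrelevant_le_span_range f deg hdeg hf hgen) x
    exact ⟨i, hi⟩
  have hpos : 0 < a * Finset.univ.lcm deg := Nat.mul_pos ha (Nat.pos_of_ne_zero fun h0 => by
    obtain ⟨i, -, hi⟩ := Finset.lcm_eq_zero_iff.mp h0
    exact (hdeg i).ne' hi)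
  refine ⟨GrothLib.GrTilde.isAmple_twist_of_cover hpos hN, fun x => eq_top_iff.mpr fun t _ => ?_⟩
  obtain ⟨V, hxV, m, rfl⟩ := TopCat.Presheaf.exists_germ_eq (Twist.twist 𝒜 ((a * Finset.univ.lcm deg : ℕ) : ℤ)).presheaf t
  obtain ⟨b, hb, W, hW, hxW, r, hr⟩ := GrothLib.GrTilde.exists_span_gsec hN V m x hxV
  rw [← TopCat.Presheaf.germ_res_apply _ (CategoryTheory.homOfLE hW) x hxW m]
  change (Twist.twist 𝒜 ((a * Finset.univ.lcm deg : ℕ) : ℤ)).presheaf.germ W x hxW (GrothLib.InvExt.mres (Twist.twist 𝒜 ((a * Finset.univ.lcm deg : ℕ) : ℤ)) hW m) ∈ _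
  rw [← hr]
  erw [GrothLib.WeakAss.germ_smul (F := Twist.twist 𝒜 ((a * Finset.univ.lcm deg : ℕ) : ℤ)) hxW]
  refine Submodule.smul_mem _ _ (Submodule.subset_span ⟨⟨b, hb⟩, ?_⟩)
  exact (TopCat.Presheaf.germ_res_apply _ (CategoryTheory.homOfLE le_top) x hxW _).symm

end Groth.Agent.S13169
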