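import Groth.Statements.S13170
import Groth.Agent.Lib.GrTilde.Amp

set_option autoImplicit false
universe u
open AlgebraicGeometry CategoryTheory
open ZeroCyc

namespace Groth.Agent.S13170

/-- Let B be a graded R-algebra generated by homogeneous elements f_1, …, f_s of positive degrees d_1,
…, d_s, let l be the least common multiple of the d_i and X = Proj B. For all integers a and n,
O_X(al) ⊗ O_X(n) ≅ O_X(al + n). (The published statement asserts that the canonical multiplication
map is an isomorphism; this row asserts only that an isomorphism exists.) -/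
theorem result {R A : Type u} [CommRing R] [CommRing A] [Algebra R A] (𝒜 : ℕ → Submodule R A) [GradedAlgebra 𝒜]
    {s : ℕ} (f : Fin s → A) (deg : Fin s → ℕ) (hdeg : ∀ i, 0 < deg i) (hf : ∀ i, f i ∈ 𝒜 (deg i))
    (hgen : Algebra.adjoin R (Set.range f) = ⊤) (a n : ℤ) :
    Nonempty (CohB1.tensorMod (Twist.twist 𝒜 (a * (Finset.univ.lcm deg : ℕ))) (Twist.twist 𝒜 n) ≅
      Twist.twist 𝒜 (a * (Finset.univ.lcm deg : ℕ) + n)) := by
  obtain ⟨t⟩ := GrothLib.GrTilde.nonempty_tensor_iso_of_fracs (ℳ := 𝒜) (n := n) (k := a * (Finset.univ.lcm deg : ℕ))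
    (l := a * (Finset.univ.lcm deg : ℕ) + n) (add_comm _ _) fun x => by
      obtain ⟨_, ⟨i, rfl⟩, hi⟩ := GrothLib.GrTilde.exists_notMem_of_span
        (GrothLib.GrTilde.irrelevant_le_span_range f deg hdeg hf hgen) x
      obtain ⟨q, hq⟩ : deg i ∣ Finset.univ.lcm deg := Finset.dvd_lcm (Finset.mem_univ i)
      obtain ⟨p', q', P, Q, hP, hQ, hd, ninP, ninQ⟩ := GrothLib.GrTilde.exists_fracT (hf i) (a * q)
      refine ⟨p', q', P, Q, hP, hQ, ?_, ninP ⟨x, hi⟩, ninQ ⟨x, hi⟩⟩
      rw [hd, hq]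
      push_cast
      ring
  exact ⟨GrothLib.GrTilde.tensorModComm _ _ ≪≫ t⟩

end Groth.Agent.S13170
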