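import Groth.Statements.S13171
-- import your own Groth.Agent.* helpers here
import Groth.Agent.Lib.GrTilde.Amp
import Groth.Agent.Lib.WeakAss.Basic

set_option autoImplicit false
universe u
open AlgebraicGeometry
open ZeroCyc

namespace Groth.Agent.S13171
open AlgebraicGeometry CategoryTheory in
theorem exists_le_sum_eq {ι : Type*} [Fintype ι] (q : ι → ℕ) :
    ∀ Q : ℕ, Q ≤ ∑ i, q i → ∃ q' : ι → ℕ, (∀ i, q' i ≤ q i) ∧ ∑ i, q' i = Q := by
  classical
  intro Q
  induction Q with
  | zero => exact fun _ => ⟨0, fun i => Nat.zero_le _, by simp⟩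
  | succ Q ih =>
    intro hQ
    obtain ⟨q', hle, hsum⟩ := ih (by omega)
    obtain ⟨i, hi⟩ : ∃ i, q' i < q i := by
      by_contra hc
      push Not at hc
      have := Finset.sum_le_sum (fun i (_ : i ∈ Finset.univ) => hc i)
      omega
    refine ⟨Function.update q' i (q' i + 1), fun j => ?_, ?_⟩
    · by_cases h : j = i
      · subst h; simpa using hi
      · simpa [h] using hle j
    · rw [Finset.sum_update_of_mem (Finset.mem_univ i)]
      rw [← Finset.add_sum_erase _ _ (Finset.mem_univ i)] at hsum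
      rw [← Finset.erase_eq]
      omega

/-- A monomial of degree `n + m * l` has a factor of degree exactly `n`. -/
theorem exists_le_weight_eq {s : ℕ} (deg : Fin s → ℕ) (hdeg : ∀ i, 0 < deg i) {n : ℕ}
    (hn : (s - 1) * (Finset.univ.lcm deg - 1) ≤ n) (m : ℕ) (e : Fin s → ℕ)
    (he : ∑ i, e i * deg i = n + m * Finset.univ.lcm deg) :
    ∃ e' : Fin s → ℕ, (∀ i, e' i ≤ e i) ∧ ∑ i, e' i * deg i = n := by
  set l := Finset.univ.lcm deg with hl
  have hl0 : 0 < l := Nat.pos_of_ne_zero fun h0 => by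
    obtain ⟨i, -, hi⟩ := Finset.lcm_eq_zero_iff.mp h0
    exact (hdeg i).ne' hi
  choose c hc using fun i => (Finset.dvd_lcm (Finset.mem_univ i) : deg i ∣ Finset.univ.lcm deg)
  replace hc : ∀ i, l = deg i * c i := hc
  have hc0 : ∀ i, 0 < c i := fun i => by have := hc i; by_contra h; simp_all
  have hsplit : ∀ i, e i * deg i = e i % c i * deg i + e i / c i * l := fun i => by
    conv_lhs => rw [← Nat.mod_add_div (e i) (c i), add_mul]
    rw [hc i]; ring
  have hsum : (∑ i, e i % c i * deg i) + (∑ i, e i / c i) * l = n + m * l := by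
    rw [← he, Finset.sum_mul, ← Finset.sum_add_distrib]
    exact (Finset.sum_congr rfl fun i _ => (hsplit i)).symm
  have hr : ∀ i, e i % c i * deg i + 1 ≤ l := fun i => by
    have h1 : (e i % c i + 1) * deg i ≤ c i * deg i := Nat.mul_le_mul_right _ (Nat.mod_lt _ (hc0 i))
    rw [hc i]; nlinarith [hdeg i]
  have hr' : (∑ i, e i % c i * deg i) + s ≤ s * l := by
    have := Finset.sum_le_sum (fun i (_ : i ∈ Finset.univ) => hr i)
    simpa [Finset.sum_add_distrib] using this
  have hrn : ∑ i, e i % c i * deg i ≤ n := by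
    generalize (∑ i, e i % c i * deg i) = r at hsum hr'
    generalize (∑ i, e i / c i) = k at hsum
    by_contra hlt
    have hkm : k < m := by
      by_contra hkm
      have := Nat.mul_le_mul_right l (not_lt.mp hkm)
      omega
    have h3 : (k + 1) * l ≤ m * l := Nat.mul_le_mul_right l hkm
    rcases s with _ | s'
    · simp at hr'; omega
    · simp only [Nat.add_sub_cancel] at hn
      have h5 : s' * l = s' * (l - 1) + s' := by
        obtain ⟨l', hl'⟩ : ∃ l', l = l' + 1 := ⟨l - 1, by omega⟩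
        rw [hl', Nat.add_sub_cancel]; ring
      rw [Nat.add_mul] at h3 hr'
      omega
  obtain ⟨K, hK⟩ : ∃ K, n = (∑ i, e i % c i * deg i) + K * l := by
    rcases Nat.lt_or_ge (∑ i, e i / c i) m with hlt | hge
    · have := Nat.mul_le_mul_right l hlt
      rw [Nat.succ_mul] at this
      omega
    · refine ⟨(∑ i, e i / c i) - m, ?_⟩
      have := Nat.mul_le_mul_right l hge
      rw [Nat.sub_mul]; omega
  have hK' : K ≤ ∑ i, e i / c i := Nat.le_of_mul_le_mul_right (by omega) hl0
  obtain ⟨q', hq', hqs⟩ := exists_le_sum_eq (fun i => e i / c i) K hK'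
  refine ⟨fun i => e i % c i + c i * q' i, fun i => ?_, ?_⟩
  · exact (Nat.add_le_add_left (Nat.mul_le_mul_left _ (hq' i)) _).trans (Nat.mod_add_div _ _).le
  · rw [hK, ← hqs, Finset.sum_mul, ← Finset.sum_add_distrib]
    refine Finset.sum_congr rfl fun i _ => ?_
    rw [hc i]; ring

/-- In degrees `n + m * l` the algebra is `A_n * A_{m l}`. -/
theorem graded_le_mul {R A : Type u} [CommRing R] [CommRing A] [Algebra R A] (𝒜 : ℕ → Submodule R A) [GradedAlgebra 𝒜]
    {s : ℕ} (f : Fin s → A) (deg : Fin s → ℕ) (hdeg : ∀ i, 0 < deg i) (hf : ∀ i, f i ∈ 𝒜 (deg i))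
    (hgen : Algebra.adjoin R (Set.range f) = ⊤) {n : ℕ} (hn : (s - 1) * (Finset.univ.lcm deg - 1) ≤ n) (m : ℕ) :
    𝒜 (n + m * Finset.univ.lcm deg) ≤ 𝒜 n * 𝒜 (m * Finset.univ.lcm deg) := by
  classical
  have hmon : ∀ e : Fin s → ℕ, ∏ i, f i ^ e i ∈ 𝒜 (∑ i, e i * deg i) := fun e =>
    SetLike.prod_mem_graded 𝒜 (fun i => e i * deg i) (fun i => f i ^ e i) fun i _ => by
      simpa using SetLike.pow_mem_graded (e i) (hf i)
  have htop : (⊤ : Submodule R A) ≤ Submodule.span R (Set.range fun e : Fin s → ℕ => ∏ i, f i ^ e i) := by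
    rw [← Algebra.top_toSubmodule, ← hgen, Algebra.adjoin_eq_span]
    refine Submodule.span_mono fun a ha => ?_
    induction ha using Submonoid.closure_induction with
    | mem z hz =>
      obtain ⟨i, rfl⟩ := hz
      refine ⟨fun j => if j = i then 1 else 0, ?_⟩
      show ∏ j, f j ^ (if j = i then 1 else 0) = f i
      simp [pow_ite]
    | one => exact ⟨0, by simp⟩
    | mul z w _ _ hz hw =>
      obtain ⟨e, rfl⟩ := hz
      obtain ⟨e', rfl⟩ := hw
      exact ⟨e + e', by simp [pow_add, Finset.prod_mul_distrib]⟩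
  intro a ha
  have hspan : a ∈ Submodule.map (GradedAlgebra.proj 𝒜 (n + m * Finset.univ.lcm deg))
      (Submodule.span R (Set.range fun e : Fin s → ℕ => ∏ i, f i ^ e i)) :=
    ⟨a, htop trivial, by rw [GradedAlgebra.proj_apply, DirectSum.decompose_of_mem_same 𝒜 ha]⟩
  rw [Submodule.map_span] at hspan
  refine Submodule.span_le.mpr ?_ hspan
  rintro _ ⟨_, ⟨e, rfl⟩, rfl⟩
  show GradedAlgebra.proj 𝒜 _ (∏ i, f i ^ e i) ∈ _
  rw [GradedAlgebra.proj_apply]
  by_cases hd : ∑ i, e i * deg i = n + m * Finset.univ.lcm deg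
  · rw [DirectSum.decompose_of_mem_same 𝒜 (hd ▸ hmon e)]
    obtain ⟨e', hle, he'⟩ := exists_le_weight_eq deg hdeg hn m e hd
    have h2 : ∑ i, (e i - e' i) * deg i = m * Finset.univ.lcm deg := by
      have : ∑ i, e i * deg i = ∑ i, e' i * deg i + ∑ i, (e i - e' i) * deg i := by
        rw [← Finset.sum_add_distrib]
        exact Finset.sum_congr rfl fun i _ => by rw [← add_mul, Nat.add_sub_cancel' (hle i)]
      omega
    rw [show ∏ i, f i ^ e i = (∏ i, f i ^ e' i) * ∏ i, f i ^ (e i - e' i) by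
      rw [← Finset.prod_mul_distrib]
      exact Finset.prod_congr rfl fun i _ => by rw [← pow_add, Nat.add_sub_cancel' (hle i)]]
    exact Submodule.mul_mem_mul (he' ▸ hmon e') (h2 ▸ hmon _)
  · rw [DirectSum.decompose_of_mem_ne 𝒜 (hmon e) hd]
    exact zero_mem _

/-- Let B be a graded R-algebra generated by homogeneous elements f_1, …, f_s of positive degrees d_1,
…, d_s, let l be the least common multiple of the d_i and X = Proj B. For n ≥ (s − 1)(l − 1), O_X(n)
is generated by its global sections b/1, b ∈ B_n. -/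
theorem result {R A : Type u} [CommRing R] [CommRing A] [Algebra R A] (𝒜 : ℕ → Submodule R A) [GradedAlgebra 𝒜]
    {s : ℕ} (f : Fin s → A) (deg : Fin s → ℕ) (hdeg : ∀ i, 0 < deg i) (hf : ∀ i, f i ∈ 𝒜 (deg i))
    (hgen : Algebra.adjoin R (Set.range f) = ⊤) (n : ℕ) (hn : (s - 1) * (Finset.univ.lcm deg - 1) ≤ n) :
    ProjUP.GeneratedBy (Twist.twist 𝒜 (n : ℤ))
      (fun b : 𝒜 n => (Twist.globalOf 𝒜 b : ProjUP.Γm (Twist.twist 𝒜 (n : ℤ)))) := by
  refine fun x => eq_top_iff.mpr fun t _ => ?_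
  obtain ⟨V, hxV, sec, rfl⟩ := TopCat.Presheaf.exists_germ_eq (Twist.twist 𝒜 (n : ℤ)).presheaf t
  obtain ⟨U, hxU, iU, p, q, ⟨a, ha⟩, ⟨w, hw⟩, nin, hd, hval⟩ := (show Twist.sectN (n : ℤ) (Opposite.op V) from sec).2 ⟨x, hxV⟩
  replace hd : (p : ℤ) = q + n ∨ a = 0 := hd
  rw [← TopCat.Presheaf.germ_res_apply (Twist.twist 𝒜 (n : ℤ)).presheaf iU x hxU sec]
  by_cases ha0 : a = 0
  · erw [show (Twist.twist 𝒜 (n : ℤ)).presheaf.map iU.op sec = 0 from GrothLib.Ample.ProjTwist.evT_ext fun y => by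
      refine (hval y).trans ?_
      subst ha0
      exact Localization.mk_zero _, map_zero]
    exact zero_mem _
  · have hp : p = q + n := by have := hd.resolve_right ha0; omega
    subst hp
    set l := Finset.univ.lcm deg with hl
    have hl0 : 0 < l := Nat.pos_of_ne_zero fun h0 => by
      obtain ⟨i, -, hi⟩ := Finset.lcm_eq_zero_iff.mp h0
      exact (hdeg i).ne' hi
    obtain ⟨l', hl'⟩ : ∃ l', l = l' + 1 := ⟨l - 1, by omega⟩
    have hwl : w ^ l ∈ 𝒜 (q * l) := by simpa [mul_comm] using SetLike.pow_mem_graded l hw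
    have hal : a * w ^ l' ∈ 𝒜 (n + q * l) := by
      have := SetLike.mul_mem_graded ha (SetLike.pow_mem_graded l' hw)
      rwa [smul_eq_mul, show q + n + l' * q = n + q * l by rw [hl']; ring] at this
    have ninl : ∀ y : U, w ^ l ∉ y.1.asHomogeneousIdeal := fun y hy => nin y (y.1.isPrime.mem_of_pow_mem l hy)
    let frac : ∀ a' : A, a' ∈ 𝒜 (n + q * l) → Γ(Twist.twist 𝒜 (n : ℤ), U) := fun a' h' =>
      GrothLib.GrTilde.fracT a' (w ^ l) h' hwl ninl (k := (n : ℤ)) (by push_cast; ring)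
    suffices H : ∃ h' : a * w ^ l' ∈ 𝒜 (n + q * l), (Twist.twist 𝒜 (n : ℤ)).presheaf.germ U x hxU (frac _ h') ∈
        Submodule.span ((Proj 𝒜).presheaf.stalk x) (Set.range fun b : 𝒜 n =>
          (Twist.twist 𝒜 (n : ℤ)).presheaf.germ ⊤ x (show x ∈ (⊤ : (Proj 𝒜).Opens) from trivial) (Twist.globalOf 𝒜 b)) by
      obtain ⟨_, H⟩ := H
      refine (show (Twist.twist 𝒜 (n : ℤ)).presheaf.map iU.op sec = frac _ hal from
        GrothLib.Ample.ProjTwist.evT_ext fun y => (hval y).trans ?_) ▸ H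
      rw [GrothLib.GrTilde.evT_fracT, Localization.mk_eq_mk_iff, Localization.r_iff_exists]
      exact ⟨1, by simp only [OneMemClass.coe_one, one_mul]; rw [hl']; ring⟩
    refine Submodule.mul_induction_on (graded_le_mul 𝒜 f deg hdeg hf hgen hn q hal) (fun b hb c hc => ?_)
      (fun u v hu hv => ?_)
    · have hbc := SetLike.mul_mem_graded hb hc
      refine ⟨hbc, ?_⟩
      rw [show frac _ hbc = GrothLib.Ample.ProjTwist.fracO c (w ^ l) hc hwl ninl •
          GrothLib.InvExt.mres (Twist.twist 𝒜 (n : ℤ)) le_top (GrothLib.Ample.ProjTwist.gsec 𝒜 b hb) from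
        GrothLib.Ample.ProjTwist.evT_ext fun y => by
          rw [GrothLib.GrTilde.evT_fracT, GrothLib.Ample.ProjTwist.evT_smul, GrothLib.Ample.ProjTwist.evT_mres,
            GrothLib.Ample.ProjTwist.evT_gsec, GrothLib.Ample.ProjTwist.ev_fracO, ← Localization.mk_one_eq_algebraMap,
            Localization.mk_mul, Localization.mk_eq_mk_iff, Localization.r_iff_exists]
          exact ⟨1, by simp only [OneMemClass.coe_one, one_mul, Submonoid.coe_mul, mul_one]; ring⟩]
      erw [GrothLib.WeakAss.germ_smul (F := Twist.twist 𝒜 (n : ℤ)) hxU]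
      refine Submodule.smul_mem _ _ (Submodule.subset_span ⟨⟨b, hb⟩, ?_⟩)
      exact (TopCat.Presheaf.germ_res_apply _ (CategoryTheory.homOfLE le_top) x hxU _).symm
    · obtain ⟨hu, Hu⟩ := hu
      obtain ⟨hv, Hv⟩ := hv
      refine ⟨add_mem hu hv, ?_⟩
      rw [show frac _ (add_mem hu hv) = frac u hu + frac v hv from GrothLib.Ample.ProjTwist.evT_ext fun y =>
        (Localization.add_mk_self u _ v).symm, map_add]
      exact add_mem Hu Hv

end Groth.Agent.S13171
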