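import Groth.Statements.S13172
-- import your own Groth.Agent.* helpers here
import Groth.Agent.Lib.GrTilde.Amp
import Groth.Agent.Lib.WeakAss.Basic

set_option autoImplicit false
universe u
open AlgebraicGeometry
open ZeroCyc

namespace Groth.Agent.S13172

/-- Let B be a graded R-algebra generated by elements of degree at most d (no finiteness assumed) such
that X = Proj B is covered by the opens D_+(g), g ∈ B_1. Then for every n ≥ 1, O_X(n) is generated
by its global sections b/1, b ∈ B_n. -/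
theorem result {R A : Type u} [CommRing R] [CommRing A] [Algebra R A] (𝒜 : ℕ → Submodule R A) [GradedAlgebra 𝒜]
    (d : ℕ) (hgen : Algebra.adjoin R (⋃ i ∈ Finset.range (d + 1), (𝒜 i : Set A)) = ⊤)
    (hcov : (⨆ g : 𝒜 1, Proj.basicOpen 𝒜 (g : A)) = ⊤) (n : ℕ) (hn : 0 < n) :
    ProjUP.GeneratedBy (Twist.twist 𝒜 (n : ℤ))
      (fun b : 𝒜 n => (Twist.globalOf 𝒜 b : ProjUP.Γm (Twist.twist 𝒜 (n : ℤ)))) := by
  have hN : ∀ x : Proj 𝒜, ∃ b ∈ 𝒜 n, b ∉ x.asHomogeneousIdeal := fun x => by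
    obtain ⟨⟨g, hg⟩, hx⟩ := TopologicalSpace.Opens.mem_iSup.mp (hcov ▸ trivial : x ∈ ⨆ g : 𝒜 1, Proj.basicOpen 𝒜 (g : A))
    exact ⟨g ^ n, by simpa using SetLike.pow_mem_graded n hg, fun hm => hx (x.isPrime.mem_of_pow_mem n hm)⟩
  refine fun x => eq_top_iff.mpr fun t _ => ?_
  obtain ⟨V, hxV, m, rfl⟩ := TopCat.Presheaf.exists_germ_eq (Twist.twist 𝒜 (n : ℤ)).presheaf t
  obtain ⟨b, hb, W, hW, hxW, r, hr⟩ := GrothLib.GrTilde.exists_span_gsec hN V m x hxV
  rw [← TopCat.Presheaf.germ_res_apply _ (CategoryTheory.homOfLE hW) x hxW m]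
  change (Twist.twist 𝒜 (n : ℤ)).presheaf.germ W x hxW (GrothLib.InvExt.mres (Twist.twist 𝒜 (n : ℤ)) hW m) ∈ _
  rw [← hr]
  erw [GrothLib.WeakAss.germ_smul (F := Twist.twist 𝒜 (n : ℤ)) hxW]
  refine Submodule.smul_mem _ _ (Submodule.subset_span ⟨⟨b, hb⟩, ?_⟩)
  exact (TopCat.Presheaf.germ_res_apply _ (CategoryTheory.homOfLE le_top) x hxW _).symm

end Groth.Agent.S13172
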