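import Groth.Statements.S13175
-- import your own Groth.Agent.* helpers here
import Groth.Agent.Lib.PolLaw.FromPoly

set_option autoImplicit false
universe u v w
open scoped TensorProduct
open ZeroCyc

namespace Groth.Agent.S13175

/-- Let B and C be A-algebras and F : B → C a polynomial law. If the maps F over the polynomial rings
A[t_1, …, t_n], n ≥ 0, are multiplicative (send 1 to 1 and products to products), then F is a
multiplicative law: F sends 1 to 1 and products to products over every A-algebra. -/
theorem result {A : Type u} [CommRing A] {B : Type v} [CommRing B] [Algebra A B] {C : Type w} [CommRing C] [Algebra A C]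
    (F : B →ₚₗ[A] C)
    (h1 : ∀ n : ℕ, F.toFun' (MvPolynomial (Fin n) A) 1 = 1)
    (hmul : ∀ (n : ℕ) (x y : MvPolynomial (Fin n) A ⊗[A] B),
      F.toFun' (MvPolynomial (Fin n) A) (x * y) = F.toFun' (MvPolynomial (Fin n) A) x * F.toFun' (MvPolynomial (Fin n) A) y) :
    ∀ (S : Type u) [CommRing S] [Algebra A S], F.toFun' S 1 = 1 ∧
      ∀ x y : S ⊗[A] B, F.toFun' S (x * y) = F.toFun' S x * F.toFun' S y := by
  intro S _ _
  refine ⟨?_, fun x y => ?_⟩
  · have h := F.isCompat_apply' (Algebra.ofId A S |>.comp (MvPolynomial.aeval (fun i : Fin 0 => i.elim0) : MvPolynomial (Fin 0) A →ₐ[A] A)) 1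
    rw [h1] at h
    simpa [Algebra.TensorProduct.one_def] using h.symm
  · obtain ⟨n, ψ, p, q, rfl, rfl⟩ := GrothLib.PolLaw.exists_lift_pair x y
    have hB : ∀ a b, ψ.toLinearMap.rTensor B (a * b) =
        ψ.toLinearMap.rTensor B a * ψ.toLinearMap.rTensor B b := fun a b =>
      map_mul (Algebra.TensorProduct.map ψ (AlgHom.id A B)) a b
    have hC : ∀ a b, ψ.toLinearMap.rTensor C (a * b) =
        ψ.toLinearMap.rTensor C a * ψ.toLinearMap.rTensor C b := fun a b =>
      map_mul (Algebra.TensorProduct.map ψ (AlgHom.id A C)) a b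
    rw [← hB, ← F.isCompat_apply', hmul, hC, F.isCompat_apply', F.isCompat_apply']

end Groth.Agent.S13175
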