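import Groth.Statements.S13178
import Groth.Agent.Lib.PolLaw.Points
import Mathlib.FieldTheory.PurelyInseparable.Tower
import Mathlib.FieldTheory.PrimitiveElement
import Mathlib.RingTheory.Flat.Basic

set_option autoImplicit false
universe u
open scoped TensorProduct
open ZeroCyc

namespace Groth.Agent.S13178

open TensorProduct Polynomial

lemma eq_pow_of_roots {k Ω : Type u} [Field k] [Field Ω] [Algebra k Ω] [IsAlgClosed Ω] (μ : k[X]) (hμ : Irreducible μ)
    (hμm : μ.Monic) : ∀ (n : ℕ) (P : k[X]), P.natDegree = n → P.Monic →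
    (∀ r ∈ (P.map (algebraMap k Ω)).roots, aeval r μ = 0) → ∃ t : ℕ, P = μ ^ t := by
  intro n
  induction n using Nat.strong_induction_on with
  | _ n ih =>
    intro P hn hP hr
    rcases Nat.eq_zero_or_pos n with h0 | hpos
    · exact ⟨0, by rw [pow_zero]; exact hP.natDegree_eq_zero.mp (by omega)⟩
    have hdeg : (P.map (algebraMap k Ω)).degree ≠ 0 := by
      rw [degree_map, degree_eq_natDegree hP.ne_zero, hn]
      exact_mod_cast (by omega : n ≠ 0)
    obtain ⟨r, hr'⟩ := IsAlgClosed.exists_root _ hdeg
    have hint : IsIntegral k r := ⟨P, hP, by rwa [IsRoot.def, eval_map] at hr'⟩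
    have hmin : minpoly k r = μ := (minpoly.eq_of_irreducible_of_monic hμ
      (hr r ((mem_roots (hP.map (algebraMap k Ω)).ne_zero).mpr hr')) hμm).symm
    obtain ⟨Q, hQ⟩ : μ ∣ P := hmin ▸ minpoly.dvd k r (by rwa [IsRoot.def, eval_map_algebraMap] at hr')
    have hQm : Q.Monic := hμm.of_mul_monic_left (hQ ▸ hP)
    have hlt : Q.natDegree < n := by
      rw [← hn, hQ, hμm.natDegree_mul hQm]
      have := hμ.natDegree_pos
      omega
    obtain ⟨t, ht⟩ := ih _ hlt Q rfl hQm (fun s hs => hr s (by
      rw [hQ, Polynomial.map_mul, roots_mul (mul_ne_zero (hμm.map _).ne_zero (hQm.map _).ne_zero)]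
      exact Multiset.mem_add.mpr (Or.inr hs)))
    exact ⟨t + 1, by rw [hQ, ht, pow_succ, mul_comm]⟩

lemma isSeparable_of_expand {k K : Type u} [Field k] [Field K] [Algebra k K] {b : K} (hb : IsIntegral k b)
    {g : k[X]} (hg : g.Separable) {P : ℕ} (h : expand k P g = minpoly k b) : IsSeparable k (b ^ P) := by
  have : aeval (b ^ P) g = 0 := by rw [← expand_aeval, h, minpoly.aeval]
  exact hg.of_dvd (minpoly.dvd k _ this)

section
variable {k : Type u} [Field k] {K : Type u} [Field K] [Algebra k K] [FiniteDimensional k K]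

local notation "L" => AlgebraicClosure k
local notation "Ks" => separableClosure k K

lemma exists_theta : ∃ θ : K, θ ∈ Ks ∧ ∀ x y : K →ₐ[k] L, x θ = y θ → x = y := by
  obtain ⟨α, hα⟩ := Field.exists_primitive_element k Ks
  refine ⟨α, α.2, fun x y hxy => ?_⟩
  obtain ⟨q, hq⟩ := ExpChar.exists k
  haveI : ExpChar Ks q := expChar_of_injective_algebraMap (algebraMap k Ks).injective q
  haveI : ExpChar L q := expChar_of_injective_algebraMap (algebraMap k L).injective q
  have hs : x.comp (separableClosure k K).val = y.comp (separableClosure k K).val := by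
    apply AlgHom.ext
    intro z
    have hz : z ∈ IntermediateField.adjoin k {α} := hα ▸ IntermediateField.mem_top
    induction hz using IntermediateField.adjoin_induction with
    | mem w hw => obtain rfl := Set.mem_singleton_iff.mp hw; exact hxy
    | algebraMap w => simp
    | add a b _ _ ha hb => rw [map_add, map_add, ha, hb]
    | inv a _ ha => rw [map_inv₀, map_inv₀, ha]
    | mul a b _ _ ha hb => rw [map_mul, map_mul, ha, hb]
  apply AlgHom.ext
  intro b
  obtain ⟨n, z, hz⟩ := IsPurelyInseparable.pow_mem Ks q b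
  refine iterateFrobenius_inj L q n ?_
  have h := AlgHom.congr_fun hs z
  simp only [AlgHom.comp_apply] at h
  rw [show ((separableClosure k K).val z : K) = b ^ q ^ n from hz, map_pow, map_pow] at h
  simpa [iterateFrobenius_def] using h

lemma card_emb : Nat.card (K →ₐ[k] L) = Field.finSepDegree k K :=
  (Field.finSepDegree_eq_of_isAlgClosed k K L).symm

lemma finrank_Ks : Module.finrank k Ks = Field.finSepDegree k K := by
  rw [Field.finSepDegree_eq]
  rfl

open Classical in
/-- the multiset of points of a law, all with the same multiplicity -/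
lemma points {d : ℕ} (F : PolLaw.MulLaw k K k d) :
    ∃ (x : Fin d → (K →ₐ[k] L)) (t : ℕ), GrothLib.PolLaw.HasPoints F L x ∧
      ∀ σ, (Finset.univ.val.map x).count σ = t := by
  classical
  obtain ⟨x, hx⟩ := GrothLib.PolLaw.exists_points F L
  obtain ⟨θ, hθ, hinj⟩ := exists_theta (k := k) (K := K)
  let μ := minpoly k θ
  let P := GrothLib.PolLaw.charPoly F k ((1 : k) ⊗ₜ[k] θ)
  have hint : IsIntegral k θ := Algebra.IsIntegral.isIntegral θ
  have hP : P.map (algebraMap k L) = ((Finset.univ.val.map x).map fun σ => X - C (σ θ)).prod := by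
    rw [hx.charPoly_one_tmul θ, Multiset.map_map, Finset.prod_eq_multiset_prod]
    rfl
  have hroots : (P.map (algebraMap k L)).roots = (Finset.univ.val.map x).map fun σ => σ θ := by
    rw [hP, show ((Finset.univ.val.map x).map fun σ => X - C (σ θ)) =
      ((Finset.univ.val.map x).map fun σ => σ θ).map fun a => X - C a by rw [Multiset.map_map (fun a => X - C a)]; rfl,
      roots_multiset_prod_X_sub_C]
  have hmonic : P.Monic := by
    refine monic_of_injective (algebraMap k L).injective ?_
    rw [hP]
    exact monic_multiset_prod_of_monic _ _ fun σ _ => monic_X_sub_C _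
  obtain ⟨t, ht⟩ := eq_pow_of_roots (Ω := L) μ (minpoly.irreducible hint) (minpoly.monic hint) _ P rfl hmonic
    (fun r hr => by
      rw [hroots] at hr
      obtain ⟨σ, -, rfl⟩ := Multiset.mem_map.mp hr
      rw [aeval_algHom_apply, minpoly.aeval, map_zero])
  refine ⟨x, t, hx, fun σ => ?_⟩
  have hsep : μ.Separable := mem_separableClosure_iff.mp hθ
  have h1 : (μ.map (algebraMap k L)).roots.count (σ θ) = 1 :=
    Multiset.count_eq_one_of_mem (nodup_roots hsep.map) ((mem_roots ((minpoly.monic hint).map _).ne_zero).mpr (by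
      rw [IsRoot.def, eval_map_algebraMap, aeval_algHom_apply, minpoly.aeval, map_zero]))
  rw [← Multiset.count_map_eq_count' (fun τ : K →ₐ[k] L => τ θ) _ (fun a b h => hinj a b h) σ, ← hroots, ht,
    Polynomial.map_pow, roots_pow, Multiset.count_nsmul, h1, mul_one]

lemma law_ext {d : ℕ} (F F' : PolLaw.MulLaw k K k d) : F = F' := by
  classical
  obtain ⟨x, t, hx, ht⟩ := points F
  obtain ⟨x', t', hx', ht'⟩ := points F'
  haveI : Nonempty (K →ₐ[k] L) := ⟨IsAlgClosed.lift⟩
  have hM : Finset.univ.val.map x = Finset.univ.val.map x' := by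
    have hc : Multiset.card (Finset.univ.val.map x) = Multiset.card (Finset.univ.val.map x') := by simp
    rw [← Multiset.sum_count_eq_card (s := Finset.univ) (fun a _ => Finset.mem_univ a),
      ← Multiset.sum_count_eq_card (s := Finset.univ) (fun a _ => Finset.mem_univ a)] at hc
    simp only [ht, ht', Finset.sum_const, smul_eq_mul] at hc
    have htt : t = t' := Nat.eq_of_mul_eq_mul_left (Finset.card_pos.mpr Finset.univ_nonempty) hc
    ext σ
    rw [ht, ht', htt]
  apply PolLaw.MulLaw.ext
  ext S _ _ y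
  letI : Ring S := Algebra.semiringToRing k
  rw [GrothLib.PolLaw.toFun'_eq_valS_tmul, GrothLib.PolLaw.toFun'_eq_valS_tmul]
  congr 1
  have h := congrArg (fun M : Multiset (K →ₐ[k] L) =>
    (M.map fun σ => Algebra.TensorProduct.map (AlgHom.id k S) σ y).prod) hM
  simp only [Multiset.map_map, Function.comp_def] at h
  rw [← Finset.prod_eq_multiset_prod, ← Finset.prod_eq_multiset_prod, ← hx S y, ← hx' S y] at h
  exact Algebra.TensorProduct.includeLeft_injective (R := k) (S := k) (algebraMap k L).injective h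

lemma gcd_mem {m n : ℕ} (hm : ∀ x : K, x ^ m ∈ Ks) (hn : ∀ x : K, x ^ n ∈ Ks) (x : K) : x ^ Nat.gcd m n ∈ Ks := by
  rcases eq_or_ne x 0 with rfl | hx
  · rcases eq_or_ne (Nat.gcd m n) 0 with h | h
    · rw [h, pow_zero]; exact one_mem _
    · rw [zero_pow h]; exact zero_mem _
  rw [← zpow_natCast, Nat.gcd_eq_gcd_ab, zpow_add₀ hx, zpow_mul, zpow_mul, zpow_natCast, zpow_natCast]
  exact mul_mem (zpow_mem (hm x) _) (zpow_mem (hn x) _)

lemma dvd_of_forall {e m : ℕ} (he : 0 < e) (hexp : ∀ x : K, x ^ e ∈ Ks)
    (hmin : ∀ n : ℕ, 0 < n → (∀ x : K, x ^ n ∈ Ks) → e ≤ n) (hm : ∀ x : K, x ^ m ∈ Ks) : e ∣ m := by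
  have h := gcd_mem hexp hm
  have hle := hmin _ (Nat.gcd_pos_of_pos_left _ he) h
  have := Nat.le_antisymm hle (Nat.gcd_le_left _ he)
  exact this ▸ Nat.gcd_dvd_right e m

lemma exists_sep (b : K) : ∀ θ : K, θ ∈ Ks → (∀ x y : K →ₐ[k] L, x θ = y θ → x = y) →
    b ∈ Ks ∨ ∃ c : k, Function.Injective fun σ : K →ₐ[k] L => σ (b + algebraMap k K c * θ) := by
  classical
  intro θ hθ hinj
  rcases finite_or_infinite k with hk | hk
  · left
    haveI : PerfectField k := PerfectField.ofFinite
    exact mem_separableClosure_iff.mpr (Algebra.IsSeparable.isSeparable k b)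
  right
  let bad : Finset L := (Finset.univ : Finset ((K →ₐ[k] L) × (K →ₐ[k] L))).image
    fun p => (p.2 b - p.1 b) / (p.1 θ - p.2 θ)
  obtain ⟨z, ⟨c, rfl⟩, hc⟩ :=
    (Set.infinite_range_of_injective (algebraMap k L).injective).exists_notMem_finset bad
  refine ⟨c, fun σ τ h => ?_⟩
  by_contra hne
  refine hc (Finset.mem_image.mpr ⟨(σ, τ), Finset.mem_univ _, ?_⟩)
  have hne' : σ θ - τ θ ≠ 0 := fun h' => hne (hinj σ τ (sub_eq_zero.mp h'))
  simp only [map_add, map_mul, AlgHom.commutes] at h
  rw [div_eq_iff hne']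
  linear_combination -h

lemma pow_mem_of_law {d : ℕ} (F : PolLaw.MulLaw k K k d) :
    ∃ t : ℕ, d = Field.finSepDegree k K * t ∧ ∀ x : K, x ^ t ∈ Ks := by
  classical
  obtain ⟨x, t, hx, ht⟩ := points F
  obtain ⟨θ, hθ, hinj⟩ := exists_theta (k := k) (K := K)
  refine ⟨t, ?_, fun b => ?_⟩
  · have hc : Multiset.card (Finset.univ.val.map x) = d := by simp
    rw [← Multiset.sum_count_eq_card (s := Finset.univ) (fun a _ => Finset.mem_univ a)] at hc
    simp only [ht, Finset.sum_const, smul_eq_mul, Finset.card_univ] at hc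
    rw [← card_emb, Nat.card_eq_fintype_card]
    exact hc.symm
  rcases exists_sep b θ hθ hinj with hb | ⟨c, hc⟩
  · exact pow_mem hb t
  obtain ⟨q, hq⟩ := ExpChar.exists k
  haveI : ExpChar K q := expChar_of_injective_algebraMap (algebraMap k K).injective q
  haveI : ExpChar L q := expChar_of_injective_algebraMap (algebraMap k L).injective q
  haveI : PerfectRing L q := PerfectField.toPerfectRing q
  let b' := b + algebraMap k K c * θ
  have hint : IsIntegral k b' := Algebra.IsIntegral.isIntegral b'
  obtain ⟨g, hg, n, hexp⟩ := (minpoly.irreducible hint).hasSeparableContraction q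
  let P := GrothLib.PolLaw.charPoly F k ((1 : k) ⊗ₜ[k] b')
  have hP : P.map (algebraMap k L) = ((Finset.univ.val.map x).map fun σ => X - C (σ b')).prod := by
    rw [hx.charPoly_one_tmul b', Multiset.map_map, Finset.prod_eq_multiset_prod]
    rfl
  have hroots : (P.map (algebraMap k L)).roots = (Finset.univ.val.map x).map fun σ => σ b' := by
    rw [hP, show ((Finset.univ.val.map x).map fun σ => X - C (σ b')) =
      ((Finset.univ.val.map x).map fun σ => σ b').map fun a => X - C a by rw [Multiset.map_map (fun a => X - C a)]; rfl,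
      roots_multiset_prod_X_sub_C]
  have hmonic : P.Monic := by
    refine monic_of_injective (algebraMap k L).injective ?_
    rw [hP]
    exact monic_multiset_prod_of_monic _ _ fun σ _ => monic_X_sub_C _
  obtain ⟨s, hs⟩ := eq_pow_of_roots (Ω := L) _ (minpoly.irreducible hint) (minpoly.monic hint) _ P rfl hmonic
    (fun r hr => by
      rw [hroots] at hr
      obtain ⟨σ, -, rfl⟩ := Multiset.mem_map.mp hr
      rw [aeval_algHom_apply, minpoly.aeval, map_zero])
  obtain ⟨σ⟩ : Nonempty (K →ₐ[k] L) := ⟨IsAlgClosed.lift⟩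
  have hdvd : q ^ n ∣ t := by
    have h : t = ((P.map (algebraMap k L)).roots).count (σ b') := by
      rw [hroots, Multiset.count_map_eq_count' _ _ hc σ, ht]
    rw [h, hs, Polynomial.map_pow, roots_pow, Multiset.count_nsmul, ← hexp, map_expand, roots_expand_pow,
      Multiset.count_nsmul]
    exact Dvd.dvd.mul_left (dvd_mul_right _ _) _
  have hb' : b' ^ q ^ n ∈ Ks := mem_separableClosure_iff.mpr (isSeparable_of_expand hint hg hexp)
  have hb : b ^ q ^ n ∈ Ks := by
    have : b ^ q ^ n = b' ^ q ^ n - (algebraMap k K c * θ) ^ q ^ n := by rw [← sub_pow_expChar_pow]; simp [b']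
    rw [this]
    exact sub_mem hb' (pow_mem (mul_mem (IntermediateField.algebraMap_mem _ c) hθ) _)
  obtain ⟨r, rfl⟩ := hdvd
  rw [pow_mul]
  exact pow_mem hb r

lemma exists_prime_pow {e : ℕ} (he : 0 < e) (hexp : ∀ x : K, x ^ e ∈ Ks)
    (hmin : ∀ n : ℕ, 0 < n → (∀ x : K, x ^ n ∈ Ks) → e ≤ n) :
    e = 1 ∨ ∃ p j : ℕ, p.Prime ∧ (p : k) = 0 ∧ e = p ^ j := by
  classical
  obtain ⟨q, hq⟩ := ExpChar.exists k
  haveI : ExpChar K q := expChar_of_injective_algebraMap (algebraMap k K).injective q
  haveI : ExpChar Ks q := expChar_of_injective_algebraMap (algebraMap k Ks).injective q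
  let bk := Module.finBasis k K
  have h1 : ∀ i, ∃ n, (bk i) ^ q ^ n ∈ Ks := fun i => by
    obtain ⟨n, z, hz⟩ := IsPurelyInseparable.pow_mem Ks q (bk i)
    exact ⟨n, hz ▸ z.2⟩
  choose n hn using h1
  let N := Finset.univ.sup n
  have hN : ∀ x : K, x ^ q ^ N ∈ Ks := by
    intro x
    rw [← bk.sum_repr x, sum_pow_char_pow]
    refine sum_mem fun i _ => ?_
    rw [Algebra.smul_def, mul_pow]
    refine mul_mem (pow_mem (IntermediateField.algebraMap_mem _ _) _) ?_
    obtain ⟨r, hr⟩ := Nat.exists_eq_add_of_le (Finset.le_sup (Finset.mem_univ i) : n i ≤ N)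
    rw [show N = n i + r from hr, pow_add, pow_mul]
    exact pow_mem (hn i) _
  have hd := dvd_of_forall he hexp hmin hN
  cases hq with
  | zero => left; simpa using hd
  | prime hp =>
    right
    obtain ⟨j, -, hj⟩ := (Nat.dvd_prime_pow hp).mp hd
    exact ⟨_, j, hp, CharP.cast_eq_zero k _, hj⟩

lemma exists_powE {e : ℕ} (he : 0 < e) (hexp : ∀ x : K, x ^ e ∈ Ks)
    (hmin : ∀ n : ℕ, 0 < n → (∀ x : K, x ^ n ∈ Ks) → e ≤ n) : Nonempty (PolLaw.MulLaw k K Ks e) := by
  classical
  let j : ∀ (S : Type u) [CommSemiring S] [Algebra k S], S ⊗[k] Ks →ₐ[k] S ⊗[k] K :=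
    fun S _ _ => Algebra.TensorProduct.map (AlgHom.id k S) (separableClosure k K).val
  have hj : ∀ (S : Type u) [CommSemiring S] [Algebra k S], Function.Injective (j S) := by
    intro S _ _
    letI : Ring S := Algebra.semiringToRing k
    have h := Module.Flat.lTensor_preserves_injective_linearMap (M := S) (separableClosure k K).val.toLinearMap Subtype.val_injective
    intro a b hab
    exact h hab
  have hex : ∀ (S : Type u) [CommSemiring S] [Algebra k S] (y : S ⊗[k] K), ∃ z, j S z = y ^ e := by
    intro S _ _ y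
    induction y using TensorProduct.induction_on with
    | zero => exact ⟨0, by rw [map_zero, zero_pow (by omega)]⟩
    | tmul s b => exact ⟨(s ^ e) ⊗ₜ[k] ⟨b ^ e, hexp b⟩, by simp [j, Algebra.TensorProduct.tmul_pow]⟩
    | add a b ha hb =>
      obtain ⟨za, hza⟩ := ha
      obtain ⟨zb, hzb⟩ := hb
      rcases exists_prime_pow he hexp hmin with rfl | ⟨p, i, hp, hp0, rfl⟩
      · exact ⟨za + zb, by rw [map_add, hza, hzb, pow_one, pow_one, pow_one]⟩
      · obtain ⟨r, hr⟩ := exists_add_pow_prime_pow_eq hp a b i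
        refine ⟨za + zb, ?_⟩
        have h0 : (p : S ⊗[k] K) = 0 := by rw [← map_natCast (algebraMap k (S ⊗[k] K)), hp0, map_zero]
        rw [map_add, hza, hzb, hr, h0, zero_mul, zero_mul, zero_mul, add_zero]
  choose φ hφ using hex
  exact ⟨{
    law :=
      { toFun' := fun S _ _ y => φ S y
        isCompat' := fun {S} _ _ {S'} _ _ g => by
          funext y
          simp only [Function.comp_apply]
          apply hj S'
          rw [hφ, PolLaw.rTensor_algHom_apply, PolLaw.rTensor_algHom_apply, ← map_pow, ← hφ]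
          generalize φ S y = z
          induction z using TensorProduct.induction_on with
          | zero => simp
          | tmul s b => simp [j]
          | add a b ha hb => simp only [map_add, ha, hb] }
    homog := fun S _ _ s y => by
      apply hj S
      change j S (φ S (s • y)) = _
      rw [hφ]
      have : ∀ (a : S) z, j S (a • z) = a • j S z := by
        intro a z
        induction z using TensorProduct.induction_on with
        | zero => simp
        | tmul s b => simp [j, TensorProduct.smul_tmul']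
        | add a b ha hb => simp only [map_add, smul_add, ha, hb]
      rw [this, smul_pow]
      exact congrArg _ (hφ S y).symm
    mult := fun S _ _ => ⟨hj S (by
        change j S (φ S 1) = _
        rw [hφ, one_pow]; exact (map_one (Algebra.TensorProduct.map (AlgHom.id k S) (separableClosure k K).val)).symm), fun a b => hj S (by
        change j S (φ S (a * b)) = j S (φ S a * φ S b)
        rw [map_mul, hφ, hφ, hφ, mul_pow])⟩ }⟩

end



/-- Let K/k be a finite field extension with separable degree d_s and exponent e (the least e ≥ 1 such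
that x^e is separable over k for every x ∈ K), and let d ≥ 0. The k-points of Γ^d(Spec K / Spec k)
are the multiplicative polynomial laws K → k over k that are homogeneous of degree d; there is at
most one such law, and one exists if and only if the quasi-degree d_s·e divides d. (The
identification of k-points of Γ^d with multiplicative homogeneous laws is the universal property of
the algebra of divided powers; the row is stated directly for laws.) -/
theorem result {k : Type u} [Field k] {K : Type u} [Field K] [Algebra k K]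
    [FiniteDimensional k K] (d e : ℕ) (he : 0 < e) (hexp : ∀ x : K, x ^ e ∈ separableClosure k K)
    (hmin : ∀ n : ℕ, 0 < n → (∀ x : K, x ^ n ∈ separableClosure k K) → e ≤ n) :
    (∀ F F' : K →ₚₗ[k] k,
      ((∀ (S : Type u) [CommRing S] [Algebra k S], F.toFun' S 1 = 1 ∧
        ∀ x y : S ⊗[k] K, F.toFun' S (x * y) = F.toFun' S x * F.toFun' S y) ∧
      ∀ (S : Type u) [CommRing S] [Algebra k S] (a : S) (z : S ⊗[k] K), F.toFun' S (a • z) = a ^ d • F.toFun' S z) →
      ((∀ (S : Type u) [CommRing S] [Algebra k S], F'.toFun' S 1 = 1 ∧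
        ∀ x y : S ⊗[k] K, F'.toFun' S (x * y) = F'.toFun' S x * F'.toFun' S y) ∧
      ∀ (S : Type u) [CommRing S] [Algebra k S] (a : S) (z : S ⊗[k] K), F'.toFun' S (a • z) = a ^ d • F'.toFun' S z) → F = F') ∧
    ((∃ F : K →ₚₗ[k] k, ((∀ (S : Type u) [CommRing S] [Algebra k S], F.toFun' S 1 = 1 ∧
        ∀ x y : S ⊗[k] K, F.toFun' S (x * y) = F.toFun' S x * F.toFun' S y) ∧
      ∀ (S : Type u) [CommRing S] [Algebra k S] (a : S) (z : S ⊗[k] K), F.toFun' S (a • z) = a ^ d • F.toFun' S z)) ↔ Field.finSepDegree k K * e ∣ d) := by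
  classical
  constructor
  · intro F F' hF hF'
    have h : ∀ G : K →ₚₗ[k] k, _ → PolLaw.IsHomog G d ∧ PolLaw.IsMult G := fun G (hG : (∀ (S : Type u) [CommRing S] [Algebra k S], G.toFun' S 1 = 1 ∧
        ∀ x y : S ⊗[k] K, G.toFun' S (x * y) = G.toFun' S x * G.toFun' S y) ∧
      ∀ (S : Type u) [CommRing S] [Algebra k S] (a : S) (z : S ⊗[k] K), G.toFun' S (a • z) = a ^ d • G.toFun' S z) =>
      ⟨fun S _ _ => by
        letI : CommRing S := { Algebra.semiringToRing k (A := S), ‹CommSemiring S› with }
        exact hG.2 S, fun S _ _ => by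
        letI : CommRing S := { Algebra.semiringToRing k (A := S), ‹CommSemiring S› with }
        exact hG.1 S⟩
    exact congrArg PolLaw.MulLaw.law
      (law_ext ⟨F, (h F hF).1, (h F hF).2⟩ ⟨F', (h F' hF').1, (h F' hF').2⟩)
  · constructor
    · rintro ⟨F, hF1, hF2⟩
      obtain ⟨t, hd, ht⟩ := pow_mem_of_law (d := d) ⟨F, fun S _ _ => by
        letI : CommRing S := { Algebra.semiringToRing k (A := S), ‹CommSemiring S› with }
        exact hF2 S, fun S _ _ => by
        letI : CommRing S := { Algebra.semiringToRing k (A := S), ‹CommSemiring S› with }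
        exact hF1 S⟩
      rw [hd]
      exact mul_dvd_mul_left _ (dvd_of_forall he hexp hmin ht)
    · rintro ⟨t, hd⟩
      obtain ⟨G⟩ := exists_powE (k := k) he hexp hmin
      let N := PolLaw.normLaw k (separableClosure k K) (Field.finSepDegree k K) (finrank_Ks (k := k) (K := K))
      let F : K →ₚₗ[k] k := (PolLaw.powLaw t).comp (N.law.comp G.law)
      refine ⟨F, fun S _ _ => ⟨?_, fun x y => ?_⟩, fun S _ _ a z => ?_⟩
      · change (N.law.toFun' S (G.law.toFun' S 1)) ^ t = 1
        rw [(G.mult S).1, (N.mult S).1, one_pow]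
      · change (N.law.toFun' S (G.law.toFun' S (x * y))) ^ t = (N.law.toFun' S (G.law.toFun' S x)) ^ t * (N.law.toFun' S (G.law.toFun' S y)) ^ t
        rw [(G.mult S).2, (N.mult S).2, mul_pow]
      · change (N.law.toFun' S (G.law.toFun' S (a • z))) ^ t = a ^ d • (N.law.toFun' S (G.law.toFun' S z)) ^ t
        rw [G.homog, N.homog, smul_pow, hd, ← pow_mul, ← pow_mul]
        congr 2
        ring


end Groth.Agent.S13178
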