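import Groth.Statements.S13182
import Groth.Agent.Lib.VerEmb4.Algebra
import Groth.Agent.Lib.VerEmb4.Proj

set_option autoImplicit false
set_option linter.all false
set_option maxHeartbeats 1000000
set_option backward.isDefEq.respectTransparency false
universe u
open CategoryTheory CategoryTheory.Limits AlgebraicGeometry
open ZeroCyc

namespace Groth.Agent.S13182

/-- Let B be a graded R-algebra generated by homogeneous elements f_1, …, f_s of positive degrees d_1,
…, d_s, let l be the least common multiple of the d_i and X = Proj B. For n = a l with a ≥ max(1, s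
− 1) there is a closed immersion i of X into a projective space over R, over Spec R, with O_X(n) ≅
i^*O(1); in particular O_X(n) is very ample relative to Spec R. (The published statement takes for i
the canonical morphism into P(B_n) given by the sections B_n; this row asserts only a closed
immersion into some projective space P^N over R with an isomorphism O_X(n) ≅ i^*O(1).) -/
theorem result {R A : Type u} [CommRing R] [CommRing A] [Algebra R A] (𝒜 : ℕ → Submodule R A) [GradedAlgebra 𝒜]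
    {s : ℕ} (f : Fin s → A) (deg : Fin s → ℕ) (hdeg : ∀ i, 0 < deg i) (hf : ∀ i, f i ∈ 𝒜 (deg i))
    (hgen : Algebra.adjoin R (Set.range f) = ⊤) (a : ℕ) (ha : 0 < a) (has : s - 1 ≤ a) :
    ∃ (N : ℕ) (i : Proj 𝒜 ⟶ CohB1.ProjSpaceOver N (Spec (CommRingCat.of R))), IsClosedImmersion i ∧
      i ≫ pullback.snd (CohB1.ProjSpace.toSpec N (ULift.{u} ℤ)) (specULiftZIsTerminal.from (Spec (CommRingCat.of R))) =
        Proj.toSpecZero 𝒜 ≫ Spec.map (CommRingCat.ofHom (algebraMap R (𝒜 0))) ∧
      Nonempty (Twist.twist 𝒜 ((a * Finset.univ.lcm deg : ℕ) : ℤ) ≅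
        (Scheme.Modules.pullback i).obj (Twist.twistOver N (Spec (CommRingCat.of R)) 1)) := by
  classical
  set l := Finset.univ.lcm deg with hl
  set n := a * l with hn
  have hn0 : 0 < n := Nat.mul_pos ha (Nat.pos_of_ne_zero fun h => by
    rw [hl, Finset.lcm_eq_zero_iff] at h
    obtain ⟨i, -, hi⟩ := h
    exact (hdeg i).ne' hi)
  obtain ⟨B, ℬ, _, hB⟩ := GrothLib.VerEmb4.exists_veronese 𝒜 n hn0
  have hmem : ∀ (j : ℕ) (b : B), b ∈ ℬ j ↔ (b : A) ∈ 𝒜 (j * n) := fun j b => by
    rw [← hB j]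
    exact ⟨fun h => Submodule.mem_map_of_mem h, fun ⟨c, hc, hc'⟩ => (Subtype.coe_injective hc') ▸ hc⟩
  have hMon : ∀ j, GrothLib.VerEmb4.Mon f deg j ⊆ 𝒜 j := fun j x ⟨k, hk, hx⟩ =>
    hk ▸ hx ▸ GrothLib.VerEmb4.monomial_mem 𝒜 hf k
  obtain ⟨M, m, -, hm⟩ := (GrothLib.VerEmb4.finite_Mon (f := f) hdeg n).fin_param
  have hlift : ∀ i, ∃ b : B, b ∈ ℬ 1 ∧ (b : A) = m i := fun i => by
    have h : m i ∈ 𝒜 (1 * n) := by rw [one_mul]; exact hMon n (hm ▸ ⟨i, rfl⟩)
    rw [← hB 1] at h
    exact h
  choose t ht ht' using hlift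
  let t' : Fin (M + 1) → B := Fin.snoc t 0
  have ht'1 : ∀ i, t' i ∈ ℬ 1 := fun i => by
    induction i using Fin.lastCases with
    | last => simp [t']
    | cast i => simpa [t'] using ht i
  have hgenB : Subring.closure ((ℬ 0 : Set B) ∪ (ℬ 1 : Set B)) = ⊤ := by
    rw [eq_top_iff]
    intro b _
    let S := (Subring.closure ((ℬ 0 : Set B) ∪ (ℬ 1 : Set B))).map B.val.toRingHom
    suffices h : (b : A) ∈ S by
      obtain ⟨c, hc, hc'⟩ := h
      rwa [← (Subtype.coe_injective hc' : c = b)]
    have hR : ∀ r : R, algebraMap R A r ∈ S := fun r =>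
      ⟨algebraMap R B r, Subring.subset_closure (Or.inl ((hmem 0 _).2 (by
        rw [zero_mul]; exact SetLike.algebraMap_mem_graded 𝒜 r))), rfl⟩
    have hj : ∀ j, ∀ x ∈ GrothLib.VerEmb4.Mon f deg (j * n), x ∈ S := fun j x hx =>
      Submonoid.closure_le.2 (fun y hy => by
        have h : y ∈ 𝒜 (1 * n) := by rw [one_mul]; exact hMon n hy
        rw [← hB 1] at h
        obtain ⟨c, hc, rfl⟩ := h
        exact ⟨c, Subring.subset_closure (Or.inr hc), rfl⟩ :
          GrothLib.VerEmb4.Mon f deg n ⊆ S.toSubmonoid)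
        (GrothLib.VerEmb4.Mon_subset_closure hdeg ha has j hx)
    refine GrothLib.GradedAlg.sum_decompose_mem ℬ (P := fun c : B => (c : A) ∈ S) (by simp)
      (fun x y hx hy => by simpa using add_mem hx hy) (fun j c hc => ?_) b
    have h := GrothLib.VerEmb4.mem_span_Mon 𝒜 hf hgen ((hmem j c).1 hc)
    show (c : A) ∈ S
    generalize (c : A) = z at h ⊢
    induction h using Submodule.span_induction with
    | mem x hx => exact hj j x hx
    | zero => exact zero_mem S
    | add x y _ _ hx hy => exact add_mem hx hy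
    | smul r x _ hx => rw [Algebra.smul_def]; exact mul_mem (hR r) hx
  have hspan : ∀ x ∈ ℬ 1, ∃ c : Fin (M + 1) → R, x = ∑ k, (algebraMap R (ℬ 0) (c k) : B) * t' k := by
    intro x hx
    have h := GrothLib.VerEmb4.mem_span_Mon 𝒜 hf hgen (show (x : A) ∈ 𝒜 n from by
      have := (hmem 1 x).1 hx; rwa [one_mul] at this)
    rw [← hm, Submodule.mem_span_range_iff_exists_fun] at h
    obtain ⟨c, hc⟩ := h
    refine ⟨Fin.snoc c 0, Subtype.coe_injective ?_⟩
    rw [Fin.sum_univ_castSucc]
    simp only [t', Fin.snoc_castSucc, Fin.snoc_last, mul_zero, add_zero]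
    rw [AddSubmonoidClass.coe_finset_sum, ← hc]
    refine Finset.sum_congr rfl fun k _ => ?_
    rw [MulMemClass.coe_mul, ht' k, Algebra.smul_def]
    rfl
  obtain ⟨i, h1, h2, h3⟩ := GrothLib.VerEmb4.exists_embedding 𝒜 ℬ B.val Subtype.coe_injective hn0 hB hgenB t' ht'1 hspan
  exact ⟨M, i, h1, h2, h3⟩

end Groth.Agent.S13182
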