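import Groth.Statements.S13183
import Groth.Agent.S13182
import Groth.Agent.Lib.TwistEmb11.Main

set_option autoImplicit false
universe u
open CategoryTheory CategoryTheory.Limits AlgebraicGeometry
open ZeroCyc

namespace Groth.Agent.S13183

open GrothLib.GradedAlg in
/-- Finitely many homogeneous generators in the given range of degrees. -/
theorem exists_gens {R A : Type u} [CommRing R] [CommRing A] [Algebra R A] [Algebra.FiniteType R A] (S : Set A)
    (hS : Algebra.adjoin R S = ⊤) : ∃ T : Finset A, (↑T : Set A) ⊆ S ∧ Algebra.adjoin R (↑T : Set A) = ⊤ := by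
  classical
  obtain ⟨G, hG⟩ := ‹Algebra.FiniteType R A›.out
  have h : ∀ x : A, ∃ T : Finset A, (↑T : Set A) ⊆ S ∧ x ∈ Algebra.adjoin R (↑T : Set A) := by
    intro x
    have hx : x ∈ Algebra.adjoin R S := by rw [hS]; trivial
    induction hx using Algebra.adjoin_induction with
    | mem y hy => exact ⟨{y}, by simpa using hy, Algebra.subset_adjoin (by simp)⟩
    | algebraMap r => exact ⟨∅, by simp, Subalgebra.algebraMap_mem _ r⟩
    | add a b _ _ ha hb =>
      obtain ⟨T, hT, hTa⟩ := ha; obtain ⟨U, hU, hUb⟩ := hb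
      exact ⟨T ∪ U, by simp [hT, hU], add_mem (Algebra.adjoin_mono (by simp) hTa) (Algebra.adjoin_mono (by simp) hUb)⟩
    | mul a b _ _ ha hb =>
      obtain ⟨T, hT, hTa⟩ := ha; obtain ⟨U, hU, hUb⟩ := hb
      exact ⟨T ∪ U, by simp [hT, hU], mul_mem (Algebra.adjoin_mono (by simp) hTa) (Algebra.adjoin_mono (by simp) hUb)⟩
  choose T hT hxT using h
  refine ⟨G.biUnion T, by simp [hT], top_le_iff.1 (hG.ge.trans (Algebra.adjoin_le fun x hx => ?_))⟩
  exact Algebra.adjoin_mono (Finset.coe_subset.2 (Finset.subset_biUnion_of_mem T hx)) (hxT x)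


/-- Let B be a graded R-algebra of finite type, generated by elements of degrees between 1 and d, such
that X = Proj B is covered by the opens D_+(g), g ∈ B_1. For n ≥ d, n ≥ 1, there is a closed
immersion i of X into a projective space over R, over Spec R, with O_X(n) ≅ i^*O(1); in particular
O_X(n) is very ample relative to Spec R. (The published statement assumes neither finite generation
nor that the generators have positive degree, and its target is P(B_n) with i the canonical morphism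
given by B_n; a closed immersion into a projective space of finite type over R needs X proper over
R, so B is taken of finite type with generators of positive degree; existence of the isomorphism
only.) -/
theorem result {R A : Type u} [CommRing R] [CommRing A] [Algebra R A] (𝒜 : ℕ → Submodule R A) [GradedAlgebra 𝒜]
    (d : ℕ) (hgen : Algebra.adjoin R (⋃ i ∈ Finset.Icc 1 d, (𝒜 i : Set A)) = ⊤)
    (hcov : (⨆ g : 𝒜 1, Proj.basicOpen 𝒜 (g : A)) = ⊤) [Algebra.FiniteType R A] (n : ℕ) (hn : d ≤ n) (hn1 : 0 < n) :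
    ∃ (N : ℕ) (i : Proj 𝒜 ⟶ CohB1.ProjSpaceOver N (Spec (CommRingCat.of R))), IsClosedImmersion i ∧
      i ≫ pullback.snd (CohB1.ProjSpace.toSpec N (ULift.{u} ℤ)) (specULiftZIsTerminal.from (Spec (CommRingCat.of R))) =
        Proj.toSpecZero 𝒜 ≫ Spec.map (CommRingCat.ofHom (algebraMap R (𝒜 0))) ∧
      Nonempty (Twist.twist 𝒜 (n : ℤ) ≅
        (Scheme.Modules.pullback i).obj (Twist.twistOver N (Spec (CommRingCat.of R)) 1)) := by
  classical
  obtain ⟨T, hT, hTgen⟩ := exists_gens (R := R) _ hgen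
  let s := T.card
  let f : Fin s → A := fun i => (T.equivFin.symm i).1
  have hfT : ∀ i, ∃ e ∈ Finset.Icc 1 d, f i ∈ 𝒜 e := fun i => by
    obtain ⟨e, he, hm⟩ := Set.mem_iUnion₂.1 (hT (T.equivFin.symm i).2)
    exact ⟨e, he, hm⟩
  choose deg hdeg hf using hfT
  have hdeg0 : ∀ i, 0 < deg i := fun i => (Finset.mem_Icc.1 (hdeg i)).1
  have hdegd : ∀ i, deg i ≤ n := fun i => (Finset.mem_Icc.1 (hdeg i)).2.trans hn
  have hgenf : Algebra.adjoin R (Set.range f) = ⊤ := by
    rw [← hTgen]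
    congr 1
    ext x
    exact ⟨fun ⟨i, hi⟩ => hi ▸ (T.equivFin.symm i).2, fun hx => ⟨T.equivFin ⟨x, hx⟩, by simp [f]⟩⟩
  -- properness
  obtain ⟨N₀, i₀, hi₀, hi₀f, -⟩ := Groth.Agent.S13182.result 𝒜 f deg hdeg0 hf hgenf (s + 1) (Nat.succ_pos s) (by omega)
  let π := Proj.toSpecZero 𝒜 ≫ Spec.map (CommRingCat.ofHom (algebraMap R (𝒜 0)))
  haveI := hi₀
  haveI : IsProper (CohB1.ProjSpace.toSpec N₀ (ULift.{u} ℤ)) := GrothLib.Chow.isProper_toSpec N₀ _
  haveI : IsProper (CohB1.ProjSpaceOver.toBase N₀ (Spec (CommRingCat.of R))) :=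
    MorphismProperty.pullback_snd _ _ inferInstance
  haveI : IsProper π := by
    rw [show π = i₀ ≫ CohB1.ProjSpaceOver.toBase N₀ (Spec (CommRingCat.of R)) from hi₀f.symm]; infer_instance
  haveI : CompactSpace (Proj 𝒜) := QuasiCompact.compactSpace_of_compactSpace π
  obtain ⟨G, hG⟩ := isCompact_univ.elim_finite_subcover (fun g : 𝒜 1 => (Proj.basicOpen 𝒜 (g : A) : Set (Proj 𝒜)))
    (fun g => (Proj.basicOpen 𝒜 (g : A)).2) (fun x _ => by
      obtain ⟨g, hg⟩ := TopologicalSpace.Opens.mem_iSup.1 (hcov.ge (TopologicalSpace.Opens.mem_top x))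
      exact Set.mem_iUnion.2 ⟨g, hg⟩)
  -- the Veronese subalgebra
  obtain ⟨B, ℬ, _, hB⟩ := GrothLib.VerEmb4.exists_veronese 𝒜 n hn1
  have hmem : ∀ (j : ℕ) (b : B), b ∈ ℬ j ↔ (b : A) ∈ 𝒜 (j * n) := fun j b => by
    rw [← hB j]
    exact ⟨fun h => Submodule.mem_map_of_mem h, fun ⟨c, hc, hc'⟩ => (Subtype.coe_injective hc') ▸ hc⟩
  have hMon : ∀ j, GrothLib.VerEmb4.Mon f deg j ⊆ 𝒜 j := fun j x ⟨k, hk, hx⟩ =>
    hk ▸ hx ▸ GrothLib.VerEmb4.monomial_mem 𝒜 hf k
  let gp : 𝒜 1 → A := fun g => (g : A) ^ n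
  have hgp : ∀ g, gp g ∈ 𝒜 n := fun g => by simpa [gp] using SetLike.pow_mem_graded n g.2
  obtain ⟨M, m, -, hm⟩ := ((GrothLib.VerEmb4.finite_Mon (f := f) hdeg0 n).union
    (G.finite_toSet.image gp)).fin_param
  have hlift : ∀ i, ∃ b : B, b ∈ ℬ 1 ∧ (b : A) = m i := fun i => by
    have h : m i ∈ 𝒜 (1 * n) := by
      rw [one_mul]
      have hi : m i ∈ GrothLib.VerEmb4.Mon f deg n ∪ gp '' ↑G := hm ▸ ⟨i, rfl⟩
      rcases hi with hi | ⟨g, -, hg⟩
      · exact hMon n hi
      · exact hg ▸ hgp g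
    rw [← hB 1] at h
    exact h
  choose t ht ht' using hlift
  let t' : Fin (M + 1) → B := Fin.snoc t 0
  have ht'1 : ∀ i, t' i ∈ ℬ 1 := fun i => by
    induction i using Fin.lastCases with
    | last => simp [t']
    | cast i => simpa [t'] using ht i
  let J : Set (Fin (M + 1)) := {k | ∃ g : 𝒜 1, (t' k : A) = gp g}
  let e := GrothLib.GradedAlg.verIso 𝒜 ℬ B.val hB hn1 Subtype.coe_injective
  have hJ : ⨆ j ∈ J, Proj.basicOpen ℬ (t' j) = ⊤ := by
    refine top_le_iff.1 fun p _ => ?_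
    let p₀ := e.inv p
    have hp₀ : e.hom p₀ = p := by
      rw [← Scheme.Hom.comp_apply, e.inv_hom_id]; rfl
    obtain ⟨g, hgG, hg⟩ := Set.mem_iUnion₂.1 (hG (Set.mem_univ p₀))
    obtain ⟨k, hk⟩ : gp g ∈ Set.range m := hm ▸ Or.inr ⟨g, hgG, rfl⟩
    refine TopologicalSpace.Opens.mem_iSup.2 ⟨k.castSucc, TopologicalSpace.Opens.mem_iSup.2 ⟨⟨g, ?_⟩, ?_⟩⟩
    · simp [t', ht', hk]
    · rw [← hp₀]
      refine (GrothLib.GradedAlg.preimage_basicOpen_verIso 𝒜 ℬ B.val hB hn1 Subtype.coe_injective one_pos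
        (t' k.castSucc) (ht'1 _) p₀).2 ?_
      rw [show B.val (t' k.castSucc) = (g : A) ^ n by simp [t', ht', hk, gp], Proj.basicOpen_pow 𝒜 _ _ hn1]
      exact hg
  let T' : Submodule R A := Submodule.span R (Set.range fun k => (t' k : A))
  have hT' : ∀ x ∈ 𝒜 n, x ∈ T' := fun x hx => by
    refine Submodule.span_le.2 (fun y hy => ?_) (GrothLib.VerEmb4.mem_span_Mon 𝒜 hf hgenf hx)
    obtain ⟨k, hk⟩ : y ∈ Set.range m := hm ▸ Or.inl hy
    exact Submodule.subset_span ⟨k.castSucc, by simp [t', ht', hk]⟩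
  have hgenB : ∀ j ∈ J, ∀ (q : ℕ) (b : B), b ∈ ℬ q → ∃ N : ℕ, b * t' j ^ N ∈
      Submodule.span R (Set.range fun w : Fin (q + N) → Fin (M + 1) => ∏ l, t' (w l)) := by
    rintro j ⟨g, hg⟩ q b hb
    refine ⟨q * n, ?_⟩
    have hA : ∀ a ∈ Submodule.span R (GrothLib.VerEmb4.Mon f deg (q * n)),
        a * gp g ^ (q * n) ∈ T' ^ (q + q * n) := by
      intro a ha
      induction ha using Submodule.span_induction with
      | mem a ha =>
        obtain ⟨k, hk, rfl⟩ := ha
        have hr : ∑ i, k i ≤ q * n := hk ▸ Finset.sum_le_sum fun i _ => Nat.le_mul_of_pos_right _ (hdeg0 i)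
        have h1 : ∏ i, (f i * (g : A) ^ (n - deg i)) ^ k i ∈ T' ^ (∑ i, k i) := by
          have hfac : ∀ i, f i * (g : A) ^ (n - deg i) ∈ T' := fun i => hT' _ (by
            have := SetLike.mul_mem_graded (hf i) (SetLike.pow_mem_graded (n - deg i) g.2)
            rwa [smul_eq_mul, mul_one, Nat.add_sub_cancel' (hdegd i)] at this)
          refine Finset.induction_on (Finset.univ : Finset (Fin s)) (by simp; exact ⟨1, map_one _⟩) ?_
          intro i S hi ih
          rw [Finset.prod_insert hi, Finset.sum_insert hi, pow_add T']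
          exact Submodule.mul_mem_mul (Submodule.pow_mem_pow _ (hfac i) _) ih
        have h2 := Submodule.mul_mem_mul h1
          (Submodule.pow_mem_pow T' (hT' _ (hgp g)) (q + q * n - ∑ i, k i))
        rw [← pow_add, Nat.add_sub_cancel' (le_add_left hr)] at h2
        convert h2 using 1
        simp only [gp, mul_pow, Finset.prod_mul_distrib, ← pow_mul]
        rw [Finset.prod_pow_eq_pow_sum, mul_assoc, ← pow_add]
        congr 2
        have e1 : ∑ i, (n - deg i) * k i + q * n = n * ∑ i, k i := by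
          conv_lhs => rw [← hk]
          rw [← Finset.sum_add_distrib, Finset.mul_sum]
          refine Finset.sum_congr rfl fun i _ => ?_
          rw [mul_comm (k i), ← add_mul, Nat.sub_add_cancel (hdegd i)]
        have e2 : n * (q + q * n - ∑ i, k i) + n * ∑ i, k i = n * (q + q * n) := by
          rw [← mul_add, Nat.sub_add_cancel (le_add_left hr)]
        have e3 : n * (q + q * n) = q * n + n * (q * n) := by ring
        omega
      | zero => rw [zero_mul]; exact zero_mem _
      | add a a' _ _ h h' => rw [add_mul]; exact add_mem h h'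
      | smul r a _ h => rw [smul_mul_assoc]; exact Submodule.smul_mem _ r h
    have h := hA _ (GrothLib.VerEmb4.mem_span_Mon 𝒜 hf hgenf ((hmem q b).1 hb))
    have h' : B.val.toLinearMap (b * t' j ^ (q * n)) ∈ Submodule.map B.val.toLinearMap
        (Submodule.span R (Set.range fun w : Fin (q + q * n) → Fin (M + 1) => ∏ l, t' (w l))) := by
      rw [Submodule.map_span, ← Set.range_comp]
      have e : B.val.toLinearMap (b * t' j ^ (q * n)) = (b : A) * gp g ^ (q * n) := by simp [← hg]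
      rw [e]
      simp only [T', Submodule.span_pow] at h
      refine Submodule.span_mono (fun y hy => ?_) h
      obtain ⟨w, rfl⟩ := Set.mem_pow.1 hy
      choose u hu using fun l => (w l).2
      refine ⟨u, ?_⟩
      rw [List.prod_ofFn]
      simp only [Function.comp_apply, AlgHom.toLinearMap_apply, map_prod, Subalgebra.coe_val]
      exact Finset.prod_congr rfl fun l _ => hu l
    obtain ⟨c, hc, hc'⟩ := h'
    have hcc : c = b * t' j ^ (q * n) := Subtype.coe_injective hc'
    rwa [← hcc]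
  obtain ⟨N, i, hi, hif, ⟨τ⟩⟩ := GrothLib.TwistEmb11.veryAmple ℬ t' ht'1 J hJ hgenB
  haveI := hi
  have hcomp : (e.hom ≫ i) ≫ CohB1.ProjSpaceOver.toBase N (Spec (CommRingCat.of R)) = π := by
    refine (Category.assoc _ _ _).trans ((congrArg (e.hom ≫ ·) hif).trans ?_)
    exact GrothLib.VerEmb4.toSpecZero_verHom 𝒜 ℬ B.val hn1 hB
  haveI : IsProper (CohB1.ProjSpace.toSpec N (ULift.{u} ℤ)) := GrothLib.Chow.isProper_toSpec N _
  haveI : IsProper (CohB1.ProjSpaceOver.toBase N (Spec (CommRingCat.of R))) :=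
    MorphismProperty.pullback_snd _ _ inferInstance
  haveI : IsProper ((e.hom ≫ i) ≫ CohB1.ProjSpaceOver.toBase N (Spec (CommRingCat.of R))) := by
    rw [hcomp]; infer_instance
  haveI : IsProper (e.hom ≫ i) := IsProper.of_comp (e.hom ≫ i) (CohB1.ProjSpaceOver.toBase N (Spec (CommRingCat.of R)))
  refine ⟨N, e.hom ≫ i, ?_, hcomp, ?_⟩
  · exact (IsClosedImmersion.iff_isPreimmersion).2 ⟨inferInstance, (e.hom ≫ i).isClosedMap.isClosed_range⟩
  · let v : B →ₛₗ[B.val.toRingHom] A :=
      { toFun := B.val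
        map_add' := map_add B.val
        map_smul' := fun r x => by simp }
    have hvdeg : ∀ q : ℕ, (ℬ q : Set B).image v = (𝒜 (q * n) : Set A) := fun q => by
      rw [← hB q]; rfl
    obtain ⟨φ₃⟩ := GrothLib.VerTilde10.nonempty_iso (ℳ := 𝒜) (𝒩 := ℬ) (e := e)
      ⟨hn1, Subtype.coe_injective, hB, fun q g' hq hg' θ hθ => by
        refine (GrothLib.GradedAlg.awayι_verHom 𝒜 ℬ B.val hB hn1 hq g' hg').trans ?_
        congr 2
        ext y
        exact (GrothLib.GradedAlg.val_theta 𝒜 ℬ B.val hB g' y).trans (RingHom.congr_fun hθ y).symm⟩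
      v hvdeg Subtype.coe_injective (show ((n : ℕ) : ℤ) = ((1 : ℕ) : ℤ) * (n : ℕ) by rw [Nat.cast_one, one_mul])
    exact ⟨φ₃ ≪≫ (Scheme.Modules.pullback e.hom).mapIso τ ≪≫ (Scheme.Modules.pullbackComp e.hom i).app _⟩

end Groth.Agent.S13183
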