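import Groth.Statements.S13184
-- import your own Groth.Agent.* helpers here


set_option autoImplicit false
universe u
open ZeroCyc

namespace Groth.Agent.S13184

/-- Let k ⊆ K be a finite extension of fields of characteristic p > 0, viewed inside an algebraically
closed field Ω, and for e ≥ 0 let k^{p^{-e}} ⊆ Ω be the field of elements whose p^e-th power lies in
k. Then the compositum k^{p^{-e}}K is separable over k^{p^{-e}} if and only if x^{p^e} is separable
over k for every x ∈ K; hence the exponent of K/k (the least n ≥ 1 with K^n separable over k, a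
power of p) is the least p^e for which k^{p^{-e}} ⊆ k^{p^{-e}}K is separable. -/
theorem result {k : Type u} [Field k] (p : ℕ) [Fact p.Prime] [CharP k p]
    {K : Type u} [Field K] [Algebra k K] [FiniteDimensional k K]
    {Ω : Type u} [Field Ω] [Algebra k Ω] [Algebra K Ω] [IsScalarTower k K Ω] [IsAlgClosed Ω] (e : ℕ) :
    (∀ x : Ω, x ∈ IntermediateField.adjoin k {y : Ω | y ^ (p ^ e) ∈ Set.range (algebraMap k Ω)} ⊔
        IntermediateField.adjoin k (Set.range (algebraMap K Ω)) →
      IsSeparable (IntermediateField.adjoin k {y : Ω | y ^ (p ^ e) ∈ Set.range (algebraMap k Ω)}) x) ↔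
    ∀ x : K, x ^ (p ^ e) ∈ separableClosure k K := by
  open IntermediateField Polynomial in
  haveI : CharP Ω p := charP_of_injective_algebraMap (algebraMap k Ω).injective p
  haveI : PerfectField Ω := inferInstance
  haveI : PerfectRing Ω p := inferInstance
  haveI : ExpChar Ω p := ExpChar.prime Fact.out
  let Φ : Ω →+* Ω := iterateFrobenius Ω p e
  have hΦ : ∀ a, Φ a = a ^ p ^ e := fun a => iterateFrobenius_def p e a
  let Fs : Subfield Ω := (algebraMap k Ω).fieldRange.comap Φ
  let F' : IntermediateField k Ω := Fs.toIntermediateField fun a => by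
    show Φ (algebraMap k Ω a) ∈ (algebraMap k Ω).fieldRange
    exact ⟨a ^ p ^ e, by rw [hΦ, map_pow]⟩
  set S := {y : Ω | y ^ (p ^ e) ∈ Set.range (algebraMap k Ω)} with hS
  let F := IntermediateField.adjoin k S
  have hFle : F ≤ F' := adjoin_le_iff.2 fun y hy => by
    obtain ⟨a, ha⟩ := hy
    exact ⟨a, ha.trans (hΦ y).symm⟩
  constructor
  · intro h x
    let X0 := algebraMap K Ω x
    have hsep : IsSeparable F X0 := h X0 (SetLike.le_def.1 le_sup_right (subset_adjoin _ _ ⟨x, rfl⟩))
    let g := minpoly F X0
    let gΩ := g.map (Φ.comp (algebraMap F Ω))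
    have hlift : gΩ ∈ Polynomial.lifts (algebraMap k Ω) := by
      rw [Polynomial.lifts_iff_coeff_lifts]
      intro n
      rw [coeff_map]
      obtain ⟨a, ha⟩ := hFle (g.coeff n).2
      exact ⟨a, ha⟩
    obtain ⟨g0, hg0⟩ := (Polynomial.mem_lifts _).1 hlift
    have hg0sep : g0.Separable := by
      rw [← separable_map (algebraMap k Ω), hg0]
      exact Polynomial.Separable.map hsep
    have hroot : Polynomial.aeval (X0 ^ p ^ e) g0 = 0 := by
      rw [aeval_def, eval₂_eq_eval_map, hg0, ← hΦ, eval_map, ← hom_eval₂, ← aeval_def, minpoly.aeval, map_zero]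
    rw [mem_separableClosure_iff]
    refine hg0sep.of_dvd (minpoly.dvd _ _ ?_)
    apply (algebraMap K Ω).injective
    rw [← aeval_algebraMap_apply, map_pow, map_zero]
    exact hroot
  · intro h x hx
    suffices hle : F ⊔ IntermediateField.adjoin k (Set.range (algebraMap K Ω)) ≤
        (separableClosure F Ω).restrictScalars k from mem_separableClosure_iff.1 (hle hx)
    refine sup_le (fun y hy => ?_) (adjoin_le_iff.2 ?_)
    · exact mem_separableClosure_iff.2 (isSeparable_algebraMap (K := Ω) (⟨y, hy⟩ : F))
    rintro _ ⟨x, rfl⟩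
    show IsSeparable F (algebraMap K Ω x)
    have hs : IsSeparable k (x ^ p ^ e) := mem_separableClosure_iff.1 (h x)
    let g := minpoly k (x ^ p ^ e)
    have hcoef : ∀ n, ∃ c : F, (c : Ω) ^ p ^ e = algebraMap k Ω (g.coeff n) := fun n => by
      obtain ⟨c, hc⟩ := IsAlgClosed.exists_pow_nat_eq (algebraMap k Ω (g.coeff n)) (pow_pos (Fact.out : p.Prime).pos e)
      exact ⟨⟨c, subset_adjoin k S (show c ^ p ^ e ∈ Set.range (algebraMap k Ω) from ⟨_, hc.symm⟩)⟩, hc⟩
    choose c hc using hcoef
    let hp : Polynomial F := ∑ n ∈ g.support, monomial n (c n)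
    have hmap : hp.map (Φ.comp (algebraMap F Ω)) = g.map (algebraMap k Ω) := by
      rw [Polynomial.map_sum]
      conv_rhs => rw [g.as_sum_support, Polynomial.map_sum]
      refine Finset.sum_congr rfl fun n _ => ?_
      rw [map_monomial, map_monomial]
      congr 1
      exact (hΦ _).trans (hc n)
    have hpsep : hp.Separable := by
      rw [← separable_map (Φ.comp (algebraMap F Ω)), hmap]
      exact Polynomial.Separable.map hs
    refine hpsep.of_dvd (minpoly.dvd _ _ ?_)
    apply Φ.injective
    rw [map_zero, aeval_def, hom_eval₂, hΦ, ← eval_map, hmap, eval_map, ← map_pow, ← aeval_def,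
      aeval_algebraMap_apply, minpoly.aeval, map_zero]

end Groth.Agent.S13184
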