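import Groth.Statements.S13185
import Mathlib.Tactic.Group

set_option autoImplicit false
universe u v w x
open GalCoh

namespace Groth.Agent.S13185

/-- Let a group G act by automorphisms on groups A, B, C and let 1 → A → B → C → 1 (maps ι, π) be a
G-equivariant short exact sequence. For G-fixed elements c, c' of C, the connecting map to H¹(G, A)
takes equal values on c and c' if and only if c' = π(b) · c for some G-fixed b in B: the fibres of
the connecting map are the orbits of the fixed points of B acting on the fixed points of C by left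
multiplication. (The published statement is for a Galois group acting on discrete modules; this row
takes an arbitrary group acting on groups, which is what the argument proves.) -/
theorem result {G : Type u} {A : Type v} {B : Type w} {C : Type x}
    [Group G] [Group A] [Group B] [Group C]
    [MulDistribMulAction G A] [MulDistribMulAction G B] [MulDistribMulAction G C]
    {ι : A →* B} {π : B →* C} (h : GpH1.IsGExt G ι π)
    (c c' : MulAction.fixedPoints G C) :
    GpH1.delta0 h c = GpH1.delta0 h c' ↔
      ∃ b : B, b ∈ MulAction.fixedPoints G B ∧ (c' : C) = π b * (c : C) := by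
  obtain ⟨b₀, hb, e⟩ := GpH1.isDeltaClass_delta0 h c
  obtain ⟨b₁, hb', e'⟩ := GpH1.isDeltaClass_delta0 h c'
  rw [e, e', GpH1.OneCocycle.cl_eq_cl_iff]
  constructor
  · rintro ⟨t, ht⟩
    refine ⟨b₁ * ι t * b₀⁻¹, fun σ => ?_, ?_⟩
    · have h2 := congrArg ι (ht σ)
      simp only [map_mul, map_inv, h.smul_ι, h.ι_cocycleOfLift] at h2
      rw [smul_mul', smul_mul', smul_inv']
      calc σ • b₁ * σ • ι t * (σ • b₀)⁻¹
          = (b₁ * ι t) * ((ι t)⁻¹ * (b₁⁻¹ * σ • b₁) * σ • ι t) * (σ • b₀)⁻¹ := by group
        _ = (b₁ * ι t) * (b₀⁻¹ * σ • b₀) * (σ • b₀)⁻¹ := by rw [← h2]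
        _ = _ := by group
    · rw [map_mul, map_mul, map_inv, (h.exact (ι t)).mpr ⟨t, rfl⟩, hb, hb', mul_one, inv_mul_cancel_right]
  · rintro ⟨b, hbfix, hbc⟩
    obtain ⟨t, ht⟩ := (h.exact (b₁⁻¹ * (b * b₀))).mp (by rw [map_mul, map_inv, map_mul, hb, hb', hbc, inv_mul_cancel])
    refine ⟨t, fun σ => h.injective ?_⟩
    simp only [map_mul, map_inv, h.smul_ι, h.ι_cocycleOfLift, ht, smul_mul', smul_inv', hbfix σ]
    group

end Groth.Agent.S13185
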