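import Groth.Statements.S13186
import Groth.Agent.Lib.GalDescent.GLn

set_option autoImplicit false
universe u
open GalCoh

namespace Groth.Agent.S13186

attribute [local instance] CSAGal.matrixAction GpH1.unitsAction

/-- Let L/K be a finite Galois extension of fields, n a natural number, and B a map from the Galois
group of L over K to the invertible n × n matrices over L such that B(σ) · σ(B(τ)) = B(στ) for all
σ, τ (σ acting on matrices entrywise, στ applying τ first) and det B(σ) = 1 for every σ. Then there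
is an invertible matrix A over L of determinant 1 with B(σ) = A⁻¹ · σ(A) for every σ; that is, every
1-cocycle of the Galois group with values in SL_n(L) is the coboundary of an element of SL_n(L), so
H¹ of the Galois group with values in SL_n(L) is a point. (The published statement says that every
torsor under the special linear group over K is trivial; this row is the finite-Galois-level cocycle
form that its proof establishes.) -/
theorem result (K L : Type u) [Field K] [Field L]
    [Algebra K L] [FiniteDimensional K L] [IsGalois K L] (n : ℕ)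
    (B : (L ≃ₐ[K] L) → GL (Fin n) L)
    (hB : ∀ σ τ : L ≃ₐ[K] L,
      (B σ : Matrix (Fin n) (Fin n) L) * (B τ : Matrix (Fin n) (Fin n) L).map σ =
        (B (σ * τ) : Matrix (Fin n) (Fin n) L))
    (hdet : ∀ σ : L ≃ₐ[K] L, Matrix.det (B σ : Matrix (Fin n) (Fin n) L) = 1) :
    ∃ A : GL (Fin n) L, Matrix.det (A : Matrix (Fin n) (Fin n) L) = 1 ∧ ∀ σ : L ≃ₐ[K] L,
      (B σ : Matrix (Fin n) (Fin n) L) =
        ((A⁻¹ : GL (Fin n) L) : Matrix (Fin n) (Fin n) L) * (A : Matrix (Fin n) (Fin n) L).map σ := by
  obtain ⟨c, hc⟩ := GrothLib.GalDescent.exists_gl_cocycle_eq B (fun σ τ => Units.ext (hB σ τ).symm)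
  have hdet' : ∀ σ : L ≃ₐ[K] L, σ (Matrix.GeneralLinearGroup.det c : L) = Matrix.GeneralLinearGroup.det c := by
    intro σ
    have h := congrArg (fun g : GL (Fin n) L => (g : Matrix (Fin n) (Fin n) L).det) (hc σ)
    simp only [Matrix.GeneralLinearGroup.coe_mul, Matrix.det_mul, hdet] at h
    have h2 : Matrix.det ((σ • c : GL (Fin n) L) : Matrix (Fin n) (Fin n) L) = σ (Matrix.det (c : Matrix (Fin n) (Fin n) L)) :=
      (AlgHom.map_det σ.toAlgHom (c : Matrix (Fin n) (Fin n) L)).symm
    have h3 : Matrix.det ((c⁻¹ : GL (Fin n) L) : Matrix (Fin n) (Fin n) L) * Matrix.det (c : Matrix (Fin n) (Fin n) L) = 1 := by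
      rw [← Matrix.det_mul, ← Matrix.GeneralLinearGroup.coe_mul, inv_mul_cancel]; simp
    rw [h2] at h
    show σ (Matrix.det (c : Matrix (Fin n) (Fin n) L)) = Matrix.det (c : Matrix (Fin n) (Fin n) L)
    calc σ _ = (Matrix.det (c : Matrix (Fin n) (Fin n) L) * Matrix.det ((c⁻¹ : GL (Fin n) L) : Matrix (Fin n) (Fin n) L)) * σ (Matrix.det (c : Matrix (Fin n) (Fin n) L)) := by rw [mul_comm (Matrix.det _), h3, one_mul]
      _ = _ := by rw [mul_assoc, ← h, mul_one]
  obtain ⟨d, hd⟩ := (IsGalois.mem_range_algebraMap_iff_fixed (Matrix.GeneralLinearGroup.det c : L)).mpr hdet'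
  rcases Nat.eq_zero_or_pos n with rfl | hn
  · exact ⟨1, by simp, fun σ => Matrix.ext fun i => i.elim0⟩
  have hd0 : d ≠ 0 := fun h => (Matrix.GeneralLinearGroup.det c).ne_zero (by rw [← hd, h, map_zero])
  let s : Fin n → L := fun i => if i = ⟨0, hn⟩ then algebraMap K L d⁻¹ else 1
  have hs : (Matrix.diagonal s).det = algebraMap K L d⁻¹ := by
    simp [s, Matrix.det_diagonal, Finset.prod_ite_eq']
  let D : GL (Fin n) L := Matrix.GeneralLinearGroup.mkOfDetNeZero (Matrix.diagonal s)
    (by rw [hs]; simpa using hd0)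
  refine ⟨D * c, ?_, fun σ => ?_⟩
  · rw [Matrix.GeneralLinearGroup.coe_mul, Matrix.det_mul,
      show (D : Matrix (Fin n) (Fin n) L) = Matrix.diagonal s from rfl, hs,
      show Matrix.det (c : Matrix (Fin n) (Fin n) L) = algebraMap K L d from hd.symm,
      ← map_mul, inv_mul_cancel₀ hd0, map_one]
  · have hD : σ • D = D := Units.ext (by
      show σ • Matrix.diagonal s = Matrix.diagonal s
      rw [← Matrix.diagonal_smul]
      congr 1; funext i
      simp only [Pi.smul_apply, s, AlgEquiv.smul_def]
      split_ifs <;> simp)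
    show _ = _ * ((σ • (D * c) : GL (Fin n) L) : Matrix (Fin n) (Fin n) L)
    rw [← Matrix.GeneralLinearGroup.coe_mul, smul_mul', hD, mul_inv_rev, mul_assoc, inv_mul_cancel_left,
      ← hc σ]

end Groth.Agent.S13186
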