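import Groth.Statements.S13188
import Groth.Agent.Lib.RedNorm.Basic
import Mathlib.Tactic.FieldSimp

set_option autoImplicit false
universe u v w
open Brauer

namespace Groth.Agent.S13188

open GrothLib

/-- Let K be a field with property C_2 for systems of forms and D a finite-dimensional central division
algebra over K with dim_K D = d². Let N : D → K be multiplicative, a reduced norm of D over K, and
given in the coordinates of a K-basis b of D by a homogeneous polynomial F of degree d, i.e. N(Σ x_i
b_i) = F(x) for every coordinate vector x (the reduced norm of a central simple algebra of dimension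
d² is such a polynomial map of degree d; these data record it). Then N : D → K is surjective. -/
theorem result (K : Type u) [Field K] (hK : Curves.IsCi K 2)
    (D : Type v) [DivisionRing D] [Algebra K D] [Algebra.IsCentral K D] [FiniteDimensional K D]
    (d : ℕ) (hd : Module.finrank K D = d ^ 2)
    (N : D →* K) (hN : CSAGal.IsRedNorm K D N)
    {ι : Type w} [Fintype ι] (b : Module.Basis ι K D)
    (F : MvPolynomial ι K) (hF : F.IsHomogeneous d)
    (hNF : ∀ x : ι → K, N (∑ i, x i • b i) = MvPolynomial.eval x F) :
    Function.Surjective N := by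
  classical
  intro c
  obtain ⟨g⟩ := RedNorm.exists_rep (L := AlgebraicClosure K) hd
  have hd0 := RedNorm.degree_pos hd
  have hzero : ∀ y : D, N y = 0 → y = 0 := fun y h => by
    by_contra hy
    have h1 := (Matrix.isUnit_iff_isUnit_det _).1 ((Ne.isUnit hy).map g)
    rw [← RedNorm.redNorm_eq hd hN g, h, map_zero] at h1
    exact not_isUnit_zero h1
  have hscal : ∀ (s : K) (y : D), N (s • y) = s ^ d * N y := fun s y => by
    apply (algebraMap K (AlgebraicClosure K)).injective
    rw [RedNorm.redNorm_eq hd hN g, map_smul, map_mul, RedNorm.redNorm_eq hd hN g, map_pow,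
      ← algebraMap_smul (AlgebraicClosure K) s, Matrix.det_smul, Fintype.card_fin]
  let e := Fintype.equivFin ι
  have hcard : Fintype.card ι = d ^ 2 := by rw [← Module.finrank_eq_card_basis b, hd]
  let f : MvPolynomial (Fin (Fintype.card ι + 1)) K :=
    MvPolynomial.rename (fun i => (e i).succ) F - MvPolynomial.C c * MvPolynomial.X 0 ^ d
  have hf : f.IsHomogeneous d :=
    (MvPolynomial.IsHomogeneous.rename_isHomogeneous hF).sub
      ((MvPolynomial.isHomogeneous_X_pow _ d).C_mul c)
  obtain ⟨a, ha, hev⟩ := hK 1 (Fintype.card ι + 1) (fun _ => f) (fun _ => d) (fun _ => hf)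
    (fun _ => hd0) (by simp [hcard])
  have h1 : N (∑ i, a (e i).succ • b i) = c * a 0 ^ d := by
    have := hev 0
    rw [hNF]
    simpa [f, MvPolynomial.eval_rename, sub_eq_zero, Function.comp_def] using this
  have ha0 : a 0 ≠ 0 := fun h0 => by
    rw [h0, zero_pow hd0.ne', mul_zero] at h1
    have h2 := Fintype.linearIndependent_iff.1 b.linearIndependent _ (hzero _ h1)
    refine ha (funext fun j => ?_)
    rcases Fin.eq_zero_or_eq_succ j with rfl | ⟨i, rfl⟩
    · exact h0
    · simpa using h2 (e.symm i)
  refine ⟨(a 0)⁻¹ • ∑ i, a (e i).succ • b i, ?_⟩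
  rw [hscal, h1, inv_pow]
  field_simp

end Groth.Agent.S13188
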