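import Groth.Statements.S13189
import Mathlib.FieldTheory.Finite.Polynomial
import Mathlib.Combinatorics.Nullstellensatz
import Mathlib.Tactic.Ring

set_option autoImplicit false
universe u
open CAlg

namespace Groth.Agent.S13189

theorem eval_eq_zero_of_mem {K : Type*} [Field K] [Fintype K] {n : ℕ} (a : Fin n → K)
    {p : MvPolynomial (Fin n) K} (hp : p ∈ Ideal.span (Set.range fun i : Fin n =>
      (MvPolynomial.X i ^ Fintype.card K - MvPolynomial.X i : MvPolynomial (Fin n) K))) :
    MvPolynomial.eval a p = 0 := by
  induction hp using Submodule.span_induction with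
  | mem y hy =>
    obtain ⟨i, rfl⟩ := hy
    simp [FiniteField.pow_card]
  | zero => simp
  | add y z _ _ h1 h2 => rw [map_add, h1, h2, add_zero]
  | smul c y _ h1 => rw [smul_eq_mul, map_mul, h1, mul_zero]


/-- For a finite field K of cardinality q and n ≥ 0, a polynomial p in n variables over K vanishes at
every point of K^n if and only if p belongs to the ideal generated by the X_i^q − X_i, i = 1, …, n;
in other words that ideal is the kernel of the evaluation homomorphism from K[X_1, …, X_n] to the
ring of K-valued functions on K^n. -/
theorem result (K : Type u) [Field K] [Fintype K]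
    (n : ℕ) (p : MvPolynomial (Fin n) K) :
    (∀ a : Fin n → K, MvPolynomial.eval a p = 0) ↔
      p ∈ Ideal.span (Set.range fun i : Fin n =>
        (MvPolynomial.X i ^ Fintype.card K - MvPolynomial.X i : MvPolynomial (Fin n) K)) := by
  classical
  set q := Fintype.card K
  set J := Ideal.span (Set.range fun i : Fin n =>
    (MvPolynomial.X i ^ q - MvPolynomial.X i : MvPolynomial (Fin n) K))
  constructor
  · intro h
    have hq : 1 < q := Fintype.one_lt_card
    have hvar : ∀ (i : Fin n) (e : ℕ), ∃ r, r ≤ q - 1 ∧
        (Ideal.Quotient.mk J) (MvPolynomial.X i) ^ e = (Ideal.Quotient.mk J) (MvPolynomial.X i) ^ r := by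
      intro i e
      induction e using Nat.strong_induction_on with
      | _ e ih =>
        by_cases he : e ≤ q - 1
        · exact ⟨e, he, rfl⟩
        · obtain ⟨r, hr, hr'⟩ := ih (e - q + 1) (by omega)
          refine ⟨r, hr, ?_⟩
          rw [← hr', show e = (e - q) + q by omega, pow_add, Nat.add_sub_cancel, pow_succ]
          congr 1
          rw [← map_pow, Ideal.Quotient.eq]
          exact Ideal.subset_span ⟨i, rfl⟩
    choose r hr hr' using hvar
    have hred : ∃ p' ∈ MvPolynomial.restrictDegree (Fin n) K (q - 1), p - p' ∈ J := by
      clear h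
      induction p using MvPolynomial.induction_on' with
      | monomial d c =>
        refine ⟨MvPolynomial.monomial (Finsupp.equivFunOnFinite.symm fun i => r i (d i)) c, ?_, ?_⟩
        · rw [MvPolynomial.mem_restrictDegree]
          intro s hs i
          have := Finset.mem_singleton.1 (MvPolynomial.support_monomial_subset hs)
          subst this
          exact hr i (d i)
        · rw [← Ideal.Quotient.eq, MvPolynomial.monomial_eq, MvPolynomial.monomial_eq,
            Finsupp.prod_fintype _ _ (fun i => pow_zero _),
            Finsupp.prod_fintype _ _ (fun i => pow_zero _), map_mul, map_mul, map_prod, map_prod]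
          congr 1
          refine Finset.prod_congr rfl fun i _ => ?_
          simp [hr' i (d i)]
      | add a b ha hb =>
        obtain ⟨a', ha1, ha2⟩ := ha
        obtain ⟨b', hb1, hb2⟩ := hb
        exact ⟨a' + b', add_mem ha1 hb1, by
          have := add_mem ha2 hb2
          rwa [show a + b - (a' + b') = a - a' + (b - b') by ring]⟩
    obtain ⟨p', hp', hpp⟩ := hred
    have h0 : p' = 0 := by
      refine MvPolynomial.eq_zero_of_eval_zero_at_prod_finset p' (fun _ => Finset.univ)
        (fun i => ?_) (fun a _ => ?_)
      · rw [Finset.card_univ, MvPolynomial.degreeOf_lt_iff (by omega)]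
        intro s hs
        have := (MvPolynomial.mem_restrictDegree _ _ _).1 hp' s hs i
        omega
      · have h1 : MvPolynomial.eval a (p - p') = 0 := eval_eq_zero_of_mem a hpp
        rw [map_sub, h a, zero_sub, neg_eq_zero] at h1
        exact h1
    rwa [h0, sub_zero] at hpp
  · exact fun hp a => eval_eq_zero_of_mem a hp

end Groth.Agent.S13189
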