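import Groth.Statements.S1319
import Groth.Agent.Lib.DeformIso.Basic
-- import your own Groth.Agent.* helpers here

set_option autoImplicit false
universe u
open FlatMor

namespace Groth.Agent.S1319

open AlgebraicGeometry CategoryTheory Limits in
/-- Let S ⟶ S' be a finite order thickening, let X' ⟶ Y' be a morphism of schemes over S' with X' flat
over S', and let X ⟶ Y be its base change to S. Then X' ⟶ Y' is an open immersion exactly when X ⟶ Y
is one. -/
theorem result {X X' Y Y' S S' : Scheme.{u}} (iX : X ⟶ X') (iY : Y ⟶ Y') (iS : S ⟶ S')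
    (f : X ⟶ Y) (f' : X' ⟶ Y') (g : Y ⟶ S) (g' : Y' ⟶ S')
    (hS : MoreMor.IsFiniteOrderThickening iS) (hcX : IsPullback iX (f ≫ g) (f' ≫ g') iS) (hcY : IsPullback iY g g' iS)
    (w : iX ≫ f' = f ≫ iY) [Flat (f' ≫ g')] :
    IsOpenImmersion f ↔ IsOpenImmersion f' := by
  refine ⟨fun _ => ?_, fun h => MorphismProperty.of_isPullback (IsPullback.of_bot hcX w hcY) h⟩
  have := hS.1.1; have := hS.1.2
  have : IsClosedImmersion iY := MorphismProperty.of_isPullback hcY.flip ‹_›
  have : Surjective iY := MorphismProperty.of_isPullback hcY.flip ‹_›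
  have : Surjective iX := MorphismProperty.of_isPullback hcX.flip ‹_›
  let eY := (iY.isClosedEmbedding.isEmbedding).toHomeomorphOfSurjective iY.surjective
  let W' : Y'.Opens := ⟨eY '' (f.opensRange : Set Y), eY.isOpenMap _ f.opensRange.2⟩
  have hX' : Set.range f' ⊆ Set.range W'.ι := by
    rw [Scheme.Opens.range_ι]
    rintro _ ⟨x', rfl⟩
    obtain ⟨x, rfl⟩ := iX.surjective x'
    exact ⟨f x, ⟨x, rfl⟩, by rw [← Scheme.Hom.comp_apply iX f', w]; rfl⟩
  have hY : Set.range (f ≫ iY) ⊆ Set.range W'.ι := by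
    rw [Scheme.Opens.range_ι]
    rintro _ ⟨x, rfl⟩
    exact ⟨f x, ⟨x, rfl⟩, rfl⟩
  let f'' := IsOpenImmersion.lift W'.ι f' hX'
  let iY' := IsOpenImmersion.lift W'.ι (f ≫ iY) hY
  have hf'' : f'' ≫ W'.ι = f' := IsOpenImmersion.lift_fac _ _ _
  have hiY' : iY' ≫ W'.ι = f ≫ iY := IsOpenImmersion.lift_fac _ _ _
  have sq : IsPullback iY' f W'.ι iY := IsOpenImmersion.isPullback iY' f W'.ι iY hiY'.symm (by
    rw [Scheme.Opens.opensRange_ι]
    exact TopologicalSpace.Opens.ext (Set.preimage_image_eq _ eY.injective))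
  have sq' : IsPullback iY' (f ≫ g) (W'.ι ≫ g') iS := sq.paste_vert hcY
  have hflat : Flat (f'' ≫ W'.ι ≫ g') := by rw [reassoc_of% hf'']; infer_instance
  have : IsIso f'' := GrothLib.DeformIso.isIso_of_isIso_baseChange iX iY' iS (𝟙 X) f'' (f ≫ g) (W'.ι ≫ g') hS
    (by rw [Category.id_comp, reassoc_of% hf'']; exact hcX) sq'
    (by rw [Category.id_comp, ← cancel_mono W'.ι, Category.assoc, hf'', hiY', w])
  rw [← hf'']
  infer_instance

end Groth.Agent.S1319
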