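import Groth.Statements.S13191
import Mathlib.Tactic.Group

set_option autoImplicit false
universe u v w x
open GalCoh

namespace Groth.Agent.S13191

/-- Let a group G act by automorphisms on a group A, and let E and E' each be a G-equivariant right
A-torsor (a set with a simply transitive right action of A, written m ↦ m·a, and a left action of G
with g(m·a) = (gm)·(ga)). Let m ∈ E and m' ∈ E' be points with attached maps a, a' : G → A (g·m =
m·a(g) and g·m' = m'·a'(g) for all g). Then there is a bijection E ≃ E' commuting with the actions
of G and of A if and only if a and a' are cohomologous. (The published statement is for a Galois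
group acting on discrete modules; this row takes an arbitrary group acting on a group.) -/
theorem result {G : Type u} {A : Type v} {E : Type w} {E' : Type x}
    [Group G] [Group A] [MulDistribMulAction G A]
    [MulAction G E] [MulAction Aᵐᵒᵖ E]
    (hfree : ∀ m₁ m₂ : E, ∃! a : A, m₂ = MulOpposite.op a • m₁)
    (hcompat : ∀ (g : G) (a : A) (m : E), g • (MulOpposite.op a • m) = MulOpposite.op (g • a) • g • m)
    [MulAction G E'] [MulAction Aᵐᵒᵖ E']
    (hfree' : ∀ m₁ m₂ : E', ∃! a : A, m₂ = MulOpposite.op a • m₁)
    (hcompat' : ∀ (g : G) (a : A) (m : E'), g • (MulOpposite.op a • m) = MulOpposite.op (g • a) • g • m)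
    (m : E) (a : G → A) (ha : ∀ g : G, g • m = MulOpposite.op (a g) • m)
    (m' : E') (a' : G → A) (ha' : ∀ g : G, g • m' = MulOpposite.op (a' g) • m') :
    (∃ f : E ≃ E', (∀ (g : G) (e : E), f (g • e) = g • f e) ∧
        ∀ (b : A) (e : E), f (MulOpposite.op b • e) = MulOpposite.op b • f e) ↔
      GpH1.Cohomologous a a' := by
  have hinj : ∀ (b b' : A) (e : E'), MulOpposite.op b • e = MulOpposite.op b' • e → b = b' := by
    intro b b' e h
    obtain ⟨c, _, hc⟩ := hfree' e (MulOpposite.op b • e)
    rw [hc b rfl, hc b' h]
  constructor
  · rintro ⟨f, hf1, hf2⟩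
    obtain ⟨c, hc, -⟩ := hfree' m' (f m)
    refine ⟨c, fun σ => ?_⟩
    have h1 : f (σ • m) = MulOpposite.op (c * a σ) • m' := by
      rw [ha, hf2, hc, MulOpposite.op_mul, mul_smul]
    have h2 : f (σ • m) = MulOpposite.op (a' σ * σ • c) • m' := by
      rw [hf1, hc, hcompat', ha', MulOpposite.op_mul, mul_smul]
    have h := hinj _ _ m' (h1.symm.trans h2)
    rw [mul_assoc, ← h, inv_mul_cancel_left]
  · rintro ⟨c, hc⟩
    choose coord hcoord hu using fun e => hfree m e
    let f : E → E' := fun e => MulOpposite.op (c * coord e) • m'
    have hbij : Function.Bijective f := by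
      constructor
      · intro e e' h
        have := mul_left_cancel (hinj _ _ m' h)
        rw [hcoord e, hcoord e', this]
      · intro e'
        obtain ⟨b, hb, -⟩ := hfree' m' e'
        refine ⟨MulOpposite.op (c⁻¹ * b) • m, ?_⟩
        have : c⁻¹ * b = coord (MulOpposite.op (c⁻¹ * b) • m) := hu _ _ rfl
        show MulOpposite.op (c * coord _) • m' = e'
        rw [← this, mul_inv_cancel_left, hb]
    refine ⟨Equiv.ofBijective f hbij, ?_, ?_⟩
    · intro g e
      have h1 : coord (g • e) = a g * g • coord e := by
        refine (hu (g • e) _ ?_).symm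
        show _ = _
        rw [MulOpposite.op_mul, mul_smul, ← ha, ← hcompat, ← hcoord e]
      show MulOpposite.op (c * coord (g • e)) • m' = g • (MulOpposite.op (c * coord e) • m')
      rw [h1, hcompat', ha', ← mul_smul, ← MulOpposite.op_mul, smul_mul', hc g]
      congr 2; group
    · intro b e
      have h1 : coord (MulOpposite.op b • e) = coord e * b := by
        refine (hu _ _ ?_).symm
        show _ = _
        rw [MulOpposite.op_mul, mul_smul, ← hcoord e]
      show MulOpposite.op (c * coord (MulOpposite.op b • e)) • m' = MulOpposite.op b • (MulOpposite.op (c * coord e) • m')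
      rw [h1, ← mul_smul, ← MulOpposite.op_mul]
      congr 2; group

end Groth.Agent.S13191
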