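import Groth.Statements.S13192
-- import your own Groth.Agent.* helpers here

set_option autoImplicit false
universe u v
open GalCoh

namespace Groth.Agent.S13192

/-- Let a group G act by automorphisms on a group A and let a : G → A be a 1-cocycle. Then there exist a
G-equivariant right A-torsor E (a set with a simply transitive right action of A, written m ↦ m·a,
and a left action of G with g(m·a) = (gm)·(ga)) and a point m of E whose attached map is a, i.e. g·m
= m·a(g) for every g in G. (E is taken in the universe of A. The published statement is for a Galois
group acting on discrete modules; this row takes an arbitrary group acting on a group.) -/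
theorem result {G : Type u} {A : Type v}
    [Group G] [Group A] [MulDistribMulAction G A] (a : G → A) (ha : GpH1.IsOneCocycle a) :
    ∃ (E : Type v) (_ : MulAction G E) (_ : MulAction Aᵐᵒᵖ E) (m : E),
      (∀ m₁ m₂ : E, ∃! b : A, m₂ = MulOpposite.op b • m₁) ∧
      (∀ (g : G) (b : A) (e : E), g • (MulOpposite.op b • e) = MulOpposite.op (g • b) • g • e) ∧
      ∀ g : G, g • m = MulOpposite.op (a g) • m := by
  let iG : MulAction G A :=
    { smul := fun g e => a g * g • e
      one_smul := fun e => by
        have h := ha 1 1
        rw [one_smul, mul_one] at h
        show a 1 * (1 : G) • e = e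
        rw [mul_eq_left.mp h.symm, one_mul, one_smul]
      mul_smul := fun g h e => by
        show a (g * h) * (g * h) • e = a g * g • (a h * h • e)
        rw [ha g h, smul_mul', mul_smul, mul_assoc] }
  refine ⟨A, iG, inferInstance, 1, ?_, ?_, ?_⟩
  · intro m₁ m₂
    refine ⟨m₁⁻¹ * m₂, ?_, fun b hb => ?_⟩
    · simp [MulOpposite.smul_eq_mul_unop]
    · simp only [MulOpposite.smul_eq_mul_unop, MulOpposite.unop_op] at hb
      rw [hb, inv_mul_cancel_left]
  · intro g b e
    show a g * (inferInstance : MulDistribMulAction G A).smul g (e * b) =
      (a g * (inferInstance : MulDistribMulAction G A).smul g e) * (inferInstance : MulDistribMulAction G A).smul g b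
    exact (congrArg (a g * ·) (smul_mul' g e b)).trans (mul_assoc _ _ _).symm
  · intro g
    show a g * (inferInstance : MulDistribMulAction G A).smul g (1 : A) = 1 * a g
    exact ((congrArg (a g * ·) (smul_one g)).trans (mul_one _)).trans (one_mul _).symm

end Groth.Agent.S13192
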