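import Groth.Statements.S13198
import Mathlib

set_option autoImplicit false
universe u
open scoped TensorProduct
open Hensel

namespace Groth.Agent.S13198

/-- Let R be a local ring which is strictly henselian (henselian, with separably closed residue field),
A a local ring which is an integral R-algebra with local structure map and whose residue field is
purely inseparable over that of R, and B a local ring with a local homomorphism R → B. Then A ⊗_R B
is a local ring, the map B → A ⊗_R B is local, and the residue field extension of A ⊗_R B over B is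
purely inseparable: every element of A ⊗_R B has a p^n-th power, p the characteristic exponent of
the residue field of B, congruent modulo the maximal ideal to an element 1 ⊗ b. -/
theorem result
    (R A B : Type u) [CommRing R] [HenselianLocalRing R] [IsSepClosed (IsLocalRing.ResidueField R)]
    [CommRing A] [IsLocalRing A] [Algebra R A] [IsLocalHom (algebraMap R A)] [Algebra.IsIntegral R A]
    [IsPurelyInseparable (IsLocalRing.ResidueField R) (IsLocalRing.ResidueField A)]
    [CommRing B] [IsLocalRing B] [Algebra R B] [IsLocalHom (algebraMap R B)] :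
    ∃ _ : IsLocalRing (A ⊗[R] B),
      IsLocalHom (Algebra.TensorProduct.includeRight : B →ₐ[R] A ⊗[R] B).toRingHom ∧
      ∀ x : A ⊗[R] B, ∃ (n : ℕ) (b : B),
        x ^ (ringExpChar (IsLocalRing.ResidueField B)) ^ n - (1 : A) ⊗ₜ[R] b ∈ IsLocalRing.maximalIdeal (A ⊗[R] B) := by
  classical
  set k := IsLocalRing.ResidueField R
  set kA := IsLocalRing.ResidueField A
  set kB := IsLocalRing.ResidueField B
  set q := ringExpChar kB
  haveI : ExpChar k q :=
    RingHom.expChar (algebraMap k kB) (algebraMap k kB).injective q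
  set T := A ⊗[R] B
  let inR : B →ₐ[R] T := Algebra.TensorProduct.includeRight
  let inL : A →ₐ[R] T := Algebra.TensorProduct.includeLeft
  letI := inR.toRingHom.toAlgebra
  haveI : Algebra.IsIntegral B T := ⟨fun t => by
    induction t using TensorProduct.induction_on with
    | zero => exact isIntegral_zero
    | tmul a b =>
      have h1 : IsIntegral B (a ⊗ₜ[R] (1 : B)) := by
        obtain ⟨p, hp, hpa⟩ := Algebra.IsIntegral.isIntegral (R := R) a
        refine ⟨p.map (algebraMap R B), hp.map _, ?_⟩
        rw [Polynomial.eval₂_map]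
        have h2 : (algebraMap B T).comp (algebraMap R B) = inL.toRingHom.comp (algebraMap R A) :=
          RingHom.ext fun r => (inR.commutes r).trans (inL.commutes r).symm
        rw [h2]
        show Polynomial.eval₂ (inL.toRingHom.comp (algebraMap R A)) (inL.toRingHom a) p = 0
        rw [← Polynomial.hom_eval₂, hpa, map_zero]
      have h3 : a ⊗ₜ[R] b = (a ⊗ₜ[R] (1 : B)) * algebraMap B T b := by
        show a ⊗ₜ[R] b = (a ⊗ₜ[R] (1 : B)) * ((1 : A) ⊗ₜ[R] b)
        rw [Algebra.TensorProduct.tmul_mul_tmul, mul_one, one_mul]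
      rw [h3]; exact h1.mul isIntegral_algebraMap
    | add x y hx hy => exact hx.add hy⟩
  -- contractions of maximal ideals
  have hmax : ∀ P : Ideal T, P.IsMaximal →
      P.comap inR.toRingHom = IsLocalRing.maximalIdeal B ∧ P.comap inL.toRingHom = IsLocalRing.maximalIdeal A := by
    intro P hP
    have h1 : P.comap inR.toRingHom = IsLocalRing.maximalIdeal B :=
      IsLocalRing.eq_maximalIdeal (Ideal.isMaximal_comap_of_isIntegral_of_isMaximal (R := B) P)
    refine ⟨h1, IsLocalRing.eq_maximalIdeal ?_⟩
    haveI := hP.isPrime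
    refine Ideal.isMaximal_of_isIntegral_of_isMaximal_comap (R := R) _ ?_
    rw [Ideal.comap_comap, show inL.toRingHom.comp (algebraMap R A) = inR.toRingHom.comp (algebraMap R B) from
      RingHom.ext fun r => (inL.commutes r).trans (inR.commutes r).symm, ← Ideal.comap_comap, h1,
      IsLocalRing.maximalIdeal_comap]
    infer_instance
  -- nontriviality
  haveI : Algebra.IsAlgebraic k kA := IsPurelyInseparable.isAlgebraic k kA
  let Ω := AlgebraicClosure kB
  let σ : kA →ₐ[k] Ω := IsAlgClosed.lift
  let f1 : A →ₐ[R] Ω :=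
    { toRingHom := σ.toRingHom.comp (IsLocalRing.residue A)
      commutes' := fun r => by
        show σ (IsLocalRing.residue A (algebraMap R A r)) = _
        rw [show IsLocalRing.residue A (algebraMap R A r) = algebraMap k kA (IsLocalRing.residue R r) from rfl,
          AlgHom.commutes, IsScalarTower.algebraMap_apply R k Ω]
        rfl }
  let f2 : B →ₐ[R] Ω := (IsScalarTower.toAlgHom R kB Ω).comp (IsScalarTower.toAlgHom R B kB)
  haveI : Nontrivial T := (Algebra.TensorProduct.productMap f1 f2).toRingHom.domain_nontrivial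
  -- powers
  have key : ∀ x : T, ∃ (n : ℕ) (b : B), ∀ P : Ideal T, P.IsMaximal → x ^ q ^ n - inR b ∈ P := by
    intro x
    induction x using TensorProduct.induction_on with
    | zero => exact ⟨0, 0, fun P _ => by rw [pow_zero, pow_one, map_zero, sub_zero]; exact P.zero_mem⟩
    | tmul a c =>
      obtain ⟨n, r, hr⟩ := IsPurelyInseparable.pow_mem k q (IsLocalRing.residue A a)
      obtain ⟨r, rfl⟩ := IsLocalRing.residue_surjective r
      refine ⟨n, algebraMap R B r * c ^ q ^ n, fun P hP => ?_⟩
      have h1 : a ^ q ^ n - algebraMap R A r ∈ IsLocalRing.maximalIdeal A := by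
        rw [← IsLocalRing.residue_eq_zero_iff, map_sub, map_pow, ← hr, sub_eq_zero]
        rfl
      rw [← (hmax P hP).2, Ideal.mem_comap] at h1
      have h2 : (a ⊗ₜ[R] c) ^ q ^ n - inR (algebraMap R B r * c ^ q ^ n) =
          inL (a ^ q ^ n - algebraMap R A r) * inR (c ^ q ^ n) := by
        rw [Algebra.TensorProduct.tmul_pow, map_mul, inR.commutes, map_sub, inL.commutes, sub_mul]
        congr 1
        show (a ^ q ^ n) ⊗ₜ[R] (c ^ q ^ n) = (a ^ q ^ n) ⊗ₜ[R] (1 : B) * (1 : A) ⊗ₜ[R] (c ^ q ^ n)
        rw [Algebra.TensorProduct.tmul_mul_tmul, mul_one, one_mul]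
      rw [h2]
      exact P.mul_mem_right _ h1
    | add x y hx hy =>
      obtain ⟨n, b, hb⟩ := hx
      obtain ⟨m, c, hc⟩ := hy
      refine ⟨n + m, b ^ q ^ m + c ^ q ^ n, fun P hP => ?_⟩
      rw [← Ideal.Quotient.eq]
      haveI := hP.isPrime
      haveI : ExpChar (T ⧸ P) q := by
        letI := Ideal.Quotient.field P
        let g : kB →+* T ⧸ P := Ideal.Quotient.lift _ ((Ideal.Quotient.mk P).comp inR.toRingHom)
          fun b hb => Ideal.Quotient.eq_zero_iff_mem.2 (by rwa [← (hmax P hP).1] at hb)
        exact expChar_of_injective_ringHom g.injective q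
      simp only [map_pow, map_add, add_pow_expChar_pow (R := T ⧸ P), Ideal.Quotient.eq.2 (hb P hP) |>.symm,
        Ideal.Quotient.eq.2 (hc P hP) |>.symm, ← pow_mul, ← pow_add, Nat.add_comm m n]
  have huniq : ∀ P P' : Ideal T, P.IsMaximal → P'.IsMaximal → P ≤ P' := by
    intro P P' hP hP' x hx
    obtain ⟨n, b, hb⟩ := key x
    have hne : q ^ n ≠ 0 := (pow_pos (expChar_pos k q) n).ne'
    have h1 : inR b ∈ P := by
      simpa using P.sub_mem (Ideal.pow_mem_of_mem P hx _ (Nat.pos_of_ne_zero hne)) (hb P hP)
    have h2 : b ∈ IsLocalRing.maximalIdeal B := (hmax P hP).1 ▸ h1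
    rw [← (hmax P' hP').1] at h2
    refine hP'.isPrime.mem_of_pow_mem (q ^ n) ?_
    simpa using P'.add_mem (hb P' hP') h2
  obtain ⟨P, hP⟩ := Ideal.exists_maximal T
  haveI hloc : IsLocalRing T :=
    IsLocalRing.of_unique_max_ideal ⟨P, hP, fun P' hP' => le_antisymm (huniq P' P hP' hP) (huniq P P' hP hP')⟩
  refine ⟨hloc, ⟨fun b hb => ?_⟩, fun x => ?_⟩
  · by_contra hbu
    have h1 : b ∈ (IsLocalRing.maximalIdeal T).comap inR.toRingHom := by
      rw [(hmax _ inferInstance).1]; exact hbu
    exact h1 hb
  · obtain ⟨n, b, hb⟩ := key x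
    exact ⟨n, b, hb _ inferInstance⟩

end Groth.Agent.S13198
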