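import Groth.Statements.S13200
import Groth.Agent.Lib.GeomUnib.Smooth
import Groth.Agent.S2684
import Groth.Agent.Lib.Excellent.QuotientFibres
import Groth.Agent.Lib.Ratliff.Excellent
import Groth.Agent.Lib.NormalHom.Basic
import Groth.Agent.Lib.FormalUnibranch.Basic

set_option autoImplicit false
set_option backward.isDefEq.respectTransparency false
universe u
open Hensel
open scoped TensorProduct

namespace Groth.Agent.S13200

/-- Let R be an excellent local ring which is strictly henselian (henselian with separably closed
residue field), and let R^ denote its completion at the maximal ideal. An element Δ of R is a prime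
element of R exactly when its image in R^ is a prime element of R^. -/
theorem result
    (R : Type u) [CommRing R] [HenselianLocalRing R] [IsSepClosed (IsLocalRing.ResidueField R)]
    (hR : EGA4.IsExcellent R) (Δ : R) :
    Prime Δ ↔ Prime (algebraMap R (AdicCompletion (IsLocalRing.maximalIdeal R) R) Δ) := by
  haveI : IsNoetherianRing R := hR.1
  set S := AdicCompletion (IsLocalRing.maximalIdeal R) R
  haveI : Module.FaithfullyFlat R S := GrothLib.Excellent.faithfullyFlat_cpl R
  have hinj : Function.Injective (algebraMap R S) := FaithfulSMul.algebraMap_injective R S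
  by_cases hΔ0 : Δ = 0
  · subst hΔ0
    exact ⟨fun h => absurd rfl h.ne_zero, fun h => absurd (map_zero _) h.ne_zero⟩
  rw [← Ideal.span_singleton_prime hΔ0, ← Ideal.span_singleton_prime ((map_ne_zero_iff _ hinj).mpr hΔ0),
    ← Set.image_singleton, ← Ideal.map_span]
  set I := Ideal.span {Δ}
  refine ⟨fun hI => ?_, fun h => ?_⟩
  · haveI := hI
    haveI : IsLocalRing (R ⧸ I) := IsLocalRing.of_surjective' _ Ideal.Quotient.mk_surjective
    haveI : IsLocalHom (algebraMap R (R ⧸ I)) := IsLocalHom.of_surjective _ Ideal.Quotient.mk_surjective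
    haveI : Algebra.IsIntegral R (R ⧸ I) :=
      Algebra.IsIntegral.of_surjective (Algebra.ofId R (R ⧸ I)) Ideal.Quotient.mk_surjective
    haveI : HenselianLocalRing (R ⧸ I) := GrothLib.Hensel.henselianLocalRing_of_isIntegral_isLocalHom (R := R)
    haveI : Algebra.IsIntegral (IsLocalRing.ResidueField R) (IsLocalRing.ResidueField (R ⧸ I)) := by
      haveI : Algebra.IsIntegral R (IsLocalRing.ResidueField (R ⧸ I)) := Algebra.IsIntegral.of_surjective
        (IsScalarTower.toAlgHom R (R ⧸ I) (IsLocalRing.ResidueField (R ⧸ I))) IsLocalRing.residue_surjective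
      exact Algebra.IsIntegral.tower_top R
    haveI : IsSepClosed (IsLocalRing.ResidueField (R ⧸ I)) :=
      Algebra.IsAlgebraic.isSepClosed (F := IsLocalRing.ResidueField R)
    haveI : IsReduced (R ⧸ I) := inferInstance
    have hN : EGA4.HasGeomNormalFormalFibres R := fun p hp =>
      (GrothLib.NormalHom.isNormalHom_of_isRegularHom
        (GrothLib.Ratliff.isRegularHom_cpl_of_isGRing R hR.2.2.1)).2 p
    haveI hd : IsDomain (EGA4.Cpl (R ⧸ I)) := (Groth.Agent.S2684.result (R ⧸ I)
      (GrothLib.Excellent.hasGeomNormalFormalFibres_quotient I hN)).1.2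
      (GrothLib.GeomUnib.isGeomUnibranch_of_strictlyHenselian_domain (R ⧸ I)).1
    obtain ⟨e⟩ := GrothLib.Excellent.exists_cpl_quotient_equiv R I
    haveI : IsDomain ((R ⧸ I) ⊗[R] S) := e.symm.toMulEquiv.isDomain _
    haveI := (Algebra.TensorProduct.quotIdealMapEquivQuotTensor S I).toMulEquiv.isDomain _
    exact (Ideal.Quotient.isDomain_iff_prime _).mp inferInstance
  · haveI := h
    rw [← Ideal.comap_map_eq_self_of_faithfullyFlat (B := S) I]
    infer_instance

end Groth.Agent.S13200
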