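import Groth.Statements.S9460
import Groth.Agent.Lib.Hensel.TensorPoint

set_option autoImplicit false
set_option backward.isDefEq.respectTransparency false
universe u
open Hensel

namespace Groth.Agent.S9460

open TensorProduct in
/-- Let R → S be a ring map, q a prime of S over p, and R^{sh}, S^{sh} strict henselizations of R_p and
S_q, S^{sh} carrying a compatible R^{sh}-algebra structure (a map R^{sh} → S^{sh} over R; these
correspond to the embeddings of separable closures in the published statement). Let φ : R^{sh} ⊗_R S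
→ S^{sh} be the induced map and Q the preimage under φ of the maximal ideal (a prime over the
maximal ideal of R^{sh} and over q). Then S^{sh} is a strict henselization of (R^{sh} ⊗_R S)_Q:
every strict henselization E of that local ring admits a ring isomorphism E ≅ S^{sh} compatible with
the two maps from R^{sh} ⊗_R S. -/
theorem result (R : Type u) [CommRing R]
    (S : Type u) [CommRing S] [Algebra R S] (p : Ideal R) [p.IsPrime] (q : Ideal S) [q.IsPrime]
    [q.LiesOver p]
    (Rh : Type u) [CommRing Rh] [IsLocalRing Rh] [Algebra (Localization.AtPrime p) Rh]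
    [IsLocalHom (algebraMap (Localization.AtPrime p) Rh)]
    [Hensel.IsStrictHenselization (Localization.AtPrime p) Rh] [Algebra R Rh]
    [IsScalarTower R (Localization.AtPrime p) Rh]
    (Sh : Type u) [CommRing Sh] [IsLocalRing Sh] [Algebra (Localization.AtPrime q) Sh]
    [IsLocalHom (algebraMap (Localization.AtPrime q) Sh)]
    [Hensel.IsStrictHenselization (Localization.AtPrime q) Sh] [Algebra S Sh]
    [IsScalarTower S (Localization.AtPrime q) Sh] [Algebra R Sh] [IsScalarTower R S Sh]
    [Algebra Rh Sh] [IsScalarTower R Rh Sh]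
    (E : Type u) [CommRing E] [IsLocalRing E]
    [Algebra (Localization.AtPrime (Ideal.comap (Algebra.TensorProduct.lift (IsScalarTower.toAlgHom R Rh Sh) (IsScalarTower.toAlgHom R S Sh)
          (fun _ _ => Commute.all _ _)) (IsLocalRing.maximalIdeal Sh))) E]
    [IsLocalHom (algebraMap (Localization.AtPrime
      (Ideal.comap (Algebra.TensorProduct.lift (IsScalarTower.toAlgHom R Rh Sh) (IsScalarTower.toAlgHom R S Sh)
          (fun _ _ => Commute.all _ _)) (IsLocalRing.maximalIdeal Sh))) E)]
    [Hensel.IsStrictHenselization (Localization.AtPrime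
      (Ideal.comap (Algebra.TensorProduct.lift (IsScalarTower.toAlgHom R Rh Sh) (IsScalarTower.toAlgHom R S Sh)
          (fun _ _ => Commute.all _ _)) (IsLocalRing.maximalIdeal Sh))) E] :
    ∃ e : E ≃+* Sh, ∀ d : Rh ⊗[R] S,
      e (algebraMap (Localization.AtPrime
        (Ideal.comap (Algebra.TensorProduct.lift (IsScalarTower.toAlgHom R Rh Sh) (IsScalarTower.toAlgHom R S Sh)
          (fun _ _ => Commute.all _ _)) (IsLocalRing.maximalIdeal Sh))) E
        (algebraMap (Rh ⊗[R] S) _ d)) = (Algebra.TensorProduct.lift (IsScalarTower.toAlgHom R Rh Sh) (IsScalarTower.toAlgHom R S Sh)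
          (fun _ _ => Commute.all _ _)) d := by
  let φ := (Algebra.TensorProduct.lift (IsScalarTower.toAlgHom R Rh Sh) (IsScalarTower.toAlgHom R S Sh)
    (fun _ _ => Commute.all _ _))
  let Q : Ideal (Rh ⊗[R] S) := Ideal.comap φ (IsLocalRing.maximalIdeal Sh)
  let D := Localization.AtPrime Q
  have hφ : ∀ d : Q.primeCompl, IsUnit (φ.toRingHom d) := fun d ↦ IsLocalRing.notMem_maximalIdeal.mp d.2
  let ψ : D →+* Sh := IsLocalization.lift hφ
  letI : Algebra D Sh := ψ.toAlgebra
  have hψ : ∀ d, algebraMap D Sh (algebraMap (Rh ⊗[R] S) D d) = φ d := fun d ↦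
    IsLocalization.lift_eq hφ d
  haveI : IsLocalHom (algebraMap D Sh) := ⟨fun z hz ↦ by
    obtain ⟨d, s, rfl⟩ := IsLocalization.exists_mk'_eq Q.primeCompl z
    rw [IsLocalization.AtPrime.isUnit_mk'_iff D Q d s]
    show d ∉ Q
    refine fun hd ↦ hd ?_
    have h : IsUnit (ψ (IsLocalization.mk' D d s * algebraMap (Rh ⊗[R] S) D s)) := by
      rw [map_mul]; exact hz.mul ((IsLocalization.map_units D s).map ψ)
    rw [IsLocalization.mk'_spec, show ψ = algebraMap D Sh from rfl, hψ] at h
    exact h⟩
  have hRh : IsLocalHom (algebraMap Rh Sh) := by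
    have hpq : ((IsLocalRing.maximalIdeal Sh).comap (algebraMap Rh Sh)) =
        IsLocalRing.maximalIdeal Rh := by
      refine le_antisymm (IsLocalRing.le_maximalIdeal
        (Ideal.comap_ne_top _ (IsLocalRing.maximalIdeal.isMaximal Sh).ne_top)) ?_
      rw [← GrothLib.Hensel.IsStrictHenselization.map_maximalIdeal (R := Localization.AtPrime p) (S := Rh),
        ← Localization.AtPrime.map_eq_maximalIdeal, Ideal.map_map,
        ← IsScalarTower.algebraMap_eq, Ideal.map_le_iff_le_comap, Ideal.comap_comap,
        ← IsScalarTower.algebraMap_eq]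
      intro r hr
      show algebraMap R Sh r ∈ IsLocalRing.maximalIdeal Sh
      rw [IsScalarTower.algebraMap_apply R S Sh, IsScalarTower.algebraMap_apply S
        (Localization.AtPrime q) Sh]
      refine (IsLocalRing.mem_maximalIdeal _).mpr fun h ↦ ?_
      have := isUnit_of_map_unit (algebraMap (Localization.AtPrime q) Sh) _ h
      rw [IsLocalization.AtPrime.isUnit_to_map_iff _ q] at this
      exact this (by rw [q.over_def p] at hr; exact hr)
    exact ((IsLocalRing.local_hom_TFAE (algebraMap Rh Sh)).out 4 0 rfl rfl).mp hpq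
  let j : Rh →+* D := (algebraMap (Rh ⊗[R] S) D).comp Algebra.TensorProduct.includeLeftRingHom
  have hjc : ∀ y, algebraMap D Sh (j y) = algebraMap Rh Sh y := fun y ↦ (hψ _).trans (by simp [φ])
  haveI : IsLocalHom j := ⟨fun y hy ↦ isUnit_of_map_unit (algebraMap Rh Sh) y (hjc y ▸ hy.map _)⟩
  let k : S →+* D := (algebraMap (Rh ⊗[R] S) D).comp
    (Algebra.TensorProduct.includeRight : S →ₐ[R] Rh ⊗[R] S).toRingHom
  have hkc : ∀ y, algebraMap D Sh (k y) = algebraMap S Sh y := fun y ↦ (hψ _).trans (by simp [φ])
  have hk : ∀ s : q.primeCompl, IsUnit (k s) := fun s ↦ isUnit_of_map_unit (algebraMap D Sh) _ (by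
    rw [hkc, IsScalarTower.algebraMap_apply S (Localization.AtPrime q) Sh]
    exact (IsLocalization.map_units _ s).map _)
  letI : Algebra (Localization.AtPrime q) D := (IsLocalization.lift hk).toAlgebra
  haveI : IsScalarTower (Localization.AtPrime q) D Sh := .of_algebraMap_eq' <|
    IsLocalization.ringHom_ext q.primeCompl (RingHom.ext fun s ↦ by
      show _ = algebraMap D Sh (IsLocalization.lift hk (algebraMap S _ s))
      rw [IsLocalization.lift_eq, hkc]
      exact (IsScalarTower.algebraMap_apply S (Localization.AtPrime q) Sh s).symm)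
  haveI : IsLocalHom (algebraMap (Localization.AtPrime q) D) := ⟨fun y hy ↦
    isUnit_of_map_unit (algebraMap (Localization.AtPrime q) Sh) y
      (by rw [IsScalarTower.algebraMap_apply _ D Sh]; exact hy.map _)⟩
  letI : Algebra (Localization.AtPrime p) (Localization.AtPrime q) :=
    Localization.AtPrime.algebraOfLiesOver p q
  haveI := GrothLib.Hensel.isStrictHenselization_of_generated (A := Localization.AtPrime p) (B := Localization.AtPrime q)
    (D := D) (Ah := Rh) (Bh := Sh) j
    (fun a ↦ RingHom.congr_fun (IsLocalization.ringHom_ext p.primeCompl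
      (j := j.comp (algebraMap (Localization.AtPrime p) Rh))
      (k := (algebraMap (Localization.AtPrime q) D).comp
        (algebraMap (Localization.AtPrime p) (Localization.AtPrime q)))
      (RingHom.ext fun r ↦ by
        show j (algebraMap _ Rh (algebraMap R _ r)) =
          IsLocalization.lift hk (algebraMap _ (Localization.AtPrime q) (algebraMap R _ r))
        rw [← IsScalarTower.algebraMap_apply R (Localization.AtPrime p) Rh,
          ← IsScalarTower.algebraMap_apply R (Localization.AtPrime p) (Localization.AtPrime q),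
          IsScalarTower.algebraMap_apply R S (Localization.AtPrime q), IsLocalization.lift_eq]
        show algebraMap (Rh ⊗[R] S) D (algebraMap R Rh r ⊗ₜ 1) =
          algebraMap (Rh ⊗[R] S) D (1 ⊗ₜ algebraMap R S r)
        congr 1
        rw [Algebra.algebraMap_eq_smul_one, Algebra.algebraMap_eq_smul_one, TensorProduct.smul_tmul])) a)
    (fun T _ g₁ g₂ h1 h2 ↦ IsLocalization.ringHom_ext Q.primeCompl (RingHom.ext fun d ↦ by
      induction d using TensorProduct.induction_on with
      | zero => simp
      | add a b ha hb => rw [map_add, ha, hb, map_add]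
      | tmul y s =>
        rw [show y ⊗ₜ[R] s = (y ⊗ₜ[R] 1) * (1 ⊗ₜ[R] s) by simp]
        simp only [RingHom.comp_apply, map_mul]
        refine congrArg₂ (· * ·) (RingHom.congr_fun h1 y) ?_
        have := RingHom.congr_fun h2 (algebraMap S (Localization.AtPrime q) s)
        change g₁ (IsLocalization.lift hk (algebraMap S _ s)) =
          g₂ (IsLocalization.lift hk (algebraMap S _ s)) at this
        rw [IsLocalization.lift_eq] at this
        exact this))
  obtain ⟨e⟩ := GrothLib.Hensel.IsStrictHenselization.nonempty_algEquiv (R := D) (S := E) (S' := Sh)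
  exact ⟨e.toRingEquiv, fun d ↦ (e.commutes _).trans (hψ d)⟩

end Groth.Agent.S9460
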