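import Groth.Statements.S13202
import Groth.Agent.Lib.GeomUnib.Prime
import Groth.Agent.Lib.Hensel.StrictPrimes
import Groth.Agent.S9460
import Groth.Agent.S0537

set_option autoImplicit false
set_option backward.isDefEq.respectTransparency false
universe u
open Hensel
open scoped TensorProduct

namespace Groth.Agent.S13202

theorem prime_of_base (R R' : Type u) [CommRing R] [CommRing R'] [Algebra R R'] [Algebra.Smooth R R']
    (p : Ideal R) [p.IsPrime] (q : Ideal R') [q.IsPrime] [q.LiesOver p]
    (Rh : Type u) [CommRing Rh] [IsLocalRing Rh] [Algebra (Localization.AtPrime p) Rh]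
    [IsLocalHom (algebraMap (Localization.AtPrime p) Rh)]
    [hA : Hensel.IsStrictHenselization (Localization.AtPrime p) Rh] [Algebra R Rh]
    [IsScalarTower R (Localization.AtPrime p) Rh]
    (T : Type u) [CommRing T] [IsLocalRing T] [Algebra (Localization.AtPrime q) T]
    [IsLocalHom (algebraMap (Localization.AtPrime q) T)]
    [Hensel.IsStrictHenselization (Localization.AtPrime q) T] [Algebra R' T]
    [IsScalarTower R' (Localization.AtPrime q) T] [Algebra R T] [IsScalarTower R R' T]
    [Algebra Rh T] [IsScalarTower R Rh T] [IsLocalHom (algebraMap Rh T)]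
    (Δ : R) (hP₀ : Prime (algebraMap R Rh Δ)) : Prime (algebraMap R T Δ) := by
  haveI := hA.henselian
  haveI : IsSepClosed (IsLocalRing.ResidueField Rh) := hA.isSepClosure.sep_closed
  obtain ⟨E, _, _, _, _, hE⟩ := Groth.Agent.S0537.result (Localization.AtPrime
    (Ideal.comap (Algebra.TensorProduct.lift (IsScalarTower.toAlgHom R Rh T) (IsScalarTower.toAlgHom R R' T)
      (fun _ _ => Commute.all _ _)) (IsLocalRing.maximalIdeal T)))
  obtain ⟨e, he⟩ := Groth.Agent.S9460.result R R' p q Rh T E
  have hP := GrothLib.GeomUnib.prime_map_strictHenselization_of_smooth (R := Rh) (R' := Rh ⊗[R] R')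
    (T := E) (Ideal.comap (Algebra.TensorProduct.lift (IsScalarTower.toAlgHom R Rh T) (IsScalarTower.toAlgHom R R' T)
      (fun _ _ => Commute.all _ _)) (IsLocalRing.maximalIdeal T)) (Ideal.map_le_iff_le_comap.mpr fun x hx ↦ by
      show (Algebra.TensorProduct.lift (IsScalarTower.toAlgHom R Rh T) (IsScalarTower.toAlgHom R R' T)
        (fun _ _ => Commute.all _ _)) (x ⊗ₜ[R] (1 : R')) ∈ IsLocalRing.maximalIdeal T
      rw [Algebra.TensorProduct.lift_tmul, map_one, mul_one]
      exact fun hu ↦ hx (isUnit_of_map_unit (algebraMap Rh T) x hu)) _ hP₀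
  have h2 := (MulEquiv.prime_iff e.toMulEquiv).mpr hP
  rw [RingEquiv.toMulEquiv_eq_coe, RingEquiv.coe_toMulEquiv, he] at h2
  rw [show algebraMap Rh (Rh ⊗[R] R') (algebraMap R Rh Δ) = algebraMap R Rh Δ ⊗ₜ[R] (1 : R') from rfl,
    Algebra.TensorProduct.lift_tmul, map_one, mul_one] at h2
  rw [IsScalarTower.algebraMap_apply R Rh T]
  exact h2

/-- Let R be a Noetherian regular ring (every localization at a prime ideal is a regular local ring) and
Δ ∈ R. The element Δ is étale-universally prime — meaning that for every prime ideal p of R
containing Δ and every strict henselization T of R_p, the image of Δ in T is a prime element —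
exactly when for every smooth R-algebra R', every prime ideal q of R' and every strict henselization
T of R'_q, the image of Δ in T is either invertible or a prime element. (Smooth R-algebras and their
strict henselizations are taken in the universe of R.) -/
theorem result
    (R : Type u) [CommRing R] [IsNoetherianRing R]
    (hreg : ∀ (p : Ideal R) [p.IsPrime], IsRegularLocalRing (Localization.AtPrime p)) (Δ : R) :
    (∀ (p : Ideal R) [p.IsPrime], Δ ∈ p →
        ∀ (T : Type u) [CommRing T] [IsLocalRing T] [Algebra (Localization.AtPrime p) T]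
          [IsLocalHom (algebraMap (Localization.AtPrime p) T)]
          [Hensel.IsStrictHenselization (Localization.AtPrime p) T],
          Prime (algebraMap (Localization.AtPrime p) T (algebraMap R (Localization.AtPrime p) Δ))) ↔
    (∀ (R' : Type u) [CommRing R'] [Algebra R R'] [Algebra.Smooth R R'] (q : Ideal R') [q.IsPrime]
        (T : Type u) [CommRing T] [IsLocalRing T] [Algebra (Localization.AtPrime q) T]
          [IsLocalHom (algebraMap (Localization.AtPrime q) T)]
          [Hensel.IsStrictHenselization (Localization.AtPrime q) T],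
        IsUnit (algebraMap (Localization.AtPrime q) T (algebraMap R' (Localization.AtPrime q) (algebraMap R R' Δ))) ∨
          Prime (algebraMap (Localization.AtPrime q) T (algebraMap R' (Localization.AtPrime q) (algebraMap R R' Δ)))) := by
  constructor
  · intro h R' _ _ _ q _ T _ _ _ _ _
    by_cases hΔ : algebraMap R R' Δ ∈ q
    swap
    · exact Or.inl ((IsLocalization.map_units (Localization.AtPrime q) (⟨_, hΔ⟩ : q.primeCompl)).map _)
    right
    let p := q.under R
    letI := Localization.AtPrime.algebraOfLiesOver p q
    haveI := GrothLib.Hensel.isLocalHom_algebraMap_localization p q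
    obtain ⟨Rh, _, _, _, _, hA'⟩ := Groth.Agent.S0537.result (Localization.AtPrime p)
    have hA : Hensel.IsStrictHenselization (Localization.AtPrime p) Rh := hA'
    have hT : Hensel.IsStrictHenselization (Localization.AtPrime q) T := inferInstance
    haveI := hT.henselian
    haveI := hA.henselian
    haveI : IsSepClosed (IsLocalRing.ResidueField T) := hT.isSepClosure.sep_closed
    haveI : IsSepClosed (IsLocalRing.ResidueField Rh) := hA.isSepClosure.sep_closed
    haveI := hA.isSepClosure
    haveI : Algebra.IsSeparable (IsLocalRing.ResidueField (Localization.AtPrime p)) (IsLocalRing.ResidueField Rh) :=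
      IsSepClosure.separable
    let f : Localization.AtPrime p →+* T := (algebraMap (Localization.AtPrime q) T).comp
      (algebraMap (Localization.AtPrime p) (Localization.AtPrime q))
    letI : Algebra (IsLocalRing.ResidueField (Localization.AtPrime p)) (IsLocalRing.ResidueField T) :=
      (IsLocalRing.ResidueField.map f).toAlgebra
    let τ : IsLocalRing.ResidueField Rh →ₐ[IsLocalRing.ResidueField (Localization.AtPrime p)]
        IsLocalRing.ResidueField T := IsSepClosed.lift
    obtain ⟨g, ⟨hg, hgτ⟩, -⟩ := hA.universal T f τ.toRingHom τ.comp_algebraMap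
    letI : Algebra R T := (f.comp (algebraMap R (Localization.AtPrime p))).toAlgebra
    letI : Algebra R' T := ((algebraMap (Localization.AtPrime q) T).comp
      (algebraMap R' (Localization.AtPrime q))).toAlgebra
    haveI : IsScalarTower R' (Localization.AtPrime q) T := .of_algebraMap_eq fun _ ↦ rfl
    haveI : IsScalarTower R R' T := .of_algebraMap_eq fun x ↦ by
      show algebraMap (Localization.AtPrime q) T (algebraMap (Localization.AtPrime p) _
        (algebraMap R _ x)) = algebraMap (Localization.AtPrime q) T (algebraMap R' _ (algebraMap R R' x))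
      rw [← IsScalarTower.algebraMap_apply R (Localization.AtPrime p),
        ← IsScalarTower.algebraMap_apply R R']
    letI : Algebra R Rh := ((algebraMap (Localization.AtPrime p) Rh).comp
      (algebraMap R (Localization.AtPrime p))).toAlgebra
    haveI : IsScalarTower R (Localization.AtPrime p) Rh := .of_algebraMap_eq fun _ ↦ rfl
    letI : Algebra Rh T := g.toAlgebra
    haveI : IsScalarTower R Rh T := .of_algebraMap_eq fun x ↦
      (RingHom.congr_fun hg (algebraMap R (Localization.AtPrime p) x)).symm
    haveI : IsLocalHom g := ⟨fun x hx ↦ by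
      by_contra hu
      refine (show IsLocalRing.residue T (g x) ≠ 0 from (hx.map _).ne_zero) ?_
      rw [hgτ]
      rw [(IsLocalRing.residue_eq_zero_iff x).mpr hu, map_zero]⟩
    have hΔp : Δ ∈ p := hΔ
    haveI : IsLocalHom (algebraMap Rh T) := ‹IsLocalHom g›
    have := prime_of_base R R' p q Rh T Δ (by
      rw [IsScalarTower.algebraMap_apply R (Localization.AtPrime p) Rh]
      exact h p hΔp Rh)
    rw [IsScalarTower.algebraMap_apply R R' T] at this
    exact this
  · intro h p _ hΔ T _ _ _ _ _
    refine (h R p T).resolve_left fun hu ↦ ?_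
    rw [Algebra.algebraMap_self, RingHom.id_apply] at hu
    exact (IsLocalization.AtPrime.isUnit_to_map_iff (Localization.AtPrime p) p Δ).mp
      (isUnit_of_map_unit _ _ hu) hΔ

end Groth.Agent.S13202
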