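import Groth.Statements.S13204
import Groth.Agent.Lib.PtFun25.Ring
import Mathlib.RingTheory.Polynomial.GaussLemma
import Mathlib.RingTheory.Polynomial.Basic

set_option autoImplicit false
universe u
open Neron

namespace Groth.Agent.S13204

/-- Let R be a strictly henselian Noetherian local unique factorization domain and Δ₁, Δ₂ two non-units
of R with no common prime factor. Then there are a discrete valuation ring A and an injective local
homomorphism f : R → A — so that Spec A → Spec R sends the closed point to the closed point and the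
generic point to the generic point, which lies in every dense open subset — such that f(Δ₁) is a
non-zero non-unit and f(Δ₁) = u · f(Δ₂) for some unit u of A congruent to 1 modulo the maximal
ideal. (The published statement asks for the images of Δ₁ and Δ₂ in A to be equal, with the generic
point of Spec A sent into a given dense open subset of Spec R; that cannot hold in general — for R =
ℂ[[a,b]], Δ₁ = a, Δ₂ = b and the dense open D(a − b), any local map to a discrete valuation ring
identifying a and b sends the generic point into V(a − b) — so this row asks instead for f(Δ₁) = u ·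
f(Δ₂) with u a unit congruent to 1 modulo the maximal ideal.) -/
theorem result
    (R : Type u) [CommRing R] [IsDomain R] [IsNoetherianRing R] [UniqueFactorizationMonoid R]
    [HenselianLocalRing R] [IsSepClosed (IsLocalRing.ResidueField R)]
    (Δ₁ Δ₂ : R) (h₁ : ¬ IsUnit Δ₁) (h₂ : ¬ IsUnit Δ₂) (hcop : IsRelPrime Δ₁ Δ₂) :
    ∃ (A : Type u) (_ : CommRing A) (_ : IsDomain A) (_ : IsDiscreteValuationRing A) (f : R →+* A),
      IsLocalHom f ∧ Function.Injective f ∧ ¬ IsUnit (f Δ₁) ∧
        ∃ u : Aˣ, (u : A) - 1 ∈ IsLocalRing.maximalIdeal A ∧ f Δ₁ = (u : A) * f Δ₂ := by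
  classical
  let K := FractionRing R
  have hne₁ : Δ₁ ≠ 0 := fun h => h₂ (isRelPrime_zero_left.1 (h ▸ hcop))
  have hne₂ : Δ₂ ≠ 0 := fun h => h₁ (isRelPrime_zero_right.1 (h ▸ hcop))
  have hinjK : Function.Injective (algebraMap R K) := IsFractionRing.injective R K
  have hd : algebraMap R K Δ₂ ≠ 0 := (map_ne_zero_iff _ hinjK).2 hne₂
  let t : K := algebraMap R K Δ₁ / algebraMap R K Δ₂
  let S : Subalgebra R K := (Polynomial.aeval (R := R) t).range
  let ρ : Polynomial R →ₐ[R] S := (Polynomial.aeval (R := R) t).rangeRestrict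
  have hρ : Function.Surjective ρ := AlgHom.rangeRestrict_surjective _
  haveI : IsNoetherianRing S := isNoetherianRing_of_surjective _ _ ρ.toRingHom hρ
  let lin : Polynomial R := Polynomial.C Δ₂ * Polynomial.X - Polynomial.C Δ₁
  have hlinprim : lin.IsPrimitive := by
    intro c hc
    rw [Polynomial.C_dvd_iff_dvd_coeff] at hc
    refine hcop ?_ ?_
    · have := hc 0
      simpa [lin] using this
    · have := hc 1
      simpa [lin, Polynomial.coeff_C] using this
  let ev : Polynomial R →+* IsLocalRing.ResidueField R := (IsLocalRing.residue R).comp (Polynomial.evalRingHom 1)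
  have hker : RingHom.ker ρ ≤ RingHom.ker ev := by
    intro f hf
    have hf0 : Polynomial.aeval t f = 0 := congrArg Subtype.val (RingHom.mem_ker.1 hf)
    have hdvd : lin.map (algebraMap R K) ∣ f.map (algebraMap R K) := by
      have h1 : lin.map (algebraMap R K) = Polynomial.C (algebraMap R K Δ₂) * (Polynomial.X - Polynomial.C t) := by
        simp only [lin, Polynomial.map_sub, Polynomial.map_mul, Polynomial.map_C, Polynomial.map_X, mul_sub, ← Polynomial.C_mul]
        rw [show algebraMap R K Δ₂ * t = algebraMap R K Δ₁ from mul_div_cancel₀ _ hd]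
      rw [h1]
      refine (IsUnit.mul_left_dvd (Polynomial.isUnit_C.2 hd.isUnit)).2 ?_
      rw [Polynomial.dvd_iff_isRoot, Polynomial.IsRoot, Polynomial.eval_map]
      rwa [Polynomial.aeval_def] at hf0
    obtain ⟨g, rfl⟩ := hlinprim.dvd_of_fraction_map_dvd_fraction_map (K := K) hdvd
    show ev (lin * g) = 0
    have : ev lin = 0 := by
      show IsLocalRing.residue R (Polynomial.eval 1 lin) = 0
      rw [IsLocalRing.residue_eq_zero_iff]
      simp only [lin, Polynomial.eval_sub, Polynomial.eval_mul, Polynomial.eval_C, Polynomial.eval_X, mul_one]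
      exact sub_mem ((IsLocalRing.mem_maximalIdeal _).2 h₂) ((IsLocalRing.mem_maximalIdeal _).2 h₁)
    rw [map_mul, this, zero_mul]
  let q : Ideal S := (RingHom.ker ev).map ρ
  haveI : (RingHom.ker ev).IsPrime := RingHom.ker_isPrime ev
  haveI hq : q.IsPrime := Ideal.map_isPrime_of_surjective hρ hker
  have hmemq : ∀ f, ρ f ∈ q ↔ ev f = 0 := fun f => by
    constructor
    · intro h
      obtain ⟨g, hg, e⟩ := (Ideal.mem_map_iff_of_surjective _ hρ).1 h
      have := hker (show g - f ∈ RingHom.ker ρ by rw [RingHom.mem_ker, map_sub, e, sub_self])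
      rw [RingHom.mem_ker, map_sub, sub_eq_zero] at this
      rw [← this]; exact hg
    · exact fun h => Ideal.mem_map_of_mem _ h
  have hm : ∀ r ∈ IsLocalRing.maximalIdeal R, ρ (Polynomial.C r) ∈ q := fun r hr => by
    rw [hmemq]
    show IsLocalRing.residue R (Polynomial.eval 1 (Polynomial.C r)) = 0
    rw [Polynomial.eval_C, IsLocalRing.residue_eq_zero_iff]
    exact hr
  have hval : ∀ r, ((ρ (Polynomial.C r) : S) : K) = algebraMap R K r := fun r => Polynomial.aeval_C _ _
  have hq0 : q ≠ ⊥ := fun h => by
    have h' := hm Δ₁ ((IsLocalRing.mem_maximalIdeal _).2 h₁)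
    rw [h, Ideal.mem_bot] at h'
    have h'' := congrArg Subtype.val h'
    rw [hval] at h''
    exact hne₁ (hinjK (h''.trans (map_zero _).symm))
  obtain ⟨V, hV, φ, hφ, hφq⟩ := GrothLib.PtFun25.exists_dvr_center (K := K) S.val.toRingHom Subtype.val_injective
    (top_unique fun y _ => by
      obtain ⟨a, b, hb, rfl⟩ := IsFractionRing.div_surjective (A := R) y
      have : ∀ r, algebraMap R K r ∈ Subfield.closure (Set.range S.val.toRingHom) := fun r =>
        Subfield.subset_closure ⟨ρ (Polynomial.C r), hval r⟩
      exact div_mem (this a) (this b)) q hq0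
  let f : R →+* V := φ.comp (ρ.toRingHom.comp Polynomial.C)
  have hfval : ∀ r, (f r : K) = algebraMap R K r := fun r => (hφ _).trans (hval r)
  have hloc : IsLocalHom f := ⟨fun r hr => by
    by_contra h
    exact (IsLocalRing.mem_maximalIdeal _).1 ((hφq _).2 (hm r ((IsLocalRing.mem_maximalIdeal _).2 h))) hr⟩
  have ht1 : φ (ρ Polynomial.X) - 1 ∈ IsLocalRing.maximalIdeal V := by
    rw [← map_one φ, ← map_sub, hφq, ← map_one ρ, ← map_sub, hmemq]
    show IsLocalRing.residue R (Polynomial.eval 1 (Polynomial.X - 1)) = 0
    simp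
  have hunit : IsUnit (φ (ρ Polynomial.X)) := by
    by_contra h
    have h' := sub_mem ((IsLocalRing.mem_maximalIdeal _).2 h) ht1
    rw [sub_sub_cancel] at h'
    exact (IsLocalRing.mem_maximalIdeal _).1 h' isUnit_one
  refine ⟨V, inferInstance, inferInstance, hV, f, hloc, fun a b h => hinjK ?_, fun h => h₁ (hloc.map_nonunit _ h),
    hunit.unit, ht1, Subtype.ext ?_⟩
  · rw [← hfval, ← hfval, h]
  · show (f Δ₁ : K) = (φ (ρ Polynomial.X) : K) * (f Δ₂ : K)
    rw [hfval, hfval, hφ]
    show _ = Polynomial.aeval t Polynomial.X * _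
    rw [Polynomial.aeval_X, div_mul_cancel₀ _ hd]


end Groth.Agent.S13204
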