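import Groth.Statements.S13205
import Groth.Agent.Lib.TameAbh21.RecognizePoint

set_option autoImplicit false
universe u
open IsLocalRing
open SGA1

namespace Groth.Agent.S13205

/-- Let A be a strictly henselian regular local ring, f_1, …, f_r elements of the maximal ideal of A
whose images in m_A/m_A² are linearly independent (so that V(f_1 ⋯ f_r) is a strict normal crossings
divisor with complement U = D(f_1 ⋯ f_r)), and S' = Spec B → Spec A a finite locally free morphism,
tamely ramified along the f_i and étale over U, with S' connected and regular (B an integral domain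
with regular local rings). Then S' is a Kummer covering: for some integers n_i ≥ 1 prime to the
residue characteristic, B is isomorphic as an A-algebra to A[T_1, …, T_r]/(T_i^{n_i} − f_i). -/
theorem result
    (A : Type u) [CommRing A] [IsRegularLocalRing A] [IsDomain A] [HenselianLocalRing A]
    [IsSepClosed (ResidueField A)] (r : ℕ) (f : Fin r → A)
    (hm : ∀ i, f i ∈ maximalIdeal A)
    (hf : LinearIndependent (ResidueField A) (fun i => (maximalIdeal A).toCotangent ⟨f i, hm i⟩))
    [∀ i, (Ideal.span {f i}).IsPrime]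
    (B : Type u) [CommRing B] [IsDomain B] [Algebra A B] [Module.Finite A B] [Module.Free A B]
    (hreg : ∀ (q : Ideal B) [q.IsPrime], IsRegularLocalRing (Localization.AtPrime q))
    [Algebra.Etale (Localization.Away (∏ i, f i)) (TensorProduct A (Localization.Away (∏ i, f i)) B)]
    (htame : SGA1.IsTameAlong f (algebraMap A B)) :
    ∃ n : Fin r → ℕ, (∀ i, 1 ≤ n i) ∧ (∀ i, IsUnit ((n i : ℕ) : ResidueField A)) ∧
      Nonempty (B ≃ₐ[A] SGA1.kummerAlg A f n) := by
  have hf0 := GrothLib.TameAbh21.f_ne_zero hm hf
  haveI : Algebra.IsIntegral A B := Algebra.IsIntegral.of_finite A B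
  haveI : FaithfulSMul A B := inferInstance
  have hinjB : Function.Injective (algebraMap A B) := FaithfulSMul.algebraMap_injective A B
  have hPB : algebraMap A B (∏ i, f i) ≠ 0 :=
    (map_ne_zero_iff _ hinjB).mpr (Finset.prod_ne_zero_iff.mpr fun j _ => hf0 j)
  haveI := GrothLib.TameAbh21.nontrivial_away B (∏ i, f i) hPB
  haveI := GrothLib.TameAbh21.etale_away_cover B (∏ i, f i)
  have htC : SGA1.IsTameAlong f (algebraMap A (Localization.Away (algebraMap A B (∏ i, f i)))) := by
    rw [IsScalarTower.algebraMap_eq A B (Localization.Away (algebraMap A B (∏ i, f i)))]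
    exact GrothLib.TameAbh21.isTameAlong_localization (Submonoid.powers (algebraMap A B (∏ i, f i))) _ htame
  obtain ⟨n, hn, hnu, E, _, _, hEf, hEe, ρ, hρ⟩ := GrothLib.TameAbh21.absolute hm hf
    (Localization.Away (algebraMap A B (∏ i, f i)))
    (by rw [IsScalarTower.algebraMap_apply A B (Localization.Away (algebraMap A B (∏ i, f i)))]
        exact IsLocalization.Away.algebraMap_isUnit (algebraMap A B (∏ i, f i)))
    (GrothLib.TameAbh21.away_integral (B := B) _) htC
  haveI := hEf
  haveI := hEe
  haveI := GrothLib.Kummer21.finite_alg (f := f) hn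
  haveI := GrothLib.Kummer21.isRegularLocalRing_alg hm hf hn
  haveI := GrothLib.CMFree.isDomain_of_isRegularLocalRing (SGA1.kummerAlg A f n)
  have hinj := GrothLib.Kummer21.injective_algebraMap (f := f) hn
  obtain ⟨σ⟩ := GrothLib.TameAbh21.exists_point_strict hinj (Localization.Away (algebraMap A B (∏ i, f i))) E ρ hρ
  have hnA : ∀ i, IsUnit ((n i : ℕ) : A) := fun i =>
    IsLocalRing.notMem_maximalIdeal.mp fun h => (hnu i).ne_zero (by
      rw [← map_natCast (IsLocalRing.residue A)]
      exact Ideal.Quotient.eq_zero_iff_mem.mpr h)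
  haveI := GrothLib.RegUFD.ufd_of_isRegularLocalRing (SGA1.kummerAlg A f n)
  obtain ⟨ν, -⟩ := GrothLib.TameAbh21.exists_algHom_of_point (A := A) (B := B)
    (p := algebraMap A (SGA1.kummerAlg A f n) (∏ i, f i))
    ((map_ne_zero_iff _ hinj).mpr (Finset.prod_ne_zero_iff.mpr fun j _ => hf0 j))
    (σ.comp (IsScalarTower.toAlgHom A B _))
  refine GrothLib.TameAbh21.recognize hm hf hinjB hreg (fun Q _ hQ => ?_) hnA (GrothLib.Kummer21.root f n)
    (GrothLib.Kummer21.root_pow f n) (GrothLib.Kummer21.adjoin_root f n)
    (GrothLib.TameAbh21.prime_root hm hf n hn) ν (GrothLib.TameAbh21.injective_of_algHom hinj ν)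
  exact (Algebra.basicOpen_subset_unramifiedLocus_iff (R := A) (f := algebraMap A B (∏ i, f i))).mpr
    inferInstance (show (⟨Q, inferInstance⟩ : PrimeSpectrum B) ∈ PrimeSpectrum.basicOpen _ from hQ)

end Groth.Agent.S13205
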