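import Groth.Statements.S13206
import Mathlib.AlgebraicGeometry.Morphisms.Separated
import Groth.Agent.Lib.SchDense.Basic
import Mathlib.CategoryTheory.Comma.Over.Pullback
-- import your own Groth.Agent.* helpers here

set_option autoImplicit false
universe u
open CategoryTheory AlgebraicGeometry
open AlgGrp

namespace Groth.Agent.S13206

/-- Let X → S be a separated morphism of schemes and let a finite group G act on X through
S-automorphisms. Then the functor of G-fixed points is represented by a closed subscheme of X: there
are a scheme Z and a closed immersion i : Z → X with i ∘ g = i for all g ∈ G such that every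
morphism x : T → X with g ∘ x = x for all g ∈ G factors uniquely through i. (The published statement
is for an algebraic space X over S, also treats the locally separated case and notes compatibility
with base change; this row is the separated case for schemes.) -/
theorem result
    {X S : Scheme.{u}} (p : X ⟶ S) [IsSeparated p]
    (G : Type u) [Group G] [Finite G] (ρ : G →* Aut X) (hρ : ∀ g : G, (ρ g).hom ≫ p = p) :
    ∃ (Z : Scheme.{u}) (i : Z ⟶ X), IsClosedImmersion i ∧ (∀ g : G, i ≫ (ρ g).hom = i) ∧
      ∀ (T : Scheme.{u}) (x : T ⟶ X), (∀ g : G, x ≫ (ρ g).hom = x) → ∃! z : T ⟶ Z, z ≫ i = x := by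
  classical
  have step : ∀ s : Finset G, ∃ (Z : Scheme.{u}) (i : Z ⟶ X), IsClosedImmersion i ∧ (∀ g ∈ s, i ≫ (ρ g).hom = i) ∧
      ∀ (T : Scheme.{u}) (x : T ⟶ X), (∀ g ∈ s, x ≫ (ρ g).hom = x) → ∃! z : T ⟶ Z, z ≫ i = x := by
    intro s
    induction s using Finset.induction_on with
    | empty => exact ⟨X, 𝟙 X, inferInstance, by simp, fun T x _ => ⟨x, Category.comp_id x, fun z hz => by rw [← hz, Category.comp_id]⟩⟩
    | insert g s hgs ih =>
      obtain ⟨Z, i, hi, hfix, huniv⟩ := ih
      let X' : Over S := Over.mk p
      let Z' : Over S := Over.mk (i ≫ p)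
      let f₁ : Z' ⟶ X' := Over.homMk i
      let f₂ : Z' ⟶ X' := Over.homMk (i ≫ (ρ g).hom) (by show (i ≫ (ρ g).hom) ≫ p = i ≫ p; rw [Category.assoc, hρ])
      have : IsSeparated X'.hom := ‹IsSeparated p›
      let e := Limits.equalizer.ι f₁ f₂
      have he : IsClosedImmersion e.left := inferInstance
      have hc : e.left ≫ i = e.left ≫ i ≫ (ρ g).hom := congrArg CommaMorphism.left (Limits.equalizer.condition f₁ f₂)
      have hmono : Mono i := inferInstance
      refine ⟨_, e.left ≫ i, MorphismProperty.comp_mem @IsClosedImmersion e.left i he hi, fun g' hg' => ?_, fun T x hx => ?_⟩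
      · rcases Finset.mem_insert.mp hg' with rfl | h
        · rw [Category.assoc]; exact hc.symm
        · rw [Category.assoc, hfix g' h]
      · obtain ⟨z, hz, -⟩ := huniv T x fun g' h => hx g' (Finset.mem_insert_of_mem h)
        let z' : Over.mk (x ≫ p) ⟶ Z' := Over.homMk z (by show z ≫ i ≫ p = x ≫ p; rw [← Category.assoc, hz])
        have hz' : z' ≫ f₁ = z' ≫ f₂ := by
          apply Over.OverMorphism.ext
          show z ≫ i = z ≫ i ≫ (ρ g).hom
          rw [← Category.assoc, hz, hx g (Finset.mem_insert_self g s)]
        refine ⟨(Limits.equalizer.lift z' hz').left, ?_, fun w hw => ?_⟩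
        · show _ ≫ e.left ≫ i = x
          rw [← Category.assoc]
          exact (congrArg (· ≫ i) (congrArg CommaMorphism.left (Limits.equalizer.lift_ι z' hz'))).trans hz
        · replace hw : w ≫ e.left ≫ i = x := hw
          rw [← cancel_mono e.left, ← cancel_mono i, Category.assoc, hw]
          exact (((congrArg (· ≫ i) (congrArg CommaMorphism.left (Limits.equalizer.lift_ι z' hz')))).trans hz).symm
  have := Fintype.ofFinite G
  obtain ⟨Z, i, hi, hfix, huniv⟩ := step Finset.univ
  exact ⟨Z, i, hi, fun g => hfix g (Finset.mem_univ g), fun T x hx => huniv T x fun g _ => hx g⟩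

end Groth.Agent.S13206
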