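import Groth.Statements.S13207
import Groth.Agent.Lib.NeronSigma29.Main

set_option autoImplicit false
universe u
open CategoryTheory CategoryTheory.Limits AlgebraicGeometry
open Neron

namespace Groth.Agent.S13207

/-- Let (S_i)_{i ∈ I} be a family of schemes, (N_i → S_i)_{i ∈ I} morphisms of schemes, S = ∐ S_i and N
= ∐ N_i with the induced morphism N → S, and U ⊆ S a schematically dense open subscheme with
preimages U_i ⊆ S_i. Then N → S is smooth with the Néron mapping property with respect to U — for
every smooth S-scheme Y, restriction to U is a bijection from S-morphisms Y → N onto U-morphisms Y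
×_S U → N ×_S U — if and only if every N_i → S_i is smooth with the Néron mapping property with
respect to U_i. (The published statement is for algebraic spaces N_i tested against smooth algebraic
spaces, and has the same form for separated models; this row is the not-necessarily-separated case
for schemes tested against smooth schemes.) -/
theorem result
    {I : Type u} (B N : I → Scheme.{u}) (f : ∀ i, N i ⟶ B i)
    (U : (∐ B).Opens) (hU : CInt.IsSchematicallyDense U) :
    (Smooth (Limits.Sigma.map f) ∧ ∀ Y : Over (∐ B), Smooth Y.hom →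
        Function.Bijective (fun g : Y ⟶ Over.mk (Limits.Sigma.map f) => (Over.pullback U.ι).map g)) ↔
    ∀ i, Smooth (f i) ∧ ∀ Y : Over (B i), Smooth Y.hom →
        Function.Bijective (fun g : Y ⟶ Over.mk (f i) => (Over.pullback ((Limits.Sigma.ι B i) ⁻¹ᵁ U).ι).map g) := by
  have h1 : (∀ Y : Over (∐ B), Smooth Y.hom →
        Function.Bijective (fun g : Y ⟶ Over.mk (Limits.Sigma.map f) => (Over.pullback U.ι).map g))
      ↔ ∀ (Y : Scheme.{u}) (y : Y ⟶ ∐ B), Smooth y →
        NeronSigma29.Ext (Limits.Sigma.map f) U y :=
    ⟨fun h Y y hy => (NeronSigma29.bijective_iff _ U (Over.mk y)).mp (h (Over.mk y) hy),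
      fun h Y hY => (NeronSigma29.bijective_iff _ U Y).mpr (h _ _ hY)⟩
  rw [h1, NeronSigma29.forall_iff, NeronSigma29.smooth_iff]
  constructor
  · intro h i
    exact ⟨h.1 i, fun Y hY => (NeronSigma29.bijective_iff _ _ Y).mpr (h.2 i _ _ hY)⟩
  · intro h
    exact ⟨fun i => (h i).1,
      fun i Y y hy => (NeronSigma29.bijective_iff _ _ (Over.mk y)).mp ((h i).2 (Over.mk y) hy)⟩

end Groth.Agent.S13207
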