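import Groth.Statements.S13208
import Groth.Agent.Lib.Smoothing.Approx.Node
import Groth.Agent.Lib.RegUFD.Basic

set_option autoImplicit false
universe u
open IsLocalRing
open Hensel

namespace Groth.Agent.S13208

open MvPowerSeries in
/-- Let R be a strictly henselian excellent regular local ring with completion R^, let Δ ≠ 0 and t₁, t₂
be elements of the maximal ideal with t₁ t₂ = Δ, and let C be a local R-algebra, essentially of
finite type over R with local structure map, given with a ring isomorphism ψ from the completion C^
of C onto R^[[u,v]]/(uv − Δ) compatible with the structure maps from R. Then there are an R-algebra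
homomorphism g : C → R and a ring homomorphism ĝ : C^ → R^ inducing g (ĝ restricted to C is g
followed by R → R^) such that ĝ(ψ⁻¹(u)) generates the ideal t₁R^ and ĝ(ψ⁻¹(v)) generates t₂R^. (This
is the statement, for an excellent regular base S, a geometric point s̄, an S-scheme X of finite
presentation and a closed point x of the geometric fibre whose completed étale local ring is
presented as R^[[u,v]]/(uv − Δ) over R = the étale local ring of S at s̄, that some étale
neighbourhood of s̄ carries a section of X through x sending u, v to generators of (t₁), (t₂):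
written for the local ring C of X ×_S Spec R at x, an R-retraction of which is such a section by
finite presentation. The published statement allows Δ = 0; this row assumes Δ ≠ 0.) -/
theorem result
    (R : Type u) [CommRing R] [IsRegularLocalRing R] [HenselianLocalRing R]
    [IsSepClosed (ResidueField R)] (hR : EGA4.IsExcellent R)
    (Δ t₁ t₂ : R) (hΔ : Δ ≠ 0) (ht₁ : t₁ ∈ maximalIdeal R) (ht₂ : t₂ ∈ maximalIdeal R) (ht : t₁ * t₂ = Δ)
    (C : Type u) [CommRing C] [IsLocalRing C] [Algebra R C] [IsLocalHom (algebraMap R C)]
    [Algebra.EssFiniteType R C]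
    (ψ : AdicCompletion (maximalIdeal C) C ≃+*
      (MvPowerSeries (Fin 2) (AdicCompletion (maximalIdeal R) R) ⧸
        Ideal.span {(X 0 * X 1 - MvPowerSeries.C (algebraMap R (AdicCompletion (maximalIdeal R) R) Δ) :
          MvPowerSeries (Fin 2) (AdicCompletion (maximalIdeal R) R))}))
    (hψ : ψ.toRingHom.comp ((algebraMap C (AdicCompletion (maximalIdeal C) C)).comp (algebraMap R C)) =
      (Ideal.Quotient.mk _).comp ((MvPowerSeries.C : AdicCompletion (maximalIdeal R) R →+*
        MvPowerSeries (Fin 2) (AdicCompletion (maximalIdeal R) R)).comp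
          (algebraMap R (AdicCompletion (maximalIdeal R) R)))) :
    ∃ (g : C →ₐ[R] R) (ĝ : AdicCompletion (maximalIdeal C) C →+* AdicCompletion (maximalIdeal R) R),
      ĝ.comp (algebraMap C (AdicCompletion (maximalIdeal C) C)) =
        (algebraMap R (AdicCompletion (maximalIdeal R) R)).comp g.toRingHom ∧
      Ideal.span {ĝ (ψ.symm (Ideal.Quotient.mk _ (X 0)))} =
        Ideal.span {algebraMap R (AdicCompletion (maximalIdeal R) R) t₁} ∧
      Ideal.span {ĝ (ψ.symm (Ideal.Quotient.mk _ (X 1)))} =
        Ideal.span {algebraMap R (AdicCompletion (maximalIdeal R) R) t₂} := by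
  haveI : IsRegularLocalRing (AdicCompletion (maximalIdeal R) R) :=
    GrothLib.AdicExtra.isRegularLocalRing_adicCompletion_iff.1 inferInstance
  haveI : IsDomain (AdicCompletion (maximalIdeal R) R) :=
    GrothLib.CMFree.isDomain_of_isRegularLocalRing _
  haveI : UniqueFactorizationMonoid (AdicCompletion (maximalIdeal R) R) :=
    GrothLib.RegUFD.uniqueFactorizationMonoid_of_regular
      (maximalIdeal (AdicCompletion (maximalIdeal R) R)).spanFinrank _
      ((isRegularLocalRing_iff _).1 inferInstance).ge
  refine Smoothing.Approx.exists_retraction_node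
    (GrothLib.Ratliff.isRegularHom_cpl_of_isGRing R hR.2.2.1) Δ t₁ t₂ (fun h => hΔ ?_) ht₁ ht₂ ht C ψ hψ
  exact AdicCompletion.of_injective (maximalIdeal R) R (h.trans (map_zero _).symm)

end Groth.Agent.S13208
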