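import Groth.Statements.S13209
import Groth.Agent.Lib.AlgSp.Presentation
import Mathlib.CategoryTheory.Sites.RegularEpi

set_option autoImplicit false
universe u
open CategoryTheory CategoryTheory.Limits AlgebraicGeometry
open Neron

namespace Groth.Agent.S13209

open AlgSp GrothLib.AlgSp

variable {S : Scheme.{u}}

/-- A representable étale surjection is an epimorphism of sheaves. -/
theorem epi_of_repWith {F G : Sp S} {p : F ⟶ G} (he : RepWith @Etale p) (hs : RepWith @Surjective p) : Epi p := by
  haveI : Sheaf.IsLocallySurjective p := isLocallySurjective_of_repWith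
    (⟨he.1, fun _ _ _ _ g sq => by have : Etale g.left := he.2 _ _ _ sq; show Flat g.left; infer_instance⟩)
    (⟨he.1, fun _ _ _ _ g sq => by
      have : Etale g.left := he.2 _ _ _ sq; show LocallyOfFinitePresentation g.left; infer_instance⟩) hs
  infer_instance


/-- Let S be a scheme, U ⊆ S a schematically dense open subscheme and N → S a smooth S-scheme with the
Néron mapping property for schemes with respect to U: for every smooth S-scheme Y, composition with
the projection Y ×_S U → Y is a bijection from S-morphisms Y → N onto S-morphisms Y ×_S U → N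
(equivalently, onto U-morphisms Y ×_S U → N ×_S U). Then N also has the Néron mapping property with
respect to smooth algebraic spaces: for every algebraic space F over S (an fppf sheaf of sets on
S-schemes with representable diagonal and an étale surjective chart from a scheme) whose structure
map to h_S is smooth, composition with the first projection F × h_U → F is a bijection from
morphisms of sheaves F → h_N onto morphisms F × h_U → h_N. -/
theorem result
    {S : Scheme.{u}} (U : S.Opens) (hU : CInt.IsSchematicallyDense U) (N : Over S) [Smooth N.hom]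
    (hN : ∀ Y : Over S, Smooth Y.hom →
      Function.Bijective (fun g : Y ⟶ N => (Over.mapPullbackAdj U.ι).counit.app Y ≫ g))
    (F : AlgSp.Sp S) (hF : AlgSp.IsAlgSpace F)
    (sF : F ⟶ (AlgSp.yon S).obj (Over.mk (𝟙 S))) (hsm : AlgSp.LocP @Smooth sF) :
    Function.Bijective (fun φ : F ⟶ (AlgSp.yon S).obj N =>
      (Limits.prod.fst : F ⨯ (AlgSp.yon S).obj (Over.mk U.ι) ⟶ F) ≫ φ) := by
  obtain ⟨W, p, hpe, hps⟩ := hF.2
  haveI : Epi p := epi_of_repWith hpe hps
  have hterm : ∀ {T : Over S} (a b : (AlgSp.yon S).obj T ⟶ (AlgSp.yon S).obj (Over.mk (𝟙 S))), a = b := by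
    intro T a b
    obtain ⟨a', rfl⟩ := (AlgSp.yon S).map_surjective a
    obtain ⟨b', rfl⟩ := (AlgSp.yon S).map_surjective b
    rw [Over.mkIdTerminal.hom_ext a' b']
  haveI hW : Smooth W.hom := by
    have := hsm p (𝟙 _) (Over.homMk W.hom (Category.comp_id _) : W ⟶ Over.mk (𝟙 S)) hpe
      (by
        rw [← (AlgSp.yon S).map_id]
        exact (AlgSp.repWith_yon_map_iff @Etale _).2 (inferInstanceAs (Etale (𝟙 (Over.mk (𝟙 S)).left)))) (hterm _ _)
    exact this
  obtain ⟨R, fst, s, sq⟩ := exists_isPullback_of_representable hpe.1 p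
  obtain ⟨t, rfl⟩ := (AlgSp.yon S).map_surjective fst
  have hs : Etale s.left := hpe.2 _ _ _ sq
  haveI hR : Smooth R.hom := by
    rw [← Over.w s]
    infer_instance
  let π : ∀ X : Over S, (Over.map U.ι).obj ((Over.pullback U.ι).obj X) ⟶ X :=
    fun X => (Over.mapPullbackAdj U.ι).counit.app X
  let w : ∀ X : Over S, (Over.map U.ι).obj ((Over.pullback U.ι).obj X) ⟶ Over.mk U.ι :=
    fun X => Over.homMk (Limits.pullback.snd X.hom U.ι) rfl
  let m : (AlgSp.yon S).obj ((Over.map U.ι).obj ((Over.pullback U.ι).obj W)) ⟶ F ⨯ (AlgSp.yon S).obj (Over.mk U.ι) :=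
    Limits.prod.lift ((AlgSp.yon S).map (π W) ≫ p) ((AlgSp.yon S).map (w W))
  let sU := (Over.map U.ι).map ((Over.pullback U.ι).map s)
  let tU := (Over.map U.ι).map ((Over.pullback U.ι).map t)
  have hsπ : sU ≫ π W = π R ≫ s := (Over.mapPullbackAdj U.ι).counit.naturality s
  have htπ : tU ≫ π W = π R ≫ t := (Over.mapPullbackAdj U.ι).counit.naturality t
  have hsw : sU ≫ w W = w R := Over.OverMorphism.ext (Limits.pullback.lift_snd _ _ _)
  have htw : tU ≫ w W = w R := Over.OverMorphism.ext (Limits.pullback.lift_snd _ _ _)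
  refine ⟨fun φ₁ φ₂ h => ?_, fun ψ => ?_⟩
  · obtain ⟨g₁, hg₁⟩ := (AlgSp.yon S).map_surjective (p ≫ φ₁)
    obtain ⟨g₂, hg₂⟩ := (AlgSp.yon S).map_surjective (p ≫ φ₂)
    have h1 := congrArg (fun χ => m ≫ χ) h
    simp only [m, Limits.prod.lift_fst_assoc, Category.assoc] at h1
    have h2 : π W ≫ g₁ = π W ≫ g₂ := (AlgSp.yon S).map_injective (by
      rw [Functor.map_comp, Functor.map_comp, hg₁, hg₂]; exact h1)
    rw [← cancel_epi p, ← hg₁, ← hg₂, (hN W hW).1 h2]
  · obtain ⟨gU, hgU⟩ := (AlgSp.yon S).map_surjective (m ≫ ψ)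
    obtain ⟨g, hg⟩ := (hN W hW).2 gU
    have hm : (AlgSp.yon S).map sU ≫ m = (AlgSp.yon S).map tU ≫ m := by
      apply Limits.prod.hom_ext
      · simp only [m, Category.assoc, Limits.prod.lift_fst]
        rw [← Functor.map_comp_assoc, ← Functor.map_comp_assoc, hsπ, htπ, Functor.map_comp_assoc,
          Functor.map_comp_assoc, sq.w]
      · simp only [m, Category.assoc, Limits.prod.lift_snd]
        rw [← Functor.map_comp, ← Functor.map_comp, hsw, htw]
    have hst : s ≫ g = t ≫ g := by
      refine (hN R hR).1 ((AlgSp.yon S).map_injective ?_)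
      show (AlgSp.yon S).map (π R ≫ s ≫ g) = (AlgSp.yon S).map (π R ≫ t ≫ g)
      rw [← Category.assoc, ← Category.assoc, ← hsπ, ← htπ, Category.assoc, Category.assoc,
        show π W ≫ g = gU from hg, Functor.map_comp, Functor.map_comp, hgU, ← Category.assoc, hm, Category.assoc]
    let e := IsRegularEpiCategory.regularEpiOfEpi p
    have he := IsRegularEpi.getStruct p
    have hdesc : ∃ φ : F ⟶ (AlgSp.yon S).obj N, p ≫ φ = (AlgSp.yon S).map g := by
      have h : he.left ≫ (AlgSp.yon S).map g = he.right ≫ (AlgSp.yon S).map g := by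
        calc he.left ≫ (AlgSp.yon S).map g
            = sq.lift _ _ he.w ≫ (AlgSp.yon S).map (t ≫ g) := by rw [Functor.map_comp, sq.lift_fst_assoc]
          _ = sq.lift _ _ he.w ≫ (AlgSp.yon S).map (s ≫ g) := by rw [hst]
          _ = he.right ≫ (AlgSp.yon S).map g := by rw [Functor.map_comp, sq.lift_snd_assoc]
      exact ⟨(he.desc' _ h).1, (he.desc' _ h).2⟩
    obtain ⟨φ, hφ⟩ := hdesc
    refine ⟨φ, GrothLib.AlgSp.hom_ext fun T a => ?_⟩
    obtain ⟨T', k₀, c, sq'⟩ := exists_isPullback_of_representable hpe.1 (a ≫ Limits.prod.fst)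
    obtain ⟨k, rfl⟩ := (AlgSp.yon S).map_surjective k₀
    haveI : Epi ((AlgSp.yon S).map c) := by
      haveI : Etale c.left := hpe.2 _ _ _ sq'
      haveI : Surjective c.left := hps.2 _ _ _ sq'
      exact epi_of_repWith ((AlgSp.repWith_yon_map_iff @Etale c).2 inferInstance)
        ((AlgSp.repWith_yon_map_iff @Surjective c).2 inferInstance)
    obtain ⟨z, hz⟩ := (AlgSp.yon S).map_surjective ((AlgSp.yon S).map c ≫ a ≫ Limits.prod.snd)
    let k' : T' ⟶ (Over.map U.ι).obj ((Over.pullback U.ι).obj W) :=
      Over.homMk (Limits.pullback.lift k.left z.left ((Over.w k).trans (Over.w z).symm)) (by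
        show Limits.pullback.lift k.left z.left _ ≫ Limits.pullback.snd W.hom U.ι ≫ U.ι = T'.hom
        rw [Limits.pullback.lift_snd_assoc]
        exact Over.w z)
    have hkπ : k' ≫ π W = k := Over.OverMorphism.ext (by
      show Limits.pullback.lift k.left z.left _ ≫ (π W).left = k.left
      rw [show (π W).left = Limits.pullback.fst W.hom U.ι by simp [π, Over.mapPullbackAdj]]
      exact Limits.pullback.lift_fst _ _ _)
    have hkw : k' ≫ w W = z := Over.OverMorphism.ext (Limits.pullback.lift_snd _ _ _)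
    have hkm : (AlgSp.yon S).map c ≫ a = (AlgSp.yon S).map k' ≫ m := by
      apply Limits.prod.hom_ext
      · simp only [m, Category.assoc, Limits.prod.lift_fst]
        rw [← Functor.map_comp_assoc, hkπ, sq'.w]
      · simp only [m, Category.assoc, Limits.prod.lift_snd]
        rw [← Functor.map_comp, hkw, hz]
    rw [← cancel_epi ((AlgSp.yon S).map c)]
    show (AlgSp.yon S).map c ≫ a ≫ Limits.prod.fst ≫ φ = (AlgSp.yon S).map c ≫ a ≫ ψ
    rw [reassoc_of% hkm, reassoc_of% hkm]
    simp only [m, Limits.prod.lift_fst_assoc]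
    rw [Category.assoc, hφ, ← hgU, ← Functor.map_comp, ← hg]

end Groth.Agent.S13209
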