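import Groth.Statements.S13210
import Groth.Agent.Lib.AlgSp.Space
-- import your own Groth.Agent.* helpers here

set_option autoImplicit false
universe u
open CategoryTheory CategoryTheory.Limits AlgebraicGeometry
open AlgGrp

namespace Groth.Agent.S13210

/-- Let S be a scheme, F an algebraic space over S which is separated over S, and G a finite group
acting on F by S-automorphisms. If i : Z → F exhibits the fppf sheaf Z as the sub-sheaf of G-fixed
points of F (i is G-invariant and every G-invariant morphism W → F factors uniquely through i), then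
Z is an algebraic space and i is a closed immersion (representable by closed immersions). (The
published statement also treats a locally separated F, whose fixed points form a subspace, and
compatibility with base change; this row states only the separated case.) -/
theorem result
    {S : Scheme.{u}} (F : AlgSp.Sp S) (hF : AlgSp.IsAlgSpace F) (hsep : AlgSp.IsSeparatedSp F)
    (G : Type u) [Group G] [Finite G] (ρ : G →* Aut F)
    (Z : AlgSp.Sp S) (i : Z ⟶ F) (hi : ∀ g : G, i ≫ (ρ g).hom = i)
    (huniv : ∀ (W : AlgSp.Sp S) (x : W ⟶ F), (∀ g : G, x ≫ (ρ g).hom = x) → ∃! z : W ⟶ Z, z ≫ i = x) :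
    AlgSp.IsAlgSpace Z ∧ AlgSp.RepWith @IsClosedImmersion i := by
  classical
  have hfin : ∀ L : Finset G, ∃ (E : AlgSp.Sp S) (e : E ⟶ F), Mono e ∧ AlgSp.RepWith @IsClosedImmersion e ∧
      (∀ g ∈ L, e ≫ (ρ g).hom = e) ∧
      ∀ (W : AlgSp.Sp S) (x : W ⟶ F), (∀ g ∈ L, x ≫ (ρ g).hom = x) → ∃ z : W ⟶ E, z ≫ e = x := by
    intro L
    induction L using Finset.induction_on with
    | empty =>
      exact ⟨F, 𝟙 F, inferInstance, GrothLib.AlgSp.repWith_iso (𝟙 F), fun g hg => absurd hg (by simp),
        fun W x _ => ⟨x, Category.comp_id x⟩⟩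
    | insert g L _ ih =>
      obtain ⟨E, e, hem, her, hefix, heuniv⟩ := ih
      let E' := Limits.pullback (Limits.prod.lift e (e ≫ (ρ g).hom)) (Limits.diag F)
      let j : E' ⟶ E := Limits.pullback.fst _ _
      let d : E' ⟶ F := Limits.pullback.snd _ _
      haveI : Mono (Limits.diag F) := (IsSplitMono.mk' ⟨Limits.prod.fst, Limits.prod.lift_fst _ _⟩).mono
      haveI : Mono j := inferInstance
      haveI := hem
      have hc : j ≫ Limits.prod.lift e (e ≫ (ρ g).hom) = d ≫ Limits.diag F := Limits.pullback.condition
      have h1 : j ≫ e = d := by simpa [Limits.prod.lift_fst, Limits.prod.lift_snd] using congrArg (· ≫ Limits.prod.fst) hc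
      have h2 : j ≫ e ≫ (ρ g).hom = d := by simpa [Limits.prod.lift_fst, Limits.prod.lift_snd] using congrArg (· ≫ Limits.prod.snd) hc
      refine ⟨E', j ≫ e, inferInstance, GrothLib.AlgSp.repWith_comp
        (GrothLib.AlgSp.repWith_of_isPullback (IsPullback.of_hasPullback _ _).flip hsep) her, ?_, ?_⟩
      · intro g' hg'
        rw [Finset.mem_insert] at hg'
        rcases hg' with rfl | hg'
        · rw [Category.assoc, h2, h1]
        · rw [Category.assoc, hefix g' hg']
      · intro W x hx
        obtain ⟨z, hz⟩ := heuniv W x fun g' hg' => hx g' (Finset.mem_insert_of_mem hg')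
        refine ⟨Limits.pullback.lift z x ?_, by rw [Limits.pullback.lift_fst_assoc, hz]⟩
        apply Limits.prod.hom_ext
        · simp [hz, Limits.prod.lift_fst]
        · simp [reassoc_of% hz, Limits.prod.lift_snd, hx g (Finset.mem_insert_self g L)]
  haveI := Fintype.ofFinite G
  obtain ⟨E, e, hem, her, hefix, heuniv⟩ := hfin Finset.univ
  haveI := hem
  obtain ⟨z, hz⟩ := heuniv Z i fun g _ => hi g
  obtain ⟨w, hw, -⟩ := huniv E e fun g => hefix g (Finset.mem_univ g)
  haveI : IsIso z := ⟨w, (huniv Z i hi).unique (by rw [Category.assoc, hw, hz]) (Category.id_comp i),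
    by rw [← cancel_mono e, Category.assoc, hz, hw, Category.id_comp]⟩
  have hrep : AlgSp.RepWith @IsClosedImmersion i := by
    rw [← hz]
    exact GrothLib.AlgSp.repWith_comp (GrothLib.AlgSp.repWith_iso z) her
  exact ⟨GrothLib.AlgSp.isAlgSpace_of_representable hF hrep.1, hrep⟩

end Groth.Agent.S13210
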