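import Groth.Statements.S1323
import Groth.Agent.Lib.Deform6.Main
-- import your own Groth.Agent.* helpers here

set_option autoImplicit false
universe u
open FlatMor

namespace Groth.Agent.S1323

open AlgebraicGeometry CategoryTheory Limits in
/-- Let S ⟶ S' be a finite order thickening, let X' ⟶ Y' be a morphism of schemes over S' with X' flat
over S', and let X ⟶ Y be its base change to S. Then X ⟶ Y is finite locally free of rank d if and
only if X' ⟶ Y' is. -/
theorem result (d : ℕ) {X X' Y Y' S S' : Scheme.{u}} (iX : X ⟶ X') (iY : Y ⟶ Y') (iS : S ⟶ S')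
    (f : X ⟶ Y) (f' : X' ⟶ Y') (g : Y ⟶ S) (g' : Y' ⟶ S')
    (hS : MoreMor.IsFiniteOrderThickening iS) (hcX : IsPullback iX (f ≫ g) (f' ≫ g') iS) (hcY : IsPullback iY g g' iS)
    (w : iX ≫ f' = f ≫ iY) [Flat (f' ≫ g')] :
    Mor2.IsFinLocFreeOfDeg d f ↔ Mor2.IsFinLocFreeOfDeg d f' := by
  obtain ⟨⟨_, _⟩, hnil⟩ := hS
  have hc := IsPullback.of_bot hcX w hcY
  constructor
  · rintro ⟨⟨h1, h2, h3⟩, h4⟩
    have := GrothLib.Deform6.flat_of_deform hnil hcY hc
    have := GrothLib.Deform6.isFinite_of_deform hnil hcY hc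
    refine ⟨⟨‹_›, ‹_›, GrothLib.Deform6.locallyOfFinitePresentation_of_deform hnil hcY hc⟩, fun y' => ?_⟩
    have : Surjective iY := MorphismProperty.of_isPullback hcY.flip ‹_›
    obtain ⟨y, rfl⟩ := iY.surjective y'
    rw [← Scheme.Hom.finrank_of_isPullback _ _ _ _ hc, h4]
  · rintro ⟨⟨h1, h2, h3⟩, h4⟩
    refine ⟨⟨MorphismProperty.of_isPullback (P := @IsFinite) hc h1,
      MorphismProperty.of_isPullback (P := @Flat) hc h2,
      MorphismProperty.of_isPullback (P := @LocallyOfFinitePresentation) hc h3⟩, fun y => ?_⟩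
    rw [Scheme.Hom.finrank_of_isPullback _ _ _ _ hc, h4]

end Groth.Agent.S1323
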