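import Groth.Statements.S1329
import Groth.Agent.Lib.FibreDim6.Spread
-- import your own Groth.Agent.* helpers here

set_option autoImplicit false
universe u
open FlatMor

namespace Groth.Agent.S1329

open AlgebraicGeometry CategoryTheory Limits in
/-- Let f be of finite type with irreducible target. If the generic fibre has exactly n connected
components, then over some nonempty open of the target every fibre has at least n connected
components. -/
theorem result {X Y : Scheme.{u}} (f : X ⟶ Y) [IrreducibleSpace ↑Y] [LocallyOfFiniteType f] [QuasiCompact f] (n : ℕ)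
    (h : ENat.card (_root_.ConnectedComponents ↑(f.fiber (genericPoint ↑Y))) = n) :
    ∃ V : Y.Opens, (V : Set ↑Y).Nonempty ∧ ∀ y ∈ V, (n : ℕ∞) ≤ ENat.card (_root_.ConnectedComponents ↑(f.fiber y)) := by
  haveI : Finite (_root_.ConnectedComponents ↑(f.fiber (genericPoint ↑Y))) := by
    rw [← ENat.card_lt_top, h]
    exact ENat.natCast_lt_top n
  obtain ⟨V, hV, h'⟩ := GrothLib.FibreDim6.exists_le_card_connectedComponents f
  refine ⟨V, hV, fun y hy => ?_⟩
  obtain ⟨φ, hφ⟩ := h' y hy
  exact h ▸ ENat.card_le_card_of_injective hφ

end Groth.Agent.S1329
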