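import Groth.Statements.S1332
import Groth.Agent.Lib.FibreDim6.Scheme
-- import your own Groth.Agent.* helpers here

set_option autoImplicit false
universe u
open FlatMor

namespace Groth.Agent.S1332

open AlgebraicGeometry CategoryTheory Limits in
/-- Let f be of finite type with irreducible target. If the generic fibre has dimension n, then over
some nonempty open of the target every fibre has dimension n. -/
theorem result {X Y : Scheme.{u}} (f : X ⟶ Y) [IrreducibleSpace ↑Y] [LocallyOfFiniteType f] [QuasiCompact f] (n : ℕ)
    (h : topologicalKrullDim ↑(f.fiber (genericPoint ↑Y)) = n) :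
    ∃ V : Y.Opens, (V : Set ↑Y).Nonempty ∧ ∀ y ∈ V, topologicalKrullDim ↑(f.fiber y) = n := by
  obtain ⟨V, hV, hd⟩ := GrothLib.FibreDim6.exists_dim_fiber_eq f
  exact ⟨V, hV, fun y hy => (hd y hy).trans h⟩

end Groth.Agent.S1332
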