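import Groth.Statements.S13340
import Groth.Agent.Lib.FMod7.ComplExact
import Groth.Agent.Lib.FormalExist7.OpenPush
import Groth.Agent.S3854

set_option autoImplicit false
open CategoryTheory CategoryTheory.Limits
universe u
open FCompl

namespace Groth.Agent.S13340

open AlgebraicGeometry in
/-- Let X be a locally Noetherian scheme, 𝓘 a quasi-coherent ideal sheaf and X̂ the completion of X
along 𝓘 (the system of the closed subschemes of the powers of 𝓘, as a ringed space with structure
sheaf lim O_{X_k}). Completion F ↦ F̂ = lim_k (u_k)_* i_k^* F of coherent O_X-modules is exact: for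
a short exact sequence 0 → F' → F → F'' → 0 of coherent modules the induced sequence of completed
O_X̂-modules has zero composite and is short exact. -/
theorem result (X : Scheme.{u}) [IsLocallyNoetherian X] (𝓘 : X.IdealSheafData)
    (h : (FSch.completionAlong X 𝓘).IsFormal) (S : ShortComplex X.Modules) (hS : S.ShortExact)
    (h1 : Coh.IsCoh S.X₁) (h2 : Coh.IsCoh S.X₂) (h3 : Coh.IsCoh S.X₃) :
    FSch.ModSys.realModMap h (FSch.complModMap 𝓘 S.f) ≫ FSch.ModSys.realModMap h (FSch.complModMap 𝓘 S.g) = 0 ∧
      ∀ w : FSch.ModSys.realModMap h (FSch.complModMap 𝓘 S.f) ≫ FSch.ModSys.realModMap h (FSch.complModMap 𝓘 S.g) = 0,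
        (ShortComplex.mk _ _ w).ShortExact := by
  have hN := Groth.Agent.S3854.result X 𝓘
  have hc : ∀ F : X.Modules, Coh.IsCoh F → IsIso (GrothLib.FMod7.comparison h F) := fun F hF =>
    GrothLib.FMod7.isIso_comparison h F hN hF (fun k => GrothLib.FormalExist7.isCoh_pullbackMod _ hF)
  haveI := hc _ h1
  haveI := hc _ h2
  haveI := hc _ h3
  obtain ⟨w₀, hw₀⟩ := GrothLib.FMod7.shortExact_pull_of_flat (GrothLib.FMod7.complMor h)
    (GrothLib.FMod7.isFlat_complMor h) (S := (show ShortComplex (ModSite.Mod X.sheaf) from S)) hS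
  have hzero : FSch.ModSys.realModMap h (FSch.complModMap 𝓘 S.f) ≫ FSch.ModSys.realModMap h (FSch.complModMap 𝓘 S.g) = 0 := by
    apply (cancel_epi (GrothLib.FMod7.comparison h S.X₁)).1
    rw [← Category.assoc, ← GrothLib.FMod7.comparison_naturality, Category.assoc,
      ← GrothLib.FMod7.comparison_naturality, ← Category.assoc]
    exact (congrArg (· ≫ _) w₀).trans (zero_comp.trans comp_zero.symm)
  refine ⟨hzero, fun w => ShortComplex.shortExact_of_iso ?_ hw₀⟩
  exact ShortComplex.isoMk (asIso (GrothLib.FMod7.comparison h S.X₁)) (asIso (GrothLib.FMod7.comparison h S.X₂))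
    (asIso (GrothLib.FMod7.comparison h S.X₃)) (GrothLib.FMod7.comparison_naturality h S.f).symm
    (GrothLib.FMod7.comparison_naturality h S.g).symm

end Groth.Agent.S13340
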