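import Groth.Statements.S13347
import Groth.Agent.Lib.FFormal7.Sections

set_option autoImplicit false
open CategoryTheory CategoryTheory.Limits
universe u
open Opposite
open FCompl

namespace Groth.Agent.S13347

open AlgebraicGeometry in
/-- Let (X_i) be an inductive system of preschemes on one underlying space with surjective transition
homomorphisms whose kernels O_{X_i} → O_{X_0} are locally nilpotent — here a system of thickenings
(closed immersions surjective on points) with the kernel ideal of X_0 → X_i nilpotent on every
affine open of X_i — and O_𝔛 = lim O_{X_i} the structure sheaf of the formal prescheme it defines.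
Then the canonical homomorphisms O_𝔛 → O_{X_i} are surjective: over every affine open U of X_0 the
map on sections Γ(U, O_𝔛) → Γ(U_i, O_{X_i}) is onto. -/
theorem result (𝔛 : FSch.Sys.{u}) (h : 𝔛.IsFormal)
    (hb : ∀ (i : ℕ) (V : (𝔛.X i).affineOpens), IsNilpotent ((𝔛.toX i).ker.ideal V))
    (i : ℕ) (U : (𝔛.X 0).Opens) (hU : IsAffineOpen U) :
    Function.Surjective ((𝔛.OshProj h i).hom.app (op U)) := by
  exact GrothLib.FFormal7.OshProj_app_surjective 𝔛 h hU i

end Groth.Agent.S13347
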