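import Groth.Statements.S13351
import Groth.Agent.Lib.FFp7.Final
import Groth.Agent.Lib.FComp7.Rigid

set_option autoImplicit false
universe u
open FCompl

namespace Groth.Agent.S13351

open AlgebraicGeometry CategoryTheory GrothLib in
theorem har_alg (R : Type u) [CommRing R] (I : Ideal R) (hR : AdicRing.IsBase R I)
    (A : Type u) [CommRing A] [Algebra R A] (hA : AdicRing.TopFiniteType R I A) (n : ℕ)
    (K : Submodule A (Fin n → A)) :
    ∃ n₀, ∀ k, K ⊓ (I.map (algebraMap R A)) ^ (k + n₀) • ⊤ ≤ (I.map (algebraMap R A)) ^ k • K := by
  obtain ⟨n₀, hn₀⟩ := FComp7.exists_artinRees hR hA (M := ModuleCat.of A K) (N := ModuleCat.of A (Fin n → A))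
    (ModuleCat.ofHom K.subtype) Subtype.val_injective
  refine ⟨n₀, fun k x hx => ?_⟩
  have h1 := Submodule.mem_map_of_mem (f := K.subtype) (hn₀ k ⟨x, hx.1⟩ hx.2)
  rwa [Submodule.map_smul'', Submodule.map_subtype_top] at h1

open AlgebraicGeometry in
open CategoryTheory in
/-- Let R be a base ring of class (N) or (V) for the ideal I and A an R-algebra topologically of finite
presentation. Present Spf A as the completion of Spec A along IA, with structure sheaf the limit of
the structure sheaves of the closed subschemes V((IA)^(n+1)). Then every O_Spf A-module of finite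
presentation (for such formal schemes this is the same as coherent) is isomorphic to M^Δ, the limit
of the direct images of the modules associated to M/(IA)^(n+1)M, for some finitely presented (that
is, coherent) A-module M. -/
theorem result
    (R : Type u) [CommRing R] (I : Ideal R) (hR : AdicRing.IsBase R I)
    (A : Type u) [CommRing A] [Algebra R A] (hA : AdicRing.TopFinitePresentation R I A)
    (h : (FSch.completionAlong (Spec (CommRingCat.of A)) (FSch.idealSpec A (I.map (algebraMap R A)))).IsFormal)
    (F : FSch.ModF (FSch.completionAlong (Spec (CommRingCat.of A)) (FSch.idealSpec A (I.map (algebraMap R A)))) h)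
    (hF : FSch.IsCohF (FSch.completionAlong (Spec (CommRingCat.of A)) (FSch.idealSpec A (I.map (algebraMap R A)))) h F) :
    ∃ M : ModuleCat.{u} A, Module.FinitePresentation A M ∧
      Nonempty (F ≅ (FSch.complMod (FSch.idealSpec A (I.map (algebraMap R A))) (tilde M)).realMod h) := by
  have hT : AdicRing.TopFiniteType R I A := let ⟨n, φ, hφ, _⟩ := hA; ⟨n, φ, hφ⟩
  have : FSch.IsCohF _ h F := hF
  have : Module.Finite A (ModuleCat.of A A) := Module.Finite.self A
  have : IsAdicComplete (I.map (algebraMap R A)) A :=
    GrothLib.FComp7.isAdicComplete_map hR hT (ModuleCat.of A A)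
  have h𝓘 := GrothLib.FComp7.h𝓘_spec (R := R) (I := I) A
  have hJ := GrothLib.FComp7.fg_map (A := A) hR
  exact GrothLib.FFp7.exists_finitePresentation_iso_complMod (R := CommRingCat.of A) F h𝓘 hJ (har_alg R I hR A hT)

end Groth.Agent.S13351
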