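import Groth.Statements.S13353
import Groth.Agent.Lib.RigidBase.GenericFibre

set_option autoImplicit false
universe u
open scoped TensorProduct
open AdicRing

namespace Groth.Agent.S13353

/-- Let R be a complete valuation ring of height one with t a nonzero element generating an ideal of
definition and K its field of fractions, A an admissible R-algebra, f_1, ..., f_n elements of A ⊗_R
K integral over A, c a nonzero element of R and g_1, ..., g_n elements of A with g_i = c f_i in A
⊗_R K; put 𝔞 = (c, g_1, ..., g_n) and A' = A[f_1, ..., f_n] ⊂ A ⊗_R K. If D is an admissible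
R-algebra and φ : A → D an R-algebra homomorphism such that the ideal 𝔞D is generated by the image
of c, or by the image of some g_i, then 𝔞D is generated by c and φ extends to exactly one R-algebra
homomorphism A' → D. (This is the universal property through which Spf A' → Spf A is identified with
the formal blowing-up of 𝔞 on Spf A; the published hypothesis on the f_i is a supremum-seminorm
bound, from which their integrality over A is derived.) -/
theorem result
    (R : Type u) [CommRing R] [IsDomain R] [ValuationRing R] [Ring.KrullDimLE 1 R]
    (t : R) (ht : t ≠ 0) [IsAdicComplete (Ideal.span {t}) R]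
    (A : Type u) [CommRing A] [Algebra R A] (hA : AdicRing.Admissible R (Ideal.span {t}) A)
    (n : ℕ) (f : Fin n → A ⊗[R] FractionRing R) (hf : ∀ i, IsIntegral A (f i))
    (c : R) (hc : c ≠ 0) (g : Fin n → A)
    (hg : ∀ i, algebraMap A (A ⊗[R] FractionRing R) (g i) = c • f i)
    (D : Type u) [CommRing D] [Algebra R D] (hD : AdicRing.Admissible R (Ideal.span {t}) D)
    (φ : A →ₐ[R] D)
    (hgen : (Ideal.span (insert (algebraMap R A c) (Set.range g))).map φ =
          Ideal.span {algebraMap R D c} ∨
      ∃ i, (Ideal.span (insert (algebraMap R A c) (Set.range g))).map φ = Ideal.span {φ (g i)}) :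
    (Ideal.span (insert (algebraMap R A c) (Set.range g))).map φ = Ideal.span {algebraMap R D c} ∧
      ∃! ψ : ↥(Algebra.adjoin A (Set.range f)) →ₐ[R] D,
        ψ.comp (IsScalarTower.toAlgHom R A ↥(Algebra.adjoin A (Set.range f))) = φ := by
  exact GrothLib.RigidBase.existsUnique_extension_adjoin ht hA.2 f hf c hc g hg hD.2 φ hgen

end Groth.Agent.S13353
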