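import Groth.Statements.S13354
import Groth.Agent.Lib.RigidBase.GenericFibre

set_option autoImplicit false
universe u
open AdicRing

namespace Groth.Agent.S13354

/-- Let R be a complete valuation ring of height one with t a nonzero element generating an ideal of
definition, B an admissible R-algebra which is a local integral domain of Krull dimension one (the
algebra of a rig-point), and b_1, ..., b_n elements of B, not all zero. Then there is a B-subalgebra
B' of the field of fractions of B which is finite over B, is again a local ring of Krull dimension
one, and in which the ideal generated by b_1, ..., b_n is generated by one of the b_i alone (hence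
is invertible). (This is the algebraic step by which a rig-point is lifted along the formal
blowing-up of a finitely generated open ideal; the resulting bijection between rig-points of the
blowing-up and of the base is not stated here.) -/
theorem result
    (R : Type u) [CommRing R] [IsDomain R] [ValuationRing R] [Ring.KrullDimLE 1 R]
    (t : R) (ht : t ≠ 0) [IsAdicComplete (Ideal.span {t}) R]
    (B : Type u) [CommRing B] [Algebra R B] [IsDomain B] [IsLocalRing B]
    (hB : AdicRing.Admissible R (Ideal.span {t}) B) (hdim : ringKrullDim B = 1)
    (n : ℕ) (b : Fin n → B) (hb : ∃ i, b i ≠ 0) :
    ∃ B' : Subalgebra B (FractionRing B), Module.Finite B ↥B' ∧ IsLocalRing ↥B' ∧ ringKrullDim ↥B' = 1 ∧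
      ∃ i, Ideal.span (Set.range (fun j => algebraMap B ↥B' (b j))) =
        Ideal.span {algebraMap B ↥B' (b i)} := by
  have hT := GrothLib.RigidBase.injective_of_noPowTorsion ht hB.2
  obtain ⟨m, φ, hφ, -⟩ := hB.1
  have := GrothLib.RigidBase.finite_of_ringKrullDim_le_one ht ⟨m, φ, hφ⟩ hT hdim.le
  exact GrothLib.RigidBase.exists_finite_local_subalgebra ht hT b hb

end Groth.Agent.S13354
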