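import Groth.Statements.S13356
import Groth.Agent.Lib.GaDual.Char

set_option autoImplicit false
universe u
open GaDual

namespace Groth.Agent.S13356

/-- Over a commutative algebra A over the rationals, the polynomials f with f(0) = 1 and f(X+Y) =
f(X)f(Y) (the characters of the additive group into the multiplicative group over A) are exactly the
polynomials exp(aX) with a in A nilpotent. -/
theorem result (A : Type u) [CommRing A] [Algebra ℚ A] (f : Polynomial A) :
    (f.eval 0 = 1 ∧
      Polynomial.aeval (MvPolynomial.X 0 + MvPolynomial.X 1 : MvPolynomial (Fin 2) A) f =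
        Polynomial.aeval (MvPolynomial.X 0 : MvPolynomial (Fin 2) A) f *
          Polynomial.aeval (MvPolynomial.X 1 : MvPolynomial (Fin 2) A) f) ↔
      ∃ a : A, IsNilpotent a ∧ (f : PowerSeries A) = PowerSeries.rescale a (PowerSeries.exp A) := by
  rw [← Polynomial.coeff_zero_eq_eval_zero, GrothLib.GaDual.charEq_iff,
    GrothLib.GaDual.charSeq_rat_iff (fun n => f.coeff n)]
  refine ⟨fun h => ⟨f.coeff 1, ⟨f.natDegree + 1, ?_⟩, PowerSeries.ext fun n => ?_⟩, ?_⟩
  · have e := h (f.natDegree + 1)
    rw [Polynomial.coeff_eq_zero_of_natDegree_lt (Nat.lt_succ_self _)] at e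
    have hu : algebraMap ℚ A (1 / (f.natDegree + 1).factorial) * algebraMap ℚ A (f.natDegree + 1).factorial = 1 := by
      rw [← map_mul, one_div_mul_cancel (Nat.cast_ne_zero.2 (Nat.factorial_ne_zero _)), map_one]
    linear_combination (-algebraMap ℚ A (f.natDegree + 1).factorial) * e
      - f.coeff 1 ^ (f.natDegree + 1) * hu
  · rw [PowerSeries.coeff_rescale, PowerSeries.coeff_exp, Polynomial.coeff_coe]; exact h n
  · rintro ⟨a, -, h⟩ n
    have hc : ∀ m, f.coeff m = a ^ m * algebraMap ℚ A (1 / m.factorial) := fun m => by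
      rw [← Polynomial.coeff_coe, h, PowerSeries.coeff_rescale, PowerSeries.coeff_exp]
    rw [hc n, hc 1]
    simp

end Groth.Agent.S13356
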