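import Groth.Statements.S13360
import Groth.Agent.Lib.Misc6.PiLocal
-- import your own Groth.Agent.* helpers here

set_option autoImplicit false
universe u
open UltraProd

namespace Groth.Agent.S13360

/-- If (R_i) is a nonempty family of valuation rings, then the localization of the product ring ∏ R_i at
any prime ideal is a valuation ring: a domain in which, of any two elements, one divides the other. -/
theorem result {ι : Type u} [Nonempty ι] (R : ι → Type u)
    [∀ i, CommRing (R i)] [∀ i, IsDomain (R i)] [∀ i, ValuationRing (R i)]
    (P : Ideal (∀ i, R i)) [P.IsPrime] :
    IsDomain (Localization.AtPrime P) ∧ PreValuationRing (Localization.AtPrime P) := by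
  exact ⟨GrothLib.Misc6.isDomain_pi_localization P, GrothLib.Misc6.preValuationRing_pi_localization P⟩

end Groth.Agent.S13360
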