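import Groth.Statements.S13361
import Mathlib.GroupTheory.FiniteAbelian.Basic
import Mathlib.GroupTheory.OrderOfElement
import Mathlib.Data.ZMod.QuotientGroup

set_option autoImplicit false
universe u
open ProCompl

namespace Groth.Agent.S13361

open scoped DirectSum

/-- A finite abelian group with a nonzero element contained in every nonzero subgroup is isomorphic to a
cyclic group of prime-power order Z/p^n. -/
theorem result {A : Type u} [AddCommGroup A] [Finite A]
    (a : A) (ha : a ≠ 0) (h : ∀ B : AddSubgroup A, B ≠ ⊥ → a ∈ B) :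
    ∃ p n : ℕ, p.Prime ∧ Nonempty (A ≃+ ZMod (p ^ n)) := by
  classical
  obtain ⟨ι, _, n, hn, ⟨e⟩⟩ := AddCommGroup.equiv_directSum_zmod_of_finite' A
  have hι : ∀ i j : ι, i = j := fun i j => by
    by_contra hij
    have key : ∀ k, ∃ x, e.symm (DirectSum.of (fun i => ZMod (n i)) k x) = a := fun k => by
      have : Fact (1 < n k) := ⟨hn k⟩
      let φ : ZMod (n k) →+ A := e.symm.toAddMonoidHom.comp (DirectSum.of (fun i => ZMod (n i)) k)
      have hne : φ.range ≠ ⊥ := fun hb => by
        have h1 : φ 1 = 0 := by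
          rw [← AddSubgroup.mem_bot, ← hb]; exact ⟨1, rfl⟩
        have := DirectSum.of_injective (β := fun i => ZMod (n i)) k (e.symm.injective (h1.trans (by simp : (0 : A) = e.symm (DirectSum.of (fun i => ZMod (n i)) k 0))))
        exact one_ne_zero this
      exact h _ hne
    obtain ⟨x, hx⟩ := key i
    obtain ⟨y, hy⟩ := key j
    have h1 := congrArg (fun v : ⨁ i, ZMod (n i) => v i) (e.symm.injective (hx.trans hy.symm))
    simp only [DirectSum.of_eq_same, DirectSum.of_eq_of_ne _ _ _ hij] at h1
    exact ha (by rw [← hx, h1, map_zero, map_zero])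
  rcases isEmpty_or_nonempty ι with hE | ⟨⟨i⟩⟩
  · exact absurd (e.injective (Subsingleton.elim _ _)) ha
  let _ : Unique ι := ⟨⟨i⟩, fun j => hι j i⟩
  let f : A ≃+ ZMod (n default) := e.trans (AddEquiv.ofBijective (DirectSum.of (fun i => ZMod (n i)) default)
    ⟨DirectSum.of_injective _, fun v => ⟨v default, DFinsupp.ext fun j => by
      obtain rfl : j = default := Unique.eq_default j
      exact DirectSum.of_eq_same _ _⟩⟩).symm
  set N := n default with hN
  have hN1 : 1 < N := hn default
  have hord : ∀ p, p.Prime → p ∣ N → addOrderOf a = p := fun p hp hpN => by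
    obtain ⟨d, hd⟩ := hpN
    have hd0 : 0 < d := Nat.pos_of_ne_zero fun h0 => by rw [h0, mul_zero] at hd; omega
    let b : A := f.symm (d : ZMod N)
    have hb : b ≠ 0 := fun hb0 => by
      have h1 : ((d : ℕ) : ZMod N) = 0 := by simpa [b] using hb0
      rw [ZMod.natCast_eq_zero_iff] at h1
      have := Nat.le_of_dvd hd0 h1
      have := hp.two_le
      nlinarith
    have hpb : p • b = 0 := by
      rw [← map_nsmul, nsmul_eq_mul, ← Nat.cast_mul, ← hd, ZMod.natCast_self, map_zero]
    obtain ⟨k, hk⟩ := h (AddSubgroup.zmultiples b) (by simpa [AddSubgroup.zmultiples_eq_bot] using hb)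
    have hpa : p • a = 0 := by rw [← hk]; show p • (k • b) = 0; rw [smul_comm, hpb, smul_zero]
    have : Fact p.Prime := ⟨hp⟩
    exact addOrderOf_eq_prime hpa ha
  obtain ⟨p, hp, hpN⟩ := Nat.exists_prime_and_dvd (n := N) (by omega)
  refine ⟨p, N.factorization p, hp, ⟨f.trans (ZMod.ringEquivCongr ?_).toAddEquiv⟩⟩
  have hu : ∀ q, q.Prime → q ∣ N → q = p := fun q hq hqN => (hord q hq hqN).symm.trans (hord p hp hpN)
  have hpow := Nat.eq_prime_pow_of_unique_prime_dvd (p := p) (n := N) (by omega) (fun {q} hq hqN => hu q hq hqN)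
  conv_rhs => rw [hpow, hp.factorization_pow, Finsupp.single_eq_same]
  exact hpow

end Groth.Agent.S13361
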