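import Groth.Statements.S13362
import Groth.Agent.S13361
import Mathlib.GroupTheory.FiniteAbelian.Basic

set_option autoImplicit false
universe u
open ProCompl

namespace Groth.Agent.S13362

/-- An abelian group of finite exponent having a nonzero element contained in every nonzero subgroup is
finite. -/
theorem result {A : Type u} [AddCommGroup A]
    (hA : AddMonoid.exponent A ≠ 0) (a : A) (ha : a ≠ 0) (h : ∀ B : AddSubgroup A, B ≠ ⊥ → a ∈ B) :
    Finite A := by
  classical
  obtain ⟨N, hN⟩ : ∃ N, N = AddMonoid.exponent A := ⟨_, rfl⟩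
  have key : ∀ s : Finset A, s.card ≤ N := fun s => by
    let H := AddSubgroup.closure (↑(insert a s) : Set A)
    have hfg : AddGroup.FG H := (AddGroup.fg_iff_addSubgroup_fg H).2 ⟨insert a s, rfl⟩
    have htor : IsAddTorsion H := fun x => isOfFinAddOrder_iff_nsmul_eq_zero.2
      ⟨N, Nat.pos_of_ne_zero (hN ▸ hA), Subtype.ext (hN ▸ AddMonoid.exponent_nsmul_eq_zero (x : A))⟩
    have : Finite H := AddCommGroup.finite_of_fg_torsion H htor
    let a' : H := ⟨a, AddSubgroup.subset_closure (Finset.mem_insert_self a s)⟩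
    obtain ⟨p, k, hp, ⟨e⟩⟩ := Groth.Agent.S13361.result a' (fun h0 => ha (congrArg Subtype.val h0)) fun B hB => by
      obtain ⟨y, hy, hyeq⟩ := h (B.map H.subtype) (fun hb => hB (by
        rw [← AddSubgroup.map_eq_bot_iff_of_injective B H.subtype_injective, hb]))
      rwa [show a' = y from (Subtype.ext hyeq).symm]
    have : NeZero (p ^ k) := ⟨pow_ne_zero _ hp.ne_zero⟩
    have hcard : Nat.card H = p ^ k := by rw [Nat.card_congr e.toEquiv, Nat.card_zmod]
    have hle : p ^ k ∣ N := by
      have h1 := AddMonoid.exponent_nsmul_eq_zero ((e.symm 1 : H) : A)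
      rw [← hN, ← AddSubgroup.coe_nsmul, ZeroMemClass.coe_eq_zero, ← map_nsmul, EmbeddingLike.map_eq_zero_iff,
        nsmul_eq_mul, mul_one, ZMod.natCast_eq_zero_iff] at h1
      exact h1
    refine le_trans ?_ (Nat.le_of_dvd (Nat.pos_of_ne_zero (hN ▸ hA)) hle)
    rw [← hcard, show Nat.card H = Set.ncard (H : Set A) from Nat.card_coe_set_eq _, ← Set.ncard_coe_finset]
    exact Set.ncard_le_ncard (fun x hx => AddSubgroup.subset_closure (Finset.mem_insert_of_mem hx)) (Set.toFinite (H : Set A))
  by_contra hfin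
  rw [not_finite_iff_infinite] at hfin
  obtain ⟨s, hs⟩ := Infinite.exists_subset_card_eq A (N + 1)
  have := key s
  omega

end Groth.Agent.S13362
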