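import Groth.Statements.S13363
import Mathlib.Algebra.Module.CharacterModule
import Mathlib.Topology.Algebra.OpenSubgroup
import Mathlib.GroupTheory.OrderOfElement
import Mathlib.Topology.Instances.AddCircle.Defs

set_option autoImplicit false
universe u
open ProCompl

namespace Groth.Agent.S13363

/-- Let A be a topological abelian group such that the subgroup n·A is open for each n > 0, and a ∈ A.
Then A has an open subgroup of finite index not containing a if and only if a does not lie in the
subgroup of divisible elements ∩_n nA. -/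
theorem result {A : Type u} [AddCommGroup A]
    [TopologicalSpace A] [IsTopologicalAddGroup A]
    (hn : ∀ n : ℕ, 0 < n → IsOpen (Set.range (fun x : A => n • x))) (a : A) :
    (∃ B : AddSubgroup A, IsOpen (B : Set A) ∧ B.FiniteIndex ∧ a ∉ B) ↔
      ¬ (∀ n : ℕ, 0 < n → ∃ b : A, n • b = a) := by
  constructor
  · rintro ⟨B, _, hfi, haB⟩ hdiv
    obtain ⟨b, rfl⟩ := hdiv B.index (Nat.pos_of_ne_zero hfi.index_ne_zero)
    exact haB (B.nsmul_index_mem b)
  · intro h
    push Not at h
    obtain ⟨n, hn0, hna⟩ := h
    let N : AddSubgroup A := (nsmulAddMonoidHom n).range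
    have hane : (QuotientAddGroup.mk' N a) ≠ 0 := by
      rw [QuotientAddGroup.mk'_apply, Ne, QuotientAddGroup.eq_zero_iff]
      rintro ⟨b, hb⟩; exact hna b hb
    obtain ⟨χ, hχ⟩ := CharacterModule.exists_character_apply_ne_zero_of_ne_zero hane
    let ψ : A →+ AddCircle (1 : ℚ) := AddMonoidHom.comp χ (QuotientAddGroup.mk' N)
    have hN : N ≤ ψ.ker := fun x hx => by
      show χ (QuotientAddGroup.mk' N x) = 0
      rw [QuotientAddGroup.mk'_apply, (QuotientAddGroup.eq_zero_iff x).mpr hx, map_zero]
    refine ⟨ψ.ker, AddSubgroup.isOpen_mono hN (hn n hn0), ⟨?_⟩, hχ⟩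
    rw [AddSubgroup.index_ker]
    haveI : Finite ψ.range := by
      apply Set.Finite.to_subtype
      refine Set.Finite.subset (AddCircle.finite_torsion (p := (1 : ℚ)) hn0) ?_
      rintro _ ⟨x, rfl⟩
      show n • ψ x = 0
      rw [← map_nsmul]; exact hN ⟨x, rfl⟩
    exact Nat.card_pos.ne'

end Groth.Agent.S13363
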