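import Groth.Statements.S13365
import Mathlib.Topology.Algebra.ClopenNhdofOne

set_option autoImplicit false
universe u
open ProCompl

namespace Groth.Agent.S13365

/-- The quotient of a profinite (compact, Hausdorff, totally disconnected) abelian topological group by
a compact subgroup is profinite. -/
theorem result {A : Type u} [AddCommGroup A] [TopologicalSpace A]
    [IsTopologicalAddGroup A] [CompactSpace A] [T2Space A] [TotallyDisconnectedSpace A]
    (B : AddSubgroup A) (hB : IsCompact (B : Set A)) :
    CompactSpace (A ⧸ B) ∧ T2Space (A ⧸ B) ∧ TotallyDisconnectedSpace (A ⧸ B) := by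
  haveI : IsClosed (B : Set A) := hB.isClosed
  haveI h2 : T2Space (A ⧸ B) := inferInstance
  refine ⟨inferInstance, h2, ?_⟩
  haveI : TotallySeparatedSpace (A ⧸ B) := by
    rw [totallySeparatedSpace_iff_exists_isClopen]
    intro x y hxy
    obtain ⟨a, rfl⟩ := QuotientAddGroup.mk_surjective x
    obtain ⟨b, rfl⟩ := QuotientAddGroup.mk_surjective y
    have hmem : -a + b ∉ B := fun h => hxy (QuotientAddGroup.eq.mpr h)
    have hB' := ProfiniteGrp.closedAddSubgroup_eq_sInf_open (G := A) ⟨B, hB.isClosed⟩
    obtain ⟨U, ⟨hU, hBU⟩, habU⟩ : ∃ U ∈ {N : AddSubgroup A | IsOpen (N : Set A) ∧ B ≤ N}, -a + b ∉ U := by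
      by_contra hc
      push Not at hc
      apply hmem
      change -a + b ∈ (ClosedAddSubgroup.toAddSubgroup ⟨B, hB.isClosed⟩ : AddSubgroup A)
      rw [hB', AddSubgroup.mem_sInf]
      exact hc
    haveI : DiscreteTopology (A ⧸ U) := QuotientAddGroup.discreteTopology hU
    let q : A ⧸ B → A ⧸ U := QuotientAddGroup.map B U (AddMonoidHom.id A) (by simpa using hBU)
    have hq : Continuous q := by
      apply (QuotientAddGroup.isQuotientMap_mk B).continuous_iff.mpr
      exact QuotientAddGroup.continuous_mk
    refine ⟨q ⁻¹' {(a : A ⧸ U)}, (isClopen_discrete _).preimage hq, rfl, ?_⟩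
    intro h
    exact habU (QuotientAddGroup.eq.mp (Set.mem_singleton_iff.mp h).symm)
  infer_instance

end Groth.Agent.S13365
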