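import Groth.Statements.S13366
import Groth.Agent.Lib.FrobMatrix

set_option autoImplicit false
universe u v
open FrobMod

namespace Groth.Agent.S13366

/-- Over a strictly Henselian local ring R of prime characteristic p (Henselian, separably closed
residue field), let M be a free module of finite rank n and T an additive Frobenius-semilinear
self-map of M (T(rm) = r^p T(m)) whose values generate M as an R-module; for a basis (e_i) this says
that the matrix of coefficients of the elements T(e_i) is invertible. Then the map T − 1 is
surjective and its kernel has cardinality p^n. (The published statement calls T a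
Frobenius-semilinear isomorphism; this row asks only that the values of T generate M over R, which
is the property of T the published proof uses. Requiring T itself to be bijective would, for M ≠ 0,
force the Frobenius of R to be surjective.) -/
theorem result (p : ℕ) [Fact p.Prime] {R : Type u} [CommRing R]
    [HenselianLocalRing R] [IsSepClosed (IsLocalRing.ResidueField R)] [CharP R p]
    {M : Type v} [AddCommGroup M] [Module R M] [Module.Free R M] [Module.Finite R M]
    (T : M →+ M) (hT : ∀ (r : R) (m : M), T (r • m) = r ^ p • T m)
    (hspan : Submodule.span R (Set.range T) = ⊤) :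
    Function.Surjective (fun m => T m - m) ∧ Nat.card {m : M // T m = m} = p ^ Module.finrank R M := by
  classical
  let bas := Module.finBasis R M
  let f : (Fin (Module.finrank R M) → R) ≃ₗ[R] M := bas.equivFun.symm
  let a : Matrix (Fin (Module.finrank R M)) (Fin (Module.finrank R M)) R :=
    fun i j => bas.equivFun (T (bas j)) i
  have hfs : ∀ j, f (Pi.single j 1) = bas j := fun j => by
    simp [f, Module.Basis.equivFun_symm_apply, Pi.single_apply]
  have ha : ∀ j, f.toLinearMap (a.col j) = T (f.toLinearMap (Pi.single j 1)) := fun j => by
    show f (bas.equivFun (T (bas j))) = T (f (Pi.single j 1))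
    rw [hfs, LinearEquiv.symm_apply_apply]
  have hsys := FrobMatrix.map_system p f.toLinearMap T hT a ha
  have hcol := FrobMatrix.span_residual f.toLinearMap f.surjective
    (fun d hd i => by
      rw [f.map_eq_zero_iff.1 hd]
      exact zero_mem _) a (by
      refine eq_top_iff.2 (hspan.ge.trans (Submodule.span_le.2 ?_))
      rintro _ ⟨m, rfl⟩
      rw [SetLike.mem_coe, Submodule.mem_span_range_iff_exists_fun]
      refine ⟨fun j => f.symm m j ^ p, ?_⟩
      simp only [ha, LinearEquiv.coe_coe, hfs]
      conv_rhs => rw [← bas.sum_equivFun m]
      rw [map_sum]
      simp [hT, f])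
  refine ⟨FrobMatrix.surjective_sub_id p _ f.surjective T hT a ha hcol, ?_⟩
  rw [← FrobMatrix.natCard_fixed_vectors p a hcol]
  refine (Nat.card_congr (f.toEquiv.subtypeEquiv fun x => ?_)).symm
  show (∀ i, _) ↔ T (f x) = f x
  have h : f (fun i => ∑ j, a i j * x j ^ p) = T (f x) := hsys x
  rw [← h, f.injective.eq_iff, funext_iff]

end Groth.Agent.S13366
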