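import Groth.Statements.S13367
import Groth.Agent.Lib.FrobMatrix

set_option autoImplicit false
universe u v
open FrobMod

namespace Groth.Agent.S13367

/-- Over a strictly Henselian discrete valuation ring R of prime characteristic p with residue field κ,
for a finitely generated module M with n = dim_κ(κ ⊗ M) and a Frobenius-semilinear additive
bijection T of M (T(rm) = r^p T(m)), the map T − 1 is surjective and its kernel has cardinality p^n. -/
theorem result (p : ℕ) [Fact p.Prime] {R : Type u} [CommRing R] [IsDomain R]
    [IsDiscreteValuationRing R] [HenselianLocalRing R] [IsSepClosed (IsLocalRing.ResidueField R)] [CharP R p]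
    {M : Type v} [AddCommGroup M] [Module R M] [Module.Finite R M]
    (T : M →+ M) (hT : ∀ (r : R) (m : M), T (r • m) = r ^ p • T m) (hbij : Function.Bijective T) :
    Function.Surjective (fun m => T m - m) ∧
      Nat.card {m : M // T m = m} =
        p ^ Module.finrank (IsLocalRing.ResidueField R) (TensorProduct R (IsLocalRing.ResidueField R) M) := by
  classical
  let κ := IsLocalRing.ResidueField R
  let n := Module.finrank κ (TensorProduct R κ M)
  let bas : Module.Basis (Fin n) κ (TensorProduct R κ M) := Module.finBasis κ _
  choose g hg using fun j => TensorProduct.mk_surjective R M κ IsLocalRing.residue_surjective (bas j)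
  have hgspan : Submodule.span R (Set.range g) = ⊤ :=
    IsLocalRing.span_eq_top_of_tmul_eq_basis g bas hg
  let f : (Fin n → R) →ₗ[R] M := Fintype.linearCombination R g
  have hf : Function.Surjective f := by
    rw [← LinearMap.range_eq_top, Fintype.range_linearCombination, hgspan]
  have hfs : ∀ j, f (Pi.single j 1) = g j := fun j => by
    simp [f, Fintype.linearCombination_apply_single]
  have hker : ∀ d, f d = 0 → ∀ i, d i ∈ IsLocalRing.maximalIdeal R := fun d hd i => by
    have h0 : ∑ j, IsLocalRing.residue R (d j) • bas j = 0 := by
      have := congrArg (fun m => (1 : κ) ⊗ₜ[R] m) hd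
      simp only [f, Fintype.linearCombination_apply, TensorProduct.tmul_sum,
        TensorProduct.tmul_smul, TensorProduct.tmul_zero] at this
      have hg' : ∀ j, (1 : κ) ⊗ₜ[R] g j = bas j := hg
      simp only [hg'] at this
      rw [← this]
      exact Finset.sum_congr rfl fun j _ => algebraMap_smul κ (d j) (bas j)
    rw [← IsLocalRing.residue_eq_zero_iff]
    exact Fintype.linearIndependent_iff.1 bas.linearIndependent _ h0 i
  choose c hc using fun j => hf (T (g j))
  let a : Matrix (Fin n) (Fin n) R := fun i j => c j i
  have ha : ∀ j, f (a.col j) = T (f (Pi.single j 1)) := fun j => by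
    rw [hfs]; exact hc j
  have hsys := FrobMatrix.map_system p f T hT a ha
  have hcol := FrobMatrix.span_residual f hf hker a (by
    rw [eq_top_iff]
    intro m _
    obtain ⟨v, rfl⟩ := hbij.2 m
    obtain ⟨x, rfl⟩ := hf v
    rw [Submodule.mem_span_range_iff_exists_fun]
    refine ⟨fun j => x j ^ p, ?_⟩
    simp only [ha, hfs]
    simp [f, Fintype.linearCombination_apply, map_sum, hT])
  refine ⟨FrobMatrix.surjective_sub_id p f hf T hT a ha hcol, ?_⟩
  have hp := (Fact.out : p.Prime)
  -- a fixed vector in `𝔪 M` vanishes
  have krull : ∀ m : M, T m = m → m ∈ (IsLocalRing.maximalIdeal R) • (⊤ : Submodule R M) → m = 0 := by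
    intro m hm hmem
    have hall : ∀ i : ℕ, m ∈ (IsLocalRing.maximalIdeal R) ^ (i + 1) • (⊤ : Submodule R M) := by
      intro i
      induction i with
      | zero => simpa using hmem
      | succ i ih =>
        rw [← hm]
        refine Submodule.smul_induction_on ih (fun r hr v _ => ?_) (fun x y hx hy => ?_)
        · rw [hT]
          refine Submodule.smul_mem_smul ?_ Submodule.mem_top
          have h1 := Ideal.pow_mem_pow hr p
          rw [← pow_mul] at h1
          refine Ideal.pow_le_pow_right ?_ h1
          have h2 : (i + 1) * 2 ≤ (i + 1) * p := Nat.mul_le_mul_left _ hp.two_le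
          omega
        · rw [map_add]; exact add_mem hx hy
    have hK := Ideal.iInf_pow_smul_eq_bot_of_isLocalRing (M := M)
      (IsLocalRing.maximalIdeal R) (IsLocalRing.maximalIdeal.isMaximal R).ne_top
    rw [← Submodule.mem_bot R, ← hK, Submodule.mem_iInf]
    intro i
    rcases i with _ | i
    · simp
    · exact hall i
  rw [← FrobMatrix.natCard_fixed_vectors p a hcol]
  refine (Nat.card_eq_of_bijective (fun x => (⟨f x.1, by
    rw [← hsys]; exact congrArg f (funext x.2)⟩ : {m : M // T m = m})) ⟨fun x x' h => ?_, fun m => ?_⟩).symm
  · refine Subtype.ext (sub_eq_zero.1 (FrobMatrix.eq_zero_of_fixed p a _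
      (hker _ ?_) fun i => ?_))
    · rw [map_sub, sub_eq_zero]; exact congrArg Subtype.val h
    · simp [sub_pow_char, mul_sub, x.2 i, x'.2 i]
  · obtain ⟨x, hx⟩ := hf m.1
    let k : Fin n → R := fun i => ∑ j, a i j * x j ^ p - x i
    have hk : f k = 0 := by
      have : k = (fun i => ∑ j, a i j * x j ^ p) - x := rfl
      rw [this, map_sub, hsys, hx, m.2, sub_self]
    obtain ⟨y, hy, hy0⟩ := FrobMatrix.exists_lift p a k 0 (fun i => by
      simpa [zero_pow hp.ne_zero] using hker k hk i)
    have hfy : f y = 0 := by
      refine krull _ ?_ ?_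
      · rw [← sub_eq_zero, ← hsys, ← map_sub, ← hk]
        exact congrArg f (funext hy)
      · simp only [f, Fintype.linearCombination_apply]
        exact Submodule.sum_mem _ fun j _ =>
          Submodule.smul_mem_smul (by simpa using hy0 j) Submodule.mem_top
    refine ⟨⟨x - y, fun i => ?_⟩, Subtype.ext ?_⟩
    · have := hy i
      simp only [k, Pi.sub_apply, sub_pow_char, mul_sub, Finset.sum_sub_distrib] at this ⊢
      linear_combination (-1 : R) * this
    · simp [hfy, hx]

end Groth.Agent.S13367
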