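import Groth.Statements.S13368
import Groth.Agent.Lib.DvrPBasis.Basic

set_option autoImplicit false
universe u
open GaDual

namespace Groth.Agent.S13368

/-- Let R be a discrete valuation ring of prime characteristic p whose fraction field k has degree p
over its subfield k^p of p-th powers, and π a uniformizer. Then every element of R is, in a unique
way, a sum of π^i c_i^p over 0 ≤ i < p with c_i in R, and the Kähler differentials of R (absolute,
i.e. over the integers, equivalently over the prime field) form a free module of rank one generated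
by dπ. -/
theorem result (p : ℕ) [Fact p.Prime] {R : Type u} [CommRing R]
    [IsDomain R] [IsDiscreteValuationRing R] [CharP R p]
    (kp : Subfield (FractionRing R)) (hkp : ∀ x : FractionRing R, x ∈ kp ↔ ∃ y : FractionRing R, y ^ p = x)
    (hdeg : Module.finrank kp (FractionRing R) = p)
    (π : R) (hπ : Irreducible π) :
    (∀ r : R, ∃! c : Fin p → R, r = ∑ i : Fin p, π ^ (i : ℕ) * c i ^ p) ∧
      Function.Bijective (fun r : R => r • KaehlerDifferential.D ℤ R π) := by
  have hex := GrothLib.DvrPBasis.exists_coeff hπ kp hkp hdeg
  refine ⟨fun r => ?_, GrothLib.DvrPBasis.bijective hπ fun r => ?_⟩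
  · obtain ⟨c, hc⟩ := hex r
    refine ⟨c, hc, fun d hd => funext fun i => ?_⟩
    refine sub_eq_zero.mp (GrothLib.DvrPBasis.eq_zero_of_sum_eq_zero hπ (fun j => d j - c j) ?_ i)
    simp only [sub_pow_char, mul_sub, Finset.sum_sub_distrib, ← hd, ← hc, sub_self]
  · obtain ⟨c, hc⟩ := hex r
    exact ⟨_, (GrothLib.DvrPBasis.ev_sum c).trans hc.symm⟩

end Groth.Agent.S13368
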