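import Groth.Statements.S13370
import Groth.Agent.Lib.GaUnits.Basic

set_option autoImplicit false
universe u
open GaDual

namespace Groth.Agent.S13370

open AlgebraicGeometry in
/-- Over a reduced scheme X, each invertible global function on 𝔸ⁿ_X comes, by pullback along the
projection to X, from an invertible global function on X. -/
theorem result (n : Type u) [Finite n] (X : Scheme.{u}) [IsReduced X]
    (w : Γ(𝔸(n; X), ⊤)) (hw : IsUnit w) :
    ∃ v : Γ(X, ⊤), IsUnit v ∧ (𝔸(n; X) ↘ X).appTop v = w := by
  exact GrothLib.GaUnits.exists_unit X w hw

end Groth.Agent.S13370
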