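import Groth.Statements.S13371
import Groth.Agent.Lib.GaUnits.Basic

set_option autoImplicit false
universe u
open GaDual

namespace Groth.Agent.S13371

open CategoryTheory AlgebraicGeometry MonObj CartesianMonoidalCategory in
/-- If S is a reduced scheme, every homomorphism of S-group schemes from the additive group to the
multiplicative group over S is the trivial homomorphism. -/
theorem result (S : Scheme.{u}) [IsReduced S] (φ : Red.Ga S ⟶ Red.Gm S)
    [IsMonHom φ] : φ = 1 := by
  exact GrothLib.GaUnits.hom_eq_one φ

end Groth.Agent.S13371
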