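import Groth.Statements.S13372
import Groth.Agent.Lib.FppfH90Sch6.Main
import Groth.Agent.Lib.GaPic6.Main
import Groth.Agent.Lib.GaUnits.Basic
import Groth.Agent.Lib.PullH25.Ext
import Groth.Agent.S13380
-- import your own Groth.Agent.* helpers here

set_option autoImplicit false
set_option backward.isDefEq.respectTransparency false
set_option backward.isDefEq.respectTransparency.types false
set_option linter.style.haveILetI false
set_option maxHeartbeats 1000000
set_option synthInstance.maxHeartbeats 200000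
universe u
open GaDual

namespace Groth.Agent.S13372

open CategoryTheory CategoryTheory.Limits AlgebraicGeometry Opposite MonoidalCategory CartesianMonoidalCategory MonObj
open GrothLib.GaDualQ13 (GaSh GmSh gmSec gmVal gmVal_gmSec gmVal_injective gmVal_map gmVal_add gmVal_zero isUnit_gmVal extOb extHom toExt toExt_bijective appTop_extHom)

local notation "fppf" => Scheme.fppfPrecoverage

/-- Every extension of the additive by the multiplicative group splits on points. -/
theorem exists_factor (p : ℕ) [Fact p.Prime] (R : Type u) [CommRing R] [CharP R p]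
    (hF : Function.Surjective (frobenius R p))
    {B Q : BigSite.Ab fppf (Spec (CommRingCat.of R))} (i : GmSh (Spec (CommRingCat.of R)) ⟶ B) (π : B ⟶ Q)
    (w : i ≫ π = 0) (hC : (ShortComplex.mk i π w).ShortExact) (φ : GaSh (Spec (CommRingCat.of R)) ⟶ Q) :
    ∃ ψ : GaSh (Spec (CommRingCat.of R)) ⟶ B, ψ ≫ π = φ := by
  let X := Spec (CommRingCat.of R)
  let G := Red.Ga X
  let A := GaSh X
  let pt : ∀ {T : Over X}, (T ⟶ G) → A.obj.obj (op T) := fun x => ULift.up.{u + 1} (Additive.ofMul x)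
  have hpt : ∀ {T T' : Over X} (h : T' ⟶ T) (x : T ⟶ G), A.obj.map h.op (pt x) = pt (h ≫ x) := fun h x => rfl
  have hptm : ∀ {T : Over X} (x y : T ⟶ G), pt (x * y) = pt x + pt y := fun x y => rfl
  have hpt1 : ∀ {T : Over X}, pt (1 : T ⟶ G) = 0 := rfl
  let U₀ : Over X := 𝟙_ (Over X)
  haveI : IsAffine U₀.left := inferInstanceAs (IsAffine (Spec (CommRingCat.of R)))
  -- lift the universal section on the affine line
  let Y : Over X := Over.mk (AffineSpace PUnit.{u + 1} X ↘ X)
  let d : Y ⟶ G := GrothLib.RedPts.gaPt (AffineSpace.coord X PUnit.unit)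
  let e : G ⟶ Y := Over.homMk (AffineSpace.homOfVector G.hom fun _ => Red.gaFn (𝟙 G)) (AffineSpace.homOfVector_over _ _)
  have hd : Red.gaFn d = AffineSpace.coord X PUnit.unit := GrothLib.RedPts.gaFn_gaPt _
  have he : e ≫ d = 𝟙 G := GrothLib.RedPts.gaFn_injective (by
    rw [GrothLib.RedPts.gaFn_comp, hd]
    exact AffineSpace.homOfVector_appTop_coord _ _ _)
  obtain ⟨tY, htY⟩ := GrothLib.FppfH90Sch6.exists_lift_of_triv i π w hC (φ.hom.app (op Y) (pt d)) (fun c h => by
    let z : U₀ ⟶ Y := Over.homMk (GrothLib.PicAff28.zsec PUnit.{u + 1} X) GrothLib.PicAff28.zsec_over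
    refine GrothLib.GaPic6.triv_of_zsec p (CommRingCat.of R) hF c (h z ⟨0, ?_⟩)
    rw [map_zero, ← NatTrans.naturality_apply, hpt]
    have hz : z ≫ d = 1 := GrothLib.RedPts.gaFn_injective (by
      rw [GrothLib.RedPts.gaFn_comp, hd, GrothLib.GaUnits.gaFn_one]
      exact AffineSpace.homOfVector_appTop_coord _ _ _)
    rw [hz, hpt1, map_zero])
  obtain ⟨t₁, ht₁⟩ : ∃ t₁, t₁ = B.obj.map e.op tY := ⟨_, rfl⟩
  have hgt₁ : ∀ {T : Over X} (x : T ⟶ G), π.hom.app (op T) (B.obj.map x.op t₁) = φ.hom.app (op T) (pt x) := by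
    intro T x
    simp only [ht₁, GrothLib.AdeqMod20.map_comp_app]
    refine (NatTrans.naturality_apply π.hom (x ≫ e).op tY).trans ((congrArg _ htY).trans ?_)
    refine (NatTrans.naturality_apply φ.hom (x ≫ e).op _).symm.trans (congrArg _ ?_)
    exact (hpt (x ≫ e) d).trans (congrArg pt (by rw [Category.assoc, he, Category.comp_id]))
  have hinj : ∀ (T : Over X), Function.Injective (i.hom.app (op T)) := fun T =>
    GrothLib.FppfH90Sch6.f_injective i π w hC T
  have hker : ∀ (T : Over X) (b : B.obj.obj (op T)), π.hom.app (op T) b = 0 ↔ ∃ a, i.hom.app (op T) a = b := fun T b =>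
    GrothLib.FppfH90Sch6.g_eq_zero_iff i π w hC T b
  -- normalise at the origin
  obtain ⟨v₀, hv₀⟩ := (hker U₀ (B.obj.map (1 : U₀ ⟶ G).op t₁)).1 (by rw [hgt₁, hpt1, map_zero])
  obtain ⟨t, ht⟩ : ∃ t, t = t₁ - B.obj.map (toUnit G).op (i.hom.app (op U₀) v₀) := ⟨_, rfl⟩
  have hgt : ∀ {T : Over X} (x : T ⟶ G), π.hom.app (op T) (B.obj.map x.op t) = φ.hom.app (op T) (pt x) := by
    intro T x
    rw [ht, map_sub, map_sub, hgt₁, GrothLib.AdeqMod20.map_comp_app, comp_toUnit, NatTrans.naturality_apply,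
      (hker U₀ _).2 ⟨v₀, rfl⟩, map_zero, sub_zero]
  have ht1 : ∀ {T : Over X}, B.obj.map (1 : T ⟶ G).op t = 0 := by
    intro T
    rw [ht, map_sub, GrothLib.AdeqMod20.map_comp_app, comp_toUnit, hv₀, GrothLib.AdeqMod20.map_comp_app,
      MonObj.comp_one, sub_self]
  -- the cocycle
  have hc : ∀ (T : Over X) (x y : T ⟶ G), ∃ a, i.hom.app (op T) a =
      B.obj.map (x * y).op t - B.obj.map x.op t - B.obj.map y.op t := fun T x y => (hker T _).1 (by
    rw [map_sub, map_sub, hgt, hgt, hgt, hptm, map_add]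
    abel)
  choose c hc using hc
  have hcn : ∀ {T T' : Over X} (g : T' ⟶ T) (x y : T ⟶ G), (GmSh X).obj.map g.op (c T x y) = c T' (g ≫ x) (g ≫ y) := by
    intro T T' g x y
    apply hinj
    rw [NatTrans.naturality_apply, hc, hc, map_sub, map_sub, GrothLib.AdeqMod20.map_comp_app,
      GrothLib.AdeqMod20.map_comp_app, GrothLib.AdeqMod20.map_comp_app, MonObj.comp_mul]
  let R₀ := Γ(U₀.left, ⊤)
  let e₀ : R ≃+* R₀ := (Scheme.ΓSpecIso (CommRingCat.of R)).commRingCatIsoToRingEquiv.symm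
  haveI : CharP R₀ p := charP_of_injective_ringHom (f := e₀.toRingHom) e₀.injective p
  have hF₀ : Function.Surjective (frobenius R₀ p) := fun a => by
    obtain ⟨r, hr⟩ := hF (e₀.symm a)
    exact ⟨e₀ r, by rw [frobenius_def, ← map_pow, ← frobenius_def, hr, e₀.apply_symm_apply]⟩
  let φ₂ : R₀ →+* MvPolynomial (Fin 2) R₀ := MvPolynomial.C
  let T₂ := extOb U₀ φ₂
  let u : Fin 2 → (T₂ ⟶ G) := fun k => GrothLib.RedPts.gaPt (toExt U₀ φ₂ (MvPolynomial.X k))
  obtain ⟨h, hh⟩ := (toExt_bijective U₀ φ₂).2 (gmVal (c T₂ (u 0) (u 1)))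
  have hev : ∀ (T : Over X) (x y : T ⟶ G),
      gmVal (c T x y) = MvPolynomial.eval₂ (toUnit T).left.appTop.hom ![Red.gaFn x, Red.gaFn y] h := by
    intro T x y
    obtain ⟨m, -, hm⟩ := GrothLib.GaDualQ13.exists_lift U₀ φ₂ (toUnit T)
      (MvPolynomial.eval₂Hom (toUnit T).left.appTop.hom ![Red.gaFn x, Red.gaFn y])
      (RingHom.ext fun r => MvPolynomial.eval₂_C _ _ _)
    have hu : ∀ k, Red.gaFn (m ≫ u k) = ![Red.gaFn x, Red.gaFn y] k := fun k => by
      rw [GrothLib.RedPts.gaFn_comp, GrothLib.RedPts.gaFn_gaPt]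
      exact (hm _).trans (MvPolynomial.eval₂_X _ _ _)
    have hx : m ≫ u 0 = x := GrothLib.RedPts.gaFn_injective (hu 0)
    have hy : m ≫ u 1 = y := GrothLib.RedPts.gaFn_injective (hu 1)
    rw [← hx, ← hy, ← hcn m, gmVal_map, ← hh, hx, hy]
    exact hm h
  have hval : ∀ {n : ℕ} (a b : MvPolynomial (Fin n) R₀),
      gmVal (c (extOb U₀ (MvPolynomial.C : R₀ →+* MvPolynomial (Fin n) R₀))
        (GrothLib.RedPts.gaPt (toExt U₀ _ a)) (GrothLib.RedPts.gaPt (toExt U₀ _ b))) =
      toExt U₀ (MvPolynomial.C : R₀ →+* MvPolynomial (Fin n) R₀) (MvPolynomial.aeval ![a, b] h) := by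
    intro n a b
    rw [hev, GrothLib.RedPts.gaFn_gaPt, GrothLib.RedPts.gaFn_gaPt, MvPolynomial.aeval_def, MvPolynomial.eval₂_comp_left]
    have hb : (toUnit (extOb U₀ (MvPolynomial.C : R₀ →+* MvPolynomial (Fin n) R₀))).left.appTop.hom =
        (toExt U₀ (MvPolynomial.C : R₀ →+* MvPolynomial (Fin n) R₀)).comp (algebraMap R₀ (MvPolynomial (Fin n) R₀)) := by
      rw [show toUnit (extOb U₀ (MvPolynomial.C : R₀ →+* MvPolynomial (Fin n) R₀)) = extHom U₀ _ from toUnit_unique _ _]
      exact RingHom.ext fun r => appTop_extHom U₀ _ r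
    rw [hb]
    congr 1
    funext k
    fin_cases k <;> rfl
  have hg0 : ∀ {n : ℕ} (a b : MvPolynomial (Fin n) R₀),
      (GrothLib.RedPts.gaPt (toExt U₀ (MvPolynomial.C : R₀ →+* MvPolynomial (Fin n) R₀) (a + b)) :
          extOb U₀ (MvPolynomial.C : R₀ →+* MvPolynomial (Fin n) R₀) ⟶ G) =
        GrothLib.RedPts.gaPt (toExt U₀ _ a) * GrothLib.RedPts.gaPt (toExt U₀ _ b) := fun a b => by
    rw [map_add, GrothLib.RedPts.gaPt_add]
  have hX : MvPolynomial.aeval ![(MvPolynomial.X 0 : MvPolynomial (Fin 2) R₀), MvPolynomial.X 1] h = h := by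
    rw [show (![MvPolynomial.X 0, MvPolynomial.X 1] : Fin 2 → MvPolynomial (Fin 2) R₀) = MvPolynomial.X by
      funext k; fin_cases k <;> rfl, MvPolynomial.aeval_X_left_apply]
  have hu : IsUnit h :=
    (MulEquiv.isUnit_map (RingEquiv.ofBijective (toExt U₀ φ₂) (toExt_bijective U₀ φ₂))).1
      (show IsUnit (toExt U₀ φ₂ h) from hh ▸ isUnit_gmVal _)
  have hcone : ∀ (T : Over X) (x : T ⟶ G), c T x 1 = 0 := fun T x => hinj T (by
    rw [hc, map_zero, show x * (1 : T ⟶ G) = x from _root_.mul_one x, sub_self, ht1, sub_zero])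
  have hsym : ∀ (T : Over X) (x y : T ⟶ G), c T y x = c T x y := fun T x y => hinj T (by
    rw [hc, hc, _root_.mul_comm y x]
    abel)
  have hcoc : ∀ (T : Over X) (x y z : T ⟶ G), c T y z + c T x (y * z) = c T (x * y) z + c T x y := fun T x y z =>
    hinj T (by
      rw [map_add, map_add, hc, hc, hc, hc, _root_.mul_assoc]
      abel)
  obtain ⟨f, hfu, hf⟩ := Groth.Agent.S13380.result p R₀ hF₀ h hu
    ((toExt_bijective U₀ φ₂).1 (by
      rw [← hval, map_one, show (GrothLib.RedPts.gaPt (toExt U₀ φ₂ 0) : T₂ ⟶ G) = 1 from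
        GrothLib.RedPts.gaFn_injective (by rw [GrothLib.RedPts.gaFn_gaPt, map_zero, GrothLib.GaUnits.gaFn_one]), hcone]
      exact gmVal_zero))
    ((toExt_bijective U₀ φ₂).1 (by
      rw [← hval, hsym]
      exact (hval _ _).trans (congrArg _ hX)))
    ((toExt_bijective U₀ (MvPolynomial.C : R₀ →+* MvPolynomial (Fin 3) R₀)).1 (by
      rw [map_mul, map_mul, ← hval, ← hval, ← hval, ← hval, hg0, hg0, ← gmVal_add, ← gmVal_add, hcoc]))
  -- the correction
  have hfu' : ∀ {T : Over X} (x : T ⟶ G), IsUnit (f.eval₂ (toUnit T).left.appTop.hom (Red.gaFn x)) :=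
    fun x => hfu.map (Polynomial.eval₂RingHom _ _)
  let v : ∀ {T : Over X}, (T ⟶ G) → (GmSh X).obj.obj (op T) := fun {T} x => gmSec (hfu' x).unit
  have hv : ∀ {T : Over X} (x : T ⟶ G), gmVal (v x) = f.eval₂ (toUnit T).left.appTop.hom (Red.gaFn x) := fun x =>
    (gmVal_gmSec _).trans (IsUnit.unit_spec _)
  have hvn : ∀ {T T' : Over X} (g : T' ⟶ T) (x : T ⟶ G), (GmSh X).obj.map g.op (v x) = v (g ≫ x) := by
    intro T T' g x
    apply gmVal_injective
    rw [gmVal_map, hv, hv, GrothLib.RedPts.gaFn_comp]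
    refine (Polynomial.hom_eval₂ _ _ g.left.appTop.hom _).trans ?_
    rw [show toUnit T' = g ≫ toUnit T from toUnit_unique _ _, Over.comp_left, Scheme.Hom.comp_appTop]
    rfl
  have hvc : ∀ {T : Over X} (x y : T ⟶ G), v (x * y) = v x + v y + c T x y := by
    intro T x y
    apply gmVal_injective
    have k := congrArg (MvPolynomial.eval₂Hom (toUnit T).left.appTop.hom ![Red.gaFn x, Red.gaFn y]) hf
    simp only [map_mul, Polynomial.aeval_def, Polynomial.hom_eval₂] at k
    rw [gmVal_add, gmVal_add, hev, hv, hv, hv, GrothLib.RedPts.gaFn_mul]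
    convert k using 2 <;> simp [RingHom.ext_iff]
  have hadd : ∀ {T : Over X} (x y : T ⟶ G), B.obj.map (x * y).op t - i.hom.app (op T) (v (x * y)) =
      (B.obj.map x.op t - i.hom.app (op T) (v x)) + (B.obj.map y.op t - i.hom.app (op T) (v y)) := by
    intro T x y
    rw [hvc, map_add, map_add, hc]
    abel
  let ψ : A ⟶ B :=
    ⟨{ app := fun T => ConcreteCategory.ofHom (C := AddCommGrpCat.{u + 1}) (X := A.obj.obj T) (Y := B.obj.obj T)
          (AddMonoidHom.mk' (fun a => B.obj.map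
            ((show ULift.{u + 1} (Additive (unop T ⟶ G)) from a).down.toMul).op t -
              i.hom.app T (v (show ULift.{u + 1} (Additive (unop T ⟶ G)) from a).down.toMul)) fun a b => hadd _ _)
       naturality := fun T T' g => AddCommGrpCat.ext fun a => by
          let x : unop T ⟶ G := (show ULift.{u + 1} (Additive (unop T ⟶ G)) from a).down.toMul
          show B.obj.map (g.unop ≫ x).op t - i.hom.app (op (unop T')) (v (g.unop ≫ x)) =
            B.obj.map g.unop.op (B.obj.map x.op t - i.hom.app (op (unop T)) (v x))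
          rw [map_sub, GrothLib.AdeqMod20.map_comp_app, ← NatTrans.naturality_apply, hvn] }⟩
  refine ⟨ψ, ?_⟩
  refine Sheaf.hom_ext (NatTrans.ext (funext fun T => AddCommGrpCat.ext fun a => ?_))
  let x : unop T ⟶ G := (show ULift.{u + 1} (Additive (unop T ⟶ G)) from a).down.toMul
  show π.hom.app (op (unop T)) (B.obj.map x.op t - i.hom.app (op (unop T)) (v x)) = φ.hom.app (op (unop T)) (pt x)
  rw [map_sub, hgt, (hker _ _).2 ⟨_, rfl⟩, sub_zero]

open CategoryTheory AlgebraicGeometry in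
/-- For a commutative ring R of prime characteristic p with surjective Frobenius, the group Ext^1 of the
additive group by the multiplicative group, computed in the category of abelian sheaves on the big
fppf site of Spec R, vanishes. -/
theorem result (p : ℕ) [Fact p.Prime] (R : Type u) [CommRing R]
    [CharP R p] (hF : Function.Surjective (frobenius R p)) :
    Subsingleton (CGrpSh.ExtS Scheme.fppfPrecoverage
      (Red.Ga (Spec (CommRingCat.of R))) (Red.Gm (Spec (CommRingCat.of R))) 1) := by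
  refine subsingleton_of_forall_eq 0 fun ξ => ?_
  obtain ⟨y, rfl⟩ := GrothLib.PullH25.exists_comp_extClass (n := 0) ξ
  obtain ⟨φ, rfl⟩ := (Abelian.Ext.mk₀_bijective _ _).2 y
  let C := ShortComplex.mk (Injective.ι (GmSh (Spec (CommRingCat.of R))))
    (cokernel.π (Injective.ι (GmSh (Spec (CommRingCat.of R))))) (cokernel.condition _)
  have hC : C.ShortExact := GrothLib.PullH25.injSES_shortExact _
  obtain ⟨ψ, rfl⟩ := exists_factor p R hF C.f C.g C.zero hC φ
  rw [← Abelian.Ext.mk₀_comp_mk₀, Abelian.Ext.comp_assoc_of_second_deg_zero]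
  erw [hC.comp_extClass]
  rw [Abelian.Ext.comp_zero]

end Groth.Agent.S13372
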