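import Groth.Statements.S13373
import Groth.Agent.Lib.GaDual.Char

set_option autoImplicit false
universe u
open GaDual

namespace Groth.Agent.S13373

/-- Over a commutative algebra A of prime characteristic p, the formal characters (power series χ with
constant term 1 and χ(X+Y) = χ(X)χ(Y)) are exactly the infinite products ∏_n exp_p(a_n X^(p^n)) with
a_n^p = 0, where exp_p(Y) = Σ_{j<p} Y^j/j!; the infinite product is expressed through its
truncations: χ mod X^(p^m) equals the finite product over n < m. -/
theorem result (p : ℕ) [Fact p.Prime] (A : Type u) [CommRing A] [CharP A p]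
    (χ : PowerSeries A) :
    (PowerSeries.constantCoeff χ = 1 ∧
      PowerSeries.subst (MvPowerSeries.X 0 + MvPowerSeries.X 1 : MvPowerSeries (Fin 2) A) χ =
        PowerSeries.subst (MvPowerSeries.X 0 : MvPowerSeries (Fin 2) A) χ *
          PowerSeries.subst (MvPowerSeries.X 1 : MvPowerSeries (Fin 2) A) χ) ↔
      ∃ a : ℕ → A, (∀ n, a n ^ p = 0) ∧ ∀ m : ℕ,
        PowerSeries.trunc (p ^ m) χ = ∏ n ∈ Finset.range m, ∑ j ∈ Finset.range p,
          Polynomial.C (Ring.inverse (j.factorial : A) * a n ^ j) * Polynomial.X ^ (j * p ^ n) := by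
  rw [← PowerSeries.coeff_zero_eq_constantCoeff_apply, GrothLib.GaDual.charEq_powerSeries_iff]
  constructor
  · rintro ⟨h0, h⟩
    refine ⟨fun n => PowerSeries.coeff (p ^ n) χ, fun n => ?_, fun m => Polynomial.ext fun k => ?_⟩
    · exact (GrothLib.GaDual.charSeq_pow_pow (M := n + 1) (fun k => PowerSeries.coeff k χ) h0
        (fun i j _ _ => h i j) (Nat.lt_succ_self n)).2
    · rw [PowerSeries.coeff_trunc]
      exact (GrothLib.GaDual.coeff_prod_expp (M := m) (fun k => PowerSeries.coeff k χ) h0
        (fun i j _ _ => h i j) (fun n => PowerSeries.coeff (p ^ n) χ) (fun _ _ => rfl) _ le_rfl k).symm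
  · rintro ⟨a, ha, h⟩
    have hc : ∀ m k, k < p ^ m → PowerSeries.coeff k χ =
        (∏ n ∈ Finset.range m, GrothLib.GaDual.expp p (a n) (p ^ n)).coeff k := fun m k hk => by
      have e := congrArg (fun P => Polynomial.coeff P k) (h m)
      simp only [PowerSeries.coeff_trunc, if_pos hk] at e
      exact e
    refine ⟨?_, fun i j => ?_⟩
    · rw [hc 0 0 (by simp)]
      exact (GrothLib.GaDual.prod_expp_charEq a ha 0).1
    · have hlt : i + j < p ^ (i + j + 1) :=
        lt_trans (Nat.lt_succ_self _) (Nat.lt_pow_self (Fact.out : p.Prime).one_lt)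
      rw [hc _ i (lt_of_le_of_lt (Nat.le_add_right i j) hlt), hc _ j (lt_of_le_of_lt (Nat.le_add_left j i) hlt),
        hc _ (i + j) hlt]
      exact (GrothLib.GaDual.prod_expp_charEq a ha _).2 i j

end Groth.Agent.S13373
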