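import Groth.Statements.S13375
import Mathlib.CategoryTheory.Abelian.Refinements
import Mathlib.Algebra.Homology.HomologicalComplexAbelian
import Mathlib.CategoryTheory.Abelian.Exact
-- import your own Groth.Agent.* helpers here

set_option autoImplicit false
universe u v
open CechDer

namespace Groth.Agent.S13375

open CategoryTheory CategoryTheory.Limits

section

variable {V : Type u} [Category.{v} V] [Abelian V]

/-- Extending two compatible maps to an injective object. -/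
theorem glue {A B Y I : V} [Injective I] (a : A ⟶ Y) (b : B ⟶ Y) (α : A ⟶ I) (β : B ⟶ I)
    (h : ∀ {T : V} (p : T ⟶ A) (q : T ⟶ B), p ≫ a = q ≫ b → p ≫ α = q ≫ β) :
    ∃ f : Y ⟶ I, a ≫ f = α ∧ b ≫ f = β := by
  let m : A ⊞ B ⟶ Y := biprod.desc a b
  have hk : kernel.ι (Abelian.factorThruImage m) ≫ biprod.desc α β = 0 := by
    let k := kernel.ι (Abelian.factorThruImage m)
    have hkm : k ≫ m = 0 :=
      calc k ≫ m = k ≫ (Abelian.factorThruImage m ≫ Abelian.image.ι m) := by rw [Abelian.image.fac]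
        _ = 0 := by rw [← Category.assoc, kernel.condition, zero_comp]
    have h2 := h (k ≫ biprod.fst) (-(k ≫ biprod.snd)) (by
      rw [Preadditive.neg_comp, eq_neg_iff_add_eq_zero, Category.assoc, Category.assoc,
        ← Preadditive.comp_add]
      convert hkm using 2
      simp [m, biprod.desc_eq])
    rw [Preadditive.neg_comp, eq_neg_iff_add_eq_zero, Category.assoc, Category.assoc,
      ← Preadditive.comp_add, ← biprod.desc_eq] at h2
    exact h2
  let γ := Abelian.epiDesc (Abelian.factorThruImage m) (biprod.desc α β) hk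
  have hmf : m ≫ Injective.factorThru γ (Abelian.image.ι m) = biprod.desc α β :=
    calc m ≫ Injective.factorThru γ (Abelian.image.ι m)
        = (Abelian.factorThruImage m ≫ Abelian.image.ι m) ≫ Injective.factorThru γ (Abelian.image.ι m) := by
          rw [Abelian.image.fac]
      _ = biprod.desc α β := by
          rw [Category.assoc, Injective.comp_factorThru, Abelian.comp_epiDesc]
  refine ⟨Injective.factorThru γ (Abelian.image.ι m), ?_, ?_⟩
  · calc a ≫ Injective.factorThru γ (Abelian.image.ι m)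
        = (biprod.inl ≫ m) ≫ Injective.factorThru γ (Abelian.image.ι m) := by simp [m]
      _ = α := by rw [Category.assoc, hmf, biprod.inl_desc]
  · calc b ≫ Injective.factorThru γ (Abelian.image.ι m)
        = (biprod.inr ≫ m) ≫ Injective.factorThru γ (Abelian.image.ι m) := by simp [m]
      _ = β := by rw [Category.assoc, hmf, biprod.inr_desc]

/-- Cocycles go to cocycles. -/
def CC (K L : CochainComplex V ℕ) (n : ℕ) (f : K.X n ⟶ L.X n) : Prop :=
  ∀ {T : V} (x : T ⟶ K.X n), x ≫ K.d n (n + 1) = 0 → x ≫ f ≫ L.d n (n + 1) = 0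

theorem refine_cocycle {K : CochainComplex V ℕ} (hK : ∀ n, 0 < n → K.ExactAt n) {n : ℕ} {T : V}
    (x : T ⟶ K.X (n + 1)) (hx : x ≫ K.d (n + 1) (n + 1 + 1) = 0) :
    ∃ (T' : V) (π : T' ⟶ T) (_ : Epi π) (y : T' ⟶ K.X n), π ≫ x = y ≫ K.d n (n + 1) :=
  ((HomologicalComplex.exactAt_iff' K n (n + 1) (n + 1 + 1) (by simp) (by simp)).1
    (hK (n + 1) n.succ_pos)).exact_up_to_refinements x hx

theorem cc_succ {K L : CochainComplex V ℕ} (hK : ∀ n, 0 < n → K.ExactAt n) {n : ℕ}
    {f : K.X n ⟶ L.X n} {g : K.X (n + 1) ⟶ L.X (n + 1)} (h : K.d n (n + 1) ≫ g = f ≫ L.d n (n + 1)) :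
    CC K L (n + 1) g := by
  intro T x hx
  obtain ⟨T', π, _, y, hy⟩ := refine_cocycle hK x hx
  rw [← cancel_epi π, ← Category.assoc, hy, comp_zero, Category.assoc, reassoc_of% h,
    L.d_comp_d, comp_zero, comp_zero]

end

open CategoryTheory CategoryTheory.Limits in
/-- In an abelian category, given two degreewise left exact sequences of nonnegatively graded cochain
complexes 0 → C' → C → C'' and 0 → I' → I → I'', each complex exact in positive degrees and the I's
termwise injective, every commutative ladder of maps g', g, g'' between their degree-zero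
cohomologies is induced by chain maps f' : C' → I', f : C → I, f'' : C'' → I'' commuting with the
given maps of complexes. -/
theorem result {V : Type u} [Category.{v} V]
    [Abelian V] (C' C C'' I' I I'' : CochainComplex V ℕ)
    (jC : C' ⟶ C) (πC : C ⟶ C'') (jI : I' ⟶ I) (πI : I ⟶ I'')
    (mC : ∀ n, Mono (jC.f n)) (wC : ∀ n, jC.f n ≫ πC.f n = 0)
    (exC : ∀ n, (ShortComplex.mk (jC.f n) (πC.f n) (wC n)).Exact)
    (mI : ∀ n, Mono (jI.f n)) (wI : ∀ n, jI.f n ≫ πI.f n = 0)
    (exI : ∀ n, (ShortComplex.mk (jI.f n) (πI.f n) (wI n)).Exact)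
    (hC' : ∀ n, 0 < n → C'.ExactAt n) (hC : ∀ n, 0 < n → C.ExactAt n) (hC'' : ∀ n, 0 < n → C''.ExactAt n)
    (hI' : ∀ n, 0 < n → I'.ExactAt n) (hI : ∀ n, 0 < n → I.ExactAt n) (hI'' : ∀ n, 0 < n → I''.ExactAt n)
    (injI' : ∀ n, Injective (I'.X n)) (injI : ∀ n, Injective (I.X n)) (injI'' : ∀ n, Injective (I''.X n))
    (g' : C'.homology 0 ⟶ I'.homology 0) (g : C.homology 0 ⟶ I.homology 0)
    (g'' : C''.homology 0 ⟶ I''.homology 0)
    (hg1 : HomologicalComplex.homologyMap jC 0 ≫ g = g' ≫ HomologicalComplex.homologyMap jI 0)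
    (hg2 : HomologicalComplex.homologyMap πC 0 ≫ g'' = g ≫ HomologicalComplex.homologyMap πI 0) :
    ∃ (f' : C' ⟶ I') (f : C ⟶ I) (f'' : C'' ⟶ I''),
      jC ≫ f = f' ≫ jI ∧ πC ≫ f'' = f ≫ πI ∧
      HomologicalComplex.homologyMap f' 0 = g' ∧ HomologicalComplex.homologyMap f 0 = g ∧
      HomologicalComplex.homologyMap f'' 0 = g'' := by
  have refS : ∀ {n : ℕ} {T : V} (y : T ⟶ C.X n), y ≫ πC.f n = 0 →
      ∃ (T' : V) (π : T' ⟶ T) (_ : Epi π) (x : T' ⟶ C'.X n), π ≫ y = x ≫ jC.f n := fun y hy =>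
    (exC _).exact_up_to_refinements y hy
  have hjd : ∀ n, jC.f n ≫ C.d n (n + 1) = C'.d n (n + 1) ≫ jC.f (n + 1) := fun n => jC.comm _ _
  have hpd : ∀ n, πC.f n ≫ C''.d n (n + 1) = C.d n (n + 1) ≫ πC.f (n + 1) := fun n => πC.comm _ _
  have hjId : ∀ n, jI.f n ≫ I.d n (n + 1) = I'.d n (n + 1) ≫ jI.f (n + 1) := fun n => jI.comm _ _
  have hpId : ∀ n, πI.f n ≫ I''.d n (n + 1) = I.d n (n + 1) ≫ πI.f (n + 1) := fun n => πI.comm _ _
  let Good : ∀ n, (C'.X n ⟶ I'.X n) × (C.X n ⟶ I.X n) × (C''.X n ⟶ I''.X n) → Prop := fun n t =>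
    jC.f n ≫ t.2.1 = t.1 ≫ jI.f n ∧ πC.f n ≫ t.2.2 = t.2.1 ≫ πI.f n ∧
      CC C' I' n t.1 ∧ CC C I n t.2.1 ∧ CC C'' I'' n t.2.2
  let φ' := C'.homologyπ 0 ≫ g' ≫ I'.isoHomologyπ₀.inv
  let φ := C.homologyπ 0 ≫ g ≫ I.isoHomologyπ₀.inv
  let φ'' := C''.homologyπ 0 ≫ g'' ≫ I''.isoHomologyπ₀.inv
  have hφ1 : HomologicalComplex.cyclesMap jC 0 ≫ φ = φ' ≫ HomologicalComplex.cyclesMap jI 0 := by
    simp only [φ, φ', ← HomologicalComplex.homologyπ_naturality_assoc, Category.assoc, reassoc_of% hg1,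
      CochainComplex.isoHomologyπ₀_inv_naturality]
  have hφ2 : HomologicalComplex.cyclesMap πC 0 ≫ φ'' = φ ≫ HomologicalComplex.cyclesMap πI 0 := by
    simp only [φ, φ'', ← HomologicalComplex.homologyπ_naturality_assoc, Category.assoc, reassoc_of% hg2,
      CochainComplex.isoHomologyπ₀_inv_naturality]
  have cyc : ∀ (K : CochainComplex V ℕ) {T : V} (x : T ⟶ K.X 0), x ≫ K.d 0 1 = 0 →
      ∃ q : T ⟶ K.cycles 0, q ≫ K.iCycles 0 = x := fun K {T} x hx =>
    ⟨K.liftCycles x 1 (by simp) hx, K.liftCycles_i _ _ _ _⟩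
  have base : ∃ t, Good 0 t ∧ C'.iCycles 0 ≫ t.1 = φ' ≫ I'.iCycles 0 ∧ C.iCycles 0 ≫ t.2.1 = φ ≫ I.iCycles 0 ∧
      C''.iCycles 0 ≫ t.2.2 = φ'' ≫ I''.iCycles 0 := by
    have := injI' 0; have := injI 0; have := injI'' 0
    obtain ⟨f', hf', -⟩ := glue (C'.iCycles 0) (0 : C'.cycles 0 ⟶ C'.X 0) (φ' ≫ I'.iCycles 0) 0
      (fun p q h => by
        rw [comp_zero] at h
        rw [(cancel_mono (C'.iCycles 0)).1 (h.trans zero_comp.symm), zero_comp, comp_zero])
    obtain ⟨f, hf1, hf2⟩ := glue (jC.f 0) (C.iCycles 0) (f' ≫ jI.f 0) (φ ≫ I.iCycles 0)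
      (fun p q h => by
        obtain ⟨p', rfl⟩ := cyc C' p (by
          have := mC 1
          rw [← cancel_mono (jC.f 1), Category.assoc, ← hjd, ← Category.assoc, h, Category.assoc,
            HomologicalComplex.iCycles_d, comp_zero, zero_comp])
        rw [Category.assoc, ← HomologicalComplex.cyclesMap_i, ← Category.assoc] at h
        rw [← (cancel_mono _).1 h, Category.assoc, Category.assoc, reassoc_of% hf', reassoc_of% hφ1,
          HomologicalComplex.cyclesMap_i])
    obtain ⟨f'', hf3, hf4⟩ := glue (πC.f 0) (C''.iCycles 0) (f ≫ πI.f 0) (φ'' ≫ I''.iCycles 0)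
      (fun {T} p q h => by
        have hp : (p ≫ C.d 0 1) ≫ πC.f 1 = 0 := by
          rw [Category.assoc, ← hpd, ← Category.assoc, h, Category.assoc, HomologicalComplex.iCycles_d, comp_zero]
        obtain ⟨T₁, π₁, _, x, hx⟩ := refS _ hp
        have hxd : x ≫ C'.d 1 (1 + 1) = 0 := by
          have := mC (1 + 1)
          rw [← cancel_mono (jC.f (1 + 1)), Category.assoc, ← hjd, ← Category.assoc, ← hx, Category.assoc,
            Category.assoc, C.d_comp_d, comp_zero, comp_zero, zero_comp]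
        obtain ⟨T₂, π₂, _, x', hx'⟩ := refine_cocycle hC' (n := 0) x hxd
        obtain ⟨r, hr⟩ := cyc C (π₂ ≫ π₁ ≫ p - x' ≫ jC.f 0) (by
          rw [Preadditive.sub_comp, Category.assoc, Category.assoc, hx, Category.assoc x', hjd,
            ← Category.assoc π₂, hx', Category.assoc, sub_self])
        have h1 : r ≫ HomologicalComplex.cyclesMap πC 0 = π₂ ≫ π₁ ≫ q := by
          rw [← cancel_mono (C''.iCycles 0), Category.assoc, HomologicalComplex.cyclesMap_i, ← Category.assoc,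
            hr, Preadditive.sub_comp, Category.assoc, Category.assoc, Category.assoc, wC, comp_zero, sub_zero,
            h, Category.assoc, Category.assoc]
        have hjI : x' ≫ jC.f 0 ≫ f ≫ πI.f 0 = 0 := by rw [reassoc_of% hf1, wI, comp_zero, comp_zero]
        rw [← cancel_epi π₁, ← cancel_epi π₂, ← reassoc_of% h1, reassoc_of% hφ2,
          HomologicalComplex.cyclesMap_i, ← reassoc_of% hf2, reassoc_of% hr, Preadditive.sub_comp, Category.assoc,
          Category.assoc, Category.assoc, hjI, sub_zero])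
    refine ⟨⟨f', f, f''⟩, ⟨hf1, hf3, ?_, ?_, ?_⟩, hf', hf2, hf4⟩
    all_goals
      intro T x hx
      obtain ⟨q, rfl⟩ := cyc _ x hx
      simp only [Category.assoc, reassoc_of% hf', reassoc_of% hf2, reassoc_of% hf4,
        HomologicalComplex.iCycles_d, comp_zero]
  have step : ∀ n, ∀ t, Good n t → ∃ t', Good (n + 1) t' ∧ C'.d n (n + 1) ≫ t'.1 = t.1 ≫ I'.d n (n + 1) ∧
      C.d n (n + 1) ≫ t'.2.1 = t.2.1 ≫ I.d n (n + 1) ∧ C''.d n (n + 1) ≫ t'.2.2 = t.2.2 ≫ I''.d n (n + 1) := by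
    rintro n ⟨e', e, e''⟩ ⟨s1, s2, c1, c2, c3⟩
    dsimp only at s1 s2 c1 c2 c3 ⊢
    have := injI' (n + 1); have := injI (n + 1); have := injI'' (n + 1)
    obtain ⟨f', hf', -⟩ := glue (C'.d n (n + 1)) (0 : C'.X n ⟶ _) (e' ≫ I'.d n (n + 1)) 0
      (fun p q h => by rw [comp_zero] at h; rw [comp_zero, c1 p h])
    obtain ⟨f, hf1, hf2⟩ := glue (jC.f (n + 1)) (C.d n (n + 1)) (f' ≫ jI.f (n + 1)) (e ≫ I.d n (n + 1))
      (fun {T} p q h => by
        obtain ⟨T', π, _, x, hx⟩ := refine_cocycle hC' p (by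
          have := mC (n + 1 + 1)
          rw [← cancel_mono (jC.f (n + 1 + 1)), Category.assoc, ← hjd, ← Category.assoc, h, Category.assoc,
            C.d_comp_d, comp_zero, zero_comp])
        have hz := c2 (π ≫ q - x ≫ jC.f n) (by
          rw [Preadditive.sub_comp, Category.assoc, ← h, Category.assoc x, hjd, reassoc_of% hx, sub_self])
        rw [Preadditive.sub_comp, sub_eq_zero, Category.assoc, Category.assoc, reassoc_of% s1] at hz
        rw [← cancel_epi π, hz, hjId, reassoc_of% hx, reassoc_of% hf'])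
    obtain ⟨f'', hf3, hf4⟩ := glue (πC.f (n + 1)) (C''.d n (n + 1)) (f ≫ πI.f (n + 1)) (e'' ≫ I''.d n (n + 1))
      (fun {T} p q h => by
        have hp : (p ≫ C.d (n + 1) (n + 1 + 1)) ≫ πC.f (n + 1 + 1) = 0 := by
          rw [Category.assoc, ← hpd, ← Category.assoc, h, Category.assoc, C''.d_comp_d, comp_zero]
        obtain ⟨T₁, π₁, _, x, hx⟩ := refS _ hp
        have hxd : x ≫ C'.d (n + 1 + 1) (n + 1 + 1 + 1) = 0 := by
          have := mC (n + 1 + 1 + 1)
          rw [← cancel_mono (jC.f (n + 1 + 1 + 1)), Category.assoc, ← hjd, ← Category.assoc, ← hx, Category.assoc,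
            Category.assoc, C.d_comp_d, comp_zero, comp_zero, zero_comp]
        obtain ⟨T₂, π₂, _, x', hx'⟩ := refine_cocycle hC' x hxd
        obtain ⟨T₃, π₃, _, w, hw⟩ := refine_cocycle hC (π₂ ≫ π₁ ≫ p - x' ≫ jC.f (n + 1)) (by
          rw [Preadditive.sub_comp, Category.assoc, Category.assoc, hx, Category.assoc x', hjd,
            ← Category.assoc π₂, hx', Category.assoc, sub_self])
        have hwp : π₃ ≫ π₂ ≫ π₁ ≫ q ≫ C''.d n (n + 1) = w ≫ πC.f n ≫ C''.d n (n + 1) := by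
          rw [hpd, ← reassoc_of% hw, Preadditive.sub_comp, Category.assoc, Category.assoc, Category.assoc,
            wC, comp_zero, sub_zero, ← h]
        have hz := c3 (π₃ ≫ π₂ ≫ π₁ ≫ q - w ≫ πC.f n) (by
          rw [Preadditive.sub_comp, Category.assoc, Category.assoc, Category.assoc, Category.assoc, hwp, sub_self])
        rw [Preadditive.sub_comp, sub_eq_zero] at hz
        simp only [Category.assoc] at hz
        have hjI : x' ≫ jC.f (n + 1) ≫ f ≫ πI.f (n + 1) = 0 := by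
          rw [reassoc_of% hf1, wI, comp_zero, comp_zero]
        rw [← cancel_epi π₁, ← cancel_epi π₂, ← cancel_epi π₃, hz, reassoc_of% s2, hpId, ← reassoc_of% hf2,
          ← reassoc_of% hw, Preadditive.sub_comp, Category.assoc, Category.assoc, Category.assoc, hjI, sub_zero])
    exact ⟨⟨f', f, f''⟩, ⟨hf1, hf3, cc_succ hC' hf', cc_succ hC hf2, cc_succ hC'' hf4⟩, hf', hf2, hf4⟩
  obtain ⟨t0, h0, b1, b2, b3⟩ := base
  let seq : ∀ n, { t // Good n t } := fun n => Nat.rec ⟨t0, h0⟩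
    (fun n t => ⟨Classical.choose (step n t.1 t.2), (Classical.choose_spec (step n t.1 t.2)).1⟩) n
  have hs : ∀ n, C'.d n (n + 1) ≫ (seq (n + 1)).1.1 = (seq n).1.1 ≫ I'.d n (n + 1) ∧
      C.d n (n + 1) ≫ (seq (n + 1)).1.2.1 = (seq n).1.2.1 ≫ I.d n (n + 1) ∧
      C''.d n (n + 1) ≫ (seq (n + 1)).1.2.2 = (seq n).1.2.2 ≫ I''.d n (n + 1) := fun n =>
    (Classical.choose_spec (step n (seq n).1 (seq n).2)).2
  let F' : C' ⟶ I' := { f := fun n => (seq n).1.1, comm' := by rintro n _ rfl; exact (hs n).1.symm }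
  let F : C ⟶ I := { f := fun n => (seq n).1.2.1, comm' := by rintro n _ rfl; exact (hs n).2.1.symm }
  let F'' : C'' ⟶ I'' := { f := fun n => (seq n).1.2.2, comm' := by rintro n _ rfl; exact (hs n).2.2.symm }
  have hhom : ∀ {K L : CochainComplex V ℕ} (G : K ⟶ L) (γ : K.homology 0 ⟶ L.homology 0),
      K.iCycles 0 ≫ G.f 0 = (K.homologyπ 0 ≫ γ ≫ L.isoHomologyπ₀.inv) ≫ L.iCycles 0 →
      HomologicalComplex.homologyMap G 0 = γ := fun {K L} G γ h => by
    rw [← HomologicalComplex.cyclesMap_i, cancel_mono] at h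
    rw [← cancel_epi (K.homologyπ 0), HomologicalComplex.homologyπ_naturality, h, Category.assoc,
      Category.assoc, HomologicalComplex.isoHomologyπ_inv_hom_id, Category.comp_id]
  exact ⟨F', F, F'', HomologicalComplex.hom_ext _ _ fun n => (seq n).2.1,
    HomologicalComplex.hom_ext _ _ fun n => (seq n).2.2.1, hhom F' g' b1, hhom F g b2, hhom F'' g'' b3⟩

end Groth.Agent.S13375
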