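import Groth.Statements.S13378
import Groth.Agent.Lib.ProfCompl21.Basic
import Groth.Agent.S13363
import Mathlib.GroupTheory.Index
import Mathlib.Algebra.Group.TypeTags.Basic

set_option autoImplicit false
universe u
open ProCompl

namespace Groth.Agent.S13378

theorem exists_finiteIndex_not_mem {Q : Type u} [CommGroup Q] (k : ℕ) (hk : 0 < k) (hQ : ∀ q : Q, q ^ k = 1)
    {q : Q} (hq : q ≠ 1) : ∃ V : Subgroup Q, V.FiniteIndex ∧ q ∉ V := by
  letI : TopologicalSpace (Additive Q) := ⊥
  haveI : DiscreteTopology (Additive Q) := ⟨rfl⟩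
  obtain ⟨B, -, hB, hqB⟩ := (Groth.Agent.S13363.result (A := Additive Q) (fun n _ => isOpen_discrete _)
    (Additive.ofMul q)).2 fun h => by
      obtain ⟨b, hb⟩ := h k hk
      refine hq ?_
      have := congrArg Additive.toMul hb
      rw [toMul_nsmul, hQ, toMul_ofMul] at this
      exact this.symm
  refine ⟨B.toSubgroup', ⟨?_⟩, hqB⟩
  rw [show B.toSubgroup'.index = B.index from rfl]
  exact hB.index_ne_zero

/-- For an abelian group A (written multiplicatively, discrete) and a subgroup A' such that the quotient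
A/A' has no nontrivial divisible element and its torsion elements are killed by one positive
integer, the map induced on profinite completions by the inclusion of A' in A is injective. (The
published statement is for topological abelian groups in which every nA is open, with completions
formed from open subgroups of finite index; this row is the case of the discrete topology.) -/
theorem result (A : Type u) [CommGroup A] (A' : Subgroup A)
    (hdiv : ∀ x : A ⧸ A', (∀ n : ℕ, 0 < n → ∃ y : A ⧸ A', y ^ n = x) → x = 1)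
    (htors : ∃ N : ℕ, 0 < N ∧ ∀ x : A ⧸ A', IsOfFinOrder x → x ^ N = 1) :
    Function.Injective (ProfiniteGrp.profiniteCompletion.map (GrpCat.ofHom A'.subtype)).hom := by
  classical
  obtain ⟨N, hN, htors⟩ := htors
  rw [injective_iff_map_eq_one]
  intro x hx
  refine Subtype.ext (funext fun U => ?_)
  haveI : U.toSubgroup.FiniteIndex := U.isFiniteIndex'
  set M := U.toSubgroup.index with hM
  have hM0 : 0 < M := Nat.pos_of_ne_zero Subgroup.FiniteIndex.index_ne_zero
  let W : Subgroup A := U.toSubgroup.map A'.subtype ⊔ (powMonoidHom (N * M) : A →* A).range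
  have key : ∀ a : A', a ∉ U.toSubgroup → (a : A) ∉ W := by
    intro a ha haW
    obtain ⟨_, ⟨u, hu, rfl⟩, _, ⟨y, rfl⟩, huy⟩ := Subgroup.mem_sup.1 haW
    have hy : y ^ (N * M) ∈ A' := by
      have : y ^ (N * M) = (u : A)⁻¹ * a := eq_inv_mul_iff_mul_eq.2 huy
      rw [this]
      exact A'.mul_mem (A'.inv_mem u.2) a.2
    have hyN : y ^ N ∈ A' := by
      rw [← QuotientGroup.eq_one_iff, QuotientGroup.mk_pow]
      exact htors _ (isOfFinOrder_iff_pow_eq_one.2 ⟨N * M, Nat.mul_pos hN hM0,
        by rw [← QuotientGroup.mk_pow, QuotientGroup.eq_one_iff]; exact hy⟩)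
    refine ha ?_
    rw [show a = u * (⟨y ^ N, hyN⟩ : A') ^ M from Subtype.ext (by
      rw [Subgroup.coe_mul, SubgroupClass.coe_pow, ← pow_mul]; exact huy.symm)]
    exact mul_mem hu (U.toSubgroup.pow_index_mem _)
  have hQ : ∀ q : A ⧸ W, q ^ (N * M) = 1 := fun q => by
    obtain ⟨a, rfl⟩ := QuotientGroup.mk_surjective q
    rw [← QuotientGroup.mk_pow, QuotientGroup.eq_one_iff]
    exact Subgroup.mem_sup_right ⟨a, rfl⟩
  choose V hV hVq using fun a : {q : A' ⧸ U.toSubgroup // q ≠ 1} =>
    exists_finiteIndex_not_mem (N * M) (Nat.mul_pos hN hM0) hQ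
      (q := ((Quotient.out a.1 : A') : A ⧸ W)) fun h => key _ (fun hm => a.2 (by
        rw [← QuotientGroup.out_eq' a.1, QuotientGroup.eq_one_iff]; exact hm)) ((QuotientGroup.eq_one_iff _).1 h)
  haveI : (⨅ a, V a).FiniteIndex := Subgroup.finiteIndex_iInf hV
  haveI : ((⨅ a, V a).comap (QuotientGroup.mk' W)).FiniteIndex := ⟨by
    rw [Subgroup.index_comap_of_surjective _ (QuotientGroup.mk'_surjective W)]
    exact Subgroup.FiniteIndex.index_ne_zero⟩
  let V' : FiniteIndexNormalSubgroup A := FiniteIndexNormalSubgroup.ofSubgroup ((⨅ a, V a).comap (QuotientGroup.mk' W))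
  have hle : V'.comap A'.subtype ≤ U := fun a ha => by
    by_contra h
    have h1 := Subgroup.mem_iInf.1 ha ⟨(a : A' ⧸ U.toSubgroup), fun h0 => h ((QuotientGroup.eq_one_iff a).1 h0)⟩
    refine hVq ⟨(a : A' ⧸ U.toSubgroup), fun h0 => h ((QuotientGroup.eq_one_iff a).1 h0)⟩ ?_
    have : ((Quotient.out (a : A' ⧸ U.toSubgroup) : A') : A ⧸ W) = ((a : A) : A ⧸ W) := by
      rw [QuotientGroup.eq]
      exact Subgroup.mem_sup_left ⟨(Quotient.out (a : A' ⧸ U.toSubgroup))⁻¹ * a, QuotientGroup.eq.1 (QuotientGroup.out_eq' _), rfl⟩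
    rw [this]
    exact h1
  obtain ⟨a, ha⟩ := QuotientGroup.mk_surjective (x.1 (V'.comap A'.subtype))
  have h2 := GrothLib.ProfCompl21.map_apply (GrpCat.ofHom A'.subtype) x V'
  erw [← ha] at h2
  have h3 : (QuotientGroup.mk (a : A) : A ⧸ V'.toSubgroup) = 1 :=
    h2.symm.trans (congrArg (fun z => z.1 V') hx)
  rw [QuotientGroup.eq_one_iff] at h3
  refine (x.2 (CategoryTheory.homOfLE hle)).symm.trans ?_
  erw [← ha]
  show (QuotientGroup.mk a : A' ⧸ U.toSubgroup) = 1
  rw [QuotientGroup.eq_one_iff]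
  exact hle h3

end Groth.Agent.S13378
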