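import Groth.Statements.S13379
import Groth.Agent.Lib.ProfCompl21.Basic

set_option autoImplicit false
universe u
open ProCompl

namespace Groth.Agent.S13379

/-- Profinite completion is right exact: for an abelian group A (written multiplicatively, discrete) and
a subgroup A', the map on profinite completions induced by A → A/A' is surjective and its kernel is
the image of the completion of A'. (The published statement is right-exactness for topological
abelian groups with completions formed from open subgroups of finite index; this row is the case of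
the discrete topology.) -/
theorem result (A : Type u) [CommGroup A] (A' : Subgroup A) :
    Function.Surjective (ProfiniteGrp.profiniteCompletion.map (GrpCat.ofHom (QuotientGroup.mk' A'))).hom ∧
      (ProfiniteGrp.profiniteCompletion.map (GrpCat.ofHom (QuotientGroup.mk' A'))).hom.toMonoidHom.ker =
        (ProfiniteGrp.profiniteCompletion.map (GrpCat.ofHom A'.subtype)).hom.toMonoidHom.range := by
  refine ⟨fun y => GrothLib.ProfCompl21.mem_range_of_forall _ y fun V => ?_, le_antisymm (fun x hx => ?_) ?_⟩
  · obtain ⟨q, hq⟩ := QuotientGroup.mk_surjective (y.1 V)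
    obtain ⟨a, rfl⟩ := QuotientGroup.mk'_surjective A' q
    exact ⟨a, hq.symm⟩
  · refine GrothLib.ProfCompl21.mem_range_of_forall (GrpCat.ofHom A'.subtype) x fun U => ?_
    haveI : U.toSubgroup.FiniteIndex := U.isFiniteIndex'
    haveI : (U.toSubgroup.map (QuotientGroup.mk' A')).FiniteIndex :=
      ⟨fun h0 => (Subgroup.FiniteIndex.index_ne_zero (H := U.toSubgroup))
        (Nat.eq_zero_of_zero_dvd (h0 ▸ U.toSubgroup.index_map_dvd (QuotientGroup.mk'_surjective A')))⟩
    let V : FiniteIndexNormalSubgroup (A ⧸ A') :=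
      FiniteIndexNormalSubgroup.ofSubgroup (U.toSubgroup.map (QuotientGroup.mk' A'))
    have hle : U ≤ V.comap (QuotientGroup.mk' A') := fun u hu => ⟨u, hu, rfl⟩
    obtain ⟨b, hb⟩ := QuotientGroup.mk_surjective (x.1 U)
    have h2 := GrothLib.ProfCompl21.map_apply (GrpCat.ofHom (QuotientGroup.mk' A')) x V
    have h1 : x.1 (V.comap (QuotientGroup.mk' A')) = QuotientGroup.mk b := by
      rw [← x.2 (CategoryTheory.homOfLE hle), ← hb]
      rfl
    rw [show x.1 (V.comap (GrpCat.ofHom (QuotientGroup.mk' A')).hom) = _ from h1] at h2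
    have h3 : (QuotientGroup.mk (QuotientGroup.mk' A' b) : (A ⧸ A') ⧸ V.toSubgroup) = 1 :=
      h2.symm.trans (congrArg (fun z => z.1 V) hx)
    rw [QuotientGroup.eq_one_iff] at h3
    obtain ⟨u, hu, hub⟩ := h3
    refine ⟨⟨u⁻¹ * b, ?_⟩, ?_⟩
    · exact (QuotientGroup.eq.1 hub)
    · rw [← hb]
      show (QuotientGroup.mk b : A ⧸ U.toSubgroup) = QuotientGroup.mk (u⁻¹ * b)
      rw [QuotientGroup.eq, show b⁻¹ * (u⁻¹ * b) = u⁻¹ by rw [mul_left_comm, inv_mul_cancel, mul_one]]
      exact U.toSubgroup.inv_mem hu
  · rintro _ ⟨z, rfl⟩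
    refine Subtype.ext (funext fun V => ?_)
    refine (GrothLib.ProfCompl21.map_apply _ _ V).trans ?_
    refine (congrArg _ (GrothLib.ProfCompl21.map_apply _ z _)).trans ?_
    obtain ⟨a, ha⟩ := QuotientGroup.mk_surjective
      (z.1 ((V.comap (QuotientGroup.mk' A')).comap A'.subtype))
    erw [← ha]
    show (QuotientGroup.mk (QuotientGroup.mk' A' a.1) : (A ⧸ A') ⧸ V.toSubgroup) = 1
    rw [QuotientGroup.mk'_apply, (QuotientGroup.eq_one_iff a.1).2 a.2, QuotientGroup.mk_one]

end Groth.Agent.S13379
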