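import Groth.Statements.S13381
import Groth.Agent.Lib.FinSupp2.Main


set_option autoImplicit false
set_option linter.all false
set_option backward.isDefEq.respectTransparency false
set_option maxHeartbeats 1000000
universe u
open AlgGrpK

namespace Groth.Agent.S13381

open CategoryTheory AlgebraicGeometry MonObj CartesianMonoidalCategory in
/-- A commutative group scheme G of finite type over a field k has a finite subgroup scheme E with G/E
smooth and connected; stated with the quotient given as a flat surjective homomorphism q : G → Q of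
k-group schemes whose kernel is E, Q smooth over k with connected underlying space. -/
theorem result (k : Type u) [Field k]
    (G : Over (Spec (CommRingCat.of k))) [GrpObj G] [IsCommMonObj G] [LocallyOfFiniteType G.hom] [QuasiCompact G.hom] :
    ∃ (E Q : Over (Spec (CommRingCat.of k))) (_ : GrpObj E) (_ : GrpObj Q) (i : E ⟶ G) (q : G ⟶ Q)
      (_ : IsMonHom i) (_ : IsMonHom q),
      Mono i ∧ IsFinite E.hom ∧ AlgGrp.IsKernel i q ∧ Flat q.left ∧ Surjective q.left ∧
        Smooth Q.hom ∧ ConnectedSpace Q.left := by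
  haveI : IsSeparated G.hom := GrothLib.GrpSchField.isSeparated G
  obtain ⟨H, _, h, G₁, _, q₁, hh, hhc, hHfin, -, hq₁, hq₁f, hq₁s, hq₁k, hG₁s, hq₁q, hG₁q⟩ :=
    GrothLib.FrobImg2.exists_smooth_quot G
  haveI := hh; haveI := hhc; haveI := hHfin; haveI := hq₁; haveI := hq₁f; haveI := hq₁s
  haveI := hG₁s; haveI := hq₁q; haveI : QuasiCompact G₁.hom := hG₁q inferInstance
  haveI : IsLocallyNoetherian G₁.left := LocallyOfFiniteType.isLocallyNoetherian G₁.hom
  haveI : LocallyOfFiniteType q₁.left := by
    haveI : LocallyOfFiniteType (q₁.left ≫ G₁.hom) := by rw [Over.w q₁]; infer_instance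
    exact locallyOfFiniteType_of_comp q₁.left G₁.hom
  haveI : Epi q₁ := GrothLib.SemiAbExp2.epi_of_fppf q₁
  haveI : IsCommMonObj G₁ := GrothLib.AlgGrp14.isCommMonObj_of_epi q₁
  haveI : IsFinite q₁.left := GrothLib.FinSupp2.isFinite_of_kernel q₁ h hq₁k
  obtain ⟨Q, _, q₂, hq₂, hq₂f, hq₂s, hq₂fin, hQs, hQq, hQc⟩ := GrothLib.FinSupp2.exists_isogeny G₁
  haveI := hq₂; haveI := hq₂f; haveI := hq₂s; haveI := hq₂fin
  haveI : Flat (q₁ ≫ q₂).left := inferInstanceAs (Flat (q₁.left ≫ q₂.left))
  haveI : Surjective (q₁ ≫ q₂).left := inferInstanceAs (Surjective (q₁.left ≫ q₂.left))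
  haveI : IsFinite (q₁ ≫ q₂).left := inferInstanceAs (IsFinite (q₁.left ≫ q₂.left))
  haveI : LocallyOfFiniteType Q.hom := inferInstance
  obtain ⟨E, _, i, hi, hic, hk⟩ := GrothLib.IsogFactor19.exists_kernel (q₁ ≫ q₂)
  haveI := hic
  have hfin : IsFinite (toUnit E).left :=
    MorphismProperty.of_isPullback (P := @IsFinite) (hk.map (Over.forget _)) ‹_›
  exact ⟨E, Q, inferInstance, inferInstance, i, q₁ ≫ q₂, hi, inferInstance, Over.mono_of_mono_left i,
    hfin, hk, inferInstance, inferInstance, hQs, hQc⟩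

end Groth.Agent.S13381
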