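import Groth.Statements.S13383
import Groth.Agent.Lib.FppfH90Sch6.Main
import Groth.Agent.Lib.GaUnits.Basic
import Groth.Agent.Lib.PullH25.Ext
-- import your own Groth.Agent.* helpers here

set_option autoImplicit false
set_option backward.isDefEq.respectTransparency false
set_option backward.isDefEq.respectTransparency.types false
set_option linter.style.haveILetI false
universe u
open GaDual

namespace Groth.Agent.S13383

open CategoryTheory CategoryTheory.Limits AlgebraicGeometry Opposite MonoidalCategory CartesianMonoidalCategory MonObj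
open GrothLib.GaDualQ13 (GaSh GmSh gmVal gmVal_injective gmVal_map gmVal_add isUnit_gmVal)

local notation "fppf" => Scheme.fppfPrecoverage

variable {X : Scheme.{u}}

theorem isReduced_Ga_prod [IsReduced X] : IsReduced (Red.Ga X ⊗ Red.Ga X).left := by
  haveI := GrothLib.GaUnits.isReduced_Ga X
  haveI := GrothLib.GaUnits.isReduced_Ga (Red.Ga X).left
  have h0 := IsPullback.of_hasPullback Red.GaZ.hom (IsTerminal.from specULiftZIsTerminal X)
  have h1 : IsPullback (fst (Red.Ga X) (Red.Ga X)).left (snd (Red.Ga X) (Red.Ga X)).left (Red.Ga X).hom (Red.Ga X).hom :=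
    IsPullback.of_hasPullback _ _
  have h2 := h1.paste_horiz h0
  rw [show (Red.Ga X).hom ≫ IsTerminal.from specULiftZIsTerminal X =
    IsTerminal.from specULiftZIsTerminal (Red.Ga X).left from specULiftZIsTerminal.hom_ext _ _] at h2
  haveI : AlgebraicGeometry.IsReduced (pullback Red.GaZ.hom (specULiftZIsTerminal.from (Red.Ga X).left)) :=
    GrothLib.GaUnits.isReduced_Ga (Red.Ga X).left
  exact isReduced_of_isOpenImmersion h2.isoPullback.hom

/-- Invertible functions on the square of the additive group are constant. -/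
theorem gmFn_eq_const [IsReduced X] (w : Red.Ga X ⊗ Red.Ga X ⟶ Red.Gm X) :
    w = toUnit _ ≫ lift (1 : 𝟙_ (Over X) ⟶ Red.Ga X) 1 ≫ w := by
  haveI := isReduced_Ga_prod (X := X)
  apply GmPts.gmFn_injective
  beta_reduce
  rw [GmPts.gmFn_comp (toUnit _)]
  refine GrothLib.GaUnits.ext_of_points fun K _ P => ?_
  let T : Over X := Over.mk (P ≫ (Red.Ga X ⊗ Red.Ga X).hom)
  let p : T ⟶ Red.Ga X ⊗ Red.Ga X := Over.homMk P rfl
  let gK := (Scheme.ΓSpecIso (CommRingCat.of K)).inv
  let gP := (Scheme.ΓSpecIso (CommRingCat.of (MvPolynomial PUnit.{u + 1} K))).inv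
  let T' : Over X := Over.mk (Spec.map (CommRingCat.ofHom (MvPolynomial.C : K →+* MvPolynomial PUnit.{u + 1} K)) ≫ T.hom)
  obtain ⟨a, ha⟩ := (ConcreteCategory.bijective_of_isIso gK).2 (Red.gaFn (p ≫ fst _ _))
  obtain ⟨b, hb⟩ := (ConcreteCategory.bijective_of_isIso gK).2 (Red.gaFn (p ≫ snd _ _))
  let z : K → (T' ⟶ Red.Ga X) := fun c =>
    GrothLib.RedPts.gaPt (gP (MvPolynomial.C c * MvPolynomial.X PUnit.unit))
  let ev : (PUnit.{u + 1} → K) → (T ⟶ T') := fun e => Over.homMk (Spec.map (CommRingCat.ofHom (MvPolynomial.eval e))) (by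
    change Spec.map (CommRingCat.ofHom (MvPolynomial.eval e)) ≫ Spec.map (CommRingCat.ofHom MvPolynomial.C) ≫ T.hom = T.hom
    rw [← Category.assoc, GrothLib.GaUnits.specMap_eval_C, Category.id_comp])
  have hz : ∀ e c, Red.gaFn (ev e ≫ z c) = gK (c * e PUnit.unit) := fun e c => by
    rw [GrothLib.RedPts.gaFn_comp, GrothLib.RedPts.gaFn_gaPt]
    refine (congr($(Scheme.ΓSpecIso_inv_naturality (CommRingCat.ofHom (MvPolynomial.eval e))).hom _)).symm.trans ?_
    exact congrArg gK ((map_mul (MvPolynomial.eval e) _ _).trans (by simp))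
  let l : T' ⟶ Red.Ga X ⊗ Red.Ga X := lift (z a) (z b)
  have h1 : ev (fun _ => 1) ≫ l = p := by
    apply CartesianMonoidalCategory.hom_ext
    · rw [Category.assoc, lift_fst]
      exact GrothLib.RedPts.gaFn_injective ((hz _ _).trans (by rw [_root_.mul_one, ha]))
    · rw [Category.assoc, lift_snd]
      exact GrothLib.RedPts.gaFn_injective ((hz _ _).trans (by rw [_root_.mul_one, hb]))
  have h0 : ev 0 ≫ l = toUnit T ≫ lift (1 : 𝟙_ (Over X) ⟶ Red.Ga X) 1 := by
    apply CartesianMonoidalCategory.hom_ext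
    · rw [Category.assoc, lift_fst, Category.assoc, lift_fst, MonObj.comp_one]
      exact GrothLib.RedPts.gaFn_injective ((hz _ _).trans (by rw [GrothLib.GaUnits.gaFn_one]; simp))
    · rw [Category.assoc, lift_snd, Category.assoc, lift_snd, MonObj.comp_one]
      exact GrothLib.RedPts.gaFn_injective ((hz _ _).trans (by rw [GrothLib.GaUnits.gaFn_one]; simp))
  have key : Red.gmFn (p ≫ w) = Red.gmFn (toUnit T ≫ lift (1 : 𝟙_ (Over X) ⟶ Red.Ga X) 1 ≫ w) := by
    rw [← h1, ← reassoc_of% h0, Category.assoc, GmPts.gmFn_comp, GmPts.gmFn_comp (ev 0)]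
    exact GrothLib.GaUnits.eval_unit _ (GmPts.isUnit_gmFn _) _ _
  rw [GmPts.gmFn_comp, ← comp_toUnit p, Category.assoc, GmPts.gmFn_comp, GmPts.gmFn_comp (toUnit _)] at key
  exact key

open CategoryTheory AlgebraicGeometry in
/-- Let X be a reduced scheme such that every invertible module on the total space of the additive group
over X (the affine line over X) is trivial. Then Ext^1 of the additive group by the multiplicative
group, computed in abelian sheaves on the big fppf site of X, vanishes. (The published statement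
concludes H^1(X, Hom-sheaf(G_a, G_m)) = 0, which follows from this Ext^1 vanishing; this row states
the Ext^1 vanishing.) -/
theorem result (X : Scheme.{u}) [IsReduced X]
    (hPic : ∀ L : (Red.Ga X).left.Modules, PicF.IsInvertible L →
      Nonempty (L ≅ Coh.structureModule (Red.Ga X).left)) :
    Subsingleton (CGrpSh.ExtS Scheme.fppfPrecoverage (Red.Ga X) (Red.Gm X) 1) := by
  refine subsingleton_of_forall_eq 0 fun ξ => ?_
  obtain ⟨y, rfl⟩ := GrothLib.PullH25.exists_comp_extClass (n := 0) ξ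
  obtain ⟨φ, rfl⟩ := (Abelian.Ext.mk₀_bijective _ _).2 y
  let C := ShortComplex.mk (Injective.ι (GmSh X)) (cokernel.π (Injective.ι (GmSh X))) (cokernel.condition _)
  have hC : C.ShortExact := GrothLib.PullH25.injSES_shortExact _
  suffices ∃ ψ : GaSh X ⟶ C.X₂, ψ ≫ C.g = φ by
    obtain ⟨ψ, rfl⟩ := this
    rw [← Abelian.Ext.mk₀_comp_mk₀, Abelian.Ext.comp_assoc_of_second_deg_zero]
    erw [hC.comp_extClass]
    rw [Abelian.Ext.comp_zero]
  let G := Red.Ga X
  let A := GaSh X
  let pt : ∀ {T : Over X}, (T ⟶ G) → A.obj.obj (op T) := fun x => ULift.up.{u + 1} (Additive.ofMul x)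
  have hpt : ∀ {T T' : Over X} (h : T' ⟶ T) (x : T ⟶ G), A.obj.map h.op (pt x) = pt (h ≫ x) := fun h x => rfl
  have hptm : ∀ {T : Over X} (x y : T ⟶ G), pt (x * y) = pt x + pt y := fun x y => rfl
  obtain ⟨t, ht⟩ := GrothLib.FppfH90Sch6.exists_lift C.f C.g C.zero hC (Y := G) hPic (φ.hom.app (op G) (pt (𝟙 G)))
  have hgt : ∀ {T : Over X} (x : T ⟶ G), C.g.hom.app (op T) (C.X₂.obj.map x.op t) = φ.hom.app (op T) (pt x) := by
    intro T x
    refine (NatTrans.naturality_apply C.g.hom x.op t).trans ((congrArg _ ht).trans ?_)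
    refine (NatTrans.naturality_apply φ.hom x.op _).symm.trans (congrArg _ ?_)
    exact (hpt x (𝟙 G)).trans (congrArg pt (Category.comp_id x))
  let m : G ⊗ G ⟶ G := fst G G * snd G G
  obtain ⟨v, hv⟩ := (GrothLib.FppfH90Sch6.g_eq_zero_iff C.f C.g C.zero hC (G ⊗ G)
    (C.X₂.obj.map m.op t - C.X₂.obj.map (fst G G).op t - C.X₂.obj.map (snd G G).op t)).1 (by
      rw [map_sub, map_sub, hgt, hgt, hgt, show pt m = _ from hptm _ _, map_add]
      abel)
  let o : 𝟙_ (Over X) ⟶ G ⊗ G := lift 1 1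
  let v₀ : (GmSh X).obj.obj (op (𝟙_ (Over X))) := (GmSh X).obj.map o.op v
  have hv₀ : v = (GmSh X).obj.map (toUnit (G ⊗ G)).op v₀ := by
    apply ULift.ext
    exact congrArg Additive.ofMul (gmFn_eq_const (show ULift.{u + 1} (Additive (G ⊗ G ⟶ Red.Gm X)) from v).down.toMul)
  let d : C.X₂.obj.obj (op G) := C.f.hom.app (op G) ((GmSh X).obj.map (toUnit G).op v₀)
  obtain ⟨t', ht'⟩ : ∃ t', t' = t + d := ⟨_, rfl⟩
  have hd : ∀ {T : Over X} (x : T ⟶ G), C.X₂.obj.map x.op d = C.f.hom.app (op T) ((GmSh X).obj.map (toUnit T).op v₀) := by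
    intro T x
    refine (NatTrans.naturality_apply C.f.hom x.op _).symm.trans (congrArg _ ?_)
    refine (GrothLib.AdeqMod20.map_comp_app (GmSh X).obj x (toUnit G) v₀).trans ?_
    rw [comp_toUnit x]
  have hadd₀ : C.X₂.obj.map m.op t' = C.X₂.obj.map (fst G G).op t' + C.X₂.obj.map (snd G G).op t' := by
    simp only [ht', map_add, hd]
    rw [← hv₀]
    rw [sub_sub, eq_sub_iff_add_eq] at hv
    rw [← hv]
    abel
  have hadd : ∀ {T : Over X} (x y : T ⟶ G),
      C.X₂.obj.map (x * y).op t' = C.X₂.obj.map x.op t' + C.X₂.obj.map y.op t' := by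
    intro T x y
    have e := congrArg (C.X₂.obj.map (lift x y).op) hadd₀
    rw [map_add, GrothLib.AdeqMod20.map_comp_app, GrothLib.AdeqMod20.map_comp_app, GrothLib.AdeqMod20.map_comp_app] at e
    simp only [m, MonObj.comp_mul, lift_fst, lift_snd] at e
    exact e
  let ψ : A ⟶ C.X₂ :=
    ⟨{ app := fun T => ConcreteCategory.ofHom (C := AddCommGrpCat.{u + 1}) (X := A.obj.obj T) (Y := C.X₂.obj.obj T)
        (AddMonoidHom.mk' (fun a => C.X₂.obj.map
          ((show ULift.{u + 1} (Additive (unop T ⟶ G)) from a).down.toMul).op t') fun a b => hadd _ _)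
       naturality := fun T T' h => AddCommGrpCat.ext fun a =>
        (GrothLib.AdeqMod20.map_comp_app C.X₂.obj h.unop _ t').symm }⟩
  refine ⟨ψ, Sheaf.hom_ext (NatTrans.ext (funext fun T => AddCommGrpCat.ext fun a => ?_))⟩
  let x : unop T ⟶ G := (show ULift.{u + 1} (Additive (unop T ⟶ G)) from a).down.toMul
  show C.g.hom.app (op (unop T)) (C.X₂.obj.map x.op t') = φ.hom.app (op (unop T)) (pt x)
  rw [ht', map_add, map_add, hgt, hd,
    (GrothLib.FppfH90Sch6.g_eq_zero_iff C.f C.g C.zero hC _ _).2 ⟨_, rfl⟩, add_zero]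

end Groth.Agent.S13383
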