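import Groth.Statements.S13384
import Groth.Agent.Lib.OneMotFaith14.Points
import Groth.Agent.Lib.TorusNorm25.Torus
import Groth.Agent.Lib.RedSmooth.Basic
import Groth.Agent.Lib.AbAff14.Core
import Groth.Agent.Lib.GrpDeligne.Basic
import Groth.Agent.Lib.GrpDeligne.Factor
import Groth.Agent.Lib.NormQF14.Pow
import Groth.Agent.Lib.TorusPrim24.Main
import Groth.Agent.Lib.GrpSchField.HomFlat
import Groth.Agent.Lib.CentMT14.Reductive
import Groth.Agent.Lib.KerDiag14.Basic
import Groth.Agent.Lib.Neutral.QCHom
import Groth.Agent.Lib.Flag27.Normalizer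
import Groth.Agent.Lib.ProperDesc13.Action
import Groth.Agent.Lib.QuotTorus14.Basic
-- import your own Groth.Agent.* helpers here

set_option autoImplicit false
universe u
open AlgGrpK

namespace Groth.Agent.S13384

open CategoryTheory AlgebraicGeometry MonoidalCategory in
open MonObj CartesianMonoidalCategory CategoryTheory.Limits in
set_option maxHeartbeats 1000000 in
/-- If an affine commutative group scheme G of finite type over a field k contains a subtorus T with
finite quotient G/T (given as a flat surjective homomorphism with kernel T onto a finite k-group),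
then G receives an isogeny — a flat surjective homomorphism with finite kernel — from the product of
a finite k-group scheme and a k-torus. (The published statement also gives two further equivalent
conditions, on the reduced identity component over an algebraic closure and on Weil restrictions of
split tori; this row states only this implication.) -/
theorem result (k : Type u) [Field k]
    (G : Over (Spec (CommRingCat.of k))) [GrpObj G] [IsCommMonObj G]
    [LocallyOfFiniteType G.hom] [QuasiCompact G.hom] [IsAffine G.left]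
    (T Q : Over (Spec (CommRingCat.of k))) [GrpObj T] [GrpObj Q] (j : T ⟶ G) (q : G ⟶ Q)
    [IsMonHom j] [IsMonHom q] [Mono j] (hT : Red.IsTorus T) (hker : AlgGrp.IsKernel j q)
    [Flat q.left] [Surjective q.left] [IsFinite Q.hom] :
    ∃ (A T' : Over (Spec (CommRingCat.of k))) (_ : GrpObj A) (_ : GrpObj T') (f : A ⊗ T' ⟶ G) (_ : IsMonHom f),
      IsFinite A.hom ∧ Red.IsTorus T' ∧ SGA7.IsIsogenyOver f ∧ Flat f.left := by
  haveI := GrothLib.EssFree.isAffineHom_multTypeFT T
    (GrothLib.QuotTorus14.isMultTypeFT_of_charts (GrothLib.DiagGrp.hasChartsFpqc_of_isTorus hT))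
  haveI := GrothLib.TorusNorm25.smooth_of_isTorus hT
  haveI : IsAffine T.left := isAffine_of_isAffineHom T.hom
  haveI : IsAffineHom T.hom := isAffineHom_of_isAffine _
  haveI : IsReduced T.left := GrothLib.RedSmooth.isReduced_of_smooth T.hom
  haveI := GrothLib.AbAff14.isCommMonObj_of_mono j
  haveI := GrothLib.AbAff14.isCommMonObj_of_epi q
  haveI : Flat Q.hom := GrothLib.ProperDesc13.flat_hom Q
  haveI : LocallyOfFinitePresentation Q.hom := GrothLib.GrpSchField.lfp_of_isLocallyNoetherian _
  let x₀ : ↥(Spec (CommRingCat.of k)) := IsLocalRing.closedPoint k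
  obtain ⟨n, hn, hQn⟩ : ∃ n : ℕ, 0 < n ∧ (𝟙 Q) ^ n = 1 := by
    refine ⟨Q.hom.finrank x₀, ?_, GrothLib.GrpDeligne.pow_id_eq_one Q _ fun s => by
      rw [Subsingleton.elim (α := PrimeSpectrum k) s x₀]⟩
    have h := Scheme.Hom.one_le_finrank_map (f := Q.hom) (η[Q].left x₀)
    rwa [Subsingleton.elim (α := PrimeSpectrum k) (Q.hom (η[Q].left x₀)) x₀] at h
  let pn : G ⟶ G := 𝟙 G ^ n
  haveI : IsMonHom pn := GrothLib.GrpDeligne.isMonHom_pow (𝟙 G) n
  let tn : T ⟶ T := 𝟙 T ^ n
  haveI : IsMonHom tn := GrothLib.GrpDeligne.isMonHom_pow (𝟙 T) n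
  haveI : IsFinite tn.left := GrothLib.NormQF14.isFinite_pow T
    (GrothLib.QuotTorus14.isMultTypeFT_of_charts (GrothLib.DiagGrp.hasChartsFpqc_of_isTorus hT)) n hn
  haveI : Surjective tn.left := GrothLib.TorusPrim24.surjective_pow_of_isTorus hT hn
  haveI : Flat tn.left := GrothLib.GrpSchField.flat_hom tn
  have hpq : pn ≫ q = 1 := by
    calc pn ≫ q = q ≫ (𝟙 Q ^ n) := by
          rw [MonObj.pow_comp, MonObj.comp_pow, Category.id_comp, Category.comp_id]
      _ = 1 := by rw [hQn, MonObj.comp_one]
  obtain ⟨c, hc⟩ := GrothLib.GrpDeligne.exists_lift_ker hker pn hpq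
  haveI : IsMonHom (c ≫ j) := by rw [hc]; infer_instance
  haveI : IsMonHom c := GrothLib.CentMT14.isMonHom_of_comp c j
  -- the n-torsion of G
  obtain ⟨A, a, hA⟩ : ∃ (A : Over (Spec (CommRingCat.of k))) (a : A ⟶ G), AlgGrp.IsKernel a pn := by
    refine ⟨_, pullback.fst pn η[G], ?_⟩
    show IsPullback _ _ _ _
    rw [Subsingleton.elim (toUnit _) (pullback.snd pn η[G])]
    exact IsPullback.of_hasPullback _ _
  obtain ⟨instA, ha⟩ := GrothLib.GrpDeligne.exists_grpObj_kernel pn a hA
  haveI := ha
  haveI : Mono a := GrothLib.GrpDeligne.mono_of_isKernel hA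
  have hpow : ∀ {X : Over (Spec (CommRingCat.of k))} (x : X ⟶ G), x ≫ pn = x ^ n := fun x => by
    rw [MonObj.comp_pow, Category.comp_id]
  have htn : ∀ {X : Over (Spec (CommRingCat.of k))} (x : X ⟶ T), x ≫ tn = x ^ n := fun x => by
    rw [MonObj.comp_pow, Category.comp_id]
  have han : a ^ n = 1 := by rw [← hpow, GrothLib.GrpDeligne.ker_comp_eq_one hA]
  haveI : IsClosedImmersion a.left := by
    haveI := GrothLib.GrpSchField.unit_isClosedImmersion G
    exact MorphismProperty.of_isPullback (hA.map (Over.forget _)).flip (inferInstanceAs (IsClosedImmersion η[G].left))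
  haveI : IsAffine A.left := isAffine_of_isAffineHom a.left
  haveI : LocallyOfFiniteType A.hom := by rw [← Over.w a]; infer_instance
  let f : A ⊗ T ⟶ G := (fst A T ≫ a) * (snd A T ≫ j)
  haveI : IsMonHom f := GrothLib.Flag27.isMonHom_mul_of_comm (fun x y => _root_.mul_comm x y) _ _
  have hsq : IsPullback f (snd A T) c tn := by
    have hw : f ≫ c = snd A T ≫ tn := by
      rw [← cancel_mono j, Category.assoc, hc, hpow, Category.assoc, mul_pow, ← MonObj.comp_pow, ← MonObj.comp_pow,
        han, MonObj.comp_one, _root_.one_mul, MonObj.pow_comp, Category.id_comp]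
    have hex : ∀ s : PullbackCone c tn, ∃ z : s.pt ⟶ A, z ≫ a = s.fst * (s.snd ≫ j)⁻¹ := fun s =>
      GrothLib.GrpDeligne.exists_lift_ker hA _ (by
        have h := s.condition =≫ j
        rw [Category.assoc, hc, hpow, htn, MonObj.pow_comp] at h
        rw [hpow, mul_pow, inv_pow, h, mul_inv_cancel])
    refine IsPullback.of_isLimit' ⟨hw⟩ (PullbackCone.IsLimit.mk _
      (fun s => lift (hex s).choose s.snd) (fun s => ?_) (fun s => lift_snd _ _) fun s m h1 h2 => ?_)
    · show _ ≫ ((fst A T ≫ a) * (snd A T ≫ j)) = _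
      rw [MonObj.comp_mul, lift_fst_assoc, lift_snd_assoc, (hex s).choose_spec, inv_mul_cancel_right]
    · apply CartesianMonoidalCategory.hom_ext
      · rw [lift_fst, ← cancel_mono a, (hex s).choose_spec, Category.assoc]
        change m ≫ ((fst A T ≫ a) * (snd A T ≫ j)) = _ at h1
        rw [MonObj.comp_mul, reassoc_of% h2] at h1
        exact eq_mul_inv_of_mul_eq h1
      · rw [lift_snd, h2]
  have hfl := hsq.map (Over.forget _)
  haveI : IsFinite f.left := MorphismProperty.of_isPullback hfl.flip ‹IsFinite tn.left›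
  haveI hfs : Surjective f.left := MorphismProperty.of_isPullback hfl.flip ‹Surjective tn.left›
  haveI hff : Flat f.left := MorphismProperty.of_isPullback hfl.flip ‹Flat tn.left›
  -- the torsion is finite
  have hfin : IsFinite A.hom := by
    obtain ⟨K, kn, hK⟩ : ∃ (K : Over (Spec (CommRingCat.of k))) (kn : K ⟶ T), AlgGrp.IsKernel kn tn := by
      refine ⟨_, pullback.fst tn η[T], ?_⟩
      show IsPullback _ _ _ _
      rw [Subsingleton.elim (toUnit _) (pullback.snd tn η[T])]
      exact IsPullback.of_hasPullback _ _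
    haveI : IsFinite K.hom := by
      have h : IsFinite (toUnit K).left := MorphismProperty.of_isPullback (hK.map (Over.forget _)) ‹IsFinite tn.left›
      rw [← Over.w (toUnit K)]
      haveI : IsIso (𝟙_ (Over (Spec (CommRingCat.of k)))).hom := inferInstanceAs (IsIso (𝟙 (Spec (CommRingCat.of k))))
      infer_instance
    haveI : Mono kn := GrothLib.GrpDeligne.mono_of_isKernel hK
    have hkn : kn ^ n = 1 := by rw [← htn, GrothLib.GrpDeligne.ker_comp_eq_one hK]
    obtain ⟨l, hl⟩ := GrothLib.GrpDeligne.exists_lift_ker hA (kn ≫ j) (by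
      rw [hpow, ← MonObj.pow_comp, hkn, MonObj.one_comp])
    let ψ : A ⟶ Q := a ≫ q
    have hkψ : AlgGrp.IsKernel l ψ := by
      have h0 : l ≫ ψ = toUnit K ≫ η[Q] := by
        rw [← Hom.one_def, reassoc_of% hl, GrothLib.GrpDeligne.ker_comp_eq_one hker, MonObj.comp_one]
      have hex : ∀ s : PullbackCone ψ η[Q], ∃ z : s.pt ⟶ K, z ≫ l = s.fst := fun s => by
        obtain ⟨t, ht⟩ := GrothLib.GrpDeligne.exists_lift_ker hker (s.fst ≫ a) (by
          rw [Category.assoc]; exact s.condition.trans (by rw [toUnit_unique s.snd (toUnit _), Hom.one_def]))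
        obtain ⟨z, hz⟩ := GrothLib.GrpDeligne.exists_lift_ker hK t (by
          rw [← cancel_mono j, htn, MonObj.pow_comp, ht, MonObj.one_comp, ← MonObj.comp_pow, han, MonObj.comp_one])
        exact ⟨z, by rw [← cancel_mono a, Category.assoc, hl, reassoc_of% hz, ht]⟩
      haveI : Mono (l ≫ a) := by rw [hl]; infer_instance
      haveI : Mono l := mono_of_mono l a
      exact IsPullback.of_isLimit' ⟨h0⟩ (PullbackCone.IsLimit.mk _ (fun s => (hex s).choose)
        (fun s => (hex s).choose_spec) (fun s => Subsingleton.elim _ _)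
        fun s m h1 _ => (cancel_mono l).1 (h1.trans (hex s).choose_spec.symm))
    obtain ⟨_, _⟩ := GrothLib.GrpDeligne.exists_grpObj_kernel ψ l hkψ
    haveI : IsAffineHom A.hom := isAffineHom_of_isAffine _
    haveI : QuasiCompact ψ.left := by
      haveI : QuasiCompact (ψ.left ≫ Q.hom) := by rw [Over.w]; infer_instance
      exact QuasiCompact.of_comp ψ.left Q.hom
    haveI : LocallyOfFiniteType ψ.left := by
      haveI : LocallyOfFiniteType (ψ.left ≫ Q.hom) := by rw [Over.w]; infer_instance
      exact locallyOfFiniteType_of_comp ψ.left Q.hom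
    haveI : LocallyQuasiFinite ψ.left := (GrothLib.KerDiag14.lqf_iff ψ l hkψ).2.1.2 inferInstance
    haveI : IsFinite ψ.left := GrothLib.Neutral.isFinite_of_quasiCompact ψ
    rw [← Over.w ψ]; infer_instance
  refine ⟨A, T, instA, inferInstance, f, inferInstance, hfin, hT, ⟨hfs, fun N i hN => ?_⟩, hff⟩
  have h : IsFinite (toUnit N).left := MorphismProperty.of_isPullback (hN.map (Over.forget _)) ‹IsFinite f.left›
  rw [← Over.w (toUnit N)]
  haveI : IsIso (𝟙_ (Over (Spec (CommRingCat.of k)))).hom := inferInstanceAs (IsIso (𝟙 (Spec (CommRingCat.of k))))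
  infer_instance

end Groth.Agent.S13384
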