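import Groth.Statements.S13386
-- import your own Groth.Agent.* helpers here
import Mathlib.RingTheory.Localization.Basic

set_option autoImplicit false
universe u
open scoped TensorProduct
open ZeroCyc

namespace Groth.Agent.S13386

/-- Let A' = T⁻¹A be a localization of the ring A, M an A-module and M' = A' ⊗_A M. In the divided power
algebra Γ_{A'}(M') the A'-span of the d-th divided powers γ_d(1 ⊗ m), m ∈ M, is the A'-span of
γ_d(M'). (The published statement phrases this as the surjectivity of the natural map from (γ_d(M))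
⊗_A A' onto (γ_d(M')); its further clause through the base-change isomorphism Γ_A(M) ⊗_A A' ≅
Γ_{A'}(M') is not restated here.) -/
theorem result {A A' M : Type u} [CommRing A] [CommRing A']
    [Algebra A A'] (T : Submonoid A) [IsLocalization T A'] [AddCommGroup M] [Module A M] (d : ℕ) :
    Submodule.span A' (Set.range fun m : M => DividedPowerAlgebra.dp A' d ((1 : A') ⊗ₜ[A] m)) =
      Submodule.span A' (Set.range (DividedPowerAlgebra.dp A' d (M := A' ⊗[A] M))) := by
  refine le_antisymm (Submodule.span_mono ?_) (Submodule.span_le.mpr ?_)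
  · rintro _ ⟨m, rfl⟩; exact ⟨_, rfl⟩
  rintro _ ⟨y, rfl⟩
  have key : ∀ y : A' ⊗[A] M, ∃ (a : A') (m : M), a • ((1 : A') ⊗ₜ[A] m) = y := fun y => by
    induction y using TensorProduct.induction_on with
    | tmul a m => exact ⟨a, m, by rw [TensorProduct.smul_tmul', smul_eq_mul, mul_one]⟩
    | zero => exact ⟨0, 0, zero_smul _ _⟩
    | add x y hx hy =>
      obtain ⟨a, m, rfl⟩ := hx
      obtain ⟨b, n, rfl⟩ := hy
      obtain ⟨⟨r, s⟩, hr⟩ := IsLocalization.surj T a
      obtain ⟨⟨r', s'⟩, hr'⟩ := IsLocalization.surj T b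
      obtain ⟨u, hu⟩ := IsLocalization.map_units A' (s * s')
      refine ⟨(u⁻¹ : A'ˣ), (r * s') • m + (r' * s) • n, ?_⟩
      rw [TensorProduct.tmul_add, TensorProduct.tmul_smul, TensorProduct.tmul_smul, ← algebraMap_smul A' (r * s'),
        ← algebraMap_smul A' (r' * s : A), smul_add, smul_smul, smul_smul, map_mul, map_mul, ← hr, ← hr']
      congr 1
      · congr 1
        rw [mul_assoc, ← map_mul, ← Submonoid.coe_mul, ← hu, mul_left_comm, Units.inv_mul, mul_one]
      · congr 1
        rw [mul_assoc, ← map_mul, mul_comm (s' : A), ← Submonoid.coe_mul, ← hu, mul_left_comm, Units.inv_mul, mul_one]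
  obtain ⟨a, m, rfl⟩ := key y
  rw [DividedPowerAlgebra.dp_smul]
  exact Submodule.smul_mem _ _ (Submodule.subset_span ⟨m, rfl⟩)

end Groth.Agent.S13386
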