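import Groth.Statements.S13388
import Mathlib.RingTheory.LocalRing.Module
import Mathlib.FieldTheory.Finite.Basic
import Mathlib.RingTheory.MvPolynomial.Ideal
import Mathlib.Algebra.Polynomial.HasseDeriv
import Mathlib.Algebra.Polynomial.Taylor

set_option autoImplicit false
universe u
open ZeroCyc

namespace Groth.Agent.S13388

open scoped Polynomial TensorProduct
open Finset (antidiagonal)

/-- Divided power relation for `∏ (1 + eᵢ T)` with square-zero `eᵢ`. -/
theorem genPoly_coeff_mul {S : Type u} [CommRing S] {d : ℕ} (e : Fin d → S)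
    (he : ∀ i, e i * e i = 0) (n p : ℕ) :
    (∏ i, (1 + Polynomial.C (e i) * Polynomial.X : S[X])).coeff n *
        (∏ i, (1 + Polynomial.C (e i) * Polynomial.X : S[X])).coeff p =
      (n + p).choose n • (∏ i, (1 + Polynomial.C (e i) * Polynomial.X : S[X])).coeff (n + p) := by
  set F : S[X] := ∏ i, (1 + Polynomial.C (e i) * Polynomial.X : S[X]) with hF
  have key : F.map Polynomial.C * Polynomial.C F =
      (F.map Polynomial.C).comp (Polynomial.X + Polynomial.C Polynomial.X) := by
    rw [hF, Polynomial.map_prod, Polynomial.prod_comp, map_prod, ← Finset.prod_mul_distrib]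
    refine Finset.prod_congr rfl fun i _ => ?_
    have h' := congrArg (Polynomial.C : S[X] →+* _) (congrArg Polynomial.C (he i))
    simp only [map_mul, map_zero] at h'
    simp only [Polynomial.map_add, Polynomial.map_one, Polynomial.map_mul, Polynomial.map_C,
      Polynomial.map_X, map_add, map_one, map_mul, Polynomial.add_comp, Polynomial.one_comp,
      Polynomial.mul_comp, Polynomial.C_comp, Polynomial.X_comp]
    linear_combination (Polynomial.X * Polynomial.C (Polynomial.X : S[X])) * h'
  have h := congrArg (fun G => (Polynomial.coeff (Polynomial.coeff G n) p)) key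
  simp only [Polynomial.coeff_mul_C, Polynomial.coeff_map, Polynomial.coeff_C_mul] at h
  rw [h, ← Polynomial.taylor_apply, Polynomial.taylor_coeff]
  have hev : ((Polynomial.hasseDeriv n (F.map Polynomial.C)).eval Polynomial.X) =
      Polynomial.hasseDeriv n F := by
    have hd : Polynomial.hasseDeriv n (F.map Polynomial.C) =
        (Polynomial.hasseDeriv n F).map Polynomial.C := by
      ext1 j
      simp [Polynomial.hasseDeriv_coeff]
    rw [hd, Polynomial.eval_map, Polynomial.eval₂_C_X]
  rw [hev, Polynomial.hasseDeriv_coeff, add_comm p n, nsmul_eq_mul]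

section Target

variable (d : ℕ) (k : Type u) [Field k]

/-- The ideal of the squares of the variables. -/
noncomputable def sqIdeal : Ideal (MvPolynomial (Fin d) k) :=
  Ideal.span ((fun e => MvPolynomial.monomial e (1 : k)) ''
    Set.range (fun i : Fin d => Finsupp.single i 2))

/-- Square-zero variables. -/
abbrev Q : Type u := MvPolynomial (Fin d) k ⧸ sqIdeal d k

/-- The variables. -/
noncomputable def ε (i : Fin d) : Q d k := Ideal.Quotient.mk _ (MvPolynomial.X i)

theorem ε_mul_self (i : Fin d) : ε d k i * ε d k i = 0 := by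
  rw [ε, ← map_mul, Ideal.Quotient.eq_zero_iff_mem]
  refine Ideal.subset_span ⟨_, ⟨i, rfl⟩, ?_⟩
  rw [← pow_two, MvPolynomial.X_pow_eq_monomial]

theorem prod_ε_ne_zero : (∏ i, ε d k i) ≠ 0 := by
  classical
  intro h
  have he : (∏ i, ε d k i) = Ideal.Quotient.mk _
      (MvPolynomial.monomial (∑ i : Fin d, Finsupp.single i 1) (1 : k)) := by
    rw [MvPolynomial.monomial_sum_one, map_prod]
    rfl
  rw [he, Ideal.Quotient.eq_zero_iff_mem, sqIdeal,
    MvPolynomial.mem_ideal_span_monomial_image] at h
  obtain ⟨_, ⟨i, rfl⟩, hle⟩ := h _ (by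
    rw [MvPolynomial.mem_support_iff, MvPolynomial.coeff_monomial, if_pos rfl]
    exact one_ne_zero)
  have := hle i
  simp [Finsupp.single_apply] at this

variable {A M : Type u} [CommRing A] [AddCommGroup M] [Module A M] [Algebra A k]
  (c : Fin d → (M →ₗ[A] k))

/-- The generating polynomial of the divided powers of an element. -/
noncomputable def gen (m : M) : (Q d k)[X] :=
  ∏ i, (1 + Polynomial.C (algebraMap k (Q d k) (c i m) * ε d k i) * Polynomial.X)

theorem gen_add (u v : M) : gen d k c (u + v) = gen d k c u * gen d k c v := by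
  rw [gen, gen, gen, ← Finset.prod_mul_distrib]
  refine Finset.prod_congr rfl fun i _ => ?_
  have h : (algebraMap k (Q d k) (c i u) * ε d k i) * (algebraMap k (Q d k) (c i v) * ε d k i) = 0 := by
    rw [mul_mul_mul_comm, ε_mul_self, mul_zero]
  have h' := congrArg Polynomial.C h
  rw [map_mul, map_zero] at h'
  rw [map_add, map_add, add_mul, map_add]
  linear_combination (-(Polynomial.X ^ 2 : (Q d k)[X])) * h'

theorem gen_smul (r : A) (m : M) :
    gen d k c (r • m) = (gen d k c m).comp (Polynomial.C (algebraMap A (Q d k) r) * Polynomial.X) := by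
  rw [gen, gen, Polynomial.prod_comp]
  refine Finset.prod_congr rfl fun i _ => ?_
  have hr : algebraMap k (Q d k) (c i (r • m)) =
      algebraMap A (Q d k) r * algebraMap k (Q d k) (c i m) := by
    rw [map_smul, Algebra.smul_def, map_mul, ← IsScalarTower.algebraMap_apply A k (Q d k)]
  rw [hr, Polynomial.add_comp, Polynomial.one_comp, Polynomial.mul_comp, Polynomial.C_comp,
    Polynomial.X_comp]
  simp only [map_mul]
  ring

theorem coeff_mul (m : M) (n p : ℕ) :
    (gen d k c m).coeff n * (gen d k c m).coeff p =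
      (n + p).choose n • (gen d k c m).coeff (n + p) :=
  genPoly_coeff_mul (fun i => algebraMap k (Q d k) (c i m) * ε d k i)
    (fun i => by rw [mul_mul_mul_comm, ε_mul_self, mul_zero]) n p

/-- The algebra map out of the divided power algebra. -/
noncomputable def hom : DividedPowerAlgebra A M →ₐ[A] Q d k :=
  DividedPowerAlgebra.lift' (f := fun nm => (gen d k c nm.2).coeff nm.1)
    (fun m => by
      show (gen d k c m).coeff 0 = 1
      rw [Polynomial.coeff_zero_eq_eval_zero, gen, Polynomial.eval_prod]
      simp)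
    (fun n r m => by
      show (gen d k c (r • m)).coeff n = r ^ n • (gen d k c m).coeff n
      rw [gen_smul, Polynomial.comp_C_mul_X_coeff, mul_comm, ← map_pow]
      exact (Algebra.smul_def (r ^ n) _).symm)
    (fun n p m => coeff_mul d k c m n p)
    (fun n u v => by
      show (gen d k c (u + v)).coeff n = _
      rw [gen_add, Polynomial.coeff_mul])

theorem hom_dp (n : ℕ) (m : M) :
    hom d k c (DividedPowerAlgebra.dp A n m) = (gen d k c m).coeff n := by
  rw [hom, DividedPowerAlgebra.lift'_apply_dp]

theorem hom_dp_top (m : M) :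
    hom d k c (DividedPowerAlgebra.dp A d m) =
      algebraMap k (Q d k) (∏ i, c i m) * ∏ i, ε d k i := by
  rw [hom_dp, gen]
  have hdeg : ∀ i ∈ (Finset.univ : Finset (Fin d)), (1 + Polynomial.C
      (algebraMap k (Q d k) (c i m) * ε d k i) * Polynomial.X : (Q d k)[X]).natDegree ≤ 1 := by
    intro i _
    refine (Polynomial.natDegree_add_le _ _).trans (max_le (by simp) ?_)
    exact (Polynomial.natDegree_C_mul_le _ _).trans Polynomial.natDegree_X_le
  have h := Polynomial.coeff_prod_of_natDegree_le _ _ 1 hdeg
  simp only [Finset.card_univ, Fintype.card_fin, mul_one] at h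
  rw [h, map_prod, ← Finset.prod_mul_distrib]
  refine Finset.prod_congr rfl fun i _ => ?_
  simp [Polynomial.coeff_one]

variable (cx cy : M →ₗ[A] k)

/-- First functional in the first `j` slots, second in the others. -/
def slots (j : ℕ) : Fin d → (M →ₗ[A] k) := fun i => if (i : ℕ) < j then cx else cy

theorem gen_slots (j : ℕ) (m : M) (a b : k) (ha : cx m = a) (hb : cy m = b) :
    gen d k (slots d k cx cy j) m =
      (∏ i ∈ Finset.univ.filter (fun i : Fin d => (i : ℕ) < j),
        (1 + Polynomial.C (algebraMap k (Q d k) a * ε d k i) * Polynomial.X)) *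
      ∏ i ∈ Finset.univ.filter (fun i : Fin d => ¬ (i : ℕ) < j),
        (1 + Polynomial.C (algebraMap k (Q d k) b * ε d k i) * Polynomial.X) := by
  rw [gen, ← Finset.prod_filter_mul_prod_filter_not Finset.univ (fun i : Fin d => (i : ℕ) < j)]
  refine congrArg₂ (· * ·) (Finset.prod_congr rfl fun i hi => ?_)
    (Finset.prod_congr rfl fun i hi => ?_)
  · rw [slots, if_pos (Finset.mem_filter.mp hi).2, ha]
  · rw [slots, if_neg (Finset.mem_filter.mp hi).2, hb]

theorem prod_slots (j : ℕ) (hj : j ≤ d) (m : M) :
    ∏ i, slots d k cx cy j i m = cx m ^ j * cy m ^ (d - j) := by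
  have hcard : (Finset.univ.filter (fun i : Fin d => (i : ℕ) < j)).card = j := by
    rw [Fin.card_filter_val_lt, min_eq_right hj]
  rw [← Finset.prod_filter_mul_prod_filter_not Finset.univ (fun i : Fin d => (i : ℕ) < j)]
  congr 1
  · rw [Finset.prod_eq_pow_card (b := cx m) fun i hi => by
      rw [slots, if_pos (Finset.mem_filter.mp hi).2], hcard]
  · rw [Finset.prod_eq_pow_card (b := cy m) fun i hi => by
      rw [slots, if_neg (Finset.mem_filter.mp hi).2]]
    congr 1
    have := Finset.card_filter_add_card_filter_not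
      (s := (Finset.univ : Finset (Fin d))) (fun i : Fin d => (i : ℕ) < j)
    rw [hcard, Finset.card_univ, Fintype.card_fin] at this
    omega

/-- Value of the coordinate maps on `γ_l(x) γ_{d-l}(y)` for a dual pair. -/
theorem hom_slots_mul (j l : ℕ) (hj : j ≤ d) (hl : l ≤ d) (x y : M) (h₁ : cx x = 1)
    (h₂ : cy x = 0) (h₃ : cx y = 0) (h₄ : cy y = 1) :
    hom d k (slots d k cx cy j) (DividedPowerAlgebra.dp A l x * DividedPowerAlgebra.dp A (d - l) y) =
      if l = j then ∏ i, ε d k i else 0 := by
  classical
  set S := Finset.univ.filter (fun i : Fin d => (i : ℕ) < j)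
  set T := Finset.univ.filter (fun i : Fin d => ¬ (i : ℕ) < j)
  have hS : S.card = j := by rw [Fin.card_filter_val_lt, min_eq_right hj]
  have hT : T.card = d - j := by
    have := Finset.card_filter_add_card_filter_not
      (s := (Finset.univ : Finset (Fin d))) (fun i : Fin d => (i : ℕ) < j)
    have h2 : S.card + T.card = (Finset.univ : Finset (Fin d)).card := this
    rw [hS, Finset.card_univ, Fintype.card_fin] at h2
    omega
  rw [map_mul, hom_dp, hom_dp, gen_slots d k cx cy j x 1 0 h₁ h₂, gen_slots d k cx cy j y 0 1 h₃ h₄]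
  simp only [map_one, one_mul, map_zero, zero_mul, add_zero, Finset.prod_const_one, mul_one]
  have key : ∀ (s : Finset (Fin d)) (n : ℕ),
      (n = s.card → (∏ i ∈ s, (1 + Polynomial.C (ε d k i) * Polynomial.X : (Q d k)[X])).coeff n =
        ∏ i ∈ s, ε d k i) ∧
      (s.card < n → (∏ i ∈ s, (1 + Polynomial.C (ε d k i) * Polynomial.X : (Q d k)[X])).coeff n = 0) := by
    intro s n
    have hdeg : ∀ i ∈ s, (1 + Polynomial.C (ε d k i) * Polynomial.X : (Q d k)[X]).natDegree ≤ 1 :=
      fun i _ => (Polynomial.natDegree_add_le _ _).trans (max_le (by simp)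
        ((Polynomial.natDegree_C_mul_le _ _).trans Polynomial.natDegree_X_le))
    refine ⟨fun hn => ?_, fun hn => ?_⟩
    · have h := Polynomial.coeff_prod_of_natDegree_le _ _ 1 hdeg
      rw [mul_one] at h
      rw [hn, h]
      refine Finset.prod_congr rfl fun i _ => ?_
      simp [Polynomial.coeff_one]
    · refine Polynomial.coeff_eq_zero_of_natDegree_lt (lt_of_le_of_lt ?_ hn)
      refine (Polynomial.natDegree_prod_le _ _).trans ?_
      exact (Finset.sum_le_card_nsmul _ _ 1 hdeg).trans (by simp)
  split_ifs with hlj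
  · rw [(key S l).1 (by omega), (key T (d - l)).1 (by omega)]
    exact Finset.prod_filter_mul_prod_filter_not _ _ _
  · rcases lt_or_gt_of_ne hlj with hlt | hgt
    · rw [(key T (d - l)).2 (by omega), mul_zero]
    · rw [(key S l).2 (by omega), zero_mul]

end Target

end Groth.Agent.S13388

open scoped TensorProduct

namespace Groth.Agent.S13388

/-- Let A be a commutative ring, M a finitely generated A-module and d ≥ 0. If the degree-d piece
Γ^d_A(M) of Γ_A(M) is spanned over A by the divided powers γ_d(m), m ∈ M, then at each prime p of A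
either k(p) has d or more elements, or the localisation M_p is a cyclic A_p-module. -/
theorem result {A M : Type u} [CommRing A] [AddCommGroup M]
    [Module A M] [Module.Finite A M] (d : ℕ)
    (h : Submodule.span A (Set.range (DividedPowerAlgebra.dp A d : M → DividedPowerAlgebra A M)) =
      PolLaw.gammaPiece A M d)
    (p : PrimeSpectrum A) :
    (d : Cardinal) ≤ Cardinal.mk p.asIdeal.ResidueField ∨
      ∃ x : LocalizedModule p.asIdeal.primeCompl M, Submodule.span (Localization.AtPrime p.asIdeal) {x} = ⊤ := by
  classical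
  by_contra hcon
  obtain ⟨hsmall, hnc⟩ := not_or.mp hcon
  rw [not_le] at hsmall
  let P := p.asIdeal
  let k := P.ResidueField
  let R := Localization.AtPrime P
  let Mp := LocalizedModule P.primeCompl M
  haveI : Module.Finite R Mp := Module.Finite.of_isLocalizedModule P.primeCompl
    (LocalizedModule.mkLinearMap P.primeCompl M)
  let ι : M →ₗ[A] k ⊗[R] Mp :=
    ((TensorProduct.mk R k Mp 1).restrictScalars A).comp (LocalizedModule.mkLinearMap P.primeCompl M)
  have hι : ∀ m, ι m = (1 : k) ⊗ₜ[R] LocalizedModule.mk m 1 := fun m => rfl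
  -- two elements with independent images
  obtain ⟨x, y, hxy⟩ : ∃ x y : M, LinearIndependent k ![ι x, ι y] := by
    by_contra hno
    simp only [not_exists] at hno
    obtain ⟨x₀, hx₀⟩ : ∃ x₀ : M, ∀ m, ι m ∈ Submodule.span k {ι x₀} := by
      by_cases h0 : ∀ m, ι m = 0
      · exact ⟨0, fun m => by rw [h0 m]; exact Submodule.zero_mem _⟩
      · obtain ⟨x₀, hx₀⟩ := not_forall.mp h0
        refine ⟨x₀, fun m => ?_⟩
        by_contra hm
        refine hno x₀ m ((LinearIndependent.pair_iff' hx₀).mpr fun a ha => hm ?_)
        exact Submodule.mem_span_singleton.mpr ⟨a, ha⟩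
    refine hnc ⟨LocalizedModule.mk x₀ 1, IsLocalRing.map_tensorProduct_mk_eq_top.mp ?_⟩
    rw [eq_top_iff]
    rintro z -
    induction z using TensorProduct.induction_on with
    | zero => exact Submodule.zero_mem _
    | add a b ha hb => exact Submodule.add_mem _ ha hb
    | tmul a w =>
      obtain ⟨a, rfl⟩ := IsLocalRing.residue_surjective a
      induction w using LocalizedModule.induction_on with
      | _ m s =>
        obtain ⟨b, hb⟩ := Submodule.mem_span_singleton.mp (hx₀ m)
        obtain ⟨b, rfl⟩ := IsLocalRing.residue_surjective b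
        have e1 : LocalizedModule.mk m s = (Localization.mk 1 s : R) • LocalizedModule.mk m 1 := by
          rw [LocalizedModule.mk_smul_mk, one_smul, mul_one]
        have e2 : (IsLocalRing.residue R a) ⊗ₜ[R] LocalizedModule.mk m s =
            (a * (Localization.mk 1 s : R) * b) •
              ((1 : k) ⊗ₜ[R] LocalizedModule.mk x₀ (1 : P.primeCompl)) := by
          rw [e1, TensorProduct.tmul_smul, mul_smul, mul_smul]
          have e3 : (IsLocalRing.residue R a) ⊗ₜ[R] LocalizedModule.mk m (1 : P.primeCompl) =
              a • ((1 : k) ⊗ₜ[R] LocalizedModule.mk m (1 : P.primeCompl)) := by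
            rw [TensorProduct.smul_tmul', Algebra.smul_def, mul_one]; rfl
          have e4 : (1 : k) ⊗ₜ[R] LocalizedModule.mk m (1 : P.primeCompl) =
              b • ((1 : k) ⊗ₜ[R] LocalizedModule.mk x₀ (1 : P.primeCompl)) := by
            rw [← hι, ← hb, ← hι]
            exact algebraMap_smul k b (ι x₀)
          rw [e3, e4]
          exact smul_comm (Localization.mk 1 s : R) a _
        exact e2 ▸ Submodule.smul_mem _ _
          (Submodule.mem_map_of_mem (Submodule.mem_span_singleton_self _))
  -- the dual functionals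
  obtain ⟨f, hf₁, hf₂, hf₃, hf₄⟩ : ∃ f : Fin 2 → ((k ⊗[R] Mp) →ₗ[k] k),
      f 0 (ι x) = 1 ∧ f 1 (ι x) = 0 ∧ f 0 (ι y) = 0 ∧ f 1 (ι y) = 1 := by
    have ext : ∀ i : Fin 2, ∃ g : (k ⊗[R] Mp) →ₗ[k] k,
        ∀ j : Fin 2, g (![ι x, ι y] j) = if j = i then 1 else 0 := by
      intro i
      obtain ⟨g, hg⟩ := LinearMap.exists_extend
        ((Finsupp.lapply i).comp (hxy.repr : Submodule.span k (Set.range ![ι x, ι y]) →ₗ[k] Fin 2 →₀ k))
      refine ⟨g, fun j => ?_⟩
      have h1 := LinearMap.congr_fun hg ⟨_, Submodule.subset_span ⟨j, rfl⟩⟩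
      simp only [LinearMap.coe_comp, Function.comp_apply, Submodule.coe_subtype] at h1
      rw [h1, hxy.repr_eq_single j _ rfl]
      simp [Finsupp.single_apply]
    choose g hg using ext
    exact ⟨g, by simpa using hg 0 0, by simpa using hg 1 0, by simpa using hg 0 1,
      by simpa using hg 1 1⟩
  let cx : M →ₗ[A] k := ((f 0).restrictScalars A).comp ι
  let cy : M →ₗ[A] k := ((f 1).restrictScalars A).comp ι
  -- the residue field is finite with fewer than `d` elements
  haveI : Finite k := Cardinal.lt_aleph0_iff_finite.mp (hsmall.trans (Cardinal.natCast_lt_aleph0))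
  haveI : Fintype k := Fintype.ofFinite k
  have hq : Fintype.card k < d := by
    rw [Cardinal.mk_fintype] at hsmall
    exact Nat.cast_lt.mp hsmall
  have hq2 : 1 < Fintype.card k := Fintype.one_lt_card
  let q := Fintype.card k
  let Ψ : DividedPowerAlgebra A M →ₗ[A] Q d k :=
    (hom d k (slots d k cx cy (d - 1))).toLinearMap - (hom d k (slots d k cx cy (d - q))).toLinearMap
  have hzero : ∀ m, Ψ (DividedPowerAlgebra.dp A d m) = 0 := by
    intro m
    simp only [Ψ, LinearMap.sub_apply, AlgHom.toLinearMap_apply]
    rw [hom_dp_top, hom_dp_top, prod_slots d k cx cy _ (by omega), prod_slots d k cx cy _ (by omega),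
      ← sub_mul, ← map_sub]
    suffices cx m ^ (d - 1) * cy m ^ (d - (d - 1)) - cx m ^ (d - q) * cy m ^ (d - (d - q)) = 0 by
      rw [this, map_zero, zero_mul]
    rw [show d - (d - 1) = 1 by omega, show d - (d - q) = q by omega]
    rcases eq_or_ne (cx m) 0 with ha | ha
    · rw [ha, zero_pow (by omega), zero_pow (by omega)]; ring
    rcases eq_or_ne (cy m) 0 with hb | hb
    · rw [hb, zero_pow (by omega), zero_pow (by omega)]; ring
    rw [show d - 1 = (d - q) + (q - 1) by omega, pow_add,
      FiniteField.pow_card_sub_one_eq_one (cx m) ha,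
      show cy m ^ q = cy m from FiniteField.pow_card (cy m)]
    ring
  have hmem : DividedPowerAlgebra.dp A (d - 1) x * DividedPowerAlgebra.dp A (d - (d - 1)) y ∈
      Submodule.span A (Set.range (DividedPowerAlgebra.dp A d : M → DividedPowerAlgebra A M)) := by
    rw [h]
    refine Submodule.subset_span ⟨2, ![d - 1, d - (d - 1)], ![x, y], ?_, ?_⟩
    · simp [Fin.sum_univ_two]
    · simp [Fin.prod_univ_two]
  have hle : Submodule.span A (Set.range (DividedPowerAlgebra.dp A d : M → DividedPowerAlgebra A M)) ≤
      LinearMap.ker Ψ := Submodule.span_le.mpr (Set.range_subset_iff.mpr hzero)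
  have hval := LinearMap.mem_ker.mp (hle hmem)
  refine prod_ε_ne_zero d k ?_
  rw [← hval]
  simp only [Ψ, LinearMap.sub_apply, AlgHom.toLinearMap_apply]
  rw [hom_slots_mul d k cx cy _ _ (by omega) (by omega) x y hf₁ hf₂ hf₃ hf₄,
    hom_slots_mul d k cx cy _ _ (by omega) (by omega) x y hf₁ hf₂ hf₃ hf₄,
    if_pos rfl, if_neg (by omega), sub_zero]

end Groth.Agent.S13388
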