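import Groth.Statements.S13389
-- import your own Groth.Agent.* helpers here
import Groth.Agent.Lib.GammaSpan

set_option autoImplicit false
universe u
open ZeroCyc

namespace Groth.Agent.S13389

open Polynomial in
/-- Let P_d(T) = ∏_{0 ≤ i < j ≤ d} (T^i − T^j) − 1 ∈ ℤ[T]. If A is an algebra over ℤ[T]/(P_d), i.e.
receives a ring homomorphism from it, then for every A-module M the degree-d piece Γ^d_A(M) of the
divided power algebra Γ_A(M) is spanned over A by the d-th divided powers γ_d(m), m ∈ M. (The
published statement adds that consequently every ring has a finite faithfully flat extension,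
independent of M, over which this holds; that clause is not restated.) -/
theorem result {A M : Type u} [CommRing A] [AddCommGroup M]
    [Module A M] (d : ℕ)
    (φ : (ℤ[X] ⧸ Ideal.span {(∏ j ∈ Finset.range (d + 1), ∏ i ∈ Finset.range j,
        ((X : ℤ[X]) ^ i - X ^ j)) - 1}) →+* A) :
    Submodule.span A (Set.range (DividedPowerAlgebra.dp A d : M → DividedPowerAlgebra A M)) =
      PolLaw.gammaPiece A M d := by
  classical
  refine GrothLib.GammaSpan.span_eq_gammaPiece fun q => GrothLib.GammaSpan.pairCond_of_card _ d ?_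
  let π : ℤ[X] →+* q.asIdeal.ResidueField := ((algebraMap A q.asIdeal.ResidueField).comp φ).comp (Ideal.Quotient.mk _)
  have h1 : ∏ j ∈ Finset.range (d + 1), ∏ i ∈ Finset.range j, (π Polynomial.X ^ i - π Polynomial.X ^ j) = 1 := by
    have h0 : π ((∏ j ∈ Finset.range (d + 1), ∏ i ∈ Finset.range j,
        ((Polynomial.X : ℤ[X]) ^ i - Polynomial.X ^ j)) - 1) = 0 := by
      show ((algebraMap A q.asIdeal.ResidueField).comp φ) (Ideal.Quotient.mk _ _) = 0
      rw [Ideal.Quotient.eq_zero_iff_mem.mpr (Ideal.mem_span_singleton_self _), map_zero]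
    simpa [sub_eq_zero] using h0
  have hne : ∀ i j : ℕ, i < j → j ≤ d → π Polynomial.X ^ i ≠ π Polynomial.X ^ j := fun i j hij hj h => by
    have hne0 : ∏ j ∈ Finset.range (d + 1), ∏ i ∈ Finset.range j, (π Polynomial.X ^ i - π Polynomial.X ^ j) ≠ 0 := by
      rw [h1]; exact one_ne_zero
    exact Finset.prod_ne_zero_iff.mp (Finset.prod_ne_zero_iff.mp hne0 j (Finset.mem_range.mpr (by omega))) i
      (Finset.mem_range.mpr hij) (sub_eq_zero.mpr h)
  have hinj : Function.Injective (fun i : Fin d => π Polynomial.X ^ (i : ℕ)) := fun i j h => by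
    by_contra hc
    rcases lt_or_gt_of_ne (fun e => hc (Fin.ext e) : (i : ℕ) ≠ j) with hlt | hlt
    · exact hne _ _ hlt j.2.le h
    · exact hne _ _ hlt i.2.le h.symm
  have := Cardinal.lift_mk_le'.mpr ⟨⟨_, hinj⟩⟩
  simpa using this

end Groth.Agent.S13389
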