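import Groth.Statements.S13393
import Groth.Agent.Lib.SymCmp4.Iso
-- import your own Groth.Agent.* helpers here

set_option autoImplicit false
set_option linter.all false
set_option backward.isDefEq.respectTransparency false
universe u
open CategoryTheory CategoryTheory.Limits AlgebraicGeometry
open ZeroCyc

namespace Groth.Agent.S13393

/-- Scheme case. Let f : X → S be separated and let (Y, q, g) be a d-th symmetric product of X over S: q
: (X/S)^d → Y is a quotient of the d-fold fibre product by the symmetric group permuting the factors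
and g : Y → S its structure map. Let S' → S be a morphism, let the symmetric group act on (X/S)^d
×_S S' through the first factor (this is the d-fold fibre product of X' = X ×_S S' over S' with its
permutation action), let r : (X/S)^d ×_S S' → Y' be a quotient by that action, i.e. a symmetric
product Sym^d(X'/S'), and let m : Y' → Y ×_S S' be the morphism with r ≫ m = q × id. Then m induces
an isomorphism on residue fields at every point of Y' (trivial residue field extensions); if every
positive integer is invertible in Γ(S', O_{S'}) then m is an isomorphism; and if X' → S' is flat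
then m is a closed immersion. (The published statement is for X a separated algebraic space over S,
where the symmetric products always exist as algebraic spaces; this row is the case of schemes in
which both quotients exist as schemes, taken as hypotheses, and leaves the universal-homeomorphism
clause to the general finite-group statement.) -/
theorem result {X S S' Y Y' : Scheme.{u}} (f : X ⟶ S) [IsSeparated f] (d : ℕ)
    (q : SymProd.fibPow f d ⟶ Y) (g : Y ⟶ S) (hq : SymProd.IsSymProd f d q g)
    (gS : S' ⟶ S)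
    (ρ' : ULift.{u} (Equiv.Perm (Fin d)) →* Aut (pullback (WidePullback.base fun _ : Fin d => f) gS))
    (hρ' : ∀ σ, (ρ' σ).hom ≫ pullback.fst (WidePullback.base fun _ : Fin d => f) gS =
        pullback.fst (WidePullback.base fun _ : Fin d => f) gS ≫ SymProd.permHom f d σ.down ∧
      (ρ' σ).hom ≫ pullback.snd (WidePullback.base fun _ : Fin d => f) gS =
        pullback.snd (WidePullback.base fun _ : Fin d => f) gS)
    (r : pullback (WidePullback.base fun _ : Fin d => f) gS ⟶ Y') (hr : SGA1.IsQuot ρ' r)
    (m : Y' ⟶ pullback g gS)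
    (hm : r ≫ m = pullback.map (WidePullback.base fun _ : Fin d => f) gS g gS q (𝟙 S') (𝟙 S)
      ((Category.comp_id _).trans hq.over.symm) ((Category.comp_id gS).trans (Category.id_comp gS).symm)) :
    (∀ y : Y', IsIso (m.residueFieldMap y)) ∧
    ((∀ n : ℕ, 0 < n → IsUnit ((n : ℕ) : Γ(S', ⊤))) → IsIso m) ∧
    (Flat (pullback.snd f gS) → IsClosedImmersion m) := by
  let h := pullback.snd f gS
  let c := pullback.fst f gS
  let b₀ := WidePullback.base (fun _ : Fin d => f)
  let w : c ≫ f = h ≫ gS := pullback.condition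
  haveI : IsClosedImmersion (pullback.lift c h w) := by
    rw [show pullback.lift c h w = 𝟙 _ from pullback.hom_ext (by simp [c]) (by simp [h])]
    infer_instance
  have hP := GrothLib.SymAF26.isPullback_fibPow (f := f) (b := gS) (GrothLib.SymCmp4.powMap w d)
    (fun i => GrothLib.SymCmp4.powMap_π w i) (GrothLib.SymCmp4.powMap_base w)
  let Φ := hP.isoPullback.hom
  have hcompat : ∀ σ : ULift.{u} (Equiv.Perm (Fin d)),
      (SymProd.permActU h d σ).hom ≫ Φ = Φ ≫ (ρ' σ).hom := fun σ => by
    rw [SymProd.permActU_hom]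
    apply pullback.hom_ext
    · rw [Category.assoc, Category.assoc, (hρ' σ).1, IsPullback.isoPullback_hom_fst,
        IsPullback.isoPullback_hom_fst_assoc, GrothLib.SymCmp4.perm_powMap]
    · rw [Category.assoc, Category.assoc, (hρ' σ).2, IsPullback.isoPullback_hom_snd,
        SymProd.permHom_base]
  have hinv : ∀ σ, (SymProd.permActU h d σ).hom ≫ Φ ≫ r = Φ ≫ r := fun σ => by
    rw [← Category.assoc, hcompat, Category.assoc, hr.inv]
  have hsq : IsPullback Φ (Φ ≫ r) r (𝟙 Y') := IsPullback.of_horiz_isIso ⟨by simp⟩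
  have hr' : SGA1.IsQuot (SymProd.permActU h d) (Φ ≫ r) :=
    GrothLib.SGA1Quot21.isQuot_baseChange hr hsq hinv hcompat
  have hn₁ : (Φ ≫ r) ≫ m ≫ pullback.fst g gS = GrothLib.SymCmp4.powMap w d ≫ q := by
    rw [Category.assoc, reassoc_of% hm, pullback.lift_fst, IsPullback.isoPullback_hom_fst_assoc]
  have hn₂ : (Φ ≫ r) ≫ m ≫ pullback.snd g gS = WidePullback.base (fun _ : Fin d => h) := by
    rw [Category.assoc, reassoc_of% hm, pullback.lift_snd, Category.comp_id,
      IsPullback.isoPullback_hom_snd]
  refine ⟨fun y => ?_, fun hh => ?_,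
    fun hh => GrothLib.SymCmp4.isClosedImmersion_comparison w hq hr' hn₁ hn₂ (Or.inl hh)⟩
  · rw [ConcreteCategory.isIso_iff_bijective]
    exact ⟨(m.residueFieldMap y).hom.injective,
      GrothLib.SymCmp4.residueFieldMap_surjective_comparison w hq hr' hn₁ hn₂ y⟩
  haveI := GrothLib.SymCmp4.isClosedImmersion_comparison w hq hr' hn₁ hn₂ (Or.inr hh)
  refine GrothLib.SymCmp4.isIso_of_cover m fun t => ?_
  obtain ⟨W₀, V, V', hW₀, hV, hV', hW₀V, hV'V, ht, hΩ, -⟩ :=
    GrothLib.SymCmp4.exists_chart_target w hq hr' hn₁ hn₂ t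
  refine ⟨_, ht, hΩ, fun x x' hxx => ?_⟩
  have h1 : (r ≫ m) ≫ pullback.fst g gS = pullback.fst b₀ gS ≫ q := by
    rw [hm, pullback.lift_fst]
  have h2 : (r ≫ m) ≫ pullback.snd g gS = pullback.snd b₀ gS := by
    rw [hm, pullback.lift_snd, Category.comp_id]
  have hle : pullback.fst b₀ gS ⁻¹ᵁ (q ⁻¹ᵁ W₀) ⊓ pullback.snd b₀ gS ⁻¹ᵁ V' ≤
      (r ≫ m) ⁻¹ᵁ (pullback.fst g gS ⁻¹ᵁ W₀ ⊓ pullback.snd g gS ⁻¹ᵁ V') := by
    rw [Scheme.Hom.preimage_inf (r ≫ m), ← Scheme.Hom.comp_preimage (r ≫ m),
      ← Scheme.Hom.comp_preimage (r ≫ m), h1, h2, Scheme.Hom.comp_preimage]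
  refine GrothLib.SymCmp4.injective_map_appLE hq hW₀ hV hW₀V hV' hV'V hh (r ≫ m) h1 h2 hle ?_
  simp only [Scheme.Hom.appLE, Scheme.Hom.comp_app, CommRingCat.comp_apply, hxx]

end Groth.Agent.S13393
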