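import Groth.Statements.S13394
import Groth.Agent.Lib.SymCmp4.Iso
-- import your own Groth.Agent.* helpers here

set_option autoImplicit false
set_option linter.all false
set_option backward.isDefEq.respectTransparency false
universe u
open CategoryTheory CategoryTheory.Limits AlgebraicGeometry
open ZeroCyc

namespace Groth.Agent.S13394

/-- Scheme case. Let f : X → S be separated, let (Y, q, g) be a d-th symmetric product of X over S (q :
(X/S)^d → Y a quotient of the d-fold fibre product by the symmetric group, g : Y → S), let i : Z → X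
be a closed immersion and (W, r, g_W) a d-th symmetric product of Z over S, let q((Z/S)^d) ⊆ Y be
the scheme-theoretic image of the composite (Z/S)^d → (X/S)^d → Y, and let m : W → q((Z/S)^d) be the
morphism through which that composite factors via r. Then m induces an isomorphism on residue fields
at every point of W (trivial residue field extensions); if every positive integer is invertible in
Γ(S, O_S) then m is an isomorphism; and if Z → S is flat then m is a closed immersion. (The
published statement is for X a separated algebraic space over S; this row is the case of schemes in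
which both symmetric products exist as schemes, taken as hypotheses, and leaves the
universal-homeomorphism clause to the general finite-group statement.) -/
theorem result {X Z S Y W : Scheme.{u}} (f : X ⟶ S) [IsSeparated f] (d : ℕ)
    (q : SymProd.fibPow f d ⟶ Y) (g : Y ⟶ S) (hq : SymProd.IsSymProd f d q g)
    (i : Z ⟶ X) [IsClosedImmersion i]
    (r : SymProd.fibPow (i ≫ f) d ⟶ W) (gW : W ⟶ S) (hr : SymProd.IsSymProd (i ≫ f) d r gW)
    (m : W ⟶ (SymProd.fibPowMap (i ≫ f) d f i rfl ≫ q).ker.subscheme)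
    (hm : r ≫ m ≫ (SymProd.fibPowMap (i ≫ f) d f i rfl ≫ q).ker.subschemeι =
      SymProd.fibPowMap (i ≫ f) d f i rfl ≫ q) :
    (∀ w : W, IsIso (m.residueFieldMap w)) ∧
    ((∀ n : ℕ, 0 < n → IsUnit ((n : ℕ) : Γ(S, ⊤))) → IsIso m) ∧
    (Flat (i ≫ f) → IsClosedImmersion m) := by
  let ι := (SymProd.fibPowMap (i ≫ f) d f i rfl ≫ q).ker.subschemeι
  let w : i ≫ f = (i ≫ f) ≫ 𝟙 S := (Category.comp_id _).symm
  haveI : IsClosedImmersion (pullback.lift i (i ≫ f) w) := by
    haveI : IsClosedImmersion (pullback.lift i (i ≫ f) w ≫ pullback.fst f (𝟙 S)) := by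
      rw [pullback.lift_fst]; infer_instance
    exact IsClosedImmersion.of_comp (pullback.lift i (i ≫ f) w) (pullback.fst f (𝟙 S))
  have hp : GrothLib.SymCmp4.powMap w d = SymProd.fibPowMap (i ≫ f) d f i rfl := by
    apply WidePullback.hom_ext
    · intro k; rw [GrothLib.SymCmp4.powMap_π, SymProd.fibPowMap_π]
    · rw [GrothLib.SymCmp4.powMap_base, SymProd.fibPowMap_base, Category.comp_id]
  have hg : (m ≫ ι) ≫ g = gW ≫ 𝟙 S := by
    refine GrothLib.SGA1Quot21.eq_of_surjective_of_injective r
      (GrothLib.SGA1Quot21.surjective hr.isQuot) hr.isQuot.injective ?_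
    rw [Category.comp_id, hr.over, ← Category.assoc, hm, Category.assoc, hq.over,
      SymProd.fibPowMap_base]
  let n : W ⟶ pullback g (𝟙 S) := pullback.lift (m ≫ ι) gW hg
  have hn₁ : r ≫ n ≫ pullback.fst g (𝟙 S) = GrothLib.SymCmp4.powMap w d ≫ q := by
    rw [hp, pullback.lift_fst]; exact hm
  have hn₂ : r ≫ n ≫ pullback.snd g (𝟙 S) = WidePullback.base (fun _ : Fin d => i ≫ f) := by
    rw [pullback.lift_snd]; exact hr.over
  have hn : m ≫ ι = n ≫ pullback.fst g (𝟙 S) := (pullback.lift_fst _ _ _).symm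
  have hres : ∀ x : W, Function.Bijective (m.residueFieldMap x).hom := fun x => by
    refine ⟨(m.residueFieldMap x).hom.injective, fun a => ?_⟩
    obtain ⟨b, hb⟩ := GrothLib.SymCmp4.residueFieldMap_surjective_comparison w hq hr.isQuot hn₁ hn₂ x a
    obtain ⟨b', rfl⟩ := (ConcreteCategory.bijective_of_isIso
      ((pullback.fst g (𝟙 S)).residueFieldMap (n x))).2 b
    have e := congrArg (fun φ => φ.hom b') (Scheme.residueFieldMap_comp n (pullback.fst g (𝟙 S)) x)
    obtain ⟨b'', hb''⟩ := GrothLib.SymCmp4.residueFieldMap_mem_range hn.symm x b'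
    have e' := congrArg (fun φ => φ.hom b'') (Scheme.residueFieldMap_comp m ι x)
    exact ⟨(ι.residueFieldMap (m x)).hom b'', (e'.symm.trans hb'').trans (e.trans hb)⟩
  have hcl : (Flat (i ≫ f) ∨ ∀ n : ℕ, 0 < n → IsUnit ((n : ℕ) : Γ(S, ⊤))) → IsClosedImmersion m := fun hh => by
    haveI := GrothLib.SymCmp4.isClosedImmersion_comparison w hq hr.isQuot hn₁ hn₂ hh
    haveI : IsClosedImmersion (m ≫ ι) := by rw [hn]; infer_instance
    exact IsClosedImmersion.of_comp m ι
  refine ⟨fun x => ?_, fun hh => ?_, fun hh => hcl (Or.inl hh)⟩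
  · rw [ConcreteCategory.isIso_iff_bijective]
    exact hres x
  haveI := hcl (Or.inr hh)
  haveI := hr.isQuot.affine
  haveI : QuasiCompact (SymProd.fibPowMap (i ≫ f) d f i rfl ≫ q) := by rw [← hm]; infer_instance
  refine GrothLib.SymCmp4.isIso_of_cover m fun t => ?_
  obtain ⟨_, ⟨U, hU, rfl⟩, htU, -⟩ := Y.isBasis_affineOpens.exists_subset_of_mem_open
    (Set.mem_univ (ι.base t)) isOpen_univ
  refine ⟨ι ⁻¹ᵁ U, htU, hU.preimage ι, (injective_iff_map_eq_zero _).mpr fun y hy => ?_⟩
  obtain ⟨a, rfl⟩ := (SymProd.fibPowMap (i ≫ f) d f i rfl ≫ q).ker.subschemeι_app_surjective ⟨U, hU⟩ y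
  have ha : a ∈ (SymProd.fibPowMap (i ≫ f) d f i rfl ≫ q).ker.ideal ⟨U, hU⟩ := by
    rw [Scheme.Hom.ker_apply, RingHom.mem_ker]
    have key : ∀ {φ : SymProd.fibPow (i ≫ f) d ⟶ Y}, r ≫ m ≫ ι = φ → (φ.app U).hom a = 0 := by
      rintro φ rfl
      simp only [Scheme.Hom.comp_app, CommRingCat.comp_apply]
      exact (congrArg (r.app (m ⁻¹ᵁ (ι ⁻¹ᵁ U))).hom hy).trans (map_zero _)
    exact key hm
  rw [← Scheme.IdealSheafData.ker_subschemeι_app, RingHom.mem_ker] at ha
  exact ha

end Groth.Agent.S13394
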