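import Groth.Statements.S13395
import Groth.Agent.Lib.SymCmp4.Prod
import Groth.Agent.Lib.SymCmp4.FlatPow
-- import your own Groth.Agent.* helpers here

set_option autoImplicit false
set_option linter.all false
set_option backward.isDefEq.respectTransparency false
universe u
open CategoryTheory CategoryTheory.Limits AlgebraicGeometry
open ZeroCyc

namespace Groth.Agent.S13395

/-- Scheme case. Let f : X → S and g : Z → S be separated morphisms and suppose that either both are
flat or every positive integer is invertible in Γ(S, O_S) (S is a scheme over the rationals). Let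
(P, q_X) be a d-th symmetric product of X over S and (Q, q_Z) an e-th symmetric product of Z over S,
i.e. quotients of the fibre powers (X/S)^d and (Z/S)^e by the symmetric groups permuting the
factors, and let S_d × S_e act on (X/S)^d ×_S (Z/S)^e factorwise. Then q_X × q_Z : (X/S)^d ×_S
(Z/S)^e → P ×_S Q is a quotient by S_d × S_e (affine, invariant, with sections of P ×_S Q the
invariant sections): the mixed symmetric product Sym^{d,e}(X, Z) is Sym^d(X/S) ×_S Sym^e(Z/S). (The
published statement is for separated algebraic spaces, where these quotients always exist, and adds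
the identification with Γ^d(X/S) ×_S Γ^e(Z/S); this row is the scheme case with the two symmetric
products taken as hypotheses.) -/
theorem result {X Z S P Q : Scheme.{u}} (f : X ⟶ S) (g : Z ⟶ S)
    [IsSeparated f] [IsSeparated g] (d e : ℕ)
    (h : (Flat f ∧ Flat g) ∨ ∀ n : ℕ, 0 < n → IsUnit ((n : ℕ) : Γ(S, ⊤)))
    (qX : SymProd.fibPow f d ⟶ P) (pP : P ⟶ S) (hqX : SymProd.IsSymProd f d qX pP)
    (qZ : SymProd.fibPow g e ⟶ Q) (pQ : Q ⟶ S) (hqZ : SymProd.IsSymProd g e qZ pQ)
    (ρ : ULift.{u} (Equiv.Perm (Fin d) × Equiv.Perm (Fin e)) →*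
      Aut (pullback (WidePullback.base fun _ : Fin d => f) (WidePullback.base fun _ : Fin e => g)))
    (hρ : ∀ σ, (ρ σ).hom ≫ pullback.fst (WidePullback.base fun _ : Fin d => f) (WidePullback.base fun _ : Fin e => g) =
        pullback.fst (WidePullback.base fun _ : Fin d => f) (WidePullback.base fun _ : Fin e => g) ≫
          SymProd.permHom f d σ.down.1 ∧
      (ρ σ).hom ≫ pullback.snd (WidePullback.base fun _ : Fin d => f) (WidePullback.base fun _ : Fin e => g) =
        pullback.snd (WidePullback.base fun _ : Fin d => f) (WidePullback.base fun _ : Fin e => g) ≫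
          SymProd.permHom g e σ.down.2) :
    SGA1.IsQuot ρ (pullback.map (WidePullback.base fun _ : Fin d => f) (WidePullback.base fun _ : Fin e => g) pP pQ
      qX qZ (𝟙 S) ((Category.comp_id _).trans hqX.over.symm) ((Category.comp_id _).trans hqZ.over.symm)) := by
  let bX := WidePullback.base (fun _ : Fin d => f)
  let bZ := WidePullback.base (fun _ : Fin e => g)
  let act2 := SymProd.permActU g e
  have hact2 : ∀ τ, (act2 τ).hom ≫ bZ = bZ := fun τ => by
    rw [SymProd.permActU_hom]; exact SymProd.permHom_base _ _ _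
  have hact1 : ∀ σ, (SymProd.permActU f d σ).hom ≫ bX = bX := fun σ => by
    rw [SymProd.permActU_hom]; exact SymProd.permHom_base _ _ _
  -- first the second factor
  let ρ2 := GrothLib.SymCmp4.pullbackAct bZ bX act2 hact2
  let M2 : pullback bZ bX ⟶ pullback pQ bX :=
    pullback.map bZ bX pQ bX qZ (𝟙 _) (𝟙 S) ((Category.comp_id _).trans hqZ.over.symm) (by simp)
  have hM2 : SGA1.IsQuot ρ2 M2 := by
    refine GrothLib.SymCmp4.isQuot_map_baseChange hqZ bX ?_ ρ2
      (fun τ => (GrothLib.SymCmp4.pullbackAct_fst bZ act2 hact2 τ).trans (by rw [SymProd.permActU_hom]))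
      (fun τ => GrothLib.SymCmp4.pullbackAct_snd bZ act2 hact2 τ) M2
      (pullback.lift_fst _ _ _) ((pullback.lift_snd _ _ _).trans (Category.comp_id _))
    rcases h with ⟨hf, hg⟩ | hc
    · haveI := hf
      haveI := GrothLib.SymCmp4.flat_fibPow_base f d
      exact Or.inl ⟨hg, fun V V' hV hV' e' =>
        HasRingHomProperty.appLE @Flat bX inferInstance ⟨V, hV⟩ ⟨V', hV'⟩ e'⟩
    · refine Or.inr fun n hn => ?_
      simpa using (hc n hn).map bX.appTop.hom
  -- then the first
  let ρ1 := GrothLib.SymCmp4.pullbackAct bX pQ (SymProd.permActU f d) hact1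
  let M1 : pullback bX pQ ⟶ pullback pP pQ :=
    pullback.map bX pQ pP pQ qX (𝟙 _) (𝟙 S) ((Category.comp_id _).trans hqX.over.symm) (by simp)
  have hM1 : SGA1.IsQuot ρ1 M1 := by
    refine GrothLib.SymCmp4.isQuot_map_baseChange hqX pQ ?_ ρ1
      (fun σ => (GrothLib.SymCmp4.pullbackAct_fst bX (SymProd.permActU f d) hact1 σ).trans
        (by rw [SymProd.permActU_hom]))
      (fun σ => GrothLib.SymCmp4.pullbackAct_snd bX (SymProd.permActU f d) hact1 σ) M1
      (pullback.lift_fst _ _ _) ((pullback.lift_snd _ _ _).trans (Category.comp_id _))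
    rcases h with ⟨hf, hg⟩ | hc
    · haveI := hg
      exact Or.inl ⟨hf, fun V V' hV hV' e' =>
        GrothLib.SymCmp4.flat_symProd_sections hqZ hV' hV e'⟩
    · refine Or.inr fun n hn => ?_
      simpa using (hc n hn).map pQ.appTop.hom
  let p₁ : pullback bX bZ ⟶ pullback bX pQ :=
    pullback.map bX bZ bX pQ (𝟙 _) qZ (𝟙 S) (by simp) ((Category.comp_id _).trans hqZ.over.symm)
  let i₂ : ULift.{u} (Equiv.Perm (Fin e)) →* ULift.{u} (Equiv.Perm (Fin d) × Equiv.Perm (Fin e)) :=
    { toFun := fun τ => ⟨(1, τ.down)⟩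
      map_one' := rfl
      map_mul' := fun a b => ULift.ext _ _ (Prod.ext (mul_one (1 : Equiv.Perm (Fin d))).symm rfl) }
  let π : ULift.{u} (Equiv.Perm (Fin d) × Equiv.Perm (Fin e)) → ULift.{u} (Equiv.Perm (Fin d)) :=
    fun σ => ⟨σ.down.1⟩
  have hswap : ∀ τ, ((ρ.comp i₂) τ).hom ≫ (pullbackSymmetry bX bZ).hom =
      (pullbackSymmetry bX bZ).hom ≫ (ρ2 τ).hom := fun τ => by
    apply pullback.hom_ext
    · rw [Category.assoc, Category.assoc, pullbackSymmetry_hom_comp_fst,
        GrothLib.SymCmp4.pullbackAct_fst, pullbackSymmetry_hom_comp_fst_assoc, SymProd.permActU_hom]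
      exact (hρ (i₂ τ)).2
    · rw [Category.assoc, Category.assoc, pullbackSymmetry_hom_comp_snd,
        GrothLib.SymCmp4.pullbackAct_snd, pullbackSymmetry_hom_comp_snd]
      refine (hρ (i₂ τ)).1.trans ?_
      show _ ≫ SymProd.permHom f d 1 = _
      rw [SymProd.permHom_one, Category.comp_id]
  have hsq : IsPullback (pullbackSymmetry bX bZ).hom p₁ M2 (pullbackSymmetry bX pQ).hom := by
    refine IsPullback.of_horiz_isIso ⟨?_⟩
    apply pullback.hom_ext
    · simp [p₁, M2]
    · simp [p₁, M2]
  have hinv2 : ∀ τ, ((ρ.comp i₂) τ).hom ≫ p₁ = p₁ := fun τ => by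
    apply pullback.hom_ext
    · rw [Category.assoc, pullback.lift_fst, Category.comp_id]
      refine (hρ (i₂ τ)).1.trans ?_
      show _ ≫ SymProd.permHom f d 1 = _
      rw [SymProd.permHom_one, Category.comp_id]
    · rw [Category.assoc, pullback.lift_snd, ← Category.assoc]
      show ((ρ (i₂ τ)).hom ≫ pullback.snd bX bZ) ≫ qZ = _
      rw [(hρ (i₂ τ)).2, Category.assoc]
      have := hqZ.isQuot.inv τ
      rw [SymProd.permActU_hom] at this
      exact congrArg _ this
  have h1 : SGA1.IsQuot (ρ.comp i₂) p₁ :=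
    GrothLib.SGA1Quot21.isQuot_baseChange hM2 hsq hinv2 hswap
  have hcomp := GrothLib.SymCmp4.isQuot_comp (ρ := ρ) (π := π)
    (fun σ => ⟨⟨(σ.down, 1)⟩, rfl⟩) h1 hM1 (fun σ => by
      apply pullback.hom_ext
      · rw [Category.assoc, Category.assoc, pullback.lift_fst, Category.comp_id,
          GrothLib.SymCmp4.pullbackAct_fst, (hρ σ).1]
        simp [p₁, π]
        rfl
      · rw [Category.assoc, Category.assoc, pullback.lift_snd, GrothLib.SymCmp4.pullbackAct_snd,
          pullback.lift_snd, ← Category.assoc, (hρ σ).2, Category.assoc]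
        have := hqZ.isQuot.inv (ULift.up σ.down.2)
        rw [SymProd.permActU_hom] at this
        exact congrArg _ this)
  have e' : p₁ ≫ M1 = pullback.map bX bZ pP pQ qX qZ (𝟙 S) ((Category.comp_id _).trans hqX.over.symm)
      ((Category.comp_id _).trans hqZ.over.symm) := by
    apply pullback.hom_ext <;> simp [p₁, M1]
  rw [e'] at hcomp
  exact hcomp

end Groth.Agent.S13395
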