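import Groth.Statements.S13399
import Groth.Agent.Lib.PolLaw.Mult
import Groth.Agent.Lib.PolLaw.Generators
import Mathlib.RingTheory.TensorProduct.MvPolynomial
import Mathlib.Algebra.Polynomial.Div
import Mathlib.Algebra.MvPolynomial.Equiv

set_option autoImplicit false
universe u
open scoped TensorProduct
open ZeroCyc

namespace Groth.Agent.S13399

open scoped TensorProduct in
theorem mem_range_of_mul_linear {D I : Type u} [CommRing D] [CommRing I] (ι : I →+* D) {σ : Type}
    (c : σ → I) [Fintype σ] (E : MvPolynomial (Option σ) D) (P : MvPolynomial (Option σ) I)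
    (h : MvPolynomial.map ι P = E * (MvPolynomial.X none + ∑ i, MvPolynomial.C (ι (c i)) * MvPolynomial.X (some i)))
    (ν : Option σ →₀ ℕ) : MvPolynomial.coeff ν E ∈ ι.range := by
  classical
  have hnat : ∀ q : MvPolynomial (Option σ) I, MvPolynomial.optionEquivLeft D σ (MvPolynomial.map ι q) =
      (MvPolynomial.optionEquivLeft I σ q).map (MvPolynomial.map ι) := by
    intro q
    induction q using MvPolynomial.induction_on with
    | C a => simp [MvPolynomial.optionEquivLeft_C]
    | add p q hp hq => simp [hp, hq]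
    | mul_X p o hp =>
      cases o <;> simp [hp, MvPolynomial.optionEquivLeft_X_none, MvPolynomial.optionEquivLeft_X_some]
  let b : MvPolynomial σ I := ∑ i, MvPolynomial.C (c i) * MvPolynomial.X i
  let L : Polynomial (MvPolynomial σ I) := Polynomial.X + Polynomial.C b
  have hL : L.Monic := Polynomial.monic_X_add_C b
  let Q := MvPolynomial.optionEquivLeft I σ P /ₘ L
  have hEL : MvPolynomial.optionEquivLeft D σ (MvPolynomial.X none + ∑ i, MvPolynomial.C (ι (c i)) * MvPolynomial.X (some i)) =
      L.map (MvPolynomial.map ι) := by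
    simp [L, b, MvPolynomial.optionEquivLeft_X_none, MvPolynomial.optionEquivLeft_X_some,
      MvPolynomial.optionEquivLeft_C, Polynomial.map_sum]
  have h' := congrArg (MvPolynomial.optionEquivLeft D σ) h
  rw [map_mul, hEL, hnat] at h'
  have hQ : MvPolynomial.optionEquivLeft D σ E = Q.map (MvPolynomial.map ι) := by
    rw [Polynomial.map_divByMonic _ hL, h', mul_comm,
      Polynomial.mul_divByMonic_cancel_left _ (hL.map _)]
  obtain ⟨E₀, hE₀⟩ := (MvPolynomial.optionEquivLeft I σ).surjective Q
  have : E = MvPolynomial.map ι E₀ := (MvPolynomial.optionEquivLeft D σ).injective (by rw [hQ, hnat, hE₀])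
  exact ⟨MvPolynomial.coeff ν E₀, by rw [this, MvPolynomial.coeff_map]⟩

open scoped TensorProduct in
open GrothLib.PolLaw in
theorem surjective_of_spec {A B Cd Ce : Type u} [CommRing A] [CommRing B] [Algebra A B]
    [CommRing Cd] [Algebra A Cd] [CommRing Ce] [Algebra A Ce] (e : ℕ)
    (γd : PolLaw.MulLaw A B Cd (e + 1)) (γe : PolLaw.MulLaw A B Ce e) (hspan : coeffSpan γe.law = ⊤)
    (ω : Cd ⊗[A] B →ₐ[A] Ce ⊗[A] B)
    (hω : ∀ (S : Type u) [CommSemiring S] [Algebra A S] (x y : S ⊗[A] B),
      ω.toLinearMap.lTensor S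
        ((Algebra.TensorProduct.includeLeft : Cd →ₐ[A] Cd ⊗[A] B).toLinearMap.lTensor S (γd.law.toFun' S x) *
          (Algebra.TensorProduct.includeRight : B →ₐ[A] Cd ⊗[A] B).toLinearMap.lTensor S y) =
      (Algebra.TensorProduct.includeLeft : Ce →ₐ[A] Ce ⊗[A] B).toLinearMap.lTensor S (γe.law.toFun' S x) *
        (Algebra.TensorProduct.includeRight : B →ₐ[A] Ce ⊗[A] B).toLinearMap.lTensor S (x * y)) :
    Function.Surjective ω := by
  classical
  -- `1 ⊗ b` is in the image
  have hone : ∀ {S : Type u} [CommRing S] [Algebra A S],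
      (Algebra.TensorProduct.includeLeft : Cd →ₐ[A] Cd ⊗[A] B).toLinearMap.lTensor S (1 : S ⊗[A] Cd) = 1 := by
    intro S _ _
    simp [Algebra.TensorProduct.one_def]
  have hB : ∀ b : B, (1 : Ce) ⊗ₜ[A] b ∈ ω.range := by
    intro b
    have h := hω A 1 ((1 : A) ⊗ₜ[A] b)
    rw [(γd.mult A).1, (γe.mult A).1, hone, one_mul, one_mul] at h
    simp only [LinearMap.lTensor_tmul, Algebra.TensorProduct.one_def, AlgHom.toLinearMap_apply,
      Algebra.TensorProduct.includeLeft_apply, Algebra.TensorProduct.includeRight_apply,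
      Algebra.TensorProduct.tmul_mul_tmul, one_mul, mul_one] at h
    have h2 := congrArg (TensorProduct.lid A (Ce ⊗[A] B)) h
    simp only [TensorProduct.lid_tmul, one_smul] at h2
    exact ⟨_, h2⟩
  -- coefficients
  have hC : ∀ c : Ce, c ⊗ₜ[A] (1 : B) ∈ ω.range := by
    intro c
    have hc : c ∈ coeffSpan γe.law := hspan ▸ Submodule.mem_top
    induction hc using Submodule.span_induction with
    | zero => rw [TensorProduct.zero_tmul]; exact zero_mem _
    | add x y _ _ hx hy => rw [TensorProduct.add_tmul]; exact add_mem hx hy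
    | smul a x _ hx => rw [← TensorProduct.smul_tmul']; exact Subalgebra.smul_mem _ hx a
    | mem x hx =>
      obtain ⟨n, m, μ, rfl⟩ := hx
      let m' : Option (Fin n) → B := fun o => o.elim 1 m
      suffices H : ∀ ν, coeff γe.law m' ν ⊗ₜ[A] (1 : B) ∈ ω.range by
        have hsp := coeff_mem_span_of_mem_span γe.law m' m
          (fun k => Submodule.subset_span ⟨some k, rfl⟩) μ
        have hmap : Submodule.span A (Set.range fun ν => coeff γe.law m' ν) ≤
            (Subalgebra.toSubmodule ω.range).comap ((TensorProduct.mk A Ce B).flip 1) := by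
          rw [Submodule.span_le]; rintro _ ⟨ν, rfl⟩; exact H ν
        exact hmap hsp
      intro ν
      let D := Ce ⊗[A] B
      let T := MvPolynomial (Option (Fin n)) A
      let Ψ : T ⊗[A] D →ₐ[A] MvPolynomial (Option (Fin n)) D :=
        Algebra.TensorProduct.lift (MvPolynomial.mapAlgHom (Algebra.ofId A D))
          (IsScalarTower.toAlgHom A D (MvPolynomial (Option (Fin n)) D)) fun _ _ => mul_comm _ _
      have hΨ : ∀ (p : T) (w : D) (ρ : Option (Fin n) →₀ ℕ),
          MvPolynomial.coeff ρ (Ψ (p ⊗ₜ[A] w)) = MvPolynomial.coeff ρ p • w := by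
        intro p w ρ
        show MvPolynomial.coeff ρ (MvPolynomial.map (algebraMap A D) p * MvPolynomial.C w) = _
        rw [mul_comm, MvPolynomial.coeff_C_mul, MvPolynomial.coeff_map, Algebra.smul_def, mul_comm]
      let ι : ω.range →+* D := ω.range.val.toRingHom
      have himg : ∀ z : T ⊗[A] (Cd ⊗[A] B),
          ∃ P : MvPolynomial (Option (Fin n)) ω.range, MvPolynomial.map ι P = Ψ (ω.toLinearMap.lTensor T z) := by
        intro z
        induction z with
        | zero => exact ⟨0, by simp⟩
        | tmul p w =>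
          refine ⟨MvPolynomial.map (algebraMap A ω.range) p * MvPolynomial.C ⟨ω w, w, rfl⟩, ?_⟩
          rw [LinearMap.lTensor_tmul, map_mul, MvPolynomial.map_map, MvPolynomial.map_C]
          rfl
        | add a b ha hb =>
          obtain ⟨P, hP⟩ := ha
          obtain ⟨Q, hQ⟩ := hb
          exact ⟨P + Q, by rw [map_add, map_add, map_add, hP, hQ]⟩
      let x : T ⊗[A] B := univ A m'
      have h := hω T x 1
      have h1 : (Algebra.TensorProduct.includeRight : B →ₐ[A] Cd ⊗[A] B).toLinearMap.lTensor T (1 : T ⊗[A] B) = 1 := by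
        simp [Algebra.TensorProduct.one_def]
      rw [h1, mul_one, mul_one] at h
      obtain ⟨P, hP⟩ := himg ((Algebra.TensorProduct.includeLeft : Cd →ₐ[A] Cd ⊗[A] B).toLinearMap.lTensor T
        (γd.law.toFun' T x))
      rw [h, map_mul] at hP
      have hx : Ψ ((Algebra.TensorProduct.includeRight : B →ₐ[A] Ce ⊗[A] B).toLinearMap.lTensor T x) =
          MvPolynomial.X none + ∑ i, MvPolynomial.C (ι ⟨(1 : Ce) ⊗ₜ[A] m i, hB (m i)⟩) * MvPolynomial.X (some i) := by
        have hΨ' : ∀ (p : T) (w : D), Ψ (p ⊗ₜ[A] w) = MvPolynomial.map (algebraMap A D) p * MvPolynomial.C w :=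
          fun _ _ => rfl
        simp [x, univ, m', ι, hΨ', Fintype.sum_option, mul_comm, ← Algebra.TensorProduct.one_def]
      rw [hx] at hP
      have key := mem_range_of_mul_linear ι (fun i => ⟨(1 : Ce) ⊗ₜ[A] m i, hB (m i)⟩) _ P hP ν
      rw [show x = univ A m' from rfl, toFun'_univ, map_finsuppSum, map_finsuppSum, Finsupp.sum,
        MvPolynomial.coeff_sum] at key
      simp only [LinearMap.lTensor_tmul, AlgHom.toLinearMap_apply, Algebra.TensorProduct.includeLeft_apply, hΨ,
        MvPolynomial.coeff_monomial] at key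
      obtain ⟨w, hw⟩ := key
      suffices heq : (∑ ρ ∈ (coeff γe.law m').support, (if ρ = ν then (1 : A) else 0) •
          ((coeff γe.law m' ρ) ⊗ₜ[A] (1 : B))) = coeff γe.law m' ν ⊗ₜ[A] (1 : B) by
        rw [← heq, ← hw]; exact w.2
      rw [Finset.sum_eq_single ν (fun b _ hb => by rw [if_neg hb, zero_smul]) fun hν => by
        rw [Finsupp.notMem_support_iff.mp hν, TensorProduct.zero_tmul, smul_zero], if_pos rfl, one_smul]
  intro z
  have hz : z ∈ ω.range := by
    induction z with
    | zero => exact zero_mem _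
    | tmul c b =>
      have : c ⊗ₜ[A] b = c ⊗ₜ[A] (1 : B) * ((1 : Ce) ⊗ₜ[A] b) := by simp
      rw [this]; exact mul_mem (hC c) (hB b)
    | add a b ha hb => exact add_mem ha hb
  exact hz


/-- Let A be a commutative ring, B an A-algebra and e ≥ 0; let (C_{e+1}, γ_{e+1}) and (C_e, γ_e) be the
divided power algebras Γ^{e+1}_A(B) and Γ^e_A(B) of B with their universal multiplicative laws of
degrees e + 1 and e (every multiplicative law of that degree out of B factors uniquely through
them), and let ω : Γ^{e+1}_A(B) ⊗_A B → Γ^e_A(B) ⊗_A B be Iversen's canonical algebra homomorphism,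
taken here as data characterised by ω(γ_{e+1}(x) ⊗ y) = γ_e(x) ⊗ x·y for all x, y ∈ S ⊗_A B and
every base change A → S. Then ω is surjective. -/
theorem result {A B Cd Ce : Type u} [CommRing A] [CommRing B] [Algebra A B]
    [CommRing Cd] [Algebra A Cd] [CommRing Ce] [Algebra A Ce] (e : ℕ)
    (γd : PolLaw.MulLaw A B Cd (e + 1)) (hγd : PolLaw.IsGammaD γd)
    (γe : PolLaw.MulLaw A B Ce e) (hγe : PolLaw.IsGammaD γe)
    (ω : Cd ⊗[A] B →ₐ[A] Ce ⊗[A] B)
    (hω : ∀ (S : Type u) [CommSemiring S] [Algebra A S] (x y : S ⊗[A] B),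
      ω.toLinearMap.lTensor S
        ((Algebra.TensorProduct.includeLeft : Cd →ₐ[A] Cd ⊗[A] B).toLinearMap.lTensor S (γd.law.toFun' S x) *
          (Algebra.TensorProduct.includeRight : B →ₐ[A] Cd ⊗[A] B).toLinearMap.lTensor S y) =
      (Algebra.TensorProduct.includeLeft : Ce →ₐ[A] Ce ⊗[A] B).toLinearMap.lTensor S (γe.law.toFun' S x) *
        (Algebra.TensorProduct.includeRight : B →ₐ[A] Ce ⊗[A] B).toLinearMap.lTensor S (x * y)) :
    Function.Surjective ω := by
  exact surjective_of_spec e γd γe (GrothLib.PolLaw.coeffSpan_eq_top hγe) ω hω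

end Groth.Agent.S13399
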