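import Groth.Statements.S13400
import Groth.Agent.Lib.PolLaw.Points
import Mathlib.RingTheory.TotallySplit
import Mathlib.RingTheory.Flat.FaithfullyFlat.Algebra
import Mathlib.RingTheory.Norm.Basic
import Mathlib.RingTheory.Nilpotent.Lemmas
import Mathlib.RingTheory.LocalRing.ResidueField.Ideal

set_option autoImplicit false
universe u
open scoped TensorProduct
open ZeroCyc

namespace Groth.Agent.S13400

open TensorProduct
open GrothLib.PolLaw (valS valS_map)
open Algebra.TensorProduct (includeRight)

section
variable {A B : Type u} [CommRing A] [CommRing B] [Algebra A B]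
  {T : Type u} [CommRing T] [Algebra A T] {n : ℕ} (e : T ⊗[A] B ≃ₐ[T] (Fin n → T))

/-- the `i`-th point over `T` -/
noncomputable def eps (i : Fin n) : B →ₐ[A] T :=
  ((Pi.evalAlgHom T (fun _ : Fin n => T) i).restrictScalars A).comp
    ((e.toAlgHom.restrictScalars A).comp includeRight)

variable (R : Type u) [CommRing R] [Algebra A R] [Algebra T R] [IsScalarTower A T R]

/-- the `i`-th coordinate on `R ⊗ B` -/
noncomputable def comp (i : Fin n) : R ⊗[A] B →ₐ[A] R :=
  Algebra.TensorProduct.productMap (AlgHom.id A R) ((IsScalarTower.toAlgHom A T R).comp (eps e i))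

/-- the pushed idempotents -/
noncomputable def idem (i : Fin n) : R ⊗[A] B :=
  Algebra.TensorProduct.map (IsScalarTower.toAlgHom A T R) (AlgHom.id A B) (e.symm (Pi.single i 1))

lemma comp_eq (j : Fin n) (z : T ⊗[A] B) :
    comp e R j (Algebra.TensorProduct.map (IsScalarTower.toAlgHom A T R) (AlgHom.id A B) z) =
      algebraMap T R (e z j) := by
  induction z using TensorProduct.induction_on with
  | zero => simp
  | tmul t b =>
    have h : t ⊗ₜ[A] b = t • ((1 : T) ⊗ₜ[A] b) := by simp [TensorProduct.smul_tmul']
    conv_rhs => rw [h, map_smul, Pi.smul_apply, smul_eq_mul, map_mul]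
    simp [comp, eps]
  | add a b ha hb => simp only [map_add, Pi.add_apply, ha, hb]

lemma comp_idem (j i : Fin n) : comp e R j (idem e R i) = if j = i then 1 else 0 := by
  rw [idem, comp_eq, AlgEquiv.apply_symm_apply, Pi.single_apply]
  split_ifs <;> simp

lemma decomp (z : R ⊗[A] B) : z = ∑ i, comp e R i z • idem e R i := by
  induction z using TensorProduct.induction_on with
  | zero => simp
  | tmul r b =>
    have h : (1 : T) ⊗ₜ[A] b = ∑ i, eps e i b • e.symm (Pi.single i 1) := by
      apply e.injective
      rw [map_sum]
      funext j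
      rw [Finset.sum_apply, Finset.sum_eq_single j (fun i _ hi => by simp [hi.symm]) (fun hj => absurd (Finset.mem_univ j) hj)]
      simp [eps]
    have h2 := congrArg (Algebra.TensorProduct.map (IsScalarTower.toAlgHom A T R) (AlgHom.id A B)) h
    simp only [Algebra.TensorProduct.map_tmul, map_one, AlgHom.id_apply, map_sum] at h2
    calc r ⊗ₜ[A] b = r • ((1 : R) ⊗ₜ[A] b) := by simp [TensorProduct.smul_tmul']
      _ = _ := by
        rw [h2, Finset.smul_sum]
        refine Finset.sum_congr rfl fun i _ => ?_
        rw [show comp e R i (r ⊗ₜ[A] b) = r * algebraMap T R (eps e i b) by simp [comp], ← smul_smul]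
        congr 1
        rw [idem]
        generalize e.symm (Pi.single i (1 : T)) = z
        induction z using TensorProduct.induction_on with
        | zero => simp
        | tmul t c => simp [TensorProduct.smul_tmul', Algebra.smul_def]
        | add a b ha hb => simp only [smul_add, map_add, ha, hb]
  | add a b ha hb =>
    conv_lhs => rw [ha, hb]
    simp only [map_add, add_smul, Finset.sum_add_distrib]

lemma eq_of_comp {z z' : R ⊗[A] B} (h : ∀ i, comp e R i z = comp e R i z') : z = z' := by
  rw [decomp e R z, decomp e R z']
  simp [h]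

lemma comp_smul (j : Fin n) (r : R) (z : R ⊗[A] B) : comp e R j (r • z) = r * comp e R j z := by
  induction z using TensorProduct.induction_on with
  | zero => simp
  | tmul s b => simp [comp, TensorProduct.smul_tmul', mul_assoc]
  | add a b ha hb => simp only [smul_add, map_add, mul_add, ha, hb]

noncomputable def basis : Module.Basis (Fin n) R (R ⊗[A] B) :=
  Module.Basis.mk (v := idem e R) (by
    classical
    rw [Fintype.linearIndependent_iff]
    intro g hg j
    have := congrArg (comp e R j) hg
    simpa [map_sum, comp_smul, comp_idem] using this)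
    (by
      intro z _
      rw [decomp e R z]
      exact sum_mem fun i _ => Submodule.smul_mem _ _ (Submodule.subset_span ⟨i, rfl⟩))

lemma norm_eq_prod (z : R ⊗[A] B) : Algebra.norm R z = ∏ i, comp e R i z := by
  classical
  rw [Algebra.norm_eq_matrix_det (basis e R)]
  have hdiag : Algebra.leftMulMatrix (basis e R) z = Matrix.diagonal fun i => comp e R i z := by
    ext i j
    rw [Algebra.leftMulMatrix_eq_repr_mul]
    have h : z * idem e R j = comp e R j z • idem e R j := by
      refine eq_of_comp e R fun l => ?_
      rw [map_mul, comp_smul, comp_idem]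
      split_ifs with hl
      · subst hl; rfl
      · simp
    have hb : ∀ l, basis e R l = idem e R l := fun l => by simp [basis]
    rw [hb, h, map_smul, Finsupp.smul_apply, ← hb, Module.Basis.repr_self, Finsupp.single_apply,
      Matrix.diagonal_apply, smul_eq_mul]
    split_ifs with h1 h2 h2
    · subst h2; simp
    · exact absurd h1.symm h2
    · exact absurd h2.symm h1
    · simp
  rw [hdiag, Matrix.det_diagonal]

lemma prod_eq (z : R ⊗[A] B) : z = ∏ i, (1 + (comp e R i z - 1) • idem e R i) := by
  classical
  refine eq_of_comp e R fun j => ?_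
  rw [map_prod, Finset.prod_eq_single j]
  · rw [map_add, map_one, comp_smul, comp_idem, if_pos rfl]; ring
  · intro i _ hi
    rw [map_add, map_one, comp_smul, comp_idem, if_neg (Ne.symm hi)]; ring
  · simp

end

section Law
open Polynomial
variable {A B : Type u} [CommRing A] [CommRing B] [Algebra A B] [Module.Free A B] [Module.Finite A B]
  {d : ℕ} {T : Type u} [CommRing T] [Algebra A T] {n : ℕ} (e : T ⊗[A] B ≃ₐ[T] (Fin n → T))

omit [Module.Free A B] [Module.Finite A B] in
lemma map_idem {R R' : Type u} [CommRing R] [Algebra A R] [Algebra T R] [IsScalarTower A T R] [CommRing R']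
    [Algebra A R'] [Algebra T R'] [IsScalarTower A T R'] (φ : R →ₐ[T] R') (i : Fin n) :
    Algebra.TensorProduct.map (φ.restrictScalars A) (AlgHom.id A B) (idem e R i) = idem e R' i := by
  simp only [idem]
  generalize e.symm (Pi.single i (1 : T)) = z
  induction z using TensorProduct.induction_on with
  | zero => simp
  | tmul t c => simp
  | add a b ha hb => simp only [map_add, ha, hb]

omit [Module.Free A B] [Module.Finite A B] in
lemma map_arg {R R' : Type u} [CommRing R] [Algebra A R] [Algebra T R] [IsScalarTower A T R] [CommRing R']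
    [Algebra A R'] [Algebra T R'] [IsScalarTower A T R'] (φ : R →ₐ[T] R') (r : R) (i : Fin n) :
    Algebra.TensorProduct.map (φ.restrictScalars A) (AlgHom.id A B) (1 + (r - 1) • idem e R i) =
      1 + (φ r - 1) • idem e R' i := by
  have h : ∀ (a : R) (z : R ⊗[A] B), Algebra.TensorProduct.map (φ.restrictScalars A) (AlgHom.id A B) (a • z) =
      φ a • Algebra.TensorProduct.map (φ.restrictScalars A) (AlgHom.id A B) z := by
    intro a z
    induction z using TensorProduct.induction_on with
    | zero => simp
    | tmul t c => simp [TensorProduct.smul_tmul']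
    | add a b ha hb => simp only [smul_add, map_add, ha, hb]
  rw [map_add, map_one, h, map_idem, map_sub, map_one]

variable (F : PolLaw.MulLaw A B A d)

noncomputable def qpoly (i : Fin n) : T[X] := valS F T[X] (1 + ((Polynomial.X : T[X]) - 1) • idem e T[X] i)

omit [Module.Free A B] [Module.Finite A B] in
lemma qpoly_spec {R : Type u} [CommRing R] [Algebra A R] [Algebra T R] [IsScalarTower A T R] (i : Fin n) (r : R) :
    valS F R (1 + (r - 1) • idem e R i) = aeval r (qpoly e F i) := by
  have h := valS_map F ((aeval r : T[X] →ₐ[T] R).restrictScalars A) (1 + ((Polynomial.X : T[X]) - 1) • idem e T[X] i)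
  rw [map_arg, aeval_X] at h
  exact h

omit [Module.Free A B] [Module.Finite A B] in
lemma qpoly_mul {R : Type u} [CommRing R] [Algebra A R] [Algebra T R] [IsScalarTower A T R] (i : Fin n) (r s : R) :
    aeval (r * s) (qpoly e F i) = aeval r (qpoly e F i) * aeval s (qpoly e F i) := by
  classical
  rw [← qpoly_spec, ← qpoly_spec, ← qpoly_spec, ← map_mul]
  congr 1
  refine eq_of_comp e R fun j => ?_
  simp only [map_mul, map_add, map_one, comp_smul, comp_idem]
  split_ifs <;> ring

lemma qpoly_point (hF : PolLaw.ker F.law ≤ nilradical B) (hd : Module.finrank A B = d) {L : Type u} [Field L]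
    [IsAlgClosed L] [Algebra A L] [Algebra T L] [IsScalarTower A T L] (i : Fin n) :
    (qpoly e F i).map (algebraMap T L) = X := by
  classical
  obtain ⟨x, hx⟩ := GrothLib.PolLaw.exists_points F L
  haveI : Nontrivial A := RingHom.domain_nontrivial (algebraMap A L)
  have hn : n = d := by
    have h := Module.finrank_eq_card_basis (basis e L)
    rw [Module.finrank_baseChange, hd, Fintype.card_fin] at h
    exact h.symm
  subst hn
  let y : Fin n → (B →ₐ[A] L) := fun l => (IsScalarTower.toAlgHom A T L).comp (eps e l)
  have hy : Function.Injective y := by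
    intro a b hab
    have h : comp e L a (idem e L a) = comp e L b (idem e L a) := by
      change Algebra.TensorProduct.productMap _ (y a) _ = Algebra.TensorProduct.productMap _ (y b) _
      rw [hab]
    rw [comp_idem, comp_idem, if_pos rfl] at h
    by_contra hne
    rw [if_neg (Ne.symm hne)] at h
    exact one_ne_zero h
  have hex : ∀ l, ∃ j, y l = x j := fun l => hx.exists_eq (y l) fun b hb => (by
    obtain ⟨m, hm⟩ : IsNilpotent (y l b) := (mem_nilradical.mp (hF hb)).map (y l)
    exact eq_zero_of_pow_eq_zero hm)
  choose π hπ using hex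
  have hπb : Function.Bijective π := Finite.injective_iff_bijective.mp fun a b hab => hy (by rw [hπ, hπ, hab])
  have h1 : (qpoly e F i).map (algebraMap T L) = valS F L[X] (1 + ((Polynomial.X : L[X]) - 1) • idem e L[X] i) := by
    rw [qpoly_spec]
    rw [aeval_def, eval₂_eq_eval_map, show algebraMap T L[X] = (C : L →+* L[X]).comp (algebraMap T L) from rfl,
      ← Polynomial.map_map]
    exact (eval₂_eq_eval_map _).symm.trans eval₂_C_X |>.symm
  rw [h1]
  have h2 := hx.apply (AlgHom.id A L[X]) (IsScalarTower.toAlgHom A L L[X]) (1 + ((Polynomial.X : L[X]) - 1) • idem e L[X] i)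
  rw [AlgHom.id_apply] at h2
  rw [h2, ← hπb.prod_comp]
  have h3 : ∀ l, Algebra.TensorProduct.productMap (AlgHom.id A L[X]) ((IsScalarTower.toAlgHom A L L[X]).comp (x (π l))) =
      comp e L[X] l := by
    intro l
    rw [comp, ← hπ]
    congr 1
  simp only [h3, map_add, map_one, comp_smul, comp_idem]
  rw [Finset.prod_eq_single i (fun l _ hl => by rw [if_neg hl]; ring) (by simp), if_pos rfl]
  ring

lemma qpoly_eq (hF : PolLaw.ker F.law ≤ nilradical B) (hd : Module.finrank A B = d) (i : Fin n) :
    qpoly e F i = X := by
  classical
  let q := qpoly e F i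
  have hone : q.eval 1 = 1 := by
    have h := qpoly_spec e F i (1 : T)
    rw [sub_self, zero_smul, add_zero, map_one, coe_aeval_eq_eval] at h
    exact h.symm
  have hm := qpoly_mul e F (R := T[X][X]) i (C X) X
  have hidem : ∀ k, q.coeff k * q.coeff k = q.coeff k := by
    intro k
    have hA : aeval (C X : T[X][X]) q = C q := by
      rw [show (C X : T[X][X]) = (CAlgHom (R := T) (A := T[X])) X from rfl, aeval_algHom_apply, aeval_X_left_apply]
      rfl
    have hB : aeval (X : T[X][X]) q = q.map C := by
      rw [aeval_def, show algebraMap T T[X][X] = (C : T[X] →+* T[X][X]).comp C from rfl, eval₂_eq_eval_map,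
        ← Polynomial.map_map, ← eval₂_eq_eval_map]
      exact eval₂_C_X
    have hC : aeval (C X * X : T[X][X]) q = q.sum fun m c => C (C c * X ^ m) * X ^ m := by
      rw [aeval_def, eval₂_eq_sum]
      refine Finset.sum_congr rfl fun m _ => ?_
      dsimp only
      rw [mul_pow, ← map_pow, map_mul, ← mul_assoc]
      rfl
    have h' := congrArg (fun p => (p.coeff k).coeff k) hm
    simp only [show qpoly e F i = q from rfl] at h'
    rw [hA, hB, hC, coeff_C_mul, coeff_map, coeff_mul_C, Polynomial.sum, finsetSum_coeff] at h'
    simp only [coeff_C_mul, coeff_X_pow, mul_ite, mul_one, mul_zero, Finset.sum_ite_eq] at h'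
    split_ifs at h' with hk
    · rw [coeff_C_mul, coeff_X_pow, if_pos rfl, mul_one] at h'
      exact h'.symm
    · rw [notMem_support_iff.mp hk, mul_zero]
  have hnil : ∀ k, k ≠ 1 → IsNilpotent (q.coeff k) := by
    intro k hk
    rw [← mem_nilradical, nilradical_eq_sInf, Submodule.mem_sInf]
    intro (P : Ideal T) hP
    haveI : P.IsPrime := hP
    have h := congrArg (fun p => p.coeff k) (qpoly_point e F hF hd (L := AlgebraicClosure P.ResidueField) i)
    simp only [coeff_map, coeff_X, if_neg (Ne.symm hk)] at h
    rw [← Ideal.algebraMap_residueField_eq_zero]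
    exact (algebraMap P.ResidueField (AlgebraicClosure P.ResidueField)).injective (h.trans (map_zero _).symm)
  have hzero : ∀ k, k ≠ 1 → q.coeff k = 0 := fun k hk =>
    (show IsIdempotentElem (q.coeff k) from hidem k).eq_zero_of_isNilpotent (hnil k hk)
  have hq : q = C (q.coeff 1) * X := by
    ext k
    rcases eq_or_ne k 1 with rfl | hk
    · simp
    · rw [hzero k hk, coeff_C_mul, coeff_X, if_neg (Ne.symm hk), mul_zero]
  rw [hq, eval_mul, eval_C, eval_X, mul_one] at hone
  change q = X
  rw [hq, hone, map_one, one_mul]

lemma valS_eq_prod (hF : PolLaw.ker F.law ≤ nilradical B) (hd : Module.finrank A B = d) {R : Type u} [CommRing R]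
    [Algebra A R] [Algebra T R] [IsScalarTower A T R] (z : R ⊗[A] B) : valS F R z = ∏ i, comp e R i z := by
  conv_lhs => rw [prod_eq e R z]
  rw [map_prod]
  refine Finset.prod_congr rfl fun i _ => ?_
  rw [qpoly_spec, qpoly_eq e F hF hd, aeval_X]

end Law



/-- Let A be a commutative ring and B a finite étale A-algebra, free of rank d as an A-module, so that X
= Spec B is finite étale of constant rank d over S = Spec A, and let N : B → A be the determinant
law: the multiplicative polynomial law of degree d which on each A-algebra S is the norm of the free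
S-algebra S ⊗_A B (N is taken as data characterised by this formula; it is the canonical family N_X
: S → Γ^d(X/S)). Then the kernel of N is the zero ideal, i.e. the image of N_X is X itself, and N is
the unique multiplicative law B → A of degree d whose kernel consists of nilpotent elements, i.e.
whose support is all of X_red. (The published statement is over an arbitrary algebraic space S with
X/S finite étale of locally constant rank, phrased with morphisms to Γ^?(X/S); this row is its
content over an affine base with X free of rank d.) -/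
theorem result {A B : Type u} [CommRing A] [CommRing B] [Algebra A B]
    [Module.Free A B] [Module.Finite A B] [Algebra.Etale A B] (d : ℕ) (hd : Module.finrank A B = d)
    (N : PolLaw.MulLaw A B A d)
    (hN : ∀ (S : Type u) [CommRing S] [Algebra A S] (x : S ⊗[A] B),
      N.law.toFun' S x = Algebra.norm S x ⊗ₜ[A] (1 : A)) :
    PolLaw.ker N.law = ⊥ ∧
      ∀ F : PolLaw.MulLaw A B A d, PolLaw.ker F.law ≤ nilradical B → F = N := by
  classical
  obtain ⟨T, _, _, _, _, _, hT⟩ := Algebra.IsFiniteSplit.exists_tensorProduct_of_etale (R := A) (S := B) (n := d)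
    (by rw [Module.rankAtStalk_eq_finrank_of_free, hd])
  obtain ⟨n, ⟨e⟩⟩ := hT.nonempty_algEquiv_fun
  have hval : ∀ (R : Type u) [CommRing R] [Algebra A R] (z : R ⊗[A] B), valS N R z = Algebra.norm R z := by
    intro R _ _ z
    rw [GrothLib.PolLaw.valS_apply, hN, Algebra.TensorProduct.rid_tmul, one_smul]
  have hinj : ∀ (M : Type u) [AddCommGroup M] [Module A M], Function.Injective (TensorProduct.mk A T M 1) :=
    fun M _ _ => Module.FaithfullyFlat.tensorProduct_mk_injective (A := A) (B := T) M
  have hker : PolLaw.ker N.law = ⊥ := by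
    rw [eq_bot_iff]
    intro b hb
    rw [Ideal.mem_bot]
    refine hinj B (show (1 : T) ⊗ₜ[A] b = (1 : T) ⊗ₜ[A] (0 : B) from ?_)
    rw [TensorProduct.tmul_zero]
    refine eq_of_comp e T fun i => ?_
    rw [map_zero]
    have h := (GrothLib.PolLaw.mem_ker_iff N b).mp hb T (∑ j ∈ Finset.univ.erase i, idem e T j) (idem e T i)
    rw [hval, hval, norm_eq_prod e, norm_eq_prod e] at h
    rw [Finset.prod_eq_single i, Finset.prod_eq_zero (Finset.mem_univ i)] at h
    · simpa [map_sum, comp_idem] using h
    · simp [map_sum, comp_idem]
    · intro l _ hl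
      simp [map_sum, comp_idem, hl]
    · simp
  refine ⟨hker, fun F hF => ?_⟩
  apply PolLaw.MulLaw.ext
  ext S _ _ y
  letI : CommRing S := { Algebra.semiringToRing A (A := S), ‹CommSemiring S› with }
  rw [GrothLib.PolLaw.toFun'_eq_valS_tmul, GrothLib.PolLaw.toFun'_eq_valS_tmul]
  congr 1
  apply hinj S
  let ι : S →ₐ[A] T ⊗[A] S := includeRight
  change ι (valS F S y) = ι (valS N S y)
  rw [← valS_map, ← valS_map, valS_eq_prod e F hF hd, valS_eq_prod e N (hker.le.trans bot_le) hd]


end Groth.Agent.S13400
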