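import Groth.Statements.S13402
import Groth.Agent.Lib.HopfAG.FF
import Groth.Agent.Lib.HopfAG.AntipodeMap
import Mathlib

set_option autoImplicit false
universe u v w
open Hopf

namespace Groth.Agent.S13402

open TensorProduct

/-- Let k be a field and let A and B be finite-dimensional commutative and cocommutative Hopf algebras
over k (finite commutative k-group schemes G = Spec A and H = Spec B). Let f : B → A be a bialgebra
map (a homomorphism G → H) which is injective and such that the ideal of A generated by the image of
the augmentation ideal of B is the augmentation ideal of A (the homomorphism G → H has trivial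
kernel). Then f is bijective, so G → H is an isomorphism; this is what makes the category of finite
commutative k-group schemes abelian. -/
theorem result (k : Type u) [Field k] (A : Type v) (B : Type w)
    [CommRing A] [HopfAlgebra k A] [Module.Finite k A] [Coalgebra.IsCocomm k A]
    [CommRing B] [HopfAlgebra k B] [Module.Finite k B] [Coalgebra.IsCocomm k B]
    (f : B →ₐc[k] A) (hinj : Function.Injective f)
    (hker : Ideal.map f (RingHom.ker (Bialgebra.counitAlgHom k B)) = RingHom.ker (Bialgebra.counitAlgHom k A)) :
    Function.Bijective f := by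
  classical
  have hff := GrothLib.HopfAG.faithfullyFlat_of_injective f hinj
  letI : Algebra B A := (f : B →+* A).toAlgebra
  haveI : IsScalarTower k B A := IsScalarTower.of_algebraMap_eq fun c => ((f : B →ₐ[k] A).commutes c).symm
  haveI : Module.FaithfullyFlat B A := RingHom.faithfullyFlat_algebraMap_iff.mp hff
  let Φ : A ⊗[k] A →ₗ[k] A ⊗[B] A := TensorProduct.lift (LinearMap.mk₂ k (fun a c => HopfAlgebraStruct.antipode k a ⊗ₜ[B] c)
    (fun a a' c => by rw [map_add, TensorProduct.add_tmul]) (fun r a c => by rw [map_smul, TensorProduct.smul_tmul'])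
    (fun a c c' => TensorProduct.tmul_add _ _ _) (fun r a c => by rw [TensorProduct.tmul_smul]))
  have hΦ : ∀ a c, Φ (a ⊗ₜ[k] c) = HopfAlgebraStruct.antipode k a ⊗ₜ[B] c := fun a c => rfl
  have hfs : ∀ b, HopfAlgebraStruct.antipode k (f b) = f (HopfAlgebraStruct.antipode k b) := fun b =>
    GrothLib.HopfAG.bialgHom_antipode f b
  let Λ : A →ₗ[k] A ⊗[B] A := Φ ∘ₗ CoalgebraStruct.comul (R := k) (A := A)
  have hker' : ∀ b : B, Bialgebra.counitAlgHom k B b = 0 → ∀ d, Λ (f b * d) = 0 := by
    intro b hb d
    have e : ∀ (t : B ⊗[k] B) (t' : A ⊗[k] A),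
        Φ (Algebra.TensorProduct.map (f : B →ₐ[k] A) (f : B →ₐ[k] A) t * t') =
          f (LinearMap.mul' k B ((HopfAlgebraStruct.antipode k (A := B)).rTensor B t)) • Φ t' := fun t t' => by
      induction t using TensorProduct.induction_on with
      | zero => simp
      | add p q hp hq => simp only [map_add, add_mul, add_smul, hp, hq]
      | tmul p q =>
        induction t' using TensorProduct.induction_on with
        | zero => simp
        | add u v hu hv => simp only [mul_add, map_add, smul_add, hu, hv]
        | tmul u v =>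
          simp only [Algebra.TensorProduct.map_tmul, Algebra.TensorProduct.tmul_mul_tmul, hΦ, LinearMap.rTensor_tmul,
            LinearMap.mul'_apply, HopfAlgebra.antipode_mul, AlgHom.coe_coe, hfs, map_mul, TensorProduct.smul_tmul', smul_eq_mul]
          refine (TensorProduct.smul_tmul q _ v).symm.trans ?_
          congr 1
          show f q * (HopfAlgebraStruct.antipode k u * HopfAlgebraStruct.antipode k (f p)) =
            f (HopfAlgebraStruct.antipode k p) * f q * HopfAlgebraStruct.antipode k u
          rw [hfs]
          ring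
    show Φ (CoalgebraStruct.comul (R := k) (f b * d)) = 0
    rw [Bialgebra.comul_mul, ← CoalgHomClass.map_comp_comul_apply f,
      show TensorProduct.map (f : B →ₗ[k] A) (f : B →ₗ[k] A) (CoalgebraStruct.comul b) =
        Algebra.TensorProduct.map (f : B →ₐ[k] A) (f : B →ₐ[k] A) (CoalgebraStruct.comul b) from rfl, e,
      HopfAlgebra.mul_antipode_rTensor_comul_apply, show CoalgebraStruct.counit (R := k) b = 0 from hb, map_zero, map_zero, zero_smul]
  have hΛ : ∀ a, Λ a = Bialgebra.counitAlgHom k A a • (1 : A ⊗[B] A) := by
    intro a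
    have h0 : ∀ x ∈ RingHom.ker (Bialgebra.counitAlgHom k A), Λ x = 0 := by
      intro x hx
      rw [← hker] at hx
      obtain ⟨n, c, g, rfl⟩ : ∃ (n : ℕ) (c : Fin n → A) (g : Fin n → RingHom.ker (Bialgebra.counitAlgHom k B)),
          ∑ i, c i * f (g i : B) = x := by
        rw [Ideal.map, Ideal.span] at hx
        obtain ⟨n, c, g, hg⟩ := Submodule.mem_span_set'.1 hx
        choose y hy hy' using fun i => (g i).2
        exact ⟨n, c, fun i => ⟨y i, hy i⟩, by simpa [hy', smul_eq_mul] using hg⟩
      rw [map_sum]
      exact Finset.sum_eq_zero fun i _ => by rw [mul_comm]; exact hker' _ (g i).2 _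
    have h1 : Λ (a - algebraMap k A (Bialgebra.counitAlgHom k A a)) = 0 := h0 _ (by simp [RingHom.mem_ker])
    rw [map_sub, sub_eq_zero] at h1
    rw [h1, Algebra.algebraMap_eq_smul_one, map_smul]
    congr 1
    show Φ (CoalgebraStruct.comul (R := k) (1 : A)) = _
    rw [Bialgebra.comul_one, Algebra.TensorProduct.one_def, hΦ, HopfAlgebra.antipode_one]
    rfl
  -- both inclusions agree
  have hflip : ∀ a : A, (1 : A) ⊗ₜ[B] a = a ⊗ₜ[B] (1 : A) := by
    intro a
    let Ψ : A ⊗[k] (A ⊗[B] A) →ₗ[k] A ⊗[B] A := TensorProduct.lift (LinearMap.mk₂ k (fun c z => c • z)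
      (fun c c' z => add_smul _ _ _) (fun r c z => smul_assoc _ _ _) (fun c z z' => smul_add _ _ _) (fun r c z => smul_comm _ _ _))
    let Θ : A →ₗ[k] A ⊗[B] A := Ψ ∘ₗ Λ.lTensor A ∘ₗ CoalgebraStruct.comul (R := k) (A := A)
    have h1 : Θ a = a ⊗ₜ[B] (1 : A) := by
      have e : ∀ t : A ⊗[k] A, Ψ (Λ.lTensor A t) =
          TensorProduct.rid k A ((CoalgebraStruct.counit (R := k) (A := A)).lTensor A t) ⊗ₜ[B] (1 : A) := fun t => by
        induction t using TensorProduct.induction_on with
        | zero => simp
        | add p q hp hq => simp only [map_add, TensorProduct.add_tmul, hp, hq]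
        | tmul p q =>
          simp [Ψ, hΛ, Algebra.TensorProduct.one_def, TensorProduct.smul_tmul', smul_comm]
      show Ψ (Λ.lTensor A (CoalgebraStruct.comul a)) = _
      rw [e, Coalgebra.lTensor_counit_comul]
      simp
    have h2 : Θ a = (1 : A) ⊗ₜ[B] a := by
      have e : ∀ t : A ⊗[k] A, Ψ (Λ.lTensor A t) = Ψ (Φ.lTensor A ((CoalgebraStruct.comul (R := k) (A := A)).lTensor A t)) := fun t => by
        rw [← LinearMap.lTensor_comp_apply]
      have e2 : ∀ t : (A ⊗[k] A) ⊗[k] A, Ψ (Φ.lTensor A (TensorProduct.assoc k A A A t)) =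
          (TensorProduct.lift (LinearMap.mk₂ k (fun c z => c ⊗ₜ[B] z) (fun _ _ _ => TensorProduct.add_tmul _ _ _)
            (fun r c z => (TensorProduct.smul_tmul' r c z).symm) (fun _ _ _ => TensorProduct.tmul_add _ _ _)
            (fun r c z => TensorProduct.tmul_smul _ _ _)))
            ((LinearMap.mul' k A ∘ₗ (HopfAlgebraStruct.antipode k (A := A)).lTensor A).rTensor A t) := fun t => by
        induction t using TensorProduct.induction_on with
        | zero => simp
        | add p q hp hq => simp only [map_add, hp, hq]
        | tmul p q =>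
          induction p using TensorProduct.induction_on with
          | zero => simp
          | add u v hu hv => simp only [TensorProduct.add_tmul, map_add, hu, hv]
          | tmul u v => simp [Ψ, hΦ, TensorProduct.smul_tmul']
      show Ψ (Λ.lTensor A (CoalgebraStruct.comul a)) = _
      rw [e, ← Coalgebra.coassoc_apply, e2, ← LinearMap.comp_apply (LinearMap.rTensor A _), ← LinearMap.rTensor_comp,
        LinearMap.comp_assoc, HopfAlgebra.mul_antipode_lTensor_comul, LinearMap.rTensor_comp, LinearMap.comp_apply,
        Coalgebra.rTensor_counit_comul]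
      simp
    rw [← h1, h2]
  refine ⟨hinj, fun a => ?_⟩
  let N : Submodule B A := LinearMap.range (Algebra.linearMap B A)
  have hsub : Subsingleton (A ⊗[B] (A ⧸ N)) := by
    refine subsingleton_of_forall_eq 0 fun z => ?_
    induction z using TensorProduct.induction_on with
    | zero => rfl
    | add p q hp hq => rw [hp, hq, add_zero]
    | tmul c x =>
      obtain ⟨x, rfl⟩ := Submodule.Quotient.mk_surjective _ x
      have h := congrArg (fun z => N.mkQ.baseChange A z) (congrArg (fun z : A ⊗[B] A => c • z) (hflip x))
      simp only [TensorProduct.smul_tmul', LinearMap.baseChange_tmul, smul_eq_mul, mul_one, Submodule.mkQ_apply] at h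
      rw [h, (Submodule.Quotient.mk_eq_zero N).2 ⟨1, by simp⟩, TensorProduct.tmul_zero]
  have hQ : Subsingleton (A ⧸ N) := Module.FaithfullyFlat.lTensor_reflects_triviality B A (A ⧸ N)
  obtain ⟨b, hb⟩ : a ∈ N := (Submodule.Quotient.mk_eq_zero N).1 (Subsingleton.elim _ _)
  exact ⟨b, hb⟩

end Groth.Agent.S13402
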