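import Groth.Statements.S13404
import Groth.Agent.Lib.LocAcyc.Universal
import Mathlib

set_option autoImplicit false
universe u v
open Hopf

namespace Groth.Agent.S13404

open TensorProduct

/-- Let R be a henselian local ring and G = Spec A a finite flat group scheme over R (A a commutative
Hopf algebra over R, finite and flat as an R-module; G need not be commutative). Let e be an
idempotent of A on which the counit takes the value 1 and such that A/(1 - e) is a local ring, so
that Spec A/(1 - e) is the connected component G⁰ of G containing the unit section. Then the ideal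
(1 - e) is a Hopf ideal (G⁰ is a closed subgroup scheme of G), A/(1 - e) is a henselian local ring
with the same residue field as R (the composite R → A/(1 - e) → residue field is surjective), and
A/(1 - e) is flat over R. (The published statement also asserts that G⁰ is normal in G; this row
does not state normality.) -/
theorem result (R : Type u) [CommRing R] [HenselianLocalRing R]
    (A : Type v) [CommRing A] [HopfAlgebra R A] [Module.Finite R A] [Module.Flat R A]
    (e : A) (he : IsIdempotentElem e) (hε : Bialgebra.counitAlgHom R A e = 1)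
    [IsLocalRing (A ⧸ Ideal.span ({1 - e} : Set A))] :
    (Ideal.span ({1 - e} : Set A)).IsHopfIdeal R ∧ HenselianLocalRing (A ⧸ Ideal.span ({1 - e} : Set A)) ∧
      Function.Surjective (⇑(IsLocalRing.residue (A ⧸ Ideal.span ({1 - e} : Set A))) ∘ ⇑(algebraMap R (A ⧸ Ideal.span ({1 - e} : Set A)))) ∧
      Module.Flat R (A ⧸ Ideal.span ({1 - e} : Set A)) := by
  classical
  set I : Ideal A := Ideal.span {1 - e} with hI
  have hεI : ∀ x ∈ I, Bialgebra.counitAlgHom R A x = 0 := fun x hx => by
    obtain ⟨c, rfl⟩ := Ideal.mem_span_singleton'.1 hx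
    rw [map_mul, map_sub, map_one, hε, sub_self, mul_zero]
  let ev : (A ⧸ I) →ₐ[R] R := Ideal.Quotient.liftₐ I (Bialgebra.counitAlgHom R A) hεI
  have hev : ∀ x, ev (Ideal.Quotient.mk I x) = Bialgebra.counitAlgHom R A x := fun _ => rfl
  let π : A →ₐ[R] A ⧸ I := Ideal.Quotient.mkₐ R I
  -- the residue field
  have hsurjev : Function.Surjective ((IsLocalRing.residue R).comp ev.toRingHom) := by
    refine IsLocalRing.residue_surjective.comp fun r => ⟨algebraMap R _ r, ev.commutes r⟩
  haveI hk : (RingHom.ker ((IsLocalRing.residue R).comp ev.toRingHom)).IsMaximal :=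
    RingHom.ker_isMaximal_of_surjective _ hsurjev
  have hker : RingHom.ker ((IsLocalRing.residue R).comp ev.toRingHom) = IsLocalRing.maximalIdeal (A ⧸ I) :=
    IsLocalRing.eq_maximalIdeal hk
  have hsub : ∀ x : A ⧸ I, x - algebraMap R (A ⧸ I) (ev x) ∈ IsLocalRing.maximalIdeal (A ⧸ I) := fun x => by
    rw [← hker, RingHom.mem_ker, RingHom.comp_apply, AlgHom.toRingHom_eq_coe, AlgHom.coe_toRingHom, map_sub, ev.commutes,
      Algebra.algebraMap_self, RingHom.id_apply, sub_self, map_zero]
  have hres : Function.Surjective (⇑(IsLocalRing.residue (A ⧸ I)) ∘ ⇑(algebraMap R (A ⧸ I))) := fun y => by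
    obtain ⟨x, rfl⟩ := IsLocalRing.residue_surjective y
    refine ⟨ev x, (sub_eq_zero.1 ?_).symm⟩
    rw [Function.comp_apply, ← map_sub, IsLocalRing.residue_eq_zero_iff]
    exact hsub x
  -- flatness
  have hflat : Module.Flat R (A ⧸ I) := by
    let i : (A ⧸ I) →ₗ[R] A := (I.restrictScalars R).liftQ (LinearMap.mulLeft R e) (fun x hx => by
      obtain ⟨c, rfl⟩ := Ideal.mem_span_singleton'.1 (show x ∈ I from hx)
      rw [LinearMap.mem_ker, LinearMap.mulLeft_apply, mul_comm c, ← mul_assoc, mul_sub, mul_one, he.eq, sub_self, zero_mul])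
    refine Module.Flat.of_retract i π.toLinearMap ?_
    refine LinearMap.ext fun x => ?_
    obtain ⟨x, rfl⟩ := Ideal.Quotient.mk_surjective x
    show Ideal.Quotient.mk I (e * x) = Ideal.Quotient.mk I x
    refine Ideal.Quotient.eq.2 (Ideal.mem_span_singleton'.2 ⟨-x, by ring⟩)
  -- henselian
  have hhens : HenselianLocalRing (A ⧸ I) := by
    obtain ⟨n, f, hf⟩ := Module.Finite.exists_fin' R (A ⧸ I)
    haveI : Small.{u} (A ⧸ I) := small_of_surjective hf
    let E : Shrink.{u} (A ⧸ I) ≃+* (A ⧸ I) := Shrink.ringEquiv (A ⧸ I)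
    let EA : (A ⧸ I) ≃ₐ[R] Shrink.{u} (A ⧸ I) := (Shrink.algEquiv R (A ⧸ I)).symm
    haveI : Algebra.IsIntegral R (Shrink.{u} (A ⧸ I)) :=
      haveI : Algebra.IsIntegral R (A ⧸ I) := Algebra.IsIntegral.of_finite R _
      ⟨fun z => by
        obtain ⟨a, rfl⟩ := EA.surjective z
        exact (Algebra.IsIntegral.isIntegral a).map EA.toAlgHom⟩
    haveI : IsLocalRing (Shrink.{u} (A ⧸ I)) := E.symm.isLocalRing
    haveI := GrothLib.LocAcyc.henselianLocalRing_of_isIntegral R (Shrink.{u} (A ⧸ I))
    refine { is_henselian := fun g hg a₀ h1 h2 => ?_ }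
    have hev' : ∀ (g : Polynomial (A ⧸ I)) (a : A ⧸ I), (g.map E.symm.toRingHom).eval (E.symm a) = E.symm (g.eval a) := fun g a => by
      rw [Polynomial.eval_map, show E.symm (g.eval a) = E.symm.toRingHom (g.eval a) from rfl, Polynomial.eval, Polynomial.hom_eval₂, RingHom.comp_id]
      rfl
    have hm : ∀ a : A ⧸ I, a ∈ IsLocalRing.maximalIdeal (A ⧸ I) ↔ E.symm a ∈ IsLocalRing.maximalIdeal _ := fun a => by
      simp [IsLocalRing.mem_maximalIdeal, mem_nonunits_iff, MulEquiv.isUnit_map]
    obtain ⟨a, ha, ha'⟩ := HenselianLocalRing.is_henselian (g.map E.symm.toRingHom) (hg.map _) (E.symm a₀)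
      (by rw [hev', ← hm]; exact h1) (by rw [Polynomial.derivative_map, hev']; exact h2.map E.symm)
    refine ⟨E a, ?_, ?_⟩
    · refine E.symm.injective ?_
      rw [← hev', E.symm_apply_apply, map_zero]
      exact ha
    · rw [hm, map_sub, E.symm_apply_apply]
      exact ha'
  -- `Q ⊗ Q` is local
  let ev2 : (A ⧸ I) ⊗[R] (A ⧸ I) →ₐ[R] R := (Algebra.TensorProduct.lid R R).toAlgHom.comp (Algebra.TensorProduct.map ev ev)
  haveI : Nontrivial ((A ⧸ I) ⊗[R] (A ⧸ I)) := RingHom.domain_nontrivial ev2.toRingHom
  haveI : IsLocalRing ((A ⧸ I) ⊗[R] (A ⧸ I)) := by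
    haveI : Algebra.IsIntegral R (A ⧸ I) := Algebra.IsIntegral.of_finite R _
    have hT : Algebra.IsIntegral R ((A ⧸ I) ⊗[R] (A ⧸ I)) := Algebra.IsIntegral.of_finite R _
    have hsurj2 : Function.Surjective ((IsLocalRing.residue R).comp ev2.toRingHom) :=
      IsLocalRing.residue_surjective.comp fun r => ⟨algebraMap R _ r, ev2.commutes r⟩
    refine IsLocalRing.of_unique_max_ideal ⟨RingHom.ker ((IsLocalRing.residue R).comp ev2.toRingHom),
      RingHom.ker_isMaximal_of_surjective _ hsurj2, fun M hM => hM.eq_of_le (RingHom.ker_isMaximal_of_surjective _ hsurj2).ne_top ?_⟩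
    haveI := hM
    have hMR : M.comap (algebraMap R ((A ⧸ I) ⊗[R] (A ⧸ I))) = IsLocalRing.maximalIdeal R :=
      IsLocalRing.eq_maximalIdeal (Ideal.isMaximal_comap_of_isIntegral_of_isMaximal M)
    have hMQ : ∀ j : (A ⧸ I) →ₐ[R] (A ⧸ I) ⊗[R] (A ⧸ I), M.comap j = IsLocalRing.maximalIdeal (A ⧸ I) := fun j => by
      haveI : (M.comap j).IsPrime := Ideal.IsPrime.comap j
      refine IsLocalRing.eq_maximalIdeal (Ideal.isMaximal_of_isIntegral_of_isMaximal_comap (R := R) _ ?_)
      rw [show (M.comap j).comap (algebraMap R (A ⧸ I)) = M.comap (algebraMap R ((A ⧸ I) ⊗[R] (A ⧸ I))) from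
        Ideal.ext fun r => by simp [Ideal.mem_comap]]
      rw [hMR]; infer_instance
    have hz : ∀ z : (A ⧸ I) ⊗[R] (A ⧸ I), z - algebraMap R _ (ev2 z) ∈ M := fun z => by
      induction z using TensorProduct.induction_on with
      | zero => simp
      | add p q hp hq =>
        rw [map_add, map_add, add_sub_add_comm]
        exact add_mem hp hq
      | tmul x y =>
        have h1 : (x - algebraMap R (A ⧸ I) (ev x)) ⊗ₜ[R] (1 : A ⧸ I) ∈ M := by
          have h := hsub x
          rw [← hMQ Algebra.TensorProduct.includeLeft] at h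
          exact h
        have h2 : (1 : A ⧸ I) ⊗ₜ[R] (y - algebraMap R (A ⧸ I) (ev y)) ∈ M := by
          have h := hsub y
          rw [← hMQ Algebra.TensorProduct.includeRight] at h
          exact h
        have h := add_mem (M.mul_mem_right ((1 : A ⧸ I) ⊗ₜ[R] y) h1) (M.mul_mem_left (algebraMap R _ (ev x)) h2)
        convert h using 1
        simp [ev2, mul_sub, smul_sub, sub_mul, Algebra.TensorProduct.one_def, Algebra.TensorProduct.algebraMap_apply, TensorProduct.sub_tmul, TensorProduct.tmul_sub, TensorProduct.smul_tmul', TensorProduct.tmul_smul, Algebra.algebraMap_eq_smul_one, smul_smul, mul_comm]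
    intro z hzM
    have hr : ev2 z ∈ IsLocalRing.maximalIdeal R := by
      rw [← hMR, Ideal.mem_comap]
      simpa using sub_mem hzM (hz z)
    rw [RingHom.mem_ker, RingHom.comp_apply, IsLocalRing.residue_eq_zero_iff]
    exact hr
  have hidem : ∀ {T : Type v} [CommRing T] [IsLocalRing T] [Algebra R T] (t : T) (χ : T →ₐ[R] R), IsIdempotentElem t → χ t = 1 → t = 1 := by
    intro T _ _ _ t χ ht hχ
    rcases IsLocalRing.isUnit_or_isUnit_one_sub_self t with h | h
    · exact h.mul_left_cancel (by rw [ht.eq, mul_one])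
    · have h0 : (1 - t) * t = 0 := by rw [sub_mul, one_mul, ht.eq, sub_self]
      have : t = 0 := h.mul_right_eq_zero.1 h0
      rw [this, map_zero] at hχ
      exact absurd hχ zero_ne_one
  refine ⟨{ counit_eq_zero := fun x hx => hεI x hx, map_mkQ_comul_eq_zero := fun x hx => ?_, antipode_mem := fun x hx => ?_ }, hhens, hres, hflat⟩
  · obtain ⟨c, rfl⟩ := Ideal.mem_span_singleton'.1 hx
    show Algebra.TensorProduct.map π π (Bialgebra.comulAlgHom R A (c * (1 - e))) = 0
    have h : Algebra.TensorProduct.map π π (Bialgebra.comulAlgHom R A e) = 1 := by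
      refine hidem _ ev2 (((he.map (Bialgebra.comulAlgHom R A))).map _) ?_
      have h : ∀ t, ev2 (Algebra.TensorProduct.map π π t) = Algebra.TensorProduct.lid R R (Algebra.TensorProduct.map (Bialgebra.counitAlgHom R A) (Bialgebra.counitAlgHom R A) t) := fun t => by
        induction t using TensorProduct.induction_on with
        | zero => simp
        | add p q hp hq => simp only [map_add, hp, hq]
        | tmul p q => simp [ev2, π, hev]
      rw [h]
      have h2 : ∀ t : A ⊗[R] A, Algebra.TensorProduct.lid R R (Algebra.TensorProduct.map (Bialgebra.counitAlgHom R A) (Bialgebra.counitAlgHom R A) t) =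
          CoalgebraStruct.counit (R := R) (TensorProduct.lid R A ((CoalgebraStruct.counit (R := R) (A := A)).rTensor A t)) := fun t => by
        induction t using TensorProduct.induction_on with
        | zero => simp
        | add p q hp hq => simp only [map_add, hp, hq]
        | tmul p q => simp [smul_eq_mul, mul_comm]
      rw [h2]
      show CoalgebraStruct.counit (R := R) (TensorProduct.lid R A ((CoalgebraStruct.counit (R := R) (A := A)).rTensor A (CoalgebraStruct.comul e))) = 1
      rw [Coalgebra.rTensor_counit_comul]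
      simpa using hε
    rw [map_mul, map_mul, map_sub, map_sub, map_one, map_one, h, sub_self, mul_zero]
  · obtain ⟨c, rfl⟩ := Ideal.mem_span_singleton'.1 hx
    show HopfAlgebra.antipodeAlgHom R A (c * (1 - e)) ∈ I
    refine Ideal.Quotient.eq_zero_iff_mem.1 ?_
    show π (HopfAlgebra.antipodeAlgHom R A (c * (1 - e))) = 0
    have h : π (HopfAlgebra.antipodeAlgHom R A e) = 1 := by
      refine hidem _ ev ((he.map (HopfAlgebra.antipodeAlgHom R A)).map π) ?_
      show Bialgebra.counitAlgHom R A (HopfAlgebraStruct.antipode R e) = 1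
      rw [Bialgebra.counitAlgHom_apply, HopfAlgebra.counit_antipode]
      exact hε
    rw [map_mul, map_mul, map_sub, map_sub, map_one, map_one, h, sub_self, mul_zero]

end Groth.Agent.S13404
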