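import Groth.Statements.S13405
import Groth.Agent.Lib.HopfAG.InfStruct
import Groth.Agent.Lib.HopfAG.Model
import Groth.Agent.Lib.DvrPrep16.Presentation
import Mathlib.RingTheory.HopfAlgebra.TensorProduct

set_option autoImplicit false
universe u v
open Hopf

namespace Groth.Agent.S13405

/-- Let R be a complete discrete valuation ring whose residue field is perfect of characteristic p > 0,
and let G = Spec A be a connected finite flat group scheme over R: A is a commutative Hopf algebra
over R, finite and flat as an R-module, and a local ring. Then for some n there are natural numbers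
e_1, ..., e_n and power series f_1, ..., f_n in R[[x_1, ..., x_n]] such that A is isomorphic as an
R-algebra to R[[x_1, ..., x_n]]/(f_1, ..., f_n) and each f_i is x_i ^ (p ^ e_i) plus a polynomial
all of whose coefficients lie in the maximal ideal of R and whose degree in x_i is less than p ^
e_i. -/
theorem result (R : Type u) [CommRing R] [IsDomain R]
    [IsDiscreteValuationRing R] [IsAdicComplete (IsLocalRing.maximalIdeal R) R]
    (p : ℕ) [Fact p.Prime] [CharP (IsLocalRing.ResidueField R) p] [PerfectField (IsLocalRing.ResidueField R)]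
    (A : Type v) [CommRing A] [HopfAlgebra R A] [Module.Finite R A] [Module.Flat R A] [IsLocalRing A] :
    ∃ (n : ℕ) (e : Fin n → ℕ) (g : Fin n → MvPolynomial (Fin n) R),
      (∀ i, (∀ d, (g i).coeff d ∈ IsLocalRing.maximalIdeal R) ∧ (g i).degreeOf i < p ^ e i) ∧
      Nonempty (A ≃ₐ[R] (MvPowerSeries (Fin n) R ⧸
        Ideal.span (Set.range fun i => (MvPowerSeries.X i : MvPowerSeries (Fin n) R) ^ p ^ e i + ↑(g i)))) := by
  classical
  haveI : Algebra.FiniteType R A := inferInstance
  obtain ⟨A', _, _, e, _⟩ := GrothLib.HopfAG.exists_model R A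
  haveI : Module.Finite R A' := Module.Finite.equiv (e.symm : A ≃ₐ[R] A').toLinearEquiv
  haveI : Module.Flat R A' := Module.Flat.of_linearEquiv (e : A' ≃ₐ[R] A).toLinearEquiv
  haveI : IsLocalRing A' := (e.symm : A ≃ₐ[R] A').toRingEquiv.isLocalRing
  haveI : Module.Free R A' := Module.free_of_flat_of_isLocalRing
  let k := IsLocalRing.ResidueField R
  haveI : PerfectRing k p := PerfectField.toPerfectRing p
  haveI : Nontrivial (TensorProduct R k A') := (Bialgebra.counitAlgHom k (TensorProduct R k A')).toRingHom.domain_nontrivial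
  haveI : IsLocalRing (TensorProduct R k A') := IsLocalRing.of_surjective'
    (Algebra.TensorProduct.includeRight : A' →ₐ[R] (TensorProduct R k A')).toRingHom
    (TensorProduct.mk_surjective R A' k IsLocalRing.residue_surjective)
  have hnil := GrothLib.InfStruct.aug_isNilpotent (k := k) (TensorProduct R k A')
  obtain ⟨n, f, x, hf, hx, hxe, hsp, -, hd⟩ := GrothLib.InfStruct.exists_gens p (k := k) _ (TensorProduct R k A') hnil rfl
  obtain ⟨N, -, hN⟩ := GrothLib.InfStruct.exists_nilpotency hnil
  obtain ⟨g, hg, ⟨Φ⟩⟩ := GrothLib.DvrPrep16.exists_presentation (fun i => p ^ f i)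
    (fun i => pow_pos (Fact.out : p.Prime).pos _) x hxe (GrothLib.InfStruct.adjoin_eq_top x hx hsp hN) hd
  exact ⟨n, f, g, hg, ⟨(e.symm : A ≃ₐ[R] A').trans Φ⟩⟩

end Groth.Agent.S13405
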