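import Groth.Statements.S13407
import Mathlib

set_option autoImplicit false
universe u
open TensorProduct
open Hopf

namespace Groth.Agent.S13407

open TensorProduct

/-- Let R be a Dedekind domain with fraction field K and let G = Spec A be a finite flat group scheme
over R (A a commutative Hopf algebra over R, finite and flat as an R-module). Closed flat R-subgroup
schemes of G correspond one-to-one to closed K-subgroup schemes of the generic fibre G_K under H ↦
H_K: the map sending a Hopf ideal J' of A with A/J' flat over R to the ideal it generates in K ⊗_R A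
is a bijection onto the set of Hopf ideals of the Hopf algebra K ⊗_R A over K (its inverse takes a
Hopf ideal of K ⊗_R A to its preimage in A). -/
theorem result (R : Type u) [CommRing R] [IsDedekindDomain R]
    (K : Type u) [Field K] [Algebra R K] [IsFractionRing R K]
    (A : Type u) [CommRing A] [HopfAlgebra R A] [Module.Finite R A] [Module.Flat R A] :
    Set.BijOn (fun J' : Ideal A => Ideal.map (Algebra.TensorProduct.includeRight : A →ₐ[R] K ⊗[R] A) J')
      {J' : Ideal A | J'.IsHopfIdeal R ∧ Module.Flat R (A ⧸ J')}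
      {J : Ideal (K ⊗[R] A) | J.IsHopfIdeal K} := by
  classical
  let inc : A →ₐ[R] K ⊗[R] A := Algebra.TensorProduct.includeRight
  have hinc : Function.Injective inc := by
    have h : Function.Injective ((Algebra.linearMap R K).rTensor A) :=
      Module.Flat.rTensor_preserves_injective_linearMap _ (IsFractionRing.injective R K)
    intro a b hab
    refine (TensorProduct.lid R A).symm.injective (h ?_)
    simpa [inc] using hab
  have hrK : ∀ r : R, r ≠ 0 → algebraMap R K r ≠ 0 := fun r hr =>
    (map_ne_zero_iff _ (IsFractionRing.injective R K)).2 hr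
  have hsurj : ∀ x : K ⊗[R] A, ∃ (a : A) (r : R), r ≠ 0 ∧ r • x = inc a := by
    intro x
    induction x using TensorProduct.induction_on with
    | zero => exact ⟨0, 1, one_ne_zero, by simp⟩
    | add p q hp hq =>
      obtain ⟨a, r, hr, ha⟩ := hp
      obtain ⟨b, s, hs, hb⟩ := hq
      refine ⟨s • a + r • b, r * s, mul_ne_zero hr hs, ?_⟩
      rw [smul_add, map_add, map_smul, map_smul, ← ha, ← hb, smul_smul, smul_smul, mul_comm s r]
    | tmul c a =>
      obtain ⟨p, s, hs, rfl⟩ := IsFractionRing.div_surjective (A := R) c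
      refine ⟨p • a, s, nonZeroDivisors.ne_zero hs, ?_⟩
      show s • ((algebraMap R K p / algebraMap R K s) ⊗ₜ[R] a) = (1 : K) ⊗ₜ[R] (p • a)
      rw [TensorProduct.smul_tmul', TensorProduct.tmul_smul, TensorProduct.smul_tmul']
      congr 1
      rw [Algebra.smul_def, Algebra.smul_def, mul_one, mul_div_cancel₀ _ (hrK s (nonZeroDivisors.ne_zero hs))]
  have hcancel : ∀ {J : Ideal (K ⊗[R] A)} {r : R} {x : K ⊗[R] A}, r ≠ 0 → r • x ∈ J → x ∈ J := by
    intro J r x hr hx
    have h := (J.restrictScalars K).smul_mem (algebraMap R K r)⁻¹ (show r • x ∈ J.restrictScalars K from hx)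
    rwa [← algebraMap_smul K r x, smul_smul, inv_mul_cancel₀ (hrK r hr), one_smul] at h
  have hmem : ∀ (J' : Ideal A) (x : K ⊗[R] A), x ∈ Ideal.map inc J' → ∃ a ∈ J', ∃ r : R, r ≠ 0 ∧ r • x = inc a := by
    intro J' x hx
    induction hx using Submodule.span_induction with
    | mem y hy =>
      obtain ⟨a, ha, rfl⟩ := hy
      exact ⟨a, ha, 1, one_ne_zero, one_smul _ _⟩
    | zero => exact ⟨0, J'.zero_mem, 1, one_ne_zero, by simp⟩
    | add p q _ _ hp hq =>
      obtain ⟨a, ha, r, hr, e⟩ := hp
      obtain ⟨b, hb, s, hs, e'⟩ := hq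
      refine ⟨s • a + r • b, J'.add_mem (J'.smul_of_tower_mem s ha) (J'.smul_of_tower_mem r hb), r * s, mul_ne_zero hr hs, ?_⟩
      rw [smul_add, map_add, map_smul, map_smul, ← e, ← e', smul_smul, smul_smul, mul_comm s r]
    | smul c y _ hy =>
      obtain ⟨a, ha, r, hr, e⟩ := hy
      obtain ⟨b, s, hs, e'⟩ := hsurj c
      refine ⟨b * a, J'.mul_mem_left b ha, s * r, mul_ne_zero hs hr, ?_⟩
      rw [map_mul, ← e, ← e', smul_eq_mul, smul_mul_smul_comm]
  have hcounit : ∀ a, CoalgebraStruct.counit (R := K) (inc a) = algebraMap R K (CoalgebraStruct.counit (R := R) a) := fun a => by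
    simp [inc, Algebra.algebraMap_eq_smul_one]
  have hant : ∀ a, HopfAlgebraStruct.antipode K (inc a) = inc (HopfAlgebraStruct.antipode R a) := fun a => by
    simp [inc, TensorProduct.antipode_def, HopfAlgebra.antipode_one]
  let Φ : A ⊗[R] A →ₗ[R] (K ⊗[R] A) ⊗[K] (K ⊗[R] A) :=
    TensorProduct.lift (LinearMap.mk₂ R (fun a b => inc a ⊗ₜ[K] inc b)
      (fun a a' b => by rw [map_add, TensorProduct.add_tmul]) (fun r a b => by rw [map_smul, TensorProduct.smul_tmul'])
      (fun a b b' => by rw [map_add, TensorProduct.tmul_add]) (fun r a b => by rw [map_smul, TensorProduct.tmul_smul]))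
  have hcomul : ∀ a, CoalgebraStruct.comul (R := K) (inc a) = Φ (CoalgebraStruct.comul (R := R) a) := fun a => by
    have e : ∀ t : A ⊗[R] A, Algebra.TensorProduct.tensorTensorTensorComm R K R K K K A A
        ((1 : K ⊗[K] K) ⊗ₜ[R] t) = Φ t := fun t => by
      induction t using TensorProduct.induction_on with
      | zero => simp
      | add p q hp hq => simp only [TensorProduct.tmul_add, map_add, hp, hq]
      | tmul p q => simp [Φ, inc, Algebra.TensorProduct.one_def]
    rw [Bialgebra.TensorProduct.comul_eq_algHom_toLinearMap, ← e]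
    simp [inc, Algebra.TensorProduct.one_def]
  have hA : ∀ (J' : Ideal A), Module.Flat R (A ⧸ J') → ∀ r : R, r ≠ 0 → ∀ b : A, r • b ∈ J' → b ∈ J' := by
    intro J' hflat r hr b hb
    have h : (TensorProduct.lid R (A ⧸ J')).toLinearMap ∘ₗ ((r • LinearMap.id : R →ₗ[R] R).rTensor (A ⧸ J')) = r • (TensorProduct.lid R (A ⧸ J')).toLinearMap := by
      ext; simp
    have hinj : Function.Injective fun y : A ⧸ J' => r • y := by
      have h1 := Module.Flat.rTensor_preserves_injective_linearMap (M := A ⧸ J') (r • LinearMap.id : R →ₗ[R] R) (fun a b hab => mul_left_cancel₀ hr hab)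
      intro y z hyz
      refine (TensorProduct.lid R (A ⧸ J')).symm.injective (h1 ((TensorProduct.lid R (A ⧸ J')).injective ?_))
      have := LinearMap.congr_fun h ((TensorProduct.lid R (A ⧸ J')).symm y)
      have := LinearMap.congr_fun h ((TensorProduct.lid R (A ⧸ J')).symm z)
      simp only [LinearMap.comp_apply, LinearEquiv.coe_coe, LinearMap.smul_apply, LinearEquiv.apply_symm_apply] at *
      simp_all
    refine Ideal.Quotient.eq_zero_iff_mem.1 (hinj (?_ : r • Ideal.Quotient.mk J' b = r • 0))
    rw [smul_zero]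
    exact Ideal.Quotient.eq_zero_iff_mem.2 hb
  have hsat : ∀ (J' : Ideal A), Module.Flat R (A ⧸ J') → (Ideal.map inc J').comap inc = J' := by
    intro J' hflat
    refine le_antisymm (fun b hb => ?_) Ideal.le_comap_map
    obtain ⟨a, ha, r, hr, e⟩ := hmem J' _ hb
    rw [← map_smul] at e
    exact hA J' hflat r hr b (hinc e ▸ ha)
  refine ⟨?_, ?_, ?_⟩
  · rintro J' ⟨hH, hflat⟩
    haveI := hH
    let J := Ideal.map inc J'
    let P := J.restrictScalars K
    let P' := J'.restrictScalars R
    let q' : (A ⧸ P') →ₗ[R] ((K ⊗[R] A) ⧸ P) := P'.liftQ ((P.mkQ.restrictScalars R) ∘ₗ inc.toLinearMap)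
      fun a ha => (Submodule.Quotient.mk_eq_zero P).2 (Ideal.mem_map_of_mem inc ha)
    let ψ : (A ⧸ P') ⊗[R] (A ⧸ P') →ₗ[R] ((K ⊗[R] A) ⧸ P) ⊗[K] ((K ⊗[R] A) ⧸ P) :=
      TensorProduct.lift (LinearMap.mk₂ R (fun a b => q' a ⊗ₜ[K] q' b)
        (fun a a' b => by rw [map_add, TensorProduct.add_tmul]) (fun r a b => by rw [map_smul, TensorProduct.smul_tmul'])
        (fun a b b' => by rw [map_add, TensorProduct.tmul_add]) (fun r a b => by rw [map_smul, TensorProduct.tmul_smul]))
    have hψ : ∀ t, TensorProduct.map P.mkQ P.mkQ (Φ t) = ψ (TensorProduct.map P'.mkQ P'.mkQ t) := fun t => by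
      induction t using TensorProduct.induction_on with
      | zero => simp
      | add p q hp hq => simp only [map_add, hp, hq]
      | tmul p q => rfl
    refine { counit_eq_zero := fun x hx => ?_, map_mkQ_comul_eq_zero := fun x hx => ?_, antipode_mem := fun x hx => ?_ }
    all_goals obtain ⟨a, ha, r, hr, e⟩ := hmem J' x hx
    · have h := congrArg (CoalgebraStruct.counit (R := K)) e
      rw [← algebraMap_smul K r x, map_smul, hcounit, hH.counit_eq_zero ha, map_zero, smul_eq_mul] at h
      exact (mul_eq_zero.1 h).resolve_left (hrK r hr)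
    · have h := congrArg (fun y => TensorProduct.map P.mkQ P.mkQ (CoalgebraStruct.comul (R := K) y)) e
      simp only [← algebraMap_smul K r x, map_smul, hcomul, hψ] at h
      rw [show TensorProduct.map P'.mkQ P'.mkQ (CoalgebraStruct.comul a) = 0 from hH.map_mkQ_comul_eq_zero ha, map_zero] at h
      exact (smul_eq_zero.1 h).resolve_left (hrK r hr)
    · have h := congrArg (HopfAlgebraStruct.antipode K) e
      rw [← algebraMap_smul K r x, map_smul, algebraMap_smul, hant] at h
      exact hcancel hr (h ▸ Ideal.mem_map_of_mem inc (hH.antipode_mem ha))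
  · rintro J₁ ⟨_, h₁⟩ J₂ ⟨_, h₂⟩ h
    rw [← hsat J₁ h₁, ← hsat J₂ h₂]
    exact congrArg (Ideal.comap inc) h
  · intro J hJ
    haveI : J.IsHopfIdeal K := hJ
    let J' := J.comap inc
    let P := J.restrictScalars K
    let P' := J'.restrictScalars R
    let q' : (A ⧸ P') →ₗ[R] ((K ⊗[R] A) ⧸ P) := P'.liftQ ((P.mkQ.restrictScalars R) ∘ₗ inc.toLinearMap)
      fun a ha => (Submodule.Quotient.mk_eq_zero P).2 ha
    have hq : Function.Injective q' := by
      rw [← LinearMap.ker_eq_bot]
      refine Submodule.ker_liftQ_eq_bot _ _ _ fun a ha => ?_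
      exact (Submodule.Quotient.mk_eq_zero P).1 ha
    haveI : Module.IsTorsionFree R (A ⧸ P') := by
      refine (Module.isTorsionFree_iff_smul_eq_zero).2 fun r y hy => ?_
      obtain ⟨b, rfl⟩ := Submodule.Quotient.mk_surjective _ y
      refine or_iff_not_imp_left.2 fun hr => (Submodule.Quotient.mk_eq_zero P').2 (hcancel hr ?_)
      rw [← map_smul]
      exact (Submodule.Quotient.mk_eq_zero P').1 hy
    haveI hflat : Module.Flat R (A ⧸ P') := inferInstance
    refine ⟨J', ⟨?_, ?_⟩, ?_⟩
    · haveI : Module.Flat R K := IsLocalization.flat K (nonZeroDivisors R)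
      haveI : Module.Flat K ((K ⊗[R] A) ⧸ P) := inferInstance
      haveI : Module.Flat R ((K ⊗[R] A) ⧸ P) := Module.Flat.trans R K _
      have hψ : Function.Injective ((IsLocalization.moduleTensorEquiv (nonZeroDivisors R) K ((K ⊗[R] A) ⧸ P) ((K ⊗[R] A) ⧸ P)).symm ∘ TensorProduct.map q' q') := by
        refine (LinearEquiv.injective _).comp ?_
        rw [show TensorProduct.map q' q' = q'.rTensor ((K ⊗[R] A) ⧸ P) ∘ₗ q'.lTensor (A ⧸ P') by ext; simp]
        exact (Module.Flat.rTensor_preserves_injective_linearMap _ hq).comp (Module.Flat.lTensor_preserves_injective_linearMap _ hq)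
      refine { counit_eq_zero := fun a ha => ?_, map_mkQ_comul_eq_zero := fun a ha => ?_, antipode_mem := fun a ha => ?_ }
      · have h : CoalgebraStruct.counit (R := K) (inc a) = 0 := hJ.counit_eq_zero ha
        rw [hcounit] at h
        exact (map_eq_zero_iff _ (IsFractionRing.injective R K)).1 h
      · refine hψ ?_
        have e : ∀ t, (IsLocalization.moduleTensorEquiv (nonZeroDivisors R) K ((K ⊗[R] A) ⧸ P) ((K ⊗[R] A) ⧸ P)).symm
            (TensorProduct.map q' q' (TensorProduct.map P'.mkQ P'.mkQ t)) = TensorProduct.map P.mkQ P.mkQ (Φ t) := fun t => by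
          induction t using TensorProduct.induction_on with
          | zero => simp
          | add p q hp hq => simp only [map_add, hp, hq]
          | tmul p q => rfl
        refine (e _).trans ?_
        rw [← hcomul]
        simp only [Function.comp_apply, map_zero]
        exact hJ.map_mkQ_comul_eq_zero ha
      · show inc (HopfAlgebraStruct.antipode R a) ∈ J
        rw [← hant]
        exact hJ.antipode_mem ha
    · exact hflat
    · refine le_antisymm (Ideal.map_comap_le) fun x hx => ?_
      obtain ⟨a, r, hr, e⟩ := hsurj x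
      exact hcancel hr (e ▸ Ideal.mem_map_of_mem inc (show a ∈ J' from (show inc a ∈ J from e ▸ J.smul_of_tower_mem r hx)))

end Groth.Agent.S13407
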