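import Groth.Statements.S13409
import Mathlib
import Groth.Agent.Lib.Elem.BipartiteLabel

set_option autoImplicit false
universe u v
open CombGraph

namespace Groth.Agent.S13409

/-- Let `A` be an abelian group and `G` a finite connected simple graph on `V` that is bipartite for a
two-colouring `c : V → Bool` (adjacent vertices get different colours). If `a : V → A` has the same
sum over the vertices of each colour, then some labelling `x` of the edges by elements of `A` has,
at every vertex `v`, the sum of `x` over the edges incident to `v` equal to `a v`. (The published
statement concerns finite bipartite graphs in general; this row treats simple graphs.) -/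
theorem result {V : Type u} [Fintype V] [DecidableEq V]
    (G : SimpleGraph V) [DecidableRel G.Adj] (hconn : G.Connected) (c : V → Bool)
    (hbip : ∀ v w : V, G.Adj v w → c v ≠ c w) (A : Type v) [AddCommGroup A] (a : V → A)
    (hsum : ∑ v ∈ Finset.univ.filter (fun v => c v = true), a v =
      ∑ v ∈ Finset.univ.filter (fun v => c v = false), a v) :
    ∃ x : Sym2 V → A, ∀ v : V, ∑ e ∈ G.incidenceFinset v, x e = a v := by
  obtain ⟨x, -, hx⟩ := GrothLib.Elem.exists_label hconn hbip a hsum
  exact ⟨x, hx⟩

end Groth.Agent.S13409
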