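import Groth.Statements.S13410
import Mathlib
import Groth.Agent.Lib.Elem.BipartiteLabel

set_option autoImplicit false
universe u v
open CombGraph

namespace Groth.Agent.S13410

/-- Let `A` be an abelian group and `G` a finite connected simple graph on `V`, bipartite for a
two-colouring `c`. Consider the additive group of labellings `x : Sym2 V → A` vanishing off the edge
set and with `∑_{e ∋ v} x e = 0` at every vertex `v`. If `e₀` is an edge whose deletion leaves `G`
connected, then evaluation at `e₀` restricted to this group is surjective and split: there is an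
additive map `φ : A → (Sym2 V → A)` with values in this group and with `φ a e₀ = a` for all `a`.
(The published statement concerns finite bipartite graphs in general; this row treats simple
graphs.) -/
theorem result {V : Type u} [Fintype V]
    [DecidableEq V] (G : SimpleGraph V) [DecidableRel G.Adj] (hconn : G.Connected) (c : V → Bool)
    (hbip : ∀ v w : V, G.Adj v w → c v ≠ c w) (A : Type v) [AddCommGroup A] (e₀ : Sym2 V)
    (he₀ : e₀ ∈ G.edgeSet) (hdel : (G.deleteEdges {e₀}).Connected) :
    ∃ φ : A →+ (Sym2 V → A),
      (∀ a : A, (∀ e : Sym2 V, e ∉ G.edgeSet → φ a e = 0) ∧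
        ∀ v : V, ∑ e ∈ G.incidenceFinset v, φ a e = 0) ∧
      ∀ a : A, φ a e₀ = a := by
  classical
  induction e₀ using Sym2.ind with
  | _ u w =>
  have huw : G.Adj u w := he₀
  obtain ⟨z, hz0, hz⟩ := GrothLib.Elem.exists_label (G := G.deleteEdges {s(u, w)}) (c := c) hdel
    (fun a b h => hbip a b h.1) (fun v => if v = u ∨ v = w then (-1 : ℤ) else 0) (by
      have : ∀ b, (∑ v ∈ Finset.univ.filter (fun v => c v = b), if v = u ∨ v = w then (-1 : ℤ) else 0) = -1 := by
        intro b
        have hne := hbip u w huw
        have : ∃ x, (x = u ∨ x = w) ∧ c x = b ∧ ∀ y, (y = u ∨ y = w) → c y = b → y = x := by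
          by_cases h : c u = b
          · exact ⟨u, Or.inl rfl, h, fun y hy hyb => hy.elim id fun e => absurd (e ▸ hyb) (fun h' => hne (h.trans h'.symm))⟩
          · have : c w = b := by revert h hne; cases c u <;> cases c w <;> cases b <;> decide
            exact ⟨w, Or.inr rfl, this, fun y hy hyb => hy.elim (fun e => absurd (e ▸ hyb) h) id⟩
        obtain ⟨x, hx, hxb, huniq⟩ := this
        rw [Finset.sum_eq_single x (fun y hy hyx => if_neg fun h => hyx (huniq y h (Finset.mem_filter.1 hy).2))
          (fun h => absurd (Finset.mem_filter.2 ⟨Finset.mem_univ x, hxb⟩) h), if_pos hx]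
      rw [this, this])
  let y : Sym2 V → ℤ := fun e => if e = s(u, w) then 1 else z e
  have hy0 : ∀ e, e ∉ G.edgeSet → y e = 0 := by
    intro e he
    simp only [y]
    rw [if_neg fun h : e = s(u, w) => he (h ▸ huw), hz0 e (fun h => he (by
      rw [SimpleGraph.edgeSet_deleteEdges] at h; exact h.1))]
  refine ⟨AddMonoidHom.mk' (fun a e => y e • a) (fun a b => funext fun e => smul_add _ a b), fun a =>
    ⟨fun e he => by simp [hy0 e he], fun v => ?_⟩, fun a => by simp [y]⟩
  simp only [AddMonoidHom.mk'_apply, ← Finset.sum_smul]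
  have hinc : (G.deleteEdges {s(u, w)}).incidenceFinset v = (G.incidenceFinset v).erase s(u, w) := by
    ext e
    simp only [SimpleGraph.mem_incidenceFinset, SimpleGraph.incidenceSet, Finset.mem_erase,
      SimpleGraph.edgeSet_deleteEdges, Set.mem_ofPred_eq, Set.mem_diff, Set.mem_singleton_iff]
    tauto
  have hzv := hz v
  rw [hinc] at hzv
  have hrest : ∑ e ∈ (G.incidenceFinset v).erase s(u, w), y e =
      ∑ e ∈ (G.incidenceFinset v).erase s(u, w), z e :=
    Finset.sum_congr rfl fun e he => if_neg (Finset.ne_of_mem_erase he)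
  have hy1 : y s(u, w) = 1 := if_pos rfl
  by_cases hv : v = u ∨ v = w
  · have hm : s(u, w) ∈ G.incidenceFinset v := by
      rw [SimpleGraph.mem_incidenceFinset]; exact ⟨huw, Sym2.mem_iff.2 hv⟩
    rw [← Finset.add_sum_erase _ _ hm, hrest, hzv, hy1, if_pos hv]
    simp
  · have hm : s(u, w) ∉ G.incidenceFinset v := by
      rw [SimpleGraph.mem_incidenceFinset]; exact fun h => hv (Sym2.mem_iff.1 h.2)
    rw [← Finset.erase_eq_of_notMem hm, hrest, hzv, if_neg hv, zero_smul]

end Groth.Agent.S13410
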