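import Groth.Statements.S13411
import Mathlib
import Groth.Agent.Lib.Elem.BipartiteLabel

set_option autoImplicit false
universe u v
open CombGraph

namespace Groth.Agent.S13411

/-- Let `A` be an abelian group and `G` a finite connected simple graph on `V`, bipartite for a
two-colouring `c`, with cyclomatic number `n` (number of edges minus number of vertices plus one).
Then the additive group of labellings `x : Sym2 V → A` vanishing off the edge set and with `∑_{e ∋
v} x e = 0` at every vertex `v` is isomorphic to `A^n`: it is the range of an injective additive map
`(Fin n → A) → (Sym2 V → A)`. (The published statement concerns finite bipartite graphs in general;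
this row treats simple graphs.) -/
theorem result {V : Type u} [Fintype V]
    [DecidableEq V] (G : SimpleGraph V) [DecidableRel G.Adj] (hconn : G.Connected) (c : V → Bool)
    (hbip : ∀ v w : V, G.Adj v w → c v ≠ c w) (A : Type v) [AddCommGroup A] (n : ℕ)
    (hn : G.edgeFinset.card + 1 = Fintype.card V + n) :
    ∃ f : (Fin n → A) →+ (Sym2 V → A), Function.Injective f ∧
      Set.range f = {x : Sym2 V → A | (∀ e : Sym2 V, e ∉ G.edgeSet → x e = 0) ∧
        ∀ v : V, ∑ e ∈ G.incidenceFinset v, x e = 0} := by
  exact GrothLib.Elem.exists_kernel_iso hconn hbip n hn A

end Groth.Agent.S13411
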