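import Groth.Statements.S13412
import Groth.Agent.Lib.HLoc18.Punctured
import Groth.Agent.Lib.ConstrCpt.Effaceable
import Groth.Agent.Lib.ConstrCpt.Killed
-- import your own Groth.Agent.* helpers here

set_option autoImplicit false
universe u
open CategoryTheory CategoryTheory.Limits AlgebraicGeometry
open HLoc2

namespace Groth.Agent.S13412

open GrothLib.EtTrace21 in
theorem isTorsion_of_isConstructible {X : Scheme.{u}} [CompactSpace X] [QuasiSeparatedSpace X]
    (F : EtCoh.Ab X) (hF : EtPBC.IsConstructible F) : EtCoh.IsTorsion F := by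
  classical
  obtain ⟨a, b, U, V, n, m, hn, -, φ, ⟨e⟩⟩ := (GrothLib.ConstrCpt.constructible_iff_cokernel F).1 hF
  let N := ∏ i, n i
  have hN : N ≠ 0 := Finset.prod_ne_zero_iff.2 fun i _ => (hn i).1.ne'
  have hB : N • 𝟙 (⨁ fun i => EtPBC.extZeroConst (U i) (ZMod (n i))) = 0 := by
    refine biproduct.hom_ext' _ _ fun i => ?_
    obtain ⟨c, hc⟩ := Finset.dvd_prod_of_mem n (Finset.mem_univ i)
    rw [Preadditive.comp_nsmul, Category.comp_id, comp_zero, show N = c * n i from hc.trans (mul_comm _ _),
      mul_nsmul', ← Category.id_comp (biproduct.ι _ i), ← Preadditive.nsmul_comp (n := n i),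
      GrothLib.ConstrCpt.nsmul_id_extZeroConst, zero_comp, nsmul_zero]
  have hC : N • 𝟙 (cokernel φ) = 0 := by
    rw [← cancel_epi (cokernel.π φ), Preadditive.comp_nsmul, Category.comp_id, comp_zero,
      ← Category.id_comp (cokernel.π φ), ← Preadditive.nsmul_comp, hB, zero_comp]
  refine GrothLib.GalCd.isTorsion_of_killed hN ?_
  rw [← cancel_mono e.hom, Preadditive.nsmul_comp, Category.id_comp, zero_comp,
    ← Category.comp_id e.hom, ← Preadditive.comp_nsmul, hC, comp_zero]

/-- Let `k` be an algebraically closed field of characteristic zero, `R₀` an excellent normal henselian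
local `k`-domain of Krull dimension two with residue field `k`, `K` a finite extension of its
fraction field, `O_K` the integral closure of `R₀` in `K`, and `X` the open subscheme of `Spec O_K`
of non-closed points; let `U` be a nonempty open subscheme of `X`. Assume, as holds in this
situation, that `K` has etale cohomological dimension at most 2 and that the residue field of every
closed point of `U` has cohomological dimension at most 1. (The published text asserts both facts
for this situation without proof; this row carries them as hypotheses.) Then for every constructible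
abelian etale sheaf `F` on `U` and every `r ≥ 4`, `H^r(U, F) = 0`. -/
theorem result
    (k : Type u) [Field k] [IsAlgClosed k] [CharZero k]
    (R₀ : Type u) [CommRing R₀] [IsDomain R₀] [HenselianLocalRing R₀] [Algebra k R₀]
    [IsIntegrallyClosed R₀] (hexc : EGA4.IsExcellent R₀) (hdim : ringKrullDim R₀ = 2)
    (hres : Function.Surjective (fun a : k => IsLocalRing.residue R₀ (algebraMap k R₀ a)))
    (K : Type u) [Field K] [Algebra R₀ K] [Algebra (FractionRing R₀) K]
    [IsScalarTower R₀ (FractionRing R₀) K] [FiniteDimensional (FractionRing R₀) K]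
    (U : (Spec (CommRingCat.of ↥(integralClosure R₀ K))).Opens)
    (hU : ∀ x : ↥(Spec (CommRingCat.of ↥(integralClosure R₀ K))), x ∈ U →
      ¬ IsClosed ({x} : Set ↥(Spec (CommRingCat.of ↥(integralClosure R₀ K)))))
    (hne : Nonempty ↥(↑U : Scheme.{u}))
    (hcdK : EtCoh.CohDimLE (Spec (CommRingCat.of K)) 2)
    (hcdv : ∀ x : ↥(↑U : Scheme.{u}), IsClosed ({x} : Set ↥(↑U : Scheme.{u})) →
      EtCoh.CohDimLE (Spec ((↑U : Scheme.{u}).residueField x)) 1)
    (F : EtCoh.Ab (↑U : Scheme.{u})) (hF : EtPBC.IsConstructible F) (r : ℕ) (hr : 4 ≤ r) :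
    Subsingleton (EtCoh.H (↑U : Scheme.{u}) F r) := by
  obtain ⟨h3, hN, -, -, -⟩ := GrothLib.HLoc18.punctured k R₀ hexc hdim K U hU hne hcdK hcdv
  haveI := hN
  exact h3 F (isTorsion_of_isConstructible F hF) r (by omega)

end Groth.Agent.S13412
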