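import Groth.Statements.S3246
import Groth.Agent.Lib.EtTrace21.Killed
import Groth.Agent.Lib.EtBasicB.RootCover

set_option backward.isDefEq.respectTransparency false
open CategoryTheory CategoryTheory.Limits AlgebraicGeometry

set_option autoImplicit false
universe u
open CategoryTheory AlgebraicGeometry
open Dix

namespace Groth.Agent.S3246

theorem powMap_epi_of_invertible (X : Scheme.{u}) (n : ℕ) (hX : Dix.InvertibleOn X n) : Epi (EtCoh.powMap X n) := by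
  refine GrothLib.EtBasicB.powMap_epi X n ?_
  have h : X.basicOpen (n : Γ(X, ⊤)) = ⊤ := by
    refine top_le_iff.1 fun x _ => ?_
    rw [X.mem_basicOpen (n : Γ(X, ⊤)) x (TopologicalSpace.Opens.mem_top x), map_natCast]
    by_contra hu
    refine hX x ?_
    rw [← map_natCast (X.residue x).hom n]
    exact (IsLocalRing.residue_eq_zero_iff _).2 ((IsLocalRing.mem_maximalIdeal _).2 hu)
  have := X.toRingedSpace.isUnit_of_isUnit_germ ⊤ (n : Γ(X, ⊤)) fun x hx => (X.mem_basicOpen _ x hx).1 (h.ge hx)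
  exact this


/-- Let X be a scheme, ℓ a prime and n an integer with cd_ℓ(X) ≤ n (étale cohomology of ℓ-primary
torsion sheaves vanishes above degree n). Then the ℓ-primary torsion of H^i(X_ét, G_m) is zero for i
> n + 1; if moreover ℓ is invertible on X, it is zero for i > n. -/
theorem result (X : Scheme.{u}) (ℓ : ℕ) (hℓ : ℓ.Prime) (n : ℕ) (hcd : Dix.CohDimLEAt X ℓ n) : (∀ i : ℕ, n + 1 < i → ∀ ξ : EtCoh.H X (EtCoh.Gm X) i, (∃ k : ℕ, ℓ ^ k • ξ = 0) → ξ = 0) ∧ (Dix.InvertibleOn X ℓ → ∀ i : ℕ, n < i → ∀ ξ : EtCoh.H X (EtCoh.Gm X) i, (∃ k : ℕ, ℓ ^ k • ξ = 0) → ξ = 0) := by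
  have hk : ∀ k : ℕ, ∀ G : EtCoh.Ab X, ℓ ^ k • 𝟙 G = 0 → ∀ r : ℕ, n < r → ∀ y : EtCoh.H X G r, y = 0 := by
    intro k G hG r hr y
    haveI := hcd G (fun U s v => ⟨U, 𝟙 U, ⟨v, rfl⟩, k, GrothLib.EtTrace21.nsmul_sect hG _⟩) r hr
    exact Subsingleton.elim _ _
  refine ⟨fun i hi ξ ⟨k, hξ⟩ =>
    GrothLib.EtTrace21.eq_zero_of_nsmul_eq_zero _ (ℓ ^ k) n (hk k) i ξ hξ (Or.inl hi), fun hinv i hi ξ ⟨k, hξ⟩ =>
    GrothLib.EtTrace21.eq_zero_of_nsmul_eq_zero _ (ℓ ^ k) n (hk k) i ξ hξ (Or.inr ⟨hi, ?_⟩)⟩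
  refine powMap_epi_of_invertible X (ℓ ^ k) fun x => ?_
  rw [Nat.cast_pow]
  exact pow_ne_zero _ (hinv x)

end Groth.Agent.S3246
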