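import Groth.Statements.S13414
import Groth.Agent.Lib.HLoc18.Punctured
import Groth.Agent.Lib.GalCd.BrC1
import Groth.Agent.S3242
import Groth.Agent.S3246
-- import your own Groth.Agent.* helpers here

set_option autoImplicit false
universe u
open CategoryTheory CategoryTheory.Limits AlgebraicGeometry
open HLoc2

namespace Groth.Agent.S13414

/-- Let `k` be an algebraically closed field of characteristic zero, `R₀` an excellent normal henselian
local `k`-domain of Krull dimension two with residue field `k`, `K` a finite extension of its
fraction field, `O_K` the integral closure of `R₀` in `K`, and `X` the open subscheme of `Spec O_K`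
of non-closed points; let `U` be a nonempty open subscheme of `X`. Assume, as holds in this
situation, that `K` has etale cohomological dimension at most 2 and that the residue field of every
closed point of `U` has cohomological dimension at most 1. (The published text asserts both facts
for this situation without proof; this row carries them as hypotheses.) Then `H^r(U, G_m) = 0` for
every `r ≥ 4`. (The published item also contains a four-term exact sequence involving the Brauer
groups of `K` and of its completions, which is not restated here.) -/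
theorem result
    (k : Type u) [Field k] [IsAlgClosed k] [CharZero k]
    (R₀ : Type u) [CommRing R₀] [IsDomain R₀] [HenselianLocalRing R₀] [Algebra k R₀]
    [IsIntegrallyClosed R₀] (hexc : EGA4.IsExcellent R₀) (hdim : ringKrullDim R₀ = 2)
    (hres : Function.Surjective (fun a : k => IsLocalRing.residue R₀ (algebraMap k R₀ a)))
    (K : Type u) [Field K] [Algebra R₀ K] [Algebra (FractionRing R₀) K]
    [IsScalarTower R₀ (FractionRing R₀) K] [FiniteDimensional (FractionRing R₀) K]
    (U : (Spec (CommRingCat.of ↥(integralClosure R₀ K))).Opens)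
    (hU : ∀ x : ↥(Spec (CommRingCat.of ↥(integralClosure R₀ K))), x ∈ U →
      ¬ IsClosed ({x} : Set ↥(Spec (CommRingCat.of ↥(integralClosure R₀ K)))))
    (hne : Nonempty ↥(↑U : Scheme.{u}))
    (hcdK : EtCoh.CohDimLE (Spec (CommRingCat.of K)) 2)
    (hcdv : ∀ x : ↥(↑U : Scheme.{u}), IsClosed ({x} : Set ↥(↑U : Scheme.{u})) →
      EtCoh.CohDimLE (Spec ((↑U : Scheme.{u}).residueField x)) 1)
    (r : ℕ) (hr : 4 ≤ r) :
    Subsingleton (EtCoh.H (↑U : Scheme.{u}) (EtCoh.Gm (↑U : Scheme.{u})) r) := by
  obtain ⟨h3, hN, hred, hd, hinv⟩ := GrothLib.HLoc18.punctured k R₀ hexc hdim K U hU hne hcdK hcdv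
  haveI := hN
  haveI := hred
  refine ⟨fun a b => ?_⟩
  suffices h : ∀ x : EtCoh.H (↑U : Scheme.{u}) (EtCoh.Gm (↑U : Scheme.{u})) r, x = 0 from (h a).trans (h b).symm
  intro x
  refine GrothLib.GalCd.eq_zero_of_isOfFinAddOrder (fun p hp y hy => ?_) x
    (Groth.Agent.S3242.result _ hd r (by omega) x)
  refine (Groth.Agent.S3246.result _ p hp 3 ?_).2 (hinv p hp.ne_zero) r (by omega) y ⟨1, by rwa [pow_one]⟩
  intro F hF q hq
  exact h3 F (GrothLib.HLoc18.isTorsion_of_primary hp hF) q hq

end Groth.Agent.S13414
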