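import Groth.Statements.S13416
import Groth.Agent.Lib.EmbedPush18.Basic
-- import your own Groth.Agent.* helpers here

set_option autoImplicit false
universe u
open CategoryTheory CategoryTheory.Limits AlgebraicGeometry
open HLoc2

namespace Groth.Agent.S13416

/-- Let `k` be an algebraically closed field of characteristic zero, `R₀` an excellent normal henselian
local `k`-domain of Krull dimension two with residue field `k`, `K` a finite extension of its
fraction field, `O_K` the integral closure of `R₀` in `K`, and `X` the open subscheme of `Spec O_K`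
of non-closed points; let `U` be a nonempty open subscheme of `X`. Assume, as holds in this
situation, that `K` has etale cohomological dimension at most 2 and that the residue field of every
closed point of `U` has cohomological dimension at most 1. (The published text asserts both facts
for this situation without proof; this row carries them as hypotheses.) Let `F` be a constructible
abelian etale sheaf on `U` with `mF = 0` for some `m ≥ 1`, `V` a nonempty open of `U`, and `π : U_n
→ U` a finite surjective morphism from an integral scheme with integrally closed local rings (for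
instance the normalisation of `U` in a finite extension of `K`, which is the morphism the published
statement uses) that is etale over `V` and such that the pullback of `F` to `π⁻¹(V)` is a constant
sheaf with finite value group. Then there exist a finite abelian group `M` with `mM = 0`, a
constructible abelian etale sheaf `F_f` on `U` with finite support, and a monomorphism `F →
π_*(M_{U_n}) ⊕ F_f` of abelian etale sheaves on `U`. -/
theorem result
    (k : Type u) [Field k] [IsAlgClosed k] [CharZero k]
    (R₀ : Type u) [CommRing R₀] [IsDomain R₀] [HenselianLocalRing R₀] [Algebra k R₀]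
    [IsIntegrallyClosed R₀] (hexc : EGA4.IsExcellent R₀) (hdim : ringKrullDim R₀ = 2)
    (hres : Function.Surjective (fun a : k => IsLocalRing.residue R₀ (algebraMap k R₀ a)))
    (K : Type u) [Field K] [Algebra R₀ K] [Algebra (FractionRing R₀) K]
    [IsScalarTower R₀ (FractionRing R₀) K] [FiniteDimensional (FractionRing R₀) K]
    (U : (Spec (CommRingCat.of ↥(integralClosure R₀ K))).Opens)
    (hU : ∀ x : ↥(Spec (CommRingCat.of ↥(integralClosure R₀ K))), x ∈ U →
      ¬ IsClosed ({x} : Set ↥(Spec (CommRingCat.of ↥(integralClosure R₀ K)))))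
    (hne : Nonempty ↥(↑U : Scheme.{u}))
    (hcdK : EtCoh.CohDimLE (Spec (CommRingCat.of K)) 2)
    (hcdv : ∀ x : ↥(↑U : Scheme.{u}), IsClosed ({x} : Set ↥(↑U : Scheme.{u})) →
      EtCoh.CohDimLE (Spec ((↑U : Scheme.{u}).residueField x)) 1)
    (F : EtCoh.Ab (↑U : Scheme.{u})) (hF : EtPBC.IsConstructible F) (m : ℕ) (hm : 1 ≤ m)
    (hmF : EtCoh.KilledBy m F) (V : (↑U : Scheme.{u}).Opens) (hV : Nonempty ↥(↑V : Scheme.{u}))
    (Un : Scheme.{u}) [IsIntegral Un] (hnorm : ∀ y : ↥Un, IsIntegrallyClosed ↑(Un.presheaf.stalk y))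
    (π : Un ⟶ (↑U : Scheme.{u})) [IsFinite π] [Surjective π] [Etale (π ∣_ V)] (M₀ : Type) [AddCommGroup M₀] [Finite M₀]
    (hconst : Nonempty ((EtCoh.pull (π ⁻¹ᵁ V).ι).obj ((EtCoh.pull π).obj F) ≅
      EtCoh.const (↑(π ⁻¹ᵁ V) : Scheme.{u}) M₀)) :
    ∃ (M : Type) (_ : AddCommGroup M) (_ : Finite M), (∀ x : M, m • x = 0) ∧
      ∃ (Ff : EtCoh.Ab (↑U : Scheme.{u})), EtPBC.IsConstructible Ff ∧ (EtPBC.supp Ff).Finite ∧
        ∃ ι : F ⟶ (EtCoh.push π).obj (EtCoh.const Un M) ⊞ Ff, Mono ι := by
  haveI : IsNoetherianRing R₀ := hexc.1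
  haveI : CharZero R₀ := charZero_of_injective_algebraMap (algebraMap k R₀).injective
  haveI : CharZero (FractionRing R₀) :=
    charZero_of_injective_algebraMap (IsFractionRing.injective R₀ (FractionRing R₀))
  haveI : Algebra.IsSeparable (FractionRing R₀) K := inferInstance
  haveI : IsNoetherianRing ↥(integralClosure R₀ K) :=
    IsIntegralClosure.isNoetherianRing R₀ (FractionRing R₀) K _
  haveI : IsLocallyNoetherian (↑U : Scheme.{u}) := inferInstance
  haveI : CompactSpace ↥(↑U : Scheme.{u}) :=
    isCompact_iff_compactSpace.1 (TopologicalSpace.NoetherianSpace.isCompact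
      (U : Set ↥(Spec (CommRingCat.of ↥(integralClosure R₀ K)))))
  haveI : AlgebraicGeometry.IsNoetherian (↑U : Scheme.{u}) := ⟨⟩
  haveI : IsLocallyNoetherian Un := LocallyOfFiniteType.isLocallyNoetherian π
  obtain ⟨v₀⟩ := hV
  have hW : Nonempty ↥(↑(π ⁻¹ᵁ V) : Scheme.{u}) := by
    obtain ⟨w, hw⟩ := π.surjective v₀.1
    exact ⟨⟨w, show π.base w ∈ V by rw [hw]; exact v₀.2⟩⟩
  obtain ⟨e⟩ := hconst
  -- the complement of `V` is finite
  have hfin : ((V : Set ↥(↑U : Scheme.{u}))ᶜ).Finite := by
    let Z : TopologicalSpace.Closeds ↥(↑U : Scheme.{u}) := ⟨(V : Set _)ᶜ, V.2.isClosed_compl⟩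
    let I := Scheme.IdealSheafData.vanishingIdeal Z
    let i := I.subschemeι
    have hi : Set.range i.base = (V : Set ↥(↑U : Scheme.{u}))ᶜ := by
      rw [Scheme.IdealSheafData.range_subschemeι, Scheme.IdealSheafData.coe_support_vanishingIdeal]
      rfl
    haveI : IsLocallyNoetherian I.subscheme := LocallyOfFiniteType.isLocallyNoetherian i
    haveI : CompactSpace I.subscheme := QuasiCompact.compactSpace_of_compactSpace i
    haveI : AlgebraicGeometry.IsNoetherian I.subscheme := ⟨⟩
    have hne0 : ∀ z : ↥(↑U : Scheme.{u}), z ∉ V → (U.ι.base z).asIdeal ≠ ⊥ := fun z hz h0 => by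
      apply hz
      have hsp : U.ι.base z ⤳ U.ι.base v₀.1 :=
        (PrimeSpectrum.le_iff_specializes _ _).1 (show (U.ι.base z).asIdeal ≤ _ by rw [h0]; exact bot_le)
      have hsp' : z ⤳ v₀.1 := U.ι.isOpenEmbedding.isInducing.specializes_iff.1 hsp
      exact hsp'.mem_open V.2 v₀.2
    have hmax : ∀ z : ↥(↑U : Scheme.{u}), ¬ (U.ι.base z).asIdeal.IsMaximal := fun z hm' =>
      hU (U.ι.base z) z.2 ((PrimeSpectrum.isClosed_singleton_iff_isMaximal _).2 hm')
    have hall : ∀ w : I.subscheme, ∀ y, y ⤳ w → y = w := fun w y hyw => by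
      have hmem : ∀ t, i.base t ∉ V := fun t => (hi.le ⟨t, rfl⟩ : _)
      have h1 : U.ι.base (i.base y) ⤳ U.ι.base (i.base w) :=
        (hyw.map i.base.hom.continuous).map U.ι.base.hom.continuous
      have h2 := GrothLib.EmbedPush18.eq_of_le_of_dim_two (R := R₀) hdim.le
        ((PrimeSpectrum.le_iff_specializes _ _).2 h1) (hne0 _ (hmem y)) (hmax _)
      exact i.isEmbedding.injective (U.ι.isOpenEmbedding.injective h2)
    rw [← hi, ← Set.image_univ]
    exact (Set.Finite.subset GrothLib.GalCd.finite_maximal fun w _ => hall w).image _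
  obtain ⟨h1, h2⟩ := GrothLib.EmbedPush18.exists_mono π hnorm V hW hfin F hF m hm hmF M₀ e
  exact ⟨M₀, inferInstance, inferInstance, h1, h2⟩

end Groth.Agent.S13416
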