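import Groth.Statements.S13417
import Groth.Agent.Lib.LocAcyc.Universal
import Groth.Agent.Lib.NormalHom.Colimit
import Groth.Agent.Lib.NormalHom.Connected
import Groth.Agent.Lib.IcTensor5.Basic
import Groth.Agent.Lib.GeomRed2.Basic
import Groth.Agent.Lib.Ratliff.Equidim

set_option autoImplicit false
universe u
open scoped TensorProduct
open HLoc2

namespace Groth.Agent.S13417

open TensorProduct

theorem core (k : Type u) [Field k] (R₀ : Type u) [CommRing R₀] [IsDomain R₀] [HenselianLocalRing R₀] [Algebra k R₀]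
    [IsIntegrallyClosed R₀] (hdim : ringKrullDim R₀ = 2)
    (hres : Function.Surjective (fun a : k => IsLocalRing.residue R₀ (algebraMap k R₀ a)))
    (Ks : Type u) [Field Ks] [Algebra k Ks] [Algebra.IsSeparable k Ks] [IsDomain (R₀ ⊗[k] Ks)] :
    ∃ _ : HenselianLocalRing (R₀ ⊗[k] Ks),
      IsIntegrallyClosed (R₀ ⊗[k] Ks) ∧
      ringKrullDim (R₀ ⊗[k] Ks) = 2 ∧
      Function.Surjective (fun a : Ks =>
        IsLocalRing.residue (R₀ ⊗[k] Ks)
          ((Algebra.TensorProduct.includeRight : Ks →ₐ[k] R₀ ⊗[k] Ks) a)) := by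
  classical
  haveI : Algebra.IsIntegral R₀ (R₀ ⊗[k] Ks) := inferInstance
  have hinj : Function.Injective (algebraMap R₀ (R₀ ⊗[k] Ks)) :=
    Algebra.TensorProduct.includeLeft_injective (S := R₀) (algebraMap k Ks).injective
  let C := R₀ ⊗[k] Ks
  let ι : Ks →ₐ[k] C := Algebra.TensorProduct.includeRight
  let I := (IsLocalRing.maximalIdeal R₀).map (algebraMap R₀ C)
  have hdec : ∀ z : C, ∃ a : Ks, z - ι a ∈ I := by
    intro z
    induction z using TensorProduct.induction_on with
    | zero => exact ⟨0, by simp⟩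
    | tmul r t =>
      obtain ⟨c, hc⟩ := hres (IsLocalRing.residue R₀ r)
      refine ⟨c • t, ?_⟩
      have hm : r - algebraMap k R₀ c ∈ IsLocalRing.maximalIdeal R₀ := Ideal.Quotient.eq.mp hc.symm
      have he : r ⊗ₜ[k] t - ι (c • t) = algebraMap R₀ C (r - algebraMap k R₀ c) * ι t := by
        show r ⊗ₜ[k] t - (1 : R₀) ⊗ₜ[k] (c • t) =
          ((r - algebraMap k R₀ c) ⊗ₜ[k] (1 : Ks)) * ((1 : R₀) ⊗ₜ[k] t)
        rw [Algebra.TensorProduct.tmul_mul_tmul, mul_one, one_mul, TensorProduct.sub_tmul,
          TensorProduct.tmul_smul, TensorProduct.smul_tmul', Algebra.algebraMap_eq_smul_one]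
      rw [he]
      exact I.mul_mem_right _ (Ideal.mem_map_of_mem _ hm)
    | add x y hx hy =>
      obtain ⟨a, ha⟩ := hx
      obtain ⟨b, hb⟩ := hy
      exact ⟨a + b, by rw [map_add]; convert I.add_mem ha hb using 1; ring⟩
  have hmax : ∀ M : Ideal C, M.IsMaximal → M = I := by
    intro M hM
    have hle : I ≤ M := Ideal.map_le_iff_le_comap.mpr
      (IsLocalRing.eq_maximalIdeal (Ideal.isMaximal_comap_of_isIntegral_of_isMaximal (R := R₀) M)).ge
    refine le_antisymm (fun z hz => ?_) hle
    obtain ⟨a, ha⟩ := hdec z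
    have h1 : ι a ∈ M := by
      have := M.sub_mem hz (hle ha)
      rwa [sub_sub_cancel] at this
    have h2 : a = 0 := by
      by_contra h
      exact hM.ne_top (Ideal.eq_top_of_isUnit_mem _ h1 ((Ne.isUnit h).map ι))
    rwa [h2, map_zero, sub_zero] at ha
  obtain ⟨M, hM⟩ := Ideal.exists_maximal C
  haveI : IsLocalRing C := IsLocalRing.of_unique_max_ideal ⟨M, hM, fun N hN => (hmax N hN).trans (hmax M hM).symm⟩
  haveI hH : HenselianLocalRing C := GrothLib.LocAcyc.henselianLocalRing_of_isIntegral R₀ C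
  refine ⟨hH, ?_, ?_, fun y => ?_⟩
  · haveI : Algebra.IsGeometricallyReduced k Ks := GrothLib.GeomRed2.isGeometricallyReduced_of_isSeparable
    have hn := GrothLib.NormalHom.isNormalRing_tensor_separable
      (GrothLib.IcTensor5.isNormalRing_of_isIntegrallyClosed R₀) Ks (k := k)
    let e : Ks ⊗[k] R₀ ≃ₐ[k] C := Algebra.TensorProduct.comm k Ks R₀
    haveI : IsDomain (Ks ⊗[k] R₀) := e.toMulEquiv.isDomain C
    haveI := GrothLib.NormalHom.isIntegrallyClosed_of_isNormalRing _ hn
    exact IsIntegrallyClosed.of_equiv e.toRingEquiv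
  · rw [← hdim]
    exact GrothLib.Dim.ringKrullDim_eq_of_isIntegral (R := R₀) (S := C) hinj
  · obtain ⟨z, rfl⟩ := IsLocalRing.residue_surjective y
    obtain ⟨a, ha⟩ := hdec z
    exact ⟨a, (Ideal.Quotient.eq.mpr ((hmax _ (IsLocalRing.maximalIdeal.isMaximal C)).symm ▸ ha)).symm⟩


/-- Let `k` be a field with separable closure `kˢ` and `R₀` a commutative local `k`-algebra which is
excellent, henselian, integrally closed, of Krull dimension two, with residue field `k`, and
geometrically integral (`R₀ ⊗_k kˢ` is a domain). Then `R₀ ⊗_k kˢ` is a henselian local ring which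
is integrally closed, of Krull dimension two, and whose residue field is `kˢ` (the composite `kˢ →
R₀ ⊗_k kˢ →` residue field is surjective). (The published statement also asserts that `R₀ ⊗_k kˢ` is
excellent; that assertion is not restated here.) -/
theorem result
    (k : Type u) [Field k] (R₀ : Type u) [CommRing R₀] [IsDomain R₀] [HenselianLocalRing R₀] [Algebra k R₀]
    [IsIntegrallyClosed R₀] (hexc : EGA4.IsExcellent R₀) (hdim : ringKrullDim R₀ = 2)
    (hres : Function.Surjective (fun a : k => IsLocalRing.residue R₀ (algebraMap k R₀ a)))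
    [IsDomain (R₀ ⊗[k] SeparableClosure k)] :
    ∃ _ : HenselianLocalRing (R₀ ⊗[k] SeparableClosure k),
      IsIntegrallyClosed (R₀ ⊗[k] SeparableClosure k) ∧
      ringKrullDim (R₀ ⊗[k] SeparableClosure k) = 2 ∧
      Function.Surjective (fun a : SeparableClosure k =>
        IsLocalRing.residue (R₀ ⊗[k] SeparableClosure k)
          ((Algebra.TensorProduct.includeRight : SeparableClosure k →ₐ[k] R₀ ⊗[k] SeparableClosure k) a)) := by
  exact core k R₀ hdim hres (SeparableClosure k)

end Groth.Agent.S13417
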