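import Groth.Statements.S13418
import Groth.Agent.Lib.GrpSchField.Neron

set_option autoImplicit false
universe u
open CategoryTheory AlgebraicGeometry
open NeronHD

namespace Groth.Agent.S13418

/-- Let S be a locally Noetherian scheme over a field of characteristic 0 and S₀ ⊆ S a
scheme-theoretically dense open. If N and M are smooth S-schemes having the Néron mapping property
for S₀ ⊆ S (for every smooth S-scheme Z, restriction to S₀ is a bijection from S-morphisms Z → N
onto S₀-morphisms Z|S₀ → N|S₀), then the fibre product N ×_S M has the Néron mapping property for S₀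
⊆ S (its smoothness over S being automatic). (This row is the case of schemes, with smooth test
schemes, of a statement about algebraic spaces.) -/
theorem result {k : Type u} [Field k] [CharZero k] {S : Scheme.{u}} (σ : S ⟶ Spec (CommRingCat.of k)) [IsLocallyNoetherian S] (S₀ : S.Opens) (hS₀ : CInt.IsSchematicallyDense S₀)
    (N M : Over S) [Smooth N.hom] [Smooth M.hom]
    (hN : ∀ Z : Over S, Smooth Z.hom → Function.Bijective (fun g : Z ⟶ N => (Over.pullback S₀.ι).map g))
    (hM : ∀ Z : Over S, Smooth Z.hom → Function.Bijective (fun g : Z ⟶ M => (Over.pullback S₀.ι).map g)) :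
    ∀ Z : Over S, Smooth Z.hom → Function.Bijective (fun g : Z ⟶ Over.mk (Limits.pullback.fst N.hom M.hom ≫ N.hom) => (Over.pullback S₀.ι).map g) := by
  intro Z hZ
  rw [GrothLib.GrpSchField.bijective_pullback_map_iff]
  have EN := (GrothLib.GrpSchField.bijective_pullback_map_iff S₀.ι Z N).mp (hN Z hZ)
  have EM := (GrothLib.GrpSchField.bijective_pullback_map_iff S₀.ι Z M).mp (hM Z hZ)
  intro h hh
  simp only [Over.mk_hom] at hh
  obtain ⟨a, ⟨ha, ha'⟩, -⟩ := EN (h ≫ Limits.pullback.fst N.hom M.hom)
    (by rw [Category.assoc]; exact hh)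
  obtain ⟨b, ⟨hb, hb'⟩, -⟩ := EM (h ≫ Limits.pullback.snd N.hom M.hom)
    (by rw [Category.assoc, ← Limits.pullback.condition]; exact hh)
  refine ⟨Limits.pullback.lift a b (ha.trans hb.symm), ⟨?_, ?_⟩, fun g ⟨hg, hg'⟩ => ?_⟩
  · exact (Limits.pullback.lift_fst_assoc _ _ _ _).trans ha
  · exact Limits.pullback.hom_ext (by rw [Category.assoc, Limits.pullback.lift_fst, ha'])
      (by rw [Category.assoc, Limits.pullback.lift_snd, hb'])
  · simp only [Over.mk_hom] at hg
    apply Limits.pullback.hom_ext
    · rw [Limits.pullback.lift_fst]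
      exact EN.eq_of_comp ((Category.assoc _ _ _).trans hg) ha (by rw [ha', ← hg', Category.assoc])
    · rw [Limits.pullback.lift_snd]
      refine EM.eq_of_comp ?_ hb (by rw [hb', ← hg', Category.assoc])
      rw [Category.assoc, ← Limits.pullback.condition]
      exact hg

end Groth.Agent.S13418
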