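import Groth.Statements.S13419
import Groth.Agent.Lib.GrpSchField.Neron

set_option autoImplicit false
universe u
open CategoryTheory AlgebraicGeometry
open NeronHD

namespace Groth.Agent.S13419

/-- Let S be a locally Noetherian scheme over a field of characteristic 0, S₀ ⊆ S₁ ⊆ S opens with S₀
scheme-theoretically dense in S, and N a smooth S-scheme. If N has the Néron mapping property for S₁
⊆ S and the restriction N|S₁ has the Néron mapping property for S₀ ⊆ S₁ (in both cases: restriction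
of morphisms from smooth schemes over the base is bijective), then N has the Néron mapping property
for S₀ ⊆ S. (Case of schemes, with smooth test schemes, of a statement about algebraic spaces.) -/
theorem result {k : Type u} [Field k] [CharZero k] {S : Scheme.{u}} (σ : S ⟶ Spec (CommRingCat.of k)) [IsLocallyNoetherian S] (S₀ S₁ : S.Opens) (h01 : S₀ ≤ S₁) (hS₀ : CInt.IsSchematicallyDense S₀)
    (N : Over S) [Smooth N.hom]
    (hN1 : ∀ Z : Over S, Smooth Z.hom → Function.Bijective (fun g : Z ⟶ N => (Over.pullback S₁.ι).map g))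
    (hN10 : ∀ Z : Over (S₁ : Scheme.{u}), Smooth Z.hom → Function.Bijective (fun g : Z ⟶ (Over.pullback S₁.ι).obj N => (Over.pullback (S₁.ι ⁻¹ᵁ S₀).ι).map g)) :
    ∀ Z : Over S, Smooth Z.hom → Function.Bijective (fun g : Z ⟶ N => (Over.pullback S₀.ι).map g) := by
  have hr : ∀ Z : Over S, IsPullback (Limits.pullback.fst (Limits.pullback.snd Z.hom S₁.ι) (S₁.ι ⁻¹ᵁ S₀).ι ≫
      Limits.pullback.fst Z.hom S₁.ι) (Limits.pullback.snd (Limits.pullback.snd Z.hom S₁.ι) (S₁.ι ⁻¹ᵁ S₀).ι)
      Z.hom ((S₁.ι ⁻¹ᵁ S₀).ι ≫ S₁.ι) := fun Z =>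
    (IsPullback.of_hasPullback _ _).paste_horiz (IsPullback.of_hasPullback _ _)
  have hrange : Set.range ((S₁.ι ⁻¹ᵁ S₀).ι ≫ S₁.ι) = Set.range S₀.ι := by
    simp only [Scheme.Hom.comp_base, TopCat.coe_comp, Set.range_comp, Scheme.Opens.range_ι]
    rw [Scheme.Hom.coe_preimage, Set.image_preimage_eq_inter_range, Scheme.Opens.range_ι]
    exact Set.inter_eq_left.mpr h01
  intro Z hZ
  have E10 := (GrothLib.GrpSchField.bijective_pullback_map_iff (S₁.ι ⁻¹ᵁ S₀).ι _ _).mp
    (hN10 (Over.mk (Limits.pullback.snd Z.hom S₁.ι))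
      (MorphismProperty.pullback_snd (P := @Smooth) _ _ hZ))
  rw [GrothLib.GrpSchField.bijective_pullback_map_iff]
  have E1 := (GrothLib.GrpSchField.bijective_pullback_map_iff S₁.ι Z N).mp (hN1 Z hZ)
  suffices GrothLib.GrpSchField.UExt Z.hom N.hom
      (Limits.pullback.fst (Limits.pullback.snd Z.hom S₁.ι) (S₁.ι ⁻¹ᵁ S₀).ι ≫
        Limits.pullback.fst Z.hom S₁.ι) from
    GrothLib.GrpSchField.UExt.of_range_eq _ _ hrange
      (GrothLib.GrpSchField.UExt.of_iso (hr Z).isoPullback (hr Z).isoPullback_hom_fst this)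
  intro h hh
  have w : h ≫ N.hom = (Limits.pullback.fst (Limits.pullback.snd Z.hom S₁.ι) (S₁.ι ⁻¹ᵁ S₀).ι ≫
      Limits.pullback.snd Z.hom S₁.ι) ≫ S₁.ι := by
    rw [hh, Category.assoc, Category.assoc, Limits.pullback.condition]
  obtain ⟨g₁, ⟨hg₁, hg₁'⟩, -⟩ := E10 (Limits.pullback.lift h _ w) (Limits.pullback.lift_snd _ _ _)
  have hg₁N : (g₁ ≫ Limits.pullback.fst N.hom S₁.ι) ≫ N.hom =
      Limits.pullback.fst Z.hom S₁.ι ≫ Z.hom := by
    rw [Category.assoc, Limits.pullback.condition, Limits.pullback.condition]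
    exact (Category.assoc _ _ _).symm.trans (congrArg (· ≫ S₁.ι) hg₁)
  obtain ⟨g, ⟨hg, hg'⟩, -⟩ := E1 _ hg₁N
  refine ⟨g, ⟨hg, ?_⟩, fun g' ⟨hh1, hh2⟩ => ?_⟩
  · rw [Category.assoc, hg']
    exact (Category.assoc _ _ _).symm.trans
      ((congrArg (· ≫ Limits.pullback.fst N.hom S₁.ι) hg₁').trans (Limits.pullback.lift_fst _ _ _))
  · refine E1.eq_of_comp hh1 hg (hg'.symm ▸ ?_)
    have w' : (Limits.pullback.fst Z.hom S₁.ι ≫ g') ≫ N.hom =
        Limits.pullback.snd Z.hom S₁.ι ≫ S₁.ι := by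
      rw [Category.assoc, hh1, Limits.pullback.condition]
    have : Limits.pullback.lift _ _ w' = g₁ := E10.eq_of_comp (Limits.pullback.lift_snd _ _ _) hg₁
      (hg₁'.symm ▸ Limits.pullback.hom_ext
        (((Category.assoc _ _ _).trans (congrArg (_ ≫ ·) (Limits.pullback.lift_fst _ _ _))).trans
          (((Category.assoc _ _ _).symm.trans hh2).trans (Limits.pullback.lift_fst _ _ _).symm))
        (by rw [Category.assoc, Limits.pullback.lift_snd, Limits.pullback.lift_snd]; rfl))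
    rw [← this]
    exact (Limits.pullback.lift_fst _ _ _).symm

end Groth.Agent.S13419
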