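import Groth.Statements.S13421
import Groth.Agent.Lib.GrpSchField.Neron

set_option autoImplicit false
universe u
open CategoryTheory AlgebraicGeometry
open NeronHD

namespace Groth.Agent.S13421

/-- Let T be a locally Noetherian scheme over a field of characteristic 0 and T₀ ⊆ T a
scheme-theoretically dense open. Let f : S → T be étale and such that S, viewed as a T-scheme, has
the Néron mapping property for T₀ ⊆ T, and let g : N → S be smooth and such that N, viewed as an
S-scheme, has the Néron mapping property for f⁻¹(T₀) ⊆ S (restriction of morphisms from smooth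
schemes over the base is bijective). Then N → T, the composite g ≫ f, has the Néron mapping property
for T₀ ⊆ T. (Case of schemes, with smooth test schemes, of a statement about algebraic spaces.) -/
theorem result {k : Type u} [Field k] [CharZero k] {T : Scheme.{u}} (τ : T ⟶ Spec (CommRingCat.of k)) [IsLocallyNoetherian T] (T₀ : T.Opens) (hT₀ : CInt.IsSchematicallyDense T₀)
    {S N : Scheme.{u}} (f : S ⟶ T) [Etale f] (g : N ⟶ S) [Smooth g]
    (hS : ∀ Z : Over T, Smooth Z.hom → Function.Bijective (fun g : Z ⟶ Over.mk f => (Over.pullback T₀.ι).map g))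
    (hN : ∀ Z : Over S, Smooth Z.hom → Function.Bijective (fun g : Z ⟶ Over.mk g => (Over.pullback (f ⁻¹ᵁ T₀).ι).map g)) :
    ∀ Z : Over T, Smooth Z.hom → Function.Bijective (fun g : Z ⟶ Over.mk (g ≫ f) => (Over.pullback T₀.ι).map g) := by
  intro Z hZ
  rw [GrothLib.GrpSchField.bijective_pullback_map_iff]
  have ES := (GrothLib.GrpSchField.bijective_pullback_map_iff T₀.ι Z (Over.mk f)).mp (hS Z hZ)
  intro h hh
  simp only [Over.mk_hom] at hh
  obtain ⟨a, ⟨ha, ha'⟩, -⟩ := ES (h ≫ g) ((Category.assoc _ _ _).trans hh)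
  simp only [Over.mk_hom] at ha
  have hsm : Smooth a := GrothLib.GrpSchField.smooth_of_comp_etale a f (ha.symm ▸ hZ)
  have EN := (GrothLib.GrpSchField.bijective_pullback_map_iff (f ⁻¹ᵁ T₀).ι (Over.mk a) (Over.mk g)).mp
    (hN (Over.mk a) hsm)
  simp only [Over.mk_hom] at EN
  have hP := (IsPullback.of_hasPullback a (f ⁻¹ᵁ T₀).ι).paste_vert (isPullback_morphismRestrict f T₀).flip
  rw [ha] at hP
  have EN' : GrothLib.GrpSchField.UExt a g (Limits.pullback.fst Z.hom T₀.ι) :=
    EN.of_iso hP.isoPullback hP.isoPullback_hom_fst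
  obtain ⟨b, ⟨hb, hb'⟩, huniq⟩ := EN' h ha'.symm
  refine ⟨b, ⟨((Category.assoc _ _ _).symm.trans (congrArg (· ≫ f) hb)).trans ha, hb'⟩, fun b' ⟨h1, h2⟩ => ?_⟩
  simp only [Over.mk_hom] at h1
  refine huniq b' ⟨?_, h2⟩
  exact ES.eq_of_comp ((Category.assoc _ _ _).trans h1) ha (by rw [ha', ← Category.assoc, h2])

end Groth.Agent.S13421
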