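import Groth.Statements.S13422
import Groth.Agent.Lib.SchDense.NeronUnique
-- import your own Groth.Agent.* helpers here

set_option autoImplicit false
universe u
open CategoryTheory AlgebraicGeometry
open NeronHD

namespace Groth.Agent.S13422

/-- Let S be a locally Noetherian scheme over a field of characteristic 0, S₀ ⊆ S a scheme-theoretically
dense open, and N a smooth S-scheme with the weak Néron mapping property for S₀ ⊆ S: for every étale
S-scheme U, restriction to S₀ is a bijection from S-morphisms U → N onto S₀-morphisms U|S₀ → N|S₀.
Then N has the uniqueness half of the Néron mapping property: for every smooth S-scheme Z,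
restriction of S-morphisms Z → N to S₀ is injective. (Case of schemes of a statement about algebraic
spaces.) -/
theorem result {k : Type u} [Field k] [CharZero k] {S : Scheme.{u}} (σ : S ⟶ Spec (CommRingCat.of k)) [IsLocallyNoetherian S] (S₀ : S.Opens) (hS₀ : CInt.IsSchematicallyDense S₀)
    (N : Over S) [Smooth N.hom]
    (hN : ∀ U : Over S, Etale U.hom → Function.Bijective (fun g : U ⟶ N => (Over.pullback S₀.ι).map g))
    (Z : Over S) [Smooth Z.hom] :
    Function.Injective (fun g : Z ⟶ N => (Over.pullback S₀.ι).map g) := by
  exact GrothLib.SchDense.injective_of_weakNeron σ S₀ hS₀ N (fun U hU => (hN U hU).1) Z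


end Groth.Agent.S13422
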