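import Groth.Statements.S13423
import Groth.Agent.Lib.Unibranch.Unramified
import Groth.Agent.Lib.UnramLoc9.Field
import Groth.Agent.Lib.RedSmooth.Basic
-- import your own Groth.Agent.* helpers here

set_option autoImplicit false
universe u
open CategoryTheory AlgebraicGeometry
open NeronHD

namespace Groth.Agent.S13423

section Aux

open CategoryTheory CategoryTheory.Limits AlgebraicGeometry TopologicalSpace Topology

variable {X S : Scheme.{u}}

theorem isDomain_stalk [IsReduced S] (hS : ∀ s : S, CAlg2.IsGeomUnibranch (S.presheaf.stalk s)) (s : S) :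
    IsDomain (S.presheaf.stalk s) :=
  haveI : IsDomain (CAlg2.red (S.presheaf.stalk s)) := (hS s).1.1
  Function.Injective.isDomain (Ideal.Quotient.mk (nilradical (S.presheaf.stalk s)))
    (by
      rw [RingHom.injective_iff_ker_eq_bot, Ideal.mk_ker]
      exact nilradical_eq_zero _)

theorem isOpen_irreducibleComponent [IsLocallyNoetherian S]
    (hS : ∀ s : S, IsDomain (S.presheaf.stalk s)) {Z : Set S} (hZ : Z ∈ irreducibleComponents S) : IsOpen Z := by
  have huniq : ∀ x : S, x ∈ Z → ∀ W ∈ irreducibleComponents (S : Type u), x ∈ W → W = Z := by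
    intro x hxZ W hW hxW
    obtain ⟨c₁, hc₁⟩ := QuasiSober.sober hZ.1 (isClosed_of_mem_irreducibleComponents Z hZ)
    obtain ⟨c₂, hc₂⟩ := QuasiSober.sober hW.1 (isClosed_of_mem_irreducibleComponents W hW)
    have := hS x
    obtain ⟨P, hP⟩ := (Scheme.range_fromSpecStalk (x := x)).ge (hc₁.specializes hxZ)
    obtain ⟨Q, hQ⟩ := (Scheme.range_fromSpecStalk (x := x)).ge (hc₂.specializes hxW)
    let z : PrimeSpectrum (S.presheaf.stalk x) := ⟨⊥, Ideal.isPrime_bot⟩
    have hzP : S.fromSpecStalk x z ⤳ c₁ :=
      hP ▸ ((PrimeSpectrum.le_iff_specializes z P).1 bot_le).map (S.fromSpecStalk x).continuous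
    have hzQ : S.fromSpecStalk x z ⤳ c₂ :=
      hQ ▸ ((PrimeSpectrum.le_iff_specializes z Q).1 bot_le).map (S.fromSpecStalk x).continuous
    have e₁ : Z = closure {S.fromSpecStalk x z} := hZ.eq_of_le isIrreducible_singleton.closure (by
      rw [← hc₁.def]; exact hzP.closure_subset)
    have e₂ : W = closure {S.fromSpecStalk x z} := hW.eq_of_le isIrreducible_singleton.closure (by
      rw [← hc₂.def]; exact hzQ.closure_subset)
    rw [e₁, e₂]
  rw [isOpen_iff_mem_nhds]
  intro x hx
  obtain ⟨_, ⟨U, hU, rfl⟩, hxU, -⟩ := S.isBasis_affineOpens.exists_subset_of_mem_open (Set.mem_univ x) isOpen_univ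
  haveI : CompactSpace (U : Scheme.{u}) := isCompact_iff_compactSpace.mp hU.isCompact
  haveI : IsNoetherian (U : Scheme.{u}) := { }
  let B : Set (Set (U : Scheme.{u})) := {W ∈ irreducibleComponents (U : Scheme.{u}) | (⟨x, hxU⟩ : U) ∉ W}
  have hB : IsClosed (⋃₀ B) := by
    rw [Set.sUnion_eq_biUnion]
    exact (NoetherianSpace.finite_irreducibleComponents.subset fun W h => h.1).isClosed_biUnion
      fun W h => isClosed_of_mem_irreducibleComponents W h.1
  refine Filter.mem_of_superset (((Scheme.Opens.ι U).isOpenEmbedding.isOpenMap _ hB.isOpen_compl).mem_nhds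
    ⟨⟨x, hxU⟩, fun ⟨W, hW, hxW⟩ => hW.2 hxW, rfl⟩) ?_
  rintro _ ⟨y, hy, rfl⟩
  have hxy : (⟨x, hxU⟩ : U) ∈ irreducibleComponent y := by
    by_contra h
    exact hy ⟨_, ⟨irreducibleComponent_mem_irreducibleComponents y, h⟩, mem_irreducibleComponent⟩
  obtain ⟨W, hW, hsub⟩ := exists_mem_irreducibleComponents_subset_of_isIrreducible _
    ((isIrreducible_irreducibleComponent (x := y)).image (Scheme.Opens.ι U) (Scheme.Opens.ι U).continuous.continuousOn)
  have := huniq x hx W hW (hsub ⟨_, hxy, rfl⟩)
  exact this ▸ hsub ⟨y, mem_irreducibleComponent, rfl⟩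

theorem formallyUnramified_of_smooth_fibres (f : X ⟶ S) [IsLocallyNoetherian S] [LocallyOfFiniteType f]
    [LocallyQuasiFinite f] (hfib : ∀ s : S, Smooth (pullback.snd f (S.fromSpecResidueField s))) :
    FormallyUnramified f := by
  refine (GrothLib.UnramLoc9.unramified_iff_geometric f).2 fun K _ _ s => ?_
  obtain ⟨⟨y, φ⟩, hs⟩ := (Scheme.SpecToEquivOfField K S).symm.surjective s
  replace hs : Spec.map φ ≫ S.fromSpecResidueField y = s := hs
  subst hs
  let e := pullbackLeftPullbackSndIso f (S.fromSpecResidueField y) (Spec.map φ)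
  haveI := hfib y
  haveI : IsReduced (pullback (pullback.snd f (S.fromSpecResidueField y)) (Spec.map φ)) :=
    GrothLib.RedSmooth.isReduced_of_smooth (pullback.snd _ (Spec.map φ))
  refine ⟨isReduced_of_isOpenImmersion e.inv, ?_⟩
  let q := pullback.snd f (Spec.map φ ≫ S.fromSpecResidueField y)
  have h := q.isDiscrete_preimage_singleton (IsLocalRing.closedPoint K)
  refine isDiscrete_univ_iff.mp ?_
  convert h using 1
  exact (Set.eq_univ_of_forall fun z => Subsingleton.elim (α := PrimeSpectrum K) _ _).symm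

theorem genericPoint_mem_range (f : X ⟶ S) [IsIntegral S] [IsLocallyNoetherian S] [LocallyOfFiniteType f]
    [QuasiCompact f] [IsDominant f] : genericPoint S ∈ Set.range f := by
  haveI := LocallyOfFiniteType.isLocallyNoetherian f
  obtain ⟨_, ⟨V, hV, rfl⟩, hη, -⟩ :=
    S.isBasis_affineOpens.exists_subset_of_mem_open (Set.mem_univ (genericPoint S)) isOpen_univ
  haveI : CompactSpace (f ⁻¹ᵁ V : Scheme.{u}) :=
    isCompact_iff_compactSpace.mp (f.isCompact_preimage hV.isCompact)
  haveI : IsNoetherian (f ⁻¹ᵁ V : Scheme.{u}) := { }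
  let F := irreducibleComponents (f ⁻¹ᵁ V : Scheme.{u})
  choose ξ hξ using fun W : F => QuasiSober.sober W.2.1 (isClosed_of_mem_irreducibleComponents _ W.2)
  haveI : Finite F := NoetherianSpace.finite_irreducibleComponents.to_subtype
  have hsub : Set.range f ∩ V ⊆ ⋃ W : F, closure {f (ξ W).1} := by
    rintro _ ⟨⟨z, rfl⟩, hz⟩
    refine Set.mem_iUnion.mpr ⟨⟨_, irreducibleComponent_mem_irreducibleComponents (⟨z, hz⟩ : (f ⁻¹ᵁ V : X.Opens))⟩, ?_⟩
    exact (((hξ ⟨_, irreducibleComponent_mem_irreducibleComponents (⟨z, hz⟩ : (f ⁻¹ᵁ V : X.Opens))⟩).specializes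
      (y := (⟨z, hz⟩ : (f ⁻¹ᵁ V : X.Opens))) mem_irreducibleComponent).map ((f ⁻¹ᵁ V).ι ≫ f).continuous).mem_closure
  have hmem : genericPoint S ∈ closure (⋃ W : F, closure {f (ξ W).1}) := by
    refine closure_mono hsub ?_
    rw [mem_closure_iff]
    intro O hO hηO
    obtain ⟨_, hy, z, rfl⟩ := (mem_closure_iff.mp (f.denseRange (genericPoint S))) _ (hO.inter V.2) ⟨hηO, hη⟩
    exact ⟨f z, hy.1, ⟨z, rfl⟩, hy.2⟩
  rw [(isClosed_iUnion_of_finite fun _ => isClosed_closure).closure_eq] at hmem
  obtain ⟨W, hW⟩ := Set.mem_iUnion.mp hmem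
  exact ⟨(ξ W).1, ((genericPoint_specializes _).antisymm (specializes_iff_mem_closure.mpr hW)).eq.symm⟩

end Aux


/-- Let S be a reduced, locally Noetherian scheme over a field of characteristic 0 whose local rings are
all geometrically unibranch, and let f : X → S be quasi-finite (locally of finite type,
quasi-compact, with finite discrete fibres), separated and dominant, with X connected and nonempty,
such that every fibre X_s over the residue field k(s) is smooth. Then f is étale. (Case of schemes
of a statement about algebraic spaces.) -/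
theorem result {k : Type u} [Field k] [CharZero k] {S : Scheme.{u}} (σ : S ⟶ Spec (CommRingCat.of k)) [IsLocallyNoetherian S] [IsReduced S]
    (hS : ∀ s : S, CAlg2.IsGeomUnibranch (S.presheaf.stalk s))
    {X : Scheme.{u}} (f : X ⟶ S) [LocallyOfFiniteType f] [QuasiCompact f] [LocallyQuasiFinite f] [IsSeparated f] [IsDominant f]
    [ConnectedSpace X]
    (hfib : ∀ s : S, Smooth (Limits.pullback.snd f (S.fromSpecResidueField s))) :
    Etale f := by
  have hdom := isDomain_stalk hS
  obtain ⟨x⟩ := (inferInstance : Nonempty X)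
  let Z := irreducibleComponent (f x)
  have hZm : Z ∈ irreducibleComponents S := irreducibleComponent_mem_irreducibleComponents _
  have hcl : IsClopen Z := ⟨isClosed_of_mem_irreducibleComponents Z hZm, isOpen_irreducibleComponent hdom hZm⟩
  have hX : f ⁻¹' Z = Set.univ := (isClopen_iff.mp (hcl.preimage f.continuous)).resolve_left fun h => by
    have : x ∈ f ⁻¹' Z := mem_irreducibleComponent
    rw [h] at this; exact this
  have hZ : Z = Set.univ := Set.eq_univ_of_univ_subset (by
    rw [← f.denseRange.closure_range]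
    exact closure_minimal (Set.range_subset_iff.mpr fun z => (hX.ge (Set.mem_univ z) :)) hcl.1)
  haveI : IrreducibleSpace S := by
    rw [irreducibleSpace_def, Set.top_eq_univ, ← hZ]
    exact hZm.1
  haveI : IsIntegral S := isIntegral_of_irreducibleSpace_of_isReduced S
  haveI := formallyUnramified_of_smooth_fibres f hfib
  exact (GrothLib.Unibranch.etale_of_unramified_dominant f hS (genericPoint_mem_range f)).1


end Groth.Agent.S13423
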