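import Groth.Statements.S13424
import Groth.Agent.Lib.EtDer.NormalStalk
import Groth.Agent.Lib.FEt21.NormalComp
import Groth.Agent.Lib.GrpSchField.Components
import Groth.Agent.Lib.SchImage.Reduced
import Mathlib.AlgebraicGeometry.Morphisms.FlatMono
import Mathlib.AlgebraicGeometry.Morphisms.Etale
-- import your own Groth.Agent.* helpers here

set_option autoImplicit false
universe u
open CategoryTheory AlgebraicGeometry
open GrpSch

namespace Groth.Agent.S13424


open GrothLib CategoryTheory.Limits


/-- Let S be a normal, locally Noetherian scheme over a field of characteristic 0. Let p : G → S and q :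
H → S be smooth morphisms with sections e_G and e_H, and f : G → H an étale morphism over S with f ∘
e_G = e_H (the case in view: an étale homomorphism of smooth group schemes and their unit sections).
Call such a pointed S-scheme aligned when the scheme-theoretic image of its section is étale over S.
If H is aligned then G is aligned. (The published statement has an arbitrary locally Noetherian
base; over the reducible curve xy = 0 the étale group scheme obtained from two copies of the base
glued along the complement of one branch maps to the trivial group by an étale homomorphism and is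
not aligned, so the base is taken normal here, where the closure of the section is a union of
connected components of the preimage of the image of e_H. Schemes only.) -/
theorem result {k : Type u} [Field k] [CharZero k] {S : Scheme.{u}} (σ : S ⟶ Spec (CommRingCat.of k)) [IsLocallyNoetherian S] (hS : Pi1.IsNormalScheme S)
    {G H : Scheme.{u}} (p : G ⟶ S) (q : H ⟶ S) [Smooth p] [Smooth q]
    (eG : S ⟶ G) (eH : S ⟶ H) (heG : eG ≫ p = 𝟙 S) (heH : eH ≫ q = 𝟙 S)
    (f : G ⟶ H) [Etale f] (hf : f ≫ q = p) (hfe : eG ≫ f = eH)
    (hH : Etale (eH.ker.subschemeι ≫ q)) :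
    Etale (eG.ker.subschemeι ≫ p) := by
  haveI : IsReduced S := by
    haveI : ∀ x : S, _root_.IsReduced (S.presheaf.stalk x) := fun x => by
      haveI := (hS x).1; infer_instance
    exact isReduced_of_isReduced_stalk S
  haveI : IsLocallyNoetherian G := LocallyOfFiniteType.isLocallyNoetherian p
  let D := eH.ker.subschemeι
  let j := pullback.fst f D
  haveI : IsClosedImmersion j := inferInstanceAs (IsClosedImmersion (pullback.fst f D))
  let g : pullback f D ⟶ S := j ≫ p
  haveI : Etale g := by
    have e : g = pullback.snd f D ≫ D ≫ q := by
      show pullback.fst f D ≫ p = _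
      rw [← hf, pullback.condition_assoc]
    rw [e]
    haveI := hH
    haveI : Etale (pullback.snd f D) := inferInstance
    infer_instance
  have hP : Pi1.IsNormalScheme (pullback f D) := EtDer.isNormalScheme_etale hS g
  haveI : IsLocallyNoetherian (pullback f D) := LocallyOfFiniteType.isLocallyNoetherian g
  let s : S ⟶ pullback f D := pullback.lift eG eH.toImage (hfe.trans eH.toImage_imageι.symm)
  have hs : s ≫ g = 𝟙 S := by
    show s ≫ pullback.fst f D ≫ p = _
    rw [pullback.lift_fst_assoc, heG]
  haveI : IsIso (s ≫ g) := by rw [hs]; infer_instance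
  haveI : Etale (s ≫ g) := inferInstance
  haveI : Etale s := Etale.of_comp s g
  haveI : Mono s := mono_of_mono s g
  haveI : IsOpenImmersion s := IsOpenImmersion.of_flat_of_mono s
  let E : Set (pullback f D : Scheme.{u}) := closure (Set.range s)
  have hE : IsOpen E := by
    rw [isOpen_iff_forall_mem_open]
    intro x hx
    have hd : ∀ Z₁ ∈ irreducibleComponents (pullback f D : Scheme.{u}),
        ∀ Z₂ ∈ irreducibleComponents (pullback f D : Scheme.{u}), ∀ y, y ∈ Z₁ → y ∈ Z₂ → Z₁ = Z₂ :=
      fun Z₁ h₁ Z₂ h₂ y hy₁ hy₂ => FEt21.components_eq_of_mem (fun z => (hP z).1) h₁ h₂ hy₁ hy₂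
    have hZ := irreducibleComponent_mem_irreducibleComponents x
    have ho := GrpSchField.isOpen_irreducibleComponent_of_disjoint hd _ hZ
    refine ⟨irreducibleComponent x, ?_, ho, mem_irreducibleComponent⟩
    obtain ⟨y, hy, hyr⟩ := mem_closure_iff.1 hx _ ho mem_irreducibleComponent
    exact (subset_closure_inter_of_isPreirreducible_of_isOpen hZ.1.2 s.isOpenEmbedding.isOpen_range
      ⟨y, hy, hyr⟩).trans (closure_mono Set.inter_subset_right)
  let W : (pullback f D : Scheme.{u}).Opens := ⟨E, hE⟩
  haveI : IsClosedImmersion W.ι := IsClosedImmersion.of_isPreimmersion W.ι (by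
    rw [Scheme.Opens.range_ι]; exact isClosed_closure)
  haveI : IsReduced (W : Scheme.{u}) := by
    haveI : ∀ x : (W : Scheme.{u}), _root_.IsReduced ((W : Scheme.{u}).presheaf.stalk x) := fun x => by
      haveI := (hP (W.ι x)).1
      exact isReduced_of_injective (inv (W.ι.stalkMap x)).hom
        (ConcreteCategory.bijective_of_isIso (inv (W.ι.stalkMap x))).1
    exact isReduced_of_isReduced_stalk _
  let c := W.ι ≫ j
  have hker : eG.ker = c.ker := by
    rw [SchImage.ker_eq_vanishingIdeal, SchImage.ker_eq_vanishingIdeal]
    congr 1
    refine TopologicalSpace.Closeds.ext ?_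
    show closure (Set.range eG) = closure (Set.range c)
    have h1 : Set.range c = j '' E := by
      rw [Scheme.Hom.comp_base, TopCat.coe_comp, Set.range_comp]
      exact congrArg (j '' ·) W.range_ι
    have h2 : Set.range eG = j '' Set.range s := by
      rw [← Set.range_comp, ← TopCat.coe_comp, ← Scheme.Hom.comp_base, pullback.lift_fst]
    rw [h1, h2]
    refine Set.Subset.antisymm (closure_mono (Set.image_mono subset_closure)) ?_
    exact closure_minimal (image_closure_subset_closure_image j.continuous) isClosed_closure
  rw [hker]
  haveI : Etale (c ≫ p) := by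
    have : c ≫ p = W.ι ≫ g := Category.assoc _ _ _
    rw [this]; infer_instance
  have h : c.toImage ≫ c.imageι ≫ p = c ≫ p := by rw [← Category.assoc, c.toImage_imageι]
  show Etale (c.imageι ≫ p)
  rw [show c.imageι ≫ p = inv c.toImage ≫ c ≫ p by rw [← h, IsIso.inv_hom_id_assoc]]
  infer_instance


end Groth.Agent.S13424
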