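import Groth.Statements.S13425
import Groth.Agent.S2415
import Groth.Agent.Lib.GrpSchField.Pts
import Mathlib.AlgebraicGeometry.Morphisms.UniversallyInjective
import Mathlib.FieldTheory.PurelyInseparable.Basic
import Mathlib.FieldTheory.Perfect
-- import your own Groth.Agent.* helpers here

set_option autoImplicit false
universe u
open CategoryTheory AlgebraicGeometry
open NeronHD

namespace Groth.Agent.S13425

/-- Let k be a characteristic-zero algebraically closed field and X, Y integral schemes, separated and
of finite type over k, with Y normal, and let f : X → Y be a dominant k-morphism which is injective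
on k-rational points. Then f is an open immersion. (Case of schemes of a statement about algebraic
spaces.) -/
theorem result {k : Type u} [Field k] [IsAlgClosed k] [CharZero k]
    {X Y : Scheme.{u}} (sX : X ⟶ Spec (CommRingCat.of k)) (sY : Y ⟶ Spec (CommRingCat.of k))
    [IsIntegral X] [IsIntegral Y] [IsSeparated sX] [IsSeparated sY]
    [LocallyOfFiniteType sX] [QuasiCompact sX] [LocallyOfFiniteType sY] [QuasiCompact sY]
    (hY : Pi1.IsNormalScheme Y)
    (f : X ⟶ Y) (hf : f ≫ sY = sX) [IsDominant f]
    (hinj : ∀ a b : Spec (CommRingCat.of k) ⟶ X, a ≫ sX = 𝟙 _ → b ≫ sX = 𝟙 _ → a ≫ f = b ≫ f → a = b) :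
    IsOpenImmersion f := by
  classical
  haveI : IsLocallyNoetherian X := LocallyOfFiniteType.isLocallyNoetherian sX
  haveI : IsLocallyNoetherian Y := LocallyOfFiniteType.isLocallyNoetherian sY
  haveI : JacobsonSpace Y := LocallyOfFiniteType.jacobsonSpace sY
  haveI : IsSeparated f := by
    haveI : IsSeparated (f ≫ sY) := hf.symm ▸ inferInstance
    exact IsSeparated.of_comp f sY
  haveI : LocallyOfFiniteType f := by
    haveI : LocallyOfFiniteType (f ≫ sY) := hf.symm ▸ inferInstance
    exact locallyOfFiniteType_of_comp f sY
  haveI : QuasiCompact f := by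
    haveI : QuasiCompact (f ≫ sY) := hf.symm ▸ inferInstance
    exact QuasiCompact.of_comp f sY
  -- universally injective
  haveI : UniversallyInjective f := by
    rw [UniversallyInjective.iff_diagonal]
    let sP : Limits.pullback f f ⟶ Spec (CommRingCat.of k) := Limits.pullback.fst f f ≫ sX
    haveI : LocallyOfFiniteType sP := inferInstance
    haveI : IsLocallyNoetherian (Limits.pullback f f) := LocallyOfFiniteType.isLocallyNoetherian sP
    haveI : JacobsonSpace ↥(Limits.pullback f f) := LocallyOfFiniteType.jacobsonSpace sP
    haveI : LocallyOfFinitePresentation (Limits.pullback.diagonal f) :=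
      GrothLib.GrpSchField.lfp_of_isLocallyNoetherian _
    refine GrothLib.GrpSchField.surjective_of_closedPoints _ fun z hz => ?_
    let P : Over (Spec (CommRingCat.of k)) := Over.mk sP
    haveI : LocallyOfFiniteType P.hom := ‹LocallyOfFiniteType sP›
    obtain ⟨a, ha⟩ := GrothLib.GrpSchField.exists_point_of_isClosed k (k := k) (X := P) (x := z) hz
    have h0 : a.left ≫ Limits.pullback.fst f f ≫ sX = 𝟙 _ := (Over.w a).trans (by
      show Spec.map (CommRingCat.ofHom (algebraMap k k)) = 𝟙 _
      rw [Algebra.algebraMap_self, CommRingCat.ofHom_id, Spec.map_id])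
    have h1 : (a.left ≫ Limits.pullback.snd f f) ≫ sX = 𝟙 _ := by
      rw [← hf, Category.assoc, ← Limits.pullback.condition_assoc, hf]
      exact h0
    have h2 := hinj (a.left ≫ Limits.pullback.fst f f) (a.left ≫ Limits.pullback.snd f f)
      ((Category.assoc _ _ _).trans h0) h1 (by rw [Category.assoc, Limits.pullback.condition, Category.assoc])
    refine ⟨(a.left ≫ Limits.pullback.fst f f) (IsLocalRing.closedPoint k), ?_⟩
    show ((a.left ≫ Limits.pullback.fst f f) ≫ Limits.pullback.diagonal f) (IsLocalRing.closedPoint k) = z
    have h3 : (a.left ≫ Limits.pullback.fst f f) ≫ Limits.pullback.diagonal f = a.left := by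
      apply Limits.pullback.hom_ext
      · rw [Category.assoc, Limits.pullback.diagonal_fst, Category.comp_id]
      · rw [Category.assoc, Limits.pullback.diagonal_snd, Category.comp_id, h2]
    rw [h3]
    exact ha
  obtain ⟨hinjf, hpi⟩ := ((tfae_universallyInjective f).out 0 2).mp ‹UniversallyInjective f›
  have hgen : f.base (genericPoint X) = genericPoint Y := by
    refine ((genericPoint_spec Y).eq ?_).symm
    show closure _ = _
    refine Set.univ_subset_iff.mp ((f.denseRange.closure_range.symm.subset).trans ?_)
    refine closure_minimal ?_ isClosed_closure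
    rintro _ ⟨x, rfl⟩
    exact ((genericPoint_specializes x).map f.continuous).mem_closed isClosed_closure (subset_closure rfl)
  -- birational
  have hres : Function.Bijective (f.residueFieldMap (genericPoint X)).hom := by
    refine ⟨(f.residueFieldMap (genericPoint X)).hom.injective, ?_⟩
    have hchar : CharZero (Y.residueField (f (genericPoint X))) := by
      let ψ : k →+* Y.residueField (f (genericPoint X)) :=
        (Spec.preimage (Y.fromSpecResidueField (f (genericPoint X)) ≫ sY)).hom
      exact charZero_of_injective_ringHom ψ.injective
    letI := (f.residueFieldMap (genericPoint X)).hom.toAlgebra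
    haveI : IsPurelyInseparable (Y.residueField (f (genericPoint X))) (X.residueField (genericPoint X)) :=
      hpi (genericPoint X)
    haveI : Algebra.IsAlgebraic (Y.residueField (f (genericPoint X))) (X.residueField (genericPoint X)) :=
      IsPurelyInseparable.isAlgebraic _ _
    haveI : Algebra.IsSeparable (Y.residueField (f (genericPoint X))) (X.residueField (genericPoint X)) :=
      Algebra.IsAlgebraic.isSeparable_of_perfectField
    exact IsPurelyInseparable.surjective_algebraMap_of_isSeparable _ _
  have hbir : IsIso (f.stalkMap (genericPoint X)) := by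
    have hX : IsField (X.presheaf.stalk (genericPoint X)) := Field.toIsField _
    have hYf : IsField (Y.presheaf.stalk (f (genericPoint X))) :=
      (congrArg (fun y => IsField (Y.presheaf.stalk y)) hgen).mpr (Field.toIsField _)
    have hinjres : ∀ {R : Type u} [CommRing R] [IsLocalRing R], IsField R →
        Function.Bijective (IsLocalRing.residue R) := fun {R} _ _ hR => by
      refine ⟨?_, IsLocalRing.residue_surjective⟩
      rw [RingHom.injective_iff_ker_eq_bot, IsLocalRing.ker_residue]
      exact IsLocalRing.isField_iff_maximalIdeal_eq.mp hR
    rw [ConcreteCategory.isIso_iff_bijective]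
    have hsq : ∀ a, (X.residue (genericPoint X)).hom ((f.stalkMap (genericPoint X)).hom a) =
        (f.residueFieldMap (genericPoint X)).hom ((Y.residue (f (genericPoint X))).hom a) := fun a =>
      (congrArg (fun φ : Y.presheaf.stalk (f (genericPoint X)) ⟶ X.residueField (genericPoint X) => φ a)
        (Scheme.residue_residueFieldMap f (genericPoint X))).symm
    have hbX : Function.Bijective (X.residue (genericPoint X)).hom := hinjres hX
    have hbY : Function.Bijective (Y.residue (f (genericPoint X))).hom := hinjres hYf
    have e : Function.Bijective fun a => (X.residue (genericPoint X)).hom ((f.stalkMap (genericPoint X)).hom a) := by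
      rw [funext hsq]
      exact hres.comp hbY
    exact (Function.Bijective.of_comp_iff' hbX _).mp e
  exact (Groth.Agent.S2415.result hY f hgen hbir fun y =>
    (Set.subsingleton_singleton.preimage hinjf).finite).1

end Groth.Agent.S13425
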