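import Groth.Statements.S13426
import Groth.Agent.Lib.GrpSchField.Shear
import Groth.Agent.Lib.SchDense.Basic
import Groth.Agent.Lib.Misc6.LiftClosed
import Mathlib.AlgebraicGeometry.Noetherian
-- import your own Groth.Agent.* helpers here

set_option autoImplicit false
universe u
open CategoryTheory MonoidalCategory CartesianMonoidalCategory MonObj GrpObj AlgebraicGeometry
open GrpSch

namespace Groth.Agent.S13426

/-- Let S be a locally Noetherian scheme over a field of characteristic 0, S₀ ⊆ S a scheme-theoretically
dense open, and G a smooth S-scheme with the weak Néron mapping property for S₀ ⊆ S: for every étale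
S-scheme U, restriction to S₀ is a bijection from S-morphisms U → G onto S₀-morphisms. Let H be a
smooth group scheme over S together with a monomorphism H → G of S-schemes (the case in view: G a
group scheme and H a subgroup scheme), and assume that H is aligned, i.e. the scheme-theoretic image
of its unit section is étale over S, and that H ×_S S₀ → S₀ is separated. Then H → S is separated.
(Case of schemes of a statement about group algebraic spaces; only the injectivity of H → G on
morphisms is used of the subgroup condition.) -/
theorem result {k : Type u} [Field k] [CharZero k] {S : Scheme.{u}} (σ : S ⟶ Spec (CommRingCat.of k)) [IsLocallyNoetherian S] (S₀ : S.Opens) (hS₀ : CInt.IsSchematicallyDense S₀)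
    (G : Over S) [Smooth G.hom]
    (hG : ∀ U : Over S, Etale U.hom → Function.Bijective (fun g : U ⟶ G => (Over.pullback S₀.ι).map g))
    (H : Over S) [GrpObj H] [Smooth H.hom] (j : H ⟶ G) [Mono j.left]
    (hal : Etale (η[H].left.ker.subschemeι ≫ H.hom))
    (h0 : IsSeparated (Limits.pullback.snd H.hom S₀.ι)) :
    IsSeparated H.hom := by
  let η' : S ⟶ H.left := η[H].left
  have hη : η' ≫ H.hom = 𝟙 S := Over.w η[H]
  let E : Over S := Over.mk (η'.imageι ≫ H.hom)
  have : Etale E.hom := hal
  let ι' : E ⟶ H := Over.homMk η'.imageι rfl
  let π : E ⟶ H := toUnit E ≫ η[H]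
  have : IsImmersion (η' ≫ H.hom) := by rw [hη]; infer_instance
  have : IsImmersion η' := IsImmersion.of_comp η' H.hom
  have : IsLocallyNoetherian H.left := LocallyOfFiniteType.isLocallyNoetherian H.hom
  have : QuasiCompact η' := by
    rw [quasiCompact_iff_forall_isAffineOpen]
    intro U hU
    rw [η'.isEmbedding.isInducing.isCompact_iff]
    have : IsNoetherianRing Γ(H.left, U) := IsLocallyNoetherian.component_noetherian ⟨U, hU⟩
    have : TopologicalSpace.NoetherianSpace (U : Set H.left) :=
      (TopologicalSpace.noetherianSpace_iff_of_homeomorph (hU.isoSpec.hom.homeomorph)).mpr inferInstance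
    exact TopologicalSpace.noetherianSpace_set_iff (U : Set H.left) |>.mp this _ (by
      rintro _ ⟨y, hy, rfl⟩; exact hy)
  have : IsSchemeTheoreticallyDominant η'.toImage := GrothLib.Misc6.isSchemeTheoreticallyDominant_toImage η'
  have : QuasiCompact (η'.toImage ≫ η'.imageι) := by rw [η'.toImage_imageι]; infer_instance
  have : QuasiCompact η'.toImage := QuasiCompact.of_comp η'.toImage η'.imageι
  have heq : η'.toImage ≫ ι'.left = η'.toImage ≫ π.left := by
    show η'.toImage ≫ η'.imageι = η'.toImage ≫ (toUnit E).left ≫ η'
    rw [η'.toImage_imageι, ← Category.assoc]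
    have : η'.toImage ≫ (toUnit E).left = 𝟙 S := by
      rw [Over.toUnit_left]
      show η'.toImage ≫ η'.imageι ≫ H.hom = 𝟙 S
      rw [η'.toImage_imageι_assoc, hη]
    rw [this, Category.id_comp]
  have hres : (Over.pullback S₀.ι).map ι' = (Over.pullback S₀.ι).map π := by
    have : IsSchemeTheoreticallyDominant (Limits.pullback.snd η'.toImage (Limits.pullback.fst E.hom S₀.ι)) :=
      inferInstance
    refine Over.OverMorphism.ext ?_
    have : IsSeparated ((Over.pullback S₀.ι).obj H).hom := h0
    refine GrothLib.SchDense.ext_of_schDominant ((Over.pullback S₀.ι).obj H).hom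
      ((Over.w _).trans (Over.w _).symm) (Limits.pullback.snd η'.toImage (Limits.pullback.fst E.hom S₀.ι)) ?_
    refine Limits.pullback.hom_ext ?_ ?_
    · show (_ ≫ Limits.pullback.lift _ _ _) ≫ Limits.pullback.fst H.hom S₀.ι = (_ ≫ Limits.pullback.lift _ _ _) ≫ Limits.pullback.fst H.hom S₀.ι
      rw [Category.assoc, Category.assoc, Limits.pullback.lift_fst, Limits.pullback.lift_fst,
        ← Category.assoc, ← Category.assoc, ← Limits.pullback.condition, Category.assoc, Category.assoc, heq]
    · rw [Category.assoc, Category.assoc]
      exact congrArg (_ ≫ ·) ((Over.w ((Over.pullback S₀.ι).map ι')).trans (Over.w ((Over.pullback S₀.ι).map π)).symm)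
  have hιπ : ι' = π := by
    have : Mono j := Over.mono_of_mono_left j
    rw [← cancel_mono j]
    refine (hG E ‹_›).1 ?_
    show (Over.pullback S₀.ι).map _ = (Over.pullback S₀.ι).map _
    rw [Functor.map_comp, Functor.map_comp, hres]
  have hπι : (η'.imageι ≫ H.hom) ≫ η'.toImage = 𝟙 _ := by
    rw [← cancel_mono η'.imageι, Category.assoc, η'.toImage_imageι, Category.id_comp]
    have := congr($(hιπ).left)
    exact this.symm
  have : IsIso η'.toImage := ⟨η'.imageι ≫ H.hom, by rw [η'.toImage_imageι_assoc, hη], hπι⟩
  have : IsClosedImmersion η[H].left := by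
    show IsClosedImmersion η'
    rw [← η'.toImage_imageι]
    infer_instance
  exact ⟨GrothLib.GrpSchField.diagonal_property (G := H) (P := @IsClosedImmersion) this⟩


end Groth.Agent.S13426
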