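import Groth.Statements.S13427
import Groth.Agent.Lib.GrpSchField.Neron

set_option autoImplicit false
universe u
open CategoryTheory AlgebraicGeometry
open NeronHD

namespace Groth.Agent.S13427

/-- Let S be a locally Noetherian scheme over a field of characteristic 0, S₀ ⊆ S a scheme-theoretically
dense open, and G, H smooth S-schemes with the Néron mapping property for S₀ ⊆ S (restriction to S₀
of S-morphisms from smooth S-schemes is bijective). Let f : G → H be an S-morphism and e : S → H a
section of H → S, and let K = G ×_H S be the fibre of f over e (the case in view: f a homomorphism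
of smooth group schemes, e the unit, K the kernel, so that 1 → K → G → H is left exact). If K → S is
smooth, then K has the Néron mapping property for S₀ ⊆ S. (Case of schemes, with smooth test
schemes, of a statement about group algebraic spaces.) -/
theorem result {k : Type u} [Field k] [CharZero k] {S : Scheme.{u}} (σ : S ⟶ Spec (CommRingCat.of k)) [IsLocallyNoetherian S] (S₀ : S.Opens) (hS₀ : CInt.IsSchematicallyDense S₀)
    (G H : Over S) [Smooth G.hom] [Smooth H.hom]
    (hG : ∀ Z : Over S, Smooth Z.hom → Function.Bijective (fun g : Z ⟶ G => (Over.pullback S₀.ι).map g))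
    (hH : ∀ Z : Over S, Smooth Z.hom → Function.Bijective (fun g : Z ⟶ H => (Over.pullback S₀.ι).map g))
    (f : G ⟶ H) (e : S ⟶ H.left) (he : e ≫ H.hom = 𝟙 S)
    [Smooth (Limits.pullback.snd f.left e)] :
    ∀ Z : Over S, Smooth Z.hom → Function.Bijective (fun g : Z ⟶ Over.mk (Limits.pullback.snd f.left e) => (Over.pullback S₀.ι).map g) := by
  intro Z hZ
  rw [GrothLib.GrpSchField.bijective_pullback_map_iff]
  have EG := (GrothLib.GrpSchField.bijective_pullback_map_iff S₀.ι Z G).mp (hG Z hZ)
  have EH := (GrothLib.GrpSchField.bijective_pullback_map_iff S₀.ι Z H).mp (hH Z hZ)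
  have hsnd : Limits.pullback.fst f.left e ≫ G.hom = Limits.pullback.snd f.left e := by
    rw [← Over.w f, ← Category.assoc, Limits.pullback.condition, Category.assoc, he]
    exact Category.comp_id _
  intro h hh
  simp only [Over.mk_hom] at hh
  obtain ⟨a, ⟨ha, ha'⟩, -⟩ := EG (h ≫ Limits.pullback.fst f.left e)
    (by rw [Category.assoc, hsnd]; exact hh)
  have hfe : a ≫ f.left = Z.hom ≫ e := by
    refine EH.eq_of_comp (by rw [Category.assoc, Over.w f, ha])
      (by rw [Category.assoc, he]; exact Category.comp_id _) ?_
    rw [← Category.assoc, ha', Category.assoc, Limits.pullback.condition, ← Category.assoc, hh,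
      Category.assoc]
  refine ⟨Limits.pullback.lift a Z.hom hfe, ⟨?_, ?_⟩, fun g ⟨hg, hg'⟩ => ?_⟩
  · exact Limits.pullback.lift_snd _ _ _
  · exact Limits.pullback.hom_ext (by rw [Category.assoc, Limits.pullback.lift_fst, ha'])
      (by rw [Category.assoc, Limits.pullback.lift_snd, hh])
  · simp only [Over.mk_hom] at hg
    apply Limits.pullback.hom_ext
    · rw [Limits.pullback.lift_fst]
      exact EG.eq_of_comp (by rw [Category.assoc, hsnd, hg]) ha (by rw [ha', ← hg', Category.assoc])
    · rw [Limits.pullback.lift_snd, hg]

end Groth.Agent.S13427
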