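import Groth.Statements.S13428
import Groth.Agent.Lib.NeronFin13.Basic
import Groth.Agent.Lib.Birat.LqfSep
import Groth.Agent.Lib.EtBasicB.OverField
-- import your own Groth.Agent.* helpers here

set_option autoImplicit false
universe u
open CategoryTheory AlgebraicGeometry
open NeronHD

namespace Groth.Agent.S13428


open GrothLib CategoryTheory.Limits


/-- Let S be a normal Noetherian scheme over a field of characteristic 0 and S₀ ⊆ S a
scheme-theoretically dense open. Let N be a smooth, separated and quasi-compact S-scheme with the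
Néron mapping property for S₀ ⊆ S (restriction to S₀ of S-morphisms from smooth S-schemes is
bijective) such that N|S₀ → S₀ is étale, so that N is a quasi-projective Néron model of the
quasi-projective étale S₀-scheme N|S₀. If M is a separated, quasi-compact, étale S-scheme and φ : M
→ N is an S-morphism restricting to an isomorphism over S₀ (so M is another quasi-projective étale
extension of N|S₀, and φ is its canonical map to the Néron model), then φ is an open immersion.
(Case of schemes of the published statement.) -/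
theorem result {k : Type u} [Field k] [CharZero k] {S : Scheme.{u}} (σ : S ⟶ Spec (CommRingCat.of k)) [IsNoetherian S] (hS : Pi1.IsNormalScheme S) (S₀ : S.Opens) (hS₀ : CInt.IsSchematicallyDense S₀)
    (N : Over S) [Smooth N.hom] [IsSeparated N.hom] [QuasiCompact N.hom]
    (hN : ∀ Z : Over S, Smooth Z.hom → Function.Bijective (fun g : Z ⟶ N => (Over.pullback S₀.ι).map g))
    [Etale ((Over.pullback S₀.ι).obj N).hom]
    (M : Over S) [Etale M.hom] [IsSeparated M.hom] [QuasiCompact M.hom]
    (φ : M ⟶ N) [IsIso ((Over.pullback S₀.ι).map φ)] :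
    IsOpenImmersion φ.left := by
  have hd : Dense (S₀ : Set S) := by
    rw [dense_iff_inter_open]
    intro U hU hne
    by_contra hempty
    obtain ⟨x, hx⟩ := hne
    obtain ⟨V, hV, hxV, hVU⟩ := exists_isAffineOpen_mem_and_subset (show x ∈ (⟨U, hU⟩ : S.Opens) from hx)
    have hbot : V ⊓ S₀ = ⊥ := by
      ext y
      exact ⟨fun h => (hempty ⟨y, hVU h.1, h.2⟩).elim, fun h => h.elim⟩
    haveI : Subsingleton Γ(S, V ⊓ S₀) := by rw [hbot]; infer_instance
    have h01 : (1 : Γ(S, V)) = 0 := hS₀ V (Subsingleton.elim _ _)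
    have h2 : S.basicOpen (1 : Γ(S, V)) = S.basicOpen (0 : Γ(S, V)) := by rw [h01]
    rw [Scheme.basicOpen_zero, Scheme.basicOpen_one] at h2
    exact (h2 ▸ hxV : x ∈ (⊥ : S.Opens)).elim
  have hNn : Pi1.IsNormalScheme N.left := NeronFin13.isNormal_smooth hS N.hom
  have hMn : Pi1.IsNormalScheme M.left := NeronFin13.isNormal_smooth hS M.hom
  haveI : IsLocallyNoetherian N.left := LocallyOfFiniteType.isLocallyNoetherian N.hom
  haveI := NeronFin13.isReduced_normal hNn
  haveI := NeronFin13.isReduced_normal hMn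
  haveI : LocallyOfFiniteType (φ.left ≫ N.hom) := by rw [Over.w φ]; infer_instance
  haveI : LocallyOfFiniteType φ.left := locallyOfFiniteType_of_comp φ.left N.hom
  haveI : LocallyQuasiFinite (φ.left ≫ N.hom) := by
    rw [Over.w φ]; exact EtBasicB.locallyQuasiFinite_of_unramified _
  haveI : LocallyQuasiFinite φ.left := LocallyQuasiFinite.of_comp φ.left N.hom
  haveI : IsSeparated (φ.left ≫ N.hom) := by rw [Over.w φ]; infer_instance
  haveI : IsSeparated φ.left := IsSeparated.of_comp φ.left N.hom
  let iM := pullback.fst M.hom S₀.ι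
  have hm : iM ≫ φ.left = ((Over.pullback S₀.ι).map φ).left ≫ pullback.fst N.hom S₀.ι :=
    (pullback.lift_fst _ _ _).symm
  haveI : IsIso ((Over.pullback S₀.ι).map φ).left :=
    inferInstanceAs (IsIso ((Over.forget _).map ((Over.pullback S₀.ι).map φ)))
  haveI : IsOpenImmersion (iM ≫ φ.left) := by rw [hm]; infer_instance
  let J := {C : Set N.left // C ∈ irreducibleComponents N.left}
  let O : J → N.left.Opens := fun C => ⟨C.1, NeronFin13.isOpen_component hNn C.1 C.2⟩
  rw [IsZariskiLocalAtTarget.iff_of_iSup_eq_top (P := @IsOpenImmersion) O (top_le_iff.mp fun x _ =>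
    TopologicalSpace.Opens.mem_iSup.mpr
      ⟨⟨_, irreducibleComponent_mem_irreducibleComponents x⟩, mem_irreducibleComponent⟩)]
  intro C
  let X' := φ.left ⁻¹ᵁ O C
  by_cases hne : (X' : Set M.left).Nonempty
  swap
  · haveI : IsEmpty ↥(X' : Scheme.{u}) := ⟨fun x => hne ⟨x.1, x.2⟩⟩
    infer_instance
  haveI : IrreducibleSpace ↥(O C : Scheme.{u}) := Subtype.irreducibleSpace C.2.1
  haveI : IsIntegral (O C : Scheme.{u}) := isIntegral_of_irreducibleSpace_of_isReduced _
  -- the part over the open set
  have hiM : DenseRange iM := by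
    show Dense (Set.range iM)
    rw [Scheme.Pullback.range_fst, Scheme.Opens.range_ι]
    exact hd.preimage M.hom.isOpenMap
  let W : (X' : Scheme.{u}).Opens := X'.ι ⁻¹ᵁ iM.opensRange
  obtain ⟨z, hz⟩ := hiM.exists_mem_open X'.2 hne
  have hWne : (W : Set (X' : Scheme.{u})).Nonempty := ⟨⟨iM z, hz⟩, ⟨z, rfl⟩⟩
  have hWoi : IsOpenImmersion (W.ι ≫ (φ.left ∣_ O C)) := by
    have hr : Set.range (W.ι ≫ X'.ι) ⊆ Set.range iM := by
      rintro _ ⟨w, rfl⟩
      exact w.2
    let l := IsOpenImmersion.lift iM _ hr
    have hl : l ≫ iM = W.ι ≫ X'.ι := IsOpenImmersion.lift_fac _ _ _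
    haveI : IsOpenImmersion (l ≫ iM) := by rw [hl]; infer_instance
    haveI : IsOpenImmersion l := IsOpenImmersion.of_comp l iM
    haveI : IsOpenImmersion ((W.ι ≫ (φ.left ∣_ O C)) ≫ (O C).ι) := by
      rw [Category.assoc, morphismRestrict_ι, ← Category.assoc, ← hl, Category.assoc]
      infer_instance
    exact IsOpenImmersion.of_comp _ (O C).ι
  haveI : IrreducibleSpace ↥(X' : Scheme.{u}) := by
    have hirr : IsPreirreducible (W : Set (X' : Scheme.{u})) := by
      have h1 := (PreirreducibleSpace.isPreirreducible_univ (X := ↥(O C : Scheme.{u}))).preimage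
        hWoi.base_open
      have h2 := h1.image W.ι W.ι.continuous.continuousOn
      rw [Set.preimage_univ, Set.image_univ, Scheme.Opens.range_ι] at h2
      exact h2
    have hdense : Dense (W : Set (X' : Scheme.{u})) :=
      hiM.preimage X'.ι.isOpenEmbedding.isOpenMap
    haveI : PreirreducibleSpace ↥(X' : Scheme.{u}) := ⟨by
      have h := hirr.closure; rwa [hdense.closure_eq] at h⟩
    exact { toNonempty := ⟨⟨iM z, hz⟩⟩ }
  haveI : IsIntegral (X' : Scheme.{u}) := isIntegral_of_irreducibleSpace_of_isReduced _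
  obtain ⟨he, hb⟩ := Birat.birational_of_openImmersion (φ.left ∣_ O C) ⟨W, hWne, hWoi⟩
  haveI : IsSeparated (φ.left ∣_ O C) := IsZariskiLocalAtTarget.restrict ‹IsSeparated φ.left› _
  haveI : LocallyOfFiniteType ((φ.left ∣_ O C) ≫ (O C).ι) := by rw [morphismRestrict_ι]; infer_instance
  haveI : LocallyQuasiFinite ((φ.left ∣_ O C) ≫ (O C).ι) := by rw [morphismRestrict_ι]; infer_instance
  haveI : LocallyOfFiniteType (φ.left ∣_ O C) := locallyOfFiniteType_of_comp _ (O C).ι
  haveI : LocallyQuasiFinite (φ.left ∣_ O C) := LocallyQuasiFinite.of_comp _ (O C).ι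
  refine Birat.isOpenImmersion_of_lqf_birational _ he hb fun y => ?_
  haveI := (hNn ((O C).ι y)).2
  exact IsIntegrallyClosed.of_equiv (asIso ((O C).ι.stalkMap y)).commRingCatIsoToRingEquiv


end Groth.Agent.S13428
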