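import Groth.Statements.S13432
import Groth.Agent.Lib.NeronFin13.Basic
-- import your own Groth.Agent.* helpers here

set_option autoImplicit false
universe u
open CategoryTheory AlgebraicGeometry
open NeronHD

namespace Groth.Agent.S13432


open GrothLib CategoryTheory.Limits


/-- Let S be a normal Noetherian scheme over a field of characteristic 0 and S₀ ⊆ S a
scheme-theoretically dense open. Let π : T → S be finite with T normal, and let N ⊆ T be the open
subscheme where π is smooth (equivalently étale, π being finite). Then N → S has the Néron mapping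
property for S₀ ⊆ S: for every smooth S-scheme Z, restriction to S₀ is a bijection from S-morphisms
Z → N onto S₀-morphisms Z|S₀ → N|S₀. (In the published statement T is the normal finite S-scheme
compactifying a given quasi-projective étale S-scheme and N is the maximal quasi-projective étale
scheme containing it; that origin of T plays no role in this part of the proof, so any finite T → S
with T normal is allowed here. Case of schemes, with smooth test schemes, of a statement about
algebraic spaces.) -/
theorem result {k : Type u} [Field k] [CharZero k] {S : Scheme.{u}} (σ : S ⟶ Spec (CommRingCat.of k)) [IsNoetherian S] (hS : Pi1.IsNormalScheme S) (S₀ : S.Opens) (hS₀ : CInt.IsSchematicallyDense S₀)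
    {T : Scheme.{u}} (π : T ⟶ S) [IsFinite π] [LocallyOfFinitePresentation π] (hT : Pi1.IsNormalScheme T) :
    ∀ Z : Over S, Smooth Z.hom → Function.Bijective (fun g : Z ⟶ Over.mk (π.smoothLocus.ι ≫ π) => (Over.pullback S₀.ι).map g) := by
  intro Z hZs
  haveI := hZs
  have hZn : Pi1.IsNormalScheme Z.left := NeronFin13.isNormal_smooth hS Z.hom
  haveI : IsLocallyNoetherian Z.left := LocallyOfFiniteType.isLocallyNoetherian Z.hom
  haveI := NeronFin13.isReduced_normal hZn
  let N : Over S := Over.mk (π.smoothLocus.ι ≫ π)
  let i := pullback.fst Z.hom S₀.ι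
  have hd : Dense (S₀ : Set S) := by
    rw [dense_iff_inter_open]
    intro U hU hne
    by_contra hempty
    obtain ⟨x, hx⟩ := hne
    obtain ⟨V, hV, hxV, hVU⟩ := exists_isAffineOpen_mem_and_subset (show x ∈ (⟨U, hU⟩ : S.Opens) from hx)
    have hbot : V ⊓ S₀ = ⊥ := by
      ext y
      exact ⟨fun h => (hempty ⟨y, hVU h.1, h.2⟩).elim, fun h => h.elim⟩
    haveI : Subsingleton Γ(S, V ⊓ S₀) := by rw [hbot]; infer_instance
    have h01 : (1 : Γ(S, V)) = 0 := hS₀ V (Subsingleton.elim _ _)
    have h2 : S.basicOpen (1 : Γ(S, V)) = S.basicOpen (0 : Γ(S, V)) := by rw [h01]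
    rw [Scheme.basicOpen_zero, Scheme.basicOpen_one] at h2
    exact (h2 ▸ hxV : x ∈ (⊥ : S.Opens)).elim
  have hi : DenseRange i := by
    show Dense (Set.range i)
    rw [Scheme.Pullback.range_fst, Scheme.Opens.range_ι]
    exact hd.preimage Z.hom.isOpenMap
  haveI : IsDominant i := ⟨hi⟩
  haveI : IsSeparated N.hom := inferInstanceAs (IsSeparated (π.smoothLocus.ι ≫ π))
  have hmap : ∀ g : Z ⟶ N, ((Over.pullback S₀.ι).map g).left ≫ pullback.fst N.hom S₀.ι = i ≫ g.left := fun g => pullback.lift_fst _ _ _
  refine ⟨fun g g' h => ?_, fun φ => ?_⟩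
  · refine Over.OverMorphism.ext (ext_of_isDominant_of_isSeparated N.hom ((Over.w g).trans (Over.w g').symm) i ?_)
    have h1 : (Over.pullback S₀.ι).map g = (Over.pullback S₀.ι).map g' := h
    rw [← hmap g, ← hmap g', h1]
  · have hφ : φ.left ≫ pullback.snd N.hom S₀.ι = pullback.snd Z.hom S₀.ι := Over.w φ
    let h₀ := φ.left ≫ pullback.fst N.hom S₀.ι ≫ π.smoothLocus.ι
    have hh₀ : h₀ ≫ π = i ≫ Z.hom := by
      show (φ.left ≫ pullback.fst N.hom S₀.ι ≫ π.smoothLocus.ι) ≫ π = _
      simp only [Category.assoc]
      refine ((congrArg (φ.left ≫ ·) (pullback.condition (f := N.hom) (g := S₀.ι))).trans ?_)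
      exact ((Category.assoc _ _ _).symm.trans (congrArg (· ≫ S₀.ι) hφ)).trans pullback.condition.symm
    obtain ⟨σ, hσ, hσi⟩ := NeronFin13.exists_section hZn (pullback.snd π Z.hom) i hi
      (pullback.lift h₀ i hh₀) (pullback.lift_snd _ _ _)
    haveI : Smooth (pullback.fst π Z.hom) := inferInstance
    haveI : IsLocallyNoetherian T := LocallyOfFiniteType.isLocallyNoetherian π
    haveI : IsLocallyNoetherian (pullback π Z.hom) :=
      LocallyOfFiniteType.isLocallyNoetherian (pullback.fst π Z.hom)
    haveI : IsOpenImmersion σ := NeronFin13.isOpenImmersion_section hZn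
      (NeronFin13.isNormal_smooth hT (pullback.fst π Z.hom)) (pullback.snd π Z.hom) σ hσ
    let h := σ ≫ pullback.fst π Z.hom
    have hh : h ≫ π = Z.hom := by
      simp only [h, Category.assoc, pullback.condition, reassoc_of% hσ]
    haveI : Smooth h := inferInstance
    haveI : Smooth (h ≫ π) := by rw [hh]; infer_instance
    have hr : Set.range h ⊆ Set.range π.smoothLocus.ι := by
      rw [Scheme.Opens.range_ι]
      exact NeronFin13.range_subset_smoothLocus π h
    let l := IsOpenImmersion.lift π.smoothLocus.ι h hr
    have hl : l ≫ π.smoothLocus.ι = h := IsOpenImmersion.lift_fac _ _ _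
    let g : Z ⟶ N := Over.homMk l (by
      show l ≫ π.smoothLocus.ι ≫ π = Z.hom
      rw [reassoc_of% hl, hh])
    refine ⟨g, Over.OverMorphism.ext (pullback.hom_ext ?_ ?_)⟩
    · refine (hmap g).trans ((cancel_mono π.smoothLocus.ι).1 ?_)
      show (i ≫ l) ≫ π.smoothLocus.ι = _
      rw [Category.assoc, hl]
      show i ≫ σ ≫ pullback.fst π Z.hom = _
      rw [reassoc_of% hσi, pullback.lift_fst]
      exact (Category.assoc _ _ _).symm
    · exact (Over.w ((Over.pullback S₀.ι).map g)).trans hφ.symm


end Groth.Agent.S13432
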