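import Groth.Statements.S4997
import Groth.Agent.Lib.LocProp.QuasiFinite
import Mathlib.RingTheory.Unramified.LocalStructure
-- import your own Groth.Agent.* helpers here

set_option autoImplicit false
universe u
open CategoryTheory CategoryTheory.Limits AlgebraicGeometry TopologicalSpace
open Unram17

namespace Groth.Agent.S4997

/-- A morphism of schemes is etale if and only if it is smooth and locally quasi-finite. -/
theorem result {X Y : Scheme.{u}} (f : X ⟶ Y) :
    Etale f ↔ Smooth f ∧ LocallyQuasiFinite f := by
  refine ⟨fun _ => ⟨inferInstance, ?_⟩, fun ⟨_, hq⟩ => ⟨fun {U} hU {V} hV e => ?_⟩⟩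
  · rw [HasRingHomProperty.iff_appLE (P := @LocallyQuasiFinite)]
    intro U V e
    have h1 := HasRingHomProperty.appLE @LocallyOfFiniteType f inferInstance U V e
    have h2 := HasRingHomProperty.appLE @FormallyUnramified f inferInstance U V e
    algebraize [(f.appLE U V e).hom]
    exact RingHom.quasiFinite_algebraMap.2 inferInstance
  have hs := f.smooth_appLE hU hV e
  have hq' := LocallyQuasiFinite.quasiFinite_appLE (f := f) hU hV e
  let := (f.appLE U V e).hom.toAlgebra
  have : Algebra.Smooth Γ(Y, U) Γ(X, V) := hs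
  have : Algebra.QuasiFinite Γ(Y, U) Γ(X, V) := hq'
  refine Algebra.etaleLocus_eq_univ_iff_etale.mp (Set.eq_univ_iff_forall.mpr fun q => ?_)
  have : Algebra.IsSmoothAt Γ(Y, U) q.asIdeal := by
    have := (Algebra.smoothLocus_eq_univ (R := Γ(Y, U)) (A := Γ(X, V))).ge (Set.mem_univ q)
    exact this
  exact GrothLib.LocProp.isEtaleAt_of_isSmoothAt_of_quasiFiniteAt q.asIdeal
end Groth.Agent.S4997
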