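import Groth.Statements.S13429
import Groth.Agent.Lib.NeronModel13.Model
import Groth.Agent.S13432
import Groth.Agent.S4997
-- import your own Groth.Agent.* helpers here

set_option autoImplicit false
universe u
open CategoryTheory AlgebraicGeometry
open NeronHD

namespace Groth.Agent.S13429

open GrothLib CategoryTheory.Limits


/-- Let S be a normal Noetherian scheme over a field of characteristic 0, S₀ ⊆ S a scheme-theoretically
dense open, and N₀ → S₀ separated, quasi-compact and étale (a quasi-projective étale S₀-scheme).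
Then N₀ has a quasi-projective Néron model: there exist a separated, quasi-compact, étale S-scheme N
and an isomorphism of S₀-schemes N|S₀ ≅ N₀ such that N has the Néron mapping property for S₀ ⊆ S,
i.e. for every smooth S-scheme Z restriction to S₀ is a bijection from S-morphisms Z → N onto
S₀-morphisms Z|S₀ → N|S₀ (this determines N up to unique isomorphism). (Case of schemes, with smooth
test schemes, of the published statement.) -/
theorem result {k : Type u} [Field k] [CharZero k] {S : Scheme.{u}} (σ : S ⟶ Spec (CommRingCat.of k)) [IsNoetherian S] (hS : Pi1.IsNormalScheme S) (S₀ : S.Opens) (hS₀ : CInt.IsSchematicallyDense S₀)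
    (N₀ : Over (S₀ : Scheme.{u})) [Etale N₀.hom] [IsSeparated N₀.hom] [QuasiCompact N₀.hom] :
    ∃ (N : Over S) (e : (Over.pullback S₀.ι).obj N ≅ N₀), Etale N.hom ∧ IsSeparated N.hom ∧ QuasiCompact N.hom ∧
      ∀ Z : Over S, Smooth Z.hom → Function.Bijective (fun g : Z ⟶ N => (Over.pullback S₀.ι).map g) := by
  haveI : LocallyQuasiFinite N₀.hom := ((Groth.Agent.S4997.result _).1 inferInstance).2
  haveI : QuasiCompact S₀.ι := inferInstance
  let f := N₀.hom ≫ S₀.ι
  haveI : Etale f := inferInstanceAs (Etale (N₀.hom ≫ S₀.ι))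
  haveI : IsSeparated f := inferInstanceAs (IsSeparated (N₀.hom ≫ S₀.ι))
  haveI : QuasiCompact f := inferInstanceAs (QuasiCompact (N₀.hom ≫ S₀.ι))
  obtain ⟨T, π, j, hπ, hj, hjf, hT⟩ := NeronModel13.exists_finite_normal_model hS f
  haveI := hπ
  haveI := hj
  haveI : IsLocallyNoetherian T := LocallyOfFiniteType.isLocallyNoetherian π
  haveI : LocallyOfFinitePresentation π := inferInstance
  haveI : CompactSpace T := QuasiCompact.compactSpace_of_compactSpace π
  haveI : IsNoetherian T := ⟨⟩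
  let D : Set T := (π ⁻¹' (S₀ : Set S)) \ Set.range j
  let V : T.Opens := ⟨(closure D)ᶜ, isClosed_closure.isOpen_compl⟩
  let Nop : T.Opens := π.smoothLocus ⊓ V
  let N : Over S := Over.mk (Nop.ι ≫ π)
  let N' : Over S := Over.mk (π.smoothLocus.ι ≫ π)
  let ιN : N ⟶ N' := Over.homMk (T.homOfLE inf_le_left)
    (by show T.homOfLE (inf_le_left (b := V) : Nop ≤ π.smoothLocus) ≫ π.smoothLocus.ι ≫ π = Nop.ι ≫ π; rw [Scheme.homOfLE_ι_assoc])
  haveI : IsOpenImmersion ιN.left := inferInstanceAs (IsOpenImmersion (T.homOfLE (inf_le_left (b := V) : Nop ≤ π.smoothLocus)))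
  haveI : Mono ιN := (Over.forget S).mono_of_mono_map (inferInstanceAs (Mono ιN.left))
  have hsm : ∀ (W : T.Opens), W ≤ π.smoothLocus → Etale (W.ι ≫ π) := fun W hW =>
    (Groth.Agent.S4997.result _).2 ⟨Scheme.Hom.smoothLocus_eq_top_iff.1 (top_le_iff.1 fun x _ => by
      rw [← Scheme.Hom.preimage_smoothLocus_eq]; exact hW x.2), inferInstance⟩
  have hN'et : Etale N'.hom := hsm _ le_rfl
  have hNet : Etale N.hom := hsm _ inf_le_left
  have hfg : Set.range j ⊆ π.smoothLocus := by
    haveI : Smooth (j ≫ π) := by rw [hjf]; infer_instance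
    exact NeronFin13.range_subset_smoothLocus π j
  have hjD : ∀ x ∈ Set.range j, x ∉ closure D := by
    intro x hx hxc
    obtain ⟨y, hy, hyD⟩ := mem_closure_iff.1 hxc _ j.isOpenEmbedding.isOpen_range hx
    exact hyD.2 hy
  let jN : N₀.left ⟶ N.left := IsOpenImmersion.lift Nop.ι j (by
    rw [Scheme.Opens.range_ι]
    exact fun x hx => ⟨hfg hx, hjD x hx⟩)
  have hjN : jN ≫ Nop.ι = j := IsOpenImmersion.lift_fac _ _ _
  haveI : IsOpenImmersion (jN ≫ Nop.ι) := by rw [hjN]; infer_instance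
  haveI : IsOpenImmersion jN := IsOpenImmersion.of_comp jN Nop.ι
  have hkey : ∀ x : N.left, N.hom x ∈ S₀ → x ∈ Set.range jN := by
    intro x hx
    have hx' : π (Nop.ι x) ∈ S₀ := by rw [← Scheme.Hom.comp_apply]; exact hx
    have : Nop.ι x ∈ Set.range j := by
      by_contra h
      exact x.2.2 (subset_closure ⟨hx', h⟩)
    obtain ⟨y, hy⟩ := this
    refine ⟨y, Nop.ι.isOpenEmbedding.injective ?_⟩
    rw [← Scheme.Hom.comp_apply, hjN, hy]
  have hrange : Set.range (pullback.fst N.hom S₀.ι) = Set.range jN := by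
    rw [Scheme.Pullback.range_fst, Scheme.Opens.range_ι]
    refine Set.Subset.antisymm hkey ?_
    rintro _ ⟨y, rfl⟩
    show N.hom (jN y) ∈ S₀
    rw [← Scheme.Hom.comp_apply, show jN ≫ N.hom = N₀.hom ≫ S₀.ι by
      show jN ≫ Nop.ι ≫ π = _; rw [reassoc_of% hjN]; exact hjf, Scheme.Hom.comp_apply]
    exact (N₀.hom y).2
  let e0 := IsOpenImmersion.isoOfRangeEq (pullback.fst N.hom S₀.ι) jN hrange
  let e : (Over.pullback S₀.ι).obj N ≅ N₀ := Over.isoMk e0 (by
    show e0.hom ≫ N₀.hom = pullback.snd N.hom S₀.ι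
    rw [← cancel_mono S₀.ι, Category.assoc, ← pullback.condition,
      show N₀.hom ≫ S₀.ι = jN ≫ N.hom by
        show _ = jN ≫ Nop.ι ≫ π; rw [reassoc_of% hjN]; exact hjf.symm,
      ← Category.assoc, IsOpenImmersion.isoOfRangeEq_hom_fac])
  refine ⟨N, e, hNet, inferInstanceAs (IsSeparated (Nop.ι ≫ π)),
    inferInstanceAs (QuasiCompact (Nop.ι ≫ π)), fun Z hZ => ?_⟩
  haveI := hZ
  have hN' : Function.Bijective (fun g : Z ⟶ N' => (Over.pullback S₀.ι).map g) :=
    Groth.Agent.S13432.result σ hS S₀ hS₀ π hT Z hZ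
  constructor
  · intro g₁ g₂ h
    rw [← cancel_mono ιN]
    apply hN'.1
    show (Over.pullback S₀.ι).map (g₁ ≫ ιN) = (Over.pullback S₀.ι).map (g₂ ≫ ιN)
    rw [Functor.map_comp, Functor.map_comp, show (Over.pullback S₀.ι).map g₁ = _ from h]
  · intro φ₀
    obtain ⟨g', hg'⟩ := hN'.2 (φ₀ ≫ (Over.pullback S₀.ι).map ιN)
    change (Over.pullback S₀.ι).map g' = _ at hg'
    -- the map to the smooth locus is open
    haveI := hN'et
    let gr : Z.left ⟶ pullback Z.hom N'.hom :=
      pullback.lift (𝟙 _) g'.left (by rw [Category.id_comp]; exact (Over.w g').symm)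
    haveI : Etale (gr ≫ pullback.fst Z.hom N'.hom) := by rw [pullback.lift_fst]; infer_instance
    haveI : Etale gr := Etale.of_comp gr (pullback.fst Z.hom N'.hom)
    haveI : Smooth g'.left := by
      rw [show g'.left = gr ≫ pullback.snd Z.hom N'.hom from (pullback.lift_snd _ _ _).symm]
      infer_instance
    let h := g'.left ≫ π.smoothLocus.ι
    haveI : Smooth h := inferInstanceAs (Smooth (g'.left ≫ π.smoothLocus.ι))
    have hmap : pullback.fst Z.hom S₀.ι ≫ h = (φ₀.left ≫ pullback.fst N.hom S₀.ι) ≫ Nop.ι := by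
      have hL : ((Over.pullback S₀.ι).map g').left ≫ pullback.fst N'.hom S₀.ι =
          pullback.fst Z.hom S₀.ι ≫ g'.left := pullback.lift_fst _ _ _
      have hR : ((Over.pullback S₀.ι).map ιN).left ≫ pullback.fst N'.hom S₀.ι =
          pullback.fst N.hom S₀.ι ≫ ιN.left := pullback.lift_fst _ _ _
      have h1 : pullback.fst Z.hom S₀.ι ≫ g'.left = φ₀.left ≫ pullback.fst N.hom S₀.ι ≫ ιN.left := by
        rw [← hL, ← hR, hg']
        exact Category.assoc _ _ _
      show pullback.fst Z.hom S₀.ι ≫ g'.left ≫ π.smoothLocus.ι = _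
      refine ((Category.assoc _ _ _).symm.trans (congrArg (· ≫ π.smoothLocus.ι) h1)).trans ?_
      simp only [Category.assoc]
      show φ₀.left ≫ pullback.fst N.hom S₀.ι ≫ T.homOfLE (inf_le_left (b := V) : Nop ≤ π.smoothLocus) ≫ π.smoothLocus.ι = _
      rw [Scheme.homOfLE_ι]
    have hrh : Set.range h ⊆ Set.range Nop.ι := by
      rw [Scheme.Opens.range_ι]
      rintro _ ⟨z, rfl⟩
      refine ⟨(g'.left z).2, fun hc => ?_⟩
      obtain ⟨_, ⟨z', rfl⟩, hz'D⟩ := mem_closure_iff.1 hc _ h.isOpenMap.isOpen_range ⟨z, rfl⟩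
      have hz'S : Z.hom z' ∈ S₀ := by
        have h2 : π (h z') ∈ S₀ := hz'D.1
        rwa [← Scheme.Hom.comp_apply, show h ≫ π = Z.hom from
          (Category.assoc _ _ _).trans (Over.w g')] at h2
      obtain ⟨w, rfl⟩ : z' ∈ Set.range (pullback.fst Z.hom S₀.ι) := by
        rw [Scheme.Pullback.range_fst, Scheme.Opens.range_ι]; exact hz'S
      apply hz'D.2
      rw [← Scheme.Hom.comp_apply, hmap, Scheme.Hom.comp_apply]
      obtain ⟨y, hy⟩ : (φ₀.left ≫ pullback.fst N.hom S₀.ι) w ∈ Set.range jN := by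
        rw [← hrange]; exact ⟨φ₀.left w, rfl⟩
      exact ⟨y, by rw [← hy, ← Scheme.Hom.comp_apply, hjN]⟩
    let l := IsOpenImmersion.lift Nop.ι h hrh
    have hl : l ≫ Nop.ι = h := IsOpenImmersion.lift_fac _ _ _
    let g : Z ⟶ N := Over.homMk l (by
      show l ≫ Nop.ι ≫ π = Z.hom
      rw [reassoc_of% hl]
      exact (Category.assoc _ _ _).trans (Over.w g'))
    have hgg' : g ≫ ιN = g' := Over.OverMorphism.ext ((cancel_mono π.smoothLocus.ι).1 (by
      show (l ≫ T.homOfLE (inf_le_left (b := V) : Nop ≤ π.smoothLocus)) ≫ π.smoothLocus.ι = h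
      rw [Category.assoc, Scheme.homOfLE_ι, hl]))
    refine ⟨g, ?_⟩
    show (Over.pullback S₀.ι).map g = φ₀
    refine Over.OverMorphism.ext (pullback.hom_ext ((cancel_mono Nop.ι).1 ?_) ?_)
    · rw [← hmap]
      have h3 : ((Over.pullback S₀.ι).map g).left ≫ pullback.fst N.hom S₀.ι =
          pullback.fst Z.hom S₀.ι ≫ l := pullback.lift_fst _ _ _
      rw [h3, Category.assoc, hl]
    · exact (Over.w ((Over.pullback S₀.ι).map g)).trans (Over.w φ₀).symm

end Groth.Agent.S13429
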