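import Groth.Statements.S13430
import Mathlib.CategoryTheory.Monoidal.Cartesian.Over
import Mathlib.AlgebraicGeometry.Morphisms.Smooth
-- import your own Groth.Agent.* helpers here

set_option autoImplicit false
universe u
open CategoryTheory MonoidalCategory CartesianMonoidalCategory MonObj GrpObj AlgebraicGeometry
open NeronHD

namespace Groth.Agent.S13430

/-- The implication ⇐: let S be a locally Noetherian scheme over a field of characteristic 0 and S₀ ⊆ S
a scheme-theoretically dense open. Let G be a smooth group scheme over S and N a smooth S-scheme,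
both with the Néron mapping property for S₀ ⊆ S (restriction to S₀ of S-morphisms from smooth
S-schemes is bijective), and let a be an action of G on N over S whose translation map G ×_S N → N
×_S N, (g, x) ↦ (g·x, x), restricts to an isomorphism over S₀, so that N|S₀ is a pseudo-torsor under
G|S₀ and a is the unique extension of that action. If N → S is surjective, then the translation map
is an isomorphism: N is a pseudo-torsor under G over all of S (and then a torsor for the étale
topology, N → S being smooth and surjective). (Case of schemes of a statement about group algebraic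
spaces; the converse 'torsor ⇒ surjective' presumes local triviality.) -/
theorem result {k : Type u} [Field k] [CharZero k] {S : Scheme.{u}} (σ : S ⟶ Spec (CommRingCat.of k)) [IsLocallyNoetherian S] (S₀ : S.Opens) (hS₀ : CInt.IsSchematicallyDense S₀)
    (G : Over S) [GrpObj G] [Smooth G.hom]
    (hG : ∀ Z : Over S, Smooth Z.hom → Function.Bijective (fun g : Z ⟶ G => (Over.pullback S₀.ι).map g))
    (N : Over S) [Smooth N.hom] [Surjective N.hom]
    (hN : ∀ Z : Over S, Smooth Z.hom → Function.Bijective (fun g : Z ⟶ N => (Over.pullback S₀.ι).map g))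
    (a : AlgGrp.Action G N)
    (h0 : IsIso ((Over.pullback S₀.ι).map (lift a.act (snd G N)))) :
    NonAbH1.IsPseudoTorsorSch a := by
  let F := Over.pullback S₀.ι
  let τ := lift a.act (snd G N)
  have : IsIso (F.map τ) := h0
  have hsm : ∀ A B : Over S, Smooth A.hom → Smooth B.hom → Smooth (A ⊗ B).hom := fun A B hA hB => by
    show Smooth (Limits.pullback.fst A.hom B.hom ≫ A.hom)
    have : Smooth A.hom := hA
    have : Smooth B.hom := hB
    infer_instance
  have s₁ : Smooth (N ⊗ N).hom := hsm N N ‹_› ‹_›
  have s₂ : Smooth (G ⊗ N).hom := hsm G N ‹_› ‹_›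
  obtain ⟨g₀, hg₀⟩ := (hG (N ⊗ N) s₁).2 (inv (F.map τ) ≫ F.map (fst G N))
  replace hg₀ : F.map g₀ = inv (F.map τ) ≫ F.map (fst G N) := hg₀
  let r : N ⊗ N ⟶ G ⊗ N := lift g₀ (snd N N)
  have hext : ∀ {T : Over S} {W : Over (S₀ : Scheme.{u})} (φ ψ : W ⟶ F.obj (G ⊗ T)),
      φ ≫ F.map (fst G T) = ψ ≫ F.map (fst G T) → φ ≫ F.map (snd G T) = ψ ≫ F.map (snd G T) → φ = ψ := by
    intro T W φ ψ h1 h2
    have : IsIso (CartesianMonoidalCategory.prodComparison F G T) := inferInstance
    rw [← cancel_mono (CartesianMonoidalCategory.prodComparison F G T)]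
    ext1
    · rwa [Category.assoc, Category.assoc, CartesianMonoidalCategory.prodComparison_fst]
    · rwa [Category.assoc, Category.assoc, CartesianMonoidalCategory.prodComparison_snd]
  have hr : F.map r = inv (F.map τ) := by
    refine hext _ _ ?_ ?_
    · rw [← F.map_comp, lift_fst, hg₀]
    · rw [← F.map_comp, lift_snd, IsIso.eq_inv_comp, ← F.map_comp, lift_snd]
  refine ⟨r, ?_, ?_⟩
  · refine CartesianMonoidalCategory.hom_ext _ _ ?_ ?_
    · refine (hG (G ⊗ N) s₂).1 ?_
      show F.map _ = F.map _
      rw [Category.id_comp, F.map_comp, F.map_comp, hr, IsIso.hom_inv_id, Category.id_comp]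
    · rw [Category.id_comp, Category.assoc, lift_snd, lift_snd]
  · refine CartesianMonoidalCategory.hom_ext _ _ ?_ ?_
    · refine (hN (N ⊗ N) s₁).1 ?_
      show F.map _ = F.map _
      rw [Category.id_comp, F.map_comp, F.map_comp, hr, IsIso.inv_hom_id, Category.id_comp]
    · rw [Category.id_comp, Category.assoc, lift_snd, lift_snd]


end Groth.Agent.S13430
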