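import Groth.Statements.S13434
import Groth.Agent.Lib.HilbPn.Decomp
-- import your own Groth.Agent.* helpers here

set_option autoImplicit false
universe u
open W4c1hilbpn

namespace Groth.Agent.S13434

open W4c1hilbpn in
/-- Let k be an infinite field, n ≥ 2, S the polynomial ring over k in n variables, I a monomial ideal
of S of finite colength and T(I) = Hom_S(I, S/I) with its grading by integer vectors. The graded
piece of T(I) in every multidegree all of whose entries are nonnegative, or all of whose entries are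
negative, vanishes, and T(I) is spanned by its pieces of non-constant sign pattern (the spans, over
the sets N of variable indices that are neither empty nor all indices, of the graded pieces whose
multidegree is negative exactly at N). -/
theorem result (k : Type u) [Field k] [Infinite k]
    (n : ℕ) (hn : 2 ≤ n) (I : Ideal (MvPolynomial (Fin n) k)) (hI : IsMonomial I)
    [Module.Finite k (MvPolynomial (Fin n) k ⧸ I)] :
    (∀ α : Fin n → ℤ, ((∀ i, 0 ≤ α i) ∨ (∀ i, α i < 0)) → tPiece I α = ⊥) ∧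
      (⨆ N : {N : Set (Fin n) // N.Nonempty ∧ N ≠ Set.univ}, sigPiece I N.1) = ⊤ := by
  have h01 : (⟨0, by omega⟩ : Fin n) ≠ ⟨1, by omega⟩ := fun h => by simpa using congrArg Fin.val h
  have h1 : ∀ α : Fin n → ℤ, ((∀ i, 0 ≤ α i) ∨ (∀ i, α i < 0)) → tPiece I α = ⊥ := fun α h =>
    h.elim (GrothLib.HilbPn.tPiece_eq_bot_of_nonneg hI) (fun h' => GrothLib.HilbPn.tPiece_eq_bot_of_neg hI h' h01)
  refine ⟨h1, eq_top_iff.2 ?_⟩
  rw [← GrothLib.HilbPn.iSup_tPiece_eq_top hI]
  refine iSup_le fun α => ?_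
  by_cases hα : (∀ i, 0 ≤ α i) ∨ (∀ i, α i < 0)
  · rw [h1 α hα]; exact bot_le
  · push Not at hα
    obtain ⟨⟨i, hi⟩, ⟨j, hj⟩⟩ := hα
    have hN : {i | α i < 0}.Nonempty ∧ {i | α i < 0} ≠ Set.univ :=
      ⟨⟨i, hi⟩, fun e => absurd (show j ∈ {i | α i < 0} from e ▸ Set.mem_univ j) (by simpa using hj)⟩
    exact le_iSup_of_le ⟨{i | α i < 0}, hN⟩ (le_iSup_of_le ⟨α, fun _ => Iff.rfl⟩ le_rfl)

end Groth.Agent.S13434
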