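import Groth.Statements.S13436
import Groth.Agent.Lib.HilbPn.Sum
-- import your own Groth.Agent.* helpers here

set_option autoImplicit false
universe u
open W4c1hilbpn

namespace Groth.Agent.S13436

open W4c1hilbpn in
/-- Let k be an infinite field, S = k[x,y,z], and T(I) = Hom_S(I, S/I) graded by triples of integers (a
graded piece is indexed by its multidegree; its sign pattern records which of the three entries are
negative); let I be a monomial ideal of finite colength with staircase numbers b_{i,j} = the number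
of c with x^i y^j z^c outside I. For all natural numbers i, j, the span of the graded pieces of T(I)
of multidegrees (i, j, c), c ranging over the integers, has dimension b_{i,j} plus the dimension of
the span of the graded pieces of multidegrees (-i-1, -j-1, c). -/
theorem result (k : Type u) [Field k] [Infinite k]
    (I : Ideal (MvPolynomial (Fin 3) k)) (hI : IsMonomial I) [Module.Finite k (MvPolynomial (Fin 3) k ⧸ I)] (i j : ℕ) :
    Module.finrank k ↥(⨆ α : {α : Fin 3 → ℤ // α 0 = (i : ℤ) ∧ α 1 = (j : ℤ)}, tPiece I α.1) =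
      stairZ I i j +
        Module.finrank k ↥(⨆ α : {α : Fin 3 → ℤ // α 0 = -(i : ℤ) - 1 ∧ α 1 = -(j : ℤ) - 1}, tPiece I α.1) := by
  obtain ⟨N, hN, hb⟩ := GrothLib.HilbPn.exists_stair_bound (Equiv.refl (Fin 3)) hI
  rw [GrothLib.HilbPn.finrank_pos_line (Equiv.refl (Fin 3)) hI hN hb i j
      (fun α => α 0 = (i : ℤ) ∧ α 1 = (j : ℤ)) (fun α h => h) (fun m => ⟨rfl, rfl⟩),
    GrothLib.HilbPn.finrank_neg_line (Equiv.refl (Fin 3)) hI hN hb i j
      (fun α => α 0 = -(i : ℤ) - 1 ∧ α 1 = -(j : ℤ) - 1) (fun α h => h) (fun m => ⟨rfl, rfl⟩),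
    GrothLib.HilbPn.sum_dPos (Equiv.refl (Fin 3)) hI hN hb i j, GrothLib.HilbPn.stair_refl]

end Groth.Agent.S13436
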