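import Groth.Statements.S13438
import Groth.Agent.Lib.HilbPn.Socle
-- import your own Groth.Agent.* helpers here

set_option autoImplicit false
universe u
open W4c1hilbpn

namespace Groth.Agent.S13438

open GrothLib.HilbPn in
open W4c1hilbpn in
/-- Let k be an infinite field, S = k[x,y,z], and T(I) = Hom_S(I, S/I) graded by triples of integers (a
graded piece is indexed by its multidegree; its sign pattern records which of the three entries are
negative); let I be a monomial ideal of finite colength whose minimal monomial generators include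
x^a1 y^a2, x^b1 z^b3 and y^c2 z^c3 with all six exponents positive, and assume a1 ≥ b1 and a2 ≥ c2,
or b1 ≥ a1 and b3 ≥ c3, or c2 ≥ a2 and c3 ≥ b3. Then T(I) has a nonzero graded piece whose sign
pattern is negative at exactly two of the three variables. (The published statement draws the
conclusion that the corresponding point of the Hilbert scheme of points of affine 3-space is
singular; this row records the nonvanishing of a tangent piece of forbidden sign pattern, from which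
singularity follows by the smoothness criterion for monomial points.) -/
theorem result (k : Type u) [Field k] [Infinite k]
    (I : Ideal (MvPolynomial (Fin 3) k)) (hI : IsMonomial I) [Module.Finite k (MvPolynomial (Fin 3) k ⧸ I)]
    (a1 a2 b1 b3 c2 c3 : ℕ) (ha1 : 0 < a1) (ha2 : 0 < a2) (hb1 : 0 < b1) (hb3 : 0 < b3)
    (hc2 : 0 < c2) (hc3 : 0 < c3)
    (hA : e3 a1 a2 0 ∈ exps I ∧ e3 (a1 - 1) a2 0 ∉ exps I ∧ e3 a1 (a2 - 1) 0 ∉ exps I)
    (hB : e3 b1 0 b3 ∈ exps I ∧ e3 (b1 - 1) 0 b3 ∉ exps I ∧ e3 b1 0 (b3 - 1) ∉ exps I)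
    (hC : e3 0 c2 c3 ∈ exps I ∧ e3 0 (c2 - 1) c3 ∉ exps I ∧ e3 0 c2 (c3 - 1) ∉ exps I)
    (hcase : (b1 ≤ a1 ∧ c2 ≤ a2) ∨ (a1 ≤ b1 ∧ c3 ≤ b3) ∨ (a2 ≤ c2 ∧ b3 ≤ c3)) :
    sigPiece I ({0, 1} : Set (Fin 3)) ≠ ⊥ ∨ sigPiece I ({0, 2} : Set (Fin 3)) ≠ ⊥ ∨
      sigPiece I ({1, 2} : Set (Fin 3)) ≠ ⊥ := by
  obtain ⟨hA0, hA1, hA2⟩ := hA
  obtain ⟨hB0, hB1, hB2⟩ := hB
  obtain ⟨hC0, hC1, hC2⟩ := hC
  have mono : ∀ {a b c a' b' c' : ℕ}, e3 a b c ∈ exps I → a ≤ a' → b ≤ b' → c ≤ c' → e3 a' b' c' ∈ exps I := by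
    intro a b c a' b' c' h h0 h1 h2
    have e : e3 a b c + e3 (a' - a) (b' - b) (c' - c) = e3 a' b' c' := by
      ext l; fin_cases l <;> simp [e3] <;> omega
    exact e ▸ add_mem_exps h _
  have eT : ∀ T : Fin 3 →₀ ℕ, T = e3 (T 0) (T 1) (T 2) := fun T => by ext l; fin_cases l <;> simp [e3]
  have hge : ∀ {x y z : ℕ} {T : Fin 3 →₀ ℕ}, e3 x y z ≤ T → x ≤ T 0 ∧ y ≤ T 1 ∧ z ≤ T 2 := fun h =>
    ⟨by simpa [e3] using h 0, by simpa [e3] using h 1, by simpa [e3] using h 2⟩
  have minimal : ∀ {a b c : ℕ}, (0 < a → e3 (a - 1) b c ∉ exps I) → (0 < b → e3 a (b - 1) c ∉ exps I) →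
      (0 < c → e3 a b (c - 1) ∉ exps I) → ∀ i, 0 < e3 a b c i → e3 a b c - Finsupp.single i 1 ∉ exps I := by
    intro a b c h0 h1 h2 i hi
    have e : e3 a b c - Finsupp.single i 1 =
        e3 (if i = 0 then a - 1 else a) (if i = 1 then b - 1 else b) (if i = 2 then c - 1 else c) := by
      ext l; fin_cases i <;> fin_cases l <;> simp [e3]
    rw [e]
    fin_cases i <;> simp [e3] at hi ⊢
    exacts [h0 hi, h1 hi, h2 hi]
  rcases hcase with ⟨h, h'⟩ | ⟨h, h'⟩ | ⟨h, h'⟩
  · left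
    obtain ⟨T, hPT, hT, hsoc⟩ := exists_socle hI (P := e3 0 0 (max b3 c3)) fun hm => by
      rcases le_total b3 c3 with hh | hh
      · exact hC1 (mono hm le_rfl (Nat.zero_le _) (by omega))
      · exact hB1 (mono hm (Nat.zero_le _) le_rfl (by omega))
    obtain ⟨-, -, hT2⟩ := hge hPT
    have h0 : T 0 < b1 := not_le.1 fun hh => hT (eT T ▸ mono hB0 hh (Nat.zero_le _) (by omega))
    have h1 : T 1 < c2 := not_le.1 fun hh => hT (eT T ▸ mono hC0 (Nat.zero_le _) hh (by omega))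
    exact sigPiece_ne_bot (fun i => by fin_cases i <;> simp [e3] <;> omega)
      (tPiece_ne_bot_of_socle hI hA0 (minimal (fun _ => hA1) (fun _ => hA2) (fun h => absurd h (lt_irrefl 0))) hT hsoc)
  · right; left
    obtain ⟨T, hPT, hT, hsoc⟩ := exists_socle hI (P := e3 0 (max a2 c2) 0) fun hm => by
      rcases le_total a2 c2 with hh | hh
      · exact hC2 (mono hm le_rfl (by omega) (Nat.zero_le _))
      · exact hA1 (mono hm (Nat.zero_le _) (by omega) le_rfl)
    obtain ⟨-, hT1, -⟩ := hge hPT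
    have h0 : T 0 < a1 := not_le.1 fun hh => hT (eT T ▸ mono hA0 hh (by omega) (Nat.zero_le _))
    have h2 : T 2 < c3 := not_le.1 fun hh => hT (eT T ▸ mono hC0 (Nat.zero_le _) (by omega) hh)
    exact sigPiece_ne_bot (fun i => by fin_cases i <;> simp [e3] <;> omega)
      (tPiece_ne_bot_of_socle hI hB0 (minimal (fun _ => hB1) (fun h => absurd h (lt_irrefl 0)) (fun _ => hB2)) hT hsoc)
  · right; right
    obtain ⟨T, hPT, hT, hsoc⟩ := exists_socle hI (P := e3 (max a1 b1) 0 0) fun hm => by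
      rcases le_total a1 b1 with hh | hh
      · exact hB2 (mono hm (by omega) le_rfl (Nat.zero_le _))
      · exact hA2 (mono hm (by omega) (Nat.zero_le _) le_rfl)
    obtain ⟨hT0, -, -⟩ := hge hPT
    have h1 : T 1 < a2 := not_le.1 fun hh => hT (eT T ▸ mono hA0 (by omega) hh (Nat.zero_le _))
    have h2 : T 2 < b3 := not_le.1 fun hh => hT (eT T ▸ mono hB0 (by omega) (Nat.zero_le _) hh)
    exact sigPiece_ne_bot (fun i => by fin_cases i <;> simp [e3] <;> omega)
      (tPiece_ne_bot_of_socle hI hC0 (minimal (fun h => absurd h (lt_irrefl 0)) (fun _ => hC1) (fun _ => hC2)) hT hsoc)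

end Groth.Agent.S13438
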