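import Groth.Statements.S13439
import Groth.Agent.Lib.HilbPn.Socle
import Groth.Agent.S13438
-- import your own Groth.Agent.* helpers here

set_option autoImplicit false
universe u
open W4c1hilbpn

namespace Groth.Agent.S13439

open GrothLib.HilbPn in
open W4c1hilbpn in
/-- Let k be an infinite field, S = k[x,y,z], and T(I) = Hom_S(I, S/I) graded by triples of integers (a
graded piece is indexed by its multidegree; its sign pattern records which of the three entries are
negative); let I be a strongly stable ideal of finite colength (variables ordered x > y > z). Then x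
lies in I if and only if the three graded pieces of T(I) whose sign pattern is negative at exactly
two of the three variables all vanish. (The published statement phrases the right-hand side as
smoothness of the corresponding point of the Hilbert scheme of points of affine 3-space, which for a
monomial point is equivalent to this vanishing; the row records the vanishing condition, which is
what the argument establishes.) -/
theorem result (k : Type u) [Field k] [Infinite k]
    (I : Ideal (MvPolynomial (Fin 3) k)) (hI : IsStronglyStable I) [Module.Finite k (MvPolynomial (Fin 3) k ⧸ I)] :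
    (MvPolynomial.X 0 : MvPolynomial (Fin 3) k) ∈ I ↔
      (sigPiece I ({1, 2} : Set (Fin 3)) = ⊥ ∧ sigPiece I ({0, 2} : Set (Fin 3)) = ⊥ ∧
        sigPiece I ({0, 1} : Set (Fin 3)) = ⊥) := by
  classical
  obtain ⟨hM, hst⟩ := hI
  constructor
  · intro hx
    have ho : Finsupp.single (0 : Fin 3) 1 ∈ exps I := hx
    refine ⟨?_, ?_, ?_⟩ <;> refine iSup_eq_bot.2 fun ⟨α, hα⟩ => ?_
    · have h1 : α 1 < 0 := (hα 1).2 (by simp)
      have h2 : α 2 < 0 := (hα 2).2 (by simp)
      have h0 : 0 ≤ α 0 := not_lt.1 fun h => by simpa using (hα 0).1 h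
      rcases eq_or_lt_of_le h0 with h0 | h0
      · exact tPiece_eq_bot_of_nonpos hM (fun i => by fin_cases i <;> simp <;> omega)
          (show (1 : Fin 3) ≠ 2 by decide) h1 h2
      · exact tPiece_eq_bot_of_X_mem_pos hM ho h0
    · exact tPiece_eq_bot_of_X_mem hM ho (show (2 : Fin 3) ≠ 0 by decide) ((hα 0).2 (by simp)) ((hα 2).2 (by simp))
    · exact tPiece_eq_bot_of_X_mem hM ho (show (1 : Fin 3) ≠ 0 by decide) ((hα 0).2 (by simp)) ((hα 1).2 (by simp))
  · rintro ⟨e12, e02, e01⟩
    by_contra hx
    have hx' : e3 1 0 0 ∉ exps I := by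
      have e : e3 1 0 0 = Finsupp.single 0 1 := by ext l; fin_cases l <;> simp [e3, Finsupp.single_apply, Matrix.vecHead, Matrix.vecTail]
      rw [e]; exact hx
    have move : ∀ {β : Fin 3 →₀ ℕ} (i j : Fin 3), β ∈ exps I → i < j → 0 < β j →
        β - Finsupp.single j 1 + Finsupp.single i 1 ∈ exps I := fun i j h hij hj => hst _ h i j hij hj
    have hy' : e3 0 1 0 ∉ exps I := fun h => hx' <| by
      have := move 0 1 h (by decide) (by simp [e3])
      convert this using 1
      ext l; fin_cases l <;> simp [e3, Finsupp.single_apply, Matrix.vecHead, Matrix.vecTail]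
    have hfin := finite_compl_exps hM
    have hex : ∀ f : ℕ → Fin 3 →₀ ℕ, Function.Injective f → ∃ n, f n ∈ exps I := fun f hf => by
      by_contra h; push Not at h
      exact Set.infinite_univ ((hfin.preimage hf.injOn).subset fun n _ => h n)
    have h1 := hex (fun n => e3 1 n 0) fun a b e => by simpa [e3] using DFunLike.congr_fun e 1
    have h2 := hex (fun n => e3 1 0 n) fun a b e => by simpa [e3] using DFunLike.congr_fun e 2
    have h3 := hex (fun n => e3 0 1 n) fun a b e => by simpa [e3] using DFunLike.congr_fun e 2
    have p1 : 0 < Nat.find h1 := Nat.pos_of_ne_zero fun e => hx' (by simpa [e] using Nat.find_spec h1)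
    have p2 : 0 < Nat.find h2 := Nat.pos_of_ne_zero fun e => hx' (by simpa [e] using Nat.find_spec h2)
    have p3 : 0 < Nat.find h3 := Nat.pos_of_ne_zero fun e => hy' (by simpa [e] using Nat.find_spec h3)
    have q1 : e3 0 (Nat.find h1) 0 ∉ exps I := fun h => Nat.find_min h1 (Nat.sub_lt p1 one_pos) <| by
      have := move 0 1 h (by decide) p1
      convert this using 1
      ext l; fin_cases l <;> simp [e3, Finsupp.single_apply, Matrix.vecHead, Matrix.vecTail]
    have q2 : e3 0 0 (Nat.find h2) ∉ exps I := fun h => Nat.find_min h2 (Nat.sub_lt p2 one_pos) <| by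
      have := move 0 2 h (by decide) p2
      convert this using 1
      ext l; fin_cases l <;> simp [e3, Finsupp.single_apply, Matrix.vecHead, Matrix.vecTail]
    have q3 : e3 0 0 (Nat.find h3) ∉ exps I := fun h => Nat.find_min h3 (Nat.sub_lt p3 one_pos) <| by
      have := move 1 2 h (by decide) p3
      convert this using 1
      ext l; fin_cases l <;> simp [e3, Finsupp.single_apply, Matrix.vecHead, Matrix.vecTail]
    rcases Groth.Agent.S13438.result k I hM 1 (Nat.find h1) 1 (Nat.find h2) 1 (Nat.find h3) one_pos p1 one_pos p2 one_pos p3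
      ⟨Nat.find_spec h1, q1, Nat.find_min h1 (Nat.sub_lt p1 one_pos)⟩
      ⟨Nat.find_spec h2, q2, Nat.find_min h2 (Nat.sub_lt p2 one_pos)⟩
      ⟨Nat.find_spec h3, q3, Nat.find_min h3 (Nat.sub_lt p3 one_pos)⟩
      (Or.inl ⟨le_rfl, p1⟩) with h | h | h
    exacts [h e01, h e02, h e12]

end Groth.Agent.S13439
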