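import Groth.Statements.S13441
import Groth.Agent.Lib.HilbPn.Mono
-- import your own Groth.Agent.* helpers here

set_option autoImplicit false
universe u
open W4c1hilbpn

namespace Groth.Agent.S13441

open W4c1hilbpn in
/-- Let k be an infinite field, S = k[x,y,z] with variables ordered x > y > z, and I a strongly stable
ideal of finite colength, with staircase numbers b^z_{i,j} = the number of c with x^i y^j z^c
outside I and b^y_{i,j} = the number of b with x^i y^b z^j outside I. Then b^z_{i+1,j} ≤ b^z_{i,j+1}
and b^y_{i+1,j} ≤ b^y_{i,j+1} for all i and j (equivalently the maximum of the two neighbouring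
staircase numbers is the second one). -/
theorem result (k : Type u) [Field k] [Infinite k]
    (I : Ideal (MvPolynomial (Fin 3) k)) (hI : IsStronglyStable I) [Module.Finite k (MvPolynomial (Fin 3) k ⧸ I)] (i j : ℕ) :
    stairZ I (i + 1) j ≤ stairZ I i (j + 1) ∧ stairY I (i + 1) j ≤ stairY I i (j + 1) := by
  have hfin := GrothLib.HilbPn.finite_compl_exps hI.1
  have hinjZ : ∀ a b, Function.Injective fun c => e3 a b c := fun a b c c' h => by
    simpa [e3] using congrArg (fun f : Fin 3 →₀ ℕ => f 2) h
  have hinjY : ∀ a c, Function.Injective fun b => e3 a b c := fun a c b b' h => by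
    simpa [e3] using congrArg (fun f : Fin 3 →₀ ℕ => f 1) h
  constructor
  · refine Nat.card_mono (t := {c : ℕ | e3 i (j + 1) c ∉ exps I}) (hfin.preimage (hinjZ i (j + 1)).injOn) fun c hc h => hc ?_
    have h' := hI.2 _ h 0 1 (by decide) (by simp [e3])
    convert h' using 1
    ext x; fin_cases x <;> simp [e3, Matrix.vecHead, Matrix.vecTail, Finsupp.single_apply]
  · refine Nat.card_mono (t := {b : ℕ | e3 i b (j + 1) ∉ exps I}) (hfin.preimage (hinjY i (j + 1)).injOn) fun b hb h => hb ?_
    have h' := hI.2 _ h 0 2 (by decide) (by simp [e3])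
    convert h' using 1
    ext x; fin_cases x <;> simp [e3, Matrix.vecHead, Matrix.vecTail, Finsupp.single_apply]

end Groth.Agent.S13441
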