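import Groth.Statements.S13443
import Groth.Agent.Lib.HilbPn.Borel
-- import your own Groth.Agent.* helpers here

set_option autoImplicit false
universe u
open W4c1hilbpn

namespace Groth.Agent.S13443

open W4c1hilbpn in
/-- Let k be an infinite field, S = k[x,y,z], and T(I) = Hom_S(I, S/I) graded by triples of integers (a
graded piece is indexed by its multidegree; its sign pattern records which of the three entries are
negative), variables ordered x > y > z; let m = (x,y,z), r a natural number and I a strongly stable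
ideal of colength C(r+2, 3) = dim S/m^r. Then the spans of the graded pieces of T(I) negative
exactly at z, resp. exactly at y, have dimension at most C(r+3, 4), the spans of those negative
exactly at x and y, resp. exactly at x and z, have dimension at most C(r+2, 4) (these are the
corresponding dimensions for m^r), and in each of the four cases equality holds if and only if I =
m^r. (The published statement assumes the ideal Borel-fixed over a field of characteristic zero,
which for monomial ideals means strongly stable; the argument uses only strong stability, and the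
row is stated in that form.) -/
theorem result (k : Type u) [Field k] [Infinite k] (r : ℕ)
    (I : Ideal (MvPolynomial (Fin 3) k)) (hI : IsStronglyStable I) [Module.Finite k (MvPolynomial (Fin 3) k ⧸ I)]
    (hd : Module.finrank k (MvPolynomial (Fin 3) k ⧸ I) = Nat.choose (r + 2) 3) :
    (Module.finrank k ↥(sigPiece I ({2} : Set (Fin 3))) ≤ Nat.choose (r + 3) 4 ∧
      (Module.finrank k ↥(sigPiece I ({2} : Set (Fin 3))) = Nat.choose (r + 3) 4 ↔ I = (Ideal.span (Set.range (MvPolynomial.X : Fin 3 → MvPolynomial (Fin 3) k))) ^ r)) ∧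
    (Module.finrank k ↥(sigPiece I ({1} : Set (Fin 3))) ≤ Nat.choose (r + 3) 4 ∧
      (Module.finrank k ↥(sigPiece I ({1} : Set (Fin 3))) = Nat.choose (r + 3) 4 ↔ I = (Ideal.span (Set.range (MvPolynomial.X : Fin 3 → MvPolynomial (Fin 3) k))) ^ r)) ∧
    (Module.finrank k ↥(sigPiece I ({0, 1} : Set (Fin 3))) ≤ Nat.choose (r + 2) 4 ∧
      (Module.finrank k ↥(sigPiece I ({0, 1} : Set (Fin 3))) = Nat.choose (r + 2) 4 ↔ I = (Ideal.span (Set.range (MvPolynomial.X : Fin 3 → MvPolynomial (Fin 3) k))) ^ r)) ∧
    (Module.finrank k ↥(sigPiece I ({0, 2} : Set (Fin 3))) ≤ Nat.choose (r + 2) 4 ∧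
      (Module.finrank k ↥(sigPiece I ({0, 2} : Set (Fin 3))) = Nat.choose (r + 2) 4 ↔ I = (Ideal.span (Set.range (MvPolynomial.X : Fin 3 → MvPolynomial (Fin 3) k))) ^ r)) := by
  have hc2 := GrothLib.HilbPn.finrank_sigPiece_singleton hI.1 (2 : Fin 3)
  have hc1 := GrothLib.HilbPn.finrank_sigPiece_singleton hI.1 (1 : Fin 3)
  have e2 : ({2}ᶜ : Set (Fin 3)) = {0, 1} := by ext x; fin_cases x <;> simp
  have e1 : ({1}ᶜ : Set (Fin 3)) = {0, 2} := by ext x; fin_cases x <;> simp
  rw [e2, hd] at hc2
  rw [e1, hd] at hc1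
  obtain ⟨A, A'⟩ := GrothLib.HilbPn.sigPiece_le (Equiv.refl (Fin 3)) rfl hI hd.le
  obtain ⟨B, B'⟩ := GrothLib.HilbPn.sigPiece_le (Equiv.swap (1 : Fin 3) 2) (by decide) hI hd.le
  rw [show (Equiv.refl (Fin 3)).symm 2 = 2 from rfl] at A A'
  rw [show (Equiv.swap (1 : Fin 3) 2).symm 2 = 1 by decide] at B B'
  have hch : (r + 3).choose 4 = (r + 2).choose 3 + (r + 2).choose 4 := Nat.choose_succ_succ' _ _
  have hE2 : I = (Ideal.span (Set.range (MvPolynomial.X : Fin 3 → MvPolynomial (Fin 3) k))) ^ r →
      Module.finrank k ↥(sigPiece I ({2} : Set (Fin 3))) = Nat.choose (r + 3) 4 := fun h => by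
    subst h; exact GrothLib.HilbPn.finrank_pow_single r 2
  have hE1 : I = (Ideal.span (Set.range (MvPolynomial.X : Fin 3 → MvPolynomial (Fin 3) k))) ^ r →
      Module.finrank k ↥(sigPiece I ({1} : Set (Fin 3))) = Nat.choose (r + 3) 4 := fun h => by
    subst h; exact GrothLib.HilbPn.finrank_pow_single r 1
  refine ⟨⟨A, A', hE2⟩, ⟨B, B', hE1⟩, ⟨by omega, fun h => A' (by omega), fun h => ?_⟩, ⟨by omega, fun h => B' (by omega), fun h => ?_⟩⟩
  · have := hE2 h; omega
  · have := hE1 h; omega

end Groth.Agent.S13443
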