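import Groth.Statements.S13446
import Groth.Agent.Lib.HilbPn.XPow
-- import your own Groth.Agent.* helpers here

set_option autoImplicit false
universe u
open W4c1hilbpn

namespace Groth.Agent.S13446

open W4c1hilbpn in
/-- Let k be an infinite field, S = k[x,y,z] with irrelevant ideal m, and d, r, p natural numbers with d
≤ C(r+2, 3) and 4p ≤ 3r + 1. For every monomial ideal I of S of colength d containing x^p, the
dimension of Hom_S(I, S/I) is at most that of Hom_S(m^r, S/m^r). -/
theorem result (k : Type u) [Field k] [Infinite k] (d r p : ℕ)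
    (hdr : d ≤ Nat.choose (r + 2) 3) (hp : 4 * p ≤ 3 * r + 1) (I : Ideal (MvPolynomial (Fin 3) k)) (hI : IsMonomial I)
    [Module.Finite k (MvPolynomial (Fin 3) k ⧸ I)] (hd : Module.finrank k (MvPolynomial (Fin 3) k ⧸ I) = d)
    (hx : (MvPolynomial.X 0 : MvPolynomial (Fin 3) k) ^ p ∈ I) :
    Module.finrank k (Tgt I) ≤ Module.finrank k (Tgt ((Ideal.span (Set.range (MvPolynomial.X : Fin 3 → MvPolynomial (Fin 3) k))) ^ r)) := by
  classical
  have hx' : GrothLib.HilbPn.expo (Equiv.refl (Fin 3)) p 0 0 ∈ exps I := by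
    have e : GrothLib.HilbPn.expo (Equiv.refl (Fin 3)) p 0 0 = Finsupp.single 0 p := by
      ext l; fin_cases l <;> simp
    change MvPolynomial.monomial _ (1 : k) ∈ I
    rw [e, ← MvPolynomial.X_pow_eq_monomial]
    exact hx
  refine (GrothLib.HilbPn.finrank_tgt_le_of_X_pow hI hx').trans ?_
  rw [hd, show Module.finrank k (Tgt ((Ideal.span (Set.range (MvPolynomial.X : Fin 3 → MvPolynomial (Fin 3) k))) ^ r)) = _
    from GrothLib.HilbPn.finrank_tgt_pow r]
  have k3 : (r + 2).choose 3 * 3 = (r + 2).choose 2 * r := by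
    simpa using Nat.choose_succ_right_eq (r + 2) 2
  have k2 : (r + 1).choose 2 * 2 = (r + 1) * r := by
    simpa [mul_comm] using Nat.choose_succ_right_eq (r + 1) 1
  have h1 : 2 * ((2 * p + 1) * d) ≤ (3 * (r + 1)) * (r + 2).choose 3 := by
    calc 2 * ((2 * p + 1) * d) = (4 * p + 2) * d := by ring
      _ ≤ (3 * (r + 1)) * (r + 2).choose 3 := Nat.mul_le_mul (by omega) hdr
  have h2 : 3 * (r + 1) * (r + 2).choose 3 = 2 * ((r + 2).choose 2 * (r + 1).choose 2) := by
    calc 3 * (r + 1) * (r + 2).choose 3 = (r + 1) * ((r + 2).choose 3 * 3) := by ring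
      _ = (r + 1) * ((r + 2).choose 2 * r) := by rw [k3]
      _ = (r + 2).choose 2 * ((r + 1) * r) := by ring
      _ = _ := by rw [← k2]; ring
  omega

end Groth.Agent.S13446
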