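import Groth.Statements.S13448
import Groth.Agent.Lib.HilbPn.TwoBlockSpan
-- import your own Groth.Agent.* helpers here

set_option autoImplicit false
universe u
open W4c1hilbpn

namespace Groth.Agent.S13448

open W4c1hilbpn in
/-- Let k be a field and S = k[x_0, ..., x_n] with its standard grading; for an ideal I write Hom_S(I,
S/I)_0 for the degree-0 homomorphisms (for a monomial ideal: the span of the multigraded pieces
whose multidegree has entry sum 0). Let n ≥ 4 and I = x_0·(x_0, ..., x_{n-1}) + x_1·(x_1, ...,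
x_{n-2}) (the case q = 1, r = 1 of the two-block family). Then Hom_S(I, S/I)_0 has dimension 6n - 6.
(The published statement gives this as the dimension of the tangent space to the Hilbert scheme at
the point I; the row records the dimension count.) -/
theorem result (k : Type u) [Field k] (n : ℕ) (hn : 4 ≤ n) :
    Module.finrank k ↥(⨆ α : {α : Fin (n + 1) → ℤ // ∑ i, α i = 0}, tPiece (Ideal.span ({f : MvPolynomial (Fin (n + 1)) k | ∃ i : Fin (n + 1), i.val + 1 ≤ n ∧ f = MvPolynomial.X 0 * MvPolynomial.X i} ∪ {f : MvPolynomial (Fin (n + 1)) k | ∃ i : Fin (n + 1), 1 ≤ i.val ∧ i.val ≤ n - 2 ∧ f = MvPolynomial.X 1 * MvPolynomial.X i})) α.1) = 6 * n - 6 := by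
  open GrothLib.HilbPn in
  have h := finrank_twoBlock_span (k := k) (n := n) (q := 1) (m := n - 2) le_rfl (by omega) (by omega) (fun h => absurd h (by omega))
  have hE : Eset n 1 (n - 2) = {(⟨n - 1, by omega⟩ : Fin (n + 1))} := by
    ext i; rw [mem_Eset, Finset.mem_singleton, Fin.ext_iff]; simp; omega
  rw [card_Lset_generic (by omega) (by omega), hE, Finset.card_singleton, Nat.choose_one_right,
    show n - (n - 2) = 2 by omega] at h
  have e : {f : MvPolynomial (Fin (n + 1)) k | ∃ i : Fin (n + 1), 1 ≤ i.val ∧ i.val ≤ n - 2 ∧ f = MvPolynomial.X 1 * MvPolynomial.X i} =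
      {f : MvPolynomial (Fin (n + 1)) k | ∃ i : Fin (n + 1), 1 ≤ i.val ∧ i.val ≤ n - 2 ∧ f = MvPolynomial.X 1 ^ 1 * MvPolynomial.X i} := by
    ext f; simp
  rw [← e] at h
  refine Eq.trans ?_ (show (Module.finrank k ↥(hom0 (Ideal.span ({f : MvPolynomial (Fin (n + 1)) k | ∃ i : Fin (n + 1), i.val + 1 ≤ n ∧ f = MvPolynomial.X 0 * MvPolynomial.X i} ∪ {f : MvPolynomial (Fin (n + 1)) k | ∃ i : Fin (n + 1), 1 ≤ i.val ∧ i.val ≤ n - 2 ∧ f = MvPolynomial.X 1 * MvPolynomial.X i})))) = 6 * n - 6 by omega)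
  rfl

end Groth.Agent.S13448
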