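import Groth.Statements.S13451
import Groth.Agent.Lib.HilbPn.TwoPlanes
-- import your own Groth.Agent.* helpers here

set_option autoImplicit false
universe u
open W4c1hilbpn

namespace Groth.Agent.S13451

open W4c1hilbpn in
/-- Let k be an algebraically closed field of characteristic different from 2, S = k[x_0, ..., x_n] with
its standard grading, 2 ≤ c ≤ d with n ≥ c + d, and I = (x_0, ..., x_{c-1})·(x_{n-d+1}, ..., x_n),
the ideal of the union of two coordinate linear spaces of codimensions c and d meeting transversely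
and not spanning the ambient space. Then the degree-0 homomorphisms Hom_S(I, S/I)_0 form a space of
dimension c(n-c+1) + d(n-d+1). (The published statement gives this number as the dimension of the
tangent space to the Hilbert scheme at the pair of planes, for every n; the row records the count of
degree-0 homomorphisms in the non-spanning range n ≥ c + d, where that tangent space is Hom_S(I,
S/I)_0.) -/
theorem result (k : Type u) [Field k] [IsAlgClosed k] (hchar : ringChar k ≠ 2)
    (n c d : ℕ) (hc : 2 ≤ c) (hcd : c ≤ d) (hn : c + d ≤ n) :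
    Module.finrank k ↥(⨆ α : {α : Fin (n + 1) → ℤ // ∑ i, α i = 0},
      tPiece (Ideal.span {f : MvPolynomial (Fin (n + 1)) k | ∃ i j : Fin (n + 1), i.val + 1 ≤ c ∧ n + 1 ≤ j.val + d ∧
        f = MvPolynomial.X i * MvPolynomial.X j}) α.1) = c * (n - c + 1) + d * (n - d + 1) := by
  classical
  let A : Finset (Fin (n + 1)) := Finset.univ.filter fun i => i.val + 1 ≤ c
  let B : Finset (Fin (n + 1)) := Finset.univ.filter fun j => n + 1 ≤ j.val + d
  have hAB : Disjoint A B := Finset.disjoint_left.2 fun x h1 h2 => by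
    simp only [A, B, Finset.mem_filter] at h1 h2; omega
  let G : Set (Fin (n + 1) →₀ ℕ) := {g | ∃ i ∈ A, ∃ j ∈ B, g = Finsupp.single i 1 + Finsupp.single j 1}
  have hspan : Ideal.span {f : MvPolynomial (Fin (n + 1)) k | ∃ i j : Fin (n + 1), i.val + 1 ≤ c ∧ n + 1 ≤ j.val + d ∧
      f = MvPolynomial.X i * MvPolynomial.X j} = Ideal.span ((fun g => MvPolynomial.monomial g (1 : k)) '' G) := by
    congr 1
    ext f
    simp only [Set.mem_image, Set.mem_ofPred_eq, G, A, B, Finset.mem_filter, Finset.mem_univ, true_and]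
    constructor
    · rintro ⟨i, j, hi, hj, rfl⟩
      exact ⟨_, ⟨i, hi, j, hj, rfl⟩, by rw [MvPolynomial.X, MvPolynomial.X, MvPolynomial.monomial_mul, one_mul]⟩
    · rintro ⟨g, ⟨i, hi, j, hj, rfl⟩, rfl⟩
      exact ⟨i, j, hi, hj, by rw [MvPolynomial.X, MvPolynomial.X, MvPolynomial.monomial_mul, one_mul]⟩
  rw [hspan]
  set I := Ideal.span ((fun g => MvPolynomial.monomial g (1 : k)) '' G) with hI'
  have hexp : ∀ β, β ∈ exps I ↔ (∃ a ∈ A, 0 < β a) ∧ (∃ b ∈ B, 0 < β b) := by
    intro β
    change MvPolynomial.monomial β (1 : k) ∈ I ↔ _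
    rw [hI', MvPolynomial.mem_ideal_span_monomial_image]
    simp only [MvPolynomial.support_monomial, one_ne_zero, if_false, Finset.mem_singleton, forall_eq]
    constructor
    · rintro ⟨g, ⟨i, hi, j, hj, rfl⟩, hle⟩
      exact ⟨⟨i, hi, Nat.lt_of_lt_of_le (by simp) (hle i)⟩, j, hj, Nat.lt_of_lt_of_le (by simp) (hle j)⟩
    · rintro ⟨⟨i, hi, hi'⟩, j, hj, hj'⟩
      have hij : i ≠ j := fun e => Finset.disjoint_left.1 hAB hi (e ▸ hj)
      refine ⟨_, ⟨i, hi, j, hj, rfl⟩, fun x => ?_⟩
      simp only [Finsupp.add_apply, Finsupp.single_apply]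
      split_ifs <;> subst_vars <;> first | omega | exact absurd rfl hij
  have hI : IsMonomial I := by
    intro p hp β hβ
    rw [hI', MvPolynomial.mem_ideal_span_monomial_image] at hp ⊢
    intro x hx
    rw [MvPolynomial.support_monomial, if_neg one_ne_zero, Finset.mem_singleton] at hx
    exact hx ▸ hp β hβ
  have cA : A.card = c := by
    rw [← Finset.card_range c]
    refine Finset.card_bij (fun i _ => i.val) (fun i h => ?_) (fun i _ j _ h => Fin.ext h) (fun x hx => ?_)
    · simp only [A, Finset.mem_filter] at h; simp; omega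
    · have := Finset.mem_range.1 hx; exact ⟨⟨x, by omega⟩, by simp [A]; omega, rfl⟩
  have cB : B.card = d := by
    rw [← Finset.card_range d]
    refine Finset.card_bij (fun i _ => n - i.val) (fun i h => ?_) (fun i hi j hj h => Fin.ext ?_) (fun x hx => ?_)
    · simp only [B, Finset.mem_filter] at h; simp; omega
    · have := i.isLt; have := j.isLt; omega
    · have := Finset.mem_range.1 hx; exact ⟨⟨n - x, by omega⟩, by simp [B]; omega, show n - (n - x) = x by omega⟩
  rw [GrothLib.HilbPn.finrank_hom0 hexp hI hAB (by omega) (by omega), cA, cB, Fintype.card_fin,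
    show n + 1 - c = n - c + 1 by omega, show n + 1 - d = n - d + 1 by omega]

end Groth.Agent.S13451
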