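import Groth.Statements.S13453
import Groth.Agent.Lib.HilbPn.Mono
-- import your own Groth.Agent.* helpers here

set_option autoImplicit false
universe u
open W4c1hilbpn

namespace Groth.Agent.S13453

open W4c1hilbpn in
/-- Let k be an infinite field, S = k[x,y,z] with variables ordered x > y > z, and I a strongly stable
ideal of finite colength; write I_i for the ideal of polynomials f in k[y,z] with x^i f in I (so I
is the direct sum of the x^i I_i). Then each I_i is a strongly stable ideal of k[y,z] (with y > z)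
and the ideal quotient (I_i : y) is contained in I_{i+1}. -/
theorem result (k : Type u) [Field k] [Infinite k]
    (I : Ideal (MvPolynomial (Fin 3) k)) (hI : IsStronglyStable I) [Module.Finite k (MvPolynomial (Fin 3) k ⧸ I)] (i : ℕ) :
    IsStronglyStable (sliceX I i) ∧
      (sliceX I i).colon {(MvPolynomial.X 0 : MvPolynomial (Fin 2) k)} ≤ sliceX I (i + 1) := by
  classical
  open MvPolynomial in
  have hmem : ∀ (a : ℕ) (f : MvPolynomial (Fin 2) k), f ∈ sliceX I a ↔
      rename Fin.succ f * X (0 : Fin 3) ^ a ∈ I := fun a f => by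
    rw [sliceX, Ideal.mem_comap, Submodule.mem_colon_singleton, smul_eq_mul]
    rfl
  have hexp : ∀ (a : ℕ) (β : Fin 2 →₀ ℕ), β ∈ exps (sliceX I a) ↔
      Finsupp.mapDomain Fin.succ β + Finsupp.single 0 a ∈ exps I := fun a β => by
    change monomial β (1 : k) ∈ sliceX I a ↔ _
    rw [hmem, rename_monomial, X_pow_eq_monomial, monomial_mul, one_mul]
    rfl
  have hmd : ∀ (β : Fin 2 →₀ ℕ) (x : Fin 2), Finsupp.mapDomain Fin.succ β x.succ = β x :=
    fun β x => Finsupp.mapDomain_apply (Fin.succ_injective _) β x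
  have hmd0 : ∀ β : Fin 2 →₀ ℕ, Finsupp.mapDomain Fin.succ β 0 = 0 := fun β =>
    Finsupp.mapDomain_notin_range _ _ (fun ⟨x, hx⟩ => Fin.succ_ne_zero x hx)
  refine ⟨⟨fun f hf β hβ => ?_, fun β hβ a b hab hb => ?_⟩, fun f hf => ?_⟩
  · refine (hexp i β).2 (hI.1 _ ((hmem i f).1 hf) _ ?_)
    rw [mem_support_iff, X_pow_eq_monomial, coeff_mul_monomial, mul_one, coeff_rename_mapDomain _ (Fin.succ_injective _)]
    exact mem_support_iff.1 hβ
  · rw [hexp] at hβ ⊢
    have h := hI.2 _ hβ a.succ b.succ (Fin.succ_lt_succ_iff.2 hab) (by simp [hmd]; omega)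
    convert h using 1
    ext x
    refine Fin.cases ?_ (fun y => ?_) x
    · simp [hmd0, Finsupp.single_apply]
    · simp [hmd, Finsupp.single_apply, Fin.succ_inj]
  · rw [Submodule.mem_colon_singleton, smul_eq_mul, hmem] at hf
    rw [hmem]
    refine GrothLib.HilbPn.mem_of_support_subset fun γ hγ => ?_
    rw [mem_support_iff, X_pow_eq_monomial, coeff_mul_monomial'] at hγ
    split_ifs at hγ with hle
    · rw [mul_one] at hγ
      obtain ⟨β, hβ, hβ'⟩ := coeff_rename_ne_zero _ _ _ hγ
      have h1 : Finsupp.mapDomain Fin.succ β + Finsupp.single 1 1 + Finsupp.single 0 i ∈ exps I := by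
        refine hI.1 _ hf _ ?_
        rw [map_mul, rename_X, show (Fin.succ 0 : Fin 3) = 1 from rfl, X, X_pow_eq_monomial, mem_support_iff, coeff_mul_monomial,
          coeff_mul_monomial, mul_one, mul_one, coeff_rename_mapDomain _ (Fin.succ_injective _)]
        exact hβ'
      have h2 := hI.2 _ h1 0 1 (by decide) (by simp)
      convert h2 using 1
      have e : γ = Finsupp.mapDomain Fin.succ β + Finsupp.single 0 (i + 1) := by
        rw [hβ, tsub_add_cancel_of_le hle]
      rw [e]
      ext x
      fin_cases x <;> simp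
      omega
    · exact absurd rfl hγ

end Groth.Agent.S13453
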