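import Groth.Statements.S13455
import Mathlib.RingTheory.MvPolynomial.Ideal
-- import your own Groth.Agent.* helpers here

set_option autoImplicit false
universe u
open W4c1hilbpn

namespace Groth.Agent.S13455

/-- Let k be an algebraically closed field of characteristic different from 2, k0 ≥ 1 and n ≥ 2k0 - 1
natural numbers, S = k[x_0, ..., x_n], and e1 ≤ e2 ≤ k0 - 1. The ideal generated by all products x_p
x_q with e1 ≤ p, q ≤ e2 together with the products x_p x_{n-k0+1+q} for e1 ≤ p < q ≤ e2 is the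
intersection, over j from e1 to e2, of the ideals generated by the variables x_i with e1 ≤ i ≤ e2
and i ≠ j, the square x_j^2, and the variables x_{n-k0+1+q} for j < q ≤ e2 (a primary decomposition
of this monomial ideal). -/
theorem result (k : Type u) [Field k] [IsAlgClosed k] (hchar : ringChar k ≠ 2)
    (n k0 e1 e2 : ℕ) (hk : 1 ≤ k0) (hn : 2 * k0 ≤ n + 1) (he : e1 ≤ e2) (he2 : e2 + 1 ≤ k0) :
    Ideal.span ({f : MvPolynomial (Fin (n + 1)) k | ∃ p q : Fin (n + 1), e1 ≤ p.val ∧ p.val ≤ e2 ∧ e1 ≤ q.val ∧ q.val ≤ e2 ∧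
        f = MvPolynomial.X p * MvPolynomial.X q} ∪
      {f : MvPolynomial (Fin (n + 1)) k | ∃ p q m : Fin (n + 1), e1 ≤ p.val ∧ p.val < q.val ∧ q.val ≤ e2 ∧
        m.val + k0 = n + 1 + q.val ∧ f = MvPolynomial.X p * MvPolynomial.X m}) =
    ⨅ j : Fin (n + 1), ⨅ (_ : e1 ≤ j.val ∧ j.val ≤ e2),
      Ideal.span ({f : MvPolynomial (Fin (n + 1)) k | ∃ i : Fin (n + 1), e1 ≤ i.val ∧ i.val ≤ e2 ∧ i ≠ j ∧ f = MvPolynomial.X i} ∪
        {MvPolynomial.X j ^ 2} ∪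
        {f : MvPolynomial (Fin (n + 1)) k | ∃ q m : Fin (n + 1), j.val < q.val ∧ q.val ≤ e2 ∧ m.val + k0 = n + 1 + q.val ∧
          f = MvPolynomial.X m}) := by
  classical
  let L : Set (Fin (n + 1) →₀ ℕ) :=
    {a | ∃ p q : Fin (n + 1), e1 ≤ p.val ∧ p.val ≤ e2 ∧ e1 ≤ q.val ∧ q.val ≤ e2 ∧ a = Finsupp.single p 1 + Finsupp.single q 1} ∪
    {a | ∃ p q m : Fin (n + 1), e1 ≤ p.val ∧ p.val < q.val ∧ q.val ≤ e2 ∧ m.val + k0 = n + 1 + q.val ∧
      a = Finsupp.single p 1 + Finsupp.single m 1}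
  let Rj : Fin (n + 1) → Set (Fin (n + 1) →₀ ℕ) := fun j =>
    {a | ∃ i : Fin (n + 1), e1 ≤ i.val ∧ i.val ≤ e2 ∧ i ≠ j ∧ a = Finsupp.single i 1} ∪
      {Finsupp.single j 2} ∪
      {a | ∃ q m : Fin (n + 1), j.val < q.val ∧ q.val ≤ e2 ∧ m.val + k0 = n + 1 + q.val ∧ a = Finsupp.single m 1}
  have hX : ∀ i : Fin (n + 1), (MvPolynomial.X i : MvPolynomial (Fin (n + 1)) k) = MvPolynomial.monomial (Finsupp.single i 1) 1 :=
    fun i => rfl
  have hXX : ∀ i j : Fin (n + 1), (MvPolynomial.X i * MvPolynomial.X j : MvPolynomial (Fin (n + 1)) k) =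
      MvPolynomial.monomial (Finsupp.single i 1 + Finsupp.single j 1) 1 :=
    fun i j => by rw [hX, hX, MvPolynomial.monomial_mul, one_mul]
  have hX2 : ∀ i : Fin (n + 1), (MvPolynomial.X i ^ 2 : MvPolynomial (Fin (n + 1)) k) =
      MvPolynomial.monomial (Finsupp.single i 2) 1 := fun i => MvPolynomial.X_pow_eq_monomial
  have key : ∀ β : Fin (n + 1) →₀ ℕ, (∃ a ∈ L, a ≤ β) ↔
      ∀ j : Fin (n + 1), e1 ≤ j.val ∧ j.val ≤ e2 → ∃ a ∈ Rj j, a ≤ β := by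
    intro β
    constructor
    · rintro ⟨a, ha | ha, hle⟩ j hj
      · obtain ⟨p, q, hp1, hp2, hq1, hq2, rfl⟩ := ha
        by_cases hpj : p = j
        · by_cases hqj : q = j
          · subst hpj hqj
            exact ⟨_, Or.inl (Or.inr rfl), le_trans (le_of_eq (by rw [← Finsupp.single_add])) hle⟩
          · exact ⟨_, Or.inl (Or.inl ⟨q, hq1, hq2, hqj, rfl⟩), le_trans le_add_self hle⟩
        · exact ⟨_, Or.inl (Or.inl ⟨p, hp1, hp2, hpj, rfl⟩), le_trans le_self_add hle⟩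
      · obtain ⟨p, q, m, hp1, hpq, hq2, hm, rfl⟩ := ha
        by_cases hpj : p = j
        · subst hpj
          exact ⟨_, Or.inr ⟨q, m, hpq, hq2, hm, rfl⟩, le_trans le_add_self hle⟩
        · exact ⟨_, Or.inl (Or.inl ⟨p, hp1, by omega, hpj, rfl⟩), le_trans le_self_add hle⟩
    · intro h
      obtain ⟨a, ha, hle⟩ := h ⟨e2, by omega⟩ ⟨he, le_rfl⟩
      obtain ⟨p, hp1, hp2, hpos⟩ : ∃ p : Fin (n + 1), e1 ≤ p.val ∧ p.val ≤ e2 ∧ 0 < β p := by
        rcases ha with (⟨i, hi1, hi2, -, rfl⟩ | rfl) | ⟨q, m, hq, hq2, -⟩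
        · exact ⟨i, hi1, hi2, Finsupp.single_le_iff.1 hle⟩
        · exact ⟨⟨e2, by omega⟩, he, le_rfl, lt_of_lt_of_le (by norm_num) (Finsupp.single_le_iff.1 hle)⟩
        · simp only at hq; omega
      obtain ⟨a, ha, hle⟩ := h p ⟨hp1, hp2⟩
      rcases ha with (⟨i, hi1, hi2, hip, rfl⟩ | rfl) | ⟨q, m, hpq, hq2, hm, rfl⟩
      · refine ⟨_, Or.inl ⟨p, i, hp1, hp2, hi1, hi2, rfl⟩, fun l => ?_⟩
        have := Finsupp.single_le_iff.1 hle
        simp only [Finsupp.add_apply, Finsupp.single_apply]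
        split_ifs <;> subst_vars <;> first | omega | exact absurd rfl hip
      · refine ⟨_, Or.inl ⟨p, p, hp1, hp2, hp1, hp2, rfl⟩, ?_⟩
        rw [← Finsupp.single_add]; exact hle
      · refine ⟨_, Or.inr ⟨p, q, m, hp1, hpq, hq2, hm, rfl⟩, fun l => ?_⟩
        have hne : p ≠ m := fun e => by subst e; omega
        have := Finsupp.single_le_iff.1 hle
        simp only [Finsupp.add_apply, Finsupp.single_apply]
        split_ifs <;> subst_vars <;> first | omega | exact absurd rfl hne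
  have hL : ({f : MvPolynomial (Fin (n + 1)) k | ∃ p q : Fin (n + 1), e1 ≤ p.val ∧ p.val ≤ e2 ∧ e1 ≤ q.val ∧ q.val ≤ e2 ∧
        f = MvPolynomial.X p * MvPolynomial.X q} ∪
      {f : MvPolynomial (Fin (n + 1)) k | ∃ p q m : Fin (n + 1), e1 ≤ p.val ∧ p.val < q.val ∧ q.val ≤ e2 ∧
        m.val + k0 = n + 1 + q.val ∧ f = MvPolynomial.X p * MvPolynomial.X m}) =
      (fun a => MvPolynomial.monomial a (1 : k)) '' L := by
    rw [Set.image_union]
    congr 1 <;> ext f <;> simp only [Set.mem_ofPred_eq, Set.mem_image, hXX]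
    · exact ⟨fun ⟨p, q, a, b, c, d, e⟩ => ⟨_, ⟨p, q, a, b, c, d, rfl⟩, e.symm⟩,
        fun ⟨_, ⟨p, q, a, b, c, d, rfl⟩, e⟩ => ⟨p, q, a, b, c, d, e.symm⟩⟩
    · exact ⟨fun ⟨p, q, m, a, b, c, d, e⟩ => ⟨_, ⟨p, q, m, a, b, c, d, rfl⟩, e.symm⟩,
        fun ⟨_, ⟨p, q, m, a, b, c, d, rfl⟩, e⟩ => ⟨p, q, m, a, b, c, d, e.symm⟩⟩
  have hR : ∀ j : Fin (n + 1), ({f : MvPolynomial (Fin (n + 1)) k | ∃ i : Fin (n + 1), e1 ≤ i.val ∧ i.val ≤ e2 ∧ i ≠ j ∧ f = MvPolynomial.X i} ∪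
        {MvPolynomial.X j ^ 2} ∪
        {f : MvPolynomial (Fin (n + 1)) k | ∃ q m : Fin (n + 1), j.val < q.val ∧ q.val ≤ e2 ∧ m.val + k0 = n + 1 + q.val ∧
          f = MvPolynomial.X m}) = (fun a => MvPolynomial.monomial a (1 : k)) '' Rj j := by
    intro j
    rw [Set.image_union, Set.image_union, Set.image_singleton, hX2]
    congr 1
    · congr 1; ext f; simp only [Set.mem_ofPred_eq, Set.mem_image, hX]
      exact ⟨fun ⟨i, a, b, c, e⟩ => ⟨_, ⟨i, a, b, c, rfl⟩, e.symm⟩, fun ⟨_, ⟨i, a, b, c, rfl⟩, e⟩ => ⟨i, a, b, c, e.symm⟩⟩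
    · ext f; simp only [Set.mem_ofPred_eq, Set.mem_image, hX]
      exact ⟨fun ⟨q, m, a, b, c, e⟩ => ⟨_, ⟨q, m, a, b, c, rfl⟩, e.symm⟩, fun ⟨_, ⟨q, m, a, b, c, rfl⟩, e⟩ => ⟨q, m, a, b, c, e.symm⟩⟩
  rw [hL]
  simp only [hR]
  refine Ideal.ext fun f => ?_
  simp only [Submodule.mem_iInf, MvPolynomial.mem_ideal_span_monomial_image]
  exact ⟨fun h j hj β hβ => (key β).1 (h β hβ) j hj, fun h β hβ => (key β).2 fun j hj => h j hj β hβ⟩

end Groth.Agent.S13455
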