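import Groth.Statements.S13456
import Groth.Agent.Lib.GenFree.Presentation
import Groth.Agent.Lib.Fitting.Local
import Mathlib

set_option autoImplicit false
universe u
open W4c1hilbpn

namespace Groth.Agent.S13456

open scoped TensorProduct

/-- Finite projective of constant rank, through Fitting ideals. -/
lemma proj_rank_iff {B N : Type u} [CommRing B] [AddCommGroup N] [Module B N] [Module.Finite B N]
    [Module.FinitePresentation B N] (r : ℕ) :
    (Module.Projective B N ∧ ∀ p : PrimeSpectrum B, Module.rankAtStalk N p = r) ↔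
      ((∀ k, k < r → Fitt.ideal B N k = ⊥) ∧ Fitt.ideal B N r = ⊤) := by
  constructor
  · rintro ⟨hP, hr⟩
    haveI := hP
    have htop : Fitt.ideal B N r = ⊤ := by
      by_contra hne
      obtain ⟨m, hm, hle⟩ := Ideal.exists_le_maximal _ hne
      haveI := hm.isPrime
      refine (GrothLib.Fitting.not_le_iff_finrank_fiber_le (M := N) r m).2 (le_of_eq ?_) hle
      rw [← hr ⟨m, inferInstance⟩]
      exact Ideal.finrank_fiber_eq_rankAtStalk m
    refine ⟨fun k hk => (Submodule.eq_bot_iff _).2 fun d hd => ?_, htop⟩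
    by_contra hd0
    have hne : (⊥ : Ideal B).colon {d} ≠ ⊤ := fun h => hd0 (by
      simpa [Submodule.mem_colon_singleton] using (Ideal.eq_top_iff_one _).1 h)
    obtain ⟨m, hm, hle⟩ := Ideal.exists_le_maximal _ hne
    haveI := hm.isPrime
    haveI : Module.Free (Localization.AtPrime m) (LocalizedModule m.primeCompl N) :=
      Module.mem_freeLocus.1 ((Module.freeLocus_eq_univ (R := B) (M := N)) ▸ Set.mem_univ (⟨m, inferInstance⟩ : PrimeSpectrum B))
    let bb := (Module.finBasis (Localization.AtPrime m) (LocalizedModule m.primeCompl N)).reindex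
      (finCongr (hr ⟨m, inferInstance⟩))
    have h1 := GrothLib.Fitting.ideal_of_basis bb k
    rw [GrothLib.Fitting.ideal_localized m.primeCompl k, if_neg (by omega)] at h1
    have h2 := Ideal.mem_map_of_mem (algebraMap B (Localization.AtPrime m)) hd
    rw [h1, Ideal.mem_bot, IsLocalization.map_eq_zero_iff m.primeCompl] at h2
    obtain ⟨s, hs⟩ := h2
    exact s.2 (hle (Submodule.mem_colon_singleton.2 (by simpa using hs)))
  · rintro ⟨hlow, htop⟩
    have hproj : Module.Projective B N := by
      rw [← Module.freeLocus_eq_univ_iff, Set.eq_univ_iff_forall]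
      intro p
      obtain ⟨f, hf, hfree, -⟩ := GrothLib.Fitting.free_near_of_ideal_eq r hlow htop p.asIdeal
      haveI := hfree
      have hsub : (PrimeSpectrum.basicOpen f : Set (PrimeSpectrum B)) ⊆ Module.freeLocus B N :=
        Module.basicOpen_subset_freeLocus_iff.2 inferInstance
      exact hsub hf
    haveI := hproj
    refine ⟨hproj, fun p => ?_⟩
    rw [← Ideal.finrank_fiber_eq_rankAtStalk]
    refine le_antisymm ((GrothLib.Fitting.not_le_iff_finrank_fiber_le r p.asIdeal).1
      (by rw [htop]; exact fun h => p.2.ne_top (top_le_iff.1 h))) ?_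
    by_contra hlt
    push Not at hlt
    refine (GrothLib.Fitting.not_le_iff_finrank_fiber_le (M := N) _ p.asIdeal).2 le_rfl ?_
    rw [hlow _ hlt]
    exact bot_le

variable {A : Type u} [CommRing A] [IsNoetherianRing A]

/-- The set of Fitting ideals contained in a prime. -/
def pattern {ι : Type} (N : ι → Type u) [∀ v, AddCommGroup (N v)] [∀ v, Module A (N v)] (p : Ideal A) :
    Set (ι × ℕ) := {vk | Fitt.ideal A (N vk.1) vk.2 ≤ p}

lemma finite_patterns {ι : Type} (N : ι → Type u) [∀ v, AddCommGroup (N v)] [∀ v, Module A (N v)]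
    (hgen : ∀ I : Ideal A, I.IsPrime → ∃ f : A, f ∉ I ∧ ∀ p : Ideal A, p.IsPrime → I ≤ p → f ∉ p →
      pattern N p = pattern N I) :
    (pattern N '' {p : Ideal A | p.IsPrime}).Finite := by
  suffices ∀ I : Ideal A, (pattern N '' {p : Ideal A | p.IsPrime ∧ I ≤ p}).Finite by
    simpa using this ⊥
  intro I
  induction I using IsNoetherian.induction with
  | hgt I ih =>
  by_cases hI : Ideal.IsPrime I
  · obtain ⟨f, hf, heq⟩ := hgen I hI
    refine ((ih (I ⊔ Ideal.span {f}) (lt_of_le_of_ne le_sup_left fun h => hf (h ▸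
      Ideal.mem_sup_right (Ideal.mem_span_singleton_self f)))).union (Set.finite_singleton (pattern N I))).subset ?_
    rintro _ ⟨p, ⟨hp, hIp⟩, rfl⟩
    by_cases hfp : f ∈ p
    · exact Or.inl ⟨p, ⟨hp, sup_le hIp ((Ideal.span_singleton_le_iff_mem p).2 hfp)⟩, rfl⟩
    · exact Or.inr (heq p hp hIp hfp)
  · by_cases htop : I = ⊤
    · refine Set.Finite.subset Set.finite_empty ?_
      rintro _ ⟨p, ⟨hp, hIp⟩, -⟩
      exact hp.ne_top (top_le_iff.1 (htop ▸ hIp))
    · obtain ⟨a, ha, b, hb, hab⟩ := (Ideal.not_isPrime_iff.1 hI).resolve_left htop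
      have hlt : ∀ c, c ∉ I → I < I ⊔ Ideal.span {c} := fun c hc =>
        lt_of_le_of_ne le_sup_left fun h => hc (h ▸ Ideal.mem_sup_right (Ideal.mem_span_singleton_self c))
      refine ((ih _ (hlt a ha)).union (ih _ (hlt b hb))).subset ?_
      rintro _ ⟨p, ⟨hp, hIp⟩, rfl⟩
      rcases hp.mem_or_mem (hIp hab) with h | h
      · exact Or.inl ⟨p, ⟨hp, sup_le hIp ((Ideal.span_singleton_le_iff_mem p).2 h)⟩, rfl⟩
      · exact Or.inr ⟨p, ⟨hp, sup_le hIp ((Ideal.span_singleton_le_iff_mem p).2 h)⟩, rfl⟩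

lemma map_prod_top {B : Type u} [CommRing B] [Algebra A B] {ι : Type} (s : Finset ι) (J : ι → Ideal A) :
    (∏ i ∈ s, J i).map (algebraMap A B) = ⊤ ↔ ∀ i ∈ s, (J i).map (algebraMap A B) = ⊤ := by
  classical
  induction s using Finset.induction_on with
  | empty => simp [Ideal.one_eq_top, Ideal.map_top]
  | @insert a s ha ih =>
    rw [Finset.prod_insert ha, Ideal.map_mul, Finset.forall_mem_insert, ← ih]
    exact ⟨fun h => ⟨top_le_iff.1 (h ▸ Ideal.mul_le_left), top_le_iff.1 (h ▸ Ideal.mul_le_right)⟩,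
      fun ⟨h1, h2⟩ => by rw [h1, h2, Ideal.top_mul]⟩


open TensorProduct in
/-- Let A be a Noetherian ring, R a finitely generated graded A-algebra (graded by the integers), M a
finitely generated graded R-module and h a function from the integers to the natural numbers. Then
the functor sending an A-algebra B to the condition 'every graded piece of M ⊗_A B is a finitely
generated locally free B-module of rank h(v)' is represented by a locally closed subscheme of Spec
A: there are ideals a and b of A such that, for every A-algebra B, all B ⊗_A M_v are finitely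
generated projective of constant rank h(v) if and only if a generates the zero ideal of B and b
generates the unit ideal of B. (The graded pieces M_v are assumed finitely generated over A, as they
are when R is positively graded with degree-zero part finite over A; the published setup allows any
finitely generated graded algebra, where graded pieces need not be finitely generated over A. Test
algebras B range over one universe.) -/
theorem result
    (A : Type u) [CommRing A] [IsNoetherianRing A]
    (R : Type u) [CommRing R] [Algebra A R] [Algebra.FiniteType A R]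
    (𝒜 : ℤ → Submodule A R) [GradedAlgebra 𝒜]
    (M : Type u) [AddCommGroup M] [Module A M] [Module R M] [IsScalarTower A R M] [Module.Finite R M]
    (ℳ : ℤ → Submodule A M) [DirectSum.Decomposition ℳ] [SetLike.GradedSMul 𝒜 ℳ]
    (hfg : ∀ v : ℤ, Module.Finite A ↥(ℳ v)) (h : ℤ → ℕ) :
    ∃ a b : Ideal A, ∀ (B : Type u) [CommRing B] [Algebra A B],
      ((∀ v : ℤ, Module.Finite B (B ⊗[A] ↥(ℳ v)) ∧ Module.Projective B (B ⊗[A] ↥(ℳ v)) ∧
          ∀ p : PrimeSpectrum B, Module.rankAtStalk (B ⊗[A] ↥(ℳ v)) p = h v) ↔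
        (Ideal.map (algebraMap A B) a = ⊥ ∧ Ideal.map (algebraMap A B) b = ⊤)) := by
  classical
  haveI : ∀ v, Module.FinitePresentation A ↥(ℳ v) := fun v => Module.finitePresentation_of_finite A _
  let F : ℤ → ℕ → Ideal A := fun v k => Fitt.ideal A ↥(ℳ v) k
  have hgen : ∀ I : Ideal A, I.IsPrime → ∃ f : A, f ∉ I ∧ ∀ p : Ideal A, p.IsPrime → I ≤ p → f ∉ p →
      pattern (fun v => ↥(ℳ v)) p = pattern (fun v => ↥(ℳ v)) I := by
    intro I hI
    let A₁ := A ⧸ I
    let B₁ := A₁ ⊗[A] R
    letI : Algebra R B₁ := Algebra.TensorProduct.rightAlgebra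
    let M₁ := B₁ ⊗[R] M
    let eM : M₁ ≃ₗ[A₁] A₁ ⊗[A] M := Algebra.IsPushout.cancelBaseChange A A₁ R B₁ M
    obtain ⟨f₁, -, hf₁, hfree, -, -, -⟩ :=
      GrothLib.GenFree.exists_free_and_finitePresentation (R := A₁) B₁ M₁ 1 one_ne_zero
    obtain ⟨f, rfl⟩ := Ideal.Quotient.mk_surjective f₁
    have hf : f ∉ I := fun h => hf₁ (Ideal.Quotient.eq_zero_iff_mem.2 h)
    let L := Localization.Away (Ideal.Quotient.mk I f)
    haveI : Module.Free L (L ⊗[A₁] M₁) := hfree
    haveI : Module.Free L (L ⊗[A] M) := Module.Free.of_equiv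
      (((TensorProduct.AlgebraTensorModule.congr (LinearEquiv.refl L L) eM).trans
        (TensorProduct.AlgebraTensorModule.cancelBaseChange A A₁ L L M)))
    haveI : IsDomain L := IsLocalization.isDomain_localization
      (powers_le_nonZeroDivisors_of_noZeroDivisors hf₁)
    have hproj : ∀ v, Module.Projective L (L ⊗[A] ↥(ℳ v)) := fun v => by
      let i : ↥(ℳ v) →ₗ[A] M := (ℳ v).subtype
      let s : M →ₗ[A] ↥(ℳ v) :=
        (DirectSum.component A ℤ (fun j => ↥(ℳ j)) v).comp (DirectSum.decomposeLinearEquiv ℳ).toLinearMap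
      have hsi : s.comp i = LinearMap.id := LinearMap.ext fun x => Subtype.ext (by
        show ((DirectSum.decompose ℳ (x : M)) v : M) = x
        exact DirectSum.decompose_of_mem_same ℳ x.2)
      refine Module.Projective.of_split (i.baseChange L) (s.baseChange L) ?_
      rw [← LinearMap.baseChange_comp, hsi, LinearMap.baseChange_id]
    have hdich : ∀ v k, (F v k).map (algebraMap A L) = ⊥ ∨ (F v k).map (algebraMap A L) = ⊤ := by
      intro v k
      haveI := hproj v
      let q₀ : PrimeSpectrum L := ⟨⊥, Ideal.isPrime_bot⟩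
      have hconst : ∀ q : PrimeSpectrum L, Module.rankAtStalk (L ⊗[A] ↥(ℳ v)) q =
          Module.rankAtStalk (L ⊗[A] ↥(ℳ v)) q₀ := fun q =>
        (Module.rankAtStalk_eq_of_le_of_finite_of_flat _ (show q₀ ≤ q from (bot_le : (⊥ : Ideal L) ≤ q.asIdeal))).symm
      obtain ⟨hlow, htop⟩ := (proj_rank_iff _).1 ⟨hproj v, hconst⟩
      rw [show (F v k).map (algebraMap A L) = Fitt.ideal L (L ⊗[A] ↥(ℳ v)) k from
        (GrothLib.Fitting.ideal_baseChange L k).symm]
      rcases lt_or_ge k (Module.rankAtStalk (L ⊗[A] ↥(ℳ v)) q₀) with hk | hk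
      · exact Or.inl (hlow k hk)
      · exact Or.inr (top_le_iff.1 (htop ▸ GrothLib.Fitting.ideal_mono hk))
    have key : ∀ p : Ideal A, p.IsPrime → I ≤ p → f ∉ p → ∀ v k, (F v k ≤ p ↔ (F v k).map (algebraMap A L) = ⊥) := by
      intro p hp hIp hfp v k
      constructor
      · intro hle
        rcases hdich v k with h | h
        · exact h
        · exfalso
          rw [IsScalarTower.algebraMap_eq A A₁ L, ← Ideal.map_map,
            GrothLib.Fitting.map_eq_top_iff (Submonoid.powers (Ideal.Quotient.mk I f))] at h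
          obtain ⟨x, ⟨j, rfl⟩, hx⟩ := Set.not_disjoint_iff.1 h
          rw [SetLike.mem_coe, Ideal.Quotient.algebraMap_eq, Ideal.mem_map_iff_of_surjective _ Ideal.Quotient.mk_surjective] at hx
          obtain ⟨y, hy, hyx⟩ := hx
          change Ideal.Quotient.mk I y = (Ideal.Quotient.mk I f) ^ j at hyx
          rw [← map_pow, Ideal.Quotient.eq] at hyx
          exact hfp (hp.mem_of_pow_mem j (by simpa using p.sub_mem (hle hy) (hIp hyx)))
      · intro h x hx
        have h1 := Ideal.mem_map_of_mem (algebraMap A L) hx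
        rw [h, Ideal.mem_bot, IsScalarTower.algebraMap_apply A A₁ L,
          IsLocalization.map_eq_zero_iff (Submonoid.powers (Ideal.Quotient.mk I f))] at h1
        obtain ⟨⟨_, j, rfl⟩, hj⟩ := h1
        change (Ideal.Quotient.mk I f) ^ j * Ideal.Quotient.mk I x = 0 at hj
        rw [← map_pow, ← map_mul, Ideal.Quotient.eq_zero_iff_mem] at hj
        exact (hp.mem_or_mem (hIp hj)).resolve_left fun h' => hfp (hp.mem_of_pow_mem j h')
    refine ⟨f, hf, fun p hp hIp hfp => ?_⟩
    ext ⟨v, k⟩
    exact (key p hp hIp hfp v k).trans (key I hI le_rfl hf v k).symm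
  have hfin := finite_patterns (fun v => ↥(ℳ v)) hgen
  let wit : Set (ℤ × ℕ) → ℤ := fun P => if hP : ∃ v, (v, h v) ∈ P then hP.choose else 0
  let S : Finset ℤ := (hfin.image wit).toFinset
  refine ⟨⨆ v : ℤ, ⨆ k : ℕ, ⨆ _ : k < h v, F v k, ∏ v ∈ S, F v (h v), fun B _ _ => ?_⟩
  haveI : ∀ v, Module.FinitePresentation B (B ⊗[A] ↥(ℳ v)) := fun v => inferInstance
  have hiff : ∀ v, (Module.Finite B (B ⊗[A] ↥(ℳ v)) ∧ Module.Projective B (B ⊗[A] ↥(ℳ v)) ∧
      ∀ p : PrimeSpectrum B, Module.rankAtStalk (B ⊗[A] ↥(ℳ v)) p = h v) ↔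
      ((∀ k, k < h v → (F v k).map (algebraMap A B) = ⊥) ∧ (F v (h v)).map (algebraMap A B) = ⊤) := by
    intro v
    simp only [F, ← GrothLib.Fitting.ideal_baseChange B]
    exact ⟨fun ⟨_, h⟩ => (proj_rank_iff _).1 h, fun h => ⟨inferInstance, (proj_rank_iff _).2 h⟩⟩
  constructor
  · intro hall
    refine ⟨?_, ?_⟩
    · simp only [Ideal.map_iSup, iSup_eq_bot]
      exact fun v k hk => ((hiff v).1 (hall v)).1 k hk
    · rw [map_prod_top]
      exact fun v _ => ((hiff v).1 (hall v)).2
  · rintro ⟨ha, hb⟩ v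
    simp only [Ideal.map_iSup, iSup_eq_bot] at ha
    rw [map_prod_top] at hb
    refine (hiff v).2 ⟨fun k hk => ha v k hk, ?_⟩
    by_contra hne
    obtain ⟨q, hq, hle⟩ := Ideal.exists_le_maximal _ hne
    haveI := hq.isPrime
    let p := q.comap (algebraMap A B)
    have hp : p.IsPrime := inferInstance
    have hvP : ∃ v, (v, h v) ∈ pattern (fun v => ↥(ℳ v)) p := ⟨v, Ideal.map_le_iff_le_comap.1 hle⟩
    have hS : wit (pattern (fun v => ↥(ℳ v)) p) ∈ S :=
      Set.Finite.mem_toFinset _ |>.2 ⟨_, ⟨p, hp, rfl⟩, rfl⟩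
    have hwit : (wit (pattern (fun v => ↥(ℳ v)) p), h (wit (pattern (fun v => ↥(ℳ v)) p))) ∈
        pattern (fun v => ↥(ℳ v)) p := by
      simp only [wit, dif_pos hvP]
      exact hvP.choose_spec
    have h3 := hb _ hS
    exact hq.ne_top (top_le_iff.1 (h3 ▸ Ideal.map_le_iff_le_comap.2 hwit))

end Groth.Agent.S13456
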