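import Groth.Statements.S13457
import Groth.Agent.Lib.CurveMult.OmegaField

set_option autoImplicit false
universe u
open CategoryTheory CategoryTheory.Limits AlgebraicGeometry
open Curves

namespace Groth.Agent.S13457

/-- Let k be a field and C a smooth proper geometrically connected curve over k (proper, smooth and
geometrically connected over k, of dimension one), of genus g = dim_k H^1(C, O_C). Let L be an
invertible O_C-module of degree 2g − 2, the degree of an invertible module being χ(L) − χ(O_C), such
that dim_k H^0(C, L) ≥ g. Then L is isomorphic to the sheaf of differentials Ω_{C/k} (existence of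
an isomorphism; no particular map is singled out). (The published statement takes C projective; this
row takes C proper over k.) -/
theorem result (k : Type u) [Field k] (C : Scheme.{u}) [C.Over (Spec (CommRingCat.of k))]
    [IsProper (C ↘ (Spec (CommRingCat.of k)))] [Smooth (C ↘ (Spec (CommRingCat.of k)))] [GeometricallyConnected (C ↘ (Spec (CommRingCat.of k)))]
    (hdim : topologicalKrullDim C = 1) (L : C.Modules) (hL : PicF.IsInvertible L)
    (hdeg : Curv2.deg k C L 1 = 2 * (Curv2.genus k C : ℤ) - 2)
    (hh0 : Curv2.genus k C ≤ Module.finrank k (Coh.HH C L 0)) :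
    Nonempty (L ≅ Omega.sheaf (C ↘ (Spec (CommRingCat.of k)))) := by
  obtain ⟨hint, h0⟩ := GrothLib.CurveMult.OmegaField.integral_and_h0 k C
  haveI := hint
  haveI := GrothLib.CurveRR.regCurve_of_smooth (C ↘ (Spec (CommRingCat.of k))) hdim
  have hK := GrothLib.CurveRR.isFunctionField k h0
  have hgen := GrothLib.CurveRR.genus_eq k h0
  obtain ⟨W, hW, ⟨eW⟩⟩ := GrothLib.CurveMult.OmegaField.exists_iso_canonical k hdim h0
  obtain ⟨D, ⟨eD⟩⟩ := GrothLib.CurveRR.exists_iso_oD k hL
  rw [GrothLib.Euler.deg_of_iso k eD, GrothLib.CurveRR.deg_oD] at hdeg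
  rw [(GrothLib.Euler.hhEquiv (A := k) eD 0).finrank_eq, GrothLib.CurveRR.finrank_H0_oD] at hh0
  obtain ⟨e⟩ := GrothLib.CurveMult.DivIso.nonempty_iso_of_sub_mem k
    (GrothLib.FunFld.sub_mem_prinDivs_of_canonical hK hW (A := D) (by omega) (by omega))
  exact ⟨eD ≪≫ e ≪≫ eW.symm⟩

end Groth.Agent.S13457
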