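import Groth.Statements.S13459
import Groth.Agent.Lib.CurveMult.SurfCurveDeg

set_option autoImplicit false
set_option linter.all false
universe u
open CategoryTheory CategoryTheory.Limits AlgebraicGeometry
open Surf

namespace Groth.Agent.S13459

/-- Let k be a field and S an integral surface (dimension two) which is smooth over k and projective (a
closed immersion into some P^n_k over k). Let i : C → S be the closed immersion of an integral curve
(dimension one) all of whose local rings are regular, with ideal sheaf I ⊆ O_S, and let L be an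
invertible O_S-module with an inverse L' (L ⊗ L' ≅ O_S). Then the intersection number of O_S(C) with
L, namely the alternating sum χ(O_S) − χ(I) − χ(L') + χ(I ⊗ L') formed with the inverses I = O_S(−C)
and L' (packaged as FGA.intNum), equals the degree of the restriction of L to C, the degree of a
module M on C being χ(M) − χ(O_C). -/
theorem result (k : Type u) [Field k] (S : Scheme.{u}) [S.Over (Spec (CommRingCat.of k))]
    [IsIntegral S] (hdim : topologicalKrullDim S = 2) [Smooth (S ↘ (Spec (CommRingCat.of k)))]
    (hproj : ∃ (n : ℕ) (ι : S ⟶ CohB1.ProjSpace n k), IsClosedImmersion ι ∧ ι ≫ CohB1.ProjSpace.toSpec n k = (S ↘ (Spec (CommRingCat.of k))))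
    (C : Scheme.{u}) (i : C ⟶ S) [IsClosedImmersion i] [IsIntegral C] (hC : topologicalKrullDim C = 1)
    (hCreg : ∀ c : C, IsRegularLocalRing (C.presheaf.stalk c))
    (L L' : S.Modules) (hL : PicF.IsInvertible L) (hLL' : Nonempty (CohB1.tensorMod L L' ≅ Coh.structureModule S)) :
    letI : C.Over (Spec (CommRingCat.of k)) := ⟨i ≫ (S ↘ (Spec (CommRingCat.of k)))⟩
    FGA.intNum k S 2 ![ClSub.idealMod i.ker, L'] (Coh.structureModule S) =
      Curv2.deg k C ((Scheme.Modules.pullback i).obj L) 1 := by
  letI : C.Over (Spec (CommRingCat.of k)) := ⟨i ≫ (S ↘ (Spec (CommRingCat.of k)))⟩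
  obtain ⟨n, ι, hι, he⟩ := hproj
  haveI := hι
  haveI := GrothLib.HodgeIndex.isProper_of_proj ι he
  haveI : IsProper (C ↘ Spec (CommRingCat.of k)) := inferInstanceAs (IsProper (i ≫ _))
  have hA := GrothLib.HodgeIndex.isAmple_hyperplane ι
  obtain ⟨e⟩ := hLL'
  have hL' : PicF.IsInvertible L' := GrothLib.Seesaw26.isInvertible_of_tensor_iso e hL
  rw [GrothLib.CurveMult.intNum_ker_eq k hdim hA i hC hL']
  have hp := GrothLib.Ample.isInvertible_pullback i hL
  have hp' := GrothLib.Ample.isInvertible_pullback i hL'
  have h := GrothLib.CurveMult.deg_tensorMod k (X := C) hC.le hp hp'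
  replace h := (GrothLib.Euler.deg_of_iso k (GrothLib.OX.pullTensorIso i L L') 1).trans h
  erw [GrothLib.Euler.deg_of_iso k ((Scheme.Modules.pullback i).mapIso e),
    GrothLib.Euler.deg_of_iso k (GrothLib.Ample.nonempty_pullback_structureModule i).some,
    GrothLib.Euler.deg_structure k] at h
  linarith

end Groth.Agent.S13459
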