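import Groth.Statements.S1346
import Groth.Agent.Lib.CMMor6.BaseChange
-- import your own Groth.Agent.* helpers here

set_option autoImplicit false
universe u
open FlatMor

namespace Groth.Agent.S1346

open AlgebraicGeometry CategoryTheory Limits in
/-- Let f have locally Noetherian fibres and let f' be its base change along a morphism locally of
finite type. Given a point x' with image x, flatness of f at x together with the Cohen–Macaulay
property of f' at x' implies that f is Cohen–Macaulay at x. -/
theorem result {X Y X' Y' : Scheme.{u}} (f : X ⟶ Y) (hN : ∀ y : Y, IsLocallyNoetherian (f.fiber y))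
    (f' : X' ⟶ Y') (g' : X' ⟶ X) (g : Y' ⟶ Y) [LocallyOfFiniteType g] (hc : IsPullback g' f' f g) (x' : X')
    (hflat : (f.stalkMap (g' x')).hom.Flat) (h : MoreMor.IsCMAt f' x') : MoreMor.IsCMAt f (g' x') := by
    rw [GrothLib.CMMor6.isCMAt_iff] at h ⊢
    exact ⟨hflat, (GrothLib.CMMor6.isCMAt_baseChange_iff hN hc x').1 h.2⟩

end Groth.Agent.S1346
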