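import Groth.Statements.S13460
import Mathlib


set_option autoImplicit false
universe u
open CategoryTheory CategoryTheory.Limits AlgebraicGeometry TopologicalSpace
open WDiv

namespace Groth.Agent.S13460

theorem ord_algebraMap {A : CommRingCat.{u}} [IsDomain A] [IsNoetherianRing A] {x : ↥(Spec A)}
    (hx : Order.coheight x = 1) {π : A} (hπ : Prime π) :
    Scheme.ord (algebraMap A ↑(Spec A).functionField π) x =
      haveI := Classical.propDecidable; if x.asIdeal = Ideal.span {π} then 1 else 0 := by
  classical
  let R := (Spec A).presheaf.stalk x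
  let _ : Algebra A R := StructureSheaf.stalkAlgebra A x
  haveI : IsLocalization.AtPrime R x.asIdeal := StructureSheaf.IsLocalization.to_stalk A x
  haveI hd : Ring.KrullDimLE 1 R := krullDimLE_of_coheight_le hx.le
  have hne : algebraMap A R π ≠ 0 := fun h => hπ.ne_zero
    (IsLocalization.injective R x.asIdeal.primeCompl_le_nonZeroDivisors (h.trans (map_zero _).symm))
  have htower : algebraMap A ↑(Spec A).functionField π =
      algebraMap R ↑(Spec A).functionField (algebraMap A R π) :=
    (ConcreteCategory.congr_hom (StructureSheaf.toStalk_stalkSpecializes (genericPoint_specializes x)) π).symm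
  have hne' : algebraMap A ↑(Spec A).functionField π ≠ 0 := by
    rw [htower]
    exact fun h => hne (IsFractionRing.injective R _ (h.trans (map_zero _).symm))
  rw [Scheme.ord_eq_iff hx hne', Scheme.ordHom, htower, Ring.ordFrac_eq_ord _ hne]
  split_ifs with h
  · have hord : Ring.ord R (algebraMap A R π) = 1 := by
      rw [Ring.ord, Module.length_eq_one_iff]
      have hmax : (Ideal.span {algebraMap A R π}).IsMaximal := by
        rw [← Set.image_singleton (f := algebraMap A R), ← Ideal.map_span, ← h,
          IsLocalization.AtPrime.map_eq_maximalIdeal x.asIdeal R]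
        exact IsLocalRing.maximalIdeal.isMaximal R
      rw [isSimpleModule_iff_isSimpleModule_of_algebraMap_surjective (S := R ⧸ Ideal.span {algebraMap A R π})
        Ideal.Quotient.mk_surjective]
      let := Ideal.Quotient.field (Ideal.span {algebraMap A R π})
      exact instIsSimpleModule _
    rw [Ring.ordMonoidWithZeroHom_eq_ord (mem_nonZeroDivisors_of_ne_zero hne), hord]
    rfl
  · have hu : IsUnit (algebraMap A R π) := by
      refine IsLocalization.map_units R (⟨π, fun hm => h ?_⟩ : x.asIdeal.primeCompl)
      have hp : (Ideal.span {π}).IsPrime := (Ideal.span_singleton_prime hπ.ne_zero).mpr hπ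
      refine (eq_of_le_of_not_lt ((Ideal.span_singleton_le_iff_mem x.asIdeal).mpr hm) fun hlt => ?_).symm
      have hh : x.asIdeal.height = 1 := (idealHeight_eq_coheight A x).trans hx
      haveI := hp; have h1 := Ideal.height_strict_mono_of_isPrime hlt
      rw [hh, Order.lt_one_iff_nonpos, nonpos_iff_eq_zero, Ideal.height_eq_zero_iff, IsDomain.minimalPrimes_eq_singleton_bot,
        Set.mem_singleton_iff, Ideal.span_singleton_eq_bot] at h1
      exact hπ.ne_zero h1
    rw [Ring.ordMonoidWithZeroHom_eq_ord (mem_nonZeroDivisors_of_ne_zero hne), Ring.ord_of_isUnit hu]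
    rfl

theorem main {A : CommRingCat.{u}} [IsDomain A] [IsNoetherianRing A] [UniqueFactorizationMonoid A]
    (D : ↥(Spec A) → ℤ) (hD : ∀ x, Order.coheight x ≠ 1 → D x = 0) (hfin : {x | D x ≠ 0}.Finite) :
    ∃ f : ↑(Spec A).functionField, f ≠ 0 ∧
      ∀ x : ↥(Spec A), Order.coheight x = 1 → Scheme.ord f x = D x := by
  classical
  have hprime : ∀ x : ↥(Spec A), Order.coheight x = 1 → ∃ π : A, Prime π ∧ x.asIdeal = Ideal.span {π} := by
    intro x hx
    have hh : x.asIdeal.height = 1 := (idealHeight_eq_coheight A x).trans hx
    have hne : x.asIdeal ≠ ⊥ := fun h => by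
      rw [h, Ideal.height_bot] at hh
      exact zero_ne_one hh
    obtain ⟨π, hπm, hπ⟩ := x.2.exists_mem_prime_of_ne_bot hne
    refine ⟨π, hπ, ?_⟩
    have hp : (Ideal.span {π}).IsPrime := (Ideal.span_singleton_prime hπ.ne_zero).mpr hπ
    refine (eq_of_le_of_not_lt ((Ideal.span_singleton_le_iff_mem x.asIdeal).mpr hπm) fun hlt => ?_).symm
    haveI := hp; have h1 := Ideal.height_strict_mono_of_isPrime hlt
    rw [hh, Order.lt_one_iff_nonpos, nonpos_iff_eq_zero, Ideal.height_eq_zero_iff, IsDomain.minimalPrimes_eq_singleton_bot,
      Set.mem_singleton_iff, Ideal.span_singleton_eq_bot] at h1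
    exact hπ.ne_zero h1
  choose! π hπ hπs using hprime
  have hπK : ∀ z, Order.coheight z = 1 → algebraMap A ↑(Spec A).functionField (π z) ≠ 0 := fun z hz h =>
    (hπ z hz).ne_zero (IsFractionRing.injective A ↑(Spec A).functionField (h.trans (map_zero _).symm))
  have hS : ∀ z ∈ hfin.toFinset, Order.coheight z = 1 := fun z hz => by
    by_contra hc
    exact (hfin.mem_toFinset.mp hz) (hD z hc)
  have hpow : ∀ (x : ↥(Spec A)) (f : ↑(Spec A).functionField), f ≠ 0 → ∀ n : ℤ, Scheme.ord (f ^ n) x = n * Scheme.ord f x := by
    intro x f hf n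
    have h1 : Scheme.ord (1 : ↑(Spec A).functionField) x = 0 := by
      have := Scheme.ord_mul (x := x) (one_ne_zero (α := ↑(Spec A).functionField)) (one_ne_zero (α := ↑(Spec A).functionField))
      rw [one_mul] at this
      omega
    induction n using Int.induction_on with
    | zero => simp [h1]
    | succ m ih => rw [zpow_add_one₀ hf, Scheme.ord_mul (zpow_ne_zero _ hf) hf, ih]; ring
    | pred m ih =>
      have h2 := Scheme.ord_mul (x := x) (zpow_ne_zero (-(m : ℤ) - 1) hf) hf
      rw [← zpow_add_one₀ hf, sub_add_cancel, ih] at h2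
      linarith
  refine ⟨∏ z ∈ hfin.toFinset, algebraMap A ↑(Spec A).functionField (π z) ^ D z,
    Finset.prod_ne_zero_iff.mpr fun z hz => zpow_ne_zero _ (hπK z (hS z hz)), fun x hx => ?_⟩
  have hsum : ∀ s : Finset ↥(Spec A), s ⊆ hfin.toFinset →
      Scheme.ord (∏ z ∈ s, algebraMap A ↑(Spec A).functionField (π z) ^ D z) x = ∑ z ∈ s, if x = z then D z else 0 := by
    intro s hs
    induction s using Finset.induction_on with
    | empty =>
      have := Scheme.ord_mul (x := x) (one_ne_zero (α := ↑(Spec A).functionField)) (one_ne_zero (α := ↑(Spec A).functionField))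
      rw [one_mul] at this
      simp only [Finset.prod_empty, Finset.sum_empty]
      omega
    | insert a s has ih =>
      rw [Finset.insert_subset_iff] at hs
      rw [Finset.prod_insert has, Finset.sum_insert has, Scheme.ord_mul (zpow_ne_zero _ (hπK a (hS a hs.1)))
        (Finset.prod_ne_zero_iff.mpr fun z hz => zpow_ne_zero _ (hπK z (hS z (hs.2 hz)))), ih hs.2,
        hpow x _ (hπK a (hS a hs.1)), ord_algebraMap hx (hπ a (hS a hs.1)), ← hπs a (hS a hs.1)]
      congr 1
      by_cases hxa : x = a
      · simp [hxa]
      · rw [if_neg hxa, if_neg fun h => hxa (PrimeSpectrum.ext h), mul_zero]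
  rw [hsum _ subset_rfl, Finset.sum_ite_eq]
  split_ifs with h
  · rfl
  · exact (not_not.mp fun hne => h (hfin.mem_toFinset.mpr hne)).symm

/-- Let A be a Noetherian integral domain which is a unique factorization domain, and X = Spec A. Then
the divisor class group of X vanishes: every Weil divisor D on X, an integer-valued function on the
points of X with finite support inside the points of coheight 1 (codimension one), is the divisor of
a nonzero rational function f on X, i.e. the order of vanishing of f at every point x of coheight 1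
is D(x). (The published statement assumes only that A is a unique factorization domain; this row
also assumes A Noetherian.) -/
theorem result (A : Type u) [CommRing A] [IsDomain A] [IsNoetherianRing A]
    [UniqueFactorizationMonoid A]
    (D : ↥(Spec (CommRingCat.of A)) → ℤ) (hD : ∀ x, Order.coheight x ≠ 1 → D x = 0) (hfin : {x | D x ≠ 0}.Finite) :
    ∃ f : ↑(Spec (CommRingCat.of A)).functionField, f ≠ 0 ∧
      ∀ x : ↥(Spec (CommRingCat.of A)), Order.coheight x = 1 → Scheme.ord f x = D x := by
  exact main (A := CommRingCat.of A) D hD hfin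

end Groth.Agent.S13460
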