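import Groth.Statements.S13469
import Groth.Agent.Lib.Repr.AffHom
import Groth.Agent.Lib.Repr.CharSheaf
import Groth.Agent.Lib.Hopf.GroupLikeNorm
import Mathlib.GroupTheory.Finiteness
import Mathlib.GroupTheory.FiniteAbelian.Basic
import Mathlib.AlgebraicGeometry.Group.Affine
-- import your own Groth.Agent.* helpers here

set_option autoImplicit false
universe u
open GmDual

namespace Groth.Agent.S13469

open CategoryTheory AlgebraicGeometry MonObj in
/-- Let k be a field and i : H → G a homomorphism of affine commutative k-group schemes of finite type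
which is a closed immersion. Then the restriction map Ĝ(k) → Ĥ(k) on characters defined over k
(morphisms of abelian sheaves on the big fppf site of Spec k from the sheaf of points to the
multiplicative group, restricted along i) has finite cokernel: its image is a subgroup of finite
index. -/
theorem result (k : Type u) [Field k]
    (H G : Over (Spec (CommRingCat.of k))) [GrpObj H] [IsCommMonObj H] [GrpObj G] [IsCommMonObj G]
    [IsAffine H.left] [LocallyOfFiniteType H.hom] [IsAffine G.left] [LocallyOfFiniteType G.hom]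
    (i : H ⟶ G) [IsMonHom i] [IsClosedImmersion i.left] :
    (Preadditive.leftComp (CGrpSh2.Gm Scheme.fppfPrecoverage (Spec (CommRingCat.of k)))
      (CGrpSh.ptsMap Scheme.fppfPrecoverage i)).range.FiniteIndex := by
  obtain ⟨B', ⟨eG⟩⟩ := (essImage_hopfSpec (R := CommRingCat.of k) (G := Grp.mk G)).2 ‹IsAffine G.left›
  obtain ⟨B, rfl⟩ : ∃ B, Opposite.op B = B' := ⟨B'.unop, rfl⟩
  obtain ⟨C', ⟨eH⟩⟩ := (essImage_hopfSpec (R := CommRingCat.of k) (G := Grp.mk H)).2 ‹IsAffine H.left›
  obtain ⟨C, rfl⟩ : ∃ C, Opposite.op C = C' := ⟨C'.unop, rfl⟩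
  let iG : GrothLib.Repr.Aff k (B : Type u) ≅ G := (Grp.forget _).mapIso eG
  let iH : GrothLib.Repr.Aff k (C : Type u) ≅ H := (Grp.forget _).mapIso eH
  haveI : IsMonHom iG.hom := eG.hom.hom.isMonHom_hom
  haveI : IsMonHom iG.inv := eG.inv.hom.isMonHom_hom
  haveI : IsMonHom iH.hom := eH.hom.hom.isMonHom_hom
  haveI : IsMonHom iH.inv := eH.inv.hom.isMonHom_hom
  haveI := GrothLib.Repr.isCocomm_of_comm (k := k) (B := (B : Type u)) fun T a b => (cancel_mono iG.hom).1 (by
    rw [MonObj.mul_comp, MonObj.mul_comp]; exact mul_comm _ _)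
  haveI := GrothLib.Repr.isCocomm_of_comm (k := k) (B := (C : Type u)) fun T a b => (cancel_mono iH.hom).1 (by
    rw [MonObj.mul_comp, MonObj.mul_comp]; exact mul_comm _ _)
  obtain ⟨π, hπ⟩ := GrothLib.Repr.exists_bialgHom (iH.hom ≫ i ≫ iG.inv)
  have hsurj : Function.Surjective π := by
    haveI : IsIso iH.hom.left := inferInstanceAs (IsIso ((Over.forget _).map iH.hom))
    haveI : IsIso iG.inv.left := inferInstanceAs (IsIso ((Over.forget _).map iG.inv))
    have h : IsClosedImmersion (iH.hom ≫ i ≫ iG.inv).left := by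
      rw [Over.comp_left, Over.comp_left]; infer_instance
    rw [hπ] at h
    obtain ⟨I, e, he⟩ := (IsClosedImmersion.Spec_iff (f := Spec.map (CommRingCat.ofHom (π : (B : Type u) →ₐ[k] C).toRingHom))).1 h
    obtain ⟨σ, hσ⟩ := Spec.map_surjective e.hom
    obtain ⟨τ, hτ⟩ := Spec.map_surjective e.inv
    have hτσ : τ ≫ σ = 𝟙 _ := Spec.map_injective (by rw [Spec.map_comp, hσ, hτ, Spec.map_id, e.hom_inv_id])
    rw [← hσ, ← Spec.map_comp] at he
    intro c
    obtain ⟨b, hb⟩ := Ideal.Quotient.mk_surjective (τ.hom c)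
    refine ⟨b, (congr($(Spec.map_injective he).hom b)).trans ?_⟩
    change σ.hom (Ideal.Quotient.mk I b) = c
    rw [hb]
    exact congr($(hτσ).hom c)
  haveI : Algebra.FiniteType k (C : Type u) := by
    haveI : IsIso iH.hom.left := inferInstanceAs (IsIso ((Over.forget _).map iH.hom))
    have h : LocallyOfFiniteType (iH.hom.left ≫ H.hom) := inferInstance
    rw [Over.w iH.hom] at h
    have h' : LocallyOfFiniteType (Spec.map (CommRingCat.ofHom (algebraMap k (C : Type u)))) := h
    rw [HasRingHomProperty.Spec_iff (P := @LocallyOfFiniteType)] at h'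
    exact RingHom.finiteType_algebraMap.mp h'
  let e : (C : Type u)ˣ ≃* (GrothLib.Repr.Aff k (C : Type u) ⟶ Red.Gm (Spec (CommRingCat.of k))) :=
    GrothLib.Repr.gmPt k
  have hgl : ∀ φ : CGrpSh.pts Scheme.fppfPrecoverage H ⟶ CGrpSh2.Gm Scheme.fppfPrecoverage (Spec (CommRingCat.of k)),
      IsGroupLikeElem k ((e.symm (iH.hom ≫ GrothLib.Repr.CharSheaf.univ φ) : (C : Type u)ˣ) : (C : Type u)) := by
    intro φ
    haveI := GrothLib.Repr.CharSheaf.isMonHom_univ φ
    haveI : IsMonHom (GrothLib.Repr.charOfUnit (k := k) (e.symm (iH.hom ≫ GrothLib.Repr.CharSheaf.univ φ))) := by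
      rw [show GrothLib.Repr.charOfUnit (k := k) (e.symm (iH.hom ≫ GrothLib.Repr.CharSheaf.univ φ)) =
        iH.hom ≫ GrothLib.Repr.CharSheaf.univ φ from e.apply_symm_apply _]
      infer_instance
    exact GrothLib.Repr.isGroupLike_of_isMonHom _
  let Θ : (CGrpSh.pts Scheme.fppfPrecoverage H ⟶ CGrpSh2.Gm Scheme.fppfPrecoverage (Spec (CommRingCat.of k))) →+
      Additive (GroupLike k (C : Type u)) :=
    AddMonoidHom.mk' (fun φ => Additive.ofMul ⟨_, hgl φ⟩) fun φ ψ => congrArg Additive.ofMul (GroupLike.val_injective (by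
      change _ = ((_ : (C : Type u)ˣ) : (C : Type u)) * ((_ : (C : Type u)ˣ) : (C : Type u))
      rw [← Units.val_mul, ← map_mul, ← MonObj.comp_mul]
      rfl))
  have hΘ : Function.Injective Θ := fun φ ψ h => GrothLib.Repr.CharSheaf.hom_ext ((cancel_epi iH.hom).1
    (e.symm.injective (Units.ext (congrArg (fun t => (Additive.toMul t).val) h))))
  haveI : Group.FG (GroupLike k (C : Type u)) := GrothLib.Hopf.GroupLikeNorm.fg_groupLike
  haveI : AddGroup.FG (Additive (GroupLike k (C : Type u))) := inferInstance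
  haveI : Module.Finite ℤ (Additive (GroupLike k (C : Type u))) := Module.Finite.iff_addGroup_fg.mpr inferInstance
  haveI : Module.Finite ℤ (CGrpSh.pts Scheme.fppfPrecoverage H ⟶ CGrpSh2.Gm Scheme.fppfPrecoverage (Spec (CommRingCat.of k))) :=
    Module.Finite.of_injective Θ.toIntLinearMap hΘ
  haveI : AddGroup.FG (CGrpSh.pts Scheme.fppfPrecoverage H ⟶ CGrpSh2.Gm Scheme.fppfPrecoverage (Spec (CommRingCat.of k))) :=
    Module.Finite.iff_addGroup_fg.mp inferInstance
  refine ⟨?_⟩
  let R := (Preadditive.leftComp (CGrpSh2.Gm Scheme.fppfPrecoverage (Spec (CommRingCat.of k))) (CGrpSh.ptsMap Scheme.fppfPrecoverage i)).range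
  have htors : AddMonoid.IsTorsion ((CGrpSh.pts Scheme.fppfPrecoverage H ⟶ CGrpSh2.Gm Scheme.fppfPrecoverage (Spec (CommRingCat.of k))) ⧸ R) := by
    intro q
    obtain ⟨φ, rfl⟩ := QuotientAddGroup.mk_surjective q
    obtain ⟨d, hd, y, hy, hyd⟩ := GrothLib.Hopf.GroupLikeNorm.exists_pow_lift π hsurj (hgl φ)
    let v : (B : Type u)ˣ := hy.isUnit.unit
    haveI := GrothLib.Repr.isMonHom_charOfUnit v (show IsGroupLikeElem k (v : (B : Type u)) from hy)
    let χ : G ⟶ Red.Gm (Spec (CommRingCat.of k)) := iG.inv ≫ GrothLib.Repr.charOfUnit v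
    haveI : IsMonHom χ := inferInstance
    refine isOfFinAddOrder_iff_nsmul_eq_zero.mpr ⟨d, hd, ?_⟩
    rw [← QuotientAddGroup.mk_nsmul, QuotientAddGroup.eq_zero_iff]
    refine ⟨CGrpSh.ptsMap Scheme.fppfPrecoverage χ, hΘ ?_⟩
    rw [map_nsmul]
    refine congrArg Additive.ofMul (GroupLike.val_injective ?_)
    change ((e.symm (iH.hom ≫ GrothLib.Repr.CharSheaf.univ (CGrpSh.ptsMap Scheme.fppfPrecoverage i ≫
      CGrpSh.ptsMap Scheme.fppfPrecoverage χ)) : (C : Type u)ˣ) : (C : Type u)) = _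
    rw [GrothLib.Repr.CharSheaf.univ_comp, GrothLib.Repr.CharSheaf.univ_ptsMap]
    have h2 : iH.hom ≫ i ≫ χ = e (Units.map ((π : (B : Type u) →ₐ[k] C) : (B : Type u) →* C) v) := by
      calc iH.hom ≫ i ≫ iG.inv ≫ GrothLib.Repr.charOfUnit v
          = (iH.hom ≫ i ≫ iG.inv) ≫ GrothLib.Repr.charOfUnit v := by simp only [Category.assoc]
        _ = _ := by rw [hπ]; exact GrothLib.Repr.ptMap_charOfUnit _ v
    rw [h2, e.symm_apply_apply]
    refine hyd.trans ?_
    simp
    rfl
  haveI : Finite ((CGrpSh.pts Scheme.fppfPrecoverage H ⟶ CGrpSh2.Gm Scheme.fppfPrecoverage (Spec (CommRingCat.of k))) ⧸ R) :=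
    AddCommGroup.finite_of_fg_torsion _ htors
  exact AddSubgroup.index_ne_zero_of_finite

end Groth.Agent.S13469
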