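import Groth.Statements.S13470
import Groth.Agent.Lib.Repr.AffHom
import Groth.Agent.Lib.Hopf.GroupLikeLift
import Mathlib.AlgebraicGeometry.Group.Affine
-- import your own Groth.Agent.* helpers here

set_option autoImplicit false
universe u
open GmDual

namespace Groth.Agent.S13470

open CategoryTheory AlgebraicGeometry MonObj in
/-- Let k be an algebraically closed field and i : H → G a homomorphism of affine commutative k-group
schemes of finite type which is a closed immersion. Then the restriction map Ĝ(k) → Ĥ(k) on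
characters defined over k (morphisms of abelian sheaves on the big fppf site of Spec k from the
sheaf of points to the multiplicative group, restricted along i) is surjective. -/
theorem result (k : Type u) [Field k] [IsAlgClosed k]
    (H G : Over (Spec (CommRingCat.of k))) [GrpObj H] [IsCommMonObj H] [GrpObj G] [IsCommMonObj G]
    [IsAffine H.left] [LocallyOfFiniteType H.hom] [IsAffine G.left] [LocallyOfFiniteType G.hom]
    (i : H ⟶ G) [IsMonHom i] [IsClosedImmersion i.left] :
    Function.Surjective (Preadditive.leftComp (CGrpSh2.Gm Scheme.fppfPrecoverage (Spec (CommRingCat.of k)))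
      (CGrpSh.ptsMap Scheme.fppfPrecoverage i)) := by
  intro φ
  let x₀ : H ⟶ Red.Gm (Spec (CommRingCat.of k)) := (φ.hom.app (Opposite.op H) (ULift.up (Additive.ofMul (𝟙 H)))).down.toMul
  have hφ : ∀ (T : Over (Spec (CommRingCat.of k))) (a : T ⟶ H),
      (φ.hom.app (Opposite.op T) (ULift.up (Additive.ofMul a))).down.toMul = a ≫ x₀ := by
    intro T a
    have h := ConcreteCategory.congr_hom (φ.hom.naturality a.op) (ULift.up (Additive.ofMul (𝟙 H)))
    refine Eq.trans ?_ (congrArg (fun t => t.down.toMul) h)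
    exact congrArg (fun b => (φ.hom.app (Opposite.op T) (ULift.up (Additive.ofMul b))).down.toMul) (Category.comp_id a).symm
  haveI hx₀ : IsMonHom x₀ := by
    refine GrothLib.GrpSchField.isMonHom_of_mul _ ?_
    have e : μ[H] = (CartesianMonoidalCategory.fst H H) * (CartesianMonoidalCategory.snd H H) := by rw [Hom.mul_def, CartesianMonoidalCategory.lift_fst_snd, Category.id_comp]
    have h := congrArg (fun t => t.down.toMul) (map_add (φ.hom.app (Opposite.op (MonoidalCategoryStruct.tensorObj H H))).hom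
      (ULift.up (Additive.ofMul ((CartesianMonoidalCategory.fst H H)))) (ULift.up (Additive.ofMul ((CartesianMonoidalCategory.snd H H)))))
    rw [e]
    refine ((hφ _ _).symm.trans h).trans ?_
    refine Eq.trans (congrArg₂ (fun a b : MonoidalCategoryStruct.tensorObj H H ⟶ Red.Gm (Spec (CommRingCat.of k)) => a * b)
      (hφ _ _) (hφ _ _)) ?_
    rw [Hom.mul_def]
    rfl
  obtain ⟨B', ⟨eG⟩⟩ := (essImage_hopfSpec (R := CommRingCat.of k) (G := Grp.mk G)).2 ‹IsAffine G.left›
  obtain ⟨B, rfl⟩ : ∃ B, Opposite.op B = B' := ⟨B'.unop, rfl⟩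
  obtain ⟨C', ⟨eH⟩⟩ := (essImage_hopfSpec (R := CommRingCat.of k) (G := Grp.mk H)).2 ‹IsAffine H.left›
  obtain ⟨C, rfl⟩ : ∃ C, Opposite.op C = C' := ⟨C'.unop, rfl⟩
  let iG : GrothLib.Repr.Aff k (B : Type u) ≅ G := (Grp.forget _).mapIso eG
  let iH : GrothLib.Repr.Aff k (C : Type u) ≅ H := (Grp.forget _).mapIso eH
  haveI : IsMonHom iG.hom := eG.hom.hom.isMonHom_hom
  haveI : IsMonHom iG.inv := eG.inv.hom.isMonHom_hom
  haveI : IsMonHom iH.hom := eH.hom.hom.isMonHom_hom
  haveI : IsMonHom iH.inv := eH.inv.hom.isMonHom_hom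
  haveI := GrothLib.Repr.isCocomm_of_comm (k := k) (B := (B : Type u)) fun T a b => (cancel_mono iG.hom).1 (by
    rw [MonObj.mul_comp, MonObj.mul_comp]; exact mul_comm _ _)
  haveI := GrothLib.Repr.isCocomm_of_comm (k := k) (B := (C : Type u)) fun T a b => (cancel_mono iH.hom).1 (by
    rw [MonObj.mul_comp, MonObj.mul_comp]; exact mul_comm _ _)
  obtain ⟨π, hπ⟩ := GrothLib.Repr.exists_bialgHom (iH.hom ≫ i ≫ iG.inv)
  have hsurj : Function.Surjective π := by
    haveI : IsIso iH.hom.left := inferInstanceAs (IsIso ((Over.forget _).map iH.hom))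
    haveI : IsIso iG.inv.left := inferInstanceAs (IsIso ((Over.forget _).map iG.inv))
    have h : IsClosedImmersion (iH.hom ≫ i ≫ iG.inv).left := by
      rw [Over.comp_left, Over.comp_left]; infer_instance
    rw [hπ] at h
    obtain ⟨I, e, he⟩ := (IsClosedImmersion.Spec_iff (f := Spec.map (CommRingCat.ofHom (π : (B : Type u) →ₐ[k] C).toRingHom))).1 h
    obtain ⟨σ, hσ⟩ := Spec.map_surjective e.hom
    obtain ⟨τ, hτ⟩ := Spec.map_surjective e.inv
    have hτσ : τ ≫ σ = 𝟙 _ := Spec.map_injective (by rw [Spec.map_comp, hσ, hτ, Spec.map_id, e.hom_inv_id])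
    rw [← hσ, ← Spec.map_comp] at he
    intro c
    obtain ⟨b, hb⟩ := Ideal.Quotient.mk_surjective (τ.hom c)
    refine ⟨b, (congr($(Spec.map_injective he).hom b)).trans ?_⟩
    change σ.hom (Ideal.Quotient.mk I b) = c
    rw [hb]
    exact congr($(hτσ).hom c)
  obtain ⟨w, hw⟩ := GrothLib.Repr.charOfUnit_surjective (iH.hom ≫ x₀)
  haveI : IsMonHom (GrothLib.Repr.charOfUnit (k := k) w) := hw ▸ inferInstance
  obtain ⟨y, hy, hyw⟩ := GrothLib.Hopf.GroupLikeLift.exists_groupLike_lift (π : (B : Type u) →ₗc[k] C) hsurj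
    (GrothLib.Repr.isGroupLike_of_isMonHom w)
  let v : (B : Type u)ˣ := hy.isUnit.unit
  haveI := GrothLib.Repr.isMonHom_charOfUnit v (show IsGroupLikeElem k (v : (B : Type u)) from hy)
  let χ : G ⟶ Red.Gm (Spec (CommRingCat.of k)) := iG.inv ≫ GrothLib.Repr.charOfUnit v
  haveI : IsMonHom χ := inferInstance
  have hχ : i ≫ χ = x₀ := by
    rw [← cancel_epi iH.hom]
    refine Eq.trans ?_ hw
    calc iH.hom ≫ i ≫ iG.inv ≫ GrothLib.Repr.charOfUnit v
        = (iH.hom ≫ i ≫ iG.inv) ≫ GrothLib.Repr.charOfUnit v := by simp only [Category.assoc]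
      _ = _ := by
        rw [hπ]
        refine (GrothLib.Repr.ptMap_charOfUnit _ v).trans (congrArg _ (Units.ext ?_))
        exact hyw
  refine ⟨CGrpSh.ptsMap Scheme.fppfPrecoverage χ, ?_⟩
  refine Sheaf.hom_ext (NatTrans.ext (funext fun T => AddCommGrpCat.ext fun a => ?_))
  refine ULift.ext _ _ ((congrArg Additive.ofMul ?_).trans (Additive.ofMul.apply_symm_apply _))
  refine Eq.trans ?_ (hφ T.unop a.down.toMul).symm
  change (a.down.toMul ≫ i) ≫ χ = _
  rw [Category.assoc, hχ]

end Groth.Agent.S13470
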