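import Groth.Statements.S13472
import Groth.Agent.Lib.AlphaDual6.Main
-- import your own Groth.Agent.* helpers here

set_option autoImplicit false
universe u
open GaDual

namespace Groth.Agent.S13472

open CategoryTheory AlgebraicGeometry MonObj in
/-- Let R be a commutative ring of prime characteristic p and F the Frobenius endomorphism of the
additive group over Spec R (the homomorphism of group schemes raising the coordinate function of
every point to the p-th power). Then for every i > 2 the map on H^i(R, Ĝ_a) induced by the dual F̂
of F, where Ĝ_a is the internal Hom from the additive into the multiplicative group on the big fppf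
site of Spec R, is bijective. (The published statement also records that this bijection is
Frobenius-semilinear for the natural R-module structures; this row states the bijectivity.) -/
theorem result (p : ℕ) [Fact p.Prime] (R : Type u) [CommRing R] [CharP R p]
    (F : Red.Ga (Spec (CommRingCat.of R)) ⟶ Red.Ga (Spec (CommRingCat.of R))) [IsMonHom F]
    (hF : ∀ (T : Over (Spec (CommRingCat.of R))) (x : T ⟶ Red.Ga (Spec (CommRingCat.of R))), Red.gaFn (x ≫ F) = Red.gaFn x ^ p)
    (i : ℕ) (hi : 2 < i) :
    Function.Bijective (Sheaf.H.map ((CGrpSh2.dualFunctor Scheme.fppfPrecoverage (Spec (CommRingCat.of R))).map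
      (CGrpSh.ptsMap Scheme.fppfPrecoverage F).op) i) := by
  obtain ⟨m, rfl⟩ := Nat.exists_eq_add_of_le' (Nat.succ_le_of_lt hi)
  exact GrothLib.AlphaDual6.bijective_H_map p R F hF m

end Groth.Agent.S13472
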