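import Groth.Statements.S13474
import Groth.Agent.Lib.H1HomSh6.Tower
import Groth.Agent.S13383
import Groth.Agent.Lib.PicLine26.Main
import Groth.Agent.Lib.Ample.Product
import Groth.Agent.Lib.RedPts.Ga
-- import your own Groth.Agent.* helpers here

set_option autoImplicit false
set_option backward.isDefEq.respectTransparency false
set_option linter.style.haveILetI false
set_option synthInstance.maxHeartbeats 200000
universe u
open GaDual

namespace Groth.Agent.S13474

open CategoryTheory AlgebraicGeometry in
/-- A field is seminormal. -/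
theorem isSeminormalRing_field (k : Type u) [Field k] : HTop.IsSeminormalRing k := by
  intro x y h
  by_cases hx : x = 0
  · subst hx
    have hy : y = 0 := (pow_eq_zero_iff two_ne_zero).1 (by rw [← h]; simp)
    subst hy
    exact ⟨0, ⟨by simp, by simp⟩, fun a ha => (pow_eq_zero_iff two_ne_zero).1 ha.1.symm⟩
  · refine ⟨y / x, ⟨?_, ?_⟩, fun a ha => ?_⟩
    · field_simp
      linear_combination h
    · field_simp
      linear_combination y * h
    · have ha0 : a ≠ 0 := fun e => hx (by rw [ha.1, e]; simp)
      rw [ha.1, ha.2]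
      field_simp

open CategoryTheory AlgebraicGeometry in
/-- Invertible modules on the additive group over a field are trivial. -/
theorem pic_Ga_field (k : Type u) [Field k] (L : (Red.Ga (Spec (CommRingCat.of k))).left.Modules)
    (hL : PicF.IsInvertible L) : Nonempty (L ≅ Coh.structureModule (Red.Ga (Spec (CommRingCat.of k))).left) := by
  let X := Spec (CommRingCat.of k)
  let G := Red.Ga X
  let Y : Over X := Over.mk (AffineSpace PUnit.{u + 1} X ↘ X)
  let d : Y ⟶ G := GrothLib.RedPts.gaPt (AffineSpace.coord X PUnit.unit)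
  let e : G ⟶ Y := Over.homMk (AffineSpace.homOfVector G.hom fun _ => Red.gaFn (𝟙 G)) (AffineSpace.homOfVector_over _ _)
  have he : e ≫ d = 𝟙 G := GrothLib.RedPts.gaFn_injective (by
    rw [GrothLib.RedPts.gaFn_comp, GrothLib.RedPts.gaFn_gaPt]
    exact AffineSpace.homOfVector_appTop_coord _ _ _)
  haveI : IsLocalRing (CommRingCat.of k) := inferInstanceAs (IsLocalRing k)
  obtain ⟨i⟩ := GrothLib.PicLine26.nonempty_iso_affineLine_local (R := CommRingCat.of k) (isSeminormalRing_field k)
    (GrothLib.Ample.isInvertible_pullback d.left hL)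
  obtain ⟨o⟩ := GrothLib.Ample.nonempty_pullback_structureModule e.left
  exact ⟨((Scheme.Modules.pullbackId _).app L).symm ≪≫
    (Scheme.Modules.pullbackCongr (show 𝟙 G.left = e.left ≫ d.left from (congrArg CommaMorphism.left he).symm)).app L ≪≫
    ((Scheme.Modules.pullbackComp e.left d.left).app L).symm ≪≫
    (Scheme.Modules.pullback e.left).mapIso i ≪≫ o⟩

open CategoryTheory AlgebraicGeometry MonObj CategoryTheory.Limits in
/-- Let k be a field and U a split commutative unipotent k-group, given with a finite filtration by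
commutative k-group schemes U₀, …, Uₙ = U with U₀ the trivial sheaf and each Uⱼ → Uⱼ₊₁ → G_a short
exact as abelian sheaves on the big fppf site of Spec k. Then the first fppf cohomology group H^1(k,
Û) of the dual sheaf of U (internal Hom into the multiplicative group) vanishes. -/
theorem result (k : Type u) [Field k]
    (n : ℕ) (U : Fin (n + 1) → Over (Spec (CommRingCat.of k))) [∀ j, GrpObj (U j)] [∀ j, IsCommMonObj (U j)]
    (incl : ∀ j : Fin n, U j.castSucc ⟶ U j.succ) (proj : ∀ j : Fin n, U j.succ ⟶ Red.Ga (Spec (CommRingCat.of k)))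
    [∀ j, IsMonHom (incl j)] [∀ j, IsMonHom (proj j)] (w : ∀ j, incl j ≫ proj j = 1)
    (hex : ∀ j, (CGrpSh.seq Scheme.fppfPrecoverage (incl j) (proj j) (w j)).ShortExact)
    (h0 : IsZero (CGrpSh.pts Scheme.fppfPrecoverage (U 0))) :
    Subsingleton (BigSite.H Scheme.fppfPrecoverage (Spec (CommRingCat.of k))
      (CGrpSh2.dualSh Scheme.fppfPrecoverage (CGrpSh.pts Scheme.fppfPrecoverage (U (Fin.last n)))) 1) := by
  haveI : IsReduced (Spec (CommRingCat.of k)) := inferInstance
  refine GrothLib.H1HomSh6.subsingleton_H_one _ _ fun i g w hS φ => ?_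
  haveI := GrothLib.H1HomSh6.subsingleton_ext_of_tower (CGrpSh2.Gm Scheme.fppfPrecoverage (Spec (CommRingCat.of k)))
    (Groth.Agent.S13383.result (Spec (CommRingCat.of k)) (fun L hL => pic_Ga_field k L hL)) n U incl proj _ hex h0 (Fin.last n)
  exact GrothLib.H1HomSh6.exists_lift_of_subsingleton_ext i g w hS φ

end Groth.Agent.S13474
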