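import Groth.Statements.S13475
import Groth.Agent.Lib.GaDual13.GaAcyclic
-- import your own Groth.Agent.* helpers here

set_option autoImplicit false
universe u
open GaDual

namespace Groth.Agent.S13475

open CategoryTheory AlgebraicGeometry MonObj CategoryTheory.Limits in
/-- Let k be a field and U a split commutative unipotent k-group, given with a finite filtration by
commutative k-group schemes U₀, …, Uₙ = U with U₀ the trivial sheaf and each Uⱼ → Uⱼ₊₁ → G_a short
exact as abelian sheaves on the big fppf site of Spec k. Then H^i(k, U) = 0 for every i > 0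
(cohomology of the sheaf of points of U on the big fppf site). -/
theorem result (k : Type u) [Field k]
    (n : ℕ) (U : Fin (n + 1) → Over (Spec (CommRingCat.of k))) [∀ j, GrpObj (U j)] [∀ j, IsCommMonObj (U j)]
    (incl : ∀ j : Fin n, U j.castSucc ⟶ U j.succ) (proj : ∀ j : Fin n, U j.succ ⟶ Red.Ga (Spec (CommRingCat.of k)))
    [∀ j, IsMonHom (incl j)] [∀ j, IsMonHom (proj j)] (w : ∀ j, incl j ≫ proj j = 1)
    (hex : ∀ j, (CGrpSh.seq Scheme.fppfPrecoverage (incl j) (proj j) (w j)).ShortExact)
    (h0 : IsZero (CGrpSh.pts Scheme.fppfPrecoverage (U 0)))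
    (i : ℕ) (hi : 0 < i) :
    Subsingleton (BigSite.H Scheme.fppfPrecoverage (Spec (CommRingCat.of k)) (CGrpSh.pts Scheme.fppfPrecoverage (U (Fin.last n))) i) := by
  obtain ⟨m, rfl⟩ := Nat.exists_eq_add_of_le' hi
  suffices H : ∀ j : Fin (n + 1), Subsingleton (BigSite.H Scheme.fppfPrecoverage (Spec (CommRingCat.of k))
      (CGrpSh.pts Scheme.fppfPrecoverage (U j)) (m + 1)) from H _
  intro j
  induction j using Fin.induction with
  | zero => exact Sheaf.subsingleton_H_of_isZero h0 _
  | succ j ih =>
    have hGa := GrothLib.GaDual13.subsingleton_H_Ga (CommRingCat.of k) m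
    refine ⟨fun a b => sub_eq_zero.mp ?_⟩
    obtain ⟨y, hy⟩ := Abelian.Ext.covariant_sequence_exact₂ _ (hex j) (a - b) (hGa.elim _ _)
    rw [← hy]
    obtain rfl : y = 0 := ih.elim _ _
    exact Abelian.Ext.zero_comp _ _ _ _ _

end Groth.Agent.S13475
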