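import Groth.Statements.S13477
import Groth.Agent.S13383
import Groth.Agent.Lib.HomShExact13.OverExact
-- import your own Groth.Agent.* helpers here

set_option autoImplicit false
set_option backward.isDefEq.respectTransparency false
set_option backward.isDefEq.respectTransparency.types false
set_option linter.style.haveILetI false
set_option maxHeartbeats 1000000
set_option synthInstance.maxHeartbeats 200000
universe u
open GaDual

namespace Groth.Agent.S13477

open CategoryTheory CategoryTheory.Limits AlgebraicGeometry Opposite MonoidalCategory CartesianMonoidalCategory MonObj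
open GrothLib.GaDualQ13 (GaSh GmSh CharOn res)

local notation "fppf" => Scheme.fppfPrecoverage

variable {X : Scheme.{u}}

/-- A jointly surjective flat family of finite presentation covers. -/
theorem sieve_mem_family {U : Over X} {κ : Type u} {W : κ → Over X} (h : ∀ i, W i ⟶ U)
    (hf : ∀ i, Flat (h i).left ∧ LocallyOfFinitePresentation (h i).left)
    (hs : ∀ x : U.left, ∃ i w, (h i).left w = x) :
    Sieve.generate (Presieve.ofArrows W h) ∈ QuotSh.J fppf X U := by
  rw [GrothendieckTopology.mem_over_iff]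
  refine (Scheme.fppfPrecoverage).toGrothendieck.superset_covering ?_
    (Precoverage.generate_mem_toGrothendieck (J := fppf)
      (R := Presieve.ofArrows (fun i => (W i).left) (fun i => (h i).left))
      ((Scheme.ofArrows_mem_precoverage_iff _).2 ⟨hs, hf⟩))
  refine (Sieve.generate_le_iff _ _).2 ?_
  rintro Z _ ⟨i⟩
  refine (Sieve.overEquiv_iff _ _).2 ⟨W i, Over.homMk (𝟙 _) ((Category.id_comp _).trans (Over.w (h i)).symm), h i,
    ⟨i⟩, ?_⟩
  ext : 1
  exact Category.id_comp _

/-- The product of a covering family with an object covers the object. -/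
theorem sieve_mem_prod {κ : Type u} {W : κ → Over X} (h : ∀ i, W i ⟶ 𝟙_ (Over X))
    (hf : ∀ i, Flat (h i).left ∧ LocallyOfFinitePresentation (h i).left)
    (hs : ∀ x : (𝟙_ (Over X)).left, ∃ i w, (h i).left w = x) (A : Over X) :
    Sieve.generate (Presieve.ofArrows (fun i => W i ⊗ A) fun i => snd (W i) A) ∈ QuotSh.J fppf X A := by
  have hw : ∀ i, (W i).hom = (h i).left := fun i => (Over.w (h i)).symm.trans (Category.comp_id _)
  refine sieve_mem_family _ (fun i => ⟨?_, ?_⟩) fun x => ?_
  · exact MorphismProperty.pullback_snd (P := @Flat) (W i).hom A.hom ((hw i).symm ▸ (hf i).1)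
  · exact MorphismProperty.pullback_snd (P := @LocallyOfFinitePresentation) (W i).hom A.hom ((hw i).symm ▸ (hf i).2)
  · obtain ⟨i, w, hwx⟩ := hs (A.hom x)
    obtain ⟨z, -, hz⟩ := Scheme.Pullback.exists_preimage_pullback (f := (W i).hom) (g := A.hom) w x (by rw [hw]; exact hwx)
    exact ⟨i, z, hz⟩

/-- The universal point of the additive group over an object. -/
noncomputable def pt {T : Over X} (x : T ⟶ Red.Ga X) : (GaSh X).obj.obj (op T) := ULift.up.{u + 1} (Additive.ofMul x)

/-- The value of a character at a point. -/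
noncomputable def chv {T : Over X} (χ : CharOn T) (x : T ⟶ Red.Ga X) : (GmSh X).obj.obj (op T) :=
  χ.hom.app (op (Over.mk (𝟙 T))) (pt x)

theorem chv_add {T : Over X} (χ : CharOn T) (x y : T ⟶ Red.Ga X) : chv χ (x * y) = chv χ x + chv χ y :=
  (χ.hom.app (op (Over.mk (𝟙 T)))).hom.map_add (pt x) (pt y)

theorem chv_one {T : Over X} (χ : CharOn T) : chv χ (1 : T ⟶ Red.Ga X) = 0 :=
  (χ.hom.app (op (Over.mk (𝟙 T)))).hom.map_zero

theorem chv_res {T U : Over X} (g : U ⟶ T) (χ : CharOn T) (x : U ⟶ Red.Ga X) :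
    chv (res g χ) x = χ.hom.app (op (Over.mk g)) (pt x) := by
  have h := ConcreteCategory.congr_hom
    (χ.hom.naturality (Over.homMk (𝟙 U) (Category.id_comp g) : Over.mk (𝟙 U ≫ g) ⟶ Over.mk g).op) (pt x)
  have e1 : (GaSh X).obj.map (𝟙 U).op (pt x) = pt x := congrArg pt (Category.id_comp x)
  have e2 := ConcreteCategory.congr_hom ((GmSh X).obj.map_id (op U)) (χ.hom.app (op (Over.mk g)) (pt x))
  exact ((congrArg _ e1).symm.trans h).trans e2

theorem chv_map {T U : Over X} (g : U ⟶ T) (χ : CharOn T) (x : T ⟶ Red.Ga X) :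
    chv (res g χ) (g ≫ x) = (GmSh X).obj.map g.op (chv χ x) := by
  rw [chv_res]
  exact ConcreteCategory.congr_hom
    (χ.hom.naturality (Over.homMk g (Category.comp_id g) : Over.mk g ⟶ Over.mk (𝟙 T)).op) (pt x)

/-- Evaluation of characters at the universal point. -/
noncomputable def ev : (CGrpSh2.dualSh fppf (GaSh X)).over (Red.Ga X) ⟶ (GmSh X).over (Red.Ga X) :=
  ⟨{ app := fun W => ConcreteCategory.ofHom (C := AddCommGrpCat.{u + 1})
      (X := (CGrpSh2.dualSh fppf (GaSh X)).obj.obj (op W.unop.left)) (Y := (GmSh X).obj.obj (op W.unop.left))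
      (AddMonoidHom.mk' (fun χ => chv (show CharOn W.unop.left from χ) W.unop.hom) fun χ χ' => rfl)
     naturality := fun W W' h => AddCommGrpCat.ext fun χ => by
      have e := chv_map h.unop.left (show CharOn W.unop.left from χ) W.unop.hom
      rw [Over.w h.unop] at e
      exact e }⟩

theorem exists_lift [IsReduced X]
    (hPic : ∀ L : (Red.Ga X).left.Modules, PicF.IsInvertible L → Nonempty (L ≅ Coh.structureModule (Red.Ga X).left))
    {I Q : BigSite.Ab fppf X} (i₀ : CGrpSh2.dualSh fppf (GaSh X) ⟶ I) (π₀ : I ⟶ Q) (w₀ : i₀ ≫ π₀ = 0)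
    (hS : (ShortComplex.mk i₀ π₀ w₀).ShortExact) (s : Q.obj.obj (op (𝟙_ (Over X)))) :
    ∃ t, π₀.hom.app (op (𝟙_ (Over X))) t = s := by
  let G := Red.Ga X
  haveI : Epi π₀ := hS.epi_g
  haveI : Mono i₀ := hS.mono_f
  haveI : Sheaf.IsLocallySurjective π₀ := (Sheaf.isLocallySurjective_iff_epi' (φ := π₀)).2 inferInstance
  choose W h hmem hflat hlfp hpt using GrothLib.FppfH90Sch6.exists_flat_member _ (Presheaf.imageSieve_mem _ π₀.hom s)
  choose r hr using hmem
  have hf := fun i => And.intro (hflat i) (hlfp i)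
  have hs : ∀ x : (𝟙_ (Over X)).left, ∃ i w, (h i).left w = x := fun x => ⟨x, hpt x⟩
  have hI : ∀ (U : Over X), Function.Injective (i₀.hom.app (op U)) ∧
      ∀ x, π₀.hom.app (op U) x = 0 ↔ ∃ y, i₀.hom.app (op U) y = x := fun U => GrothLib.AdeqMod20.sections_exact hS U
  let C := ShortComplex.mk (Injective.ι (GmSh X)) (cokernel.π (Injective.ι (GmSh X))) (cokernel.condition _)
  have hC : C.ShortExact := GrothLib.PullH25.injSES_shortExact _
  haveI : Injective (C.X₂.over G) := by
    haveI : Injective C.X₂ := inferInstanceAs (Injective (Injective.under (GmSh X)))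
    exact GrothLib.HomShExact13.injective_over G (QuotSh.J fppf X) C.X₂
  haveI : Mono (((QuotSh.J fppf X).overPullback AddCommGrpCat.{u + 1} G).map i₀) := by
    haveI : ((Over.forget G).sheafPushforwardContinuous AddCommGrpCat.{u + 1} ((QuotSh.J fppf X).over G)
        (QuotSh.J fppf X)).IsRightAdjoint :=
      ((Over.forget G).sheafAdjunctionContinuous AddCommGrpCat.{u + 1} ((QuotSh.J fppf X).over G) (QuotSh.J fppf X)).isRightAdjoint
    exact (inferInstance : Mono (((Over.forget G).sheafPushforwardContinuous AddCommGrpCat.{u + 1}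
      ((QuotSh.J fppf X).over G) (QuotSh.J fppf X)).map i₀))
  let β : I.over G ⟶ C.X₂.over G := Injective.factorThru
    (ev ≫ ((QuotSh.J fppf X).overPullback AddCommGrpCat.{u + 1} G).map C.f)
    (((QuotSh.J fppf X).overPullback AddCommGrpCat.{u + 1} G).map i₀)
  have hβ : ((QuotSh.J fppf X).overPullback AddCommGrpCat.{u + 1} G).map i₀ ≫ β =
      ev ≫ ((QuotSh.J fppf X).overPullback AddCommGrpCat.{u + 1} G).map C.f := Injective.comp_factorThru _ _
  let B : ∀ {U : Over X} (x : U ⟶ G), I.obj.obj (op U) →+ C.X₂.obj.obj (op U) :=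
    fun x => (β.hom.app (op (Over.mk x))).hom
  have hBi : ∀ {U : Over X} (x : U ⟶ G) (χ : CharOn U), B x (i₀.hom.app (op U) χ) = C.f.hom.app (op U) (chv χ x) :=
    fun {U} x χ => ConcreteCategory.congr_hom (congrArg
      (fun m : (CGrpSh2.dualSh fppf (GaSh X)).over G ⟶ C.X₂.over G => m.hom.app (op (Over.mk x))) hβ) χ
  have hBn : ∀ {U V : Over X} (g : V ⟶ U) (x : U ⟶ G) (a : I.obj.obj (op U)),
      C.X₂.obj.map g.op (B x a) = B (g ≫ x) (I.obj.map g.op a) := fun g x a =>
    (ConcreteCategory.congr_hom (β.hom.naturality (Over.homMk g rfl : Over.mk (g ≫ x) ⟶ Over.mk x).op) a).symm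
  -- the differences of the local lifts are characters
  have hδ : ∀ i j (U : Over X) (wi : U ⟶ W i) (wj : U ⟶ W j), ∃ χ : CharOn U,
      i₀.hom.app (op U) χ = I.obj.map wi.op (r i) - I.obj.map wj.op (r j) := by
    intro i j U wi wj
    refine ((hI U).2 _).1 ?_
    rw [map_sub, NatTrans.naturality_apply, NatTrans.naturality_apply, hr, hr,
      GrothLib.AdeqMod20.map_comp_app, GrothLib.AdeqMod20.map_comp_app,
      toUnit_unique (wi ≫ h i) (wj ≫ h j), sub_self]
  choose χ hχ using hδ
  let P := fun i => W i ⊗ G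
  have hP := sieve_mem_prod h hf hs G
  let b : ∀ i, C.X₂.obj.obj (op (P i)) := fun i => B (snd (W i) G) (I.obj.map (fst (W i) G).op (r i))
  have hb : ∀ i j (U : Over X) (p : U ⟶ P i) (q : U ⟶ P j), p ≫ snd (W i) G = q ≫ snd (W j) G →
      C.X₂.obj.map p.op (b i) - C.X₂.obj.map q.op (b j) =
        C.f.hom.app (op U) (chv (χ i j U (p ≫ fst (W i) G) (q ≫ fst (W j) G)) (p ≫ snd (W i) G)) := by
    intro i j U p q hpq
    rw [hBn, hBn, GrothLib.AdeqMod20.map_comp_app, GrothLib.AdeqMod20.map_comp_app, ← hpq, ← map_sub, ← hχ, hBi]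
  obtain ⟨s', hs'⟩ := GrothLib.FppfH90Sch6.exists_glue C.X₃ _ hP (fun i => C.g.hom.app (op (P i)) (b i)) (by
    intro i j U p q hpq
    rw [← sub_eq_zero, ← NatTrans.naturality_apply, ← NatTrans.naturality_apply, ← map_sub, hb i j U p q hpq]
    exact (GrothLib.FppfH90Sch6.g_eq_zero_iff C.f C.g C.zero hC U _).2 ⟨_, rfl⟩)
  obtain ⟨t', ht'⟩ := GrothLib.FppfH90Sch6.exists_lift C.f C.g C.zero hC (Y := G) hPic s'
  have ha : ∀ i, ∃ a, C.f.hom.app (op (P i)) a = b i - C.X₂.obj.map (snd (W i) G).op t' := fun i =>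
    (GrothLib.FppfH90Sch6.g_eq_zero_iff C.f C.g C.zero hC (P i) _).1 (by
      rw [map_sub, NatTrans.naturality_apply, ht', hs', sub_self])
  choose a ha using ha
  have hrel : ∀ i j (U : Over X) (wi : U ⟶ W i) (wj : U ⟶ W j) (x : U ⟶ G),
      (GmSh X).obj.map (lift wi x).op (a i) - (GmSh X).obj.map (lift wj x).op (a j) = chv (χ i j U wi wj) x := by
    intro i j U wi wj x
    apply GrothLib.FppfH90Sch6.f_injective C.f C.g C.zero hC U
    rw [map_sub, NatTrans.naturality_apply, NatTrans.naturality_apply, ha, ha, map_sub, map_sub,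
      GrothLib.AdeqMod20.map_comp_app, GrothLib.AdeqMod20.map_comp_app, lift_snd, lift_snd, sub_sub_sub_cancel_right]
    have e := hb i j U (lift wi x) (lift wj x) (by rw [lift_snd, lift_snd])
    rw [lift_fst, lift_fst] at e
    rw [show lift wi x ≫ snd (W i) G = x from lift_snd _ _] at e
    exact e
  -- the normalised trivialisation
  let e : ∀ i (U : Over X), (U ⟶ W i) → (U ⟶ G) → (GmSh X).obj.obj (op U) := fun i U w x =>
    (GmSh X).obj.map (lift w x).op (a i) - (GmSh X).obj.map (lift w 1).op (a i)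
  have henat : ∀ i (U V : Over X) (g : V ⟶ U) (w : U ⟶ W i) (x : U ⟶ G),
      (GmSh X).obj.map g.op (e i U w x) = e i V (g ≫ w) (g ≫ x) := by
    intro i U V g w x
    simp only [e, map_sub, GrothLib.AdeqMod20.map_comp_app, comp_lift, MonObj.comp_one]
  have herel : ∀ i j (U : Over X) (wi : U ⟶ W i) (wj : U ⟶ W j) (x : U ⟶ G),
      e i U wi x - e j U wj x = chv (χ i j U wi wj) x := by
    intro i j U wi wj x
    simp only [e]
    rw [sub_sub_sub_comm, hrel, hrel, chv_one, sub_zero]
  have he1 : ∀ i (U : Over X) (w : U ⟶ W i), e i U w 1 = 0 := fun i U w => sub_self _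
  let dd : ∀ i, (GmSh X).obj.obj (op (W i ⊗ (G ⊗ G))) := fun i =>
    e i _ (fst _ _) ((snd (W i) (G ⊗ G) ≫ fst G G) * (snd (W i) (G ⊗ G) ≫ snd G G)) - e i _ (fst _ _) (snd (W i) (G ⊗ G) ≫ fst G G) -
      e i _ (fst _ _) (snd (W i) (G ⊗ G) ≫ snd G G)
  obtain ⟨d, hd⟩ := GrothLib.FppfH90Sch6.exists_glue (GmSh X) _ (sieve_mem_prod h hf hs (G ⊗ G)) dd (by
    intro i j U p q hpq
    simp only [dd, map_sub, henat, MonObj.comp_mul, ← reassoc_of% hpq]
    rw [← sub_eq_zero]
    have e1 := herel i j U (p ≫ fst _ _) (q ≫ fst _ _)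
    rw [show ∀ a b c a' b' c' : (GmSh X).obj.obj (op U), a - b - c - (a' - b' - c') = (a - a') - (b - b') - (c - c') from
      fun a b c a' b' c' => by abel, e1, e1, e1, chv_add]
    abel)
  have hd0 : (GmSh X).obj.map (lift (1 : 𝟙_ (Over X) ⟶ G) 1).op d = 0 := by
    refine GrothLib.FppfH90Sch6.sect_ext (GmSh X) _ (sieve_mem_family h hf hs) fun i => ?_
    have k := congrArg ((GmSh X).obj.map (lift (𝟙 (W i)) (h i ≫ lift (1 : 𝟙_ (Over X) ⟶ G) 1)).op) (hd i)
    rw [GrothLib.AdeqMod20.map_comp_app, lift_snd] at k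
    rw [GrothLib.AdeqMod20.map_comp_app, k, map_zero]
    simp only [dd, map_sub, henat, MonObj.comp_mul, lift_fst, lift_snd_assoc, Category.assoc, lift_snd,
      MonObj.comp_one, _root_.one_mul, he1, sub_zero]
  have hdz : d = 0 := by
    have k : d = (GmSh X).obj.map (toUnit (G ⊗ G)).op ((GmSh X).obj.map (lift (1 : 𝟙_ (Over X) ⟶ G) 1).op d) := by
      apply ULift.ext
      exact congrArg Additive.ofMul
        (Groth.Agent.S13383.gmFn_eq_const (show ULift.{u + 1} (Additive ((G ⊗ G) ⟶ Red.Gm X)) from d).down.toMul)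
    rw [k, hd0, map_zero]
  have headd : ∀ i (U : Over X) (w : U ⟶ W i) (x y : U ⟶ G), e i U w (x * y) = e i U w x + e i U w y := by
    intro i U w x y
    have k := congrArg ((GmSh X).obj.map (lift w (lift x y)).op) (hd i)
    rw [hdz, map_zero, map_zero] at k
    simp only [dd, map_sub, henat, MonObj.comp_mul, lift_fst, lift_snd_assoc, lift_snd] at k
    rw [← sub_eq_zero, k]
    abel
  let ψ : ∀ i, CharOn (W i) := fun i =>
    ⟨{ app := fun V => ConcreteCategory.ofHom (C := AddCommGrpCat.{u + 1}) (X := (GaSh X).obj.obj (op V.unop.left))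
        (Y := (GmSh X).obj.obj (op V.unop.left))
        (AddMonoidHom.mk' (fun z => e i V.unop.left V.unop.hom
          (show ULift.{u + 1} (Additive (V.unop.left ⟶ Red.Ga X)) from z).down.toMul) fun z z' => headd _ _ _ _ _)
       naturality := fun V V' g => AddCommGrpCat.ext fun z => by
        have k := henat i _ _ g.unop.left V.unop.hom
          (show ULift.{u + 1} (Additive (V.unop.left ⟶ Red.Ga X)) from z).down.toMul
        rw [Over.w g.unop] at k
        exact k.symm }⟩
  have hψ : ∀ i (U : Over X) (w : U ⟶ W i) (x : U ⟶ G), chv (res w (ψ i)) x = e i U w x := fun i U w x =>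
    chv_res w (ψ i) x
  have hext : ∀ {U : Over X} (φ φ' : CharOn U), (∀ (V : Over X) (g : V ⟶ U) (x : V ⟶ G),
      chv (res g φ) x = chv (res g φ') x) → φ = φ' := fun {U} φ φ' H =>
    Sheaf.hom_ext (NatTrans.ext (funext fun V => AddCommGrpCat.ext fun z => by
      have k := H V.unop.left V.unop.hom (show ULift.{u + 1} (Additive (V.unop.left ⟶ Red.Ga X)) from z).down.toMul
      rw [chv_res, chv_res] at k
      exact k))
  have hχψ : ∀ i j (U : Over X) (wi : U ⟶ W i) (wj : U ⟶ W j), χ i j U wi wj = res wi (ψ i) - res wj (ψ j) := by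
    intro i j U wi wj
    refine hext _ _ fun V g x => ?_
    have k : res g (χ i j U wi wj) = χ i j V (g ≫ wi) (g ≫ wj) := by
      apply (hI V).1
      refine (NatTrans.naturality_apply i₀.hom g.op (χ i j U wi wj)).trans ?_
      rw [hχ, hχ, map_sub, GrothLib.AdeqMod20.map_comp_app, GrothLib.AdeqMod20.map_comp_app]
    rw [k, ← herel, ← hψ, ← hψ]
    rfl
  obtain ⟨t, ht⟩ := GrothLib.FppfH90Sch6.exists_glue I _ (sieve_mem_family h hf hs)
    (fun i => r i - i₀.hom.app (op (W i)) (ψ i)) (by
    intro i j U p q _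
    rw [map_sub, map_sub, ← NatTrans.naturality_apply, ← NatTrans.naturality_apply, sub_eq_sub_iff_sub_eq_sub,
      ← hχ i j U p q, ← map_sub, hχψ]
    rfl)
  refine ⟨t, GrothLib.FppfH90Sch6.sect_ext Q _ (sieve_mem_family h hf hs) fun i => ?_⟩
  refine (NatTrans.naturality_apply π₀.hom (h i).op t).symm.trans ?_
  rw [ht i, map_sub, ((hI _).2 _).2 ⟨_, rfl⟩, sub_zero, hr]

open CategoryTheory AlgebraicGeometry in
/-- Let X be a reduced scheme such that every invertible module on the total space of the additive group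
over X (the affine line over X) is trivial. Then H^1(X, Ĝ_a) = 0: the first cohomology on the big
fppf site of X of the dual sheaf of the additive group (internal Hom from the additive into the
multiplicative group) vanishes. -/
theorem result (X : Scheme.{u}) [IsReduced X]
    (hPic : ∀ L : (Red.Ga X).left.Modules, PicF.IsInvertible L →
      Nonempty (L ≅ Coh.structureModule (Red.Ga X).left)) :
    Subsingleton (BigSite.H Scheme.fppfPrecoverage X (CGrpSh2.dualSh Scheme.fppfPrecoverage (CGrpSh2.Ga Scheme.fppfPrecoverage X)) 1) := by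
  refine subsingleton_of_forall_eq 0 fun ξ => ?_
  obtain ⟨y, rfl⟩ := GrothLib.PullH25.exists_comp_extClass (n := 0) ξ
  obtain ⟨φ, rfl⟩ := (Abelian.Ext.mk₀_bijective _ _).2 y
  let hT : IsTerminal (𝟙_ (Over X)) := Over.mkIdTerminal
  let C := ShortComplex.mk (Injective.ι (CGrpSh2.dualSh fppf (GaSh X)))
    (cokernel.π (Injective.ι (CGrpSh2.dualSh fppf (GaSh X)))) (cokernel.condition _)
  have hC : C.ShortExact := GrothLib.PullH25.injSES_shortExact _
  obtain ⟨t, ht⟩ := exists_lift hPic C.f C.g C.zero hC (Sheaf.H.equiv₀ C.X₃ hT (Abelian.Ext.mk₀ φ))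
  have hψ : Abelian.Ext.addEquiv₀ ((Sheaf.H.equiv₀ C.X₂ hT).symm t) ≫ C.g = φ := by
    refine (Sheaf.H.addEquiv₀_map C.g _).symm.trans ?_
    rw [Sheaf.H.equiv₀_symm_naturality, ht, AddEquiv.symm_apply_apply]
    exact Abelian.Ext.addEquiv₀.apply_symm_apply φ
  rw [← hψ, ← Abelian.Ext.mk₀_comp_mk₀, Abelian.Ext.comp_assoc_of_second_deg_zero]
  erw [hC.comp_extClass]
  rw [Abelian.Ext.comp_zero]

end Groth.Agent.S13477
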