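import Groth.Statements.S1349
import Groth.Agent.Lib.CMMor6.SliceRegular
-- import your own Groth.Agent.* helpers here

set_option autoImplicit false
universe u
open FlatMor

namespace Groth.Agent.S1349

open AlgebraicGeometry CategoryTheory Limits in
/-- Let f be locally of finite presentation and Cohen–Macaulay at a point x which is closed in its
fibre. Then there are an open neighbourhood V of x and a regular closed immersion i into V whose
image contains x, such that the composite Z ⟶ V ⟶ X ⟶ S is flat, locally of finite presentation and
locally quasi-finite, and x is the only point of (the image of) Z lying over the image of x. -/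
theorem result {X S : Scheme.{u}} (f : X ⟶ S) [LocallyOfFinitePresentation f] (x : X)
    (hcm : MoreMor.IsCMAt f x) (hcl : IsClosed ({f.asFiber x} : Set ↑(f.fiber (f x)))) :
    ∃ (V : X.Opens) (Z : Scheme.{u}) (i : Z ⟶ (V : Scheme.{u})), Mor2.IsRegularClosedImmersion i ∧ x ∈ Set.range ⇑(i ≫ V.ι) ∧
      Flat (i ≫ V.ι ≫ f) ∧ LocallyOfFinitePresentation (i ≫ V.ι ≫ f) ∧ LocallyQuasiFinite (i ≫ V.ι ≫ f) ∧
      ∀ z : Z, f (V.ι (i z)) = f x → V.ι (i z) = x := by
  exact GrothLib.CMMor6.exists_regular_slice f x hcm hcl

end Groth.Agent.S1349
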