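import Groth.Statements.S13495
import Groth.Agent.Lib.DerComp.GammaCompletion
import Groth.Agent.Lib.DerComp.GammaSlice
import Groth.Agent.Lib.DerComp.Crit

set_option autoImplicit false
universe u
open CategoryTheory CategoryTheory.Limits Opposite TopologicalSpace AlgebraicGeometry
attribute [local instance] HasDerivedCategory.standard
open DerComp

namespace Groth.Agent.S13495

private lemma subsingleton_completion {A : Type*} [CommRing A] (I : Ideal A) {M : Type*} [AddCommGroup M] [Module A M]
    (h : Subsingleton M) : Subsingleton (AdicCompletion I M) :=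
  ⟨fun x y => AdicCompletion.ext fun n => Quotient.inductionOn₂' (x.1 n) (y.1 n) fun a b =>
    congrArg Submodule.Quotient.mk (h.elim a b)⟩

/-- Let X be a locally Noetherian scheme, I a quasi-coherent sheaf of ideals of O_X and F a coherent
O_X-module; then H^p(U, F^) = 0 for all p ≠ 0 and all affine opens U of X, with F^ denoting the
derived I-completion of F. Quasi-coherence of I is stated as: on every affine open U and every basic
open D(g) inside it, I(D(g)) is the ideal generated by the restriction of I(U). H^p(U, K) for K in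
D(O_X) is the group of morphisms from the extension by zero of O_U, placed in degree 0, to K[p]. -/
theorem result (X : Scheme.{u}) [IsLocallyNoetherian X] (𝓘 : DerComp.IdealSh X.sheaf) (hqc : ∀ (U : X.affineOpens) (g : Γ(X, ↑U)), 𝓘.ideal (X.basicOpen g) = Ideal.map (X.presheaf.map (homOfLE (X.basicOpen_le g)).op).hom (𝓘.ideal ↑U)) [DerComp.HasDerCompletion X.sheaf 𝓘] (F : X.Modules) (hF : Coh.IsCoh F) (U : X.Opens) (hU : IsAffineOpen U) (p : ℤ) (hp : p ≠ 0) : Subsingleton (SiteCmp.inD X.sheaf (ModSite.freeOn X.sheaf U) ⟶ ((DerComp.derCompletion X.sheaf 𝓘).obj (SiteCmp.inD X.sheaf F)).obj⟦p⟧) := by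
  haveI hN : IsNoetherianRing Γ(X, U) := IsLocallyNoetherian.component_noetherian ⟨U, hU⟩
  haveI : IsNoetherianRing (DerComp.GSec (Sheaf.over X.sheaf U)) :=
    isNoetherianRing_of_ringEquiv Γ(X, U) (GrothLib.DerComp.gsecOver X.sheaf U).symm
  obtain ⟨r, a, ha⟩ := Submodule.fg_iff_exists_fin_generating_family.1 (@Ideal.fg_of_isNoetherianRing _ _ hN (𝓘.ideal U))
  have hls := GrothLib.DerComp.locSpan_of_qcoh 𝓘 hU (hqc ⟨U, hU⟩) a ha
  obtain ⟨Q, g, d, hT, hQ⟩ := GrothLib.DerComp.exists_cone_toDerCompletion (I := 𝓘) (SiteCmp.inD X.sheaf F)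
  have hfin : ∀ m : ℤ, Module.Finite (DerComp.GSec (Sheaf.over X.sheaf U))
      ((GrothLib.DerComp.inDF (Sheaf.over X.sheaf U)).obj (ModSite.unit (Sheaf.over X.sheaf U)) ⟶
        ((GrothLib.DerComp.rD X.sheaf U).obj (SiteCmp.inD X.sheaf F))⟦m⟧) := by
    intro m
    by_cases hm : m = 0
    · subst hm
      haveI : F.IsQuasicoherent := hF.1
      exact GrothLib.DerComp.finite_hom_unit_shift_zero F U (GrothLib.QCoh.moduleFinite_of_isFiniteType F hF.2 hU)
    · have hs := GrothLib.DerComp.subsingleton_hom_freeOn_shift hU (GrothLib.DerComp.isQCohD_inDF F hF.1) m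
        (GrothLib.DerComp.isZero_homology_inDF F hm)
      haveI : Subsingleton ((GrothLib.DerComp.inDF (Sheaf.over X.sheaf U)).obj (ModSite.unit (Sheaf.over X.sheaf U)) ⟶
        ((GrothLib.DerComp.rD X.sheaf U).obj (SiteCmp.inD X.sheaf F))⟦m⟧) :=
        @Function.Injective.subsingleton _ _ _
          (GrothLib.DerComp.extHom_bijective (O := X.sheaf) U (ModSite.unit _) (SiteCmp.inD X.sheaf F) m).1 hs
      infer_instance
  obtain ⟨e, -⟩ := GrothLib.DerComp.exists_adicCompletion_equiv (GrothLib.DerComp.sectList a)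
    ((GrothLib.DerComp.rD X.sheaf U).map_distinguished _ hT)
    (GrothLib.DerComp.cplAll_rD ((DerComp.derCompletion X.sheaf 𝓘).obj (SiteCmp.inD X.sheaf F)).property hls)
    (hQ.isZero_kos hls) hfin p
  have hs := GrothLib.DerComp.subsingleton_hom_freeOn_shift hU (GrothLib.DerComp.isQCohD_inDF F hF.1) p
    (GrothLib.DerComp.isZero_homology_inDF F hp)
  haveI : Subsingleton ((GrothLib.DerComp.inDF (Sheaf.over X.sheaf U)).obj (ModSite.unit (Sheaf.over X.sheaf U)) ⟶
        ((GrothLib.DerComp.rD X.sheaf U).obj (SiteCmp.inD X.sheaf F))⟦p⟧) :=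
        @Function.Injective.subsingleton _ _ _
          (GrothLib.DerComp.extHom_bijective (O := X.sheaf) U (ModSite.unit _) (SiteCmp.inD X.sheaf F) p).1 hs
  have hL := @Function.Injective.subsingleton _ _ _ e.injective (subsingleton_completion _ this)
  exact @Equiv.subsingleton _ _ (Equiv.ofBijective _ (GrothLib.DerComp.extHom_bijective (O := X.sheaf) U (ModSite.unit _)
    ((DerComp.derCompletion X.sheaf 𝓘).obj (SiteCmp.inD X.sheaf F)).obj p)).symm hL

end Groth.Agent.S13495
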