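import Groth.Statements.S13496
import Groth.Agent.Lib.DerComp.GammaCompletion
import Groth.Agent.Lib.DerComp.GammaScheme
import Groth.Agent.Lib.DerComp.GlobalGen
import Groth.Agent.Lib.DerComp.Crit
import Groth.Agent.Lib.OX.PCohQCoh
import Groth.Agent.S1039

set_option autoImplicit false
universe u
open CategoryTheory CategoryTheory.Limits Opposite TopologicalSpace AlgebraicGeometry
attribute [local instance] HasDerivedCategory.standard
open DerComp

namespace Groth.Agent.S13496

private lemma transfer {A : Type*} [CommRing A] (I : Ideal A) (hI : I.FG) {M N : Type*} [AddCommGroup M] [Module A M]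
    [AddCommGroup N] [Module A N] (e : N ≃ₗ[A] AdicCompletion I M) (ι : M →ₗ[A] N)
    (he : ∀ x, e (ι x) = AdicCompletion.of I M x) :
    IsAdicComplete I N ∧ ∀ n : ℕ, (∀ y : N, ∃ x : M, ι x - y ∈ (I ^ n • ⊤ : Submodule A N)) ∧
      ∀ x : M, ι x ∈ (I ^ n • ⊤ : Submodule A N) → x ∈ (I ^ n • ⊤ : Submodule A M) := by
  haveI := AdicCompletion.isAdicComplete (M := M) hI
  have hmem : ∀ (n : ℕ) (y : N), y ∈ (I ^ n • ⊤ : Submodule A N) ↔
      e y ∈ (I ^ n • ⊤ : Submodule A (AdicCompletion I M)) := fun n y => by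
    have : Submodule.map (e : N →ₗ[A] AdicCompletion I M) (I ^ n • ⊤) = I ^ n • ⊤ := by
      rw [Submodule.map_smul'', Submodule.map_top, LinearEquiv.range]
    rw [← this, Submodule.mem_map_equiv, LinearEquiv.symm_apply_apply]
  refine ⟨{ haus' := fun y hy => e.injective ((IsHausdorff.haus' (I := I) (e y) fun n => ?_).trans (map_zero e).symm)
            prec' := fun f hf => ?_ }, fun n => ⟨fun y => ?_, fun x hx => ?_⟩⟩
  · have := hy n
    rw [SModEq.sub_mem, sub_zero, hmem] at this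
    rwa [SModEq.sub_mem, sub_zero]
  · obtain ⟨L, hL⟩ := IsPrecomplete.prec' (I := I) (fun k => e (f k)) fun {m k} hmk => by
      have := hf hmk
      rw [SModEq.sub_mem, hmem, map_sub] at this
      rwa [SModEq.sub_mem]
    refine ⟨e.symm L, fun k => ?_⟩
    have := hL k
    rw [SModEq.sub_mem] at this
    rwa [SModEq.sub_mem, hmem, map_sub, LinearEquiv.apply_symm_apply]
  · obtain ⟨x, hx⟩ := Submodule.mkQ_surjective _ (AdicCompletion.eval I M n (e y))
    refine ⟨x, ?_⟩
    rw [hmem, map_sub, he, AdicCompletion.pow_smul_top_eq_ker_eval hI, LinearMap.mem_ker, map_sub,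
      AdicCompletion.eval_of, hx, sub_self]
  · rw [hmem, he, AdicCompletion.pow_smul_top_eq_ker_eval hI, LinearMap.mem_ker, AdicCompletion.eval_of] at hx
    exact (Submodule.Quotient.mk_eq_zero _).1 hx


/-- Affine case U = X: let X be an affine Noetherian scheme, A its ring of global sections, I an ideal
of A and J = I O_X the (quasi-coherent) sheaf of ideals generated by the elements of I; take a
pseudo-coherent K in D(O_X), and write K^ for its derived J-completion. Then for every p, H^p(X, K^)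
= lim_n H^p(X, K)/I^n H^p(X, K), the I-adic completion of H^p(X, K): precisely, H^p(X, K^) is
I-adically complete and the map H^p(X, K) -> H^p(X, K^) induced by K -> K^ identifies H^p(X, K)/I^n
with H^p(X, K^)/I^n for every n. Here H^p(X, -) is the A-module of morphisms from O_X in degree 0 to
the p-th shift. (The published statement is for an affine open U of a locally Noetherian scheme;
restricting to U reduces it to this case since derived completion commutes with restriction to
opens; its second equality, with the derived completion of the module H^p(X, K), is not stated.) -/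
theorem result (X : Scheme.{u}) [IsAffine X] [IsNoetherian X] (I : Ideal (DerComp.GSec X.sheaf)) (𝓘 : DerComp.IdealSh X.sheaf) (h𝓘 : 𝓘.IsGenBy (fun a : I => (a : DerComp.GSec X.sheaf))) [DerComp.HasDerCompletion X.sheaf 𝓘] (K : DerivedCategory (ModSite.Mod X.sheaf)) (hK : ∀ m : ℤ, DCoh.IsPseudoCoherentD (X := X) m K) (p : ℤ) : IsAdicComplete I (SiteCmp.inD X.sheaf (ModSite.unit X.sheaf) ⟶ ((DerComp.derCompletion X.sheaf 𝓘).obj K).obj⟦p⟧) ∧ ∀ n : ℕ, (∀ y : (SiteCmp.inD X.sheaf (ModSite.unit X.sheaf) ⟶ ((DerComp.derCompletion X.sheaf 𝓘).obj K).obj⟦p⟧), ∃ x : (SiteCmp.inD X.sheaf (ModSite.unit X.sheaf) ⟶ K⟦p⟧), (Linear.rightComp (DerComp.GSec X.sheaf) (SiteCmp.inD X.sheaf (ModSite.unit X.sheaf)) ((shiftFunctor (DerivedCategory (ModSite.Mod X.sheaf)) p).map (DerComp.toDerCompletion 𝓘 K))) x - y ∈ (I ^ n • ⊤ : Submodule (DerComp.GSec X.sheaf) (SiteCmp.inD X.sheaf (ModSite.unit X.sheaf) ⟶ ((DerComp.derCompletion X.sheaf 𝓘).obj K).obj⟦p⟧))) ∧ (∀ x : (SiteCmp.inD X.sheaf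 (ModSite.unit X.sheaf) ⟶ K⟦p⟧), (Linear.rightComp (DerComp.GSec X.sheaf) (SiteCmp.inD X.sheaf (ModSite.unit X.sheaf)) ((shiftFunctor (DerivedCategory (ModSite.Mod X.sheaf)) p).map (DerComp.toDerCompletion 𝓘 K))) x ∈ (I ^ n • ⊤ : Submodule (DerComp.GSec X.sheaf) (SiteCmp.inD X.sheaf (ModSite.unit X.sheaf) ⟶ ((DerComp.derCompletion X.sheaf 𝓘).obj K).obj⟦p⟧)) → x ∈ (I ^ n • ⊤ : Submodule (DerComp.GSec X.sheaf) (SiteCmp.inD X.sheaf (ModSite.unit X.sheaf) ⟶ K⟦p⟧))) := by
  haveI := GrothLib.DerComp.isNoetherianRing_gsec (X := X)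
  obtain ⟨s, hs⟩ := I.fg_of_isNoetherianRing
  let l := s.toList
  have hspan : Ideal.span {x | x ∈ l} = I := by simp [l, hs]
  have hmem : ∀ a ∈ l, a ∈ I := fun a ha => hspan ▸ Ideal.subset_span ha
  have hL : GrothLib.DerComp.CplAll l ((DerComp.derCompletion X.sheaf 𝓘).obj K).obj := fun a ha =>
    (GrothLib.DerComp.sCpl_global_iff_van _ _).2 fun U =>
      (GrothLib.DerComp.isDerComp_iff_le_vanIdeal _ _).1 ((DerComp.derCompletion X.sheaf 𝓘).obj K).property U
        (h𝓘.1 ⟨a, hmem a ha⟩ U)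
  obtain ⟨Q, g, d, hT, hQ⟩ := GrothLib.DerComp.exists_cone_toDerCompletion (I := 𝓘) K
  have hQ' : IsZero (GrothLib.DerComp.kos l Q) := (GrothLib.DerComp.isZero_kos_iff_left _ _).2 fun L' hL' => by
    refine hQ L' ((GrothLib.DerComp.isDerComp_iff_le_vanIdeal _ _).2 (h𝓘.2 _ fun a U => ?_))
    have hle : I ≤ GrothLib.DerComp.cplIdeal (DerComp.GSec X.sheaf) L' :=
      hspan ▸ Ideal.span_le.2 fun b hb => hL' b hb
    exact (GrothLib.DerComp.sCpl_global_iff_van _ _).1 (hle a.2) U
  have hq : DCoh.IsQCohD (X := X) K := fun i => GrothLib.OX.isQCoh_HD_of_pseudoCoherent (hK (i - 1)) (by omega)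
  have hfin : ∀ m : ℤ, Module.Finite (DerComp.GSec X.sheaf)
      ((GrothLib.DerComp.inDF X.sheaf).obj (ModSite.unit X.sheaf) ⟶ K⟦m⟧) := fun m =>
    GrothLib.DerComp.finite_hom_unit_shift hq m (((Groth.Agent.S1039.result X K hq m).1 (hK m)).1 m le_rfl)
  obtain ⟨e, he⟩ := GrothLib.DerComp.exists_adicCompletion_equiv l hT hL hQ' hfin p
  subst hspan
  exact transfer _ (Ideal.fg_of_isNoetherianRing _) e _ he

end Groth.Agent.S13496
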