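import Groth.Statements.S13497
import Groth.Agent.Lib.RGamma.CechH0
import Groth.Agent.Lib.AdicLim.Finite
import Groth.Agent.Lib.RGamma.KrullLoc

set_option autoImplicit false
universe u
open CategoryTheory CategoryTheory.Limits
attribute [local instance] HasDerivedCategory.standard
open LocCoh

namespace Groth.Agent.S13497

/-- Let I and J be ideals of a Noetherian ring A which is I-adically complete, and M a finite A-module.
Then H^0 of the derived I-adic completion of RGamma_J(M) is the filtered colimit (union) of the
submodules H^0_{V(J')}(M) of J'-power torsion elements of M, over the ideals J' contained in J with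
V(J') ∩ V(I) = V(J) ∩ V(I), that is with J contained in the radical of J' + I. Precisely: the map on
H^0 induced by the completion of RGamma_J(M) -> M is injective, and its range is the image of that
union under M -> H^0(M^) (H^0 of the completion unit of M in degree 0). RGamma_J is the total right
derived functor of the J-power torsion functor (which is RGamma_{V(J)} since A is Noetherian); its
existence, and that of derived I-completion, are instance hypotheses. -/
theorem result (A : Type u) [CommRing A] [IsNoetherianRing A] (I J : Ideal A) [IsAdicComplete I A] [DRing.HasRgammaI J] [DRing.HasDerivedCompletion I] (M : Type u) [AddCommGroup M] [Module A M] [Module.Finite A M] : Function.Injective ((DerivedCategory.homologyFunctor (ModuleCat.{u} A) 0).map ((ObjectProperty.ι (DRing.IsDerivedComplete I)).map ((DRing.derivedCompletion I).map ((DRing.RgammaIε J).app (Dual.inD A M))))).hom ∧ Set.range ((DerivedCategory.homologyFunctor (ModuleCat.{u} A) 0).map ((ObjectProperty.ι (DRing.IsDerivedComplete I)).map ((DRing.derivedCompletion I).map ((DRing.RgammaIε J).app (Dual.inD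 A M))))).hom = (fun s : M => ((DerivedCategory.homologyFunctor (ModuleCat.{u} A) 0).map (DRing.toDerivedCompletion I (Dual.inD A M))).hom (((DerivedCategory.singleFunctorCompHomologyFunctorIso (ModuleCat.{u} A) 0).inv.app (ModuleCat.of A M)).hom s)) '' {s : M | ∃ J' : Ideal A, J' ≤ J ∧ J ≤ (J' ⊔ I).radical ∧ s ∈ DRing.torsionSub J' M} := by
    classical
    obtain ⟨t, ht⟩ : J.FG := IsNoetherian.noetherian J
    let fs := t.toList
    have hfs : Ideal.span {x | x ∈ fs} = J := by
      rw [show {x | x ∈ fs} = (t : Set A) by ext; simp [fs]]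
      exact ht
    have hmem : ∀ g ∈ fs, g ∈ J := fun g hg => hfs ▸ Ideal.subset_span hg
    haveI : IsAdicComplete I M := GrothLib.AdicLim.isAdicComplete_of_finite I M
    let H := DerivedCategory.homologyFunctor (ModuleCat.{u} A) 0
    let η := DerivedCategory.singleFunctor (ModuleCat.{u} A) 0
    let ν := DerivedCategory.singleFunctorCompHomologyFunctorIso (ModuleCat.{u} A) 0
    have hν : ∀ {X Y : ModuleCat.{u} A} (f : X ⟶ Y) (x : X),
        (H.map (η.map f)).hom ((ν.inv.app X).hom x) = (ν.inv.app Y).hom (f.hom x) := fun f x =>
      (ConcreteCategory.congr_hom (ν.inv.naturality f) x).symm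
    let ι := ObjectProperty.ι (DRing.IsDerivedComplete I)
    let L := DRing.derivedCompletion I
    have hnat : ∀ {K K' : Dual.D A} (φ : K ⟶ K'), φ ≫ DRing.toDerivedCompletion I K' =
        DRing.toDerivedCompletion I K ≫ ι.map (L.map φ) := fun φ => (DRing.derivedCompletionAdj I).unit.naturality φ
    let M₀ : ModuleCat.{u} A := ModuleCat.of A M
    haveI : Module.Finite A M₀ := inferInstanceAs (Module.Finite A M)
    obtain ⟨i, i', hi', hε⟩ := GrothLib.RGamma.exists_completion_eps I J fs hfs M₀
    let ε' := ι.map (L.map ((DRing.RgammaIε J).app (Dual.inD A M)))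
    refine ⟨?_, Set.ext fun y => ⟨?_, ?_⟩⟩
    · -- injectivity
      have h1 : Function.Injective ((H.map (ε' ≫ i'.hom)).hom) := by
        rw [show ε' ≫ i'.hom = i.hom ≫ GrothLib.RGamma.hatε I fs M₀ from hε]
        rw [CategoryTheory.Functor.map_comp, ModuleCat.hom_comp, LinearMap.coe_comp]
        exact (GrothLib.RGamma.injective_hatε I fs M₀).comp
          (ConcreteCategory.bijective_of_isIso (H.map i.hom)).1
      rw [CategoryTheory.Functor.map_comp, ModuleCat.hom_comp, LinearMap.coe_comp] at h1
      exact h1.of_comp
    · rintro ⟨w, rfl⟩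
      let z := (ν.hom.app _).hom ((H.map i'.hom).hom ((H.map ε').hom w))
      obtain ⟨s, hs⟩ := (AdicCompletion.of_bijective I M).2 z
      have hz : (ν.inv.app _).hom (((GrothLib.RGamma.hatUnit I).app M₀).hom s) =
          (H.map i'.hom).hom ((H.map ε').hom w) := by
        rw [show ((GrothLib.RGamma.hatUnit I).app M₀).hom s = z from hs]
        exact ConcreteCategory.congr_hom (Iso.hom_inv_id_app ν _) _
      have hy : (H.map (DRing.toDerivedCompletion I (Dual.inD A M))).hom ((ν.inv.app M₀).hom s) =
          (H.map ε').hom w := by
        refine (ConcreteCategory.bijective_of_isIso (H.map i'.hom)).1 ?_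
        have e1 : (H.map (η.map ((GrothLib.RGamma.hatUnit I).app M₀))).hom ((ν.inv.app M₀).hom s) =
            (H.map i'.hom).hom ((H.map ε').hom w) := (hν ((GrothLib.RGamma.hatUnit I).app M₀) s).trans hz
        have e2 := congrArg (fun φ => (H.map φ).hom ((ν.inv.app M₀).hom s)) hi'
        rw [CategoryTheory.Functor.map_comp, ModuleCat.hom_comp, LinearMap.comp_apply] at e2
        exact e2.trans e1
      refine ⟨s, ?_, hy⟩
      -- `s` is killed, for every `g ∈ fs`, by an element congruent to a power of `g`
      have hg : ∀ g ∈ fs, ∀ n : ℕ, LocalizedModule.mkLinearMap (Submonoid.powers g) M s ∈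
          I ^ n • (⊤ : Submodule A (LocalizedModule (Submonoid.powers g) M)) := by
        intro g hg n
        let Mg : ModuleCat.{u} A := ModuleCat.of A (LocalizedModule (Submonoid.powers g) M)
        let l : M₀ ⟶ Mg := ModuleCat.ofHom (LocalizedModule.mkLinearMap (Submonoid.powers g) M)
        obtain ⟨h1, h2⟩ := GrothLib.RGamma.isHatGood_module I (M := M) Mg
          (GrothLib.RGamma.isTensFlat_localized (Submonoid.powers g) GrothLib.RGamma.isTensFlat_self)
        obtain ⟨j, hj⟩ := GrothLib.RGamma.exists_iso_of_isCEquiv I _ h1 h2
        have hzero : (DRing.RgammaIε J).app (Dual.inD A M) ≫ η.map l = 0 := by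
          let Kc := GrothLib.RGamma.sing₀.obj Mg
          have hb : ∀ k : ℤ, Function.Bijective (fun x : Kc.X k => g • x) := fun k => by
            by_cases hk : k = 0
            · subst hk
              let e := (HomologicalComplex.singleObjXSelf (ComplexShape.up ℤ) 0 Mg).toLinearEquiv
              have hMg : Function.Bijective (fun x : Mg => g • x) := (Module.End.isUnit_iff _).1
                (IsLocalizedModule.map_units (LocalizedModule.mkLinearMap (Submonoid.powers g) M)
                  (⟨g, Submonoid.mem_powers g⟩ : Submonoid.powers g))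
              exact ⟨fun a b hab => e.injective (hMg.1
                  (((map_smul e g a).symm.trans (congrArg e hab)).trans (map_smul e g b))), fun b => by
                obtain ⟨c, hc⟩ := hMg.2 (e b)
                exact ⟨e.symm c, e.injective ((map_smul e g _).trans
                  ((congrArg (g • ·) (e.apply_symm_apply c)).trans hc))⟩⟩
            · haveI : Subsingleton (Kc.X k) := ModuleCat.subsingleton_of_isZero
                (HomologicalComplex.isZero_single_obj_X _ _ _ _ hk)
              exact ⟨fun a b _ => Subsingleton.elim _ _, fun b => ⟨b, Subsingleton.elim _ _⟩⟩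
          let sI := GrothLib.RGamma.singIso.app Mg
          have h0 := GrothLib.RGamma.hom_eq_zero_of_smul_bijective J Kc g (hmem g hg) hb _
            (fun k => GrothLib.RGamma.isPowerTorsion_HD J (Dual.inD A M) k) 0
            ((DRing.RgammaIε J).app (Dual.inD A M) ≫ η.map l ≫ sI.inv ≫
              (shiftFunctorZero (Dual.D A) ℤ).inv.app _)
          have h0' : ((DRing.RgammaIε J).app (Dual.inD A M) ≫ η.map l) ≫
              (sI.inv ≫ (shiftFunctorZero (Dual.D A) ℤ).inv.app _) = 0 := by
            simpa only [Category.assoc] using h0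
          exact (cancel_mono (sI.inv ≫ (shiftFunctorZero (Dual.D A) ℤ).inv.app _)).1
            (h0'.trans Limits.zero_comp.symm)
        have hc : ε' ≫ ι.map (L.map (η.map l)) = 0 := by
          refine GrothLib.RGamma.hom_ext_completion I (L.obj _).property ?_
          rw [Limits.comp_zero, ← Category.assoc, ← hnat, Category.assoc, ← hnat]
          exact (Category.assoc _ _ _).symm.trans ((congrArg (· ≫ _) hzero).trans Limits.zero_comp)
        have h3 : (H.map (η.map ((GrothLib.RGamma.hatUnit I).app Mg))).hom
            ((H.map (η.map l)).hom ((ν.inv.app M₀).hom s)) = 0 := by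
          have e1 : η.map l ≫ η.map ((GrothLib.RGamma.hatUnit I).app Mg) =
              DRing.toDerivedCompletion I (Dual.inD A M) ≫ ι.map (L.map (η.map l)) ≫ j.hom := by
            rw [← hj]
            exact (Category.assoc _ _ _).symm.trans ((congrArg (· ≫ j.hom) (hnat (η.map l))).trans (Category.assoc _ _ _))
          rw [← ModuleCat.comp_apply, ← CategoryTheory.Functor.map_comp, e1, CategoryTheory.Functor.map_comp,
            ModuleCat.comp_apply, hy, ← ModuleCat.comp_apply, ← CategoryTheory.Functor.map_comp, ← Category.assoc, hc,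
            Limits.zero_comp, Functor.map_zero]
          rfl
        have h3' := (hν ((GrothLib.RGamma.hatUnit I).app Mg) (l.hom s)).symm.trans
          ((congrArg (H.map (η.map ((GrothLib.RGamma.hatUnit I).app Mg))).hom (hν l s).symm).trans h3)
        have h4 := (ConcreteCategory.bijective_of_isIso (ν.inv.app _)).1 (h3'.trans (map_zero _).symm)
        exact (Submodule.Quotient.mk_eq_zero _).1 (congrArg (fun c => c.val n) h4)
      -- Krull intersection over the localised ring
      have hkill : ∀ g ∈ fs, ∃ j : A, j ∈ J ∧ j • s = 0 ∧ ∃ N : ℕ, g ^ N - j ∈ I := by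
        intro g hgfs
        obtain ⟨a, ha, c, ⟨k, hk⟩, d, ⟨m, hm⟩, hd⟩ :=
          GrothLib.RGamma.exists_kill_of_mem_pow I (Submonoid.powers g) s (hg g hgfs)
        refine ⟨g * (d * (c - a)), J.mul_mem_right _ (hmem g hgfs), ?_, m + k + 1, ?_⟩
        · rw [mul_smul, hd, smul_zero]
        · have : g ^ (m + k + 1) - g * (d * (c - a)) = g * d * a := by
            rw [← show g ^ m = d from hm, ← show g ^ k = c from hk]
            ring
          rw [this]
          exact I.mul_mem_left _ ha
      choose jf hjJ hjs hjN using hkill
      refine ⟨Ideal.span (Set.range fun g : {g // g ∈ fs} => jf g.1 g.2), ?_, ?_, ⟨1, fun a ha => ?_⟩⟩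
      · exact Ideal.span_le.2 (Set.range_subset_iff.2 fun g => hjJ g.1 g.2)
      · refine hfs.symm.le.trans (Ideal.span_le.2 fun g hg => ?_)
        obtain ⟨N, hN⟩ := hjN g hg
        refine ⟨N, ?_⟩
        rw [show g ^ N = jf g hg + (g ^ N - jf g hg) by ring]
        exact Submodule.add_mem_sup (Ideal.subset_span ⟨⟨g, hg⟩, rfl⟩) hN
      · rw [pow_one] at ha
        have hle : Ideal.span (Set.range fun g : {g // g ∈ fs} => jf g.1 g.2) ≤ Ideal.torsionOf A M s := by
          rw [Ideal.span_le]
          rintro _ ⟨g, rfl⟩
          exact hjs g.1 g.2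
        exact hle ha
    · rintro ⟨s, ⟨J', -, hJ, n, hn⟩, rfl⟩
      let N : Submodule A M := Submodule.span A {s}
      haveI : Module.Finite A N := Module.Finite.span_singleton A s
      let N₀ : ModuleCat.{u} A := ModuleCat.of A N
      haveI : Module.Finite A N₀ := inferInstanceAs (Module.Finite A N)
      let s₀ : N₀ := (⟨s, Submodule.mem_span_singleton_self s⟩ : N)
      let f : N₀ ⟶ M₀ := ModuleCat.ofHom N.subtype
      obtain ⟨k, k', -, hεN⟩ := GrothLib.RGamma.exists_completion_eps I J fs hfs N₀
      haveI := GrothLib.RGamma.isIso_hatε I fs N₀ (J' ^ n) (fun r hr x => by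
        obtain ⟨a, ha⟩ := Submodule.mem_span_singleton.1 (x : N).2
        refine Subtype.ext ?_
        change r • (x : N).1 = 0
        rw [← ha, smul_comm, hn r hr, smul_zero]) (fun g hg m => by
        have h1 : J ≤ (J' ^ n ⊔ I ^ m).radical := hJ.trans (Ideal.radical_le_radical_iff.2 (sup_le
          (fun a ha => ⟨n, Ideal.mem_sup_left (Ideal.pow_mem_pow ha n)⟩)
          (fun a ha => ⟨m, Ideal.mem_sup_right (Ideal.pow_mem_pow ha m)⟩)))
        exact h1 (hmem g hg))
      let εN := ι.map (L.map ((DRing.RgammaIε J).app (Dual.inD A N₀)))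
      haveI : IsIso εN := by
        have : εN = k.hom ≫ GrothLib.RGamma.hatε I fs N₀ ≫ k'.inv := by
          rw [← Category.assoc, ← hεN, Category.assoc, Iso.hom_inv_id, Category.comp_id]
        rw [this]
        infer_instance
      obtain ⟨w, hw⟩ := (ConcreteCategory.bijective_of_isIso (H.map εN)).2
        ((H.map (DRing.toDerivedCompletion I (η.obj N₀))).hom ((ν.inv.app N₀).hom s₀))
      refine ⟨(H.map (ι.map (L.map ((DRing.RgammaI J).map (η.map f))))).hom w, ?_⟩
      have e1 : ι.map (L.map ((DRing.RgammaI J).map (η.map f))) ≫ ε' = εN ≫ ι.map (L.map (η.map f)) := by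
        rw [← CategoryTheory.Functor.map_comp, ← CategoryTheory.Functor.map_comp, ← CategoryTheory.Functor.map_comp,
          ← CategoryTheory.Functor.map_comp]
        exact congrArg (fun φ => ι.map (L.map φ)) ((DRing.RgammaIε J).naturality (η.map f))
      change (H.map ε').hom _ = _
      rw [← ModuleCat.comp_apply, ← CategoryTheory.Functor.map_comp, e1, CategoryTheory.Functor.map_comp,
        ModuleCat.comp_apply, hw, ← ModuleCat.comp_apply, ← CategoryTheory.Functor.map_comp, ← hnat,
        CategoryTheory.Functor.map_comp, ModuleCat.comp_apply]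
      exact congrArg (H.map (DRing.toDerivedCompletion I (Dual.inD A M))).hom (hν f s₀)

end Groth.Agent.S13497
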