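import Groth.Statements.S13499
import Groth.Agent.Lib.EtTrace21.Torsion
import Groth.Agent.Lib.EtTrace21.Killed
import Groth.Agent.S7744

set_option backward.isDefEq.respectTransparency false
open CategoryTheory CategoryTheory.Limits AlgebraicGeometry

set_option autoImplicit false
universe u
open CategoryTheory CategoryTheory.Limits AlgebraicGeometry Opposite
open GalCoh

namespace Groth.Agent.S13499

/-- For a field k and i ≥ 2 there is an isomorphism between H^i(Spec k, Z) and H^{i-1}(Spec k, Q/Z),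
étale cohomology of Spec k with coefficients in the constant sheaves Z and Q/Z (existence of an
additive isomorphism only; the published statement is for an arbitrary profinite group with trivial
action and identifies the two groups through the boundary map of 0 → Z → Q → Q/Z → 0). -/
theorem result (k : Type u) [Field k] (i : ℕ) (hi : 2 ≤ i) :
    Nonempty (EtCoh.H (Spec (CommRingCat.of k)) (EtCoh.const (Spec (CommRingCat.of k)) ℤ) i ≃+
      EtCoh.H (Spec (CommRingCat.of k))
        (EtCoh.const (Spec (CommRingCat.of k)) (ℚ ⧸ AddSubgroup.zmultiples (1 : ℚ))) (i - 1)) := by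
  let X := Spec (CommRingCat.of k)
  let C := constantSheaf X.smallEtaleTopology AddCommGrpCat.{u+1}
  haveI : C.IsLeftAdjoint := (EtCore.constAdj X).isLeftAdjoint
  haveI : PreservesFiniteLimits C :=
    inferInstanceAs (PreservesFiniteLimits (Functor.const X.Etaleᵒᵖ ⋙ presheafToSheaf X.smallEtaleTopology AddCommGrpCat.{u+1}))
  haveI : PreservesFiniteColimits C := ⟨fun _ _ _ => inferInstance⟩
  haveI : C.Additive := Functor.additive_of_preserves_binary_products _
  let S : ShortComplex AddCommGrpCat.{u+1} := ShortComplex.mk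
    (AddCommGrpCat.ofHom (AddEquiv.ulift.symm.toAddMonoidHom.comp ((Int.castAddHom ℚ).comp AddEquiv.ulift.toAddMonoidHom)) :
      AddCommGrpCat.of (ULift.{u+1} ℤ) ⟶ AddCommGrpCat.of (ULift.{u+1} ℚ))
    (AddCommGrpCat.ofHom (AddEquiv.ulift.symm.toAddMonoidHom.comp
      ((QuotientAddGroup.mk' (AddSubgroup.zmultiples (1 : ℚ))).comp AddEquiv.ulift.toAddMonoidHom)) :
      AddCommGrpCat.of (ULift.{u+1} ℚ) ⟶ AddCommGrpCat.of (ULift.{u+1} (ℚ ⧸ AddSubgroup.zmultiples (1 : ℚ))))
    (by
      ext ⟨m⟩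
      exact (QuotientAddGroup.eq_zero_iff (N := AddSubgroup.zmultiples (1 : ℚ)) (m : ℚ)).2 (AddSubgroup.mem_zmultiples_iff.2 ⟨m, by simp⟩))
  have hS : S.ShortExact :=
    { exact := by
        rw [ShortComplex.ab_exact_iff]
        rintro ⟨x⟩ hx
        obtain ⟨m, hm⟩ := (QuotientAddGroup.eq_zero_iff x).1 (congrArg ULift.down hx)
        exact ⟨⟨m⟩, ULift.ext _ _ (show (m : ℚ) = x by simpa using hm)⟩
      mono_f := by
        rw [AddCommGrpCat.mono_iff_injective]
        rintro ⟨a⟩ ⟨b⟩ hab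
        exact ULift.ext _ _ (Int.cast_injective (congrArg ULift.down hab : (a : ℚ) = b))
      epi_g := by
        rw [AddCommGrpCat.epi_iff_surjective]
        rintro ⟨y⟩
        obtain ⟨x, rfl⟩ := QuotientAddGroup.mk'_surjective _ y
        exact ⟨⟨x⟩, rfl⟩ }
  have hT := hS.map_of_exact C
  have hdiv : ∀ N : ℕ, 0 < N → IsIso (N • 𝟙 (C.obj S.X₂)) := by
    intro N hN
    haveI : IsIso (N • 𝟙 S.X₂) := by
      rw [ConcreteCategory.isIso_iff_bijective]
      have e : ∀ a : S.X₂, (N • 𝟙 S.X₂) a = N • a := fun a => map_nsmul (AddMonoidHom.mk'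
        (fun c : S.X₂ ⟶ S.X₂ => c a) (fun _ _ => rfl)) N (𝟙 _)
      have hN' : (N : ℚ) ≠ 0 := Nat.cast_ne_zero.2 hN.ne'
      refine ⟨fun a b hab => ULift.ext _ _ ?_, fun b => ⟨⟨(b.down : ℚ) / (N : ℚ)⟩, ?_⟩⟩
      · rw [e, e] at hab
        have := congrArg ULift.down hab
        change N • (a.down : ℚ) = N • (b.down : ℚ) at this
        rw [nsmul_eq_mul, nsmul_eq_mul] at this
        exact mul_left_cancel₀ hN' this
      · rw [e]
        refine ULift.ext _ _ ?_
        show N • ((b.down : ℚ) / (N : ℚ)) = b.down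
        rw [nsmul_eq_mul]
        exact mul_div_cancel₀ _ hN'
    have : N • 𝟙 (C.obj S.X₂) = C.map (N • 𝟙 S.X₂) := by rw [C.map_nsmul, C.map_id]
    rw [this]; infer_instance
  obtain ⟨j, rfl⟩ : ∃ j, i = j + 1 := ⟨i - 1, by omega⟩
  have hQ : ∀ r : ℕ, 0 < r → ∀ y : EtCoh.H X (C.obj S.X₂) r, y = 0 := fun r hr y =>
    @Subsingleton.elim _ (Groth.Agent.S7744.result k _ hdiv r hr) y 0
  let δ : EtCoh.H X (C.obj S.X₃) j →+ EtCoh.H X (C.obj S.X₁) (j + 1) :=
    AddMonoidHom.mk' (fun z => Abelian.Ext.comp z hT.extClass rfl) (fun a b => Abelian.Ext.add_comp _ _ _ _)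
  refine ⟨(AddEquiv.ofBijective δ ⟨(injective_iff_map_eq_zero _).2 fun z hz => ?_, fun y => ?_⟩).symm⟩
  · obtain ⟨w, hw⟩ := Abelian.Ext.covariant_sequence_exact₃ _ hT z rfl hz
    rw [← hw, hQ j (by omega) w]
    exact Abelian.Ext.zero_comp _ _ _ _ _
  · exact Abelian.Ext.covariant_sequence_exact₁ _ hT y (hQ _ (by omega) _) rfl

end Groth.Agent.S13499
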