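import Groth.Statements.S13506
import Groth.Agent.Lib.FormalExist7.Levels
import Groth.Agent.Lib.LocNoeth.Scheme

set_option autoImplicit false
universe u
open CategoryTheory CategoryTheory.Limits AlgebraicGeometry
open Hensel

namespace Groth.Agent.S13506

/-- Let A be a Noetherian ring which is complete for the adic topology of an ideal I, f : X → Spec A
proper and X_0 = X ×_{Spec A} Spec (A/I). Then the projection X_0 → X induces a bijection from the
connected components of X_0 to the connected components of X. -/
theorem result (A : Type u) [CommRing A]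
    [IsNoetherianRing A] (I : Ideal A) [IsAdicComplete I A] {X : Scheme.{u}}
    (f : X ⟶ Spec (CommRingCat.of A)) [IsProper f] :
    Function.Bijective
      (Continuous.connectedComponentsMap
        (pullback.fst f (Spec.map (CommRingCat.ofHom (Ideal.Quotient.mk I)))).continuous) := by
  letI : X.Over (Spec (CommRingCat.of A)) := ⟨f⟩
  haveI : IsProper (X ↘ Spec (CommRingCat.of A)) := ‹IsProper f›
  haveI := GrothLib.SerreVanish.isNoetherian_of_proper (X := X) A
  let g := pullback.fst f (Spec.map (CommRingCat.ofHom (Ideal.Quotient.mk I)))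
  have hI1 : I ^ (0 + 1) = I := pow_one I
  have hr : Set.range g = {x : X | I ≤ (f x).asIdeal} := by
    rw [show Set.range g = f ⁻¹' Set.range (Spec.map (CommRingCat.ofHom (Ideal.Quotient.mk I))) from
      Scheme.Pullback.range_fst _ _]
    have h := range_comap_of_surjective (A ⧸ I) (Ideal.Quotient.mk I) Ideal.Quotient.mk_surjective
    rw [Ideal.mk_ker] at h
    exact congrArg (f ⁻¹' ·) h
  have hmeet : ∀ Z : Set X, IsClosed Z → Z.Nonempty → ∃ z, g z ∈ Z := fun Z hZ hne => by
    obtain ⟨y, hy, hyc⟩ := hZ.exists_closed_singleton hne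
    obtain ⟨z, hz⟩ := hr.ge (GrothLib.FormalExist7.le_asIdeal_of_closed_singleton I
      (GrothLib.FormalExist7.isProperOver_of_isClosed (A := A) (Z := Set.univ) isClosed_univ) (Set.mem_univ y) hyc)
    exact ⟨z, hz.symm ▸ hy⟩
  refine ⟨fun a b hab => ?_, fun c => ?_⟩
  · obtain ⟨x, rfl⟩ := ConnectedComponents.surjective_coe a
    obtain ⟨y, rfl⟩ := ConnectedComponents.surjective_coe b
    have hxy : connectedComponent (g x) = connectedComponent (g y) := ConnectedComponents.coe_eq_coe.1 hab
    by_contra hne
    haveI : IsClosedImmersion (Spec.map (CommRingCat.ofHom (Ideal.Quotient.mk I))) :=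
      IsClosedImmersion.spec_of_surjective _ Ideal.Quotient.mk_surjective
    haveI : IsClosedImmersion g := inferInstanceAs (IsClosedImmersion (pullback.fst _ _))
    haveI : IsLocallyNoetherian (pullback f (Spec.map (CommRingCat.ofHom (Ideal.Quotient.mk I)))) :=
      LocallyOfFiniteType.isLocallyNoetherian g
    haveI : CompactSpace ↥(pullback f (Spec.map (CommRingCat.ofHom (Ideal.Quotient.mk I)))) :=
      g.isClosedEmbedding.compactSpace
    haveI : AlgebraicGeometry.IsNoetherian (pullback f (Spec.map (CommRingCat.ofHom (Ideal.Quotient.mk I)))) := {}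
    haveI := GrothLib.FormalExist7.isClosedImmersion_thickι f I 0
    haveI : IsIso (IsClosedImmersion.lift g (CohB1.thickι f I 0) (le_of_eq (by
        rw [GrothLib.FormalExist7.ker_thickι, hI1]
        exact Scheme.IdealSheafData.ker_fst_of_isClosedImmersion (Spec.map (CommRingCat.ofHom (Ideal.Quotient.mk I))) f))) :=
      IsClosedImmersion.isIso_lift _ _ (by
        rw [GrothLib.FormalExist7.ker_thickι, hI1]
        exact Scheme.IdealSheafData.ker_fst_of_isClosedImmersion (Spec.map (CommRingCat.ofHom (Ideal.Quotient.mk I))) f)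
    let e := asIso (IsClosedImmersion.lift g (CohB1.thickι f I 0) (le_of_eq (by
        rw [GrothLib.FormalExist7.ker_thickι, hI1]
        exact Scheme.IdealSheafData.ker_fst_of_isClosedImmersion (Spec.map (CommRingCat.ofHom (Ideal.Quotient.mk I))) f)))
    have he : e.hom ≫ g = CohB1.thickι f I 0 := IsClosedImmersion.lift_fac _ _ _
    haveI := (GrothLib.LocNoeth.isLocNoeth (pullback f (Spec.map (CommRingCat.ofHom (Ideal.Quotient.mk I))))).locallyConnectedSpace
    let K := connectedComponent x
    have hKo : IsOpen K := isOpen_connectedComponent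
    let V : (CohB1.thick f I 0).Opens := e.hom ⁻¹ᵁ ⟨K, hKo⟩
    haveI : IsClosedImmersion V.ι := by
      refine IsClosedImmersion.of_isPreimmersion _ ?_
      rw [Scheme.Opens.range_ι]
      exact isClosed_connectedComponent.preimage e.hom.continuous
    haveI : IsProper (CohB1.thickToBase f I 0) :=
      inferInstanceAs (IsProper (pullback.snd f (CohB1.specQuot I 0)))
    obtain ⟨U, hUc, -, hU⟩ := GrothLib.FormalExist7.exists_clopen_of_thick_open I f V
    have hiff : ∀ z, g z ∈ U ↔ z ∈ K := fun z => by
      obtain ⟨w, rfl⟩ := e.hom.surjective z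
      rw [← Scheme.Hom.comp_apply, he]
      exact SetLike.ext_iff.1 hU w
    have h1 : connectedComponent (g x) ⊆ U :=
      IsClopen.connectedComponent_subset ⟨hUc, U.isOpen⟩ ((hiff x).2 mem_connectedComponent)
    refine hne (ConnectedComponents.coe_eq_coe.2 (connectedComponent_eq ?_))
    exact (hiff y).1 (h1 (hxy ▸ mem_connectedComponent))
  · obtain ⟨y, rfl⟩ := ConnectedComponents.surjective_coe c
    obtain ⟨z, hz⟩ := hmeet _ isClosed_connectedComponent ⟨y, mem_connectedComponent⟩
    exact ⟨z, ConnectedComponents.coe_eq_coe.2 (connectedComponent_eq hz).symm⟩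

end Groth.Agent.S13506
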