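import Groth.Statements.S13508
import Groth.Agent.Lib.FibSite.Topology

set_option autoImplicit false
universe v₁ u₁ v₂ u₂ v₃ u₃
open CategoryTheory Opposite Pseudofunctor.CoGrothendieck
open FibSite

namespace Groth.Agent.S13508

/-- For a fibred category `F` over `𝒮` with topologies `J` on its fibres all of whose inverse-image
functors are continuous, a sieve `S` on an object `X` of the total category is covering for the
total topology (the topology generated by the coverings of the fibres) if and only if `S` contains
the image under the fibre inclusion of some `J X.base`-covering sieve of `X.fiber`. (The published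
statement is for fibred sites, whose inverse-image functors are moreover morphisms of sites; its
proof uses only their continuity, as the text itself remarks.) -/
theorem result {𝒮 : Type u₁} [Category.{v₁} 𝒮]
    (F : Pseudofunctor (LocallyDiscrete 𝒮ᵒᵖ) Cat.{v₂, u₂}) (J : FibSite.Topologies F)
    (hF : FibSite.IsPreFibSite F J) (X : ∫ᶜ F) (S : Sieve X) :
    S ∈ FibSite.totalTopology F J X ↔
      ∃ R ∈ J X.base X.fiber, Sieve.functorPushforward (ι F X.base) R ≤ S := by
  exact GrothLib.FibSite.mem_totalTopology_iff hF X S

end Groth.Agent.S13508
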