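import Groth.Statements.S1351
import Groth.Agent.S2049
import Groth.Agent.S2107

set_option autoImplicit false
universe u
open FlatMor

namespace Groth.Agent.S1351

/-- membership in `I • ⊤` does not depend on the intermediate ring -/
theorem mem_map_smul_top_iff {A S M : Type*} [CommRing A] [CommRing S] [Algebra A S] [AddCommGroup M]
    [Module A M] [Module S M] [IsScalarTower A S M] (I : Ideal A) (x : M) :
    x ∈ I.map (algebraMap A S) • (⊤ : Submodule S M) ↔ x ∈ I • (⊤ : Submodule A M) := by
  constructor
  · intro hx
    refine Submodule.smul_induction_on hx (fun r hr y _ => ?_) (fun y z hy hz => add_mem hy hz)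
    induction hr using Submodule.span_induction generalizing y with
    | mem r hr =>
      obtain ⟨a, ha, rfl⟩ := hr
      rw [algebraMap_smul]
      exact Submodule.smul_mem_smul ha Submodule.mem_top
    | zero => rw [zero_smul]; exact zero_mem _
    | add r r' _ _ h h' => rw [add_smul]; exact add_mem (h y Submodule.mem_top) (h' y Submodule.mem_top)
    | smul c r _ h => rw [smul_eq_mul, mul_comm, mul_smul]; exact h _ Submodule.mem_top
  · intro hx
    refine Submodule.smul_induction_on hx (fun r hr y _ => ?_) (fun y z hy hz => add_mem hy hz)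
    rw [← algebraMap_smul S r y]
    exact Submodule.smul_mem_smul (Ideal.mem_map_of_mem _ hr) Submodule.mem_top

/-- over a valuation ring every element of `I • ⊤` is a multiple by one element of `I` -/
theorem exists_smul_of_mem_smul_top {A M : Type*} [CommRing A] [IsDomain A] [ValuationRing A]
    [AddCommGroup M] [Module A M] {I : Ideal A} {x : M} (hx : x ∈ I • (⊤ : Submodule A M)) :
    ∃ a ∈ I, ∃ y : M, x = a • y := by
  refine Submodule.smul_induction_on hx (fun r hr y _ => ⟨r, hr, y, rfl⟩) ?_
  rintro x₁ x₂ ⟨a, ha, y, rfl⟩ ⟨b, hb, z, rfl⟩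
  obtain ⟨c, hc⟩ := ValuationRing.cond a b
  rcases hc with hc | hc
  · exact ⟨a, ha, y + c • z, by rw [smul_add, smul_smul, hc]⟩
  · exact ⟨b, hb, c • y + z, by rw [smul_add, smul_smul, hc]⟩

/-- Let A be a valuation ring, A → B a local homomorphism of local rings essentially of finite type, and
u : N → M a B-linear map of finite B-modules with M flat over A. If u is injective after tensoring
with the residue field of A (that is, modulo the maximal ideal of A), then u is injective and its
cokernel is flat over A. -/
theorem result {A B : Type u} [CommRing A] [IsDomain A] [ValuationRing A] [CommRing B] [IsLocalRing B]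
    [Algebra A B] [IsLocalHom (algebraMap A B)] [Algebra.EssFiniteType A B]
    {N M : Type u} [AddCommGroup N] [Module B N] [Module A N] [IsScalarTower A B N] [Module.Finite B N]
    [AddCommGroup M] [Module B M] [Module A M] [IsScalarTower A B M] [Module.Finite B M] [Module.Flat A M]
    (u : N →ₗ[B] M)
    (hu : Function.Injective (Submodule.mapQ (IsLocalRing.maximalIdeal A • ⊤ : Submodule A N) (IsLocalRing.maximalIdeal A • ⊤ : Submodule A M) (u.restrictScalars A)
      (fun n hn => Submodule.smul_top_le_comap_smul_top _ _ hn))) :
    Function.Injective u ∧ Module.Flat A (M ⧸ LinearMap.range u) := by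
  classical
  obtain ⟨S₀, T₀, hft, hloc⟩ := (Algebra.essFiniteType_iff_exists_subalgebra A B).1
    (inferInstance : Algebra.EssFiniteType A B)
  obtain ⟨n, f, hf⟩ := Algebra.FiniteType.iff_quotient_mvPolynomial''.1 hft
  let φ : MvPolynomial (Fin n) A →ₐ[A] B := S₀.val.comp f
  let q : Ideal (MvPolynomial (Fin n) A) := (IsLocalRing.maximalIdeal B).comap φ.toRingHom
  haveI : q.IsPrime := Ideal.IsPrime.comap φ.toRingHom
  have hunit : ∀ t : q.primeCompl, IsUnit (φ t.1) := fun t => by
    by_contra h
    exact t.2 ((IsLocalRing.mem_maximalIdeal (φ t.1)).mpr h)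
  let ψ : Localization.AtPrime q →ₐ[A] B := IsLocalization.liftAlgHom (M := q.primeCompl) (f := φ) hunit
  have hψ : ∀ t, ψ (algebraMap (MvPolynomial (Fin n) A) (Localization.AtPrime q) t) = φ t := fun t =>
    IsLocalization.lift_eq _ _
  have hsurj : Function.Surjective ψ := by
    intro b
    obtain ⟨⟨a, t⟩, h⟩ := IsLocalization.surj T₀ b
    obtain ⟨a', rfl⟩ := hf a
    obtain ⟨t', ht'⟩ := hf t.1
    have ht : IsUnit (φ t') := by
      show IsUnit (S₀.val (f t'))
      rw [ht']
      exact IsLocalization.map_units B t
    have htq : t' ∈ q.primeCompl := fun hq => (IsLocalRing.mem_maximalIdeal _).1 hq ht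
    refine ⟨IsLocalization.mk' (Localization.AtPrime q) a' (⟨t', htq⟩ : q.primeCompl), ?_⟩
    apply ht.mul_left_injective
    show ψ _ * φ t' = b * φ t'
    rw [← hψ t', ← map_mul, IsLocalization.mk'_spec _ a' (⟨t', htq⟩ : q.primeCompl), hψ, hψ]
    show S₀.val (f a') = b * S₀.val (f t')
    rw [ht']
    exact h.symm
  letI : Algebra (Localization.AtPrime q) B := ψ.toRingHom.toAlgebra
  haveI : IsScalarTower A (Localization.AtPrime q) B :=
    IsScalarTower.of_algebraMap_eq fun r => (ψ.commutes r).symm
  haveI : Module.Finite (Localization.AtPrime q) B :=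
    Module.Finite.of_surjective (Algebra.linearMap (Localization.AtPrime q) B) hsurj
  haveI : IsLocalHom (algebraMap A (Localization.AtPrime q)) := ⟨fun a ha => by
    have h1 := ha.map (algebraMap (Localization.AtPrime q) B)
    rw [← IsScalarTower.algebraMap_apply] at h1
    exact (isUnit_map_iff (algebraMap A B) a).1 h1⟩
  haveI : Algebra.EssFiniteType A (Localization.AtPrime q) :=
    haveI : Algebra.EssFiniteType (MvPolynomial (Fin n) A) (Localization.AtPrime q) :=
      Algebra.EssFiniteType.of_isLocalization _ q.primeCompl
    Algebra.EssFiniteType.comp A (MvPolynomial (Fin n) A) _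
  have hess : CAlgX.IsEssFinitePresentation A (Localization.AtPrime q) :=
    ⟨MvPolynomial (Fin n) A, inferInstance, inferInstance, inferInstance, inferInstance,
      q.primeCompl, inferInstance, inferInstance⟩
  letI : Module (Localization.AtPrime q) M := Module.compHom M (algebraMap (Localization.AtPrime q) B)
  haveI : IsScalarTower (Localization.AtPrime q) B M := IsScalarTower.of_algebraMap_smul fun _ _ => rfl
  haveI : IsScalarTower A (Localization.AtPrime q) M := IsScalarTower.of_algebraMap_smul fun r x => by
    show algebraMap (Localization.AtPrime q) B (algebraMap A _ r) • x = r • x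
    rw [← IsScalarTower.algebraMap_apply, algebraMap_smul]
  haveI : Module.Finite (Localization.AtPrime q) M := Module.Finite.trans B M
  haveI : Module.FinitePresentation (Localization.AtPrime q) M :=
    Groth.Agent.S2049.result (A := A) (B := Localization.AtPrime q) (M := M)
  -- the image of `u`
  let N' : Submodule B M := LinearMap.range u
  haveI : Module.Finite B N' := Module.Finite.range u
  haveI : Module.IsTorsionFree A M := inferInstance
  haveI : Module.IsTorsionFree A N' := ⟨fun r hr x y h => Subtype.ext
    (hr.smul_right_injective M (congrArg Subtype.val h))⟩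
  haveI : Module.Flat A N' := Module.Flat.flat_iff_torsion_eq_bot_of_isBezout.2 (by
    simp [Submodule.isTorsionFree_iff_torsion_eq_bot.1 inferInstance])
  haveI : Module.FinitePresentation B N' := Groth.Agent.S2049.result (A := A) (B := B) (M := N')
  haveI : IsScalarTower A (Localization.AtPrime q) N' := IsScalarTower.of_algebraMap_smul fun r x =>
    Subtype.ext (algebraMap_smul (Localization.AtPrime q) r (x : M))
  haveI : Module.Finite (Localization.AtPrime q) N' := Module.Finite.trans B N'
  haveI : Module.FinitePresentation (Localization.AtPrime q) N' :=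
    Groth.Agent.S2049.result (A := A) (B := Localization.AtPrime q) (M := N')
  have hmem : ∀ x : N, u x ∈ IsLocalRing.maximalIdeal A • (⊤ : Submodule A M) →
      x ∈ IsLocalRing.maximalIdeal A • (⊤ : Submodule A N) := fun x hx => by
    rw [← Submodule.Quotient.mk_eq_zero]
    apply hu
    rw [Submodule.mapQ_apply, map_zero, Submodule.Quotient.mk_eq_zero]
    exact hx
  have hcok := Groth.Agent.S2107.result hess (N'.subtype.restrictScalars (Localization.AtPrime q))
    (fun x hx => by
      obtain ⟨n', hn'⟩ := x.2
      rw [mem_map_smul_top_iff] at hx ⊢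
      have h1 : n' ∈ IsLocalRing.maximalIdeal A • (⊤ : Submodule A N) := hmem n' (by rw [hn']; exact hx)
      obtain ⟨a, ha, y, hy⟩ := exists_smul_of_mem_smul_top h1
      have h2 : x = a • (⟨u y, ⟨y, rfl⟩⟩ : N') := Subtype.ext (by
        show (x : M) = a • u y
        rw [← hn', hy, LinearMap.map_smul_of_tower])
      rw [h2]
      exact Submodule.smul_mem_smul ha Submodule.mem_top)
  refine ⟨?_, ?_⟩
  · rw [← LinearMap.ker_eq_bot]
    refine Submodule.eq_bot_of_le_smul_of_le_jacobson_bot
      ((IsLocalRing.maximalIdeal A).map (algebraMap A B)) _ ?_ ?_ ?_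
    · rw [← LinearMap.ker_rangeRestrict u]
      exact Module.FinitePresentation.fg_ker u.rangeRestrict u.surjective_rangeRestrict
    · intro x hx
      have hx0 : u x = 0 := hx
      obtain ⟨a, ha, y, hy⟩ := exists_smul_of_mem_smul_top (hmem x (by rw [hx0]; exact zero_mem _))
      rcases eq_or_ne a 0 with rfl | ha0
      · rw [hy, zero_smul]
        exact zero_mem _
      · have hy0 : a • u y = 0 := by rw [← LinearMap.map_smul_of_tower, ← hy, hx0]
        rw [hy, ← algebraMap_smul B a y]
        exact Submodule.smul_mem_smul (Ideal.mem_map_of_mem _ ha)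
          ((smul_eq_zero.1 hy0).resolve_left ha0)
    · rw [IsLocalRing.jacobson_eq_maximalIdeal ⊥ bot_ne_top]
      refine Ideal.map_le_iff_le_comap.2 fun a ha => ?_
      show algebraMap A B a ∈ IsLocalRing.maximalIdeal B
      exact map_nonunit (algebraMap A B) a ha
  · haveI := hcok.2
    exact Module.Flat.of_linearEquiv
      (((Submodule.Quotient.restrictScalarsEquiv A
          (LinearMap.range (N'.subtype.restrictScalars (Localization.AtPrime q)))).symm.trans
        ((Submodule.quotEquivOfEq _ (N'.restrictScalars A) (by
          ext x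
          exact ⟨fun ⟨y, hy⟩ => hy ▸ y.2, fun hx => ⟨⟨x, hx⟩, rfl⟩⟩)).trans
          (Submodule.Quotient.restrictScalarsEquiv A N'))).symm)

end Groth.Agent.S1351
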