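import Groth.Statements.S13513
import Groth.Agent.Lib.FibSite.Coextend

set_option autoImplicit false
universe u
open CategoryTheory CategoryTheory.Limits Opposite Pseudofunctor.CoGrothendieck
open FibSite

namespace Groth.Agent.S13513

/-- Let `F` be a fibred site over a small category `𝒮` with small fibres (every inverse-image functor is
a morphism of sites) and let `i` be a final object of `𝒮`. Then the left adjoint `α_{i!}` of the
restriction of sheaves of sets from the total site to the fibre over `i` is full and faithful;
equivalently the composite "extend from the fibre over `i`, then restrict back" is isomorphic to the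
identity through the unit of the adjunction. The continuity of the fibre inclusion and the existence
of the left adjoint are carried as instance hypotheses. -/
theorem result {𝒮 : Type u} [SmallCategory 𝒮]
    (F : Pseudofunctor (LocallyDiscrete 𝒮ᵒᵖ) Cat.{u, u}) (J : FibSite.Topologies F)
    (hF : FibSite.IsFibSite F J) (i : 𝒮) (hi : IsTerminal i)
    [(ι F i).IsContinuous (J i) (FibSite.totalTopology F J)]
    [((ι F i).sheafPushforwardContinuous (Type u) (J i) (FibSite.totalTopology F J)).IsRightAdjoint] :
    (FibSite.extend F J (Type u) i).Full ∧ (FibSite.extend F J (Type u) i).Faithful := by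
  haveI : ∀ S : 𝒮, (ι F S).IsContinuous (J S) (FibSite.totalTopology F J) :=
    GrothLib.FibSite.isContinuous_ι hF.isPreFibSite
  haveI : ∀ S : 𝒮, (ι F S).IsCocontinuous (J S) (FibSite.totalTopology F J) :=
    GrothLib.FibSite.isCocontinuous_ι hF.isPreFibSite
  haveI : ∀ (R S : 𝒮) (f : R ⟶ S), (FibSite.invImage F f).IsContinuous (J S) (J R) :=
    fun _ _ f => hF.isPreFibSite f
  let t : Adjunction.Triple (FibSite.extend F J (Type u) i) (FibSite.restr F J (Type u) i)
      (FibSite.coextend F J (Type u) i) :=
    ⟨(ι F i).sheafAdjunctionContinuous (Type u) (J i) (FibSite.totalTopology F J),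
      (ι F i).sheafAdjunctionCocontinuous (Type u) (J i) (FibSite.totalTopology F J)⟩
  haveI : IsIso t.adj₂.counit := GrothLib.FibSite.isIso_eps i (fun f => hi.hom_ext f _)
  exact ⟨(t.fullyFaithfulEquiv.symm t.adj₂.fullyFaithfulROfIsIsoCounit).full,
    (t.fullyFaithfulEquiv.symm t.adj₂.fullyFaithfulROfIsIsoCounit).faithful⟩

end Groth.Agent.S13513
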