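import Groth.Statements.S13514
import Groth.Agent.Lib.FibSite.ExtendTerminal

set_option autoImplicit false
universe u
open CategoryTheory CategoryTheory.Limits Opposite Pseudofunctor.CoGrothendieck
open FibSite

namespace Groth.Agent.S13514

/-- Let `F` be a fibred site over a small category `𝒮` with small fibres (every inverse-image functor is
a morphism of sites) and let `i` be a final object of `𝒮`. Then the left adjoint `α_{i!}` of the
restriction of sheaves of sets from the total site to the fibre over `i` is left exact (it preserves
finite limits), so that the pair (`α_{i!}`, restriction) is a morphism of topoi from the total topos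
to the topos of the fibre. The continuity of the fibre inclusion and the existence of the left
adjoint are carried as instance hypotheses. -/
theorem result {𝒮 : Type u} [SmallCategory 𝒮]
    (F : Pseudofunctor (LocallyDiscrete 𝒮ᵒᵖ) Cat.{u, u}) (J : FibSite.Topologies F)
    (hF : FibSite.IsFibSite F J) (i : 𝒮) (hi : IsTerminal i)
    [(ι F i).IsContinuous (J i) (FibSite.totalTopology F J)]
    [((ι F i).sheafPushforwardContinuous (Type u) (J i) (FibSite.totalTopology F J)).IsRightAdjoint] :
    PreservesFiniteLimits (FibSite.extend F J (Type u) i) := by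
  haveI : ∀ S : 𝒮, (ι F S).IsContinuous (J S) (FibSite.totalTopology F J) :=
    GrothLib.FibSite.isContinuous_ι hF.isPreFibSite
  haveI : ∀ S : 𝒮, (ι F S).IsCocontinuous (J S) (FibSite.totalTopology F J) :=
    GrothLib.FibSite.isCocontinuous_ι hF.isPreFibSite
  haveI : ∀ (R S : 𝒮) (f : R ⟶ S), (FibSite.invImage F f).IsContinuous (J S) (J R) :=
    fun _ _ f => hF.isPreFibSite f
  haveI : ∀ S : 𝒮, ((ι F S).sheafPushforwardContinuous (Type u) (J S) (FibSite.totalTopology F J)).IsRightAdjoint :=
    fun S => inferInstance
  haveI : ∀ (R S : 𝒮) (f : R ⟶ S),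
      ((FibSite.invImage F f).sheafPushforwardContinuous (Type u) (J S) (J R)).IsRightAdjoint :=
    fun _ _ f => inferInstance
  refine ⟨fun K _ _ => ⟨fun {P} => ?_⟩⟩
  haveI : ∀ j, PreservesLimit P (FibSite.extend F J (Type u) i ⋙ FibSite.restr F J (Type u) j) := fun j => by
    obtain ⟨_, _, hlex⟩ := hF (hi.from j)
    haveI : PreservesFiniteLimits ((FibSite.invImage F (hi.from j)).sheafPullback (Type u) (J i) (J j)) := hlex
    haveI := GrothLib.FibSite.isIso_legNat (J := J) (hi.from j) (fun g => hi.hom_ext g _)
    exact preservesLimit_of_natIso P (asIso (GrothLib.FibSite.legNat (J := J) (hi.from j)))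
  haveI : HasLimit (P ⋙ FibSite.extend F J (Type u) i) :=
    haveI : HasLimitsOfShape K (Sheaf (FibSite.totalTopology F J) (Type u)) := Sheaf.instHasLimitsOfShape
    HasLimitsOfShape.has_limit _
  exact GrothLib.FibSite.preservesLimit_of_jointly_reflects (FibSite.extend F J (Type u) i)
    (fun j => FibSite.restr F J (Type u) j) P inferInstance GrothLib.FibSite.isIso_of_restr

end Groth.Agent.S13514
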