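import Groth.Statements.S13515
import Groth.Agent.Lib.FibSite.MapSite

set_option autoImplicit false
universe u
open CategoryTheory CategoryTheory.Limits Opposite Pseudofunctor.CoGrothendieck
open scoped CategoryTheory.Pseudofunctor.StrongTrans
open FibSite

namespace Groth.Agent.S13515

/-- Let `F` and `G` be fibred sites over a small category `𝒮` with small fibres and let `α : G ⟶ F` be a
strong transformation of pseudofunctors, i.e. a cartesian functor `∫ᶜ G ⥤ ∫ᶜ F` over `𝒮`, which is a
morphism of fibred sites: on each fibre the functor `α_S : G(S) ⥤ F(S)` is a morphism of sites from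
`(F(S), J S)` to `(G(S), K S)` (continuous, with left exact inverse image on sheaves of sets). Then
the induced functor between the total categories is a morphism of sites from the total site of `F`
to the total site of `G`: it is continuous for the total topologies and the inverse image of sheaves
of sets along it exists and is left exact. -/
theorem result {𝒮 : Type u} [SmallCategory 𝒮]
    (F G : Pseudofunctor (LocallyDiscrete 𝒮ᵒᵖ) Cat.{u, u}) (J : FibSite.Topologies F) (K : FibSite.Topologies G)
    (hF : FibSite.IsFibSite F J) (hG : FibSite.IsFibSite G K) (α : G ⟶ F)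
    (hα : ∀ S : 𝒮, ∃ (_ : (α.app ⟨op S⟩).toFunctor.IsContinuous (K S) (J S))
      (_ : ((α.app ⟨op S⟩).toFunctor.sheafPushforwardContinuous (Type u) (K S) (J S)).IsRightAdjoint),
      PreservesFiniteLimits ((α.app ⟨op S⟩).toFunctor.sheafPullback (Type u) (K S) (J S))) :
    ∃ (_ : (Pseudofunctor.CoGrothendieck.map α).IsContinuous
        (FibSite.totalTopology G K) (FibSite.totalTopology F J))
      (_ : ((Pseudofunctor.CoGrothendieck.map α).sheafPushforwardContinuous (Type u)
        (FibSite.totalTopology G K) (FibSite.totalTopology F J)).IsRightAdjoint),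
      PreservesFiniteLimits ((Pseudofunctor.CoGrothendieck.map α).sheafPullback (Type u)
        (FibSite.totalTopology G K) (FibSite.totalTopology F J)) := by
  haveI : ∀ S : 𝒮, (ι F S).IsContinuous (J S) (FibSite.totalTopology F J) :=
    GrothLib.FibSite.isContinuous_ι hF.isPreFibSite
  haveI : ∀ S : 𝒮, (ι G S).IsContinuous (K S) (FibSite.totalTopology G K) :=
    GrothLib.FibSite.isContinuous_ι hG.isPreFibSite
  haveI : ∀ S : 𝒮, (ι F S).IsCocontinuous (J S) (FibSite.totalTopology F J) :=
    GrothLib.FibSite.isCocontinuous_ι hF.isPreFibSite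
  haveI : ∀ S : 𝒮, (ι G S).IsCocontinuous (K S) (FibSite.totalTopology G K) :=
    GrothLib.FibSite.isCocontinuous_ι hG.isPreFibSite
  haveI hm : (Pseudofunctor.CoGrothendieck.map α).IsContinuous
      (FibSite.totalTopology G K) (FibSite.totalTopology F J) :=
    GrothLib.FibSite.isContinuous_map α hF.isPreFibSite hG.isPreFibSite (fun S => (hα S).1)
  haveI hr : ((Pseudofunctor.CoGrothendieck.map α).sheafPushforwardContinuous (Type u)
      (FibSite.totalTopology G K) (FibSite.totalTopology F J)).IsRightAdjoint := inferInstance
  refine ⟨hm, hr, ⟨fun Kc _ _ => ⟨fun {P} => ?_⟩⟩⟩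
  haveI : ∀ S : 𝒮, PreservesLimit P ((Pseudofunctor.CoGrothendieck.map α).sheafPullback (Type u)
      (FibSite.totalTopology G K) (FibSite.totalTopology F J) ⋙ FibSite.restr F J (Type u) S) := fun S => by
    obtain ⟨_, _, hlex⟩ := hα S
    haveI : PreservesFiniteLimits ((α.app ⟨op S⟩).toFunctor.sheafPullback (Type u) (K S) (J S)) := hlex
    exact preservesLimit_of_natIso P (GrothLib.FibSite.pullbackRestrIso α S).symm
  haveI : HasLimit (P ⋙ (Pseudofunctor.CoGrothendieck.map α).sheafPullback (Type u)
      (FibSite.totalTopology G K) (FibSite.totalTopology F J)) :=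
    haveI : HasLimitsOfShape Kc (Sheaf (FibSite.totalTopology F J) (Type u)) := Sheaf.instHasLimitsOfShape
    HasLimitsOfShape.has_limit _
  exact GrothLib.FibSite.preservesLimit_of_jointly_reflects _
    (fun S => FibSite.restr F J (Type u) S) P inferInstance GrothLib.FibSite.isIso_of_restr

end Groth.Agent.S13515
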