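import Groth.Statements.S13516
import Groth.Agent.Lib.FibSite.MapConv

set_option autoImplicit false
universe u
open CategoryTheory CategoryTheory.Limits Opposite Pseudofunctor.CoGrothendieck
open scoped CategoryTheory.Pseudofunctor.StrongTrans
open FibSite

namespace Groth.Agent.S13516

/-- Let `F` and `G` be fibred sites over a small category `𝒮` with small fibres and let `α : G ⟶ F` be a
strong transformation of pseudofunctors, i.e. a cartesian functor `∫ᶜ G ⥤ ∫ᶜ F` over `𝒮`. If the
induced functor between the total categories is a morphism of sites from the total site of `F` to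
the total site of `G` (continuous, with left exact inverse image on sheaves of sets), then `α` is a
morphism of fibred sites: for every `S` the fibre functor `α_S : G(S) ⥤ F(S)` is a morphism of sites
from `(F(S), J S)` to `(G(S), K S)`. (The published statement is for an arbitrary functor over `𝒮`
between the total categories; this row takes a cartesian one.) -/
theorem result {𝒮 : Type u} [SmallCategory 𝒮]
    (F G : Pseudofunctor (LocallyDiscrete 𝒮ᵒᵖ) Cat.{u, u}) (J : FibSite.Topologies F) (K : FibSite.Topologies G)
    (hF : FibSite.IsFibSite F J) (hG : FibSite.IsFibSite G K) (α : G ⟶ F)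
    (hα : ∃ (_ : (Pseudofunctor.CoGrothendieck.map α).IsContinuous
        (FibSite.totalTopology G K) (FibSite.totalTopology F J))
      (_ : ((Pseudofunctor.CoGrothendieck.map α).sheafPushforwardContinuous (Type u)
        (FibSite.totalTopology G K) (FibSite.totalTopology F J)).IsRightAdjoint),
      PreservesFiniteLimits ((Pseudofunctor.CoGrothendieck.map α).sheafPullback (Type u)
        (FibSite.totalTopology G K) (FibSite.totalTopology F J))) (S : 𝒮) :
    ∃ (_ : (α.app ⟨op S⟩).toFunctor.IsContinuous (K S) (J S))
      (_ : ((α.app ⟨op S⟩).toFunctor.sheafPushforwardContinuous (Type u) (K S) (J S)).IsRightAdjoint),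
      PreservesFiniteLimits ((α.app ⟨op S⟩).toFunctor.sheafPullback (Type u) (K S) (J S)) := by
  obtain ⟨_, _, hlex⟩ := hα
  haveI : PreservesFiniteLimits ((Pseudofunctor.CoGrothendieck.map α).sheafPullback (Type u)
      (FibSite.totalTopology G K) (FibSite.totalTopology F J)) := hlex
  haveI : ∀ S : 𝒮, (ι F S).IsContinuous (J S) (FibSite.totalTopology F J) :=
    GrothLib.FibSite.isContinuous_ι hF.isPreFibSite
  haveI : ∀ S : 𝒮, (ι G S).IsContinuous (K S) (FibSite.totalTopology G K) :=
    GrothLib.FibSite.isContinuous_ι hG.isPreFibSite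
  haveI : ∀ S : 𝒮, (ι F S).IsCocontinuous (J S) (FibSite.totalTopology F J) :=
    GrothLib.FibSite.isCocontinuous_ι hF.isPreFibSite
  haveI : ∀ S : 𝒮, (ι G S).IsCocontinuous (K S) (FibSite.totalTopology G K) :=
    GrothLib.FibSite.isCocontinuous_ι hG.isPreFibSite
  haveI hc : (α.app ⟨op S⟩).toFunctor.IsContinuous (K S) (J S) :=
    GrothLib.FibSite.isContinuous_app α hF.isPreFibSite hG.isPreFibSite S
  haveI hr : ((α.app ⟨op S⟩).toFunctor.sheafPushforwardContinuous (Type u) (K S) (J S)).IsRightAdjoint :=
    inferInstance
  exact ⟨hc, hr, GrothLib.FibSite.preservesFiniteLimits_sheafPullback_app α S⟩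

end Groth.Agent.S13516
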