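import Groth.Statements.S13519
import Groth.Agent.Lib.CohDesc25.Univ
-- import your own Groth.Agent.* helpers here

set_option autoImplicit false
universe u
open CategoryTheory CategoryTheory.Limits Opposite TopologicalSpace
open FibDesc

namespace Groth.Agent.S13519

/-- In the category of topological spaces with all abelian sheaves as coefficients, if the composite of
two continuous maps `f : X ⟶ Y` and `g : Y ⟶ S` is universally of cohomological 1-descent, then `g`
is universally of cohomological 1-descent. -/
theorem result {X Y S : TopCat.{u}} (f : X ⟶ Y) (g : Y ⟶ S)
    (h : FibDesc.IsUnivCohDescentMap (f ≫ g)) : FibDesc.IsUnivCohDescentMap g := GrothLib.CohDesc25.isUnivCohDescentMap_of_comp f g h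

end Groth.Agent.S13519
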