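import Groth.Statements.S13521
import Groth.Agent.Lib.CohDesc25.Univ
-- import your own Groth.Agent.* helpers here

set_option autoImplicit false
universe u
open CategoryTheory CategoryTheory.Limits Opposite TopologicalSpace
open FibDesc

namespace Groth.Agent.S13521

/-- In the category of topological spaces with all abelian sheaves as coefficients, let `X' ⟶ S` and `Y'
⟶ S` be spaces over `S` and let `f : X ⟶ X'`, `g : Y ⟶ Y'` be continuous maps (maps over `S` for the
composite structure maps) which are universally of cohomological 1-descent. Then the induced map of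
fibre products over `S`, from `X ×_S Y` to `X' ×_S Y'`, is universally of cohomological 1-descent. -/
theorem result {X X' Y Y' S : TopCat.{u}} (pX : X' ⟶ S) (pY : Y' ⟶ S)
    (f : X ⟶ X') (g : Y ⟶ Y') (hf : FibDesc.IsUnivCohDescentMap f) (hg : FibDesc.IsUnivCohDescentMap g) :
    FibDesc.IsUnivCohDescentMap
      (pullback.map (f ≫ pX) (g ≫ pY) pX pY f g (𝟙 S) (Category.comp_id _) (Category.comp_id _)) := GrothLib.CohDesc25.isUnivCohDescentMap_pullback_map pX pY f g hf hg

end Groth.Agent.S13521
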