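import Groth.Statements.S13522
import Groth.Agent.Lib.PDesc25.Cech
-- import your own Groth.Agent.* helpers here

set_option autoImplicit false
universe u
open CategoryTheory CategoryTheory.Limits Opposite TopologicalSpace
open FibDesc

namespace Groth.Agent.S13522

/-- Let `f : X ⟶ S` be a surjective proper continuous map of topological spaces, proper meaning
universally closed and separated (any two distinct points of a common fibre have disjoint open
neighbourhoods in `X`). Then `f` is of cohomological 1-descent for abelian sheaves: the inverse
image functor from the bounded below derived category of abelian sheaves on `S` to that of abelian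
sheaves on the total site of the augmented Cech simplicial space of `f` is fully faithful. -/
theorem result {X S : TopCat.{u}} (f : X ⟶ S) (hf : IsProperMap f)
    (hs : ∀ x x' : X, f x = f x' → x ≠ x' → ∃ U V : Set X, IsOpen U ∧ IsOpen V ∧ x ∈ U ∧ x' ∈ V ∧ Disjoint U V)
    (hsurj : Function.Surjective f) : FibDesc.IsCohDescentMap f := GrothLib.PDesc25.isCohDescentMap_of_proper hf hs hsurj

end Groth.Agent.S13522
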