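import Groth.Statements.S13526
import Groth.Agent.Lib.FibSite.Coextend

set_option autoImplicit false
universe u
open CategoryTheory CategoryTheory.Limits Opposite Pseudofunctor.CoGrothendieck
open FibSite

namespace Groth.Agent.S13526

/-- Let `F` be a fibred site over a small category `𝒮` with small fibres and fibre topologies `J`,
viewed as an indexed family of sites, and let `i`, `j` be objects of `𝒮`. For a sheaf of sets `a` on
the fibre over `i`, the value over `j` (restriction to the fibre over `j`) of the left adjoint
`e_{i!}` of evaluation at `i`, applied to `a`, is a coproduct, indexed by the morphisms `f : j ⟶ i`,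
of the inverse images of `a` along the morphisms of sites `f^* : F(i) ⥤ F(j)`: there is a colimit
cofan on that family whose vertex is isomorphic to it. (Existence of such an isomorphism only; the
published statement names the canonical one. The topos of sections of the indexed topos is rendered
as the topos of sheaves on the total site.) -/
theorem result {𝒮 : Type u} [SmallCategory 𝒮]
    (F : Pseudofunctor (LocallyDiscrete 𝒮ᵒᵖ) Cat.{u, u}) (J : FibSite.Topologies F)
    (hF : FibSite.IsFibSite F J) (i j : 𝒮)
    [∀ S : 𝒮, (ι F S).IsContinuous (J S) (FibSite.totalTopology F J)]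
    [((ι F i).sheafPushforwardContinuous (Type u) (J i) (FibSite.totalTopology F J)).IsRightAdjoint]
    [∀ (R S : 𝒮) (f : R ⟶ S), (FibSite.invImage F f).IsContinuous (J S) (J R)]
    [∀ (R S : 𝒮) (f : R ⟶ S),
      ((FibSite.invImage F f).sheafPushforwardContinuous (Type u) (J S) (J R)).IsRightAdjoint]
    (a : Sheaf (J i) (Type u)) :
    ∃ c : Cofan fun f : j ⟶ i => ((FibSite.invImage F f).sheafPullback (Type u) (J i) (J j)).obj a,
      Nonempty (IsColimit c) ∧
        Nonempty (c.pt ≅ (FibSite.restr F J (Type u) j).obj ((FibSite.extend F J (Type u) i).obj a)) := by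
  haveI : ∀ S : 𝒮, (ι F S).IsCocontinuous (J S) (FibSite.totalTopology F J) :=
    GrothLib.FibSite.isCocontinuous_ι hF.isPreFibSite
  exact ⟨_, ⟨GrothLib.FibSite.isColimitLeg i j a⟩, ⟨Iso.refl _⟩⟩

end Groth.Agent.S13526
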