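import Groth.Statements.S13531
import Groth.Agent.Lib.ResProp.ThickNhd24

set_option autoImplicit false
universe u
open CategoryTheory CategoryTheory.Limits AlgebraicGeometry
attribute [local instance] HasDerivedCategory.standard
open ResProp

namespace Groth.Agent.S13531

/-- On a scheme of finite type and separated over a Noetherian base ring, each point has an open
neighbourhood which contains all points of codimension at most 1 (all points whose local ring has
Krull dimension at most 1) and which admits an ample family of invertible modules. (The published
statement also provides a projective morphism to X, finite over V, with an ample module pulling back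
the whole family; this row states only the existence of the neighbourhood.) -/
theorem result (A : Type u) [CommRing A] [IsNoetherianRing A]
    (X : Scheme.{u}) (f : X ⟶ Spec (CommRingCat.of A)) [IsSeparated f] [LocallyOfFiniteType f] [QuasiCompact f] (x : X) :
    ∃ V : X.Opens, x ∈ V ∧ (∀ y : X, ringKrullDim (X.presheaf.stalk y) ≤ 1 → y ∈ V) ∧
      MoreMor.HasAmpleFamily (V : Scheme.{u}) := by
  obtain ⟨U, V, -, -, L, -, -, hxU, hUV, hV, -, -, -, -, -, -, hL, -⟩ :=
    GrothLib.ThickNhd24.exists_thick_nhd f x
  exact ⟨V, hUV hxU, hV, GrothLib.ThickNhd24.hasAmpleFamily_of_isAmple hL⟩

end Groth.Agent.S13531
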