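import Groth.Statements.S13532
import Groth.Agent.Lib.Altitude.Scheme
import Groth.Agent.Lib.FibreDimAt6.DenseBase


set_option autoImplicit false
set_option backward.isDefEq.respectTransparency false
set_option backward.isDefEq.respectTransparency.types false
universe u
open CategoryTheory CategoryTheory.Limits AlgebraicGeometry
open ResProp

namespace Groth.Agent.S13532

/-- A morphism of finite type between locally Noetherian schemes which is birational (an isomorphism
over a dense open of the target whose preimage is dense in the source) has finite fibres over all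
points of the target of codimension at most 1, i.e. whose local ring has Krull dimension at most 1. -/
theorem result {X Y : Scheme.{u}}
    [IsLocallyNoetherian X] [IsLocallyNoetherian Y] (f : Y ⟶ X) [LocallyOfFiniteType f] [QuasiCompact f]
    (U : X.Opens) (hU : Dense (U : Set X)) (hU' : Dense ((f ⁻¹ᵁ U : Y.Opens) : Set Y)) (hiso : IsIso (f ∣_ U))
    (x : X) (hx : ringKrullDim (X.presheaf.stalk x) ≤ 1) :
    (f.base ⁻¹' {x}).Finite := by
  rcases em (x ∈ U) with hxU | hxU
  · refine Set.Subsingleton.finite fun a ha b hb => ?_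
    have hA : a ∈ (f ⁻¹ᵁ U).ι.opensRange := by
      rw [Scheme.Opens.opensRange_ι]; change f a ∈ U; rw [show f a = x from ha]; exact hxU
    have hB : b ∈ (f ⁻¹ᵁ U).ι.opensRange := by
      rw [Scheme.Opens.opensRange_ι]; change f b ∈ U; rw [show f b = x from hb]; exact hxU
    obtain ⟨a', rfl⟩ := hA
    obtain ⟨b', rfl⟩ := hB
    have key : (f ∣_ U) a' = (f ∣_ U) b' := by
      apply U.ι.injective
      rw [← Scheme.Hom.comp_apply, ← Scheme.Hom.comp_apply, morphismRestrict_ι]
      exact ha.trans hb.symm
    have := hiso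
    exact congrArg _ ((f ∣_ U).homeomorph.injective key)
  have hr : IsRetrocompact ((f ⁻¹ᵁ U : Y.Opens) : Set Y) := fun W hWc hWo => by
    let W' : Y.Opens := ⟨W, hWo⟩
    have : CompactSpace W'.toScheme := isCompact_iff_compactSpace.mp hWc
    have : IsNoetherian W'.toScheme := {}
    have h := (TopologicalSpace.NoetherianSpace.isCompact (W'.ι ⁻¹' (f ⁻¹ᵁ U : Y.Opens))).image W'.ι.continuous
    rwa [Set.image_preimage_eq_inter_range, Scheme.Opens.range_ι] at h
  -- no specializations inside the fibre
  have hno : ∀ y₁ y₂ : Y, f y₁ = x → f y₂ = x → y₁ ⤳ y₂ → y₁ = y₂ := by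
    intro y₁ y₂ h₁ h₂ h
    by_contra hne
    obtain ⟨y', hy', hs⟩ := GrothLib.FibreDimAt6.exists_specializes_mem (f ⁻¹ᵁ U) hU' hr y₁
    have hne' : y' ≠ y₁ := by rintro rfl; exact hxU (h₁ ▸ hy')
    have hyy : y' ⤳ y₂ := hs.trans h
    obtain ⟨t, s, a, b, ht, -, ha, hb, hle, -⟩ := GrothLib.Altitude.dim_locQuot_add_trdeg f hyy
    have hb1 : (b : WithBot ℕ∞) ≤ 1 := by
      rw [← hb]
      refine (ringKrullDim_le_of_surjective _ Ideal.Quotient.mk_surjective).trans ?_
      rw [h₂]
      exact hx
    have ht0 : t = 0 := by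
      letI := (f.residueFieldMap y').hom.toAlgebra
      have : IsIso (f.stalkMap y') := by
        have e := morphismRestrictStalkMap f U ⟨y', hy'⟩
        have := hiso
        exact ((MorphismProperty.isomorphisms CommRingCat).arrow_mk_iso_iff e).1
          (inferInstanceAs (IsIso ((f ∣_ U).stalkMap ⟨y', hy'⟩)))
      have hsur : Function.Surjective (algebraMap (X.residueField (f y')) (Y.residueField y')) := fun z => by
        obtain ⟨w, rfl⟩ := IsLocalRing.residue_surjective (R := Y.presheaf.stalk y') z
        obtain ⟨v, rfl⟩ := (ConcreteCategory.bijective_of_isIso (f.stalkMap y')).2 w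
        exact ⟨IsLocalRing.residue (X.presheaf.stalk (f y')) v,
          congrArg (fun q => q.hom v) (Scheme.residue_residueFieldMap f y')⟩
      have : Algebra.IsAlgebraic (X.residueField (f y')) (Y.residueField y') :=
        ⟨fun z => by obtain ⟨w, rfl⟩ := hsur z; exact isAlgebraic_algebraMap w⟩
      rw [trdeg_eq_zero] at ht
      exact_mod_cast ht.symm
    have ha2 : (2 : WithBot ℕ∞) ≤ a := by
      rw [← ha, ringKrullDim_quotient]
      obtain ⟨p₀, hp₀⟩ := GrothLib.CycBasic.exists_fromSpecStalk_eq hyy
      obtain ⟨p₁, hp₁⟩ := GrothLib.CycBasic.exists_fromSpecStalk_eq h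
      let p₂ : PrimeSpectrum (Y.presheaf.stalk y₂) := IsLocalRing.closedPoint _
      have hp₂ : Y.fromSpecStalk y₂ p₂ = y₂ := Scheme.fromSpecStalk_closedPoint
      have e₀ : RingHom.ker (Cyc.specMap y₂ y' hyy) = p₀.asIdeal := by
        rw [GrothLib.CycBasic.ker_specMap hyy]
        refine congrArg PrimeSpectrum.asIdeal ((Y.fromSpecStalk y₂).isEmbedding.injective ?_)
        rw [GrothLib.CycBasic.fromSpecStalk_comap_closedPoint hyy]
        exact hp₀.symm
      have l01 : p₀ < p₁ := lt_of_le_of_ne (GrothLib.CycBasic.le_iff_specializes.2 (by rw [hp₀, hp₁]; exact hs))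
        (fun e => hne' (hp₀.symm.trans ((congrArg _ e).trans hp₁)))
      have l12 : p₁ < p₂ := lt_of_le_of_ne (GrothLib.CycBasic.le_iff_specializes.2 (by rw [hp₁, hp₂]; exact h))
        (fun e => hne (hp₁.symm.trans ((congrArg _ e).trans hp₂)))
      have hmem : ∀ q, p₀ ≤ q → q ∈ PrimeSpectrum.zeroLocus
          (RingHom.ker (Cyc.specMap y₂ y' hyy) : Set (Y.presheaf.stalk y₂)) := fun q hq => by
        rw [PrimeSpectrum.mem_zeroLocus, e₀]; exact hq
      let S : LTSeries (PrimeSpectrum.zeroLocus (RingHom.ker (Cyc.specMap y₂ y' hyy) : Set (Y.presheaf.stalk y₂))) :=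
        ((RelSeries.singleton _ ⟨p₀, hmem _ le_rfl⟩).snoc ⟨p₁, hmem _ l01.le⟩ l01).snoc ⟨p₂, hmem _ (l01.le.trans l12.le)⟩
          (by rw [RelSeries.last_snoc]; exact l12)
      exact Order.LTSeries.length_le_krullDim S
    have hb' : b ≤ 1 := by exact_mod_cast hb1
    have ha' : 2 ≤ a := by exact_mod_cast ha2
    omega
  -- the fibre
  let Z := f.fiber x
  have : LocallyOfFiniteType (f.fiberToSpecResidueField x) := MorphismProperty.pullback_snd f _ inferInstance
  have : IsLocallyNoetherian Z := LocallyOfFiniteType.isLocallyNoetherian (f.fiberToSpecResidueField x)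
  have : CompactSpace Z := QuasiCompact.compactSpace_of_compactSpace (f.fiberToSpecResidueField x)
  have : IsNoetherian Z := {}
  have hgen : ∀ z : Z, z ∈ genericPoints Z := fun z => by
    obtain ⟨g, hg⟩ := QuasiSober.sober (isIrreducible_irreducibleComponent (x := z)) isClosed_irreducibleComponent
    have hgz : g ⤳ z := hg.specializes mem_irreducibleComponent
    have e : g = z := (f.fiberι x).isEmbedding.injective (hno _ _
      (Scheme.Hom.range_fiberι f x ▸ ⟨g, rfl⟩ : f.fiberι x g ∈ f ⁻¹' {x})
      (Scheme.Hom.range_fiberι f x ▸ ⟨z, rfl⟩ : f.fiberι x z ∈ f ⁻¹' {x})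
      (hgz.map (f.fiberι x).continuous))
    subst e
    change closure {g} ∈ irreducibleComponents Z
    rw [hg.def]
    exact irreducibleComponent_mem_irreducibleComponents g
  have hfin : Finite Z := Set.finite_univ_iff.1
    ((genericPoints.finite TopologicalSpace.NoetherianSpace.finite_irreducibleComponents).subset fun z _ => hgen z)
  rw [← Scheme.Hom.range_fiberι]
  exact Set.finite_range _

end Groth.Agent.S13532
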