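import Groth.Statements.S13538
import Groth.Agent.Lib.AlmostAmple24.Basic

set_option autoImplicit false
universe u
open CategoryTheory CategoryTheory.Limits AlgebraicGeometry
open ResProp

namespace Groth.Agent.S13538

/-- A scheme X separated and of finite type over a Noetherian ring admits an almost ample family:
coherent modules F_i with opens V_i covering X such that (i) each V_i contains all points of
codimension at most 1 and F_i restricted to V_i is invertible, (ii) for each i some proper
birational X' ⟶ X carries an ample invertible module L' whose tensor product with the pullback of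
F_i is trivial over the preimage of V_i (there L' is dual to the pullback of F_i), and (iii) every
coherent module on X is a quotient of a finite direct sum of positive tensor powers of the F_i. -/
theorem result (A : Type u) [CommRing A] [IsNoetherianRing A]
    (X : Scheme.{u}) (p : X ⟶ Spec (CommRingCat.of A)) [IsSeparated p] [LocallyOfFiniteType p] [QuasiCompact p] :
    ∃ (ι : Type u) (F : ι → X.Modules) (V : ι → X.Opens),
      (∀ i, Coh.IsCoh (F i) ∧ (∀ y : X, ringKrullDim (X.presheaf.stalk y) ≤ 1 → y ∈ V i) ∧
        PicF.IsInvertible ((F i).restrict (V i).ι)) ∧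
      (⨆ i, V i) = ⊤ ∧
      (∀ i, ∃ (X' : Scheme.{u}) (f : X' ⟶ X) (W : X.Opens) (L' : X'.Modules), IsProper f ∧
        Dense (W : Set X) ∧ Dense ((f ⁻¹ᵁ W : X'.Opens) : Set X') ∧ IsIso (f ∣_ W) ∧ CohB1.IsAmple L' ∧
        Nonempty (CohB1.tensorMod (((Scheme.Modules.pullback f).obj (F i)).restrict (f ⁻¹ᵁ (V i)).ι)
          (L'.restrict (f ⁻¹ᵁ (V i)).ι) ≅ Coh.structureModule (f ⁻¹ᵁ (V i) : Scheme.{u}))) ∧
      (∀ M : X.Modules, Coh.IsCoh M → ∃ (m : ℕ) (j : Fin m → ι) (n : Fin m → ℕ)
        (π : (∐ fun t : Fin m => CohB1.tensorPow (F (j t)) (n t + 1)) ⟶ M), Epi π) := by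
  exact GrothLib.AlmostAmple24.exists_almostAmpleFamily p

end Groth.Agent.S13538
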