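import Groth.Statements.S13541
import Groth.Agent.Lib.SymEmbed24.Basic
import Groth.Agent.Lib.Euler.Coh


set_option autoImplicit false
set_option backward.isDefEq.respectTransparency false
set_option backward.isDefEq.respectTransparency.types false
universe u
open CategoryTheory CategoryTheory.Limits AlgebraicGeometry
open ResProp

namespace Groth.Agent.S13541

open Opposite TopologicalSpace
set_option maxHeartbeats 1000000
set_option backward.isDefEq.respectTransparency false
set_option backward.isDefEq.respectTransparency.types false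

/-- In the case of schemes, a Noetherian scheme S has the resolution property exactly when each affine
finite-type morphism X ⟶ S factors over S through a closed immersion of X into a vector bundle V(E)
= Spec Sym(E), E a finite locally free module on S (V(E) is given as the relative spectrum of a
quasi-coherent algebra A with a map E ⟶ A making A the symmetric algebra of E). (The published
statement is for Noetherian algebraic stacks; this row is the case of schemes.) -/
theorem result (S : Scheme.{u}) [IsNoetherian S] :
    PerfAux.HasResolutionProperty S ↔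
      ∀ (X : Scheme.{u}) (f : X ⟶ S) [IsAffineHom f] [LocallyOfFiniteType f],
        ∃ (E : S.Modules) (A : RelSpec.QCAlg S) (j : E ⟶ A.toModule) (i : X ⟶ A.spec),
          Coh.IsQCoh E ∧ FlatMod.IsFinLocFree E ∧ RelSpec.IsSymAlg E A j ∧ IsClosedImmersion i ∧ i ≫ A.π = f := by
  constructor
  · intro hS X f _ _
    obtain ⟨E, hE, B, k, hB, i, hi, he⟩ := RLpsi8.S8269 (Or.inr inferInstance) f
    obtain ⟨F, u, hF, hu⟩ := hS E hE.1 hE.2
    haveI := hu
    haveI := hi
    have hFq := GrothLib.Euler.isQuasicoherent_of_isFinLocFree hF
    obtain ⟨A, j, hA⟩ := GrothLib.SymAlgX.exists_isSymAlg (E := F) hFq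
    obtain ⟨ψ, hψ, -⟩ := hA B (u ≫ k)
    haveI := RLpsi8.S8268 F E hFq hE.1 u A B j k hB ψ hψ
    exact ⟨F, A, j, i ≫ RelSpec.QCAlg.specMap ψ, hFq, hF, hA, inferInstance,
      by rw [Category.assoc, RelSpec.QCAlg.specMap_π, he]⟩
  · intro h M hM hft
    obtain ⟨B, k, hB⟩ := GrothLib.SymAlgX.exists_isSymAlg (E := M) hM
    haveI := RLpsi8.S8267 M ⟨hM, hft⟩ B k hB
    obtain ⟨E, A, j, i, hEq, hE, hA, hi, he⟩ := h B.spec B.π
    haveI := hi
    obtain ⟨g, hg⟩ := GrothLib.SymEmbed24.exists_epi_of_isClosedImmersion hEq hM hA hB i he
    exact ⟨E, g, hE, hg⟩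

end Groth.Agent.S13541
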