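import Groth.Statements.S13542
import Groth.Agent.Lib.ResDesc28.Generating

set_option autoImplicit false
universe u
open CategoryTheory CategoryTheory.Limits AlgebraicGeometry
open ResProp

namespace Groth.Agent.S13542

/-- In the case of schemes over an affine base, let f : X ⟶ Y be finite, flat, of finite presentation
and surjective between quasi-compact quasi-separated schemes. If a family (E_i) of finitely
presented quasi-coherent modules on X is generating, i.e. every quasi-coherent module on X is a
quotient of a direct sum of copies of the E_i, then the family of direct images (f_*E_i) is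
generating on Y. (The published statement is for morphisms of algebraic stacks and families
generating relative to a further morphism; this row is the case of schemes with the absolute notion
of a generating family.) -/
theorem result {X Y : Scheme.{u}}
    [CompactSpace X] [QuasiSeparatedSpace X] [CompactSpace Y] [QuasiSeparatedSpace Y]
    (f : X ⟶ Y) [IsFinite f] [Flat f] [LocallyOfFinitePresentation f] [Surjective f]
    {ι : Type u} (E : ι → X.Modules) (hE : ∀ i, Coh.IsQCoh (E i) ∧ CohB1.IsFP (E i))
    (hgen : ∀ M : X.Modules, Coh.IsQCoh M →
      ∃ (κ : Type u) (j : κ → ι) (π : (∐ fun k : κ => E (j k)) ⟶ M), Epi π) :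
    ∀ N : Y.Modules, Coh.IsQCoh N →
      ∃ (κ : Type u) (j : κ → ι) (π : (∐ fun k : κ => (Scheme.Modules.pushforward f).obj (E (j k))) ⟶ N), Epi π := by
  exact fun N hN => GrothLib.ResDesc28.exists_epi_push f E (fun i => (hE i).1) hgen N hN

end Groth.Agent.S13542
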