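import Groth.Statements.S13543
import Groth.Agent.Lib.SymEmbed24.Basic
import Groth.Agent.Lib.SymEmbed24.Coprod


set_option autoImplicit false
set_option backward.isDefEq.respectTransparency false
set_option backward.isDefEq.respectTransparency.types false
universe u
open CategoryTheory CategoryTheory.Limits AlgebraicGeometry
open ResProp

namespace Groth.Agent.S13543

open Opposite TopologicalSpace
set_option maxHeartbeats 1000000
set_option backward.isDefEq.respectTransparency false
set_option backward.isDefEq.respectTransparency.types false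

/-- In the case of schemes, on a quasi-compact quasi-separated scheme X let (E_i) be a family of
finitely presented quasi-coherent modules closed (up to isomorphism) under binary tensor products
and binary direct sums. Then (E_i) is a generating family, i.e. every quasi-coherent module is a
quotient of a direct sum of copies of the E_i, if and only if every affine morphism Y ⟶ X factors
over X through a closed immersion of Y into the vector bundle V(E) = Spec Sym(E) of a direct sum E
of copies of members of the family, with finitely many summands whenever Y ⟶ X is of finite type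
(V(E) is given as the relative spectrum of a quasi-coherent algebra that is the symmetric algebra of
E). (The published statement is for quasi-compact quasi-separated algebraic stacks and takes E to be
the direct sum of a subfamily without repeated members; this row is the case of schemes and allows
repetitions, as the printed argument produces: for the generating family of free modules k, k^2,
k^3, … on a point and the affine morphism from the spectrum of a polynomial ring in uncountably many
variables, no direct sum of distinct members works.) -/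
theorem result (X : Scheme.{u}) [CompactSpace X] [QuasiSeparatedSpace X]
    {ι : Type u} (E : ι → X.Modules) (hE : ∀ i, Coh.IsQCoh (E i) ∧ CohB1.IsFP (E i))
    (htens : ∀ i i' : ι, ∃ i'' : ι, Nonempty (E i'' ≅ CohB1.tensorMod (E i) (E i')))
    (hsum : ∀ i i' : ι, ∃ i'' : ι, Nonempty (E i'' ≅ E i ⊞ E i')) :
    (∀ M : X.Modules, Coh.IsQCoh M → ∃ (κ : Type u) (j : κ → ι) (π : (∐ fun k : κ => E (j k)) ⟶ M), Epi π) ↔
    (∀ (Y : Scheme.{u}) (f : Y ⟶ X) [IsAffineHom f],
      ∃ (κ : Type u) (j : κ → ι) (B : RelSpec.QCAlg X) (φ : (∐ fun k : κ => E (j k)) ⟶ B.toModule) (c : Y ⟶ B.spec),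
        RelSpec.IsSymAlg (∐ fun k : κ => E (j k)) B φ ∧ IsClosedImmersion c ∧ c ≫ B.π = f ∧
        (LocallyOfFiniteType f → Finite κ)) := by
  classical
  constructor
  · intro hgen Y f _
    haveI hA : (RelSpec.QCAlg.directImage f).toModule.IsQuasicoherent := GrothLib.QCAlgFT9.isQuasicoherent_toModule _
    obtain ⟨κ, j, π, hπ⟩ := hgen _ hA
    haveI := hπ
    have hqc : ∀ k : κ, (E (j k)).IsQuasicoherent := fun k => (hE (j k)).1
    haveI : (∐ fun k : κ => E (j k)).IsQuasicoherent := GrothLib.QCoh.isQuasicoherent_colimit _ fun k => hqc k.as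
    by_cases hf : LocallyOfFiniteType f
    · obtain ⟨J, hJ, V, hVA, -, hcov⟩ := GrothLib.QCoh.exists_finite_affine_cover (U := (⊤ : X.Opens))
        (by simpa using isCompact_univ)
      have hT : ∀ i : J, ∃ T : Finset ((RelSpec.QCAlg.directImage f).presheaf.obj (op (V i))),
          Subring.closure (Set.range ((RelSpec.QCAlg.directImage f).str.app (op (V i))).hom ∪ (T : Set _)) = ⊤ := by
        intro i
        have hft : (f.app (V i)).hom.FiniteType := by
          rw [Scheme.Hom.app_eq_appLE]
          exact f.finiteType_appLE (hVA i) ((hVA i).preimage f) le_rfl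
        letI := (f.app (V i)).hom.toAlgebra
        obtain ⟨T, hT⟩ := (hft : Algebra.FiniteType Γ(X, V i) Γ(Y, f ⁻¹ᵁ V i)).out
        exact ⟨T, (Algebra.adjoin_eq_ring_closure (R := Γ(X, V i)) (T : Set Γ(Y, f ⁻¹ᵁ V i))).symm.trans
          (by rw [hT]; rfl)⟩
      choose T hT using hT
      have hlift : ∀ (i : J) (t : {t // t ∈ T i}), ∃ s : Finset κ, ∃ y,
          π.app (V i) ((GrothLib.SymEmbed24.sumIncl (fun k : κ => E (j k)) s).app (V i) y) = t.1 := by
        intro i t
        obtain ⟨x, hx⟩ := GrothLib.ModDesc.app_surjective_of_epi π (hVA i) t.1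
        obtain ⟨s, y, rfl⟩ := GrothLib.SymEmbed24.exists_finset_mem_range _ hqc (hVA i) x
        exact ⟨s, y, hx⟩
      choose s y hy using hlift
      cases nonempty_fintype J
      let K : Finset κ := (Finset.univ : Finset (Σ i : J, {t // t ∈ T i})).biUnion fun p => s p.1 p.2
      obtain ⟨B, φ, c, hB, hc, he⟩ := GrothLib.SymEmbed24.exists_closedImm_sym f (∐ fun k : K => E (j k.1))
        (GrothLib.QCoh.isQuasicoherent_colimit _ fun k => hqc k.as.1)
        (GrothLib.SymEmbed24.sumIncl (fun k : κ => E (j k)) K ≫ π) (fun i => ⟨V i, hVA i⟩) (top_le_iff.1 hcov) (fun i => by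
          refine top_le_iff.1 ((hT i).ge.trans (Subring.closure_mono (Set.union_subset_union le_rfl fun t ht => ?_)))
          have hsub : s i ⟨t, ht⟩ ⊆ K := by
            intro k hk
            exact Finset.mem_biUnion.2 ⟨⟨i, t, ht⟩, Finset.mem_univ _, hk⟩
          obtain ⟨z, hz⟩ := GrothLib.SymEmbed24.range_sumIncl_mono (fun k : κ => E (j k)) hsub (V i) ⟨y i ⟨t, ht⟩, rfl⟩
          exact ⟨z, (congrArg (π.app (V i)) hz).trans (hy i ⟨t, ht⟩)⟩)
      exact ⟨K, fun k => j k.1, B, φ, c, hB, hc, he, fun _ => inferInstance⟩
    · obtain ⟨B, φ, c, hB, hc, he⟩ := GrothLib.SymEmbed24.exists_closedImm_sym f (∐ fun k : κ => E (j k))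
        inferInstance π (fun U : X.affineOpens => U) (iSup_affineOpens_eq_top X) (fun U => by
          refine top_le_iff.1 fun b _ => ?_
          obtain ⟨x, hx⟩ := GrothLib.ModDesc.app_surjective_of_epi π U.2 b
          exact Subring.subset_closure (Or.inr ⟨x, hx⟩))
      exact ⟨κ, j, B, φ, c, hB, hc, he, fun h => absurd h hf⟩
  · intro h M hM
    obtain ⟨B, k, hB⟩ := GrothLib.SymAlgX.exists_isSymAlg (E := M) hM
    obtain ⟨κ, j, A, φ, c, hA, hc, he, -⟩ := h B.spec B.π
    haveI := hc
    obtain ⟨g, hg⟩ := GrothLib.SymEmbed24.exists_epi_of_isClosedImmersion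
      (GrothLib.QCoh.isQuasicoherent_colimit _ fun k => (hE (j k.as)).1) hM hA hB c he
    exact ⟨κ, j, g, hg⟩

end Groth.Agent.S13543
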