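import Groth.Statements.S1355
import Groth.Agent.Lib.Chev28.GeomConnEtale

set_option autoImplicit false
universe u
open FlatMor

namespace Groth.Agent.S1355

open AlgebraicGeometry CategoryTheory Limits in
/-- Let f : X → S and s a point of S. The fibre of f over s is geometrically connected if and only if
for every étale morphism U → S and every point u over s, the fibre over u of the base change of f to
U is connected. -/
theorem result {X S : Scheme.{u}} (f : X ⟶ S) (s : S) :
    GeometricallyConnected (f.fiberToSpecResidueField s) ↔
      ∀ (U : Scheme.{u}) (g : U ⟶ S) (u : U), Etale g → g u = s → ConnectedSpace ↑((pullback.snd f g).fiber u) := by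
  refine ⟨fun h U g u _ hs => ?_, fun h => GrothLib.Chev28.geometricallyConnected_of_etale_nbhds f s h⟩
  exact GrothLib.Chev28.connectedSpace_fiber_baseChange f s g u hs

end Groth.Agent.S1355
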