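import Groth.Statements.S13555
import Groth.Agent.Lib.FMAdj25.Basic

set_option autoImplicit false
universe u
open CategoryTheory AlgebraicGeometry
attribute [local instance] HasDerivedCategory.standard
open DEquiv

namespace Groth.Agent.S13555

/-- Let S, X and Y be quasi-compact quasi-separated schemes, X → S proper, flat and of finite
presentation, Y → S a morphism, and K a complex of modules on X ×_S Y defining a perfect object with
quasi-coherent cohomology sheaves. Let a denote the right adjoint of Rpr_{2,*} : D_QCoh(O_{X ×_S Y})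
→ D_QCoh(O_Y) (assumed to exist, instance binder), a(O_Y) its value on the structure sheaf in degree
0, and let K' be a complex of modules on Y ×_S X whose image in the derived category is isomorphic
to the derived pullback, along the symmetry Y ×_S X → X ×_S Y, of RHom(K, a(O_Y)). The derived
functors involved are assumed to exist and the two Fourier–Mukai functors are assumed to preserve
objects with quasi-coherent cohomology sheaves (hypotheses h, h'). Then Φ_{K'} : D_QCoh(O_Y) ⥤
D_QCoh(O_X) is right adjoint to Φ_K : D_QCoh(O_X) ⥤ D_QCoh(O_Y) (existence of an adjunction; the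
published statement names the comparison map Hom(M, Φ_{K'} N) → Hom(Φ_K M, N), which is not
constructed here). -/
theorem result {S X Y : Scheme.{u}} (a : X ⟶ S) (b : Y ⟶ S)
    [CompactSpace S] [QuasiSeparatedSpace S] [CompactSpace X] [QuasiSeparatedSpace X]
    [CompactSpace Y] [QuasiSeparatedSpace Y]
    [IsProper a] [Flat a] [LocallyOfFinitePresentation a]
    (K : CochainComplex (Limits.pullback a b).Modules ℤ) (hK : DCoh.IsPerfect (DCoh.toD _ K))
    (hKq : DCoh.IsQCohD (DCoh.toD _ K))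
    [DCoh.HasLpull (Limits.pullback.fst a b)] [DCoh.HasLTensorCx K] [DCoh.HasRpush (Limits.pullback.snd a b)]
    [DCoh.HasRSheafHom K]
    (hR : DCoh.RpushPreservesQCoh (Limits.pullback.snd a b)) [DCoh.HasShriek (Limits.pullback.snd a b) hR]
    (OY : DCoh.DQCoh Y) (hOY : OY.obj ≅ DCoh.inD Y (Coh.structureModule Y))
    [DCoh.HasLpull (Limits.pullbackSymmetry b a).hom]
    (K' : CochainComplex (Limits.pullback b a).Modules ℤ)
    (hK' : Nonempty (DCoh.toD _ K' ≅ (DCoh.Lpull (Limits.pullbackSymmetry b a).hom).obj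
      ((DCoh.RSheafHom K).obj (DCoh.dualizingCx (Limits.pullback.snd a b) hR OY))))
    [DCoh.HasLpull (Limits.pullback.fst b a)] [DCoh.HasLTensorCx K'] [DCoh.HasRpush (Limits.pullback.snd b a)]
    (h : ∀ M : DCoh.D X, DCoh.IsQCohD M → DCoh.IsQCohD ((FMK.phi a b K).obj M))
    (h' : ∀ N : DCoh.D Y, DCoh.IsQCohD N → DCoh.IsQCohD ((FMK.phi b a K').obj N)) :
    Nonempty (FMK.phiOn a b K DCoh.IsQCohD DCoh.IsQCohD h ⊣ FMK.phiOn b a K' DCoh.IsQCohD DCoh.IsQCohD h') := by
  have ha := IsPullback.of_hasPullback a b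
  let p := Limits.pullback.fst a b
  let q := Limits.pullback.snd a b
  haveI : IsProper q := MorphismProperty.of_isPullback (P := @IsProper) ha inferInstance
  haveI : Flat q := MorphismProperty.of_isPullback (P := @Flat) ha inferInstance
  haveI : LocallyOfFinitePresentation q :=
    MorphismProperty.of_isPullback (P := @LocallyOfFinitePresentation) ha inferInstance
  haveI : QuasiCompact b := quasiCompact_of_compactSpace b
  haveI : QuasiSeparated b := QuasiSeparated.of_quasiSeparatedSpace b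
  haveI : QuasiCompact p := MorphismProperty.of_isPullback (P := @QuasiCompact) ha.flip inferInstance
  haveI : QuasiSeparated p := MorphismProperty.of_isPullback (P := @QuasiSeparated) ha.flip inferInstance
  haveI : CompactSpace ↥(Limits.pullback a b) := QuasiCompact.compactSpace_of_compactSpace q
  haveI : QuasiSeparatedSpace ↥(Limits.pullback a b) := quasiSeparatedSpace_of_quasiSeparated q
  haveI := GrothLib.OX.hasLpull q
  haveI : DCoh.HasRpush p := GrothLib.KInj.hasRightDerivedFunctor _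
  obtain ⟨G, hG, ⟨eG⟩⟩ := GrothLib.OX.exists_kflat_rep ((DCoh.RSheafHom K).obj (DCoh.dualizingCx q hR OY))
  haveI := GrothLib.OX.hasLTensorCx G
  obtain ⟨eK'⟩ := hK'
  let σ := (Limits.pullbackSymmetry b a).hom
  haveI : DCoh.HasRpush σ := GrothLib.KInj.hasRightDerivedFunctor _
  haveI := GrothLib.OX.hasLpull (σ ≫ q)
  haveI : DCoh.HasRpush (σ ≫ p) := GrothLib.KInj.hasRightDerivedFunctor _
  let G₀ := (GrothLib.OX.pullCxF σ).obj G
  haveI := GrothLib.OX.hasLTensorCx G₀
  obtain ⟨v⟩ := GrothLib.OX.lpull_value σ G hG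
  obtain ⟨c⟩ := GrothLib.OX.nonempty_ltensorCx_congr_of_iso
    (v.symm ≪≫ (DCoh.Lpull σ).mapIso eG ≪≫ eK'.symm : DerivedCategory.Q.obj G₀ ≅ DerivedCategory.Q.obj K')
  obtain ⟨lt⟩ := GrothLib.FMComp25.nonempty_lpull_ltensor_nat σ G hG
  obtain ⟨u⟩ := GrothLib.FMAdj25.nonempty_lpull_rpush_id σ
  have h1 : σ ≫ q = Limits.pullback.fst b a := Limits.pullbackSymmetry_hom_comp_snd b a
  have h2 : σ ≫ p = Limits.pullback.snd b a := Limits.pullbackSymmetry_hom_comp_fst b a
  let e : DCoh.Lpull q ⋙ DCoh.LTensorCx G ⋙ DCoh.Rpush p ≅ FMK.phi b a K' :=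
    Functor.isoWhiskerLeft _ (Functor.isoWhiskerLeft _
      ((Functor.leftUnitor _).symm ≪≫ Functor.isoWhiskerRight u.symm _)) ≪≫
    (Functor.isoWhiskerLeft (DCoh.Lpull q) (NatIso.hcomp (lt ≪≫ Functor.isoWhiskerLeft _ c)
      (GrothLib.FMId25.rpushComp σ p ≪≫ GrothLib.FMId25.rpushCongr h2)) :
      DCoh.Lpull q ⋙ (DCoh.LTensorCx G ⋙ DCoh.Lpull σ) ⋙ (DCoh.Rpush σ ⋙ DCoh.Rpush p) ≅ _) ≪≫
    (Functor.isoWhiskerRight (GrothLib.OX.lpullCompIso σ q ≪≫ GrothLib.FMId25.lpullCongr h1) _ :
      (DCoh.Lpull q ⋙ DCoh.Lpull σ) ⋙ DCoh.LTensorCx K' ⋙ DCoh.Rpush (Limits.pullback.snd b a) ≅ _)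
  obtain ⟨adj⟩ := GrothLib.FMAdj25.nonempty_fm_adjunction p q K hK hR OY hOY G eG (fun M => h M.obj M.property)
    (fun N => GrothLib.FMComp25.isQCohD_iso (e.app N.obj).symm (h' N.obj N.property))
  exact ⟨adj.ofNatIsoRight (Functor.fullyFaithfulCancelRight (ObjectProperty.ι _)
    (Functor.isoWhiskerLeft (ObjectProperty.ι _) e))⟩

end Groth.Agent.S13555
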