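import Groth.Statements.S13558
import Groth.Agent.Lib.FMComp25.Equiv

set_option autoImplicit false
universe u
open CategoryTheory AlgebraicGeometry
attribute [local instance] HasDerivedCategory.standard
open DEquiv

namespace Groth.Agent.S13558

/-- Let S be a Noetherian scheme, X, Y, Z schemes proper and flat over S, and K on X ×_S Y, K' on Y ×_S
Z complexes of modules defining perfect objects. The derived functors involved are assumed to exist
(instance binders). Then the convolution K'' = Rpr_{13,*}(Lpr_{12}^* K ⊗^L pr_{23}^* K') on X ×_S Z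
(pr_{23} is flat here, so the termwise inverse image is the derived one) is a perfect object, and
for every complex N on X ×_S Z whose image in the derived category is isomorphic to K'' the
Fourier–Mukai functor Φ_N = Rpr_{2,*}(Lpr_1^*(−) ⊗^L N), restricted to perfect objects of D(O_X), is
isomorphic to Φ_K followed by Φ_{K'} (existence of an isomorphism of functors). -/
theorem result {S X Y Z : Scheme.{u}}
    [IsNoetherian S] (a : X ⟶ S) (b : Y ⟶ S) (c : Z ⟶ S)
    [IsProper a] [Flat a] [IsProper b] [Flat b] [IsProper c] [Flat c]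
    (K : CochainComplex (Limits.pullback a b).Modules ℤ) (K' : CochainComplex (Limits.pullback b c).Modules ℤ)
    (hK : DCoh.IsPerfect (DCoh.toD _ K)) (hK' : DCoh.IsPerfect (DCoh.toD _ K'))
    [DCoh.HasLpull (Limits.pullback.fst a b)] [DCoh.HasLTensorCx K] [DCoh.HasRpush (Limits.pullback.snd a b)]
    [DCoh.HasLpull (Limits.pullback.fst b c)] [DCoh.HasLTensorCx K'] [DCoh.HasRpush (Limits.pullback.snd b c)]
    [DCoh.HasLpull (FMK.p12 a b c)] [DCoh.HasLTensorCx ((FMK.cxPull (FMK.p23 a b c)).obj K')] [DCoh.HasRpush (FMK.p13 a b c)]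
    [DCoh.HasLpull (Limits.pullback.fst a c)] [DCoh.HasRpush (Limits.pullback.snd a c)] :
    DCoh.IsPerfect (FMK.conv a b c K ((FMK.cxPull (FMK.p23 a b c)).obj K')) ∧
      ∀ (N : CochainComplex (Limits.pullback a c).Modules ℤ) [DCoh.HasLTensorCx N],
        Nonempty (DCoh.toD _ N ≅ FMK.conv a b c K ((FMK.cxPull (FMK.p23 a b c)).obj K')) →
        Nonempty (ObjectProperty.ι (SGA6.perfP X) ⋙ FMK.phi a c N ≅
          ObjectProperty.ι (SGA6.perfP X) ⋙ FMK.phi a b K ⋙ FMK.phi b c K') := by
  haveI : LocallyOfFinitePresentation a := inferInstance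
  have sq := IsPullback.of_hasPullback (Limits.pullback.snd a b) (Limits.pullback.fst b c)
  have sq13 := GrothLib.FMComp25.isPullback_p13 a b c
  have hb := IsPullback.of_hasPullback b c
  haveI : LocallyOfFinitePresentation b := inferInstance
  haveI : IsProper (Limits.pullback.snd b c) := MorphismProperty.of_isPullback (P := @IsProper) hb inferInstance
  haveI : Flat (Limits.pullback.snd b c) := MorphismProperty.of_isPullback (P := @Flat) hb inferInstance
  haveI : LocallyOfFinitePresentation (Limits.pullback.snd b c) :=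
    MorphismProperty.of_isPullback (P := @LocallyOfFinitePresentation) hb inferInstance
  haveI : IsProper (FMK.p13 a b c) := MorphismProperty.of_isPullback (P := @IsProper) sq13 inferInstance
  haveI : Flat (FMK.p13 a b c) := MorphismProperty.of_isPullback (P := @Flat) sq13 inferInstance
  haveI : LocallyOfFinitePresentation (FMK.p13 a b c) :=
    MorphismProperty.of_isPullback (P := @LocallyOfFinitePresentation) sq13 inferInstance
  haveI : Flat (Limits.pullback.snd a b) :=
    MorphismProperty.of_isPullback (P := @Flat) (IsPullback.of_hasPullback a b) inferInstance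
  haveI : Flat (FMK.p23 a b c) := MorphismProperty.of_isPullback (P := @Flat) sq inferInstance
  haveI := GrothLib.OX.hasLpull (FMK.p23 a b c)
  let L := (FMK.cxPull (FMK.p23 a b c)).obj K'
  obtain ⟨f⟩ := GrothLib.FMComp25.nonempty_pullCx_flat (FMK.p23 a b c) K'
  obtain ⟨L₁, hL₁, ⟨eL⟩⟩ := GrothLib.OX.exists_kflat_rep (DerivedCategory.Q.obj L)
  haveI := GrothLib.OX.hasLTensorCx L₁
  obtain ⟨cL⟩ := GrothLib.OX.nonempty_ltensorCx_congr_of_iso eL.symm
  refine ⟨?_, fun N _ ⟨eN⟩ => ?_⟩
  · refine GrothLib.OX.isPerfect_of_iso (GrothLib.TorBC25.isPerfect_RR (FMK.p13 a b c) ?_)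
      ((GrothLib.OX.rpushIsoRres (FMK.p13 a b c)).app _).symm
    exact GrothLib.OX.isPerfect_of_iso (GrothLib.OX.isPerfect_ltensor L₁ hL₁
      (GrothLib.OX.isPerfect_of_iso (GrothLib.OX.isPerfect_lpull _ hK') (f.symm ≪≫ eL.symm))
      (GrothLib.OX.isPerfect_lpull _ hK)) (cL.app _).symm
  · obtain ⟨τ⟩ := GrothLib.FMComp25.nonempty_phi_comp a b c K K' (GrothLib.OX.isQCohD_of_isPerfect hK)
      (GrothLib.OX.isQCohD_of_isPerfect hK') N eN
    exact ⟨GrothLib.FMComp25.restrictIso τ (SGA6.perfP X).ι fun M => GrothLib.OX.isQCohD_of_isPerfect M.property⟩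

end Groth.Agent.S13558
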