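import Groth.Statements.S13559
import Groth.Agent.S13555
import Groth.Agent.Lib.FMAdj25.Twist

set_option autoImplicit false
universe u
open CategoryTheory AlgebraicGeometry
attribute [local instance] HasDerivedCategory.standard
open DEquiv

namespace Groth.Agent.S13559

/-- Let S be a Noetherian scheme, X → S and Y → S proper flat morphisms with X → S a Gorenstein
morphism, and K a complex of modules on X ×_S Y defining a perfect object, with dual K^∨ = RHom(K,
O). Let ω_{X/S} = a(O_S) be the relative dualizing complex of X over S, a being the right adjoint of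
R(X → S)_* on D_QCoh (assumed to exist) and O_S the structure sheaf in degree 0. The derived
functors involved are assumed to exist (instance binders). Then for every complex W on X ×_S Y
representing Lpr_1^* ω_{X/S} and every complex K' on Y ×_S X whose image in the derived category is
isomorphic to the derived pullback, along the symmetry Y ×_S X → X ×_S Y, of K^∨ ⊗^L W: K' defines a
perfect object, and, assuming the two Fourier–Mukai functors preserve perfect objects (hypotheses h,
h'), Φ_{K'} : D_perf(O_Y) ⥤ D_perf(O_X) is right adjoint to Φ_K : D_perf(O_X) ⥤ D_perf(O_Y)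
(existence of an adjunction). -/
theorem result {S X Y : Scheme.{u}} [IsNoetherian S] (a : X ⟶ S) (b : Y ⟶ S)
    [IsProper a] [Flat a] [IsProper b] [Flat b]
    (K : CochainComplex (Limits.pullback a b).Modules ℤ) (hK : DCoh.IsPerfect (DCoh.toD _ K))
    [DCoh.HasLpull (Limits.pullback.fst a b)] [DCoh.HasLTensorCx K] [DCoh.HasRpush (Limits.pullback.snd a b)]
    [DCoh.HasRSheafHom K]
    (hG : Dual3.IsGorensteinMor a)
    [DCoh.HasRpush a] (hRa : DCoh.RpushPreservesQCoh a) [DCoh.HasShriek a hRa]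
    (OS : DCoh.DQCoh S) (hOS : OS.obj ≅ DCoh.inD S (Coh.structureModule S))
    (W : CochainComplex (Limits.pullback a b).Modules ℤ) [DCoh.HasLTensorCx W]
    (hW : Nonempty (DCoh.toD _ W ≅ (DCoh.Lpull (Limits.pullback.fst a b)).obj (DCoh.dualizingCx a hRa OS)))
    [DCoh.HasLpull (Limits.pullbackSymmetry b a).hom]
    (K' : CochainComplex (Limits.pullback b a).Modules ℤ)
    (hK' : Nonempty (DCoh.toD _ K' ≅ (DCoh.Lpull (Limits.pullbackSymmetry b a).hom).obj
      ((DCoh.LTensorCx W).obj ((DCoh.RSheafHom K).obj (DCoh.inD _ (Coh.structureModule (Limits.pullback a b)))))))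
    [DCoh.HasLpull (Limits.pullback.fst b a)] [DCoh.HasLTensorCx K'] [DCoh.HasRpush (Limits.pullback.snd b a)]
    (h : ∀ M : DCoh.D X, SGA6.perfP X M → SGA6.perfP Y ((FMK.phi a b K).obj M))
    (h' : ∀ N : DCoh.D Y, SGA6.perfP Y N → SGA6.perfP X ((FMK.phi b a K').obj N)) :
    DCoh.IsPerfect (DCoh.toD _ K') ∧
      Nonempty (FMK.phiOn a b K (SGA6.perfP X) (SGA6.perfP Y) h ⊣ FMK.phiOn b a K' (SGA6.perfP Y) (SGA6.perfP X) h') := by
  haveI : LocallyOfFinitePresentation a := inferInstance
  haveI : LocallyOfFinitePresentation b := inferInstance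
  haveI : AlgebraicGeometry.IsNoetherian X := GrothLib.RightAdj22.isNoetherian_of_proper a
  haveI : AlgebraicGeometry.IsNoetherian Y := GrothLib.RightAdj22.isNoetherian_of_proper b
  obtain ⟨eK'⟩ := hK'
  obtain ⟨eW⟩ := hW
  let P := Limits.pullback a b
  let q := Limits.pullback.snd a b
  have ha := IsPullback.of_hasPullback a b
  haveI : IsProper q := MorphismProperty.of_isPullback (P := @IsProper) ha inferInstance
  haveI : Flat q := MorphismProperty.of_isPullback (P := @Flat) ha inferInstance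
  let hR := GrothLib.FMAdj25.rpushPreservesQCoh q
  haveI : DCoh.HasShriek q hR :=
    ((GrothLib.RightAdj22.aQAdj q).ofNatIsoLeft (GrothLib.RightAdj22.rpushQIso q hR).symm).isLeftAdjoint
  let OY : DCoh.DQCoh Y :=
    ⟨DCoh.inD Y (Coh.structureModule Y), GrothLib.OX.isQCohD_of_isPerfect (GrothLib.OX.isPerfect_unit Y)⟩
  obtain ⟨ebc⟩ := GrothLib.FMAdj25.nonempty_dualizingCx_bc ha hRa hR OS hOS OY (Iso.refl _)
  have hl := GrothLib.FMAdj25.locUnit_dualizingCx q (GrothLib.FMAdj25.isGorensteinMor_baseChange ha hG) hR OY (Iso.refl _)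
  obtain ⟨t⟩ := GrothLib.FMAdj25.nonempty_twist K W hK (eW ≪≫ ebc)
  have eK₂ : DCoh.toD _ K' ≅ (DCoh.Lpull (Limits.pullbackSymmetry b a).hom).obj
      ((DCoh.RSheafHom K).obj (DCoh.dualizingCx q hR OY)) := eK' ≪≫ (DCoh.Lpull _).mapIso t
  have hK'p : DCoh.IsPerfect (DCoh.toD _ K') := GrothLib.OX.isPerfect_of_iso (GrothLib.OX.isPerfect_lpull _
    (GrothLib.OX.isPerfect_RSheafHom_of_perfect K hK hl.isPerfect)) eK₂.symm
  have hKq := GrothLib.OX.isQCohD_of_isPerfect hK
  have hQ : ∀ M : DCoh.D X, DCoh.IsQCohD M → DCoh.IsQCohD ((FMK.phi a b K).obj M) :=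
    fun M hM => GrothLib.FMComp25.isQCohD_phi a b K hKq M hM
  have hQ' : ∀ N : DCoh.D Y, DCoh.IsQCohD N → DCoh.IsQCohD ((FMK.phi b a K').obj N) :=
    fun N hN => GrothLib.FMComp25.isQCohD_phi b a K' (GrothLib.OX.isQCohD_of_isPerfect hK'p) N hN
  obtain ⟨adj⟩ := S13555.result a b K hK hKq hR OY (Iso.refl _) K' ⟨eK₂⟩ hQ hQ'
  exact ⟨hK'p, ⟨GrothLib.FMAdj25.restrictSub (fun M hM => GrothLib.OX.isQCohD_of_isPerfect hM)
    (fun N hN => GrothLib.OX.isQCohD_of_isPerfect hN) adj (fun M => h M.obj M.property)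
    (fun N => h' N.obj N.property)⟩⟩

end Groth.Agent.S13559
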