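import Groth.Statements.S1356
import Groth.Agent.Lib.ConnOpen6.Spread
-- import your own Groth.Agent.* helpers here

set_option autoImplicit false
universe u
open FlatMor

namespace Groth.Agent.S1356

open AlgebraicGeometry CategoryTheory Limits in
/-- Let h : Y → S be flat and of finite presentation with all fibres geometrically reduced, let s be a
point of S and T an open of the fibre over s which is geometrically connected over the residue field
of s. Then there are an affine elementary étale neighbourhood (S', s') of (S, s) and a quasi-compact
open V of the base change of Y to S', with every fibre of V → S' geometrically connected, whose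
points over s' are exactly the points of the base change over s' whose image in Y lies in T. -/
theorem result {Y S : Scheme.{u}} (h : Y ⟶ S) [Flat h] [LocallyOfFinitePresentation h] [QuasiCompact h] [QuasiSeparated h]
    [GeometricallyReduced h] (s : S) (T : (h.fiber s).Opens) (hT : GeometricallyConnected (T.ι ≫ h.fiberToSpecResidueField s)) :
    ∃ (S' : Scheme.{u}) (g : S' ⟶ S) (s' : S'), IsAffine S' ∧ Hens2.IsEtaleNbhd g s' s ∧
      ∃ V : (pullback h g).Opens, IsCompact (V : Set ↑(pullback h g)) ∧ GeometricallyConnected (V.ι ≫ pullback.snd h g) ∧
        ∀ y' : ↑(pullback h g), pullback.snd h g y' = s' → (y' ∈ V ↔ pullback.fst h g y' ∈ (h.fiberι s) '' (T : Set ↑(h.fiber s))) := by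
  exact GrothLib.ConnOpen6.exists_spread h s T hT

end Groth.Agent.S1356
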