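import Groth.Statements.S13566
import Groth.Agent.Lib.FMComp25.Kernel

set_option autoImplicit false
universe u
open CategoryTheory AlgebraicGeometry
attribute [local instance] HasDerivedCategory.standard
open DEquiv

namespace Groth.Agent.S13566

/-- Let X, Y, Z be schemes smooth and proper over S, let K on X ×_S Y and M on Y ×_S Z be complexes of
modules defining perfect objects, and let S' → S be a morphism of schemes, with X', Y', Z' the base
changes of X, Y, Z. The derived functors involved are assumed to exist (instance binders). Then for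
every complex K₁ on X' ×_{S'} Y' whose image in the derived category is isomorphic to the derived
pullback of K along X' ×_{S'} Y' → X ×_S Y, and every complex M₁ on Y' ×_{S'} Z' likewise
representing the derived pullback of M, the derived pullback along X' ×_{S'} Z' → X ×_S Z of the
composite kernel Rpr_{13,*}(Lpr_{12}^* K ⊗^L pr_{23}^* M) is isomorphic in D(O_{X' ×_{S'} Z'}) to
the composite kernel Rpr'_{13,*}(Lpr'^*_{12} K₁ ⊗^L pr'^*_{23} M₁) (existence of an isomorphism; the
projections pr_{23}, pr'_{23} are flat, so the termwise inverse images used are the derived ones). -/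
theorem result {S S' X Y Z : Scheme.{u}}
    (a : X ⟶ S) (b : Y ⟶ S) (c : Z ⟶ S) (g : S' ⟶ S)
    [Smooth a] [IsProper a] [Smooth b] [IsProper b] [Smooth c] [IsProper c]
    (K : CochainComplex (Limits.pullback a b).Modules ℤ) (M : CochainComplex (Limits.pullback b c).Modules ℤ)
    (hK : DCoh.IsPerfect (DCoh.toD _ K)) (hM : DCoh.IsPerfect (DCoh.toD _ M))
    [DCoh.HasLpull (FMK.p12 a b c)] [DCoh.HasLTensorCx ((FMK.cxPull (FMK.p23 a b c)).obj M)] [DCoh.HasRpush (FMK.p13 a b c)]
    [DCoh.HasLpull (Limits.pullback.map (Limits.pullback.snd a g) (Limits.pullback.snd b g) a b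
      (Limits.pullback.fst a g) (Limits.pullback.fst b g) g (Limits.pullback.condition).symm (Limits.pullback.condition).symm)]
    [DCoh.HasLpull (Limits.pullback.map (Limits.pullback.snd b g) (Limits.pullback.snd c g) b c
      (Limits.pullback.fst b g) (Limits.pullback.fst c g) g (Limits.pullback.condition).symm (Limits.pullback.condition).symm)]
    [DCoh.HasLpull (Limits.pullback.map (Limits.pullback.snd a g) (Limits.pullback.snd c g) a c
      (Limits.pullback.fst a g) (Limits.pullback.fst c g) g (Limits.pullback.condition).symm (Limits.pullback.condition).symm)]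
    (K₁ : CochainComplex (Limits.pullback (Limits.pullback.snd a g) (Limits.pullback.snd b g)).Modules ℤ)
    (hK₁ : Nonempty (DCoh.toD _ K₁ ≅ (DCoh.Lpull (Limits.pullback.map (Limits.pullback.snd a g) (Limits.pullback.snd b g) a b
      (Limits.pullback.fst a g) (Limits.pullback.fst b g) g (Limits.pullback.condition).symm (Limits.pullback.condition).symm)).obj (DCoh.toD _ K)))
    (M₁ : CochainComplex (Limits.pullback (Limits.pullback.snd b g) (Limits.pullback.snd c g)).Modules ℤ)
    (hM₁ : Nonempty (DCoh.toD _ M₁ ≅ (DCoh.Lpull (Limits.pullback.map (Limits.pullback.snd b g) (Limits.pullback.snd c g) b c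
      (Limits.pullback.fst b g) (Limits.pullback.fst c g) g (Limits.pullback.condition).symm (Limits.pullback.condition).symm)).obj (DCoh.toD _ M)))
    [DCoh.HasLpull (FMK.p12 (Limits.pullback.snd a g) (Limits.pullback.snd b g) (Limits.pullback.snd c g))] [DCoh.HasLTensorCx ((FMK.cxPull (FMK.p23 (Limits.pullback.snd a g) (Limits.pullback.snd b g) (Limits.pullback.snd c g))).obj M₁)]
    [DCoh.HasRpush (FMK.p13 (Limits.pullback.snd a g) (Limits.pullback.snd b g) (Limits.pullback.snd c g))] :
    Nonempty ((DCoh.Lpull (Limits.pullback.map (Limits.pullback.snd a g) (Limits.pullback.snd c g) a c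
      (Limits.pullback.fst a g) (Limits.pullback.fst c g) g (Limits.pullback.condition).symm (Limits.pullback.condition).symm)).obj (FMK.conv a b c K ((FMK.cxPull (FMK.p23 a b c)).obj M)) ≅
      FMK.conv (Limits.pullback.snd a g) (Limits.pullback.snd b g) (Limits.pullback.snd c g) K₁ ((FMK.cxPull (FMK.p23 (Limits.pullback.snd a g) (Limits.pullback.snd b g) (Limits.pullback.snd c g))).obj M₁)) := by
  obtain ⟨eK⟩ := hK₁
  obtain ⟨eM⟩ := hM₁
  let a' := Limits.pullback.snd a g
  let b' := Limits.pullback.snd b g
  let c' := Limits.pullback.snd c g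
  let mA := Limits.pullback.map a' b' a b (Limits.pullback.fst a g) (Limits.pullback.fst b g) g
    (Limits.pullback.condition).symm (Limits.pullback.condition).symm
  let mB := Limits.pullback.map b' c' b c (Limits.pullback.fst b g) (Limits.pullback.fst c g) g
    (Limits.pullback.condition).symm (Limits.pullback.condition).symm
  let mT : FMK.T a' b' c' ⟶ FMK.T a b c := Limits.pullback.map (Limits.pullback.snd a' b') (Limits.pullback.fst b' c')
    (Limits.pullback.snd a b) (Limits.pullback.fst b c) mA mB (Limits.pullback.fst b g)
    (Limits.pullback.lift_snd _ _ _).symm (Limits.pullback.lift_fst _ _ _).symm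
  have hA : mT ≫ FMK.p12 a b c = FMK.p12 a' b' c' ≫ mA := Limits.pullback.lift_fst _ _ _
  have hB : mT ≫ FMK.p23 a b c = FMK.p23 a' b' c' ≫ mB := Limits.pullback.lift_snd _ _ _
  have hb := IsPullback.of_hasPullback b c
  have sq := GrothLib.FMComp25.isPullback_p13 a b c
  have sq' := GrothLib.FMComp25.isPullback_p13 a' b' c'
  have hmid := GrothLib.FMComp25.isPullback_map_snd b c g
  have hmC := GrothLib.FMComp25.isPullback_map_snd a c g
  have outer := sq'.paste_horiz hmid
  rw [← hB, ← hmC.w] at outer
  have sqT : IsPullback mT (FMK.p13 a' b' c') (FMK.p13 a b c) _ := outer.of_right (by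
    apply Limits.pullback.hom_ext
    · rw [Category.assoc, Category.assoc, FMK.p13_fst, reassoc_of% hA, Limits.pullback.lift_fst, Limits.pullback.lift_fst,
        FMK.p13_fst_assoc]
    · rw [Category.assoc, Category.assoc, FMK.p13_snd, reassoc_of% hB, Limits.pullback.lift_snd, Limits.pullback.lift_snd,
        FMK.p13_snd_assoc]) sq
  haveI : Flat (Limits.pullback.snd b c) := MorphismProperty.of_isPullback (P := @Flat) hb inferInstance
  haveI : QuasiCompact (Limits.pullback.snd b c) := MorphismProperty.of_isPullback (P := @QuasiCompact) hb inferInstance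
  haveI : QuasiSeparated (Limits.pullback.snd b c) := MorphismProperty.of_isPullback (P := @QuasiSeparated) hb inferInstance
  haveI : Flat (FMK.p13 a b c) := MorphismProperty.of_isPullback (P := @Flat) sq inferInstance
  haveI : QuasiCompact (FMK.p13 a b c) := MorphismProperty.of_isPullback (P := @QuasiCompact) sq inferInstance
  haveI : QuasiSeparated (FMK.p13 a b c) := MorphismProperty.of_isPullback (P := @QuasiSeparated) sq inferInstance
  haveI : Flat (Limits.pullback.snd a c) :=
    MorphismProperty.of_isPullback (P := @Flat) (IsPullback.of_hasPullback a c) inferInstance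
  haveI : Flat (FMK.p23 a b c) := MorphismProperty.of_isPullback (P := @Flat) sq.flip inferInstance
  haveI : Flat a' := MorphismProperty.of_isPullback (P := @Flat) (IsPullback.of_hasPullback a g) inferInstance
  haveI : Flat (Limits.pullback.snd a' c') :=
    MorphismProperty.of_isPullback (P := @Flat) (IsPullback.of_hasPullback a' c') inferInstance
  haveI : Flat (FMK.p23 a' b' c') := MorphismProperty.of_isPullback (P := @Flat) sq'.flip inferInstance
  exact GrothLib.FMComp25.nonempty_conv_bc _ _ _ _ _ _ mA mB _ mT sqT hA hB (Or.inl inferInstance) K M K₁ M₁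
    (GrothLib.OX.isQCohD_of_isPerfect hK) (GrothLib.OX.isQCohD_of_isPerfect hM) eK eM

end Groth.Agent.S13566
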