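import Groth.Statements.S13567
import Groth.Agent.Lib.AlgSt.Points


set_option autoImplicit false
set_option backward.isDefEq.respectTransparency false
set_option backward.isDefEq.respectTransparency.types false
universe u
open CategoryTheory AlgebraicGeometry
open AlgSt

namespace Groth.Agent.S13567

/-- The base change of a universally injective morphism of algebraic stacks along any morphism of
algebraic stacks is universally injective: if every base change of `f : 𝒳 ⟶ 𝒴` to an algebraic stack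
is injective on points, then the same holds for the projection `𝒵 ×_𝒴 𝒳 ⟶ 𝒵` for every morphism `g :
𝒵 ⟶ 𝒴` of algebraic stacks. -/
theorem result {S : Scheme.{u}} {𝒳 𝒴 𝒵 : AlgSt.Cat S}
    (h𝒳 : AlgSt.IsAlgStack Scheme.fppfPrecoverage 𝒳) (h𝒴 : AlgSt.IsAlgStack Scheme.fppfPrecoverage 𝒴)
    (h𝒵 : AlgSt.IsAlgStack Scheme.fppfPrecoverage 𝒵)
    (f : 𝒳 ⥤ᵇ 𝒴) (g : 𝒵 ⥤ᵇ 𝒴) (hf : AlgSt.IsUnivInjective Scheme.fppfPrecoverage f) :
    AlgSt.IsUnivInjective Scheme.fppfPrecoverage (FibCat.fpFst g f) := by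
  intro 𝒲 h𝒲 y p q h
  have hfp := GrothLib.FibCat.Fp.isFibGrpd (F := y) (G := FibCat.fpFst g f) h𝒲.isStack.1
    (GrothLib.FibCat.Fp.isFibGrpd h𝒵.isStack.1 h𝒳.isStack.1 h𝒴.isStack.1) h𝒵.isStack.1
  refine (GrothLib.AlgSt.points_map_bijective_of_isEquivOver hfp _ (GrothLib.FibCat.Fp.isEquivOver_paste f g y)).1
    (hf 𝒲 h𝒲 (BasedFunctor.comp y g) ?_)
  rw [← GrothLib.AlgSt.points_map_comp, ← GrothLib.AlgSt.points_map_comp, GrothLib.FibCat.Fp.paste_fst]
  exact h

end Groth.Agent.S13567
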