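import Groth.Statements.S4646
import Groth.Agent.Lib.FBase7.Embeds


set_option autoImplicit false
open CategoryTheory AlgebraicGeometry
universe u
open FBase

namespace Groth.Agent.S4646

/-- Let X be a scheme over a field k having finitely many irreducible components, such that for the
generic point x of each irreducible component the separable algebraic closure of k in κ(x) has
finite degree over k. Then there is a finite separable extension L of k such that all irreducible
components of X ⊗_k L are geometrically irreducible over L: for every extension field K of L and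
every irreducible component Z' of X ⊗_k L, the inverse image of Z' in (X ⊗_k L) ⊗_L K is
irreducible. (No finite-type hypothesis on X.) -/
theorem result {k : Type u} [Field k] {X : Scheme.{u}}
    (f : X ⟶ Spec (CommRingCat.of k)) [Finite ↥(irreducibleComponents ↥X)]
    (hx : ∀ (Z : Set ↥X) (hZ : Z ∈ irreducibleComponents ↥X),
      FBase.ResidueFieldProp f hZ.1.genericPoint (fun K _ _ => FiniteDimensional k (separableClosure k K))) :
    ∃ (L : Type u) (_ : Field L) (_ : Algebra k L), FiniteDimensional k L ∧ Algebra.IsSeparable k L ∧
      ∀ (K : Type u) [Field K] [Algebra L K] (Z' : Set ↥(FBase.bc f L)), Z' ∈ irreducibleComponents ↥(FBase.bc f L) →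
        IsIrreducible (⇑(FBase.bcπ (FBase.bcStr f L) K) ⁻¹' Z') := by
  let _ : X.Over (Spec (CommRingCat.of k)) := ⟨f⟩
  obtain ⟨L, i1, i2, hfd, hsep, hnor, hj⟩ := GrothLib.FBase7.exists_galois_receiving k X
    (fun Z : ↥(irreducibleComponents ↥X) => Z.2.1.genericPoint) (fun Z => by
      obtain ⟨φ, hφ, h⟩ := hx Z.1 Z.2
      obtain rfl := GrothLib.FBase7.resMap_eq k X hφ
      exact h)
  refine ⟨L, i1, i2, hfd, hsep, fun K _ _ Z' hZ' => ?_⟩
  obtain ⟨t, ht⟩ := GrothLib.BaseChange.exists_generic (Y := Curv2.bc k X L) hZ'
  obtain ⟨-, hZ⟩ := GrothLib.BaseChange.image_irreducibleComponent k X L hZ' ht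
  have hgen : IsGenericPoint (Curv2.bcFst k X L t) (closure {Curv2.bcFst k X L t}) := rfl
  have h2 : IsGenericPoint hZ.1.genericPoint (closure {Curv2.bcFst k X L t}) := by
    have := hZ.1.isGenericPoint_genericPoint_closure
    rwa [closure_closure] at this
  rw [← ht.def]
  exact GrothLib.FBase7.isIrreducible_preimage_component_of_embedding k X hZ.1.genericPoint
    (hj ⟨_, hZ⟩).some (hgen.eq h2) K

end Groth.Agent.S4646
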