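import Groth.Statements.S1654
import Groth.Agent.S4646
import Groth.Agent.Lib.SchPoints.AlgClosed
import Groth.Agent.Lib.FieldExtra.Insep

set_option autoImplicit false
universe u
open CategoryTheory CategoryTheory.Limits AlgebraicGeometry
open Variety

namespace Groth.Agent.S1654

/-- Let X be a k-scheme locally of finite type, having only finitely many irreducible components. There
is then a finite separable extension k' of k such that every irreducible component of X_{k'}, with
its reduced induced structure, is geometrically irreducible over k'. -/
theorem result (k : Type u) [Field k] (X : Scheme.{u}) [X.Over (Spec (CommRingCat.of k))] [LocallyOfFiniteType (X ↘ (Spec (CommRingCat.of k)))]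
    (hirr : (irreducibleComponents (X : Type u)).Finite) :
    ∃ (k' : Type u) (_ : Field k') (_ : Algebra k k'), FiniteDimensional k k' ∧ Algebra.IsSeparable k k' ∧
      ∀ (T : Set (Curv2.bc k X k')) (hT : T ∈ irreducibleComponents (Curv2.bc k X k' : Type u)),
        GeometricallyIrreducible
          ((Scheme.IdealSheafData.vanishingIdeal ⟨T, isClosed_of_mem_irreducibleComponents T hT⟩).subschemeι ≫
            Curv2.bcSnd k X k') := by
  haveI : Finite ↥(irreducibleComponents ↥X) := hirr.to_subtype
  obtain ⟨L, i1, i2, hfd, hsep, hirred⟩ := Groth.Agent.S4646.result (X ↘ Spec (CommRingCat.of k))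
    (fun Z hZ => by
      let η := hZ.1.genericPoint
      refine ⟨Curv2.resMap k X η, (GrothLib.BaseChange.fromSpecResidueField_over k X η).symm, ?_⟩
      letI : Algebra k (X.residueField η) := (Curv2.resMap k X η).toAlgebra
      obtain hess := GrothLib.SchPoints.essFiniteType_residueField (X ↘ Spec (CommRingCat.of k)) η
      haveI : Algebra.EssFiniteType k (X.residueField η) := by
        refine RingHom.essFiniteType_algebraMap.mp ?_
        convert hess using 1
        have h1 := (Spec.map_preimage (X.fromSpecResidueField η ≫ (X ↘ Spec (CommRingCat.of k)))).trans
          (GrothLib.BaseChange.fromSpecResidueField_over k X η)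
        exact (congrArg CommRingCat.Hom.hom (Spec.map_inj.1 h1)).symm
      haveI := GrothLib.FieldExtra.finiteDimensional_algebraicClosure (k := k) (K := X.residueField η)
        (IntermediateField.fg_top k (X.residueField η))
      show FiniteDimensional k (separableClosure k (X.residueField η))
      have hle : separableClosure k (X.residueField η) ≤ algebraicClosure k (X.residueField η) :=
        fun _ hz => (mem_separableClosure_iff.1 hz).isIntegral
      exact FiniteDimensional.of_injective (IntermediateField.inclusion hle).toLinearMap
        (IntermediateField.inclusion_injective hle))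
  letI := i1
  letI := i2
  refine ⟨L, i1, i2, hfd, hsep, fun T hT => ?_⟩
  rw [geometricallyIrreducible_iff, geometrically_iff_of_commRing_of_isClosedUnderIsomorphisms]
  intro K _ _
  let ι := (Scheme.IdealSheafData.vanishingIdeal ⟨T, isClosed_of_mem_irreducibleComponents T hT⟩).subschemeι
  let b := Spec.map (CommRingCat.ofHom (algebraMap L K))
  let m : pullback (ι ≫ Curv2.bcSnd k X L) b ⟶ pullback (Curv2.bcSnd k X L) b :=
    pullback.map _ _ _ _ ι (𝟙 _) (𝟙 _) (by simp) (by simp)
  haveI : IsClosedImmersion m :=
    MorphismProperty.pullbackMap (P := @IsClosedImmersion) inferInstance inferInstance rfl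
      (Category.id_comp b).symm
  have hr : Set.range m = FBase.bcπ (FBase.bcStr (X ↘ Spec (CommRingCat.of k)) L) K ⁻¹' T := by
    rw [show Set.range m = _ from Scheme.Pullback.range_map .., Scheme.IdealSheafData.range_subschemeι,
      Scheme.IdealSheafData.coe_support_vanishingIdeal]
    exact Set.inter_eq_left.2 fun z _ => ⟨_, rfl⟩
  have h := hirred K T hT
  rw [← hr] at h
  haveI : IrreducibleSpace (Set.range m) := Subtype.irreducibleSpace h
  exact (m.isEmbedding.toHomeomorph).symm.surjective.irreducibleSpace m.isEmbedding.toHomeomorph.symm.continuous

end Groth.Agent.S1654
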