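import Groth.Statements.S1357
import Groth.Agent.S1654
import Groth.Agent.Lib.GenIrr28lead.Model
import Groth.Agent.Lib.SchImage.Reduced
import Groth.Agent.Lib.RedSub.Basic
import Mathlib
-- import your own Groth.Agent.* helpers here

set_option autoImplicit false
universe u
open FlatMor

namespace Groth.Agent.S1357

open AlgebraicGeometry CategoryTheory Limits in
/-- Let f be of finite type with irreducible target Y. Then there are a nonempty open V of Y and a
surjective finite étale morphism g from an irreducible affine scheme Y' to V such that, for the base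
change f' of f to Y', every irreducible component of the generic fibre of f' (with its reduced
induced structure) is geometrically irreducible over the residue field of the generic point of Y'. -/
theorem result {X Y : Scheme.{u}} (f : X ⟶ Y) [IrreducibleSpace ↑Y] [LocallyOfFiniteType f] [QuasiCompact f] :
    ∃ (V : Y.Opens) (Y' : Scheme.{u}) (g : Y' ⟶ (V : Scheme.{u})) (hY' : IrreducibleSpace ↑Y'), (V : Set ↑Y).Nonempty ∧ IsAffine Y' ∧ Surjective g ∧ IsFinite g ∧ Etale g ∧
      ∀ (Z : Set ↑((pullback.snd f (g ≫ V.ι)).fiber (genericPoint ↑Y'))) (hZ : Z ∈ irreducibleComponents ↑((pullback.snd f (g ≫ V.ι)).fiber (genericPoint ↑Y'))),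
        GeometricallyIrreducible ((Scheme.IdealSheafData.vanishingIdeal (⟨Z, isClosed_of_mem_irreducibleComponents Z hZ⟩ : TopologicalSpace.Closeds _)).subschemeι ≫
          (pullback.snd f (g ≫ V.ι)).fiberToSpecResidueField (genericPoint ↑Y')) := by
  obtain ⟨W, hW, hηW, -⟩ := TopologicalSpace.Opens.isBasis_iff_nbhd.mp Y.isBasis_affineOpens
    (show genericPoint ↑Y ∈ (⊤ : Y.Opens) from trivial)
  replace hW : IsAffineOpen W := hW
  let η := genericPoint ↑Y
  let φ : Γ(Y, W) →+* Y.residueField η := (Y.evaluation W η hηW).hom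
  have hker : ∀ a, φ a = 0 → IsNilpotent a := fun a ha => by
    rw [Scheme.isNilpotent_iff_basicOpen_eq_bot_of_isCompact hW.isCompact]
    by_contra hne
    refine (Scheme.evaluation_eq_zero_iff_notMem_basicOpen Y η hηW a).mp ha ?_
    exact (genericPoint_spec ↑Y).mem_open_set_iff (Y.basicOpen a).isOpen |>.mpr (by
      rw [Set.univ_inter, Set.nonempty_iff_ne_empty]
      exact fun h => hne (TopologicalSpace.Opens.ext h))
  have hfrac : ∀ x : Y.residueField η, ∃ a s, φ s ≠ 0 ∧ x * φ s = φ a := fun x => by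
    obtain ⟨z, rfl⟩ := Y.residue_surjective η x
    have := hW.isLocalization_stalk ⟨η, hηW⟩
    letI := TopCat.Presheaf.algebra_section_stalk Y.presheaf (⟨η, hηW⟩ : W)
    obtain ⟨⟨a, s⟩, h⟩ := IsLocalization.surj (hW.primeIdealOf ⟨η, hηW⟩).asIdeal.primeCompl z
    refine ⟨a, s, ?_, ?_⟩
    · exact ((IsLocalization.map_units (Y.presheaf.stalk η) s).map (Y.residue η).hom).ne_zero
    · exact (map_mul (Y.residue η).hom _ _).symm.trans (congrArg _ h)
  have hres : Y.fromSpecResidueField η = Spec.map (Y.evaluation W η hηW) ≫ hW.fromSpec := by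
    rw [Scheme.fromSpecResidueField, ← hW.fromSpecStalk_eq_fromSpecStalk hηW]
    simp [Scheme.evaluation, IsAffineOpen.fromSpecStalk]
    rfl
  let K := Y.residueField η
  let F := f.fiber η
  letI : F.Over (Spec (CommRingCat.of K)) := ⟨f.fiberToSpecResidueField η⟩
  haveI hlft : LocallyOfFiniteType (f.fiberToSpecResidueField η) :=
    MorphismProperty.pullback_snd (P := @LocallyOfFiniteType) _ _ inferInstance
  haveI hqc : QuasiCompact (f.fiberToSpecResidueField η) :=
    MorphismProperty.pullback_snd (P := @QuasiCompact) _ _ inferInstance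
  haveI : LocallyOfFiniteType (F ↘ Spec (CommRingCat.of K)) := hlft
  haveI : TopologicalSpace.NoetherianSpace F := by
    haveI : IsLocallyNoetherian F := LocallyOfFiniteType.isLocallyNoetherian (f.fiberToSpecResidueField η)
    haveI : CompactSpace F := QuasiCompact.compactSpace_of_compactSpace (f.fiberToSpecResidueField η)
    haveI : IsNoetherian F := ⟨⟩
    infer_instance
  obtain ⟨L, i1, i2, hfd, hsep, hT⟩ := Groth.Agent.S1654.result K F
    TopologicalSpace.NoetherianSpace.finite_irreducibleComponents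
  letI := i1
  letI := i2
  haveI := hfd
  haveI := hsep
  obtain ⟨g, B, i3, i4, ψ, hg, het, hfin, hinj, hψker, hψalg, hψfrac⟩ :=
    GrothLib.GenIrr28lead.exists_finite_etale_model φ hker hfrac L
  letI := i3
  letI := i4
  let R := Localization.Away g
  let a₁ : CommRingCat.of R ⟶ CommRingCat.of B := CommRingCat.ofHom (algebraMap R B)
  let a₀ : Γ(Y, W) ⟶ CommRingCat.of R := CommRingCat.ofHom (algebraMap Γ(Y, W) R)
  haveI : IsOpenImmersion (Spec.map a₀) := IsOpenImmersion.of_isLocalization g
  let j : Spec (CommRingCat.of R) ⟶ Y := Spec.map a₀ ≫ hW.fromSpec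
  let h : Spec (CommRingCat.of B) ⟶ Y := Spec.map a₁ ≫ j
  haveI hir : IrreducibleSpace (PrimeSpectrum B) :=
    PrimeSpectrum.irreducibleSpace_iff_isPrime_nilradical.mpr (hψker ▸ RingHom.ker_isPrime ψ)
  haveI hir' : IrreducibleSpace ↑(Spec (CommRingCat.of B)) := hir
  haveI : Surjective (Spec.map a₁) :=
    ⟨(RingHom.IsIntegral.comap_surjective (f := algebraMap R B) (RingHom.IsIntegral.of_finite (RingHom.finite_algebraMap.mpr hfin)) hinj : _)⟩
  haveI : IsFinite (Spec.map a₁) := (IsFinite.SpecMap_iff _).mpr (RingHom.finite_algebraMap.mpr hfin)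
  haveI : Etale (Spec.map a₁) :=
    (HasRingHomProperty.Spec_iff (P := @Etale)).mpr (RingHom.etale_algebraMap.mpr het)
  have hh : (Spec.map a₁ ≫ j.isoOpensRange.hom) ≫ j.opensRange.ι = h := by simp [h]
  refine ⟨j.opensRange, Spec (CommRingCat.of B), Spec.map a₁ ≫ j.isoOpensRange.hom, hir',
    ⟨_, Spec.map a₁ (genericPoint _), rfl⟩, inferInstance, inferInstance, inferInstance, inferInstance, ?_⟩
  rw [hh]
  let Y' := Spec (CommRingCat.of B)
  let ψC : CommRingCat.of B ⟶ CommRingCat.of L := CommRingCat.ofHom ψ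
  obtain ⟨x, α, hα⟩ : ∃ (x : Y') (α : Y'.residueField x ⟶ CommRingCat.of L),
      Spec.map α ≫ Y'.fromSpecResidueField x = Spec.map ψC :=
    ⟨_, _, (Scheme.SpecToEquivOfField L Y').symm_apply_apply (Spec.map ψC)⟩
  have hx : x = genericPoint ↑Y' := by
    have e : Spec.map ψC (IsLocalRing.closedPoint L) = x := by
      rw [← hα, Scheme.Hom.comp_apply, Scheme.fromSpecResidueField_apply]
    refine IsGenericPoint.eq ?_ (genericPoint_spec ↑Y')
    rw [isGenericPoint_def, ← e]
    refine (PrimeSpectrum.closure_singleton (R := B) _).trans ((PrimeSpectrum.zeroLocus_eq_univ_iff _).mpr ?_)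
    intro b hb
    have hb' : ψ b ∈ (IsLocalRing.closedPoint L).asIdeal := hb
    have : b ∈ RingHom.ker ψ := by
      simpa [RingHom.mem_ker, IsLocalRing.closedPoint, IsLocalRing.maximalIdeal_eq_bot] using hb'
    rw [hψker] at this
    exact this
  subst hx
  obtain ⟨ev, hev⟩ : ∃ ev : CommRingCat.of B ⟶ Y'.residueField (genericPoint ↑Y'),
      Spec.map ev = Y'.fromSpecResidueField _ := ⟨_, Spec.map_preimage _⟩
  have hψev : ev ≫ α = ψC := Spec.map_injective (by rw [Spec.map_comp, hev, hα])
  haveI : IsIso α := by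
    refine (ConcreteCategory.isIso_iff_bijective α).mpr ⟨α.hom.injective, fun y => ?_⟩
    obtain ⟨b, s, hs, hy⟩ := hψfrac y
    have hv : ∀ c, α.hom (ev.hom c) = ψ c := fun c => congr($(hψev).hom c)
    refine ⟨ev.hom b / ev.hom s, ?_⟩
    show α.hom _ = y
    rw [map_div₀, hv, hv, div_eq_iff hs, hy]
  let t := Spec.map (CommRingCat.ofHom (algebraMap K L))
  have hq : inv (Spec.map α) ≫ t ≫ Y.fromSpecResidueField η =
      Y'.fromSpecResidueField (genericPoint ↑Y') ≫ h := by
    rw [IsIso.inv_comp_eq, reassoc_of% hα, hres]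
    simp only [t, h, j, ← Spec.map_comp_assoc]
    exact congrArg (fun r => Spec.map r ≫ hW.fromSpec) (CommRingCat.hom_ext hψalg.symm)
  have hbc : IsPullback (Curv2.bcFst K F L ≫ f.fiberι η) (Curv2.bcSnd K F L) f
      (t ≫ Y.fromSpecResidueField η) :=
    (IsPullback.of_hasPullback (F ↘ Spec (CommRingCat.of K)) t).paste_horiz
      (IsPullback.of_hasPullback f (Y.fromSpecResidueField η))
  let G := (pullback.snd f h).fiber (genericPoint ↑Y')
  have hG : IsPullback ((pullback.snd f h).fiberι (genericPoint ↑Y') ≫ pullback.fst f h)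
      ((pullback.snd f h).fiberToSpecResidueField (genericPoint ↑Y')) f
      (Y'.fromSpecResidueField (genericPoint ↑Y') ≫ h) :=
    (IsPullback.of_hasPullback (pullback.snd f h) _).paste_horiz (IsPullback.of_hasPullback f h)
  have hbc' : IsPullback (Curv2.bcFst K F L ≫ f.fiberι η) (Curv2.bcSnd K F L ≫ Spec.map α) f
      (Y'.fromSpecResidueField (genericPoint ↑Y') ≫ h) :=
    hbc.of_iso (Iso.refl _) (Iso.refl _) (asIso (Spec.map α)) (Iso.refl _) (by simp) (by simp) (by simp)
      (by
        rw [← hq]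
        simp)
  let e := hG.isoIsPullback _ _ hbc'
  have he : e.hom ≫ Curv2.bcSnd K F L ≫ Spec.map α =
      (pullback.snd f h).fiberToSpecResidueField (genericPoint ↑Y') := IsPullback.isoIsPullback_hom_snd _ _ _ _
  intro Z hZ
  let hm := e.hom.homeomorph
  have hTm : hm '' Z ∈ irreducibleComponents ↑(Curv2.bc K F L) := by
    refine ⟨hZ.1.image _ hm.continuous.continuousOn, fun S hS hle => ?_⟩
    have h1 := hZ.2 (hS.image _ hm.symm.continuous.continuousOn)
      (fun z hz => ⟨hm z, hle ⟨z, hz, rfl⟩, hm.symm_apply_apply z⟩)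
    intro y hy
    exact ⟨hm.symm y, h1 ⟨y, hy, rfl⟩, hm.apply_symm_apply y⟩
  specialize hT _ hTm
  let ιZ := (Scheme.IdealSheafData.vanishingIdeal
    (⟨Z, isClosed_of_mem_irreducibleComponents Z hZ⟩ : TopologicalSpace.Closeds _)).subschemeι
  let i' := ιZ ≫ e.hom
  haveI := GrothLib.RedSub.isReduced_subscheme_vanishingIdeal (⟨Z, isClosed_of_mem_irreducibleComponents Z hZ⟩ : TopologicalSpace.Closeds _)
  have hr : Set.range i' = hm '' Z := by
    rw [Scheme.Hom.comp_base, TopCat.coe_comp, Set.range_comp, Scheme.IdealSheafData.range_subschemeι,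
      Scheme.IdealSheafData.coe_support_vanishingIdeal]
    rfl
  have hk : i'.ker = Scheme.IdealSheafData.vanishingIdeal
      ⟨hm '' Z, isClosed_of_mem_irreducibleComponents _ hTm⟩ := by
    rw [GrothLib.SchImage.ker_eq_vanishingIdeal]
    congr 1
    ext1
    show closure (Set.range i') = hm '' Z
    rw [hr]
    exact (isClosed_of_mem_irreducibleComponents _ hTm).closure_eq
  have hT' : GeometricallyIrreducible (i'.imageι ≫ Curv2.bcSnd K F L) := by
    show GeometricallyIrreducible ((i'.ker).subschemeι ≫ Curv2.bcSnd K F L)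
    rw [hk]
    exact hT
  rw [← he]
  show GeometricallyIrreducible (ιZ ≫ e.hom ≫ Curv2.bcSnd K F L ≫ Spec.map α)
  rw [← Category.assoc, show ιZ ≫ e.hom = i'.toImage ≫ i'.imageι from (Scheme.Hom.toImage_imageι i').symm,
    Category.assoc, MorphismProperty.cancel_left_of_respectsIso @GeometricallyIrreducible,
    ← Category.assoc, MorphismProperty.cancel_right_of_respectsIso @GeometricallyIrreducible]
  exact hT'


end Groth.Agent.S1357
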