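import Groth.Statements.S13575
import Groth.Agent.Lib.QuotSt.Shear


set_option autoImplicit false
set_option backward.isDefEq.respectTransparency false
set_option backward.isDefEq.respectTransparency.types false
universe u
open CategoryTheory AlgebraicGeometry MonoidalCategory
open AlgSt

namespace Groth.Agent.S13575

open GrothLib

/-- For a group action: let a group scheme `G` over `S` act on a scheme `X` over `S` and let `π : X ⟶
[X/G]` be the canonical morphism to the quotient stack. Then the square with vertices `G ×_S X`,
`X`, `X`, `[X/G]`, whose sides are the action and the projection `G ×_S X ⟶ X` followed by `π`, is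
2-cartesian for some 2-isomorphism `π ∘ a ≅ π ∘ pr₂`: the induced functor from `G ×_S X` to the
2-fibre product `X ×_{[X/G]} X` is an equivalence over `(Sch/S)`. Existence of the 2-isomorphism
only; the canonical one is right multiplication by the group element. (The published statement is
for a groupoid in algebraic spaces; this row is the action groupoid of a group scheme, with torsors
given as schemes.) -/
theorem result {S : Scheme.{u}} (G : Over S) [GrpObj G]
    (X : Over S) (aX : AlgGrp.Action G X) :
    ∃ e : BasedFunctor.comp (AlgSt.ofSpMap ((AlgSp.yon S).map aX.act)) (AlgSt.quotMap Scheme.fppfPrecoverage G aX) ≅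
        BasedFunctor.comp (AlgSt.ofSpMap ((AlgSp.yon S).map (CartesianMonoidalCategory.snd G X)))
          (AlgSt.quotMap Scheme.fppfPrecoverage G aX),
      FibCat.IsTwoCartOver (AlgSt.ofSpMap ((AlgSp.yon S).map aX.act))
        (AlgSt.ofSpMap ((AlgSp.yon S).map (CartesianMonoidalCategory.snd G X))) e := by
  exact ⟨QuotSt.shearNatIso aX, QuotSt.isTwoCartOver_shear aX⟩

end Groth.Agent.S13575
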