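import Groth.Statements.S13579
import Groth.Agent.Lib.DTen.ProTor

set_option autoImplicit false
universe u
open CategoryTheory CategoryTheory.Limits MonoidalCategory
attribute [local instance] HasDerivedCategory.standard
open DTen

namespace Groth.Agent.S13579

/-- Let `A` be a Noetherian commutative ring (the derived tensor product on `D(A)` being assumed to
exist and to be computed by K-flat complexes), `I` an ideal and `K` a bounded cochain complex of
finite `A`-modules. Then the inverse system of canonical morphisms `K ⊗^L_A A/I^{n+1} ⟶ K/I^{n+1}K`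
in `D(A)` is an isomorphism of pro-objects. Here `K/I^{n+1}K` is written as the plain tensor product
complex `K ⊗_A (A/I^{n+1})[0]`, to which it is canonically isomorphic, and the morphisms are the
canonical maps from the derived to the plain tensor product. -/
theorem result (A : Type u) [CommRing A] [IsNoetherianRing A]
    [DTen.HasLTen A] [DTen.KFlatComputes A] (I : Ideal A) (K : DRing.Cx A) (a b : ℤ) (hK : DRing.VanishesOutside K a b)
    (hKf : ∀ i : ℤ, Module.Finite A (K.X i)) :
    DerCA.IsProIso (Functor.whiskerLeft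
      (CohIII.adicSystem I (ModuleCat.of A A) ⋙ HomologicalComplex.single (ModuleCat.{u} A) (ComplexShape.up ℤ) 0)
      (DTen.εLeft A K)) := by
  obtain ⟨P, q, hP, hflat, hq, -⟩ := GrothLib.KF.exists_kflat_resolution K
  have := GrothLib.DT.isIso_Q_map q
  let X := CohIII.adicSystem I (ModuleCat.of A A) ⋙ HomologicalComplex.single (ModuleCat.{u} A) (ComplexShape.up ℤ) 0
  have hKP : ∀ L : DRing.Cx A, (DTen.LTen₂ A).map (Prod.mkHom (DerivedCategory.Q.map q) (𝟙 (DerivedCategory.Q.obj L))) ≫
      (DTen.εLeft A K).app L = (DTen.εLeft A P).app L ≫ DerivedCategory.Q.map (q ▷ L) := fun L => by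
    have e := (DTen.ε A).naturality (Prod.mkHom q (𝟙 L))
    dsimp at e ⊢
    simpa [DTen.εLeft] using! e
  let e := Functor.whiskerLeft X (Functor.whiskerLeft DerivedCategory.Q
    ((DTen.LTen A).map (inv (DerivedCategory.Q.map q))) ≫ DTen.εLeft A P)
  have he : ∀ n, IsIso (e.app n) := fun n => by
    have := GrothLib.DT.isIso_ε_left hP (X.obj n)
    exact IsIso.comp_isIso' (inferInstanceAs (IsIso (((DTen.LTen A).map (inv (DerivedCategory.Q.map q))).app _)))
      (inferInstanceAs (IsIso ((DTen.ε A).app (P, X.obj n))))
  have := NatIso.isIso_of_isIso_app e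
  have hfac : Functor.whiskerLeft X (DTen.εLeft A K) = e ≫ Functor.whiskerRight (Functor.whiskerLeft
      (CohIII.adicSystem I (ModuleCat.of A A)) (GrothLib.DT.ProTor.FSmap q)) DerivedCategory.Q := by
    ext n
    refine Eq.trans ?_ (Category.assoc _ _ _).symm
    refine Eq.trans ?_ (congrArg (((DTen.LTen A).map (inv (DerivedCategory.Q.map q))).app _ ≫ ·) (hKP (X.obj n)))
    refine Eq.trans (Category.id_comp _).symm ((congrArg (· ≫ (DTen.εLeft A K).app (X.obj n)) ?_).trans (Category.assoc _ _ _))
    exact ((NatTrans.congr_app ((DTen.LTen A).map_comp (inv (DerivedCategory.Q.map q)) (DerivedCategory.Q.map q)) _).symm.trans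
      ((congrArg (fun t => ((DTen.LTen A).map t).app _) (IsIso.inv_hom_id _)).trans
        (NatTrans.congr_app ((DTen.LTen A).map_id _) _))).symm
  exact hfac ▸ GrothLib.DT.ProTor.isProIso_comp (GrothLib.DT.ProTor.isProIso_of_isIso e)
    (GrothLib.DT.ProTor.isPro_adicSystem q hK hKf hflat I)

end Groth.Agent.S13579
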