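import Groth.Statements.S1358
import Groth.Agent.Lib.SmoothStrat6.UH
-- import your own Groth.Agent.* helpers here

set_option autoImplicit false
universe u
open FlatMor

namespace Groth.Agent.S1358

open AlgebraicGeometry CategoryTheory Limits in
/-- Let f be of finite type with irreducible target Y. Then there are a nonempty open V of Y, a finite
universal homeomorphism g from an integral affine scheme Y' to V, and a reduced scheme X' with a
surjective closed immersion into the base change of X to Y' (so X' is the reduction of that base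
change), such that X' → Y' is flat and of finite presentation and its generic fibre is geometrically
reduced. -/
theorem result {X Y : Scheme.{u}} (f : X ⟶ Y) [IrreducibleSpace ↑Y] [LocallyOfFiniteType f] [QuasiCompact f] :
    ∃ (V : Y.Opens) (Y' : Scheme.{u}) (g : Y' ⟶ (V : Scheme.{u})) (X' : Scheme.{u}) (r : X' ⟶ pullback f (g ≫ V.ι)) (hY' : IsIntegral Y'),
      (V : Set ↑Y).Nonempty ∧ IsAffine Y' ∧ IsFinite g ∧ FlatMor.IsUnivHomeo g ∧ IsClosedImmersion r ∧ Surjective r ∧ IsReduced X' ∧
      Flat (r ≫ pullback.snd f (g ≫ V.ι)) ∧ LocallyOfFinitePresentation (r ≫ pullback.snd f (g ≫ V.ι)) ∧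
      QuasiCompact (r ≫ pullback.snd f (g ≫ V.ι)) ∧ QuasiSeparated (r ≫ pullback.snd f (g ≫ V.ι)) ∧
      GeometricallyReduced ((r ≫ pullback.snd f (g ≫ V.ι)).fiberToSpecResidueField (genericPoint ↑Y')) := by
  obtain ⟨V, Y', g, X', r, hY', h⟩ := GrothLib.SmoothStrat6.exists_univHomeo_model f
  exact ⟨V, Y', g, X', r, hY', h⟩

end Groth.Agent.S1358
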