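import Groth.Statements.S13580
import Groth.Agent.Lib.ModSupp25.Localise
import Groth.Agent.Lib.ExtAdj.Basic
import Groth.Agent.Lib.SheafCoh.ModGroth
-- import your own Groth.Agent.* helpers here

set_option autoImplicit false
universe w' w u
open CategoryTheory CategoryTheory.Limits
open ExtSupp

namespace Groth.Agent.S13580

/-- Let `U`, `V` be objects of a ringed site which together cover it, with `V` subterminal (every object
has at most one morphism to `V`, so that `V` is an open of the topos and the closed complement `Z`
of `U` is contained in it), and let `M`, `N` be sheaves of modules. Then `Ext^i_Z(M, N)` computed on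
the whole site is isomorphic to `Ext^i_{Z}(V; M|_V, N|_V)`, the Ext group with supports computed on
the localised site over `V` with support the complement of `U × V ⟶ V`. Existence of an isomorphism
of groups in each degree only. (The published statement is for a ringed space, where every open set
is subterminal, a locally closed `Z` and an isomorphism of cohomological functors; this row is the
closed case on a ringed site, degree by degree, with the subterminality of `V` made an explicit
hypothesis. Without the covering hypothesis the statement fails, e.g. for `V = U`; without the
subterminality of `V` it fails already in degree `0`, because restricting to the localised site over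
an object that receives two different morphisms from one object can enlarge the group of sections.) -/
theorem result {C : Type u} [SmallCategory C] [HasBinaryProducts C]
    {J : GrothendieckTopology C} {O : Sheaf J CommRingCat.{u}} [HasExt.{w} (ModSite.Mod O)]
    (U V : C) [HasExt.{w'} (ModSite.Mod (O.over V))]
    (hV : ∀ X : C, Subsingleton (X ⟶ V)) (hUV : J.CoversTop (fun b : Bool => cond b U V)) (M N : ModSite.Mod O)
    (i : ℕ) :
    Nonempty (ExtSupp.ExtZ U M N i ≃+ ExtSupp.ExtZover V (Over.mk (prod.snd : U ⨯ V ⟶ V)) M N i) := by
  have := GrothLib.SheafCoh.enoughInjectives_sheafOfModules (ModSite.ringSh O)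
  have := GrothLib.ModExtZero.additive_extZero (O := O) (U := V)
  have := GrothLib.ModExtZero.preservesFiniteLimits_extZero (O := O) (U := V)
  have := GrothLib.ModExtZero.preservesFiniteColimits_extZero (O := O) (U := V)
  have := GrothLib.ModSupp25.preservesFiniteLimits_restr O V
  have := GrothLib.ModSupp25.preservesFiniteColimits_restr O V
  have := GrothLib.ModSupp25.hasBinaryProducts_over (C := C) V hV
  have := GrothLib.ModSupp25.isIso_quot_counit O U V hUV hV M
  let G := (ModSite.quotOn (O.over V) (GrothLib.ModSupp25.prodOver U V)).obj ((ModSite.restr O V).obj M)
  let e : (ModSite.extZero O V).obj G ≅ (ModSite.quotOn O U).obj M :=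
    ((GrothLib.ModSupp25.extZeroQuotIso O U V).app ((ModSite.restr O V).obj M)).symm ≪≫
      asIso ((ModSite.quotOn O U).map ((ModSite.extZeroAdj O V).counit.app M))
  exact ⟨(GrothLib.SheafCoh.extPrecompIso e N i).trans
    (AddEquiv.ofBijective _ (GrothLib.ExtAdj.bijective_adjMap (ModSite.extZeroAdj O V) G i N
      (fun q => GrothLib.LocZ.isZero_rightDerived_exact (ModSite.restr O V) N q))).symm⟩

end Groth.Agent.S13580
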