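import Groth.Statements.S13585
import Groth.Agent.Lib.SmoothSection.Scheme
import Groth.Agent.Lib.OmegaBC.Section
import Groth.Agent.Lib.ExtPowX.Pullback
import Groth.Agent.Lib.Adj27.SmoothExt

set_option autoImplicit false
set_option linter.style.haveILetI false
universe u
open CategoryTheory CategoryTheory.Limits AlgebraicGeometry
open Canon

namespace Groth.Agent.S13585

/-- Let `f : X ⟶ Y` and `g : Y ⟶ Z` be morphisms of schemes with `g` smooth of relative dimension `n`,
and let `Γ : X ⟶ X ×_Z Y` be the graph of `f`. Then `Γ` is a regular immersion of codimension `n`,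
and the top exterior power of its conormal sheaf is `f^* ω_{Y/Z}`, where `ω_{Y/Z} = Λ^n Ω_{Y/Z}`;
that is, the canonical sheaf of the immersion `Γ` is the dual of `f^* ω_{Y/Z}`. (This row takes `X`
locally Noetherian and `g` separated, so that the graph is a closed immersion and the criterion for
sections of smooth morphisms over a locally Noetherian base, through which the published proof goes,
applies; the published statement has arbitrary preschemes.) -/
theorem result {X Y Z : Scheme.{u}} [IsLocallyNoetherian X]
    (f : X ⟶ Y) (g : Y ⟶ Z) (n : ℕ) [SmoothOfRelativeDimension n g] [IsSeparated g]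
    (ωY : Y.Modules) (hω : Canon.IsTopDiff g n ωY) :
    RegImm.IsRegularImmersionOfCodim .regular n (pullback.lift (𝟙 X) f (Category.id_comp (f ≫ g))) ∧
      ExtPow.IsExtPow n (Omega.conormal (pullback.lift (𝟙 X) f (Category.id_comp (f ≫ g))))
        ((Scheme.Modules.pullback f).obj ωY) := by
  haveI : SmoothOfRelativeDimension n (pullback.fst (f ≫ g) g) :=
    (smoothOfRelativeDimension_isStableUnderBaseChange n).of_isPullback (IsPullback.of_hasPullback (f ≫ g) g).flip inferInstance
  let Γ' : X ⟶ pullback (f ≫ g) g := pullback.lift (𝟙 X) f (Category.id_comp (f ≫ g))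
  have hΓ : Γ' ≫ pullback.fst (f ≫ g) g = 𝟙 X := pullback.lift_fst _ _ _
  haveI : IsClosedImmersion (Γ' ≫ pullback.fst (f ≫ g) g) := by rw [hΓ]; infer_instance
  haveI : IsClosedImmersion Γ' := IsClosedImmersion.of_comp Γ' (pullback.fst (f ≫ g) g)
  refine ⟨⟨inferInstance, fun z => ?_⟩, ?_⟩
  · obtain ⟨U₀, hU₀, V₀, hV₀, hx, e, hn⟩ :=
      SmoothOfRelativeDimension.exists_isStandardSmoothOfRelativeDimension (n := n) (f := pullback.fst (f ≫ g) g) (Γ' z)
    obtain ⟨U, hzU, -⟩ := GrothLib.BlowUp.exists_affine_mem_le (W := (⊤ : X.Opens)) (x := z) trivial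
    obtain ⟨V, hzV, rs, hlen, hreg, hI⟩ := GrothLib.SmoothSection.exists_chart_regular n (pullback.fst (f ≫ g) g) Γ' (𝟙 X)
      hΓ z hU₀ hV₀ hx e hn U hzU [] (RingTheory.Sequence.IsWeaklyRegular.nil _ _) (by
        rw [Scheme.Hom.ker_apply, Ideal.ofList_nil, ← RingHom.injective_iff_ker_eq_bot]
        exact fun a b h => h)
    refine ⟨V, hzV, IsZariskiLocalAtTarget.restrict (P := @IsClosedImmersion) inferInstance V.1, rs,
      by simpa using hlen, hreg, ?_⟩
    rw [← hI, Scheme.Hom.ker_apply]
  · let k : pullback (f ≫ g) g ⟶ pullback g g :=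
      pullback.lift (pullback.fst (f ≫ g) g ≫ f) (pullback.snd (f ≫ g) g) (by rw [Category.assoc]; exact pullback.condition)
    have hbig : IsPullback (k ≫ pullback.snd g g) (pullback.fst (f ≫ g) g) g (f ≫ g) := by
      rw [pullback.lift_snd]
      exact (IsPullback.of_hasPullback (f ≫ g) g).flip
    have H : IsPullback k (pullback.fst (f ≫ g) g) (pullback.fst g g) f :=
      IsPullback.of_right hbig (pullback.lift_fst _ _ _) (IsPullback.of_hasPullback g g).flip
    obtain ⟨e⟩ := GrothLib.OmegaBC.nonempty_pullback_conormal_section (pullback.diagonal g) Γ' (pullback.fst g g)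
      (pullback.fst (f ≫ g) g) f k H (pullback.diagonal_fst g) hΓ (by
        apply pullback.hom_ext
        · simp only [k, Γ', Category.assoc, pullback.diagonal_fst, Category.comp_id]
          erw [pullback.lift_fst, pullback.lift_fst_assoc]
          exact Category.id_comp f
        · simp only [k, Γ', Category.assoc, pullback.diagonal_snd, Category.comp_id]
          erw [pullback.lift_snd, pullback.lift_snd])
    have hE := GrothLib.Adj27.isFinLocFree_omega g n
    have hE' : FlatMod.IsFinLocFree (Omega.conormal Γ') :=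
      GrothLib.DCoh.isFinLocFree_of_iso e (GrothLib.OX.isFinLocFree_pullback f hE)
    have hL := GrothLib.ExtPowX.isExtPow_pullback f hE hω
    exact GrothLib.ExtPowX.isExtPow_of_iso (GrothLib.ExtPowX.isExtPow_wedge hE' n)
      (GrothLib.ExtPowX.nonempty_iso (GrothLib.ExtPowX.isExtPow_wedge hE' n) hL e.symm).some

end Groth.Agent.S13585
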