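import Groth.Statements.S13589
import Groth.Agent.Lib.DbEquiv3.Perfect
import Groth.Agent.Lib.DbEquiv3.Invertible
import Groth.Agent.Lib.DualRing.Single
import Groth.Agent.Lib.DualCx22.LocalCohD

set_option autoImplicit false
set_option linter.style.haveILetI false
universe u
open CategoryTheory CategoryTheory.Limits MonoidalCategory
attribute [local instance] HasDerivedCategory.standard
open DTen

namespace Groth.Agent.S13589

variable {A : Type u} [CommRing A]

theorem bijective_smul_id_inD : Function.Bijective fun r : A => r • 𝟙 (Dual.inD A A) := by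
  obtain ⟨Φ₀⟩ := GrothLib.DualRing.exists_hom_ring_equiv (Dual.inD A A) (0 : ℤ)
  let Φ : (Dual.inD A A ⟶ Dual.inD A A) ≃ₗ[A] A :=
    (Linear.homCongr A (Iso.refl _) ((shiftFunctorZero (Dual.D A) ℤ).app (Dual.inD A A)).symm).trans
      (Φ₀.trans (GrothLib.DR.inDHomologyIso (A := A) A).toLinearEquiv)
  let φ := Φ.symm 1
  have hall : ∀ ψ : Dual.inD A A ⟶ Dual.inD A A, ψ = Φ ψ • φ := fun ψ => by
    rw [← map_smul, smul_eq_mul, mul_one, LinearEquiv.symm_apply_apply]
  let c := Φ (𝟙 (Dual.inD A A))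
  have h1 : φ = (c * Φ (φ ≫ φ)) • φ := by
    calc φ = φ ≫ 𝟙 _ := (Category.comp_id φ).symm
      _ = φ ≫ (c • φ) := congrArg (φ ≫ ·) (hall (𝟙 _))
      _ = c • (φ ≫ φ) := Linear.comp_smul _ _ _ _ _ _
      _ = c • (Φ (φ ≫ φ) • φ) := congrArg (c • ·) (hall (φ ≫ φ))
      _ = _ := smul_smul _ _ _
  have h2 : c * Φ (φ ≫ φ) = 1 := by
    have := congrArg Φ h1
    rw [map_smul, LinearEquiv.apply_symm_apply, smul_eq_mul, mul_one] at this
    exact this.symm
  refine ⟨fun r s h => ?_, fun ψ => ⟨Φ ψ * Φ (φ ≫ φ), ?_⟩⟩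
  · have := congrArg Φ h
    simp only [map_smul, smul_eq_mul] at this
    exact (IsUnit.of_mul_eq_one _ h2).mul_right_cancel this
  · show (Φ ψ * Φ (φ ≫ φ)) • 𝟙 (Dual.inD A A) = ψ
    rw [hall (𝟙 _), smul_smul, mul_assoc, mul_comm (Φ (φ ≫ φ)), h2, mul_one]
    exact (hall ψ).symm

theorem result (A : Type u) [CommRing A]
    [IsNoetherianRing A] [DTen.HasLTen A] [DTen.KFlatComputes A]
    (P : ObjectProperty (Dual.D A))
    (hP : ∀ K : Dual.D A, P K ↔
      ((∀ i : ℤ, Module.Finite A (Dual.HD A K i)) ∧ ∃ a b : ℤ, ∀ i : ℤ, (i < a ∨ b < i) → Subsingleton (Dual.HD A K i)))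
    [P.IsTriangulated]
    (F : P.FullSubcategory ⥤ P.FullSubcategory) [F.CommShift ℤ] [F.IsTriangulated] [F.IsEquivalence]
    [F.Additive] [F.Linear A]
    (hA : P (DTen.unit A)) :
    DTen.IsInvertible A (F.obj ⟨DTen.unit A, hA⟩).obj := by
  let U : P.FullSubcategory := ⟨DTen.unit A, hA⟩
  let Y := (F.obj U).obj
  have e1 : ∀ (V W : P.FullSubcategory) (n : ℤ), Nonempty ((V ⟶ W⟦n⟧) ≃ (V.obj ⟶ W.obj⟦n⟧)) := fun V W n =>
    ⟨(P.fullyFaithfulι.homEquiv).trans (Iso.homCongr (Iso.refl _) ((P.ι.commShiftIso n).app W))⟩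
  have e2 : ∀ (V W : P.FullSubcategory) (n : ℤ), Nonempty ((V ⟶ W⟦n⟧) ≃ (F.obj V ⟶ (F.obj W)⟦n⟧)) := fun V W n =>
    ⟨(Functor.FullyFaithful.ofFullyFaithful F).homEquiv.trans (Iso.homCongr (Iso.refl _) ((F.commShiftIso n).app W))⟩
  have eU : ∀ (K : Dual.D A) (n : ℤ), Nonempty ((U.obj ⟶ K⟦n⟧) ≃ Dual.HD A K n) := fun K n => by
    obtain ⟨e⟩ := GrothLib.DualRing.exists_hom_ring_equiv K n
    exact ⟨(Iso.homCongr (Iso.refl _ : U.obj ≅ Dual.inD A A) (Iso.refl _)).trans e.toEquiv⟩
  obtain ⟨hYfin, a, b, hY⟩ := (hP Y).1 (F.obj U).property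
  have hpc : DRing.IsPseudoCoherent' A Y :=
    (GrothLib.DR.isPseudoCoherent'_iff_of_coherent (fun I _ => Module.finitePresentation_of_finite A I) Y
      ⟨b, fun i hi => hY i (Or.inr hi)⟩).2 fun i => haveI := hYfin i; Module.finitePresentation_of_finite A _
  have hperf : DRing.IsPerfect A Y := by
    refine GrothLib.DbEquiv3.isPerfect_of_hom_residue hpc a (fun i hi => hY i (Or.inl hi)) fun m hm => ?_
    have hκ : P (Dual.inD A m.ResidueField) := by
      haveI : Module.Finite A m.ResidueField := Module.Finite.equiv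
        (LinearEquiv.ofBijective (Algebra.linearMap (A ⧸ m) m.ResidueField |>.restrictScalars A)
          m.bijective_algebraMap_quotient_residueField)
      refine (hP _).2 ⟨fun i => GrothLib.DualCx22.finite_HD_inD _ i, 0, 0, fun i hi => ?_⟩
      exact GrothLib.DR.subsingleton_HD_inD (A := A) m.ResidueField i (by omega)
    let X : P.FullSubcategory := F.objPreimage ⟨_, hκ⟩
    obtain ⟨-, aX, bX, hX⟩ := (hP X.obj).1 X.property
    refine ⟨-bX, fun i hi => ?_⟩
    haveI := hX (-i) (Or.inr (by omega))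
    haveI := (eU X.obj (-i)).some.subsingleton
    haveI := (e1 U X (-i)).some.subsingleton
    haveI := (e2 U X (-i)).some.symm.subsingleton
    haveI : Subsingleton (Y ⟶ (F.obj X).obj⟦-i⟧) :=
      (e1 (F.obj U) (F.obj X) (-i)).some.symm.subsingleton
    exact @Equiv.subsingleton _ _ (Iso.homCongr (Iso.refl Y) ((shiftFunctor (Dual.D A) (-i)).mapIso
      (P.ι.mapIso (F.objObjPreimageIso ⟨_, hκ⟩)))).symm this
  refine GrothLib.DbEquiv3.isInvertible_of_isPerfect hperf (fun n hn => ?_) ?_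
  · haveI : Subsingleton (Dual.HD A (DTen.unit A) n) := GrothLib.DR.subsingleton_HD_inD (A := A) A n hn
    haveI := (eU U.obj n).some.subsingleton
    haveI := (e1 U U n).some.subsingleton
    haveI := (e2 U U n).some.symm.subsingleton
    exact (e1 (F.obj U) (F.obj U) n).some.symm.subsingleton
  · have hU : Function.Bijective fun r : A => r • 𝟙 U.obj := bijective_smul_id_inD
    have hU' : Function.Bijective fun r : A => r • 𝟙 U :=
      (Function.Bijective.of_comp_iff' (P.fullyFaithfulι.homEquiv).bijective _).1 hU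
    have hFU : Function.Bijective fun r : A => r • 𝟙 (F.obj U) := by
      have : (fun r : A => r • 𝟙 (F.obj U)) =
          (Functor.FullyFaithful.ofFullyFaithful F).homEquiv ∘ fun r : A => r • 𝟙 U := by
        funext r
        simp [Functor.FullyFaithful.homEquiv, F.map_smul]
      rw [this]
      exact (Equiv.bijective _).comp hU'
    exact (P.fullyFaithfulι.homEquiv).bijective.comp hFU

end Groth.Agent.S13589
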