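import Groth.Statements.S13595
import Groth.Agent.Lib.SpQuot.AtlasProps
import Groth.Agent.Lib.AlgSp.FpqcProps


set_option autoImplicit false
set_option backward.isDefEq.respectTransparency false
set_option backward.isDefEq.respectTransparency.types false
universe u
open CategoryTheory AlgebraicGeometry MonoidalCategory
open AlgSt

namespace Groth.Agent.S13595

/-- For a group action: let `B` be an algebraic space over `S`, `G` a group algebraic space over `B`
with `G ⟶ B` smooth, and `X` an algebraic space over `B` with a `G`-action. Then the canonical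
morphism `X ⟶ [X/G]` (a `T`-point `x` of `X` goes to the trivial torsor `G ×_B T` with the
equivariant map `(g, t) ↦ g · x(t)`; torsors given as sheaves) is representable by algebraic spaces,
smooth, and surjective. (The published statement is for a smooth groupoid in algebraic spaces; this
row is the action groupoid.) -/
theorem result (S : Scheme.{u}) (B : AlgSp.Sp S)
    (hB : AlgSp.IsAlgSpace B) (G : Over B) [GrpObj G] (hG : AlgSp.IsAlgSpace G.left)
    (hs : AlgSp.LocP @Smooth G.hom)
    (X : Over B) (hX : AlgSp.IsAlgSpace X.left) (aX : AlgSp.GAction G X) :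
    AlgSt.RepByAlgSpWith (AlgSp.LocP @Smooth) (AlgSt.spQuotMap Scheme.fppfPrecoverage G aX) ∧
      AlgSt.RepByAlgSpWith AlgSp.IsSurjectiveMor (AlgSt.spQuotMap Scheme.fppfPrecoverage G aX) := by
  --- body
    refine ⟨GrothLib.SpQuot.repByAlgSpWith_spQuotMap hB hG (GrothLib.SpQuot.mem_torsor
        (GrothLib.AlgSt.isLocalOnBase_fppf_of_fpqc (GrothLib.AlgSp.isLocalOnBase_fpqc_of
          (GrothLib.AlgSp.baseChanges_locP GrothLib.AlgSp.EtLocal.smooth)
          fun _ _ hX' hY _ h => GrothLib.AlgSp.locP_of_fpqcLoc GrothLib.AlgSp.EtLocal.smooth hX' hY h))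
        hB hG (fun V b => GrothLib.AlgSp.EtLocal.locP_of_isPullback GrothLib.AlgSp.EtLocal.smooth hG hB
          (AlgSp.IsAlgSpace.yon_obj V)
          (IsPullback.of_hasPullback G.hom b) hs)),
      GrothLib.SpQuot.repByAlgSpWith_spQuotMap hB hG GrothLib.SpQuot.isSurjectiveMor_torsor⟩

end Groth.Agent.S13595
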