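import Groth.Statements.S13596
import Groth.Agent.Lib.SGA1Quot21.Basic

set_option autoImplicit false
universe u
open CategoryTheory AlgebraicGeometry
open SGA1

namespace Groth.Agent.S13596

/-- Let a finite group G act on a scheme X and let p : X ⟶ Y be a quotient of X by G (affine,
G-invariant, and identifying the sections of O_Y over every open with the G-invariant sections of
O_X over its preimage). Then p is an integral morphism. -/
theorem result {X Y : Scheme.{u}} {G : Type u} [Group G] [Finite G]
    (ρ : G →* Aut X) (p : X ⟶ Y) (hp : SGA1.IsQuot ρ p) :
    IsIntegralHom p := by
  exact GrothLib.SGA1Quot21.isIntegralHom hp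

end Groth.Agent.S13596
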