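import Groth.Statements.S13599
import Groth.Agent.Lib.CycGal13.Descent
-- import your own Groth.Agent.* helpers here

set_option autoImplicit false
universe u
open CategoryTheory AlgebraicGeometry
open CategoryTheory.Limits
open Cyc

namespace Groth.Agent.S13599

/-- Let k be a field, X a separated k-scheme of finite type, and k' a finite normal extension field of
k, with G the group of k-automorphisms of k'; put X' = X ×_k Spec k' with first projection p. The
group G acts on X' over X (σ acts through Spec σ on the second factor). If Z' is a cycle on X' (an
integer-valued function on the points of X' with locally finite support) invariant under every σ ∈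
G, then there is exactly one cycle Z on X with [k' : k]_insep · Z' = p^*Z, where [k' : k]_insep is
the inseparable degree and p^*Z is the flat pullback of cycles along p: its coefficient at x' is Z(p
x') times the length of the Artinian local ring O_{X',x'}/𝔪_{p x'}O_{X',x'} (p has discrete fibres,
so there is no dimension condition; the two auxiliary dimension functions are taken to be zero). -/
theorem result
    {k : Type u} [Field k] {k' : Type u} [Field k'] [Algebra k k'] [FiniteDimensional k k'] [Normal k k']
    {X : Scheme.{u}} (f : X ⟶ Spec (CommRingCat.of k)) [LocallyOfFiniteType f] [QuasiCompact f]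
    [IsSeparated f]
    (Z' : AlgebraicCycle (pullback f (Spec.map (CommRingCat.ofHom (algebraMap k k')))) ℤ)
    (hZ' : ∀ (σ : k' ≃ₐ[k] k')
      (t : pullback f (Spec.map (CommRingCat.ofHom (algebraMap k k'))) ⟶
        pullback f (Spec.map (CommRingCat.ofHom (algebraMap k k')))),
      t ≫ pullback.fst f _ = pullback.fst f _ →
      t ≫ pullback.snd f _ = pullback.snd f _ ≫ Spec.map (CommRingCat.ofHom σ.toAlgHom.toRingHom) →
      ∀ x', Z' (t.base x') = Z' x') :
    ∃! Z : AlgebraicCycle X ℤ, ∀ x' : ↥(pullback f (Spec.map (CommRingCat.ofHom (algebraMap k k')))),
      (Field.finInsepDegree k k' : ℤ) * Z' x' =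
        Cyc.pullFun (pullback.fst f (Spec.map (CommRingCat.ofHom (algebraMap k k'))))
          (fun _ => 0) (fun _ => 0) 0 ⇑Z x' := by
  exact GrothLib.CycGal13.existsUnique_descent f Z' hZ'

end Groth.Agent.S13599
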