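import Groth.Statements.S13603
import Mathlib


set_option autoImplicit false
universe u v
open CAlg

namespace Groth.Agent.S13603

/-- Let a group G act on a commutative ring B by ring automorphisms so that every element of B has a
finite orbit, and let S ⊆ B be a multiplicative set of G-fixed elements (so each g ∈ G induces an
endomorphism of the localization S⁻¹B; the hypothesis that g maps S into S is implied by the
previous one and is only carried to name that endomorphism). Then an element of S⁻¹B is fixed by all
of G if and only if it is a fraction b/s with b fixed by G and s ∈ S: the canonical map S⁻¹(B^G) →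
(S⁻¹B)^G is onto. -/
theorem result {B : Type u} [CommRing B]
    {G : Type v} [Group G] [MulSemiringAction G B] (hfin : ∀ b : B, (MulAction.orbit G b).Finite)
    (S : Submonoid B) (hS : ∀ (g : G) (s : B), s ∈ S → g • s = s)
    (hS' : ∀ g : G, S ≤ S.comap (MulSemiringAction.toRingHom G B g)) (x : Localization S) :
    (∀ g : G, IsLocalization.map (Localization S) (MulSemiringAction.toRingHom G B g) (hS' g) x = x) ↔
      ∃ (b : B) (s : S), (∀ g : G, g • b = b) ∧ x = IsLocalization.mk' (Localization S) b s := by
  classical
  constructor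
  · intro hx
    obtain ⟨b, s, rfl⟩ := IsLocalization.exists_mk'_eq S x
    have h1 : ∀ g : G, ∃ t : S, (t : B) * (g • b) = t * b := fun g => by
      have h := hx g
      rw [IsLocalization.map_mk', IsLocalization.mk'_eq_iff_eq] at h
      obtain ⟨t, ht⟩ := (IsLocalization.eq_iff_exists S (Localization S)).1 h
      refine ⟨t * s, ?_⟩
      simp only [MulSemiringAction.toRingHom_apply, hS g s s.2] at ht
      simp only [Submonoid.coe_mul]
      linear_combination ht
    choose t ht using h1
    have h2 : ∀ y ∈ (hfin b).toFinset, ∃ t : S, (t : B) * y = t * b := fun y hy => by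
      obtain ⟨g, rfl⟩ := (hfin b).mem_toFinset.1 hy
      exact ⟨t g, ht g⟩
    choose τ hτ using h2
    let T : S := ∏ y ∈ (hfin b).toFinset.attach, τ y.1 y.2
    refine ⟨(T : B) * b, T * s, fun g => ?_, ?_⟩
    · rw [smul_mul', hS g _ T.2]
      obtain ⟨c, hc⟩ : τ (g • b) ((hfin b).mem_toFinset.2 ⟨g, rfl⟩) ∣ T :=
        Finset.dvd_prod_of_mem (fun y : {y // y ∈ (hfin b).toFinset} => τ y.1 y.2)
          (a := ⟨g • b, (hfin b).mem_toFinset.2 ⟨g, rfl⟩⟩) (Finset.mem_attach _ _)
      have h3 := hτ (g • b) ((hfin b).mem_toFinset.2 ⟨g, rfl⟩)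
      rw [hc, Submonoid.coe_mul]
      linear_combination (c : B) * h3
    · rw [IsLocalization.mk'_eq_iff_eq]
      congr 1
      simp only [Submonoid.coe_mul]
      ring
  · rintro ⟨b, s, hb, rfl⟩ g
    rw [IsLocalization.map_mk']
    congr 1
    · exact hb g
    · exact Subtype.ext (hS g s s.2)

end Groth.Agent.S13603
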