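import Groth.Statements.S13608
import Groth.Agent.Lib.AdicExtra.Complete
-- import your own Groth.Agent.* helpers here

set_option autoImplicit false
universe u v
open CAlg

namespace Groth.Agent.S13608

/-- Let A be a commutative ring, I a finitely generated ideal of A and (M_n) an inverse system of
A-modules with transition maps f_n : M_(n+1) → M_n such that I^(n+1) M_n = 0 for every n. If L is an
inverse limit of the system (projections π_n compatible with the f_n, jointly injective, and such
that every compatible family of elements lifts to L), then L is complete and separated for the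
I-adic topology. No surjectivity of the transition maps is assumed. -/
theorem result
    (A : Type u) [CommRing A] (I : Ideal A) (hI : I.FG)
    (M : ℕ → Type v) [∀ n, AddCommGroup (M n)] [∀ n, Module A (M n)]
    (f : ∀ n, M (n + 1) →ₗ[A] M n)
    (hkill : ∀ n, I ^ (n + 1) • (⊤ : Submodule A (M n)) = ⊥)
    (L : Type v) [AddCommGroup L] [Module A L] (π : ∀ n, L →ₗ[A] M n)
    (hπ : ∀ n, f n ∘ₗ π (n + 1) = π n)
    (hinj : ∀ x : L, (∀ n, π n x = 0) → x = 0)
    (hlift : ∀ y : (∀ n, M n), (∀ n, f n (y (n + 1)) = y n) → ∃ x : L, ∀ n, π n x = y n) :
    IsAdicComplete I L := by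
  exact GrothLib.AdicExtra.isAdicComplete_limit hI f hkill π hπ hinj hlift

end Groth.Agent.S13608
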