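import Groth.Statements.S1361
import Groth.Agent.Lib.ConnOpen6.EtaleCover
-- import your own Groth.Agent.* helpers here

set_option autoImplicit false
universe u
open FlatMor

namespace Groth.Agent.S1361

open AlgebraicGeometry CategoryTheory Limits in
/-- Let f : X → S be flat, locally of finite presentation, with geometrically reduced fibres. Then for
every point x of X there are an étale morphism X' → X whose image contains x, an étale morphism S' →
S and a factorization X' → S' → S of X' → X → S such that X' → S' is a flat morphism of finite
presentation all of whose fibres are geometrically connected and geometrically reduced. -/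
theorem result {X S : Scheme.{u}} (f : X ⟶ S) [Flat f] [LocallyOfFinitePresentation f] [GeometricallyReduced f] (x : X) :
    ∃ (X' S' : Scheme.{u}) (a : X' ⟶ X) (b : X' ⟶ S') (c : S' ⟶ S), Etale a ∧ x ∈ Set.range ⇑a ∧ Etale c ∧ a ≫ f = b ≫ c ∧
      Flat b ∧ LocallyOfFinitePresentation b ∧ QuasiCompact b ∧ QuasiSeparated b ∧ GeometricallyConnected b ∧ GeometricallyReduced b := by
  exact GrothLib.ConnOpen6.exists_cover f x

end Groth.Agent.S1361
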