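import Groth.Statements.S13610
import Groth.Agent.Lib.TrivMod.Special
import Mathlib.Topology.Sober
import Mathlib.Topology.NoetherianSpace

set_option autoImplicit false
set_option linter.style.haveILetI false
set_option backward.isDefEq.respectTransparency.types false
open CategoryTheory CategoryTheory.Limits AlgebraicGeometry Opposite
universe u
open EtModW

namespace Groth.Agent.S13610

/-- On a connected Noetherian scheme X, with Λ a Noetherian coefficient ring, consider an inverse system
(F_n) of sheaves of Λ-modules on the small etale site of X all of whose members are finite-type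
locally constant (etale-locally constant with finitely generated value). Then, for every pair of
geometric points s, s' of X, the two inverse systems of stalks (F_n,s)_n and (F_n,s')_n are
isomorphic as ℕ-indexed systems of Λ-modules. (Existence of an isomorphism of systems only; in the
published statement the isomorphisms are composites of specialization maps and their inverses.) -/
theorem result
    (Λ : Type (u + 1)) [CommRing Λ] [IsNoetherianRing Λ]
    (X : Scheme.{u}) [IsNoetherian X] [ConnectedSpace X]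
    (F : ℕᵒᵖ ⥤ EtModW.Mod Λ X) (hF : ∀ n : ℕ, EtModW.IsFTLocConst Λ (F.obj (op n)))
    {Ω : Type u} [Field Ω] [IsSepClosed Ω] (s : Spec (CommRingCat.of Ω) ⟶ X)
    {Ω' : Type u} [Field Ω'] [IsSepClosed Ω'] (s' : Spec (CommRingCat.of Ω') ⟶ X) :
    Nonempty ((F ⋙ EtModW.stalk Λ s) ≅ (F ⋙ EtModW.stalk Λ s')) := by
  classical
  have hF' : ∀ j : ℕᵒᵖ, ∀ x : X, ∃ (V : X.Etale) (v : V.left), V.hom v = x ∧ ∃ (M : Type (u + 1))
      (_ : AddCommGroup M) (_ : Module Λ M) (m : M →ₗ[Λ] (F.obj j).obj.obj (op V)),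
        GrothLib.TrivMod.IsTriv X.smallEtaleTopology (F.obj j) V m := fun j x => by
    obtain ⟨V, v, hv, M, i₁, i₂, -, m, hm⟩ := GrothLib.TrivEt.exists_triv_of_isFTLocConst (hF j.unop) x
    exact ⟨V, v, hv, M, i₁, i₂, m, hm⟩
  have sp : ∀ {Ω₁ Ω₂ : Type u} [Field Ω₁] [IsSepClosed Ω₁] [Field Ω₂] [IsSepClosed Ω₂]
      (a : Spec (CommRingCat.of Ω₁) ⟶ X) (b : Spec (CommRingCat.of Ω₂) ⟶ X),
      a.base default ⤳ b.base default →
        Nonempty ((F ⋙ EtModW.stalk Λ a) ≅ (F ⋙ EtModW.stalk Λ b)) := fun a b h => by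
    obtain ⟨e⟩ := GrothLib.TrivEt.nonempty_iso_of_specializes b a F hF' h
    exact ⟨e.symm⟩
  let R : X → Prop := fun x => Nonempty ((F ⋙ EtModW.stalk Λ s) ≅ (F ⋙ EtModW.stalk Λ (GrothLib.EtSite.gpt x)))
  have hR : ∀ x y : X, x ⤳ y → (R x ↔ R y) := fun x y h => by
    obtain ⟨e⟩ := sp (GrothLib.EtSite.gpt x) (GrothLib.EtSite.gpt y)
      (by rw [GrothLib.EtSite.gpt_default, GrothLib.EtSite.gpt_default]; exact h)
    exact ⟨fun ⟨e'⟩ => ⟨e' ≪≫ e⟩, fun ⟨e'⟩ => ⟨e' ≪≫ e.symm⟩⟩
  have key : ∀ P : X → Prop, (∀ x y : X, x ⤳ y → (P x ↔ P y)) → IsClosed {x | P x} := fun P hP => by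
    have heq : {x | P x} = ⋃₀ {C ∈ irreducibleComponents ↥X | C ⊆ {x | P x}} := by
      refine Set.Subset.antisymm (fun x hx => ⟨irreducibleComponent x,
        ⟨irreducibleComponent_mem_irreducibleComponents x, fun y hy => ?_⟩, mem_irreducibleComponent⟩)
        (Set.sUnion_subset fun C hC => hC.2)
      have hg := (isIrreducible_irreducibleComponent (x := x)).isGenericPoint_genericPoint
        (isClosed_irreducibleComponent)
      exact (hP _ _ (hg.specializes hy)).1 ((hP _ _ (hg.specializes mem_irreducibleComponent)).2 hx)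
    rw [heq]
    rw [Set.sUnion_eq_biUnion]
    exact Set.Finite.isClosed_biUnion (TopologicalSpace.NoetherianSpace.finite_irreducibleComponents.subset
      (Set.sep_subset _ _)) fun C hC => isClosed_of_mem_irreducibleComponents C hC.1
  have hclo : IsClopen {x | R x} := ⟨key R hR, isClosed_compl_iff.1 (key (fun x => ¬ R x) fun x y h => not_congr (hR x y h))⟩
  have hne : R (s.base default) := sp s (GrothLib.EtSite.gpt _) (by
    rw [GrothLib.EtSite.gpt_default])
  have huniv := hclo.eq_univ ⟨_, hne⟩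
  obtain ⟨e₁⟩ : R (s'.base default) := (Set.ext_iff.1 huniv _).2 trivial
  obtain ⟨e₂⟩ := sp (GrothLib.EtSite.gpt (s'.base default)) s' (by rw [GrothLib.EtSite.gpt_default])
  exact ⟨e₁ ≪≫ e₂⟩

end Groth.Agent.S13610
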