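import Groth.Statements.S13615
import Groth.Agent.Lib.ModConstr.ARLocal

set_option autoImplicit false
set_option linter.style.haveILetI false
set_option backward.isDefEq.respectTransparency.types false
open CategoryTheory CategoryTheory.Limits AlgebraicGeometry Opposite
universe u
open EtModW

namespace Groth.Agent.S13615

/-- Let X be a Noetherian scheme, i : A → X a closed immersion and j : U → X an open immersion whose
images are complementary, Λ a Noetherian ring, I an ideal of Λ and F = (F_n) an inverse system of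
constructible sheaves of Λ-modules on the small etale site of X with I^(n+1) F_n = 0 for all n. Then
F is AR I-adic (receives a morphism with kernel and cokernel null up to translation from an I-adic
system of constructible sheaves) if and only if both restricted systems (j^* F_n)_n on U and (i^*
F_n)_n on A are AR I-adic in the same sense. -/
theorem result
    (Λ : Type (u + 1)) [CommRing Λ] [IsNoetherianRing Λ] (I : Ideal Λ)
    {X A U : Scheme.{u}} [IsNoetherian X] (i : A ⟶ X) [IsClosedImmersion i] (j : U ⟶ X) [IsOpenImmersion j]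
    (hAU : Set.range (fun a => i.base a) = (Set.range (fun t => j.base t))ᶜ)
    (F : ARSys.PS (EtModW.Mod Λ X)) (hc : ∀ n : ℕ, EtModW.IsConstructible Λ (F.obj (op n)))
    (hk : ARSys.TermKilled I F) :
    (ARSys.TermKilled I F ∧ ∃ (Y : ARSys.PS (EtModW.Mod Λ X)) (v : Y ⟶ F), ARSys.IsAdic I Y ∧ (∀ n : ℕ, EtModW.IsConstructible Λ (Y.obj (op n))) ∧ ARSys.IsARIso v) ↔
      ((ARSys.TermKilled I (F ⋙ EtModW.pull Λ j) ∧ ∃ (Y : ARSys.PS (EtModW.Mod Λ U)) (v : Y ⟶ (F ⋙ EtModW.pull Λ j)), ARSys.IsAdic I Y ∧ (∀ n : ℕ, EtModW.IsConstructible Λ (Y.obj (op n))) ∧ ARSys.IsARIso v) ∧ (ARSys.TermKilled I (F ⋙ EtModW.pull Λ i) ∧ ∃ (Y : ARSys.PS (EtModW.Mod Λ A)) (v : Y ⟶ (F ⋙ EtModW.pull Λ i)), ARSys.IsAdic I Y ∧ (∀ n : ℕ, EtModW.IsConstructible Λ (Y.obj (op n))) ∧ ARSys.IsARIso v)) := by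
  have hI := IsNoetherian.noetherian I
  constructor
  · rintro ⟨-, Y, v, hY, hYc, hv⟩
    exact ⟨⟨fun n => GrothLib.ModConstr.killedBy_map (EtModW.pull Λ j) (hk n), Y ⋙ EtModW.pull Λ j,
      Functor.whiskerRight v _, GrothLib.ModConstr.isAdic_map (EtModW.pull Λ j) hI hY,
      fun n => GrothLib.ModConstr.isConstructible_pull j _ (hYc n), GrothLib.ModConstr.arIso_map _ hv⟩,
      ⟨fun n => GrothLib.ModConstr.killedBy_map (EtModW.pull Λ i) (hk n), Y ⋙ EtModW.pull Λ i,
      Functor.whiskerRight v _, GrothLib.ModConstr.isAdic_map (EtModW.pull Λ i) hI hY,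
      fun n => GrothLib.ModConstr.isConstructible_pull i _ (hYc n), GrothLib.ModConstr.arIso_map _ hv⟩⟩
  · intro h
    haveI : WSerre.IsWeakSerre (fun _ : EtModW.Mod Λ X => True) := GrothLib.ModConstr.isWeakSerre_top
    let T : Bool → Scheme.{u} := fun b => match b with | true => U | false => A
    let g : ∀ b, T b ⟶ X := fun b => match b with | true => j | false => i
    have hlift : ∀ (Ω : Type u) [Field Ω] [IsSepClosed Ω] (ξ : Spec (CommRingCat.of Ω) ⟶ X),
        ∃ (b : Bool) (ζ : Spec (CommRingCat.of Ω) ⟶ T b), ζ ≫ g b = ξ := by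
      intro Ω _ _ ξ
      by_cases hx : ξ.base default ∈ Set.range (fun t => j.base t)
      · obtain ⟨t, ht⟩ := hx
        obtain ⟨ζ, hζ, -⟩ := GrothLib.Constructible.exists_point_lift j ξ t ht
        exact ⟨true, ζ, hζ⟩
      · obtain ⟨t, ht⟩ := hAU.ge hx
        obtain ⟨ζ, hζ, -⟩ := GrothLib.Constructible.exists_point_lift i ξ t ht
        exact ⟨false, ζ, hζ⟩
    have hAR : ARSys.IsARAdic I F := GrothLib.ARSys.arAdic_of_family
      (fun b : Bool => EtModW.pull Λ (g b)) hI (fun _ : EtModW.Mod Λ X => True)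
      (fun φ _ _ h => GrothLib.ModConstr.eq_zero_of_pull T g hlift φ h) F hk (fun _ => trivial)
      (fun b => by
        cases b
        · obtain ⟨k, Y, v, hY, -, hv⟩ := h.2
          exact ⟨k, Y, v, hY, hv⟩
        · obtain ⟨k, Y, v, hY, -, hv⟩ := h.1
          exact ⟨k, Y, v, hY, hv⟩)
    obtain ⟨-, Y', v', hY', hv'⟩ := hAR
    exact ⟨hk, Y', v', hY', fun n => GrothLib.ModConstr.constr_of_arIso hv'
      (GrothLib.ARSys.isStrict_of_isAdic hY') hc n, hv'⟩

end Groth.Agent.S13615
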