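import Groth.Statements.S13616
import Groth.Agent.Lib.ModConstr.ARLocal

set_option autoImplicit false
set_option linter.style.haveILetI false
set_option backward.isDefEq.respectTransparency.types false
open CategoryTheory CategoryTheory.Limits AlgebraicGeometry Opposite
universe u
open EtModW

namespace Groth.Agent.S13616

/-- Let X be a Noetherian scheme, (g_i : U_i → X) a finite jointly surjective family of etale morphisms
with every U_i Noetherian (a finite etale covering of X by quasi-compact members), Λ a Noetherian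
ring, I an ideal of Λ and F = (F_n) an inverse system of constructible sheaves of Λ-modules on the
small etale site of X with I^(n+1) F_n = 0 for all n. Then F is AR I-adic (receives a morphism with
kernel and cokernel null up to translation from an I-adic system of constructible sheaves) if and
only if each pulled-back system (g_i^* F_n)_n on U_i is AR I-adic in the same sense. (The members of
the covering are taken Noetherian, the setting in which the criterion used by the argument applies.) -/
theorem result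
    (Λ : Type (u + 1)) [CommRing Λ] [IsNoetherianRing Λ] (I : Ideal Λ)
    {X : Scheme.{u}} [IsNoetherian X] {m : ℕ} (U : Fin m → Scheme.{u}) [∀ i, IsNoetherian (U i)]
    (g : ∀ i, U i ⟶ X) [∀ i, Etale (g i)]
    (hsurj : (⋃ i, Set.range (fun t => (g i).base t)) = Set.univ)
    (F : ARSys.PS (EtModW.Mod Λ X)) (hc : ∀ n : ℕ, EtModW.IsConstructible Λ (F.obj (op n)))
    (hk : ARSys.TermKilled I F) :
    (ARSys.TermKilled I F ∧ ∃ (Y : ARSys.PS (EtModW.Mod Λ X)) (v : Y ⟶ F), ARSys.IsAdic I Y ∧ (∀ n : ℕ, EtModW.IsConstructible Λ (Y.obj (op n))) ∧ ARSys.IsARIso v) ↔ ∀ i : Fin m, (ARSys.TermKilled I (F ⋙ EtModW.pull Λ (g i)) ∧ ∃ (Y : ARSys.PS (EtModW.Mod Λ (U i))) (v : Y ⟶ (F ⋙ EtModW.pull Λ (g i))), ARSys.IsAdic I Y ∧ (∀ n : ℕ, EtModW.IsConstructible Λ (Y.obj (op n))) ∧ ARSys.IsARIso v) := by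
  have hI := IsNoetherian.noetherian I
  constructor
  · rintro ⟨-, Y, v, hY, hYc, hv⟩ i
    exact ⟨fun n => GrothLib.ModConstr.killedBy_map (EtModW.pull Λ (g i)) (hk n), Y ⋙ EtModW.pull Λ (g i),
      Functor.whiskerRight v _, GrothLib.ModConstr.isAdic_map (EtModW.pull Λ (g i)) hI hY,
      fun n => GrothLib.ModConstr.isConstructible_pull (g i) _ (hYc n), GrothLib.ModConstr.arIso_map _ hv⟩
  · intro h
    haveI : WSerre.IsWeakSerre (fun _ : EtModW.Mod Λ X => True) := GrothLib.ModConstr.isWeakSerre_top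
    have hlift : ∀ (Ω : Type u) [Field Ω] [IsSepClosed Ω] (ξ : Spec (CommRingCat.of Ω) ⟶ X),
        ∃ (i : Fin m) (ζ : Spec (CommRingCat.of Ω) ⟶ U i), ζ ≫ g i = ξ := by
      intro Ω _ _ ξ
      obtain ⟨i, t, ht⟩ := Set.mem_iUnion.1 (hsurj.ge (Set.mem_univ (ξ.base default)))
      obtain ⟨z, -⟩ := GrothLib.EtSite.exists_fib ξ (U := MorphismProperty.Over.mk _ (g i) (inferInstanceAs (Etale (g i)))) t ht
      exact ⟨i, z.left, Over.w z⟩
    have hAR : ARSys.IsARAdic I F := GrothLib.ARSys.arAdic_of_family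
      (fun i : Fin m => EtModW.pull Λ (g i)) hI (fun _ : EtModW.Mod Λ X => True)
      (fun φ _ _ h => GrothLib.ModConstr.eq_zero_of_pull U g hlift φ h) F hk (fun _ => trivial)
      (fun i => by
        obtain ⟨k, Y, v, hY, -, hv⟩ := h i
        exact ⟨k, Y, v, hY, hv⟩)
    obtain ⟨-, Y', v', hY', hv'⟩ := hAR
    exact ⟨hk, Y', v', hY', fun n => GrothLib.ModConstr.constr_of_arIso hv'
      (GrothLib.ARSys.isStrict_of_isAdic hY') hc n, hv'⟩

end Groth.Agent.S13616
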