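import Groth.Statements.S13617
import Groth.Agent.Lib.ModConstr.ARLocal

set_option autoImplicit false
set_option linter.style.haveILetI false
set_option backward.isDefEq.respectTransparency.types false
open CategoryTheory CategoryTheory.Limits AlgebraicGeometry Opposite
universe u
open EtModW

namespace Groth.Agent.S13617

/-- Let X be a connected Noetherian scheme, Λ a Noetherian ring, I an ideal of Λ and F = (F_n) an
inverse system of sheaves of Λ-modules on the small etale site of X with every F_n constructible and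
locally constant of finite type and with I^(n+1) F_n = 0 for all n. Then F is AR I-adic (receives a
morphism with kernel and cokernel null up to translation from an I-adic system of constructible
sheaves) if and only if there is at least one geometric point s of X whose stalk system (F_n,s)_n is
an AR I-adic system of Λ-modules (termwise killed by I^(n+1) and receiving a morphism with null
kernel and cokernel from an I-adic system of finitely generated Λ-modules). -/
theorem result
    (Λ : Type (u + 1)) [CommRing Λ] [IsNoetherianRing Λ] (I : Ideal Λ)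
    {X : Scheme.{u}} [IsNoetherian X] [ConnectedSpace X]
    (F : ARSys.PS (EtModW.Mod Λ X)) (hc : ∀ n : ℕ, EtModW.IsConstructible Λ (F.obj (op n)))
    (hl : ∀ n : ℕ, EtModW.IsFTLocConst Λ (F.obj (op n))) (hk : ARSys.TermKilled I F) :
    (ARSys.TermKilled I F ∧ ∃ (Y : ARSys.PS (EtModW.Mod Λ X)) (v : Y ⟶ F), ARSys.IsAdic I Y ∧ (∀ n : ℕ, EtModW.IsConstructible Λ (Y.obj (op n))) ∧ ARSys.IsARIso v) ↔
      ∃ (Ω : Type u) (_ : Field Ω) (_ : IsSepClosed Ω) (s : Spec (CommRingCat.of Ω) ⟶ X),
        (ARSys.TermKilled I (F ⋙ EtModW.stalk Λ s) ∧ ∃ (Y : ARSys.PS (ModuleCat.{u + 1} Λ)) (v : Y ⟶ F ⋙ EtModW.stalk Λ s), ARSys.IsAdic I Y ∧ (∀ n : ℕ, Module.Finite Λ (Y.obj (op n))) ∧ ARSys.IsARIso v) := by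
  have hI := IsNoetherian.noetherian I
  constructor
  · rintro ⟨-, Y, v, hY, hYc, hv⟩
    obtain ⟨x⟩ := (inferInstance : Nonempty X)
    refine ⟨_, inferInstance, inferInstance, GrothLib.EtSite.gpt x,
      fun n => GrothLib.ModConstr.killedBy_map (EtModW.stalk Λ _) (hk n), Y ⋙ EtModW.stalk Λ (GrothLib.EtSite.gpt x),
      Functor.whiskerRight v _, GrothLib.ModConstr.isAdic_map (EtModW.stalk Λ _) hI hY,
      fun n => GrothLib.ModConstr.finite_stalk _ (hYc n) _, GrothLib.ModConstr.arIso_map _ hv⟩
  · rintro ⟨Ω, _, _, s, -, Y, v, hY, -, hv⟩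
    haveI : WSerre.IsWeakSerre (fun G : EtModW.Mod Λ X => EtModW.IsFTLocConst Λ G) :=
      GrothLib.ModConstr.isWeakSerre_flc
    have hAR : ARSys.IsARAdic I F := GrothLib.ARSys.arAdic_of_family (ι := PUnit.{1})
      (fun _ => EtModW.stalk Λ s) hI (fun G : EtModW.Mod Λ X => EtModW.IsFTLocConst Λ G)
      (fun φ h₁ h₂ h => GrothLib.ModConstr.eq_zero_of_stalk s h₁ h₂ φ (h PUnit.unit)) F hk hl
      (fun _ => ⟨fun n => GrothLib.ModConstr.killedBy_map (EtModW.stalk Λ _) (hk n), Y, v, hY, hv⟩)
    obtain ⟨-, Y', v', hY', hv'⟩ := hAR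
    exact ⟨hk, Y', v', hY', fun n => GrothLib.ModConstr.constr_of_arIso hv'
      (GrothLib.ARSys.isStrict_of_isAdic hY') hc n, hv'⟩

end Groth.Agent.S13617
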