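import Groth.Statements.S13620
import Groth.Agent.Lib.ModConstr.Adic
import Groth.Agent.Lib.ProEtS.AdicModule
import Groth.Agent.Lib.ProEtS.AdicP

set_option autoImplicit false
set_option linter.style.haveILetI false
set_option backward.isDefEq.respectTransparency.types false
open CategoryTheory CategoryTheory.Limits AlgebraicGeometry Opposite
universe u
open EtModW

namespace Groth.Agent.S13620

/-- For a Noetherian scheme X, a Noetherian coefficient ring Λ and an ideal I of Λ, let F = (F_n) be an
inverse system of sheaves of Λ-modules on the small etale site of X which is AR I-adic (I^(n+1) F_n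
= 0 for all n, and F receives a morphism with kernel and cokernel null up to translation from an
I-adic system of constructible sheaves). Then F is null up to translation if and only if for every
geometric point x of X the limit of the stalk system, lim_n F_n,x, is the zero module. (The
published lemma assumes Λ I-adically complete, which only its first assertion uses; this row states
the second assertion without it.) -/
theorem result
    (Λ : Type (u + 1)) [CommRing Λ] [IsNoetherianRing Λ] (I : Ideal Λ)
    {X : Scheme.{u}} [IsNoetherian X]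
    (F : ARSys.PS (EtModW.Mod Λ X))
    (hF : (ARSys.TermKilled I F ∧ ∃ (Y : ARSys.PS (EtModW.Mod Λ X)) (v : Y ⟶ F), ARSys.IsAdic I Y ∧ (∀ n : ℕ, EtModW.IsConstructible Λ (Y.obj (op n))) ∧ ARSys.IsARIso v)) :
    ARSys.IsARNull F ↔
      ∀ (Ω : Type u) [Field Ω] [IsSepClosed Ω] (x : Spec (CommRingCat.of Ω) ⟶ X),
        IsZero (limit (F ⋙ EtModW.stalk Λ x)) := by
  obtain ⟨-, Y, v, hY, -, hv⟩ := hF
  have hI := IsNoetherian.noetherian I
  constructor
  · intro h Ω _ _ x
    have hYs : ARSys.IsAdic I (Y ⋙ EtModW.stalk Λ x) := GrothLib.ModConstr.isAdic_map (EtModW.stalk Λ x) hI hY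
    haveI := GrothLib.AdicP.isIso_limMap_of_arIso (GrothLib.ModConstr.arIso_map (EtModW.stalk Λ x) hv)
    refine IsZero.of_iso ?_ (asIso (limMap (Functor.whiskerRight v (EtModW.stalk Λ x)))).symm
    have hZ : ∀ n : ℕ, IsZero (Y.obj (op n)) := GrothLib.ARSys.isZero_of_strict_of_null
      (fun n m h => GrothLib.ARSys.IsQuot.epi (hY.2 n m h)) (GrothLib.ARSys.null_of_arIso_right hv h)
    rw [IsZero.iff_id_eq_zero]
    refine limit.hom_ext fun n => ?_
    exact (Functor.map_isZero (EtModW.stalk Λ x) (hZ n.unop)).eq_of_tgt _ _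
  · intro h
    refine GrothLib.ARSys.null_of_arIso_left hv ⟨0, fun n => ?_⟩
    refine GrothLib.ModConstr.zero_of_stalks _ fun Ω _ _ x => ?_
    have hYs : ARSys.IsAdic I (Y ⋙ EtModW.stalk Λ x) := GrothLib.ModConstr.isAdic_map (EtModW.stalk Λ x) hI hY
    haveI := GrothLib.AdicP.isIso_limMap_of_arIso (GrothLib.ModConstr.arIso_map (EtModW.stalk Λ x) hv)
    have hz : IsZero (limit (Y ⋙ EtModW.stalk Λ x)) :=
      (h Ω x).of_iso (asIso (limMap (Functor.whiskerRight v (EtModW.stalk Λ x))))
    haveI := GrothLib.ARSys.IsQuot.epi (GrothLib.AdicModule.isQuot_π hI hYs (limit.isLimit _) n)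
    exact (IsZero.of_epi ((limit.cone (Y ⋙ EtModW.stalk Λ x)).π.app (op n)) hz).eq_of_tgt _ _

end Groth.Agent.S13620
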