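import Groth.Statements.S13621
import Groth.Agent.Lib.ARSys.Basic

set_option autoImplicit false
open CategoryTheory CategoryTheory.Limits Opposite
universe v u
open ARSys

namespace Groth.Agent.S13621

open GrothLib.ARSys

/-- The inverse limit is a well-defined functor on projective systems up to translation. Concretely: in
an abelian category with limits of shape ℕᵒᵖ, a morphism u : X ⟶ Y of projective systems indexed by
the natural numbers whose kernel and cokernel are null up to translation induces an isomorphism lim
X ⟶ lim Y. (The published statement is the functoriality of lim on the category of systems up to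
translation; combined with the description of isomorphisms there as the morphisms with null kernel
and cokernel, this is the form stated.) -/
theorem result {C : Type u} [Category.{v} C] [Abelian C] [HasLimitsOfShape ℕᵒᵖ C]
    {X Y : ARSys.PS C} (u : X ⟶ Y) (hu : ARSys.IsARIso u) : IsIso (limMap u) := by
  obtain ⟨i⟩ := exists_arInv hu
  let s : Cone X :=
    { pt := limit Y
      π :=
        { app := fun n => limit.π Y (op (n.unop + i.r)) ≫ i.v le_rfl
          naturality := fun a b φ => by
            obtain ⟨a⟩ := a
            obtain ⟨b⟩ := b
            have h : b ≤ a := leOfHom φ.unop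
            show 𝟙 _ ≫ limit.π Y (op (b + i.r)) ≫ i.v le_rfl =
              (limit.π Y (op (a + i.r)) ≫ i.v le_rfl) ≫ tr X h
            rw [Category.id_comp, Category.assoc, i.v_tr, ← limit.w Y (homOfLE (Nat.add_le_add_right h i.r)).op,
              Category.assoc]
            congr 1
            exact i.tr_v le_rfl _ } }
  refine ⟨limit.lift X s, limit.hom_ext fun n => ?_, limit.hom_ext fun n => ?_⟩
  · obtain ⟨n⟩ := n
    rw [Category.assoc, limit.lift_π, Category.id_comp]
    show limMap u ≫ limit.π Y (op (n + i.r)) ≫ i.v le_rfl = _
    rw [limMap_π_assoc, i.u_v]
    exact limit.w X _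
  · obtain ⟨n⟩ := n
    rw [Category.assoc, limMap_π, limit.lift_π_assoc, Category.id_comp]
    show (limit.π Y (op (n + i.r)) ≫ i.v le_rfl) ≫ _ = _
    rw [Category.assoc, i.v_u]
    exact limit.w Y _

end Groth.Agent.S13621
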