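import Groth.Statements.S13622
import Groth.Agent.Lib.AdicExtra.Complete
import Mathlib.RingTheory.AdicCompletion.LocalRing
-- import your own Groth.Agent.* helpers here

set_option autoImplicit false
universe u v
open CAlg

namespace Groth.Agent.S13622

/-- Let A be a commutative ring, I a finitely generated ideal and (M_n) an inverse system of finitely
generated A-modules whose transition maps f_n : M_(n+1) → M_n are surjective with kernel I^(n+1)
M_(n+1), and with I^(n+1) M_n = 0 for all n. If L is an inverse limit of the system (projections π_n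
compatible with the f_n, jointly injective, every compatible family lifting to L), endowed with a
module structure over the I-adic completion A^ of A that is compatible with its A-module structure,
then L is finitely generated as an A^-module. No completeness of A is assumed. -/
theorem result
    (A : Type u) [CommRing A] (I : Ideal A) (hI : I.FG)
    (M : ℕ → Type v) [∀ n, AddCommGroup (M n)] [∀ n, Module A (M n)] [∀ n, Module.Finite A (M n)]
    (f : ∀ n, M (n + 1) →ₗ[A] M n) (hf : ∀ n, Function.Surjective (f n))
    (hker : ∀ n, LinearMap.ker (f n) = I ^ (n + 1) • (⊤ : Submodule A (M (n + 1))))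
    (hkill : ∀ n, I ^ (n + 1) • (⊤ : Submodule A (M n)) = ⊥)
    (L : Type v) [AddCommGroup L] [Module A L] (π : ∀ n, L →ₗ[A] M n)
    (hπ : ∀ n, f n ∘ₗ π (n + 1) = π n)
    (hinj : ∀ x : L, (∀ n, π n x = 0) → x = 0)
    (hlift : ∀ y : (∀ n, M n), (∀ n, f n (y (n + 1)) = y n) → ∃ x : L, ∀ n, π n x = y n)
    [Module (AdicCompletion I A) L] [IsScalarTower A (AdicCompletion I A) L] :
    Module.Finite (AdicCompletion I A) L := by
  classical
  have h : GrothLib.AdicLim.IsLimitSystem I f π := ⟨hf, hker, hπ, hinj, hlift⟩
  set B := AdicCompletion I A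
  set J := I.map (algebraMap A B)
  have : IsAdicComplete J B := AdicCompletion.isAdicComplete_self I hI
  have := h.isHausdorff
  have : IsHausdorff J L := IsHausdorff.map_algebraMap_iff.2 this
  refine GrothLib.AdicExtra.finite_of_quotient_finite (I := J) ?_
  have h0 : LinearMap.ker (π 0) = (I • ⊤ : Submodule A L) := by simpa using h.ker_eq_of_fg hI 0
  have hle : (I • ⊤ : Submodule A L) ≤ (J • ⊤ : Submodule B L).restrictScalars A := by
    rw [Submodule.smul_le]
    intro a ha x _
    rw [Submodule.restrictScalars_mem, ← algebraMap_smul B a x]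
    exact Submodule.smul_mem_smul (Ideal.mem_map_of_mem _ ha) trivial
  have e := LinearMap.quotKerEquivOfSurjective (π 0) (h.proj_surjective 0)
  have : Module.Finite A (L ⧸ (I • ⊤ : Submodule A L)) := by
    rw [← h0]; exact Module.Finite.equiv e.symm
  have hs : Function.Surjective ((I • ⊤ : Submodule A L).liftQ
      ((Submodule.mkQ (J • ⊤ : Submodule B L)).restrictScalars A)
      (fun x hx => (Submodule.Quotient.mk_eq_zero _).2 (hle hx))) := by
    intro y
    obtain ⟨x, rfl⟩ := Submodule.mkQ_surjective _ y
    exact ⟨Submodule.Quotient.mk x, rfl⟩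
  have : Module.Finite A (L ⧸ (J • ⊤ : Submodule B L)) := Module.Finite.of_surjective _ hs
  exact Module.Finite.of_restrictScalars_finite A B _

end Groth.Agent.S13622
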