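import Groth.Statements.S13623
import Mathlib
-- import your own Groth.Agent.* helpers here

set_option autoImplicit false
universe u
open TensorProduct
open CAlg

namespace Groth.Agent.S13623

theorem ff_closure (K : Type u) [Field K] : Module.FaithfullyFlat K (AlgebraicClosure K) := inferInstance

/-- Let A be a commutative ring and B a commutative A-algebra, graded by A-submodules B_m (m ≥ 0)
forming a graded-algebra structure, such that every B_m is a finitely generated A-module. If for
every algebraically closed field k and every A-algebra structure on k the k-algebra k ⊗_A B is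
generated by the image of B_1 under b ↦ 1 ⊗ b, then its degree-one part B_1 generates the A-algebra
B. (Algebraically closed fields are taken in the universe of A.) -/
theorem result
    (A : Type u) [CommRing A] (B : Type u) [CommRing B] [Algebra A B]
    (𝒜 : ℕ → Submodule A B) [GradedAlgebra 𝒜]
    (hfin : ∀ m : ℕ, Module.Finite A (𝒜 m))
    (hgen : ∀ (k : Type u) [Field k] [IsAlgClosed k] [Algebra A k],
      Algebra.adjoin k ((Algebra.TensorProduct.includeRight : B →ₐ[A] k ⊗[A] B) '' (𝒜 1 : Set B)) = ⊤) :
    Algebra.adjoin A (𝒜 1 : Set B) = ⊤ := by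
  classical
  set S := Algebra.adjoin A (𝒜 1 : Set B) with hS
  let π : ℕ → B →ₗ[A] B := fun m => GradedAlgebra.proj 𝒜 m
  have hhom : ∀ x ∈ S, ∀ m, π m x ∈ S := by
    intro x hx m
    rw [← Subalgebra.mem_toSubmodule, hS, Algebra.adjoin_eq_span] at hx
    induction hx using Submodule.span_induction with
    | mem x hx =>
      have hxS : x ∈ S := (Submonoid.closure_le (S := S.toSubsemiring.toSubmonoid)).mpr Algebra.subset_adjoin hx
      obtain ⟨n, hn⟩ : ∃ n, x ∈ 𝒜 n := by
        induction hx using Submonoid.closure_induction with
        | mem x hx => exact ⟨1, hx⟩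
        | one => exact ⟨0, SetLike.GradedOne.one_mem⟩
        | mul a b ha' hb' ha hb =>
          obtain ⟨i, hi⟩ := ha ((Submonoid.closure_le (S := S.toSubsemiring.toSubmonoid)).mpr Algebra.subset_adjoin ha')
          obtain ⟨j, hj⟩ := hb ((Submonoid.closure_le (S := S.toSubsemiring.toSubmonoid)).mpr Algebra.subset_adjoin hb')
          exact ⟨i + j, SetLike.GradedMul.mul_mem hi hj⟩
      rcases eq_or_ne n m with rfl | h
      · rw [show π n x = x from DirectSum.decompose_of_mem_same 𝒜 hn]; exact hxS
      · rw [show π m x = 0 from DirectSum.decompose_of_mem_ne 𝒜 hn h]; exact S.zero_mem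
    | zero => rw [map_zero]; exact S.zero_mem
    | add a b _ _ ha hb => rw [map_add]; exact S.add_mem ha hb
    | smul r a _ ha => rw [map_smul]; exact S.smul_mem ha r
  have key : ∀ m, ∀ x ∈ 𝒜 m, x ∈ S := by
    intro m x hx
    let N : Submodule A (𝒜 m) := (Subalgebra.toSubmodule S).comap (𝒜 m).subtype
    let Q := (𝒜 m) ⧸ N
    let C := B ⧸ Subalgebra.toSubmodule S
    let i : Q →ₗ[A] C := Submodule.mapQ N _ (𝒜 m).subtype le_rfl
    let r : C →ₗ[A] Q := Submodule.mapQ (Subalgebra.toSubmodule S) N
      ((π m).codRestrict (𝒜 m) (fun b => (DirectSum.decompose 𝒜 b m).2))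
      (fun b hb => hhom b hb m)
    have hri : r ∘ₗ i = LinearMap.id := by
      apply Submodule.linearMap_qext
      ext ⟨y, hy⟩
      show (Submodule.Quotient.mk _ : Q) = Submodule.Quotient.mk _
      congr 1
      exact Subtype.ext (DirectSum.decompose_of_mem_same 𝒜 hy)
    haveI : Module.Finite A (𝒜 m) := hfin m
    haveI : Module.Finite A Q := inferInstance
    have hQ : Subsingleton Q := by
      rw [← Module.support_eq_empty_iff (R := A)]
      ext p
      simp only [Set.mem_empty_iff_false, iff_false]
      rw [Module.mem_support_iff_nontrivial_residueField_tensorProduct, not_nontrivial_iff_subsingleton]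
      let K := p.asIdeal.ResidueField
      let k := AlgebraicClosure K
      have hC : Subsingleton (k ⊗[A] C) := by
        have hex := lTensor_exact k (LinearMap.exact_subtype_mkQ (Subalgebra.toSubmodule S))
          (Submodule.mkQ_surjective _)
        have hs := LinearMap.lTensor_surjective k (Submodule.mkQ_surjective (Subalgebra.toSubmodule S))
        have hsur : Function.Surjective ((Subalgebra.toSubmodule S).subtype.lTensor k) := by
          intro z
          have hle : (Algebra.adjoin k ((Algebra.TensorProduct.includeRight : B →ₐ[A] k ⊗[A] B) '' (𝒜 1 : Set B))) ≤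
              (Algebra.TensorProduct.map (AlgHom.id k k) S.val).range := by
            rw [Algebra.adjoin_le_iff]
            rintro _ ⟨b, hb, rfl⟩
            exact ⟨(1 : k) ⊗ₜ ⟨b, Algebra.subset_adjoin hb⟩, rfl⟩
          rw [hgen k] at hle
          obtain ⟨w, hw⟩ := hle (Algebra.mem_top (R := k) (x := z))
          refine ⟨w, ?_⟩
          rw [← hw]
          clear hw
          induction w using TensorProduct.induction_on with
          | zero => simp
          | add a b ha hb => simp only [map_add, ha, hb]
          | tmul a b => rfl
        refine ⟨fun a b => ?_⟩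
        obtain ⟨a, rfl⟩ := hs a
        obtain ⟨b, rfl⟩ := hs b
        obtain ⟨a', rfl⟩ := hsur a
        obtain ⟨b', rfl⟩ := hsur b
        rw [hex.apply_apply_eq_zero, hex.apply_apply_eq_zero]
      have hkQ : Subsingleton (k ⊗[A] Q) := by
        refine Function.Injective.subsingleton (f := i.lTensor k) (Function.LeftInverse.injective (g := r.lTensor k) ?_)
        intro z
        rw [← LinearMap.lTensor_comp_apply, hri, LinearMap.lTensor_id, LinearMap.id_apply]
      haveI : Subsingleton (k ⊗[K] (K ⊗[A] Q)) :=
        (TensorProduct.AlgebraTensorModule.cancelBaseChange A K K k Q).injective.subsingleton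
      haveI : Module.FaithfullyFlat K k := ff_closure K
      exact Module.FaithfullyFlat.lTensor_reflects_triviality K k (K ⊗[A] Q)
    exact (Submodule.Quotient.mk_eq_zero N).mp (Subsingleton.elim (Submodule.Quotient.mk (⟨x, hx⟩ : 𝒜 m)) 0)
  rw [eq_top_iff]
  intro b _
  rw [← DirectSum.sum_support_decompose 𝒜 b]
  exact Subalgebra.sum_mem _ fun i _ => key i _ (DirectSum.decompose 𝒜 b i).2

end Groth.Agent.S13623
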