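import Groth.Statements.S13624
import Groth.Agent.Lib.CurveStk.Gor

set_option autoImplicit false
universe u
open CategoryTheory CategoryTheory.Limits AlgebraicGeometry Opposite
open Goren

namespace Groth.Agent.S13624

set_option backward.isDefEq.respectTransparency false


/-- Let f : X → Y be a proper, flat morphism of schemes which is locally of finite presentation. Then
the set of points y of Y whose scheme-theoretic fibre X_y = X ×_Y Spec κ(y) is a Gorenstein scheme
(every local ring of X_y is a Gorenstein local ring) is open in Y. -/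
theorem result (X Y : Scheme.{u}) (f : X ⟶ Y)
    [IsProper f] [Flat f] [LocallyOfFinitePresentation f] :
    IsOpen {y : Y | ∀ x : ↥(f.fiber y), LocCoh.IsGorensteinLocalRing ((f.fiber y).presheaf.stalk x)} := by
  have hbad : IsClosed (f '' {x : X | ¬ Dual3.IsGorensteinAt f x}) :=
    f.isClosedMap _ (GrothLib.CurveStk.isOpen_gorAt f).isClosed_compl
  have e : {y : Y | ∀ x : ↥(f.fiber y), LocCoh.IsGorensteinLocalRing ((f.fiber y).presheaf.stalk x)} =
      (f '' {x : X | ¬ Dual3.IsGorensteinAt f x})ᶜ := by
    ext y
    constructor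
    · rintro h ⟨x, hx, rfl⟩
      exact hx ⟨Flat.stalkMap f x, h (f.asFiber x)⟩
    · intro h w
      by_contra hw
      refine h ⟨f.fiberι y w, fun hg => hw ?_, (f.range_fiberι y).le ⟨w, rfl⟩⟩
      obtain ⟨-, hg⟩ := (GrothLib.GorMor23.isGorensteinAt_iff f _).1 hg
      exact (GrothLib.GorMor23.gor_fiber_stalk_iff f y w _ rfl).2 hg
  rw [e]
  exact hbad.isOpen_compl

end Groth.Agent.S13624
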