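import Groth.Statements.S13626
import Groth.Agent.S0462
import Groth.Agent.S0927
import Groth.Agent.S11319
import Groth.Agent.Lib.Euler.Coh
import Groth.Agent.Lib.LocFreeHom.Lift

set_option autoImplicit false
universe u
open CategoryTheory CategoryTheory.Limits AlgebraicGeometry
open Coh

namespace Groth.Agent.S13626

/-- Let f : X → Y be a morphism of schemes with R^i f_* O_X = 0 for every i ≥ 1 and f_* O_X ≅ O_Y. Then
for every invertible O_Y-module L and every p ≥ 0 the groups H^p(X, f^* L) and H^p(Y, L) are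
isomorphic (existence of a group isomorphism; the higher direct images are the right derived
functors of f_* on O_X-modules, under the instance argument recording that O_X-modules have
injective resolutions). -/
theorem result
    {X Y : Scheme.{u}} (f : X ⟶ Y) [HasInjectiveResolutions X.Modules]
    (hR : ∀ i : ℕ, IsZero ((Coh.Rpush f (i + 1)).obj (Coh.structureModule X)))
    (h0 : Nonempty ((Coh.push f).obj (Coh.structureModule X) ≅ Coh.structureModule Y))
    (L : Y.Modules) (hL : PicF.IsInvertible L) (p : ℕ) :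
    Nonempty (Coh.HH X ((Scheme.Modules.pullback f).obj L) p ≃+ Coh.HH Y L p) := by
  have hfl : FlatMod.IsFinLocFree L := GrothLib.Euler.isFinLocFree_of_isInvertible hL
  let M := (Scheme.Modules.pullback f).obj L
  let u : CohB1.tensorMod M (Coh.structureModule X) ≅ M := GrothLib.LocFreeHom.tensorUnitRight M
  have hz : ∀ i, IsZero ((Coh.Rpush f (i + 1)).obj M) := fun i => by
    obtain ⟨e⟩ := Groth.Agent.S0927.result f (Coh.structureModule X) L hfl (i + 1)
    refine (IsZero.of_iso ?_ e.symm).of_iso ((Coh.Rpush f (i + 1)).mapIso u.symm)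
    exact Functor.map_isZero ((DCoh.tensorBi (X := Y)).obj L) (hR i)
  have hab : ∀ q, IsZero ((CohTop.Rpush f.base (q + 1)).obj (Coh.toAb M)) := fun q => by
    obtain ⟨e⟩ := Groth.Agent.S11319.result f M (q + 1)
    exact ((SheafOfModules.toSheaf Y.ringCatSheaf).map_isZero (hz q)).of_iso e.symm
  obtain ⟨eH⟩ := Groth.Agent.S0462.result f.base (Coh.toAb M) hab p
  obtain ⟨e0⟩ := h0
  obtain ⟨e1⟩ := Groth.Agent.S0927.result f (Coh.structureModule X) L hfl 0
  let z := (Scheme.Modules.pushforward f).rightDerivedZeroIsoSelf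
  let eL : (Coh.push f).obj M ≅ L :=
    z.symm.app M ≪≫ (Coh.Rpush f 0).mapIso u.symm ≪≫ e1.symm ≪≫
      ((DCoh.tensorBi (X := Y)).obj L).mapIso (z.app _ ≪≫ e0) ≪≫ GrothLib.LocFreeHom.tensorUnitRight L
  exact ⟨eH.trans (((Sheaf.functorH _ p).mapIso
    ((SheafOfModules.toSheaf Y.ringCatSheaf).mapIso eL)).addCommGroupIsoToAddEquiv)⟩

end Groth.Agent.S13626
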