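import Groth.Statements.S13629
import Groth.Agent.Lib.EulerConst10.Main
import Groth.Agent.Lib.BCCrit.DimBound
import Groth.Agent.Lib.Seesaw26.LocalGood
import Groth.Agent.Lib.LocFree8.Basic
import Groth.Agent.Lib.HodgeIndex.Real
import Groth.Agent.Lib.Seesaw26.Criterion
import Groth.Agent.Lib.GrTilde.Mul

set_option autoImplicit false
set_option linter.all false
set_option backward.isDefEq.respectTransparency false
universe u
open CategoryTheory CategoryTheory.Limits AlgebraicGeometry Opposite
open FGA

namespace Groth.Agent.S13629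

open GrothLib in
/-- On a fibre of dimension at most two the truncated Euler characteristic is the Euler characteristic. -/
theorem eulerCharLE_fibre {X Y : Scheme.{u}} (f : X ⟶ Y) [IsProper f] {G : X.Modules} [Coh.IsQCoh G] (y : Y)
    (hd : topologicalKrullDim ↥(f.fiber y) ≤ 2) {E : (f.fiber y).Modules}
    (e : E ≅ (Scheme.Modules.pullback (f.fiberι y)).obj G) :
    @FGA.eulerCharLE ↥(Y.residueField y) _ (f.fiber y) ⟨f.fiberToSpecResidueField y⟩ E 2 =
      EulerConst10.fibEuler f G y := by
  letI : (f.fiber y).Over (Spec (CommRingCat.of (Y.residueField y))) := ⟨f.fiberToSpecResidueField y⟩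
  have h : ∀ i, 3 ≤ i → Subsingleton (Coh.HH (f.fiber y) E i) := fun i hi =>
    haveI : Subsingleton (Coh.HH (f.fiber y) ((Scheme.Modules.pullback (f.fiberι y)).obj G) i) :=
      BCCrit.subsingleton_fiberH_of_dim_lt (f := f) (F := G) y 2 i hd (by omega)
    (Euler.hhEquiv (A := ↥(Y.residueField y)) e i).toEquiv.subsingleton
  show _ = Curv2.euler (Y.residueField y) (f.fiber y) ((Scheme.Modules.pullback (f.fiberι y)).obj G)
  rw [← Euler.euler_of_iso _ e, Euler.euler_eq_sum _ E (N := 3) h]
  rfl

/-- Let f : X → Y be a proper, flat morphism of schemes, locally of finite presentation, whose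
scheme-theoretic fibres X_y all have Krull dimension at most 2, and let L be an invertible
O_X-module with a tensor inverse M (M ⊗ L ≅ O_X). Then the self-intersection number (L_y · L_y) of
the restriction of L to the fibre X_y over κ(y), namely the alternating sum χ(O_{X_y}) − 2χ(M_y) +
χ(M_y ⊗ M_y) of Euler characteristics in degrees ≤ 2, is a locally constant function of y: every
point y₀ of Y has an open neighbourhood on which it equals its value at y₀. (The published statement
is the case where the fibres are integral normal Gorenstein surfaces and L is the relative dualizing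
sheaf, so that the number is the self-intersection K² of the canonical class of the fibre; the fibre
X_y is regarded as a scheme over Spec κ(y) through the second projection.) -/
theorem result
    {X Y : Scheme.{u}} (f : X ⟶ Y) [IsProper f] [Flat f] [LocallyOfFinitePresentation f]
    (hdim : ∀ y : Y, topologicalKrullDim ↥(f.fiber y) ≤ 2)
    (L M : X.Modules) (hL : PicF.IsInvertible L) (hM : ClSub.IsInverseOf M L) (y₀ : Y) :
    ∃ U : Y.Opens, y₀ ∈ U ∧ ∀ y : Y, y ∈ U →
      @FGA.intNum ↥(Y.residueField y) _ (f.fiber y) ⟨f.fiberToSpecResidueField y⟩ 2 2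
            ![(Scheme.Modules.pullback (f.fiberι y)).obj M, (Scheme.Modules.pullback (f.fiberι y)).obj M]
            (Coh.structureModule (f.fiber y)) =
        @FGA.intNum ↥(Y.residueField y₀) _ (f.fiber y₀) ⟨f.fiberToSpecResidueField y₀⟩ 2 2
            ![(Scheme.Modules.pullback (f.fiberι y₀)).obj M, (Scheme.Modules.pullback (f.fiberι y₀)).obj M]
            (Coh.structureModule (f.fiber y₀)) := by
  let O := Coh.structureModule X
  have hMi : PicF.IsInvertible M := by
    obtain ⟨h⟩ := hM
    exact GrothLib.Seesaw26.isInvertible_of_tensor_iso (GrothLib.GrTilde.tensorModComm L M ≪≫ h) hL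
  have hO : PicF.IsInvertible O := GrothLib.Euler.isInvertible_structure
  let G₀ := CohB1.tensorMod O O
  let G₁ := CohB1.tensorMod (CohB1.tensorMod M O) O
  let G₂ := CohB1.tensorMod (CohB1.tensorMod M (CohB1.tensorMod M O)) O
  have key : ∀ G : X.Modules, PicF.IsInvertible G → ∃ U : Y.Opens, y₀ ∈ U ∧ ∀ y ∈ U,
      GrothLib.EulerConst10.fibEuler f G y = GrothLib.EulerConst10.fibEuler f G y₀ := fun G hG =>
    haveI := (GrothLib.Euler.isCoh_of_isInvertible hG).1
    GrothLib.EulerConst10.exists_nhd_euler_eq f G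
      (GrothLib.LocFree8.isFP_of_isFinLocFree _ (GrothLib.Euler.isFinLocFree_of_isInvertible hG))
      (GrothLib.Seesaw26.isFlatOver_of_isInvertible f hG) y₀
  have i₀ : PicF.IsInvertible G₀ := GrothLib.Ample.isInvertible_tensorMod hO hO
  have i₁ : PicF.IsInvertible G₁ := GrothLib.Ample.isInvertible_tensorMod (GrothLib.Ample.isInvertible_tensorMod hMi hO) hO
  have i₂ : PicF.IsInvertible G₂ := GrothLib.Ample.isInvertible_tensorMod
    (GrothLib.Ample.isInvertible_tensorMod hMi (GrothLib.Ample.isInvertible_tensorMod hMi hO)) hO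
  obtain ⟨U₀, m₀, h₀⟩ := key G₀ i₀
  obtain ⟨U₁, m₁, h₁⟩ := key G₁ i₁
  obtain ⟨U₂, m₂, h₂⟩ := key G₂ i₂
  refine ⟨U₀ ⊓ U₁ ⊓ U₂, ⟨⟨m₀, m₁⟩, m₂⟩, fun y hy => ?_⟩
  have main : ∀ y : Y,
      @FGA.intNum ↥(Y.residueField y) _ (f.fiber y) ⟨f.fiberToSpecResidueField y⟩ 2 2
        ![(Scheme.Modules.pullback (f.fiberι y)).obj M, (Scheme.Modules.pullback (f.fiberι y)).obj M]
        (Coh.structureModule (f.fiber y)) =
      GrothLib.EulerConst10.fibEuler f G₀ y - GrothLib.EulerConst10.fibEuler f G₁ y
        - GrothLib.EulerConst10.fibEuler f G₁ y + GrothLib.EulerConst10.fibEuler f G₂ y := by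
    intro y
    let ι := f.fiberι y
    letI : (f.fiber y).Over (Spec (CommRingCat.of (Y.residueField y))) := ⟨f.fiberToSpecResidueField y⟩
    let eO : (Scheme.Modules.pullback ι).obj O ≅ Coh.structureModule (f.fiber y) := PicLoc.pullbackStructureIso ι
    let eMO := GrothLib.OX.pullTensorIso ι M O ≪≫ GrothLib.Ample.LineData.tensorModMapIso (Iso.refl _) eO
    let eMMO := GrothLib.OX.pullTensorIso ι M (CohB1.tensorMod M O) ≪≫ GrothLib.Ample.LineData.tensorModMapIso (Iso.refl _) eMO
    haveI : ∀ {G : X.Modules}, PicF.IsInvertible G → Coh.IsQCoh G := fun hG =>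
      (GrothLib.Euler.isCoh_of_isInvertible hG).1
    haveI := (GrothLib.Euler.isCoh_of_isInvertible i₀).1
    haveI := (GrothLib.Euler.isCoh_of_isInvertible i₁).1
    haveI := (GrothLib.Euler.isCoh_of_isInvertible i₂).1
    rw [GrothLib.HodgeIndex.intNum_two,
      eulerCharLE_fibre f (G := G₀) y (hdim y) (GrothLib.OX.pullTensorIso ι O O ≪≫ GrothLib.Ample.LineData.tensorModMapIso eO eO).symm,
      eulerCharLE_fibre f (G := G₁) y (hdim y) (GrothLib.OX.pullTensorIso ι _ O ≪≫ GrothLib.Ample.LineData.tensorModMapIso eMO eO).symm,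
      eulerCharLE_fibre f (G := G₂) y (hdim y) (GrothLib.OX.pullTensorIso ι _ O ≪≫ GrothLib.Ample.LineData.tensorModMapIso eMMO eO).symm]
  rw [main y, main y₀, h₀ y hy.1.1, h₁ y hy.1.2, h₂ y hy.2]

end Groth.Agent.S13629
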