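import Groth.Statements.S13630
import Groth.Agent.Lib.DelPezzo7.Descend
import Groth.Agent.Lib.EtSite.FpqcDescent
import Mathlib.AlgebraicGeometry.Morphisms.LocalFlatDescent

set_option autoImplicit false
set_option linter.all false
universe u
open CategoryTheory CategoryTheory.Limits AlgebraicGeometry Opposite
open FBase

namespace Groth.Agent.S13630

/-- Say that a morphism of schemes p : S → T is a family of del Pezzo surfaces when p is proper and
smooth (hence of finite presentation) and for every algebraically closed field k and every morphism
Spec k → T the fibre S_k = S ×_T Spec k is an integral scheme of Krull dimension 2 whose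
anti-canonical sheaf is ample — there are a second exterior power ω of the sheaf of differentials of
S_k → Spec k and a tensor inverse D of ω with D ample. This property descends along flat,
surjective, quasi-compact morphisms: if T' → T is such a morphism and the base change S ×_T T' → T'
is a family of del Pezzo surfaces, then so is p. (Stated for a single quasi-compact faithfully flat
base change; together with Zariski-locality on T this is locality for the fpqc topology. Fields are
taken in the universe of the schemes. The published statement is that families of del Pezzo surfaces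
form a stack for the étale topology; this row is the locality of the family condition that its proof
establishes.) -/
theorem result :
    MorphismProperty.DescendsAlong
      (fun ⦃S T : Scheme.{u}⦄ (p : S ⟶ T) =>
        IsProper p ∧ Smooth p ∧
          ∀ (k : Type u) [Field k] [IsAlgClosed k] (σ : Spec (CommRingCat.of k) ⟶ T),
            IsIntegral (pullback p σ) ∧ topologicalKrullDim ↥(pullback p σ) = 2 ∧
              ∃ ω D : (pullback p σ).Modules, Canon.IsTopDiff (pullback.snd p σ) 2 ω ∧
                ClSub.IsInverseOf D ω ∧ CohB1.IsAmple D)
      (@Surjective ⊓ @Flat ⊓ @QuasiCompact : MorphismProperty Scheme.{u}) := by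
  refine ⟨fun {A X Y Z fst snd f g} h hf hP => ?_⟩
  obtain ⟨⟨hs, hfl⟩, hqc⟩ := hf
  haveI := hs; haveI := hfl; haveI := hqc
  have hQ : (@Surjective ⊓ @Flat ⊓ @QuasiCompact : MorphismProperty Scheme.{u}) f :=
    ⟨⟨hs, hfl⟩, hqc⟩
  haveI hpr : IsProper g := GrothLib.EtSite.descendsAlong_isProper.of_isPullback h hQ hP.1
  haveI hsm : Smooth g := MorphismProperty.of_isPullback_of_descendsAlong (P := @Smooth) h hQ hP.2.1
  refine ⟨hpr, hsm, fun k _ _ σ => ?_⟩
  obtain ⟨w, -⟩ := (pullback.snd f σ).surjective (IsLocalRing.closedPoint k)
  let L := (pullback f σ).residueField w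
  let K := AlgebraicClosure L
  let ρ : Spec (CommRingCat.of K) ⟶ Spec L := Spec.map (CommRingCat.ofHom (algebraMap L K))
  let σ' : Spec (CommRingCat.of K) ⟶ X := ρ ≫ (pullback f σ).fromSpecResidueField w ≫ pullback.fst f σ
  let t : Spec (CommRingCat.of K) ⟶ Spec (CommRingCat.of k) :=
    ρ ≫ (pullback f σ).fromSpecResidueField w ≫ pullback.snd f σ
  have ht : σ' ≫ f = t ≫ σ := by simp only [σ', t, Category.assoc, pullback.condition]
  have h1 : IsPullback (pullback.fst fst σ' ≫ snd) (pullback.snd fst σ') g (σ' ≫ f) :=
    (IsPullback.of_hasPullback fst σ').paste_horiz h.flip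
  rw [ht] at h1
  let i : pullback fst σ' ⟶ pullback g σ := pullback.lift (pullback.fst fst σ' ≫ snd)
    (pullback.snd fst σ' ≫ t) (h1.w.trans (Category.assoc _ _ _).symm)
  have h2 : IsPullback i (pullback.snd fst σ') (pullback.snd g σ) t :=
    IsPullback.of_right (by rw [pullback.lift_fst]; exact h1) (pullback.lift_snd _ _ _)
      (IsPullback.of_hasPullback g σ)
  obtain ⟨hint, hdim, ω', D', hω, hD, hA⟩ := hP.2.2 K σ'
  haveI : IsProper (pullback.snd g σ) := MorphismProperty.pullback_snd g σ hpr
  haveI : Smooth (pullback.snd g σ) := MorphismProperty.pullback_snd g σ hsm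
  exact GrothLib.DelPezzo7.descend_fibre (pullback.snd g σ) t h2 hint hdim ω' D' hω hD hA

end Groth.Agent.S13630
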