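import Groth.Statements.S13631
import Mathlib
-- import your own Groth.Agent.* helpers here

set_option autoImplicit false
universe u v w
open CAlg

namespace Groth.Agent.S13631

/-- Let k be a field, R an integral domain which is a k-algebra of infinite dimension over k, M a finite
free R-module, σ a ring automorphism of R mapping the image of k onto itself, and φ : M → M a
σ-semilinear map. If the cokernel of φ is finite-dimensional over k, in the sense that some finitely
generated k-subspace N of M satisfies M = N + φ(M), then φ is injective. -/
theorem result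
    {k : Type u} {R : Type v} {M : Type w} [Field k] [CommRing R] [IsDomain R] [Algebra k R]
    (hR : ¬ Module.Finite k R)
    [AddCommGroup M] [Module R M] [Module k M] [IsScalarTower k R M]
    [Module.Finite R M] [Module.Free R M]
    (σ : R ≃+* R)
    (hσ : ∀ x : k, ∃ y : k, σ (algebraMap k R x) = algebraMap k R y)
    (hσ' : ∀ y : k, ∃ x : k, σ (algebraMap k R x) = algebraMap k R y)
    (φ : M →ₛₗ[(σ : R →+* R)] M)
    (hcoker : ∃ N : Submodule k M, N.FG ∧ ∀ m : M, ∃ n ∈ N, ∃ m' : M, m = n + φ m') :
    Function.Injective φ := by
  classical
  have hsσ : RingHomSurjective (σ : R →+* R) := ⟨σ.surjective⟩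
  obtain ⟨N, hNfg, hN⟩ := hcoker
  have htors : ∀ e : M, ∃ a : R, a ≠ 0 ∧ a • e ∈ LinearMap.range φ := by
    by_contra hc
    push Not at hc
    obtain ⟨e, he⟩ := hc
    apply hR
    have : Module.Finite k N := Module.Finite.iff_fg.2 hNfg
    let q : M →ₗ[k] M ⧸ LinearMap.range φ := (LinearMap.range φ).mkQ.restrictScalars k
    have : Module.Finite k (M ⧸ LinearMap.range φ) := by
      refine Module.Finite.of_surjective (q ∘ₗ N.subtype) fun y => ?_
      obtain ⟨m, rfl⟩ := Submodule.mkQ_surjective _ y
      obtain ⟨n, hn, m', rfl⟩ := hN m
      exact ⟨⟨n, hn⟩, by simp [q]⟩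
    have : IsNoetherian k (M ⧸ LinearMap.range φ) := isNoetherian_of_isNoetherianRing_of_finite k _
    let f : R →ₗ[k] M ⧸ LinearMap.range φ :=
      ((LinearMap.range φ).mkQ ∘ₗ LinearMap.toSpanSingleton R M e).restrictScalars k
    refine Module.Finite.of_injective f ((injective_iff_map_eq_zero f).2 fun a ha => ?_)
    by_contra ha0
    exact he a ha0 ((Submodule.Quotient.mk_eq_zero _).1 ha)
  let b := Module.Free.chooseBasis R M
  choose a ha0 m hm using fun i => htors (b i)
  refine (injective_iff_map_eq_zero φ).2 fun x hx => ?_
  by_contra hx0
  let v : Option (Module.Free.ChooseBasisIndex R M) → M := fun o => o.elim x m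
  have hv : LinearIndependent R v := by
    rw [Fintype.linearIndependent_iff]
    intro c hc
    rw [Fintype.sum_option] at hc
    have h1 : ∀ i, c (some i) = 0 := by
      have := congrArg φ hc
      simp only [v, Option.elim, map_add, map_sum, map_smulₛₗ, hx, smul_zero, zero_add, map_zero,
        hm, smul_smul] at this
      intro i
      have := Fintype.linearIndependent_iff.1 b.linearIndependent _ this i
      rcases mul_eq_zero.1 this with h | h
      · exact σ.injective (h.trans (map_zero σ).symm)
      · exact absurd h (ha0 i)
    rintro (_ | i)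
    · simp only [v, Option.elim, h1, zero_smul, Finset.sum_const_zero, add_zero] at hc
      exact (smul_eq_zero.1 hc).resolve_right hx0
    · exact h1 i
  have := hv.fintype_card_le_finrank
  rw [Fintype.card_option, Module.finrank_eq_card_basis b] at this
  omega

end Groth.Agent.S13631
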