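import Groth.Statements.S13632
import Mathlib.RingTheory.LocalRing.Module
import Mathlib.RingTheory.Flat.EquationalCriterion
import Mathlib.RingTheory.Finiteness.ModuleFinitePresentation
import Mathlib.LinearAlgebra.TensorProduct.RightExactness
import Mathlib.RingTheory.LocalRing.ResidueField.Ideal
import Mathlib.RingTheory.Nakayama
import Mathlib.RingTheory.FiniteStability
import Mathlib.RingTheory.Support
open scoped TensorProduct

set_option autoImplicit false
universe u
open TensorProduct
open CAlg

namespace Groth.Agent.S13632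

theorem eq_zero_of_localization_at_primes {B : Type u} [CommRing B] (x : B)
    (h : ∀ (Q : Ideal B) [Q.IsPrime], algebraMap B (Localization.AtPrime Q) x = 0) : x = 0 := by
  by_contra hx
  let J : Ideal B := Submodule.colon (⊥ : Ideal B) (Set.singleton x)
  have hJ : J ≠ ⊤ := fun e => hx (by
    have h1 : (1 : B) ∈ J := e ▸ trivial
    have := Submodule.mem_colon.1 h1 x rfl
    simpa using this)
  obtain ⟨Q, hQ, hJQ⟩ := Ideal.exists_le_maximal J hJ
  haveI := hQ
  obtain ⟨⟨s, hs⟩, hsx⟩ := (IsLocalization.map_eq_zero_iff Q.primeCompl (Localization.AtPrime Q) x).1 (h Q)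
  exact hs (hJQ (Submodule.mem_colon.2 fun y hy => by
    rw [show y = x from hy]
    simpa using hsx))

/-- Surjectivity is tested at the closed points. -/
theorem surjective_of_closed {R A B : Type u} [CommRing R] [CommRing A] [CommRing B] [Algebra R A] [Algebra R B]
    [Module.Finite R A] (f : B →ₐ[R] A)
    (h : ∀ (m : Ideal R) [m.IsMaximal], Function.Surjective (LinearMap.lTensor m.ResidueField f.toLinearMap)) :
    Function.Surjective f := by
  let Q := A ⧸ LinearMap.range f.toLinearMap
  haveI : Module.Finite R Q := Module.Finite.of_surjective (LinearMap.range f.toLinearMap).mkQ (Submodule.mkQ_surjective _)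
  have hsub : Subsingleton Q := by
    by_contra hne
    rw [not_subsingleton_iff_nontrivial] at hne
    obtain ⟨p, hp⟩ := (Module.nonempty_support_iff (R := R)).2 hne
    obtain ⟨m, hm, hpm⟩ := Ideal.exists_le_maximal p.asIdeal p.2.ne_top
    have hmp : (⟨m, hm.isPrime⟩ : PrimeSpectrum R) ∈ Module.support R Q :=
      Module.mem_support_mono hpm hp
    haveI := (Module.mem_support_iff_nontrivial_residueField_tensorProduct _).1 hmp
    haveI := hm
    refine not_subsingleton (m.ResidueField ⊗[R] Q) ⟨fun a b => ?_⟩
    have hz : ∀ z : m.ResidueField ⊗[R] Q, z = 0 := fun z => by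
      obtain ⟨w, rfl⟩ := LinearMap.lTensor_surjective m.ResidueField (LinearMap.range f.toLinearMap).mkQ_surjective z
      obtain ⟨v, rfl⟩ := h m w
      rw [← LinearMap.comp_apply, ← LinearMap.lTensor_comp,
        show (LinearMap.range f.toLinearMap).mkQ ∘ₗ f.toLinearMap = 0 from LinearMap.ext fun y =>
          (Submodule.Quotient.mk_eq_zero _).2 ⟨y, rfl⟩, LinearMap.lTensor_zero, LinearMap.zero_apply]
    rw [hz a, hz b]
  intro a
  obtain ⟨b, hb⟩ : a ∈ LinearMap.range f.toLinearMap :=
    (Submodule.Quotient.mk_eq_zero _).1 (Subsingleton.elim (α := Q) (Submodule.Quotient.mk a) 0)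
  exact ⟨b, hb⟩

/-- With equal ranks the map on a fibre is injective. -/
theorem fibre_injective {R A B : Type u} [CommRing R] [CommRing A] [CommRing B] [Algebra R A] [Algebra R B]
    [Module.Finite R A] (f : B →ₐ[R] A) (hs : Function.Surjective f) (p : PrimeSpectrum R)
    (hrank : Module.rank p.asIdeal.ResidueField (p.asIdeal.ResidueField ⊗[R] B) =
      Module.rank p.asIdeal.ResidueField (p.asIdeal.ResidueField ⊗[R] A)) :
    Function.Injective (f.toLinearMap.lTensor p.asIdeal.ResidueField) := by
  let κ := p.asIdeal.ResidueField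
  haveI : FiniteDimensional κ (κ ⊗[R] B) :=
    Module.rank_lt_aleph0_iff.1 (hrank.symm ▸ Module.rank_lt_aleph0 κ (κ ⊗[R] A))
  have h : Function.Surjective (f.toLinearMap.baseChange κ) := LinearMap.lTensor_surjective κ hs
  exact (LinearMap.injective_iff_surjective_of_finrank_eq_finrank
    (by unfold Module.finrank; rw [hrank])).2 h

/-- An element of the kernel lies in `qK` up to a multiplier outside `q`. -/
theorem mem_smul_ker {R A B : Type u} [CommRing R] [CommRing A] [CommRing B] [Algebra R A] [Algebra R B]
    [Module.Flat R A] (f : B →ₐ[R] A) (hs : Function.Surjective f) (q : Ideal R) [q.IsPrime]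
    (hinj : Function.Injective (f.toLinearMap.lTensor q.ResidueField)) {x : B} (hx : x ∈ RingHom.ker f) :
    ∃ s ∉ q, ∃ y ∈ q.map (algebraMap R B) * RingHom.ker f, y = algebraMap R B s * x := by
  classical
  have h1 : (1 : q.ResidueField) ⊗ₜ[R] x = 0 := hinj (by
    rw [LinearMap.lTensor_tmul, map_zero]
    show (1 : q.ResidueField) ⊗ₜ[R] f x = 0
    rw [RingHom.mem_ker.1 hx, TensorProduct.tmul_zero])
  let J := q.map (algebraMap R B)
  let T : Submonoid (B ⧸ J) := Algebra.algebraMapSubmonoid (B ⧸ J) q.primeCompl
  let L := Localization T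
  let ρ : R ⧸ q →+* L := (algebraMap (B ⧸ J) L).comp (Ideal.quotientMap J (algebraMap R B) Ideal.le_comap_map)
  have hρ : ∀ y : nonZeroDivisors (R ⧸ q), IsUnit (ρ y) := by
    rintro ⟨y, hy⟩
    obtain ⟨r, rfl⟩ := Ideal.Quotient.mk_surjective y
    have hr : r ∉ q := fun h => nonZeroDivisors.ne_zero hy (Ideal.Quotient.eq_zero_iff_mem.2 h)
    exact IsLocalization.map_units L (⟨_, ⟨r, hr, rfl⟩⟩ : T)
  let κL : q.ResidueField →+* L := IsLocalization.lift hρ
  have hκL : ∀ r, κL (algebraMap R q.ResidueField r) = algebraMap R L r := fun r => by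
    show IsLocalization.lift hρ (algebraMap (R ⧸ q) q.ResidueField (Ideal.Quotient.mk q r)) = _
    rw [IsLocalization.lift_eq]
    rfl
  let κL' : q.ResidueField →ₐ[R] L := { κL with commutes' := hκL }
  let Φ := Algebra.TensorProduct.lift κL' (IsScalarTower.toAlgHom R B L) fun _ _ => Commute.all _ _
  have h2 : algebraMap (B ⧸ J) L (Ideal.Quotient.mk J x) = 0 := by
    have h := congrArg Φ h1
    rw [map_zero, Algebra.TensorProduct.lift_tmul, map_one, one_mul] at h
    exact h
  obtain ⟨⟨_, s, hsq, rfl⟩, hsx⟩ := (IsLocalization.map_eq_zero_iff T L _).1 h2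
  have h3 : algebraMap R B s * x ∈ J := by
    rw [← Ideal.Quotient.eq_zero_iff_mem, map_mul]
    exact hsx
  -- rewrite through the trivial relation
  obtain ⟨nT, hT', hsum⟩ : ∃ (n : ℕ) (rb : Fin n → q × B), algebraMap R B s * x = ∑ i, (rb i).1.1 • (rb i).2 := by
    have h4 : algebraMap R B s * x ∈ Submodule.span B (Set.range fun r : q => algebraMap R B r) := by
      have : J = Submodule.span B (Set.range fun r : q => algebraMap R B r) := by
        show Ideal.span _ = _
        congr 1
        exact Set.image_eq_range _ _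
      rwa [← this]
    obtain ⟨n, c, g, hcg⟩ := Submodule.mem_span_set'.1 h4
    choose r hr using fun i => (g i).2
    exact ⟨n, fun i => (r i, c i), by
      rw [← hcg]
      exact Finset.sum_congr rfl fun i _ => by
        show c i • (g i : B) = ((r i : q) : R) • c i
        rw [Algebra.smul_def ((r i : q) : R), ← hr i, smul_eq_mul, mul_comm]⟩
  have h5 : ∑ i, (hT' i).1.1 • f (hT' i).2 = 0 := by
    simp only [← map_smul, ← map_sum, ← hsum, map_mul, RingHom.mem_ker.1 hx, mul_zero]
  obtain ⟨k, a, y, hy, hya⟩ := Module.Flat.isTrivialRelation_of_sum_smul_eq_zero h5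
  choose c hc using fun j => hs (y j)
  refine ⟨s, hsq, _, ?_, rfl⟩
  have h6 : algebraMap R B s * x = ∑ i, algebraMap R B (hT' i).1.1 * ((hT' i).2 - ∑ j, a i j • c j) := by
    have h7 : ∑ i, algebraMap R B (hT' i).1.1 * (∑ j, a i j • c j) = 0 := by
      simp only [Finset.mul_sum, Algebra.smul_def, ← mul_assoc, ← map_mul]
      rw [Finset.sum_comm]
      simp only [← Finset.sum_mul, ← map_sum, hya, map_zero, zero_mul, Finset.sum_const_zero]
    simp only [mul_sub, Finset.sum_sub_distrib, h7, sub_zero]
    rw [hsum]
    exact Finset.sum_congr rfl fun i _ => Algebra.smul_def _ _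
  rw [h6]
  refine Ideal.sum_mem _ fun i _ => Ideal.mul_mem_mul (Ideal.mem_map_of_mem _ (hT' i).1.2) ?_
  rw [RingHom.mem_ker, map_sub, map_sum, show f (hT' i).2 = _ from hy i, sub_eq_zero]
  exact Finset.sum_congr rfl fun j _ => by rw [map_smul, hc]

/-- The kernel of a base change of a surjection. -/
theorem ker_baseChange {R A B : Type u} [CommRing R] [CommRing A] [CommRing B] [Algebra R A] [Algebra R B]
    (S : Type u) [CommRing S] [Algebra R S] (f : B →ₐ[R] A) (hs : Function.Surjective f) :
    RingHom.ker (Algebra.TensorProduct.map (AlgHom.id S S) f) =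
      (RingHom.ker f).map (Algebra.TensorProduct.includeRight (R := R) (A := S) (B := B)) := by
  rw [← Algebra.TensorProduct.lTensor_ker (A := S) f hs]
  ext z
  rw [RingHom.mem_ker, RingHom.mem_ker]
  have e : Algebra.TensorProduct.map (AlgHom.id S S) f z = Algebra.TensorProduct.map (AlgHom.id R S) f z := by
    induction z with
    | zero => simp
    | tmul a b => rfl
    | add a b ha hb => rw [map_add, map_add, ha, hb]
  rw [e]

/-- Kernels of surjections from finitely generated onto finitely presented algebras are finitely generated. -/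
theorem fg_ker_of_finiteType {S C D : Type u} [CommRing S] [CommRing C] [CommRing D] [Algebra S C] [Algebra S D]
    [Algebra.FiniteType S C] [Algebra.FinitePresentation S D] (g : C →ₐ[S] D) (hg : Function.Surjective g) :
    (RingHom.ker g).FG := by
  obtain ⟨n, e, he⟩ := Algebra.FiniteType.iff_quotient_mvPolynomial''.1 (inferInstance : Algebra.FiniteType S C)
  have h := (Algebra.FinitePresentation.ker_fg_of_mvPolynomial (g.comp e) (hg.comp he)).map e.toRingHom
  rwa [show (RingHom.ker (g.comp e).toRingHom).map e.toRingHom = RingHom.ker g from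
    Ideal.map_comap_of_surjective e.toRingHom he (RingHom.ker g)] at h

/-- The kernel of a base change to which the target is finitely presented is finitely generated. -/
theorem fg_ker_baseChange {R A B : Type u} [CommRing R] [CommRing A] [CommRing B] [Algebra R A] [Algebra R B]
    [Algebra.FiniteType R B] (S : Type u) [CommRing S] [Algebra R S] [Algebra.FinitePresentation S (S ⊗[R] A)]
    (f : B →ₐ[R] A) (hs : Function.Surjective f) :
    ((RingHom.ker f).map (Algebra.TensorProduct.includeRight (R := R) (A := S) (B := B))).FG := by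
  rw [← ker_baseChange S f hs]
  refine fg_ker_of_finiteType _ fun z => ?_
  induction z with
  | zero => exact ⟨0, map_zero _⟩
  | tmul a b =>
    obtain ⟨c, rfl⟩ := hs b
    exact ⟨a ⊗ₜ c, rfl⟩
  | add a b ha hb =>
    obtain ⟨x, rfl⟩ := ha
    obtain ⟨y, rfl⟩ := hb
    exact ⟨x + y, map_add _ _ _⟩

/-- The kernel is finitely generated locally. -/
theorem fg_map_ker {R A B : Type u} [CommRing R] [CommRing A] [CommRing B] [Algebra R A] [Algebra R B]
    [Module.Finite R A] [Module.Flat R A] [Algebra.FiniteType R B] (f : B →ₐ[R] A) (hs : Function.Surjective f)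
    (Q : Ideal B) [Q.IsPrime] : ((RingHom.ker f).map (algebraMap B (Localization.AtPrime Q))).FG := by
  let q := Q.comap (algebraMap R B)
  let Rq := Localization.AtPrime q
  let BQ := Localization.AtPrime Q
  haveI : Module.Free Rq (Rq ⊗[R] A) := Module.free_of_flat_of_isLocalRing
  haveI : Module.FinitePresentation Rq (Rq ⊗[R] A) := Module.finitePresentation_of_projective _ _
  haveI : Algebra.FinitePresentation Rq (Rq ⊗[R] A) := inferInstance
  let incl : B →ₐ[R] Rq ⊗[R] B := Algebra.TensorProduct.includeRight
  have h1 : ((RingHom.ker f).map incl).FG := fg_ker_baseChange Rq f hs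
  have hu : ∀ y : q.primeCompl, IsUnit (algebraMap R BQ y) := fun y => by
    rw [IsScalarTower.algebraMap_apply R B BQ]
    exact IsLocalization.map_units BQ (⟨_, y.2⟩ : Q.primeCompl)
  let l : Rq →ₐ[R] BQ := IsLocalization.liftAlgHom (S := Rq) (f := Algebra.ofId R BQ) hu
  let Φ := Algebra.TensorProduct.lift l (IsScalarTower.toAlgHom R B BQ) fun _ _ => Commute.all _ _
  have hΦ : Φ.toRingHom.comp incl.toRingHom = algebraMap B BQ := RingHom.ext fun b => by
    show Φ (1 ⊗ₜ[R] b) = _
    rw [Algebra.TensorProduct.lift_tmul, map_one, one_mul]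
    rfl
  rw [← hΦ, ← Ideal.map_map]
  exact h1.map _



/-- Let S = Spec R, X = Spec A finite and flat over S, Y = Spec B of finite type over S, and φ : X → Y
an S-morphism given by f : B → A. If for every point s of S the fibres X_s and Y_s have the same
order (the κ(s)-dimension of their rings of global sections κ(s) ⊗ A and κ(s) ⊗ B; equivalently at
every geometric point) and φ is an isomorphism over every closed point of S (κ(m) ⊗ f bijective for
every maximal ideal m), then φ is an isomorphism, i.e. f is bijective. (The published statement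
allows an arbitrary base scheme S and Y separated of finite type over S; this row is the case of an
affine base with X and Y affine, the case its proof treats directly. Over a base with no closed
points the general statement fails: the hypothesis at closed points is then empty.) -/
theorem result
    {R A B : Type u} [CommRing R] [CommRing A] [CommRing B] [Algebra R A] [Algebra R B]
    [Module.Finite R A] [Module.Flat R A] [Algebra.FiniteType R B]
    (f : B →ₐ[R] A)
    (hrank : ∀ p : PrimeSpectrum R,
      Module.rank p.asIdeal.ResidueField (p.asIdeal.ResidueField ⊗[R] B) =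
        Module.rank p.asIdeal.ResidueField (p.asIdeal.ResidueField ⊗[R] A))
    (hmax : ∀ (m : Ideal R) [m.IsMaximal],
      Function.Bijective (LinearMap.lTensor m.ResidueField f.toLinearMap)) :
    Function.Bijective f := by
  have hs : Function.Surjective f := surjective_of_closed f (fun m _ => (hmax m).2)
  refine ⟨(injective_iff_map_eq_zero f).2 fun x hx => ?_, hs⟩
  refine eq_zero_of_localization_at_primes x fun Q _ => ?_
  let q := Q.comap (algebraMap R B)
  let BQ := Localization.AtPrime Q
  let KQ : Ideal BQ := (RingHom.ker f).map (algebraMap B BQ)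
  have hfg : KQ.FG := fg_map_ker f hs Q
  have hle : KQ ≤ IsLocalRing.maximalIdeal BQ • KQ := by
    refine Ideal.map_le_iff_le_comap.2 fun z hz => ?_
    rw [Ideal.mem_comap]
    -- some multiple of `z` lies in `qK`
    obtain ⟨s, hsq, y, hy, hyz⟩ := mem_smul_ker f hs q (fibre_injective f hs ⟨q, inferInstance⟩ (hrank _)) hz
    have hu : IsUnit (algebraMap B BQ (algebraMap R B s)) :=
      IsLocalization.map_units BQ (⟨algebraMap R B s, hsq⟩ : Q.primeCompl)
    rw [← Ideal.unit_mul_mem_iff_mem _ hu, ← map_mul, ← hyz]
    have h1 := Ideal.mem_map_of_mem (algebraMap B BQ) hy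
    rw [Ideal.map_mul] at h1
    refine Ideal.mul_mono ?_ le_rfl h1
    rw [Ideal.map_map, Ideal.map_le_iff_le_comap]
    intro r hr
    exact (IsLocalization.AtPrime.to_map_mem_maximal_iff BQ Q _).2 hr
  have hbot : KQ = ⊥ := Submodule.eq_bot_of_le_smul_of_le_jacobson_bot (IsLocalRing.maximalIdeal BQ) KQ hfg hle
    (IsLocalRing.maximalIdeal_le_jacobson _)
  exact Ideal.mem_bot.1 (hbot ▸ Ideal.mem_map_of_mem (algebraMap B BQ) (RingHom.mem_ker.2 hx))

end Groth.Agent.S13632
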