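import Groth.Statements.S13633
import Groth.Agent.Lib.FrobN13.Basic
import Groth.Agent.Lib.AffMono14.Basic
import Groth.Agent.Lib.GrpSchField.Points
import Groth.Agent.Lib.EssFree.Subgroup
import Groth.Agent.Lib.GrpSchField.Field
import Groth.Agent.Lib.EtLocal.Affine
-- import your own Groth.Agent.* helpers here

set_option autoImplicit false
universe u
open CategoryTheory CategoryTheory.Limits MonoidalCategory CartesianMonoidalCategory MonObj AlgebraicGeometry
open GrpSch

namespace Groth.Agent.S13633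

set_option backward.isDefEq.respectTransparency false
set_option synthInstance.maxHeartbeats 200000

section
open TensorProduct

variable {k : Type u} [Field k]

local notation "S" => Spec (CommRingCat.of k)

/-- A point of `Spec R` over `k`, as an algebra map. -/
theorem exists_algHom {R T : Type u} [CommRing R] [Algebra k R] [CommRing T] [Algebra k T]
    (F : Spec (CommRingCat.of T) ⟶ Spec (CommRingCat.of R))
    (hF : F ≫ Spec.map (CommRingCat.ofHom (algebraMap k R)) = Spec.map (CommRingCat.ofHom (algebraMap k T))) :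
    ∃ g : R →ₐ[k] T, F = Spec.map (CommRingCat.ofHom g.toRingHom) := by
  obtain ⟨w, rfl⟩ := Spec.map_surjective F
  rw [← Spec.map_comp] at hF
  have h := Spec.map_injective hF
  exact ⟨⟨w.hom, fun c => by simpa using congrArg (fun q => q.hom c) h⟩, rfl⟩

/-- An affine scheme of finite type over `k` with at most one `K`-point is finite. -/
theorem isFinite_of_points (K : Type u) [Field K] [Algebra k K] [IsAlgClosed K] {R : Type u} [CommRing R]
    [Algebra k R] [Algebra.FiniteType k R]
    (h : ∀ a b : Over.mk (Spec.map (CommRingCat.ofHom (algebraMap k K))) ⟶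
      (Spec (CommRingCat.of R)).asOver S, a = b) :
    IsFinite (Spec.map (CommRingCat.ofHom (algebraMap k R))) := by
  let pt : (R →ₐ[k] K) → (Over.mk (Spec.map (CommRingCat.ofHom (algebraMap k K))) ⟶
      (Spec (CommRingCat.of R)).asOver S) := fun g => Over.homMk (Spec.map (CommRingCat.ofHom g.toRingHom)) (by
    show _ ≫ Spec.map (CommRingCat.ofHom (algebraMap k R)) = Spec.map (CommRingCat.ofHom (algebraMap k K))
    rw [← Spec.map_comp, ← CommRingCat.ofHom_comp]
    congr 2
    exact g.comp_algebraMap)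
  haveI : Subsingleton (R →ₐ[k] K) := ⟨fun a b => by
    have hab := congrArg (fun q => q.left) (h (pt a) (pt b))
    have := congrArg CommRingCat.Hom.hom (Spec.map_injective (show Spec.map (CommRingCat.ofHom a.toRingHom) =
      Spec.map (CommRingCat.ofHom b.toRingHom) from hab))
    exact AlgHom.coe_ringHom_injective this⟩
  haveI := GrothLib.FrobN13.finite_of_subsingleton_points (k := k) (R := R) K
  rw [IsFinite.SpecMap_iff]
  exact RingHom.finite_algebraMap.mpr inferInstance

theorem mono_of_injective_on_finite (K : Type u) [Field K] [Algebra k K] [IsAlgClosed K]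
    (G H : Over S) [GrpObj G] [IsCommMonObj G] [GrpObj H]
    [IsAffine G.left] [IsAffine H.left] [LocallyOfFiniteType G.hom]
    (ψ : G ⟶ H) [IsMonHom ψ]
    (hinj : ∀ (I : Over S) [GrpObj I] [IsCommMonObj I] [IsFinite I.hom]
      (f g : I ⟶ G) [IsMonHom f] [IsMonHom g], f ≫ ψ = g ≫ ψ → f = g)
    (hpts : Function.Injective fun x : Over.mk (Spec.map (CommRingCat.ofHom (algebraMap k K))) ⟶ G => x ≫ ψ) :
    Mono ψ := by
  haveI : IsAffineHom G.hom := isAffineHom_of_isAffine _
  haveI : IsAffineHom H.hom := isAffineHom_of_isAffine _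
  let N := pullback ψ η[H]
  let i : N ⟶ G := pullback.fst ψ η[H]
  have sqN : IsPullback i (toUnit N) ψ η[H] := by
    rw [toUnit_unique (toUnit N) (pullback.snd ψ η[H])]
    exact IsPullback.of_hasPullback ψ η[H]
  haveI : Mono i := GrothLib.GrpSchField.mono_of_kernel sqN
  have hfac : ∀ (T : Over S) (g : T ⟶ G), g ≫ ψ = 1 → ∃ z : T ⟶ N, z ≫ i = g :=
    fun T g hg => GrothLib.GrpSchField.exists_lift_of_comp_eq_one sqN g hg
  have hiψ : i ≫ ψ = 1 := GrothLib.GrpSchField.comp_eq_one sqN
  obtain ⟨gN, hmi⟩ := GrothLib.EssFree.exists_grpObj_of_mono i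
    (fun T => hfac T 1 (by rw [MonObj.one_comp]))
    (fun T a b => hfac T _ (by
      rw [MonObj.mul_comp, Category.assoc, Category.assoc, hiψ, MonObj.comp_one, MonObj.comp_one, _root_.mul_one]))
    (fun T a => hfac T _ (by rw [GrpObj.inv_comp, Category.assoc, hiψ, MonObj.comp_one, inv_one]))
  letI := gN
  haveI := hmi
  haveI : IsCommMonObj N := ⟨by
    rw [← cancel_mono i, Category.assoc, IsMonHom.mul_hom, ← BraidedCategory.braiding_naturality_assoc,
      IsCommMonObj.mul_comm]⟩
  haveI : IsClosedImmersion i.left := by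
    haveI : IsClosedImmersion η[H].left := GrothLib.GrpSchField.unit_isClosedImmersion H
    exact MorphismProperty.of_isPullback (sqN.map (Over.forget _)).flip ‹IsClosedImmersion η[H].left›
  haveI : IsAffine N.left := isAffine_of_isAffineHom i.left
  haveI : LocallyOfFiniteType N.hom := by rw [← Over.w i]; infer_instance
  have hone : ∀ a b : Over.mk (Spec.map (CommRingCat.ofHom (algebraMap k K))) ⟶ N, a = b := fun a b => by
    rw [← cancel_mono i]
    refine hpts ?_
    simp only [Category.assoc, hiψ, MonObj.comp_one]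
  haveI : IsFinite N.hom := by
    obtain ⟨w, hw⟩ := Spec.map_surjective (N.left.isoSpec.inv ≫ N.hom)
    letI : Algebra k Γ(N.left, ⊤) := w.hom.toAlgebra
    have hw' : Spec.map (CommRingCat.ofHom (algebraMap k Γ(N.left, ⊤))) = N.left.isoSpec.inv ≫ N.hom := hw
    haveI : Algebra.FiniteType k Γ(N.left, ⊤) := by
      have : LocallyOfFiniteType (Spec.map (CommRingCat.ofHom (algebraMap k Γ(N.left, ⊤)))) := by
        rw [hw']; infer_instance
      rw [HasRingHomProperty.Spec_iff (P := @LocallyOfFiniteType)] at this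
      exact RingHom.finiteType_algebraMap.mp this
    let e : N ≅ (Spec Γ(N.left, ⊤)).asOver S := Over.isoMk N.left.isoSpec (by
      show N.left.isoSpec.hom ≫ Spec.map (CommRingCat.ofHom (algebraMap k Γ(N.left, ⊤))) = N.hom
      rw [hw', Iso.hom_inv_id_assoc])
    haveI := isFinite_of_points (k := k) K (R := Γ(N.left, ⊤)) fun a b => by
      exact (cancel_epi (𝟙 _)).mp (by simpa using congrArg (fun q => q ≫ e.hom) (hone (a ≫ e.inv) (b ≫ e.inv)))
    have h2 : N.hom = N.left.isoSpec.hom ≫ Spec.map (CommRingCat.ofHom (algebraMap k Γ(N.left, ⊤))) := by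
      rw [hw', Iso.hom_inv_id_assoc]
    rw [h2]; infer_instance
  haveI : IsMonHom (1 : N ⟶ G) := by
    rw [Hom.one_def]; infer_instance
  have hi1 : i = 1 := hinj N i 1 (by rw [hiψ, MonObj.one_comp])
  refine ⟨fun {T} a b hab => ?_⟩
  obtain ⟨z, hz⟩ := hfac T (a * b⁻¹) (by
    rw [MonObj.mul_comp, GrpObj.inv_comp, hab, mul_inv_cancel])
  rw [hi1, MonObj.comp_one] at hz
  exact mul_inv_eq_one.mp hz.symm

end



/-- Let k be a field, K an algebraic closure of k, and ψ : G → H a homomorphism of commutative affine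
group schemes of finite type over k. Assume that for every finite commutative group scheme I over k
the map Hom(I, G) → Hom(I, H), f ↦ f ≫ ψ, on group-scheme homomorphisms is bijective, and that ψ
induces a bijection G(K) → H(K) on K-valued points. Then ψ is an isomorphism. (All group schemes are
commutative by the standing convention.) -/
theorem result
    {k : Type u} [Field k] (K : Type u) [Field K] [Algebra k K] [IsAlgClosure k K]
    (G H : Over (Spec (CommRingCat.of k)))
    [GrpObj G] [IsCommMonObj G] [GrpObj H] [IsCommMonObj H]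
    [IsAffine G.left] [IsAffine H.left] [LocallyOfFiniteType G.hom] [LocallyOfFiniteType H.hom]
    (ψ : G ⟶ H) [IsMonHom ψ]
    (hinj : ∀ (I : Over (Spec (CommRingCat.of k))) [GrpObj I] [IsCommMonObj I] [IsFinite I.hom]
      (f g : I ⟶ G) [IsMonHom f] [IsMonHom g], f ≫ ψ = g ≫ ψ → f = g)
    (hsurj : ∀ (I : Over (Spec (CommRingCat.of k))) [GrpObj I] [IsCommMonObj I] [IsFinite I.hom]
      (h : I ⟶ H) [IsMonHom h], ∃ f : I ⟶ G, IsMonHom f ∧ f ≫ ψ = h)
    (hpts : Function.Bijective fun x : Over.mk (Spec.map (CommRingCat.ofHom (algebraMap k K))) ⟶ G => x ≫ ψ) :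
    IsIso ψ := by
  haveI : IsAlgClosed K := IsAlgClosure.isAlgClosed k
  haveI : Mono ψ := mono_of_injective_on_finite K G H ψ hinj hpts.1
  haveI : QuasiCompact ψ.left := inferInstance
  haveI : IsClosedImmersion ψ.left := GrothLib.AffMono14.isClosedImmersion_of_mono ψ
  obtain ⟨H₁', ⟨e⟩⟩ := (essImage_hopfSpec (R := CommRingCat.of k) (G := Grp.mk G)).2 ‹IsAffine G.left›
  obtain ⟨H₁, rfl⟩ : ∃ A, Opposite.op A = H₁' := ⟨H₁'.unop, rfl⟩
  obtain ⟨H₂', ⟨e'⟩⟩ := (essImage_hopfSpec (R := CommRingCat.of k) (G := Grp.mk H)).2 ‹IsAffine H.left›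
  obtain ⟨H₂, rfl⟩ : ∃ A, Opposite.op A = H₂' := ⟨H₂'.unop, rfl⟩
  let hg : Grp.mk G ⟶ Grp.mk H := Grp.homMk (A := Grp.mk G) (B := Grp.mk H) ψ
  obtain ⟨g, hgf⟩ : ∃ g, (hopfSpec (CommRingCat.of k)).map g = e.hom ≫ hg ≫ e'.inv :=
    ⟨hopfSpec.fullyFaithful.preimage _, hopfSpec.fullyFaithful.map_preimage _⟩
  let φ : (H₂ : Type u) →ₐc[k] (H₁ : Type u) := g.unop.hom
  let P₁ : Over (Spec (CommRingCat.of k)) := (Spec (CommRingCat.of (H₁ : Type u))).asOver (Spec (CommRingCat.of k))
  let P₂ : Over (Spec (CommRingCat.of k)) := (Spec (CommRingCat.of (H₂ : Type u))).asOver (Spec (CommRingCat.of k))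
  let i : P₁ ≅ G := (Grp.forget _).mapIso e
  let i' : P₂ ≅ H := (Grp.forget _).mapIso e'
  let F : Spec (CommRingCat.of (H₁ : Type u)) ⟶ Spec (CommRingCat.of (H₂ : Type u)) :=
    Spec.map (CommRingCat.ofHom (φ : (H₂ : Type u) →+* (H₁ : Type u)))
  have hm : F = i.hom.left ≫ ψ.left ≫ i'.inv.left :=
    congrArg (fun q : (hopfSpec (CommRingCat.of k)).obj (Opposite.op H₁) ⟶
      (hopfSpec (CommRingCat.of k)).obj (Opposite.op H₂) => q.hom.hom.left) hgf
  haveI : IsIso i.hom.left := (Over.forget _).map_isIso i.hom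
  haveI : IsIso i.inv.left := (Over.forget _).map_isIso i.inv
  haveI : IsIso i'.inv.left := (Over.forget _).map_isIso i'.inv
  haveI : IsIso i'.hom.left := (Over.forget _).map_isIso i'.hom
  haveI : IsClosedImmersion F := by rw [hm]; infer_instance
  have hsurjφ : Function.Surjective φ := GrothLib.EtLocal.surjective_of_isClosedImmersion_specMap (CommRingCat.ofHom (φ : (H₂ : Type u) →+* (H₁ : Type u)))
  haveI : Algebra.FiniteType k (H₂ : Type u) := by
    have h1 : Spec.map (CommRingCat.ofHom (algebraMap k (H₂ : Type u))) = i'.hom.left ≫ H.hom :=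
      (Over.w i'.hom).symm
    have h2 : LocallyOfFiniteType (Spec.map (CommRingCat.ofHom (algebraMap k (H₂ : Type u)))) := by
      rw [h1]; infer_instance
    rw [HasRingHomProperty.Spec_iff (P := @LocallyOfFiniteType)] at h2
    exact RingHom.finiteType_algebraMap.mp h2
  have hinjφ : Function.Injective φ := by
    refine GrothLib.FrobN13.injective_of_points K φ hsurjφ (fun χ => ?_) (fun p _ _ n => ?_)
    · let x : Over.mk (Spec.map (CommRingCat.ofHom (algebraMap k K))) ⟶ P₂ :=
        Over.homMk (Spec.map (CommRingCat.ofHom χ.toRingHom)) (by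
          show _ ≫ Spec.map (CommRingCat.ofHom (algebraMap k (H₂ : Type u))) = Spec.map (CommRingCat.ofHom (algebraMap k K))
          rw [← Spec.map_comp, ← CommRingCat.ofHom_comp]
          congr 2
          exact χ.comp_algebraMap)
      obtain ⟨y, hy⟩ := hpts.2 (x ≫ i'.hom)
      obtain ⟨χ', hχ'⟩ := exists_algHom (k := k) (R := (H₁ : Type u)) (T := K) (y ≫ i.inv).left (Over.w (y ≫ i.inv))
      refine ⟨χ', AlgHom.ext fun b => RingHom.congr_fun (congrArg CommRingCat.Hom.hom (Spec.map_injective
        (a₁ := CommRingCat.ofHom (χ'.toRingHom.comp (φ : (H₂ : Type u) →+* (H₁ : Type u))))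
        (a₂ := CommRingCat.ofHom χ.toRingHom) ?_)) b⟩
      show Spec.map (CommRingCat.ofHom (χ'.toRingHom.comp (φ : (H₂ : Type u) →+* (H₁ : Type u)))) = _
      rw [CommRingCat.ofHom_comp, Spec.map_comp, ← hχ']
      show (y ≫ i.inv).left ≫ F = Spec.map (CommRingCat.ofHom χ.toRingHom)
      rw [hm]
      have h3 := congrArg (fun q => q.left) hy
      simp only [Over.comp_left] at h3 ⊢
      have e1 : i.inv.left ≫ i.hom.left = 𝟙 G.left := congrArg (fun q => q.left) i.inv_hom_id
      have e2 : i'.hom.left ≫ i'.inv.left = 𝟙 P₂.left := congrArg (fun q => q.left) i'.hom_inv_id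
      rw [Category.assoc, reassoc_of% e1, reassoc_of% h3, e2]
      exact Category.comp_id _
    · haveI := GrothLib.FrobN13.isHopfIdeal_frobIdeal (k := k) p n (H₂ : Type u)
      haveI := GrothLib.FrobN13.finite_quotient_frobIdeal (k := k) p n (H₂ : Type u)
      let J := GrothLib.FrobN13.frobIdeal (k := k) p n (H₂ : Type u)
      let mkC : (H₂ : Type u) →ₐc[k] ((H₂ : Type u) ⧸ J) := Bialgebra.Quotient.mkBialgHom J
      let GI := (hopfSpec (CommRingCat.of k)).obj (Opposite.op (CommHopfAlgCat.of k ((H₂ : Type u) ⧸ J)))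
      let hI : GI ⟶ (hopfSpec (CommRingCat.of k)).obj (Opposite.op H₂) :=
        (hopfSpec (CommRingCat.of k)).map (CommHopfAlgCat.ofHom mkC).op
      let h : GI.X ⟶ H := hI.hom.hom ≫ i'.hom
      haveI : IsMonHom h := inferInstanceAs (IsMonHom (hI.hom.hom ≫ e'.hom.hom.hom))
      haveI : IsClosedImmersion hI.hom.hom.left := by
        show IsClosedImmersion (Spec.map (CommRingCat.ofHom (mkC : (H₂ : Type u) →+* ((H₂ : Type u) ⧸ J))))
        exact IsClosedImmersion.spec_of_surjective _ Ideal.Quotient.mk_surjective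
      haveI : IsClosedImmersion h.left := by
        show IsClosedImmersion (hI.hom.hom.left ≫ i'.hom.left)
        infer_instance
      haveI : Mono h := (Over.forget _).mono_of_mono_map (inferInstanceAs (Mono h.left))
      haveI : IsCommMonObj GI.X := ⟨by
        rw [← cancel_mono h, Category.assoc, IsMonHom.mul_hom, ← BraidedCategory.braiding_naturality_assoc,
          IsCommMonObj.mul_comm]⟩
      haveI : IsFinite GI.X.hom := by
        show IsFinite (Spec.map (CommRingCat.ofHom (algebraMap k ((H₂ : Type u) ⧸ J))))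
        rw [IsFinite.SpecMap_iff]
        exact RingHom.finite_algebraMap.mpr inferInstance
      obtain ⟨f, -, hf⟩ := hsurj GI.X h
      obtain ⟨ω, hω⟩ := exists_algHom (k := k) (R := (H₁ : Type u)) (T := (H₂ : Type u) ⧸ J) (f ≫ i.inv).left
        (Over.w (f ≫ i.inv))
      have h4 : (f ≫ i.inv).left ≫ F = hI.hom.hom.left := by
        rw [hm]
        have h3 : f.left ≫ ψ.left = hI.hom.hom.left ≫ i'.hom.left := congrArg (fun q => q.left) hf
        have e1 : i.inv.left ≫ i.hom.left = 𝟙 G.left := congrArg (fun q => q.left) i.inv_hom_id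
        have e2 : i'.hom.left ≫ i'.inv.left = 𝟙 P₂.left := congrArg (fun q => q.left) i'.hom_inv_id
        rw [Over.comp_left, Category.assoc, reassoc_of% e1, reassoc_of% h3, e2]
        exact Category.comp_id _
      rw [hω, ← Spec.map_comp, ← CommRingCat.ofHom_comp] at h4
      have h5 : ω.toRingHom.comp (φ : (H₂ : Type u) →+* (H₁ : Type u)) = Ideal.Quotient.mk J :=
        congrArg CommRingCat.Hom.hom (Spec.map_injective h4)
      intro b hb
      rw [← Ideal.Quotient.eq_zero_iff_mem, ← h5, RingHom.comp_apply,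
        show (φ : (H₂ : Type u) →+* (H₁ : Type u)) b = 0 from hb, map_zero]
  haveI : IsIso (CommRingCat.ofHom (φ : (H₂ : Type u) →+* (H₁ : Type u))) :=
    (ConcreteCategory.isIso_iff_bijective _).2 ⟨hinjφ, hsurjφ⟩
  haveI : IsIso ψ.left := by
    have e0 : ψ.left = inv i.hom.left ≫ F ≫ inv i'.inv.left := by rw [hm]; simp
    rw [e0]; infer_instance
  haveI : IsIso ((Over.forget _).map ψ) := ‹IsIso ψ.left›
  exact isIso_of_reflects_iso ψ (Over.forget _)

end Groth.Agent.S13633
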