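import Groth.Statements.S13635
import Groth.Agent.Lib.MultLift16.Basic

set_option autoImplicit false
universe u w
open CategoryTheory CategoryTheory.Limits MonoidalCategory CartesianMonoidalCategory MonObj AlgebraicGeometry
open MultSch

namespace Groth.Agent.S13635

/-- Let M₁ → M₂ → M₃ → 0 be a sequence of R-module schemes over a scheme S, with R-linear homomorphisms
j : M₁ → M₂ and π : M₂ → M₃, exact as a sequence of fppf sheaves. For n ≥ 1 and an R-module scheme
N, the sequence 0 → Alt(M₃^n, N) → Alt(M₂^n, N) → Alt(M₁ × M₂^(n-1), N) of R-multilinear alternating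
morphisms is exact: an R-multilinear alternating φ : M₂^n → N which is trivial on all points with
first coordinate in the image of j is of the form φ' ∘ π^n for a unique morphism φ' : M₃^n → N
(unique among all morphisms), and this φ' is R-multilinear and alternating. -/
theorem result
    {S : Scheme.{u}} {R : Type w} [CommRing R] {M₁ M₂ M₃ N : Over S}
    [GrpObj M₁] [IsCommMonObj M₁] [GrpObj M₂] [IsCommMonObj M₂] [GrpObj M₃] [IsCommMonObj M₃]
    [GrpObj N] [IsCommMonObj N]
    (ρ₁ : MultSch.RMod R M₁) (ρ₂ : MultSch.RMod R M₂) (ρ₃ : MultSch.RMod R M₃) (ρN : MultSch.RMod R N)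
    (j : M₁ ⟶ M₂) (π : M₂ ⟶ M₃) [IsMonHom j] [IsMonHom π]
    (hj : ∀ a : R, j ≫ ρ₂.act a = ρ₁.act a ≫ j) (hπ : ∀ a : R, π ≫ ρ₃.act a = ρ₂.act a ≫ π)
    (w : j ≫ π = 1) (hex : (CGrpSh.seq Scheme.fppfPrecoverage j π w).Exact)
    (hepi : Epi (CGrpSh.ptsMap Scheme.fppfPrecoverage π))
    {n : ℕ} (hn : 1 ≤ n) (φ : MultSch.pow M₂ n ⟶ N)
    (hmult : MultSch.IsMultilinear φ) (hlin : MultSch.IsRLinear ρ₂ ρN φ) (halt : MultSch.IsAlternating φ)
    (hvan : ∀ (T : Over S) (y : T ⟶ M₁) (x : Fin n → (T ⟶ M₂)), x ⟨0, hn⟩ = y ≫ j →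
      MultSch.tuple x ≫ φ = 1) :
    ∃ φ' : MultSch.pow M₃ n ⟶ N,
      (∀ (T : Over S) (x : Fin n → (T ⟶ M₂)), MultSch.tuple x ≫ φ = MultSch.tuple (fun l => x l ≫ π) ≫ φ') ∧
      MultSch.IsMultilinear φ' ∧ MultSch.IsRLinear ρ₃ ρN φ' ∧ MultSch.IsAlternating φ' ∧
      ∀ φ'' : MultSch.pow M₃ n ⟶ N,
        (∀ (T : Over S) (x : Fin n → (T ⟶ M₂)), MultSch.tuple x ≫ φ = MultSch.tuple (fun l => x l ≫ π) ≫ φ'') →
          φ'' = φ' := by
  classical
  have hj' : ∀ (T : Over S) (x : Fin n → (T ⟶ M₂)) (i : Fin n) (z : T ⟶ M₁), x i = z ≫ j →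
      MultSch.tuple x ≫ φ = 1 := by
    intro T x i z hz
    by_cases hi : i = ⟨0, hn⟩
    · subst hi; exact hvan T z x hz
    let i₀ : Fin n := ⟨0, hn⟩
    let v : (T ⟶ M₂) → (T ⟶ M₂) → (T ⟶ N) := fun a b =>
      MultSch.tuple (Function.update (Function.update x i₀ a) i b) ≫ φ
    have hl : ∀ a a' b, v (a * a') b = v a b * v a' b := fun a a' b => by
      have e : ∀ c, Function.update (Function.update x i₀ c) i b = Function.update (Function.update x i b) i₀ c :=
        fun c => (Function.update_comm hi b c x).symm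
      simp only [v]
      rw [e, e, e]
      exact hmult T _ i₀ a a'
    have hr : ∀ a b b', v a (b * b') = v a b * v a b' := fun a b b' => hmult T _ i b b'
    have hd : ∀ a, v a a = 1 := fun a => halt T _ i₀ i (Ne.symm hi) (by
      rw [Function.update_of_ne (Ne.symm hi), Function.update_self, Function.update_self])
    have hsw : v (x i₀) (x i) * v (x i) (x i₀) = 1 := by
      have h := hd (x i₀ * x i)
      rw [hl, hr, hr, hd, hd, _root_.one_mul, _root_.mul_one] at h
      exact h
    have h0 : v (x i) (x i₀) = 1 := hvan T z _ (by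
      rw [Function.update_of_ne (Ne.symm hi), Function.update_self, hz])
    rw [h0, _root_.mul_one] at hsw
    simpa [v] using hsw
  let p := GrothLib.MultLift16.powMap π n
  have hp : ∀ (T : Over S) (b : T ⟶ MultSch.pow M₃ n), ∃ R ∈ GrothLib.MultLift16.top S T, ∀ ⦃U : Over S⦄ (f : U ⟶ T),
      R f → ∃ x : U ⟶ MultSch.pow M₂ n, x ≫ p = f ≫ b := by
    intro T b
    obtain ⟨y, rfl⟩ := GrothLib.MultLift16.exists_tuple b
    obtain ⟨R, hR, h⟩ := GrothLib.MultLift16.lift_tuple_locally π hepi T y
    refine ⟨R, hR, fun U f hf => ?_⟩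
    obtain ⟨x, hx⟩ := h f hf
    exact ⟨MultSch.tuple x, by rw [GrothLib.MultLift16.tuple_powMap, GrothLib.MultLift16.comp_tuple]; simp only [hx]⟩
  have hc : ∀ (T : Over S) (a a' : T ⟶ MultSch.pow M₂ n), a ≫ p = a' ≫ p → a ≫ φ = a' ≫ φ := by
    intro T a a' h
    obtain ⟨x, rfl⟩ := GrothLib.MultLift16.exists_tuple a
    obtain ⟨x', rfl⟩ := GrothLib.MultLift16.exists_tuple a'
    rw [GrothLib.MultLift16.tuple_powMap, GrothLib.MultLift16.tuple_powMap] at h
    have he := congrFun (GrothLib.MultLift16.tuple_injective h)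
    have key : ∀ s : Finset (Fin n), MultSch.tuple (s.piecewise x' x) ≫ φ = MultSch.tuple x ≫ φ := by
      intro s
      induction s using Finset.induction_on with
      | empty => rw [Finset.piecewise_empty]
      | insert l s hl ih =>
        rw [Finset.piecewise_insert, ← ih]
        have e : s.piecewise x' x = Function.update (s.piecewise x' x) l (x l) :=
          (Function.update_eq_self_iff.2 (Finset.piecewise_eq_of_notMem _ _ _ hl).symm).symm
        conv_rhs => rw [e]
        rw [← div_mul_cancel (x' l) (x l), hmult]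
        refine mul_eq_right.2 ?_
        obtain ⟨R, hR, hz⟩ := GrothLib.MultLift16.exact_locally j π w hex T (x' l / x l)
          (by rw [GrpObj.div_comp, ← he l, div_self'])
        refine GrothLib.MultLift16.hom_ext_locally hR fun U f hf => ?_
        obtain ⟨z, hz'⟩ := hz f hf
        rw [MonObj.comp_one, ← Category.assoc, GrothLib.MultLift16.comp_tuple]
        exact hj' U _ l z (by rw [hz', Function.update_self])
    rw [← key Finset.univ, Finset.piecewise_univ]
  obtain ⟨φ', hφ', huniq⟩ := GrothLib.MultLift16.descend p φ hp hc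
  have hval : ∀ (T : Over S) (x : Fin n → (T ⟶ M₂)),
      MultSch.tuple (fun l => x l ≫ π) ≫ φ' = MultSch.tuple x ≫ φ := fun T x => by
    rw [← GrothLib.MultLift16.tuple_powMap, Category.assoc, hφ']
  have hupd : ∀ {U T : Over S} (f : U ⟶ T) (x : Fin n → (T ⟶ M₃)) (i : Fin n) (y : T ⟶ M₃) (x' : Fin n → (U ⟶ M₂))
      (y' : U ⟶ M₂), (∀ l, x' l ≫ π = f ≫ x l) → y' ≫ π = f ≫ y →
      f ≫ MultSch.tuple (Function.update x i y) ≫ φ' = MultSch.tuple (Function.update x' i y') ≫ φ := by
    intro U T f x i y x' y' hx hy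
    rw [← Category.assoc, GrothLib.MultLift16.comp_tuple, ← hval]
    congr 2
    funext l
    by_cases hl : l = i
    · subst hl; rw [Function.update_self, Function.update_self, hy]
    · rw [Function.update_of_ne hl, Function.update_of_ne hl, hx]
  refine ⟨φ', fun T x => (hval T x).symm, fun T x i y z => ?_, fun T x i a => ?_, fun T x i l hil hx => ?_,
    fun φ'' h => huniq φ'' ?_⟩
  · obtain ⟨R, hR, h⟩ := GrothLib.MultLift16.lift_tuple_locally π hepi T (Fin.cons y (Fin.cons z x) : Fin (n + 2) → _)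
    refine GrothLib.MultLift16.hom_ext_locally hR fun U f hf => ?_
    obtain ⟨e, he⟩ := h f hf
    rw [MonObj.comp_mul, hupd f x i (y * z) (fun l => e l.succ.succ) (e 0 * e (Fin.succ 0))
      (fun l => by rw [he]; rfl) (by rw [MonObj.mul_comp, he, he, MonObj.comp_mul]; rfl),
      hupd f x i y (fun l => e l.succ.succ) (e 0) (fun l => by rw [he]; rfl) (by rw [he]; rfl),
      hupd f x i z (fun l => e l.succ.succ) (e (Fin.succ 0)) (fun l => by rw [he]; rfl) (by rw [he]; rfl)]
    exact hmult U _ i _ _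
  · obtain ⟨R, hR, h⟩ := GrothLib.MultLift16.lift_tuple_locally π hepi T x
    refine GrothLib.MultLift16.hom_ext_locally hR fun U f hf => ?_
    obtain ⟨e, he⟩ := h f hf
    rw [hupd f x i _ e (e i ≫ ρ₂.act a) he (by rw [Category.assoc, ← hπ, ← Category.assoc, he, Category.assoc]),
      hlin, ← hval]
    simp only [he]
    rw [← GrothLib.MultLift16.comp_tuple]
    simp only [Category.assoc]
  · obtain ⟨R, hR, h⟩ := GrothLib.MultLift16.lift_tuple_locally π hepi T x
    refine GrothLib.MultLift16.hom_ext_locally hR fun U f hf => ?_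
    obtain ⟨e, he⟩ := h f hf
    rw [← Function.update_eq_self l x, hupd f x l (x l) e (e i) he (by rw [he, hx]), MonObj.comp_one]
    exact halt U _ i l hil (by rw [Function.update_of_ne hil, Function.update_self])
  · obtain ⟨x, hx⟩ := GrothLib.MultLift16.exists_tuple (𝟙 (MultSch.pow M₂ n))
    have h2 := h _ x
    rw [← GrothLib.MultLift16.tuple_powMap, hx, Category.id_comp, Category.id_comp] at h2
    exact h2.symm


end Groth.Agent.S13635
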