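import Groth.Statements.S13636
import Groth.Agent.Lib.MultLift16.Basic

set_option autoImplicit false
universe u w
open CategoryTheory CategoryTheory.Limits MonoidalCategory CartesianMonoidalCategory MonObj AlgebraicGeometry
open MultSch

namespace Groth.Agent.S13636

/-- Let M' → M → M'' → 0 be a sequence of R-module schemes over a scheme S, with R-linear homomorphisms
j and π, exact as fppf sheaves, and let ψ : P × M × Q → N be a morphism to an R-module scheme N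
which is additive and R-linear in the coordinate M (on T-valued points) and trivial on all points
whose M-coordinate lies in the image of j. Then ψ = ψ' ∘ (id × π × id) for a unique morphism ψ' : P
× M'' × Q → N, and ψ' is additive and R-linear in the coordinate M''. (The published statement has a
product M₁ × ⋯ × M_r of R-module schemes with the exact sequence in the i-th factor and ψ
R-multilinear; here the factors before and after the i-th are collected into single S-schemes P and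
Q, and only linearity in the i-th coordinate, the one the statement is about, is carried; linearity
in the other coordinates passes between ψ and ψ' formally.) -/
theorem result
    {S : Scheme.{u}} {R : Type w} [CommRing R] {P Q M' M M'' N : Over S}
    [GrpObj M'] [IsCommMonObj M'] [GrpObj M] [IsCommMonObj M] [GrpObj M''] [IsCommMonObj M'']
    [GrpObj N] [IsCommMonObj N]
    (ρ' : MultSch.RMod R M') (ρ : MultSch.RMod R M) (ρ'' : MultSch.RMod R M'') (ρN : MultSch.RMod R N)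
    (j : M' ⟶ M) (π : M ⟶ M'') [IsMonHom j] [IsMonHom π]
    (hj : ∀ a : R, j ≫ ρ.act a = ρ'.act a ≫ j) (hπ : ∀ a : R, π ≫ ρ''.act a = ρ.act a ≫ π)
    (w : j ≫ π = 1) (hex : (CGrpSh.seq Scheme.fppfPrecoverage j π w).Exact)
    (hepi : Epi (CGrpSh.ptsMap Scheme.fppfPrecoverage π))
    (ψ : P ⊗ (M ⊗ Q) ⟶ N)
    (hadd : ∀ (T : Over S) (p : T ⟶ P) (q : T ⟶ Q) (y z : T ⟶ M),
      lift p (lift (y * z) q) ≫ ψ = (lift p (lift y q) ≫ ψ) * (lift p (lift z q) ≫ ψ))
    (hlin : ∀ (T : Over S) (p : T ⟶ P) (q : T ⟶ Q) (y : T ⟶ M) (a : R),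
      lift p (lift (y ≫ ρ.act a) q) ≫ ψ = (lift p (lift y q) ≫ ψ) ≫ ρN.act a)
    (hvan : ∀ (T : Over S) (p : T ⟶ P) (q : T ⟶ Q) (y' : T ⟶ M'), lift p (lift (y' ≫ j) q) ≫ ψ = 1) :
    ∃ ψ' : P ⊗ (M'' ⊗ Q) ⟶ N,
      (P ◁ (π ▷ Q)) ≫ ψ' = ψ ∧
      (∀ (T : Over S) (p : T ⟶ P) (q : T ⟶ Q) (y z : T ⟶ M''),
        lift p (lift (y * z) q) ≫ ψ' = (lift p (lift y q) ≫ ψ') * (lift p (lift z q) ≫ ψ')) ∧
      (∀ (T : Over S) (p : T ⟶ P) (q : T ⟶ Q) (y : T ⟶ M'') (a : R),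
        lift p (lift (y ≫ ρ''.act a) q) ≫ ψ' = (lift p (lift y q) ≫ ψ') ≫ ρN.act a) ∧
      ∀ ψ'' : P ⊗ (M'' ⊗ Q) ⟶ N, (P ◁ (π ▷ Q)) ≫ ψ'' = ψ → ψ'' = ψ' := by
  have hp : ∀ (T : Over S) (b : T ⟶ P ⊗ (M'' ⊗ Q)), ∃ R ∈ GrothLib.MultLift16.top S T, ∀ ⦃U : Over S⦄ (f : U ⟶ T),
      R f → ∃ x : U ⟶ P ⊗ (M ⊗ Q), x ≫ (P ◁ (π ▷ Q)) = f ≫ b := by
    intro T b
    obtain ⟨R, hR, h⟩ := GrothLib.MultLift16.lift_locally π hepi T (b ≫ snd _ _ ≫ fst _ _)
    refine ⟨R, hR, fun U f hf => ?_⟩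
    obtain ⟨x, hx⟩ := h f hf
    refine ⟨lift (f ≫ b ≫ fst _ _) (lift x (f ≫ b ≫ snd _ _ ≫ snd _ _)), ?_⟩
    rw [lift_whiskerLeft, lift_whiskerRight, hx]
    ext <;> simp
  have hdec : ∀ (T : Over S) (a : T ⟶ P ⊗ (M ⊗ Q)), a = lift (a ≫ fst _ _) (lift (a ≫ snd _ _ ≫ fst _ _)
      (a ≫ snd _ _ ≫ snd _ _)) := fun T a => by ext <;> simp
  have hc : ∀ (T : Over S) (a a' : T ⟶ P ⊗ (M ⊗ Q)), a ≫ (P ◁ (π ▷ Q)) = a' ≫ (P ◁ (π ▷ Q)) →
      a ≫ ψ = a' ≫ ψ := by
    intro T a a' h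
    rw [hdec T a, hdec T a', lift_whiskerLeft, lift_whiskerRight, lift_whiskerLeft, lift_whiskerRight] at h
    have h1 := congrArg (· ≫ fst _ _) h
    have h2 := congrArg (· ≫ snd _ _ ≫ fst _ _) h
    have h3 := congrArg (· ≫ snd _ _ ≫ snd _ _) h
    simp only [lift_fst, lift_snd, lift_fst_assoc, lift_snd_assoc] at h1 h2 h3
    rw [hdec T a, hdec T a', ← h1, ← h3]
    generalize a ≫ fst _ _ = p at *
    generalize a ≫ snd _ _ ≫ snd _ _ = q at *
    generalize a ≫ snd _ _ ≫ fst _ _ = y at *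
    generalize a' ≫ snd _ _ ≫ fst _ _ = y' at *
    rw [← div_mul_cancel y y', hadd]
    refine mul_eq_right.2 ?_
    have hd : (y / y') ≫ π = 1 := by rw [GrpObj.div_comp, h2, div_self']
    obtain ⟨R, hR, hz⟩ := GrothLib.MultLift16.exact_locally j π w hex T (y / y') hd
    refine GrothLib.MultLift16.hom_ext_locally hR fun U f hf => ?_
    obtain ⟨z, hz'⟩ := hz f hf
    rw [MonObj.comp_one, ← Category.assoc, comp_lift, comp_lift, ← hz']
    exact hvan U _ _ z
  obtain ⟨ψ', hψ', huniq⟩ := GrothLib.MultLift16.descend (P ◁ (π ▷ Q)) ψ hp hc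
  have hval : ∀ (T : Over S) (p : T ⟶ P) (q : T ⟶ Q) (y : T ⟶ M),
      lift p (lift (y ≫ π) q) ≫ ψ' = lift p (lift y q) ≫ ψ := fun T p q y => by
    rw [← hψ', ← Category.assoc, lift_whiskerLeft, lift_whiskerRight]
  refine ⟨ψ', hψ', fun T p q y z => ?_, fun T p q y a => ?_, huniq⟩
  · obtain ⟨R₁, hR₁, h₁⟩ := GrothLib.MultLift16.lift_locally π hepi T y
    obtain ⟨R₂, hR₂, h₂⟩ := GrothLib.MultLift16.lift_locally π hepi T z
    refine GrothLib.MultLift16.hom_ext_locally ((GrothLib.MultLift16.top S).intersection_covering hR₁ hR₂)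
      fun U f hf => ?_
    obtain ⟨y', hy⟩ := h₁ f hf.1
    obtain ⟨z', hz⟩ := h₂ f hf.2
    rw [MonObj.comp_mul]
    simp only [← Category.assoc, comp_lift, MonObj.comp_mul]
    rw [← hy, ← hz, ← MonObj.mul_comp, hval, hval, hval, hadd]
  · obtain ⟨R, hR, h⟩ := GrothLib.MultLift16.lift_locally π hepi T y
    refine GrothLib.MultLift16.hom_ext_locally hR fun U f hf => ?_
    obtain ⟨y', hy⟩ := h f hf
    simp only [← Category.assoc, comp_lift]
    rw [← hy, Category.assoc y' π, hπ, ← Category.assoc, hval, hval, hlin]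


end Groth.Agent.S13636
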