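import Groth.Statements.S13637
import Groth.Agent.Lib.FCoh7.RpushCoh


set_option autoImplicit false
open CategoryTheory
universe u
open FSch

namespace Groth.Agent.S13637

/-- Let 𝔛 and 𝔜 be locally Noetherian formal schemes (adic systems of thickenings with locally
Noetherian levels), f : 𝔛 ⟶ 𝔜 a proper morphism (adic, with proper morphism of smallest levels) and
𝔉 a coherent O_𝔛-module. Then every higher direct image R^q f_* 𝔉 (q ≥ 0) is a coherent O_𝔜-module. -/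
theorem result (𝔛 𝔜 : FSch.Sys.{u}) (h𝔛 : 𝔛.IsLocNoethFormal) (h𝔜 : 𝔜.IsLocNoethFormal)
    (f : 𝔛 ⟶ 𝔜) (hf : FSch.IsProperHom f) [HasInjectiveResolutions (FSch.ModF 𝔛 h𝔛.1)]
    (𝔉 : FSch.ModF 𝔛 h𝔛.1) (h𝔉 : FSch.IsCohF 𝔛 h𝔛.1 𝔉) (q : ℕ) :
    FSch.IsCohF 𝔜 h𝔜.1 ((FSch.RpushF f h𝔛.1 h𝔜.1 q).obj 𝔉) := by
  haveI := h𝔉
  classical
  choose P hP using fun U : (𝔜.X 0).affineOpens =>
    GrothLib.FCoh7.exists_presentation_rpushF (h𝔜 := h𝔜.1) h𝔛.1 f 𝔉 h𝔛 h𝔜 hf q U.2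
  let R := (FSch.RpushF f h𝔛.1 h𝔜.1 q).obj 𝔉
  let qd : SheafOfModules.QuasicoherentData.{u} (R := ModSite.ringSh (𝔜.Osh h𝔜.1)) R :=
    { I := (𝔜.X 0).affineOpens
      X := fun U => U.1
      coversTop := (Opens.coversTop_iff _ fun U : (𝔜.X 0).affineOpens => U.1).2
        (AlgebraicGeometry.iSup_affineOpens_eq_top _)
      presentation := P }
  haveI : qd.IsFinitePresentation := by constructor; intro i; exact hP i
  constructor
  exact ⟨qd, inferInstance⟩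

end Groth.Agent.S13637
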