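import Groth.Statements.S13641
import Groth.Agent.Lib.FCoh7.SpfBij


set_option autoImplicit false
open CategoryTheory CategoryTheory.Limits Opposite
universe u
open FSch

namespace Groth.Agent.S13641

/-- Let A be an adic Noetherian ring with ideal of definition J, 𝔛 a locally Noetherian formal scheme, f
: 𝔛 ⟶ Spf A a proper morphism and 𝔉 a coherent O_𝔛-module; with u_k : X_k ⟶ 𝔛 the k-th level, put
𝔉_k = (u_k)_* u_k^* 𝔉 = 𝔉 / J^(k+1) 𝔉. Then for every n the canonical map H^n(𝔛, 𝔉) ⟶ lim_k H^n(𝔛,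
𝔉_k) is bijective: a class whose image in every H^n(𝔛, 𝔉_k) vanishes is zero, and every family of
classes in the H^n(𝔛, 𝔉_k) compatible under the transition maps is the image of one class. (The
published statement asserts a topological isomorphism, for the J-adic topology on the first group
and the discrete topologies on the others; this row asserts bijectivity only, without topologies or
A-module structure.) -/
theorem result (A : Type u) [CommRing A] [IsNoetherianRing A] (J : Ideal A)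
    [IsAdicComplete J A] (h𝔜 : (FSch.spf A J).IsLocNoethFormal) (𝔛 : FSch.Sys.{u}) (h𝔛 : 𝔛.IsLocNoethFormal)
    (f : 𝔛 ⟶ FSch.spf A J) (hf : FSch.IsProperHom f) [HasInjectiveResolutions (FSch.ModF 𝔛 h𝔛.1)]
    (𝔉 : FSch.ModF 𝔛 h𝔛.1) (h𝔉 : FSch.IsCohF 𝔛 h𝔛.1 𝔉) (n : ℕ) :
    (∀ x : FSch.HF 𝔛 h𝔛.1 𝔉 n,
      (∀ k : ℕ, Sheaf.H.map ((SheafOfModules.toSheaf _).map ((FSch.levelMor 𝔛 h𝔛.1 k).adj.unit.app 𝔉)) n x = 0) → x = 0) ∧
    (∀ y : ∀ k : ℕ, FSch.HF 𝔛 h𝔛.1 ((FSch.levelMor 𝔛 h𝔛.1 k).push.obj ((FSch.levelMor 𝔛 h𝔛.1 k).pull.obj 𝔉)) n,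
      (∀ k : ℕ, Sheaf.H.map ((SheafOfModules.toSheaf _).map (FSch.levelTrans 𝔛 h𝔛.1 𝔉 k)) n (y (k + 1)) = y k) →
      ∃ x : FSch.HF 𝔛 h𝔛.1 𝔉 n, ∀ k : ℕ,
        Sheaf.H.map ((SheafOfModules.toSheaf _).map ((FSch.levelMor 𝔛 h𝔛.1 k).adj.unit.app 𝔉)) n x = y k) := by
  haveI := h𝔉
  have hb := GrothLib.FCoh7.bijective_toHLim h𝔛.1 f 𝔉 h𝔛 hf n
  refine ⟨fun x hx => hb.1 ((Subtype.ext (funext fun k => (hx k).trans ?_)).trans (map_zero _).symm), fun y hy => ?_⟩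
  · exact rfl
  · obtain ⟨x, hx⟩ := hb.2 ⟨y, fun k =>
      (congrArg (fun φ => Sheaf.H.map φ n (y (k + 1))) (GrothLib.FCoh7.lvTower_map_succ h𝔛.1 𝔉 k)).trans (hy k)⟩
    exact ⟨x, fun k => congrFun (congrArg Subtype.val hx) k⟩

end Groth.Agent.S13641
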