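import Groth.Statements.S13643
import Groth.Agent.S13637
import Groth.Agent.Lib.FMod7.Ideals


set_option autoImplicit false
open CategoryTheory
universe u
open FSch

namespace Groth.Agent.S13643

/-- Let f : 𝔛 ⟶ 𝔜 be a finite morphism of locally Noetherian formal schemes (adic, with finite morphism
of smallest levels). Then f_* O_𝔛 is a coherent O_𝔜-module. (The published statement says that f_*
O_𝔛 is a coherent O_𝔜-algebra; this row asserts coherence of the underlying O_𝔜-module only.) -/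
theorem result (𝔛 𝔜 : FSch.Sys.{u}) (h𝔛 : 𝔛.IsLocNoethFormal) (h𝔜 : 𝔜.IsLocNoethFormal)
    (f : 𝔛 ⟶ 𝔜) (hf : FSch.IsFiniteHom f) :
    FSch.IsCohF 𝔜 h𝔜.1 ((FSch.pushF f h𝔛.1 h𝔜.1).obj (FSch.unitF 𝔛 h𝔛.1)) := by
  haveI := GrothLib.SheafCoh.isGrothendieckAbelian_sheafOfModules (R := ModSite.ringSh (𝔛.Osh h𝔛.1))
  haveI : HasInjectiveResolutions (FSch.ModF 𝔛 h𝔛.1) := inferInstance
  haveI := hf.2
  have hproper : FSch.IsProperHom f := ⟨hf.1, inferInstance⟩
  classical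
  have hO : FSch.IsCohF 𝔛 h𝔛.1 (FSch.unitF 𝔛 h𝔛.1) := by
    choose P hP using fun U : (𝔛.X 0).affineOpens =>
      (fun h => GrothLib.FMod7.exists_presentation (FSch.unitF 𝔛 h𝔛.1) _ _ h.rel h.gen h.relGen)
        (GrothLib.FMod7.isPres_unit (h := h𝔛.1) U.1)
    let qd : SheafOfModules.QuasicoherentData.{u} (R := ModSite.ringSh (𝔛.Osh h𝔛.1)) (FSch.unitF 𝔛 h𝔛.1) :=
      { I := (𝔛.X 0).affineOpens
        X := fun U => U.1
        coversTop := (Opens.coversTop_iff _ fun U : (𝔛.X 0).affineOpens => U.1).2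
          (AlgebraicGeometry.iSup_affineOpens_eq_top _)
        presentation := P }
    haveI : qd.IsFinitePresentation := by constructor; intro i; exact hP i
    constructor
    exact ⟨qd, inferInstance⟩
  have h0 := Groth.Agent.S13637.result 𝔛 𝔜 h𝔛 h𝔜 f hproper (FSch.unitF 𝔛 h𝔛.1) hO 0
  haveI : Limits.PreservesFiniteLimits (FSch.pushF f h𝔛.1 h𝔜.1) := by
    have : Limits.PreservesLimitsOfSize.{0, 0} (FSch.pushF f h𝔛.1 h𝔜.1) :=
      (FSch.homMor f h𝔛.1 h𝔜.1).adj.rightAdjoint_preservesLimits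
    exact Limits.PreservesLimitsOfSize.preservesFiniteLimits.{0, 0} _
  let e := (FSch.pushF f h𝔛.1 h𝔜.1).rightDerivedZeroIsoSelf.app (FSch.unitF 𝔛 h𝔛.1)
  exact (SheafOfModules.isFinitePresentation.{u} (ModSite.ringSh (𝔜.Osh h𝔜.1))).prop_of_iso e h0

end Groth.Agent.S13643
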