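import Groth.Statements.S13644
import Groth.Agent.Lib.FMod7.Algz

set_option autoImplicit false
open CategoryTheory CategoryTheory.Limits AlgebraicGeometry
universe u
open FSch

namespace Groth.Agent.S13644

/-- Suppose A is a Noetherian ring that is adic with J as an ideal of definition, put Y = Spec A, and
take f : X ⟶ Y separated of finite type, with X̂ the completion of X along f⁻¹(V(J)). Say an
O_X̂-module is algebraizable if it is isomorphic to the completion of some coherent O_X-module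
having support proper over Y. Then, given any morphism u : 𝔉 ⟶ 𝔊 between algebraizable O_X̂-modules,
each of Ker(u), Im(u) and Coker(u) is again algebraizable. -/
theorem result (A : Type u) [CommRing A] [IsNoetherianRing A] (J : Ideal A) [IsAdicComplete J A]
    {X : Scheme.{u}} (f : X ⟶ Spec (CommRingCat.of A)) [IsSeparated f] [LocallyOfFiniteType f] [QuasiCompact f]
    (𝓘 : X.IdealSheafData) (h𝓘 : 𝓘 = (FSch.idealSpec A J).comap f)
    (hX : (FSch.completionAlong X 𝓘).IsFormal)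
    (𝔉 𝔊 : FSch.ModF (FSch.completionAlong X 𝓘) hX)
    (h𝔉 : (∃ G : X.Modules, Coh.IsCoh G ∧ ClSub.IsProperOver f (CohB1.support G) ∧
        Nonempty (𝔉 ≅ (FSch.complMod 𝓘 G).realMod hX)))
    (h𝔊 : (∃ G : X.Modules, Coh.IsCoh G ∧ ClSub.IsProperOver f (CohB1.support G) ∧
        Nonempty (𝔊 ≅ (FSch.complMod 𝓘 G).realMod hX))) (u : 𝔉 ⟶ 𝔊) :
    (∃ G : X.Modules, Coh.IsCoh G ∧ ClSub.IsProperOver f (CohB1.support G) ∧
        Nonempty (kernel u ≅ (FSch.complMod 𝓘 G).realMod hX)) ∧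
    (∃ G : X.Modules, Coh.IsCoh G ∧ ClSub.IsProperOver f (CohB1.support G) ∧
        Nonempty (Abelian.image u ≅ (FSch.complMod 𝓘 G).realMod hX)) ∧
    (∃ G : X.Modules, Coh.IsCoh G ∧ ClSub.IsProperOver f (CohB1.support G) ∧
        Nonempty (cokernel u ≅ (FSch.complMod 𝓘 G).realMod hX)) := by
  letI : X.Over (Spec (CommRingCat.of A)) := ⟨f⟩
  haveI : IsSeparated (X ↘ Spec (CommRingCat.of A)) := ‹IsSeparated f›
  haveI : LocallyOfFiniteType (X ↘ Spec (CommRingCat.of A)) := ‹LocallyOfFiniteType f›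
  haveI : QuasiCompact (X ↘ Spec (CommRingCat.of A)) := ‹QuasiCompact f›
  haveI := LocallyOfFiniteType.isLocallyNoetherian f
  obtain ⟨F, hF, hFs, ⟨e⟩⟩ := h𝔉
  obtain ⟨G, hG, hGs, ⟨e'⟩⟩ := h𝔊
  obtain ⟨φ, hφ⟩ := (GrothLib.FMod7.hatMap_bijective J hX h𝓘 hF hG hFs).2 (e.inv ≫ u ≫ e'.hom)
  replace hφ : GrothLib.FMod7.hatMap hX φ = e.inv ≫ u ≫ e'.hom := hφ
  have hu : u = e.hom ≫ GrothLib.FMod7.hatMap hX φ ≫ e'.inv := by simp [hφ]
  have hpF : GrothLib.FormalExist7.properP A F := GrothLib.FormalExist7.properP_of_properSupp hFs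
  have hpG : GrothLib.FormalExist7.properP A G := GrothLib.FormalExist7.properP_of_properSupp hGs
  have hK := GrothLib.QCoh.isCoh_kernel φ hF hG
  have hI := GrothLib.FMod7.isCoh_image hF hG φ
  have hC := GrothLib.QCoh.isCoh_cokernel φ hF hG
  refine ⟨⟨kernel φ, hK, GrothLib.FormalExist7.properSupp_of_properP hK
    (GrothLib.FormalExist7.properP_mono A (kernel.ι φ) hpF), ?_⟩,
    ⟨Abelian.image φ, hI, GrothLib.FormalExist7.properSupp_of_properP hI
    (GrothLib.FormalExist7.properP_mono A (Abelian.image.ι φ) hpG), ?_⟩,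
    ⟨cokernel φ, hC, GrothLib.FormalExist7.properSupp_of_properP hC
    (GrothLib.FormalExist7.properP_epi A (cokernel.π φ) hpG), ?_⟩⟩
  · obtain ⟨k⟩ := GrothLib.FMod7.nonempty_kernel_hatMap hX hF hG φ
    exact ⟨kernel.mapIso u (GrothLib.FMod7.hatMap hX φ) e e' (by simp [hφ]) ≪≫ k⟩
  · obtain ⟨k⟩ := GrothLib.FMod7.nonempty_image_hatMap hX hF hG φ
    exact ⟨kernel.mapIso (cokernel.π u) (cokernel.π (GrothLib.FMod7.hatMap hX φ)) e'
      (cokernel.mapIso u (GrothLib.FMod7.hatMap hX φ) e e' (by simp [hφ])) (by simp) ≪≫ k⟩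
  · obtain ⟨k⟩ := GrothLib.FMod7.nonempty_cokernel_hatMap hX hF hG φ
    exact ⟨cokernel.mapIso u (GrothLib.FMod7.hatMap hX φ) e e' (by simp [hφ]) ≪≫ k⟩

end Groth.Agent.S13644
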