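import Groth.Statements.S13648
import Groth.Agent.Lib.FCoh7.RpushCompl


set_option autoImplicit false
open CategoryTheory CategoryTheory.Limits AlgebraicGeometry
universe u
open FSch

namespace Groth.Agent.S13648

/-- Let f : X ⟶ Y be a proper morphism of Noetherian schemes, 𝓘 an ideal of O_Y defining a closed subset
Y', 𝓚 = 𝓘 O_X its inverse image, Ŷ and X̂ the completions along Y' and f⁻¹(Y'), f̂ : X̂ ⟶ Ŷ the
extension of f, j : Ŷ ⟶ Y and i : X̂ ⟶ X the canonical morphisms of ringed spaces, and F a coherent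
O_X-module, so that F̂ = i^* F. Then for every n the completion (R^n f_* F)^ = j^*(R^n f_* F) is
isomorphic to R^n f̂_*(F̂) as an O_Ŷ-module. Only the existence of an isomorphism is asserted; the
published statement asserts that the canonical base-change morphism ρ_n of the square is an
isomorphism, moreover a homeomorphism. -/
theorem result (X Y : Scheme.{u}) [IsNoetherian X]
    [IsNoetherian Y] (f : X ⟶ Y) [IsProper f] (𝓘 : Y.IdealSheafData) (𝓚 : X.IdealSheafData)
    (h𝓚 : 𝓚 = 𝓘.comap f) (hpc : FSch.PowCompat f 𝓚 𝓘) (hX : (FSch.completionAlong X 𝓚).IsFormal)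
    (hY : (FSch.completionAlong Y 𝓘).IsFormal) [HasInjectiveResolutions X.Modules]
    [HasInjectiveResolutions (FSch.ModF (FSch.completionAlong X 𝓚) hX)] (F : X.Modules) (hF : Coh.IsCoh F)
    (n : ℕ) :
    Nonempty ((FSch.toSchemeMor (FSch.completionAlong Y 𝓘) hY (FSch.completionToX Y 𝓘) (FSch.completionToX_comm Y 𝓘)).pull.obj ((Coh.Rpush f n).obj F) ≅
      (FSch.RpushF (FSch.completionMap f 𝓚 𝓘 hpc) hX hY n).obj ((FSch.toSchemeMor (FSch.completionAlong X 𝓚) hX (FSch.completionToX X 𝓚) (FSch.completionToX_comm X 𝓚)).pull.obj F)) := by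
  subst h𝓚
  exact GrothLib.FCoh7.nonempty_rpush_completion_iso f 𝓘 hpc hX hY F hF n

end Groth.Agent.S13648
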