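import Groth.Statements.S13662
import Groth.Agent.Lib.IntBlow7.Main

set_option autoImplicit false
open CategoryTheory AlgebraicGeometry
open scoped TensorProduct
universe u
open FBlow

namespace Groth.Agent.S13662

/-- Let R be a complete valuation ring of height one with t a nonzero element generating an ideal of
definition and K its field of fractions, A an admissible R-algebra, f_1, …, f_n elements of A ⊗_R K
that are integral over A, c a nonzero element of R and g_1, …, g_n elements of A with g_i = c f_i in
A ⊗_R K; put A' = A[f_1, …, f_n] ⊂ A ⊗_R K and 𝔞 = (c, g_1, …, g_n) ⊂ A, and present Spf A and Spf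
A' as the formal systems (Spec A/(t)^(m+1))_m and (Spec A'/(t)^(m+1))_m. Then the morphism Spf A' →
Spf A induced by the inclusion A ⊂ A' is the admissible formal blowing-up of the ideal 𝔞·O_{Spf A}
in the sense of the universal property: it is adic, 𝔞 generates an invertible ideal of O_{Spf A'},
and every adic morphism of formal systems Y → Spf A under which 𝔞 generates an invertible ideal of
O_Y factors through Spf A' → Spf A in exactly one way. (The published hypothesis on the f_i is that
their supremum seminorm on the affinoid algebra A ⊗_R K is at most 1; integrality over A is what is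
derived from it and used, and is taken as the hypothesis here.) -/
theorem result
    (R : Type u) [CommRing R] [IsDomain R] [ValuationRing R] [Ring.KrullDimLE 1 R]
    (t : R) (ht : t ≠ 0) [IsAdicComplete (Ideal.span {t}) R]
    (A : Type u) [CommRing A] [Algebra R A] (hA : AdicRing.Admissible R (Ideal.span {t}) A)
    (n : ℕ) (f : Fin n → A ⊗[R] FractionRing R) (hf : ∀ i, IsIntegral A (f i))
    (c : R) (hc : c ≠ 0) (g : Fin n → A)
    (hg : ∀ i, algebraMap A (A ⊗[R] FractionRing R) (g i) = c • f i)
    (hX : (FSch.spf A ((Ideal.span {t}).map (algebraMap R A))).IsFormal) (h' : (FSch.spf ↥(Algebra.adjoin A (Set.range f)) ((Ideal.span {t}).map (algebraMap R ↥(Algebra.adjoin A (Set.range f))))).IsFormal)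
    (hle : ((Ideal.span {t}).map (algebraMap R A)) ≤ ((Ideal.span {t}).map (algebraMap R ↥(Algebra.adjoin A (Set.range f)))).comap (algebraMap A ↥(Algebra.adjoin A (Set.range f)))) :
    FBlow.IsAdmBlowUp (FSch.spfMap ((Ideal.span {t}).map (algebraMap R ↥(Algebra.adjoin A (Set.range f)))) ((Ideal.span {t}).map (algebraMap R A)) (algebraMap A ↥(Algebra.adjoin A (Set.range f))) hle) h' hX
      (FBlow.schIdealMap (FSch.spf A ((Ideal.span {t}).map (algebraMap R A))) hX (FSch.spfToSpec A ((Ideal.span {t}).map (algebraMap R A))) (FSch.spfToSpec_comm A ((Ideal.span {t}).map (algebraMap R A)))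
        (FBlow.IdealSh.ofData (FSch.idealSpec A (Ideal.span (insert (algebraMap R A c) (Set.range g)))))) := by
  have htu : ¬ IsUnit t := fun h => by
    have h1 : IsHausdorff (Ideal.span {t}) R := IsAdicComplete.toIsHausdorff
    refine one_ne_zero (α := R) (h1.haus' 1 fun k => ?_)
    rw [SModEq.zero, Ideal.span_singleton_eq_top.2 h, Ideal.top_pow]
    simp
  have key : ∀ a : R, a ≠ 0 → ∃ (N : ℕ) (a' : R), a' * a = t ^ N := fun a ha0 => by
    have hrad : t ∈ (Ideal.span {a}).radical := by
      rw [Ideal.radical_eq_sInf]
      refine Submodule.mem_sInf.2 fun P ⟨hcP, hP⟩ => ?_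
      have hne : P ≠ ⊥ := fun h => ha0 (by
        have := hcP (Ideal.mem_span_singleton_self a)
        rwa [h, Submodule.mem_bot] at this)
      have hmax : Ideal.IsMaximal P := (Ring.krullDimLE_one_iff_of_noZeroDivisors.1 inferInstance) P hne hP
      rw [IsLocalRing.eq_maximalIdeal hmax]
      exact (IsLocalRing.mem_maximalIdeal t).2 htu
    obtain ⟨N, hN⟩ := hrad
    exact ⟨N, Ideal.mem_span_singleton'.1 hN⟩
  obtain ⟨N, c', hc'⟩ := key c hc
  have hle0 : Algebra.algebraMapSubmonoid A (nonZeroDivisors R) ≤ nonZeroDivisors A := by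
    rintro _ ⟨a, ha, rfl⟩
    refine mem_nonZeroDivisors_iff_right.2 fun x hx => ?_
    have ha0 : a ≠ 0 := nonZeroDivisors.ne_zero ha
    obtain ⟨M, a', ha'⟩ := key a ha0
    refine hA.2 x M fun b hb => ?_
    rw [Ideal.span_singleton_pow, Ideal.mem_span_singleton] at hb
    obtain ⟨w, rfl⟩ := hb
    rw [← ha', Algebra.smul_def, map_mul, map_mul]
    calc algebraMap R A a' * algebraMap R A a * algebraMap R A w * x
        = algebraMap R A a' * algebraMap R A w * (x * algebraMap R A a) := by ring
      _ = 0 := by rw [hx, mul_zero]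
  have hinj : Function.Injective (algebraMap A (A ⊗[R] FractionRing R)) :=
    IsLocalization.injective _ hle0
  refine GrothLib.IntBlow7.isAdmBlowUp' (t := algebraMap R A t) (c := algebraMap R A c) (c₀ := algebraMap R A c')
    (N₀ := N) hinj ?_ ?_ f g (fun i => ?_) hf _ _ ?_ ?_ hX h' hle
  · exact IsLocalization.map_units (M := Algebra.algebraMapSubmonoid A (nonZeroDivisors R)) _
      ⟨_, t, mem_nonZeroDivisors_of_ne_zero ht, rfl⟩
  · rw [← map_mul, hc', map_pow]
  · exact (hg i).trans ((Algebra.smul_def c (f i)).trans (congrArg (· * f i) (IsScalarTower.algebraMap_apply R A (A ⊗[R] FractionRing R) c)))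
  · rw [Ideal.map_span, Set.image_singleton]
  · rw [Ideal.map_span, Set.image_singleton, ← IsScalarTower.algebraMap_apply R A]

end Groth.Agent.S13662
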