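import Groth.Statements.S13663
import Mathlib

set_option autoImplicit false
universe u
open GrRing

namespace Groth.Agent.S13663

/-- Let A be a commutative ring graded by the integers whose ideal generated by the homogeneous elements
of positive degree has homogeneous generators f_1, …, f_p, of positive degrees d_1, …, d_p, and let
d be a positive integer divisible by each d_i. Then A_N = A_d · A_{N-d} for every integer N > dp -
(d_1 + ⋯ + d_p). -/
theorem result {R A : Type u} [CommRing R] [CommRing A] [Algebra R A]
    (𝒜 : ℤ → Submodule R A) [GradedAlgebra 𝒜]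
    {p : ℕ} (f : Fin p → A) (deg : Fin p → ℤ) (hdeg : ∀ i, 0 < deg i) (hf : ∀ i, f i ∈ 𝒜 (deg i))
    (hgen : Ideal.span {a : A | ∃ n : ℤ, 0 < n ∧ a ∈ 𝒜 n} = Ideal.span (Set.range f))
    (d : ℤ) (hd : 0 < d) (hdvd : ∀ i, deg i ∣ d) (N : ℤ) (hN : d * p - ∑ i, deg i < N) :
    𝒜 N = 𝒜 d * 𝒜 (N - d) := by
  classical
  let q : Fin p → ℕ := fun i => (d / deg i).toNat
  have hq : ∀ i, (q i : ℤ) * deg i = d ∧ 0 < q i := fun i => by
    have h1 : d / deg i * deg i = d := Int.ediv_mul_cancel (hdvd i)
    have h2 : 0 < d / deg i := by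
      by_contra h
      have := mul_nonpos_of_nonpos_of_nonneg (not_lt.1 h) (hdeg i).le
      omega
    refine ⟨?_, by simp only [q]; omega⟩
    simp only [q]; rw [Int.toNat_of_nonneg h2.le, h1]
  refine le_antisymm ?_ (Submodule.mul_le.2 fun x hx y hy => by
    have := SetLike.mul_mem_graded hx hy
    rwa [add_sub_cancel] at this)
  -- monomial induction
  suffices H : ∀ (M : ℕ) (e : Fin p → ℕ), ∑ i, (q i - 1 - e i) = M → (∀ i, e i < q i) →
      ∀ r ∈ 𝒜 (N - ∑ i, (e i : ℤ) * deg i), r * ∏ i, f i ^ e i ∈ 𝒜 d * 𝒜 (N - d) by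
    intro a ha
    have := H _ (fun _ => 0) rfl (fun i => (hq i).2) a (by simpa using ha)
    simpa using this
  intro M
  induction M using Nat.strong_induction_on with
  | _ M ih =>
    intro e hM he r hr
    set n := N - ∑ i, (e i : ℤ) * deg i with hn
    have hle : ∑ i, (e i : ℤ) * deg i ≤ ∑ i : Fin p, (d - deg i) := by
      refine Finset.sum_le_sum fun i _ => ?_
      have : (e i : ℤ) ≤ (q i : ℤ) - 1 := by have := he i; omega
      calc (e i : ℤ) * deg i ≤ ((q i : ℤ) - 1) * deg i := mul_le_mul_of_nonneg_right this (hdeg i).le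
        _ = d - deg i := by rw [sub_mul, (hq i).1, one_mul]
    rw [Finset.sum_sub_distrib, Finset.sum_const, Finset.card_univ, Fintype.card_fin, nsmul_eq_mul] at hle
    have hpos : 0 < n := by rw [mul_comm] at hN; omega
    have hmem : r ∈ Ideal.span (Set.range f) := hgen ▸ Ideal.subset_span ⟨n, hpos, hr⟩
    obtain ⟨c, hc⟩ := Submodule.mem_span_range_iff_exists_fun A |>.1 hmem
    have hr' : r = ∑ j, (DirectSum.decompose 𝒜 (c j) (n - deg j) : A) * f j := by
      conv_lhs => rw [← DirectSum.decompose_of_mem_same 𝒜 hr, ← hc, DirectSum.decompose_sum,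
        DFinsupp.finsetSum_apply, AddSubmonoidClass.coe_finsetSum]
      refine Finset.sum_congr rfl fun j _ => ?_
      have h := DirectSum.coe_decompose_mul_add_of_right_mem (𝒜 := 𝒜) (a := c j) (i := n - deg j) (hf j)
      rwa [sub_add_cancel] at h
    rw [hr', Finset.sum_mul]
    refine Submodule.sum_mem _ fun j _ => ?_
    set e' := Function.update e j (e j + 1) with he'
    have hprod : f j * ∏ i, f i ^ e i = ∏ i, f i ^ e' i := by
      rw [← Finset.mul_prod_erase _ _ (Finset.mem_univ j), ← Finset.mul_prod_erase _ (fun i => f i ^ e' i)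
        (Finset.mem_univ j), he', Function.update_self, pow_succ', mul_assoc]
      congr 2
      exact Finset.prod_congr rfl fun i hi => by rw [Function.update_of_ne (Finset.mem_erase.1 hi).1]
    have hdeg' : ∑ i, (e' i : ℤ) * deg i = ∑ i, (e i : ℤ) * deg i + deg j := by
      rw [← Finset.add_sum_erase _ _ (Finset.mem_univ j), ← Finset.add_sum_erase _ (fun i => (e i : ℤ) * deg i)
        (Finset.mem_univ j), he', Function.update_self]
      rw [Finset.sum_congr rfl (fun i hi => by rw [Function.update_of_ne (Finset.mem_erase.1 hi).1])]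
      push_cast; ring
    have hcmem : (DirectSum.decompose 𝒜 (c j) (n - deg j) : A) ∈ 𝒜 (N - ∑ i, (e' i : ℤ) * deg i) := by
      rw [hdeg', ← sub_sub, ← hn]; exact SetLike.coe_mem _
    rw [mul_assoc, hprod]
    by_cases hj : e j + 1 < q j
    · refine ih _ ?_ e' rfl (fun i => ?_) _ hcmem
      · rw [← hM]
        refine Finset.sum_lt_sum (fun i _ => ?_) ⟨j, Finset.mem_univ j, by rw [he', Function.update_self]; omega⟩
        rcases eq_or_ne i j with rfl | hij
        · rw [he', Function.update_self]; omega
        · rw [he', Function.update_of_ne hij]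
      · rcases eq_or_ne i j with rfl | hij
        · rw [he', Function.update_self]; exact hj
        · rw [he', Function.update_of_ne hij]; exact he i
    · have hej : e' j = q j := by
        rw [he', Function.update_self]; have := he j; omega
      rw [← Finset.mul_prod_erase _ _ (Finset.mem_univ j), hej, mul_left_comm]
      refine Submodule.mul_mem_mul ?_ ?_
      · have h := SetLike.pow_mem_graded (q j) (hf j)
        rwa [nsmul_eq_mul, (hq j).1] at h
      · have h := SetLike.mul_mem_graded hcmem (SetLike.prod_pow_mem_graded 𝒜 deg f (F := Finset.univ.erase j) e' (fun i _ => hf i))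
        convert h using 2
        simp only [nsmul_eq_mul]
        rw [← Finset.add_sum_erase _ _ (Finset.mem_univ j), hej, (hq j).1]
        ring

end Groth.Agent.S13663
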