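import Groth.Statements.S13664
import Mathlib
import Groth.Agent.S13663

set_option autoImplicit false
universe u
open GrRing

namespace Groth.Agent.S13664

/-- Let A be a commutative ring graded by the integers whose ideal I generated by the homogeneous
elements of positive degree has homogeneous generators f_1, …, f_p, of positive degrees d_1, …, d_p,
let d be a positive integer divisible by each d_i, and let x be an element of an A-module M. The
following are equivalent: x is annihilated by some power of I; x is annihilated by (A_d)^n for all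
sufficiently large n; there is an integer s such that A_n x = 0 for all n ≥ s. (The published
statement is for a homogeneous element of a graded module; this row drops both the grading of M and
the homogeneity of x, which play no role.) -/
theorem result {R A : Type u} [CommRing R] [CommRing A] [Algebra R A]
    (𝒜 : ℤ → Submodule R A) [GradedAlgebra 𝒜]
    {p : ℕ} (f : Fin p → A) (deg : Fin p → ℤ) (hdeg : ∀ i, 0 < deg i) (hf : ∀ i, f i ∈ 𝒜 (deg i))
    (hgen : Ideal.span {a : A | ∃ n : ℤ, 0 < n ∧ a ∈ 𝒜 n} = Ideal.span (Set.range f))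
    (d : ℤ) (hd : 0 < d) (hdvd : ∀ i, deg i ∣ d)
    {M : Type u} [AddCommGroup M] [Module A M] (x : M) :
    [x ∈ GrLC.gam (Ideal.span (Set.range f)) M,
     ∃ n₀ : ℕ, ∀ n : ℕ, n₀ ≤ n → ∀ r ∈ (𝒜 d) ^ n, r • x = 0,
     ∃ s : ℤ, ∀ n : ℤ, s ≤ n → ∀ r ∈ 𝒜 n, r • x = 0].TFAE := by
  classical
  set I := Ideal.span (Set.range f) with hI
  have hdI : ∀ r ∈ 𝒜 d, r ∈ I := fun r hr => hgen ▸ Ideal.subset_span ⟨d, hd, hr⟩
  tfae_have 1 → 3 := by
    rintro ⟨n, hn⟩
    have key : ∀ j : ℕ, ∀ N : ℤ, |d * p - ∑ i, deg i| + j * d < N → ∀ r ∈ 𝒜 N, r ∈ I ^ j := by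
      intro j
      induction j with
      | zero => intro N _ r _; simp
      | succ j ih =>
        intro N hN r hr
        have hle := le_abs_self (d * p - ∑ i, deg i)
        have h2 : (0 : ℤ) ≤ (j : ℤ) * d := mul_nonneg (by positivity) hd.le
        push_cast at hN
        rw [add_mul, one_mul] at hN
        rw [Groth.Agent.S13663.result 𝒜 f deg hdeg hf hgen d hd hdvd N (by omega)] at hr
        induction hr using Submodule.mul_induction_on' with
        | mem_mul_mem a ha b hb =>
          rw [pow_succ']
          exact Ideal.mul_mem_mul (hdI a ha) (ih (N - d) (by omega) b hb)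
        | add x _ y _ hx hy => exact (I ^ (j + 1)).add_mem hx hy
    exact ⟨|d * p - ∑ i, deg i| + n * d + 1, fun N hN r hr => hn r (key n N (by omega) r hr)⟩
  tfae_have 3 → 2 := by
    rintro ⟨s, hs⟩
    refine ⟨s.toNat, fun n hn r hr => hs (n • d) ?_ r ?_⟩
    · rw [nsmul_eq_mul]
      nlinarith [Int.self_le_toNat s, (show (s.toNat : ℤ) ≤ n by exact_mod_cast hn)]
    · have : (𝒜 d) ^ n ≤ 𝒜 (n • d) := by
        clear hn hr
        induction n with
        | zero =>
          rw [pow_zero, zero_nsmul, Submodule.one_le]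
          exact SetLike.one_mem_graded 𝒜
        | succ n ih =>
          rw [pow_succ, succ_nsmul]
          exact Submodule.mul_le.2 fun a ha b hb => SetLike.mul_mem_graded (ih ha) hb
      exact this hr
  tfae_have 2 → 1 := by
    rintro ⟨n₀, h⟩
    let J : Ideal A := Ideal.torsionOf A M x
    obtain ⟨n, hn⟩ := Ideal.exists_pow_le_of_le_radical_of_fg (I := I) (J := J)
      (Ideal.span_le.2 <| by
        rintro _ ⟨i, rfl⟩
        refine ⟨(d / deg i).toNat * n₀, ?_⟩
        rw [Ideal.mem_torsionOf_iff, pow_mul]
        refine h n₀ le_rfl _ (Submodule.pow_mem_pow _ ?_ n₀)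
        have := SetLike.pow_mem_graded (d / deg i).toNat (hf i)
        rwa [nsmul_eq_mul, Int.toNat_of_nonneg (Int.ediv_nonneg hd.le (hdeg i).le),
          Int.ediv_mul_cancel (hdvd i)] at this)
      (Submodule.fg_span (Set.finite_range f))
    exact ⟨n, fun r hr => (Ideal.mem_torsionOf_iff _ _).1 (hn hr)⟩
  tfae_finish

end Groth.Agent.S13664
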