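import Groth.Statements.S13665
import Mathlib

set_option autoImplicit false
universe u
open GrRing

namespace Groth.Agent.S13665

open DirectSum

variable {R A : Type u} [CommRing R] [CommRing A] [Algebra R A] (𝒜 : ℤ → Submodule R A)
  [GradedAlgebra 𝒜]

/-- a homogeneous element of the ideal generated by finitely many homogeneous elements -/
lemma mem_sum (s : Finset A) (d : A → ℤ) (hd : ∀ x ∈ s, x ∈ 𝒜 (d x)) {n : ℤ} {a : A}
    (ha : a ∈ 𝒜 n) (hs : a ∈ Ideal.span (s : Set A)) :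
    ∃ b : A → A, (∀ x ∈ s, b x ∈ 𝒜 (n - d x)) ∧ a = ∑ x ∈ s, b x * x := by
  rw [Ideal.span, Submodule.mem_span_finset] at hs
  obtain ⟨c, -, hc⟩ := hs
  refine ⟨fun x => decompose 𝒜 (c x) (n - d x), fun x _ => SetLike.coe_mem _, ?_⟩
  conv_lhs => rw [← decompose_of_mem_same 𝒜 ha, ← hc]
  rw [decompose_sum, DFinsupp.finsetSum_apply, AddSubmonoidClass.coe_finsetSum]
  refine Finset.sum_congr rfl fun x hx => ?_
  have h := coe_decompose_mul_add_of_right_mem 𝒜 (a := c x) (i := n - d x) (hd x hx)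
  rwa [sub_add_cancel] at h

lemma fg_span_homogeneous (h2 : ∀ I : Ideal A, I.IsHomogeneous 𝒜 → I.FG) (S : Set A)
    (hS : ∀ x ∈ S, SetLike.IsHomogeneousElem 𝒜 x) :
    ∃ s : Finset A, (s : Set A) ⊆ S ∧ Ideal.span (s : Set A) = Ideal.span S :=
  ((Submodule.fg_span_iff_fg_span_finset_subset S).1
    (h2 _ (Ideal.homogeneous_span 𝒜 S hS))).imp fun _ h => ⟨h.1, h.2.symm⟩

lemma isNoetherianRing_zero (h2 : ∀ I : Ideal A, I.IsHomogeneous 𝒜 → I.FG) :
    IsNoetherianRing (𝒜 0) := by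
  classical
  rw [isNoetherianRing_iff_ideal_fg]
  intro J
  obtain ⟨s, hs, hspan⟩ := fg_span_homogeneous 𝒜 h2 (Subtype.val '' (J : Set (𝒜 0)))
    (by rintro _ ⟨x, -, rfl⟩; exact ⟨0, x.2⟩)
  rw [Finset.subset_set_image_iff] at hs
  obtain ⟨t, ht, rfl⟩ := hs
  refine ⟨t, le_antisymm (Submodule.span_le.2 ht) fun x hx => ?_⟩
  obtain ⟨b, hb, hxb⟩ := mem_sum 𝒜 (t.image Subtype.val) (fun _ => 0) (fun y hy => by
    obtain ⟨y, -, rfl⟩ := Finset.mem_image.1 hy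
    exact y.2) x.2 (by rw [hspan]; exact Ideal.subset_span ⟨x, hx, rfl⟩)
  simp only [sub_zero] at hb
  have : x = ∑ y ∈ t.attach, (⟨b (y.1 : A), hb _ (Finset.mem_image_of_mem _ y.2)⟩ : 𝒜 0) * y.1 := by
    apply Subtype.ext
    rw [hxb, Finset.sum_image Subtype.val_injective.injOn, AddSubmonoidClass.coe_finsetSum,
      ← Finset.sum_attach]
    rfl
  rw [this]
  exact sum_mem fun y _ => Ideal.mul_mem_left _ _ (Submodule.subset_span y.2)

lemma fg_adjoin (h2 : ∀ I : Ideal A, I.IsHomogeneous 𝒜 → I.FG) (σ : ℤ) :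
    (Algebra.adjoin (𝒜 0) {a : A | ∃ n : ℕ, a ∈ 𝒜 (σ * n)}).FG := by
  classical
  obtain ⟨s, hs, hspan⟩ := fg_span_homogeneous 𝒜 h2 {a : A | ∃ n : ℕ, 0 < n ∧ a ∈ 𝒜 (σ * n)}
    (fun x ⟨n, _, hx⟩ => ⟨σ * n, hx⟩)
  have hdeg : ∀ x, ∃ n : ℕ, x ∈ s → 0 < n ∧ x ∈ 𝒜 (σ * n) := fun x => by
    by_cases hx : x ∈ s
    · exact (hs hx).imp fun n hn _ => hn
    · exact ⟨0, fun h => absurd h hx⟩
  choose d hd using hdeg
  set D := s.sup d with hD
  -- the graded pieces are finite over degree zero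
  have hlow : ∀ n : ℕ, ∃ t : Finset A, (t : Set A) ⊆ (𝒜 (σ * n) : Set A) ∧
      Ideal.span (t : Set A) = Ideal.span (𝒜 (σ * n) : Set A) := fun n =>
    fg_span_homogeneous 𝒜 h2 _ fun x hx => ⟨_, hx⟩
  choose t ht htspan using hlow
  set T : Finset A := s ∪ (Finset.range (D + 1)).biUnion t with hT
  refine ⟨T, le_antisymm (Algebra.adjoin_le fun x hx => ?_) (Algebra.adjoin_le ?_)⟩
  · refine Algebra.subset_adjoin ?_
    rcases Finset.mem_union.1 hx with h | h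
    · exact ⟨d x, (hd x h).2⟩
    · obtain ⟨n, -, hn⟩ := Finset.mem_biUnion.1 h
      exact ⟨n, ht n hn⟩
  rintro a ⟨n, ha⟩
  show a ∈ Algebra.adjoin (𝒜 0) (T : Set A)
  induction n using Nat.strong_induction_on generalizing a with
  | _ n ih =>
    by_cases hn : n ≤ D
    · obtain ⟨b, hb, hab⟩ := mem_sum 𝒜 (t n) (fun _ => σ * n) (fun x hx => ht n hx) ha
        (by rw [htspan]; exact Ideal.subset_span ha)
      simp only [sub_self] at hb
      rw [hab]
      refine sum_mem fun x hx => mul_mem ?_ (Algebra.subset_adjoin ?_)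
      · exact Subalgebra.algebraMap_mem (Algebra.adjoin (𝒜 0) (T : Set A)) ⟨b x, hb x hx⟩
      · exact Finset.mem_union_right _
          (Finset.mem_biUnion.2 ⟨n, Finset.mem_range.2 (by omega), hx⟩)
    · obtain ⟨b, hb, hab⟩ := mem_sum 𝒜 s (fun x => σ * d x) (fun x hx => (hd x hx).2) ha
        (by rw [hspan]; exact Ideal.subset_span ⟨n, by omega, ha⟩)
      rw [hab]
      refine sum_mem fun x hx => mul_mem (ih (n - d x) ?_ ?_)
        (Algebra.subset_adjoin (Finset.mem_union_left _ hx))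
      · have := (hd x hx).1
        omega
      · have h1 : d x ≤ D := Finset.le_sup hx
        have := hb x hx
        rwa [← mul_sub, ← Nat.cast_sub (by omega)] at this

/-- For a commutative ring A graded by the integers, with degree-zero subring A_0, the following are
equivalent: A is Noetherian; each homogeneous ideal of A has a finite generating set; A_0 is
Noetherian and the subalgebras A_{≥0}, A_{≤0} are each of finite type over A_0; A_0 is Noetherian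
and A is an A_0-algebra of finite type. -/
theorem result {R A : Type u} [CommRing R] [CommRing A] [Algebra R A]
    (𝒜 : ℤ → Submodule R A) [GradedAlgebra 𝒜] :
    [IsNoetherianRing A,
     ∀ I : Ideal A, I.IsHomogeneous 𝒜 → I.FG,
     IsNoetherianRing (𝒜 0) ∧ (Algebra.adjoin (𝒜 0) {a : A | ∃ n : ℤ, 0 ≤ n ∧ a ∈ 𝒜 n}).FG ∧
       (Algebra.adjoin (𝒜 0) {a : A | ∃ n : ℤ, n ≤ 0 ∧ a ∈ 𝒜 n}).FG,
     IsNoetherianRing (𝒜 0) ∧ Algebra.FiniteType (𝒜 0) A].TFAE := by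
  classical
  tfae_have 1 → 2 := fun _ I _ => IsNoetherian.noetherian I
  tfae_have 2 → 3 := fun h2 => by
    refine ⟨isNoetherianRing_zero 𝒜 h2, ?_, ?_⟩
    · convert fg_adjoin 𝒜 h2 1 using 4 with a
      exact ⟨fun ⟨n, hn, ha⟩ => ⟨n.toNat, by rwa [one_mul, Int.toNat_of_nonneg hn]⟩,
        fun ⟨n, ha⟩ => ⟨n, Int.natCast_nonneg n, by simpa using ha⟩⟩
    · convert fg_adjoin 𝒜 h2 (-1) using 4 with a
      exact ⟨fun ⟨n, hn, ha⟩ => ⟨(-n).toNat, by
          rwa [neg_one_mul, Int.toNat_of_nonneg (by omega), neg_neg]⟩,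
        fun ⟨n, ha⟩ => ⟨-(n : ℤ), by omega, by simpa using ha⟩⟩
  tfae_have 3 → 4 := fun ⟨h0, ⟨s, hs⟩, ⟨t, ht⟩⟩ => by
    refine ⟨h0, ⟨⟨s ∪ t, eq_top_iff.2 fun a _ => ?_⟩⟩⟩
    rw [← DirectSum.sum_support_decompose 𝒜 a]
    refine sum_mem fun n _ => ?_
    rw [Finset.coe_union, Algebra.adjoin_union, hs, ht]
    rcases le_total 0 n with hn | hn
    · exact (le_sup_left : _ ≤ Algebra.adjoin (𝒜 0) {a : A | ∃ n : ℤ, 0 ≤ n ∧ a ∈ 𝒜 n} ⊔ _)
        (Algebra.subset_adjoin ⟨n, hn, SetLike.coe_mem _⟩)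
    · exact (le_sup_right : _ ≤ _ ⊔ Algebra.adjoin (𝒜 0) {a : A | ∃ n : ℤ, n ≤ 0 ∧ a ∈ 𝒜 n})
        (Algebra.subset_adjoin ⟨n, hn, SetLike.coe_mem _⟩)
  tfae_have 4 → 1 := fun ⟨h0, h⟩ => Algebra.FiniteType.isNoetherianRing (𝒜 0) A
  tfae_finish

end Groth.Agent.S13665
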