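import Groth.Statements.S13682
import Mathlib.LinearAlgebra.Multilinear.Basic
import Mathlib.LinearAlgebra.Pi
import Mathlib.LinearAlgebra.Finsupp.LinearCombination
import Mathlib.Algebra.Module.BigOperators
import Mathlib.Algebra.GroupWithZero.NonZeroDivisors
import Mathlib.Algebra.BigOperators.Fin
-- import your own Groth.Agent.* helpers here

set_option autoImplicit false
universe u v w
open scoped BigOperators
open BTGrp

namespace Groth.Agent.S13682

/-- Let A be a commutative ring, α ∈ A a non-zero-divisor, M_1, …, M_r and N modules over A and φ : M_1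
× ⋯ × M_r → N an A-multilinear map. Let n be a natural number and let y_{i,j} (j < n) and w_{i,j} (j
≤ n) be elements of M_i with w_{i,j+1} = w_{i,j} + α y_{i,j} for all i and all j < n. Then Σ_i
Σ_{j<n} φ(w_{1,j+1}, …, w_{i-1,j+1}, y_{i,j}, w_{i+1,j}, …, w_{r,j}) = Σ_i Σ_{j<n} φ(w_{1,n}, …,
w_{i-1,n}, y_{i,j}, w_{i+1,0}, …, w_{r,0}). (The published statement takes n ≥ 1; for n = 0 both
sides are empty sums. The families y, w are indexed by all natural numbers here and only the indices
named above enter.) -/
theorem result {A : Type u} [CommRing A] (α : A) (hα : α ∈ nonZeroDivisors A)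
    {r : ℕ} (M : Fin r → Type v) (N : Type w) [∀ i, AddCommGroup (M i)] [∀ i, Module A (M i)]
    [AddCommGroup N] [Module A N] (φ : MultilinearMap A M N) (n : ℕ)
    (y w : ∀ i, ℕ → M i) (hw : ∀ i, ∀ j < n, w i (j + 1) = w i j + α • y i j) :
    (∑ i : Fin r, ∑ j ∈ Finset.range n,
        φ (fun k => if k < i then w k (j + 1) else if k = i then y k j else w k j)) =
      ∑ i : Fin r, ∑ j ∈ Finset.range n,
        φ (fun k => if k < i then w k n else if k = i then y k j else w k 0) := by
  classical
  let L : ∀ k, (Fin (n + 1) → A) →ₗ[A] M k := fun k =>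
    Fintype.linearCombination A (Fin.cases (w k 0) fun j => y k j)
  let w' : ℕ → Fin (n + 1) → A := fun j => Fin.cases 1 fun l => if (l : ℕ) < j then α else 0
  let y' : ℕ → Fin (n + 1) → A := fun j => Fin.cases 0 fun l => if (l : ℕ) = j then 1 else 0
  have hLy : ∀ k, ∀ j < n, L k (y' j) = y k j := by
    intro k j hj
    simp only [L, y', Fintype.linearCombination_apply, Fin.sum_univ_succ, Fin.cases_zero, Fin.cases_succ, zero_smul, zero_add]
    rw [Finset.sum_eq_single (⟨j, hj⟩ : Fin n)]
    · simp
    · intro l _ hl; rw [if_neg fun h => hl (Fin.ext h), zero_smul]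
    · simp
  have hw' : ∀ j, w' (j + 1) = w' j + α • y' j := by
    intro j
    funext c
    induction c using Fin.cases with
    | zero => simp [w', y']
    | succ l =>
      simp only [w', y', Pi.add_apply, Pi.smul_apply, Fin.cases_succ, smul_eq_mul]
      rcases lt_trichotomy (l : ℕ) j with h | h | h
      · rw [if_pos (by omega), if_pos h, if_neg h.ne, mul_zero, add_zero]
      · rw [if_pos (by omega), if_neg (by omega), if_pos h, mul_one, zero_add]
      · rw [if_neg (by omega), if_neg (by omega), if_neg h.ne', mul_zero, add_zero]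
  have hLw : ∀ k, ∀ j ≤ n, L k (w' j) = w k j := by
    intro k j
    induction j with
    | zero =>
      intro _
      simp [L, w', Fintype.linearCombination_apply, Fin.sum_univ_succ]
    | succ j ih =>
      intro hj
      rw [hw', map_add, map_smul, ih (by omega), hLy k j hj, hw k j hj]
  have hexp : ∀ v : Fin r → (Fin (n + 1) → A), φ (fun k => L k (v k)) =
      ∑ c : Fin r → Fin (n + 1), (∏ k, v k (c k)) • φ fun k => (Fin.cases (w k 0) fun j => y k j : Fin (n + 1) → M k) (c k) := by
    intro v
    have : (fun k => L k (v k)) = fun k => ∑ c, v k c • (Fin.cases (w k 0) fun j => y k j : Fin (n + 1) → M k) c := by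
      funext k; rw [Fintype.linearCombination_apply]
    rw [this, MultilinearMap.map_sum]
    exact Finset.sum_congr rfl fun c _ => φ.map_smul_univ _ _
  have htel : ∀ a b : Fin r → A, (∏ k, b k) - (∏ k, a k) =
      ∑ i : Fin r, ∏ k, (if k < i then b k else if k = i then b k - a k else a k) := by
    intro a b
    have key : ∀ i : Fin r, ∏ k, (if k < i then b k else if k = i then b k - a k else a k) =
        (∏ k : Fin r, if (k : ℕ) < i + 1 then b k else a k) - ∏ k : Fin r, if (k : ℕ) < i then b k else a k := by
      intro i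
      rw [← Finset.mul_prod_erase Finset.univ _ (Finset.mem_univ i),
        ← Finset.mul_prod_erase Finset.univ (fun k : Fin r => if (k : ℕ) < i + 1 then b k else a k) (Finset.mem_univ i),
        ← Finset.mul_prod_erase Finset.univ (fun k : Fin r => if (k : ℕ) < i then b k else a k) (Finset.mem_univ i)]
      simp only [lt_irrefl, if_false, if_true, Nat.lt_succ_self]
      rw [sub_mul]
      congr 1
      · congr 1
        refine Finset.prod_congr rfl fun k hk => ?_
        have hk' : (k : ℕ) ≠ i := fun h => Finset.ne_of_mem_erase hk (Fin.ext h)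
        by_cases h : k < i
        · rw [if_pos h, if_pos (by have : (k : ℕ) < i := h; omega)]
        · rw [if_neg h, if_neg (Finset.ne_of_mem_erase hk), if_neg (by have : ¬(k : ℕ) < i := h; omega)]
      · congr 1
        refine Finset.prod_congr rfl fun k hk => ?_
        by_cases h : k < i
        · rw [if_pos h, if_pos (show (k : ℕ) < i from h)]
        · rw [if_neg h, if_neg (Finset.ne_of_mem_erase hk), if_neg (show ¬(k : ℕ) < i from h)]
    rw [Finset.sum_congr rfl fun i _ => key i,
      Fin.sum_univ_eq_sum_range (fun i => (∏ k : Fin r, if (k : ℕ) < i + 1 then b k else a k) -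
        ∏ k : Fin r, if (k : ℕ) < i then b k else a k),
      Finset.sum_range_sub (fun i => ∏ k : Fin r, if (k : ℕ) < i then b k else a k)]
    simp
  have hmul : ∀ (c : Fin r → Fin (n + 1)) (u v : ℕ) (Y : A) (i : Fin r), w' u (c i) - w' v (c i) = α * Y →
      α * ∏ k, (if k < i then w' u (c k) else if k = i then Y else w' v (c k)) =
      ∏ k, (if k < i then w' u (c k) else if k = i then w' u (c k) - w' v (c k) else w' v (c k)) := by
    intro c u v Y i h
    rw [← Finset.mul_prod_erase Finset.univ _ (Finset.mem_univ i),
      ← Finset.mul_prod_erase Finset.univ (fun k => if k < i then w' u (c k) else if k = i then w' u (c k) - w' v (c k) else w' v (c k)) (Finset.mem_univ i)]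
    simp only [lt_irrefl, if_false, if_true]
    rw [← mul_assoc, h]
    congr 1
    exact Finset.prod_congr rfl fun k hk => by rw [if_neg (Finset.ne_of_mem_erase hk), if_neg (Finset.ne_of_mem_erase hk)]
  have hcoef : ∀ c : Fin r → Fin (n + 1),
      ∑ i : Fin r, ∑ j ∈ Finset.range n, ∏ k, (if k < i then w' (j + 1) (c k) else if k = i then y' j (c k) else w' j (c k)) =
      ∑ i : Fin r, ∑ j ∈ Finset.range n, ∏ k, (if k < i then w' n (c k) else if k = i then y' j (c k) else w' 0 (c k)) := by
    intro c
    refine sub_eq_zero.1 ((mem_nonZeroDivisors_iff.1 hα).1 _ ?_)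
    rw [mul_sub, sub_eq_zero]
    have h1 : α * ∑ i : Fin r, ∑ j ∈ Finset.range n, ∏ k, (if k < i then w' (j + 1) (c k) else if k = i then y' j (c k) else w' j (c k)) =
        (∏ k, w' n (c k)) - ∏ k, w' 0 (c k) := by
      rw [Finset.sum_comm, Finset.mul_sum, ← Finset.sum_range_sub (fun j => ∏ k, w' j (c k)) n]
      refine Finset.sum_congr rfl fun j _ => ?_
      rw [Finset.mul_sum, htel (fun k => w' j (c k)) (fun k => w' (j + 1) (c k))]
      refine Finset.sum_congr rfl fun i _ => ?_
      rw [← hmul c (j + 1) j (y' j (c i)) i (by rw [hw']; simp)]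
      congr 1
      exact Finset.prod_congr rfl fun k _ => by split_ifs with h h' <;> first | rfl | rw [h']
    have h2 : ∀ i : Fin r, w' n (c i) - w' 0 (c i) = α * ∑ j ∈ Finset.range n, y' j (c i) := fun i => by
      rw [Finset.mul_sum, ← Finset.sum_range_sub (fun j => w' j (c i)) n]
      exact Finset.sum_congr rfl fun j _ => by rw [hw']; simp
    rw [h1, htel, Finset.mul_sum]
    refine Finset.sum_congr rfl fun i _ => ?_
    rw [← hmul c n 0 _ i (h2 i)]
    congr 1
    rw [← Finset.mul_prod_erase Finset.univ _ (Finset.mem_univ i)]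
    simp only [lt_irrefl, if_false, if_true]
    rw [Finset.sum_mul]
    refine Finset.sum_congr rfl fun j _ => ?_
    rw [← Finset.mul_prod_erase Finset.univ (fun k => if k < i then w' n (c k) else if k = i then y' j (c k) else w' 0 (c k)) (Finset.mem_univ i)]
    simp only [lt_irrefl, if_false, if_true]
    congr 1
    exact Finset.prod_congr rfl fun k hk => by rw [if_neg (Finset.ne_of_mem_erase hk), if_neg (Finset.ne_of_mem_erase hk)]
  have hL : ∀ (i : Fin r) (u v j : ℕ), u ≤ n → v ≤ n → j < n →
      φ (fun k => if k < i then w k u else if k = i then y k j else w k v) =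
      φ (fun k => L k (if k < i then w' u else if k = i then y' j else w' v)) := by
    intro i u v j hu hv hj
    congr 1
    funext k
    split_ifs <;> simp [hLw, hLy, hu, hv, hj]
  have hLHS := fun (i : Fin r) (j : ℕ) (hj : j ∈ Finset.range n) =>
    (hL i (j + 1) j j (Finset.mem_range.1 hj) (Finset.mem_range.1 hj).le (Finset.mem_range.1 hj)).trans (hexp _)
  have hRHS := fun (i : Fin r) (j : ℕ) (hj : j ∈ Finset.range n) =>
    (hL i n 0 j le_rfl (Nat.zero_le _) (Finset.mem_range.1 hj)).trans (hexp _)
  rw [Finset.sum_congr rfl fun i _ => Finset.sum_congr rfl (hLHS i),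
    Finset.sum_congr rfl fun i _ => Finset.sum_congr rfl (hRHS i)]
  have swap : ∀ G : Fin r → ℕ → (Fin r → Fin (n + 1)) → N,
      ∑ i, ∑ j ∈ Finset.range n, ∑ c, G i j c = ∑ c, ∑ i, ∑ j ∈ Finset.range n, G i j c := fun G => by
    rw [Finset.sum_comm (s := (Finset.univ : Finset (Fin r → Fin (n + 1))))]
    exact Finset.sum_congr rfl fun i _ => Finset.sum_comm
  rw [swap, swap]
  refine Finset.sum_congr rfl fun c _ => ?_
  simp only [← Finset.sum_smul, ite_apply]
  rw [hcoef c]


end Groth.Agent.S13682
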