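import Groth.Statements.S13685
import Mathlib.LinearAlgebra.ExteriorPower.Basic

set_option autoImplicit false
universe u v w
open Disp

namespace Groth.Agent.S13685

/-- Let p be a prime, R a commutative ring, W its ring of p-typical Witt vectors, D = (P, Q, F, V⁻¹) a
3n-display over R with a normal decomposition P = L ⊕ T, Q = L + I_R T in which T is free of rank
one over W, and E the 3n-display structure on ⋀^r P whose distinguished submodule is spanned by the
wedges of elements of Q and whose V⁻¹ sends q_1 ∧ ⋯ ∧ q_r to V⁻¹q_1 ∧ ⋯ ∧ V⁻¹q_r. Then the wedge map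
λ : P^r → ⋀^r P is an alternating multilinear morphism of 3n-displays from D to E, and for every
3n-display D' = (P', Q', F', V'⁻¹) and every alternating multilinear morphism of 3n-displays φ : P^r
→ P' (W-multilinear alternating, φ(Q^r) ⊆ Q', V'⁻¹(φ(q)) = φ(V⁻¹q_1, …, V⁻¹q_r), F'(φ(q_1, …, x_i,
…, q_r)) = φ(V⁻¹q_1, …, F x_i, …, V⁻¹q_r)) there is a unique W-linear ψ : ⋀^r P → P' that is a
morphism of 3n-displays from E to D' (ψ maps E's submodule into Q' and commutes with F and V⁻¹) with
ψ ∘ λ = φ. (The published statement has T projective of rank one; this row takes T free of rank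
one.) -/
theorem result (p : ℕ) [Fact p.Prime] (R : Type u) [CommRing R]
    (P : Type v) [AddCommGroup P] [Module (WittVector p R) P] (D : W4c1extbt610.Display3n p R P)
    (hT : ∃ L T : Submodule (WittVector p R) P, IsCompl L T ∧ D.Q = L ⊔ W4c1extbt610.IV p R • T ∧
      Nonempty (T ≃ₗ[WittVector p R] WittVector p R))
    (r : ℕ) (E : W4c1extbt610.Display3n p R (⋀[WittVector p R]^r P)) (hE : W4c1extbt610.IsExtPow D r E) :
    W4c1extbt610.IsAltMult D E (exteriorPower.ιMulti (WittVector p R) r) ∧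
      ∀ (P' : Type w) [AddCommGroup P'] [Module (WittVector p R) P'] (D' : W4c1extbt610.Display3n p R P')
        (φ : P [⋀^Fin r]→ₗ[WittVector p R] P'), W4c1extbt610.IsAltMult D D' φ →
        ∃! ψ : ⋀[WittVector p R]^r P →ₗ[WittVector p R] P',
          W4c1extbt610.IsHom E D' ψ ∧ ψ.compAlternatingMap (exteriorPower.ιMulti (WittVector p R) r) = φ := by
  classical
  obtain ⟨hQ, hV⟩ := hE
  have hmem : ∀ q : Fin r → D.Q, exteriorPower.ιMulti (WittVector p R) r (fun i => (q i : P)) ∈ E.Q := fun q => by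
    rw [hQ]; exact Submodule.subset_span ⟨q, rfl⟩
  refine ⟨⟨hmem, fun q => hV q (hmem q), fun i x q => ?_⟩, fun P' _ _ D' φ hφ => ?_⟩
  · let y : D.Q := ⟨WittVector.verschiebung (1 : WittVector p R) • x,
      D.IV_smul_le (Submodule.smul_mem_smul (W4c1extbt610.verschiebung_mem_IV p R 1) Submodule.mem_top)⟩
    have e2 : (fun j => ((Function.update q i y) j : P)) =
        Function.update (fun j => (q j : P)) i (WittVector.verschiebung (1 : WittVector p R) • x) :=
      funext fun j => Function.apply_update (fun _ (z : D.Q) => (z : P)) q i y j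
    have e3 : (fun j => D.Vinv (Function.update q i y j)) = Function.update (fun j => D.Vinv (q j)) i (D.F x) := by
      rw [funext fun j => Function.apply_update (fun _ (z : D.Q) => D.Vinv z) q i y j, D.Vinv_verschiebung_smul, one_smul]
    rw [← one_smul (WittVector p R) (E.F _), ← E.Vinv_verschiebung_smul, ← e3, ← hV _ (hmem _)]
    refine congrArg E.Vinv (Subtype.ext ?_)
    change _ = exteriorPower.ιMulti (WittVector p R) r (fun j => ((Function.update q i y) j : P))
    rw [e2, AlternatingMap.map_update_smul]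
  let ψ := exteriorPower.alternatingMapLinearEquiv φ
  have hψ : ∀ v, ψ (exteriorPower.ιMulti (WittVector p R) r v) = φ v :=
    exteriorPower.alternatingMapLinearEquiv_apply_ιMulti φ
  have hall : ∀ z ∈ Submodule.span (WittVector p R)
      (Set.range fun q : Fin r → D.Q => exteriorPower.ιMulti (WittVector p R) r (fun i => (q i : P))),
      ∃ (hz : z ∈ E.Q) (hz' : ψ z ∈ D'.Q), ψ (E.Vinv ⟨z, hz⟩) = D'.Vinv ⟨ψ z, hz'⟩ := by
    intro z hz
    induction hz using Submodule.span_induction with
    | mem y hy =>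
      obtain ⟨q, rfl⟩ := hy
      refine ⟨hmem q, by rw [hψ]; exact hφ.mapsTo q, ?_⟩
      rw [hV q (hmem q), hψ, ← hφ.vCond q]
      exact congrArg D'.Vinv (Subtype.ext (hψ _).symm)
    | zero =>
      refine ⟨zero_mem _, by rw [map_zero]; exact zero_mem _, ?_⟩
      have h1 : E.Vinv ⟨0, zero_mem _⟩ = 0 := E.Vinv.map_zero
      refine (congrArg ψ h1).trans ((map_zero ψ).trans ?_)
      exact (D'.Vinv.map_zero).symm.trans (congrArg D'.Vinv (Subtype.ext (map_zero ψ).symm))
    | add a b _ _ ha hb =>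
      obtain ⟨ha, ha', hea⟩ := ha
      obtain ⟨hb, hb', heb⟩ := hb
      refine ⟨add_mem ha hb, by rw [map_add]; exact add_mem ha' hb', ?_⟩
      have h1 : E.Vinv ⟨a + b, add_mem ha hb⟩ = E.Vinv ⟨a, ha⟩ + E.Vinv ⟨b, hb⟩ := E.Vinv.map_add ⟨a, ha⟩ ⟨b, hb⟩
      refine (congrArg ψ h1).trans ((map_add ψ _ _).trans ?_)
      rw [hea, heb]
      exact (D'.Vinv.map_add _ _).symm.trans (congrArg D'.Vinv (Subtype.ext (map_add ψ a b).symm))
    | smul c a _ ha =>
      obtain ⟨ha, ha', hea⟩ := ha
      refine ⟨Submodule.smul_mem _ c ha, by rw [map_smul]; exact Submodule.smul_mem _ c ha', ?_⟩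
      have h1 : E.Vinv ⟨c • a, Submodule.smul_mem _ c ha⟩ = WittVector.frobenius c • E.Vinv ⟨a, ha⟩ :=
        E.Vinv.map_smulₛₗ c ⟨a, ha⟩
      refine (congrArg ψ h1).trans ((map_smul ψ _ _).trans ?_)
      rw [hea]
      exact (D'.Vinv.map_smulₛₗ _ _).symm.trans (congrArg D'.Vinv (Subtype.ext (map_smul ψ c a).symm))
  have hmt : ∀ z, z ∈ E.Q → ψ z ∈ D'.Q := fun z hz => (hall z (by rw [← hQ]; exact hz)).2.1
  refine ⟨ψ, ⟨⟨hmt, fun z => ?_, fun q => (hall q (by rw [← hQ]; exact q.2)).2.2⟩, ?_⟩, fun ψ' hψ' => ?_⟩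
  · have hz : WittVector.verschiebung (1 : WittVector p R) • z ∈ E.Q :=
      E.IV_smul_le (Submodule.smul_mem_smul (W4c1extbt610.verschiebung_mem_IV p R 1) Submodule.mem_top)
    rw [← one_smul (WittVector p R) (E.F z), ← E.Vinv_verschiebung_smul,
      ← one_smul (WittVector p R) (D'.F (ψ z)), ← D'.Vinv_verschiebung_smul]
    obtain ⟨_, _, e⟩ := hall _ (hQ ▸ hz)
    exact e.trans (congrArg D'.Vinv (Subtype.ext (map_smul ψ _ z)))
  · ext v; exact hψ v
  · exact exteriorPower.linearMap_ext (hψ'.2.trans (AlternatingMap.ext fun v => (hψ v).symm))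


end Groth.Agent.S13685
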