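import Groth.Statements.S13689
import Groth.Agent.Lib.ASBun21.Summands
set_option backward.isDefEq.respectTransparency false

set_option autoImplicit false
universe u
open CategoryTheory CategoryTheory.Limits AlgebraicGeometry
open ASBun

namespace Groth.Agent.S13689

open W4c1astiltbs12 in
/-- Let X be proper over a field k, K an algebraic closure of k with projection π : X_K → X, and E a
nonzero finite locally free O_X-module which is absolutely rank-one-isotypical: π^*E ≅ L^{⊕r} for
some r and some invertible O_{X_K}-module L that is indecomposable (nonzero, and in any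
decomposition as a direct sum one summand is zero; for an invertible module this says X_K is
connected). Then E ≅ G^{⊕n} for some n and some indecomposable finite locally free O_X-module G, and
G is unique: any indecomposable G and G' with E ≅ G^{⊕n} and E ≅ G'^{⊕m} are isomorphic. (The
published statement assumes k infinite and X projective, and its extension in the text X proper and
geometrically integral; the argument uses only properness of X and indecomposability of the type L,
without which the structure sheaf of two points is a counterexample.) -/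
theorem result (k : Type u) [Field k] {X : Scheme.{u}}
    (p : X ⟶ Spec (CommRingCat.of k)) [IsProper p] (K : Type u) [Field K] [Algebra k K]
    [IsAlgClosure k K] (E : X.Modules) (hE : FlatMod.IsFinLocFree E) (hE0 : ¬ IsZero E)
    (L : (W4bk4gw11416.baseChange p K).Modules) (hL : PicF.IsInvertible L)
    (hLi : (¬ IsZero L ∧ ∀ A B : (W4bk4gw11416.baseChange p K).Modules, Nonempty (L ≅ A ⊞ B) → IsZero A ∨ IsZero B))
    (r : ℕ) (e : Nonempty (bcMod p K E ≅ pow L r)) :
    (∃ (G : X.Modules) (n : ℕ), FlatMod.IsFinLocFree G ∧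
      (¬ IsZero G ∧ ∀ A B : X.Modules, Nonempty (G ≅ A ⊞ B) → IsZero A ∨ IsZero B) ∧
      Nonempty (E ≅ pow G n)) ∧
    (∀ (G G' : X.Modules) (n m : ℕ),
      (¬ IsZero G ∧ ∀ A B : X.Modules, Nonempty (G ≅ A ⊞ B) → IsZero A ∨ IsZero B) →
      (¬ IsZero G' ∧ ∀ A B : X.Modules, Nonempty (G' ≅ A ⊞ B) → IsZero A ∨ IsZero B) →
      Nonempty (E ≅ pow G n) → Nonempty (E ≅ pow G' m) → Nonempty (G ≅ G')) := by
  classical
  letI : X.Over (Spec (CommRingCat.of k)) := ⟨p⟩
  haveI : IsProper (X ↘ Spec (CommRingCat.of k)) := ‹IsProper p›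
  haveI := GrothLib.Euler.isNoetherian_of_proper (X := X) k
  have hLc := GrothLib.Euler.isCoh_of_isFinLocFree (GrothLib.Euler.isFinLocFree_of_isInvertible hL)
  have hEc := GrothLib.Euler.isCoh_of_isFinLocFree hE
  refine ⟨?_, ?_⟩
  · obtain ⟨l, ⟨el⟩, hl⟩ := GrothLib.ASBun21.exists_isotypical_decomp p K hE hLi hLc
      (e.some ≪≫ (GrothLib.ASBun21.nonempty_pow_npow L r).some)
    obtain _ | ⟨G, l'⟩ := l
    · exact absurd (IsZero.of_iso GrothLib.ASBun21.isZero_lsum_nil el) hE0
    obtain ⟨hGi, hGf, hGc, t, -, -, ⟨et⟩⟩ := hl G (List.mem_cons_self ..)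
    refine ⟨G, (G :: l').length, hGf, hGi, ⟨el ≪≫ ?_ ≪≫
      (GrothLib.ASBun21.nonempty_pow_npow G _).some.symm⟩⟩
    refine (GrothLib.ASBun21.nonempty_lsum_of_perm_cls (List.Perm.of_eq ?_)).some
    rw [List.map_replicate]
    refine List.eq_replicate_iff.2 ⟨by simp, fun q hq => ?_⟩
    obtain ⟨a, ha, rfl⟩ := List.mem_map.1 hq
    obtain ⟨hai, haf, hac, t', -, -, ⟨et'⟩⟩ := hl a ha
    exact GrothLib.ASBun21.cls_eq.2 (GrothLib.ASBun21.nonempty_iso_of_isotypical p K hac hGc hai hGi et' et)
  · intro G G' n m hG hG' ⟨a⟩ ⟨b⟩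
    have hn : n ≠ 0 := fun h => hE0 (GrothLib.ASBun21.isZero_of_npow_zero h
      ⟨a ≪≫ (GrothLib.ASBun21.nonempty_pow_npow G n).some⟩)
    obtain ⟨i⟩ : Nonempty (Fin n) := ⟨⟨0, Nat.pos_of_ne_zero hn⟩⟩
    haveI := GrothLib.ASBun21.finite_hom k hEc hEc
    haveI : Module.Finite k (G ⟶ G) := GrothLib.ASBun21.finite_end_of_retract k
      (Sigma.ι (fun _ : Fin n => G) i ≫ a.inv) (a.hom ≫ Sigma.desc fun _ => 𝟙 G) (by simp)
    exact GrothLib.ASBun21.nonempty_iso_of_npow_npow k hG hG' hn
      ⟨(GrothLib.ASBun21.nonempty_pow_npow G n).some.symm ≪≫ a.symm ≪≫ b ≪≫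
        (GrothLib.ASBun21.nonempty_pow_npow G' m).some⟩

end Groth.Agent.S13689
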