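import Groth.Statements.S13692
import Groth.Agent.Lib.GalUnits21.Cancel
import Groth.Agent.Lib.GalDescent.Tensor
import Mathlib.RingTheory.TensorProduct.Basic
import Mathlib.Algebra.Module.Opposite

set_option autoImplicit false
universe u v w
open scoped TensorProduct
attribute [local instance] CSAGal.tensorAction GpH1.unitsAction
open GalCoh

namespace Groth.Agent.S13692

variable {k : Type u} [Field k] {K : Type v} [Field K] [Algebra k K] {A : Type w} [Ring A] [Algebra k A]

/-- `K ⊗ A` with the semilinear action twisted by a cocycle of units. -/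
def Tw (_a : GpH1.OneCocycle (K ≃ₐ[k] K) (K ⊗[k] A)ˣ) : Type (max v w) := K ⊗[k] A

variable (a : GpH1.OneCocycle (K ≃ₐ[k] K) (K ⊗[k] A)ˣ)

noncomputable instance : AddCommGroup (Tw a) := inferInstanceAs (AddCommGroup (K ⊗[k] A))
noncomputable instance : Module K (Tw a) := inferInstanceAs (Module K (K ⊗[k] A))
noncomputable instance : Module k (Tw a) := inferInstanceAs (Module k (K ⊗[k] A))
instance : IsScalarTower k K (Tw a) := inferInstanceAs (IsScalarTower k K (K ⊗[k] A))

def Tw.val : Tw a → K ⊗[k] A := id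

theorem mul_tmul_one (y : K ⊗[k] A) : y * ((1 : K) ⊗ₜ[k] (1 : A)) = y := by
  rw [← Algebra.TensorProduct.one_def, mul_one]

theorem mul_tmul_mul (y : K ⊗[k] A) (r s : A) :
    y * ((1 : K) ⊗ₜ[k] (s * r)) = y * ((1 : K) ⊗ₜ[k] s) * ((1 : K) ⊗ₜ[k] r) := by
  rw [mul_assoc, Algebra.TensorProduct.tmul_mul_tmul, mul_one]

theorem mul_tmul_add (y : K ⊗[k] A) (r s : A) :
    y * ((1 : K) ⊗ₜ[k] (r + s)) = y * ((1 : K) ⊗ₜ[k] r) + y * ((1 : K) ⊗ₜ[k] s) := by
  rw [TensorProduct.tmul_add, mul_add]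

theorem mul_tmul_zero (y : K ⊗[k] A) : y * ((1 : K) ⊗ₜ[k] (0 : A)) = 0 := by
  rw [TensorProduct.tmul_zero, mul_zero]

theorem mul_tmul_smul (y : K ⊗[k] A) (c : k) (r : A) :
    y * ((1 : K) ⊗ₜ[k] (c • r)) = c • (y * ((1 : K) ⊗ₜ[k] r)) := by
  rw [TensorProduct.tmul_smul, mul_smul_comm]

/-- Right multiplication makes `K ⊗ A` a right `A`-module. -/
@[reducible] noncomputable def rightModule : Module Aᵐᵒᵖ (K ⊗[k] A) :=
  { smul := fun r x => x * (1 ⊗ₜ r.unop)
    one_smul := fun x => mul_tmul_one x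
    mul_smul := fun r s x => mul_tmul_mul x r.unop s.unop
    smul_zero := fun r => zero_mul (1 ⊗ₜ r.unop : K ⊗[k] A)
    smul_add := fun r x y => add_mul x y _
    add_smul := fun r s x => mul_tmul_add x r.unop s.unop
    zero_smul := fun x => mul_tmul_zero x }

attribute [local instance] rightModule

theorem rightModule_smul (r : Aᵐᵒᵖ) (x : K ⊗[k] A) : r • x = x * (1 ⊗ₜ r.unop) := rfl

instance isScalarTower_rightModule : IsScalarTower k Aᵐᵒᵖ (K ⊗[k] A) :=
  ⟨fun c r x => mul_tmul_smul x c r.unop⟩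

attribute [local instance] CSAGal.tensorAction GpH1.unitsAction

theorem cocycle_one : a 1 = 1 := by
  have h := a.2 1 1
  rw [one_mul, one_smul] at h
  exact left_eq_mul.mp h

noncomputable instance : DistribMulAction (K ≃ₐ[k] K) (Tw a) where
  smul σ x := ((a σ : K ⊗[k] A) * σ • Tw.val a x : K ⊗[k] A)
  one_smul x := by
    show ((a 1 : (K ⊗[k] A)ˣ) : K ⊗[k] A) * (1 : K ≃ₐ[k] K) • Tw.val a x = x
    rw [cocycle_one, Units.val_one, one_mul, one_smul]; rfl
  mul_smul σ τ x := by
    show ((a (σ * τ) : (K ⊗[k] A)ˣ) : K ⊗[k] A) * (σ * τ) • Tw.val a x =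
      (a σ : K ⊗[k] A) * σ • ((a τ : K ⊗[k] A) * τ • Tw.val a x)
    rw [a.2 σ τ, smul_mul', mul_smul, Units.val_mul, mul_assoc]
    rfl
  smul_zero σ := by
    show (a σ : K ⊗[k] A) * σ • (0 : K ⊗[k] A) = 0
    rw [smul_zero, mul_zero]
  smul_add σ x y := by
    show (a σ : K ⊗[k] A) * σ • (Tw.val a x + Tw.val a y) = _
    rw [smul_add, mul_add]; rfl

theorem Tw.gal_smul_def (σ : K ≃ₐ[k] K) (x : Tw a) :
    Tw.val a (σ • x) = (a σ : K ⊗[k] A) * σ • Tw.val a x := rfl

instance : SMulDistribClass (K ≃ₐ[k] K) K (Tw a) := ⟨fun σ c x => by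
  show (a σ : K ⊗[k] A) * σ • (c • Tw.val a x) = (σ • c) • ((a σ : K ⊗[k] A) * σ • Tw.val a x)
  rw [smul_distrib_smul, mul_smul_comm]⟩

/-- The fixed points, as a right `A`-module. -/
noncomputable def fixedMod : Submodule Aᵐᵒᵖ (K ⊗[k] A) where
  carrier := {x | ∀ σ : K ≃ₐ[k] K, (a σ : K ⊗[k] A) * σ • x = x}
  zero_mem' σ := by rw [smul_zero, mul_zero]
  add_mem' hx hy σ := by rw [smul_add, mul_add, hx σ, hy σ]
  smul_mem' r x hx σ := by
    rw [rightModule_smul, smul_mul', show σ • ((1 : K) ⊗ₜ[k] r.unop) = (1 : K) ⊗ₜ[k] r.unop from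
      GrothLib.GalDescent.one_tmul_mem_fixed r.unop σ, ← mul_assoc, hx σ]

theorem exists_eq_coboundary [FiniteDimensional k K] [IsGalois k K] [FiniteDimensional k A] :
    ∃ c : (K ⊗[k] A)ˣ, ∀ σ : K ≃ₐ[k] K, a σ = c⁻¹ * σ • c := by
  classical
  let b := Module.finBasis k K
  have : FiniteDimensional K (Tw a) := inferInstanceAs (FiniteDimensional K (K ⊗[k] A))
  have : FiniteDimensional k (K ⊗[k] A) := Module.Finite.trans K (K ⊗[k] A)
  let f : (Fin (Module.finrank k K) → fixedMod a) →ₗ[Aᵐᵒᵖ] K ⊗[k] A :=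
    { toFun := fun g => ∑ i, b i • (g i : K ⊗[k] A)
      map_add' := fun g h => by simp [smul_add, Finset.sum_add_distrib]
      map_smul' := fun r g => by
        rw [RingHom.id_apply, rightModule_smul, Finset.sum_mul]
        refine Finset.sum_congr rfl fun i _ => ?_
        rw [Pi.smul_apply, Submodule.coe_smul, rightModule_smul, smul_mul_assoc] }
  let f₀ : (Fin (Module.finrank k K) → Aᵐᵒᵖ) →ₗ[Aᵐᵒᵖ] K ⊗[k] A :=
    { toFun := fun g => ∑ i, (b i ⊗ₜ[k] (g i).unop : K ⊗[k] A)
      map_add' := fun g h => by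
        simp only [Pi.add_apply, MulOpposite.unop_add, TensorProduct.tmul_add,
          Finset.sum_add_distrib]
      map_smul' := fun r g => by
        rw [RingHom.id_apply, rightModule_smul, Finset.sum_mul]
        refine Finset.sum_congr rfl fun i _ => ?_
        rw [Algebra.TensorProduct.tmul_mul_tmul, mul_one, Pi.smul_apply, smul_eq_mul,
          MulOpposite.unop_mul] }
  have hf : Function.Bijective f :=
    GrothLib.GalDescent.bijective_sum_smul (V := Tw a) b
  have hf₀ : Function.Bijective f₀ := by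
    let e := (TensorProduct.equivFinsuppOfBasisLeft (N := A) b).trans
      (Finsupp.linearEquivFunOnFinite k A (Fin (Module.finrank k K)))
    have : ∀ g, f₀ g = e.symm (fun i => (g i).unop) := fun g => by
      rw [LinearEquiv.eq_symm_apply]
      funext j
      show e (∑ i, (b i ⊗ₜ[k] (g i).unop : K ⊗[k] A)) j = _
      simp [e, Finsupp.single_apply]
    rw [show ⇑f₀ = e.symm ∘ (fun g i => (g i).unop) from funext this]
    exact e.symm.bijective.comp
      ⟨fun g h hgh => funext fun i => MulOpposite.unop_injective (congrFun hgh i),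
        fun g => ⟨fun i => MulOpposite.op (g i), rfl⟩⟩
  have : FiniteDimensional k (fixedMod a) :=
    Module.Finite.of_injective ((fixedMod a).subtype.restrictScalars k) Subtype.val_injective
  obtain ⟨m, hm⟩ := GrothLib.GalUnits21.exists_span_eq_top k (M := fixedMod a) Module.finrank_pos
    ((LinearEquiv.ofBijective f hf).trans (LinearEquiv.ofBijective f₀ hf₀).symm)
  let x : K ⊗[k] A := (m : K ⊗[k] A)
  have hsurj : Function.Surjective (fun y => x * y) := by
    intro y
    obtain ⟨g, hg⟩ := hf.2 y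
    have : ∀ i, ∃ z : K ⊗[k] A, (b i • (g i : K ⊗[k] A)) = x * z := fun i => by
      obtain ⟨r, hr⟩ := Submodule.mem_span_singleton.mp (hm ▸ Submodule.mem_top : g i ∈ Submodule.span Aᵐᵒᵖ {m})
      refine ⟨b i • (1 ⊗ₜ r.unop), ?_⟩
      rw [← hr, mul_smul_comm]
      rfl
    choose z hz using this
    refine ⟨∑ i, z i, ?_⟩
    rw [← hg]
    show x * _ = ∑ i, b i • (g i : K ⊗[k] A)
    simp only [hz, Finset.mul_sum]
  have hu : IsUnit x := by
    have hinj : Function.Injective (LinearMap.mulLeft K x) :=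
      LinearMap.injective_iff_surjective.mpr hsurj
    obtain ⟨y, hy⟩ := hsurj 1
    refine isUnit_iff_exists.mpr ⟨y, hy, hinj ?_⟩
    show x * (y * x) = x * 1
    rw [← mul_assoc, show x * y = 1 from hy, one_mul, mul_one]
  refine ⟨hu.unit⁻¹, fun σ => ?_⟩
  rw [inv_inv, smul_inv', eq_mul_inv_iff_mul_eq]
  refine Units.ext ?_
  exact m.2 σ

/-- Let K be a finite Galois extension of a field k with Galois group G = Aut_k(K), and A a
finite-dimensional associative unital k-algebra, not assumed simple or central. Then H¹(G, (K ⊗_k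
A)ˣ) is trivial, G acting on K ⊗_k A through the first factor. (The published statement allows any
Galois extension and reduces to the finite case by a direct limit; the finite case is stated.) -/
theorem result (k : Type u) [Field k] (K : Type v)
    [Field K] [Algebra k K] [FiniteDimensional k K] [IsGalois k K]
    (A : Type w) [Ring A] [Algebra k A] [FiniteDimensional k A] :
    GpH1.H1.IsTrivial (K ≃ₐ[k] K) (K ⊗[k] A)ˣ := by
  intro x
  obtain ⟨a, rfl⟩ := GpH1.OneCocycle.cl_surjective x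
  obtain ⟨c, hc⟩ := exists_eq_coboundary a
  refine (GpH1.OneCocycle.cl_eq_cl_iff _ _).mpr ⟨c, fun σ => ?_⟩
  show a σ = c⁻¹ * 1 * σ • c
  rw [mul_one, hc]

end Groth.Agent.S13692
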