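import Groth.Statements.S13693
import Groth.Agent.Lib.ASBun21.KrullSchmidt
import Groth.Agent.Lib.ASBun21.HomFinite
set_option backward.isDefEq.respectTransparency false

set_option autoImplicit false
universe u
open CategoryTheory CategoryTheory.Limits AlgebraicGeometry
open ASBun

namespace Groth.Agent.S13693

open W4c1astiltbs12 in
open CategoryTheory CategoryTheory.Limits in
theorem finite_end_summand {k : Type u} [Field k] {C : Type*} [Category C] [Preadditive C] [Linear k C] {n : ℕ}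
    (Fs : Fin n → C) [HasCoproduct Fs] {F : C} [Module.Finite k (F ⟶ F)] (e : F ≅ ∐ Fs) (i : Fin n) :
    Module.Finite k (Fs i ⟶ Fs i) := by
  classical
  refine GrothLib.ASBun21.finite_end_of_retract k (Sigma.ι Fs i ≫ e.inv)
    (e.hom ≫ Sigma.desc fun j => if h : j = i then eqToHom (congrArg Fs h) else 0) ?_
  simp

/-- Let X be a scheme proper over a field k. Every coherent O_X-module F (quasi-coherent of finite type;
X is Noetherian) is isomorphic to a finite direct sum of indecomposable O_X-modules (nonzero, and in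
any decomposition as a direct sum one summand is zero; the zero module is the empty sum), and such a
decomposition is unique: if F ≅ F_1 ⊕ ⋯ ⊕ F_n ≅ G_1 ⊕ ⋯ ⊕ G_m with all F_i and G_j indecomposable,
then there is a bijection e between the index sets with F_i ≅ G_{e(i)} for every i. -/
theorem result (k : Type u) [Field k] {X : Scheme.{u}}
    (p : X ⟶ Spec (CommRingCat.of k)) [IsProper p] (F : X.Modules) (hF : Coh.IsCoh F) :
    (∃ (n : ℕ) (Fs : Fin n → X.Modules),
      (∀ i, (¬ IsZero (Fs i) ∧ ∀ A B : X.Modules, Nonempty ((Fs i) ≅ A ⊞ B) → IsZero A ∨ IsZero B)) ∧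
      Nonempty (F ≅ ∐ Fs)) ∧
    (∀ (n m : ℕ) (Fs : Fin n → X.Modules) (Gs : Fin m → X.Modules),
      (∀ i, (¬ IsZero (Fs i) ∧ ∀ A B : X.Modules, Nonempty ((Fs i) ≅ A ⊞ B) → IsZero A ∨ IsZero B)) →
      (∀ j, (¬ IsZero (Gs j) ∧ ∀ A B : X.Modules, Nonempty ((Gs j) ≅ A ⊞ B) → IsZero A ∨ IsZero B)) →
      Nonempty (F ≅ ∐ Fs) → Nonempty (F ≅ ∐ Gs) →
      ∃ e : Fin n ≃ Fin m, ∀ i, Nonempty (Fs i ≅ Gs (e i))) := by
  letI : X.Over (Spec (CommRingCat.of k)) := ⟨p⟩
  haveI : IsProper (X ↘ Spec (CommRingCat.of k)) := ‹IsProper p›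
  haveI : Module.Finite k (F ⟶ F) := GrothLib.ASBun21.finite_hom k hF hF
  refine ⟨?_, ?_⟩
  · obtain ⟨l, hl, ⟨e⟩⟩ := GrothLib.ASBun21.exists_decomp k F
    refine ⟨l.length, l.get, fun i => (hl _ (List.get_mem l i)).1, ⟨e ≪≫ ?_⟩⟩
    exact eqToIso (congrArg GrothLib.ASBun21.lsum (List.ofFn_get l).symm) ≪≫
      (GrothLib.ASBun21.nonempty_coprod_lsum l.get).some.symm
  · intro n m Fs Gs hFs hGs ⟨a⟩ ⟨b⟩
    exact GrothLib.ASBun21.exists_equiv_of_iso k Fs Gs hFs hGs (fun i => finite_end_summand Fs a i)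
      ⟨a.symm ≪≫ b⟩

end Groth.Agent.S13693
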