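import Groth.Statements.S13694
import Groth.Agent.Lib.ASBun21.EndSimple

set_option autoImplicit false
universe u
open CategoryTheory CategoryTheory.Limits AlgebraicGeometry
open ASBun

namespace Groth.Agent.S13694

open W4c1astiltbs12 in
theorem isUnit_of_simple {R : Type*} [Ring R] [IsSimpleRing R] (h : ∀ f : R, IsUnit f ∨ IsNilpotent f)
    (f : R) (hf : f ≠ 0) : IsUnit f := by
  haveI : Nontrivial R := inferInstance
  by_contra hu
  have hl : ∀ a b : R, IsUnit (a * b) → IsNilpotent b → False := fun a b ⟨u, hu⟩ hb => by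
    have h1 : ((↑u⁻¹ : R) * a) * b = 1 := by rw [mul_assoc, ← hu, Units.inv_mul]
    obtain ⟨n, hn⟩ := hb
    induction n with
    | zero => exact one_ne_zero (α := R) (by simpa using hn)
    | succ n ih => exact ih (by rw [← one_mul (b ^ n), ← h1, mul_assoc, ← pow_succ', hn, mul_zero])
  have hr : ∀ a b : R, IsUnit (b * a) → IsNilpotent b → False := fun a b ⟨u, hu⟩ hb => by
    have h1 : b * (a * (↑u⁻¹ : R)) = 1 := by rw [← mul_assoc, ← hu, Units.mul_inv]
    obtain ⟨n, hn⟩ := hb
    induction n with
    | zero => exact one_ne_zero (α := R) (by simpa using hn)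
    | succ n ih => exact ih (by rw [← mul_one (b ^ n), ← h1, ← mul_assoc, ← pow_succ, hn, zero_mul])
  have hn : ∀ x : R, ¬ IsUnit x → IsNilpotent x := fun x hx => (h x).resolve_left hx
  let I : TwoSidedIdeal R := TwoSidedIdeal.mk' {x | ¬ IsUnit x} not_isUnit_zero
    (fun {x y} hx hy ⟨u, hu⟩ => by
      have e : (↑u⁻¹ : R) * x + ↑u⁻¹ * y = 1 := by rw [← mul_add, ← hu, Units.inv_mul]
      have := (hn _ fun hxu => hl ↑u⁻¹ x hxu (hn x hx)).isUnit_one_sub
      rw [← e, add_sub_cancel_left] at this
      exact hl _ _ this (hn y hy))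
    (fun {x} hx hxu => hx (by simpa using hxu.neg)) (fun {x y} hy hxy => hl _ _ hxy (hn y hy))
    (fun {x y} hx hxy => hr _ _ hxy (hn x hx))
  have hmem : ∀ x, x ∈ I ↔ ¬ IsUnit x := fun x => TwoSidedIdeal.mem_mk' _ _ _ _ _ _ x
  rcases IsSimpleOrder.eq_bot_or_eq_top I with hI | hI
  · have := (hmem f).2 hu
    rw [hI] at this
    exact hf ((TwoSidedIdeal.mem_bot _).1 this)
  · exact (hmem 1).1 (hI ▸ trivial) isUnit_one

open W4c1astiltbs12 in

/-- Let X be a proper, geometrically integral scheme over a field k, K an algebraic closure of k with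
projection π : X_K → X, and E an indecomposable finite locally free O_X-module (nonzero, and in any
decomposition as a direct sum one summand is zero) which is absolutely rank-one-isotypical: π^*E ≅
L^{⊕r} for some invertible O_{X_K}-module L and some r. Then the endomorphism ring of E is a
division ring: every nonzero endomorphism of E is an isomorphism. (The published statement says more
precisely that this ring is a central division algebra over k; only the division-ring property is
stated here.) -/
theorem result (k : Type u) [Field k]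
    {X : Scheme.{u}} (p : X ⟶ Spec (CommRingCat.of k)) [IsProper p] [GeometricallyIntegral p]
    (K : Type u) [Field K] [Algebra k K] [IsAlgClosure k K]
    (E : X.Modules) (hE : FlatMod.IsFinLocFree E)
    (hEi : (¬ IsZero E ∧ ∀ A B : X.Modules, Nonempty (E ≅ A ⊞ B) → IsZero A ∨ IsZero B))
    (L : (W4bk4gw11416.baseChange p K).Modules) (hL : PicF.IsInvertible L) (r : ℕ)
    (e : Nonempty (bcMod p K E ≅ pow L r)) (f : E ⟶ E) (hf : f ≠ 0) : IsIso f := by
  obtain ⟨e⟩ := e
  letI : X.Over (Spec (CommRingCat.of k)) := ⟨p⟩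
  haveI : IsProper (X ↘ Spec (CommRingCat.of k)) := ‹IsProper p›
  haveI := GrothLib.Euler.isNoetherian_of_proper (X := X) k
  have hEc := GrothLib.Euler.isCoh_of_isFinLocFree hE
  haveI := GrothLib.ASBun21.finite_hom k hEc hEc
  haveI : HasFiniteBiproducts X.Modules := Abelian.hasFiniteBiproducts
  haveI : HasFiniteBiproducts (W4bk4gw11416.baseChange p K).Modules := Abelian.hasFiniteBiproducts
  haveI := GrothLib.ASBun21.isSimpleRing_end p K hE hEi.1 hL (e ≪≫ (biproduct.isoCoproduct _).symm)
  exact (isUnit_iff_isIso f).1 (isUnit_of_simple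
    (fun g => GrothLib.ASBun21.Indec.isUnit_or_isNilpotent k hEi g) (f : End E) hf)

end Groth.Agent.S13694
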