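import Groth.Statements.S13695
-- import your own Groth.Agent.* helpers here
import Groth.Agent.Lib.PolLaw.CharPoly

set_option autoImplicit false
universe u
open scoped TensorProduct
open ZeroCyc

namespace Groth.Agent.S13695

/-- For a commutative ring A, a commutative A-algebra B and a multiplicative polynomial law F : B → A
homogeneous of degree d, the quotient of B by the kernel of F (the largest ideal I of B such that F
factors through B/I) is integral over A. Geometrically: the image of a family of zero-cycles of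
degree d on Spec B parametrised by Spec A is integral over Spec A. -/
theorem result {A : Type u} [CommRing A] {B : Type u} [CommRing B] [Algebra A B]
    {d : ℕ} (F : PolLaw.MulLaw A B A d) :
    Algebra.IsIntegral A (PolLaw.image F.law) := by
  refine ⟨fun z => ?_⟩
  obtain ⟨b, rfl⟩ := Ideal.Quotient.mk_surjective z
  refine ⟨GrothLib.PolLaw.charPoly F A (1 ⊗ₜ[A] b), GrothLib.PolLaw.charPoly_monic F A _, ?_⟩
  have h := GrothLib.PolLaw.aeval_charPoly_mem F A (1 ⊗ₜ[A] b)
  rw [show Polynomial.aeval ((1 : A) ⊗ₜ[A] b) (GrothLib.PolLaw.charPoly F A (1 ⊗ₜ[A] b)) =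
    (1 : A) ⊗ₜ[A] Polynomial.aeval b (GrothLib.PolLaw.charPoly F A (1 ⊗ₜ[A] b)) from
      Polynomial.aeval_algHom_apply (Algebra.TensorProduct.includeRight : B →ₐ[A] A ⊗[A] B) b _,
    ← GrothLib.PolLaw.mem_ker_iff_one_tmul_mem_kerBC] at h
  rw [← Polynomial.aeval_def]
  exact (Polynomial.aeval_algHom_apply (Ideal.Quotient.mkₐ A (PolLaw.ker F.law)) b _).trans
    (Ideal.Quotient.eq_zero_iff_mem.mpr h)

end Groth.Agent.S13695
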