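import Groth.Statements.S13696
-- import your own Groth.Agent.* helpers here
import Groth.Agent.Lib.PolLaw.CharPoly

set_option autoImplicit false
universe u
open scoped TensorProduct
open ZeroCyc

namespace Groth.Agent.S13696

/-- Let F : B → A be a multiplicative polynomial law homogeneous of degree d, where B is a commutative
algebra over the commutative ring A. For b ∈ B the characteristic polynomial of b with respect to F
is χ_b = F_{A[X]}(1 ⊗ b − X ⊗ 1) ∈ A[X] ⊗_A A = A[X], and the Cayley–Hamilton ideal of F is the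
ideal of B generated by the elements χ_b(b), b ∈ B. Then the Cayley–Hamilton ideal is contained in
the kernel of F, and the kernel of F is contained in the radical of the Cayley–Hamilton ideal. -/
theorem result {A : Type u} [CommRing A] {B : Type u} [CommRing B] [Algebra A B]
    {d : ℕ} (F : PolLaw.MulLaw A B A d) (χ : B → Polynomial A)
    (hχ : ∀ b : B, χ b = TensorProduct.rid A (Polynomial A)
      (F.law.toFun' (Polynomial A) ((1 : Polynomial A) ⊗ₜ[A] b - Polynomial.X ⊗ₜ[A] (1 : B)))) :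
    Ideal.span (Set.range fun b : B => Polynomial.aeval b (χ b)) ≤ PolLaw.ker F.law ∧
      PolLaw.ker F.law ≤ (Ideal.span (Set.range fun b : B => Polynomial.aeval b (χ b))).radical := by
  have key : ∀ b, χ b = (-1) ^ d * GrothLib.PolLaw.charPoly F A ((1 : A) ⊗ₜ[A] b) := by
    intro b
    rw [hχ, show (-1 : Polynomial A) ^ d * GrothLib.PolLaw.charPoly F A ((1 : A) ⊗ₜ[A] b) =
      GrothLib.PolLaw.valS F (Polynomial A) ((-1 : Polynomial A) •
        ((Polynomial.X : Polynomial A) ⊗ₜ[A] (1 : B) - (1 : Polynomial A) ⊗ₜ[A] b)) by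
      rw [GrothLib.PolLaw.valS_smul, GrothLib.PolLaw.charPoly]
      simp]
    show GrothLib.PolLaw.valS F (Polynomial A) _ = _
    congr 1
    simp [smul_sub, TensorProduct.smul_tmul', TensorProduct.neg_tmul]
    abel
  have hmem : ∀ b, Polynomial.aeval b (χ b) ∈ PolLaw.ker F.law := by
    intro b
    have h := GrothLib.PolLaw.aeval_charPoly_mem F A (1 ⊗ₜ[A] b)
    rw [show Polynomial.aeval ((1 : A) ⊗ₜ[A] b) (GrothLib.PolLaw.charPoly F A (1 ⊗ₜ[A] b)) =
      (1 : A) ⊗ₜ[A] Polynomial.aeval b (GrothLib.PolLaw.charPoly F A (1 ⊗ₜ[A] b)) from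
        Polynomial.aeval_algHom_apply (Algebra.TensorProduct.includeRight : B →ₐ[A] A ⊗[A] B) b _,
      ← GrothLib.PolLaw.mem_ker_iff_one_tmul_mem_kerBC] at h
    rw [key, map_mul]
    exact Ideal.mul_mem_left _ _ h
  refine ⟨Ideal.span_le.mpr (Set.range_subset_iff.mpr hmem), fun b hb => ?_⟩
  have h1 := GrothLib.PolLaw.charPoly_eq_X_pow_of_mem_kerBC F
    ((GrothLib.PolLaw.mem_ker_iff_one_tmul_mem_kerBC F b).mp hb)
  have h2 : Polynomial.aeval b (χ b) = (-b) ^ d := by
    rw [key, h1, ← mul_pow, map_pow]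
    simp
  refine Ideal.mem_radical_iff.mpr ⟨d, ?_⟩
  rw [show b ^ d = (-1) ^ d * Polynomial.aeval b (χ b) by rw [h2, ← mul_pow]; simp]
  exact Ideal.mul_mem_left _ _ (Ideal.subset_span ⟨b, rfl⟩)

end Groth.Agent.S13696
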