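import Groth.Statements.S13697
-- import your own Groth.Agent.* helpers here
import Groth.Agent.Lib.PolLaw.Fibre

set_option autoImplicit false
universe u
open scoped TensorProduct
open ZeroCyc

namespace Groth.Agent.S13697

/-- Let F : B → A be a multiplicative polynomial law homogeneous of degree d over the commutative ring
A, and let A' be any commutative A-algebra. The kernel of the base change of F to A' (an ideal of A'
⊗_A B) and the extension to A' ⊗_A B of the kernel of F have the same radical. In other words the
support (reduced image) of a family of zero-cycles of degree d on Spec B over Spec A commutes with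
every base change Spec A' → Spec A. (The published statement is for X affine over an algebraic space
S; this row is the case of an affine base, to which the general case reduces.) -/
theorem result {A : Type u} [CommRing A] {B : Type u} [CommRing B] [Algebra A B]
    {d : ℕ} (F : PolLaw.MulLaw A B A d) (A' : Type u) [CommRing A'] [Algebra A A'] :
    (PolLaw.kerBC F.law A').radical =
      ((PolLaw.ker F.law).map (Algebra.TensorProduct.includeRight : B →ₐ[A] A' ⊗[A] B)).radical := by
  classical
  refine le_antisymm ?_ (Ideal.radical_mono (GrothLib.PolLaw.map_ker_le_kerBC F A'))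
  rw [Ideal.radical_le_radical_iff]
  intro b' hb'
  rw [Ideal.radical_eq_sInf, Submodule.mem_sInf]
  rintro P ⟨hle, hP⟩
  let L := AlgebraicClosure (Ideal.ResidueField (P : Ideal (A' ⊗[A] B)))
  obtain ⟨x, hx⟩ := GrothLib.PolLaw.exists_points F L
  let ev : A' ⊗[A] B →ₐ[A] L := IsScalarTower.toAlgHom A (A' ⊗[A] B) L
  have hev : ∀ z, ev z = 0 ↔ z ∈ P := by
    intro z
    show algebraMap (A' ⊗[A] B) L z = 0 ↔ _
    rw [IsScalarTower.algebraMap_apply (A' ⊗[A] B) (Ideal.ResidueField (P : Ideal (A' ⊗[A] B))) L,
      map_eq_zero_iff _ (RingHom.injective _), Ideal.algebraMap_residueField_eq_zero]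
  obtain ⟨j, hj⟩ := hx.exists_eq (ev.comp Algebra.TensorProduct.includeRight) fun b hb =>
    (hev _).mpr (hle (Ideal.mem_map_of_mem _ hb))
  let ρ : A' →ₐ[A] L := ev.comp Algebra.TensorProduct.includeLeft
  have h := hx.charPoly_map ρ (AlgHom.id A L) b'
  rw [GrothLib.PolLaw.charPoly_eq_X_pow_of_mem_kerBC F hb', Polynomial.map_pow, Polynomial.map_X] at h
  have e : Algebra.TensorProduct.productMap ρ (x j) = ev := by
    refine Algebra.TensorProduct.ext (AlgHom.ext fun a => ?_) (AlgHom.ext fun b => ?_)
    · simp [ρ]
    · simp [← hj]
  have h2 := congrArg (Polynomial.eval (ev b')) h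
  rw [Polynomial.eval_pow, Polynomial.eval_X, Polynomial.eval_prod,
    Finset.prod_eq_zero (Finset.mem_univ j) (by simp [e])] at h2
  exact (hev b').mp (pow_eq_zero_iff (Nat.pos_iff_ne_zero.mp (Fin.pos j)) |>.mp h2)

end Groth.Agent.S13697
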