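import Groth.Statements.S13698
-- import your own Groth.Agent.* helpers here
import Groth.Agent.Lib.PolLaw.KerBC

set_option autoImplicit false
universe u
open scoped TensorProduct
open ZeroCyc

namespace Groth.Agent.S13698

/-- Let F : B → A be a multiplicative polynomial law homogeneous of degree d over the commutative ring
A, on a commutative A-algebra B which is finite as an A-module, and let A' be a localization of A at
a submonoid M. Then the kernel of the base change of F to A' is the ideal of A' ⊗_A B generated by
the kernel of F: the kernel (hence the image of a family of zero-cycles) commutes with localization.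
(The published statement has no finiteness hypothesis on B and is false without one: for a suitable
algebra B that is not finitely generated the conditions cutting out the kernel at an element are
infinitely many elements of A annihilated by elements of M but by no single one, and the kernel of
the localised law is then strictly larger than the localised kernel; the published proof's reduction
to finite B does not go through. This row assumes B finite over A, the case that proof establishes.) -/
theorem result {A : Type u} [CommRing A] {B : Type u} [CommRing B] [Algebra A B]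
    [Module.Finite A B] {d : ℕ} (F : PolLaw.MulLaw A B A d) (M : Submonoid A) (A' : Type u) [CommRing A'] [Algebra A A']
    [IsLocalization M A'] :
    (PolLaw.ker F.law).map (Algebra.TensorProduct.includeRight : B →ₐ[A] A' ⊗[A] B) =
      PolLaw.kerBC F.law A' := by
  classical
  refine le_antisymm (GrothLib.PolLaw.map_ker_le_kerBC F A') fun z hz => ?_
  obtain ⟨n, e, he⟩ := Module.Finite.exists_fin (R := A) (M := B)
  obtain ⟨s, b, rfl⟩ : ∃ (s : M) (b : B), z = IsLocalization.mk' A' (1 : A) s ⊗ₜ[A] b := by
    clear hz
    induction z using TensorProduct.induction_on with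
    | zero => exact ⟨1, 0, by simp⟩
    | tmul a b =>
      obtain ⟨c, s, rfl⟩ := IsLocalization.exists_mk'_eq M a
      refine ⟨s, c • b, ?_⟩
      rw [TensorProduct.tmul_smul, TensorProduct.smul_tmul', IsLocalization.smul_mk', mul_one]
    | add x y hx hy =>
      obtain ⟨s, b, rfl⟩ := hx
      obtain ⟨s', b', rfl⟩ := hy
      refine ⟨s * s', (s' : A) • b + (s : A) • b', ?_⟩
      rw [TensorProduct.tmul_add, TensorProduct.tmul_smul, TensorProduct.tmul_smul, TensorProduct.smul_tmul',
        TensorProduct.smul_tmul', IsLocalization.smul_mk', IsLocalization.smul_mk', mul_one, mul_one]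
      congr 2
      · exact IsLocalization.mk'_eq_of_eq (by simp [mul_comm, mul_left_comm])
      · exact IsLocalization.mk'_eq_of_eq (by simp [mul_comm, mul_left_comm])
  have h1 : (1 : A') ⊗ₜ[A] b ∈ PolLaw.kerBC F.law A' := by
    have := (PolLaw.kerBC F.law A').mul_mem_left (algebraMap A A' s ⊗ₜ[A] (1 : B)) hz
    rwa [Algebra.TensorProduct.tmul_mul_tmul, IsLocalization.mk'_spec', map_one, one_mul] at this
  obtain ⟨m, hm, hmb⟩ := GrothLib.PolLaw.exists_smul_mem_kerBC_of_map F e he M A' h1
  have e1 : IsLocalization.mk' A' (1 : A) s ⊗ₜ[A] b =
      (IsLocalization.mk' A' (1 : A) (s * ⟨m, hm⟩) ⊗ₜ[A] (1 : B)) *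
        (Algebra.TensorProduct.includeRight : B →ₐ[A] A' ⊗[A] B) (m • b) := by
    rw [Algebra.TensorProduct.includeRight_apply, Algebra.TensorProduct.tmul_mul_tmul, mul_one, one_mul,
      TensorProduct.tmul_smul, TensorProduct.smul_tmul', IsLocalization.smul_mk', mul_one]
    congr 1
    exact IsLocalization.mk'_eq_of_eq (by simp [mul_comm, mul_left_comm])
  rw [e1]
  exact Ideal.mul_mem_left _ _ (Ideal.mem_map_of_mem _ hmb)

end Groth.Agent.S13698
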