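import Groth.Statements.S13699
-- import your own Groth.Agent.* helpers here
import Groth.Agent.Lib.PolLaw.CharPoly

set_option autoImplicit false
universe u
open scoped TensorProduct
open ZeroCyc

namespace Groth.Agent.S13699

/-- Let F : B → A be a multiplicative polynomial law homogeneous of degree d over the commutative ring
A. Then the kernel of the base change of F to the polynomial ring A[X] is the ideal of A[X] ⊗_A B
generated by the kernel of F. -/
theorem result {A : Type u} [CommRing A] {B : Type u} [CommRing B] [Algebra A B]
    {d : ℕ} (F : PolLaw.MulLaw A B A d) :
    (PolLaw.ker F.law).map (Algebra.TensorProduct.includeRight : B →ₐ[A] Polynomial A ⊗[A] B) =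
      PolLaw.kerBC F.law (Polynomial A) := by
  exact (GrothLib.PolLaw.kerBC_polynomial_eq F).symm

end Groth.Agent.S13699
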