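import Groth.Statements.S13701
-- import your own Groth.Agent.* helpers here
import Groth.Agent.Lib.PolLaw.KerBC
import Mathlib.LinearAlgebra.TensorProduct.Pi

set_option autoImplicit false
universe u
open scoped TensorProduct
open ZeroCyc

namespace Groth.Agent.S13701

/-- Let A be a commutative ℚ-algebra, F : B → A a multiplicative polynomial law homogeneous of degree d
on a commutative A-algebra B which is finite as an A-module, and A' a commutative A-algebra which is
flat as an A-module. Then the kernel of the base change of F to A' is the ideal of A' ⊗_A B
generated by the kernel of F. (In positive characteristic this fails even for finite free base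
change. The published statement has no finiteness hypothesis on B and is false without one: a
localisation of A is flat, and for a suitable algebra B that is not finitely generated the kernel
does not commute with it; the published proof's reduction to finite B does not go through. This row
assumes B finite over A, the case that proof establishes: there the kernel is the intersection of
finitely many kernels of A-linear maps on B, which commutes with flat base change.) -/
theorem result {A : Type u} [CommRing A] [Algebra ℚ A] {B : Type u} [CommRing B] [Algebra A B]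
    [Module.Finite A B] {d : ℕ} (F : PolLaw.MulLaw A B A d) (A' : Type u) [CommRing A'] [Algebra A A'] [Module.Flat A A'] :
    (PolLaw.ker F.law).map (Algebra.TensorProduct.includeRight : B →ₐ[A] A' ⊗[A] B) =
      PolLaw.kerBC F.law A' := by
  classical
  refine le_antisymm (GrothLib.PolLaw.map_ker_le_kerBC F A') fun z hz => ?_
  obtain ⟨n, e, he⟩ := Module.Finite.exists_fin (R := A) (M := B)
  let Φ : B →ₗ[A] (Fin n → A) :=
    LinearMap.pi fun i => (GrothLib.PolLaw.tau F).comp (LinearMap.mulLeft A (e i))
  have hΦ : ∀ (R : Type u) [CommRing R] [Algebra A R] (x : R ⊗[A] B) (i : Fin n),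
      TensorProduct.piScalarRight A A R (Fin n) (Φ.lTensor R x) i =
        GrothLib.PolLaw.tauS F (((1 : R) ⊗ₜ[A] e i) * x) := by
    intro R _ _ x i
    rw [GrothLib.PolLaw.tauS_eq_tau]
    induction x using TensorProduct.induction_on with
    | zero => simp
    | tmul r b => simp [Φ, Algebra.TensorProduct.tmul_mul_tmul]
    | add x y hx hy => simp only [mul_add, map_add, Pi.add_apply, hx, hy]
  have hker : ∀ b : B, Φ b = 0 → b ∈ PolLaw.ker F.law := by
    intro b hb
    rw [GrothLib.PolLaw.mem_ker_iff_one_tmul_mem_kerBC, GrothLib.PolLaw.mem_kerBC_iff_tauS]
    intro y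
    obtain ⟨c, rfl⟩ := (Submodule.mem_span_range_iff_exists_fun A).mp
      (by rw [he]; trivial : y ∈ Submodule.span A (Set.range e))
    rw [GrothLib.PolLaw.tauS_eq_tau]
    simp only [TensorProduct.tmul_sum, Finset.sum_mul, map_sum]
    refine Finset.sum_eq_zero fun i _ => ?_
    have : GrothLib.PolLaw.tau F (e i * b) = 0 := congrFun hb i
    simp [Algebra.TensorProduct.tmul_mul_tmul, this]
  have hzero : Φ.lTensor A' z = 0 := (TensorProduct.piScalarRight A A A' (Fin n)).injective <| funext fun i => by
    rw [map_zero, Pi.zero_apply, hΦ]
    exact (GrothLib.PolLaw.mem_kerBC_iff_tauS F A' z).mp hz (e i)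
  obtain ⟨w, rfl⟩ := (Module.Flat.lTensor_exact (M := A') (LinearMap.exact_subtype_ker_map Φ) z).mp hzero
  clear hz hzero
  induction w using TensorProduct.induction_on with
  | zero => simp
  | tmul a b =>
    rw [LinearMap.lTensor_tmul, show a ⊗ₜ[A] (LinearMap.ker Φ).subtype b = (a ⊗ₜ[A] (1 : B)) *
      (Algebra.TensorProduct.includeRight : B →ₐ[A] A' ⊗[A] B) b.1 by simp]
    exact Ideal.mul_mem_left _ _ (Ideal.mem_map_of_mem _ (hker b.1 b.2))
  | add x y hx hy => rw [map_add]; exact add_mem hx hy

end Groth.Agent.S13701
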