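import Groth.Statements.S13702
-- import your own Groth.Agent.* helpers here
import Mathlib.RingTheory.AdjoinRoot
import Mathlib.RingTheory.LocalRing.ResidueField.Basic
import Mathlib.FieldTheory.IsAlgClosed.AlgebraicClosure
import Mathlib.LinearAlgebra.Determinant
import Mathlib.FieldTheory.Separable
import Mathlib.FieldTheory.Perfect

set_option autoImplicit false
universe u
open ZeroCyc

namespace Groth.Agent.S13702

/-- Let A be a local ring with residue field of characteristic p > 0, let g ∈ A[X] be monic and
separable of degree n, so that A' = A[X]/(g) is an étale A-algebra, and let q = p^s with s ≥ 0. Then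
the powers 1, t^q, t^{2q}, …, t^{(n-1)q} of the class t of X form a basis of A' as an A-module. -/
theorem result {A : Type u} [CommRing A] [IsLocalRing A] (p : ℕ) [Fact p.Prime]
    [CharP (IsLocalRing.ResidueField A) p] (g : Polynomial A) (hg : g.Monic) (hsep : g.Separable) (s : ℕ) :
    ∃ b : Module.Basis (Fin g.natDegree) A (AdjoinRoot g),
      ∀ i : Fin g.natDegree, b i = AdjoinRoot.root g ^ (p ^ s * (i : ℕ)) := by
  classical
  set n := g.natDegree with hn
  set q := p ^ s with hq
  set π := IsLocalRing.residue A
  set K := AlgebraicClosure (IsLocalRing.ResidueField A)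
  haveI : CharP K p := charP_of_injective_algebraMap (algebraMap (IsLocalRing.ResidueField A) K).injective p
  haveI : ExpChar K p := ExpChar.prime Fact.out
  let e : Module.Basis (Fin n) A (AdjoinRoot g) := AdjoinRoot.powerBasisAux' hg
  let v : Fin n → AdjoinRoot g := fun i => AdjoinRoot.root g ^ (q * (i : ℕ))
  suffices IsUnit (e.det v) by
    obtain ⟨hli, hsp⟩ := e.is_basis_iff_det.2 this
    exact ⟨Module.Basis.mk hli hsp.ge, fun i => Module.Basis.mk_apply hli hsp.ge i⟩
  rw [Module.Basis.det_apply, ← IsLocalRing.residue_ne_zero_iff_isUnit, RingHom.map_det]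
  rw [← isUnit_iff_ne_zero, ← Matrix.isUnit_iff_isUnit_det, ← Matrix.linearIndependent_cols_iff_isUnit]
  rw [Fintype.linearIndependent_iff]
  intro c hc
  rcases Nat.eq_zero_or_pos n with hn0 | hn0
  · intro i
    exact absurd (lt_of_lt_of_eq i.2 hn0) (Nat.not_lt_zero _)
  set gb := g.map π with hgbar
  have hrep : ∀ i j, e.repr (v i) j = ((Polynomial.X ^ (q * (i : ℕ))) %ₘ g).coeff (j : ℕ) := by
    intro i j
    show (AdjoinRoot.powerBasisAux' hg).repr _ j = _
    rw [show v i = AdjoinRoot.mk g (Polynomial.X ^ (q * (i : ℕ))) from by simp [v]]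
    rfl
  let P : Polynomial (IsLocalRing.ResidueField A) := ∑ i : Fin n, Polynomial.C (c i) * Polynomial.X ^ (i : ℕ)
  let Q : Polynomial (IsLocalRing.ResidueField A) := ∑ i : Fin n, Polynomial.C (c i) * Polynomial.X ^ (q * (i : ℕ))
  have hgm : gb.Monic := hg.map π
  have hgdeg : gb.natDegree = n := hg.natDegree_map π
  have hQ0 : Q %ₘ gb = 0 := by
    ext m
    rw [Polynomial.coeff_zero]
    rcases Nat.lt_or_ge m n with hm | hm
    · have h := congr_fun hc ⟨m, hm⟩
      rw [Pi.zero_apply] at h
      rw [← h]
      simp only [Q, ← Polynomial.modByMonicHom_apply, map_sum, ← Polynomial.smul_eq_C_mul, map_smul,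
        Polynomial.finsetSum_coeff, Finset.sum_apply, Pi.smul_apply, Polynomial.coeff_smul]
      refine Finset.sum_congr rfl fun i _ => ?_
      congr 1
      simp only [Polynomial.modByMonicHom_apply, Matrix.col_apply, RingHom.mapMatrix_apply,
        Matrix.map_apply, Module.Basis.toMatrix_apply, hrep]
      rw [← Polynomial.coeff_map, Polynomial.map_modByMonic π hg, Polynomial.map_pow, Polynomial.map_X]
    · refine Polynomial.coeff_eq_zero_of_degree_lt (lt_of_lt_of_le (Polynomial.degree_modByMonic_lt _ hgm) ?_)
      rw [Polynomial.degree_eq_natDegree hgm.ne_zero, hgdeg]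
      exact_mod_cast hm
  have hdvd : gb ∣ Q := (Polynomial.modByMonic_eq_zero_iff_dvd hgm).1 hQ0
  have hsep' : gb.Separable := hsep.map
  let rts := (gb.map (algebraMap _ K)).roots
  have hcard : rts.toFinset.card = n := by
    rw [Multiset.toFinset_card_of_nodup (Polynomial.nodup_roots (hsep'.map)),
      IsAlgClosed.card_roots_eq_natDegree, Polynomial.natDegree_map, hgdeg]
  have hinj : Function.Injective fun x : K => x ^ q := iterateFrobenius_inj K p s
  have hP : P.map (algebraMap _ K) = 0 := by
    refine Polynomial.eq_zero_of_natDegree_lt_card_of_eval_eq_zero' _ (rts.toFinset.image fun x => x ^ q)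
      (fun y hy => ?_) ?_
    · obtain ⟨x, hx, rfl⟩ := Finset.mem_image.1 hy
      rw [Multiset.mem_toFinset, Polynomial.mem_roots', Polynomial.IsRoot] at hx
      have h2 : (Q.map (algebraMap _ K)).eval x = 0 := by
        obtain ⟨r, hr⟩ := hdvd
        rw [hr, Polynomial.map_mul, Polynomial.eval_mul, hx.2, zero_mul]
      rw [← h2]
      simp [P, Q, Polynomial.eval_finsetSum, Polynomial.map_sum, pow_mul]
    · rw [Finset.card_image_of_injective _ hinj, hcard, Polynomial.natDegree_map]
      · refine lt_of_le_of_lt (Polynomial.natDegree_sum_le_of_forall_le (n := n - 1) _ _ fun i _ => ?_) (by omega)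
        exact (Polynomial.natDegree_C_mul_X_pow_le _ _).trans (by omega)
  rw [Polynomial.map_eq_zero] at hP
  intro i
  have := congr_arg (fun z : Polynomial _ => z.coeff (i : ℕ)) hP
  simpa [P, Polynomial.coeff_C_mul_X_pow, Fin.val_inj] using this

end Groth.Agent.S13702
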