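import Groth.Statements.S13703
-- import your own Groth.Agent.* helpers here
import Groth.Agent.Lib.PolLaw.Fibre

set_option autoImplicit false
universe u
open scoped TensorProduct
open ZeroCyc

namespace Groth.Agent.S13703

/-- Let A be an integral domain, B a commutative A-algebra and F : B → A a multiplicative polynomial law
homogeneous of degree d. For every prime ideal P of B minimal among those containing the kernel of
F, the contraction of P to A is zero and every prime of A is the contraction of a prime of B
containing P. Geometrically: every irreducible component of the support of the family of zero-cycles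
on Spec B defined by F maps onto Spec A. (The published statement is over an arbitrary algebraic
space S, every irreducible component of the support mapping onto an irreducible component of S, and
its proof reduces to an integral affine base; this row is that case.) -/
theorem result {A : Type u} [CommRing A] [IsDomain A] {B : Type u} [CommRing B] [Algebra A B]
    {d : ℕ} (F : PolLaw.MulLaw A B A d) {P : Ideal B} (hP : P ∈ (PolLaw.ker F.law).minimalPrimes) :
    P.comap (algebraMap A B) = ⊥ ∧
      ∀ q : Ideal A, q.IsPrime → ∃ Q : Ideal B, Q.IsPrime ∧ P ≤ Q ∧ Q.comap (algebraMap A B) = q := by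
  classical
  let L := AlgebraicClosure (FractionRing A)
  obtain ⟨x, hx⟩ := GrothLib.PolLaw.exists_points F L
  have hinj : Function.Injective (algebraMap A L) :=
    (algebraMap (FractionRing A) L).injective.comp (IsFractionRing.injective A (FractionRing A))
  have hPp : P.IsPrime := hP.1.1
  have hinf : Finset.univ.inf (fun j => RingHom.ker (x j)) ≤ P := by
    intro b hb
    rw [Submodule.mem_finsetInf] at hb
    have h := hx.charPoly_one_tmul b
    rw [Finset.prod_congr rfl fun j _ => by rw [RingHom.mem_ker.mp (hb j (Finset.mem_univ j)), map_zero, sub_zero],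
      Finset.prod_const, Finset.card_univ, Fintype.card_fin] at h
    have hc : GrothLib.PolLaw.charPoly F A (1 ⊗ₜ[A] b) = Polynomial.X ^ d :=
      Polynomial.map_injective _ hinj (by rw [h, Polynomial.map_pow, Polynomial.map_X])
    have h' := GrothLib.PolLaw.aeval_charPoly_mem F A (1 ⊗ₜ[A] b)
    rw [hc, map_pow, Polynomial.aeval_X, Algebra.TensorProduct.tmul_pow, one_pow,
      ← GrothLib.PolLaw.mem_ker_iff_one_tmul_mem_kerBC] at h'
    exact hPp.mem_of_pow_mem d (hP.1.2 h')
  obtain ⟨j, -, hj⟩ := (Ideal.IsPrime.inf_le' hPp).mp hinf
  have hkx : P ≤ RingHom.ker (x j) := hP.2 ⟨RingHom.ker_isPrime _, fun b hb => hx.apply_eq_zero hb j⟩ hj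
  have hbot : P.comap (algebraMap A B) = ⊥ := by
    refine eq_bot_iff.mpr fun a ha => ?_
    have := hkx ha
    rw [RingHom.mem_ker, AlgHom.commutes, map_eq_zero_iff _ hinj] at this
    exact this
  refine ⟨hbot, fun q hq => ?_⟩
  have := GrothLib.PolLaw.isIntegral_image F
  let mk := Ideal.Quotient.mk (PolLaw.ker F.law)
  have hcm : (P.map mk).comap mk = P := by
    rw [Ideal.comap_map_of_surjective _ Ideal.Quotient.mk_surjective, ← RingHom.ker_eq_comap_bot,
      Ideal.mk_ker, sup_eq_left.mpr hP.1.2]
  have : (P.map mk).IsPrime := Ideal.map_isPrime_of_surjective Ideal.Quotient.mk_surjective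
    (by rw [Ideal.mk_ker]; exact hP.1.2)
  obtain ⟨Q, hQ, hQp, hQc⟩ := Ideal.exists_ideal_over_prime_of_isIntegral
    (S := PolLaw.image F.law) q (P.map mk) (by
      refine (show (P.map mk).comap (algebraMap A _) = ⊥ from ?_) ▸ bot_le
      rw [show (algebraMap A (PolLaw.image F.law)) = mk.comp (algebraMap A B) from rfl, ← Ideal.comap_comap, hcm, hbot])
  refine ⟨Q.comap mk, inferInstance, hcm ▸ Ideal.comap_mono hQ, ?_⟩
  rw [Ideal.comap_comap]
  exact hQc

end Groth.Agent.S13703
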