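import Groth.Statements.S13706
-- import your own Groth.Agent.* helpers here
import Groth.Agent.Lib.PolLaw.Fibre

set_option autoImplicit false
universe u
open scoped TensorProduct
open ZeroCyc

namespace Groth.Agent.S13706

/-- Let A be a commutative ring, B an A-algebra of finite type and F : B → A a multiplicative polynomial
law homogeneous of degree d. Then there is a finitely generated ideal J of B, contained in the
kernel of F and with the same radical; thus the support of the family of zero-cycles defined by F is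
carried by a bijective closed immersion into Spec(B/J), a scheme of finite presentation over A. -/
theorem result {A : Type u} [CommRing A] {B : Type u} [CommRing B] [Algebra A B]
    [Algebra.FiniteType A B] {d : ℕ} (F : PolLaw.MulLaw A B A d) :
    ∃ J : Ideal B, J.FG ∧ J ≤ PolLaw.ker F.law ∧ J.radical = (PolLaw.ker F.law).radical := by
  classical
  obtain ⟨n, π, hπ⟩ := Algebra.FiniteType.iff_quotient_mvPolynomial''.mp ‹Algebra.FiniteType A B›
  let g : Fin n → B := fun i => π (MvPolynomial.X i)
  let c : Polynomial A ⊗[A] B := ∑ i : Fin n, (Polynomial.X ^ (i : ℕ) : Polynomial A) ⊗ₜ[A] g i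
  let e := TensorProduct.equivFinsuppOfBasisLeft (N := B) (Polynomial.basisMonomials A)
  let q := Polynomial.aeval c (GrothLib.PolLaw.charPoly F (Polynomial A) c)
  let J : Ideal B := Ideal.span ((e q).support.image (e q) : Set B)
  have hq : q ∈ (PolLaw.ker F.law).map
      (Algebra.TensorProduct.includeRight : B →ₐ[A] Polynomial A ⊗[A] B) := by
    rw [← GrothLib.PolLaw.kerBC_polynomial_eq]
    exact GrothLib.PolLaw.aeval_charPoly_mem F _ c
  have hcoef : ∀ z ∈ (PolLaw.ker F.law).map
      (Algebra.TensorProduct.includeRight : B →ₐ[A] Polynomial A ⊗[A] B), ∀ k, e z k ∈ PolLaw.ker F.law := by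
    intro z hz
    rw [Ideal.map, Ideal.span] at hz
    induction hz using Submodule.span_induction with
    | mem z hz =>
      obtain ⟨b, hb, rfl⟩ := hz
      intro k
      simp only [e, Algebra.TensorProduct.includeRight_apply,
        TensorProduct.equivFinsuppOfBasisLeft_apply_tmul_apply]
      rw [Algebra.smul_def]
      exact Ideal.mul_mem_left _ _ hb
    | zero => simp
    | add x y _ _ hx hy => intro k; rw [map_add, Finsupp.add_apply]; exact add_mem (hx k) (hy k)
    | smul r x _ hx =>
      induction r using TensorProduct.induction_on with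
      | zero => simp
      | tmul p b =>
        intro k
        rw [smul_eq_mul, ← e.symm_apply_apply x, TensorProduct.equivFinsuppOfBasisLeft_symm_apply,
          Finsupp.sum, Finset.mul_sum, map_sum, Finsupp.finsetSum_apply]
        refine Ideal.sum_mem _ fun i _ => ?_
        simp only [Algebra.TensorProduct.tmul_mul_tmul, e,
          TensorProduct.equivFinsuppOfBasisLeft_apply_tmul_apply]
        rw [Algebra.smul_def]
        exact Ideal.mul_mem_left _ _ (Ideal.mul_mem_left _ _ (hx i))
      | add p p' hp hp' =>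
        intro k
        rw [add_smul, map_add, Finsupp.add_apply]
        exact add_mem (hp k) (hp' k)
  have hJ : J ≤ PolLaw.ker F.law := by
    refine Ideal.span_le.mpr fun b hb => ?_
    obtain ⟨k, -, rfl⟩ := Finset.mem_image.mp (Finset.mem_coe.mp hb)
    exact hcoef q hq k
  refine ⟨J, ⟨_, rfl⟩, hJ, le_antisymm (Ideal.radical_mono hJ) ?_⟩
  rw [Ideal.radical_le_radical_iff]
  intro b hb
  rw [Ideal.radical_eq_sInf, Submodule.mem_sInf]
  rintro P ⟨hle, hP⟩
  have hP' : Ideal.IsPrime (P : Ideal B) := hP
  let L := AlgebraicClosure (Ideal.ResidueField (P : Ideal B))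
  obtain ⟨x, hx⟩ := GrothLib.PolLaw.exists_points F L
  let x₀ : B →ₐ[A] L := IsScalarTower.toAlgHom A B L
  have hx₀ : ∀ z, x₀ z = 0 ↔ z ∈ P := by
    intro z
    show algebraMap B L z = 0 ↔ _
    rw [IsScalarTower.algebraMap_apply B (Ideal.ResidueField (P : Ideal B)) L,
      map_eq_zero_iff _ (RingHom.injective _), Ideal.algebraMap_residueField_eq_zero]
  let ρ : Polynomial A →ₐ[A] Polynomial L := Polynomial.mapAlgHom (Algebra.ofId A L)
  let ι : L →ₐ[A] Polynomial L := IsScalarTower.toAlgHom A L (Polynomial L)
  let Φ : (B →ₐ[A] L) → (Polynomial A ⊗[A] B →ₐ[A] Polynomial L) := fun y =>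
    Algebra.TensorProduct.productMap ρ (ι.comp y)
  have h0 : Φ x₀ q = 0 := by
    rw [← e.symm_apply_apply q, TensorProduct.equivFinsuppOfBasisLeft_symm_apply, map_finsuppSum]
    refine Finset.sum_eq_zero fun k hk => ?_
    simp [Φ, (hx₀ _).mpr (hle (Ideal.subset_span (Finset.mem_coe.mpr (Finset.mem_image_of_mem (e q) hk))))]
  have h2 : (GrothLib.PolLaw.charPoly F (Polynomial A) c).eval₂ ρ.toRingHom (Φ x₀ c) = 0 := by
    rw [← h0]
    show _ = (Φ x₀).toRingHom (Polynomial.eval₂ _ _ _)
    rw [Polynomial.hom_eval₂]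
    congr 1
    refine RingHom.ext fun a => ?_
    show ρ a = Φ x₀ (a ⊗ₜ[A] 1)
    simp [Φ]
  rw [← Polynomial.eval_map, hx.charPoly_map ρ ι c, Polynomial.eval_prod, Finset.prod_eq_zero_iff] at h2
  obtain ⟨j, -, hj⟩ := h2
  rw [Polynomial.eval_sub, Polynomial.eval_X, Polynomial.eval_C, sub_eq_zero] at hj
  have hg : ∀ i, x₀ (g i) = x j (g i) := by
    intro i
    have hc : ∀ y : B →ₐ[A] L, (Φ y c).coeff (i : ℕ) = y (g i) := by
      intro y
      simp only [Φ, c, map_sum, Algebra.TensorProduct.productMap_apply_tmul, Polynomial.finsetSum_coeff]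
      rw [Finset.sum_eq_single i]
      · simp [ρ, ι, Polynomial.mapAlgHom]
      · intro i' _ hi
        simp [ρ, ι, Polynomial.mapAlgHom, Polynomial.coeff_X_pow, Fin.val_inj, Ne.symm hi]
      · simp
    rw [← hc x₀, ← hc (x j)]
    exact congrArg (fun p => Polynomial.coeff p (i : ℕ)) hj
  have hx' : x₀ = x j := by
    have : x₀.comp π = (x j).comp π := MvPolynomial.algHom_ext hg
    exact (AlgHom.cancel_right hπ).mp this
  exact (hx₀ b).mp (hx' ▸ hx.apply_eq_zero hb j)

end Groth.Agent.S13706
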