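import Groth.Statements.S13707
-- import your own Groth.Agent.* helpers here
import Groth.Agent.Lib.PolLaw.Fibre

set_option autoImplicit false
universe u
open scoped TensorProduct
open ZeroCyc

namespace Groth.Agent.S13707

/-- Let k be a field, B a commutative k-algebra and F : B → k a multiplicative polynomial law
homogeneous of degree d. Then the spectrum of B/ker F (the image of the family of zero-cycles of
degree d on Spec B defined by F) is a finite set of at most d closed points, and the residue field
at each of them has finite separable degree over k. -/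
theorem result {k : Type u} [Field k] {B : Type u} [CommRing B] [Algebra k B]
    {d : ℕ} (F : PolLaw.MulLaw k B k d) :
    Finite (PrimeSpectrum (PolLaw.image F.law)) ∧ Nat.card (PrimeSpectrum (PolLaw.image F.law)) ≤ d ∧
      ∀ P : PrimeSpectrum (PolLaw.image F.law), P.asIdeal.IsMaximal ∧
        Finite (Field.Emb k P.asIdeal.ResidueField) := by
  classical
  let L := AlgebraicClosure k
  have := GrothLib.PolLaw.isIntegral_image F
  have key : ∀ (L : Type u) [Field L] [Algebra k L] (x : Fin d → (B →ₐ[k] L))
      (hx : GrothLib.PolLaw.HasPoints F L x) (σ : PolLaw.image F.law →ₐ[k] L), ∃ j, σ = hx.bar j := by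
    intro L _ _ x hx σ
    obtain ⟨j, hj⟩ := hx.exists_eq (σ.comp (Ideal.Quotient.mkₐ k (PolLaw.ker F.law))) fun b hb => by
      simp [Ideal.Quotient.eq_zero_iff_mem.mpr hb]
    refine ⟨j, AlgHom.ext fun z => ?_⟩
    obtain ⟨b, rfl⟩ := Ideal.Quotient.mk_surjective z
    exact AlgHom.congr_fun hj b
  obtain ⟨x, hx⟩ := GrothLib.PolLaw.exists_points F L
  let f : Fin d → PrimeSpectrum (PolLaw.image F.law) := fun j =>
    ⟨RingHom.ker (hx.bar j), RingHom.ker_isPrime _⟩
  have hf : Function.Surjective f := fun P => by
    let σ : PolLaw.image F.law →ₐ[k] L :=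
      (IsAlgClosed.lift (S := PolLaw.image F.law ⧸ P.asIdeal) (M := L) (R := k)).comp (Ideal.Quotient.mkₐ k P.asIdeal)
    have hker : RingHom.ker σ = P.asIdeal := by
      ext z
      show IsAlgClosed.lift (Ideal.Quotient.mk P.asIdeal z) = 0 ↔ _
      rw [map_eq_zero_iff _ ?_, Ideal.Quotient.eq_zero_iff_mem]
      have : IsField (PolLaw.image F.law ⧸ P.asIdeal) :=
        isField_of_isIntegral_of_isField' (R := k) (Field.toIsField k)
      let := this.toField
      exact RingHom.injective (IsAlgClosed.lift (S := PolLaw.image F.law ⧸ P.asIdeal) (M := L) (R := k)).toRingHom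
    obtain ⟨j, hj⟩ := key L x hx σ
    exact ⟨j, PrimeSpectrum.ext (by rw [← hker, hj])⟩
  refine ⟨Finite.of_surjective f hf, (Nat.card_le_card_of_surjective f hf).trans (by simp), fun P => ⟨?_, ?_⟩⟩
  · exact Ideal.Quotient.maximal_of_isField _
      (isField_of_isIntegral_of_isField' (R := k) (Field.toIsField k))
  · obtain ⟨y, hy⟩ := GrothLib.PolLaw.exists_points F (AlgebraicClosure P.asIdeal.ResidueField)
    let π : PolLaw.image F.law →ₐ[k] P.asIdeal.ResidueField := IsScalarTower.toAlgHom k _ _
    choose idx hidx using fun σ : Field.Emb k P.asIdeal.ResidueField =>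
      key _ y hy ((σ : P.asIdeal.ResidueField →ₐ[k] AlgebraicClosure P.asIdeal.ResidueField).comp π)
    refine Finite.of_injective idx fun σ τ h => ?_
    have h' : ∀ z, σ (π z) = τ (π z) := fun z =>
      AlgHom.congr_fun ((hidx σ).trans ((congrArg (hy.bar ·) h).trans (hidx τ).symm)) z
    refine AlgHom.ext fun w => ?_
    obtain ⟨a, b, -, rfl⟩ := IsFractionRing.div_surjective (PolLaw.image F.law ⧸ P.asIdeal) w
    obtain ⟨a, rfl⟩ := Ideal.Quotient.mk_surjective a
    obtain ⟨b, rfl⟩ := Ideal.Quotient.mk_surjective b
    rw [map_div₀, map_div₀]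
    exact congrArg₂ (· / ·) (h' a) (h' b)

end Groth.Agent.S13707
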