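import Groth.Statements.S13708
-- import your own Groth.Agent.* helpers here
import Mathlib.AlgebraicGeometry.Morphisms.Separated
import Mathlib.AlgebraicGeometry.PullbackCarrier
import Mathlib.AlgebraicGeometry.Morphisms.Immersion

set_option autoImplicit false
universe u
open CategoryTheory CategoryTheory.Limits AlgebraicGeometry
open ZeroCyc

namespace Groth.Agent.S13708

/-- Let X be a scheme over S such that every finite set of points of X over a common point of S lies in
some affine open subscheme of X (the condition (AF)). Then X is separated over S. (The published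
condition (AF) asks for an open U with U → S quasi-affine rather than U affine; with U affine, as
here, the same argument applies verbatim, and the two conditions agree over a quasi-separated base.) -/
theorem result {X S : Scheme.{u}} (f : X ⟶ S) (hX : SymProd.IsAF f) :
    IsSeparated f := by
  classical
  rw [isSeparated_iff]
  refine IsClosedImmersion.of_isPreimmersion _ (isOpen_compl_iff.mp ?_)
  rw [isOpen_iff_forall_mem_open]
  intro z hz
  obtain ⟨U, hU, hT⟩ := hX ((pullback.fst f f ≫ f) z) {pullback.fst f f z, pullback.snd f f z}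
    (fun x hx => by
      rcases Finset.mem_insert.mp hx with rfl | hx
      · rfl
      · rw [Finset.mem_singleton] at hx
        subst hx
        rw [pullback.condition]
        rfl)
  haveI : IsAffine U.toScheme := hU
  haveI : IsSeparated (U.ι ≫ f) := inferInstance
  let j : pullback (U.ι ≫ f) (U.ι ≫ f) ⟶ pullback f f :=
    pullback.map _ _ _ _ U.ι U.ι (𝟙 S) (by simp) (by simp)
  have hj : j.opensRange = (pullback.fst f f ⁻¹ᵁ U) ⊓ (pullback.snd f f ⁻¹ᵁ U) := by
    apply TopologicalSpace.Opens.ext
    simp [j, Scheme.Pullback.range_map]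
  have hcomm : pullback.diagonal (U.ι ≫ f) ≫ j = U.ι ≫ pullback.diagonal f := by
    apply pullback.hom_ext <;> simp only [j, pullback.map, Category.assoc, pullback.lift_fst,
      pullback.lift_snd, pullback.diagonal_fst_assoc, pullback.diagonal_snd_assoc,
      pullback.diagonal_fst, pullback.diagonal_snd, Category.comp_id]
  have hcl : IsClosed (Set.range (pullback.diagonal (U.ι ≫ f))) :=
    (pullback.diagonal (U.ι ≫ f)).isClosedEmbedding.isClosed_range
  refine ⟨j '' (Set.range (pullback.diagonal (U.ι ≫ f)))ᶜ, ?_,
    j.isOpenEmbedding.isOpenMap _ hcl.isOpen_compl, ?_⟩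
  · rintro _ ⟨w, hw, rfl⟩ ⟨x, hx⟩
    have hxU : x ∈ U := by
      have h1 : j w ∈ j.opensRange := ⟨w, rfl⟩
      rw [hj, ← hx] at h1
      have h2 := h1.1
      change (pullback.fst f f) (pullback.diagonal f x) ∈ U at h2
      rwa [← Scheme.Hom.comp_apply, pullback.diagonal_fst] at h2
    refine hw ⟨⟨x, hxU⟩, j.isOpenEmbedding.injective ?_⟩
    rw [← hx, ← Scheme.Hom.comp_apply, hcomm, Scheme.Hom.comp_apply]
    rfl
  · have hzj : z ∈ j.opensRange := by rw [hj]; exact ⟨hT _ (by simp), hT _ (by simp)⟩
    obtain ⟨w, rfl⟩ := hzj
    refine ⟨w, ?_, rfl⟩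
    rintro ⟨p, rfl⟩
    refine hz ⟨U.ι p, ?_⟩
    rw [← Scheme.Hom.comp_apply, ← hcomm, Scheme.Hom.comp_apply]

end Groth.Agent.S13708
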