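import Groth.Statements.S13709
-- import your own Groth.Agent.* helpers here
import Groth.Agent.Lib.FFDesc.Basic


set_option autoImplicit false
universe u
open CategoryTheory CategoryTheory.Limits AlgebraicGeometry
open ZeroCyc

namespace Groth.Agent.S13709

/-- Let f : X → Y be a quasi-compact morphism of schemes and g : Y' → Y a faithfully flat morphism, i.e.
flat and surjective, with no quasi-compactness assumption on g. If the base change X ×_Y Y' → Y' of
f along g is a homeomorphism on underlying spaces, then so is f. -/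
theorem result {X Y Y' : Scheme.{u}} (f : X ⟶ Y) (g : Y' ⟶ Y)
    [Flat g] [Surjective g] [QuasiCompact f] (h : IsHomeomorph (pullback.snd f g).base) :
    IsHomeomorph f.base := by
  have hsurj : Function.Surjective f := fun y => by
    obtain ⟨y', rfl⟩ := g.surjective y
    obtain ⟨z, hz⟩ := h.surjective y'
    refine ⟨pullback.fst f g z, ?_⟩
    rw [← Scheme.Hom.comp_apply, pullback.condition, Scheme.Hom.comp_apply]
    exact congrArg g hz
  have hinj : Function.Injective f := by
    intro x₁ x₂ e
    obtain ⟨y', hy'⟩ := g.surjective (f x₁)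
    obtain ⟨z₁, a₁, b₁⟩ := Scheme.Pullback.exists_preimage_pullback (f := f) (g := g) x₁ y' hy'.symm
    obtain ⟨z₂, a₂, b₂⟩ := Scheme.Pullback.exists_preimage_pullback (f := f) (g := g) x₂ y' (e.symm.trans hy'.symm)
    rw [← a₁, ← a₂, h.injective (b₁.trans b₂.symm)]
  have hclosed : IsClosedMap f := by
    rw [isClosedMap_iff_specializingMap]
    intro x y (hxy : f x ⤳ y)
    obtain ⟨y₀, hy₀⟩ := g.surjective y
    obtain ⟨y₁, hy₁, hgy₁⟩ := Flat.generalizingMap g (show f x ⤳ g y₀ by rwa [hy₀])
    obtain ⟨z₁, a₁, b₁⟩ := Scheme.Pullback.exists_preimage_pullback (f := f) (g := g) x y₁ hgy₁.symm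
    obtain ⟨z₀, hz, hz₀⟩ := h.isClosedMap.specializingMap (show pullback.snd f g z₁ ⤳ y₀ by rwa [b₁])
    refine ⟨pullback.fst f g z₀, ?_, ?_⟩
    · show x ⤳ _
      rw [← a₁]
      exact hz.map (Scheme.Hom.continuous _)
    · rw [← Scheme.Hom.comp_apply, pullback.condition, Scheme.Hom.comp_apply]
      exact (congrArg g hz₀).trans hy₀
  exact isHomeomorph_iff_continuous_isClosedMap_bijective.mpr ⟨f.continuous, hclosed, hinj, hsurj⟩


end Groth.Agent.S13709
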