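import Groth.Statements.S1371
import Groth.Agent.Lib.GenFree.Presentation
import Mathlib.RingTheory.Flat.Basic
import Mathlib.RingTheory.Localization.BaseChange

set_option autoImplicit false
universe u
open FlatMor

namespace Groth.Agent.S1371

/-- Let R be a Noetherian domain, R → A → B ring maps of finite type, M a finite A-module, N a finite
B-module and u : M → N an A-linear map. Then there is a nonzero f in R such that the cokernel of u,
localized at f, is a flat module over R[1/f]. -/
theorem result {R A B : Type u} [CommRing R] [IsDomain R] [IsNoetherianRing R] [CommRing A] [CommRing B]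
    [Algebra R A] [Algebra A B] [Algebra R B] [IsScalarTower R A B] [Algebra.FiniteType R A] [Algebra.FiniteType A B]
    {M N : Type u} [AddCommGroup M] [Module A M] [Module R M] [IsScalarTower R A M] [Module.Finite A M]
    [AddCommGroup N] [Module B N] [Module A N] [Module R N] [IsScalarTower A B N] [IsScalarTower R A N] [Module.Finite B N]
    (u : M →ₗ[A] N) :
    ∃ f : R, f ≠ 0 ∧ Module.Flat (Localization.Away f)
      (LocalizedModule (Submonoid.powers f) (N ⧸ (LinearMap.range u).restrictScalars R)) := by
  obtain ⟨n, σ, hσ⟩ := Algebra.FiniteType.iff_quotient_mvPolynomial''.mp ‹Algebra.FiniteType A B›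
  letI : Module (MvPolynomial (Fin n) A) N := Module.compHom N σ.toRingHom
  haveI : IsScalarTower A (MvPolynomial (Fin n) A) N := IsScalarTower.of_algebraMap_smul fun a m ↦ by
    show σ (algebraMap A _ a) • m = a • m
    rw [AlgHom.commutes, algebraMap_smul]
  haveI : Module.Finite (MvPolynomial (Fin n) A) N := by
    obtain ⟨s, hs⟩ := Module.Finite.fg_top (R := B) (M := N)
    refine ⟨⟨s, eq_top_iff.mpr fun m _ ↦ ?_⟩⟩
    have hm : m ∈ Submodule.span B (s : Set N) := hs ▸ Submodule.mem_top
    clear * - hm hσ
    induction hm using Submodule.span_induction with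
    | mem x hx => exact Submodule.subset_span hx
    | zero => exact zero_mem _
    | add x y _ _ hx hy => exact add_mem hx hy
    | smul b x _ hx =>
      obtain ⟨p, rfl⟩ := hσ b
      exact Submodule.smul_mem _ p hx
  obtain ⟨f, -, hf, hfr⟩ := GrothLib.GenFree.exists_freeOn_quotient_mvPolynomial (R := R) n N
    (LinearMap.range u) (Submodule.fg_range u) 1 one_ne_zero
  have hfr' := hfr.of_equiv
    (Submodule.Quotient.restrictScalarsEquiv R (LinearMap.range u)).symm
  haveI := hfr'.free_tensor (Localization.Away f)
  exact ⟨f, hf, Module.Flat.of_linearEquiv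
    (LocalizedModule.equivTensorProduct (Submonoid.powers f)
      (N ⧸ (LinearMap.range u).restrictScalars R))⟩

end Groth.Agent.S1371
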