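import Groth.Statements.S13711
-- import your own Groth.Agent.* helpers here
import Groth.Agent.Lib.FFDesc.Basic
import Groth.Agent.Lib.EtSite.FpqcDescent


set_option autoImplicit false
universe u
open CategoryTheory CategoryTheory.Limits AlgebraicGeometry
open ZeroCyc

namespace Groth.Agent.S13711

/-- Let f : X → Y be a morphism of schemes and g : Y' → Y a faithfully flat morphism (flat and
surjective, not assumed quasi-compact). Then f is affine exactly when it is quasi-compact,
quasi-separated, and its base change X ×_Y Y' → Y' along g is affine. -/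
theorem result {X Y Y' : Scheme.{u}} (f : X ⟶ Y) (g : Y' ⟶ Y)
    [Flat g] [Surjective g] :
    IsAffineHom f ↔ QuasiCompact f ∧ QuasiSeparated f ∧ IsAffineHom (pullback.snd f g) := by
  refine ⟨fun h => ⟨inferInstance, inferInstance, MorphismProperty.pullback_snd (P := @IsAffineHom) _ _ h⟩, fun ⟨hqc, hqs, haff⟩ => ?_⟩
  have hstalk : ∀ y, IsAffineHom (pullback.snd f (Y.fromSpecStalk y)) := fun y => by
    obtain ⟨y', rfl⟩ := g.surjective y
    obtain ⟨h1, h2⟩ := GrothLib.FFDesc.surjective_SpecMap_stalkMap g y'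
    obtain ⟨m, hm⟩ := GrothLib.FFDesc.isPullback_stalk f g y'
    exact MorphismProperty.of_isPullback_of_descendsAlong (P := @IsAffineHom)
      (Q := @Surjective ⊓ @Flat ⊓ @QuasiCompact) hm.flip ⟨⟨h1, h2⟩, inferInstance⟩
      (inferInstanceAs (IsAffineHom (pullback.snd (pullback.snd f g) (Y'.fromSpecStalk y'))))
  refine ⟨fun U hU => ?_⟩
  have : IsAffine U := hU
  have : CompactSpace (f ⁻¹ᵁ U).toScheme := QuasiCompact.compactSpace_of_compactSpace (f ∣_ U)
  have : QuasiSeparatedSpace (f ⁻¹ᵁ U).toScheme := quasiSeparatedSpace_of_quasiSeparated (f ∣_ U)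
  refine GrothLib.FFDesc.isAffine_of_forall_stalk (f ∣_ U) fun y => ?_
  have hfac : Spec.map (U.ι.stalkMap y) ≫ Y.fromSpecStalk (U.ι y) = U.toScheme.fromSpecStalk y ≫ U.ι :=
    Scheme.SpecMap_stalkMap_fromSpecStalk U.ι
  have := hstalk (U.ι y)
  have big := ((IsPullback.of_hasPullback (f ∣_ U) (U.toScheme.fromSpecStalk y)).flip.paste_vert
    (isPullback_morphismRestrict f U)).flip
  rw [← hfac] at big
  have hm := IsPullback.of_right' big (IsPullback.of_hasPullback f (Y.fromSpecStalk (U.ι y)))
  have : IsAffineHom (pullback.snd (f ∣_ U) (U.toScheme.fromSpecStalk y)) :=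
    MorphismProperty.of_isPullback hm (hstalk (U.ι y))
  exact isAffine_of_isAffineHom (pullback.snd (f ∣_ U) (U.toScheme.fromSpecStalk y))


end Groth.Agent.S13711
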