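import Groth.Statements.S13712
import Groth.Agent.Lib.Affine25.General
-- import your own Groth.Agent.* helpers here

set_option autoImplicit false
universe u
open CategoryTheory CategoryTheory.Limits AlgebraicGeometry
open ZeroCyc

namespace Groth.Agent.S13712

/-- Let f : X → Y and g : Y → S be morphisms of schemes with g separated, such that the composite X → S
is integral with topologically finite fibres (every fibre is a finite set). Then the
scheme-theoretic image Y' of f, with its closed immersion Y' → Y, is integral over S, and Y' → S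
again has topologically finite fibres. (The published statement is for algebraic spaces; this row is
the case of schemes.) -/
theorem result {X Y S : Scheme.{u}} (f : X ⟶ Y) (g : Y ⟶ S)
    [IsSeparated g] [IsIntegralHom (f ≫ g)] (hfin : ∀ s : S, Set.Finite ((f ≫ g).base ⁻¹' {s})) :
    IsIntegralHom (f.imageι ≫ g) ∧ ∀ s : S, Set.Finite ((f.imageι ≫ g).base ⁻¹' {s}) := by
  haveI : IsIntegralHom f := IsIntegralHom.of_comp f g
  haveI : IsIntegralHom (f.toImage ≫ f.imageι) := by
    rw [f.toImage_imageι]; infer_instance
  haveI : IsIntegralHom f.toImage := IsIntegralHom.of_comp f.toImage f.imageι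
  haveI : Surjective f.toImage :=
    surjective_of_isDominant_of_isClosed_range _ f.toImage.isClosedMap.isClosed_range
  have e : f.toImage ≫ f.imageι ≫ g = f ≫ g := by rw [← Category.assoc, f.toImage_imageι]
  haveI : IsIntegralHom (f.toImage ≫ f.imageι ≫ g) := by rw [e]; infer_instance
  haveI : UniversallyClosed (f.imageι ≫ g) :=
    UniversallyClosed.of_comp_surjective f.toImage (f.imageι ≫ g)
  refine ⟨IsIntegralHom.iff_universallyClosed_and_isAffineHom.2 ⟨inferInstance, ⟨fun U hU ↦ ?_⟩⟩,
    fun s ↦ ?_⟩
  · haveI : IsAffine (f.toImage ⁻¹ᵁ ((f.imageι ≫ g) ⁻¹ᵁ U)).toScheme :=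
      hU.preimage (f.toImage ≫ f.imageι ≫ g)
    haveI : Surjective (f.toImage ∣_ ((f.imageι ≫ g) ⁻¹ᵁ U)) :=
      IsZariskiLocalAtTarget.restrict (P := @Surjective) (f := f.toImage) inferInstance _
    exact GrothLib.Affine25.isAffine_of_surjective_universallyClosed
      (f.toImage ∣_ ((f.imageι ≫ g) ⁻¹ᵁ U))
  · refine ((hfin s).image f.toImage.base).subset fun y hy ↦ ?_
    obtain ⟨x, rfl⟩ := f.toImage.surjective y
    refine ⟨x, ?_, rfl⟩
    show (f ≫ g).base x ∈ ({s} : Set S)
    rw [← e]
    exact hy

end Groth.Agent.S13712
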