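import Groth.Statements.S13715
-- import your own Groth.Agent.* helpers here
import Groth.Agent.Lib.PolLaw.Generators

set_option autoImplicit false
universe u
open scoped TensorProduct
open ZeroCyc

namespace Groth.Agent.S13715

/-- Let (C, γ) be the algebra of divided powers Γ^d_A(B) of a commutative A-algebra B with its universal
multiplicative law γ : B → C homogeneous of degree d (every multiplicative law B → C' homogeneous of
degree d factors uniquely through γ by an algebra map C → C'). If B is finite (as a module) over A
then so is C = Γ^d_A(B). -/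
theorem result {A : Type u} [CommRing A] {B : Type u} [CommRing B] [Algebra A B] {C : Type u} [CommRing C] [Algebra A C]
    {d : ℕ} (γ : PolLaw.MulLaw A B C d) (hγ : PolLaw.IsGammaD γ) [Module.Finite A B] :
    Module.Finite A C := by
  obtain ⟨n, g, hg⟩ := Module.Finite.exists_fin (R := A) (M := B)
  have h : (⊤ : Submodule A C) = Submodule.span A (Set.range fun μ : Fin n →₀ ℕ => GrothLib.PolLaw.coeff γ.law g μ) := by
    refine le_antisymm ?_ le_top
    rw [← GrothLib.PolLaw.coeffSpan_eq_top hγ]
    refine Submodule.span_le.mpr ?_
    rintro _ ⟨k, m, μ, rfl⟩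
    exact GrothLib.PolLaw.coeff_mem_span_of_mem_span γ.law g m (fun j => by rw [hg]; trivial) μ
  exact ⟨h ▸ GrothLib.PolLaw.span_coeff_fg γ.law g⟩

end Groth.Agent.S13715
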