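import Groth.Statements.S13716
-- import your own Groth.Agent.* helpers here
import Groth.Agent.Lib.PolLaw.Generators
import Mathlib.RingTheory.IntegralClosure.IsIntegralClosure.Basic

set_option autoImplicit false
universe u
open scoped TensorProduct
open ZeroCyc

namespace Groth.Agent.S13716

/-- Let (C, γ) be the algebra of divided powers Γ^d_A(B) of a commutative A-algebra B with its universal
multiplicative law γ : B → C homogeneous of degree d (every multiplicative law B → C' homogeneous of
degree d factors uniquely through γ by an algebra map C → C'). If B is integral over A then so is C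
= Γ^d_A(B). -/
theorem result {A : Type u} [CommRing A] {B : Type u} [CommRing B] [Algebra A B] {C : Type u} [CommRing C] [Algebra A C]
    {d : ℕ} (γ : PolLaw.MulLaw A B C d) (hγ : PolLaw.IsGammaD γ) [Algebra.IsIntegral A B] :
    Algebra.IsIntegral A C := by
  classical
  refine ⟨fun x => ?_⟩
  have hx : x ∈ GrothLib.PolLaw.coeffSpan γ.law := by
    rw [GrothLib.PolLaw.coeffSpan_eq_top hγ]; trivial
  induction hx using Submodule.span_induction with
  | mem c hc =>
    obtain ⟨n, m, μ, rfl⟩ := hc
    have hfg : (Algebra.adjoin A (Set.range m)).toSubmodule.FG :=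
      fg_adjoin_of_finite (Set.finite_range m) fun b _ => Algebra.IsIntegral.isIntegral b
    obtain ⟨k, g, hg⟩ := Submodule.fg_iff_exists_fin_generating_family.mp hfg
    have h1 : (1 : B) ∈ Submodule.span A (Set.range g) := by
      rw [hg]; exact Subalgebra.one_mem _
    have hmul : ∀ i j, g i * g j ∈ Submodule.span A (Set.range g) := by
      intro i j
      have hmem : ∀ l, g l ∈ Algebra.adjoin A (Set.range m) := fun l =>
        (Subalgebra.mem_toSubmodule _).mp (hg ▸ Submodule.subset_span ⟨l, rfl⟩)
      rw [hg]
      exact Subalgebra.mul_mem _ (hmem i) (hmem j)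
    let P : Subalgebra A C :=
      (Submodule.span A (Set.range fun ν : Fin k →₀ ℕ => GrothLib.PolLaw.coeff γ.law g ν)).toSubalgebra
        (GrothLib.PolLaw.one_mem_span_coeff γ g h1)
        (fun a b ha hb => GrothLib.PolLaw.mul_mem_span_coeff γ g hmul ha hb)
    refine IsIntegral.of_mem_of_fg P ?_ _ ?_
    · simpa [P] using! GrothLib.PolLaw.span_coeff_fg γ.law g
    · exact GrothLib.PolLaw.coeff_mem_span_of_mem_span γ.law g m
        (fun j => by rw [hg]; exact Algebra.subset_adjoin ⟨j, rfl⟩) μ
  | zero => exact isIntegral_zero
  | add a b _ _ ha hb => exact ha.add hb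
  | smul r a _ ha => exact ha.smul r

end Groth.Agent.S13716
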