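import Groth.Statements.S13717
-- import your own Groth.Agent.* helpers here
import Groth.Agent.Lib.PolLaw.Generators

set_option autoImplicit false
universe u
open scoped TensorProduct
open ZeroCyc

namespace Groth.Agent.S13717

/-- Let π : B → B' be a surjective map of commutative A-algebras and let (C, γ) and (C', γ') be the
degree-d divided power algebras Γ^d_A(B) and Γ^d_A(B') with their universal multiplicative laws
homogeneous of degree d. If φ : C → C' is the A-algebra map with φ ∘ γ = γ' ∘ π, then φ is
surjective; geometrically, for a closed subscheme X of an affine Y over an affine S, Γ^d(X/S) →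
Γ^d(Y/S) is a closed immersion. (The published statement is for Y affine over an algebraic space S;
this row is the case of an affine base.) -/
theorem result {A : Type u} [CommRing A] {B : Type u} [CommRing B] [Algebra A B]
    {B' : Type u} [CommRing B'] [Algebra A B'] {C : Type u} [CommRing C] [Algebra A C] {C' : Type u} [CommRing C'] [Algebra A C']
    {d : ℕ} (γ : PolLaw.MulLaw A B C d) (hγ : PolLaw.IsGammaD γ) (γ' : PolLaw.MulLaw A B' C' d) (hγ' : PolLaw.IsGammaD γ')
    (π : B →ₐ[A] B') (hπ : Function.Surjective π) (φ : C →ₐ[A] C')
    (hφ : PolLaw.postcomp φ.toLinearMap γ.law = (γ'.precomp π).law) :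
    Function.Surjective φ := by
  have h := GrothLib.PolLaw.eq_top_of_coeff_mem hγ' φ.range fun n m μ => by
    choose m₀ hm₀ using fun i => hπ (m i)
    refine ⟨GrothLib.PolLaw.coeff γ.law m₀ μ, ?_⟩
    have e := congrArg (fun F => GrothLib.PolLaw.coeff F m₀ μ) hφ
    simp only [GrothLib.PolLaw.coeff_postcomp] at e
    refine Eq.trans e ?_
    show GrothLib.PolLaw.coeff (PolLaw.precomp γ'.law π.toLinearMap) m₀ μ = _
    rw [GrothLib.PolLaw.coeff_precomp, show (π.toLinearMap ∘ m₀) = m from funext hm₀]
  intro y
  exact Algebra.eq_top_iff.mp h y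

end Groth.Agent.S13717
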