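import Groth.Statements.S13718
-- import your own Groth.Agent.* helpers here
import Groth.Agent.Lib.PolLaw.CharPoly

set_option autoImplicit false
universe u
open scoped TensorProduct
open ZeroCyc

namespace Groth.Agent.S13718

/-- Let φ : B' → B be a map of commutative algebras over the commutative ring A and F : B → A a
multiplicative polynomial law homogeneous of degree d, with push-forward the law F ∘ φ : B' → A.
Then the radical of the kernel of F ∘ φ equals the radical of the inverse image under φ of the
kernel of F: the support of the pushed-forward family of zero-cycles on Spec B' is the image of the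
support of the family on Spec B. (The published statement is for affine morphisms X → Y → S of
algebraic spaces; this row is the case of an affine base.) -/
theorem result {A : Type u} [CommRing A] {B : Type u} [CommRing B] [Algebra A B]
    {B' : Type u} [CommRing B'] [Algebra A B'] {d : ℕ} (F : PolLaw.MulLaw A B A d) (φ : B' →ₐ[A] B) :
    (PolLaw.ker (F.precomp φ).law).radical = ((PolLaw.ker F.law).comap φ).radical := by
  refine le_antisymm ?_ (Ideal.radical_mono fun b hb => ?_)
  · rw [Ideal.radical_le_radical_iff]
    intro c hc
    refine Ideal.mem_radical_iff.mpr ⟨d, ?_⟩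
    show φ (c ^ d) ∈ PolLaw.ker F.law
    have h1 := GrothLib.PolLaw.charPoly_eq_X_pow_of_mem_kerBC (F.precomp φ)
      ((GrothLib.PolLaw.mem_ker_iff_one_tmul_mem_kerBC (F.precomp φ) c).mp hc)
    rw [GrothLib.PolLaw.charPoly_precomp, Algebra.TensorProduct.map_tmul, AlgHom.id_apply] at h1
    have h := GrothLib.PolLaw.aeval_charPoly_mem F A (1 ⊗ₜ[A] φ c)
    rw [h1, map_pow, Polynomial.aeval_X, Algebra.TensorProduct.tmul_pow, one_pow,
      ← GrothLib.PolLaw.mem_ker_iff_one_tmul_mem_kerBC] at h
    rwa [map_pow]
  · rw [GrothLib.PolLaw.mem_ker_iff]
    intro S _ _ x w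
    have h := (GrothLib.PolLaw.mem_ker_iff F (φ b)).mp hb S
      (Algebra.TensorProduct.map (AlgHom.id A S) φ x) (Algebra.TensorProduct.map (AlgHom.id A S) φ w)
    simp only [GrothLib.PolLaw.valS_precomp, map_add, map_mul, Algebra.TensorProduct.map_tmul,
      AlgHom.id_apply]
    exact h

end Groth.Agent.S13718
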