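import Groth.Statements.S13719
-- import your own Groth.Agent.* helpers here
import Groth.Agent.Lib.PolLaw.ProdSplit

set_option autoImplicit false
universe u
open scoped TensorProduct
open ZeroCyc

namespace Groth.Agent.S13719

/-- Let A be a commutative ring whose prime spectrum is connected, B₁, B₂ commutative A-algebras and F :
B₁ × B₂ → A a multiplicative polynomial law homogeneous of degree d (a family of zero-cycles of
degree d on the disjoint union Spec B₁ ⊔ Spec B₂ over Spec A). Then there are natural numbers d₁ +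
d₂ = d, the multiplicities of the family on the two pieces, and multiplicative laws F₁ : B₁ → A, F₂
: B₂ → A homogeneous of degrees d₁, d₂ with F(x) = F₁(x₁) F₂(x₂) for every test algebra S and x ∈ S
⊗ (B₁ × B₂) with components x₁, x₂; and the degrees d₁, d₂ of any such factorisation are uniquely
determined. (The published statement is for finitely many algebraic spaces affine over a connected
algebraic space S; this row is the case of two pieces over an affine base.) -/
theorem result {A : Type u} [CommRing A] [ConnectedSpace (PrimeSpectrum A)]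
    {B₁ : Type u} [CommRing B₁] [Algebra A B₁] {B₂ : Type u} [CommRing B₂] [Algebra A B₂]
    {d : ℕ} (F : PolLaw.MulLaw A (B₁ × B₂) A d) :
    ∃ d₁ d₂ : ℕ, d₁ + d₂ = d ∧
      (∃ (F₁ : PolLaw.MulLaw A B₁ A d₁) (F₂ : PolLaw.MulLaw A B₂ A d₂),
        ∀ (S : Type u) [CommSemiring S] [Algebra A S] (x : S ⊗[A] (B₁ × B₂)),
          F.law.toFun' S x = F₁.law.toFun' S (LinearMap.lTensor S (LinearMap.fst A B₁ B₂) x) *
            F₂.law.toFun' S (LinearMap.lTensor S (LinearMap.snd A B₁ B₂) x)) ∧
      ∀ (e₁ e₂ : ℕ) (G₁ : PolLaw.MulLaw A B₁ A e₁) (G₂ : PolLaw.MulLaw A B₂ A e₂),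
        (∀ (S : Type u) [CommSemiring S] [Algebra A S] (x : S ⊗[A] (B₁ × B₂)),
          F.law.toFun' S x = G₁.law.toFun' S (LinearMap.lTensor S (LinearMap.fst A B₁ B₂) x) *
            G₂.law.toFun' S (LinearMap.lTensor S (LinearMap.snd A B₁ B₂) x)) → e₁ = d₁ ∧ e₂ = d₂ := by
  exact GrothLib.PolLaw.exists_split F

end Groth.Agent.S13719
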