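import Groth.Statements.S13720
-- import your own Groth.Agent.* helpers here
import Groth.Agent.Lib.PolLaw.Coeff
import Mathlib.LinearAlgebra.TensorProduct.RightExactness

set_option autoImplicit false
universe u
open scoped TensorProduct
open ZeroCyc

namespace Groth.Agent.S13720

/-- Let B be the filtered direct limit of a directed system (B_i, t_ij : B_i → B_j) of commutative
algebras over the commutative ring A, with structure maps φ_i : B_i → B (jointly surjective, and an
element of B_i vanishing in B already vanishes in some B_j), and let F : B → C be a multiplicative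
polynomial law homogeneous of degree d, with restrictions F_i = F ∘ φ_i. Then an element b of B lies
in the kernel of F if and only if it is the image of some x ∈ B_i whose images in B_j lie in the
kernel of F_j for every j ≥ i; that is, the kernel of F is the direct limit of the kernels of the
F_i. -/
theorem result {A : Type u} [CommRing A] {B : Type u} [CommRing B] [Algebra A B]
    {C : Type u} [CommRing C] [Algebra A C] {ι : Type u} [Preorder ι] [IsDirected ι (fun i j => i ≤ j)] [Nonempty ι]
    (Bi : ι → Type u) [∀ i, CommRing (Bi i)] [∀ i, Algebra A (Bi i)]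
    (t : ∀ i j : ι, i ≤ j → (Bi i →ₐ[A] Bi j)) (φ : ∀ i : ι, Bi i →ₐ[A] B)
    (hcomp : ∀ (i j : ι) (h : i ≤ j), (φ j).comp (t i j h) = φ i)
    (hsurj : ∀ b : B, ∃ (i : ι) (x : Bi i), φ i x = b)
    (hzero : ∀ (i : ι) (x : Bi i), φ i x = 0 → ∃ (j : ι) (h : i ≤ j), t i j h x = 0)
    {d : ℕ} (F : PolLaw.MulLaw A B C d) (b : B) :
    b ∈ PolLaw.ker F.law ↔ ∃ (i : ι) (x : Bi i), φ i x = b ∧
      ∀ (j : ι) (h : i ≤ j), t i j h x ∈ PolLaw.ker (F.precomp (φ j)).law := by
  constructor
  · intro hb
    obtain ⟨i, x, rfl⟩ := hsurj b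
    refine ⟨i, x, rfl, fun j h S _ _ y w => ?_⟩
    show F.law.toFun' S ((φ j).toLinearMap.lTensor S (y + w * (1 ⊗ₜ[A] t i j h x))) =
      F.law.toFun' S ((φ j).toLinearMap.lTensor S y)
    rw [PolLaw.lTensor_algHom_apply, PolLaw.lTensor_algHom_apply, map_add, map_mul,
      Algebra.TensorProduct.map_tmul, ← AlgHom.comp_apply, hcomp i j h]
    exact hb S _ _
  · rintro ⟨i, x, rfl, hx⟩ S _ _ y w
    obtain ⟨n, s, m, rfl⟩ := GrothLib.PolLaw.toFun'_tmul_eq_sum y
    obtain ⟨k, s', m', rfl⟩ := GrothLib.PolLaw.toFun'_tmul_eq_sum w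
    choose ia ma hma using fun a => hsurj (m a)
    choose ic mc hmc using fun c => hsurj (m' c)
    classical
    obtain ⟨j, hj⟩ : ∃ j, ∀ l ∈ insert i (Finset.univ.image ia ∪ Finset.univ.image ic), l ≤ j :=
      Finset.exists_le _
    have hij : i ≤ j := hj i (Finset.mem_insert_self _ _)
    have ha : ∀ a, ia a ≤ j := fun a => hj _ (Finset.mem_insert_of_mem
      (Finset.mem_union_left _ (Finset.mem_image_of_mem _ (Finset.mem_univ a))))
    have hc : ∀ c, ic c ≤ j := fun c => hj _ (Finset.mem_insert_of_mem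
      (Finset.mem_union_right _ (Finset.mem_image_of_mem _ (Finset.mem_univ c))))
    have h := hx j hij S (∑ a, s a ⊗ₜ[A] t _ _ (ha a) (ma a)) (∑ c, s' c ⊗ₜ[A] t _ _ (hc c) (mc c))
    change F.law.toFun' S ((φ j).toLinearMap.lTensor S _) = F.law.toFun' S ((φ j).toLinearMap.lTensor S _) at h
    have e : ∀ (l : ι) (hl : l ≤ j) (v : Bi l), φ j (t l j hl v) = φ l v := fun l hl v =>
      AlgHom.congr_fun (hcomp l j hl) v
    simpa [PolLaw.lTensor_algHom_apply, map_sum, e, hma, hmc] using h

end Groth.Agent.S13720
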