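import Groth.Statements.S13721
-- import your own Groth.Agent.* helpers here
import Groth.Agent.Lib.PolLaw.KerBC

set_option autoImplicit false
universe u
open scoped TensorProduct
open ZeroCyc

namespace Groth.Agent.S13721

/-- Let F : B → A be a multiplicative polynomial law homogeneous of degree d over the commutative ring
A, on a commutative A-algebra B which is finite as an A-module, and let A' be the filtered direct
limit of a directed system (A'_i, t_ij) of commutative A-algebras (t_ii the identity, t_jk ∘ t_ij =
t_ik) with structure maps φ_i : A'_i → A' (compatible with the t_ij, jointly surjective, and an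
element of A'_i vanishing in A' already vanishes in some A'_j). Then the kernel of the base change
of F to A', an ideal of A' ⊗_A B, is the supremum over i of the extensions along φ_i ⊗ B of the
kernels of the base changes of F to the A'_i: the kernel of the base-changed law is the direct limit
of the kernels. (The published statement has no finiteness hypothesis on B and is false without one:
for a suitable algebra B that is not finitely generated and a suitable directed system of quotients
of A, an element of A' ⊗_A B lies in the kernel over the limit although it comes from the kernel at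
no finite stage, because the conditions cutting out the kernel at an element are infinitely many and
die one at a time along the system; the published proof's reduction to finite B does not go through.
This row assumes B finite over A, the case that proof establishes.) -/
theorem result {A : Type u} [CommRing A] {B : Type u} [CommRing B] [Algebra A B]
    [Module.Finite A B] {A' : Type u} [CommRing A'] [Algebra A A'] {ι : Type u} [Preorder ι] [IsDirected ι (fun i j => i ≤ j)] [Nonempty ι]
    (Ai : ι → Type u) [∀ i, CommRing (Ai i)] [∀ i, Algebra A (Ai i)]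
    (t : ∀ i j : ι, i ≤ j → (Ai i →ₐ[A] Ai j)) (φ : ∀ i : ι, Ai i →ₐ[A] A')
    (hcomp : ∀ (i j : ι) (h : i ≤ j), (φ j).comp (t i j h) = φ i)
    (hsurj : ∀ a : A', ∃ (i : ι) (x : Ai i), φ i x = a)
    (hzero : ∀ (i : ι) (x : Ai i), φ i x = 0 → ∃ (j : ι) (h : i ≤ j), t i j h x = 0)
    (hid : ∀ (i : ι) (h : i ≤ i), t i i h = AlgHom.id A (Ai i))
    (htrans : ∀ (i j k : ι) (hij : i ≤ j) (hjk : j ≤ k), (t j k hjk).comp (t i j hij) = t i k (hij.trans hjk))
    {d : ℕ} (F : PolLaw.MulLaw A B A d) :
    PolLaw.kerBC F.law A' =
      ⨆ i : ι, (PolLaw.kerBC F.law (Ai i)).map (Algebra.TensorProduct.map (φ i) (AlgHom.id A B)) := by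
  classical
  refine le_antisymm (fun z hz => ?_) (iSup_le fun i => Ideal.map_le_iff_le_comap.mpr fun b hb =>
    GrothLib.PolLaw.map_mem_kerBC F (φ i) hb)
  obtain ⟨n, e, he⟩ := Module.Finite.exists_fin (R := A) (M := B)
  -- a common stage for finitely many elements
  have hlift : ∀ {m : ℕ} (a : Fin m → A'), ∃ (i : ι) (x : Fin m → Ai i), ∀ k, φ i (x k) = a k := by
    intro m a
    choose ia xa hxa using fun k => hsurj (a k)
    obtain ⟨j, hj⟩ := Finset.exists_le (Finset.univ.image ia)
    refine ⟨j, fun k => t _ j (hj _ (Finset.mem_image_of_mem _ (Finset.mem_univ k))) (xa k), fun k => ?_⟩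
    rw [← AlgHom.comp_apply, hcomp, hxa]
  obtain ⟨a, rfl⟩ := GrothLib.PolLaw.exists_eq_sum_of_span e he z
  obtain ⟨i, x, hx⟩ := hlift a
  let zi : Ai i ⊗[A] B := ∑ k, x k ⊗ₜ[A] e k
  let P := GrothLib.PolLaw.univEq F e (Ai i) zi
  have hP : MvPolynomial.map (φ i).toRingHom P = 0 := by
    rw [← GrothLib.PolLaw.univEq_map, GrothLib.PolLaw.univEq_eq_zero_iff F e he]
    simpa [zi, map_sum, hx] using hz
  choose jμ hjμ hzμ using fun μ : P.support => hzero i (P.coeff μ.1) (by
    simpa [MvPolynomial.coeff_map] using congrArg (MvPolynomial.coeff μ.1) hP)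
  obtain ⟨j, hj⟩ := Finset.exists_le (insert i (Finset.univ.image jμ))
  have hij : i ≤ j := hj i (Finset.mem_insert_self _ _)
  have hPj : MvPolynomial.map (t i j hij).toRingHom P = 0 := by
    ext μ
    rw [MvPolynomial.coeff_map, MvPolynomial.coeff_zero]
    by_cases hμ : μ ∈ P.support
    · have hle : jμ ⟨μ, hμ⟩ ≤ j :=
        hj _ (Finset.mem_insert_of_mem (Finset.mem_image_of_mem _ (Finset.mem_univ _)))
      show t i j hij (P.coeff μ) = 0
      rw [← htrans i _ j (hjμ ⟨μ, hμ⟩) hle, AlgHom.comp_apply, hzμ ⟨μ, hμ⟩, map_zero]
    · rw [MvPolynomial.notMem_support_iff.mp hμ, map_zero]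
  rw [← GrothLib.PolLaw.univEq_map, GrothLib.PolLaw.univEq_eq_zero_iff F e he] at hPj
  refine Submodule.mem_iSup_of_mem j ?_
  have := Ideal.mem_map_of_mem (Algebra.TensorProduct.map (φ j) (AlgHom.id A B)) hPj
  rw [GrothLib.PolLaw.map_map', hcomp] at this
  simpa [zi, map_sum, hx] using this

end Groth.Agent.S13721
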