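import Groth.Statements.S13722
-- import your own Groth.Agent.* helpers here
import Groth.Agent.Lib.PolLaw.Coeff
import Mathlib.Algebra.MvPolynomial.Degrees
import Mathlib.Algebra.MvPolynomial.NoZeroDivisors
import Mathlib.RingTheory.TensorProduct.MvPolynomial
import Mathlib.RingTheory.Ideal.Quotient.Operations
import Mathlib.Algebra.Ring.GeomSum
import Mathlib.RingTheory.Nilpotent.Basic
import Mathlib.RingTheory.Nilpotent.Lemmas

set_option autoImplicit false
universe u
open scoped TensorProduct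
open ZeroCyc

namespace Groth.Agent.S13722

open GrothLib.PolLaw

variable {A B D : Type u} [CommRing A] [CommRing B] [Algebra A B] [CommRing D] [Algebra A D] {d : ℕ}

/-- `A[X] ⊗ D → D[X]`. -/
noncomputable def polyMap (σ : Type) : MvPolynomial σ A ⊗[A] D →ₐ[A] MvPolynomial σ D :=
  Algebra.TensorProduct.productMap (MvPolynomial.mapAlgHom (Algebra.ofId A D))
    (IsScalarTower.toAlgHom A D (MvPolynomial σ D))

lemma coeff_polyMap {σ : Type} [Fintype σ] (z : MvPolynomial σ A ⊗[A] D) (μ : σ →₀ ℕ) :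
    MvPolynomial.coeff μ (polyMap σ z) = coeffEquiv A D σ z μ := by
  induction z using TensorProduct.induction_on with
  | zero => simp
  | tmul p c => simp [polyMap, MvPolynomial.algebraMap_eq, MvPolynomial.coeff_map, Algebra.smul_def,
      MvPolynomial.coeff_C_mul, mul_comm]
  | add p q hp hq => simp [hp, hq]

lemma polyMap_injective {σ : Type} [Fintype σ] :
    Function.Injective (polyMap (A := A) (D := D) σ) := fun a b h =>
  (coeffEquiv A D σ).injective (Finsupp.ext fun μ => by rw [← coeff_polyMap, ← coeff_polyMap, h])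

lemma mem_ker_of_pow [IsDomain D] (F : PolLaw.MulLaw A B D d) {b : B} {N : ℕ}
    (hb : b ^ N ∈ PolLaw.ker F.law) : b ∈ PolLaw.ker F.law := by
  classical
  intro S _ _ x w
  obtain ⟨n, s, m, rfl⟩ := toFun'_tmul_eq_sum x
  obtain ⟨k, s', y, rfl⟩ := toFun'_tmul_eq_sum w
  -- universal situation
  let V := Option (Fin n) ⊕ Fin k
  let R := MvPolynomial V A
  let x₀ : MvPolynomial V A ⊗[A] B := ∑ i, (MvPolynomial.X (Sum.inl (some i)) : MvPolynomial V A) ⊗ₜ[A] m i +
    (MvPolynomial.X (Sum.inl none) : MvPolynomial V A) ⊗ₜ[A] 1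
  let w₀ : MvPolynomial V A ⊗[A] B := ∑ j, (MvPolynomial.X (Sum.inr j) : MvPolynomial V A) ⊗ₜ[A] y j
  let G := fun z => polyMap (A := A) (D := D) V (F.law.toFun' (MvPolynomial V A) z)
  have hG : ∀ z z', G (z * z') = G z * G z' := fun z z' => by simp only [G, (F.mult _).2, map_mul]
  have hnat : ∀ (α : MvPolynomial V A →ₐ[A] MvPolynomial V A) (β : MvPolynomial V D →ₐ[D] MvPolynomial V D),
      (∀ v, polyMap (A := A) (D := D) V (α (MvPolynomial.X v) ⊗ₜ[A] 1) = β (MvPolynomial.X v)) →
      ∀ z, G (α.toLinearMap.rTensor B z) = β (G z) := by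
    intro α β hαβ z
    simp only [G]
    rw [← F.law.isCompat_apply' α z]
    generalize F.law.toFun' (MvPolynomial V A) z = e
    induction e using TensorProduct.induction_on with
    | zero => simp
    | tmul p c =>
      rw [LinearMap.rTensor_tmul, AlgHom.toLinearMap_apply]
      have h1 : (polyMap (A := A) (D := D) V).comp ((Algebra.TensorProduct.includeLeft :
          MvPolynomial V A →ₐ[A] MvPolynomial V A ⊗[A] D).comp α) =
          (β.restrictScalars A).comp ((polyMap (A := A) (D := D) V).comp Algebra.TensorProduct.includeLeft) := by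
        refine MvPolynomial.algHom_ext fun v => ?_
        simp only [AlgHom.comp_apply, Algebra.TensorProduct.includeLeft_apply, AlgHom.restrictScalars_apply]
        rw [hαβ v]
        simp [polyMap]
      have h2 := AlgHom.congr_fun h1 p
      simp only [AlgHom.comp_apply, Algebra.TensorProduct.includeLeft_apply, AlgHom.restrictScalars_apply] at h2
      have e1 : ∀ q : MvPolynomial V A, polyMap (A := A) (D := D) V (q ⊗ₜ[A] c) =
          polyMap (A := A) (D := D) V (q ⊗ₜ[A] 1) * MvPolynomial.C c := fun q => by simp [polyMap]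
      rw [e1, e1, map_mul, ← h2]
      congr 1
      exact (β.commutes c).symm
    | add a c ha hc => simp only [map_add, ha, hc]
  let α₀ : MvPolynomial V A →ₐ[A] MvPolynomial V A :=
    MvPolynomial.aeval (Sum.elim (fun i => MvPolynomial.X (Sum.inl i)) 0)
  let β₀ : MvPolynomial V D →ₐ[D] MvPolynomial V D :=
    MvPolynomial.aeval (Sum.elim (fun i => MvPolynomial.X (Sum.inl i)) 0)
  have h₀ : ∀ v, polyMap (A := A) (D := D) V (α₀ (MvPolynomial.X v) ⊗ₜ[A] 1) = β₀ (MvPolynomial.X v) := by
    rintro (i | j) <;> simp [α₀, β₀, polyMap]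
  have hα : α₀.toLinearMap.rTensor B (x₀ + w₀ * (1 ⊗ₜ[A] b)) = x₀ := by
    simp [x₀, w₀, α₀, Finset.sum_mul, map_sum, Algebra.TensorProduct.tmul_mul_tmul]
  have hp : β₀ (G (x₀ + w₀ * (1 ⊗ₜ[A] b))) = G (x₀ + w₀ * (1 ⊗ₜ[A] b)) := by
    have hne : G (x₀ ^ N) ≠ 0 := by
      intro h
      let α₁ : MvPolynomial V A →ₐ[A] MvPolynomial V A :=
        MvPolynomial.aeval (Sum.elim (fun i => Option.elim i 1 0) 0)
      let β₁ : MvPolynomial V D →ₐ[D] MvPolynomial V D :=
        MvPolynomial.aeval (Sum.elim (fun i => Option.elim i 1 0) 0)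
      have h₁ : ∀ v, polyMap (A := A) (D := D) V (α₁ (MvPolynomial.X v) ⊗ₜ[A] 1) = β₁ (MvPolynomial.X v) := by
        rintro ((_ | i) | j) <;> simp [α₁, β₁, polyMap]
      have := hnat α₁ β₁ h₁ (x₀ ^ N)
      rw [h, map_zero] at this
      have e : α₁.toLinearMap.rTensor B (x₀ ^ N) = 1 := by
        have : ∀ z, α₁.toLinearMap.rTensor B z = Algebra.TensorProduct.map α₁ (AlgHom.id A B) z := by
          intro z
          induction z using TensorProduct.induction_on with
          | zero => simp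
          | tmul p q => rfl
          | add p q hp hq => simp [hp, hq]
        rw [this, map_pow]
        simp [x₀, α₁, Algebra.TensorProduct.one_def]
      simp only [G, e, (F.mult _).1, map_one] at this
      exact one_ne_zero this
    have hfac : G (x₀ + w₀ * (1 ⊗ₜ[A] b)) *
        G (∑ i ∈ Finset.range N, x₀ ^ i * (-(w₀ * (1 ⊗ₜ[A] b))) ^ (N - 1 - i)) = G (x₀ ^ N) := by
      rw [← hG]
      have e := geom_sum₂_mul x₀ (-(w₀ * (1 ⊗ₜ[A] b))) N
      rw [show x₀ - -(w₀ * (1 ⊗ₜ[A] b)) = x₀ + w₀ * (1 ⊗ₜ[A] b) from sub_neg_eq_add _ _, mul_comm] at e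
      rw [e]
      simp only [G]
      congr 1
      rw [sub_eq_add_neg, show -(-(w₀ * (1 ⊗ₜ[A] b))) ^ N = -((-w₀) ^ N) * (1 ⊗ₜ[A] (b ^ N)) by
        rw [← neg_mul w₀, mul_pow, Algebra.TensorProduct.tmul_pow, one_pow]
        exact (neg_mul ((-w₀) ^ N) (1 ⊗ₜ[A] (b ^ N))).symm]
      exact hb _ _ _
    have hne1 : G (x₀ + w₀ * (1 ⊗ₜ[A] b)) ≠ 0 := left_ne_zero_of_mul (hfac ▸ hne)
    have hne2 := right_ne_zero_of_mul (hfac ▸ hne)
    have hq0 : ∀ j, MvPolynomial.degreeOf (Sum.inr j : V) (G (x₀ ^ N)) = 0 := by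
      intro j
      have e : α₀.toLinearMap.rTensor B (x₀ ^ N) = x₀ ^ N := by
        have : ∀ z, α₀.toLinearMap.rTensor B z = Algebra.TensorProduct.map α₀ (AlgHom.id A B) z := by
          intro z
          induction z using TensorProduct.induction_on with
          | zero => simp
          | tmul p q => rfl
          | add p q hp hq => simp [hp, hq]
        rw [this, map_pow]
        simp [x₀, α₀, map_sum]
      have h := hnat α₀ β₀ h₀ (x₀ ^ N)
      rw [e] at h
      rw [h]
      generalize G (x₀ ^ N) = p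
      rw [← Nat.le_zero]
      induction p using MvPolynomial.induction_on' with
      | monomial μ c =>
        simp only [β₀, MvPolynomial.aeval_monomial]
        refine (MvPolynomial.degreeOf_mul_le _ _ _).trans ?_
        rw [MvPolynomial.algebraMap_eq, MvPolynomial.degreeOf_C, zero_add]
        refine (MvPolynomial.degreeOf_prod_le _ _ _).trans (Finset.sum_nonpos fun v _ => ?_)
        refine (MvPolynomial.degreeOf_pow_le _ _ _).trans ?_
        rcases v with i | i
        · simp [MvPolynomial.degreeOf_X_of_ne]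
        · simp
      | add p q hp hq =>
        rw [map_add]
        exact (MvPolynomial.degreeOf_add_le _ _ _).trans (max_le hp hq)
    refine MvPolynomial.hom_congr_vars (f₁ := β₀.toRingHom) (f₂ := RingHom.id _) ?_ ?_ rfl
    · exact RingHom.ext fun c => β₀.commutes c
    · rintro (i | j) hv -
      · simp [β₀]
      · exfalso
        have := MvPolynomial.degreeOf_mul_eq (n := (Sum.inr j : V)) hne1 hne2
        rw [hfac, hq0] at this
        have hd0 : MvPolynomial.degreeOf (Sum.inr j : V) (G (x₀ + w₀ * (1 ⊗ₜ[A] b))) = 0 := by omega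
        rw [MvPolynomial.degreeOf_def] at hd0
        rw [MvPolynomial.vars_def, Multiset.mem_toFinset] at hv
        exact Multiset.count_eq_zero.mp hd0 hv
  have key : F.law.toFun' (MvPolynomial V A) (x₀ + w₀ * (1 ⊗ₜ[A] b)) = F.law.toFun' (MvPolynomial V A) x₀ := by
    refine polyMap_injective ?_
    show G _ = G _
    rw [← hp, ← hnat α₀ β₀ h₀, hα]
  let α : MvPolynomial V A →ₐ[A] S := MvPolynomial.aeval (Sum.elim (fun i => Option.elim i 0 s) s')
  have h := congrArg (α.toLinearMap.rTensor D) key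
  rw [F.law.isCompat_apply', F.law.isCompat_apply'] at h
  simpa [x₀, w₀, α, Finset.sum_mul, map_sum, Algebra.TensorProduct.tmul_mul_tmul] using! h

/-- Let B and C be commutative algebras over the commutative ring A and F : B → C a multiplicative
polynomial law homogeneous of degree d. If C is reduced, then the quotient of B by the kernel of F
is reduced. In particular the image of a family of zero-cycles parametrised by a reduced base is
reduced. -/
theorem result {A : Type u} [CommRing A] {B : Type u} [CommRing B] [Algebra A B]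
    {C : Type u} [CommRing C] [Algebra A C] [IsReduced C] {d : ℕ} (F : PolLaw.MulLaw A B C d) :
    IsReduced (PolLaw.image F.law) := by
  rw [isReduced_iff_pow_one_lt 2 one_lt_two]
  intro z hz
  obtain ⟨b, rfl⟩ := Ideal.Quotient.mk_surjective z
  rw [← map_pow, Ideal.Quotient.eq_zero_iff_mem] at hz
  rw [Ideal.Quotient.eq_zero_iff_mem]
  intro S _ _ x w
  obtain ⟨n, s, m, rfl⟩ := GrothLib.PolLaw.toFun'_tmul_eq_sum x
  obtain ⟨k, s', y, rfl⟩ := GrothLib.PolLaw.toFun'_tmul_eq_sum w
  let M : Fin n ⊕ Fin k → B := Sum.elim m fun j => y j * b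
  let M₀ : Fin n ⊕ Fin k → B := Sum.elim m fun _ => 0
  have hM : ∀ μ, GrothLib.PolLaw.coeff F.law M μ = GrothLib.PolLaw.coeff F.law M₀ μ := by
    intro μ
    refine sub_eq_zero.mp ((IsReduced.eq_zero _ ?_))
    rw [← mem_nilradical, nilradical_eq_sInf, Submodule.mem_sInf]
    intro P hP'
    have hP : Ideal.IsPrime (P : Ideal _) := hP'
    have hb := mem_ker_of_pow (N := 2) (PolLaw.MulLaw.postcomp (Ideal.Quotient.mkₐ A P) F) (b := b)
      fun S _ _ x w => congrArg ((Ideal.Quotient.mkₐ A P).toLinearMap.lTensor S) (hz S x w)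
    have h := hb (MvPolynomial (Fin n ⊕ Fin k) A)
      (∑ i, (MvPolynomial.X (Sum.inl i) : MvPolynomial (Fin n ⊕ Fin k) A) ⊗ₜ[A] m i)
      (∑ j, (MvPolynomial.X (Sum.inr j) : MvPolynomial (Fin n ⊕ Fin k) A) ⊗ₜ[A] y j)
    have e : (GrothLib.PolLaw.coeff (PolLaw.postcomp (Ideal.Quotient.mkₐ A P).toLinearMap F.law) M μ) =
        GrothLib.PolLaw.coeff (PolLaw.postcomp (Ideal.Quotient.mkₐ A P).toLinearMap F.law) M₀ μ := by
      simp only [GrothLib.PolLaw.coeff]
      congr 2
      have e1 : GrothLib.PolLaw.univ A M =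
          ∑ i, (MvPolynomial.X (Sum.inl i) : MvPolynomial (Fin n ⊕ Fin k) A) ⊗ₜ[A] m i +
            (∑ j, (MvPolynomial.X (Sum.inr j) : MvPolynomial (Fin n ⊕ Fin k) A) ⊗ₜ[A] y j) * (1 ⊗ₜ[A] b) := by
        simp [GrothLib.PolLaw.univ, M, Fintype.sum_sum_type, Finset.sum_mul]
      have e0 : GrothLib.PolLaw.univ A M₀ =
          ∑ i, (MvPolynomial.X (Sum.inl i) : MvPolynomial (Fin n ⊕ Fin k) A) ⊗ₜ[A] m i := by
        simp [GrothLib.PolLaw.univ, M₀, Fintype.sum_sum_type]
      rw [e1, e0]
      exact h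
    rw [GrothLib.PolLaw.coeff_postcomp, GrothLib.PolLaw.coeff_postcomp] at e
    exact Ideal.Quotient.eq.mp e
  calc _ = F.law.toFun' S (∑ v, Sum.elim s s' v ⊗ₜ[A] M v) := by
        simp [M, Fintype.sum_sum_type, Finset.sum_mul, Algebra.TensorProduct.tmul_mul_tmul]
    _ = F.law.toFun' S (∑ v, Sum.elim s s' v ⊗ₜ[A] M₀ v) := by
        rw [GrothLib.PolLaw.toFun'_sum, GrothLib.PolLaw.toFun'_sum, Finsupp.ext hM]
    _ = _ := by simp [M₀, Fintype.sum_sum_type]

end Groth.Agent.S13722
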