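import Groth.Statements.S13723
-- import your own Groth.Agent.* helpers here
import Groth.Agent.Lib.PolLaw.Fibre

set_option autoImplicit false
universe u
open scoped TensorProduct
open ZeroCyc

namespace Groth.Agent.S13723

/-- Let F : B → A be a multiplicative polynomial law homogeneous of degree d over the commutative ring A
and let Z = Spec(B/ker F) be the image of the family of zero-cycles it defines. For every field K
and ring map A → K, the fibre Spec(K ⊗_A (B/ker F)) has finitely many points, at most d of them. In
particular every geometric fibre of Z → Spec A has at most d points and Z → Spec A has universally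
topologically finite fibres. -/
theorem result {A : Type u} [CommRing A] {B : Type u} [CommRing B] [Algebra A B]
    {d : ℕ} (F : PolLaw.MulLaw A B A d) (K : Type u) [Field K] [Algebra A K] :
    Finite (PrimeSpectrum (K ⊗[A] PolLaw.image F.law)) ∧
      Nat.card (PrimeSpectrum (K ⊗[A] PolLaw.image F.law)) ≤ d := by
  obtain ⟨f, hf⟩ := GrothLib.PolLaw.fibre_card_le F (A' := K) default
  have hs : Function.Surjective f := fun P => hf P (Subsingleton.elim _ _)
  exact ⟨Finite.of_surjective f hs, (Nat.card_le_card_of_surjective f hs).trans (by simp)⟩

end Groth.Agent.S13723
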