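import Groth.Statements.S13724
-- import your own Groth.Agent.* helpers here
import Groth.Agent.Lib.PolLaw.Fibre

set_option autoImplicit false
universe u
open scoped TensorProduct
open ZeroCyc

namespace Groth.Agent.S13724

/-- Let A be a commutative ring with finitely many maximal ideals, B a commutative A-algebra and F : B →
A a multiplicative polynomial law homogeneous of degree d. Then B/ker F, the coordinate ring of the
image of the family of zero-cycles defined by F, has finitely many maximal ideals. -/
theorem result {A : Type u} [CommRing A] [Finite (MaximalSpectrum A)] {B : Type u} [CommRing B] [Algebra A B]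
    {d : ℕ} (F : PolLaw.MulLaw A B A d) :
    Finite (MaximalSpectrum (PolLaw.image F.law)) := by
  classical
  have := GrothLib.PolLaw.isIntegral_image F
  let e : PolLaw.image F.law ≃ₐ[A] A ⊗[A] PolLaw.image F.law := (Algebra.TensorProduct.lid A _).symm
  choose f hf using fun p : MaximalSpectrum A => GrothLib.PolLaw.fibre_card_le F (A' := A) p.toPrimeSpectrum
  have hmax : ∀ m : MaximalSpectrum (PolLaw.image F.law), (m.asIdeal.comap (algebraMap A _)).IsMaximal :=
    fun m => by
      have := m.isMaximal
      exact Ideal.isMaximal_comap_of_isIntegral_of_isMaximal m.asIdeal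
  let g : MaximalSpectrum (PolLaw.image F.law) → MaximalSpectrum A := fun m => ⟨_, hmax m⟩
  let Φ : MaximalSpectrum (PolLaw.image F.law) → PrimeSpectrum (A ⊗[A] PolLaw.image F.law) := fun m =>
    PrimeSpectrum.comap e.symm.toRingEquiv.toRingHom m.toPrimeSpectrum
  have hΦ : ∀ m, ∃ j, f (g m) j = Φ m := fun m => hf (g m) (Φ m) (PrimeSpectrum.ext (by
    show (m.asIdeal.comap e.symm.toRingEquiv.toRingHom).comap _ = m.asIdeal.comap _
    rw [Ideal.comap_comap]
    congr 1
    ext a
    exact e.symm.commutes a))
  choose j hj using hΦ
  refine Finite.of_injective (fun m => (g m, j m)) fun m m' h => ?_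
  simp only [Prod.mk.injEq] at h
  have : Φ m = Φ m' := by rw [← hj m, ← hj m', h.1, h.2]
  have h2 := congrArg PrimeSpectrum.asIdeal this
  exact MaximalSpectrum.ext (Ideal.comap_injective_of_surjective _ e.symm.surjective h2)

end Groth.Agent.S13724
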