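import Groth.Statements.S13725
-- import your own Groth.Agent.* helpers here
import Mathlib.Algebra.CharP.Lemmas
import Mathlib.RingTheory.AdjoinRoot
import Mathlib.LinearAlgebra.TensorProduct.Tower

set_option autoImplicit false
universe u
open scoped TensorProduct
open ZeroCyc

namespace Groth.Agent.S13725

/-- Let k be a field of characteristic p > 0 and let F : k → k be the law x ↦ x^p, multiplicative and
homogeneous of degree p over k. The kernel of F is the zero ideal, but after the flat base change k
→ A' = k[X]/(X^p) the kernel of the base-changed law on A' ⊗_k k is not zero (the class of X lies in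
it). So in characteristic p, forming the kernel of a multiplicative law is not compatible with flat
base change. -/
theorem result {k : Type u} [Field k] (p : ℕ) [Fact p.Prime] [CharP k p] :
    PolLaw.ker (PolLaw.MulLaw.pow k k p).law = ⊥ ∧
      PolLaw.kerBC (PolLaw.MulLaw.pow k k p).law (AdjoinRoot ((Polynomial.X : Polynomial k) ^ p)) ≠ ⊥ := by
  have hp : p.Prime := Fact.out
  constructor
  · refine (Ideal.eq_bot_or_top _).resolve_right fun h => ?_
    have h1 : (1 : k) ∈ PolLaw.ker (PolLaw.MulLaw.pow k k p).law := h ▸ trivial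
    have h2 := h1 k 0 1
    change ((0 : k ⊗[k] k) + 1 * ((1 : k) ⊗ₜ[k] (1 : k))) ^ p = 0 ^ p at h2
    rw [zero_add, one_mul, ← Algebra.TensorProduct.one_def, one_pow, zero_pow hp.ne_zero] at h2
    have := congrArg (Algebra.TensorProduct.lid k k) h2
    simp at this
  · intro h
    have hmem : AdjoinRoot.root ((Polynomial.X : Polynomial k) ^ p) ⊗ₜ[k] (1 : k) ∈
        PolLaw.kerBC (PolLaw.MulLaw.pow k k p).law (AdjoinRoot ((Polynomial.X : Polynomial k) ^ p)) := by
      intro R _ _ _ _ x w
      show (x + w * _) ^ p = x ^ p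
      obtain ⟨r, hr⟩ := exists_add_pow_prime_eq hp x (w * Algebra.TensorProduct.map
        (IsScalarTower.toAlgHom k (AdjoinRoot ((Polynomial.X : Polynomial k) ^ p)) R) (AlgHom.id k k)
        (AdjoinRoot.root ((Polynomial.X : Polynomial k) ^ p) ⊗ₜ[k] (1 : k)))
      have hp0 : ((p : ℕ) : R ⊗[k] k) = 0 := by
        rw [← map_natCast (algebraMap k (R ⊗[k] k)), CharP.cast_eq_zero, map_zero]
      have hroot : AdjoinRoot.root ((Polynomial.X : Polynomial k) ^ p) ^ p = 0 := by
        rw [← AdjoinRoot.mk_X, ← map_pow, AdjoinRoot.mk_self]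
      rw [hr, hp0, mul_pow, ← map_pow, Algebra.TensorProduct.tmul_pow, hroot]
      simp
    rw [h, Ideal.mem_bot] at hmem
    have h1 := congrArg (TensorProduct.rid k (AdjoinRoot ((Polynomial.X : Polynomial k) ^ p))) hmem
    rw [TensorProduct.rid_tmul, one_smul, map_zero, ← AdjoinRoot.mk_X, AdjoinRoot.mk_eq_zero] at h1
    have h2 := Polynomial.natDegree_le_of_dvd h1 Polynomial.X_ne_zero
    rw [Polynomial.natDegree_X_pow, Polynomial.natDegree_X] at h2
    exact absurd h2 (not_le.mpr hp.one_lt)

end Groth.Agent.S13725
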