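import Groth.Statements.S13726
-- import your own Groth.Agent.* helpers here
import Mathlib.Algebra.CharP.Lemmas
import Mathlib.Algebra.CharP.Algebra
import Mathlib.RingTheory.AdjoinRoot
import Mathlib.RingTheory.MvPolynomial.Ideal
import Mathlib.LinearAlgebra.TensorProduct.Tower

set_option autoImplicit false
universe u
open scoped TensorProduct
open ZeroCyc

namespace Groth.Agent.S13726

/-- Let k be a field of characteristic p > 0 and A = k[t_i : i ∈ ℕ]/(t_i^p : i ∈ ℕ). The law x ↦ x^p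
from A to A is multiplicative and homogeneous of degree p over A; its kernel is the ideal generated
by the classes of the variables t_i, and this ideal is not finitely generated. Hence the image of a
family of zero-cycles need not be of finite presentation over the base even when X → S is. -/
theorem result {k : Type u} [Field k] (p : ℕ) [Fact p.Prime] [CharP k p] :
    PolLaw.ker (PolLaw.MulLaw.pow
        (MvPolynomial ℕ k ⧸ Ideal.span (Set.range fun i : ℕ => (MvPolynomial.X i : MvPolynomial ℕ k) ^ p))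
        (MvPolynomial ℕ k ⧸ Ideal.span (Set.range fun i : ℕ => (MvPolynomial.X i : MvPolynomial ℕ k) ^ p)) p).law =
      (Ideal.span (Set.range fun i : ℕ => (MvPolynomial.X i : MvPolynomial ℕ k))).map
        (Ideal.Quotient.mk (Ideal.span (Set.range fun i : ℕ => (MvPolynomial.X i : MvPolynomial ℕ k) ^ p))) ∧
    ¬ (PolLaw.ker (PolLaw.MulLaw.pow
        (MvPolynomial ℕ k ⧸ Ideal.span (Set.range fun i : ℕ => (MvPolynomial.X i : MvPolynomial ℕ k) ^ p))
        (MvPolynomial ℕ k ⧸ Ideal.span (Set.range fun i : ℕ => (MvPolynomial.X i : MvPolynomial ℕ k) ^ p)) p).law).FG := by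
  classical
  have hp : p.Prime := Fact.out
  set J : Ideal (MvPolynomial ℕ k) :=
    Ideal.span (Set.range fun i : ℕ => (MvPolynomial.X i : MvPolynomial ℕ k) ^ p) with hJ
  set M : Ideal (MvPolynomial ℕ k ⧸ J) :=
    (Ideal.span (Set.range fun i : ℕ => (MvPolynomial.X i : MvPolynomial ℕ k))).map (Ideal.Quotient.mk J) with hM
  have hJ0 : ∀ f ∈ J, MvPolynomial.constantCoeff f = 0 := by
    intro f hf
    have hle : J ≤ RingHom.ker (MvPolynomial.constantCoeff (σ := ℕ) (R := k)) := Ideal.span_le.mpr (by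
      rintro _ ⟨i, rfl⟩
      simp [hp.ne_zero])
    exact hle hf
  have hker : PolLaw.ker (PolLaw.MulLaw.pow (MvPolynomial ℕ k ⧸ J) (MvPolynomial ℕ k ⧸ J) p).law = M := by
    apply le_antisymm
    · intro b hb
      have h := hb (MvPolynomial ℕ k ⧸ J) 0 1
      change (0 + 1 * ((1 : MvPolynomial ℕ k ⧸ J) ⊗ₜ[MvPolynomial ℕ k ⧸ J] b)) ^ p = 0 ^ p at h
      have h1 := congrArg (Algebra.TensorProduct.lid (MvPolynomial ℕ k ⧸ J) (MvPolynomial ℕ k ⧸ J)) h
      simp only [map_pow, map_add, map_mul, map_one, map_zero, Algebra.TensorProduct.lid_tmul, one_smul,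
        zero_add, one_mul, zero_pow hp.ne_zero] at h1
      obtain ⟨f, rfl⟩ := Ideal.Quotient.mk_surjective b
      rw [← map_pow, Ideal.Quotient.eq_zero_iff_mem] at h1
      have h2 := hJ0 _ h1
      rw [map_pow, pow_eq_zero_iff hp.ne_zero] at h2
      refine Ideal.mem_map_of_mem _ ?_
      rw [← Set.image_univ, MvPolynomial.mem_ideal_span_X_image]
      intro m hm
      obtain ⟨i, hi⟩ : ∃ i, m i ≠ 0 := by
        by_contra hne
        push Not at hne
        rw [show m = 0 from Finsupp.ext hne, MvPolynomial.mem_support_iff] at hm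
        exact hm h2
      exact ⟨i, Set.mem_univ _, hi⟩
    · rw [hM, Ideal.map_span, Ideal.span_le]
      rintro _ ⟨_, ⟨i, rfl⟩, rfl⟩ S _ _ x w
      show (x + w * _) ^ p = x ^ p
      obtain ⟨r, hr⟩ := exists_add_pow_prime_eq hp x
        (w * ((1 : S) ⊗ₜ[MvPolynomial ℕ k ⧸ J] Ideal.Quotient.mk J (MvPolynomial.X i)))
      have hp0 : ((p : ℕ) : S ⊗[MvPolynomial ℕ k ⧸ J] (MvPolynomial ℕ k ⧸ J)) = 0 := by
        have hq : ((p : ℕ) : MvPolynomial ℕ k ⧸ J) = 0 := by
          rw [← map_natCast (Ideal.Quotient.mk J), CharP.cast_eq_zero, map_zero]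
        have hS : ((p : ℕ) : S) = 0 := by
          rw [← map_natCast (algebraMap (MvPolynomial ℕ k ⧸ J) S), hq, map_zero]
        rw [Algebra.TensorProduct.natCast_def, hS, TensorProduct.zero_tmul]
      have hX : Ideal.Quotient.mk J (MvPolynomial.X i) ^ p = 0 := by
        rw [← map_pow, Ideal.Quotient.eq_zero_iff_mem]
        exact Ideal.subset_span ⟨i, rfl⟩
      rw [hr, hp0, mul_pow, Algebra.TensorProduct.tmul_pow, hX]
      simp
  refine ⟨hker, fun hfg => ?_⟩
  rw [hker] at hfg
  obtain ⟨s, hs⟩ := hfg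
  -- finitely many variables suffice
  have hsub : ∀ x ∈ s, ∃ F : Finset ℕ, x ∈ (Ideal.span (F.image fun i =>
      (Ideal.Quotient.mk J (MvPolynomial.X i)) : Set (MvPolynomial ℕ k ⧸ J))) := by
    intro x hx
    have hxM : x ∈ M := hs ▸ Ideal.subset_span hx
    rw [hM, Ideal.map_span, ← Set.range_comp] at hxM
    obtain ⟨T, hT, hxT⟩ := Submodule.mem_span_finite_of_mem_span hxM
    choose f hf using fun t : T => hT t.2
    refine ⟨Finset.univ.image f, Ideal.span_mono (fun t ht => ?_) hxT⟩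
    simp only [Finset.coe_image, Finset.coe_univ, Set.image_univ]
    exact ⟨f ⟨t, ht⟩, ⟨⟨t, ht⟩, rfl⟩, hf ⟨t, ht⟩⟩
  choose Fs hFs using hsub
  obtain ⟨N, hN⟩ := Infinite.exists_notMem_finset (s.attach.biUnion fun x => Fs x.1 x.2)
  let q : Polynomial k := Polynomial.X ^ p
  let ψ : (MvPolynomial ℕ k ⧸ J) →+* AdjoinRoot q := Ideal.Quotient.lift J
    (MvPolynomial.aeval (fun i => if i = N then AdjoinRoot.root q else 0)).toRingHom (fun f hf => by
      have hle : J ≤ RingHom.ker (MvPolynomial.aeval (R := k)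
          (fun i => if i = N then AdjoinRoot.root q else 0)).toRingHom := Ideal.span_le.mpr (by
        rintro _ ⟨i, rfl⟩
        show MvPolynomial.aeval _ (MvPolynomial.X i ^ p) = 0
        rw [map_pow, MvPolynomial.aeval_X]
        split_ifs
        · rw [← AdjoinRoot.mk_X, ← map_pow, AdjoinRoot.mk_self]
        · exact zero_pow hp.ne_zero)
      exact hle hf)
  have hψ : ∀ i, ψ (Ideal.Quotient.mk J (MvPolynomial.X i)) = if i = N then AdjoinRoot.root q else 0 :=
    fun i => by simp [ψ]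
  have hXN : Ideal.Quotient.mk J (MvPolynomial.X N) ∈ Ideal.span (s : Set (MvPolynomial ℕ k ⧸ J)) :=
    hs.symm ▸ Ideal.mem_map_of_mem _ (Ideal.subset_span ⟨N, rfl⟩)
  have hle : Ideal.span (s : Set (MvPolynomial ℕ k ⧸ J)) ≤ RingHom.ker ψ := Ideal.span_le.mpr fun x hx => by
    refine (Ideal.span_le.mpr ?_) (hFs x hx)
    intro y hy
    obtain ⟨i, hi, rfl⟩ := Finset.mem_image.mp hy
    show ψ _ = 0
    rw [hψ, if_neg]
    rintro rfl
    exact hN (Finset.mem_biUnion.mpr ⟨⟨x, hx⟩, Finset.mem_attach _ _, hi⟩)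
  have h0 : ψ (Ideal.Quotient.mk J (MvPolynomial.X N)) = 0 := hle hXN
  rw [hψ, if_pos rfl, ← AdjoinRoot.mk_X, AdjoinRoot.mk_eq_zero] at h0
  have h2 := Polynomial.natDegree_le_of_dvd h0 Polynomial.X_ne_zero
  rw [Polynomial.natDegree_X_pow, Polynomial.natDegree_X] at h2
  exact absurd h2 (not_le.mpr hp.one_lt)

end Groth.Agent.S13726
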