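import Groth.Statements.S13727
-- import your own Groth.Agent.* helpers here
import Groth.Agent.Lib.PolLaw.Fibre

set_option autoImplicit false
universe u
open scoped TensorProduct
open ZeroCyc

namespace Groth.Agent.S13727

/-- Let A be a commutative ring whose prime spectrum is connected, B a commutative A-algebra and F : B →
A a multiplicative polynomial law homogeneous of degree d. Then Spec(B/ker F), the support of the
family of zero-cycles of degree d defined by F, has at most d connected components (in particular
finitely many). -/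
theorem result {A : Type u} [CommRing A] [ConnectedSpace (PrimeSpectrum A)]
    {B : Type u} [CommRing B] [Algebra A B] {d : ℕ} (F : PolLaw.MulLaw A B A d) :
    Finite (ConnectedComponents (PrimeSpectrum (PolLaw.image F.law))) ∧
      Nat.card (ConnectedComponents (PrimeSpectrum (PolLaw.image F.law))) ≤ d := by
  classical
  have := GrothLib.PolLaw.isIntegral_image F
  let e : PolLaw.image F.law ≃ₐ[A] A ⊗[A] PolLaw.image F.law := (Algebra.TensorProduct.lid A _).symm
  obtain ⟨p⟩ := (ConnectedSpace.toNonempty : Nonempty (PrimeSpectrum A))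
  obtain ⟨f, hf⟩ := GrothLib.PolLaw.fibre_card_le F (A' := A) p
  let E := PrimeSpectrum.homeomorphOfRingEquiv e.toRingEquiv
  let f' : Fin d → PrimeSpectrum (PolLaw.image F.law) := fun j => E.symm (f j)
  refine GrothLib.PolLaw.card_connectedComponents_le f' fun U hU hne => ?_
  let c : PrimeSpectrum (A ⊗[A] PolLaw.image F.law) → PrimeSpectrum A :=
    PrimeSpectrum.comap (algebraMap A (A ⊗[A] PolLaw.image F.law))
  have hclosed : IsClosedMap c := PrimeSpectrum.isClosedMap_comap_of_isIntegral _
    (fun z => Algebra.IsIntegral.isIntegral z)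
  have huniv : c '' (E '' U) = Set.univ :=
    IsClopen.eq_univ ⟨hclosed _ (E.isClosedMap _ hU.isClosed),
      GrothLib.PolLaw.isOpenMap_comap F A _ (E.isOpenMap _ hU.isOpen)⟩ ((hne.image _).image _)
  obtain ⟨P, ⟨Q, hQ, rfl⟩, hP⟩ := huniv.symm ▸ Set.mem_univ p
  obtain ⟨j, hj⟩ := hf (E Q) hP
  exact ⟨j, by simp [f', hj, hQ]⟩

end Groth.Agent.S13727
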