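import Groth.Statements.S13728
-- import your own Groth.Agent.* helpers here
import Mathlib.Algebra.Colimit.Module
import Mathlib.Data.Fintype.Perm
import Mathlib.Order.Directed
import Mathlib.Data.Fintype.Order

set_option autoImplicit false
universe u
open scoped TensorProduct
open ZeroCyc

namespace Groth.Agent.S13728

/-- The functor B ↦ TS^d_A(B) (symmetric tensors of degree d, the invariants of the symmetric group in
the d-fold tensor power) commutes with filtered direct limits. Concretely, let B be the direct limit
of a directed system (B_i, t_ij : B_i → B_j) of commutative algebras over the commutative ring A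
(t_ii the identity, t_jk ∘ t_ij = t_ik) with structure maps φ_i : B_i → B (compatible with the t_ij,
jointly surjective, and an element of B_i vanishing in B vanishes in some B_j). Then every element
of TS^d_A(B) is the image of an element of some TS^d_A(B_i), and an element of TS^d_A(B_i) whose
image in TS^d_A(B) is zero has image zero in TS^d_A(B_j) for some j ≥ i. -/
theorem result {A : Type u} [CommRing A] {B : Type u} [CommRing B] [Algebra A B]
    {ι : Type u} [Preorder ι] [IsDirected ι (fun i j => i ≤ j)] [Nonempty ι]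
    (Bi : ι → Type u) [∀ i, CommRing (Bi i)] [∀ i, Algebra A (Bi i)]
    (t : ∀ i j : ι, i ≤ j → (Bi i →ₐ[A] Bi j)) (φ : ∀ i : ι, Bi i →ₐ[A] B)
    (hcomp : ∀ (i j : ι) (h : i ≤ j), (φ j).comp (t i j h) = φ i)
    (hsurj : ∀ b : B, ∃ (i : ι) (x : Bi i), φ i x = b)
    (hzero : ∀ (i : ι) (x : Bi i), φ i x = 0 → ∃ (j : ι) (h : i ≤ j), t i j h x = 0)
    (hid : ∀ (i : ι) (h : i ≤ i), t i i h = AlgHom.id A (Bi i))
    (htrans : ∀ (i j k : ι) (hij : i ≤ j) (hjk : j ≤ k), (t j k hjk).comp (t i j hij) = t i k (hij.trans hjk)) (d : ℕ) :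
    (∀ z : SymTen.TS A B d, ∃ (i : ι) (y : SymTen.TS A (Bi i) d), SymTen.TSmap A d (φ i) y = z) ∧
      ∀ (i : ι) (y : SymTen.TS A (Bi i) d), SymTen.TSmap A d (φ i) y = 0 →
        ∃ (j : ι) (h : i ≤ j), SymTen.TSmap A d (t i j h) y = 0 := by
  classical
  haveI : IsDirectedOrder ι := inferInstance
  let T : ∀ i j, i ≤ j → (⨂[A] _ : Fin d, Bi i) →ₗ[A] (⨂[A] _ : Fin d, Bi j) :=
    fun i j h => (SymTen.tmap A d (t i j h)).toLinearMap
  have hTT : ∀ i j k (hij : i ≤ j) (hjk : j ≤ k) x, T j k hjk (T i j hij x) = T i k (hij.trans hjk) x := by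
    intro i j k hij hjk x
    induction x using PiTensorProduct.induction_on with
    | smul_tprod r f => simp [T, ← htrans i j k hij hjk]
    | add x y hx hy => simp only [map_add, hx, hy]
  haveI : DirectedSystem (fun i => ⨂[A] _ : Fin d, Bi i) (T · · ·) :=
    { map_self := fun i x => by
        induction x using PiTensorProduct.induction_on with
        | smul_tprod r f => simp [T, hid]
        | add x y hx hy => simp only [map_add, hx, hy]
      map_map := fun k j i hij hjk x => hTT i j k hij hjk x }
  let L := Module.DirectLimit (fun i => ⨂[A] _ : Fin d, Bi i) T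
  let ofL : ∀ i, (⨂[A] _ : Fin d, Bi i) →ₗ[A] L := fun i => Module.DirectLimit.of A ι _ T i
  have hlift : ∀ b : Fin d → B, ∃ i, ∃ x : Fin d → Bi i, ∀ l, φ i (x l) = b l := by
    intro b
    choose i x hx using fun l => hsurj (b l)
    obtain ⟨m, hm⟩ := Finite.exists_le i
    exact ⟨m, fun l => t (i l) m (hm l) (x l), fun l => by
      rw [← AlgHom.comp_apply, hcomp, hx]⟩
  have hwd : ∀ i j (x : Fin d → Bi i) (y : Fin d → Bi j), (∀ l, φ i (x l) = φ j (y l)) →
      ofL i (PiTensorProduct.tprod A x) = ofL j (PiTensorProduct.tprod A y) := by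
    intro i j x y h
    obtain ⟨m, him, hjm⟩ := exists_ge_ge i j
    choose k hk hk0 using fun l => hzero m (t i m him (x l) - t j m hjm (y l)) (by
      rw [map_sub, ← AlgHom.comp_apply, ← AlgHom.comp_apply, hcomp, hcomp, h, sub_self])
    obtain ⟨M, hM⟩ := Finite.exists_le k
    obtain ⟨M', hM', hmM'⟩ := exists_ge_ge M m
    have key : ∀ l, t i M' (him.trans hmM') (x l) = t j M' (hjm.trans hmM') (y l) := fun l => by
      have h1 := congr_arg (t (k l) M' ((hM l).trans hM')) (hk0 l)
      rw [map_zero, map_sub, map_sub, sub_eq_zero, ← AlgHom.comp_apply, htrans,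
        ← AlgHom.comp_apply, ← AlgHom.comp_apply, htrans] at h1
      simp only [← AlgHom.comp_apply, htrans] at h1
      exact h1
    simp only [ofL]
    rw [← Module.DirectLimit.of_f (f := T) (hij := him.trans hmM'),
      ← Module.DirectLimit.of_f (f := T) (hij := hjm.trans hmM')]
    congr 1
    simp only [T, AlgHom.toLinearMap_apply, SymTen.tmap_tprod]
    congr 1
    funext l
    exact key l
  let g : MultilinearMap A (fun _ : Fin d => B) L :=
    MultilinearMap.mk' (fun b => ofL _ (PiTensorProduct.tprod A (hlift b).choose_spec.choose))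
      (fun b l u v => by
        obtain ⟨i, x, hx⟩ := hlift b
        obtain ⟨iu, xu, hu⟩ := hsurj u
        obtain ⟨iv, xv, hv⟩ := hsurj v
        obtain ⟨m₁, h1, h2⟩ := exists_ge_ge i iu
        obtain ⟨m, h3, h4⟩ := exists_ge_ge m₁ iv
        have hX : ∀ (w : Bi m) (w' : B), φ m w = w' → ∀ l', φ m
            (Function.update (fun l => t i m (h1.trans h3) (x l)) l w l') = Function.update b l w' l' := by
          intro w w' hw l'
          rcases eq_or_ne l' l with rfl | hne
          · simp [hw]
          · rw [Function.update_of_ne hne, Function.update_of_ne hne, ← AlgHom.comp_apply, hcomp, hx]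
        have hU : φ m (t iu m (h2.trans h3) xu) = u := by rw [← AlgHom.comp_apply, hcomp, hu]
        have hV : φ m (t iv m h4 xv) = v := by rw [← AlgHom.comp_apply, hcomp, hv]
        show ofL _ _ = ofL _ _ + ofL _ _
        rw [hwd _ m _ _ (fun l' => ((hlift _).choose_spec.choose_spec l').trans
            (hX (t iu m (h2.trans h3) xu + t iv m h4 xv) (u + v) (by rw [map_add, hU, hV]) l').symm),
          hwd _ m _ _ (fun l' => ((hlift _).choose_spec.choose_spec l').trans (hX _ u hU l').symm),
          hwd _ m _ _ (fun l' => ((hlift _).choose_spec.choose_spec l').trans (hX _ v hV l').symm),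
          MultilinearMap.map_update_add, map_add])
      (fun b l a u => by
        obtain ⟨i, x, hx⟩ := hlift b
        obtain ⟨iu, xu, hu⟩ := hsurj u
        obtain ⟨m, h1, h2⟩ := exists_ge_ge i iu
        have hX : ∀ (w : Bi m) (w' : B), φ m w = w' → ∀ l', φ m
            (Function.update (fun l => t i m h1 (x l)) l w l') = Function.update b l w' l' := by
          intro w w' hw l'
          rcases eq_or_ne l' l with rfl | hne
          · simp [hw]
          · rw [Function.update_of_ne hne, Function.update_of_ne hne, ← AlgHom.comp_apply, hcomp, hx]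
        have hU : φ m (t iu m h2 xu) = u := by rw [← AlgHom.comp_apply, hcomp, hu]
        show ofL _ _ = a • ofL _ _
        rw [hwd _ m _ _ (fun l' => ((hlift _).choose_spec.choose_spec l').trans
            (hX (a • t iu m h2 xu) (a • u) (by rw [map_smul, hU]) l').symm),
          hwd _ m _ _ (fun l' => ((hlift _).choose_spec.choose_spec l').trans (hX _ u hU l').symm),
          MultilinearMap.map_update_smul, map_smul])
  have hg : ∀ i (y : ⨂[A] _ : Fin d, Bi i), PiTensorProduct.lift g (SymTen.tmap A d (φ i) y) = ofL i y := by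
    intro i y
    induction y using PiTensorProduct.induction_on with
    | smul_tprod r f =>
      simp only [map_smul, SymTen.tmap_tprod, PiTensorProduct.lift.tprod]
      congr 1
      exact hwd _ i _ f fun l => (hlift fun l => φ i (f l)).choose_spec.choose_spec l
    | add x y hx hy => simp only [map_add, hx, hy]
  have hkill : ∀ i (y : ⨂[A] _ : Fin d, Bi i), SymTen.tmap A d (φ i) y = 0 →
      ∃ j, ∃ h : i ≤ j, T i j h y = 0 := by
    intro i y hy
    have h := hg i y
    rw [hy, map_zero] at h
    exact Module.DirectLimit.of.zero_exact h.symm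
  refine ⟨fun z => ?_, fun i y hy => ?_⟩
  · obtain ⟨i, y, hy⟩ : ∃ i, ∃ y : ⨂[A] _ : Fin d, Bi i, SymTen.tmap A d (φ i) y = z.1 := by
      generalize z.1 = w
      induction w using PiTensorProduct.induction_on with
      | smul_tprod r f =>
        obtain ⟨i, x, hx⟩ := hlift f
        exact ⟨i, r • PiTensorProduct.tprod A x, by simp [hx]⟩
      | add x y hx hy =>
        obtain ⟨i, a, ha⟩ := hx
        obtain ⟨j, b, hb⟩ := hy
        obtain ⟨m, him, hjm⟩ := exists_ge_ge i j
        refine ⟨m, T i m him a + T j m hjm b, ?_⟩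
        have hTφ : ∀ i m (him : i ≤ m) (c : ⨂[A] _ : Fin d, Bi i),
            SymTen.tmap A d (φ m) (T i m him c) = SymTen.tmap A d (φ i) c := by
          intro i m him c
          induction c using PiTensorProduct.induction_on with
          | smul_tprod r f => simp [T, ← hcomp i m him]
          | add x y hx hy => simp only [map_add, hx, hy]
        rw [map_add, hTφ, hTφ, ha, hb]
    choose k hk hk0 using fun σ : Equiv.Perm (Fin d) => hkill i
      (PiTensorProduct.reindex A (fun _ : Fin d => Bi i) σ y - y) (by
        rw [map_sub, SymTen.tmap_reindex, hy, z.2 σ, sub_self])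
    obtain ⟨M, hM⟩ := Finite.exists_le k
    obtain ⟨N, hMN, hiN⟩ := exists_ge_ge M i
    refine ⟨N, ⟨T i N hiN y, fun σ => ?_⟩, Subtype.ext ?_⟩
    · have h1 := congr_arg (T (k σ) N ((hM σ).trans hMN)) (hk0 σ)
      rw [hTT, map_zero, map_sub, sub_eq_zero] at h1
      exact (SymTen.tmap_reindex A d (t i N hiN) σ y).symm.trans h1
    · show SymTen.tmap A d (φ N) (T i N hiN y) = z.1
      rw [← hy]
      clear hy hk0
      induction y using PiTensorProduct.induction_on with
      | smul_tprod r f => simp [T, ← hcomp i N hiN]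
      | add x y hx hy => simp only [map_add, hx, hy]
  · obtain ⟨j, h, h0⟩ := hkill i y.1 (congr_arg Subtype.val hy)
    exact ⟨j, h, Subtype.ext h0⟩

end Groth.Agent.S13728
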