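import Groth.Statements.S13731
import Groth.Agent.Lib.SubtrLim.Cover

set_option autoImplicit false
set_option backward.isDefEq.respectTransparency false
universe u
open HTop
open CategoryTheory CategoryTheory.Limits AlgebraicGeometry

namespace Groth.Agent.S13731

open CategoryTheory CategoryTheory.Limits AlgebraicGeometry in
/-- Let X be a separated Noetherian scheme and {p_i : U_i → X} a finite family of separated morphisms of
finite type whose induced morphism from the disjoint union of the U_i to X is universally submersive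
(an h-covering). Then every point x of X is p_i(u) for some i and some point u of U_i admitting a
generization ξ in U_i whose image p_i(ξ) is a generic point of an irreducible component of X.
Equivalently, the irreducible components of the U_i dominating an irreducible component of X jointly
cover X. -/
theorem result {X : Scheme.{u}} [IsNoetherian X] [X.IsSeparated] (E : PreZeroHypercover.{u} X) [Finite E.I₀] [∀ i, LocallyOfFiniteType (E.f i)] [∀ i, QuasiCompact (E.f i)] [∀ i, IsSeparated (E.f i)] (hE : SGA1.UnivSubmersive (Sigma.desc E.f)) (x : X) : ∃ (i : E.I₀) (ξ u : E.X i), ξ ⤳ u ∧ E.f i u = x ∧ closure {E.f i ξ} ∈ irreducibleComponents ↥X := by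
  haveI := GrothLib.SubtrLim.quasiCompact_sigmaDesc E
  obtain ⟨η, hη, hx⟩ := GrothLib.DVRDom.exists_genericPoint_specializes x
  have hu : Subtr.UnivSSubtrusive (Sigma.desc E.f) := GrothLib.SubtrLim.univSSubtrusive_iff_valPair.mpr
    (GrothLib.SubtrLim.valPair_of_dvrPair (GrothLib.SubtrLim.dvrPair_of_univSubmersive hE))
  obtain ⟨z, z', hz, hfz, hfz'⟩ := hu (𝟙 _) (𝟙 _) (Sigma.desc E.f) (IsPullback.of_vert_isIso ⟨by simp⟩) hx
  obtain ⟨i, u, rfl⟩ := GrothLib.Constr.exists_sigma_eq E.X z
  have hmem : z' ∈ Set.range (Sigma.ι E.X i) :=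
    hz.mem_open (Sigma.ι E.X i).isOpenEmbedding.isOpen_range ⟨u, rfl⟩
  obtain ⟨ξ, rfl⟩ := hmem
  rw [← Scheme.Hom.comp_apply, Sigma.ι_desc] at hfz hfz'
  refine ⟨i, ξ, u, ((Sigma.ι E.X i).isOpenEmbedding.isInducing.specializes_iff).mp hz, hfz, ?_⟩
  rw [hfz']
  exact hη

end Groth.Agent.S13731
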