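import Groth.Statements.S13733
import Groth.Agent.Lib.HTopRefine4.Basic
import Groth.Agent.Lib.SubtrOpen4.Basic
import Groth.Agent.S14793
import Groth.Agent.S2735
-- import your own Groth.Agent.* helpers here

set_option autoImplicit false
set_option linter.all false
set_option backward.isDefEq.respectTransparency false
universe u
open HTop

namespace Groth.Agent.S13733

open CategoryTheory CategoryTheory.Limits AlgebraicGeometry in
/-- Let Y be a separated Noetherian scheme and {p_j : Y_j → Y} a finite family of separated morphisms of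
finite type whose induced morphism from the disjoint union of the Y_j to Y is universally submersive
(an h-covering). Then there are: a reduced scheme Y_red with a surjective closed immersion ι : Y_red
→ Y, a surjective blow-up b : Y'' → Y_red of Y_red in some quasi-coherent sheaf of ideals (b has the
universal property of the blowing up), a finite surjective morphism q : Y' → Y'', and finitely many
open subschemes V_1, …, V_n covering Y', such that the composite p = q ≫ b ≫ ι is proper and
surjective and every composite V_i → Y' → Y factors through some member of the family. -/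
theorem result {Y : Scheme.{u}} [IsNoetherian Y] [Y.IsSeparated] (E : PreZeroHypercover.{u} Y) [Finite E.I₀] [∀ j, LocallyOfFiniteType (E.f j)] [∀ j, QuasiCompact (E.f j)] [∀ j, IsSeparated (E.f j)] (hE : SGA1.UnivSubmersive (Sigma.desc E.f)) : ∃ (Yr Y'' Y' : Scheme.{u}) (ι : Yr ⟶ Y) (𝓘 : Yr.IdealSheafData) (b : Y'' ⟶ Yr) (q : Y' ⟶ Y'') (n : ℕ) (V : Fin n → Y'.Opens), IsClosedImmersion ι ∧ Surjective ι ∧ IsReduced Yr ∧ BlowUp.IsBlowUp b 𝓘 ∧ Surjective b ∧ IsFinite q ∧ Surjective q ∧ IsProper (q ≫ b ≫ ι) ∧ Surjective (q ≫ b ≫ ι) ∧ ⨆ i, V i = ⊤ ∧ ∀ i, ∃ (j : E.I₀) (h : (↑(V i) : Scheme.{u}) ⟶ E.X j), h ≫ E.f j = (V i).ι ≫ q ≫ b ≫ ι := by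
  obtain ⟨_, _, _, _⟩ := GrothLib.HTopRefine4.sigmaDesc_props E.f
  let f := Sigma.desc E.f
  let R := (Scheme.IdealSheafData.vanishingIdeal (⊤ : TopologicalSpace.Closeds Y))
  let ι := R.subschemeι
  haveI : IsReduced R.subscheme := GrothLib.RedSub.isReduced_subscheme_vanishingIdeal _
  haveI : Surjective ι := ⟨fun y => by
    have : y ∈ Set.range R.subschemeι := by
      rw [Scheme.IdealSheafData.range_subschemeι, Scheme.IdealSheafData.coe_support_vanishingIdeal]
      simp
    exact this⟩
  haveI : IsLocallyNoetherian R.subscheme := LocallyOfFiniteType.isLocallyNoetherian ι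
  haveI : CompactSpace R.subscheme := QuasiCompact.compactSpace_of_compactSpace ι
  haveI : IsNoetherian R.subscheme := {}
  let f₁ := pullback.snd f ι
  have hsub : Subtr.UnivSSubtrusive f₁ :=
    MorphismProperty.of_isPullback (P := MorphismProperty.universally _) (IsPullback.of_hasPullback f ι)
      ((Groth.Agent.S14770.result f).1 hE)
  obtain ⟨U, J, Y'', b, -, -, hb, -, hbs, key⟩ :=
    Groth.Agent.S14793.result (TopologicalSpace.NoetherianSpace.isCompact _) f₁ hsub
  haveI : IsProper b := GrothLib.BlowUpProper.isProper_of_isBlowUp hb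
  haveI : IsLocallyNoetherian Y'' := LocallyOfFiniteType.isLocallyNoetherian b
  haveI : CompactSpace Y'' := QuasiCompact.compactSpace_of_compactSpace b
  haveI : IsNoetherian Y'' := {}
  let P := pullback f₁ b
  haveI : IsLocallyNoetherian P := LocallyOfFiniteType.isLocallyNoetherian (pullback.snd f₁ b)
  haveI : CompactSpace P := QuasiCompact.compactSpace_of_compactSpace (pullback.snd f₁ b)
  haveI : IsNoetherian P := {}
  obtain ⟨𝒥, h𝒥, -⟩ := GrothLib.SubtrOpen4.exists_strict_ideal ((J.comap f₁).comap (pullback.fst f₁ b))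
  obtain ⟨hfl, hsu, hfp, hqc, -⟩ := key P _ _ (IsPullback.of_hasPullback f₁ b) 𝒥 h𝒥
  obtain ⟨S₃, g, h, hhg, _, _, _, _, haff⟩ := Groth.Agent.S2735.result (𝒥.subschemeι ≫ pullback.snd f₁ b)
  haveI : IsAffine S₃ := haff inferInstance
  obtain ⟨X', Y', h', p, q, hw, hp, -, -, hloc, hq, hqs, -⟩ :=
    GrothLib.SubtrRefine4.refines_finite g (Or.inr inferInstance)
      (GrothLib.SubtrOpen4.univSSubtrusive_of_universallyOpen g)
  haveI := hq
  haveI := hqs
  haveI := hbs
  haveI : CompactSpace Y' := QuasiCompact.compactSpace_of_compactSpace q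
  obtain ⟨n, V, hV, hl⟩ := GrothLib.HTopRefine4.exists_opens_lifts E.f
    (h' ≫ h ≫ 𝒥.subschemeι ≫ pullback.fst f₁ b ≫ pullback.fst f ι) p (q ≫ b ≫ ι) (by
      rw [Category.assoc, Category.assoc, Category.assoc, Category.assoc, pullback.condition,
        pullback.condition_assoc, ← Category.assoc p, ← hw, ← hhg]
      simp only [Category.assoc]) hloc
  exact ⟨R.subscheme, Y'', Y', ι, J, b, q, n, V, inferInstance, inferInstance, inferInstance, hb, hbs, hq,
    hqs, inferInstance, inferInstance, hV, hl⟩

end Groth.Agent.S13733
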