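import Groth.Statements.S14771
import Groth.Agent.Lib.SubtrLim.Submersive

set_option autoImplicit false
set_option backward.isDefEq.respectTransparency false
universe u
open CategoryTheory CategoryTheory.Limits AlgebraicGeometry
open Subtr

namespace Groth.Agent.S14771

/-- Let Y be locally Noetherian and f : X ⟶ Y quasi-compact and locally of finite type. The following
are equivalent: (i) f is universally submersive; (ii) every base change of f has the lifting
property for ordered pairs of points; (iii) for every discrete valuation ring D and morphism g :
Spec D ⟶ Y there are a discrete valuation ring D', a morphism a : Spec D' ⟶ X and a surjective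
morphism b : Spec D' ⟶ Spec D with a ≫ f = b ≫ g. (The published statement assumes f only locally of
finite type. Quasi-compactness cannot be dropped: over the local ring of a regular surface at a
closed point s, the disjoint union of the punctured surface, a regular curve C through s and, for
every n ≥ 1, the n-fold blow-up along successive points of the strict transform of C with the n-th
such point removed, satisfies (iii) with D' = D, while (ii) fails at a valuation ring of rank two
whose centres are exactly the removed points; the limit argument behind the published proof uses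
quasi-compactness of the fibres.) -/
theorem result {X Y : Scheme.{u}} [IsLocallyNoetherian Y]
    (f : X ⟶ Y) [LocallyOfFiniteType f] [QuasiCompact f] :
    List.TFAE [
      SGA1.UnivSubmersive f,
      Subtr.UnivSSubtrusive f,
      ∀ (D : Type u) [CommRing D] [IsDomain D] [IsDiscreteValuationRing D] (g : Spec (CommRingCat.of D) ⟶ Y),
        ∃ (D' : Type u) (_ : CommRing D') (_ : IsDomain D') (_ : IsDiscreteValuationRing D')
          (a : Spec (CommRingCat.of D') ⟶ X) (b : Spec (CommRingCat.of D') ⟶ Spec (CommRingCat.of D)),
          Surjective b ∧ a ≫ f = b ≫ g] := by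
  tfae_have 1 → 2 := fun h => GrothLib.SubtrLim.univSSubtrusive_iff_valPair.mpr
    (GrothLib.SubtrLim.valPair_of_dvrPair (GrothLib.SubtrLim.dvrPair_of_univSubmersive h))
  tfae_have 2 → 1 := GrothLib.SubtrLim.univSubmersive_of_univSSubtrusive
  tfae_have 2 → 3 := by
    intro h D _ _ _ g
    obtain ⟨x, x', hx, hbx, hbx'⟩ := h (pullback.fst f g) g (pullback.snd f g)
      (IsPullback.of_hasPullback f g).flip (GrothLib.HTop.gen_specializes (GrothLib.HTop.closed (CommRingCat.of D)))
    haveI : IsLocallyNoetherian (pullback f g) :=
      LocallyOfFiniteType.isLocallyNoetherian (pullback.snd f g)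
    obtain ⟨D', _, _, _, l, hl, hl'⟩ := GrothLib.SubtrLim.exists_dvr_map hx
    refine ⟨D', inferInstance, inferInstance, inferInstance, l ≫ pullback.fst f g, l ≫ pullback.snd f g, ?_, ?_⟩
    · refine GrothLib.SubtrLim.surjective_of_gen_closed (V := CommRingCat.of D) (W := CommRingCat.of D') _ ?_ ?_
      · rw [Scheme.Hom.comp_apply, hl, hbx']
      · rw [Scheme.Hom.comp_apply, hl', hbx]
    · simp only [Category.assoc, pullback.condition]
  tfae_have 3 → 2 := by
    intro h
    refine GrothLib.SubtrLim.univSSubtrusive_iff_valPair.mpr (GrothLib.SubtrLim.valPair_of_dvrPair ?_)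
    intro D _ _ _ g
    obtain ⟨D', _, _, _, a', b', hb', hab⟩ := h D g
    let l := pullback.lift (f := f) (g := g) a' b' hab
    obtain ⟨w', hw'⟩ := b'.surjective (GrothLib.HTop.gen (CommRingCat.of D))
    obtain ⟨w, hw⟩ := b'.surjective (GrothLib.HTop.closed (CommRingCat.of D))
    have hc : b' (GrothLib.HTop.closed (CommRingCat.of D')) = GrothLib.HTop.closed (CommRingCat.of D) :=
      (PrimeSpectrum.isClosed_singleton_iff_isMaximal _ |>.mpr (IsLocalRing.maximalIdeal.isMaximal D)).closure_eq.le
        (specializes_iff_mem_closure.mp (hw ▸ (GrothLib.HTop.specializes_closed w).map b'.continuous))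
    refine ⟨l (GrothLib.HTop.closed (CommRingCat.of D')), l w',
      (GrothLib.HTop.specializes_closed w').map l.continuous, ?_, ?_⟩ <;>
      rw [← Scheme.Hom.comp_apply, pullback.lift_snd]
    exacts [hc, hw']
  tfae_finish

end Groth.Agent.S14771
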