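import Groth.Statements.S2562
import Groth.Agent.Lib.FlatValCrit1.Main
import Groth.Agent.Lib.CMMor6.BaseChange
import Groth.Agent.Lib.FibreFlat.OpenScheme
-- import your own Groth.Agent.* helpers here

set_option autoImplicit false
open CategoryTheory AlgebraicGeometry
universe u
open EGA43

namespace Groth.Agent.S2562

set_option backward.isDefEq.respectTransparency false
attribute [local instance] Algebra.TensorProduct.rightAlgebra

open CategoryTheory CategoryTheory.Limits AlgebraicGeometry TensorProduct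

/-- Flatness of the map of local rings of a map of affine schemes. -/
theorem flat_stalkMap_Spec_iff (A B : Type u) [CommRing A] [CommRing B] [Algebra A B] (q : PrimeSpectrum B) :
    ((Spec.map (CommRingCat.ofHom (algebraMap A B))).stalkMap q).hom.Flat ↔ FlatCA.FlatAt A q.asIdeal B := by
  let p := q.asIdeal.comap (algebraMap A B)
  haveI : q.asIdeal.LiesOver p := ⟨rfl⟩
  letI := Localization.AtPrime.algebraOfLiesOver p q.asIdeal
  rw [show FlatCA.FlatAt A q.asIdeal B ↔ Module.Flat A (LocalizedModule q.asIdeal.primeCompl B) from Iff.rfl]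
  rw [← GrothLib.FibreFlat.flat_localRingHom_iff q.asIdeal p, ← RingHom.flat_algebraMap_iff]
  exact RingHom.Flat.respectsIso.arrow_mk_iso_iff (Scheme.arrowStalkMapSpecIso (CommRingCat.ofHom (algebraMap A B)) q)

/-- Let f : X ⟶ Y be locally of finite presentation, x a point of X, y = f x, and suppose the local ring
O_{Y,y} is reduced and Noetherian. Then O_{Y,y} ⟶ O_{X,x} is flat if and only if, for every discrete
valuation ring A' and every local homomorphism O_{Y,y} ⟶ A', the base change X' = X ×_Y Spec A' ⟶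
Spec A' is flat at every point of X' lying over x and over the closed point of Spec A'. -/
theorem result {X Y : Scheme.{u}} (f : X ⟶ Y) [LocallyOfFinitePresentation f]
    (x : X) [IsNoetherianRing (Y.presheaf.stalk (f.base x))] [_root_.IsReduced (Y.presheaf.stalk (f.base x))] :
    (f.stalkMap x).hom.Flat ↔
      ∀ (A' : Type u) [CommRing A'] [IsDomain A'] [IsDiscreteValuationRing A']
        (φ : (Y.presheaf.stalk (f.base x) : Type u) →+* A') [IsLocalHom φ],
        ∀ x' : ↥(pullback f (Spec.map (CommRingCat.ofHom φ) ≫ Y.fromSpecStalk (f.base x))),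
          (pullback.fst f _).base x' = x →
          (pullback.snd f _).base x' = IsLocalRing.closedPoint A' →
          ((pullback.snd f (Spec.map (CommRingCat.ofHom φ) ≫ Y.fromSpecStalk (f.base x))).stalkMap x').hom.Flat := by
  let g := Y.fromSpecStalk (f.base x)
  refine ⟨fun hflat A' _ _ _ φ _ x' hx' _ => ?_, fun h => ?_⟩
  · exact GrothLib.CMMor6.flat_stalkMap_baseChange (IsPullback.of_hasPullback f _) x'
      ((congrArg (fun z => (f.stalkMap z).hom.Flat) hx').mpr hflat)
  obtain ⟨x₀, hx₀, hx₀'⟩ := Scheme.Pullback.exists_preimage_pullback (f := f) (g := g) x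
    (IsLocalRing.closedPoint (Y.presheaf.stalk (f.base x))) Scheme.fromSpecStalk_closedPoint.symm
  haveI : Flat g := GrothLib.FFDesc.flat_fromSpecStalk' Y _
  suffices hP : ((pullback.snd f g).stalkMap x₀).hom.Flat by
    have := GrothLib.CMMor6.flat_stalkMap_descend (IsPullback.of_hasPullback f g) x₀ (Flat.stalkMap g _) hP
    exact (congrArg (fun z => (f.stalkMap z).hom.Flat) hx₀).mp this
  obtain ⟨W, hW, hxW, -⟩ := exists_isAffineOpen_mem_and_subset (U := (⊤ : (pullback f g).Opens)) (x := x₀) trivial
  obtain ⟨y, hy⟩ : ∃ y, hW.fromSpec y = x₀ := hW.range_fromSpec.ge hxW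
  subst hy
  let A : Type u := Y.presheaf.stalk (f.base x)
  let B : Type u := Γ(pullback f g, W)
  let ψ : CommRingCat.of A ⟶ Γ(pullback f g, W) := Spec.preimage (hW.fromSpec ≫ pullback.snd f g)
  have hψ : Spec.map ψ = hW.fromSpec ≫ pullback.snd f g := Spec.map_preimage _
  letI : Algebra A B := ψ.hom.toAlgebra
  haveI : Algebra.FiniteType A B :=
    (HasRingHomProperty.Spec_iff (P := @LocallyOfFiniteType)).mp
      (show LocallyOfFiniteType (Spec.map ψ) by rw [hψ]; infer_instance)
  have hq : Spec.map (CommRingCat.ofHom (algebraMap A B)) = hW.fromSpec ≫ pullback.snd f g := hψ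
  have hn : (y : PrimeSpectrum B).asIdeal.comap (algebraMap A B) = IsLocalRing.maximalIdeal A := by
    have h1 : Spec.map (CommRingCat.ofHom (algebraMap A B)) y = IsLocalRing.closedPoint A := by
      rw [hq, Scheme.Hom.comp_apply]; exact hx₀'
    exact congrArg PrimeSpectrum.asIdeal h1
  have hB : FlatCA.FlatAt A (y : PrimeSpectrum B).asIdeal B := by
    refine GrothLib.FlatValCrit1.flatAt_of_forall_dvr (A := A) (y : PrimeSpectrum B).asIdeal hn B ?_
    intro V _ _ _ _ hloc r _ hrB hrV
    refine GrothLib.FlatAbove.flatAt_congr (TensorProduct.AlgebraTensorModule.rid B (V ⊗[A] B) (V ⊗[A] B)).symm r ?_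
    rw [← flat_stalkMap_Spec_iff V (V ⊗[A] B) ⟨r, ‹_›⟩]
    let φ : A →+* V := algebraMap A V
    let X' := pullback f (Spec.map (CommRingCat.ofHom φ) ≫ g)
    let u := Spec.map (CommRingCat.ofHom (Algebra.TensorProduct.includeRight (R := A) (A := V) (B := B)).toRingHom)
    let v := Spec.map (CommRingCat.ofHom (algebraMap V (V ⊗[A] B)))
    have sqC : IsPullback u v (Spec.map (CommRingCat.ofHom (algebraMap A B))) (Spec.map (CommRingCat.ofHom φ)) :=
      (isPullback_SpecMap_of_isPushout _ _ _ _ (CommRingCat.isPushout_tensorProduct A V B)).flip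
    rw [hq] at sqC
    let s : X' ⟶ pullback f g := pullback.lift (pullback.fst _ _) (pullback.snd _ _ ≫ Spec.map (CommRingCat.ofHom φ))
      (by rw [Category.assoc, pullback.condition])
    have hs : IsPullback s (pullback.snd f (Spec.map (CommRingCat.ofHom φ) ≫ g)) (pullback.snd f g)
        (Spec.map (CommRingCat.ofHom φ)) := by
      refine IsPullback.of_right ?_ (pullback.lift_snd _ _ _) (IsPullback.of_hasPullback f g)
      rw [pullback.lift_fst]
      exact IsPullback.of_hasPullback _ _
    let t : Spec (CommRingCat.of (V ⊗[A] B)) ⟶ X' := hs.lift (u ≫ hW.fromSpec) v (by rw [Category.assoc]; exact sqC.w)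
    have ht : IsPullback u t hW.fromSpec s := by
      refine IsPullback.of_bot ?_ (hs.lift_fst _ _ _).symm hs
      rw [hs.lift_snd]
      exact sqC
    haveI : IsOpenImmersion t := MorphismProperty.of_isPullback (P := @IsOpenImmersion) ht inferInstance
    have hfst : (pullback.fst f (Spec.map (CommRingCat.ofHom φ) ≫ g)).base (t ⟨r, ‹_›⟩) = x := by
      have e : t ≫ pullback.fst f (Spec.map (CommRingCat.ofHom φ) ≫ g) = u ≫ hW.fromSpec ≫ pullback.fst f g := by
        have e1 : s ≫ pullback.fst f g = pullback.fst f (Spec.map (CommRingCat.ofHom φ) ≫ g) := pullback.lift_fst _ _ _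
        rw [← e1, ← Category.assoc, hs.lift_fst, Category.assoc]
      show (t ≫ pullback.fst f (Spec.map (CommRingCat.ofHom φ) ≫ g)) ⟨r, ‹_›⟩ = x
      rw [e, Scheme.Hom.comp_apply, show u ⟨r, ‹_›⟩ = y from PrimeSpectrum.ext hrB, Scheme.Hom.comp_apply]
      exact hx₀
    have hsnd : (pullback.snd f (Spec.map (CommRingCat.ofHom φ) ≫ g)).base (t ⟨r, ‹_›⟩) = IsLocalRing.closedPoint V := by
      show (t ≫ pullback.snd f (Spec.map (CommRingCat.ofHom φ) ≫ g)) ⟨r, ‹_›⟩ = _
      rw [hs.lift_snd]
      exact PrimeSpectrum.ext hrV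
    have h1 := h V φ (t ⟨r, ‹_›⟩) hfst hsnd
    show (v.stalkMap ⟨r, ‹_›⟩).hom.Flat
    have h2 : ((t ≫ pullback.snd f (Spec.map (CommRingCat.ofHom φ) ≫ g)).stalkMap ⟨r, ‹_›⟩).hom.Flat := by
      rw [Scheme.Hom.stalkMap_comp, CommRingCat.hom_comp]
      exact h1.comp (Flat.stalkMap t _)
    rw [hs.lift_snd] at h2
    exact h2
  have h3 := (flat_stalkMap_Spec_iff A B y).2 hB
  rw [hq, Scheme.Hom.stalkMap_comp, CommRingCat.hom_comp] at h3
  have e : (pullback.snd f g).stalkMap (hW.fromSpec y) =
      ((pullback.snd f g).stalkMap (hW.fromSpec y) ≫ hW.fromSpec.stalkMap y) ≫ inv (hW.fromSpec.stalkMap y) := by simp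
  rw [e, CommRingCat.hom_comp]
  exact h3.comp (RingHom.Flat.of_bijective (ConcreteCategory.bijective_of_isIso (inv (hW.fromSpec.stalkMap y))))

end Groth.Agent.S2562
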