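import Groth.Statements.S13735
import Groth.Agent.S2562
import Groth.Agent.S13734
-- import your own Groth.Agent.* helpers here

set_option autoImplicit false
universe u
open HTop

namespace Groth.Agent.S13735

set_option backward.isDefEq.respectTransparency false

open CategoryTheory CategoryTheory.Limits AlgebraicGeometry

/-- A map of spectra of discrete valuation rings which is surjective is flat. -/
theorem flat_of_surjective_dvr {R R' : Type u} [CommRing R] [IsDomain R] [IsDiscreteValuationRing R] [CommRing R']
    [IsDomain R'] (φ : Spec (CommRingCat.of R') ⟶ Spec (CommRingCat.of R)) [Surjective φ] : Flat φ := by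
  have hφ : Spec.map (Spec.preimage φ) = φ := Spec.map_preimage _
  let ψ : R →+* R' := (Spec.preimage φ).hom
  have hinj : Function.Injective ψ := by
    rw [RingHom.injective_iff_ker_eq_bot, eq_bot_iff]
    intro a ha
    obtain ⟨q, hq⟩ := φ.surjective (⟨⊥, Ideal.isPrime_bot⟩ : PrimeSpectrum R)
    rw [← hφ] at hq
    have h1 : a ∈ (PrimeSpectrum.comap ψ q).asIdeal := by
      show ψ a ∈ q.asIdeal
      rw [RingHom.mem_ker.1 ha]
      exact zero_mem _
    rwa [show PrimeSpectrum.comap ψ q = ⟨⊥, Ideal.isPrime_bot⟩ from hq] at h1
  rw [← hφ, Flat.SpecMap_iff]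
  letI : Algebra R R' := ψ.toAlgebra
  haveI : FaithfulSMul R R' := (faithfulSMul_iff_algebraMap_injective R R').2 hinj
  show (algebraMap R R').Flat
  rw [RingHom.flat_algebraMap_iff]
  infer_instance

/-- Let S be a separated reduced Noetherian scheme, f : X → S a separated morphism locally of finite
type and g : S' → S a separated morphism of finite type which is universally submersive (an
h-covering). If the base change of f along g is flat, then f is flat. -/
theorem result {X S S' : Scheme.{u}} [IsNoetherian S] [IsReduced S] [S.IsSeparated] (f : X ⟶ S) [LocallyOfFiniteType f] [IsSeparated f] (g : S' ⟶ S) [LocallyOfFiniteType g] [QuasiCompact g] [IsSeparated g] (hg : SGA1.UnivSubmersive g) (hflat : Flat (pullback.snd f g)) : Flat f := by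
  refine Flat.of_stalkMap _ fun x => ?_
  refine (Groth.Agent.S2562.result f x).2 fun V _ _ _ φ _ x' _ _ => ?_
  let p := Spec.map (CommRingCat.ofHom φ) ≫ S.fromSpecStalk (f.base x)
  obtain ⟨W, _, _, _, ψ, l, hψ, hl⟩ := (Groth.Agent.S13734.result g).1 hg V p
  haveI := flat_of_surjective_dvr ψ
  let sq := IsPullback.of_hasPullback (pullback.snd f p) ψ
  have big : IsPullback (pullback.fst (pullback.snd f p) ψ ≫ pullback.fst f p) (pullback.snd (pullback.snd f p) ψ) f (l ≫ g) := by
    rw [hl]
    exact sq.paste_horiz (IsPullback.of_hasPullback f p)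
  haveI : Flat (pullback.snd (pullback.snd f p) ψ) := by
    let hs := IsPullback.of_hasPullback f g
    have : IsPullback (hs.lift (pullback.fst (pullback.snd f p) ψ ≫ pullback.fst f p)
        (pullback.snd (pullback.snd f p) ψ ≫ l) (by rw [big.w, Category.assoc]))
        (pullback.snd (pullback.snd f p) ψ) (pullback.snd f g) l := by
      refine IsPullback.of_right ?_ (hs.lift_snd _ _ _) hs
      rw [hs.lift_fst]
      exact big
    exact MorphismProperty.of_isPullback (P := @Flat) this hflat
  obtain ⟨w, hw⟩ := ψ.surjective (pullback.snd f p x')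
  obtain ⟨z, hz₁, hz₂⟩ := Scheme.Pullback.exists_preimage_pullback (f := pullback.snd f p) (g := ψ) x' w hw.symm
  have := GrothLib.CMMor6.flat_stalkMap_descend sq z (Flat.stalkMap ψ _) (Flat.stalkMap _ z)
  exact (congrArg (fun y => ((pullback.snd f p).stalkMap y).hom.Flat) hz₁).mp this

end Groth.Agent.S13735
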