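import Groth.Statements.S1454
import Groth.Agent.Lib.Unibranch.Open
-- import your own Groth.Agent.* helpers here

set_option autoImplicit false
universe u
open FlatMor

namespace Groth.Agent.S1454

open AlgebraicGeometry CategoryTheory Limits in
/-- Consider a locally quasi-finite f : X → Y whose target is locally Noetherian with geometrically
unibranch local rings, and assume every irreducible component of X dominates an irreducible
component of Y (its generic point maps to a generic point of an irreducible component of Y). Then f
is universally open. -/
theorem result {X Y : Scheme.{u}} (f : X ⟶ Y) [LocallyQuasiFinite f] [LocallyOfFiniteType f] [IsLocallyNoetherian Y]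
    (hY : ∀ y : Y, CAlg2.IsGeomUnibranch (Y.presheaf.stalk y))
    (hdom : ∀ Z ∈ irreducibleComponents ↑X, ∀ x : X, IsGenericPoint x Z → ∃ W ∈ irreducibleComponents ↑Y, IsGenericPoint (f x) W) :
    UniversallyOpen f := by
  exact GrothLib.Unibranch.universallyOpen_of_locallyQuasiFinite f hY hdom

end Groth.Agent.S1454
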