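import Groth.Statements.S13736
import Groth.Agent.S13731
import Groth.Agent.S1454

set_option autoImplicit false
universe u
open HTop

namespace Groth.Agent.S13736

open TopologicalSpace CategoryTheory CategoryTheory.Limits AlgebraicGeometry

theorem universallyOpen_sigmaDesc {ι : Type*} [Small.{u} ι] {Y : ι → Scheme.{u}} {X : Scheme.{u}} (f : ∀ i, Y i ⟶ X)
    (h : ∀ i, UniversallyOpen (f i)) : UniversallyOpen (Sigma.desc f) :=
  IsZariskiLocalAtSource.sigmaDesc h


open CategoryTheory CategoryTheory.Limits AlgebraicGeometry in
/-- Let X be a separated irreducible Noetherian scheme whose local rings are all geometrically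
unibranch, and {p_i : U_i → X} a finite family of separated quasi-finite morphisms of finite type
with every U_i irreducible. Then the induced morphism from the disjoint union of the U_i to X is
universally submersive (a qfh-covering) if and only if the dominant members p_i are jointly
surjective onto X; in that case the induced morphism from the disjoint union of the dominant members
alone is already universally submersive. (The published statement does not require the U_i
irreducible; for the affine line X over a field and the single member U = (X minus a closed point) ⊔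
(that point) → X, which is dominant and surjective, the quotient property fails, and the published
proof uses that every irreducible component of a dominant member dominates X, so the members are
taken irreducible here.) -/
theorem result {X : Scheme.{u}} [IsNoetherian X] [X.IsSeparated] [IrreducibleSpace ↥X] (hX : ∀ x : X, CAlg2.IsGeomUnibranch (X.presheaf.stalk x)) (E : PreZeroHypercover.{u} X) [Finite E.I₀] [∀ i, LocallyOfFiniteType (E.f i)] [∀ i, QuasiCompact (E.f i)] [∀ i, LocallyQuasiFinite (E.f i)] [∀ i, IsSeparated (E.f i)] [∀ i, IrreducibleSpace ↥(E.X i)] : (SGA1.UnivSubmersive (Sigma.desc E.f) ↔ ∀ x : X, ∃ (i : E.I₀) (u : E.X i), IsDominant (E.f i) ∧ E.f i u = x) ∧ ((∀ x : X, ∃ (i : E.I₀) (u : E.X i), IsDominant (E.f i) ∧ E.f i u = x) → SGA1.UnivSubmersive (Sigma.desc fun j : {i : E.I₀ // IsDominant (E.f i)} => E.f j.1)) := by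
  haveI : IsLocallyNoetherian X := inferInstance
  have hop : ∀ i, IsDominant (E.f i) → UniversallyOpen (E.f i) := by
    intro i hi
    refine Groth.Agent.S1454.result (E.f i) hX fun Z hZ x hx => ⟨Set.univ, ?_, ?_⟩
    · exact irreducibleComponents_eq_singleton.symm.le rfl
    · have hZu : Z = Set.univ := by
        have : Z ∈ ({Set.univ} : Set (Set (E.X i))) := irreducibleComponents_eq_singleton.le hZ
        exact this
      subst hZu
      have := hx.image (E.f i).continuous
      rwa [Set.image_univ, (E.f i).denseRange.closure_range] at this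
  have hback : (∀ x : X, ∃ (i : E.I₀) (u : E.X i), IsDominant (E.f i) ∧ E.f i u = x) →
      SGA1.UnivSubmersive (Sigma.desc fun j : {i : E.I₀ // IsDominant (E.f i)} => E.f j.1) := by
    intro h
    let d := Sigma.desc fun j : {i : E.I₀ // IsDominant (E.f i)} => E.f j.1
    haveI : UniversallyOpen d := universallyOpen_sigmaDesc _ fun j => hop j.1 j.2
    haveI : Surjective d := ⟨fun x => by
      obtain ⟨i, u, hi, hu⟩ := h x
      refine ⟨(Sigma.ι (fun j : {i : E.I₀ // IsDominant (E.f i)} => E.X j.1) ⟨i, hi⟩).base u, ?_⟩
      show (Sigma.ι (fun j : {i : E.I₀ // IsDominant (E.f i)} => E.X j.1) ⟨i, hi⟩ ≫ d).base u = x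
      rw [Sigma.ι_desc]; exact hu⟩
    intro X' Y' i₁ i₂ f' hp
    haveI : UniversallyOpen f' := MorphismProperty.of_isPullback hp.flip ‹UniversallyOpen d›
    haveI : Surjective f' := MorphismProperty.of_isPullback hp.flip ‹Surjective d›
    exact f'.isOpenMap.isQuotientMap f'.continuous f'.surjective
  refine ⟨⟨fun hE x => ?_, fun h => ?_⟩, hback⟩
  · obtain ⟨i, ξ, u, hξ, hu, hgen⟩ := Groth.Agent.S13731.result E hE x
    refine ⟨i, u, ⟨?_⟩, hu⟩
    have hu' : closure {E.f i ξ} = (Set.univ : Set X) := by
      have := irreducibleComponents_eq_singleton.le hgen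
      exact this
    exact Set.eq_univ_of_univ_subset (hu'.ge.trans (closure_mono (Set.singleton_subset_iff.2 ⟨ξ, rfl⟩))) |>
      fun e => dense_iff_closure_eq.2 e
  · let m : (∐ fun j : {i : E.I₀ // IsDominant (E.f i)} => E.X j.1) ⟶ ∐ E.X :=
      Sigma.desc fun j => Sigma.ι E.X j.1
    have hm : m ≫ Sigma.desc E.f = Sigma.desc fun j : {i : E.I₀ // IsDominant (E.f i)} => E.f j.1 :=
      Sigma.hom_ext _ _ fun j => by simp [m]
    intro X' Y' i₁ i₂ f' hp
    let d := Sigma.desc fun j : {i : E.I₀ // IsDominant (E.f i)} => E.f j.1
    have hd := hback h (pullback.fst d i₂) i₂ (pullback.snd d i₂) (IsPullback.of_hasPullback d i₂).flip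
    let l : pullback d i₂ ⟶ X' := hp.lift (pullback.snd d i₂) (pullback.fst d i₂ ≫ m) (by
      rw [Category.assoc, hm]; exact pullback.condition.symm)
    have hl : l ≫ f' = pullback.snd d i₂ := hp.lift_fst _ _ _
    refine Topology.IsQuotientMap.of_comp l.continuous f'.continuous ?_
    have : (f'.base : X' → Y') ∘ l.base = (pullback.snd d i₂).base := by rw [← hl]; rfl
    rw [this]
    exact hd

end Groth.Agent.S13736
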