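import Groth.Statements.S13737
import Groth.Agent.S13734
import Groth.Agent.Lib.BlowUp.Universal
import Groth.Agent.Lib.SubtrLim.Submersive
import Groth.Agent.Lib.Unibranch.Points
-- import your own Groth.Agent.* helpers here

set_option autoImplicit false
universe u
open HTop

namespace Groth.Agent.S13737

open CategoryTheory CategoryTheory.Limits AlgebraicGeometry in
/-- Let X be a separated integral Noetherian scheme, b : X' → X a blow-up of X in a quasi-coherent sheaf
of ideals (characterised by the universal property of blowing up), with X' separated and b of finite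
type, and let U be an open subscheme of X' whose composite U → X' → X is universally submersive (an
h-covering). Then U = X'. (The published statement takes X only integral; its proof applies the
surjectivity of dominating components for Noetherian schemes, so this row takes X Noetherian.) -/
theorem result {X X' : Scheme.{u}} [IsNoetherian X] [X.IsSeparated] [IsIntegral X] [X'.IsSeparated] (𝓘 : X.IdealSheafData) (b : X' ⟶ X) [LocallyOfFiniteType b] [QuasiCompact b] (hb : BlowUp.IsBlowUp b 𝓘) (U : X'.Opens) (hU : SGA1.UnivSubmersive (U.ι ≫ b)) : U = ⊤ := by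
  have : IsLocallyNoetherian X' := LocallyOfFiniteType.isLocallyNoetherian b
  by_contra hne
  obtain ⟨x, hx⟩ : ∃ x : X', x ∉ U := by
    by_contra h
    push Not at h
    exact hne (top_unique fun x _ => h x)
  obtain ⟨ξ, hξx, hξ⟩ := GrothLib.Unibranch.exists_maximal_generization x
  have hξI := GrothLib.BlowUp.notMem_support_of_maximal hb.1 hξ
  obtain ⟨D, _, _, _, g, hg, hg'⟩ := GrothLib.SubtrLim.exists_dvr_map hξx
  obtain ⟨R', _, _, _, φ, l, hφ, hl⟩ := (Groth.Agent.S13734.result (U.ι ≫ b)).1 hU D (g ≫ b)
  let gD := GrothLib.HTop.gen (CommRingCat.of D)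
  let gR := GrothLib.HTop.gen (CommRingCat.of R')
  have hgen : φ gR = gD := by
    obtain ⟨z, hz⟩ := φ.surjective gD
    have h1 : φ gR ⤳ φ z := (GrothLib.HTop.gen_specializes z).map φ.continuous
    rw [hz] at h1
    exact (h1.antisymm (GrothLib.HTop.gen_specializes (φ gR))).eq
  have hclosed : φ (GrothLib.HTop.closed (CommRingCat.of R')) = GrothLib.HTop.closed (CommRingCat.of D) := by
    obtain ⟨z, hz⟩ := φ.surjective (GrothLib.HTop.closed (CommRingCat.of D))
    have h1 : φ z ⤳ φ (GrothLib.HTop.closed (CommRingCat.of R')) :=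
      (IsLocalRing.specializes_closedPoint z).map φ.continuous
    rw [hz] at h1
    exact (h1.antisymm (IsLocalRing.specializes_closedPoint _)).eq.symm
  have key : l ≫ U.ι = φ ≫ g := by
    let j := (Spec (CommRingCat.of R')).fromSpecResidueField gR
    have : IsDominant j := ⟨fun z => by
      refine (GrothLib.HTop.gen_specializes z).mem_closed isClosed_closure (subset_closure ?_)
      exact ⟨default, Scheme.fromSpecResidueField_apply _ _⟩⟩
    have hb' : (l ≫ U.ι) ≫ b = (φ ≫ g) ≫ b := by
      rw [Category.assoc, Category.assoc, hl]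
    refine ext_of_isDominant j ?_
    let V : X.Opens := 𝓘.support.compl
    have hW : IsIso (b ∣_ V) := GrothLib.BlowUp.isIso_off_center hb
    have hr : ∀ (k : Spec (CommRingCat.of R') ⟶ X'), k ≫ b = (φ ≫ g) ≫ b →
        Set.range (j ≫ k) ⊆ Set.range (b ⁻¹ᵁ V).ι := by
      rintro k hk _ ⟨z, rfl⟩
      rw [Scheme.Opens.range_ι]
      change b ((j ≫ k) z) ∉ (𝓘.support : Set X)
      have hj : j z = gR := Scheme.fromSpecResidueField_apply _ _
      rw [Scheme.Hom.comp_apply, hj, ← Scheme.Hom.comp_apply, hk, Scheme.Hom.comp_apply, Scheme.Hom.comp_apply,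
        hgen, hg]
      intro h0
      refine hξI ?_
      change ξ ∈ ((𝓘.comap b).support : Set X')
      rw [Scheme.IdealSheafData.support_comap]
      exact h0
    rw [← IsOpenImmersion.lift_fac _ _ (hr _ hb'), ← IsOpenImmersion.lift_fac _ _ (hr (φ ≫ g) rfl)]
    congr 1
    rw [← cancel_mono (b ∣_ V), ← cancel_mono V.ι]
    simp only [Category.assoc, morphismRestrict_ι, IsOpenImmersion.lift_fac_assoc]
    simp only [Category.assoc] at hb'
    rw [hb']
  apply hx
  have := congrArg (fun k : Spec (CommRingCat.of R') ⟶ X' => k (GrothLib.HTop.closed (CommRingCat.of R'))) key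
  simp only [Scheme.Hom.comp_apply, hclosed, hg'] at this
  rw [← this]
  exact (l _).2

end Groth.Agent.S13737
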