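import Groth.Statements.S13738
import Groth.Agent.Lib.FEt21.Basic

set_option autoImplicit false
universe u
open SGA1

namespace Groth.Agent.S13738

open CategoryTheory CategoryTheory.Limits AlgebraicGeometry in
/-- Let S be a separated irreducible Noetherian scheme, q : X → S finite and surjective with X
separated, and G a finite group acting on X by S-automorphisms, transitively on the geometric points
of X over every geometric point of S. Then every irreducible component of X maps onto S and G acts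
transitively on the set of irreducible components of X. -/
theorem result {X S : Scheme.{u}} [IsNoetherian S] [S.IsSeparated] [X.IsSeparated] [IrreducibleSpace ↥S] (q : X ⟶ S) [IsFinite q] [Surjective q] {G : Type u} [Group G] [Finite G] (ρ : G →* Aut X) (hρ : ∀ g : G, (ρ g).hom ≫ q = q) (htrans : ∀ (Ω : Type u) [Field Ω] [IsAlgClosed Ω] (τ₁ τ₂ : Spec (CommRingCat.of Ω) ⟶ X), τ₁ ≫ q = τ₂ ≫ q → ∃ g : G, τ₁ ≫ (ρ g).hom = τ₂) : (∀ T ∈ irreducibleComponents ↥X, Set.image (fun x => q x) T = Set.univ) ∧ ∀ T₁ ∈ irreducibleComponents ↥X, ∀ T₂ ∈ irreducibleComponents ↥X, ∃ g : G, Set.image (fun x => (ρ g).hom x) T₁ = T₂ := by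
  classical
  have := Fintype.ofFinite G
  have horb : ∀ x x' : X, q x = q x' → ∃ g : G, (ρ g).hom x = x' := fun x x' h => by
    obtain ⟨z, hz, hz'⟩ := Scheme.Pullback.exists_preimage_pullback (f := q) (g := q) x x' h
    let Ω := AlgebraicClosure ((pullback q q).residueField z)
    let t : Spec (CommRingCat.of Ω) ⟶ pullback q q := GrothLib.FEt21.geomPt (pullback q q) z
    have ht0 : t default = z := GrothLib.FEt21.geomPt_default (pullback q q) z
    obtain ⟨g, hg⟩ := htrans Ω (t ≫ pullback.fst q q) (t ≫ pullback.snd q q)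
      (by simp only [Category.assoc, pullback.condition])
    refine ⟨g, ?_⟩
    have := congrArg (fun f : Spec (CommRingCat.of Ω) ⟶ X => f default) hg
    simpa only [Scheme.Hom.comp_apply, ht0, hz, hz'] using this
  let e : G → ↥X ≃ₜ ↥X := fun g => Scheme.homeoOfIso (ρ g : X ≅ X)
  have he : ∀ g x, e g x = (ρ g).hom x := fun g x => rfl
  haveI : IsNoetherian X := { __ := LocallyOfFiniteType.isLocallyNoetherian q, __ := QuasiCompact.compactSpace_of_compactSpace q }
  have hfin : (irreducibleComponents X).Finite := TopologicalSpace.NoetherianSpace.finite_irreducibleComponents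
  obtain ⟨x₀, hx₀⟩ := q.surjective (genericPoint S)
  let T₀ := irreducibleComponent x₀
  have hT₀ : T₀ ∈ irreducibleComponents X := irreducibleComponent_mem_irreducibleComponents x₀
  have himg : Set.image (fun x => q x) T₀ = Set.univ := by
    refine Set.eq_univ_of_univ_subset ?_
    rw [← genericPoint_spec S]
    exact (q.isClosedMap _ isClosed_irreducibleComponent).closure_subset_iff.2
      (Set.singleton_subset_iff.2 ⟨x₀, mem_irreducibleComponent, hx₀⟩)
  have hcov : ∀ T ∈ irreducibleComponents X, ∃ g : G, T = (fun x => (ρ g).hom x) '' T₀ := by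
    intro T hT
    have hmem : ∀ g : G, e g '' T₀ ∈ irreducibleComponents X := fun g =>
      ⟨hT₀.1.image _ (e g).continuous.continuousOn, fun T' hT' hle => by
        have h1 : T₀ ⊆ e g ⁻¹' T' := Set.image_subset_iff.1 hle
        have h2 : IsIrreducible (e g ⁻¹' T') := by
          rw [← (e g).image_symm]; exact hT'.image _ (e g).symm.continuous.continuousOn
        exact fun z hz => ⟨(e g).symm z, hT₀.2 h2 h1 (by simpa using hz), by simp⟩⟩
    have hsub : T ⊆ ⋃₀ ↑(Finset.univ.image fun g : G => e g '' T₀) := fun x _ => by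
      obtain ⟨y, hy, hyx⟩ : q x ∈ Set.image (fun x => q x) T₀ := by rw [himg]; trivial
      obtain ⟨g, hg⟩ := horb y x hyx
      exact Set.mem_sUnion.2 ⟨e g '' T₀, Finset.mem_coe.2 (Finset.mem_image.2 ⟨g, Finset.mem_univ g, rfl⟩),
        ⟨y, hy, hg⟩⟩
    obtain ⟨z, hz, hTz⟩ := isIrreducible_iff_sUnion_isClosed.1 hT.1 _ (fun z hz => by
      obtain ⟨g, -, rfl⟩ := Finset.mem_image.1 hz
      exact isClosed_of_mem_irreducibleComponents _ (hmem g)) hsub
    obtain ⟨g, -, rfl⟩ := Finset.mem_image.1 hz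
    exact ⟨g, hTz.antisymm (hT.2 (hmem g).1 hTz)⟩
  refine ⟨fun T hT => ?_, fun T₁ hT₁ T₂ hT₂ => ?_⟩
  · obtain ⟨g, rfl⟩ := hcov T hT
    rw [Set.image_image]
    refine Eq.trans ?_ himg
    exact Set.image_congr fun x _ => by rw [← Scheme.Hom.comp_apply, hρ]
  · obtain ⟨g₁, rfl⟩ := hcov T₁ hT₁
    obtain ⟨g₂, rfl⟩ := hcov T₂ hT₂
    refine ⟨g₂ * g₁⁻¹, ?_⟩
    rw [Set.image_image]
    refine Set.image_congr fun x _ => ?_
    rw [← Scheme.Hom.comp_apply]
    have e2 : (ρ g₁).hom ≫ (ρ (g₂ * g₁⁻¹)).hom = (ρ g₂).hom := by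
      have e3 : (ρ ((g₂ * g₁⁻¹) * g₁)).hom = (ρ g₁).hom ≫ (ρ (g₂ * g₁⁻¹)).hom := by rw [map_mul ρ (g₂ * g₁⁻¹) g₁]; rfl
      rw [← e3, inv_mul_cancel_right]
    rw [e2]

end Groth.Agent.S13738
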