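import Groth.Statements.S13739
import Groth.Agent.Lib.SGA1Quot21.SigmaFinite
import Groth.Agent.Lib.FEt21.Basic

set_option autoImplicit false
universe u
open SGA1

namespace Groth.Agent.S13739

open CategoryTheory CategoryTheory.Limits AlgebraicGeometry in
/-- Let S be a separated Noetherian scheme, q : X → S finite surjective with X separated, G a finite
group acting on X by S-automorphisms and transitively on the geometric points of X over every
geometric point of S, and r : Y → X a morphism with Y separated. If υ is the morphism from the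
disjoint union of G copies of Y to Y ×_S X (Y over S through r ≫ q) whose σ-th component is (id_Y, r
≫ σ), then υ is finite and surjective. -/
theorem result {X S Y : Scheme.{u}} [IsNoetherian S] [S.IsSeparated] [X.IsSeparated] [Y.IsSeparated] (q : X ⟶ S) [IsFinite q] [Surjective q] {G : Type u} [Group G] [Finite G] (ρ : G →* Aut X) (hρ : ∀ g : G, (ρ g).hom ≫ q = q) (htrans : ∀ (Ω : Type u) [Field Ω] [IsAlgClosed Ω] (τ₁ τ₂ : Spec (CommRingCat.of Ω) ⟶ X), τ₁ ≫ q = τ₂ ≫ q → ∃ g : G, τ₁ ≫ (ρ g).hom = τ₂) (r : Y ⟶ X) (υ : (∐ fun _ : G => Y) ⟶ pullback (r ≫ q) q) (hυ₁ : ∀ σ : G, Sigma.ι (fun _ : G => Y) σ ≫ υ ≫ pullback.fst (r ≫ q) q = 𝟙 Y) (hυ₂ : ∀ σ : G, Sigma.ι (fun _ : G => Y) σ ≫ υ ≫ pullback.snd (r ≫ q) q = r ≫ (ρ σ).hom) : IsFinite υ ∧ Surjective υ := by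
  have hfst : υ ≫ pullback.fst (r ≫ q) q = Sigma.desc fun _ : G => 𝟙 Y :=
    Sigma.hom_ext _ _ fun σ => by rw [hυ₁, Sigma.ι_desc]
  haveI : IsFinite (υ ≫ pullback.fst (r ≫ q) q) := by
    rw [hfst]; exact GrothLib.SGA1Quot21.isFinite_sigmaDesc _
  refine ⟨IsFinite.of_comp υ (pullback.fst (r ≫ q) q), ⟨fun z => ?_⟩⟩
  let P : Scheme.{u} := pullback (r ≫ q) q
  let τ := GrothLib.FEt21.geomPt P z
  obtain ⟨g, hg⟩ := htrans _ (τ ≫ pullback.fst (r ≫ q) q ≫ r) (τ ≫ pullback.snd (r ≫ q) q)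
    (by simp only [Category.assoc, pullback.condition])
  have e : (τ ≫ pullback.fst (r ≫ q) q) ≫ Sigma.ι (fun _ : G => Y) g ≫ υ = τ := by
    refine pullback.hom_ext ?_ ?_
    · simp only [Category.assoc, hυ₁, Category.comp_id]
    · simp only [Category.assoc, hυ₂]
      simpa only [Category.assoc] using hg
  refine ⟨((τ ≫ pullback.fst (r ≫ q) q) ≫ Sigma.ι (fun _ : G => Y) g) default, ?_⟩
  rw [← Scheme.Hom.comp_apply, Category.assoc, e]
  exact GrothLib.FEt21.geomPt_default P z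

end Groth.Agent.S13739
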