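import Groth.Statements.S1374
import Groth.Agent.Lib.SpecDense.Main
-- import your own Groth.Agent.* helpers here

set_option autoImplicit false
universe u
open FlatMor

namespace Groth.Agent.S1374

open AlgebraicGeometry CategoryTheory Limits in
/-- Let f : X ⟶ S be locally of finite type and x ⤳ x' a specialization of points of X, with x' a closed
point of its fibre f⁻¹(f(x')) and f(x) ≠ f(x'). Then the points x₁ with f(x₁) = f(x) which are
closed in the fibre f⁻¹(f(x)) and satisfy x ⤳ x₁ ⤳ x' are dense in the closure of {x} intersected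
with the fibre f⁻¹(f(x)) (fibres taken as subspaces of X). (The published statement omits the
condition f(x) ≠ f(x'), but the claim fails without it; it is stated here with that condition.) -/
theorem result {X S : Scheme.{u}} (f : X ⟶ S) [LocallyOfFiniteType f] (x x' : X) (hsp : x ⤳ x') (hne : f x ≠ f x')
    (hcl : IsClosed (Subtype.val ⁻¹' {x'} : Set ↑(f ⁻¹' {f x'}))) :
    Dense (Subtype.val ⁻¹' {x₁ : ↑X | f x₁ = f x ∧ IsClosed (Subtype.val ⁻¹' {x₁} : Set ↑(f ⁻¹' {f x})) ∧ x ⤳ x₁ ∧ x₁ ⤳ x'} :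
      Set ↑(closure {x} ∩ f ⁻¹' {f x})) := by
    classical
    rw [dense_iff_inter_open]
    rintro O hO ⟨⟨z, hzc, hzf⟩, hzO⟩
    obtain ⟨W, hW, rfl⟩ := isOpen_induced_iff.1 hO
    have hxW : x ∈ W := (specializes_iff_mem_closure.2 hzc).mem_open hW hzO
    obtain ⟨V, hV, hfV, -⟩ := exists_isAffineOpen_mem_and_subset (x := f x') (U := ⊤) trivial
    obtain ⟨U, hU, hxU', hUV⟩ := exists_isAffineOpen_mem_and_subset (x := x') (U := f ⁻¹ᵁ V) hfV
    have hxU : x ∈ U := hsp.mem_open U.2 hxU'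
    obtain ⟨g, hgW, hgx⟩ := hU.exists_basicOpen_le (V := ⟨W, hW⟩ ⊓ U) ⟨x, hxW, hxU⟩ hxU
    -- the affine situation
    let φ : Γ(S, V) →+* Γ(X, U) := (f.appLE V U hUV).hom
    have hφft : φ.FiniteType := LocallyOfFiniteType.finiteType_appLE f hV hU hUV
    have hcomap : ∀ (y : X) (hy : y ∈ U), (hU.primeIdealOf ⟨y, hy⟩).asIdeal.comap φ =
        (hV.primeIdealOf ⟨f y, hUV hy⟩).asIdeal := fun y hy =>
      congrArg PrimeSpectrum.asIdeal (IsAffineOpen.comap_primeIdealOf_appLE V hV U hU hUV hy)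
    have hspec : ∀ (P P' : Spec Γ(X, U)), P.asIdeal ≤ P'.asIdeal ↔ hU.fromSpec P ⤳ hU.fromSpec P' := by
      intro P P'
      rw [hU.fromSpec.isOpenEmbedding.toIsInducing.specializes_iff]
      exact PrimeSpectrum.le_iff_specializes P P'
    let px := hU.primeIdealOf ⟨x, hxU⟩
    let p' := hU.primeIdealOf ⟨x', hxU'⟩
    have hxe : hU.fromSpec px = x := hU.fromSpec_primeIdealOf _
    have hx'e : hU.fromSpec p' = x' := hU.fromSpec_primeIdealOf _
    have hle : px.asIdeal ≤ p'.asIdeal := (hspec _ _).2 (by rw [hxe, hx'e]; exact hsp)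
    have hgpx : g ∉ px.asIdeal := by
      intro h
      have : px ∈ hU.fromSpec ⁻¹ᵁ X.basicOpen g := by
        show hU.fromSpec px ∈ X.basicOpen g
        rw [hxe]; exact hgx
      rw [hU.fromSpec_preimage_basicOpen] at this
      exact this h
    let pA : Ideal Γ(S, V) := px.asIdeal.comap φ
    letI : Algebra (Γ(S, V) ⧸ pA) (Γ(X, U) ⧸ px.asIdeal) :=
      (Ideal.quotientMap px.asIdeal φ le_rfl).toAlgebra
    have : FaithfulSMul (Γ(S, V) ⧸ pA) (Γ(X, U) ⧸ px.asIdeal) :=
      (faithfulSMul_iff_algebraMap_injective _ _).2 Ideal.quotientMap_injective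
    have : Algebra.FiniteType (Γ(S, V) ⧸ pA) (Γ(X, U) ⧸ px.asIdeal) := by
      rw [← RingHom.finiteType_algebraMap]
      refine RingHom.FiniteType.of_comp_finiteType (f := Ideal.Quotient.mk pA) ?_
      show RingHom.FiniteType ((Ideal.quotientMap px.asIdeal φ le_rfl).comp (Ideal.Quotient.mk pA))
      rw [Ideal.quotientMap_comp_mk]
      exact (RingHom.FiniteType.of_surjective _ Ideal.Quotient.mk_surjective).comp hφft
    have hmk : ∀ I : Ideal (Γ(X, U) ⧸ px.asIdeal),
        (I.comap (algebraMap (Γ(S, V) ⧸ pA) _)).comap (Ideal.Quotient.mk pA) =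
          (I.comap (Ideal.Quotient.mk px.asIdeal)).comap φ := fun I => rfl
    have hinj : Function.Injective (Ideal.comap (Ideal.Quotient.mk pA)) :=
      Ideal.comap_injective_of_surjective _ Ideal.Quotient.mk_surjective
    let q : Ideal (Γ(X, U) ⧸ px.asIdeal) := p'.asIdeal.map (Ideal.Quotient.mk _)
    have hqc : q.comap (Ideal.Quotient.mk px.asIdeal) = p'.asIdeal := by
      rw [Ideal.comap_map_of_surjective _ Ideal.Quotient.mk_surjective, ← RingHom.ker_eq_comap_bot,
        Ideal.mk_ker]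
      exact sup_eq_left.2 hle
    have : q.IsPrime := Ideal.map_isPrime_of_surjective Ideal.Quotient.mk_surjective
      (by rw [Ideal.mk_ker]; exact hle)
    have hbot : (⊥ : Ideal (Γ(S, V) ⧸ pA)).comap (Ideal.Quotient.mk pA) = pA :=
      Ideal.mk_ker
    have hfpt : ∀ (P : Spec Γ(X, U)) (y : X) (hy : y ∈ U),
        P.asIdeal.comap φ = (hU.primeIdealOf ⟨y, hy⟩).asIdeal.comap φ →
          f (hU.fromSpec P) = f y := by
      intro P y hy h
      have hP : hU.fromSpec P ∈ U := hU.range_fromSpec.le ⟨P, rfl⟩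
      have hPe : hU.primeIdealOf ⟨_, hP⟩ = P :=
        hU.fromSpec.isOpenEmbedding.injective (hU.fromSpec_primeIdealOf _)
      have h1 : hV.primeIdealOf ⟨f (hU.fromSpec P), hUV hP⟩ = hV.primeIdealOf ⟨f y, hUV hy⟩ := by
        apply PrimeSpectrum.ext
        rw [← hcomap _ hP, ← hcomap _ hy, hPe, h]
      have := congrArg hV.fromSpec h1
      rwa [hV.fromSpec_primeIdealOf, hV.fromSpec_primeIdealOf] at this
    have hq0 : q.comap (algebraMap (Γ(S, V) ⧸ pA) _) ≠ ⊥ := by
      intro h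
      have h1 := congrArg (Ideal.comap (Ideal.Quotient.mk pA)) h
      rw [hmk, hqc, hbot] at h1
      have := hfpt p' x hxU h1
      rw [hx'e] at this
      exact hne this.symm
    obtain ⟨q₁, hq₁, hq₁q, hgq₁, hq₁b, hq₁max⟩ := GrothLib.SpecDense.exists_closed_generic_prime q hq0
      (fun q' hq' hqq' hq'c => by
        apply Ideal.comap_injective_of_surjective _ Ideal.Quotient.mk_surjective
        rw [hqc]
        let P : Spec Γ(X, U) := ⟨q'.comap (Ideal.Quotient.mk _), inferInstance⟩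
        have h1 : p'.asIdeal ≤ P.asIdeal := hqc.symm.le.trans (Ideal.comap_mono hqq')
        have h2 : f (hU.fromSpec P) = f x' := hfpt P x' hxU' (by
          have := congrArg (Ideal.comap (Ideal.Quotient.mk pA)) hq'c
          rw [hmk, hmk, hqc] at this
          exact this)
        have h3 : x' ⤳ hU.fromSpec P := hx'e ▸ (hspec _ _).1 h1
        have h4 : hU.fromSpec P = x' := by
          have h5 : (⟨x', rfl⟩ : ↑(f ⁻¹' {f x'})) ⤳ (⟨hU.fromSpec P, h2⟩ : ↑(f ⁻¹' {f x'})) :=
            (subtype_specializes_iff _ _).2 h3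
          exact h5.mem_closed hcl rfl
        have h6 : P = p' := hU.fromSpec.isOpenEmbedding.injective (h4.trans hx'e.symm)
        exact congrArg PrimeSpectrum.asIdeal h6)
      (Ideal.Quotient.mk _ g) (fun h => hgpx (Ideal.Quotient.eq_zero_iff_mem.1 h))
    let P₁ : Spec Γ(X, U) := ⟨q₁.comap (Ideal.Quotient.mk _), inferInstance⟩
    have hP₁px : px.asIdeal ≤ P₁.asIdeal := fun a ha => by
      show Ideal.Quotient.mk _ a ∈ q₁
      rw [Ideal.Quotient.eq_zero_iff_mem.2 ha]
      exact q₁.zero_mem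
    have hP₁p' : P₁.asIdeal ≤ p'.asIdeal := hqc ▸ Ideal.comap_mono hq₁q
    have hP₁f : f (hU.fromSpec P₁) = f x := hfpt P₁ x hxU (by
      show (q₁.comap _).comap φ = pA
      rw [← hmk, hq₁b, hbot])
    have hP₁g : hU.fromSpec P₁ ∈ X.basicOpen g := by
      have : P₁ ∈ hU.fromSpec ⁻¹ᵁ X.basicOpen g := by
        rw [hU.fromSpec_preimage_basicOpen]
        exact hgq₁
      exact this
    have hs1 : x ⤳ hU.fromSpec P₁ := hxe ▸ (hspec _ _).1 hP₁px
    have hs2 : hU.fromSpec P₁ ⤳ x' := hx'e ▸ (hspec _ _).1 hP₁p'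
    refine ⟨⟨hU.fromSpec P₁, specializes_iff_mem_closure.1 hs1, hP₁f⟩, (hgW hP₁g).1,
      hP₁f, ?_, hs1, hs2⟩
    -- closedness in the fibre
    have : JacobsonSpace ↑(f ⁻¹' {f x}) :=
      JacobsonSpace.of_isClosedEmbedding (f.fiberHomeo (f x)).symm.isClosedEmbedding
    let x₁ : ↑(f ⁻¹' {f x}) := ⟨hU.fromSpec P₁, hP₁f⟩
    have hset : (Subtype.val ⁻¹' {hU.fromSpec P₁} : Set ↑(f ⁻¹' {f x})) = {x₁} := by
      ext y; exact (Subtype.ext_iff (a1 := y) (a2 := x₁)).symm
    rw [hset]
    refine isClosed_singleton_of_isLocallyClosed_singleton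
      ⟨Subtype.val ⁻¹' (U : Set X), closure {x₁}, U.2.preimage continuous_subtype_val, isClosed_closure, ?_⟩
    refine Set.Subset.antisymm
      (Set.singleton_subset_iff.2 ⟨hU.range_fromSpec.le ⟨P₁, rfl⟩, subset_closure rfl⟩) ?_
    rintro ⟨y, hyf⟩ ⟨hyU, hyc⟩
    have hy : hU.fromSpec P₁ ⤳ y := (subtype_specializes_iff _ _).1 (specializes_iff_mem_closure.2 hyc)
    let P := hU.primeIdealOf ⟨y, hyU⟩
    have hPe : hU.fromSpec P = y := hU.fromSpec_primeIdealOf _
    have hle1 : P₁.asIdeal ≤ P.asIdeal := (hspec _ _).2 (by rw [hPe]; exact hy)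
    have hker : RingHom.ker (Ideal.Quotient.mk px.asIdeal) ≤ P.asIdeal := by
      rw [Ideal.mk_ker]; exact hP₁px.trans hle1
    let q₂ : Ideal (Γ(X, U) ⧸ px.asIdeal) := P.asIdeal.map (Ideal.Quotient.mk _)
    have hq₂c : q₂.comap (Ideal.Quotient.mk px.asIdeal) = P.asIdeal := by
      rw [Ideal.comap_map_of_surjective _ Ideal.Quotient.mk_surjective, ← RingHom.ker_eq_comap_bot]
      exact sup_eq_left.2 hker
    have hq₂ : q₂.IsPrime := Ideal.map_isPrime_of_surjective Ideal.Quotient.mk_surjective hker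
    have h12 : q₂ = q₁ := by
      refine hq₁max q₂ hq₂ ?_ (hinj ?_)
      · rw [← Ideal.map_comap_of_surjective _ Ideal.Quotient.mk_surjective q₁]
        exact Ideal.map_mono hle1
      · rw [hmk, hq₂c, hbot]
        show P.asIdeal.comap φ = pA
        rw [hcomap]
        show _ = px.asIdeal.comap φ
        rw [hcomap]
        have : f y = f x := hyf
        simp only [this]
    have h13 : P = P₁ := PrimeSpectrum.ext (by rw [← hq₂c, h12])
    exact Subtype.ext (hPe.symm.trans (congrArg (fun P => hU.fromSpec P) h13))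

end Groth.Agent.S1374
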