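import Groth.Statements.S13740
import Groth.Agent.Lib.SGA1Quot21.SigmaFinite
-- import your own Groth.Agent.* helpers here

set_option autoImplicit false
set_option linter.style.haveILetI false
set_option backward.isDefEq.respectTransparency false
set_option backward.isDefEq.respectTransparency.types false
universe w u
open SGA1

namespace Groth.Agent.S13740

section helper
open CategoryTheory CategoryTheory.Limits AlgebraicGeometry

lemma univSubmersive_of_closed {X Y : Scheme.{u}} (f : X ⟶ Y) [UniversallyClosed f] [Surjective f] :
    SGA1.UnivSubmersive f := by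
  intro X' Y' i₁ i₂ f' h
  haveI : UniversallyClosed f' :=
    MorphismProperty.of_isPullback (P := @UniversallyClosed) h.flip inferInstance
  haveI : Surjective f' := MorphismProperty.of_isPullback (P := @Surjective) h.flip inferInstance
  exact (Scheme.Hom.isClosedMap f').isQuotientMap f'.continuous f'.surjective

end helper

open CategoryTheory CategoryTheory.Limits AlgebraicGeometry in
/-- Let S be a separated Noetherian scheme, π : X → S finite and surjective with X separated, G a finite
group acting on X by S-automorphisms and transitively on the geometric points of X over every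
geometric point of S, and F a presheaf of sets on schemes satisfying the sheaf condition for every
finite family of quasi-finite morphisms of finite type whose induced morphism from the disjoint
union is universally submersive (a qfh-sheaf). Then pulling back along π identifies F(S) with the
G-invariant elements of F(X): F(π) is injective with image the invariants. (The published statement
takes F a qfh-sheaf on Noetherian schemes over S; this row takes a presheaf on all schemes with the
sheaf property for every such family, a stronger hypothesis.) -/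
theorem result {X S : Scheme.{u}} [IsNoetherian S] [S.IsSeparated] [X.IsSeparated] (q : X ⟶ S) [IsFinite q] [Surjective q] {G : Type u} [Group G] [Finite G] (ρ : G →* Aut X) (hρ : ∀ g : G, (ρ g).hom ≫ q = q) (htrans : ∀ (Ω : Type u) [Field Ω] [IsAlgClosed Ω] (τ₁ τ₂ : Spec (CommRingCat.of Ω) ⟶ X), τ₁ ≫ q = τ₂ ≫ q → ∃ g : G, τ₁ ≫ (ρ g).hom = τ₂) (F : Scheme.{u}ᵒᵖ ⥤ Type w) (hF : ∀ ⦃T : Scheme.{u}⦄ (E : PreZeroHypercover.{u} T), Finite E.I₀ → (∀ i, LocallyOfFiniteType (E.f i)) → (∀ i, QuasiCompact (E.f i)) → (∀ i, LocallyQuasiFinite (E.f i)) → SGA1.UnivSubmersive (Sigma.desc E.f) → Presieve.IsSheafFor F E.presieve₀) : Function.Injective (F.map q.op) ∧ Set.range (F.map q.op) = {f : F.obj (Opposite.op X) | ∀ g : G, F.map (ρ g).hom.op f = f} := by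
  classical
  have hsep : IsSeparated q := inferInstance
  have hs1 := hF (PreZeroHypercover.singleton q) inferInstance (fun _ => (inferInstance : LocallyOfFiniteType q))
    (fun _ => (inferInstance : QuasiCompact q)) (fun _ => (inferInstance : LocallyQuasiFinite q)) (by
      haveI : IsFinite (Sigma.desc (PreZeroHypercover.singleton.{u} q).f) :=
        @GrothLib.SGA1Quot21.isFinite_sigmaDesc _ _ _ _ (PreZeroHypercover.singleton.{u} q).f
          (fun _ => (inferInstance : IsFinite q))
      haveI : Surjective (Sigma.desc (PreZeroHypercover.singleton.{u} q).f) := by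
        refine ⟨fun x => ?_⟩
        obtain ⟨y, hy⟩ := q.surjective x
        refine ⟨(Sigma.ι (PreZeroHypercover.singleton.{u} q).X PUnit.unit).base y, ?_⟩
        rw [← Scheme.Hom.comp_apply, Sigma.ι_desc]
        exact hy
      exact univSubmersive_of_closed _)
  rw [PreZeroHypercover.presieve₀_singleton] at hs1
  rw [Presieve.isSheafFor_singleton] at hs1
  let T := pullback q q
  let c : G → (X ⟶ T) := fun g => pullback.lift (𝟙 X) (ρ g).hom (by rw [Category.id_comp, hρ])
  have hc1 : ∀ g, c g ≫ pullback.fst q q = 𝟙 X := fun g => pullback.lift_fst _ _ _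
  have hc2 : ∀ g, c g ≫ pullback.snd q q = (ρ g).hom := fun g => pullback.lift_snd _ _ _
  haveI hcf : ∀ g, IsFinite (c g) := fun g => by
    haveI : IsFinite (c g ≫ pullback.fst q q) := by rw [hc1]; infer_instance
    exact MorphismProperty.of_postcomp @IsFinite (W' := @IsSeparated) (c g) (pullback.fst q q)
      inferInstance inferInstance
  let E : PreZeroHypercover.{u} T := { I₀ := G, X := fun _ => X, f := c }
  have hs2 := hF E ‹Finite G› (fun g => (inferInstance : LocallyOfFiniteType (c g)))
    (fun g => (inferInstance : QuasiCompact (c g))) (fun g => (inferInstance : LocallyQuasiFinite (c g))) (by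
      haveI : IsFinite (Sigma.desc E.f) :=
        @GrothLib.SGA1Quot21.isFinite_sigmaDesc G _ _ _ c hcf
      haveI : Surjective (Sigma.desc E.f) := by
        refine ⟨fun z => ?_⟩
        let Ω := AlgebraicClosure (T.residueField z)
        let τ : Spec (CommRingCat.of Ω) ⟶ T :=
          Spec.map (CommRingCat.ofHom (algebraMap (T.residueField z) Ω)) ≫ T.fromSpecResidueField z
        obtain ⟨g, hg⟩ := htrans Ω (τ ≫ pullback.fst q q) (τ ≫ pullback.snd q q) (by
          simp only [τ, T, Category.assoc, pullback.condition])
        have hτ : (τ ≫ pullback.fst q q) ≫ c g = τ := by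
          apply pullback.hom_ext
          · rw [Category.assoc, hc1, Category.comp_id]
          · rw [Category.assoc, hc2, hg]
        refine ⟨(Sigma.ι E.X g).base ((τ ≫ pullback.fst q q).base default), ?_⟩
        rw [← Scheme.Hom.comp_apply, Sigma.ι_desc]
        show (c g).base ((τ ≫ pullback.fst q q).base default) = z
        rw [← Scheme.Hom.comp_apply, hτ, Scheme.Hom.comp_apply]
        exact Scheme.fromSpecResidueField_apply _ _
      exact univSubmersive_of_closed _)
  have hinj : Function.Injective (F.map q.op) := by
    intro a b hab
    have key : ∀ {Z : Scheme.{u}} (p₁ p₂ : Z ⟶ X), p₁ ≫ q = p₂ ≫ q →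
        F.map p₁.op (F.map q.op a) = F.map p₂.op (F.map q.op a) := by
      intro Z p₁ p₂ hp
      rw [← Functor.map_comp_apply, ← Functor.map_comp_apply, ← op_comp, ← op_comp, hp]
    obtain ⟨t, -, ht⟩ := hs1 (F.map q.op a) key
    exact (ht a rfl).trans (ht b hab.symm).symm
  refine ⟨hinj, Set.ext fun x => ⟨?_, fun hx => ?_⟩⟩
  · rintro ⟨s, rfl⟩ g
    rw [← Functor.map_comp_apply, ← op_comp, hρ]
  · obtain ⟨t, ht, -⟩ := hs1 x (fun {Z} p₁ p₂ hp => by
      have e : F.map (pullback.fst q q).op x = F.map (pullback.snd q q).op x := by
        rw [Presieve.isSheafFor_iff_generate] at hs2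
        have hsepd := ((Presieve.isSheafFor_iff_generate _).mpr hs2).isSeparatedFor
        refine hsepd.ext ?_
        rintro _ f ⟨g⟩
        show F.map (c g).op (F.map (pullback.fst q q).op x) = F.map (c g).op (F.map (pullback.snd q q).op x)
        rw [← Functor.map_comp_apply, ← Functor.map_comp_apply, ← op_comp, ← op_comp, hc1, hc2,
          op_id, F.map_id, hx g]
        rfl
      have h2 := congrArg (F.map (pullback.lift p₁ p₂ hp).op) e
      rw [← Functor.map_comp_apply, ← Functor.map_comp_apply, ← op_comp, ← op_comp,
        pullback.lift_fst, pullback.lift_snd] at h2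
      exact h2)
    exact ⟨t, ht⟩

end Groth.Agent.S13740
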