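import Groth.Statements.S13741
import Mathlib.FieldTheory.Normal.Basic

set_option autoImplicit false
universe u
open SGA1

namespace Groth.Agent.S13741

open CategoryTheory CategoryTheory.Limits AlgebraicGeometry in
/-- Let S be a separated Noetherian scheme, q : X → S finite and surjective with X separated, and G a
finite group acting on X by S-automorphisms. Assume that G acts transitively on every fibre of q,
that each residue field extension k(x)/k(q x) is normal, and that for each x every k(q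
x)-automorphism of k(x) is induced by an element of G fixing x. Then for every algebraically closed
field Ω, any two Ω-points of X with the same composite to S are conjugate under G. -/
theorem result {X S : Scheme.{u}} [IsNoetherian S] [S.IsSeparated] [X.IsSeparated] (q : X ⟶ S) [IsFinite q] [Surjective q] {G : Type u} [Group G] [Finite G] (ρ : G →* Aut X) (hρ : ∀ g : G, (ρ g).hom ≫ q = q) (h1 : ∀ x y : X, q x = q y → ∃ g : G, (ρ g).hom x = y) (h2 : ∀ x : X, @Normal (S.residueField (q x)) (X.residueField x) _ _ (q.residueFieldMap x).hom.toAlgebra) (h3 : ∀ (x : X) (σ : X.residueField x ≅ X.residueField x), q.residueFieldMap x ≫ σ.hom = q.residueFieldMap x → ∃ g : G, X.fromSpecResidueField x ≫ (ρ g).hom = Spec.map σ.hom ≫ X.fromSpecResidueField x) (Ω : Type u) [Field Ω] [IsAlgClosed Ω] (τ₁ τ₂ : Spec (CommRingCat.of Ω) ⟶ X) (hτ : τ₁ ≫ q = τ₂ ≫ q) : ∃ g : G, τ₁ ≫ (ρ g).hom = τ₂ := by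
  have key : ∀ (x : X) (φ₁ φ₂ : X.residueField x ⟶ CommRingCat.of Ω),
      (Spec.map φ₁ ≫ X.fromSpecResidueField x) ≫ q = (Spec.map φ₂ ≫ X.fromSpecResidueField x) ≫ q →
      ∃ g : G, (Spec.map φ₁ ≫ X.fromSpecResidueField x) ≫ (ρ g).hom =
        Spec.map φ₂ ≫ X.fromSpecResidueField x := by
    intro x φ₁ φ₂ h
    simp only [Category.assoc, ← Scheme.Hom.SpecMap_residueFieldMap_fromSpecResidueField,
      ← Spec.map_comp_assoc] at h
    have h' := Spec.map_injective ((cancel_mono (S.fromSpecResidueField (q x))).1 h)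
    letI := (q.residueFieldMap x).hom.toAlgebra
    haveI := h2 x
    letI : Algebra (X.residueField x) Ω := φ₁.hom.toAlgebra
    letI : Algebra (S.residueField (q x)) Ω := (q.residueFieldMap x ≫ φ₁).hom.toAlgebra
    haveI : IsScalarTower (S.residueField (q x)) (X.residueField x) Ω := .of_algebraMap_eq' rfl
    let f : X.residueField x →ₐ[S.residueField (q x)] Ω :=
      { φ₂.hom with commutes' := fun r => congrArg (fun t => (CommRingCat.Hom.hom t) r) h'.symm }
    let e : X.residueField x ≃ₐ[S.residueField (q x)] X.residueField x := f.restrictNormal' (X.residueField x)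
    have hτ' : q.residueFieldMap x ≫ e.toRingEquiv.toCommRingCatIso.hom = q.residueFieldMap x := by
      ext r; exact e.commutes r
    obtain ⟨g, hg⟩ := h3 x e.toRingEquiv.toCommRingCatIso hτ'
    refine ⟨g, ?_⟩
    have hcomp : e.toRingEquiv.toCommRingCatIso.hom ≫ φ₁ = φ₂ := by
      ext z
      exact f.restrictNormal_commutes (X.residueField x) z
    rw [Category.assoc, hg, ← Spec.map_comp_assoc, hcomp]
  obtain ⟨g₀, hg₀⟩ := h1 (τ₁ (IsLocalRing.closedPoint Ω)) (τ₂ (IsLocalRing.closedPoint Ω))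
    (congrArg (fun f : Spec (CommRingCat.of Ω) ⟶ S => f (IsLocalRing.closedPoint Ω)) hτ)
  obtain ⟨⟨x₁, φ₁⟩, e₁⟩ := (Scheme.SpecToEquivOfField Ω X).symm.surjective (τ₁ ≫ (ρ g₀).hom)
  obtain ⟨⟨x₂, φ₂⟩, e₂⟩ := (Scheme.SpecToEquivOfField Ω X).symm.surjective τ₂
  simp only [Scheme.SpecToEquivOfField_symm_apply] at e₁ e₂
  have hpt : ∀ (x : X) (φ : X.residueField x ⟶ CommRingCat.of Ω) (z : ↥(Spec (CommRingCat.of Ω))),
      (Spec.map φ ≫ X.fromSpecResidueField x) z = x := fun x φ z => by
    rw [Scheme.Hom.comp_apply]; exact Scheme.fromSpecResidueField_apply x _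
  have hx₁ : (τ₁ ≫ (ρ g₀).hom) (IsLocalRing.closedPoint Ω) = x₁ := by
    rw [← e₁]; exact hpt x₁ φ₁ _
  have hx₂ : τ₂ (IsLocalRing.closedPoint Ω) = x₂ := by
    rw [← e₂]; exact hpt x₂ φ₂ _
  obtain rfl : x₁ = x₂ := hx₁.symm.trans (hg₀.trans hx₂)
  obtain ⟨g, hg⟩ := key x₁ φ₁ φ₂ (by rw [e₁, e₂, Category.assoc, hρ, hτ])
  refine ⟨g * g₀, ?_⟩
  rw [e₁, e₂, Category.assoc] at hg
  rw [map_mul]
  exact hg

end Groth.Agent.S13741
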