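import Groth.Statements.S13742
-- import your own Groth.Agent.* helpers here
import Groth.Agent.Lib.FibreFlat.Stalk


set_option autoImplicit false
universe u
open Cyc

namespace Groth.Agent.S13742

open CategoryTheory CategoryTheory.Limits AlgebraicGeometry in
/-- Let S be a separated Noetherian scheme, f : X → S separated of finite type, z a point of X mapping
to a generic point of an irreducible component of S, and ι : Z → X a closed immersion from a reduced
scheme with image the closure of z (the closure of z with its reduced structure). Then Z ×_S Spec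
k(f z) is an integral scheme, and its image in the fibre X ×_S Spec k(f z) is the closure of the
unique point w of that fibre lying over z: Z ×_S Spec k(f z) is the closure of z in its fibre, with
reduced structure. -/
theorem result {X S Z : Scheme.{u}} [IsNoetherian S] [S.IsSeparated] [X.IsSeparated] (f : X ⟶ S) [LocallyOfFiniteType f] [QuasiCompact f] (z : X) (hz : closure {f z} ∈ irreducibleComponents ↥S) (ι : Z ⟶ X) [IsClosedImmersion ι] [IsReduced Z] (hZ : Set.range ι = closure {z}) : IsIntegral (pullback (ι ≫ f) (S.fromSpecResidueField (f z))) ∧ ∃ w : ↥(pullback f (S.fromSpecResidueField (f z))), pullback.fst f (S.fromSpecResidueField (f z)) w = z ∧ Set.range (pullback.map (ι ≫ f) (S.fromSpecResidueField (f z)) f (S.fromSpecResidueField (f z)) ι (𝟙 _) (𝟙 S) (Category.comp_id _) ((Category.comp_id _).trans (Category.id_comp _).symm)) = closure {w} := by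
  open CategoryTheory.Limits in
  classical
  let h : Z ⟶ S := ι ≫ f
  obtain ⟨z', hz'⟩ : z ∈ Set.range ι := hZ ▸ subset_closure rfl
  have hgen : ∀ y : Z, z' ⤳ y := fun y => ι.isEmbedding.isInducing.specializes_iff.1
    (hz'.symm ▸ specializes_iff_mem_closure.2 (hZ ▸ ⟨y, rfl⟩))
  have hη : h z' = f z := by simp [h, hz']
  haveI : Ring.KrullDimLE 0 (S.presheaf.stalk (f z)) := by
    refine krullDimLE_of_coheight_le (le_of_eq (Order.coheight_eq_zero.2 fun y hy => ?_))
    have hy' : y ⤳ f z := hy
    have hsub : closure {f z} ⊆ closure {y} := specializes_iff_closure_subset.1 hy'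
    exact specializes_iff_closure_subset.2 (hz.2 isIrreducible_singleton.closure hsub)
  haveI hred : IsReduced (h.fiber (f z)) := by
    haveI : ∀ w : h.fiber (f z), _root_.IsReduced ((h.fiber (f z)).presheaf.stalk w) := fun w => by
      obtain ⟨hs, hk⟩ := GrothLib.FibreFlat.fiberι_stalkMap' h (f z) w (h.fiberι _ w) rfl
      have hw : h (h.fiberι (f z) w) = f z := Set.mem_singleton_iff.1
        (show h.fiberι (f z) w ∈ h ⁻¹' {f z} from h.range_fiberι (f z) ▸ ⟨w, rfl⟩)
      haveI : Ring.KrullDimLE 0 (S.presheaf.stalk (h (h.fiberι (f z) w))) := hw.symm ▸ inferInstance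
      have hk' : (IsLocalRing.maximalIdeal (S.presheaf.stalk (h (h.fiberι (f z) w)))).map
          (h.stalkMap (h.fiberι (f z) w)).hom = ⊥ := by
        rw [eq_bot_iff, Ideal.map_le_iff_le_comap]
        intro a ha
        obtain ⟨n, hn⟩ : IsNilpotent a := by
          rw [← mem_nilradical, Ring.KrullDimLE.nilradical_eq_maximalIdeal]; exact ha
        exact Ideal.mem_comap.2 (Submodule.mem_bot _ |>.2 (IsReduced.eq_zero _ ⟨n, by rw [← map_pow, hn, map_zero]⟩))
      rw [hk'] at hk
      exact isReduced_of_injective _ (RingEquiv.ofBijective _ ⟨(RingHom.injective_iff_ker_eq_bot _).2 hk, hs⟩).symm.injective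
    exact AlgebraicGeometry.isReduced_of_isReduced_stalk _
  obtain ⟨w₀, hw₀⟩ : z' ∈ Set.range (h.fiberι (f z)) := h.range_fiberι (f z) ▸ hη
  have hgen₀ : ∀ w, w₀ ⤳ w := fun w => (h.fiberι (f z)).isEmbedding.isInducing.specializes_iff.1 (hw₀ ▸ hgen _)
  haveI : IrreducibleSpace (h.fiber (f z)) := irreducibleSpace_def _ |>.2 (by
    rw [Set.top_eq_univ]
    rw [← Set.eq_univ_of_forall (s := closure {w₀}) fun w => specializes_iff_mem_closure.1 (hgen₀ w)]
    exact isIrreducible_singleton.closure)
  refine ⟨isIntegral_of_irreducibleSpace_of_isReduced (h.fiber (f z)), ?_⟩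
  let m := pullback.map (ι ≫ f) (S.fromSpecResidueField (f z)) f (S.fromSpecResidueField (f z)) ι (𝟙 _) (𝟙 S) (Category.comp_id _) ((Category.comp_id _).trans (Category.id_comp _).symm)
  have hm : m ≫ pullback.fst f _ = pullback.fst h _ ≫ ι := pullback.lift_fst _ _ _
  have hmw : ∀ w : h.fiber (f z), pullback.fst f (S.fromSpecResidueField (f z)) (m w) = ι (h.fiberι (f z) w) := fun w =>
    by rw [← Scheme.Hom.comp_apply, hm]; rfl
  refine ⟨m w₀, by rw [hmw, hw₀, hz'], ?_⟩
  have hcl : IsClosed (Set.range m) := by
    have h' := Scheme.Pullback.range_map (ι ≫ f) (S.fromSpecResidueField (f z)) f (S.fromSpecResidueField (f z)) ι (𝟙 _) (𝟙 S) (Category.comp_id _) ((Category.comp_id _).trans (Category.id_comp _).symm)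
    rw [show Set.range m = _ from h']
    exact (ι.isClosedEmbedding.isClosed_range.preimage (Scheme.Hom.continuous _)).inter (by simp)
  refine Set.Subset.antisymm ?_ ((closure_minimal (Set.singleton_subset_iff.2 ⟨w₀, rfl⟩) hcl))
  rintro _ ⟨w, rfl⟩
  exact specializes_iff_mem_closure.1 ((hgen₀ w).map m.continuous)

end Groth.Agent.S13742
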