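import Groth.Statements.S13744
-- import your own Groth.Agent.* helpers here
import Groth.Agent.Lib.CycBasic.SheafLength
import Groth.Agent.Lib.GrpdQuot.InvariantOpen
import Groth.Agent.Lib.CycBasic.SubLength
import Groth.Agent.Lib.ArSurf29.Global


set_option autoImplicit false
universe u
open Cyc

namespace GrothAux.S13744

open CategoryTheory AlgebraicGeometry

/-- Lengths of a schematic image of an open immersion. -/
theorem length_toImage {A B : Scheme.{u}} (f : A ⟶ B) [IsOpenImmersion f] [QuasiCompact f] (a : A) :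
    Module.length (f.image.presheaf.stalk (f.toImage a)) (f.image.presheaf.stalk (f.toImage a)) =
      Module.length (A.presheaf.stalk a) (A.presheaf.stalk a) := by
  have hs := f.imageι.stalkMap_surjective (f.toImage a)
  have hb : Function.Bijective ((f.toImage ≫ f.imageι).stalkMap a) := by
    haveI : IsOpenImmersion (f.toImage ≫ f.imageι) := by rw [f.toImage_imageι]; infer_instance
    exact ConcreteCategory.bijective_of_isIso _
  rw [Scheme.Hom.stalkMap_comp] at hb
  have hbij : Function.Bijective (f.toImage.stalkMap a).hom := by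
    refine ⟨fun x y hxy => ?_, fun y => ?_⟩
    · obtain ⟨x', rfl⟩ := hs x
      obtain ⟨y', rfl⟩ := hs y
      exact congrArg _ (hb.1 hxy)
    · obtain ⟨x, hx⟩ := hb.2 y
      exact ⟨_, hx⟩
  letI := (f.toImage.stalkMap a).hom.toAlgebra
  rw [← GrothLib.CycBasic.length_eq_of_surjective (f.toImage.stalkMap a).hom hbij.2 (A.presheaf.stalk a)
    (fun r m => rfl)]
  exact (LinearEquiv.ofBijective (Algebra.linearMap _ _) hbij).length_eq

theorem mem_range_of_finite {A B : Scheme.{u}} (f : A ⟶ B) [QuasiCompact f] [IsLocallyNoetherian f.image] (z : f.image)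
    (h : Module.length (f.image.presheaf.stalk z) (f.image.presheaf.stalk z) ≠ ⊤) : z ∈ Set.range f.toImage := by
  haveI : IsArtinianRing (f.image.presheaf.stalk z) :=
    (isFiniteLength_iff_isNoetherian_isArtinian.1 (Module.length_ne_top_iff.1 h)).2
  have hco : Order.coheight z = 0 := by
    have h0 : ringKrullDim (f.image.presheaf.stalk z) ≤ 0 := Ring.krullDimLE_iff.1 inferInstance
    rw [ringKrullDim_stalk_eq_coheight] at h0
    exact le_antisymm (by exact_mod_cast h0) zero_le
  have hcl : z ∈ closure (Set.range f.toImage) := f.toImage.denseRange z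
  rw [← Set.image_univ] at hcl
  obtain ⟨a, -, ha⟩ := GrothLib.GrpdQuot.exists_specializes_of_mem_closure f.toImage Set.univ isClosed_univ z hcl
  exact ⟨a, (ha.antisymm (Order.coheight_eq_zero.1 hco ha)).eq⟩

theorem isCI_map {A X T S : Scheme.{u}} (ι : A ⟶ X) [IsClosedImmersion ι] (p : X ⟶ S) (x : T ⟶ S) :
    IsClosedImmersion (Limits.pullback.map (ι ≫ p) x p x ι (𝟙 _) (𝟙 S) (Category.comp_id _) ((Category.comp_id _).trans (Category.id_comp _).symm)) := by
  have h1 : IsPullback (Limits.pullback.map (ι ≫ p) x p x ι (𝟙 _) (𝟙 S) (Category.comp_id _) ((Category.comp_id _).trans (Category.id_comp _).symm))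
      (Limits.pullback.fst (ι ≫ p) x) (Limits.pullback.fst p x) ι := by
    refine IsPullback.of_right (h₁₂ := Limits.pullback.snd p x) (v₁₃ := x) (h₂₂ := p) ?_ (Limits.pullback.lift_fst _ _ _)
      (IsPullback.of_hasPullback p x).flip
    rw [Limits.pullback.lift_snd, Category.comp_id]
    exact (IsPullback.of_hasPullback (ι ≫ p) x).flip
  exact MorphismProperty.of_isPullback h1.flip ‹_›

end GrothAux.S13744

namespace Groth.Agent.S13744

open CategoryTheory CategoryTheory.Limits AlgebraicGeometry in
/-- Let S be a separated Noetherian scheme, p : X → S separated of finite type, ι : Z → X a closed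
immersion with Z integral, R a discrete valuation ring with fraction field K and x : Spec R → S. Let
φ be the scheme-theoretic image in Z ×_S Spec R of Z ×_S Spec K (the flat closure of the generic
fibre), regarded as a closed subscheme of X ×_S Spec R. Then the cycle of φ (coefficient at t =
length of the local ring of φ above t, an infinite length read as 0) equals the cycle of Z ×_S Spec
K pushed forward along the inclusion X ×_S Spec K → X ×_S Spec R. -/
theorem result {X S Z : Scheme.{u}} [IsNoetherian S] [S.IsSeparated] [X.IsSeparated] (p : X ⟶ S) [LocallyOfFiniteType p] [QuasiCompact p] (ι : Z ⟶ X) [IsClosedImmersion ι] [IsIntegral Z] (R : Type u) [CommRing R] [IsDomain R] [IsDiscreteValuationRing R] (x : Spec (CommRingCat.of R) ⟶ S) (t : ↥(pullback p x)) : Cyc.subschemeFun (fun _ => (0 : ℤ)) 0 ((pullback.map (ι ≫ p) (Spec.map (CommRingCat.ofHom (algebraMap R (FractionRing R))) ≫ x) (ι ≫ p) x (𝟙 Z) (Spec.map (CommRingCat.ofHom (algebraMap R (FractionRing R)))) (𝟙 S) ((Category.comp_id _).trans (Category.id_comp _).symm) (Category.comp_id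 _)).ker.subschemeι ≫ pullback.map (ι ≫ p) x p x ι (𝟙 _) (𝟙 S) (Category.comp_id _) ((Category.comp_id _).trans (Category.id_comp _).symm)) t = ∑ᶠ t' ∈ {t' : ↥(pullback p (Spec.map (CommRingCat.ofHom (algebraMap R (FractionRing R))) ≫ x)) | (pullback.map p (Spec.map (CommRingCat.ofHom (algebraMap R (FractionRing R))) ≫ x) p x (𝟙 X) (Spec.map (CommRingCat.ofHom (algebraMap R (FractionRing R)))) (𝟙 S) ((Category.comp_id _).trans (Category.id_comp _).symm) (Category.comp_id _)) t' = t}, Cyc.subschemeFun (fun _ => (0 : ℤ)) 0 (pullback.map (ι ≫ p) (Spec.map (CommRingCat.ofHom (algebraMap R (FractionRing R))) ≫ x) p (Spec.map (CommRingCat.ofHom (algebraMap R (FractionRing R))) ≫ x) ι (𝟙 _) (𝟙 S) (Category.comp_id _) ((Category.comp_id _).trans (Category.id_comp _).symm)) t' := by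
  open GrothAux.S13744 in
  classical
  obtain ⟨π, hπ⟩ := IsDiscreteValuationRing.exists_irreducible R
  haveI := GrothLib.ArSurf29.isLocalizationAway_fractionRing hπ
  let iK := Spec.map (CommRingCat.ofHom (algebraMap R (FractionRing R)))
  haveI : IsOpenImmersion iK := IsOpenImmersion.of_isLocalization π
  let f := pullback.map (ι ≫ p) (iK ≫ x) (ι ≫ p) x (𝟙 Z) iK (𝟙 S) ((Category.comp_id _).trans (Category.id_comp _).symm) (Category.comp_id _)
  let iR := pullback.map (ι ≫ p) x p x ι (𝟙 _) (𝟙 S) (Category.comp_id _) ((Category.comp_id _).trans (Category.id_comp _).symm)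
  let iKc := pullback.map (ι ≫ p) (iK ≫ x) p (iK ≫ x) ι (𝟙 _) (𝟙 S) (Category.comp_id _) ((Category.comp_id _).trans (Category.id_comp _).symm)
  let j := pullback.map p (iK ≫ x) p x (𝟙 X) iK (𝟙 S) ((Category.comp_id _).trans (Category.id_comp _).symm) (Category.comp_id _)
  haveI : IsOpenImmersion f := inferInstance
  haveI : IsOpenImmersion j := inferInstance
  haveI hiR : IsClosedImmersion iR := isCI_map ι p _
  haveI hiK : IsClosedImmersion iKc := isCI_map ι p _
  haveI : IsLocallyNoetherian (pullback (ι ≫ p) x) := LocallyOfFiniteType.isLocallyNoetherian (pullback.snd (ι ≫ p) x)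
  haveI : QuasiCompact iK := inferInstance
  haveI : QuasiCompact f := inferInstance
  haveI : IsLocallyNoetherian f.image := LocallyOfFiniteType.isLocallyNoetherian f.imageι
  have hcomm : ∀ a, iR (f.imageι (f.toImage a)) = j (iKc a) := fun a => by
    rw [← Scheme.Hom.comp_apply, ← Scheme.Hom.comp_apply, ← Scheme.Hom.comp_apply, ← Category.assoc, f.toImage_imageι]
    rw [show f ≫ iR = iKc ≫ j by
      apply pullback.hom_ext
      · rw [Category.assoc, Category.assoc]; erw [pullback.lift_fst, pullback.lift_fst_assoc, pullback.lift_fst, pullback.lift_fst_assoc]; simp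
      · rw [Category.assoc, Category.assoc]; erw [pullback.lift_snd, pullback.lift_snd_assoc, pullback.lift_snd, pullback.lift_snd_assoc]; simp]
  show Cyc.subschemeFun (fun _ => (0 : ℤ)) 0 (f.imageι ≫ iR) t =
    ∑ᶠ t' ∈ {t' | j t' = t}, Cyc.subschemeFun (fun _ => (0 : ℤ)) 0 iKc t'
  simp only [Cyc.subschemeFun, if_pos]
  have hinjR : Function.Injective (f.imageι ≫ iR) := (f.imageι ≫ iR).isEmbedding.injective
  by_cases h : ∃ a, j (iKc a) = t
  · obtain ⟨a, ha⟩ := h
    have h1 : {z | (f.imageι ≫ iR) z = t} = {f.toImage a} := Set.eq_singleton_iff_unique_mem.2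
      ⟨(hcomm a).trans ha, fun z hz => hinjR (hz.trans ((hcomm a).trans ha).symm)⟩
    have h2 : {t' | j t' = t} = {iKc a} := Set.eq_singleton_iff_unique_mem.2
      ⟨ha, fun z hz => j.isEmbedding.injective (hz.trans ha.symm)⟩
    have h3 : {z | iKc z = iKc a} = {a} := Set.eq_singleton_iff_unique_mem.2
      ⟨rfl, fun z hz => iKc.isEmbedding.injective hz⟩
    rw [h1, finsum_mem_singleton, h2, finsum_mem_singleton, h3, finsum_mem_singleton, length_toImage]
  · push Not at h
    rw [finsum_mem_eq_zero_of_forall_eq_zero, finsum_mem_eq_zero_of_forall_eq_zero]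
    · intro t' ht'
      refine finsum_mem_eq_zero_of_forall_eq_zero fun z hz => absurd ht' ?_
      show j t' ≠ t
      rw [← show iKc z = t' from hz]
      exact h z
    · intro z hz
      by_contra hne
      obtain ⟨a, rfl⟩ := mem_range_of_finite f z (fun htop => hne (by rw [htop]; rfl))
      exact h a ((hcomm a).symm.trans hz)

end Groth.Agent.S13744
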