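import Groth.Statements.S13746
import Mathlib
import Groth.Agent.Lib.DeformIso.Basic

set_option backward.isDefEq.respectTransparency false
set_option backward.isDefEq.respectTransparency.types false
-- import your own Groth.Agent.* helpers here

set_option autoImplicit false
universe u
open CategoryTheory AlgebraicGeometry
open SemiFact

namespace Groth.Agent.S13746

open IsLocalRing

/-- The global function of a base element. -/
noncomputable abbrev gl {R : Type u} [CommRing R] (P : Over (Spec (CommRingCat.of R))) (r : R) : Γ(P.left, ⊤) :=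
  P.hom.appTop ((Scheme.ΓSpecIso (CommRingCat.of R)).inv r)

theorem smul_inj {R : Type u} [CommRing R] (P : Over (Spec (CommRingCat.of R))) [Flat P.hom] {r : R}
    (hr : IsSMulRegular R r) (W : P.left.Opens) (g : Γ(P.left, W))
    (h : P.left.presheaf.map (homOfLE le_top).op (gl P r) * g = 0) : g = 0 := by
  refine TopCat.Presheaf.section_ext P.left.sheaf W g 0 fun x hx => ?_
  obtain ⟨_, ⟨U, hU, rfl⟩, hxU, hUW⟩ :=
    P.left.isBasis_affineOpens.exists_subset_of_mem_open (SetLike.mem_coe.2 hx) W.2
  have hfl : (P.hom.appLE ⊤ U le_top).hom.Flat := Flat.flat_appLE P.hom (isAffineOpen_top _) hU _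
  let φ : R →+* Γ(P.left, U) := (P.hom.appLE ⊤ U le_top).hom.comp (Scheme.ΓSpecIso (CommRingCat.of R)).inv.hom
  have hφ : φ.Flat := RingHom.Flat.comp (RingHom.Flat.of_bijective (ConcreteCategory.bijective_of_isIso _)) hfl
  letI := φ.toAlgebra
  haveI : Module.Flat R Γ(P.left, U) := hφ
  have h1 := congrArg (P.left.presheaf.map (homOfLE (show U ≤ W from hUW)).op) h
  rw [map_mul, map_zero] at h1
  have h2 : φ r * P.left.presheaf.map (homOfLE (show U ≤ W from hUW)).op g = 0 := by
    refine Eq.trans ?_ h1
    congr 1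
    rw [← ConcreteCategory.comp_apply, ← Functor.map_comp]
    rfl
  have h3 : P.left.presheaf.map (homOfLE (show U ≤ W from hUW)).op g = 0 :=
    hr.of_flat (S := Γ(P.left, U)) (show φ r * _ = φ r * 0 by rw [mul_zero]; exact h2)
  change P.left.presheaf.germ W x hx g = P.left.presheaf.germ W x hx 0
  rw [← TopCat.Presheaf.germ_res_apply P.left.presheaf (homOfLE (show U ≤ W from hUW)) x hxU g, h3, map_zero, map_zero]

/-- A function vanishing on the closed fibre is a multiple of a uniformizer. -/
theorem exists_mul_of_forall {R : Type u} [CommRing R] [IsLocalRing R] {P : Over (Spec (CommRingCat.of R))} {ϖ : R}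
    (hm : maximalIdeal R = Ideal.span {ϖ}) [IsReduced (P.hom.fiber (closedPoint R))]
    {V : P.left.Opens} (hV : IsAffineOpen V) (a : Γ(P.left, V))
    (h : ∀ (x : P.left) (hx : x ∈ V), P.hom.base x = closedPoint R →
      P.left.presheaf.germ V x hx a ∈ maximalIdeal (P.left.presheaf.stalk x)) :
    ∃ b, a = P.left.presheaf.map (homOfLE le_top).op (gl P ϖ) * b := by
  let t := P.left.presheaf.map (homOfLE (le_top : V ≤ ⊤)).op (gl P ϖ)
  suffices ha : a ∈ Ideal.span {t} by
    obtain ⟨b, hb⟩ := Ideal.mem_span_singleton.1 ha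
    exact ⟨b, hb⟩
  refine Ideal.mem_of_localization_maximal fun Q hQ => ?_
  let x := hV.fromSpec ⟨Q, hQ.isPrime⟩
  have hxV : x ∈ V := by rw [← SetLike.mem_coe, ← hV.range_fromSpec]; exact ⟨_, rfl⟩
  have hpx : hV.primeIdealOf ⟨x, hxV⟩ = ⟨Q, hQ.isPrime⟩ :=
    hV.fromSpec.isOpenEmbedding.injective (hV.fromSpec_primeIdealOf _)
  letI : Algebra Γ(P.left, V) (P.left.presheaf.stalk x) := TopCat.Presheaf.algebra_section_stalk P.left.presheaf (⟨x, hxV⟩ : V)
  haveI : IsLocalization.AtPrime (P.left.presheaf.stalk x) Q := by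
    have := hV.isLocalization_stalk ⟨x, hxV⟩
    simp only [hpx] at this
    exact this
  have key : ∀ I : Ideal Γ(P.left, V), algebraMap _ (P.left.presheaf.stalk x) a ∈ I.map (algebraMap _ (P.left.presheaf.stalk x)) →
      algebraMap _ (Localization.AtPrime Q) a ∈ I.map (algebraMap _ (Localization.AtPrime Q)) := fun I hI => by
    rw [IsLocalization.algebraMap_mem_map_algebraMap_iff Q.primeCompl] at hI ⊢
    exact hI
  refine key _ ?_
  rw [Ideal.map_span, Set.image_singleton]
  have htx : algebraMap Γ(P.left, V) (P.left.presheaf.stalk x) t = P.hom.stalkMap x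
      ((Spec (CommRingCat.of R)).presheaf.germ ⊤ (P.hom.base x) trivial ((Scheme.ΓSpecIso (CommRingCat.of R)).inv ϖ)) := by
    rw [Scheme.Hom.germ_stalkMap_apply]
    exact TopCat.Presheaf.germ_res_apply P.left.presheaf _ x hxV _
  by_cases hs : P.hom.base x = closedPoint R
  swap
  · refine (Ideal.eq_top_of_isUnit_mem _ (Ideal.mem_span_singleton_self _) ?_).ge Submodule.mem_top
    rw [htx]
    refine IsUnit.map _ ?_
    have : P.hom.base x ∈ (Spec (CommRingCat.of R)).basicOpen ((Scheme.ΓSpecIso (CommRingCat.of R)).inv ϖ) := by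
      rw [basicOpen_eq_of_affine']
      simp only [Iso.inv_hom_id_apply]
      intro hmem
      refine hs (PrimeSpectrum.ext ?_)
      refine le_antisymm (le_maximalIdeal (P.hom.base x).2.ne_top) ?_
      change maximalIdeal R ≤ _
      rw [hm, Ideal.span_le, Set.singleton_subset_iff]
      exact hmem
    exact (Scheme.mem_basicOpen (Spec (CommRingCat.of R)) ((Scheme.ΓSpecIso (CommRingCat.of R)).inv ϖ) (P.hom.base x) trivial).1 this
  -- the fibre
  let iS := (Spec (CommRingCat.of R)).fromSpecResidueField (closedPoint R)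
  have hiS : IsClosedImmersion iS := by
    refine IsClosedImmersion.of_isPreimmersion _ ?_
    rw [Scheme.range_fromSpecResidueField]
    exact isClosed_singleton_closedPoint R
  have hc : IsPullback (P.hom.fiberι (closedPoint R)) (P.hom.fiberToSpecResidueField (closedPoint R)) P.hom iS :=
    IsPullback.of_hasPullback _ _
  obtain ⟨z, hz⟩ : x ∈ Set.range (P.hom.fiberι (closedPoint R)) := by rw [Scheme.Hom.range_fiberι]; exact hs
  haveI : IsClosedImmersion (P.hom.fiberι (closedPoint R)) := MorphismProperty.of_isPullback hc.flip hiS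
  have hker := GrothLib.DeformIso.ker_stalkMap_of_isPullback hc z ⟨⊤, isAffineOpen_top _⟩ trivial
  have hI : iS.ker.ideal ⟨⊤, isAffineOpen_top _⟩ = Ideal.span {(Scheme.ΓSpecIso (CommRingCat.of R)).inv ϖ} := by
    rw [Scheme.Hom.ker_apply]
    ext b
    obtain ⟨r, rfl⟩ := (Scheme.ΓSpecIso (CommRingCat.of R)).symm.commRingCatIsoToRingEquiv.surjective b
    have hb := ConcreteCategory.bijective_of_isIso (Scheme.ΓSpecIso (CommRingCat.of R)).inv
    have h0 : ∀ (B : CommRingCat.{u}) (ψ : CommRingCat.of R ⟶ B),
        (Spec.map ψ).appTop ((Scheme.ΓSpecIso (CommRingCat.of R)).inv r) = (Scheme.ΓSpecIso _).inv (ψ r) :=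
      fun B ψ => (ConcreteCategory.congr_hom (Scheme.ΓSpecIso_inv_naturality ψ) r).symm
    change iS.appTop ((Scheme.ΓSpecIso (CommRingCat.of R)).inv r) = 0 ↔ _
    rw [show iS = _ from (Scheme.Spec.map_residueFieldIso_inv_eq_fromSpecResidueField (CommRingCat.of R) (closedPoint R)).symm,
      Scheme.Hom.comp_appTop, ConcreteCategory.comp_apply, h0, map_eq_zero_iff _ ((ConcreteCategory.bijective_of_isIso _).1),
      map_eq_zero_iff _ ((ConcreteCategory.bijective_of_isIso _).1)]
    change algebraMap R (closedPoint R).asIdeal.ResidueField r = 0 ↔ _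
    rw [Ideal.algebraMap_residueField_eq_zero, Ideal.mem_span_singleton]
    change r ∈ maximalIdeal R ↔ (Scheme.ΓSpecIso (CommRingCat.of R)).inv ϖ ∣ (Scheme.ΓSpecIso (CommRingCat.of R)).inv r
    rw [hm, Ideal.mem_span_singleton]
    exact (map_dvd_iff (Scheme.ΓSpecIso (CommRingCat.of R)).symm.commRingCatIsoToRingEquiv).symm
  rw [hI, Ideal.map_span, Set.image_singleton, Ideal.map_span, Set.image_singleton] at hker
  clear_value x
  subst hz
  rw [htx, ← hker, RingHom.mem_ker]
  have hnil : IsNilpotent ((P.hom.fiberι (closedPoint R)).stalkMap z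
      (algebraMap Γ(P.left, V) (P.left.presheaf.stalk (P.hom.fiberι (closedPoint R) z)) a)) := by
    rw [← mem_nilradical, nilradical_eq_sInf, Ideal.mem_sInf]
    intro J hJ
    haveI : Ideal.IsPrime J := hJ
    -- every point of the fibre in the stalk
    let w := (P.hom.fiber (closedPoint R)).fromSpecStalk z ⟨J, hJ⟩
    have hwz : w ⤳ z := by
      have h1 : w ∈ Set.range ((P.hom.fiber (closedPoint R)).fromSpecStalk z) := ⟨_, rfl⟩
      rwa [Scheme.range_fromSpecStalk] at h1
    let i := P.hom.fiberι (closedPoint R)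
    have hwV : i w ∈ V := (hwz.map i.continuous).mem_open V.2 hxV
    have hm' := h _ hwV (by
      have : i w ∈ Set.range i := ⟨w, rfl⟩
      rwa [Scheme.Hom.range_fiberι] at this)
    have h2 : (P.hom.fiber (closedPoint R)).presheaf.germ (i ⁻¹ᵁ V) w hwV (i.app V a) ∈ maximalIdeal _ := by
      rw [← Scheme.Hom.germ_stalkMap_apply]
      exact fun hu => hm' (isUnit_of_map_unit (i.stalkMap w).hom _ hu)
    by_contra hJa
    refine h2 ((Scheme.mem_basicOpen _ _ w hwV).1 ?_)
    change (⟨J, hJ⟩ : PrimeSpectrum _) ∈ ((P.hom.fiber (closedPoint R)).fromSpecStalk z) ⁻¹ᵁ Scheme.basicOpen _ (i.app V a)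
    rw [Scheme.preimage_basicOpen, Scheme.fromSpecStalk_app (show z ∈ i ⁻¹ᵁ V from hxV)]
    simp only [CommRingCat.comp_apply, Scheme.basicOpen_res]
    rw [basicOpen_eq_of_affine']
    refine ⟨hwV, ?_⟩
    simp only [Iso.inv_hom_id_apply]
    rw [← Scheme.Hom.germ_stalkMap_apply]
    exact hJa
  exact hnil.eq_zero


/-- Let R be a discrete valuation ring with fraction field K, let X and Y be schemes flat over Spec R
and let π : Y → X be a proper morphism over Spec R whose base change along Spec K → Spec R is an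
isomorphism. If the fibre of X over the closed point of Spec R is reduced, then the canonical map
O_X → π_* O_Y is an isomorphism: for every open V ⊆ X the ring map O_X(V) → O_Y(π⁻¹ V) is bijective. -/
theorem result
    (R : Type u) [CommRing R] [IsDomain R] [IsDiscreteValuationRing R]
    (X Y : Over (Spec (CommRingCat.of R))) [Flat X.hom] [Flat Y.hom]
    (π : Y ⟶ X) [IsProper π.left]
    (hgen : IsIso ((Neron.genericFibre R).map π))
    [IsReduced (X.hom.fiber (IsLocalRing.closedPoint R))] :
    ∀ V : X.left.Opens, IsIso (π.left.app V) := by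
  obtain ⟨ϖ, hϖ⟩ := IsDiscreteValuationRing.exists_irreducible R
  have hm : IsLocalRing.maximalIdeal R = Ideal.span {ϖ} := hϖ.maximalIdeal_eq
  have hreg : IsSMulRegular R ϖ := fun a b h => mul_left_cancel₀ hϖ.ne_zero h
  haveI hloc : IsLocalization.Away ϖ (FractionRing R) := by
    constructor; constructor
    · rintro ⟨_, n, rfl⟩
      rw [map_pow]
      exact (IsUnit.mk0 _ ((map_ne_zero_iff _ (IsFractionRing.injective R _)).2 hϖ.ne_zero)).pow n
    · intro z
      obtain ⟨⟨a, b⟩, hab⟩ := IsLocalization.surj (nonZeroDivisors R) z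
      obtain ⟨n, u, hu⟩ := IsDiscreteValuationRing.eq_unit_mul_pow_irreducible (nonZeroDivisors.ne_zero b.2) hϖ
      refine ⟨⟨a * ↑u⁻¹, ⟨ϖ ^ n, n, rfl⟩⟩, ?_⟩
      rw [map_mul, ← hab, mul_assoc, ← map_mul, hu, mul_comm (u : R), mul_assoc, Units.mul_inv, mul_one]
    · intro a b h
      exact ⟨1, by rw [OneMemClass.coe_one, one_mul, one_mul]; exact IsFractionRing.injective R _ h⟩
  haveI hgo : IsOpenImmersion (Neron.genPt R) := IsOpenImmersion.of_isLocalization ϖ
  let f := π.left
  let j := Limits.pullback.fst X.hom (Neron.genPt R)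
  haveI hj : IsOpenImmersion j := inferInstance
  haveI hiso : IsIso (f ∣_ j.opensRange) := by
    let m := ((Neron.genericFibre R).map π).left
    haveI : IsIso m := inferInstanceAs (IsIso ((Over.forget _).map ((Neron.genericFibre R).map π)))
    have hsq : IsPullback (Limits.pullback.fst Y.hom (Neron.genPt R)) m f j := by
      refine IsPullback.of_bot ?_ (Limits.pullback.lift_fst _ _ _).symm (IsPullback.of_hasPullback X.hom (Neron.genPt R))
      rw [Over.w π]
      have : m ≫ Limits.pullback.snd X.hom (Neron.genPt R) = Limits.pullback.snd Y.hom (Neron.genPt R) :=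
        Limits.pullback.lift_snd _ _ _
      rw [this]
      exact IsPullback.of_hasPullback Y.hom (Neron.genPt R)
    haveI : IsIso (Limits.pullback.snd f j) := by
      rw [← hsq.isoPullback_inv_snd]
      infer_instance
    exact (MorphismProperty.arrow_mk_iso_iff (MorphismProperty.isomorphisms Scheme) (morphismRestrictOpensRange f j)).2 ‹_›
  have hO : j.opensRange = X.left.basicOpen (gl X ϖ) := by
    have h1 : Set.range j = X.hom ⁻¹' Set.range (Neron.genPt R) := Scheme.Pullback.range_fst ..
    have h2 : Set.range (Neron.genPt R) = (PrimeSpectrum.basicOpen ϖ : Set (PrimeSpectrum R)) :=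
      PrimeSpectrum.localization_away_comap_range (FractionRing R) ϖ
    ext1
    change Set.range j = _
    rw [h1, h2, ← Scheme.preimage_basicOpen_top, basicOpen_eq_of_affine']
    simp only [Iso.inv_hom_id_apply]
    rfl
  have hlow : ∀ W : X.left.Opens, W ≤ j.opensRange → Function.Bijective (f.app W) := by
    intro W hW
    haveI : IsIso ((f ∣_ j.opensRange).app (j.opensRange.ι ⁻¹ᵁ W)) := inferInstance
    have h1 := ConcreteCategory.bijective_of_isIso ((f ∣_ j.opensRange).app (j.opensRange.ι ⁻¹ᵁ W))
    rw [morphismRestrict_app] at h1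
    have hW' : j.opensRange.ι ''ᵁ j.opensRange.ι ⁻¹ᵁ W = W := by
      rw [Scheme.Hom.image_preimage_eq_opensRange_inf, Scheme.Opens.opensRange_ι, inf_eq_right.2 hW]
    have h2 : Function.Bijective (f.app (j.opensRange.ι ''ᵁ j.opensRange.ι ⁻¹ᵁ W)) := by
      change Function.Bijective (ConcreteCategory.hom (Y.left.presheaf.map _) ∘ ConcreteCategory.hom (f.app _)) at h1
      exact (Function.Bijective.of_comp_iff' (ConcreteCategory.bijective_of_isIso _) _).1 h1
    rwa [hW'] at h2
  have hnzd : ∀ (W : Y.left.Opens) (g : Γ(Y.left, W)),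
      Y.left.presheaf.map (homOfLE le_top).op (gl Y ϖ) * g = 0 → g = 0 := smul_inj Y hreg
  have hglY : ∀ V : X.left.Opens, f.app V (X.left.presheaf.map (homOfLE le_top).op (gl X ϖ)) =
      Y.left.presheaf.map (homOfLE le_top).op (gl Y ϖ) := by
    intro V
    have h1 := ConcreteCategory.congr_hom (f.naturality (homOfLE (le_top : V ≤ ⊤)).op) (gl X ϖ)
    refine h1.trans ?_
    rw [ConcreteCategory.comp_apply]
    have h2 : f.appTop (gl X ϖ) = gl Y ϖ := by
      rw [gl, gl, ← Over.w π, Scheme.Hom.comp_appTop, ConcreteCategory.comp_apply]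
    exact congrArg (Y.left.presheaf.map _) h2
  have haff : ∀ V : X.left.affineOpens, IsIso (f.app V) := by
    intro ⟨V, hV⟩
    rw [ConcreteCategory.isIso_iff_bijective]
    let t := X.left.presheaf.map (homOfLE (le_top : V ≤ ⊤)).op (gl X ϖ)
    have ht : X.left.basicOpen t ≤ j.opensRange := by
      rw [hO, Scheme.basicOpen_res]; exact inf_le_right
    have hbij := hlow _ ht
    have hs : f.app V t = Y.left.presheaf.map (homOfLE le_top).op (gl Y ϖ) := hglY V
    have hYloc : IsLocalization.Away (f.app V t) Γ(Y.left, Y.left.basicOpen (f.app V t)) :=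
      isLocalization_basicOpen_of_qcqs (QuasiCompact.isCompact_preimage (f := f) _ V.2 hV.isCompact)
        (f.isQuasiSeparated_preimage hV.isQuasiSeparated) _
    have hXloc : IsLocalization.Away t Γ(X.left, X.left.basicOpen t) := hV.isLocalization_basicOpen t
    have hsq : ∀ a, f.app (X.left.basicOpen t) (X.left.presheaf.map (homOfLE (X.left.basicOpen_le t)).op a) =
        Y.left.presheaf.map (homOfLE (show f ⁻¹ᵁ X.left.basicOpen t ≤ f ⁻¹ᵁ V from
          fun y hy => X.left.basicOpen_le t hy)).op (f.app V a) := fun a =>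
      ConcreteCategory.congr_hom (f.naturality (homOfLE (X.left.basicOpen_le t)).op) a
    have hinj : ∀ a, f.app V a = 0 → a = 0 := by
      intro a ha
      have h1 := hsq a
      rw [ha, map_zero] at h1
      have h2 := (map_eq_zero_iff _ hbij.1).1 h1
      obtain ⟨⟨_, n, rfl⟩, hn⟩ := (IsLocalization.map_eq_zero_iff (Submonoid.powers t) Γ(X.left, X.left.basicOpen t) a).1 h2
      clear h1 h2
      change t ^ n * a = 0 at hn
      induction n with
      | zero => rwa [pow_zero, one_mul] at hn
      | succ n ih =>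
        rw [pow_succ', mul_assoc] at hn
        exact ih (smul_inj X hreg V _ hn)
    refine ⟨(injective_iff_map_eq_zero _).2 hinj, fun g => ?_⟩
    -- some power times g comes from below
    have hpre : f ⁻¹ᵁ X.left.basicOpen t = Y.left.basicOpen (f.app V t) := Scheme.preimage_basicOpen ..
    obtain ⟨n, a, ha⟩ : ∃ (n : ℕ) (a : Γ(X.left, V)), f.app V a = f.app V t ^ n * g := by
      obtain ⟨c, hc⟩ := hbij.2 (Y.left.presheaf.map (homOfLE (show f ⁻¹ᵁ X.left.basicOpen t ≤ f ⁻¹ᵁ V from
          fun y hy => X.left.basicOpen_le t hy)).op g)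
      obtain ⟨⟨a, _, n, rfl⟩, han⟩ := IsLocalization.surj (Submonoid.powers t) c
      change c * X.left.presheaf.map (homOfLE (X.left.basicOpen_le t)).op (t ^ n) =
        X.left.presheaf.map (homOfLE (X.left.basicOpen_le t)).op a at han
      have h1 := congrArg (f.app (X.left.basicOpen t)) han
      rw [map_mul, hc, hsq, hsq, ← map_mul] at h1
      have h2 := congrArg (Y.left.presheaf.map (eqToHom hpre.symm).op) h1
      have hres : ∀ w : Γ(Y.left, f ⁻¹ᵁ V), Y.left.presheaf.map (eqToHom hpre.symm).op
          (Y.left.presheaf.map (homOfLE (show f ⁻¹ᵁ X.left.basicOpen t ≤ f ⁻¹ᵁ V from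
            fun y hy => X.left.basicOpen_le t hy)).op w) = algebraMap _ Γ(Y.left, Y.left.basicOpen (f.app V t)) w := fun w =>
        (ConcreteCategory.comp_apply _ _ _).symm.trans (ConcreteCategory.congr_hom (Y.left.presheaf.map_comp _ _).symm w)
      rw [hres, hres] at h2
      obtain ⟨⟨_, m, rfl⟩, hm'⟩ := (IsLocalization.eq_iff_exists (Submonoid.powers (f.app V t))
        Γ(Y.left, Y.left.basicOpen (f.app V t))).1 h2
      refine ⟨m + n, t ^ m * a, ?_⟩
      rw [map_mul, map_pow, pow_add, mul_assoc]
      refine hm'.symm.trans ?_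
      change f.app V t ^ m * (g * f.app V (t ^ n)) = _
      rw [map_pow, mul_comm g]
    -- descend the exponent
    induction n generalizing a with
    | zero => exact ⟨a, by rwa [pow_zero, one_mul] at ha⟩
    | succ n ih =>
      obtain ⟨b, hb⟩ := exists_mul_of_forall hm hV a (fun x hx hxs => by
        obtain ⟨y, rfl⟩ : x ∈ Set.range f := by
          by_contra hno
          obtain ⟨_, ⟨W, hW, rfl⟩, hxW, hWV⟩ := X.left.isBasis_affineOpens.exists_subset_of_mem_open
            (show x ∈ (Set.range f)ᶜ from hno) f.isClosedMap.isClosed_range.isOpen_compl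
          let tW := X.left.presheaf.map (homOfLE (le_top : W ≤ ⊤)).op (gl X ϖ)
          have he : X.left.basicOpen tW = ⊥ := by
            refine le_bot_iff.1 fun y hy => ?_
            have hy' : y ∈ j.opensRange := by
              rw [hO]
              rw [Scheme.basicOpen_res] at hy
              exact hy.2
            obtain ⟨z, hz⟩ := (f ∣_ j.opensRange).surjective ⟨y, hy'⟩
            exact hWV (show y ∈ W from X.left.basicOpen_le tW hy)
              ⟨z.1, by have := congrArg Subtype.val hz; rwa [morphismRestrict_base_coe] at this⟩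
          obtain ⟨m, hm1⟩ : IsNilpotent tW := by
            refine PrimeSpectrum.basicOpen_eq_bot_iff _ |>.1 ?_
            rw [← hW.fromSpec_preimage_basicOpen, he]
            exact Scheme.Hom.preimage_bot _
          have h1 : (1 : Γ(X.left, W)) = 0 := by
            clear he
            induction m with
            | zero => rwa [pow_zero] at hm1
            | succ m ih => exact ih (smul_inj X hreg W _ (by rwa [pow_succ'] at hm1))
          have := congrArg (X.left.presheaf.germ W x hxW) h1
          rw [map_one, map_zero] at this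
          exact one_ne_zero this
        intro hu
        have h1 := congrArg (Y.left.presheaf.germ (f ⁻¹ᵁ V) y hx) ha
        rw [pow_succ', mul_assoc, map_mul, ← Scheme.Hom.germ_stalkMap_apply] at h1
        have h2 : IsUnit (Y.left.presheaf.germ (f ⁻¹ᵁ V) y hx (f.app V t)) :=
          isUnit_of_mul_isUnit_left (h1 ▸ hu.map (f.stalkMap y).hom)
        rw [← Scheme.Hom.germ_stalkMap_apply] at h2
        have h3 := isUnit_of_map_unit (f.stalkMap y).hom _ h2
        have h4 : f.base y ∈ X.left.basicOpen t := (Scheme.mem_basicOpen _ t _ hx).2 h3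
        rw [Scheme.basicOpen_res, ← Scheme.preimage_basicOpen_top, basicOpen_eq_of_affine'] at h4
        have h5 := h4.2
        simp only [Iso.inv_hom_id_apply] at h5
        exact h5 (hxs ▸ (show ϖ ∈ IsLocalRing.maximalIdeal R from hm ▸ Ideal.mem_span_singleton_self ϖ)))
      refine ih b ?_
      refine sub_eq_zero.1 (hnzd _ _ ?_)
      rw [← hs, mul_sub, ← map_mul, ← hb, ha, pow_succ', mul_assoc, sub_self]
  intro V
  let F : X.left.sheaf ⟶ (TopCat.Sheaf.pushforward CommRingCat f.base).obj Y.left.sheaf := ⟨f.c⟩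
  haveI : IsIso F := TopCat.Sheaf.isIso_iff_isIso_basis
    (B := fun V : X.left.affineOpens => V.1) (by rw [Subtype.range_coe]; exact X.left.isBasis_affineOpens) haff
  exact inferInstanceAs (IsIso ((TopCat.Sheaf.forget CommRingCat _).map F |>.app (Opposite.op V)))

end Groth.Agent.S13746
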