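import Groth.Statements.S13749
-- import your own Groth.Agent.* helpers here
import Groth.Agent.Lib.SpreadOut.Glue
import Groth.Agent.Lib.SchDense.CIntDense
import Groth.Agent.Lib.GrpSchField.Neron
import Groth.Agent.Lib.FFDesc.Basic
import Mathlib.AlgebraicGeometry.Sites.Fpqc

set_option autoImplicit false
universe u
open CategoryTheory AlgebraicGeometry
open Neron

namespace Groth.Agent.S13749

/-- Let S be a locally Noetherian scheme, U ⊆ S a schematically dense open subscheme, N → S a smooth
separated morphism of finite type and g : S' → S a flat surjective morphism, and put U' = g⁻¹(U).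
Suppose the base change N ×_S S' → S' has the Néron mapping property with respect to U': for every
smooth S'-scheme Y', sending an S'-morphism Y' → N ×_S S' to its restriction over U' is a bijection
onto the U'-morphisms Y' ×_{S'} U' → (N ×_S S') ×_{S'} U'. Then N → S has the Néron mapping property
with respect to U: for every smooth S-scheme Y, restriction to U is a bijection from S-morphisms Y →
N onto U-morphisms Y ×_S U → N ×_S U. (The published statement is for an arbitrary base S and open
U, with N an algebraic space which is a model of an abelian scheme over U, tested against smooth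
schemes; this row takes N a scheme, drops the abelian-scheme hypothesis, and assumes S locally
Noetherian with U schematically dense, the setting in which schematic closures of U-sections commute
with flat base change and fill S'.) -/
theorem result
    {S S' : Scheme.{u}} [IsLocallyNoetherian S] (g : S' ⟶ S) [Flat g] [Surjective g]
    (U : S.Opens) (hU : CInt.IsSchematicallyDense U)
    (N : Over S) [Smooth N.hom] [IsSeparated N.hom] [QuasiCompact N.hom]
    (hN' : ∀ Y' : Over S', Smooth Y'.hom →
      Function.Bijective (fun f : Y' ⟶ (Over.pullback g).obj N => (Over.pullback (g ⁻¹ᵁ U).ι).map f))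
    (Y : Over S) [Smooth Y.hom] :
    Function.Bijective (fun f : Y ⟶ N => (Over.pullback U.ι).map f) := by
  open CategoryTheory.Limits in
  exact (GrothLib.GrpSchField.bijective_pullback_map_iff _ Y N).mpr (by
    haveI := GrothLib.SchDense.isSchemeTheoreticallyDominant_ι hU
    let j := pullback.fst Y.hom U.ι
    haveI : QuasiCompact j := MorphismProperty.pullback_fst (P := @QuasiCompact) _ _ inferInstance
    haveI : IsLocallyNoetherian (pullback Y.hom U.ι) :=
      LocallyOfFiniteType.isLocallyNoetherian (pullback.snd Y.hom U.ι)
    haveI : IsSchemeTheoreticallyDominant j := inferInstance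
    intro φ hφ
    let U' := g ⁻¹ᵁ U
    let q := pullback.fst Y.hom g
    have hsm : Smooth (pullback.snd Y.hom g) := MorphismProperty.pullback_snd (P := @Smooth) _ _ inferInstance
    have hU' := (GrothLib.GrpSchField.bijective_pullback_map_iff U'.ι ((Over.pullback g).obj Y)
      ((Over.pullback g).obj N)).mp (hN' _ hsm)
    let P' := pullback (pullback.snd Y.hom g) U'.ι
    let t1 : P' ⟶ pullback Y.hom g := pullback.fst _ _
    let t2 : P' ⟶ U'.toScheme := pullback.snd _ _
    have ht : t1 ≫ pullback.snd Y.hom g = t2 ≫ U'.ι := pullback.condition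
    let θ : P' ⟶ pullback Y.hom U.ι := pullback.lift (t1 ≫ q) (t2 ≫ (g ∣_ U)) (by
      rw [Category.assoc, pullback.condition, Category.assoc, morphismRestrict_ι]
      exact (reassoc_of% ht) g)
    have hθj : θ ≫ j = t1 ≫ q := pullback.lift_fst _ _ _
    let φ' : P' ⟶ pullback N.hom g := pullback.lift (θ ≫ φ) (t1 ≫ pullback.snd Y.hom g) (by
      rw [Category.assoc, hφ, reassoc_of% hθj, pullback.condition, Category.assoc])
    obtain ⟨F', ⟨hF1, hF2⟩, -⟩ := hU' φ' (pullback.lift_snd _ _ _)
    let F : pullback Y.hom g ⟶ N.left := F' ≫ pullback.fst N.hom g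
    have hFN : F ≫ N.hom = q ≫ Y.hom := by
      rw [Category.assoc, pullback.condition, ← Category.assoc,
        show F' ≫ pullback.snd N.hom g = pullback.snd Y.hom g from hF1, pullback.condition]
    have hFφ : pullback.fst j q ≫ φ = pullback.snd j q ≫ F := by
      let r1 : pullback j q ⟶ pullback Y.hom U.ι := pullback.fst _ _
      let r2 : pullback j q ⟶ pullback Y.hom g := pullback.snd _ _
      have hr : r1 ≫ j = r2 ≫ q := pullback.condition
      let u : pullback j q ⟶ U'.toScheme := (isPullback_morphismRestrict g U).lift
        (r1 ≫ pullback.snd Y.hom U.ι) (r2 ≫ pullback.snd Y.hom g) (by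
          rw [Category.assoc, ← pullback.condition, Category.assoc, ← pullback.condition]
          exact (reassoc_of% hr) _)
      have hu1 : u ≫ (g ∣_ U) = r1 ≫ pullback.snd Y.hom U.ι := (isPullback_morphismRestrict g U).lift_fst _ _ _
      have hu2 : u ≫ U'.ι = r2 ≫ pullback.snd Y.hom g := (isPullback_morphismRestrict g U).lift_snd _ _ _
      let ω : pullback j q ⟶ P' := pullback.lift r2 u hu2.symm
      have hω1 : ω ≫ t1 = r2 := pullback.lift_fst _ _ _
      have hω2 : ω ≫ t2 = u := pullback.lift_snd _ _ _
      have hω : ω ≫ θ = r1 := by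
        apply pullback.hom_ext
        · rw [Category.assoc, hθj, reassoc_of% hω1]
          exact hr.symm
        · rw [Category.assoc, show θ ≫ pullback.snd Y.hom U.ι = t2 ≫ (g ∣_ U) from pullback.lift_snd _ _ _,
            reassoc_of% hω2, hu1]
      show r1 ≫ φ = r2 ≫ F' ≫ pullback.fst N.hom g
      rw [← hω, Category.assoc, ← show φ' ≫ pullback.fst N.hom g = θ ≫ φ from pullback.lift_fst _ _ _,
        ← hF2, Category.assoc]
      exact (reassoc_of% hω1) _
    haveI : Flat q := MorphismProperty.pullback_fst (P := @Flat) _ _ inferInstance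
    haveI : Surjective q := MorphismProperty.pullback_fst (P := @Surjective) _ _ inferInstance
    obtain ⟨G, hG1, hG2⟩ := GrothLib.SpreadOut.exists_extension j Y.hom N.hom φ hφ fun y => by
      obtain ⟨y', rfl⟩ := q.surjective y
      let a := Spec.map (q.stalkMap y')
      obtain ⟨h1, h2⟩ := GrothLib.FFDesc.surjective_SpecMap_stalkMap q y'
      haveI : Surjective a := h1
      haveI : Flat a := h2
      have ha : a ≫ Y.left.fromSpecStalk (q y') = (pullback Y.hom g).fromSpecStalk y' ≫ q :=
        Scheme.SpecMap_stalkMap_fromSpecStalk q
      haveI := GrothLib.FFDesc.flat_fromSpecStalk' Y.left (q y')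
      let e := (pullback Y.hom g).fromSpecStalk y' ≫ F
      have heN : e ≫ N.hom = a ≫ Y.left.fromSpecStalk (q y') ≫ Y.hom := by
        rw [Category.assoc, hFN, reassoc_of% ha]
      have key : ∀ {Z : Scheme.{u}} (z : Z ⟶ Spec ((pullback Y.hom g).presheaf.stalk y'))
          (u : Z ⟶ pullback Y.hom U.ι), u ≫ j = z ≫ a ≫ Y.left.fromSpecStalk (q y') → u ≫ φ = z ≫ e := by
        intro Z z u hu
        rw [ha] at hu
        let m := pullback.lift u (z ≫ (pullback Y.hom g).fromSpecStalk y') (hu.trans (Category.assoc _ _ _).symm)
        have hm1 : m ≫ pullback.fst j q = u := pullback.lift_fst _ _ _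
        have hm2 : m ≫ pullback.snd j q = z ≫ (pullback Y.hom g).fromSpecStalk y' := pullback.lift_snd _ _ _
        rw [← hm1, Category.assoc, hFφ, reassoc_of% hm2]
      let c₁ := pullback.fst a a
      let c₂ := pullback.snd a a
      let w := c₁ ≫ a ≫ Y.left.fromSpecStalk (q y')
      haveI : Flat w := inferInstanceAs (Flat (pullback.fst a a ≫ a ≫ Y.left.fromSpecStalk (q y')))
      have hw : w = c₂ ≫ a ≫ Y.left.fromSpecStalk (q y') := pullback.condition_assoc _
      have hce : c₁ ≫ e = c₂ ≫ e := by
        refine GrothLib.SchDense.ext_of_schDominant N.hom ?_ (pullback.snd j w) ?_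
        · rw [Category.assoc c₁ e, Category.assoc c₂ e, heN, ← Category.assoc, ← Category.assoc c₂]
          exact congrArg (· ≫ Y.left.fromSpecStalk (q y') ≫ Y.hom) pullback.condition
        · have e1 := key (pullback.snd j w ≫ c₁) (pullback.fst j w) (by
            rw [pullback.condition, Category.assoc])
          have e2 := key (pullback.snd j w ≫ c₂) (pullback.fst j w) (by
            rw [pullback.condition, hw, Category.assoc])
          simp only [Category.assoc] at e1 e2
          exact e1.symm.trans e2
      let ψ := EffectiveEpi.desc a e (fun g₁ g₂ hg => by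
        have e1 : pullback.lift g₁ g₂ hg ≫ c₁ = g₁ := pullback.lift_fst _ _ _
        have e2 : pullback.lift g₁ g₂ hg ≫ c₂ = g₂ := pullback.lift_snd _ _ _
        exact (congrArg (· ≫ e) e1.symm).trans ((Category.assoc _ _ _).trans ((congrArg (pullback.lift g₁ g₂ hg ≫ ·) hce).trans
          ((Category.assoc _ _ _).symm.trans (congrArg (· ≫ e) e2)))))
      have hψ : a ≫ ψ = e := EffectiveEpi.fac _ _ _
      refine ⟨ψ, by rw [← cancel_epi a, reassoc_of% hψ, heN], ?_⟩
      let R := pullback j (Y.left.fromSpecStalk (q y'))
      haveI : Surjective (pullback.fst (pullback.snd j (Y.left.fromSpecStalk (q y'))) a) :=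
        MorphismProperty.pullback_fst (P := @Surjective) _ _ inferInstance
      haveI : Flat (pullback.fst (pullback.snd j (Y.left.fromSpecStalk (q y'))) a) :=
        MorphismProperty.pullback_fst (P := @Flat) _ _ inferInstance
      haveI : QuasiCompact (pullback.fst (pullback.snd j (Y.left.fromSpecStalk (q y'))) a) :=
        MorphismProperty.pullback_fst (P := @QuasiCompact) _ _ inferInstance
      rw [← cancel_epi (pullback.fst (pullback.snd j (Y.left.fromSpecStalk (q y'))) a),
        pullback.condition_assoc, hψ]
      rw [← Category.assoc]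
      exact key _ _ (by
        rw [Category.assoc, pullback.condition (f := j) (g := Y.left.fromSpecStalk (q y')), pullback.condition_assoc])
    exact ⟨G, ⟨hG1, hG2⟩, fun G' hG' => GrothLib.SchDense.ext_of_schDominant N.hom (hG'.1.trans hG1.symm) j
      (hG'.2.trans hG2.symm)⟩)

end Groth.Agent.S13749
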