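import Groth.Statements.S1375
import Groth.Agent.Lib.QFSlice.Slice
-- import your own Groth.Agent.* helpers here

set_option autoImplicit false
universe u
open FlatMor

namespace Groth.Agent.S1375

open AlgebraicGeometry CategoryTheory Limits in
/-- Let S' → S be flat, locally of finite presentation and surjective (an fppf cover by one morphism).
Then there is a flat, locally of finite presentation, locally quasi-finite and surjective T → S
which factors through S' locally on T. -/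
theorem result {S' S : Scheme.{u}} (g : S' ⟶ S) [Flat g] [LocallyOfFinitePresentation g] [Surjective g] :
    ∃ (T : Scheme.{u}) (h : T ⟶ S), Flat h ∧ LocallyOfFinitePresentation h ∧ LocallyQuasiFinite h ∧ Surjective h ∧
      ∀ t : ↑T, ∃ (V : T.Opens) (r : ↑V ⟶ S'), t ∈ V ∧ r ≫ g = V.ι ≫ h := by
  classical
  have key : ∀ s : S, ∃ (W : Scheme.{u}) (h : W ⟶ S) (r : W ⟶ S'), r ≫ g = h ∧ Flat h ∧
      LocallyOfFinitePresentation h ∧ LocallyQuasiFinite h ∧ s ∈ Set.range h := by
    intro s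
    obtain ⟨x, rfl⟩ := g.surjective s
    obtain ⟨_, ⟨U, hU, rfl⟩, hxU, -⟩ :=
      S.isBasis_affineOpens.exists_subset_of_mem_open (Set.mem_univ (g x)) isOpen_univ
    obtain ⟨_, ⟨V, hV, rfl⟩, hxV, hVU⟩ :=
      S'.isBasis_affineOpens.exists_subset_of_mem_open hxU (U.2.preimage g.continuous)
    algebraize [(g.appLE U V hVU).hom]
    have : Algebra.FinitePresentation Γ(S, U) Γ(S', V) :=
      HasRingHomProperty.appLE (P := @LocallyOfFinitePresentation) g inferInstance ⟨U, hU⟩ ⟨V, hV⟩ hVU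
    have : Module.Flat Γ(S, U) Γ(S', V) :=
      HasRingHomProperty.appLE (P := @Flat) g inferInstance ⟨U, hU⟩ ⟨V, hV⟩ hVU
    let p := hU.primeIdealOf ⟨g x, hVU hxV⟩
    have hp : PrimeSpectrum.comap (algebraMap Γ(S, U) Γ(S', V)) (hV.primeIdealOf ⟨x, hxV⟩) = p :=
      IsAffineOpen.comap_primeIdealOf_appLE (f := g) (x := x) U hU V hV hVU hxV
    have : Nontrivial (TensorProduct Γ(S, U) p.asIdeal.ResidueField Γ(S', V)) :=
      (PrimeSpectrum.nontrivial_iff_mem_rangeComap (R := Γ(S, U)) (S := Γ(S', V)) p).2 ⟨_, hp⟩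
    obtain ⟨D, _, _, hDfp, hDfl, hDqf, ⟨ψ⟩, P, hP, hPp⟩ :=
      GrothLib.QFSlice.exists_piece Γ(S, U) Γ(S', V) p.asIdeal
    refine ⟨Spec (CommRingCat.of D), Spec.map (CommRingCat.ofHom (algebraMap Γ(S, U) D)) ≫ hU.fromSpec,
      Spec.map (CommRingCat.ofHom ψ.toRingHom) ≫ hV.fromSpec, ?_, ?_, ?_, ?_, ⟨P, hP⟩, ?_⟩
    · rw [Category.assoc, ← hU.SpecMap_appLE_fromSpec g hV hVU, ← Spec.map_comp_assoc]
      congr 2
      exact CommRingCat.hom_ext ψ.comp_algebraMap
    · have : Flat (Spec.map (CommRingCat.ofHom (algebraMap Γ(S, U) D))) :=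
        (HasRingHomProperty.Spec_iff (P := @Flat)).2 (RingHom.flat_algebraMap_iff.2 hDfl)
      infer_instance
    · have : LocallyOfFinitePresentation (Spec.map (CommRingCat.ofHom (algebraMap Γ(S, U) D))) :=
        (HasRingHomProperty.Spec_iff (P := @LocallyOfFinitePresentation)).2
          (RingHom.finitePresentation_algebraMap.2 hDfp)
      infer_instance
    · have : LocallyQuasiFinite (Spec.map (CommRingCat.ofHom (algebraMap Γ(S, U) D))) :=
        (HasRingHomProperty.Spec_iff (P := @LocallyQuasiFinite)).2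
          (RingHom.quasiFinite_algebraMap.2 hDqf)
      infer_instance
    · have h1 : Spec.map (CommRingCat.ofHom (algebraMap Γ(S, U) D)) ⟨P, hP⟩ = p :=
        PrimeSpectrum.ext hPp
      rw [Scheme.Hom.comp_apply, h1]
      exact hU.fromSpec_primeIdealOf ⟨g x, hVU hxV⟩
  choose W h r hr hfl hfp hqf hs using key
  refine ⟨∐ W, Sigma.desc h, ?_, ?_, ?_, ⟨fun s => ?_⟩, fun t => ?_⟩
  · exact IsZariskiLocalAtSource.sigmaDesc (P := @Flat) hfl
  · exact IsZariskiLocalAtSource.sigmaDesc (P := @LocallyOfFinitePresentation) hfp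
  · exact IsZariskiLocalAtSource.sigmaDesc (P := @LocallyQuasiFinite) hqf
  · obtain ⟨w, hw⟩ := hs s
    exact ⟨Sigma.ι W s w, by rw [← Scheme.Hom.comp_apply, Sigma.ι_desc]; exact hw⟩
  · refine ⟨⊤, (⊤ : (∐ W).Opens).ι ≫ Sigma.desc r, trivial, ?_⟩
    rw [Category.assoc]
    congr 1
    exact Sigma.hom_ext _ _ fun s => by simp [hr]

end Groth.Agent.S1375
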