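import Groth.Statements.S13750
import Groth.Agent.Lib.NeronLoc10.Basic
import Groth.Agent.Lib.SchDense.Basic

set_option autoImplicit false
universe u
open CategoryTheory AlgebraicGeometry
open Neron

namespace Groth.Agent.S13750

/-- Let S be a locally Noetherian scheme, U ⊆ S an open subscheme and N → S a smooth separated morphism
of finite type having the Néron mapping property with respect to U: for every smooth S-scheme Y,
restriction to U is a bijection from S-morphisms Y → N onto U-morphisms Y ×_S U → N ×_S U. Let s be
a point of S and S̃ = Spec O_{S,s} → S the canonical morphism. Then N ×_S S̃ → S̃ has the Néron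
mapping property with respect to the preimage Ũ of U: for every smooth S̃-scheme Ỹ, restriction to Ũ
is a bijection from S̃-morphisms Ỹ → N ×_S S̃ onto Ũ-morphisms. (The published statement is for N an
algebraic space which is a Néron model of an abelian scheme over U and also covers the strict
henselisation at a geometric point; this row is the localisation case for a scheme N, with no
abelian-scheme hypothesis.) -/
theorem result
    {S : Scheme.{u}} [IsLocallyNoetherian S] (U : S.Opens)
    (N : Over S) [Smooth N.hom] [IsSeparated N.hom] [QuasiCompact N.hom]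
    (hN : ∀ Y : Over S, Smooth Y.hom →
      Function.Bijective (fun f : Y ⟶ N => (Over.pullback U.ι).map f))
    (s : S) (Y' : Over (Spec (S.presheaf.stalk s))) [Smooth Y'.hom] :
    Function.Bijective (fun f : Y' ⟶ (Over.pullback (S.fromSpecStalk s)).obj N =>
      (Over.pullback ((S.fromSpecStalk s) ⁻¹ᵁ U).ι).map f) := by
  open CategoryTheory.Limits in
  have hU : ∀ {Z : Scheme.{u}} (z : Z ⟶ S), Smooth z →
      GrothLib.GrpSchField.UExt z N.hom (pullback.fst z U.ι) := fun z hz =>
    (GrothLib.GrpSchField.bijective_pullback_map_iff U.ι (Over.mk z) N).mp (hN (Over.mk z) hz)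
  open CategoryTheory.Limits in
  have hY : GrothLib.GrpSchField.UExt (Y'.hom ≫ S.fromSpecStalk s) N.hom
      (pullback.fst (Y'.hom ≫ S.fromSpecStalk s) U.ι) := by
    refine GrothLib.NeronLoc10.uext_of_affine _ _ _ fun {A} _ e _ => ?_
    haveI : Smooth Y'.hom := ‹_›
    let f : A ⟶ (GrothLib.EtDescent21.nhdCone s).pt := e ≫ Y'.hom
    haveI hf : Smooth f := (MorphismProperty.comp_mem _ e Y'.hom (inferInstanceAs (Smooth e)) ‹_› : Smooth (e ≫ Y'.hom))
    haveI : IsAffine (GrothLib.EtDescent21.nhdCone s).pt := inferInstanceAs (IsAffine (Spec (S.presheaf.stalk s)))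
    haveI : IsAffineHom f := isAffineHom_of_isAffine f
    have h' := GrothLib.NeronLoc10.uext_stalk U N.hom hU s f
    have e0 : f ≫ S.fromSpecStalk s = e ≫ Y'.hom ≫ S.fromSpecStalk s := Category.assoc _ _ _
    rw [e0] at h'
    exact h'
  have h := (GrothLib.GrpSchField.bijective_pullback_map_iff U.ι (Over.mk (Y'.hom ≫ S.fromSpecStalk s)) N).mpr hY
  exact ⟨GrothLib.SchDense.injective_baseChange (AlgebraicGeometry.isPullback_morphismRestrict (S.fromSpecStalk s) U).flip h.1,
    GrothLib.SchDense.surjective_baseChange (AlgebraicGeometry.isPullback_morphismRestrict (S.fromSpecStalk s) U).flip h.2⟩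

end Groth.Agent.S13750
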