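import Groth.Statements.S13757
import Groth.Agent.Lib.LabGraph.Basic

set_option autoImplicit false
universe u
open LabGraph

namespace Groth.Agent.S13757

/-- Let G be a finite connected multigraph (loops and multiple edges allowed) with vertex set V, edge
set E, endpoint map E → V × V and a labelling of the edges by positive integers l. A vertex
labelling φ : V → ℤ is Cartier when l(e) divides the difference of the values of φ at the two
endpoints of every edge e; its multidegree is the vertex labelling whose value at v is the sum, over
the edge-ends at v, of (value of φ at the other endpoint − φ(v)) / l(e). Then the Cartier vertex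
labellings of multidegree zero are exactly the constant ones: the kernel of the multidegree operator
on Cartier labellings is ℤ, embedded as the constants. -/
theorem result
    {V E : Type u} [Fintype V] [Fintype E] [DecidableEq V] [DecidableEq E]
    (ends : E → V × V) (l : E → ℕ) (hl : ∀ e, 0 < l e) (hconn : LabGraph.Connected ends)
    (φ : V → ℤ) (hφ : LabGraph.IsCartier ends l φ) :
    (∀ v : V, LabGraph.mdeg ends l φ v = 0) ↔ ∀ v w : V, φ v = φ w := by
  open GrothLib.LabGraph in
  constructor
  · intro h
    refine fun a b => eq_of_dlt_eq_zero hconn φ (fun e => ?_) a b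
    have hcyc : IsCyc ends (fun e => dlt ends φ e / (l e : ℤ)) :=
      (isCyc_iff_boundary _).mpr fun v => by
        have := h v
        rw [mdeg_eq hφ, neg_eq_zero] at this
        exact this
    have hd := isCartier_iff.mp hφ
    have h0 : ∑ e, dlt ends φ e / (l e : ℤ) * dlt ends φ e = 0 := hcyc φ
    have hnn : ∀ e ∈ Finset.univ, 0 ≤ dlt ends φ e / (l e : ℤ) * dlt ends φ e := fun e _ => by
      obtain ⟨c, hc⟩ := hd e
      rw [hc, Int.mul_ediv_cancel_left _ (by have := hl e; omega)]
      exact mul_nonneg_iff.mpr (by rcases le_total 0 c with h | h
                                   · exact Or.inl ⟨h, by positivity⟩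
                                   · exact Or.inr ⟨h, mul_nonpos_of_nonneg_of_nonpos (by positivity) h⟩)
    have h1 := (Finset.sum_eq_zero_iff_of_nonneg hnn).mp h0 e (Finset.mem_univ e)
    obtain ⟨c, hc⟩ := hd e
    rw [hc, Int.mul_ediv_cancel_left _ (by have := hl e; omega)] at h1
    rcases mul_eq_zero.mp h1 with h2 | h2
    · rw [hc, h2, mul_zero]
    · rw [hc, h2]
  · intro h v
    simp [LabGraph.mdeg, h _ v]

end Groth.Agent.S13757
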