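import Groth.Statements.S13759
import Groth.Agent.Lib.LabGraph.Blowup

set_option autoImplicit false
universe u
open LabGraph

namespace Groth.Agent.S13759

/-- Let G be a finite connected multigraph with vertex set V, edge set E, endpoint map E → V × V and
positive integer edge labels l, and let G̃ be its total blow-up graph: every edge e is replaced by a
path of l(e) edges through l(e) − 1 new vertices, all new edges labelled 1 (so every vertex
labelling of G̃ is Cartier and its multidegree is the sum over edge-ends of the differences of
values). Let H, resp. H̃, be the cokernel of the multidegree operator from Cartier vertex labellings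
of G to ℤ^V, resp. of G̃ to ℤ^Ṽ, and ε : H → H̃ the map induced by extending vertex labellings of G
by zero on the new vertices. Then ε is injective: if a vertex labelling α of G, extended by zero, is
the multidegree of some vertex labelling of G̃, then α is the multidegree of some Cartier vertex
labelling of G. -/
theorem result
    {V E : Type u} [Fintype V] [Fintype E] [DecidableEq V] [DecidableEq E]
    (ends : E → V × V) (l : E → ℕ) (hl : ∀ e, 0 < l e) (hconn : LabGraph.Connected ends)
    (α : V → ℤ) (ψ : LabGraph.BlVert V E l → ℤ)
    (hψ : ∀ w : LabGraph.BlVert V E l,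
      LabGraph.mdeg (LabGraph.blEnds ends l) (fun _ => 1) ψ w = Sum.elim α (fun _ => (0 : ℤ)) w) :
    ∃ φ : V → ℤ, LabGraph.IsCartier ends l φ ∧ ∀ v : V, LabGraph.mdeg ends l φ v = α v := by
  open GrothLib.LabGraph in
  have hstep : ∀ e j, j < l e → step ends l ψ e j = step ends l ψ e 0 := by
    intro e j
    induction j with
    | zero => exact fun _ => rfl
    | succ j ih =>
      intro hj
      have h := hψ (Sum.inr ⟨e, ⟨j, by omega⟩⟩)
      rw [blow_mdeg_inr] at h
      simp only [Sum.elim_inr] at h
      have := ih (by omega)
      linarith
  have hd : ∀ e, dlt ends (fun v => ψ (Sum.inl v)) e = (l e : ℤ) * step ends l ψ e 0 := fun e => by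
    rw [← sum_step hl, Finset.sum_congr rfl fun j hj => hstep e j (Finset.mem_range.mp hj)]
    simp
  have hC : LabGraph.IsCartier ends l (fun v => ψ (Sum.inl v)) :=
    isCartier_iff.mpr fun e => ⟨_, hd e⟩
  refine ⟨_, hC, fun v => ?_⟩
  have h := hψ (Sum.inl v)
  rw [blow_mdeg_inl hl, Sum.elim_inl] at h
  rw [mdeg_eq hC, ← h, LabGraph.boundary, ← Finset.sum_neg_distrib]
  refine Finset.sum_congr rfl fun e _ => ?_
  have := hl e
  rw [hd, Int.mul_ediv_cancel_left _ (by omega), hstep e (l e - 1) (by omega)]
  ring

end Groth.Agent.S13759
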