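import Groth.Statements.S1376
import Groth.Agent.Lib.FinEnv6.Stage
-- import your own Groth.Agent.* helpers here

set_option autoImplicit false
universe u
open FlatMor

namespace Groth.Agent.S1376

open AlgebraicGeometry CategoryTheory Limits in
/-- Let S be quasi-compact and quasi-separated, U a quasi-compact open of S and V → U a surjective
finite morphism. Then there is a surjective finite morphism V' → S whose base change to U is V (V is
the fibre product of V' and U over S). -/
theorem result {S V : Scheme.{u}} [CompactSpace ↑S] [QuasiSeparatedSpace ↑S] (U : S.Opens) (hU : IsCompact (U : Set ↑S))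
    (v : V ⟶ (U : Scheme.{u})) [IsFinite v] [Surjective v] :
    ∃ (V' : Scheme.{u}) (π : V' ⟶ S) (i : V ⟶ V'), Surjective π ∧ IsFinite π ∧ IsPullback i v π U.ι := by
    haveI : CompactSpace U.toScheme := isCompact_iff_compactSpace.mp hU
    haveI : QuasiCompact U.ι := ⟨fun W hW hWc => by
      rw [U.ι.isOpenEmbedding.isInducing.isCompact_iff, Set.image_preimage_eq_inter_range,
        Scheme.Opens.range_ι]
      exact QuasiSeparatedSpace.inter_isCompact _ _ hW hWc U.2 hU⟩
    obtain ⟨T, j, p, hj, hjc, hjd, hp, hjp⟩ := GrothLib.FinEnv6.exists_finite_envelope (v ≫ U.ι)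
    haveI : IsDominant j := inferInstance
    have hrange : Set.range j = p ⁻¹' (U : Set S) := by
      refine Set.Subset.antisymm ?_ fun y hy => ?_
      · rintro _ ⟨x, rfl⟩
        show p (j x) ∈ U
        rw [← Scheme.Hom.comp_apply, hjp]
        exact (v x).2
      · let j' : V ⟶ (p ⁻¹ᵁ U).toScheme := IsOpenImmersion.lift (p ⁻¹ᵁ U).ι j (by
          rw [Scheme.Opens.range_ι]
          rintro _ ⟨x, rfl⟩
          show p (j x) ∈ U
          rw [← Scheme.Hom.comp_apply, hjp]
          exact (v x).2)
        have hj' : j' ≫ (p ⁻¹ᵁ U).ι = j := IsOpenImmersion.lift_fac ..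
        have hv : j' ≫ (p ∣_ U) = v := by
          rw [← cancel_mono U.ι, Category.assoc, morphismRestrict_ι, reassoc_of% hj', hjp]
        haveI : IsFinite (j' ≫ (p ∣_ U)) := by rw [hv]; infer_instance
        haveI : IsFinite j' := MorphismProperty.of_postcomp @IsFinite (W' := @IsSeparated) j' (p ∣_ U)
          inferInstance inferInstance
        have hd : DenseRange j' := by
          have hd0 : DenseRange j := j.denseRange
          rw [DenseRange, dense_iff_inter_open] at hd0 ⊢
          intro W hW ⟨w, hw⟩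
          obtain ⟨_, ⟨z, hz, rfl⟩, ⟨x, hx⟩⟩ := hd0 _ ((p ⁻¹ᵁ U).ι.isOpenEmbedding.isOpenMap W hW)
            ⟨_, w, hw, rfl⟩
          rw [← hj', Scheme.Hom.comp_apply] at hx
          exact ⟨z, hz, x, (p ⁻¹ᵁ U).ι.isOpenEmbedding.injective hx⟩
        have hc : IsClosed (Set.range j') := j'.isClosedMap.isClosed_range
        obtain ⟨x, hx⟩ : (⟨y, hy⟩ : (p ⁻¹ᵁ U).toScheme) ∈ Set.range j' := by
          rw [← hc.closure_eq]; exact hd _
        exact ⟨x, by rw [← hj', Scheme.Hom.comp_apply, hx]; rfl⟩
    let I := Scheme.IdealSheafData.vanishingIdeal (X := S) ⟨(U : Set S)ᶜ, U.2.isClosed_compl⟩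
    have hI : Set.range I.subschemeι = (U : Set S)ᶜ := by
      rw [Scheme.IdealSheafData.range_subschemeι, Scheme.IdealSheafData.coe_support_vanishingIdeal]
      rfl
    refine ⟨_, coprod.desc p I.subschemeι, j ≫ coprod.inl, ⟨fun s => ?_⟩, inferInstance, ?_⟩
    · by_cases hs : s ∈ U
      · obtain ⟨y, hy⟩ := v.surjective ⟨s, hs⟩
        refine ⟨(coprod.inl : T ⟶ _) (j y), ?_⟩
        rw [← Scheme.Hom.comp_apply, ← Scheme.Hom.comp_apply, coprod.inl_desc, hjp]
        exact congrArg Subtype.val hy
      · obtain ⟨z, hz⟩ : s ∈ Set.range I.subschemeι := hI ▸ hs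
        exact ⟨(coprod.inr : I.subscheme ⟶ T ⨿ I.subscheme) z,
          by rw [← Scheme.Hom.comp_apply, coprod.inr_desc]; exact hz⟩
    · refine (IsOpenImmersion.isPullback v (j ≫ coprod.inl) U.ι _ (by
        show _ ≫ coprod.desc _ _ = _
        rw [Category.assoc, coprod.inl_desc, hjp]) ?_).flip
      refine TopologicalSpace.Opens.ext (Set.ext fun z => ?_)
      constructor
      · intro hz
        rcases (isCompl_range_inl_inr T I.subscheme).codisjoint.top_le
          (Set.mem_univ z) with ⟨a, rfl⟩ | ⟨b, rfl⟩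
        · have ha : p a ∈ U := by
            rw [← coprod.inl_desc p I.subschemeι]
            simpa using hz
          obtain ⟨y, hy⟩ := hrange.ge ha
          exact ⟨y, by rw [Scheme.Hom.comp_apply, hy]⟩
        · have hb : I.subschemeι b ∈ U := by
            rw [← coprod.inr_desc p I.subschemeι]
            simpa using hz
          exact absurd hb ((Set.ext_iff.1 hI _).1 ⟨b, rfl⟩)
      · rintro ⟨y, rfl⟩
        show coprod.desc p I.subschemeι ((j ≫ coprod.inl) y) ∈ U.ι.opensRange
        rw [← Scheme.Hom.comp_apply, Category.assoc, coprod.inl_desc, hjp]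
        exact ⟨v y, rfl⟩

end Groth.Agent.S1376
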