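import Groth.Statements.S13760
import Groth.Agent.Lib.LabGraph.Blowup

set_option autoImplicit false
universe u
open LabGraph

namespace Groth.Agent.S13760

/-- Let G be a finite connected multigraph with vertex set V, edge set E, endpoint map E → V × V and
positive integer edge labels l, let G̃ be its total blow-up graph (every edge e replaced by a path
of l(e) edges through l(e) − 1 new vertices, all labelled 1), and let ε : H → H̃ be the map from the
cokernel of the multidegree operator on Cartier vertex labellings of G to the cokernel of the
multidegree operator on vertex labellings of G̃ induced by extension by zero. Then ε is surjective —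
every vertex labelling β of G̃ can be corrected by the multidegree of a vertex labelling of G̃ so as
to vanish at all new vertices — if and only if G is circuit-coprime (the labels along every circuit
have greatest common divisor 1). (The published statement is 'ε is an isomorphism if and only if the
labelled graph is circuit-coprime'; injectivity of ε holds for every labelled graph, so the content
is the equivalence for surjectivity, stated here with the cokernels unpacked.) -/
theorem result
    {V E : Type u} [Fintype V] [Fintype E] [DecidableEq V] [DecidableEq E]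
    (ends : E → V × V) (l : E → ℕ) (hl : ∀ e, 0 < l e) (hconn : LabGraph.Connected ends) :
    (∀ β : LabGraph.BlVert V E l → ℤ, ∃ (ψ : LabGraph.BlVert V E l → ℤ) (α : V → ℤ),
        ∀ w : LabGraph.BlVert V E l,
          LabGraph.mdeg (LabGraph.blEnds ends l) (fun _ => 1) ψ w + β w = Sum.elim α (fun _ => (0 : ℤ)) w) ↔
      LabGraph.IsCircuitCoprime ends l := by
  open GrothLib.LabGraph in
  rw [isCircuitCoprime_iff_surj]
  constructor
  · intro h T
    obtain ⟨ψ, α, hψ⟩ := h (Sum.elim 0 fun p => if p.2.val + 2 = l p.1 then -T p.1 else 0)
    refine ⟨fun v => ψ (Sum.inl v), fun e => ?_⟩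
    have := hl e
    by_cases h2 : l e = 1
    · simp [h2]
    have hinr : ∀ j, j + 1 < l e →
        step ends l ψ e (j + 1) - step ends l ψ e j = if j + 2 = l e then T e else 0 := by
      intro j hj
      have h := hψ (Sum.inr ⟨e, ⟨j, by omega⟩⟩)
      rw [blow_mdeg_inr] at h
      simp only [Sum.elim_inr] at h
      split_ifs at h ⊢ <;> linarith
    have hlo : ∀ j, j + 1 < l e → step ends l ψ e j = step ends l ψ e 0 := by
      intro j
      induction j with
      | zero => exact fun _ => rfl
      | succ j ih =>
        intro hj
        have h := hinr j (by omega)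
        rw [if_neg (by omega), ih (by omega)] at h
        linarith
    obtain ⟨n, hn⟩ : ∃ n, l e = n + 2 := ⟨l e - 2, by omega⟩
    have hlast := hinr n (by omega)
    rw [if_pos (by omega), hlo n (by omega)] at hlast
    refine ⟨step ends l ψ e 0, ?_⟩
    rw [← sum_step hl, hn, Finset.sum_range_succ,
      Finset.sum_congr rfl fun j hj => hlo j (by have := Finset.mem_range.mp hj; omega),
      Finset.sum_const, Finset.card_range, nsmul_eq_mul]
    push_cast
    linarith
  · intro h β
    let S : E → ℕ → ℤ := fun e j =>
      -∑ i : Fin (l e - 1), if i.val < j then β (Sum.inr ⟨e, i⟩) else 0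
    obtain ⟨φ, hφ⟩ := h fun e => ∑ j ∈ Finset.range (l e), S e j
    choose c hc using hφ
    obtain ⟨ψ, hψ⟩ := exists_blow hl φ (fun e j => c e + S e j) fun e => by
      rw [Finset.sum_add_distrib, Finset.sum_const, Finset.card_range, nsmul_eq_mul, ← hc e]
      ring
    refine ⟨ψ, fun v => LabGraph.mdeg (LabGraph.blEnds ends l) (fun _ => 1) ψ (Sum.inl v)
      + β (Sum.inl v), fun w => ?_⟩
    rcases w with v | ⟨e, i⟩
    · simp
    · have := i.isLt
      rw [blow_mdeg_inr, hψ e _ (by omega), hψ e _ (by omega), Sum.elim_inr]
      have hS : S e (i + 1) = S e i - β (Sum.inr ⟨e, i⟩) := by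
        have hrw : ∀ x : Fin (l e - 1), (if x.val < i.val + 1 then β (Sum.inr ⟨e, x⟩) else 0) =
            (if x.val < i.val then β (Sum.inr ⟨e, x⟩) else 0) +
              (if x = i then β (Sum.inr ⟨e, x⟩) else 0) := fun x => by
          rcases lt_trichotomy x.val i.val with hx | hx | hx
          · simp [show x.val < i.val + 1 by omega, hx, Fin.ne_of_val_ne hx.ne]
          · simp [Fin.ext hx]
          · simp [show ¬ x.val < i.val + 1 by omega, show ¬ x.val < i.val by omega,
              Fin.ne_of_val_ne hx.ne']
        simp only [S, hrw, Finset.sum_add_distrib, Finset.sum_ite_eq', Finset.mem_univ, if_true]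
        ring
      rw [hS]
      ring

end Groth.Agent.S13760
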