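import Groth.Statements.S13763
import Groth.Agent.Lib.OmegaSub11.Epi
import Groth.Agent.Lib.OmegaAb15.Basic
import Groth.Agent.Lib.CurveRR.Places
import Groth.Agent.Lib.CurveRR.Stable
import Groth.Agent.Lib.Euler.Slope
import Groth.Agent.Lib.Euler.Slope2
import Groth.Agent.Lib.OX.LocFreeTensor

set_option autoImplicit false
universe u
open CategoryTheory CategoryTheory.Limits MonoidalCategory CartesianMonoidalCategory MonObj GrpObj AlgebraicGeometry
open CanPar

namespace Groth.Agent.S13763

set_option backward.isDefEq.respectTransparency false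


/-- Let X be a smooth proper geometrically connected curve over a field k and G a reductive group scheme
over X. Then there is an integer M such that every parabolic subgroup P of G has degree at most M.
Here the degree of P means the degree of its Lie algebra, a vector bundle on X; it is written as
minus the degree of the module of invariant differentials e^*Ω_{P/X}, which for P smooth over X is
locally free (of the rank n quantified below) and dual to the Lie algebra bundle. -/
theorem result (k : Type u) [Field k] (X : Scheme.{u}) [X.Over (Spec (CommRingCat.of k))]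
    [IsIntegral X] [IsProper (X ↘ Spec (CommRingCat.of k))] [Smooth (X ↘ Spec (CommRingCat.of k))]
    [GeometricallyConnected (X ↘ Spec (CommRingCat.of k))] (hdim : topologicalKrullDim X = 1)
    (G : Over X) [GrpObj G] (hG : Red.IsReductive G) :
    ∃ M : ℤ, ∀ (P : Over X) [GrpObj P] (i : P ⟶ G), Red.IsParabolic i →
      ∀ n : ℕ, FlatMod.IsFinLocFreeOfRank n (LieS.omega P) →
        -Curv2.deg k X (LieS.omega P) n ≤ M := by
  haveI := GrothLib.Euler.isNoetherian_of_proper (X := X) k
  haveI := GrothLib.CurveRR.regCurve_of_smooth (X ↘ Spec (CommRingCat.of k)) hdim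
  haveI := hG.1
  haveI := hG.2.1
  haveI : IsSeparated G.hom := inferInstance
  have hGl : FlatMod.IsFinLocFree (LieS.omega G) :=
    GrothLib.OX.isFinLocFree_pullback η[G].left (GrothLib.OmegaAb15.isFinLocFree_omega G.hom)
  have hGc := GrothLib.Euler.isCoh_of_isFinLocFree hGl
  let h : ℤ := (Module.finrank k (Coh.HH X (LieS.omega G) 0) : ℤ)
  let m : ℤ := (GrothLib.Euler.grank (LieS.omega G) : ℤ)
  refine ⟨h + m * |(Curv2.genus k X : ℤ) - 1| - GrothLib.Euler.degree k (LieS.omega G), fun P _ i hi n hn => ?_⟩
  haveI := hi.1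
  haveI := hi.2.1
  obtain ⟨q, hq⟩ := GrothLib.OmegaSub11.exists_epi_omega i
  have hPc := GrothLib.Euler.isCoh_of_isFinLocFree (GrothLib.FinCov.isFinLocFree_of_rank hn)
  have hKc := GrothLib.QCoh.isCoh_kernel q hGc hPc
  have hKl := GrothLib.Euler.isFinLocFreeOfRank_of_mono GrothLib.CurveRR.pid_stalk (kernel.ι q) hKc hGl
  obtain ⟨hd, -⟩ := GrothLib.Euler.degree_quotient k _ _ _ (GrothLib.Euler.kernel_shortExact q) hKc hGc hPc
  have hK := GrothLib.Euler.deg_le_of_sub k hdim.le (kernel.ι q) hKl hGc
  rw [GrothLib.Euler.deg_eq_degree k hKl] at hK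
  rw [GrothLib.Euler.deg_eq_degree k hn]
  have hle : (GrothLib.Euler.grank (kernel q) : ℤ) ≤ m :=
    Nat.cast_le.2 (GrothLib.Euler.grank_le_of_mono (kernel.ι q) hGc)
  have h2 : (GrothLib.Euler.grank (kernel q) : ℤ) * ((Curv2.genus k X : ℤ) - 1) ≤ m * |(Curv2.genus k X : ℤ) - 1| :=
    le_trans (mul_le_mul_of_nonneg_left (le_abs_self _) (Nat.cast_nonneg _))
      (mul_le_mul_of_nonneg_right hle (abs_nonneg _))
  linarith

end Groth.Agent.S13763
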