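import Groth.Statements.S1377
import Mathlib
-- import your own Groth.Agent.* helpers here

set_option autoImplicit false
universe u
open FlatMor

namespace Groth.Agent.S1377

open AlgebraicGeometry CategoryTheory Limits in
/-- Let S be a scheme, U ⊆ S an open subscheme whose inclusion U → S is quasi-compact (U retrocompact in
S), and V → U a surjective integral morphism. Then there are a scheme V' and a surjective integral
morphism V' → S whose base change to U is V → U. (The published statement puts no condition on U,
and in that generality it is false: e.g. S = Spec ∏_i ℤ/4^i with U = D(2) ∪ ⋃_i D(e_i), e_i the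
idempotents, and V equal to U except that over D(2) it is cut out by x = (2^i)_i. Stated here with U
→ S quasi-compact, under which hypothesis the published argument applies.) -/
theorem result {S V : Scheme.{u}} (U : S.Opens) [QuasiCompact U.ι]
    (v : V ⟶ (U : Scheme.{u})) [IsIntegralHom v] [Surjective v] :
    ∃ (V' : Scheme.{u}) (π : V' ⟶ S) (i : V ⟶ V'), Surjective π ∧ IsIntegralHom π ∧ IsPullback i v π U.ι := by
    let f := v ≫ U.ι
    have hf : IsIntegralHom (pullback.snd f U.ι) := by
      have : pullback.snd f U.ι = pullback.fst f U.ι ≫ v := by
        rw [← cancel_mono U.ι, Category.assoc, ← pullback.condition]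
      rw [this]
      infer_instance
    have hfst : IsIso (pullback.fst f U.ι) := by
      refine ⟨pullback.lift (𝟙 _) v (by simp [f]), ?_, pullback.lift_fst _ _ _⟩
      refine pullback.hom_ext (by rw [Category.assoc, pullback.lift_fst]; simp) ?_
      rw [← cancel_mono U.ι]
      simp only [Category.assoc, ← pullback.condition, Category.id_comp, pullback.lift_fst_assoc]
    let e : V ⟶ pullback f.fromNormalization U.ι :=
      inv (pullback.fst f U.ι) ≫ (pullback.snd f U.ι).toNormalization ≫ f.normalizationPullback U.ι
    have he₁ : e ≫ pullback.fst f.fromNormalization U.ι = f.toNormalization := by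
      simp [e]
    have he₂ : e ≫ pullback.snd f.fromNormalization U.ι = v := by
      simp only [e, Category.assoc, Scheme.Hom.normalizationPullback_snd,
        Scheme.Hom.toNormalization_fromNormalization]
      rw [IsIso.inv_comp_eq, ← cancel_mono U.ι, ← pullback.condition]
      simp [f]
    have hsq : IsPullback f.toNormalization v f.fromNormalization U.ι :=
      .of_iso_pullback ⟨by simp [f]⟩ (asIso e) he₁ he₂
    have : IsOpenImmersion f.toNormalization := MorphismProperty.of_isPullback hsq.flip inferInstance
    let I := Scheme.IdealSheafData.vanishingIdeal (X := S) ⟨(U : Set S)ᶜ, U.2.isClosed_compl⟩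
    have hI : Set.range I.subschemeι = (U : Set S)ᶜ := by
      rw [Scheme.IdealSheafData.range_subschemeι, Scheme.IdealSheafData.coe_support_vanishingIdeal]
      rfl
    refine ⟨_, coprod.desc f.fromNormalization I.subschemeι, f.toNormalization ≫ coprod.inl, ⟨fun s => ?_⟩,
      inferInstance, ?_⟩
    · by_cases hs : s ∈ U
      · obtain ⟨y, hy⟩ := v.surjective ⟨s, hs⟩
        refine ⟨(coprod.inl : f.normalization ⟶ _) (f.toNormalization y), ?_⟩
        rw [← Scheme.Hom.comp_apply, ← Scheme.Hom.comp_apply, coprod.inl_desc,
          Scheme.Hom.toNormalization_fromNormalization]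
        exact congrArg Subtype.val hy
      · obtain ⟨z, hz⟩ : s ∈ Set.range I.subschemeι := hI ▸ hs
        exact ⟨(coprod.inr : I.subscheme ⟶ f.normalization ⨿ I.subscheme) z,
          by rw [← Scheme.Hom.comp_apply, coprod.inr_desc]; exact hz⟩
    · refine (IsOpenImmersion.isPullback v (f.toNormalization ≫ coprod.inl) U.ι _ (by
      show _ ≫ coprod.desc _ _ = _
      rw [Category.assoc, coprod.inl_desc, Scheme.Hom.toNormalization_fromNormalization]) ?_).flip
      refine TopologicalSpace.Opens.ext (Set.ext fun z => ?_)
      constructor
      · intro hz
        rcases (isCompl_range_inl_inr f.normalization I.subscheme).codisjoint.top_le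
          (Set.mem_univ z) with ⟨a, rfl⟩ | ⟨b, rfl⟩
        · have ha : f.fromNormalization a ∈ U := by
            rw [← coprod.inl_desc f.fromNormalization I.subschemeι]
            simpa using hz
          obtain ⟨y, hy, -⟩ := Scheme.exists_preimage_of_isPullback hsq a ⟨_, ha⟩ rfl
          exact ⟨y, by rw [Scheme.Hom.comp_apply, hy]⟩
        · have hb : I.subschemeι b ∈ U := by
            rw [← coprod.inr_desc f.fromNormalization I.subschemeι]
            simpa using hz
          exact absurd hb ((Set.ext_iff.1 hI _).1 ⟨b, rfl⟩)
      · rintro ⟨y, rfl⟩
        show coprod.desc f.fromNormalization I.subschemeι ((f.toNormalization ≫ coprod.inl) y) ∈ U.ι.opensRange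
        rw [← Scheme.Hom.comp_apply, Category.assoc, coprod.inl_desc,
          Scheme.Hom.toNormalization_fromNormalization]
        exact ⟨v y, rfl⟩

end Groth.Agent.S1377
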