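import Groth.Statements.S13770
import Groth.Agent.Lib.OmegaSub11.Uniform
import Groth.Agent.Lib.OmegaAb15.Basic
import Groth.Agent.Lib.CurveRR.Places
import Groth.Agent.Lib.CurveRR.Stable
import Groth.Agent.Lib.Euler.Slope
import Groth.Agent.Lib.Euler.Slope2
import Groth.Agent.Lib.OX.LocFreeTensor
import Groth.Agent.Lib.HomSh.Coherent

set_option autoImplicit false
universe u
open CategoryTheory CategoryTheory.Limits MonoidalCategory CartesianMonoidalCategory MonObj GrpObj AlgebraicGeometry
open CanPar

namespace Groth.Agent.S13770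

set_option backward.isDefEq.respectTransparency false


/-- Let S be a Noetherian scheme, p : X → S a curve over S (smooth, proper, with geometrically connected
fibres of dimension one) and G a reductive group scheme over X. Then the degrees of instability of
the fibres of G are uniformly bounded: there is an integer M such that for every field K and every
morphism x : Spec K → S, every parabolic subgroup P of the restriction G_K of G to the curve X_K = X
×_S Spec K over K has degree at most M. The degree of a parabolic subgroup is that of its Lie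
algebra bundle, written as minus the degree over K of the locally free module e^*Ω of invariant
differentials (dual to the Lie algebra, of the rank quantified in the statement). (The published
statement takes X projective over S; this row takes X proper over S, which is all that its proof
uses: the bound for a single curve over a field applied fibre by fibre, local constancy of the rank
and of the genus, upper semicontinuity of the dimension of the space of global sections in a proper
flat family, and Noetherian induction on S.) -/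
theorem result
    (S X : Scheme.{u}) [IsNoetherian S] (p : X ⟶ S) [Smooth p] [IsProper p] [GeometricallyConnected p]
    (hdim : ∀ s : S, topologicalKrullDim (p.fiber s) = 1)
    (G : Over X) [GrpObj G] (hG : Red.IsReductive G) :
    ∃ M : ℤ, ∀ (K : Type u) [Field K] (x : Spec (CommRingCat.of K) ⟶ S)
      (P : Over (pullback p x)) [GrpObj P] (i : P ⟶ Red.bc (pullback.fst p x) G), Red.IsParabolic i →
      ∀ n : ℕ, FlatMod.IsFinLocFreeOfRank n (LieS.omega P) →
        -@Curv2.deg K _ (pullback p x) ⟨pullback.snd p x⟩ (LieS.omega P) n ≤ M := by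
  haveI := hG.1
  haveI := hG.2.1
  haveI : IsLocallyNoetherian X := LocallyOfFiniteType.isLocallyNoetherian p
  haveI : CompactSpace X := QuasiCompact.compactSpace_of_compactSpace p
  let E := LieS.omega G
  have hE : FlatMod.IsFinLocFree E :=
    GrothLib.OX.isFinLocFree_pullback η[G].left (GrothLib.OmegaAb15.isFinLocFree_omega G.hom)
  have hEc := GrothLib.Euler.isCoh_of_isFinLocFree hE
  have hEf := GrothLib.LocFreeHom.isFlatOver_of_isFinLocFree p hE
  have hOl : FlatMod.IsFinLocFree (Coh.structureModule X) :=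
    GrothLib.Euler.isFinLocFree_of_isInvertible GrothLib.Euler.isInvertible_structure
  have hOc := GrothLib.Euler.isCoh_of_isFinLocFree hOl
  have hOf := GrothLib.LocFreeHom.isFlatOver_of_isFinLocFree p hOl
  obtain ⟨B0, hB0⟩ := GrothLib.OmegaSub11.exists_betti_bound p E hEc hEf 0
  obtain ⟨B1, hB1⟩ := GrothLib.OmegaSub11.exists_betti_bound p _ hOc hOf 1
  obtain ⟨Be, hBe⟩ := GrothLib.OmegaSub11.exists_euler_bound p E hEc hEf
  obtain ⟨Bo, hBo⟩ := GrothLib.OmegaSub11.exists_euler_bound p _ hOc hOf
  obtain ⟨N, hN⟩ := GrothLib.OmegaSub11.exists_rankAt_bound hE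
  refine ⟨(B0 : ℤ) + (N : ℤ) * ((B1 : ℤ) + 1) + Be + (N : ℤ) * Bo, fun K _ x P _ i hi n hn => ?_⟩
  let Y : Scheme.{u} := pullback p x
  letI : Y.Over (Spec (CommRingCat.of K)) := ⟨pullback.snd p x⟩
  haveI : IsProper (Y ↘ Spec (CommRingCat.of K)) := MorphismProperty.pullback_snd p x ‹_›
  haveI : Smooth (Y ↘ Spec (CommRingCat.of K)) := MorphismProperty.pullback_snd p x ‹_›
  haveI : ConnectedSpace Y :=
    GeometricallyConnected.geometrically_connectedSpace (f := p) x _ _ (IsPullback.of_hasPullback p x)
  haveI : IsIntegral Y := GrothLib.Euler.isIntegral_of_smooth_connected K (Y ↘ Spec (CommRingCat.of K))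
  have hdY : topologicalKrullDim Y = 1 := GrothLib.OmegaSub11.topologicalKrullDim_fibre_point p K x 1 hdim
  haveI := GrothLib.Euler.isNoetherian_of_proper (X := Y) K
  haveI := GrothLib.CurveRR.regCurve_of_smooth (Y ↘ Spec (CommRingCat.of K)) hdY
  obtain ⟨s, hs⟩ := GrothLib.OmegaSub11.exists_fibre_point p K x
  let G' := Red.bc (pullback.fst p x) G
  have hc : IsPullback (pullback.fst G.hom (pullback.fst p x)) G'.hom G.hom (pullback.fst p x) :=
    IsPullback.of_hasPullback G.hom (pullback.fst p x)
  haveI : IsAffineHom G'.hom := MorphismProperty.of_isPullback hc ‹IsAffineHom G.hom›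
  haveI : IsSeparated G'.hom := inferInstance
  haveI := hi.1
  haveI := hi.2.1
  obtain ⟨q, hq⟩ := GrothLib.OmegaSub11.exists_epi_omega i
  obtain ⟨e⟩ := GrothLib.OmegaSub11.nonempty_omega_bc (pullback.fst p x) G
  let E' := (Scheme.Modules.pullback (pullback.fst p x)).obj E
  let q' : E' ⟶ LieS.omega P := e.hom ≫ q
  haveI : Epi q' := epi_comp _ _
  have hEl : FlatMod.IsFinLocFree E' := GrothLib.OX.isFinLocFree_pullback _ hE
  have hE'c := GrothLib.Euler.isCoh_of_isFinLocFree hEl
  have hPc := GrothLib.Euler.isCoh_of_isFinLocFree (GrothLib.FinCov.isFinLocFree_of_rank hn)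
  have hKc := GrothLib.QCoh.isCoh_kernel q' hE'c hPc
  have hKl := GrothLib.Euler.isFinLocFreeOfRank_of_mono GrothLib.CurveRR.pid_stalk (kernel.ι q') hKc hEl
  obtain ⟨hd, -⟩ := GrothLib.Euler.degree_quotient K _ _ _ (GrothLib.Euler.kernel_shortExact q') hKc hE'c hPc
  have hK := GrothLib.Euler.deg_le_of_sub K hdY.le (kernel.ι q') hKl hE'c
  rw [GrothLib.Euler.deg_eq_degree K hKl] at hK
  rw [GrothLib.Euler.deg_eq_degree K hn]
  obtain ⟨m, hmN, hm⟩ := hN (pullback.fst p x (genericPoint Y))
  have hg : GrothLib.Euler.grank E' = m := GrothLib.OmegaSub11.grank_of_rankAt (hm.pullback _)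
  have hle : (GrothLib.Euler.grank (kernel q') : ℤ) ≤ N :=
    Nat.cast_le.2 ((GrothLib.Euler.grank_le_of_mono (kernel.ι q') hE'c).trans (hg.le.trans hmN))
  obtain ⟨hsE, hsEe⟩ := hs E hEc.1
  obtain ⟨hsO, hsOe⟩ := hs (Coh.structureModule X) hOc.1
  let u := GrothLib.OX.pullUnitIso (pullback.fst p x)
  have h0 : (Module.finrank K (Coh.HH Y E' 0) : ℤ) ≤ B0 := by rw [hsE 0]; exact_mod_cast hB0 s
  have h1 : (Curv2.genus K Y : ℤ) ≤ B1 := by
    rw [Curv2.genus, LinearEquiv.finrank_eq (GrothLib.Euler.hhEquiv (A := K) u.symm 1), hsO 1]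
    exact_mod_cast hB1 s
  have h2 : |Curv2.euler K Y E'| ≤ Be := by rw [hsEe]; exact hBe s
  have h3 : |Curv2.euler K Y (Coh.structureModule Y)| ≤ Bo := by
    have : Curv2.euler K Y (Coh.structureModule Y) =
        Curv2.euler K Y ((Scheme.Modules.pullback (pullback.fst p x)).obj (Coh.structureModule X)) :=
      finsum_congr fun j => by rw [LinearEquiv.finrank_eq (GrothLib.Euler.hhEquiv (A := K) u.symm j)]
    rw [this, hsOe]
    exact hBo s
  have hdeg : GrothLib.Euler.degree K E' =
      Curv2.euler K Y E' - (m : ℤ) * Curv2.euler K Y (Coh.structureModule Y) := by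
    rw [GrothLib.Euler.degree, hg]
  have hm0 : (0 : ℤ) ≤ m := Nat.cast_nonneg _
  have hmN' : (m : ℤ) ≤ N := by exact_mod_cast hmN
  have hr0 : (0 : ℤ) ≤ GrothLib.Euler.grank (kernel q') := Nat.cast_nonneg _
  obtain ⟨h2a, h2b⟩ := abs_le.1 h2
  obtain ⟨h3a, h3b⟩ := abs_le.1 h3
  have h4 : (GrothLib.Euler.grank (kernel q') : ℤ) * ((Curv2.genus K Y : ℤ) - 1) ≤ (N : ℤ) * ((B1 : ℤ) + 1) :=
    le_trans (mul_le_mul_of_nonneg_left (by linarith) hr0)
      (mul_le_mul_of_nonneg_right hle (by positivity))
  have h5 : (m : ℤ) * Curv2.euler K Y (Coh.structureModule Y) ≤ (N : ℤ) * Bo :=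
    le_trans (mul_le_mul_of_nonneg_left h3b hm0) (mul_le_mul_of_nonneg_right hmN' (by linarith))
  linarith

end Groth.Agent.S13770
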