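import Groth.Statements.S13771
import Groth.Agent.Lib.PLie.Basic

set_option autoImplicit false
universe u v w
open PLie

namespace Groth.Agent.S13771

/-- Let R be a commutative ring of prime characteristic p, L₁ and L₂ Lie algebras over R, φ a p-mapping
on L₁ and f : L₁ → L₂ a morphism of Lie algebras whose kernel is stable under φ (a p-ideal). Then
the image f(L₁), a Lie subalgebra of L₂, carries exactly one p-mapping ψ for which the corestriction
of f to its image is a morphism of p-Lie algebras, i.e. ψ (f x) = f (φ x) for all x. -/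
theorem result (R : Type u) [CommRing R] (p : ℕ) [Fact p.Prime] [CharP R p]
    (L₁ : Type v) [LieRing L₁] [LieAlgebra R L₁] (L₂ : Type w) [LieRing L₂] [LieAlgebra R L₂]
    (φ : PLie.PMap R p L₁) (f : L₁ →ₗ⁅R⁆ L₂) (hker : ∀ x : L₁, f x = 0 → f (φ x) = 0) :
    ∃! ψ : PLie.PMap R p f.range, PLie.IsPHom φ ψ f.rangeRestrict := by
  classical
  have hwd : ∀ x y : L₁, f x = f y → f (φ x) = f (φ y) := by
    intro x y h
    obtain ⟨k, rfl⟩ : ∃ k, y = x + k := ⟨y - x, (add_sub_cancel x y).symm⟩
    have hk : f k = 0 := by simpa [map_add] using h.symm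
    rw [φ.map_add, map_sub, map_add, hker k hk, add_zero, GrothLib.PLie.jacobson_map, hk,
      GrothLib.PLie.jacobson_eq_zero_of_comm (lie_zero (f x)), sub_zero]
  let s : f.range → L₁ := Function.surjInv f.surjective_rangeRestrict
  have hs : ∀ y, f.rangeRestrict (s y) = y := Function.surjInv_eq _
  let g : f.range → f.range := fun y => f.rangeRestrict (φ (s y))
  have hg : ∀ x, g (f.rangeRestrict x) = f.rangeRestrict (φ x) := fun x =>
    Subtype.ext (hwd _ _ (congrArg Subtype.val (hs (f.rangeRestrict x))))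
  refine ⟨⟨g, fun c y => ?_, fun y => LinearMap.ext fun w => ?_, fun y z => ?_⟩, fun x => (hg x).symm, fun ψ hψ => ?_⟩
  · obtain ⟨x, rfl⟩ := f.surjective_rangeRestrict y
    rw [← map_smul, hg, hg, φ.map_smul, map_smul]
  · obtain ⟨x, rfl⟩ := f.surjective_rangeRestrict y
    obtain ⟨v, rfl⟩ := f.surjective_rangeRestrict w
    rw [hg, LieAlgebra.ad_apply, ← LieHom.map_lie, GrothLib.PLie.pmap_lie, GrothLib.PLie.map_ad_pow]
  · obtain ⟨x, rfl⟩ := f.surjective_rangeRestrict y
    obtain ⟨v, rfl⟩ := f.surjective_rangeRestrict z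
    rw [← map_add, hg, hg, hg, φ.map_add, map_sub, map_add, GrothLib.PLie.jacobson_map]
  · obtain ⟨u, h1, h2, h3⟩ := ψ
    obtain rfl : u = g := funext fun y => by
      obtain ⟨x, rfl⟩ := f.surjective_rangeRestrict y
      rw [hg]
      exact (hψ x).symm
    rfl


end Groth.Agent.S13771
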