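import Groth.Statements.S13776
import Groth.Agent.Lib.PLie.Basic
import Mathlib.Tactic.FinCases

set_option autoImplicit false
universe u v
open PLie

namespace Groth.Agent.S13776

/-- Let R be a commutative ring of prime characteristic p, t ∈ R, and L a Lie algebra over R, free as a
module with basis x = bs 0, y = bs 1, z = bs 2 and brackets [x,y] = y, [x,z] = t • z, [y,z] = 0.
Then L carries a p-mapping if and only if t ^ p = t. (The published statement is the corresponding
entry of the classification table over an algebraically closed field of characteristic p, where the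
condition reads: t lies in the prime field; this row states it over every commutative ring of
characteristic p.) -/
theorem result (R : Type u) [CommRing R] (p : ℕ) [Fact p.Prime] [CharP R p] (t : R)
    (L : Type v) [LieRing L] [LieAlgebra R L] (bs : Module.Basis (Fin 3) R L)
    (hxy : ⁅bs 0, bs 1⁆ = bs 1) (hxz : ⁅bs 0, bs 2⁆ = t • bs 2) (hyz : ⁅bs 1, bs 2⁆ = 0) :
    Nonempty (PLie.PMap R p L) ↔ t ^ p = t := by
  classical
  have hn : ∀ (n : ℕ), (LieAlgebra.ad R L (bs 0) ^ n) (bs 2) = t ^ n • bs 2 := by
    intro n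
    induction n with
    | zero => simp
    | succ n ih =>
      rw [pow_succ', Module.End.mul_apply, ih, LieAlgebra.ad_apply, lie_smul, hxz, smul_smul, pow_succ]
  have hn1 : ∀ (n : ℕ), (LieAlgebra.ad R L (bs 0) ^ n) (bs 1) = bs 1 := by
    intro n
    induction n with
    | zero => simp
    | succ n ih => rw [pow_succ', Module.End.mul_apply, ih, LieAlgebra.ad_apply, hxy]
  constructor
  · rintro ⟨φ⟩
    have h := GrothLib.PLie.pmap_lie φ (bs 0) (bs 2)
    have h' := GrothLib.PLie.pmap_lie φ (bs 0) (bs 1)
    rw [hn, ← bs.sum_repr (φ (bs 0)), Fin.sum_univ_three, add_lie, add_lie, smul_lie, smul_lie, smul_lie, hxz,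
      hyz, lie_self, smul_zero, smul_zero, add_zero, add_zero, smul_smul] at h
    rw [hn1, ← bs.sum_repr (φ (bs 0)), Fin.sum_univ_three, add_lie, add_lie, smul_lie, smul_lie, smul_lie, hxy,
      lie_self, ← lie_skew (bs 2) (bs 1), hyz, neg_zero, smul_zero, smul_zero, add_zero, add_zero] at h'
    have h1 := congrArg (fun z => bs.repr z 2) h
    have h2 := congrArg (fun z => bs.repr z 1) h'
    simp at h1 h2
    rw [h2, one_mul] at h1
    exact h1.symm
  · intro ht
    have h10 : ⁅bs 1, bs 0⁆ = -bs 1 := by rw [← lie_skew, hxy]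
    have h20 : ⁅bs 2, bs 0⁆ = -(t • bs 2) := by rw [← lie_skew, hxz]
    have h21 : ⁅bs 2, bs 1⁆ = 0 := by rw [← lie_skew, hyz, neg_zero]
    have hp2 : p = 2 + (p - 2) := by have := (Fact.out : p.Prime).two_le; omega
    obtain ⟨φ, -⟩ := GrothLib.PLie.exists_of_basis bs ![bs 0, 0, 0] fun i => bs.ext fun j => by
      have hsq : ∀ i : Fin 3, i ≠ 0 → LieAlgebra.ad R L (bs i) ^ 2 = 0 := fun i hi => bs.ext fun j => by
        fin_cases i <;> first
          | exact absurd rfl hi
          | (fin_cases j <;> simp [pow_two, Module.End.mul_apply, hyz, h10, h20, h21])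
      fin_cases i
      · fin_cases j
        · obtain ⟨q, hq⟩ : ∃ q, p = q + 1 := ⟨p - 1, by have := (Fact.out : p.Prime).pos; omega⟩
          simp [hq, pow_succ]
        · simp [hn1, hxy]
        · simp [hn, ht, hxz]
      · rw [hp2, pow_add]; simp [hsq 1 (by decide)]
      · rw [hp2, pow_add]; simp [hsq 2 (by decide)]
    exact ⟨φ⟩


end Groth.Agent.S13776
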