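import Groth.Statements.S13778
import Groth.Agent.Lib.PLie.DualThree
import Mathlib.Algebra.CharP.Two

set_option autoImplicit false
universe u v
open PLie

namespace Groth.Agent.S13778

open GrothLib.PLie

open DualNumber in
/-- Let K be a field of prime characteristic p, K[ε] the ring of dual numbers (taken with its
characteristic-p structure), t ∈ K with t ^ p = t (an element of the prime field), and a, …, i ∈ K.
Let L be a Lie algebra over K[ε], free as a module with basis x = bs 0, y = bs 1, z = bs 2 and
brackets [x,y] = aε x + (1 + bε) y + cε z, [x,z] = dε x + eε y + (t + fε) z, [y,z] = gε x + hε y +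
iε z. Then L carries a p-mapping over K[ε] if and only if b t = f, c = e = 0 when t = 1, and g = 0
when p = 2. (The published statement determines the singular locus of the restrictable locus in the
centreless stratum of the moduli scheme of based three-dimensional Lie algebras, for t non-zero, and
the rank-one-centre stratum treats t = 0; this row states the restrictability criterion for the
first-order deformations of l_t that the proofs compute, over any field of characteristic p in place
of the prime field and for every t in the prime field.) -/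
theorem result (K : Type u) [Field K] (p : ℕ) [Fact p.Prime] [CharP K p]
    [CharP (DualNumber K) p] (t a b c d e f g h i : K) (ht : t ^ p = t)
    (L : Type v) [LieRing L] [LieAlgebra (DualNumber K) L] (bs : Module.Basis (Fin 3) (DualNumber K) L)
    (hxy : ⁅bs 0, bs 1⁆ = (a • ε : DualNumber K) • bs 0 + (1 + b • ε : DualNumber K) • bs 1 + (c • ε : DualNumber K) • bs 2)
    (hxz : ⁅bs 0, bs 2⁆ = (d • ε : DualNumber K) • bs 0 + (e • ε : DualNumber K) • bs 1 +
      (algebraMap K (DualNumber K) t + f • ε) • bs 2)
    (hyz : ⁅bs 1, bs 2⁆ = (g • ε : DualNumber K) • bs 0 + (h • ε : DualNumber K) • bs 1 + (i • ε : DualNumber K) • bs 2) :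
    Nonempty (PLie.PMap (DualNumber K) p L) ↔ (b * t = f ∧ (t = 1 → c = 0 ∧ e = 0) ∧ (p = 2 → g = 0)) := by
  classical
  have hp := (Fact.out : p.Prime)
  have hpK : (p : K) = 0 := CharP.cast_eq_zero K p
  have h10 : ⁅bs 1, bs 0⁆ = -((a • ε : DualNumber K) • bs 0 + (1 + b • ε : DualNumber K) • bs 1 + (c • ε : DualNumber K) • bs 2) := by
    rw [← lie_skew, hxy]
  have h20 : ⁅bs 2, bs 0⁆ = -((d • ε : DualNumber K) • bs 0 + (e • ε : DualNumber K) • bs 1 +
      (algebraMap K (DualNumber K) t + f • ε) • bs 2) := by
    rw [← lie_skew, hxz]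
  have h21 : ⁅bs 2, bs 1⁆ = -((g • ε : DualNumber K) • bs 0 + (h • ε : DualNumber K) • bs 1 + (i • ε : DualNumber K) • bs 2) := by
    rw [← lie_skew, hyz]
  -- the Jacobi identity
  have hjac : d = t * h := by
    have hj := lie_jacobi (bs 0) (bs 1) (bs 2)
    rw [hyz, h20, hxy] at hj
    have hj0 := congrArg (fun v => crd bs v 1) hj
    simp [crd, lie_add, lie_smul, hxy, hxz, hyz, h10, h20, h21, smul_smul, TrivSqZeroExt.algebraMap_eq_inl] at hj0
    linear_combination hj0
  -- iterates of ad x
  let Q : ℕ → K := fun n => ∑ l ∈ Finset.range n, t ^ l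
  have hpow : ∀ n : ℕ,
      ((LieAlgebra.ad (DualNumber K) L (bs 0) ^ (n + 1)) (bs 1) =
        (a • ε : DualNumber K) • bs 0 + (1 + (((n + 1 : ℕ) : K) * b) • ε : DualNumber K) • bs 1 +
          ((Q (n + 1) * c) • ε : DualNumber K) • bs 2) ∧
      ((LieAlgebra.ad (DualNumber K) L (bs 0) ^ (n + 1)) (bs 2) =
        ((t ^ n * d) • ε : DualNumber K) • bs 0 + ((Q (n + 1) * e) • ε : DualNumber K) • bs 1 +
          (algebraMap K (DualNumber K) (t ^ (n + 1)) + (((n + 1 : ℕ) : K) * t ^ n * f) • ε) • bs 2) := by
    intro n
    induction n with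
    | zero => constructor <;> simp [Q, hxy, hxz]
    | succ n ih =>
      rw [pow_succ' _ (n + 1), Module.End.mul_apply, Module.End.mul_apply, ih.1, ih.2]
      have hQ : Q (n + 1 + 1) = 1 + t * Q (n + 1) := by
        simp only [Q]
        rw [Finset.sum_range_succ', Finset.mul_sum, pow_zero, add_comm]
        simp [pow_succ']
      have hQ' : Q (n + 1 + 1) = Q (n + 1) + t ^ (n + 1) := Finset.sum_range_succ _ _
      constructor <;> refine ext_crd bs fun m => ?_ <;> fin_cases m <;>
        simp [crd, lie_add, lie_smul, hxy, hxz, smul_smul, TrivSqZeroExt.algebraMap_eq_inl] <;>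
        first
          | ring1
          | linear_combination c * (-hQ) | linear_combination c * hQ
          | linear_combination e * (-hQ') | linear_combination e * hQ'
          | (constructor <;> ring1)
          | (ring_nf <;> simp)
  have hQ1 : t = 1 → Q p = 0 := fun h1 => by simp [Q, h1, hpK]
  have hQne : t ≠ 1 → Q p = 1 := fun h1 => by
    have h2 := geom_sum_mul t p
    rw [ht] at h2
    exact mul_right_cancel₀ (sub_ne_zero.2 h1) (by rw [one_mul]; exact h2)
  have htp : t ≠ 0 → t ^ (p - 1) = 1 := fun h0 => by
    refine mul_right_cancel₀ h0 ?_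
    rw [one_mul, ← pow_succ, Nat.sub_add_cancel hp.pos, ht]
  have hP := hpow (p - 1)
  rw [Nat.sub_add_cancel hp.pos, hpK, ht, zero_mul, zero_mul, zero_mul, zero_smul, add_zero, add_zero] at hP
  have hx0 : ∀ q, 0 < q → (LieAlgebra.ad (DualNumber K) L (bs 0) ^ q) (bs 0) = 0 := fun q hq => by
    obtain ⟨q', rfl⟩ := Nat.exists_eq_succ_of_ne_zero hq.ne'
    rw [pow_succ, Module.End.mul_apply, LieAlgebra.ad_apply, lie_self, map_zero]
  rw [nonempty_pmap_iff bs]
  constructor
  · intro hw
    obtain ⟨w, hw0⟩ := hw 0
    obtain ⟨A, B, C, rfl⟩ := expand bs w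
    have key : ∀ (u : L) (j : Fin 3) (v : L), u = v → crd bs u j = crd bs v j := fun u j v h => by rw [h]
    have e01 := key _ 1 _ ((hw0 0).trans (hx0 p hp.pos)); have e02 := key _ 2 _ ((hw0 0).trans (hx0 p hp.pos))
    have e11 := key _ 1 _ ((hw0 1).trans hP.1); have e12 := key _ 2 _ ((hw0 1).trans hP.1)
    have e21 := key _ 1 _ ((hw0 2).trans hP.2); have e22 := key _ 2 _ ((hw0 2).trans hP.2)
    simp [crd, lie_add, add_lie, lie_smul, smul_lie, hxy, hxz, hyz, h10, h20, h21, smul_smul,
      TrivSqZeroExt.algebraMap_eq_inl] at e01 e02 e11 e12 e21 e22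
    obtain ⟨hB, -⟩ := e01
    obtain ⟨hC, -⟩ := e02
    obtain ⟨hA, hA1⟩ := e11
    have hB0 : TrivSqZeroExt.fst B = 0 := by
      first | exact hB | linear_combination hB | linear_combination -hB
    have hCt : TrivSqZeroExt.fst C * t = 0 := by
      first | linear_combination hC | linear_combination -hC | exact mul_eq_zero.2 hC
    have hA0 : TrivSqZeroExt.fst A = 1 := by
      first | exact hA | linear_combination hA | linear_combination -hA
    simp [hB0, hA0] at hA1 e12 e21 e22
    have hbt : b * t = f := by
      first
        | linear_combination t * hA1 - e22 + h * hCt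
        | linear_combination t * hA1 - e22 - h * hCt
        | linear_combination t * hA1 + e22 + h * hCt
        | linear_combination t * hA1 + e22 - h * hCt
        | linear_combination -t * hA1 - e22 + h * hCt
        | linear_combination -t * hA1 - e22 - h * hCt
        | linear_combination -t * hA1 + e22 + h * hCt
        | linear_combination -t * hA1 + e22 - h * hCt
    refine ⟨hbt, fun h1 => ?_, fun h2 => ?_⟩
    · subst h1
      rw [hQ1 rfl] at e12 e21
      have hC0 : TrivSqZeroExt.fst C = 0 := by simpa using hCt
      constructor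
      · first
          | linear_combination e12 + i * hC0 | linear_combination e12 - i * hC0
          | linear_combination -e12 + i * hC0 | linear_combination -e12 - i * hC0
      · first
          | linear_combination e21 | linear_combination -e21
    · subst h2
      obtain ⟨w', hw1⟩ := hw 1
      obtain ⟨A', B', C', rfl⟩ := expand bs w'
      have f01 := key _ 1 _ (hw1 0)
      have f11 := key _ 1 _ (hw1 1)
      have f21 := key _ 1 _ (hw1 2)
      simp [crd, lie_add, add_lie, lie_smul, smul_lie, pow_two, Module.End.mul_apply, hxy, hxz, hyz, h10, h20, h21,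
        smul_smul, TrivSqZeroExt.algebraMap_eq_inl] at f01 f11 f21
      obtain ⟨hB', -⟩ := f01
      obtain ⟨hA', -⟩ := f11
      have hB0' : TrivSqZeroExt.fst B' = 0 := by
        first | exact hB' | linear_combination hB' | linear_combination -hB'
      have hA0' : TrivSqZeroExt.fst A' = 0 := by
        first | exact hA' | linear_combination hA' | linear_combination -hA'
      simp [hB0', hA0'] at f21
      first | exact f21.symm | exact f21 | linear_combination f21 | linear_combination -f21
  · rintro ⟨hbt, h1, h2⟩ j
    have h3 : ∀ (jj : Fin 3), jj ≠ 0 → ∀ u, (LieAlgebra.ad (DualNumber K) L (bs jj) ^ 3) u = 0 := by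
      intro jj hjj
      refine fun u => LinearMap.congr_fun (bs.ext (f₂ := 0) fun l => ext_crd bs fun m => ?_) u
      fin_cases jj <;> first
        | exact absurd rfl hjj
        | (fin_cases l <;> fin_cases m <;>
            simp [crd, lie_add, lie_smul, pow_succ, Module.End.mul_apply, hxy, hxz, hyz, h10, h20, h21, smul_smul,
              TrivSqZeroExt.algebraMap_eq_inl])
    have hd : t ^ (p - 1) * d = d := by
      rcases eq_or_ne t 0 with h0 | h0
      · rw [hjac, h0, zero_mul, mul_zero]
      · rw [htp h0, one_mul]
    have hc : Q p * c = c ∧ Q p * e = e := by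
      rcases eq_or_ne t 1 with h' | h'
      · simp [(h1 h').1, (h1 h').2]
      · simp [hQne h']
    rw [hd, hc.1, hc.2] at hP
    rcases eq_or_ne j 0 with rfl | hj
    · refine ⟨(1 - b • ε : DualNumber K) • bs 0, fun l => ?_⟩
      fin_cases l
      · simp [hx0 p hp.pos]
      · refine ext_crd bs fun m => ?_
        fin_cases m <;> simp [crd, hP.1, hxy, smul_smul, TrivSqZeroExt.algebraMap_eq_inl]
      · refine ext_crd bs fun m => ?_
        fin_cases m <;> simp [crd, hP.2, hxz, smul_smul, TrivSqZeroExt.algebraMap_eq_inl] <;> linear_combination -hbt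
    rcases eq_or_ne p 2 with hp2 | hp2
    · subst hp2
      obtain rfl := h2 rfl
      have h20' : (2 : K) = 0 := by exact_mod_cast hpK
      refine ⟨![0, (a • ε : DualNumber K) • bs 1, (d • ε : DualNumber K) • bs 2] j, fun l => ?_⟩
      fin_cases j
      · exact absurd rfl hj
      all_goals
        refine ext_crd bs fun m => ?_
        fin_cases l <;> fin_cases m <;>
          simp [crd, lie_add, lie_smul, pow_two, Module.End.mul_apply, hxy, hxz, hyz, h10, h20, h21, smul_smul,
            CharTwo.neg_eq, TrivSqZeroExt.algebraMap_eq_inl] <;> grind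
    · refine ⟨0, fun l => ?_⟩
      rw [zero_lie]
      symm
      obtain ⟨q, hq⟩ : ∃ q, p = q + 3 := ⟨p - 3, by have := hp.two_le; omega⟩
      rw [hq, pow_add, Module.End.mul_apply, h3 _ hj, map_zero]


end Groth.Agent.S13778
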