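import Groth.Statements.S13779
import Groth.Agent.Lib.PLie.Basic
import Mathlib.Tactic.FinCases
import Mathlib.Tactic.Ring
import Mathlib.Algebra.Ring.Parity

set_option autoImplicit false
universe u v
open PLie

namespace Groth.Agent.S13779

/-- Let p be an odd prime, R a commutative ring of characteristic p, t ∈ R, and L a Lie algebra over R,
free as a module with basis x = bs 0, y = bs 1, z = bs 2 and brackets [x,y] = z, [x,z] = t • y,
[y,z] = 0. Then L carries a p-mapping φ with φ x = t ^ ((p - 1) / 2) • x, φ y = 0 and φ z = 0. (The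
published statement concerns the Lie algebra with these brackets over a field of Laurent series
k((t)), k algebraically closed of odd characteristic, t the variable; this row states its
restrictability over every commutative ring of odd prime characteristic and every t.) -/
theorem result (R : Type u) [CommRing R] (p : ℕ) [Fact p.Prime] [CharP R p] (hp : p ≠ 2)
    (t : R) (L : Type v) [LieRing L] [LieAlgebra R L] (bs : Module.Basis (Fin 3) R L)
    (hxy : ⁅bs 0, bs 1⁆ = bs 2) (hxz : ⁅bs 0, bs 2⁆ = t • bs 1) (hyz : ⁅bs 1, bs 2⁆ = 0) :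
    ∃ φ : PLie.PMap R p L, φ (bs 0) = t ^ ((p - 1) / 2) • bs 0 ∧ φ (bs 1) = 0 ∧ φ (bs 2) = 0 := by
  have h10 : ⁅bs 1, bs 0⁆ = -bs 2 := by rw [← lie_skew, hxy]
  have h20 : ⁅bs 2, bs 0⁆ = -(t • bs 1) := by rw [← lie_skew, hxz]
  have h21 : ⁅bs 2, bs 1⁆ = 0 := by rw [← lie_skew, hyz, neg_zero]
  have hodd : Odd p := (Fact.out : p.Prime).odd_of_ne_two hp
  obtain ⟨m, hm⟩ := hodd
  have hx : ∀ n : ℕ, LieAlgebra.ad R L (bs 0) ^ (2 * n + 1) = t ^ n • LieAlgebra.ad R L (bs 0) := by
    intro n
    induction n with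
    | zero => simp
    | succ n ih =>
      rw [show 2 * (n + 1) + 1 = (2 * n + 1) + 2 by ring, pow_add _ _ 2, ih, smul_mul_assoc, pow_succ t n, mul_smul]
      congr 1
      refine bs.ext fun j => ?_
      fin_cases j <;> simp [pow_two, Module.End.mul_apply, hxy, hxz]
  have hsq : ∀ (i : Fin 3), i ≠ 0 → LieAlgebra.ad R L (bs i) ^ 2 = 0 := fun i hi => bs.ext fun j => by
    fin_cases i <;> first
      | exact absurd rfl hi
      | (fin_cases j <;> simp [pow_two, Module.End.mul_apply, hyz, h10, h20, h21])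
  obtain ⟨φ, hφ⟩ := GrothLib.PLie.exists_of_basis bs ![t ^ ((p - 1) / 2) • bs 0, 0, 0] fun i => by
    fin_cases i
    · simp [hm, hx m]
    · have := (hsq 1 (by decide))
      simp [hm, show 2 * m + 1 = 2 + (2 * m - 1) by have := (Fact.out : p.Prime).two_le; omega, pow_add, this]
    · have := (hsq 2 (by decide))
      simp [hm, show 2 * m + 1 = 2 + (2 * m - 1) by have := (Fact.out : p.Prime).two_le; omega, pow_add, this]
  exact ⟨φ, hφ 0, hφ 1, hφ 2⟩


end Groth.Agent.S13779
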