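import Groth.Statements.S13782
import Mathlib
import Groth.Agent.Lib.CMFree.Regular
import Groth.Agent.Lib.LocProp.SmoothDescendFlat

set_option autoImplicit false
universe u
open CAlg

namespace Groth.Agent.S13782

open TensorProduct Polynomial

variable {k P : Type u} [CommRing k] [CommRing P] [Algebra k P]

theorem mem_ker_iff (f x : P) : x ∈ RingHom.ker (algebraMap P (P ⧸ Ideal.span {f})) ↔ x ∈ Ideal.span {f} := by
  rw [Ideal.Quotient.algebraMap_eq, Ideal.mk_ker]

/-- A functional on differentials normalised on the equation gives smoothness of the hypersurface. -/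
theorem formallySmooth_quotient [Algebra.FormallySmooth k P] (f : P)
    (φ : Ω[P⁄k] →ₗ[P] P) (hφ : φ (KaehlerDifferential.D k P f) - 1 ∈ Ideal.span {f}) :
    Algebra.FormallySmooth k (P ⧸ Ideal.span {f}) := by
  let B := P ⧸ Ideal.span {f}
  let I := RingHom.ker (algebraMap P B)
  have hf : f ∈ I := (mem_ker_iff f f).mpr (Ideal.mem_span_singleton_self f)
  let fc : I.Cotangent := I.toCotangent ⟨f, hf⟩
  have hkill : ∀ (r : P) (x : I.Cotangent), r ∈ Ideal.span {f} → r • x = 0 := by
    intro r x hr
    obtain ⟨y, rfl⟩ := Ideal.toCotangent_surjective I x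
    rw [← map_smul, Ideal.toCotangent_eq_zero]
    rw [pow_two, Submodule.coe_smul, smul_eq_mul]
    exact Ideal.mul_mem_mul ((mem_ker_iff f r).mpr hr) y.2
  let ψ : Ω[P⁄k] →ₗ[P] I.Cotangent := (LinearMap.toSpanSingleton P I.Cotangent fc).comp φ
  have hle : (Ideal.span {f} • ⊤ : Submodule P Ω[P⁄k]) ≤ LinearMap.ker ψ :=
    Submodule.smul_le.mpr fun r hr x _ => by rw [LinearMap.mem_ker, map_smul]; exact hkill r _ hr
  let l : B ⊗[P] Ω[P⁄k] →ₗ[P] I.Cotangent :=
    (Submodule.liftQ _ ψ hle).comp (TensorProduct.quotTensorEquivQuotSMul Ω[P⁄k] (Ideal.span {f})).toLinearMap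
  refine (Algebra.FormallySmooth.iff_split_injection (P := P) Ideal.Quotient.mk_surjective).mpr ⟨l, ?_⟩
  refine LinearMap.ext fun x => ?_
  obtain ⟨⟨y, hy⟩, rfl⟩ := Ideal.toCotangent_surjective I x
  obtain ⟨a, ha⟩ := Ideal.mem_span_singleton'.mp ((mem_ker_iff f y).mp hy)
  have e1 : I.toCotangent ⟨y, hy⟩ = a • fc := by
    rw [← map_smul]
    exact congrArg _ (Subtype.ext ha.symm)
  show l (KaehlerDifferential.kerCotangentToTensor k P B (I.toCotangent ⟨y, hy⟩)) = I.toCotangent ⟨y, hy⟩
  rw [e1, map_smul, map_smul, KaehlerDifferential.kerCotangentToTensor_toCotangent]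
  congr 1
  show (Submodule.liftQ _ ψ hle) ((TensorProduct.quotTensorEquivQuotSMul Ω[P⁄k] (Ideal.span {f}))
    ((1 : B) ⊗ₜ KaehlerDifferential.D k P f)) = fc
  rw [show (1 : B) = Ideal.Quotient.mk _ (1 : P) from (map_one _).symm,
    TensorProduct.quotTensorEquivQuotSMul_mk_tmul, one_smul]
  show φ (KaehlerDifferential.D k P f) • fc = fc
  conv_rhs => rw [← one_smul P fc]
  rw [← sub_eq_zero, ← sub_smul]
  exact hkill _ _ hφ

/-- Smoothness of a hypersurface gives a functional normalised on the equation. -/
theorem exists_functional [Algebra.FormallySmooth k P] (f : P) (hf0 : ∀ a, a * f = 0 → a = 0)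
    [Algebra.FormallySmooth k (P ⧸ Ideal.span {f})] :
    ∃ φ : Ω[P⁄k] →ₗ[P] P, φ (KaehlerDifferential.D k P f) - 1 ∈ Ideal.span {f} := by
  let B := P ⧸ Ideal.span {f}
  let I := RingHom.ker (algebraMap P B)
  obtain ⟨l, hl⟩ := (Algebra.FormallySmooth.iff_split_injection (R := k) (P := P) (A := B)
    Ideal.Quotient.mk_surjective).mp inferInstance
  have hf : f ∈ I := (mem_ker_iff f f).mpr (Ideal.mem_span_singleton_self f)
  let fc : I.Cotangent := I.toCotangent ⟨f, hf⟩
  let μ : P →ₗ[P] I.Cotangent := LinearMap.toSpanSingleton P I.Cotangent fc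
  have hμ : Function.Surjective μ := by
    intro x
    obtain ⟨⟨y, hy⟩, rfl⟩ := Ideal.toCotangent_surjective I x
    obtain ⟨a, ha⟩ := Ideal.mem_span_singleton'.mp ((mem_ker_iff f y).mp hy)
    refine ⟨a, ?_⟩
    show a • I.toCotangent ⟨f, hf⟩ = _
    rw [← map_smul]
    exact congrArg _ (Subtype.ext ha)
  obtain ⟨φ, hφ⟩ := Module.projective_lifting_property μ
    (l.comp (TensorProduct.mk P B Ω[P⁄k] 1)) hμ
  refine ⟨φ, ?_⟩
  have h1 : μ (φ (KaehlerDifferential.D k P f)) = fc := by
    have h2 := LinearMap.congr_fun hl fc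
    refine (LinearMap.congr_fun hφ _).trans ?_
    have e : KaehlerDifferential.kerCotangentToTensor k P B fc = (1 : B) ⊗ₜ KaehlerDifferential.D k P f :=
      KaehlerDifferential.kerCotangentToTensor_toCotangent k P B ⟨f, hf⟩
    exact (congrArg l e).symm.trans h2
  generalize φ (KaehlerDifferential.D k P f) = c at h1
  have h3 : I.toCotangent ⟨(c - 1) * f, Ideal.mul_mem_left _ _ hf⟩ = 0 := by
    have e : (⟨(c - 1) * f, Ideal.mul_mem_left _ _ hf⟩ : I) = (c - 1) • ⟨f, hf⟩ := Subtype.ext rfl
    rw [e, map_smul, sub_smul, one_smul, sub_eq_zero]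
    exact h1
  rw [Ideal.toCotangent_eq_zero] at h3
  have hI : I = Ideal.span {f} := Ideal.ext (mem_ker_iff f)
  have h3' : (c - 1) * f ∈ I ^ 2 := h3
  rw [hI, Ideal.span_singleton_pow] at h3'
  obtain ⟨t, ht⟩ := Ideal.mem_span_singleton'.mp h3'
  have h4 := hf0 (c - 1 - t * f) (by rw [sub_mul]; linear_combination -ht)
  exact Ideal.mem_span_singleton'.mpr ⟨t, (sub_eq_zero.mp h4).symm⟩

theorem nonZero_of_irreducible {F A : Type u} [Field F] [CommRing A] [Algebra F A] [Algebra.Smooth F A]
    (s : A) (hs : Irreducible s) : ∀ a, a * s = 0 → a = 0 := by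
  classical
  haveI : IsNoetherianRing A := Algebra.FiniteType.isNoetherianRing F A
  let J : Ideal A := LinearMap.ker (LinearMap.mulRight A s)
  have hJ : ∀ a, a ∈ J ↔ a * s = 0 := fun a => LinearMap.mem_ker
  have hidem : J * J = J := by
    refine le_antisymm Ideal.mul_le_left ?_
    refine fun a ha => Ideal.mem_of_localization_maximal fun m hm => ?_
    haveI : Algebra.FormallyEtale A (Localization.AtPrime m) := .of_isLocalization m.primeCompl
    haveI : Algebra.IsSmoothAt F m := Algebra.FormallySmooth.comp F A (Localization.AtPrime m)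
    haveI := GrothLib.LocProp.isRegularLocalRing_of_isSmoothAt_field (k := F) m
    haveI := GrothLib.CMFree.isDomain_of_isRegularLocalRing (Localization.AtPrime m)
    have h := congrArg (algebraMap A (Localization.AtPrime m)) ((hJ a).mp ha)
    rw [map_mul, map_zero] at h
    rcases mul_eq_zero.mp h with h | h
    · rw [h]; exact zero_mem _
    · obtain ⟨u, hu⟩ := (IsLocalization.map_eq_zero_iff m.primeCompl (Localization.AtPrime m) s).mp h
      have hu' : (u : A) ∈ J := (hJ _).mpr hu
      have hU := IsLocalization.map_units (Localization.AtPrime m) u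
      have h2 : algebraMap A (Localization.AtPrime m) ((u : A) * u) ∈ Ideal.map (algebraMap A (Localization.AtPrime m)) (J * J) :=
        Ideal.mem_map_of_mem _ (Ideal.mul_mem_mul hu' hu')
      rw [map_mul] at h2
      have : Ideal.map (algebraMap A (Localization.AtPrime m)) (J * J) = ⊤ :=
        Ideal.eq_top_of_isUnit_mem _ h2 (hU.mul hU)
      rw [this]
      exact Submodule.mem_top
  obtain ⟨ε, hε, hεJ⟩ := (Ideal.isIdempotentElem_iff_of_fg J (IsNoetherian.noetherian J)).mp hidem
  have hεs : ε * s = 0 := (hJ ε).mp (by rw [hεJ]; exact Ideal.mem_span_singleton_self ε)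
  have e1 : s = (1 - ε) * (s + ε) := by linear_combination hεs + hε.eq
  intro a ha
  have ha' : a ∈ Ideal.span {ε} := le_of_eq hεJ ((hJ a).mpr ha)
  obtain ⟨b, rfl⟩ := Ideal.mem_span_singleton'.mp ha'
  suffices ε = 0 by rw [this, mul_zero]
  rcases hs.isUnit_or_isUnit e1 with h | h
  · refine h.mul_left_cancel ?_
    rw [mul_zero, sub_mul, one_mul, hε.eq, sub_self]
  · exfalso
    obtain ⟨v, hv⟩ := h
    have hidem1 : (1 - ε) * (1 - ε) = 1 - ε := by linear_combination hε.eq
    have e2 : s = (1 - ε) * ((1 - ε) * (s + ε)) := by rw [← mul_assoc, hidem1, ← e1]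
    rcases hs.isUnit_or_isUnit e2 with h1 | h1
    · exact hs.not_isUnit (e1 ▸ h1.mul (hv ▸ v.isUnit))
    · exact hs.not_isUnit (e1 ▸ h1)

/-- Extension of a derivation coefficientwise. -/
noncomputable def polyExt {A : Type u} [CommRing A] [Algebra k A] (δ : Derivation k A A) :
    Derivation k A[X] A[X] :=
  Derivation.mk'
    { toFun := fun f => f.sum fun i a => monomial i (δ a)
      map_add' := fun f g => Polynomial.sum_add_index f g _ (fun i => by simp) (fun i a b => by simp)
      map_smul' := fun r f => by
        ext i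
        simp only [RingHom.id_apply, Polynomial.coeff_smul, Polynomial.coeff_sum, coeff_monomial]
        rw [Polynomial.sum_def, Polynomial.sum_def, Finset.smul_sum]
        simp only [Finset.sum_ite_eq', mem_support_iff, ← smul_ite_zero]
        by_cases h : f.coeff i = 0
        · simp [h]
        · by_cases h' : r • f.coeff i = 0
          · rw [if_neg (by simp [h'])]
            refine (Finset.sum_eq_zero fun x _ => ?_).symm
            split_ifs with hx
            · subst hx
              rw [← Derivation.map_smul, h', map_zero]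
            · exact smul_zero _
          · simp [h, h'] }
    (fun f g => by
      have hc : ∀ (h : A[X]) (i : ℕ), ((h.sum fun i a => monomial i (δ a)) : A[X]).coeff i = δ (h.coeff i) := by
        intro h i
        rw [Polynomial.coeff_sum, Polynomial.sum_def]
        simp only [coeff_monomial, Finset.sum_ite_eq', mem_support_iff]
        by_cases h0 : h.coeff i = 0 <;> simp [h0]
      ext i
      show ((f * g).sum fun i a => monomial i (δ a)).coeff i =
        (f • (g.sum fun i a => monomial i (δ a)) + g • (f.sum fun i a => monomial i (δ a))).coeff i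
      rw [smul_eq_mul, smul_eq_mul, mul_comm g, coeff_add, hc, coeff_mul, coeff_mul, coeff_mul, map_sum,
        ← Finset.sum_add_distrib]
      refine Finset.sum_congr rfl fun q _ => ?_
      rw [Derivation.leibniz, hc, hc, smul_eq_mul, smul_eq_mul]
      ring)

theorem polyExt_C {A : Type u} [CommRing A] [Algebra k A] (δ : Derivation k A A) (a : A) :
    polyExt δ (C a) = C (δ a) := by
  show (C a).sum (fun i a => monomial i (δ a)) = _
  rw [Polynomial.sum_C_index]
  · rfl
  · simp

theorem polyExt_X {A : Type u} [CommRing A] [Algebra k A] (δ : Derivation k A A) :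
    polyExt δ X = 0 := by
  show (X : A[X]).sum (fun i a => monomial i (δ a)) = _
  rw [Polynomial.sum_X_index] <;> simp


/-- Let k be a field, A a smooth k-algebra, s an irreducible element of A and e an integer, at least 2,
that is invertible in k. Then the k-algebra A[t]/(t^e - s) is smooth exactly when the quotient ring
A/(s) is a smooth k-algebra. (Smooth over k means formally smooth and of finite presentation over
k.) -/
theorem result (k A : Type u) [Field k] [CommRing A] [Algebra k A]
    [Algebra.Smooth k A] (s : A) (hs : Irreducible s) (e : ℕ) (he : 2 ≤ e) (hek : (e : k) ≠ 0) :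
    Algebra.Smooth k (AdjoinRoot (Polynomial.X ^ e - Polynomial.C s)) ↔
      Algebra.Smooth k (A ⧸ Ideal.span {s}) := by
  classical
  have hs0 := nonZero_of_irreducible (F := k) s hs
  let f : A[X] := X ^ e - C s
  have hfm : f.Monic := monic_X_pow_sub_C s (by omega)
  have hf0 : ∀ a, a * f = 0 → a = 0 := fun a ha => hfm.mul_left_eq_zero_iff.mp ha
  haveI : Algebra.FormallySmooth k A[X] := Algebra.FormallySmooth.comp k A A[X]
  haveI : Algebra.FinitePresentation k A[X] := Algebra.FinitePresentation.trans k A A[X]
  constructor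
  · intro hB
    haveI : Algebra.FormallySmooth k (A[X] ⧸ Ideal.span {f}) := hB.formallySmooth
    obtain ⟨φ, hφ⟩ := exists_functional (k := k) f hf0
    let ev : A[X] →ₐ[k] A := (Polynomial.aeval (0 : A)).restrictScalars k
    obtain ⟨t, ht⟩ := Ideal.mem_span_singleton'.mp hφ
    let δ : Derivation k A A := Derivation.mk'
      { toFun := fun x => - ev (φ (KaehlerDifferential.D k A[X] (C x)))
        map_add' := fun x y => by rw [C_add, map_add, map_add, map_add, neg_add]
        map_smul' := fun r x => by
          rw [show (C (r • x) : A[X]) = r • C x from (Polynomial.smul_C r x).symm, Derivation.map_smul,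
            RingHom.id_apply, ← algebraMap_smul A[X] r, map_smul, smul_eq_mul, map_mul, AlgHom.commutes,
            ← Algebra.smul_def, smul_neg] }
      (fun x y => by
        show - ev (φ (KaehlerDifferential.D k A[X] (C (x * y)))) =
          x • (- ev (φ (KaehlerDifferential.D k A[X] (C y)))) + y • (- ev (φ (KaehlerDifferential.D k A[X] (C x))))
        rw [C_mul, Derivation.leibniz, map_add, map_smul, map_smul, map_add, smul_eq_mul, smul_eq_mul, map_mul,
          map_mul, show ev (C x) = x by simp [ev], show ev (C y) = y by simp [ev], smul_eq_mul, smul_eq_mul]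
        ring)
    have hδ : δ s - 1 ∈ Ideal.span {s} := by
      show - ev (φ (KaehlerDifferential.D k A[X] (C s))) - 1 ∈ _
      have h2 := congrArg ev ht
      rw [show f = X ^ e - C s from rfl] at h2
      simp only [map_sub, map_one, Derivation.leibniz_pow, map_nsmul, map_smul, smul_eq_mul, map_mul, map_pow, show ev X = 0 by simp [ev],
        show ev (C s) = s by simp [ev], zero_pow (show e ≠ 0 by omega),
        zero_pow (show e - 1 ≠ 0 by omega), zero_mul, smul_zero, zero_sub] at h2
      rw [← h2]
      exact Ideal.mem_span_singleton'.mpr ⟨- ev t, by ring⟩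
    haveI := formallySmooth_quotient (k := k) s δ.liftKaehlerDifferential
      (by rw [Derivation.liftKaehlerDifferential_comp_D]; exact hδ)
    haveI : Algebra.FinitePresentation k (A ⧸ Ideal.span {s}) :=
      Algebra.FinitePresentation.quotient (Submodule.fg_span_singleton s)
    exact ⟨inferInstance, inferInstance⟩
  · intro hA
    haveI := hA.formallySmooth
    obtain ⟨φ, hφ⟩ := exists_functional (k := k) s hs0
    obtain ⟨a, ha⟩ := Ideal.mem_span_singleton'.mp hφ
    let δ : Derivation k A A := φ.compDer (KaehlerDifferential.D k A)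
    let D : Derivation k A[X] A[X] :=
      (-(C (algebraMap k A ((e : k)⁻¹) * a) * X) : A[X]) • (Polynomial.derivative' (R := A)).restrictScalars k - polyExt δ
    have hDf : D f - 1 ∈ Ideal.span {f} := by
      have h1 : D f = -(C (algebraMap k A ((e : k)⁻¹) * a) * X) * derivative f - polyExt δ f := rfl
      have h2 : polyExt δ f = - C (δ s) := by
        rw [show f = X ^ e - C s from rfl, map_sub, Derivation.leibniz_pow, polyExt_X, smul_zero, smul_zero,
          polyExt_C, zero_sub]
      have h3 : derivative f = C (e : A) * X ^ (e - 1) := by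
        rw [show f = X ^ e - C s from rfl, derivative_sub, derivative_X_pow, derivative_C, sub_zero]
      have h4 : algebraMap k A ((e : k)⁻¹) * (e : A) = 1 := by
        rw [← map_natCast (algebraMap k A), ← map_mul, inv_mul_cancel₀ hek, map_one]
      have h5 : δ s = 1 + a * s := by
        show φ (KaehlerDifferential.D k A s) = _
        linear_combination -ha
      refine Ideal.mem_span_singleton'.mpr ⟨-C a, ?_⟩
      rw [h1, h2, h3, h5, show f = X ^ e - C s from rfl,
        show (X : A[X]) ^ e = X * X ^ (e - 1) by rw [← pow_succ', Nat.sub_add_cancel (by omega : 1 ≤ e)]]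
      have h6 : C (algebraMap k A ((e : k)⁻¹)) * C (e : A) = (1 : A[X]) := by rw [← C_mul, h4, C_1]
      simp only [C_mul, C_add, C_1]
      linear_combination (C a * X * X ^ (e - 1)) * h6
    haveI := formallySmooth_quotient (k := k) f D.liftKaehlerDifferential
      (by rw [Derivation.liftKaehlerDifferential_comp_D]; exact hDf)
    haveI : Algebra.FinitePresentation k (A[X] ⧸ Ideal.span {f}) :=
      Algebra.FinitePresentation.quotient (Submodule.fg_span_singleton f)
    exact (⟨inferInstance, inferInstance⟩ : Algebra.Smooth k (A[X] ⧸ Ideal.span {f}))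

end Groth.Agent.S13782
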