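import Groth.Statements.S13784
import Mathlib.RingTheory.IntegralDomain
import Mathlib.RingTheory.LocalRing.ResidueField.Basic
import Mathlib.Algebra.Ring.GeomSum

set_option autoImplicit false
universe u
open CAlg

namespace Groth.Agent.S13784

/-- Let A be a commutative local ring and G a finite subgroup of Aˣ. If the order of G is invertible in
A, then G is cyclic. -/
theorem result {A : Type u} [CommRing A] [IsLocalRing A]
    (G : Subgroup Aˣ) [Finite G] (hG : IsUnit ((Nat.card G : ℕ) : A)) : IsCyclic G := by
  let φ : G →* IsLocalRing.ResidueField A :=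
    (IsLocalRing.residue A : A →* IsLocalRing.ResidueField A).comp ((Units.coeHom A).comp G.subtype)
  refine isCyclic_of_injective_ringHom φ ((injective_iff_map_eq_one φ).2 fun g hg => ?_)
  set u : A := ((g : Aˣ) : A)
  have hN : u ^ Nat.card G = 1 := by
    have := congrArg (fun x : G => ((x : Aˣ) : A)) (pow_card_eq_one' (x := g))
    simpa only [u, Subgroup.coe_pow, Units.val_pow_eq_pow_val, Subgroup.coe_one, Units.val_one]
      using this
  have hu : IsUnit (∑ i ∈ Finset.range (Nat.card G), u ^ i) := by
    apply isUnit_of_map_unit (IsLocalRing.residue A)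
    have : IsLocalRing.residue A u = 1 := hg
    simp only [map_sum, map_pow, this, one_pow, Finset.sum_const, Finset.card_range, nsmul_one]
    simpa using hG.map (IsLocalRing.residue A)
  have h0 : (u - 1) * ∑ i ∈ Finset.range (Nat.card G), u ^ i = 0 := by
    rw [mul_geom_sum, hN, sub_self]
  exact Subtype.ext (Units.ext (sub_eq_zero.1 ((hu.mul_left_eq_zero).1 h0)))

end Groth.Agent.S13784
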