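import Groth.Statements.S13785
import Mathlib.LinearAlgebra.Matrix.Charpoly.Coeff
import Mathlib.Algebra.Polynomial.Monic

set_option autoImplicit false
universe u
open CAlg

namespace Groth.Agent.S13785

/-- For any commutative ring A, the determinant of the generic n × n matrix is a nonzerodivisor of the
polynomial ring over A in the n² matrix entries. -/
theorem result (A : Type u) [CommRing A] (n : ℕ) :
    (Matrix.mvPolynomialX (Fin n) (Fin n) A).det ∈ nonZeroDivisors (MvPolynomial (Fin n × Fin n) A) := by
  let X' := Matrix.mvPolynomialX (Fin n) (Fin n) A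
  let φ : (MvPolynomial (Fin n × Fin n) A) →+* Polynomial (MvPolynomial (Fin n × Fin n) A) := MvPolynomial.eval₂Hom
    ((Polynomial.C : (MvPolynomial (Fin n × Fin n) A) →+* Polynomial (MvPolynomial (Fin n × Fin n) A)).comp MvPolynomial.C)
    fun ij => Polynomial.C (MvPolynomial.X ij) + if ij.1 = ij.2 then Polynomial.X else 0
  have hφ : φ X'.det = (-X').charpoly := by
    rw [RingHom.map_det, Matrix.charpoly]
    congr 1
    refine Matrix.ext fun i j => ?_
    simp only [RingHom.mapMatrix_apply, Matrix.map_apply, X', Matrix.mvPolynomialX_apply, φ,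
      MvPolynomial.eval₂Hom_X', Matrix.charmatrix_apply, Matrix.neg_apply, map_neg, sub_neg_eq_add]
    by_cases h : i = j <;> simp [h, Matrix.diagonal, add_comm]
  have hinv : (Polynomial.evalRingHom (0 : (MvPolynomial (Fin n × Fin n) A))).comp φ = RingHom.id (MvPolynomial (Fin n × Fin n) A) := by
    refine MvPolynomial.ringHom_ext (fun r => by simp [φ]) fun ij => ?_
    simp only [RingHom.comp_apply, φ, MvPolynomial.eval₂Hom_X']
    by_cases h : ij.1 = ij.2 <;> simp [h] <;> rfl
  rw [mem_nonZeroDivisors_iff_right]
  intro f hf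
  have h1 : φ f * (-X').charpoly = 0 := by rw [← hφ, ← map_mul, hf, map_zero]
  have h2 : φ f = 0 := (Matrix.charpoly_monic (-X')).mul_left_eq_zero_iff.1 h1
  have := RingHom.congr_fun hinv f
  rw [RingHom.comp_apply, h2, map_zero] at this
  exact this.symm

end Groth.Agent.S13785
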