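import Groth.Statements.S13786
import Mathlib

set_option autoImplicit false
universe u
open CAlg

namespace Groth.Agent.S13786

/-- The generic determinant over the integers stays a non-divisor of nonzero integers. -/
theorem dvd_of_int_dvd (n m : ℕ) (hm : m ≠ 0) (f : MvPolynomial (Fin n × Fin n) ℤ)
    (h : (Matrix.mvPolynomialX (Fin n) (Fin n) ℤ).det ∣ MvPolynomial.C (m : ℤ) * f) :
    (Matrix.mvPolynomialX (Fin n) (Fin n) ℤ).det ∣ f := by
  induction m using Nat.strong_induction_on generalizing f with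
  | _ m ih =>
    rcases Nat.lt_or_ge m 2 with h2 | h2
    · obtain rfl : m = 1 := by omega
      simpa using h
    obtain ⟨p, hp, q, rfl⟩ := Nat.exists_prime_and_dvd (by omega : m ≠ 1)
    haveI : Fact p.Prime := ⟨hp⟩
    have hq0 : 0 < q := Nat.pos_of_ne_zero fun h => hm (by simp [h])
    have hq : q < p * q := by nlinarith [hp.two_le]
    refine ih q hq (by rintro rfl; simp at hm) f ?_
    obtain ⟨g, hg⟩ := h
    obtain ⟨g', rfl⟩ : MvPolynomial.C (p : ℤ) ∣ g := by
      have h0 := congrArg (MvPolynomial.map (Int.castRingHom (ZMod p))) hg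
      rw [map_mul, map_mul, MvPolynomial.map_C] at h0
      simp only [eq_intCast, Int.cast_natCast, Int.cast_mul, Nat.cast_mul, CharP.cast_eq_zero, zero_mul, map_zero] at h0
      have hdet : MvPolynomial.map (Int.castRingHom (ZMod p))
          (Matrix.mvPolynomialX (Fin n) (Fin n) ℤ).det ≠ 0 := fun hz => by
        have h1 := congrArg (MvPolynomial.eval fun v : Fin n × Fin n => if v.1 = v.2 then (1 : ZMod p) else 0) hz
        rw [RingHom.map_det, show (MvPolynomial.map (Int.castRingHom (ZMod p))).mapMatrix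
          (Matrix.mvPolynomialX (Fin n) (Fin n) ℤ) = Matrix.mvPolynomialX (Fin n) (Fin n) (ZMod p) by
            ext i j; simp, map_zero, RingHom.map_det,
          show (MvPolynomial.eval fun v : Fin n × Fin n => if v.1 = v.2 then (1 : ZMod p) else 0).mapMatrix
            (Matrix.mvPolynomialX (Fin n) (Fin n) (ZMod p)) = 1 by ext i j; simp [Matrix.one_apply],
          Matrix.det_one] at h1
        exact one_ne_zero h1
      exact MvPolynomial.C_dvd_iff_zmod p g |>.2 ((mul_eq_zero.1 h0.symm).resolve_left hdet)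
    refine ⟨g', mul_left_cancel₀ (MvPolynomial.C_ne_zero.2 (by exact_mod_cast hp.ne_zero : (p : ℤ) ≠ 0)) ?_⟩
    rw [← mul_assoc, ← map_mul, ← Nat.cast_mul, hg]
    ring



/-- For a commutative ring A and n ≥ 1, with det the determinant of the generic n × n matrix in the
polynomial ring A[X] in n² indeterminates, the A-algebra A[X]/(det) is faithfully flat over A. (For
n = 0 the determinant is 1 and the quotient is the zero ring, so n ≥ 1 is required.) -/
theorem result (A : Type u) [CommRing A] (n : ℕ) (hn : 0 < n) :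
    Module.FaithfullyFlat A
      (MvPolynomial (Fin n × Fin n) A ⧸ Ideal.span {(Matrix.mvPolynomialX (Fin n) (Fin n) A).det}) := by
  classical
  let I₀ : Ideal (MvPolynomial (Fin n × Fin n) ℤ) :=
    Ideal.span {(Matrix.mvPolynomialX (Fin n) (Fin n) ℤ).det}
  let I : Ideal (MvPolynomial (Fin n × Fin n) A) :=
    Ideal.span {(Matrix.mvPolynomialX (Fin n) (Fin n) A).det}
  have hmap : ∀ {C : Type u} [CommRing C] (φ : MvPolynomial (Fin n × Fin n) A →+* C),
      φ (Matrix.mvPolynomialX (Fin n) (Fin n) A).det =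
        (Matrix.of fun i j => φ (MvPolynomial.X (i, j))).det := fun φ => by
    rw [RingHom.map_det]; rfl
  haveI : Module.Flat ℤ (MvPolynomial (Fin n × Fin n) ℤ ⧸ I₀) := by
    rw [IsDedekindDomain.flat_iff_torsion_eq_bot, eq_bot_iff]
    intro x hx
    obtain ⟨⟨m, hm⟩, hmx⟩ := (Submodule.mem_torsion_iff x).1 hx
    obtain ⟨f, rfl⟩ := Ideal.Quotient.mk_surjective x
    rw [Submodule.mem_bot, Ideal.Quotient.eq_zero_iff_mem, Ideal.mem_span_singleton]
    refine dvd_of_int_dvd n m.natAbs (Int.natAbs_ne_zero.2 (nonZeroDivisors.ne_zero hm)) f ?_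
    have : MvPolynomial.C m * f ∈ I₀ := by
      rw [← Ideal.Quotient.eq_zero_iff_mem, ← MvPolynomial.smul_eq_C_mul]
      exact (map_zsmul (Ideal.Quotient.mk I₀) m f).trans hmx
    rw [Ideal.mem_span_singleton] at this
    rcases Int.natAbs_eq m with h | h
    · rwa [← h]
    · rw [h, map_neg, neg_mul, dvd_neg] at this; exact this
  let fwd : TensorProduct ℤ A (MvPolynomial (Fin n × Fin n) ℤ ⧸ I₀) →ₐ[A]
      MvPolynomial (Fin n × Fin n) A ⧸ I :=
    Algebra.TensorProduct.lift (Algebra.ofId _ _)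
      (Ideal.Quotient.lift I₀ ((Ideal.Quotient.mk I).comp (MvPolynomial.map (Int.castRingHom A))) fun x hx => by
        obtain ⟨c, rfl⟩ := Ideal.mem_span_singleton'.1 hx
        rw [map_mul, RingHom.comp_apply (Ideal.Quotient.mk I) _ (Matrix.det _), RingHom.map_det]
        refine mul_eq_zero_of_right _ (Ideal.Quotient.eq_zero_iff_mem.2 ?_)
        rw [show (MvPolynomial.map (Int.castRingHom A)).mapMatrix (Matrix.mvPolynomialX (Fin n) (Fin n) ℤ) =
          Matrix.mvPolynomialX (Fin n) (Fin n) A by ext i j; simp]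
        exact Ideal.mem_span_singleton_self _).toIntAlgHom
      fun _ _ => Commute.all _ _
  let bwd₀ : MvPolynomial (Fin n × Fin n) A →ₐ[A] TensorProduct ℤ A (MvPolynomial (Fin n × Fin n) ℤ ⧸ I₀) :=
    MvPolynomial.aeval fun v => ((1 : A) ⊗ₜ[ℤ] Ideal.Quotient.mk I₀ (MvPolynomial.X v))
  let bwd : (MvPolynomial (Fin n × Fin n) A ⧸ I) →ₐ[A] TensorProduct ℤ A (MvPolynomial (Fin n × Fin n) ℤ ⧸ I₀) :=
    Ideal.Quotient.liftₐ I bwd₀ fun x hx => by
      obtain ⟨c, rfl⟩ := Ideal.mem_span_singleton'.1 hx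
      rw [map_mul]
      refine mul_eq_zero_of_right _ ((hmap (C := TensorProduct ℤ A (MvPolynomial (Fin n × Fin n) ℤ ⧸ I₀)) bwd₀.toRingHom).trans ?_)
      have h1 : (Matrix.of fun i j => bwd₀.toRingHom (MvPolynomial.X (i, j))) =
          ((Algebra.TensorProduct.includeRight (R := ℤ) (A := A)).toRingHom.comp
            (Ideal.Quotient.mk I₀)).mapMatrix (Matrix.mvPolynomialX (Fin n) (Fin n) ℤ) := by
        ext i j; simp [bwd₀]
      rw [h1, ← RingHom.map_det, RingHom.comp_apply,
        Ideal.Quotient.eq_zero_iff_mem.2 (Ideal.mem_span_singleton_self _), map_zero]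
  let e := AlgEquiv.ofAlgHom bwd fwd (by
    refine Algebra.TensorProduct.ext' fun a q => ?_
    obtain ⟨q, rfl⟩ := Ideal.Quotient.mk_surjective q
    have h2 : (bwd.toRingHom.comp ((Ideal.Quotient.mk I).comp (MvPolynomial.map (Int.castRingHom A)))) =
        (Algebra.TensorProduct.includeRight (R := ℤ) (A := A)).toRingHom.comp (Ideal.Quotient.mk I₀) :=
      MvPolynomial.ringHom_ext (fun r => by simp) fun v => by
        show bwd₀ (MvPolynomial.map (Int.castRingHom A) (MvPolynomial.X v)) = _
        simp [bwd₀]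
    have h3 := RingHom.congr_fun h2 q
    simp only [RingHom.comp_apply] at h3
    show bwd (fwd (a ⊗ₜ Ideal.Quotient.mk I₀ q)) = a ⊗ₜ Ideal.Quotient.mk I₀ q
    show bwd (algebraMap A _ a * Ideal.Quotient.mk I (MvPolynomial.map (Int.castRingHom A) q)) = _
    rw [map_mul, AlgHom.commutes]
    erw [h3]
    simp [Algebra.TensorProduct.algebraMap_apply])
    (Ideal.Quotient.algHom_ext _ (MvPolynomial.algHom_ext fun v => by
      show fwd (bwd₀ (MvPolynomial.X v)) = Ideal.Quotient.mk I (MvPolynomial.X v)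
      simp only [bwd₀, fwd, MvPolynomial.aeval_X, Algebra.TensorProduct.lift_tmul, map_one, one_mul]
      exact congrArg (Ideal.Quotient.mk I) (by simp)))
  haveI : Module.Flat A (MvPolynomial (Fin n × Fin n) A ⧸ I) := Module.Flat.of_linearEquiv e.toLinearEquiv
  let ev : (MvPolynomial (Fin n × Fin n) A ⧸ I) →ₐ[A] A :=
    Ideal.Quotient.liftₐ I (MvPolynomial.aeval fun _ => 0) fun x hx => by
      obtain ⟨c, rfl⟩ := Ideal.mem_span_singleton'.1 hx
      rw [map_mul]
      refine mul_eq_zero_of_right _ ((hmap (MvPolynomial.aeval fun _ => (0 : A)).toRingHom).trans ?_)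
      exact Matrix.det_eq_zero_of_row_eq_zero ⟨0, hn⟩ fun j => by simp
  refine Module.FaithfullyFlat.of_comap_surjective fun p => ⟨PrimeSpectrum.comap ev.toRingHom p, ?_⟩
  rw [← PrimeSpectrum.comap_comp_apply,
    show ev.toRingHom.comp (algebraMap A _) = RingHom.id A from ev.comp_algebraMap]
  rfl

end Groth.Agent.S13786
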