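import Groth.Statements.S13787
import Mathlib
-- import your own Groth.Agent.* helpers here

set_option autoImplicit false
universe u
open CAlg

namespace Groth.Agent.S13787

/-- Let A be a nonzero commutative ring and n ≥ 1, let det be the determinant of the generic n × n
matrix in the polynomial ring A[X] in its n² entries, and let A[X, 1/det] be the localization at det
(the coordinate ring of GL_n over A). The homomorphism Aˣ × ℤ → (A[X, 1/det])ˣ sending (a, e) to a ·
det^e is injective. (The published statement takes the exponent in the group of locally constant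
ℤ-valued functions on Spec A, which also covers A = 0; with integer exponents as here, A must be
nonzero and n ≥ 1.) -/
theorem result (A : Type u) [CommRing A] [Nontrivial A] (n : ℕ) (hn : 0 < n) :
    Function.Injective (fun p : Aˣ × ℤ =>
        Units.map (algebraMap A (Localization.Away (Matrix.mvPolynomialX (Fin n) (Fin n) A).det)).toMonoidHom p.1 *
          (IsLocalization.Away.algebraMap_isUnit (S := Localization.Away (Matrix.mvPolynomialX (Fin n) (Fin n) A).det)
            (Matrix.mvPolynomialX (Fin n) (Fin n) A).det).unit ^ p.2) := by
  classical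
  open LaurentPolynomial in
  set M := Matrix.mvPolynomialX (Fin n) (Fin n) A
  let i0 : Fin n := ⟨0, hn⟩
  let ev : MvPolynomial (Fin n × Fin n) A →+* LaurentPolynomial A :=
    MvPolynomial.eval₂Hom LaurentPolynomial.C
      (fun p => if p.1 = p.2 then (if p.1 = i0 then LaurentPolynomial.T 1 else 1) else 0)
  have hev : M.map ev = Matrix.diagonal (fun i => if i = i0 then LaurentPolynomial.T 1 else 1) := by
    ext i j : 2
    simp [M, ev, Matrix.mvPolynomialX, Matrix.diagonal]
  have hdet : ev M.det = LaurentPolynomial.T 1 := by
    rw [RingHom.map_det, RingHom.mapMatrix_apply, hev, Matrix.det_diagonal, Finset.prod_ite_eq' Finset.univ i0]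
    simp
  let ψ : Localization.Away M.det →+* LaurentPolynomial A :=
    IsLocalization.Away.lift M.det (g := ev) (hdet ▸ LaurentPolynomial.isUnit_T 1)
  let t : (LaurentPolynomial A)ˣ :=
    ⟨LaurentPolynomial.T 1, LaurentPolynomial.T (-1), by rw [← LaurentPolynomial.T_add]; simp,
      by rw [← LaurentPolynomial.T_add]; simp⟩
  have htz : ∀ e : ℤ, ((t ^ e : (LaurentPolynomial A)ˣ) : LaurentPolynomial A) = LaurentPolynomial.T e := by
    intro e
    induction e with
    | zero => simp
    | succ i hi => rw [zpow_add_one, Units.val_mul, hi, LaurentPolynomial.T_add]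
    | pred i hi =>
      rw [zpow_sub_one, Units.val_mul, hi, LaurentPolynomial.T_sub]
      rfl
  have hu : Units.map ψ.toMonoidHom
      (IsLocalization.Away.algebraMap_isUnit (S := Localization.Away M.det) M.det).unit = t := by
    refine Units.ext ?_
    show ψ (algebraMap _ _ M.det) = LaurentPolynomial.T 1
    rw [IsLocalization.Away.lift_eq, hdet]
  have hkey : ∀ (a : Aˣ) (e : ℤ), ψ ((Units.map (algebraMap A (Localization.Away M.det)).toMonoidHom a *
      (IsLocalization.Away.algebraMap_isUnit (S := Localization.Away M.det) M.det).unit ^ e :
        (Localization.Away M.det)ˣ) : Localization.Away M.det) = .single e (a : A) := by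
    intro a e
    rw [Units.val_mul, map_mul, LaurentPolynomial.single_eq_C_mul_T]
    congr 1
    · show ψ (algebraMap A _ (a : A)) = _
      rw [IsScalarTower.algebraMap_apply A (MvPolynomial (Fin n × Fin n) A) (Localization.Away M.det),
        IsLocalization.Away.lift_eq, MvPolynomial.algebraMap_eq]
      simp [ev]
    · rw [← htz, ← hu, ← map_zpow]
      rfl
  rintro ⟨a, e⟩ ⟨b, f⟩ hab
  have h := congrArg (fun x : (Localization.Away M.det)ˣ => ψ (x : Localization.Away M.det)) hab
  simp only [hkey] at h
  have hcoef := congrArg (fun p => AddMonoidAlgebra.coeff p e) h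
  have hef : e = f := by
    by_contra hne
    simp [-LaurentPolynomial.single_eq_C_mul_T, AddMonoidAlgebra.coeff_single, Finsupp.single_apply, hne, Ne.symm hne, a.ne_zero, b.ne_zero] at hcoef
  subst hef
  simp [-LaurentPolynomial.single_eq_C_mul_T, AddMonoidAlgebra.coeff_single] at hcoef
  exact Prod.ext (Units.ext hcoef) rfl

end Groth.Agent.S13787
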