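import Groth.Statements.S13788
import Mathlib
import Groth.Agent.S6485

set_option autoImplicit false
universe u
open CAlg

namespace Groth.Agent.S13788

open MvPolynomial

variable {A : Type u} [CommRing A] {n : ℕ}

/-- The generic determinant. -/
noncomputable abbrev gdet (A : Type u) [CommRing A] (n : ℕ) : MvPolynomial (Fin n × Fin n) A :=
  (Matrix.mvPolynomialX (Fin n) (Fin n) A).det

/-- Evaluation at the diagonal matrix `diag(T, 1, …, 1)`. -/
noncomputable def diagEval {S : Type u} [CommRing S] [Algebra A S] (t : S) :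
    MvPolynomial (Fin n × Fin n) A →ₐ[A] S :=
  aeval fun v => if v.1 = v.2 then (if v.1.val = 0 then t else 1) else 0

theorem diagEval_det {S : Type u} [CommRing S] [Algebra A S] (t : S) (hn : 0 < n) :
    diagEval t (gdet A n) = t := by
  rw [AlgHom.map_det]
  have : (diagEval t).mapMatrix (Matrix.mvPolynomialX (Fin n) (Fin n) A) =
      Matrix.diagonal fun i : Fin n => if i.val = 0 then t else 1 := by
    ext i j
    by_cases h : i = j
    · subst h; simp [diagEval]
    · simp [diagEval, h]
  rw [this, Matrix.det_diagonal, Finset.prod_eq_single (⟨0, hn⟩ : Fin n)]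
  · simp
  · intro i _ hi
    rw [if_neg fun h => hi (Fin.ext h)]
  · simp

theorem map_gdet {B : Type u} [CommRing B] (φ : A →+* B) :
    MvPolynomial.map φ (gdet A n) = gdet B n := by
  rw [RingHom.map_det]
  congr 1
  ext i j
  simp

theorem diagEval_map {B : Type u} [CommRing B] (φ : A →+* B) (f : MvPolynomial (Fin n × Fin n) A) :
    (diagEval (S := Polynomial A) Polynomial.X f).map φ =
      diagEval (S := Polynomial B) Polynomial.X (MvPolynomial.map φ f) := by
  induction f using MvPolynomial.induction_on with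
  | C a => simp [diagEval]
  | add p q hp hq => simp only [map_add, Polynomial.map_add, hp, hq]
  | mul_X p v hp =>
    simp only [map_mul, Polynomial.map_mul, hp]
    congr 1
    simp only [diagEval, MvPolynomial.map_X, MvPolynomial.aeval_X]
    split_ifs <;> simp

theorem eq_mul_pow_of_dvd_field {k : Type u} [Field k] (hn : 0 < n) {f : MvPolynomial (Fin n × Fin n) k}
    {M : ℕ} (h : f ∣ gdet k n ^ M) : ∃ (c : k) (e : ℕ), c ≠ 0 ∧ f = C c * gdet k n ^ e := by
  have hp : Prime (gdet k n) :=
    UniqueFactorizationMonoid.irreducible_iff_prime.1 (Groth.Agent.S6485.result k n hn)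
  obtain ⟨e, -, hu⟩ := (dvd_prime_pow hp M).1 h
  obtain ⟨w, hw⟩ := hu.symm
  obtain ⟨c, hc, hc'⟩ := MvPolynomial.isUnit_iff_eq_C_of_isReduced.1 w.isUnit
  exact ⟨c, e, hc.ne_zero, by rw [← hw, hc', mul_comm]⟩

theorem eq_mul_pow_of_dvd (hn : 0 < n) [IsReduced A] (hconn : ∀ e : A, IsIdempotentElem e → e = 0 ∨ e = 1)
    [Nontrivial A] {f : MvPolynomial (Fin n × Fin n) A} {M : ℕ} (h : f ∣ gdet A n ^ M) :
    ∃ (a : A) (e : ℕ), IsUnit a ∧ f = C a * gdet A n ^ e := by
  let F := diagEval (S := Polynomial A) Polynomial.X f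
  have hfib : ∀ p : Ideal A, p.IsPrime → ∃ (c : FractionRing (A ⧸ p)) (e : ℕ), c ≠ 0 ∧
      MvPolynomial.map (algebraMap A (FractionRing (A ⧸ p))) f = C c * gdet _ n ^ e ∧
      F.map (algebraMap A (FractionRing (A ⧸ p))) = Polynomial.C c * Polynomial.X ^ e := fun p _ => by
    have h' := map_dvd (MvPolynomial.map (algebraMap A (FractionRing (A ⧸ p)))) h
    rw [map_pow, map_gdet] at h'
    obtain ⟨c, e, hc, he⟩ := eq_mul_pow_of_dvd_field hn h'
    refine ⟨c, e, hc, he, ?_⟩
    rw [diagEval_map, he, map_mul, map_pow, diagEval_det _ hn]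
    simp [diagEval]
  have hker : ∀ (p : Ideal A) [p.IsPrime] (x : A), algebraMap A (FractionRing (A ⧸ p)) x = 0 ↔ x ∈ p := fun p _ x => by
    rw [IsScalarTower.algebraMap_apply A (A ⧸ p), map_eq_zero_iff _ (IsFractionRing.injective _ _),
      Ideal.Quotient.algebraMap_eq, Ideal.Quotient.eq_zero_iff_mem]
  have hzero : ∀ x : A, (∀ p : Ideal A, p.IsPrime → x ∈ p) → x = 0 := fun x hx =>
    (nilpotent_iff_mem_prime.2 hx).eq_zero
  have horth : ∀ i j, i ≠ j → F.coeff i * F.coeff j = 0 := fun i j hij => hzero _ fun p hp => by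
    obtain ⟨c, e, -, -, hF⟩ := hfib p hp
    have := congrArg (fun q => Polynomial.coeff q i * Polynomial.coeff q j) hF
    simp only [Polynomial.coeff_map, Polynomial.coeff_C_mul, Polynomial.coeff_X_pow, ← map_mul] at this
    rw [← hker p, this]
    split_ifs <;> simp_all
  have hs : IsUnit (F.eval 1) := by
    by_contra hs
    obtain ⟨m, hm, hsm⟩ := exists_max_ideal_of_mem_nonunits (mem_nonunits_iff.2 hs)
    obtain ⟨c, e, hc, -, hF⟩ := hfib m hm.isPrime
    have := congrArg (Polynomial.eval (algebraMap A (FractionRing (A ⧸ m)) 1)) hF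
    rw [Polynomial.eval_map_algebraMap, Polynomial.aeval_algebraMap_apply, Polynomial.coe_aeval_eq_eval,
      (hker m _).2 hsm] at this
    simp [hc] at this
    exact hc this.symm
  have hsq : ∀ i, F.coeff i * F.eval 1 = F.coeff i * F.coeff i := fun i => by
    rw [Polynomial.eval_eq_sum_range' (Nat.lt_succ_of_le (le_max_left F.natDegree i)), Finset.mul_sum,
      Finset.sum_eq_single i]
    · rw [one_pow, mul_one]
    · intro j _ hj
      rw [one_pow, mul_one, horth i j hj.symm]
    · intro hi
      exact absurd (Finset.mem_range.2 (Nat.lt_succ_of_le (le_max_right F.natDegree i))) hi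
  obtain ⟨k, hk⟩ : ∃ k, F.coeff k ≠ 0 := by
    by_contra hall
    push Not at hall
    rw [show F = 0 from Polynomial.ext fun i => by simp [hall i], Polynomial.eval_zero] at hs
    exact not_isUnit_zero hs
  obtain ⟨u, hu⟩ := hs
  have hidem : IsIdempotentElem (F.coeff k * ↑u⁻¹) := by
    have h1 := hsq k
    rw [← hu] at h1
    show F.coeff k * ↑u⁻¹ * (F.coeff k * ↑u⁻¹) = F.coeff k * ↑u⁻¹
    rw [mul_mul_mul_comm, ← h1, mul_assoc, ← mul_assoc (u : A), Units.mul_inv, one_mul]
  have hak : F.coeff k = u := by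
    rcases hconn _ hidem with h0 | h1
    · exact absurd ((Units.mul_left_eq_zero _).1 h0) hk
    · exact (Units.mul_inv_eq_one).1 h1
  refine ⟨F.coeff k, k, hak ▸ u.isUnit, MvPolynomial.ext _ _ fun d => ?_⟩
  refine sub_eq_zero.1 (hzero _ fun p hp => ?_)
  obtain ⟨c, e, hc, he, hF⟩ := hfib p hp
  have hck := congrArg (fun q => Polynomial.coeff q k) hF
  simp only [Polynomial.coeff_map, Polynomial.coeff_C_mul, Polynomial.coeff_X_pow] at hck
  obtain rfl : k = e := by
    by_contra hne
    rw [if_neg hne, mul_zero, hker p, hak] at hck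
    exact hp.ne_top (Ideal.eq_top_of_isUnit_mem _ hck u.isUnit)
  rw [if_pos rfl, mul_one] at hck
  rw [← hker p, map_sub, ← coeff_map, ← coeff_map, he, map_mul, map_pow, map_gdet, MvPolynomial.map_C, hck,
    sub_self]


/-- Units of GL_n: let A be a nonzero commutative ring whose only idempotents are 0 and 1, let n ≥ 1,
let det be the determinant of the generic n × n matrix in the polynomial ring A[X] in its n²
entries, and let A[X, 1/det] be the coordinate ring of GL_n over A. The homomorphism Aˣ × ℤ → (A[X,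
1/det])ˣ, (a, e) ↦ a · det^e, is bijective if and only if A is reduced. (The published statement
allows Spec A disconnected, with exponents locally constant ℤ-valued functions on Spec A; this row
is the connected case, to which the published proof reduces.) -/
theorem result (A : Type u) [CommRing A] [Nontrivial A]
    (hconn : ∀ e : A, IsIdempotentElem e → e = 0 ∨ e = 1) (n : ℕ) (hn : 0 < n) :
    Function.Bijective (fun p : Aˣ × ℤ =>
        Units.map (algebraMap A (Localization.Away (Matrix.mvPolynomialX (Fin n) (Fin n) A).det)).toMonoidHom p.1 *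
          (IsLocalization.Away.algebraMap_isUnit (S := Localization.Away (Matrix.mvPolynomialX (Fin n) (Fin n) A).det)
            (Matrix.mvPolynomialX (Fin n) (Fin n) A).det).unit ^ p.2) ↔ IsReduced A := by
  classical
  let d := gdet A n
  let L := Localization.Away d
  let ι : MvPolynomial (Fin n × Fin n) A →+* L := algebraMap _ _
  let δ : Lˣ := (IsLocalization.Away.algebraMap_isUnit (S := L) d).unit
  let ψ : MvPolynomial (Fin n × Fin n) A →ₐ[A] LaurentPolynomial A := diagEval (LaurentPolynomial.T 1)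
  have hψd : IsUnit (ψ d) := by
    rw [show ψ d = _ from diagEval_det _ hn]; exact LaurentPolynomial.isUnit_T 1
  let Φ : L →+* LaurentPolynomial A := IsLocalization.Away.lift d (g := ψ.toRingHom) hψd
  have hΦι : ∀ f, Φ (ι f) = ψ f := fun f => IsLocalization.Away.lift_eq d hψd f
  let Ψ : Aˣ × ℤ → Lˣ := fun p => Units.map (algebraMap A L).toMonoidHom p.1 * δ ^ p.2
  show Function.Bijective Ψ ↔ IsReduced A
  let tT : (LaurentPolynomial A)ˣ := (LaurentPolynomial.isUnit_T 1).unit
  have hδ : Units.map Φ.toMonoidHom δ = tT := Units.ext <| by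
    show Φ (ι d) = LaurentPolynomial.T 1
    rw [hΦι]; exact diagEval_det _ hn
  have hΦa : ∀ a : A, Φ (algebraMap A L a) = LaurentPolynomial.C a := fun a => by
    rw [IsScalarTower.algebraMap_apply A (MvPolynomial (Fin n × Fin n) A) L, hΦι]
    exact ψ.commutes a
  have hT : ∀ e : ℤ, ((tT ^ e : (LaurentPolynomial A)ˣ) : LaurentPolynomial A) = LaurentPolynomial.T e := by
    intro e
    induction e using Int.induction_on with
    | zero => simp
    | succ i hi => rw [zpow_add_one, Units.val_mul, hi, LaurentPolynomial.T_add]; rfl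
    | pred i hi =>
      rw [zpow_sub_one, Units.val_mul, hi, sub_eq_add_neg, LaurentPolynomial.T_add]
      congr 1
      refine Units.inv_eq_of_mul_eq_one_right ?_
      show LaurentPolynomial.T 1 * _ = _
      rw [← LaurentPolynomial.T_add]; simp
  have hΨ : ∀ a e, Φ (Ψ (a, e) : L) = LaurentPolynomial.C (a : A) * LaurentPolynomial.T e := fun a e => by
    show Φ ((algebraMap A L) a * ((δ ^ e : Lˣ) : L)) = _
    rw [map_mul, hΦa, show Φ ((δ ^ e : Lˣ) : L) = ((Units.map Φ.toMonoidHom (δ ^ e) : (LaurentPolynomial A)ˣ) : LaurentPolynomial A) from rfl,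
      map_zpow, hδ, hT]
  have hcoeff : ∀ (a : A) (e j : ℤ),
      (LaurentPolynomial.C a * LaurentPolynomial.T e : LaurentPolynomial A).coeff j = if e = j then a else 0 :=
    fun a e j => by rw [← LaurentPolynomial.single_eq_C_mul_T]; exact Finsupp.single_apply
  constructor
  · intro hbij
    refine ⟨fun ε hε => ?_⟩
    have hu : IsUnit (1 + algebraMap A L ε * ι (X (⟨0, hn⟩, ⟨0, hn⟩))) :=
      IsNilpotent.isUnit_one_add ((Commute.all _ _).isNilpotent_mul_right (hε.map _))
    obtain ⟨⟨a, e⟩, hae⟩ := hbij.2 hu.unit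
    have h1 := congrArg (fun w : Lˣ => Φ (w : L)) hae
    simp only [IsUnit.unit_spec, map_add, map_one, map_mul, hΦa, hΦι, hΨ] at h1
    have h2 : ψ (X (⟨0, hn⟩, ⟨0, hn⟩)) = LaurentPolynomial.T 1 := by simp [ψ, diagEval]
    rw [h2] at h1
    have hone : (1 : LaurentPolynomial A) = LaurentPolynomial.C 1 * LaurentPolynomial.T 0 := by simp
    rw [hone] at h1
    have c0 := congrArg (fun w : LaurentPolynomial A => w.coeff 0) h1
    have c1 := congrArg (fun w : LaurentPolynomial A => w.coeff 1) h1
    simp only [AddMonoidAlgebra.coeff_add, Finsupp.add_apply, hcoeff] at c0 c1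
    by_cases he : e = 0
    · subst he; simpa using c1.symm
    · simp [he] at c0
  · intro _
    refine ⟨?_, fun u => ?_⟩
    · rintro ⟨a, e⟩ ⟨b, e'⟩ h
      have h1 := congrArg (fun w : Lˣ => Φ (w : L)) h
      simp only [hΨ] at h1
      have c := congrArg (fun w : LaurentPolynomial A => w.coeff e) h1
      simp only [hcoeff, if_true] at c
      by_cases he : e' = e
      · subst he
        rw [if_pos rfl] at c
        exact Prod.ext (Units.ext c) rfl
      · rw [if_neg he] at c
        exact absurd c a.ne_zero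
    · obtain ⟨N, f, hf⟩ := IsLocalization.Away.surj d (u : L)
      obtain ⟨M, g, hg⟩ := IsLocalization.Away.surj d ((u⁻¹ : Lˣ) : L)
      have hfg : ι (f * g) = ι (d ^ (N + M)) := by
        rw [map_mul, map_pow, ← hf, ← hg, pow_add, mul_mul_mul_comm, Units.mul_inv, one_mul]
      obtain ⟨⟨_, j, rfl⟩, hj⟩ := (IsLocalization.eq_iff_exists (Submonoid.powers d) L).1 hfg
      have hdvd : f ∣ gdet A n ^ (j + (N + M)) := ⟨d ^ j * g, by
        rw [pow_add, show gdet A n = d from rfl]
        linear_combination -hj⟩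
      obtain ⟨a, e, ha, hfa⟩ := eq_mul_pow_of_dvd hn hconn hdvd
      refine ⟨(ha.unit, (e : ℤ) - N), Units.ext ?_⟩
      have hδN : ((δ ^ N : Lˣ) : L) = ι d ^ N := by rw [Units.val_pow_eq_pow_val]; rfl
      refine ((δ ^ N).isUnit).mul_right_cancel ?_
      show algebraMap A L a * ((δ ^ ((e : ℤ) - N) : Lˣ) : L) * ((δ ^ N : Lˣ) : L) = _
      rw [mul_assoc, ← Units.val_mul, ← zpow_natCast δ N, ← zpow_add, sub_add_cancel, zpow_natCast, zpow_natCast,
        hδN, Units.val_pow_eq_pow_val, hf, show f = _ from hfa, map_mul, map_pow,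
        IsScalarTower.algebraMap_apply A (MvPolynomial (Fin n × Fin n) A) L]
      rfl

end Groth.Agent.S13788
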