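import Groth.Statements.S13789
import Mathlib.RingTheory.Localization.FractionRing
import Mathlib.Algebra.Algebra.Subalgebra.Basic

set_option autoImplicit false
universe u
open CAlg

namespace Groth.Agent.S13789

/-- Let A be a commutative ring with total ring of fractions Q and let B be a ring with A ⊆ B ⊆ Q. Then
the inclusion A ⊆ B carries nonzerodivisors of A to nonzerodivisors of B, and every nonzerodivisor
of B has the form r/u with r and u nonzerodivisors of A. -/
theorem result {A Q : Type u} [CommRing A] [CommRing Q] [Algebra A Q] [IsFractionRing A Q] (B : Subalgebra A Q) :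
    (∀ a : A, a ∈ nonZeroDivisors A → algebraMap A B a ∈ nonZeroDivisors B) ∧
    (∀ b : B, b ∈ nonZeroDivisors B → ∃ r u : A, r ∈ nonZeroDivisors A ∧ u ∈ nonZeroDivisors A ∧
      (b : Q) * algebraMap A Q u = algebraMap A Q r) := by
  have hinj : Function.Injective (algebraMap A Q) := IsFractionRing.injective A Q
  refine ⟨fun a ha => ?_, ?_⟩
  · rw [mem_nonZeroDivisors_iff_right]
    intro c hc
    apply Subtype.ext
    apply (IsLocalization.map_units Q (⟨a, ha⟩ : nonZeroDivisors A)).mul_left_eq_zero.1
    exact congrArg (fun z : B => (z : Q)) hc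
  · intro b hb
    obtain ⟨⟨a, s⟩, hs⟩ := IsLocalization.surj (nonZeroDivisors A) (b : Q)
    refine ⟨a, s, ?_, s.2, hs⟩
    rw [mem_nonZeroDivisors_iff_right]
    intro c hc
    have h1 : algebraMap A Q c * ((b : Q) * algebraMap A Q (s : A)) = 0 := by
      rw [hs, ← map_mul, hc, map_zero]
    have h2 : algebraMap A B c * b = 0 := by
      apply Subtype.ext
      apply (IsLocalization.map_units Q s).mul_left_eq_zero.1
      simpa [mul_assoc] using h1
    have h3 := (mem_nonZeroDivisors_iff_right.1 hb) _ h2
    exact hinj (by rw [map_zero]; exact congrArg (fun z : B => (z : Q)) h3)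

end Groth.Agent.S13789
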