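import Groth.Statements.S13790
import Mathlib.RingTheory.Localization.FractionRing
import Mathlib.Algebra.Algebra.Subalgebra.Basic

set_option autoImplicit false
universe u
open CAlg

namespace Groth.Agent.S13790

/-- Let A be a commutative ring with total ring of fractions Q and let B be a ring with A ⊆ B ⊆ Q. Then
Q, with the inclusion B ⊆ Q, is the total ring of fractions of B. -/
theorem result {A Q : Type u} [CommRing A] [CommRing Q] [Algebra A Q] [IsFractionRing A Q] (B : Subalgebra A Q) :
    IsFractionRing B Q := by
  have hinj : Function.Injective (algebraMap A Q) := IsFractionRing.injective A Q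
  refine (isLocalization_iff _ _).2 ⟨?_, ?_, ?_⟩
  · rintro ⟨b, hb⟩
    obtain ⟨⟨a, s⟩, hs⟩ := IsLocalization.surj (nonZeroDivisors A) (b : Q)
    have ha : a ∈ nonZeroDivisors A := by
      rw [mem_nonZeroDivisors_iff_right]
      intro c hc
      have h1 : algebraMap A Q c * ((b : Q) * algebraMap A Q (s : A)) = 0 := by
        rw [hs, ← map_mul, hc, map_zero]
      have h2 : algebraMap A B c * b = 0 := by
        apply Subtype.ext
        apply (IsLocalization.map_units Q s).mul_left_eq_zero.1
        simpa [mul_assoc] using h1
      have h3 := (mem_nonZeroDivisors_iff_right.1 hb) _ h2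
      exact hinj (by rw [map_zero]; exact congrArg (fun z : B => (z : Q)) h3)
    have h4 : IsUnit ((b : Q) * algebraMap A Q (s : A)) :=
      hs ▸ IsLocalization.map_units Q ⟨a, ha⟩
    exact (IsUnit.mul_iff.1 h4).1
  · intro z
    obtain ⟨⟨a, s⟩, hs⟩ := IsLocalization.surj (nonZeroDivisors A) z
    refine ⟨(algebraMap A B a, ⟨algebraMap A B (s : A), ?_⟩), hs⟩
    rw [mem_nonZeroDivisors_iff_right]
    intro c hc
    apply Subtype.ext
    apply (IsLocalization.map_units Q s).mul_left_eq_zero.1
    exact congrArg (fun z : B => (z : Q)) hc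
  · intro x y h
    exact ⟨1, by rw [Subtype.ext h]⟩

end Groth.Agent.S13790
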