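import Groth.Statements.S13791
import Mathlib.CategoryTheory.Sites.PreservesSheafification
import Mathlib.CategoryTheory.Sites.ConstantSheaf
import Mathlib.Algebra.Category.Grp.Adjunctions
import Mathlib.CategoryTheory.Sites.LeftExact
import Mathlib.Algebra.Homology.DerivedCategory.Ext.ExactSequences
import Mathlib.Algebra.Category.Grp.EpiMono
import Mathlib.Algebra.Homology.ShortComplex.Ab
-- import your own Groth.Agent.* helpers here

set_option autoImplicit false
universe u
open CategoryTheory
open CohSite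

namespace Groth.Agent.S13791
open CategoryTheory CategoryTheory.Limits
theorem preservesFiniteLimits_const {C : Type u} [SmallCategory C] (J : GrothendieckTopology C) :
    PreservesFiniteLimits (constantSheaf J AddCommGrpCat.{u}) :=
  comp_preservesFiniteLimits (Functor.const Cᵒᵖ) (presheafToSheaf J AddCommGrpCat.{u})

theorem preservesFiniteColimits_const {C : Type u} [SmallCategory C] (J : GrothendieckTopology C) :
    PreservesFiniteColimits (constantSheaf J AddCommGrpCat.{u}) :=
  haveI := (sheafificationAdjunction J AddCommGrpCat.{u}).isLeftAdjoint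
  comp_preservesFiniteColimits (Functor.const Cᵒᵖ) (presheafToSheaf J AddCommGrpCat.{u})

theorem exists_section {C : Type u} [SmallCategory C] (J : GrothendieckTopology C)
    {B Q : Type u} [AddCommGroup B] [AddCommGroup Q] (p : B →+ Q) (hp : Function.Surjective p) :
    ∃ τ : ((constantSheaf J AddCommGrpCat.{u}).obj (AddCommGrpCat.of Q)).obj ⋙ forget AddCommGrpCat.{u} ⟶
        ((constantSheaf J AddCommGrpCat.{u}).obj (AddCommGrpCat.of B)).obj ⋙ forget AddCommGrpCat.{u},
      τ ≫ Functor.whiskerRight ((constantSheaf J AddCommGrpCat.{u}).map (AddCommGrpCat.ofHom p)).hom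
        (forget AddCommGrpCat.{u}) = 𝟙 _ := by
  let ι := fun (M : AddCommGrpCat.{u}) =>
    Functor.whiskerRight (toSheafify J ((Functor.const Cᵒᵖ).obj M)) (forget AddCommGrpCat.{u})
  have hι : ∀ M, J.W (ι M) := fun M =>
    J.W_of_preservesSheafification _ _ (J.W_toSheafify _)
  have hsh : ∀ M, Presheaf.IsSheaf J (((constantSheaf J AddCommGrpCat.{u}).obj M).obj ⋙ forget AddCommGrpCat.{u}) :=
    fun M => ((sheafCompose J (forget AddCommGrpCat.{u})).obj ((constantSheaf J AddCommGrpCat.{u}).obj M)).property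
  let cs : (Functor.const Cᵒᵖ).obj (AddCommGrpCat.of Q) ⋙ forget AddCommGrpCat.{u} ⟶
      (Functor.const Cᵒᵖ).obj (AddCommGrpCat.of B) ⋙ forget AddCommGrpCat.{u} :=
    { app := fun U => TypeCat.ofHom (fun q => Function.surjInv hp q)
      naturality := fun U V h => by ext q; rfl }
  obtain ⟨τ, hτ⟩ := (hι _ _ (hsh (AddCommGrpCat.of B))).2 (cs ≫ ι (AddCommGrpCat.of B))
  refine ⟨τ, (hι _ _ (hsh (AddCommGrpCat.of Q))).1 ?_⟩
  have hn : ι (AddCommGrpCat.of B) ≫ Functor.whiskerRight ((constantSheaf J AddCommGrpCat.{u}).map (AddCommGrpCat.ofHom p)).hom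
      (forget AddCommGrpCat.{u}) =
      Functor.whiskerRight ((Functor.const Cᵒᵖ).map (AddCommGrpCat.ofHom p)) (forget AddCommGrpCat.{u}) ≫
        ι (AddCommGrpCat.of Q) := by
    simp only [ι, ← Functor.whiskerRight_comp]
    exact congrArg (fun t => Functor.whiskerRight t (forget AddCommGrpCat.{u}))
      (toSheafify_naturality J ((Functor.const Cᵒᵖ).map (AddCommGrpCat.ofHom p))).symm
  show ι _ ≫ τ ≫ _ = ι _ ≫ 𝟙 _
  refine (Category.assoc _ _ _).symm.trans ?_
  refine (congrArg (fun t => t ≫ _) hτ).trans ?_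
  refine (Category.assoc _ _ _).trans ?_
  refine (congrArg (fun t => cs ≫ t) hn).trans ?_
  refine (Category.assoc _ _ _).symm.trans ?_
  refine Eq.trans ?_ (Category.comp_id _).symm
  refine Eq.trans (congrArg (fun t => t ≫ ι (AddCommGrpCat.of Q)) ?_) (Category.id_comp _)
  ext U q
  exact Function.surjInv_eq hp q

theorem lift_hom {C : Type u} [SmallCategory C] (J : GrothendieckTopology C)
    {B Q : Type u} [AddCommGroup B] [AddCommGroup Q] (p : B →+ Q) (hp : Function.Surjective p)
    (φ : (constantSheaf J AddCommGrpCat.{u}).obj (AddCommGrpCat.of (ULift.{u} ℤ)) ⟶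
      (constantSheaf J AddCommGrpCat.{u}).obj (AddCommGrpCat.of Q)) :
    ∃ φ' : (constantSheaf J AddCommGrpCat.{u}).obj (AddCommGrpCat.of (ULift.{u} ℤ)) ⟶
      (constantSheaf J AddCommGrpCat.{u}).obj (AddCommGrpCat.of B),
      φ' ≫ (constantSheaf J AddCommGrpCat.{u}).map (AddCommGrpCat.ofHom p) = φ := by
  obtain ⟨τ, hτ⟩ := exists_section J p hp
  let Z := (Functor.const Cᵒᵖ).obj (AddCommGrpCat.of (ULift.{u} ℤ))
  let ψ : Z ⟶ ((constantSheaf J AddCommGrpCat.{u}).obj (AddCommGrpCat.of Q)).obj :=
    toSheafify J Z ≫ φ.hom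
  let x : ∀ U, ((constantSheaf J AddCommGrpCat.{u}).obj (AddCommGrpCat.of B)).obj.obj U :=
    fun U => τ.app U (ψ.app U (ULift.up 1))
  have hx : ∀ {U V} (h : U ⟶ V), ((constantSheaf J AddCommGrpCat.{u}).obj (AddCommGrpCat.of B)).obj.map h (x U) = x V := by
    intro U V h
    refine (NatTrans.naturality_apply τ h _).symm.trans ?_
    exact congrArg (τ.app V) (NatTrans.naturality_apply ψ h (ULift.up 1)).symm
  let ψ' : Z ⟶ ((constantSheaf J AddCommGrpCat.{u}).obj (AddCommGrpCat.of B)).obj :=
    { app := fun U => AddCommGrpCat.ofHom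
        ((zmultiplesHom _ (x U)).comp AddEquiv.ulift.toAddMonoidHom)
      naturality := fun U V h => by
        ext n
        exact ((map_zsmul _ _ _).trans (congrArg (fun t => n.down • t) (hx h))).symm }
  let adj := sheafificationAdjunction J AddCommGrpCat.{u}
  refine ⟨(adj.homEquiv _ _).symm ψ', (adj.homEquiv Z _).injective ?_⟩
  refine (Adjunction.homEquiv_naturality_right adj _ _).trans ?_
  refine (congrArg (fun t => t ≫ _) (Equiv.apply_symm_apply (adj.homEquiv _ _) ψ')).trans ?_
  refine Eq.trans ?_ (Adjunction.homEquiv_unit adj Z _ φ).symm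
  ext U n
  show ((constantSheaf J AddCommGrpCat.{u}).map (AddCommGrpCat.ofHom p)).hom.app U (n.down • x U) = ψ.app U n
  refine (map_zsmul _ _ _).trans ?_
  refine (congrArg (fun t => n.down • t)
    (ConcreteCategory.congr_hom (NatTrans.congr_app hτ U) (ψ.app U (ULift.up 1)))).trans ?_
  refine (map_zsmul (ψ.app U).hom _ _).symm.trans (congrArg _ ?_)
  exact ULift.ext _ _ (show n.down • (1:ℤ) = n.down from zsmul_one _)


/-- On a site, for a short exact sequence 0 → A → B → C → 0 of abelian groups the map H¹(A) → H¹(B) on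
the first cohomology of the associated constant sheaves is injective. Stated for an injective
homomorphism f : A → B (C being its cokernel), with H¹ the Ext-based sheaf cohomology of the site. -/
theorem result {C : Type u} [SmallCategory C] (J : GrothendieckTopology C)
    {A B : Type u} [AddCommGroup A] [AddCommGroup B] (f : A →+ B) (hf : Function.Injective f) :
    Function.Injective
      (Sheaf.H.map ((constantSheaf J AddCommGrpCat.{u}).map (AddCommGrpCat.ofHom f)) 1) := by
  classical
  let S : ShortComplex AddCommGrpCat.{u} := ShortComplex.mk (AddCommGrpCat.ofHom f)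
    (AddCommGrpCat.ofHom (QuotientAddGroup.mk' f.range)) (by
      ext a; exact (QuotientAddGroup.eq_zero_iff _).2 ⟨a, rfl⟩)
  have hS : S.ShortExact := by
    haveI : Mono S.f := (AddCommGrpCat.mono_iff_injective _).2 hf
    haveI : Epi S.g := (AddCommGrpCat.epi_iff_surjective _).2 QuotientAddGroup.mk_surjective
    refine ⟨(ShortComplex.ab_exact_iff S).2 fun b hb => ?_⟩
    exact (QuotientAddGroup.eq_zero_iff b).1 hb
  haveI := preservesFiniteLimits_const J
  haveI := preservesFiniteColimits_const J
  have hT : (S.map (constantSheaf J AddCommGrpCat.{u})).ShortExact :=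
    hS.map_of_exact _
  haveI : HasExt.{u} (Sheaf J AddCommGrpCat.{u}) := inferInstance
  intro a b hab
  rw [← sub_eq_zero]
  obtain ⟨y, hy⟩ := Abelian.Ext.covariant_sequence_exact₁ _ hT (a - b) (by
    change Sheaf.H.map _ 1 (a - b) = 0
    rw [map_sub]
    exact sub_eq_zero.2 hab) (zero_add 1)
  obtain ⟨φ, rfl⟩ := (Abelian.Ext.mk₀_bijective _ _).2 y
  obtain ⟨φ', rfl⟩ := lift_hom J (QuotientAddGroup.mk' f.range) QuotientAddGroup.mk_surjective φ
  refine hy.symm.trans ?_
  refine (congrArg (fun t => Abelian.Ext.comp t hT.extClass (zero_add 1))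
    (Abelian.Ext.mk₀_comp_mk₀ φ' ((constantSheaf J AddCommGrpCat.{u}).map S.g)).symm).trans ?_
  refine (Abelian.Ext.comp_assoc _ _ _ (zero_add 0) (zero_add 1) (by omega)).trans ?_
  have hz : (Abelian.Ext.mk₀ (S.map (constantSheaf J AddCommGrpCat.{u})).g).comp hT.extClass (zero_add 1) = 0 :=
    hT.comp_extClass
  erw [hz]
  exact (Abelian.Ext.mk₀ φ').comp_zero _ _ _ _

end Groth.Agent.S13791
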