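import Groth.Statements.S13792
import Groth.Agent.Lib.CurvePoints.Basic
import Mathlib.AlgebraicGeometry.Morphisms.QuasiFinite
import Mathlib.AlgebraicGeometry.Morphisms.ClosedImmersion
import Mathlib.AlgebraicGeometry.Artinian

set_option autoImplicit false
universe u
open CategoryTheory AlgebraicGeometry
open Curves

namespace Groth.Agent.S13792

/-- Let k be a field and E an integral k-scheme of finite type whose underlying space has dimension 1,
and let ι : G → E be a closed immersion. Then either ι is an isomorphism or G is finite over k. (The
published statement is about a closed subgroup scheme of an elliptic curve and its proof states this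
fact for E geometrically integral; this row assumes only that E is integral.) -/
theorem result {k : Type u} [Field k]
    {E G : Scheme.{u}} (f : E ⟶ Spec (CommRingCat.of k)) [LocallyOfFiniteType f] [QuasiCompact f]
    [IsIntegral E] (hdim : topologicalKrullDim ↥E = 1) (ι : G ⟶ E) [IsClosedImmersion ι] :
    IsIso ι ∨ IsFinite (ι ≫ f) := by
  haveI : IsLocallyNoetherian E := LocallyOfFiniteType.isLocallyNoetherian f
  haveI : CompactSpace E := QuasiCompact.compactSpace_of_compactSpace f
  haveI : IsNoetherian E := {}
  by_cases hη : genericPoint E ∈ Set.range ι
  · left
    haveI : Surjective ι := ⟨fun y => by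
      have hc : IsClosed (Set.range ι) := ι.isClosedEmbedding.isClosed_range
      have h := hc.closure_subset_iff.mpr (Set.singleton_subset_iff.mpr hη)
      rw [genericPoint_spec E |>.def] at h
      exact h (Set.mem_univ y)⟩
    exact isIso_of_isClosedImmersion_of_surjective ι
  · right
    have hfin : (Set.range ι).Finite :=
      GrothLib.CurvePoints.finite_of_isClosed hdim.le ι.isClosedEmbedding.isClosed_range hη
    haveI : Finite G := by
      haveI := hfin.to_subtype
      exact Finite.of_injective (Set.rangeFactorization ι) fun a b h =>
        ι.isClosedEmbedding.injective (congrArg Subtype.val h)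
    haveI : LocallyQuasiFinite (ι ≫ f) :=
      (locallyQuasiFinite_iff_finite_preimage_singleton (f := ι ≫ f)).mpr fun x => Set.toFinite _
    exact IsFinite.of_locallyQuasiFinite (ι ≫ f)

end Groth.Agent.S13792
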